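import Mathlib
import Groth.Prelude.Def_DerCA
import Groth.Prelude.Def_DRing3
import Groth.Prelude.Def_DRing4
import Groth.Prelude.Def_Wider
import Groth.Agent.Lib.Helper10RGamA
import Groth.Agent.Lib.Helper10RGamG
import Groth.Agent.Lib.Helper10DualCx
import Groth.Agent.Lib.Helper5RelDualA
import Groth.Agent.Lib.Helper5HomCxQis
import Groth.Agent.Lib.Helper29FinExtD

/-! Bridge (helper29): for a perfect complex `K ≅ P` over a Noetherian ring,
`colim_k Hom(R/I^k, K[i]) ≃ Hom_{D(R)}(P^∨, RΓ_I(R)[i])`, via the K-injective model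
`Hom•(P^∨, J)` of `K` and `Γ_I Hom•(P^∨, J) ≅ Hom•(P^∨, Γ_I J)`. -/

set_option autoImplicit false
set_option linter.style.haveILetI false
set_option linter.unusedSectionVars false
universe u
open CategoryTheory CategoryTheory.Limits
open CochainComplex HomComplex

attribute [local instance] HasDerivedCategory.standard

namespace Groth.Agent.Lib.Helper29.FinExtE

open Groth.Agent.Lib.Helper10.RGamA DerivedCategory
open scoped TensorProduct

variable {R : Type u} [CommRing R]

/-- `Hom(flat, injective)` is injective -/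
theorem injective_linearMap (M E : Type u) [AddCommGroup M] [Module R M] [Module.Flat R M]
    [AddCommGroup E] [Module R E] [Module.Injective R E] : Module.Injective R (M →ₗ[R] E) := by
  constructor
  intro X Y _ _ _ _ f hf g
  let g' : X ⊗[R] M →ₗ[R] E := TensorProduct.lift g
  have hf' : Function.Injective (f.rTensor M) :=
    Module.Flat.rTensor_preserves_injective_linearMap f hf
  obtain ⟨h', hh'⟩ := Module.Injective.extension_property R E _ _ (f.rTensor M) hf' g'
  refine ⟨TensorProduct.curry h', fun x => ?_⟩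
  ext m
  have := LinearMap.congr_fun hh' (x ⊗ₜ m)
  simpa [g'] using this

/-- cochains of degree `m` as a product of `Hom` modules -/
noncomputable def cochainEquivPi (D L : DRing.Cx R) (m : ℤ) :
    Cochain D L m ≃ₗ[R] (∀ p : ℤ, (D.X p →ₗ[R] L.X (p + m))) where
  toFun c p := (c.v p (p + m) rfl).hom
  invFun f := Cochain.mk fun p q hpq =>
    ModuleCat.ofHom (f p) ≫ (HomologicalComplex.XIsoOfEq L hpq).hom
  left_inv c := by
    ext p q hpq
    subst hpq
    simp [HomologicalComplex.XIsoOfEq]
  right_inv f := by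
    ext p x
    simp [HomologicalComplex.XIsoOfEq]
  map_add' c c' := by
    ext p x
    simp
  map_smul' a c := by
    ext p x
    simp

theorem injective_cochain (D L : DRing.Cx R) (hD : ∀ p, Module.Flat R (D.X p)) (hL : TI L)
    (m : ℤ) : Module.Injective R (Cochain D L m) := by
  haveI : ∀ p : ℤ, Module.Injective R (D.X p →ₗ[R] L.X (p + m)) := fun p => by
    haveI := hD p
    haveI := hL (p + m)
    exact injective_linearMap _ _
  have h : Module.Injective R (∀ p : ℤ, (D.X p →ₗ[R] L.X (p + m))) := inferInstance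
  exact Module.Baer.injective
    (Module.Baer.of_equiv (cochainEquivPi D L m).symm (Module.Baer.of_injective h))

/-- `Hom•(D, L)` is bounded below for `D` bounded above and `L` bounded below. -/
theorem isStrictlyGE_homCx (D L : DRing.Cx R) (b c : ℤ) (hD : ∀ p, b < p → IsZero (D.X p))
    [L.IsStrictlyGE c] : (DRing.homCx D L).IsStrictlyGE (c - b) := by
  rw [CochainComplex.isStrictlyGE_iff]
  intro i hi
  haveI : Subsingleton ((DRing.homCx D L).X i) := by
    refine ⟨fun (x y : Cochain D L i) => ?_⟩
    apply Cochain.ext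
    intro p q hpq
    by_cases hp : b < p
    · exact (hD p hp).eq_of_src _ _
    · exact (L.isZero_of_isStrictlyGE c q (by omega)).eq_of_tgt _ _
  exact ModuleCat.isZero_of_subsingleton _

/-- `Hom•(D, L)` is K-injective for `D` a bounded above complex of flat modules and `L` a bounded
below complex of injective modules. -/
theorem isKInjective_homCx (D L : DRing.Cx R) (b c : ℤ) (hD : ∀ p, b < p → IsZero (D.X p))
    (hflat : ∀ p, Module.Flat R (D.X p)) [L.IsStrictlyGE c] (hL : TI L) :
    (DRing.homCx D L).IsKInjective := by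
  haveI := isStrictlyGE_homCx D L b c hD
  haveI : ∀ n, Injective ((DRing.homCx D L).X n) := fun n => by
    haveI := injective_cochain D L hflat hL n
    exact Module.injective_object_of_injective_module (R := R) (M := Cochain D L n)
  exact CochainComplex.isKInjective_of_injective _ (c - b)

theorem TI_homCx (D L : DRing.Cx R) (hflat : ∀ p, Module.Flat R (D.X p)) (hL : TI L) :
    TI (DRing.homCx D L) := fun n => injective_cochain D L hflat hL n

section Gamma

variable (I : Ideal R) (D L : DRing.Cx R)

lemma postcompLin_v (m : ℤ) (c : Cochain D ((G I).obj L) m) (p q : ℤ) (hpq : p + m = q) :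
    (DRing.postcompLin D (ιC I L) m c).v p q hpq = c.v p q hpq ≫ (ιC I L).f q := by
  change (c.comp (Cochain.ofHom (ιC I L)) (add_zero m)).v p q hpq = _
  rw [Cochain.comp_zero_cochain_v, Cochain.ofHom_v]

/-- postcomposition with `Γ_I L ⟶ L` lands in the torsion part, for `D` bounded with finite
terms -/
lemma postcomp_mem_torsionSub (a b : ℤ) (hD : DRing.VanishesOutside D a b)
    (hfin : ∀ p, Module.Finite R (D.X p)) (m : ℤ) (c : Cochain D ((G I).obj L) m) :
    DRing.postcompLin D (ιC I L) m c ∈ DRing.torsionSub I (Cochain D L m) := by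
  have h1 : ∀ p : ℤ, ∃ k : ℕ, ∀ (r : R) (x : D.X p), r ∈ I ^ k →
      r • (c.v p (p + m) rfl).hom x = 0 := fun p => by
    haveI := hfin p
    exact FinExtD.exists_pow_kill I (E := D.X p) (M := L.X (p + m)) (c.v p (p + m) rfl).hom
  choose k hk using h1
  refine ⟨(Finset.Icc a b).sup k, fun r hr => ?_⟩
  apply Cochain.ext
  intro p q hpq
  subst hpq
  by_cases hp : p < a ∨ b < p
  · exact (hD p hp).eq_of_src _ _
  · rw [Cochain.smul_v, postcompLin_v, Cochain.zero_v]
    have hp' : p ∈ Finset.Icc a b := by rw [Finset.mem_Icc]; omega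
    have hr' : r ∈ I ^ (k p) := Ideal.pow_le_pow_right (Finset.le_sup hp') hr
    ext x
    have := hk p r x hr'
    change r • ((ιC I L).f (p + m)) ((c.v p (p + m) rfl).hom x) = 0
    rw [← map_smul]
    exact (congrArg ((ιC I L).f (p + m)) this).trans (map_zero _)

/-- the comparison `Hom•(D, Γ_I L)^m → Γ_I (Hom•(D, L)^m)` -/
noncomputable def gammaHomF (a b : ℤ) (hD : DRing.VanishesOutside D a b)
    (hfin : ∀ p, Module.Finite R (D.X p)) (m : ℤ) :
    (DRing.homCx D ((G I).obj L)).X m ⟶ ((G I).obj (DRing.homCx D L)).X m :=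
  ModuleCat.ofHom (LinearMap.codRestrict (DRing.torsionSub I ((DRing.homCx D L).X m))
    ((DRing.homCxMap D (ιC I L)).f m).hom (postcomp_mem_torsionSub I D L a b hD hfin m))

lemma gammaHomF_ι (a b : ℤ) (hD : DRing.VanishesOutside D a b)
    (hfin : ∀ p, Module.Finite R (D.X p)) (m : ℤ) :
    gammaHomF I D L a b hD hfin m ≫ (ιC I (DRing.homCx D L)).f m =
      (DRing.homCxMap D (ιC I L)).f m := by
  ext x
  rfl

lemma gammaHomF_bijective (a b : ℤ) (hD : DRing.VanishesOutside D a b)
    (hfin : ∀ p, Module.Finite R (D.X p)) (m : ℤ) :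
    Function.Bijective (gammaHomF I D L a b hD hfin m) := by
  constructor
  · intro (c : Cochain D ((G I).obj L) m) (c' : Cochain D ((G I).obj L) m) h
    have h' : DRing.postcompLin D (ιC I L) m c = DRing.postcompLin D (ιC I L) m c' :=
      congrArg Subtype.val h
    change c = c'
    apply Cochain.ext
    intro p q hpq
    have h2 := congrArg (fun z : Cochain D L m => z.v p q hpq) h'
    simp only [postcompLin_v] at h2
    exact (cancel_mono ((ιC I L).f q)).1 h2
  · rintro ⟨c₀, k, hk₀⟩
    obtain ⟨c', hc'⟩ : ∃ c'' : Cochain D L m, c'' = c₀ := ⟨c₀, rfl⟩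
    have hk : ∀ r ∈ I ^ k, (r • c' : Cochain D L m) = 0 := by
      intro r hr
      rw [hc']
      exact hk₀ r hr
    have hmem : ∀ (p q : ℤ) (hpq : p + m = q) (x : D.X p),
        (c'.v p q hpq).hom x ∈ DRing.torsionSub I (L.X q) := by
      intro p q hpq x
      refine ⟨k, fun r hr => ?_⟩
      have h1 : (r • c').v p q hpq = 0 := by
        rw [hk r hr, Cochain.zero_v]
      rw [Cochain.smul_v] at h1
      exact congrArg (fun f => f.hom x) h1
    let c : Cochain D ((G I).obj L) m := Cochain.mk fun p q hpq =>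
      ModuleCat.ofHom (LinearMap.codRestrict (DRing.torsionSub I (L.X q))
        (c'.v p q hpq).hom (hmem p q hpq))
    refine ⟨c, Subtype.ext ?_⟩
    change DRing.postcompLin D (ιC I L) m c = c₀
    rw [← hc']
    apply Cochain.ext
    intro p q hpq
    rw [postcompLin_v]
    ext x
    rfl

/-- the comparison `Hom•(D, Γ_I L) ⟶ Γ_I Hom•(D, L)` -/
noncomputable def gammaHom (a b : ℤ) (hD : DRing.VanishesOutside D a b)
    (hfin : ∀ p, Module.Finite R (D.X p)) :
    DRing.homCx D ((G I).obj L) ⟶ (G I).obj (DRing.homCx D L) where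
  f m := gammaHomF I D L a b hD hfin m
  comm' i j _ := by
    rw [← cancel_mono ((ιC I (DRing.homCx D L)).f j), Category.assoc, Category.assoc,
      gammaHomF_ι, ← (ιC I (DRing.homCx D L)).comm, reassoc_of% (gammaHomF_ι I D L a b hD hfin i)]
    exact (DRing.homCxMap D (ιC I L)).comm i j

instance (a b : ℤ) (hD : DRing.VanishesOutside D a b) (hfin : ∀ p, Module.Finite R (D.X p)) :
    IsIso (gammaHom I D L a b hD hfin) := by
  haveI : ∀ n, IsIso ((gammaHom I D L a b hD hfin).f n) := fun n =>
    (ConcreteCategory.isIso_iff_bijective _).2 (gammaHomF_bijective I D L a b hD hfin n)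
  exact HomologicalComplex.Hom.isIso_of_components _

end Gamma

open Groth.Agent.Lib.Helper10.DualCx in
/-- **Bridge**: for a perfect complex `K ≅ P`, `H^i_I(K) = colim_k Hom(R/I^k, K[i])` is
`Hom_{D(R)}(P^∨, RΓ_I(R)[i])`; in particular finiteness of the latter gives finiteness of the
former. -/
theorem finite_HDI_of_perfect [IsNoetherianRing R] (I : Ideal R)
    (P : DRing.Cx R) (a b : ℤ) (hP : DRing.VanishesOutside P a b)
    (hfp : DRing.TermwiseFiniteProjective P)
    (Jc : DRing.Cx R) [Jc.IsStrictlyGE 0] (hJ : TI Jc) (η : S R ⟶ Jc) [QuasiIso η]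
    (K : Dual.D R) (e : Q.obj P ≅ K) (i : ℤ)
    (hfin : Module.Finite R (Q.obj (D P) ⟶ (Q.obj ((G I).obj Jc))⟦i⟧)) :
    Module.Finite R (Dual2.HDI R I K i) := by
  have hD : DRing.VanishesOutside (D P) (-b) (-a) := vanishesOutside_D P a b hP
  have hDfp : DRing.TermwiseFiniteProjective (D P) := termwiseFiniteProjective_D P hfp
  haveI : (D P).IsKProjective :=
    isKProjective_of_vanishesOutside (D P) (-b) (-a) hD (fun i => (hDfp i).2)
  haveI : (DRing.homCx (D P) Jc).IsKInjective :=
    isKInjective_homCx (D P) Jc (-a) 0 (fun p hp => hD p (Or.inr hp))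
      (fun p => by haveI := (hDfp p).2; infer_instance) hJ
  haveI : QuasiIso (DRing.homCxMap (D P) η) :=
    Groth.Agent.Lib.Helper5.HomCxQis.quasiIso_homCxMap (D P) η
  haveI : IsIso (bd P) := isIso_bd P hfp
  let e' : K ≅ Q.obj (DRing.homCx (D P) Jc) :=
    e.symm ≪≫ Q.mapIso (asIso (bd P)) ≪≫ asIso (Q.map (DRing.homCxMap (D P) η))
  obtain ⟨E1⟩ := Groth.Agent.Lib.Helper10.RGamG.mainQ I (DRing.homCx (D P) Jc) e' i
  let E2 : ((G I).obj (DRing.homCx (D P) Jc)).homology i ≃ₗ[R]
      (DRing.homCx (D P) ((G I).obj Jc)).homology i :=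
    ((HomologicalComplex.homologyFunctor _ _ i).mapIso
      (asIso (gammaHom I (D P) Jc (-b) (-a) hD (fun p => (hDfp p).1))).symm).toLinearEquiv
  let E3 := Groth.Agent.Lib.Helper5.RelDual.homEquivHomology (D P) ((G I).obj Jc) i
  haveI := hfin
  exact Module.Finite.equiv (E1.trans (E2.trans E3)).symm

end Groth.Agent.Lib.Helper29.FinExtE
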