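import Mathlib
import Groth.Agent.S2931
import Groth.Agent.S5172
import Groth.Agent.S11648
import Groth.Agent.Lib.Helper8FinLen
import Groth.Agent.Lib.Helper8LocDualK
import Groth.Agent.Lib.Helper29AdjDepthSurj

/-! Translation of the stalk-vanishing hypothesis of S2929 into a height condition on the supports
of `Ext^q_R(M, R)` over the regular ring `R` (helper29). -/

set_option autoImplicit false
set_option linter.style.haveILetI false
set_option linter.unusedSectionVars false
set_option linter.overlappingInstances false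
universe u
open CategoryTheory IsLocalRing

namespace Groth.Agent.Lib.Helper29.FinExtF

open Groth.Agent.Lib.Helper8.FinLen

/-- in a Cohen–Macaulay ring, `ht (a + P) = ht ((a + P)/P) + ht P` for a prime `P` -/
theorem height_sup_eq_add_of_cm {R : Type u} [CommRing R] [hR : LocCoh.IsCohenMacaulayRing R]
    (a P : Ideal R) [hP : P.IsPrime] :
    (a ⊔ P).height = ((a ⊔ P).map (Ideal.Quotient.mk P)).height + P.height := by
  apply le_antisymm
  · by_cases hne : ((a ⊔ P).map (Ideal.Quotient.mk P)).height = ⊤
    · rw [hne, top_add]; exact le_top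
    · obtain ⟨q, hq, hqh⟩ := Groth.Agent.S11648.exists_minimalPrime_height_eq a P hne
      haveI := hq.1.1
      have hPq : P ≤ q := le_sup_right.trans hq.1.2
      rw [← hqh, ← Groth.Agent.S2931.height_eq_add_of_cm P q hPq]
      exact Ideal.height_mono hq.1.2
  · rw [Ideal.height_eq_inf_minimalPrimes (a ⊔ P)]
    refine le_iInf₂ fun q hq => ?_
    haveI := hq.1.1
    have hPq : P ≤ q := le_sup_right.trans hq.1.2
    rw [Groth.Agent.S2931.height_eq_add_of_cm P q hPq]
    exact add_le_add (Ideal.height_mono (Ideal.map_mono hq.1.2)) le_rfl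


variable {R A : Type u} [CommRing R] [IsRegularRing R] [CommRing A] [IsNoetherianRing A]
  [Algebra R A]

/-- the translation of the stalk vanishing hypothesis into a height condition over `R` -/
theorem height_ne_of_hyp (hπ : Function.Surjective (algebraMap R A)) (I : Ideal A)
    (M : Type u) [AddCommGroup M] [Module A M] [Module R M] [IsScalarTower R A M]
    [Module.Finite A M] (i : ℕ)
    (h : ∀ p : PrimeSpectrum A, ¬ I ≤ p.asIdeal → ∀ (c j : ℕ), SGA2.relCodim I p = c →
      j + c = i → Subsingleton (LocCoh.H (maximalIdeal (Localization.AtPrime p.asIdeal)) j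
        (LocalizedModule p.asIdeal.primeCompl M)))
    (q : ℕ) (P : PrimeSpectrum R) (hT : ¬ Tors M P.asIdeal q)
    (hIP : ¬ I.comap (algebraMap R A) ≤ P.asIdeal) :
    (P.asIdeal ⊔ I.comap (algebraMap R A)).height ≠ ((q + i : ℕ) : ℕ∞) := by
  haveI hCM : LocCoh.IsCohenMacaulayRing R :=
    Groth.Agent.Lib.Helper8.LocDualK.isCohenMacaulayRing_of_isRegularRing
  haveI := P.2
  haveI hRA : Module.Finite R A := Module.Finite.of_surjective (Algebra.linearMap R A) hπ
  haveI hRM : Module.Finite R M := Module.Finite.trans A M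
  have hker : RingHom.ker (algebraMap R A) ≤ P.asIdeal := by
    by_contra hk
    exact hT (tors_of_not_ker_le M P.asIdeal hk q)
  haveI hpprime : (P.asIdeal.map (algebraMap R A)).IsPrime :=
    Ideal.map_isPrime_of_surjective hπ hker
  have hcomap : P.asIdeal = (P.asIdeal.map (algebraMap R A)).comap (algebraMap R A) := by
    rw [Ideal.comap_map_of_surjective' _ hπ, sup_eq_left.2 hker]
  let p : PrimeSpectrum A := ⟨P.asIdeal.map (algebraMap R A), hpprime⟩
  have hfin : P.asIdeal.height ≠ ⊤ := Ideal.height_ne_top P.2.ne_top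
  obtain ⟨d, hd⟩ : ∃ d : ℕ, P.asIdeal.height = d := ⟨P.asIdeal.height.toNat, (ENat.natCast_toNat hfin).symm⟩
  have hqd : q ≤ d := by
    by_contra hlt
    exact hT (tors_of_height_lt M P.asIdeal d hd q (by omega))
  have hIp : ¬ I ≤ p.asIdeal := by
    intro hle
    apply hIP
    rw [hcomap]
    exact Ideal.comap_mono hle
  have hns : ¬ Subsingleton (LocCoh.H (maximalIdeal (Localization.AtPrime p.asIdeal)) (d - q)
      (LocalizedModule p.asIdeal.primeCompl M)) := by
    intro hs
    rcases (Groth.Agent.Lib.Helper8.LocDualK.K_transfer hπ p.asIdeal P.asIdeal hcomap M d hd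
      (d - q)).1 hs with hlt | hT'
    · omega
    · apply hT
      have : d - (d - q) = q := by omega
      rwa [this] at hT'
  intro hht
  have hsum : (P.asIdeal ⊔ I.comap (algebraMap R A)).height =
      SGA2.relCodim I p + P.asIdeal.height := by
    rw [sup_comm, height_sup_eq_add_of_cm, Groth.Agent.S5172.relCodim_eq_height,
      Groth.Agent.Lib.Helper29AdjDepthSurj.height_quot_eq_of_surjective hπ P.asIdeal p.asIdeal
        hcomap I]
  rw [hsum, hd] at hht
  have hcfin : SGA2.relCodim I p ≠ ⊤ := by
    intro htop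
    rw [htop, top_add] at hht
    exact ENat.top_ne_natCast _ hht
  obtain ⟨c, hc⟩ : ∃ c : ℕ, SGA2.relCodim I p = c :=
    ⟨(SGA2.relCodim I p).toNat, (ENat.natCast_toNat hcfin).symm⟩
  rw [hc] at hht
  have hcd : c + d = q + i := by exact_mod_cast hht
  exact hns (h p hIp c (d - q) hc (by omega))

end Groth.Agent.Lib.Helper29.FinExtF
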