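import Mathlib
import Groth.Agent.S6962
import Groth.Agent.Lib.Helper1HomFinite
import Groth.Agent.Lib.Helper8FinLen
import Groth.Agent.Lib.Helper10RGamB
import Groth.Agent.Lib.Helper29FinExtE

/-! Finiteness of `colim_k Hom_{D(R)}(R/I^k, M[i])` over a regular ring `R` from a height condition
on the supports of the modules `Ext^q(M, R)` (helper29). -/

set_option autoImplicit false
set_option linter.style.haveILetI false
set_option linter.unusedSectionVars false
set_option linter.overlappingInstances false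
universe u
open CategoryTheory CategoryTheory.Limits

attribute [local instance] HasDerivedCategory.standard

namespace Groth.Agent.Lib.Helper29.FinExtG

open Groth.Agent.Lib.Helper10.RGamA Groth.Agent.Lib.Helper10.RGamB DerivedCategory
open Groth.Agent.Lib.Helper10.DualCx Groth.Agent.S14388 Groth.Agent.Lib.Helper8.FinLen

variable {R : Type u} [CommRing R]

/-- `Hom(M[0], N[0][n]) = 0` for `n < 0` -/
lemma subsingleton_hom_single_neg (M N : ModuleCat.{u} R) (n : ℤ) (hn : n < 0) :
    Subsingleton ((singleFunctor (ModuleCat.{u} R) 0).obj M ⟶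
      ((singleFunctor (ModuleCat.{u} R) 0).obj N)⟦n⟧) := by
  refine ⟨fun f g => ?_⟩
  have h1 : ((shiftFunctor (DerivedCategory (ModuleCat.{u} R)) n).obj
      ((singleFunctor (ModuleCat.{u} R) 0).obj N)).IsGE (-n) :=
    tt.isGE_shift ((singleFunctor (ModuleCat.{u} R) 0).obj N) 0 n (-n) (by omega)
  rw [tt.zero_of_isLE_of_isGE f 0 (-n) (by omega) inferInstance h1,
    tt.zero_of_isLE_of_isGE g 0 (-n) (by omega) inferInstance h1]

/-- `H^j(P^∨) ≃ Hom_{D(R)}(M, R[j])` for a perfect model `P` of `M` -/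
noncomputable def homologyDualEquiv (P : DRing.Cx R) [P.IsKProjective] (M : Type u)
    [AddCommGroup M] [Module R M] (e : Q.obj P ≅ Dual.inD R M) (j : ℤ) :
    Dual.HD R (Q.obj (D P)) j ≃ₗ[R] (Dual.inD R M ⟶ (Dual.inD R R)⟦j⟧) :=
  ((HDIso (D P) j).toLinearEquiv.trans
    (Groth.Agent.Lib.Helper5.RelDual.homEquivHomology P (S R) j)).trans
    (Linear.homCongr R e (Iso.refl _))

/-- a point of the support of a module linearly equivalent to `Ext^q(M, R)` is a point where
`Ext^q(M, R)` is not torsion -/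
lemma not_tors_of_mem_support (M : Type u) [AddCommGroup M] [Module R M] (q : ℕ)
    (X : Type u) [AddCommGroup X] [Module R X]
    (eX : X ≃ₗ[R] Abelian.Ext.{u} (ModuleCat.of R M) (ModuleCat.of R R) q)
    (P : PrimeSpectrum R) (hP : P ∈ Module.support R X) : ¬ Tors M P.asIdeal q := by
  intro hT
  rw [Module.mem_support_iff_exists_annihilator] at hP
  obtain ⟨x, hx⟩ := hP
  obtain ⟨s, hs⟩ := hT (eX x)
  apply s.2
  apply hx
  rw [Submodule.mem_annihilator_span_singleton]
  apply eX.injective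
  rw [map_smul, map_zero]
  exact hs

/-- `Γ_I` of a complex in degrees `≥ 0` is in degrees `≥ 0` -/
instance (I : Ideal R) (C : DRing.Cx R) [C.IsStrictlyGE 0] : ((G I).obj C).IsStrictlyGE 0 := by
  rw [CochainComplex.isStrictlyGE_iff]
  intro i hi
  exact Functor.map_isZero (DRing.gammaI I) (C.isZero_of_isStrictlyGE 0 i hi)

/-- vanishing of `Hom(X[0], Γ_I(J)[m])` for `m < 0` -/
lemma forall_eq_zero_neg (I : Ideal R) (Jc : DRing.Cx R) [Jc.IsStrictlyGE 0]
    [((G I).obj Jc).IsKInjective] (X : ModuleCat.{u} R) (m : ℤ) (hm : m < 0) :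
    ∀ φ : (singleFunctor (ModuleCat.{u} R) 0).obj X ⟶ (Q.obj ((G I).obj Jc))⟦m⟧, φ = 0 := by
  rw [Groth.Agent.Lib.Helper23InjAmp.single_forall_eq_zero_iff X ((G I).obj Jc) m (m - 1) (m + 1)
    (by omega) rfl]
  intro f _
  refine ⟨0, ?_⟩
  rw [zero_comp]
  exact ((((G I).obj Jc).isZero_of_isStrictlyGE 0 m hm).eq_of_tgt _ _)

/-- **Finiteness of `H^i_I(M)` over a regular ring**, in terms of `Ext^q(M, R)`: if for every
`q` and every prime `P ∉ V(I)` at which `Ext^q(M, R)` is not torsion we have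
`ht (P + I) ≠ q + i`, then `colim_k Hom_{D(R)}(R/I^k, M[i])` is a finite module. -/
theorem finite_HDI_regular [IsRegularRing R] (I : Ideal R) (M : Type u) [AddCommGroup M]
    [Module R M] [Module.Finite R M] (i : ℕ)
    (h : ∀ (q : ℕ) (P : PrimeSpectrum R), ¬ Tors M P.asIdeal q → ¬ I ≤ P.asIdeal →
      (P.asIdeal ⊔ I).height ≠ ((q + i : ℕ) : ℕ∞)) :
    Module.Finite R (Dual2.HDI R I (Dual.inD R M) (i : ℤ)) := by
  have hreg : ∀ p : PrimeSpectrum R, IsRegularLocalRing (Localization.AtPrime p.asIdeal) :=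
    fun p => inferInstance
  obtain ⟨P, a, b, hP, hfp, ⟨e⟩⟩ := (Groth.Agent.S6962.result R hreg M).2 inferInstance
  let Ires : InjectiveResolution (ModuleCat.of R R) := InjectiveResolution.of _
  let Jc : DRing.Cx R := Ires.cochainComplex
  have hJ : TI Jc := TI_of_injective (fun n => inferInstance)
  let η : S R ⟶ Jc := Ires.ι'
  haveI : QuasiIso η := inferInstanceAs (QuasiIso Ires.ι')
  haveI : Jc.IsStrictlyGE 0 := inferInstanceAs (Ires.cochainComplex.IsStrictlyGE 0)
  haveI : ∀ n, Injective (((G I).obj Jc).X n) := fun n => by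
    haveI := TI_G I hJ n
    exact Module.injective_object_of_injective_module (R := R) (M := ((G I).obj Jc).X n)
  haveI : ((G I).obj Jc).IsKInjective := CochainComplex.isKInjective_of_injective _ 0
  haveI : ∀ n, Injective (Jc.X n) := fun n => inferInstanceAs (Injective (Ires.cochainComplex.X n))
  haveI : Jc.IsKInjective := CochainComplex.isKInjective_of_injective _ 0
  haveI : IsIso (Q.map η) := by
    rw [DerivedCategory.isIso_Q_map_iff_quasiIso]; infer_instance
  let eJ : (singleFunctor (ModuleCat.{u} R) 0).obj (ModuleCat.of R R) ≅ Q.obj Jc :=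
    (singleFunctorIsoCompQ (ModuleCat.{u} R) 0).app (ModuleCat.of R R) ≪≫ asIso (Q.map η)
  apply FinExtE.finite_HDI_of_perfect I P a b hP hfp Jc hJ η _ e (i : ℤ)
  have hD : DRing.VanishesOutside (D P) (-b) (-a) := vanishesOutside_D P a b hP
  have hDfp : DRing.TermwiseFiniteProjective (D P) := termwiseFiniteProjective_D P hfp
  haveI : P.IsKProjective := isKProjective_of_vanishesOutside P a b hP (fun i => (hfp i).2)
  obtain ⟨⟨a', b', hvan⟩, hfinH⟩ := Groth.Agent.S6962.finite_homology_of_isPerfect (Q.obj (D P))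
    ⟨D P, -b, -a, hD, hDfp, ⟨Iso.refl _⟩⟩
  apply FinExtA.finite_hom_of_bounded _ (Q.obj (D P)) a' b'
    (fun j hj => by haveI := hvan j hj; exact ModuleCat.isZero_of_subsingleton _)
  intro j _ _
  apply FinExtA.finite_hom_single_shift _ (Q.obj ((G I).obj Jc)) j (i : ℤ) ((i : ℤ) + j) rfl
  let Ej := homologyDualEquiv P M e j
  by_cases hj : j < 0
  · haveI := subsingleton_hom_single_neg (ModuleCat.of R M) (ModuleCat.of R R) j hj
    haveI : Subsingleton (Dual.HD R (Q.obj (D P)) j) := Ej.toEquiv.subsingleton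
    exact FinExtA.finite_hom_of_isZero _
      (Functor.map_isZero _ (ModuleCat.isZero_of_subsingleton _))
  · obtain ⟨q, rfl⟩ : ∃ q : ℕ, j = q := ⟨j.toNat, (Int.toNat_of_nonneg (by omega)).symm⟩
    have hn : (i : ℤ) + (q : ℤ) = ((q + i : ℕ) : ℤ) := by push_cast; ring
    rw [hn]
    haveI := hfinH (q : ℤ)
    refine FinExtD.finite_hom_of_height_ne I Jc eJ (q + i) (Dual.HD R (Q.obj (D P)) (q : ℤ)) ?_
    intro P' hP' hIP'
    refine h q P' ?_ hIP'
    exact not_tors_of_mem_support M q _
      (Ej.trans (Abelian.Ext.homLinearEquiv (R := R) (X := ModuleCat.of R M)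
        (Y := ModuleCat.of R R) (n := q)).symm) P' hP'

end Groth.Agent.Lib.Helper29.FinExtG
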