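import Mathlib
import Groth.Agent.Lib.Helper14HDIF

/-! # Comparison of `H^i_I(N)` with `colim_k Hom_{D(A)}(A/I^k, N[i])` (helper29)

Adaptation to powers of an ideal of helper14's comparison for supports in a closed set. -/

set_option autoImplicit false
set_option linter.unusedVariables false
set_option linter.unusedSectionVars false
set_option linter.style.haveILetI false
set_option maxHeartbeats 400000

universe u

open CategoryTheory CategoryTheory.Limits Opposite DerivedCategory Pretriangulated
  CategoryTheory.Abelian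

attribute [local instance] HasDerivedCategory.standard

namespace Groth.Agent.Lib.Helper29.FinExtH

open Groth.Agent.Lib.Helper8.ExtLES Groth.Agent.Lib.Helper8.LC Groth.Agent.Lib.Helper8.Bridge
  Groth.Agent.Lib.Helper14.HDI

variable {A : Type u} [CommRing A] (I : Ideal A) (i : ℕ) (N : ModuleCat.{u} A)

/-- `N[i]` in `D(A)` -/
noncomputable abbrev KN : Dual.D A := (sg' N)⟦(i : ℤ)⟧

/-- `Ext^i(A/I^k, N) ≃ Hom_{D(A)}(A/I^k, N[i])` -/
noncomputable def φk (k : ℕ) : E i (Xk I k) N ≃ₗ[A] (Nk I k ⟶ KN i N) :=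
  (Ψ i (Xk I k) N).trans (Ext.homLinearEquiv (R := A))

lemma φk_apply (k : ℕ) (y : E i (Xk I k) N) : φk I i N k y = (Ψ i (Xk I k) N y).hom := rfl

lemma φk_Epre {k l : ℕ} (h : k ≤ l) (y : E i (Xk I k) N) :
    φk I i N l ((Epre i (tr I h) N).hom y) = trD I h ≫ φk I i N k y := by
  rw [φk_apply, φk_apply]
  exact Ψ_hom_Epre' I i N h y

lemma φk_symm_trD {k l : ℕ} (h : k ≤ l) (x : Nk I k ⟶ KN i N) :
    (φk I i N l).symm (trD I h ≫ x) = (Epre i (tr I h) N).hom ((φk I i N k).symm x) := by
  apply (φk I i N l).injective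
  rw [LinearEquiv.apply_symm_apply, φk_Epre, LinearEquiv.apply_symm_apply]

/-- the legs of the comparison cocone -/
noncomputable def leg (k : ℕ) :
    (Nk I k ⟶ KN i N) →ₗ[A] ULift.{u + 1} ((localCohomology I i).obj N) :=
  ULift.moduleEquiv.symm.toLinearMap ∘ₗ (cls I i N k).hom ∘ₗ (φk I i N k).symm.toLinearMap

lemma leg_apply (k : ℕ) (x : Nk I k ⟶ KN i N) :
    (leg I i N k x).down = (cls I i N k).hom ((φk I i N k).symm x) := rfl

lemma leg_trD {k l : ℕ} (h : k ≤ l) (x : Nk I k ⟶ KN i N) :
    leg I i N l (trD I h ≫ x) = leg I i N k x := by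
  apply ULift.ext
  rw [leg_apply, leg_apply, φk_symm_trD]
  exact cls_restrict I i N h _

/-- the comparison cocone -/
noncomputable def compCocone : Cocone (Fd I (KN i N)) where
  pt := ModuleCat.of A (ULift.{u + 1} ((localCohomology I i).obj N))
  ι :=
    { app := fun j => ModuleCat.ofHom (leg I i N j.unop.unop)
      naturality := by
        intro j j' a
        have hle : j.unop.unop ≤ j'.unop.unop := a.unop.unop.le
        have ha : a = (homOfLE hle).op.op := Subsingleton.elim _ _
        subst ha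
        apply ModuleCat.hom_ext
        apply LinearMap.ext
        intro x
        exact leg_trD I i N hle x }

/-- the comparison map -/
noncomputable def Θ : F0 I (KN i N) ⟶ ModuleCat.of A (ULift.{u + 1} ((localCohomology I i).obj N)) :=
  colimit.desc (Fd I (KN i N)) (compCocone I i N)

lemma Θ_ι (k : ℕ) (x : Nk I k ⟶ KN i N) :
    (Θ I i N).hom (ι I (KN i N) k x) = leg I i N k x := by
  have := colimit.ι_desc (compCocone I i N) (op (op k))
  exact congrArg (fun g => g.hom x) this

lemma Θ_bijective : Function.Bijective (Θ I i N).hom := by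
  constructor
  · rw [injective_iff_map_eq_zero]
    intro z hz
    obtain ⟨k, x, rfl⟩ := Groth.Agent.Lib.Helper14.HDI.exists_rep I _ z
    rw [Θ_ι] at hz
    have h1 : (cls I i N k).hom ((φk I i N k).symm x) = 0 := by
      rw [← leg_apply, hz]
      rfl
    obtain ⟨l, h, hY⟩ := (cls_eq_zero_iff I i N _).mp h1
    have hY' : (Epre i (tr I h) N).hom ((φk I i N k).symm x) = 0 := hY
    rw [← φk_symm_trD, LinearEquiv.map_eq_zero_iff] at hY'
    rw [← ι_trans I _ h, hY', map_zero]
  · intro w
    obtain ⟨k, y, hy⟩ := Groth.Agent.Lib.Helper8.LC.exists_rep I i N w.down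
    refine ⟨ι I (KN i N) k (φk I i N k y), ?_⟩
    rw [Θ_ι]
    apply ULift.ext
    rw [leg_apply, LinearEquiv.symm_apply_apply]
    exact hy

/-- `colim_k Hom_{D(A)}(A/I^k, N[i]) ≃ H^i_I(N)` -/
noncomputable def compEquiv : F0 I (KN i N) ≃ₗ[A] (localCohomology I i).obj N :=
  (LinearEquiv.ofBijective (Θ I i N).hom (Θ_bijective I i N)).trans ULift.moduleEquiv

end Groth.Agent.Lib.Helper29.FinExtH
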