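import Mathlib
set_option autoImplicit false

namespace Groth.Agent.Lib.Helper29.FinLen

theorem isFiniteLength_of_associatedPrimes_isMaximal {A : Type*} [CommRing A] [IsNoetherianRing A]
    {N : Type*} [AddCommGroup N] [Module A N] [Module.Finite A N]
    (h : ∀ P ∈ associatedPrimes A N, P.IsMaximal) : IsFiniteLength A N := by
  let : Module (A ⧸ Module.annihilator A N) N := (Module.isTorsionBySet_annihilator A N).module
  have : IsScalarTower A (A ⧸ Module.annihilator A N) N :=
    (Module.isTorsionBySet_annihilator A N).isScalarTower
  have : Module.Finite (A ⧸ Module.annihilator A N) N :=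
    Module.Finite.of_restrictScalars_finite A (A ⧸ Module.annihilator A N) N
  have hdim : Ring.KrullDimLE 0 (A ⧸ Module.annihilator A N) := by
    rw [Ring.krullDimLE_zero_iff]
    intro Q hQ
    have hQ' : (Q.comap (Ideal.Quotient.mk (Module.annihilator A N))).IsPrime := inferInstance
    have hle : Module.annihilator A N ≤ Q.comap (Ideal.Quotient.mk (Module.annihilator A N)) := by
      intro x hx
      rw [Ideal.mem_comap, Ideal.Quotient.eq_zero_iff_mem.mpr hx]
      exact Q.zero_mem
    obtain ⟨P, hP, hPQ⟩ := Ideal.exists_minimalPrimes_le hle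
    have hPmax := h P (Module.associatedPrimes.minimalPrimes_annihilator_subset_associatedPrimes A N hP)
    have heq : P = Q.comap (Ideal.Quotient.mk (Module.annihilator A N)) :=
      hPmax.eq_of_le hQ'.ne_top hPQ
    have hmax : (Q.comap (Ideal.Quotient.mk (Module.annihilator A N))).IsMaximal := heq ▸ hPmax
    have := Ideal.IsMaximal.map_of_surjective_of_ker_le
      (f := Ideal.Quotient.mk (Module.annihilator A N)) Ideal.Quotient.mk_surjective
      (m := Q.comap (Ideal.Quotient.mk (Module.annihilator A N)))
      (by rw [Ideal.mk_ker]; exact hle)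
    rwa [Ideal.map_comap_of_surjective _ Ideal.Quotient.mk_surjective] at this
  have : IsArtinianRing (A ⧸ Module.annihilator A N) := isArtinianRing_iff_krullDimLE_zero.mpr hdim
  have : IsArtinian (A ⧸ Module.annihilator A N) N := inferInstance
  have : IsArtinian A N :=
    isArtinian_of_surjective_algebraMap (R := A ⧸ Module.annihilator A N)
      Ideal.Quotient.mk_surjective
  exact isFiniteLength_iff_isNoetherian_isArtinian.mpr ⟨inferInstance, inferInstance⟩

end Groth.Agent.Lib.Helper29.FinLen
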