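import Mathlib

/-! A dimension inequality from a "generic linear form": if `y₀, …, y_{s-1}` have no common
nonzero annihilator in `R` and multiply the finite-dimensional subspace `A` into the
finite-dimensional subspace `B`, then `dim A ≤ dim B`.  The proof multiplies by the generic
form `∑ yᵢ tⁱ ∈ R[t]`, which is a non-zero-divisor by McCoy's theorem (helper29). -/

set_option autoImplicit false
open Polynomial

noncomputable section

namespace Groth.Agent.Lib.Helper29GenericForm

universe u v

variable {R : Type u} [CommRing R]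

/-- The generic form `∑ yᵢ tⁱ`. -/
def gen {s : ℕ} (y : Fin s → R) : R[X] := ∑ i : Fin s, monomial (i : ℕ) (y i)

theorem coeff_gen {s : ℕ} (y : Fin s → R) (j : ℕ) :
    (gen y).coeff j = if h : j < s then y ⟨j, h⟩ else 0 := by
  rw [gen, finset_sum_coeff]
  simp only [coeff_monomial]
  split_ifs with h
  · rw [Finset.sum_eq_single (⟨j, h⟩ : Fin s)]
    · simp
    · intro b _ hb
      rw [if_neg]
      intro hbj
      exact hb (Fin.ext hbj)
    · intro hj
      exact absurd (Finset.mem_univ _) hj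
  · apply Finset.sum_eq_zero
    intro b _
    rw [if_neg]
    intro hbj
    exact h (hbj ▸ b.2)

theorem gen_mem_nonZeroDivisors {s : ℕ} (y : Fin s → R)
    (hnzd : ∀ r : R, (∀ i, y i * r = 0) → r = 0) : gen y ∈ nonZeroDivisors R[X] := by
  by_contra h
  obtain ⟨a, ha, hap⟩ := Polynomial.notMem_nonZeroDivisors_iff.mp h
  apply ha
  apply hnzd
  intro i
  have h1 := congrArg (fun p : R[X] => p.coeff (i : ℕ)) hap
  simp only [coeff_smul, coeff_zero, smul_eq_mul] at h1
  rw [coeff_gen, dif_pos i.2] at h1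
  rw [mul_comm]
  exact h1

/-- The polynomial with prescribed first `D` coefficients. -/
def toPoly {D : ℕ} (g : Fin D → R) : R[X] := ∑ l : Fin D, monomial (l : ℕ) (g l)

theorem coeff_toPoly {D : ℕ} (g : Fin D → R) (j : ℕ) :
    (toPoly g).coeff j = if h : j < D then g ⟨j, h⟩ else 0 := coeff_gen g j

theorem toPoly_add {D : ℕ} (g g' : Fin D → R) : toPoly (g + g') = toPoly g + toPoly g' := by
  simp only [toPoly, Pi.add_apply, map_add, Finset.sum_add_distrib]

theorem coeff_gen_mul_toPoly_of_le {s D : ℕ} (y : Fin s → R) (g : Fin D → R) (j : ℕ)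
    (hj : D + s ≤ j) : (gen y * toPoly g).coeff j = 0 := by
  rw [coeff_mul]
  apply Finset.sum_eq_zero
  rintro ⟨p, q⟩ hpq
  have hpq' : p + q = j := Finset.HasAntidiagonal.mem_antidiagonal.mp hpq
  simp only
  rw [coeff_gen, coeff_toPoly]
  by_cases hp : p < s
  · have hq : ¬ q < D := by omega
    rw [dif_neg hq, mul_zero]
  · rw [dif_neg hp, zero_mul]

theorem toPoly_eq_zero {D : ℕ} (g : Fin D → R) (h : toPoly g = 0) : g = 0 := by
  funext l
  have h1 := congrArg (fun p : R[X] => p.coeff (l : ℕ)) h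
  simp only [coeff_zero] at h1
  rw [coeff_toPoly, dif_pos l.2] at h1
  exact h1

variable {K : Type v} [CommRing K] [Algebra K R]

theorem toPoly_smul {D : ℕ} (c : K) (g : Fin D → R) : toPoly (c • g) = c • toPoly g := by
  simp only [toPoly, Pi.smul_apply, Finset.smul_sum, smul_monomial]

variable (A B : Submodule K R)

theorem coeff_mem {s D : ℕ} (y : Fin s → R) (hy : ∀ i, ∀ a ∈ A, y i * a ∈ B) (g : Fin D → R)
    (hg : ∀ l, g l ∈ A) (j : ℕ) : (gen y * toPoly g).coeff j ∈ B := by
  rw [coeff_mul]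
  apply Submodule.sum_mem
  rintro ⟨p, q⟩ _
  simp only
  rw [coeff_gen, coeff_toPoly]
  by_cases hp : p < s
  · by_cases hq : q < D
    · rw [dif_pos hp, dif_pos hq]
      exact hy _ _ (hg _)
    · rw [dif_neg hq, mul_zero]
      exact zero_mem _
  · rw [dif_neg hp, zero_mul]
    exact zero_mem _

/-- Multiplication by the generic form on polynomials of degree `< D` with coefficients in `A`. -/
def Ψ {s : ℕ} (y : Fin s → R) (hy : ∀ i, ∀ a ∈ A, y i * a ∈ B) (D : ℕ) :
    (Fin D → ↥A) →ₗ[K] (Fin (D + s) → ↥B) where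
  toFun g j := ⟨(gen y * toPoly (fun l => ((g l : ↥A) : R))).coeff (j : ℕ),
    coeff_mem A B y hy _ (fun l => (g l).2) j⟩
  map_add' g g' := by
    funext j
    apply Subtype.ext
    have : (fun l => (((g + g') l : ↥A) : R)) =
        (fun l => ((g l : ↥A) : R)) + (fun l => ((g' l : ↥A) : R)) := by
      funext l
      rfl
    show (gen y * toPoly (fun l => (((g + g') l : ↥A) : R))).coeff (j : ℕ) =
      (gen y * toPoly (fun l => ((g l : ↥A) : R))).coeff (j : ℕ) +
        (gen y * toPoly (fun l => ((g' l : ↥A) : R))).coeff (j : ℕ)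
    rw [this, toPoly_add, mul_add, coeff_add]
  map_smul' c g := by
    funext j
    apply Subtype.ext
    have : (fun l => (((c • g) l : ↥A) : R)) = c • (fun l => ((g l : ↥A) : R)) := by
      funext l
      rfl
    show (gen y * toPoly (fun l => (((c • g) l : ↥A) : R))).coeff (j : ℕ) =
      c • (gen y * toPoly (fun l => ((g l : ↥A) : R))).coeff (j : ℕ)
    rw [this, toPoly_smul, mul_smul_comm, coeff_smul]

theorem Ψ_injective {s : ℕ} (y : Fin s → R) (hy : ∀ i, ∀ a ∈ A, y i * a ∈ B)
    (hnzd : ∀ r : R, (∀ i, y i * r = 0) → r = 0) (D : ℕ) :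
    Function.Injective (Ψ A B y hy D) := by
  rw [injective_iff_map_eq_zero]
  intro g hg
  have h1 : gen y * toPoly (fun l => ((g l : ↥A) : R)) = 0 := by
    ext j
    rw [coeff_zero]
    by_cases hj : j < D + s
    · have h2 := congrFun hg ⟨j, hj⟩
      exact congrArg Subtype.val h2
    · exact coeff_gen_mul_toPoly_of_le y _ j (not_lt.mp hj)
  have h3 : toPoly (fun l => ((g l : ↥A) : R)) = 0 :=
    (mul_left_mem_nonZeroDivisors_eq_zero_iff (gen_mem_nonZeroDivisors y hnzd)).mp h1
  have h4 := toPoly_eq_zero _ h3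
  funext l
  apply Subtype.ext
  exact congrFun h4 l

theorem le_of_forall_mul_le {a b s : ℕ} (h : ∀ D : ℕ, D * a ≤ (D + s) * b) : a ≤ b := by
  by_contra hlt
  rw [not_le] at hlt
  have h1 := h (s * b + 1)
  have h2 : (s * b + 1) * (b + 1) ≤ (s * b + 1) * a := Nat.mul_le_mul_left _ hlt
  have h3 : (s * b + 1) * (b + 1) ≤ (s * b + 1 + s) * b := le_trans h2 h1
  nlinarith

/-- The dimension inequality. -/
theorem finrank_le (hK : IsField K) [Module.Finite K ↥A] [Module.Finite K ↥B] {s : ℕ}
    (y : Fin s → R) (hy : ∀ i, ∀ a ∈ A, y i * a ∈ B)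
    (hnzd : ∀ r : R, (∀ i, y i * r = 0) → r = 0) :
    Module.finrank K ↥A ≤ Module.finrank K ↥B := by
  let _ : Field K := hK.toField
  apply le_of_forall_mul_le (s := s)
  intro D
  have h1 := LinearMap.finrank_le_finrank_of_injective (Ψ_injective A B y hy hnzd D)
  rw [Module.finrank_pi_fintype, Module.finrank_pi_fintype] at h1
  simpa using h1

end Groth.Agent.Lib.Helper29GenericForm
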