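import Mathlib

/-!
# Gluing finite extensions at the height-one primes of `V(t)` (helper29), part A

Ambient set-up: `A` a ring, `t : A`, primes `q i`, algebras `B i` over `A_{q i}`.
Everything lives inside `A_t = Localization.Away t`; `B i` is compared with `A_t` inside
`(B i)_t`.
-/

set_option autoImplicit false
set_option linter.style.haveILetI false
set_option linter.unusedSectionVars false

universe u

namespace Groth.Agent.Lib.Helper29.GlueA

variable {A : Type u} [CommRing A] (t : A) {r : ℕ} (q : Fin r → Ideal A)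
  [hq : ∀ i, (q i).IsPrime]
  (B : Fin r → Type u) [∀ i, CommRing (B i)] [∀ i, Algebra (Localization.AtPrime (q i)) (B i)]

/-- The structure map `A → B i`. -/
noncomputable def ρ (i : Fin r) : A →+* B i :=
  (algebraMap (Localization.AtPrime (q i)) (B i)).comp (algebraMap A (Localization.AtPrime (q i)))

/-- `(B i)_t`. -/
abbrev Bt (i : Fin r) : Type u := Localization.Away (ρ q B i t)

/-- `B i → (B i)_t`. -/
noncomputable def ι (i : Fin r) : B i →+* Bt t q B i := algebraMap (B i) (Bt t q B i)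

theorem isUnit_ι_ρ (i : Fin r) : IsUnit (((ι t q B i).comp (ρ q B i)) t) :=
  IsLocalization.Away.algebraMap_isUnit (ρ q B i t)

/-- `A_t → (B i)_t`. -/
noncomputable def lam (i : Fin r) : Localization.Away t →+* Bt t q B i :=
  IsLocalization.Away.lift t (isUnit_ι_ρ t q B i)

@[simp]
theorem lam_algebraMap (i : Fin r) (a : A) :
    lam t q B i (algebraMap A (Localization.Away t) a) = ι t q B i (ρ q B i a) :=
  IsLocalization.Away.lift_eq t (isUnit_ι_ρ t q B i) a

theorem ι_injective (i : Fin r)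
    (htB : IsSMulRegular (B i) (algebraMap A (Localization.AtPrime (q i)) t)) :
    Function.Injective (ι t q B i) := by
  have hnz : ρ q B i t ∈ nonZeroDivisors (B i) := by
    rw [mem_nonZeroDivisors_iff_right]
    intro b hb
    apply htB
    simp only [Algebra.smul_def, mul_zero]
    rw [mul_comm] at hb
    exact hb
  exact IsLocalization.injective (Bt t q B i) (Submonoid.powers_le.mpr hnz)

/-- The `A`-submodule `M n ⊆ t⁻ⁿ A ⊆ A_t` of elements mapping into every `B i`. -/
noncomputable def Mod (n : ℕ) : Submodule A (Localization.Away t) where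
  carrier := {x | (∃ a : A, algebraMap A _ a = algebraMap A (Localization.Away t) t ^ n * x) ∧
    ∀ i, lam t q B i x ∈ (ι t q B i).range}
  add_mem' := by
    rintro x y ⟨⟨a, ha⟩, hx⟩ ⟨⟨b, hb⟩, hy⟩
    refine ⟨⟨a + b, by rw [map_add, ha, hb, mul_add]⟩, fun i => ?_⟩
    rw [map_add]
    exact add_mem (hx i) (hy i)
  zero_mem' := ⟨⟨0, by simp⟩, fun i => by rw [map_zero]; exact zero_mem _⟩
  smul_mem' := by
    rintro c x ⟨⟨a, ha⟩, hx⟩
    refine ⟨⟨c * a, by rw [map_mul, ha, Algebra.smul_def]; ring⟩, fun i => ?_⟩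
    rw [Algebra.smul_def, map_mul, lam_algebraMap]
    exact mul_mem ⟨_, rfl⟩ (hx i)

theorem mem_Mod {n : ℕ} {x : Localization.Away t} :
    x ∈ Mod t q B n ↔
      (∃ a : A, algebraMap A _ a = algebraMap A (Localization.Away t) t ^ n * x) ∧
        ∀ i, lam t q B i x ∈ (ι t q B i).range := Iff.rfl

theorem algebraMap_mem_Mod (n : ℕ) (a : A) :
    algebraMap A (Localization.Away t) a ∈ Mod t q B n := by
  refine ⟨⟨t ^ n * a, by rw [map_mul, map_pow]⟩, fun i => ?_⟩
  rw [lam_algebraMap]
  exact ⟨_, rfl⟩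

theorem mul_mem_Mod {n k : ℕ} {x y : Localization.Away t} (hx : x ∈ Mod t q B n)
    (hy : y ∈ Mod t q B k) : x * y ∈ Mod t q B (n + k) := by
  obtain ⟨⟨a, ha⟩, hx⟩ := hx
  obtain ⟨⟨b, hb⟩, hy⟩ := hy
  refine ⟨⟨a * b, by rw [map_mul, ha, hb]; ring⟩, fun i => ?_⟩
  rw [map_mul]
  exact mul_mem (hx i) (hy i)

theorem Mod_mono {n k : ℕ} (hnk : n ≤ k) : Mod t q B n ≤ Mod t q B k := by
  rintro x ⟨⟨a, ha⟩, hx⟩
  refine ⟨⟨t ^ (k - n) * a, ?_⟩, hx⟩
  rw [map_mul, ha, map_pow, ← mul_assoc, ← pow_add, Nat.sub_add_cancel hnk]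

/-- `a ↦ a / tⁿ`. -/
noncomputable def ell (n : ℕ) : A →ₗ[A] Localization.Away t :=
  LinearMap.toSpanSingleton A (Localization.Away t)
    ((IsLocalization.Away.invSelf (S := Localization.Away t) t) ^ n)

theorem Mod_le_range_ell (n : ℕ) : Mod t q B n ≤ LinearMap.range (ell t n) := by
  rintro x ⟨⟨a, ha⟩, -⟩
  refine ⟨a, ?_⟩
  simp only [ell, LinearMap.toSpanSingleton_apply, Algebra.smul_def]
  rw [ha, mul_comm, ← mul_assoc, ← mul_pow, mul_comm (IsLocalization.Away.invSelf t),
    IsLocalization.Away.mul_invSelf, one_pow, one_mul]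

/-- Submodules of `t⁻ⁿ A` are finitely generated when `A` is Noetherian. -/
theorem fg_of_le_range_ell [IsNoetherianRing A] (n : ℕ) (N : Submodule A (Localization.Away t))
    (hN : N ≤ LinearMap.range (ell t n)) : N.FG := by
  have h1 : (N.comap (ell t n)).map (ell t n) = N := by
    rw [Submodule.map_comap_eq]
    exact inf_eq_right.mpr hN
  rw [← h1]
  exact (IsNoetherian.noetherian (N.comap (ell t n))).map _

theorem Mod_fg [IsNoetherianRing A] (n : ℕ) : (Mod t q B n).FG :=
  fg_of_le_range_ell t n _ (Mod_le_range_ell t q B n)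

end Groth.Agent.Lib.Helper29.GlueA
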