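import Mathlib

/-!
# Gluing finite extensions at the height-one primes of `V(t)` (helper29), part B

Prime-ideal facts: the primes `q i ≠ m` of `V(t)` in a 2-dimensional local ring (`t` a
nonzerodivisor) are pairwise incomparable; in `A_{q j}` the maximal ideal is the radical of `(t)`.
-/

set_option autoImplicit false
set_option linter.style.haveILetI false
set_option linter.unusedSectionVars false

universe u

namespace Groth.Agent.Lib.Helper29.GlueB

variable {A : Type u} [CommRing A] [IsNoetherianRing A] [IsLocalRing A]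
  (hA : ringKrullDim A ≤ 2) (t : A) (htnz : t ∈ nonZeroDivisors A)
  {r : ℕ} (q : Fin r → Ideal A) [hq : ∀ i, (q i).IsPrime] (hinj : Function.Injective q)
  (hqm : ∀ i, q i ≠ IsLocalRing.maximalIdeal A) (htq : ∀ i, t ∈ q i)
  (hV : ∀ p : Ideal A, p.IsPrime → t ∈ p → p = IsLocalRing.maximalIdeal A ∨ ∃ i, p = q i)

include hA htnz hinj hqm htq in
/-- The primes `q i` are pairwise incomparable. -/
theorem not_le_of_ne {i j : Fin r} (hij : i ≠ j) : ¬ q j ≤ q i := by
  intro hle
  have hlt : q j < q i := lt_of_le_of_ne hle (fun h => hij (hinj h).symm)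
  have hlt2 : q i < IsLocalRing.maximalIdeal A :=
    lt_of_le_of_ne (IsLocalRing.le_maximalIdeal (hq i).ne_top) (hqm i)
  obtain ⟨p₀, hp₀, hp₀le⟩ := Ideal.exists_minimalPrimes_le (I := ⊥) (J := q j) bot_le
  haveI : p₀.IsPrime := hp₀.1.1
  have hp₀ne : p₀ ≠ q j := by
    intro h
    have hd := Ideal.disjoint_nonZeroDivisors_of_mem_minimalPrimes hp₀
    exact Set.disjoint_left.mp hd (h ▸ htq j) htnz
  have hlt0 : p₀ < q j := lt_of_le_of_ne hp₀le hp₀ne
  have h1 : p₀.height < (q j).height := Ideal.height_strict_mono_of_isPrime_of_isPrime hlt0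
  have h2 : (q j).height < (q i).height := Ideal.height_strict_mono_of_isPrime_of_isPrime hlt
  have h3 : (q i).height < (IsLocalRing.maximalIdeal A).height :=
    Ideal.height_strict_mono_of_isPrime_of_isPrime hlt2
  have h4 : ((IsLocalRing.maximalIdeal A).height : WithBot ℕ∞) ≤ 2 :=
    (Ideal.height_le_ringKrullDim_of_ne_top Ideal.IsPrime.ne_top').trans hA
  have h5 : (IsLocalRing.maximalIdeal A).height ≤ 2 := WithBot.coe_le_coe.mp h4
  have h6 : (1 : ℕ∞) ≤ (q j).height := Order.one_le_iff_pos.mpr (lt_of_le_of_lt bot_le h1)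
  have h7 : (2 : ℕ∞) ≤ (q i).height := by
    have := Order.add_one_le_of_lt h2
    calc (2 : ℕ∞) = 1 + 1 := by norm_num
      _ ≤ (q j).height + 1 := by gcongr
      _ ≤ (q i).height := this
  have h8 : (3 : ℕ∞) ≤ (IsLocalRing.maximalIdeal A).height := by
    have := Order.add_one_le_of_lt h3
    calc (3 : ℕ∞) = 2 + 1 := by norm_num
      _ ≤ (q i).height + 1 := by gcongr
      _ ≤ _ := this
  have : (3 : ℕ∞) ≤ 2 := h8.trans h5
  exact absurd this (by norm_num)

include hqm in
theorem exists_mem_maximalIdeal_notMem (i : Fin r) :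
    ∃ z ∈ IsLocalRing.maximalIdeal A, z ∉ q i := by
  by_contra h
  push Not at h
  exact hqm i (le_antisymm (IsLocalRing.le_maximalIdeal (hq i).ne_top) h)

include hA htnz hinj hqm htq hV in
/-- In `A_{q j}` the maximal ideal is contained in the radical of `(t)`. -/
theorem maximalIdeal_le_radical (j : Fin r) :
    IsLocalRing.maximalIdeal (Localization.AtPrime (q j)) ≤
      (Ideal.span {algebraMap A (Localization.AtPrime (q j)) t}).radical := by
  rw [Ideal.radical_eq_sInf]
  refine le_sInf ?_
  rintro P ⟨hPt, hP⟩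
  haveI := hP
  have htP : algebraMap A (Localization.AtPrime (q j)) t ∈ P :=
    hPt (Ideal.subset_span (Set.mem_singleton _))
  set p := P.comap (algebraMap A (Localization.AtPrime (q j))) with hp
  haveI : p.IsPrime := Ideal.comap_isPrime _ _
  have hple : p ≤ q j := by
    have h1 : P ≤ IsLocalRing.maximalIdeal (Localization.AtPrime (q j)) :=
      IsLocalRing.le_maximalIdeal hP.ne_top
    have h2 := Ideal.comap_mono (f := algebraMap A (Localization.AtPrime (q j))) h1
    have h3 : (IsLocalRing.maximalIdeal (Localization.AtPrime (q j))).comap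
        (algebraMap A (Localization.AtPrime (q j))) = q j :=
      IsLocalization.AtPrime.under_maximalIdeal (Localization.AtPrime (q j)) (q j)
    rw [h3] at h2
    exact h2
  have hpeq : p = q j := by
    rcases hV p inferInstance htP with h | ⟨l, hl⟩
    · exfalso
      apply hqm j
      refine le_antisymm (IsLocalRing.le_maximalIdeal (hq j).ne_top) ?_
      rw [← h]; exact hple
    · by_cases hlj : l = j
      · rw [hl, hlj]
      · exfalso
        exact not_le_of_ne hA t htnz q hinj hqm htq (i := j) (j := l) (Ne.symm hlj) (hl ▸ hple)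
  have hPeq : P = IsLocalRing.maximalIdeal (Localization.AtPrime (q j)) := by
    rw [← IsLocalization.map_under (q j).primeCompl (Localization.AtPrime (q j)) P,
      ← IsLocalization.map_under (q j).primeCompl (Localization.AtPrime (q j))
        (IsLocalRing.maximalIdeal (Localization.AtPrime (q j)))]
    congr 1
    show p = _
    rw [hpeq]
    exact (IsLocalization.AtPrime.under_maximalIdeal (Localization.AtPrime (q j)) (q j)).symm
  rw [hPeq]

include hA htnz hinj hqm htq hV in
/-- For `i ≠ j` there is `s ∉ q i` whose image in `A_{q j}` is divisible by `tⁿ`. -/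
theorem exists_notMem_dvd {i j : Fin r} (hij : i ≠ j) (n : ℕ) :
    ∃ s : A, s ∉ q i ∧ ∃ y : Localization.AtPrime (q j),
      algebraMap A (Localization.AtPrime (q j)) s =
        algebraMap A (Localization.AtPrime (q j)) t ^ n * y := by
  obtain ⟨z, hzj, hzi⟩ := SetLike.not_le_iff_exists.mp (not_le_of_ne hA t htnz q hinj hqm htq hij)
  have hzmax : algebraMap A (Localization.AtPrime (q j)) z ∈
      IsLocalRing.maximalIdeal (Localization.AtPrime (q j)) :=
    (IsLocalization.AtPrime.to_map_mem_maximal_iff (Localization.AtPrime (q j)) (q j) z).mpr hzj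
  obtain ⟨k, hk⟩ := maximalIdeal_le_radical hA t htnz q hinj hqm htq hV j hzmax
  obtain ⟨w, hw⟩ := Ideal.mem_span_singleton'.mp hk
  refine ⟨z ^ (k * n), fun h => hzi ((hq i).mem_of_pow_mem _ h), w ^ n, ?_⟩
  rw [pow_mul, map_pow, map_pow, ← hw, mul_pow, mul_comm]

end Groth.Agent.Lib.Helper29.GlueB
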