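import Mathlib
import Groth.Agent.Lib.Helper29GlueA
import Groth.Agent.Lib.Helper29GlueB

/-!
# Gluing finite extensions at the height-one primes of `V(t)` (helper29), part C

Local claims about the modules `Mod n`.
-/

set_option autoImplicit false
set_option linter.style.haveILetI false
set_option linter.unusedSectionVars false

universe u

namespace Groth.Agent.Lib.Helper29.GlueC

open Groth.Agent.Lib.Helper29.GlueA

variable {A : Type u} [CommRing A] (t : A) {r : ℕ} (q : Fin r → Ideal A)
  [hq : ∀ i, (q i).IsPrime]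
  (B : Fin r → Type u) [∀ i, CommRing (B i)] [∀ i, Algebra (Localization.AtPrime (q i)) (B i)]
  (htB : ∀ i, IsSMulRegular (B i) (algebraMap A (Localization.AtPrime (q i)) t))
  (hinjB : ∀ i, Function.Injective (algebraMap (Localization.AtPrime (q i)) (B i)))
  (n : ℕ)
  (hn : ∀ i (b : B i), ∃ α : Localization.AtPrime (q i),
    algebraMap (Localization.AtPrime (q i)) (B i) α = (ρ q B i t) ^ n * b)

theorem isUnit_algebraMap_t : IsUnit (algebraMap A (Localization.Away t) t) :=
  IsLocalization.Away.algebraMap_isUnit t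

theorem isUnit_ιρt (i : Fin r) : IsUnit (ι t q B i (ρ q B i t)) :=
  isUnit_ι_ρ t q B i

theorem ρ_apply (i : Fin r) (a : A) :
    ρ q B i a = algebraMap (Localization.AtPrime (q i)) (B i)
      (algebraMap A (Localization.AtPrime (q i)) a) := rfl

theorem lam_smul (i : Fin r) (a : A) (x : Localization.Away t) :
    lam t q B i (a • x) = ι t q B i (ρ q B i a) * lam t q B i x := by
  rw [Algebra.smul_def, map_mul, lam_algebraMap]

theorem smul_mem_range (i : Fin r) (a : A) {x : Localization.Away t}
    (hx : lam t q B i x ∈ (ι t q B i).range) : lam t q B i (a • x) ∈ (ι t q B i).range := by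
  rw [lam_smul]
  exact mul_mem ⟨_, rfl⟩ hx

include htB hinjB hn in
/-- For `x ∈ M_{2n}` and each `i` some `s ∉ q i` has `s x ∈ M_n`. -/
theorem exists_smul_mem_Mod (i : Fin r) {x : Localization.Away t} (hx : x ∈ Mod t q B (n + n)) :
    ∃ s : A, s ∉ q i ∧ s • x ∈ Mod t q B n := by
  obtain ⟨⟨a, ha⟩, hxr⟩ := hx
  obtain ⟨b, hb⟩ := hxr i
  obtain ⟨α, hα⟩ := hn i b
  obtain ⟨⟨a', s'⟩, hs⟩ := IsLocalization.surj (q i).primeCompl α
  simp only at hs
  -- compare `s' a` and `tⁿ a'`
  have h1 : ι t q B i (ρ q B i ((s' : A) * a)) = ι t q B i (ρ q B i (t ^ n * a')) := by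
    have e1 : ι t q B i (ρ q B i a) = (ι t q B i (ρ q B i t)) ^ (n + n) * ι t q B i b := by
      rw [← lam_algebraMap, ha, map_mul, map_pow, lam_algebraMap, hb]
    have e2 : ρ q B i a' = (ρ q B i t) ^ n * b * ρ q B i (s' : A) := by
      rw [ρ_apply q B i a', ← hs, map_mul, hα, ← ρ_apply]
    rw [map_mul, map_mul, e1, map_mul, map_mul, e2, map_mul, map_mul, map_pow, map_pow]
    ring
  have h2 : algebraMap A (Localization.AtPrime (q i)) ((s' : A) * a) =
      algebraMap A (Localization.AtPrime (q i)) (t ^ n * a') :=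
    hinjB i (ι_injective t q B i (htB i) h1)
  obtain ⟨c, hc⟩ := (IsLocalization.eq_iff_exists (q i).primeCompl _).mp h2
  refine ⟨(c : A) * (s' : A), ?_, ⟨(c : A) * a', ?_⟩, fun j => smul_mem_range t q B j _ (hxr j)⟩
  · exact fun h => ((hq i).mem_or_mem h).elim c.2 s'.2
  · apply (isUnit_algebraMap_t t).pow n |>.mul_left_cancel
    have : algebraMap A (Localization.Away t) t ^ n *
        (algebraMap A (Localization.Away t) t ^ n * (((c : A) * (s' : A)) • x)) =
        algebraMap A (Localization.Away t) ((c : A) * ((s' : A) * a)) := by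
      rw [Algebra.smul_def]
      simp only [map_mul]
      rw [ha, pow_add]
      ring
    rw [this, hc, map_mul, map_mul, map_mul, map_pow]
    ring


include htB hn in
/-- Every element of `B i` is, up to a factor `s ∉ q i`, the image of an element of `M_n`. -/
theorem exists_mem_Mod
    (hdvd : ∀ i j : Fin r, i ≠ j → ∃ s : A, s ∉ q i ∧ ∃ y : Localization.AtPrime (q j),
      algebraMap A (Localization.AtPrime (q j)) s =
        algebraMap A (Localization.AtPrime (q j)) t ^ n * y)
    (i : Fin r) (b : B i) :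
    ∃ s : A, s ∉ q i ∧ ∃ x ∈ Mod t q B n, lam t q B i x = ι t q B i (ρ q B i s * b) := by
  classical
  obtain ⟨α, hα⟩ := hn i b
  obtain ⟨⟨a', s₁⟩, hs⟩ := IsLocalization.surj (q i).primeCompl α
  simp only at hs
  set invt := IsLocalization.Away.invSelf (S := Localization.Away t) t with hinvt
  set x₀ : Localization.Away t := algebraMap A _ a' * invt ^ n with hx₀
  have htx₀ : algebraMap A (Localization.Away t) t ^ n * x₀ = algebraMap A _ a' := by
    rw [hx₀, mul_comm (algebraMap A (Localization.Away t) a'), ← mul_assoc, ← mul_pow,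
      IsLocalization.Away.mul_invSelf, one_pow, one_mul]
  -- the image of `x₀` in `(B i)_t`
  have hlami : lam t q B i x₀ = ι t q B i (ρ q B i (s₁ : A) * b) := by
    apply ((isUnit_ιρt t q B i).pow n).mul_left_cancel
    have e1 : (ι t q B i (ρ q B i t)) ^ n * lam t q B i x₀ = ι t q B i (ρ q B i a') := by
      rw [← lam_algebraMap, ← map_pow, ← map_mul, htx₀, lam_algebraMap]
    have e2 : ρ q B i a' = (ρ q B i t) ^ n * b * ρ q B i (s₁ : A) := by
      rw [ρ_apply q B i a', ← hs, map_mul, hα, ← ρ_apply]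
    rw [e1, e2, map_mul, map_mul, map_mul, map_pow]
    ring
  -- multipliers for the other indices
  have hex : ∀ j : Fin r, ∃ s : A, s ∉ q i ∧ (j ≠ i → lam t q B j (s • x₀) ∈ (ι t q B j).range) := by
    intro j
    by_cases hji : j = i
    · exact ⟨1, fun h => (hq i).ne_top ((Ideal.eq_top_iff_one _).mpr h), fun h => absurd hji h⟩
    · obtain ⟨s, hs, y, hy⟩ := hdvd i j (Ne.symm hji)
      refine ⟨s, hs, fun _ => ?_⟩
      refine ⟨algebraMap _ (B j) (y * algebraMap A _ a'), ?_⟩
      apply ((isUnit_ιρt t q B j).pow n).mul_left_cancel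
      have e1 : (ι t q B j (ρ q B j t)) ^ n * lam t q B j (s • x₀) =
          ι t q B j (ρ q B j (s * a')) := by
        rw [← lam_algebraMap, ← map_pow, ← map_mul, Algebra.smul_def, mul_left_comm, htx₀,
          ← map_mul, lam_algebraMap]
      have e2 : ρ q B j (s * a') = (ρ q B j t) ^ n *
          algebraMap _ (B j) (y * algebraMap A _ a') := by
        rw [ρ_apply q B j (s * a'), ρ_apply q B j t, map_mul (algebraMap A _), hy]
        simp only [map_mul, map_pow]
        ring
      rw [e1, e2]
      simp only [map_mul, map_pow]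
  choose sj hsj hsj' using hex
  set S₂ : A := ∏ j ∈ Finset.univ.erase i, sj j with hS₂
  have hS₂q : S₂ ∉ q i := by
    rw [hS₂, (hq i).prod_mem_iff]
    push Not
    exact fun j _ => hsj j
  refine ⟨S₂ * (s₁ : A), fun h => ((hq i).mem_or_mem h).elim hS₂q s₁.2, S₂ • x₀, ?_, ?_⟩
  · refine ⟨⟨S₂ * a', ?_⟩, fun j => ?_⟩
    · rw [Algebra.smul_def, mul_left_comm, htx₀, map_mul]
    · by_cases hji : j = i
      · subst hji
        exact smul_mem_range t q B j _ ⟨_, hlami.symm⟩
      · have hmem : j ∈ Finset.univ.erase i := Finset.mem_erase.mpr ⟨hji, Finset.mem_univ _⟩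
        have : S₂ • x₀ = (∏ l ∈ (Finset.univ.erase i).erase j, sj l) • (sj j • x₀) := by
          rw [hS₂, ← Finset.mul_prod_erase _ _ hmem, smul_smul, mul_comm]
        rw [this]
        exact smul_mem_range t q B j _ (hsj' j hji)
  · rw [lam_smul, hlami, ← map_mul, map_mul (ρ q B i), mul_assoc]

end Groth.Agent.Lib.Helper29.GlueC
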