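import Mathlib
import Groth.Agent.Lib.Helper29GlueC

/-!
# Gluing finite extensions at the height-one primes of `V(t)` (helper29), part D

The colon ideal `(M_n : M_{2n})` contains a power of the maximal ideal; the subalgebra
`A + m^c M_n` of `A_t`.
-/

set_option autoImplicit false
set_option linter.style.haveILetI false
set_option linter.unusedSectionVars false

universe u

namespace Groth.Agent.Lib.Helper29.GlueD

open Groth.Agent.Lib.Helper29.GlueA Groth.Agent.Lib.Helper29.GlueC

variable {A : Type u} [CommRing A] [IsNoetherianRing A] [IsLocalRing A]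
  (t : A) {r : ℕ} (q : Fin r → Ideal A)
  [hq : ∀ i, (q i).IsPrime]
  (hV : ∀ p : Ideal A, p.IsPrime → t ∈ p → p = IsLocalRing.maximalIdeal A ∨ ∃ i, p = q i)
  (B : Fin r → Type u) [∀ i, CommRing (B i)] [∀ i, Algebra (Localization.AtPrime (q i)) (B i)]
  (htB : ∀ i, IsSMulRegular (B i) (algebraMap A (Localization.AtPrime (q i)) t))
  (hinjB : ∀ i, Function.Injective (algebraMap (Localization.AtPrime (q i)) (B i)))
  (n : ℕ)
  (hn : ∀ i (b : B i), ∃ α : Localization.AtPrime (q i),
    algebraMap (Localization.AtPrime (q i)) (B i) α = (ρ q B i t) ^ n * b)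

theorem t_pow_smul_mem {x : Localization.Away t} (hx : x ∈ Mod t q B (n + n)) :
    (t ^ n) • x ∈ Mod t q B n := by
  obtain ⟨⟨a, ha⟩, hxr⟩ := hx
  refine ⟨⟨a, ?_⟩, fun j => smul_mem_range t q B j _ (hxr j)⟩
  rw [ha, Algebra.smul_def, map_pow, pow_add, mul_assoc]

include hV htB hinjB hn in
/-- Some power of the maximal ideal multiplies `M_{2n}` into `M_n`. -/
theorem exists_pow_smul_le :
    ∃ c : ℕ, ∀ a ∈ IsLocalRing.maximalIdeal A ^ c, ∀ x ∈ Mod t q B (n + n),
      a • x ∈ Mod t q B n := by
  classical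
  set 𝔞 : Ideal A := (Mod t q B n).colon (Mod t q B (n + n) : Set (Localization.Away t)) with h𝔞
  have hmem : ∀ a : A, a ∈ 𝔞 ↔ ∀ x ∈ Mod t q B (n + n), a • x ∈ Mod t q B n := by
    intro a
    rw [h𝔞, Submodule.mem_colon]
    rfl
  have hrad : IsLocalRing.maximalIdeal A ≤ 𝔞.radical := by
    rw [Ideal.radical_eq_sInf]
    refine le_sInf ?_
    rintro p ⟨h𝔞p, hp⟩
    have htp : t ∈ p := by
      have : t ^ n ∈ p := h𝔞p ((hmem _).mpr fun x hx => t_pow_smul_mem t q B n hx)
      exact hp.mem_of_pow_mem _ this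
    rcases hV p hp htp with h | ⟨i, rfl⟩
    · exact h.ge
    · exfalso
      obtain ⟨S, hS⟩ := Mod_fg t q B (n + n)
      have hex : ∀ x : Localization.Away t, ∃ s : A, s ∉ q i ∧
          (x ∈ Mod t q B (n + n) → s • x ∈ Mod t q B n) := by
        intro x
        by_cases hx : x ∈ Mod t q B (n + n)
        · obtain ⟨s, hs, hsx⟩ := exists_smul_mem_Mod t q B htB hinjB n hn i hx
          exact ⟨s, hs, fun _ => hsx⟩
        · exact ⟨1, fun h => (hq i).ne_top ((Ideal.eq_top_iff_one _).mpr h), fun h => absurd h hx⟩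
      choose sx hsx hsx' using hex
      set s : A := ∏ x ∈ S, sx x with hs
      have hsq : s ∉ q i := by
        rw [hs, (hq i).prod_mem_iff]
        push Not
        exact fun x _ => hsx x
      apply hsq
      apply h𝔞p
      rw [hmem]
      intro x hx
      rw [← hS] at hx
      induction hx using Submodule.span_induction with
      | mem y hy =>
        have hyM : y ∈ Mod t q B (n + n) := by rw [← hS]; exact Submodule.subset_span hy
        have : s • y = (∏ z ∈ S.erase y, sx z) • (sx y • y) := by
          rw [hs, ← Finset.mul_prod_erase _ _ (Finset.mem_coe.mp hy), smul_smul, mul_comm]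
        rw [this]
        exact Submodule.smul_mem _ _ (hsx' y hyM)
      | zero => rw [smul_zero]; exact zero_mem _
      | add y z _ _ hy hz => rw [smul_add]; exact add_mem hy hz
      | smul a y _ hy => rw [smul_comm]; exact Submodule.smul_mem _ _ hy
  obtain ⟨c, hc⟩ := Ideal.exists_pow_le_of_le_radical_of_fg hrad
    (IsNoetherian.noetherian (IsLocalRing.maximalIdeal A))
  exact ⟨c, fun a ha x hx => (hmem a).mp (hc ha) x hx⟩

end Groth.Agent.Lib.Helper29.GlueD
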