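import Mathlib
import Groth.Agent.Lib.Helper29GlueD

/-!
# Gluing finite extensions at the height-one primes of `V(t)` (helper29), part E

The subalgebra `A + m^c M_n ⊆ A_t`, its comparison maps to the `B i`, and the tensor product
isomorphisms.
-/

set_option autoImplicit false
set_option linter.style.haveILetI false
set_option linter.unusedSectionVars false

universe u

namespace Groth.Agent.Lib.Helper29.GlueE

open Groth.Agent.Lib.Helper29.GlueA Groth.Agent.Lib.Helper29.GlueC TensorProduct

variable {A : Type u} [CommRing A] [IsLocalRing A]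
  (t : A) {r : ℕ} (q : Fin r → Ideal A)
  [hq : ∀ i, (q i).IsPrime]
  (B : Fin r → Type u) [∀ i, CommRing (B i)] [∀ i, Algebra (Localization.AtPrime (q i)) (B i)]
  (n c : ℕ)
  (hc : ∀ a ∈ IsLocalRing.maximalIdeal A ^ c, ∀ x ∈ Mod t q B (n + n), a • x ∈ Mod t q B n)

/-- `m^c M_n`. -/
noncomputable def P : Submodule A (Localization.Away t) :=
  (IsLocalRing.maximalIdeal A ^ c) • Mod t q B n

theorem P_le_Mod : P t q B n c ≤ Mod t q B n := Submodule.smul_le_right

include hc in
theorem P_mul_mem {x y : Localization.Away t} (hx : x ∈ P t q B n c) (hy : y ∈ P t q B n c) :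
    x * y ∈ P t q B n c := by
  unfold P at hx hy ⊢
  refine Submodule.smul_induction_on hx ?_ ?_
  · intro a ha x' hx'
    refine Submodule.smul_induction_on hy ?_ ?_
    · intro b hb y' hy'
      have : a • x' * b • y' = a • (b • (x' * y')) := by
        rw [smul_mul_smul_comm, mul_smul]
      rw [this]
      exact Submodule.smul_mem_smul ha (hc b hb _ (mul_mem_Mod t q B hx' hy'))
    · intro y₁ y₂ h₁ h₂
      rw [mul_add]; exact add_mem h₁ h₂
  · intro x₁ x₂ h₁ h₂
    rw [add_mul]; exact add_mem h₁ h₂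

/-- The carrier `A + m^c M_n`. -/
noncomputable def carrier : Submodule A (Localization.Away t) :=
  LinearMap.range (Algebra.linearMap A (Localization.Away t)) ⊔ P t q B n c

theorem carrier_le_Mod : carrier t q B n c ≤ Mod t q B n := by
  refine sup_le ?_ (P_le_Mod t q B n c)
  rintro _ ⟨a, rfl⟩
  exact algebraMap_mem_Mod t q B n a

include hc in
theorem carrier_mul_mem {x y : Localization.Away t} (hx : x ∈ carrier t q B n c)
    (hy : y ∈ carrier t q B n c) : x * y ∈ carrier t q B n c := by
  obtain ⟨_, ⟨a₁, rfl⟩, p₁, hp₁, rfl⟩ := Submodule.mem_sup.mp hx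
  obtain ⟨_, ⟨a₂, rfl⟩, p₂, hp₂, rfl⟩ := Submodule.mem_sup.mp hy
  have : (Algebra.linearMap A (Localization.Away t) a₁ + p₁) *
      (Algebra.linearMap A (Localization.Away t) a₂ + p₂) =
      Algebra.linearMap A (Localization.Away t) (a₁ * a₂) + (a₁ • p₂ + a₂ • p₁ + p₁ * p₂) := by
    simp only [Algebra.linearMap_apply, Algebra.smul_def, map_mul]
    ring
  rw [this]
  refine Submodule.add_mem_sup ⟨_, rfl⟩ ?_
  exact add_mem (add_mem (Submodule.smul_mem _ _ hp₂) (Submodule.smul_mem _ _ hp₁))
    (P_mul_mem t q B n c hc hp₁ hp₂)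

/-- The glued algebra `C = A + m^c M_n`. -/
noncomputable def Csub : Subalgebra A (Localization.Away t) :=
  (carrier t q B n c).toSubalgebra
    (Submodule.mem_sup_left ⟨1, by simp⟩)
    (fun _ _ hx hy => carrier_mul_mem t q B n c hc hx hy)

theorem mem_Csub {x : Localization.Away t} : x ∈ Csub t q B n c hc ↔ x ∈ carrier t q B n c :=
  Iff.rfl

theorem Csub_mem_Mod (x : Csub t q B n c hc) : (x : Localization.Away t) ∈ Mod t q B n :=
  carrier_le_Mod t q B n c x.2

theorem smul_mem_Csub {a : A} (ha : a ∈ IsLocalRing.maximalIdeal A ^ c) {x : Localization.Away t}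
    (hx : x ∈ Mod t q B n) : a • x ∈ Csub t q B n c hc :=
  Submodule.mem_sup_right (Submodule.smul_mem_smul ha hx)

end Groth.Agent.Lib.Helper29.GlueE
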