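import Mathlib
import Groth.Agent.Lib.Helper29GlueE

/-!
# Gluing finite extensions at the height-one primes of `V(t)` (helper29), part F

Comparison maps `σ i : C → B i` and the isomorphisms `A_{q i} ⊗ C ≃ B i`.
-/

set_option autoImplicit false
set_option linter.style.haveILetI false
set_option linter.unusedSectionVars false

universe u

namespace Groth.Agent.Lib.Helper29.GlueF

open Groth.Agent.Lib.Helper29.GlueA Groth.Agent.Lib.Helper29.GlueC
  Groth.Agent.Lib.Helper29.GlueE TensorProduct

variable {A : Type u} [CommRing A] [IsLocalRing A]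
  (t : A) {r : ℕ} (q : Fin r → Ideal A)
  [hq : ∀ i, (q i).IsPrime]
  (B : Fin r → Type u) [∀ i, CommRing (B i)] [∀ i, Algebra (Localization.AtPrime (q i)) (B i)]
  (htB : ∀ i, IsSMulRegular (B i) (algebraMap A (Localization.AtPrime (q i)) t))
  (hinjB : ∀ i, Function.Injective (algebraMap (Localization.AtPrime (q i)) (B i)))
  (n c : ℕ)
  (hc : ∀ a ∈ IsLocalRing.maximalIdeal A ^ c, ∀ x ∈ Mod t q B (n + n), a • x ∈ Mod t q B n)

/-- The element of `B i` corresponding to `x ∈ C`. -/
noncomputable def σfun (i : Fin r) (x : Csub t q B n c hc) : B i :=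
  ((Csub_mem_Mod t q B n c hc x).2 i).choose

theorem ι_σfun (i : Fin r) (x : Csub t q B n c hc) :
    ι t q B i (σfun t q B n c hc i x) = lam t q B i (x : Localization.Away t) :=
  ((Csub_mem_Mod t q B n c hc x).2 i).choose_spec

include htB in
theorem σfun_eq_iff (i : Fin r) (x : Csub t q B n c hc) (b : B i) :
    σfun t q B n c hc i x = b ↔ lam t q B i (x : Localization.Away t) = ι t q B i b := by
  rw [← ι_σfun]
  exact ⟨fun h => by rw [h], fun h => ι_injective t q B i (htB i) h⟩

/-- The comparison ring homomorphism `C → B i`. -/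
noncomputable def σ (i : Fin r) : Csub t q B n c hc →+* B i where
  toFun := σfun t q B n c hc i
  map_one' := by
    rw [σfun_eq_iff t q B htB]
    simp
  map_mul' x y := by
    rw [σfun_eq_iff t q B htB]
    simp only [MulMemClass.coe_mul, map_mul, ι_σfun]
  map_zero' := by
    rw [σfun_eq_iff t q B htB]
    simp
  map_add' x y := by
    rw [σfun_eq_iff t q B htB]
    simp only [AddMemClass.coe_add, map_add, ι_σfun]

theorem ι_σ (i : Fin r) (x : Csub t q B n c hc) :
    ι t q B i (σ t q B htB n c hc i x) = lam t q B i (x : Localization.Away t) :=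
  ι_σfun t q B n c hc i x

theorem σ_algebraMap (i : Fin r) (a : A) :
    σ t q B htB n c hc i (algebraMap A (Csub t q B n c hc) a) = ρ q B i a := by
  apply ι_injective t q B i (htB i)
  rw [ι_σ]
  exact lam_algebraMap t q B i a


/-- Every element of `A_{q i} ⊗ C` is of the form `(1/s) ⊗ x`. -/
theorem exists_smul_eq_one_tmul (i : Fin r)
    (y : Localization.AtPrime (q i) ⊗[A] (Csub t q B n c hc)) :
    ∃ s : A, s ∉ q i ∧ ∃ x : Csub t q B n c hc,
      (algebraMap A (Localization.AtPrime (q i)) s) • y = 1 ⊗ₜ[A] x := by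
  induction y using TensorProduct.induction_on with
  | zero =>
    exact ⟨1, fun h => (hq i).ne_top ((Ideal.eq_top_iff_one _).mpr h), 0, by simp⟩
  | tmul α x =>
    obtain ⟨⟨a, s⟩, hs⟩ := IsLocalization.surj (q i).primeCompl α
    simp only at hs
    refine ⟨s, s.2, a • x, ?_⟩
    rw [TensorProduct.smul_tmul', smul_eq_mul, mul_comm, hs, TensorProduct.tmul_smul,
      TensorProduct.smul_tmul', Algebra.smul_def, mul_one]
  | add y₁ y₂ h₁ h₂ =>
    obtain ⟨s₁, hs₁, x₁, hx₁⟩ := h₁
    obtain ⟨s₂, hs₂, x₂, hx₂⟩ := h₂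
    refine ⟨s₁ * s₂, fun h => ((hq i).mem_or_mem h).elim hs₁ hs₂, s₂ • x₁ + s₁ • x₂, ?_⟩
    rw [smul_add, map_mul, mul_comm, mul_smul, hx₁, mul_comm, mul_smul, hx₂, TensorProduct.tmul_add,
      TensorProduct.tmul_smul, TensorProduct.tmul_smul, algebraMap_smul, algebraMap_smul]


include hinjB in
/-- `A_{q i} ⊗ C ≃ B i`, given that `σ i` is surjective up to elements outside `q i`. -/
theorem nonempty_algEquiv (i : Fin r)
    (hsurj : ∀ b : B i, ∃ s : A, s ∉ q i ∧ ∃ x : Csub t q B n c hc,
      σ t q B htB n c hc i x = ρ q B i s * b) :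
    Nonempty ((Localization.AtPrime (q i) ⊗[A] (Csub t q B n c hc))
      ≃ₐ[Localization.AtPrime (q i)] B i) := by
  letI : Algebra A (B i) := (ρ q B i).toAlgebra
  haveI : IsScalarTower A (Localization.AtPrime (q i)) (B i) :=
    IsScalarTower.of_algebraMap_eq (fun _ => rfl)
  let σA : Csub t q B n c hc →ₐ[A] B i :=
    { σ t q B htB n c hc i with
      commutes' := fun a => σ_algebraMap t q B htB n c hc i a }
  let Φ : (Localization.AtPrime (q i) ⊗[A] (Csub t q B n c hc))
      →ₐ[Localization.AtPrime (q i)] B i :=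
    Algebra.TensorProduct.lift (Algebra.ofId (Localization.AtPrime (q i)) (B i)) σA
      (fun _ _ => Commute.all _ _)
  have hΦ : ∀ (α : Localization.AtPrime (q i)) (x : Csub t q B n c hc),
      Φ (α ⊗ₜ[A] x) = algebraMap _ (B i) α * σ t q B htB n c hc i x := by
    intro α x
    simp only [Φ, Algebra.TensorProduct.lift_tmul]
    rfl
  refine ⟨AlgEquiv.ofBijective Φ ⟨?_, ?_⟩⟩
  · -- injectivity
    rw [injective_iff_map_eq_zero]
    intro y hy
    obtain ⟨s, hs, x, hx⟩ := exists_smul_eq_one_tmul t q B n c hc i y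
    have hσx : σ t q B htB n c hc i x = 0 := by
      have h1 : Φ (algebraMap A (Localization.AtPrime (q i)) s • y) = 0 := by
        rw [map_smul, hy, smul_zero]
      rw [hx, hΦ, map_one, one_mul] at h1
      exact h1
    have hlam : lam t q B i (x : Localization.Away t) = 0 := by
      rw [← ι_σ t q B htB, hσx, map_zero]
    obtain ⟨N, a, hNa⟩ := IsLocalization.Away.surj t (x : Localization.Away t)
    have hρa : ρ q B i a = 0 := by
      apply ι_injective t q B i (htB i)
      rw [← lam_algebraMap, ← hNa, map_mul, hlam, zero_mul, map_zero]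
    have ha0 : algebraMap A (Localization.AtPrime (q i)) a = 0 := by
      apply hinjB i
      rw [map_zero]
      exact hρa
    obtain ⟨s', hs'⟩ := (IsLocalization.map_eq_zero_iff (q i).primeCompl _ a).mp ha0
    have hs'x : (s' : A) • x = 0 := by
      apply Subtype.ext
      show (s' : A) • (x : Localization.Away t) = 0
      apply ((isUnit_algebraMap_t t).pow N).mul_left_eq_zero.mp
      rw [Algebra.smul_def, mul_assoc, hNa, ← map_mul, hs', map_zero]
    have hfin : algebraMap A (Localization.AtPrime (q i)) ((s' : A) * s) • y = 0 := by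
      rw [map_mul, mul_smul, hx, algebraMap_smul, ← TensorProduct.tmul_smul, hs'x,
        TensorProduct.tmul_zero]
    have hunit : IsUnit (algebraMap A (Localization.AtPrime (q i)) ((s' : A) * s)) :=
      IsLocalization.map_units _ (⟨(s' : A) * s, fun h =>
        ((hq i).mem_or_mem h).elim s'.2 hs⟩ : (q i).primeCompl)
    exact hunit.smul_eq_zero.mp hfin
  · -- surjectivity
    intro b
    obtain ⟨s, hs, x, hx⟩ := hsurj b
    have hunit : IsUnit (algebraMap A (Localization.AtPrime (q i)) s) :=
      IsLocalization.map_units _ (⟨s, hs⟩ : (q i).primeCompl)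
    obtain ⟨v, hv⟩ := hunit.exists_left_inv
    refine ⟨v ⊗ₜ[A] x, ?_⟩
    rw [hΦ, hx, ρ_apply, ← mul_assoc, ← map_mul, hv, map_one, one_mul]

end Groth.Agent.Lib.Helper29.GlueF
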