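import Mathlib
import Groth.Prelude.Def_CycAlg
import Groth.Agent.Lib.Helper29GlueB
import Groth.Agent.Lib.Helper29GlueF

/-!
# Gluing finite extensions at the height-one primes of `V(t)` (helper29), part G: main theorem
-/

set_option autoImplicit false
set_option linter.style.haveILetI false
set_option linter.unusedSectionVars false

universe u

namespace Groth.Agent.Lib.Helper29.GlueG

open Groth.Agent.Lib.Helper29.GlueA Groth.Agent.Lib.Helper29.GlueC
  Groth.Agent.Lib.Helper29.GlueE Groth.Agent.Lib.Helper29.GlueF TensorProduct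

theorem main (A : Type u) [CommRing A] [IsNoetherianRing A] [IsLocalRing A]
    (hA : ringKrullDim A = 2) (t : A) (_ht : t ∈ IsLocalRing.maximalIdeal A)
    (htnz : t ∈ nonZeroDivisors A) (r : ℕ) (q : Fin r → Ideal A) (hq : ∀ i, (q i).IsPrime)
    (hinj : Function.Injective q) (hqm : ∀ i, q i ≠ IsLocalRing.maximalIdeal A)
    (htq : ∀ i, t ∈ q i)
    (hV : ∀ p : Ideal A, p.IsPrime → t ∈ p → p = IsLocalRing.maximalIdeal A ∨ ∃ i, p = q i)
    (B : Fin r → Type u) [∀ i, CommRing (B i)] [∀ i, Algebra (Localization.AtPrime (q i)) (B i)]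
    (hB : ∀ i, CycAlg.IsFinExt (Localization.AtPrime (q i)) (B i)
      (Ideal.span {algebraMap A (Localization.AtPrime (q i)) t}))
    (htB : ∀ i, IsSMulRegular (B i) (algebraMap A (Localization.AtPrime (q i)) t)) :
    ∃ (C : Type u) (_ : CommRing C) (_ : Algebra A C), CycAlg.IsFinExt A C (Ideal.span {t}) ∧
      ∀ i, Nonempty (TensorProduct A (Localization.AtPrime (q i)) C
        ≃ₐ[Localization.AtPrime (q i)] B i) := by
  classical
  have hinjB : ∀ i, Function.Injective (algebraMap (Localization.AtPrime (q i)) (B i)) :=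
    fun i => (hB i).1
  -- a uniform exponent
  have hexn : ∀ i, ∃ k : ℕ, ∀ x ∈ Ideal.span {algebraMap A (Localization.AtPrime (q i)) t} ^ k,
      ∀ b : B i, x • b ∈ (algebraMap (Localization.AtPrime (q i)) (B i)).range :=
    fun i => (hB i).2.2
  choose nB hnB using hexn
  set n : ℕ := Finset.univ.sup nB with hndef
  have hn : ∀ i (b : B i), ∃ α : Localization.AtPrime (q i),
      algebraMap (Localization.AtPrime (q i)) (B i) α = (ρ q B i t) ^ n * b := by
    intro i b
    have hle : nB i ≤ n := Finset.le_sup (Finset.mem_univ i)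
    have hmem : algebraMap A (Localization.AtPrime (q i)) t ^ n ∈
        Ideal.span {algebraMap A (Localization.AtPrime (q i)) t} ^ nB i := by
      rw [← Nat.sub_add_cancel hle, pow_add]
      exact Ideal.mul_mem_left _ _
        (Ideal.pow_mem_pow (Ideal.subset_span (Set.mem_singleton _)) _)
    obtain ⟨α, hα⟩ := hnB i _ hmem b
    refine ⟨α, ?_⟩
    rw [hα, Algebra.smul_def, map_pow]
    rfl
  have hA' : ringKrullDim A ≤ 2 := hA.le
  have hdvd : ∀ i j : Fin r, i ≠ j → ∃ s : A, s ∉ q i ∧ ∃ y : Localization.AtPrime (q j),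
      algebraMap A (Localization.AtPrime (q j)) s =
        algebraMap A (Localization.AtPrime (q j)) t ^ n * y :=
    fun i j hij => Groth.Agent.Lib.Helper29.GlueB.exists_notMem_dvd hA' t htnz q hinj hqm htq hV
      hij n
  obtain ⟨c, hc⟩ := Groth.Agent.Lib.Helper29.GlueD.exists_pow_smul_le t q hV B htB hinjB n hn
  refine ⟨Csub t q B n c hc, inferInstance, inferInstance, ⟨?_, ?_, n, ?_⟩, fun i => ?_⟩
  · -- injectivity of `A → C`
    have hAt : Function.Injective (algebraMap A (Localization.Away t)) :=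
      IsLocalization.injective _ (Submonoid.powers_le.mpr htnz)
    intro a b hab
    apply hAt
    exact congr_arg Subtype.val hab
  · -- finiteness
    have hle : (Subalgebra.toSubmodule (Csub t q B n c hc)) ≤ LinearMap.range (ell t n) :=
      (carrier_le_Mod t q B n c).trans (Mod_le_range_ell t q B n)
    exact (Module.Finite.iff_fg (N := Subalgebra.toSubmodule (Csub t q B n c hc))).mpr
      (fg_of_le_range_ell t n _ hle)
  · -- `tⁿ C ⊆ A`
    intro x hx b
    rw [Ideal.span_singleton_pow, Ideal.mem_span_singleton'] at hx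
    obtain ⟨a, rfl⟩ := hx
    obtain ⟨⟨a₀, ha₀⟩, -⟩ := Csub_mem_Mod t q B n c hc b
    refine ⟨a * a₀, ?_⟩
    apply Subtype.ext
    show algebraMap A (Localization.Away t) (a * a₀) = (a * t ^ n) • (b : Localization.Away t)
    rw [map_mul, ha₀, Algebra.smul_def, map_mul, map_pow, mul_assoc]
  · -- the tensor product
    refine nonempty_algEquiv t q B htB hinjB n c hc i ?_
    intro b
    obtain ⟨s, hs, x, hx, hlam⟩ := exists_mem_Mod t q B htB n hn hdvd i b
    obtain ⟨z, hzm, hzq⟩ :=
      Groth.Agent.Lib.Helper29.GlueB.exists_mem_maximalIdeal_notMem q hqm i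
    have hzc : z ^ c ∈ IsLocalRing.maximalIdeal A ^ c := Ideal.pow_mem_pow hzm c
    refine ⟨z ^ c * s, fun h => ((hq i).mem_or_mem h).elim
      (fun h' => hzq ((hq i).mem_of_pow_mem _ h')) hs,
      ⟨(z ^ c) • x, smul_mem_Csub t q B n c hc hzc hx⟩, ?_⟩
    apply ι_injective t q B i (htB i)
    rw [ι_σ]
    show lam t q B i ((z ^ c) • x) = _
    rw [lam_smul, hlam, ← map_mul, map_mul (ρ q B i), mul_assoc]

end Groth.Agent.Lib.Helper29.GlueG
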