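import Mathlib
import Groth.Agent.Lib.Helper29GorAnn
import Groth.Agent.Lib.Helper8Matlis
import Groth.Agent.S5170

/-! Finite length of `H^i_m(M)` over a homomorphic image of a Gorenstein local ring, in terms of
vanishing of shifted local cohomology of the stalks at non-maximal primes (helper29). -/

set_option autoImplicit false
universe u
open CategoryTheory CategoryTheory.Abelian IsLocalRing

namespace Groth.Agent.Lib.Helper29.GorFinLen
open Groth.Agent.Lib.Helper8.ExtLES Groth.Agent.Lib.Helper8.Bridge Groth.Agent.Lib.Helper8.LC
  Groth.Agent.Lib.Helper8.ExtRep Groth.Agent.Lib.Helper8.LocDual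
  Groth.Agent.Lib.Helper29.GorHull Groth.Agent.Lib.Helper29.GorAnn

variable {R A : Type u} [CommRing R] [hR : LocCoh.IsGorensteinLocalRing R] [CommRing A]
  [IsLocalRing A] [IsNoetherianRing A] [Algebra R A]
  (hπ : Function.Surjective (algebraMap R A))
  (M : Type u) [AddCommGroup M] [Module A M] [Module R M] [IsScalarTower R A M]
  [Module.Finite A M] (r : ℕ) (hr : ringKrullDim R = r)

include hπ hr in
/-- `H^i_m(M)` has finite length iff it is killed by a power of the maximal ideal. -/
theorem isFiniteLength_iff_le_radical (i : ℕ) :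
    IsFiniteLength A (LocCoh.H (maximalIdeal A) i M) ↔
      maximalIdeal A ≤ (Module.annihilator A (LocCoh.H (maximalIdeal A) i M)).radical := by
  have hRA : Module.Finite R A := Module.Finite.of_surjective (Algebra.linearMap R A) hπ
  have hRM : Module.Finite R M := Module.Finite.trans A M
  constructor
  · intro h
    obtain ⟨k, hk⟩ := Groth.Agent.Lib.Helper8.Matlis.exists_pow_smul_eq_zero_of_isFiniteLength _ h
    intro a ha
    refine ⟨k, ?_⟩
    rw [Module.mem_annihilator]
    exact hk _ (Ideal.pow_mem_pow ha k)
  · intro h
    obtain ⟨φ, hφ⟩ := exists_semilinear hπ M i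
    by_cases hlt : r < i
    · have hsub : Subsingleton (LocCoh.H (maximalIdeal R) i M) :=
        Groth.Agent.S0325.result R (maximalIdeal R) r hr.le M i hlt
      have : Subsingleton (LocCoh.H (maximalIdeal A) i M) := φ.toEquiv.subsingleton
      exact IsFiniteLength.of_subsingleton
    · obtain ⟨k, hk⟩ := Ideal.exists_pow_le_of_le_radical_of_fg h
        (IsNoetherian.noetherian (maximalIdeal A))
      let _ : Module R (LocCoh.H (maximalIdeal A) i M) :=
        Module.compHom (LocCoh.H (maximalIdeal A) i M) (algebraMap R A)
      have hst : IsScalarTower R A (LocCoh.H (maximalIdeal A) i M) :=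
        IsScalarTower.of_algebraMap_smul (fun c x => rfl)
      let φl : LocCoh.H (maximalIdeal A) i M ≃ₗ[R] LocCoh.H (maximalIdeal R) i M :=
        { φ with map_smul' := fun c x => hφ c x }
      obtain ⟨e⟩ := duality_gorenstein R r hr M i (by omega)
      obtain ⟨f', hf'⟩ := exists_isInjectiveHull_of_gorenstein R r hr
      have hX0 : Module.Finite R (Ext.{u} (ModuleCat.of R M) (ModuleCat.of R R) (r - i)) :=
        ModuleCat.finite_ext R (ModuleCat.of R M) (ModuleCat.of R R) (r - i)
      have hX : Module.Finite R (E (r - i) (ModuleCat.of R M) (ModuleCat.of R R)) :=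
        Module.Finite.equiv (Ψ (r - i) (ModuleCat.of R M) (ModuleCat.of R R)).symm
      -- `m_R^k` kills `H_R`
      have hkR : ∀ c ∈ maximalIdeal R ^ k, ∀ y : LocCoh.H (maximalIdeal R) i M, c • y = 0 := by
        intro c hc y
        obtain ⟨x, rfl⟩ := φ.surjective y
        rw [← hφ]
        have hcA : algebraMap R A c ∈ maximalIdeal A ^ k := by
          rw [← Groth.Agent.Lib.Helper8.FinLen.map_maximalIdeal hπ, ← Ideal.map_pow]
          exact Ideal.mem_map_of_mem _ hc
        rw [Module.mem_annihilator.mp (hk hcA) x, map_zero]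
      -- hence kills `X`
      have hkX : ∀ c ∈ maximalIdeal R ^ k,
          ∀ x : E (r - i) (ModuleCat.of R M) (ModuleCat.of R R), c • x = 0 := by
        intro c hc
        have h1 : c ∈ Module.annihilator R
            (E (r - i) (ModuleCat.of R M) (ModuleCat.of R R) →ₗ[R] Hn R r) := by
          rw [Module.mem_annihilator]
          intro lam
          apply e.symm.injective
          rw [map_smul, map_zero]
          exact hkR c hc _
        rw [← ((Groth.Agent.S11681.result R (Hn R r) f' hf').1
          (E (r - i) (ModuleCat.of R M) (ModuleCat.of R R))).2] at h1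
        exact Module.mem_annihilator.mp h1
      have hflX : IsFiniteLength R (E (r - i) (ModuleCat.of R M) (ModuleCat.of R R)) :=
        Groth.Agent.Lib.Helper8.RegHull.isFiniteLength_of_finite_of_pow_smul _ k hkX
      have hflD : IsFiniteLength R
          (E (r - i) (ModuleCat.of R M) (ModuleCat.of R R) →ₗ[R] Hn R r) := by
        rw [← Module.length_ne_top_iff, Groth.Agent.S5170.result R (Hn R r) f' hf' _ hflX,
          Module.length_ne_top_iff]
        exact hflX
      have hflR : IsFiniteLength R (LocCoh.H (maximalIdeal A) i M) :=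
        (Groth.Agent.Lib.Helper8.FinLen.isFiniteLength_congr φl).mpr
          ((Groth.Agent.Lib.Helper8.FinLen.isFiniteLength_congr e).mpr hflD)
      rw [isFiniteLength_iff_isNoetherian_isArtinian] at hflR ⊢
      exact ⟨isNoetherian_of_tower R hflR.1, isArtinian_of_tower R hflR.2⟩

include hπ hr in
/-- Finite length of `H^i_m(M)` in terms of vanishing of shifted local cohomology of stalks. -/
theorem finiteLength_iff (i : ℕ) :
    IsFiniteLength A (LocCoh.H (maximalIdeal A) i M) ↔
      ∀ p : PrimeSpectrum A, p.asIdeal ≠ maximalIdeal A → ∀ (e j : ℕ),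
        ringKrullDim (A ⧸ p.asIdeal) = e → j + e = i →
        Subsingleton (LocCoh.H (maximalIdeal (Localization.AtPrime p.asIdeal)) j
          (LocalizedModule p.asIdeal.primeCompl M)) := by
  rw [isFiniteLength_iff_le_radical hπ M r hr i, annihilator_iff hπ M r hr (maximalIdeal A) i]
  have key : ∀ p : PrimeSpectrum A, ¬ maximalIdeal A ≤ p.asIdeal ↔ p.asIdeal ≠ maximalIdeal A := by
    intro p
    constructor
    · intro h1 h2
      exact h1 h2.ge
    · intro h1 h2
      exact h1 (le_antisymm (IsLocalRing.le_maximalIdeal p.2.ne_top) h2)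
  constructor
  · intro h p hp
    exact h p ((key p).mpr hp)
  · intro h p hp
    exact h p ((key p).mp hp)

end Groth.Agent.Lib.Helper29.GorFinLen
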