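import Mathlib
import Groth.Prelude.Def_CAlg
import Groth.Agent.Lib.Helper28Hypersurface
import Groth.Agent.Lib.Helper5GorRing
import Groth.Agent.S0343

set_option autoImplicit false
set_option linter.style.haveILetI false
universe u

namespace Groth.Agent.Lib.Helper29GorLocQuot

open Groth.Agent.Lib.Helper28 IsLocalRing LocCoh Groth.Agent.Lib.Helper5.GorRing

theorem gor_congr_ideal {R : Type u} [CommRing R] {q1 q2 : Ideal R}
    [q1.IsPrime] [q2.IsPrime] (h : q1 = q2) :
    IsGorensteinLocalRing (Localization.AtPrime q1) ↔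
      IsGorensteinLocalRing (Localization.AtPrime q2) := by
  subst h
  rfl

/-- If `B/(x)` is a Gorenstein ring for a non-zero-divisor `x`, then `B_Q` is Gorenstein for all
primes `Q` containing `x`. -/
theorem gorLocal_localization_of_quotient_span_singleton {B : Type u}
    [CommRing B] [IsNoetherianRing B] (x : B) (hx : x ∈ nonZeroDivisors B)
    (hG : IsGorensteinRing (B ⧸ Ideal.span {x})) (Q : Ideal B) [hQ : Q.IsPrime]
    (hxQ : x ∈ Q) : IsGorensteinLocalRing (Localization.AtPrime Q) := by
  have hle : Ideal.span {x} ≤ Q := (Ideal.span_singleton_le_iff_mem _).mpr hxQ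
  have hQb : (Q.map (Ideal.Quotient.mk (Ideal.span {x}))).IsPrime :=
    Ideal.map_isPrime_of_surjective Ideal.Quotient.mk_surjective (by rwa [Ideal.mk_ker])
  have hcm : (Q.map (Ideal.Quotient.mk (Ideal.span {x}))).comap
      (Ideal.Quotient.mk (Ideal.span {x})) = Q := by
    rw [Ideal.comap_map_of_surjective _ Ideal.Quotient.mk_surjective, ← RingHom.ker_eq_comap_bot,
      Ideal.mk_ker]
    exact sup_eq_left.mpr hle
  have hcp : ((Q.map (Ideal.Quotient.mk (Ideal.span {x}))).comap
      (Ideal.Quotient.mk (Ideal.span {x}))).IsPrime := Ideal.comap_isPrime _ _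
  rw [← gor_congr_ideal hcm]
  generalize Q.map (Ideal.Quotient.mk (Ideal.span {x})) = Qb at hQb hcm hcp ⊢
  have e1 := localizationQuotientEquiv (Ideal.span {x}) Qb
  have hR0 : IsGorensteinLocalRing (Localization.AtPrime Qb) :=
    hG.isGorensteinLocalRing_localization Qb
  have hmap : (Ideal.span {x}).map (algebraMap B (Localization.AtPrime
      (Qb.comap (Ideal.Quotient.mk (Ideal.span {x}))))) =
      Ideal.span {algebraMap B (Localization.AtPrime
        (Qb.comap (Ideal.Quotient.mk (Ideal.span {x})))) x} := by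
    rw [Ideal.map_span, Set.image_singleton]
  have e2 := Ideal.quotEquivOfEq hmap
  have hR2 : IsGorensteinLocalRing (Localization.AtPrime
      (Qb.comap (Ideal.Quotient.mk (Ideal.span {x}))) ⧸
      Ideal.span {algebraMap B (Localization.AtPrime
        (Qb.comap (Ideal.Quotient.mk (Ideal.span {x})))) x}) :=
    gorLocal_of_ringEquiv (e1.trans e2)
  have hxm : algebraMap B (Localization.AtPrime (Qb.comap (Ideal.Quotient.mk (Ideal.span {x})))) x
      ∈ IsLocalRing.maximalIdeal _ := by
    rw [← Localization.AtPrime.map_eq_maximalIdeal]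
    apply Ideal.mem_map_of_mem
    rw [hcm]
    exact hxQ
  have hreg0 : IsSMulRegular B x := Module.Flat.isSMulRegular_of_nonZeroDivisors hx
  have hxreg : IsSMulRegular (Localization.AtPrime
      (Qb.comap (Ideal.Quotient.mk (Ideal.span {x}))))
      (algebraMap B (Localization.AtPrime
        (Qb.comap (Ideal.Quotient.mk (Ideal.span {x})))) x) := hreg0.of_flat
  exact (Groth.Agent.S0343.result _ _ hxm hxreg).mpr hR2

end Groth.Agent.Lib.Helper29GorLocQuot
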