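import Groth.Agent.Lib.Helper29GrConv

/-! Graded local cohomology computed from a *injective resolution is unchanged, with its degrees,
when gradings valued in a `SetLike` class are converted to `AddSubgroup`-valued ones (helper29). -/

set_option autoImplicit false
set_option linter.style.haveILetI false
set_option linter.unusedSectionVars false
open DirectSum

noncomputable section

namespace Groth.Agent.Lib.Helper29.GrASH

open Groth.Agent.Lib.Helper29GrConv

universe u

variable {ι : Type} [AddCommGroup ι] [DecidableEq ι]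
variable {R : Type u} [CommRing R] {σ : Type u} [SetLike σ R] [AddSubgroupClass σ R]
variable {𝒜 : ι → σ} [GradedRing 𝒜]
variable {M : Type u} [AddCommGroup M] [Module R M] {τ : Type u} [SetLike τ M]
  [AddSubgroupClass τ M] {ℳ : ι → τ} [DirectSum.Decomposition ℳ] [SetLike.GradedSMul 𝒜 ℳ]
variable (E : GrLC.StarInjRes 𝒜 ℳ) (a : HomogeneousIdeal 𝒜) (n : ℕ)

/-- The identification of graded local cohomology before and after conversion. -/
def asH : E.H a n ≃ₗ[R] (resAS E).H (idealAS 𝒜 a) n :=
  Submodule.quotEquivOfEq _ _ (by rw [cobdy_resAS]; rfl)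

theorem asH_toH (z : E.cocyc a n) : asH E a n (E.toH a n z) = (resAS E).toH (idealAS 𝒜 a) n z := rfl

theorem asH_mem_Hgr (g : ι) (h : E.H a n) (hh : h ∈ E.Hgr a n g) :
    asH E a n h ∈ (resAS E).Hgr (idealAS 𝒜 a) n g := by
  obtain ⟨z, hz, rfl⟩ := hh
  exact ⟨z, hz, rfl⟩

theorem asH_symm_mem_Hgr (g : ι) (h : (resAS E).H (idealAS 𝒜 a) n)
    (hh : h ∈ (resAS E).Hgr (idealAS 𝒜 a) n g) : (asH E a n).symm h ∈ E.Hgr a n g := by
  obtain ⟨z, hz, rfl⟩ := hh
  refine ⟨z, hz, ?_⟩
  apply (asH E a n).injective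
  rw [LinearEquiv.apply_symm_apply]
  rfl

end Groth.Agent.Lib.Helper29.GrASH
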