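import Groth.Agent.Lib.Helper29GrEss

/-! Homogeneous elements with prime annihilator in a graded module over a Noetherian
ring graded by a finitely generated free abelian group (helper29). -/

set_option autoImplicit false
open DirectSum

namespace Groth.Agent.Lib.Helper29GrAss

open Groth.Agent.Lib.Helper29GrHom Groth.Agent.Lib.Helper29GrEss

universe u

theorem isPrime_of_homogeneous_mem_or_mem' {ι : Type} [AddCommGroup ι] [dec : DecidableEq ι]
    [Module.Free ℤ ι] [Module.Finite ℤ ι] {R : Type*} [CommRing R] (𝒜 : ι → AddSubgroup R)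
    [GradedRing 𝒜] {I : Ideal R} (hI : I.IsHomogeneous 𝒜) (hne : I ≠ ⊤)
    (h : ∀ {x y : R}, SetLike.IsHomogeneousElem 𝒜 x → SetLike.IsHomogeneousElem 𝒜 y →
      x * y ∈ I → x ∈ I ∨ y ∈ I) :
    I.IsPrime := by
  let b := Module.finBasis ℤ ι
  let φ : ι → Lex (Fin (Module.finrank ℤ ι) → ℤ) := fun x => toLex (b.equivFun x)
  have hφ : Function.Injective φ := fun x y hxy => b.equivFun.injective (toLex.injective hxy)
  letI LO : LinearOrder ι := LinearOrder.lift' φ hφ
  obtain rfl : dec = LO.toDecidableEq := Subsingleton.elim _ _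
  haveI : IsOrderedCancelAddMonoid ι :=
    Function.Injective.isOrderedCancelAddMonoid φ (fun x y => by simp [φ]) Iff.rfl
  exact hI.isPrime_of_homogeneous_mem_or_mem hne h

variable {ι : Type} [AddCommGroup ι] [DecidableEq ι] [Module.Free ℤ ι] [Module.Finite ℤ ι]
variable {R : Type u} [CommRing R] [IsNoetherianRing R] (𝒜 : ι → AddSubgroup R) [GradedRing 𝒜]
variable {I : Type u} [AddCommGroup I] [Module R I] (ℐ : ι → AddSubgroup I)
  [DirectSum.Decomposition ℐ] [SetLike.GradedSMul 𝒜 ℐ]

include 𝒜 in
theorem annihilator_span_singleton_isHomogeneous {g₀ : ι} {m : I} (hm : m ∈ ℐ g₀) :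
    ((Submodule.span R {m}).annihilator).IsHomogeneous 𝒜 := by
  intro d r hr
  rw [Submodule.mem_annihilator_span_singleton] at hr ⊢
  have := decompose_smul_of_mem_right 𝒜 ℐ hm r (d + g₀)
  rw [hr, DirectSum.decompose_zero, add_sub_cancel_right] at this
  exact this.symm

theorem exists_homogeneous_prime_annihilator [Nontrivial I] :
    ∃ (g₀ : ι) (m : I), m ∈ ℐ g₀ ∧ m ≠ 0 ∧ (Submodule.span R {m}).annihilator.IsPrime ∧
      ((Submodule.span R {m}).annihilator).IsHomogeneous 𝒜 := by
  classical
  let S : Set (Ideal R) := {J | ∃ (g : ι) (y : I), y ∈ ℐ g ∧ y ≠ 0 ∧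
    J = (Submodule.span R {y}).annihilator}
  have hSne : S.Nonempty := by
    obtain ⟨x, hx⟩ := exists_ne (0 : I)
    obtain ⟨d, hd⟩ := exists_component_ne_zero ℐ hx
    exact ⟨_, d, _, SetLike.coe_mem _, hd, rfl⟩
  obtain ⟨q, ⟨g₀, m, hm, hm0, rfl⟩, hmax⟩ :=
    set_has_maximal_iff_noetherian.mpr (inferInstance : IsNoetherian R R) S hSne
  have hhom := annihilator_span_singleton_isHomogeneous 𝒜 ℐ hm
  refine ⟨g₀, m, hm, hm0, ?_, hhom⟩
  apply isPrime_of_homogeneous_mem_or_mem' 𝒜 hhom
  · intro htop
    apply hm0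
    have : (1 : R) ∈ (Submodule.span R {m}).annihilator := by rw [htop]; trivial
    rw [Submodule.mem_annihilator_span_singleton, one_smul] at this
    exact this
  · rintro x y ⟨i, hx⟩ ⟨j, hy⟩ hxy
    by_cases hyq : y ∈ (Submodule.span R {m}).annihilator
    · exact Or.inr hyq
    · left
      rw [Submodule.mem_annihilator_span_singleton] at hyq
      have hym : y • m ∈ ℐ (j + g₀) :=
        SetLike.GradedSMul.smul_mem (A := 𝒜) (B := ℐ) (i := j) (j := g₀) hy hm
      have hJ' : (Submodule.span R {y • m}).annihilator ∈ S := ⟨_, _, hym, hyq, rfl⟩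
      have hle : (Submodule.span R {m}).annihilator ≤ (Submodule.span R {y • m}).annihilator := by
        intro r hr
        rw [Submodule.mem_annihilator_span_singleton] at hr ⊢
        rw [smul_comm, hr, smul_zero]
      have hnlt := hmax _ hJ'
      have heq : (Submodule.span R {y • m}).annihilator ≤ (Submodule.span R {m}).annihilator := by
        by_contra hcon
        exact hnlt (lt_of_le_not_ge hle hcon)
      apply heq
      rw [Submodule.mem_annihilator_span_singleton, smul_smul]
      rw [Submodule.mem_annihilator_span_singleton] at hxy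
      exact hxy

end Groth.Agent.Lib.Helper29GrAss
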