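import Groth.Agent.Lib.Helper29GrCompare

/-! Comparison theorem over a homogeneous map: a homogeneous map `f : M' → M` lifts to a
homogeneous chain map between *injective resolutions (helper29). -/

set_option autoImplicit false
set_option linter.style.haveILetI false
set_option linter.unusedSectionVars false
open DirectSum

namespace Groth.Agent.Lib.Helper29GrCompareMap

open Groth.Agent.Lib.Helper29GrCompare

universe u

variable {κ : Type} [AddCommGroup κ] [DecidableEq κ]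
variable {R : Type u} [CommRing R] {𝒜 : κ → AddSubgroup R} [GradedRing 𝒜]
variable {M' : Type u} [AddCommGroup M'] [Module R M'] {ℳ' : κ → AddSubgroup M'}
  [DirectSum.Decomposition ℳ'] [SetLike.GradedSMul 𝒜 ℳ']
variable {M : Type u} [AddCommGroup M] [Module R M] {ℳ : κ → AddSubgroup M}
  [DirectSum.Decomposition ℳ] [SetLike.GradedSMul 𝒜 ℳ]

theorem exists_comparison_over (E' : GrLC.StarInjRes 𝒜 ℳ') (E : GrLC.StarInjRes 𝒜 ℳ)
    (f : M' →ₗ[R] M) (hf : GrLC.IsGrHom ℳ' ℳ f) :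
    ∃ φ : ∀ n, (E'.X n).carrier →ₗ[R] (E.X n).carrier,
      (∀ n, GrLC.IsGrHom (E'.X n).gr (E.X n).gr (φ n)) ∧
      (∀ m' : M', φ 0 (E'.ε m') = E.ε (f m')) ∧
      ∀ (n : ℕ) (x : (E'.X n).carrier), φ (n + 1) (E'.d n x) = E.d n (φ n x) := by
  have hker : LinearMap.ker E'.ε ≤ LinearMap.ker (E.ε ∘ₗ f) := by
    intro m hm
    rw [LinearMap.mem_ker] at hm
    have : m = 0 := E'.ε_injective (by rw [hm, map_zero])
    rw [this]
    exact zero_mem _
  have hγ : GrLC.IsGrHom ℳ' (E.X 0).gr (E.ε ∘ₗ f) :=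
    fun k x hx => E.ε_grHom k _ (hf k x hx)
  obtain ⟨h, hh, hhε⟩ := exists_extension 𝒜 (E'.X 0) (E.X 0) ℳ' (E.starInj 0) E'.ε E'.ε_grHom
    (E.ε ∘ₗ f) hγ hker
  have hkills : ∀ x : (E'.X 0).carrier, E'.d 0 x = 0 → E.d 0 (h x) = 0 := by
    intro x hx
    have hx' : x ∈ LinearMap.range E'.ε := by rw [← E'.exact_zero]; exact hx
    obtain ⟨m, rfl⟩ := hx'
    rw [hhε m]
    exact E_d_ε 𝒜 ℳ E (f m)
  let s0 : Stage 𝒜 ℳ E'.X E'.d E 0 := ⟨h, hh, hkills⟩
  choose next hnext using exists_stage_succ 𝒜 ℳ E'.X E'.d E'.d_grHom E'.exact_succ E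
  let S : ∀ n, Stage 𝒜 ℳ E'.X E'.d E n := fun n => Nat.rec s0 (fun n s => next n s) n
  refine ⟨fun n => (S n).θ, fun n => (S n).hom, hhε, fun n x => ?_⟩
  exact hnext n (S n) x

end Groth.Agent.Lib.Helper29GrCompareMap
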