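import Groth.Agent.Lib.Helper29GrCMEnd
import Groth.Agent.Lib.Helper29GrCompareMap

/-! Graded local cohomology of `M/xM` for a homogeneous element `x` whose annihilator in `M` has
no higher local cohomology (e.g. has finite length): vanishing of `H^i(M)_γ` and
`H^{i+1}(M)_{γ-e}` forces vanishing of `H^i(M/xM)_γ` (helper29). -/

set_option autoImplicit false
set_option linter.style.haveILetI false
set_option linter.unusedSectionVars false
open DirectSum

noncomputable section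

namespace Groth.Agent.Lib.Helper29GrWeakReg

open Groth.Agent.Lib.Helper29GrShift Groth.Agent.Lib.Helper29GrShiftInj
  Groth.Agent.Lib.Helper29GrResCompare Groth.Agent.Lib.Helper29GrConeLES
  Groth.Agent.Lib.Helper29GrMulLES Groth.Agent.Lib.Helper29GrQuot Groth.Agent.Lib.Helper29GrSub
  Groth.Agent.Lib.Helper29GrEss Groth.Agent.Lib.Helper29GrCompareMap
  Groth.Agent.Lib.Helper29GrCMEnd Groth.Agent.Lib.Helper29GrRes

universe u

variable {R : Type u} [CommRing R] [IsNoetherianRing R] {𝒜 : ℤ → AddSubgroup R} [GradedRing 𝒜]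
  (a : HomogeneousIdeal 𝒜)
variable {M : Type u} [AddCommGroup M] [Module R M] {ℳ : ℤ → AddSubgroup M}
  [DirectSum.Decomposition ℳ] [SetLike.GradedSMul 𝒜 ℳ]

theorem torsionBy_isHomogeneous {x : R} {e : ℤ} (hx : x ∈ 𝒜 e) :
    (Submodule.torsionBy R M x).IsHomogeneous ℳ := by
  intro γ m hm
  rw [Submodule.mem_torsionBy_iff] at hm ⊢
  have h := decompose_smul_of_mem 𝒜 ℳ hx m (γ + e)
  rw [hm, DirectSum.decompose_zero, add_sub_cancel_right] at h
  exact h.symm

/-- Killing a homogeneous submodule without higher local cohomology preserves vanishing of a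
graded piece of local cohomology. -/
theorem Hcomp_quot_eq_bot (P : Submodule R M) (hP : P.IsHomogeneous ℳ)
    (hPv : ∀ j : ℕ, 1 ≤ j → ∀ y : LocCoh.H a.toIdeal j ↥P, y = 0)
    (E : GrLC.StarInjRes 𝒜 ℳ)
    [DirectSum.Decomposition (quotGr ℳ P)] [SetLike.GradedSMul 𝒜 (quotGr ℳ P)]
    (G : GrLC.StarInjRes 𝒜 (quotGr ℳ P)) (n : ℕ) (γ : ℤ) (h : E.Hcomp a n γ = ⊥) :
    G.Hcomp a n γ = ⊥ := by
  letI : DirectSum.Decomposition (subGr ℳ P) := subDecomposition ℳ P hP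
  letI : SetLike.GradedSMul 𝒜 (subGr ℳ P) := sub_gradedSMul ℳ P 𝒜
  let EP : GrLC.StarInjRes 𝒜 (subGr ℳ P) := starInjRes 𝒜 (subGr ℳ P)
  obtain ⟨φ, hφ, hφ0, hφd⟩ := exists_comparison_over EP E P.subtype (fun g m hm => hm)
  have hg : GrLC.IsGrHom ℳ (quotGr ℳ P) P.mkQ := fun g m hm => ⟨m, hm, rfl⟩
  exact T1 EP E P.subtype P.mkQ φ (Submodule.injective_subtype P) (Submodule.mkQ_surjective P)
    (by rw [Submodule.ker_mkQ, Submodule.range_subtype]) hg hφ hφ0 hφd a G n γ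
    (Hcomp_eq_bot_of_H_eq_zero a EP (n + 1) (hPv (n + 1) (Nat.le_add_left 1 n)) γ) h

variable {N : Type u} [AddCommGroup N] [Module R N] {𝒩 : ℤ → AddSubgroup N}
  [DirectSum.Decomposition 𝒩] [SetLike.GradedSMul 𝒜 𝒩]

/-- `H^i(M)_γ = 0` and `H^{i+1}(M)_{γ-e} = 0` imply `H^i(M/xM)_γ = 0`, for `x` homogeneous of
degree `e` whose annihilator in `M` has no higher local cohomology. -/
theorem Hcomp_quot_smul_eq_bot (x : R) (e : ℤ) (hx : x ∈ 𝒜 e)
    (hK : ∀ j : ℕ, 1 ≤ j → ∀ y : LocCoh.H a.toIdeal j ↥(Submodule.torsionBy R M x), y = 0)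
    (π : M →ₗ[R] N) (hπs : Function.Surjective π) (hπg : GrLC.IsGrHom ℳ 𝒩 π)
    (hker : LinearMap.ker π = LinearMap.range (x • (LinearMap.id : M →ₗ[R] M)))
    (E : GrLC.StarInjRes 𝒜 ℳ) (F : GrLC.StarInjRes 𝒜 𝒩) (i : ℕ) (γ : ℤ)
    (h1 : E.Hcomp a i γ = ⊥) (h2 : E.Hcomp a (i + 1) (γ - e) = ⊥) : F.Hcomp a i γ = ⊥ := by
  have hKhom : (Submodule.torsionBy R M x).IsHomogeneous ℳ := torsionBy_isHomogeneous hx
  letI : DirectSum.Decomposition (quotGr ℳ (Submodule.torsionBy R M x)) :=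
    quotDecomposition ℳ _ hKhom
  letI : SetLike.GradedSMul 𝒜 (quotGr ℳ (Submodule.torsionBy R M x)) :=
    quot_gradedSMul ℳ _ 𝒜
  let G : GrLC.StarInjRes 𝒜 (quotGr ℳ (Submodule.torsionBy R M x)) :=
    starInjRes 𝒜 (quotGr ℳ (Submodule.torsionBy R M x))
  have hG : G.Hcomp a (i + 1) (γ - e) = ⊥ :=
    Hcomp_quot_eq_bot a _ hKhom hK E G (i + 1) (γ - e) h2
  have hle : Submodule.torsionBy R M x ≤ LinearMap.ker (x • (LinearMap.id : M →ₗ[R] M)) := by
    intro m hm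
    rw [Submodule.mem_torsionBy_iff] at hm
    rw [LinearMap.mem_ker, LinearMap.smul_apply, LinearMap.id_apply]
    exact hm
  let f : (M ⧸ Submodule.torsionBy R M x) →ₗ[R] M :=
    (Submodule.torsionBy R M x).liftQ (x • (LinearMap.id : M →ₗ[R] M)) hle
  have hfi : Function.Injective f := by
    rw [← LinearMap.ker_eq_bot]
    apply Submodule.ker_liftQ_eq_bot
    intro m hm
    rw [LinearMap.mem_ker, LinearMap.smul_apply, LinearMap.id_apply] at hm
    rw [Submodule.mem_torsionBy_iff]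
    exact hm
  have hrange : LinearMap.range f = LinearMap.range (x • (LinearMap.id : M →ₗ[R] M)) :=
    Submodule.range_liftQ _ _ _
  have hfg : GrLC.IsGrHom (shiftGr (quotGr ℳ (Submodule.torsionBy R M x)) (-e)) ℳ f := by
    rintro g _ ⟨m, hm, rfl⟩
    show x • m ∈ ℳ g
    have h := SetLike.GradedSMul.smul_mem (A := 𝒜) (B := ℳ) hx hm
    rw [vadd_eq_add, add_neg_cancel_comm_assoc] at h
    exact h
  obtain ⟨φ, hφ, hφ0, hφd⟩ := exists_comparison_over (shiftRes G (-e)) E f hfg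
  refine T1 (shiftRes G (-e)) E f π φ hfi hπs (hker.trans hrange.symm) hπg hφ hφ0 hφd a F i γ
    ?_ h1
  rw [Hcomp_shiftRes_eq_bot_iff, ← sub_eq_add_neg]
  exact hG

end Groth.Agent.Lib.Helper29GrWeakReg
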