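import Groth.Agent.Lib.Helper29GrGam

/-! Comparison theorem in the graded category: a homogeneous exact complex over `M` maps
homogeneously to any *injective resolution of `M` (helper29). -/

set_option autoImplicit false
open DirectSum

noncomputable section

namespace Groth.Agent.Lib.Helper29GrCompare

open Groth.Agent.Lib.Helper29GrQuot Groth.Agent.Lib.Helper29GrGam

universe u

variable {κ : Type} [AddCommGroup κ] [DecidableEq κ]
variable {R : Type u} [CommRing R] (𝒜 : κ → AddSubgroup R) [GradedRing 𝒜]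

section Step

variable (B T : GrLC.GMod.{u} 𝒜) {A : Type u} [AddCommGroup A] [Module R A]
  (𝓐 : κ → AddSubgroup A) [DirectSum.Decomposition 𝓐] [SetLike.GradedSMul 𝒜 𝓐]
  (hT : GrLC.IsStarInj 𝒜 T.gr)

include hT in
/-- One extension step: a homogeneous map out of `A` extends along a homogeneous map
`δ : A → B`, provided it kills `ker δ`. -/
theorem exists_extension (δ : A →ₗ[R] B.carrier) (hδ : GrLC.IsGrHom 𝓐 B.gr δ)
    (γ : A →ₗ[R] T.carrier) (hγ : GrLC.IsGrHom 𝓐 T.gr γ)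
    (hker : LinearMap.ker δ ≤ LinearMap.ker γ) :
    ∃ h : B.carrier →ₗ[R] T.carrier, GrLC.IsGrHom B.gr T.gr h ∧ ∀ x : A, h (δ x) = γ x := by
  classical
  have hKhom : (LinearMap.ker δ).IsHomogeneous 𝓐 := by
    have hbot : (⊥ : Submodule R B.carrier).IsHomogeneous B.gr := by
      intro g x hx
      rw [(Submodule.mem_bot R).mp hx, DirectSum.decompose_zero]
      exact zero_mem _
    exact comap_isHomogeneous 𝓐 B.gr δ hδ hbot
  letI : DirectSum.Decomposition (quotGr 𝓐 (LinearMap.ker δ)) :=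
    quotDecomposition 𝓐 (LinearMap.ker δ) hKhom
  letI : SetLike.GradedSMul 𝒜 (quotGr 𝓐 (LinearMap.ker δ)) :=
    quot_gradedSMul 𝓐 (LinearMap.ker δ) 𝒜
  let Q : GrLC.GMod.{u} 𝒜 := GrLC.GMod.of 𝒜 (A ⧸ LinearMap.ker δ) (quotGr 𝓐 (LinearMap.ker δ))
  let f : (A ⧸ LinearMap.ker δ) →ₗ[R] B.carrier := (LinearMap.ker δ).liftQ δ le_rfl
  let g : (A ⧸ LinearMap.ker δ) →ₗ[R] T.carrier := (LinearMap.ker δ).liftQ γ hker
  have hf : GrLC.IsGrHom (quotGr 𝓐 (LinearMap.ker δ)) B.gr f := by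
    rintro k _ ⟨a, ha, rfl⟩
    exact hδ k a ha
  have hg : GrLC.IsGrHom (quotGr 𝓐 (LinearMap.ker δ)) T.gr g := by
    rintro k _ ⟨a, ha, rfl⟩
    exact hγ k a ha
  have hfinj : Function.Injective f := by
    rw [← LinearMap.ker_eq_bot]
    exact Submodule.ker_liftQ_eq_bot _ _ _ le_rfl
  obtain ⟨h, hh, hhf⟩ := hT Q B f hf hfinj g hg
  refine ⟨h, hh, fun x => ?_⟩
  have := LinearMap.congr_fun hhf ((LinearMap.ker δ).mkQ x)
  exact this

end Step

variable {M : Type u} [AddCommGroup M] [Module R M] (ℳ : κ → AddSubgroup M)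
  [DirectSum.Decomposition ℳ] [SetLike.GradedSMul 𝒜 ℳ]
variable (X : ℕ → GrLC.GMod.{u} 𝒜) (d : ∀ n, (X n).carrier →ₗ[R] (X (n + 1)).carrier)
  (ε : M →ₗ[R] (X 0).carrier)
  (hd : ∀ n, GrLC.IsGrHom (X n).gr (X (n + 1)).gr (d n)) (hε : GrLC.IsGrHom ℳ (X 0).gr ε)
  (h0 : LinearMap.ker (d 0) = LinearMap.range ε)
  (hs : ∀ n, LinearMap.ker (d (n + 1)) = LinearMap.range (d n))
  (E : GrLC.StarInjRes 𝒜 ℳ)

/-- A stage of the comparison map. -/
structure Stage (n : ℕ) where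
  θ : (X n).carrier →ₗ[R] (E.X n).carrier
  hom : GrLC.IsGrHom (X n).gr (E.X n).gr θ
  kills : ∀ x : (X n).carrier, d n x = 0 → E.d n (θ x) = 0

theorem E_d_d (n : ℕ) (x : (E.X n).carrier) : E.d (n + 1) (E.d n x) = 0 := by
  have : E.d n x ∈ LinearMap.ker (E.d (n + 1)) := by
    rw [E.exact_succ n]; exact LinearMap.mem_range_self _ x
  exact this

theorem E_d_ε (m : M) : E.d 0 (E.ε m) = 0 := by
  have : E.ε m ∈ LinearMap.ker (E.d 0) := by
    rw [E.exact_zero]; exact LinearMap.mem_range_self _ m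
  exact this

variable (hεinj : Function.Injective ε)

include hε h0 hεinj in
theorem exists_stage_zero :
    ∃ s : Stage 𝒜 ℳ X d E 0, ∀ m : M, s.θ (ε m) = E.ε m := by
  have hker : LinearMap.ker ε ≤ LinearMap.ker E.ε := by
    intro m hm
    rw [LinearMap.mem_ker] at hm
    have : m = 0 := hεinj (by rw [hm, map_zero])
    rw [this]
    exact zero_mem _
  obtain ⟨h, hh, hhε⟩ := exists_extension 𝒜 (X 0) (E.X 0) ℳ (E.starInj 0) ε hε E.ε E.ε_grHom hker
  refine ⟨⟨h, hh, ?_⟩, hhε⟩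
  intro x hx
  have hx' : x ∈ LinearMap.range ε := by rw [← h0]; exact hx
  obtain ⟨m, rfl⟩ := hx'
  rw [hhε m]
  exact E_d_ε 𝒜 ℳ E m

include hd hs in
theorem exists_stage_succ (n : ℕ) (s : Stage 𝒜 ℳ X d E n) :
    ∃ t : Stage 𝒜 ℳ X d E (n + 1), ∀ x : (X n).carrier, t.θ (d n x) = E.d n (s.θ x) := by
  have hker : LinearMap.ker (d n) ≤ LinearMap.ker (E.d n ∘ₗ s.θ) := by
    intro x hx
    exact s.kills x hx
  have hγ : GrLC.IsGrHom (X n).gr (E.X (n + 1)).gr (E.d n ∘ₗ s.θ) :=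
    fun k x hx => E.d_grHom n k _ (s.hom k x hx)
  obtain ⟨h, hh, hhd⟩ := exists_extension 𝒜 (X (n + 1)) (E.X (n + 1)) (X n).gr (E.starInj (n + 1))
    (d n) (hd n) (E.d n ∘ₗ s.θ) hγ hker
  refine ⟨⟨h, hh, ?_⟩, hhd⟩
  intro x hx
  have hx' : x ∈ LinearMap.range (d n) := by rw [← hs n]; exact hx
  obtain ⟨y, rfl⟩ := hx'
  rw [hhd y]
  exact E_d_d 𝒜 ℳ E n _

include hd hε h0 hs hεinj in
/-- The comparison theorem. -/
theorem exists_comparison :
    ∃ θ : ∀ n, (X n).carrier →ₗ[R] (E.X n).carrier,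
      (∀ n, GrLC.IsGrHom (X n).gr (E.X n).gr (θ n)) ∧ (∀ m : M, θ 0 (ε m) = E.ε m) ∧
      ∀ (n : ℕ) (x : (X n).carrier), θ (n + 1) (d n x) = E.d n (θ n x) := by
  obtain ⟨s0, hs0⟩ := exists_stage_zero 𝒜 ℳ X d ε hε h0 E hεinj
  choose next hnext using exists_stage_succ 𝒜 ℳ X d hd hs E
  let S : ∀ n, Stage 𝒜 ℳ X d E n := fun n => Nat.rec s0 (fun n s => next n s) n
  refine ⟨fun n => (S n).θ, fun n => (S n).hom, hs0, fun n x => ?_⟩
  exact hnext n (S n) x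

end Groth.Agent.Lib.Helper29GrCompare
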