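import Groth.Agent.Lib.Helper29GrShift
import Groth.Prelude.Def_GrLC

/-! Shifting a bundled graded module; a shift of a *injective module is *injective (helper29). -/

set_option autoImplicit false
set_option linter.style.haveILetI false
open DirectSum

noncomputable section

namespace Groth.Agent.Lib.Helper29GrShiftInj

open Groth.Agent.Lib.Helper29GrShift

universe u

variable {ι : Type} [AddCommGroup ι] [DecidableEq ι]
variable {R : Type u} [CommRing R] (𝒜 : ι → AddSubgroup R) [GradedRing 𝒜]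

/-- The shifted graded module `X(d)`. -/
def shiftGMod (X : GrLC.GMod.{u} 𝒜) (d : ι) : GrLC.GMod.{u} 𝒜 :=
  { carrier := X.carrier
    gr := shiftGr X.gr d
    dec := shiftDecomposition X.gr d
    gsmul := shift_gradedSMul 𝒜 X.gr d }

theorem mem_shiftGMod_gr (X : GrLC.GMod.{u} 𝒜) (d g : ι) (x : X.carrier) :
    x ∈ (shiftGMod 𝒜 X d).gr g ↔ x ∈ X.gr (g + d) := Iff.rfl

/-- A shift of a *injective module is *injective. -/
theorem isStarInj_shift (X : GrLC.GMod.{u} 𝒜) (d : ι) (hX : GrLC.IsStarInj 𝒜 X.gr) :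
    GrLC.IsStarInj 𝒜 (shiftGMod 𝒜 X d).gr := by
  intro A B f hf hfinj g hg
  obtain ⟨h, hh, hhf⟩ := hX (shiftGMod 𝒜 A (-d)) (shiftGMod 𝒜 B (-d)) f
    (fun j a ha => hf (j + -d) a ha) hfinj g (by
      intro j a ha
      have h1 := hg (j + -d) a ha
      have h2 : g a ∈ X.gr (j + -d + d) := h1
      rwa [neg_add_cancel_right] at h2)
  refine ⟨h, ?_, hhf⟩
  intro j b hb
  show h b ∈ X.gr (j + d)
  apply hh (j + d) b
  show b ∈ B.gr (j + d + -d)
  rwa [add_neg_cancel_right]

end Groth.Agent.Lib.Helper29GrShiftInj
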