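import Groth.Agent.Lib.Helper29GrConeLES
import Groth.Agent.Lib.Helper29GrShiftInj

/-! The long exact sequence of graded local cohomology for multiplication by a homogeneous
non-zerodivisor `x` of degree `k`: `0 → M(-k) → M → M/xM → 0` (helper29). -/

set_option autoImplicit false
set_option linter.style.haveILetI false
set_option linter.unusedSectionVars false
open DirectSum

noncomputable section

namespace Groth.Agent.Lib.Helper29GrMulLES

open Groth.Agent.Lib.Helper29GrShift Groth.Agent.Lib.Helper29GrShiftInj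
  Groth.Agent.Lib.Helper29GrResCompare Groth.Agent.Lib.Helper29GrConeLES

universe u

variable {ι : Type} [AddCommGroup ι] [DecidableEq ι]
variable {R : Type u} [CommRing R] {𝒜 : ι → AddSubgroup R} [GradedRing 𝒜]
variable {M : Type u} [AddCommGroup M] [Module R M] {ℳ : ι → AddSubgroup M}
  [DirectSum.Decomposition ℳ] [SetLike.GradedSMul 𝒜 ℳ]

@[instance_reducible]
instance shiftDecInst (d : ι) : DirectSum.Decomposition (shiftGr ℳ d) := shiftDecomposition ℳ d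

instance shiftSMulInst (d : ι) : SetLike.GradedSMul 𝒜 (shiftGr ℳ d) := shift_gradedSMul 𝒜 ℳ d

/-- The shifted resolution `E(d)` of `M(d)`. -/
def shiftRes (E : GrLC.StarInjRes 𝒜 ℳ) (d : ι) : GrLC.StarInjRes 𝒜 (shiftGr ℳ d) :=
  { X := fun n => shiftGMod 𝒜 (E.X n) d
    d := E.d
    ε := E.ε
    d_grHom := fun n j x hx => E.d_grHom n (j + d) x hx
    ε_grHom := fun j m hm => E.ε_grHom (j + d) m hm
    ε_injective := E.ε_injective
    exact_zero := E.exact_zero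
    exact_succ := E.exact_succ
    starInj := fun n => isStarInj_shift 𝒜 (E.X n) d (E.starInj n) }


variable (E : GrLC.StarInjRes 𝒜 ℳ) (a : HomogeneousIdeal 𝒜)

theorem Hcomp_shiftRes_eq_bot_iff (d : ι) (n : ℕ) (γ : ι) :
    (shiftRes E d).Hcomp a n γ = ⊥ ↔ E.Hcomp a n (γ + d) = ⊥ := by
  rw [Hcomp_eq_bot_iff_forall, Hcomp_eq_bot_iff_forall]
  exact Iff.rfl

variable {N : Type u} [AddCommGroup N] [Module R N] {𝒩 : ι → AddSubgroup N}
  [DirectSum.Decomposition 𝒩] [SetLike.GradedSMul 𝒜 𝒩]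
variable (F : GrLC.StarInjRes 𝒜 𝒩)
variable (x : R) (k : ι) (hx : x ∈ 𝒜 k) (hreg : IsSMulRegular M x)
variable (g : M →ₗ[R] N) (hgs : Function.Surjective g) (hg : GrLC.IsGrHom ℳ 𝒩 g)
  (hker : LinearMap.ker g = LinearMap.range (x • (LinearMap.id : M →ₗ[R] M)))

/-- Multiplication by `x` as a chain map `E(-k) → E`. -/
def mulx (n : ℕ) : ((shiftRes E (-k)).X n).carrier →ₗ[R] (E.X n).carrier :=
  x • (LinearMap.id : (E.X n).carrier →ₗ[R] (E.X n).carrier)

theorem mulx_apply (n : ℕ) (u : (E.X n).carrier) : mulx E x k n u = x • u := rfl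

theorem smul_mem_gr (X : GrLC.GMod.{u} 𝒜) {x : R} {k : ι} (hx : x ∈ 𝒜 k) (γ : ι) (u : X.carrier)
    (hu : u ∈ X.gr (γ + -k)) : x • u ∈ X.gr γ := by
  have h := SetLike.GradedSMul.smul_mem (A := 𝒜) (B := X.gr) hx hu
  rw [vadd_eq_add, add_neg_cancel_comm_assoc] at h
  exact h

include hx in
theorem mulx_hom (n : ℕ) :
    GrLC.IsGrHom ((shiftRes E (-k)).X n).gr (E.X n).gr (mulx E x k n) := by
  intro γ u hu
  exact smul_mem_gr (E.X n) hx γ u hu

section Main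

variable [IsNoetherianRing R] [Module.Free ℤ ι] [Module.Finite ℤ ι]

include hx hreg hgs hg hker in
/-- `H^{n+1}(M)_{γ-k} = 0` and `H^n(M)_γ = 0` imply `H^n(M/xM)_γ = 0`. -/
theorem T1x (n : ℕ) (γ : ι) (h1 : E.Hcomp a (n + 1) (γ - k) = ⊥) (h2 : E.Hcomp a n γ = ⊥) :
    F.Hcomp a n γ = ⊥ := by
  refine T1 (shiftRes E (-k)) E (x • (LinearMap.id : M →ₗ[R] M)) g (mulx E x k) hreg hgs hker hg
    (mulx_hom E x k hx) (fun m' => (map_smul E.ε x m').symm)
    (fun n u => (map_smul (E.d n) x u).symm) a F n γ ?_ h2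
  rw [Hcomp_shiftRes_eq_bot_iff, ← sub_eq_add_neg]
  exact h1

include hx hreg hgs hg hker in
/-- If `H^n(M/xM)_γ = 0` then `x` is injective on `H^{n+1}(M)_{γ-k}`. -/
theorem T2x (n : ℕ) (γ : ι) (hF : F.Hcomp a n γ = ⊥) (y : E.H a (n + 1))
    (hy : y ∈ E.Hcomp a (n + 1) (γ - k)) (hxy : x • y = 0) : y = 0 := by
  obtain ⟨⟨u, hu⟩, huγ, rfl⟩ := hy
  rw [← map_smul, toH_eq_zero_iff] at hxy
  rw [toH_eq_zero_iff]
  have huγ' : u ∈ ((shiftRes E (-k)).X (n + 1)).gr γ := by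
    show u ∈ (E.X (n + 1)).gr (γ + -k)
    rw [← sub_eq_add_neg]
    exact huγ
  exact T2 (shiftRes E (-k)) E (x • (LinearMap.id : M →ₗ[R] M)) g (mulx E x k) hreg hgs hker hg
    (mulx_hom E x k hx) (fun m' => (map_smul E.ε x m').symm)
    (fun n u => (map_smul (E.d n) x u).symm) a F n γ hF u hu huγ' hxy

include hx hreg hgs hg hker in
/-- If `H^n(M/xM)_γ = 0` then `x : H^n(M)_{γ-k} → H^n(M)_γ` is surjective. -/
theorem T3x (n : ℕ) (γ : ι) (hF : F.Hcomp a n γ = ⊥) (y : E.H a n)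
    (hy : y ∈ E.Hcomp a n γ) : ∃ z ∈ E.Hcomp a n (γ - k), x • z = y := by
  obtain ⟨⟨v, hv⟩, hvγ, rfl⟩ := hy
  have key : ∃ u : (E.X n).carrier, u ∈ E.cocyc a n ∧ u ∈ (E.X n).gr (γ + -k) ∧
      v - x • u ∈ E.cobdy a n :=
    T3 (shiftRes E (-k)) E (x • (LinearMap.id : M →ₗ[R] M)) g
      (mulx E x k) hreg hgs hker hg (mulx_hom E x k hx) (fun m' => (map_smul E.ε x m').symm)
      (fun n u => (map_smul (E.d n) x u).symm) a F n γ hF v hv hvγ
  obtain ⟨u, hu', huγ, huv⟩ := key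
  have huγ' : u ∈ (E.X n).gr (γ - k) := by
    rw [sub_eq_add_neg]
    exact huγ
  refine ⟨E.toH a n ⟨u, hu'⟩, ⟨⟨u, hu'⟩, huγ', rfl⟩, ?_⟩
  rw [← map_smul, Submodule.mkQ_apply, Submodule.mkQ_apply, Submodule.Quotient.eq]
  have h2 : v - x • u ∈ E.cobdy a n := huv
  have h3 : x • u - v ∈ E.cobdy a n := by
    rw [← neg_sub]
    exact neg_mem h2
  exact h3

end Main

end Groth.Agent.Lib.Helper29GrMulLES
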