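import Groth.Agent.Lib.Helper29LCNat
import Groth.Agent.Lib.Helper29GrCompare
import Groth.Agent.Lib.Helper29GrMulLES
import Groth.Agent.S13217

/-! Graded functoriality of the comparison between graded local cohomology computed from
*injective resolutions and Mathlib's local cohomology (helper29). -/

set_option autoImplicit false
set_option linter.style.haveILetI false
set_option linter.unusedSectionVars false
open CategoryTheory DirectSum

noncomputable section

namespace Groth.Agent.Lib.Helper29.GrLCFun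

open Groth.Agent.Lib.Helper29LCAcyclic Groth.Agent.Lib.Helper29.LCNat
  Groth.Agent.Lib.Helper29GrCompare Groth.Agent.Lib.Helper29GrShift
  Groth.Agent.Lib.Helper29GrShiftInj Groth.Agent.Lib.Helper29GrMulLES

universe u

variable {ι : Type} [AddCommGroup ι] [DecidableEq ι] [Module.Free ℤ ι] [Module.Finite ℤ ι]
variable {R : Type u} [CommRing R] [IsNoetherianRing R] {𝒜 : ι → AddSubgroup R} [GradedRing 𝒜]
variable (a : HomogeneousIdeal 𝒜)
variable {M : Type u} [AddCommGroup M] [Module R M] {ℳ : ι → AddSubgroup M}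
  [DirectSum.Decomposition ℳ] [SetLike.GradedSMul 𝒜 ℳ]
variable (E : GrLC.StarInjRes 𝒜 ℳ)

theorem hacyc (n j : ℕ) (x : LC a.toIdeal (j + 1) (E.X n).carrier) : x = 0 := by
  haveI := Groth.Agent.S13217.result R 𝒜 a (E.X n).carrier (E.X n).gr (E.starInj n) (j + 1)
    (Nat.le_add_left 1 j)
  exact Subsingleton.elim _ _

theorem cob_eq (p : ℕ) : cob a.toIdeal (fun n => (E.X n).carrier) E.d p = E.cobdy a p := by
  cases p <;> rfl

/-- The comparison isomorphism for a *injective resolution. -/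
def cE (p : ℕ) : E.H a p ≃ₗ[R] LC a.toIdeal p M :=
  (Submodule.quotEquivOfEq _ _ (by rw [cob_eq]; rfl)).trans
    (cmpEquiv a.toIdeal (fun n => (E.X n).carrier) E.d E.exact_succ E.ε E.ε_injective
      E.exact_zero (hacyc a E) p)

theorem cE_mk (p : ℕ) (z : E.cocyc a p) :
    cE a E p (E.toH a p z) =
      cmp a.toIdeal (fun n => (E.X n).carrier) E.d E.exact_succ E.ε E.ε_injective
        E.exact_zero p z := rfl


section Lift

variable {M' : Type u} [AddCommGroup M'] [Module R M'] {ℳ' : ι → AddSubgroup M'}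
  [DirectSum.Decomposition ℳ'] [SetLike.GradedSMul 𝒜 ℳ']
variable (E' : GrLC.StarInjRes 𝒜 ℳ') (f : M →ₗ[R] M') (hf : GrLC.IsGrHom ℳ ℳ' f)

include hf in
/-- A homogeneous map lifts to a homogeneous chain map of *injective resolutions. -/
theorem exists_lift :
    ∃ θ : ∀ n, (E.X n).carrier →ₗ[R] (E'.X n).carrier,
      (∀ n, GrLC.IsGrHom (E.X n).gr (E'.X n).gr (θ n)) ∧ (∀ m : M, θ 0 (E.ε m) = E'.ε (f m)) ∧
      ∀ (n : ℕ) (x : (E.X n).carrier), θ (n + 1) (E.d n x) = E'.d n (θ n x) := by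
  have hker : LinearMap.ker E.ε ≤ LinearMap.ker (E'.ε ∘ₗ f) := by
    intro m hm
    rw [LinearMap.mem_ker] at hm
    have : m = 0 := E.ε_injective (by rw [hm, map_zero])
    rw [this]
    exact zero_mem _
  have hγ : GrLC.IsGrHom ℳ (E'.X 0).gr (E'.ε ∘ₗ f) :=
    fun g m hm => E'.ε_grHom g _ (hf g m hm)
  obtain ⟨h, hh, hhε⟩ := exists_extension 𝒜 (E.X 0) (E'.X 0) ℳ (E'.starInj 0) E.ε E.ε_grHom
    (E'.ε ∘ₗ f) hγ hker
  have hkill : ∀ x : (E.X 0).carrier, E.d 0 x = 0 → E'.d 0 (h x) = 0 := by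
    intro x hx
    have hx' : x ∈ LinearMap.range E.ε := by rw [← E.exact_zero]; exact hx
    obtain ⟨m, rfl⟩ := hx'
    rw [hhε m]
    exact E_d_ε 𝒜 ℳ' E' (f m)
  let s0 : Stage 𝒜 ℳ' E.X E.d E' 0 := ⟨h, hh, hkill⟩
  choose next hnext using exists_stage_succ 𝒜 ℳ' E.X E.d E.d_grHom E.exact_succ E'
  let S : ∀ n, Stage 𝒜 ℳ' E.X E.d E' n := fun n => Nat.rec s0 (fun n s => next n s) n
  refine ⟨fun n => (S n).θ, fun n => (S n).hom, hhε, fun n x => ?_⟩
  exact hnext n (S n) x

include hf in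
/-- Graded naturality of the comparison: the map induced on local cohomology by a homogeneous
map preserves degrees. -/
theorem map_mem_Hgr (p : ℕ) (g : ι) (h : E.H a p) (hh : h ∈ E.Hgr a p g) :
    (cE a E' p).symm ((localCohomology a.toIdeal p).map (ModuleCat.ofHom f) (cE a E p h)) ∈
      E'.Hgr a p g := by
  obtain ⟨θ, hθhom, hθ0, hθ⟩ := exists_lift E E' f hf
  obtain ⟨z, hzg, rfl⟩ := hh
  have hnat := cmp_naturality a.toIdeal (fun n => (E.X n).carrier) E.d E.exact_succ E.ε
    E.ε_injective E.exact_zero (fun n => (E'.X n).carrier) E'.d E'.exact_succ E'.ε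
    E'.ε_injective E'.exact_zero f θ hθ hθ0 p z
  let z' : E'.cocyc a p := θc a.toIdeal (fun n => (E.X n).carrier) E.d
    (fun n => (E'.X n).carrier) E'.d θ hθ p z
  have key : (localCohomology a.toIdeal p).map (ModuleCat.ofHom f) (cE a E p (E.toH a p z)) =
      cE a E' p (E'.toH a p z') := hnat.symm
  rw [key, LinearEquiv.symm_apply_apply]
  exact ⟨z', hθhom p g _ hzg, rfl⟩

end Lift


section Deg

variable {M' : Type u} [AddCommGroup M'] [Module R M'] {ℳ' : ι → AddSubgroup M'}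
  [DirectSum.Decomposition ℳ'] [SetLike.GradedSMul 𝒜 ℳ']
variable (E' : GrLC.StarInjRes 𝒜 ℳ') (f : M →ₗ[R] M') (j : ι) (hf : GrLC.IsGrHomDeg ℳ ℳ' f j)

include hf in
/-- Graded naturality for maps homogeneous of degree `j`. -/
theorem map_mem_Hgr_deg (p : ℕ) (g : ι) (h : E.H a p) (hh : h ∈ E.Hgr a p g) :
    (cE a E' p).symm ((localCohomology a.toIdeal p).map (ModuleCat.ofHom f) (cE a E p h)) ∈
      E'.Hgr a p (g + j) := by
  have hf' : GrLC.IsGrHom ℳ (shiftGr ℳ' j) f := fun g m hm => hf g m hm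
  have := map_mem_Hgr a E (shiftRes E' j) f hf' p g h hh
  exact this

end Deg

end Groth.Agent.Lib.Helper29.GrLCFun
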