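import Groth.Agent.Lib.Helper29GrAss
import Groth.Agent.Lib.Helper29GrBaer

/-! Basic facts on *local graded rings `(R, m)` (grading by a finitely generated free abelian
group): proper homogeneous ideals lie in `m`, homogeneous elements outside `m` are units, `m` is
prime, and graded modules inject into their localization at `m` (helper29). -/

set_option autoImplicit false
set_option linter.style.haveILetI false
set_option linter.unusedSectionVars false
open DirectSum

namespace Groth.Agent.Lib.Helper29GrStarLocal

open Groth.Agent.Lib.Helper29GrEss Groth.Agent.Lib.Helper29GrAss Groth.Agent.Lib.Helper29GrBaer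

universe u

variable {ι : Type} [AddCommGroup ι] [DecidableEq ι]
variable {R : Type u} [CommRing R] [IsNoetherianRing R] (𝒜 : ι → AddSubgroup R) [GradedRing 𝒜]
variable (m : HomogeneousIdeal 𝒜) (hm : GrLC.IsStarLocal 𝒜 m)

include hm in
/-- Every proper homogeneous ideal of a *local ring lies in the *maximal ideal. -/
theorem le_of_ne_top (J : Ideal R) (hJh : J.IsHomogeneous 𝒜) (hJ : J ≠ ⊤) : J ≤ m.toIdeal := by
  let S : Set (Ideal R) := {N | J ≤ N ∧ N.IsHomogeneous 𝒜 ∧ N ≠ ⊤}
  have hS : S.Nonempty := ⟨J, le_rfl, hJh, hJ⟩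
  obtain ⟨N, ⟨hJN, hNh, hNt⟩, hmax⟩ :=
    set_has_maximal_iff_noetherian.mpr (inferInstance : IsNoetherian R R) S hS
  let N' : HomogeneousIdeal 𝒜 := ⟨N, hNh⟩
  have hco : IsCoatom N' := by
    refine ⟨fun h => hNt ?_, fun Q hQ => ?_⟩
    · have : N'.toIdeal = (⊤ : HomogeneousIdeal 𝒜).toIdeal := congrArg _ h
      rwa [HomogeneousIdeal.toIdeal_top] at this
    · by_contra hne
      have hQt : Q.toIdeal ≠ ⊤ := by
        intro h
        apply hne
        apply HomogeneousIdeal.toIdeal_injective
        rw [h, HomogeneousIdeal.toIdeal_top]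
      have hNQ : N ≤ Q.toIdeal := fun x hx => hQ.le hx
      have hQS : Q.toIdeal ∈ S := ⟨hJN.trans hNQ, Q.isHomogeneous, hQt⟩
      have hlt : N < Q.toIdeal := by
        refine lt_of_le_of_ne hNQ ?_
        intro heq
        apply hQ.ne
        apply HomogeneousIdeal.toIdeal_injective
        exact heq
      exact hmax _ hQS hlt
  have h := hm.2 N' hco
  intro x hx
  have : x ∈ N'.toIdeal := hJN hx
  rwa [h] at this

include hm in
theorem toIdeal_ne_top : m.toIdeal ≠ ⊤ := by
  intro h
  apply hm.1.1
  apply HomogeneousIdeal.toIdeal_injective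
  rw [h, HomogeneousIdeal.toIdeal_top]

include hm in
/-- Homogeneous elements outside the *maximal ideal are units. -/
theorem isUnit_of_notMem {s : R} {k : ι} (hs : s ∈ 𝒜 k) (hsm : s ∉ m.toIdeal) : IsUnit s := by
  by_contra hu
  have hne : Ideal.span {s} ≠ ⊤ := fun h => hu (Ideal.span_singleton_eq_top.mp h)
  have hhom : (Ideal.span {s}).IsHomogeneous 𝒜 :=
    Ideal.homogeneous_span 𝒜 {s} (fun y hy => by
      rw [Set.mem_singleton_iff] at hy
      rw [hy]
      exact ⟨k, hs⟩)
  exact hsm (le_of_ne_top 𝒜 m hm _ hhom hne (Ideal.mem_span_singleton_self s))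

variable [Module.Free ℤ ι] [Module.Finite ℤ ι]

include hm in
/-- The *maximal ideal of a *local ring is prime. -/
theorem isPrime : m.toIdeal.IsPrime := by
  apply isPrime_of_homogeneous_mem_or_mem' 𝒜 m.isHomogeneous (toIdeal_ne_top 𝒜 m hm)
  rintro x y ⟨k, hx⟩ ⟨l, hy⟩ hxy
  by_contra hcon
  rw [not_or] at hcon
  obtain ⟨u, rfl⟩ := isUnit_of_notMem 𝒜 m hm hx hcon.1
  apply hcon.2
  have := m.toIdeal.mul_mem_left (↑u⁻¹ : R) hxy
  rwa [← mul_assoc, Units.inv_mul, one_mul] at this

section Components

variable {N : Type u} [AddCommGroup N] [Module R N] (𝒩 : ι → AddSubgroup N)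
  [DirectSum.Decomposition 𝒩] [SetLike.GradedSMul 𝒜 𝒩]

omit [IsNoetherianRing R] [Module.Free ℤ ι] [Module.Finite ℤ ι] in
/-- Components of a product. -/
theorem decompose_smul_eq_sum [∀ (i : ι) (x : 𝒜 i), Decidable (x ≠ 0)] (s : R) (w : N) (n : ι) :
    ((decompose 𝒩 (s • w)) n : N) =
      ∑ d ∈ (decompose 𝒜 s).support, ((decompose 𝒜 s) d : R) • ((decompose 𝒩 w) (n - d) : N) := by
  conv_lhs => rw [← DirectSum.sum_support_decompose 𝒜 s]
  rw [Finset.sum_smul, ← projHom_apply, map_sum]
  apply Finset.sum_congr rfl
  intro d _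
  rw [projHom_apply]
  exact decompose_smul_of_mem 𝒜 𝒩 (SetLike.coe_mem _) w n

end Components

/-- Graded modules over a *local ring inject into their localization at the *maximal ideal: an
element killed by some `s ∉ m` is zero. -/
theorem eq_zero_of_smul_eq_zero {ι : Type} [AddCommGroup ι] [dec : DecidableEq ι]
    [Module.Free ℤ ι] [Module.Finite ℤ ι] {R : Type u} [CommRing R] [IsNoetherianRing R]
    (𝒜 : ι → AddSubgroup R) [GradedRing 𝒜] (m : HomogeneousIdeal 𝒜) (hm : GrLC.IsStarLocal 𝒜 m)
    {N : Type u} [AddCommGroup N] [Module R N] (𝒩 : ι → AddSubgroup N)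
    [DirectSum.Decomposition 𝒩] [SetLike.GradedSMul 𝒜 𝒩] (s : R) (hs : s ∉ m.toIdeal) (x : N)
    (hsx : s • x = 0) : x = 0 := by
  classical
  let b := Module.finBasis ℤ ι
  let φ : ι → Lex (Fin (Module.finrank ℤ ι) → ℤ) := fun x => toLex (b.equivFun x)
  have hφ : Function.Injective φ := fun x y hxy => b.equivFun.injective (toLex.injective hxy)
  letI LO : LinearOrder ι := LinearOrder.lift' φ hφ
  obtain rfl : dec = LO.toDecidableEq := Subsingleton.elim _ _
  haveI : IsOrderedCancelAddMonoid ι :=
    Function.Injective.isOrderedCancelAddMonoid φ (fun x y => by simp [φ]) Iff.rfl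
  suffices H : ∀ (μ : ℕ) (s : R) (x : N),
      (decompose 𝒜 s).support.card + (decompose 𝒩 x).support.card = μ → s ∉ m.toIdeal →
      s • x = 0 → x = 0 from H _ s x rfl hs hsx
  intro μ
  induction μ using Nat.strong_induction_on with
  | _ μ ih =>
    intro s x hμ hs hsx
    by_contra hx
    have hXne : (decompose 𝒩 x).support.Nonempty := by
      rw [Finset.nonempty_iff_ne_empty, Ne, DFinsupp.support_eq_empty]
      intro h
      apply hx
      apply (decompose 𝒩).injective
      rw [h, DirectSum.decompose_zero]
    have hs0 : s ≠ 0 := fun h => hs (h ▸ zero_mem _)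
    have hSne : (decompose 𝒜 s).support.Nonempty := by
      rw [Finset.nonempty_iff_ne_empty, Ne, DFinsupp.support_eq_empty]
      intro h
      apply hs0
      apply (decompose 𝒜).injective
      rw [h, DirectSum.decompose_zero]
    set h₁ := (decompose 𝒜 s).support.min' hSne with hh₁def
    set g₁ := (decompose 𝒩 x).support.min' hXne with hg₁def
    have hh₁ : h₁ ∈ (decompose 𝒜 s).support := Finset.min'_mem _ _
    have hg₁ : g₁ ∈ (decompose 𝒩 x).support := Finset.min'_mem _ _
    set c : R := ((decompose 𝒜 s) h₁ : R) with hc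
    have hcmem : c ∈ 𝒜 h₁ := SetLike.coe_mem _
    have hLT : ((decompose 𝒩 (s • x)) (h₁ + g₁) : N) = c • ((decompose 𝒩 x) g₁ : N) := by
      rw [decompose_smul_eq_sum 𝒜 𝒩 s x, Finset.sum_eq_single h₁]
      · rw [add_sub_cancel_left]
      · intro d hd hne
        have hlt : h₁ < d := lt_of_le_of_ne (Finset.min'_le _ d hd) (Ne.symm hne)
        have hlt2 : h₁ + g₁ - d < g₁ := by
          rw [sub_lt_iff_lt_add]
          calc h₁ + g₁ < d + g₁ := add_lt_add_left hlt g₁
            _ = g₁ + d := add_comm _ _
        have hnot : h₁ + g₁ - d ∉ (decompose 𝒩 x).support := fun hmem =>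
          absurd (Finset.min'_le _ _ hmem) (not_le.mpr hlt2)
        rw [DFinsupp.notMem_support_iff.mp hnot, ZeroMemClass.coe_zero, smul_zero]
      · intro h
        exact absurd hh₁ h
    rw [hsx, DirectSum.decompose_zero, DirectSum.zero_apply, ZeroMemClass.coe_zero] at hLT
    have hxg₁ : ((decompose 𝒩 x) g₁ : N) ≠ 0 := by
      intro h
      exact (DFinsupp.mem_support_iff.mp hg₁) (Subtype.ext h)
    by_cases hcase : c ∈ m.toIdeal
    · -- the lowest component of `s` lies in `m`
      have hcard1 : (decompose 𝒩 (c • x)).support.card < (decompose 𝒩 x).support.card := by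
        have hsub : (decompose 𝒩 (c • x)).support ⊆
            ((decompose 𝒩 x).support.erase g₁).image (fun g => h₁ + g) := by
          intro j hj
          have hj' : ((decompose 𝒩 (c • x)) j : N) ≠ 0 := fun h =>
            (DFinsupp.mem_support_iff.mp hj) (Subtype.ext h)
          rw [decompose_smul_of_mem 𝒜 𝒩 hcmem x j] at hj'
          have h1 : ((decompose 𝒩 x) (j - h₁) : N) ≠ 0 := fun h => hj' (by rw [h, smul_zero])
          have h2 : j - h₁ ≠ g₁ := by
            intro h
            rw [h] at hj'
            exact hj' hLT.symm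
          rw [Finset.mem_image]
          refine ⟨j - h₁, Finset.mem_erase.mpr ⟨h2, ?_⟩, by abel⟩
          rw [DFinsupp.mem_support_iff]
          intro h
          apply h1
          rw [h, ZeroMemClass.coe_zero]
        calc (decompose 𝒩 (c • x)).support.card
            ≤ (((decompose 𝒩 x).support.erase g₁).image (fun g => h₁ + g)).card :=
              Finset.card_le_card hsub
          _ ≤ ((decompose 𝒩 x).support.erase g₁).card := Finset.card_image_le
          _ < (decompose 𝒩 x).support.card := Finset.card_erase_lt_of_mem hg₁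
      have hcx : c • x = 0 := by
        refine ih _ ?_ s (c • x) rfl hs ?_
        · rw [← hμ]
          exact Nat.add_lt_add_left hcard1 _
        · rw [smul_comm, hsx, smul_zero]
      have hcard2 : (decompose 𝒜 (s - c)).support.card < (decompose 𝒜 s).support.card := by
        have hsub : (decompose 𝒜 (s - c)).support ⊆ (decompose 𝒜 s).support.erase h₁ := by
          intro d hd
          have hd' : ((decompose 𝒜 (s - c)) d : R) ≠ 0 := fun h =>
            (DFinsupp.mem_support_iff.mp hd) (Subtype.ext h)
          rw [DirectSum.decompose_sub, DirectSum.sub_apply, AddSubgroupClass.coe_sub] at hd'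
          have hne : d ≠ h₁ := by
            intro h
            rw [h, DirectSum.decompose_of_mem_same 𝒜 hcmem, sub_self] at hd'
            exact hd' rfl
          rw [DirectSum.decompose_of_mem_ne 𝒜 hcmem (Ne.symm hne), sub_zero] at hd'
          refine Finset.mem_erase.mpr ⟨hne, ?_⟩
          rw [DFinsupp.mem_support_iff]
          intro h
          apply hd'
          rw [h, ZeroMemClass.coe_zero]
        exact lt_of_le_of_lt (Finset.card_le_card hsub) (Finset.card_erase_lt_of_mem hh₁)
      have hx0 : x = 0 := by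
        refine ih _ ?_ (s - c) x rfl ?_ ?_
        · rw [← hμ]
          exact Nat.add_lt_add_right hcard2 _
        · intro h
          apply hs
          have := add_mem h hcase
          rwa [sub_add_cancel] at this
        · rw [sub_smul, hsx, hcx, sub_zero]
      exact hx hx0
    · -- the lowest component of `s` is a unit
      obtain ⟨u, hu⟩ := isUnit_of_notMem 𝒜 m hm hcmem hcase
      apply hxg₁
      have h1 : (↑u⁻¹ : R) • (c • ((decompose 𝒩 x) g₁ : N)) = 0 := by
        rw [← hLT, smul_zero]
      rwa [← mul_smul, ← hu, Units.inv_mul, one_smul] at h1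

end Groth.Agent.Lib.Helper29GrStarLocal
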