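import Mathlib
import Groth.Agent.Lib.Helper28FGDim
import Groth.Agent.Lib.Helper29GrStarLocal
import Groth.Prelude.Def_GrLC

/-!
# Graded rings defined over a field (helper8)

`R = ⊕_{n ≥ 0} R_n` Noetherian with `R_0` a field and `m = R_+` the *maximal ideal: `m` is maximal,
`R` is of finite type over `R_0`, and (when `R` is Cohen–Macaulay) `ht m = dim R`.
-/

set_option autoImplicit false
set_option linter.style.haveILetI false
set_option linter.unusedSectionVars false
open DirectSum

namespace Groth.Agent.Lib.Helper8.GrField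

universe u

section General

variable {R : Type u} [CommRing R] [hR : LocCoh.IsCohenMacaulayRing R]

/-- In a Cohen–Macaulay algebra of finite type over a field, a maximal ideal `M` containing a
prime `q` has height `dim R/q + ht q`. -/
theorem height_eq_add (k : Type u) [Field k] [Algebra k R] [Algebra.FiniteType k R]
    (q : Ideal R) [q.IsPrime] (M : Ideal R) [hM : M.IsMaximal] (hqM : q ≤ M) :
    (M.height : WithBot ℕ∞) = ringKrullDim (R ⧸ q) + ((q.height : ℕ∞) : WithBot ℕ∞) := by
  have hMbar : (M.map (Ideal.Quotient.mk q)).IsMaximal :=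
    Ideal.IsMaximal.map_of_surjective_of_ker_le Ideal.Quotient.mk_surjective
      (by rw [Ideal.mk_ker]; exact hqM)
  have hcomap : (M.map (Ideal.Quotient.mk q)).comap (Ideal.Quotient.mk q) = M := by
    rw [Ideal.comap_map_of_surjective _ Ideal.Quotient.mk_surjective, ← RingHom.ker_eq_comap_bot,
      Ideal.mk_ker]
    exact sup_eq_left.mpr hqM
  haveI : (M.map (Ideal.Quotient.mk q)).IsPrime := hMbar.isPrime
  have h1 := Groth.Agent.Lib.Helper28.height_comap_eq_height_add_height_map q
    (M.map (Ideal.Quotient.mk q))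
  have h2 := Groth.Agent.Lib.Helper28.height_eq_ringKrullDim_quotient_of_isMaximal_of_finiteType
    k R q (M.map (Ideal.Quotient.mk q))
  have hMp : M.IsPrime := hM.isPrime
  have hdisj : Disjoint ((M.primeCompl : Submonoid R) : Set R) (q : Set R) := by
    rw [Set.disjoint_left]
    intro x hx hxq
    exact hx (hqM hxq)
  have h3 : (q.map (algebraMap R (Localization.AtPrime
      ((M.map (Ideal.Quotient.mk q)).comap (Ideal.Quotient.mk q))))).height = q.height := by
    have hp' : ((M.map (Ideal.Quotient.mk q)).comap (Ideal.Quotient.mk q)).IsPrime :=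
      Ideal.comap_isPrime _ _
    apply IsLocalization.height_map_of_disjoint
      ((M.map (Ideal.Quotient.mk q)).comap (Ideal.Quotient.mk q)).primeCompl
    rw [Set.disjoint_left]
    intro x hx hxq
    apply hx
    rw [hcomap]
    exact hqM hxq
  rw [h3, hcomap] at h1
  rw [h1, ← h2]
  push_cast
  rfl

/-- two maximal ideals containing a common prime have the same height. -/
theorem height_eq_of_le_of_le (k : Type u) [Field k] [Algebra k R] [Algebra.FiniteType k R]
    (q : Ideal R) [q.IsPrime] (M N : Ideal R) [M.IsMaximal]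
    [N.IsMaximal] (hM : q ≤ M) (hN : q ≤ N) : M.height = N.height := by
  have h1 := height_eq_add k q M hM
  have h2 := height_eq_add k q N hN
  exact WithBot.coe_injective (h1.trans h2.symm)

end General

section Graded

variable {R : Type u} [CommRing R] [IsNoetherianRing R] (𝒜 : ℤ → AddSubgroup R) [GradedRing 𝒜]
  (hpos : ∀ n : ℤ, n < 0 → 𝒜 n = ⊥) (h0 : IsField (GrLC.deg0 𝒜))
  (m : HomogeneousIdeal 𝒜) (hm : GrLC.IsStarLocal 𝒜 m)
  (hmsp : m.toIdeal = Ideal.span (⋃ n ∈ Set.Ioi (0 : ℤ), (𝒜 n : Set R)))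

include hpos hmsp in
/-- an element whose degree-zero component vanishes lies in `m`. -/
theorem mem_of_component_zero (x : R) (hx : ((decompose 𝒜 x) 0 : R) = 0) : x ∈ m.toIdeal := by
  classical
  rw [← DirectSum.sum_support_decompose 𝒜 x]
  apply Ideal.sum_mem
  intro i _
  rcases lt_trichotomy i 0 with hi | hi | hi
  · have h2 : ∀ y : R, y ∈ 𝒜 i → y = 0 := fun y hy => by
      rw [hpos i hi] at hy
      exact AddSubgroup.mem_bot.mp hy
    rw [h2 _ (SetLike.coe_mem _)]
    exact Ideal.zero_mem _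
  · rw [hi, hx]
    exact Ideal.zero_mem _
  · rw [hmsp]
    apply Ideal.subset_span
    rw [Set.mem_iUnion₂]
    exact ⟨i, hi, SetLike.coe_mem _⟩

include hpos h0 hm hmsp in
theorem isMaximal : m.toIdeal.IsMaximal := by
  classical
  rw [Ideal.isMaximal_iff]
  have hne := Groth.Agent.Lib.Helper29GrStarLocal.toIdeal_ne_top 𝒜 m hm
  refine ⟨fun h => hne ((Ideal.eq_top_iff_one _).mpr h), fun J x hmJ hx hxJ => ?_⟩
  set x₀ : R := ((decompose 𝒜 x) 0 : R) with hx₀
  have h1 : x - x₀ ∈ m.toIdeal := by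
    apply mem_of_component_zero 𝒜 hpos m hmsp
    rw [DirectSum.decompose_sub, DirectSum.sub_apply, AddSubgroup.coe_sub,
      DirectSum.decompose_coe, DirectSum.of_eq_same, sub_self]
  have hx₀J : x₀ ∈ J := by
    have : x₀ = x - (x - x₀) := by ring
    rw [this]
    exact J.sub_mem hxJ (hmJ h1)
  have hx₀ne : (⟨x₀, SetLike.coe_mem _⟩ : GrLC.deg0 𝒜) ≠ 0 := by
    intro h
    have h2 : x₀ = 0 := congrArg Subtype.val h
    apply hx
    rw [h2, sub_zero] at h1
    exact h1
  obtain ⟨y, hy⟩ := h0.mul_inv_cancel hx₀ne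
  have h3 : x₀ * (y : R) = 1 := congrArg Subtype.val hy
  rw [← h3]
  exact J.mul_mem_right _ hx₀J

include hpos hmsp in
/-- `R` is of finite type over its degree zero part. -/
theorem finiteType : Algebra.FiniteType (GrLC.deg0 𝒜) R := by
  classical
  have hfg : m.toIdeal.FG := IsNoetherian.noetherian m.toIdeal
  rw [hmsp] at hfg
  obtain ⟨T, hTsub, hT⟩ := (Submodule.fg_span_iff_fg_span_finset_subset _).mp hfg
  have hmT : m.toIdeal = Ideal.span (T : Set R) := by
    rw [hmsp]
    exact hT
  have hThom : ∀ t ∈ T, ∃ i : ℤ, 0 < i ∧ t ∈ 𝒜 i := by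
    intro t ht
    have := hTsub ht
    rw [Set.mem_iUnion₂] at this
    obtain ⟨i, hi, hti⟩ := this
    exact ⟨i, hi, hti⟩
  refine ⟨⟨T, ?_⟩⟩
  set B := Algebra.adjoin (GrLC.deg0 𝒜) (T : Set R) with hB
  have key : ∀ N : ℕ, ∀ d : ℤ, d < N → ∀ a ∈ 𝒜 d, a ∈ B := by
    intro N
    induction N with
    | zero =>
      intro d hd a ha
      rw [hpos d (by exact_mod_cast hd), AddSubgroup.mem_bot] at ha
      rw [ha]
      exact B.zero_mem
    | succ N ih =>
      intro d hd a ha
      rcases lt_trichotomy d 0 with hd0 | hd0 | hd0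
      · rw [hpos d hd0, AddSubgroup.mem_bot] at ha
        rw [ha]
        exact B.zero_mem
      · rw [hd0] at ha
        exact Subalgebra.algebraMap_mem B (⟨a, ha⟩ : GrLC.deg0 𝒜)
      · have ham : a ∈ m.toIdeal := by
          rw [hmsp]
          apply Ideal.subset_span
          rw [Set.mem_iUnion₂]
          exact ⟨d, hd0, ha⟩
        rw [hmT] at ham
        obtain ⟨c, hc⟩ := (Submodule.mem_span_finset'.mp ham)
        have e : a = ∑ t : ↥T, ((decompose 𝒜 (c t • (t : R))) d : R) := by
          conv_lhs => rw [← DirectSum.decompose_of_mem_same 𝒜 ha, ← hc]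
          rw [DirectSum.decompose_sum, DFinsupp.finsetSum_apply, AddSubmonoidClass.coe_finsetSum]
        rw [e]
        refine Subalgebra.sum_mem _ fun t _ => ?_
        obtain ⟨i, hi, hti⟩ := hThom t t.2
        rw [Groth.Agent.Lib.Helper29GrEss.decompose_smul_of_mem_right 𝒜 𝒜 hti (c t) d]
        apply B.mul_mem _ (Algebra.subset_adjoin t.2)
        apply ih (d - i)
        · push_cast at hd
          omega
        · exact SetLike.coe_mem _
  rw [eq_top_iff]
  intro a _
  rw [← DirectSum.sum_support_decompose 𝒜 a]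
  refine Subalgebra.sum_mem _ fun n _ => ?_
  exact key (n.toNat + 1) n (by push_cast; omega) _ (SetLike.coe_mem _)

include hpos h0 hm hmsp in
/-- the *maximal ideal of a Cohen–Macaulay graded ring over a field has height `dim R`. -/
theorem height_eq [hR : LocCoh.IsCohenMacaulayRing R] (n : ℕ) (hn : ringKrullDim R = n) :
    m.toIdeal.height = n := by
  letI F : Field (GrLC.deg0 𝒜) := h0.toField
  letI A : Algebra (GrLC.deg0 𝒜) R := RingHom.toAlgebra (GrLC.deg0 𝒜).subtype
  haveI FT : Algebra.FiniteType (GrLC.deg0 𝒜) R := finiteType 𝒜 hpos m hmsp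
  haveI hmax := isMaximal 𝒜 hpos h0 m hm hmsp
  haveI : FiniteRingKrullDim R := by
    rw [finiteRingKrullDim_iff_ne_bot_and_top, hn]
    exact ⟨WithBot.coe_ne_bot, by
      intro h
      exact ENat.natCast_ne_top n (WithBot.coe_injective h)⟩
  obtain ⟨𝔫, h𝔫, hht⟩ := Ideal.exists_isMaximal_height (R := R)
  haveI := h𝔫
  have h𝔫p : 𝔫.IsPrime := h𝔫.isPrime
  haveI : (Ideal.homogeneousCore 𝒜 𝔫).toIdeal.IsPrime := Ideal.IsPrime.homogeneousCore h𝔫p
  have hq𝔫 : (Ideal.homogeneousCore 𝒜 𝔫).toIdeal ≤ 𝔫 := Ideal.toIdeal_homogeneousCore_le 𝒜 𝔫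
  have hqm : (Ideal.homogeneousCore 𝒜 𝔫).toIdeal ≤ m.toIdeal :=
    Groth.Agent.Lib.Helper29GrStarLocal.le_of_ne_top 𝒜 m hm _
      (Ideal.homogeneousCore 𝒜 𝔫).isHomogeneous (Ideal.IsPrime.ne_top inferInstance)
  have h1 := height_eq_of_le_of_le (GrLC.deg0 𝒜) (Ideal.homogeneousCore 𝒜 𝔫).toIdeal
    m.toIdeal 𝔫 hqm hq𝔫
  have h2 : ((m.toIdeal.height : ℕ∞) : WithBot ℕ∞) = ((n : ℕ∞) : WithBot ℕ∞) := by
    rw [h1, hht, hn]
    rfl
  exact WithBot.coe_injective h2

end Graded

end Groth.Agent.Lib.Helper8.GrField
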