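import Groth.Agent.Lib.Helper25GrGlob
import Groth.Agent.Lib.Helper21HZB3
import Groth.Agent.Lib.Helper29GrCMEnd
import Groth.Agent.Lib.Helper29GrStarLocal
import Groth.Agent.Lib.Helper8GrField
import Groth.Agent.S13224
import Groth.Agent.S13225
import Groth.Agent.Lib.Helper29GrHmod

/-!
# The Cohen–Macaulay property of a graded ring over a field via graded local cohomology (helper8)
-/

set_option autoImplicit false
set_option linter.unusedSectionVars false
set_option linter.style.haveILetI false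
universe u
open DirectSum

namespace Groth.Agent.Lib.Helper8.GrCM

open Groth.Agent.Lib.Helper28 Groth.Agent.Lib.Helper5 Groth.Agent.Lib.Helper5.GenDepth
  Groth.Agent.Lib.Helper25.GrGlob

variable {R : Type u} [CommRing R] [IsNoetherianRing R] (𝒜 : ℤ → AddSubgroup R) [GradedRing 𝒜]

/-- graded local-to-global principle for the Cohen–Macaulay property -/
theorem isCohenMacaulayRing_of_cm_at (m : Ideal R) [m.IsPrime]
    (hm : ∀ J : Ideal R, J.IsHomogeneous 𝒜 → J ≠ ⊤ → J ≤ m)
    (hCM : LocCoh.IsCohenMacaulayModule (Localization.AtPrime m)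
      (LocalizedModule m.primeCompl R)) :
    LocCoh.IsCohenMacaulayRing R := by
  classical
  refine ⟨fun q hq => ?_⟩
  haveI := hq
  haveI hcore : (Ideal.homogeneousCore 𝒜 q).toIdeal.IsPrime := Ideal.IsPrime.homogeneousCore hq
  have hcore_le : (Ideal.homogeneousCore 𝒜 q).toIdeal ≤ q := Ideal.toIdeal_homogeneousCore_le _ q
  have hle_m : (Ideal.homogeneousCore 𝒜 q).toIdeal ≤ m :=
    hm _ (Ideal.homogeneousCore 𝒜 q).isHomogeneous hcore.ne_top
  have hprimeq : (q.map (Ideal.Quotient.mk (Ideal.homogeneousCore 𝒜 q).toIdeal)).IsPrime :=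
    Ideal.map_isPrime_of_surjective Ideal.Quotient.mk_surjective (by rwa [Ideal.mk_ker])
  obtain ⟨dd, hdd⟩ := ENat.ne_top_iff_exists.mp (Ideal.height_ne_top hprimeq.ne_top)
  obtain ⟨g1, g2⟩ := Groth.Agent.Lib.Helper5.GrLoc.main 𝒜 q R 𝒜 dd hdd.symm
  have hsuppq : Nontrivial (LocalizedModule q.primeCompl R) :=
    (localizedModuleSelfEquiv q).toEquiv.nontrivial
  have hsuppc : Nontrivial (LocalizedModule (Ideal.homogeneousCore 𝒜 q).toIdeal.primeCompl R) :=
    (localizedModuleSelfEquiv (Ideal.homogeneousCore 𝒜 q).toIdeal).toEquiv.nontrivial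
  have hLL := dm_eq_dep_of_le (Ideal.homogeneousCore 𝒜 q).toIdeal m hle_m R hCM hsuppc
  have h : dm q R = ((dep q R : ℕ∞) : WithBot ℕ∞) := by
    rw [g2 hsuppq, hLL, g1]
    push_cast
    rfl
  refine { supportDim_eq_depth := ?_ }
  rw [← depth_localizedModule_self, ← Module.supportDim_eq_of_equiv (localizedModuleSelfEquiv q)]
  exact h

variable (hpos : ∀ n : ℤ, n < 0 → 𝒜 n = ⊥) (h0 : IsField (GrLC.deg0 𝒜))
  (m : HomogeneousIdeal 𝒜) (hm : GrLC.IsStarLocal 𝒜 m)
  (hmsp : m.toIdeal = Ideal.span (⋃ n ∈ Set.Ioi (0 : ℤ), (𝒜 n : Set R)))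
  (e : ℕ) (he : ringKrullDim R = e) (E : GrLC.StarInjRes 𝒜 𝒜)

include hpos h0 hm hmsp he in
/-- a Cohen–Macaulay graded ring over a field has no graded local cohomology below its
dimension -/
theorem Hcomp_eq_bot_of_isCohenMacaulayRing [hR : LocCoh.IsCohenMacaulayRing R] (i : ℕ)
    (hi : i < e) (n : ℤ) : E.Hcomp m i n = ⊥ := by
  have hht : m.toIdeal.height = e :=
    Groth.Agent.Lib.Helper8.GrField.height_eq 𝒜 hpos h0 m hm hmsp e he
  have hne : m.toIdeal ≠ ⊤ := Groth.Agent.Lib.Helper29GrStarLocal.toIdeal_ne_top 𝒜 m hm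
  have hdepth : LocCoh.idealDepth m.toIdeal R = e := by
    rw [idealDepth_self_eq_height_of_isCohenMacaulayRing hR m.toIdeal hne, hht]
  haveI hsub := (Groth.Agent.Lib.Helper21.HZB.forall_subsingleton_H_iff m.toIdeal R e).mpr
    (le_of_eq hdepth.symm) i hi
  exact Groth.Agent.Lib.Helper29GrCMEnd.Hcomp_eq_bot_of_H_eq_zero m E i
    (fun y => Subsingleton.elim _ _) n

include hpos h0 hm hmsp he in
/-- a graded ring over a field whose graded local cohomology vanishes below its dimension is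
Cohen–Macaulay -/
theorem isCohenMacaulayRing_of_Hcomp_eq_bot
    (h : ∀ i, i < e → ∀ n, E.Hcomp m i n = ⊥) : LocCoh.IsCohenMacaulayRing R := by
  classical
  haveI hmax : m.toIdeal.IsMaximal :=
    Groth.Agent.Lib.Helper8.GrField.isMaximal 𝒜 hpos h0 m hm hmsp
  haveI hprime : m.toIdeal.IsPrime := hmax.isPrime
  have hH : ∀ i, i < e → Subsingleton (LocCoh.H m.toIdeal i R) := by
    intro i hi
    obtain ⟨eqv⟩ := Groth.Agent.S13224.result R 𝒜 m R 𝒜 E i
    have hint := Groth.Agent.S13225.result R 𝒜 m R 𝒜 E i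
    have hz : ∀ y : E.H m i, y = 0 := by
      intro y
      obtain ⟨x, rfl⟩ := hint.2 y
      have hx : x = 0 := by
        ext n
        have h1 : ((x n : ↥(E.Hgr m i n)) : E.H m i) ∈ E.Hcomp m i n := (x n).2
        rw [h i hi n] at h1
        exact (Submodule.mem_bot _).mp h1
      rw [hx, map_zero]
    exact ⟨fun a b => eqv.symm.injective ((hz _).trans (hz _).symm)⟩
  have hdepth : (e : ℕ∞) ≤ LocCoh.idealDepth m.toIdeal R :=
    (Groth.Agent.Lib.Helper21.HZB.forall_subsingleton_H_iff m.toIdeal R e).mp hH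
  have h2 : (e : ℕ∞) ≤ dep m.toIdeal R :=
    hdepth.trans (idealDepth_le_depth_localization m.toIdeal R le_rfl)
  haveI hnt : Nontrivial (LocalizedModule m.toIdeal.primeCompl R) :=
    (localizedModuleSelfEquiv m.toIdeal).toEquiv.nontrivial
  have h3 : ((dep m.toIdeal R : ℕ∞) : WithBot ℕ∞) ≤ dm m.toIdeal R :=
    Groth.Agent.Lib.Helper28.depth_le_supportDim
  have h1 : dm m.toIdeal R ≤ (e : WithBot ℕ∞) := by
    unfold dm
    rw [Module.supportDim_eq_of_equiv (localizedModuleSelfEquiv m.toIdeal),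
      supportDim_localization_self, ← he]
    exact Ideal.height_le_ringKrullDim_of_ne_top hprime.ne_top
  have hCM : LocCoh.IsCohenMacaulayModule (Localization.AtPrime m.toIdeal)
      (LocalizedModule m.toIdeal.primeCompl R) := by
    unfold LocCoh.IsCohenMacaulayModule
    refine le_antisymm (h1.trans ?_) h3
    exact WithBot.coe_le_coe.mpr h2
  exact isCohenMacaulayRing_of_cm_at 𝒜 m.toIdeal
    (fun J hJ hne => Groth.Agent.Lib.Helper29GrStarLocal.le_of_ne_top 𝒜 m hm J hJ hne) hCM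

include hpos h0 hmsp in
/-- a nonnegatively graded ring whose degree zero part is a field is *local, with *maximal ideal
the irrelevant ideal -/
theorem isStarLocal_of_field [Nontrivial R] : GrLC.IsStarLocal 𝒜 m := by
  classical
  have hle : ∀ J : HomogeneousIdeal 𝒜, J ≠ ⊤ → J ≤ m := by
    intro J hJ x hx
    have hmem : ∀ x₀ : R, x₀ = ((decompose 𝒜 x) 0 : R) → x₀ = 0 := by
      intro x₀ hx₀
      by_contra hne
      apply hJ
      have hx0 : x₀ ∈ J.toIdeal := by rw [hx₀]; exact J.isHomogeneous 0 hx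
      have hx0deg : x₀ ∈ 𝒜 0 := by rw [hx₀]; exact SetLike.coe_mem _
      have hx₀ne : (⟨x₀, hx0deg⟩ : GrLC.deg0 𝒜) ≠ 0 := fun h => hne (congrArg Subtype.val h)
      obtain ⟨y, hy⟩ := h0.mul_inv_cancel hx₀ne
      have h3 : x₀ * (y : R) = 1 := congrArg Subtype.val hy
      apply HomogeneousIdeal.toIdeal_injective
      rw [HomogeneousIdeal.toIdeal_top, Ideal.eq_top_iff_one, ← h3]
      exact J.toIdeal.mul_mem_right _ hx0
    exact Groth.Agent.Lib.Helper8.GrField.mem_of_component_zero 𝒜 hpos m hmsp x (hmem _ rfl)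
  have hmne : m ≠ ⊤ := by
    intro h
    have h1 : (1 : R) ∈ m.toIdeal := by rw [h, HomogeneousIdeal.toIdeal_top]; trivial
    rw [hmsp] at h1
    have h2 := Groth.Agent.Lib.Helper29.GrHmod.component_zero_of_mem_Rp 𝒜 hpos h1
    rw [DirectSum.decompose_of_mem_same 𝒜 (SetLike.one_mem_graded 𝒜)] at h2
    exact one_ne_zero h2
  refine ⟨⟨hmne, fun b hb => ?_⟩, fun n hn => ?_⟩
  · by_contra hbt
    exact lt_irrefl _ (lt_of_lt_of_le hb (hle b hbt))
  · have h1 := hle n hn.1
    by_contra hne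
    exact hmne (hn.2 m (lt_of_le_of_ne h1 hne))

end Groth.Agent.Lib.Helper8.GrCM
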