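import Groth.Agent.Lib.Helper29GrFree
import Groth.Agent.Lib.Helper29GrLCFun
import Groth.Agent.Lib.Helper8GrCM
import Groth.Agent.Lib.Helper8LCAdd

/-! Graded free covers of finitely generated graded modules, and vanishing of the graded local
cohomology of graded free modules over a Cohen–Macaulay graded ring below the dimension
(helper29). -/

set_option autoImplicit false
set_option linter.style.haveILetI false
set_option linter.unusedSectionVars false
open DirectSum

noncomputable section

namespace Groth.Agent.Lib.Helper29.GrFreeCover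

open Groth.Agent.Lib.Helper29GrFree Groth.Agent.Lib.Helper29.GrLCFun
open Groth.Agent.Lib.Helper28 Groth.Agent.Lib.Helper5 Groth.Agent.Lib.Helper5.GenDepth
  Groth.Agent.Lib.Helper25.GrGlob

universe u

variable {R : Type u} [CommRing R] [IsNoetherianRing R] (𝒜 : ℤ → AddSubgroup R) [GradedRing 𝒜]

section Cover

variable {M : Type u} [AddCommGroup M] [Module R M] (ℳ : ℤ → AddSubgroup M)
  [DirectSum.Decomposition ℳ] [SetLike.GradedSMul 𝒜 ℳ] [Module.Finite R M]

/-- A finitely generated graded module is a homogeneous quotient of a graded free module. -/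
theorem exists_free_cover : ∃ (t : ℕ) (deg : Fin t → ℤ) (π : (Fin t → R) →ₗ[R] M),
    GrLC.IsGrHom (freeGr 𝒜 deg) ℳ π ∧ Function.Surjective π := by
  classical
  obtain ⟨S, hS, hspan⟩ := Groth.Agent.Lib.Helper29GrBaer.exists_homogeneous_generators (R := R) ℳ
  let e := S.equivFin
  let x : Fin S.card → M := fun b => ((e.symm b : ↥S) : M)
  have hx : ∀ b, ∃ g, x b ∈ ℳ g := fun b => hS _ (e.symm b).2
  choose deg hdeg using hx
  refine ⟨S.card, deg, Fintype.linearCombination R x, ?_, ?_⟩
  · intro γ v hv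
    rw [Fintype.linearCombination_apply]
    apply sum_mem
    intro b _
    have h1 := SetLike.GradedSMul.smul_mem (A := 𝒜) (B := ℳ) ((mem_freeGr 𝒜 deg γ v).mp hv b)
      (hdeg b)
    rw [vadd_eq_add, sub_add_cancel] at h1
    exact h1
  · rw [← LinearMap.range_eq_top, Fintype.range_linearCombination]
    have : Set.range x = (S : Set M) := by
      ext y
      constructor
      · rintro ⟨b, rfl⟩
        exact (e.symm b).2
      · intro hy
        exact ⟨e ⟨y, hy⟩, by simp [x]⟩
    rw [this, hspan]

end Cover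

section Vanish

variable (hR : LocCoh.IsCohenMacaulayRing R)
  (hpos : ∀ n : ℤ, n < 0 → 𝒜 n = ⊥) (h0 : IsField (GrLC.deg0 𝒜))
  (m : HomogeneousIdeal 𝒜) (hm : GrLC.IsStarLocal 𝒜 m)
  (hmsp : m.toIdeal = Ideal.span (⋃ n ∈ Set.Ioi (0 : ℤ), (𝒜 n : Set R)))
  (e : ℕ) (he : ringKrullDim R = e)

include hR hpos h0 hm hmsp he in
theorem LC_ring_eq_zero (i : ℕ) (hi : i < e)
    (x : (localCohomology m.toIdeal i).obj (ModuleCat.of R R)) : x = 0 := by
  have hht : m.toIdeal.height = e :=
    Groth.Agent.Lib.Helper8.GrField.height_eq 𝒜 hpos h0 m hm hmsp e he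
  have hne : m.toIdeal ≠ ⊤ := Groth.Agent.Lib.Helper29GrStarLocal.toIdeal_ne_top 𝒜 m hm
  have hdepth : LocCoh.idealDepth m.toIdeal R = e := by
    rw [idealDepth_self_eq_height_of_isCohenMacaulayRing hR m.toIdeal hne, hht]
  haveI hsub := (Groth.Agent.Lib.Helper21.HZB.forall_subsingleton_H_iff m.toIdeal R e).mpr
    (le_of_eq hdepth.symm) i hi
  exact Subsingleton.elim (α := LocCoh.H m.toIdeal i R) _ _

include hR hpos h0 hm hmsp he in
/-- The graded local cohomology of a graded free module over a Cohen–Macaulay graded ring over a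
field vanishes below the dimension. -/
theorem free_H_eq_zero {t : ℕ} (deg : Fin t → ℤ)
    (EF : GrLC.StarInjRes 𝒜 (freeGMod 𝒜 deg).gr) (i : ℕ) (hi : i < e) (y : EF.H m i) : y = 0 := by
  apply (cE m EF i).injective
  rw [map_zero]
  exact Groth.Agent.Lib.Helper8.LC.H_pi_eq_zero m.toIdeal i t
    (LC_ring_eq_zero 𝒜 hR hpos h0 m hm hmsp e he i hi) _

end Vanish

end Groth.Agent.Lib.Helper29.GrFreeCover
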