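import Groth.Agent.Lib.Helper29GrLCFun
import Groth.Agent.Lib.Helper29GrFreeCover
import Groth.Agent.S11614

/-! Independence of the base for graded local cohomology: for a finite homogeneous ring map
`R → S` of graded rings over a field, the graded local cohomology of `S` with support in `S_+`
computed from a *injective resolution over `S` agrees, compatibly with degrees and `R`-linearly,
with the one with support in `R_+` computed from a *injective resolution over `R` (helper29). -/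

set_option autoImplicit false
set_option linter.style.haveILetI false
set_option linter.unusedSectionVars false
open CategoryTheory DirectSum

noncomputable section

namespace Groth.Agent.Lib.Helper29.GrBaseIndep

open Groth.Agent.Lib.Helper29LCAcyclic Groth.Agent.Lib.Helper29.LCNat
  Groth.Agent.Lib.Helper29.GrLCFun Groth.Agent.Lib.Helper29GrFree
  Groth.Agent.Lib.Helper29.GrFreeCover

universe u

/-- The carrier of a bundled graded `S`-module, to be regarded as an `R`-module. -/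
@[nolint unusedArguments]
def Res (R : Type u) {S : Type u} [CommRing S] {𝒜' : ℤ → AddSubgroup S} [GradedRing 𝒜']
    (X : GrLC.GMod.{u} 𝒜') : Type u := X.carrier

variable (R : Type u) [CommRing R] {S : Type u} [CommRing S] [Algebra R S]
  {𝒜' : ℤ → AddSubgroup S} [GradedRing 𝒜']

instance (X : GrLC.GMod.{u} 𝒜') : AddCommGroup (Res R X) := X.acg

instance (X : GrLC.GMod.{u} 𝒜') : Module S (Res R X) := X.mod

instance (X : GrLC.GMod.{u} 𝒜') : Module R (Res R X) :=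
  Module.compHom X.carrier (algebraMap R S)

theorem res_smul_def (X : GrLC.GMod.{u} 𝒜') (r : R) (x : Res R X) :
    r • x = algebraMap R S r • x := rfl

instance (X : GrLC.GMod.{u} 𝒜') : IsScalarTower R S (Res R X) :=
  ⟨fun r s x => by
    rw [res_smul_def, Algebra.smul_def, mul_smul]⟩

/-- The pieces. -/
def resGr (X : GrLC.GMod.{u} 𝒜') : ℤ → AddSubgroup (Res R X) := X.gr

instance (X : GrLC.GMod.{u} 𝒜') : DirectSum.Decomposition (resGr R X) := X.dec

variable {R}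
variable (𝒜 : ℤ → AddSubgroup R) [GradedRing 𝒜]
  (hf : ∀ j : ℤ, (𝒜 j).map (algebraMap R S : R →+ S) ≤ 𝒜' j)

include hf in
theorem algebraMap_mem {j : ℤ} {r : R} (hr : r ∈ 𝒜 j) : algebraMap R S r ∈ 𝒜' j :=
  hf j ⟨r, hr, rfl⟩

include hf in
/-- `S` is a graded `R`-module. -/
theorem gradedSMul_self : SetLike.GradedSMul 𝒜 𝒜' where
  smul_mem := by
    intro i j r s hr hs
    rw [Algebra.smul_def]
    exact SetLike.GradedMul.mul_mem (algebraMap_mem 𝒜 hf hr) hs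

include hf in
theorem res_gradedSMul (X : GrLC.GMod.{u} 𝒜') : SetLike.GradedSMul 𝒜 (resGr R X) where
  smul_mem := by
    intro i j r x hr hx
    rw [res_smul_def]
    have hx' : (show X.carrier from x) ∈ X.gr j := hx
    have h := SetLike.GradedSMul.smul_mem (A := 𝒜') (B := X.gr) (algebraMap_mem 𝒜 hf hr) hx'
    exact h

/-- A graded `S`-module as a graded `R`-module. -/
def resGMod (X : GrLC.GMod.{u} 𝒜') : GrLC.GMod.{u} 𝒜 :=
  { carrier := Res R X
    gr := resGr R X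
    gsmul := res_gradedSMul 𝒜 hf X }


section Radical

variable [IsNoetherianRing R] [Module.Finite R S]
  (m : HomogeneousIdeal 𝒜)
  (hmsp : m.toIdeal = Ideal.span (⋃ n ∈ Set.Ioi (0 : ℤ), (𝒜 n : Set R)))
  (m' : HomogeneousIdeal 𝒜')
  (hm'sp : m'.toIdeal = Ideal.span (⋃ j ∈ Set.Ioi (0 : ℤ), (𝒜' j : Set S)))

include hf hmsp hm'sp in
theorem map_le : m.toIdeal.map (algebraMap R S) ≤ m'.toIdeal := by
  rw [hmsp, Ideal.map_span, Ideal.span_le]
  rintro _ ⟨r, hr, rfl⟩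
  simp only [Set.mem_iUnion, Set.mem_Ioi, SetLike.mem_coe] at hr
  obtain ⟨i, hi, hri⟩ := hr
  rw [hm'sp]
  apply Ideal.subset_span
  simp only [Set.mem_iUnion, Set.mem_Ioi, SetLike.mem_coe]
  exact ⟨i, hi, algebraMap_mem 𝒜 hf hri⟩

include hf hmsp in
/-- High degree pieces of `S` lie in `m S`. -/
theorem exists_bound_piece_le : ∃ D : ℤ, ∀ i : ℤ, D < i → ∀ x ∈ 𝒜' i,
    x ∈ m.toIdeal.map (algebraMap R S) := by
  classical
  haveI := gradedSMul_self 𝒜 hf
  obtain ⟨t, deg, π, hπg, hπs⟩ := exists_free_cover 𝒜 𝒜'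
  obtain ⟨D, hD⟩ : ∃ D : ℤ, ∀ b, deg b ≤ D := by
    obtain ⟨D, hD⟩ := (Set.finite_range deg).bddAbove
    exact ⟨D, fun b => hD ⟨b, rfl⟩⟩
  refine ⟨D, fun i hi x hx => ?_⟩
  obtain ⟨v, rfl⟩ := hπs x
  have h1 := Groth.Agent.Lib.Helper29GrHom.decompose_map 𝒜' (freeGMod 𝒜 deg).gr π hπg v i
  have h2 : π v = π ((decompose (freeGMod 𝒜 deg).gr v) i : (freeGMod 𝒜 deg).carrier) :=
    (DirectSum.decompose_of_mem_same 𝒜' hx).symm.trans h1
  rw [h2, LinearMap.pi_apply_eq_sum_univ]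
  apply Ideal.sum_mem
  intro b _
  have hvb : (((decompose (freeGMod 𝒜 deg).gr v) i : (freeGMod 𝒜 deg).carrier) : Fin t → R) b ∈
      𝒜 (i - deg b) :=
    (mem_freeGr 𝒜 deg i _).mp (SetLike.coe_mem ((decompose (freeGMod 𝒜 deg).gr v) i)) b
  have hmem : (((decompose (freeGMod 𝒜 deg).gr v) i : (freeGMod 𝒜 deg).carrier) : Fin t → R) b ∈
      m.toIdeal := by
    rw [hmsp]
    apply Ideal.subset_span
    simp only [Set.mem_iUnion, Set.mem_Ioi, SetLike.mem_coe]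
    exact ⟨i - deg b, by have := hD b; omega, hvb⟩
  rw [Algebra.smul_def]
  exact Ideal.mul_mem_right _ _ (Ideal.mem_map_of_mem _ hmem)

include hf hmsp hm'sp in
theorem le_radical_map : m'.toIdeal ≤ (m.toIdeal.map (algebraMap R S)).radical := by
  obtain ⟨D, hD⟩ := exists_bound_piece_le 𝒜 hf m hmsp
  rw [hm'sp, Ideal.span_le]
  intro s hs
  simp only [Set.mem_iUnion, Set.mem_Ioi, SetLike.mem_coe] at hs
  obtain ⟨j, hj, hsj⟩ := hs
  refine ⟨D.toNat + 1, hD ((D.toNat + 1) • j) ?_ _ (SetLike.pow_mem_graded (D.toNat + 1) hsj)⟩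
  have h1 : (D.toNat : ℤ) + 1 ≤ ((D.toNat + 1 : ℕ) : ℤ) * j := by
    have : ((D.toNat + 1 : ℕ) : ℤ) * 1 ≤ ((D.toNat + 1 : ℕ) : ℤ) * j :=
      mul_le_mul_of_nonneg_left (by omega) (by positivity)
    push_cast at this ⊢
    linarith
  have h2 : D ≤ (D.toNat : ℤ) := Int.self_le_toNat D
  rw [nsmul_eq_mul]
  omega

include hf hmsp hm'sp in
theorem radical_eq : (m.toIdeal.map (algebraMap R S)).radical = m'.toIdeal.radical := by
  apply le_antisymm
  · exact Ideal.radical_mono (map_le 𝒜 hf m hmsp m' hm'sp)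
  · rw [← Ideal.radical_idem (m.toIdeal.map (algebraMap R S))]
    exact Ideal.radical_mono (le_radical_map 𝒜 hf m hmsp m' hm'sp)

end Radical


section Main

variable [IsNoetherianRing R] [IsNoetherianRing S] [Module.Finite R S]
  (m : HomogeneousIdeal 𝒜)
  (hmsp : m.toIdeal = Ideal.span (⋃ n ∈ Set.Ioi (0 : ℤ), (𝒜 n : Set R)))
  (m' : HomogeneousIdeal 𝒜')
  (hm'sp : m'.toIdeal = Ideal.span (⋃ j ∈ Set.Ioi (0 : ℤ), (𝒜' j : Set S)))
  (I' : GrLC.StarInjRes 𝒜' 𝒜')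

/-- The differentials, restricted to `R`. -/
def Rd (n : ℕ) : Res R (I'.X n) →ₗ[R] Res R (I'.X (n + 1)) where
  toFun := I'.d n
  map_add' := map_add (I'.d n)
  map_smul' r x := by
    rw [res_smul_def, RingHom.id_apply, res_smul_def]
    exact map_smul (I'.d n) (algebraMap R S r) x

theorem Rd_apply (n : ℕ) (x : Res R (I'.X n)) : Rd I' n x = I'.d n x := rfl

/-- The augmentation, restricted to `R`. -/
def Rε : S →ₗ[R] Res R (I'.X 0) where
  toFun := I'.ε
  map_add' := map_add I'.ε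
  map_smul' r s := by
    rw [RingHom.id_apply, res_smul_def, Algebra.smul_def, ← smul_eq_mul]
    exact map_smul I'.ε (algebraMap R S r) s

theorem Rε_apply (s : S) : Rε (R := R) I' s = I'.ε s := rfl

theorem Rd_exact_succ (n : ℕ) :
    LinearMap.ker (Rd (R := R) I' (n + 1)) = LinearMap.range (Rd (R := R) I' n) := by
  have h := I'.exact_succ n
  ext x
  constructor
  · intro hx
    have hx' : (show (I'.X (n + 1)).carrier from x) ∈ LinearMap.ker (I'.d (n + 1)) := hx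
    rw [h] at hx'
    obtain ⟨y, hy⟩ := hx'
    exact ⟨y, hy⟩
  · rintro ⟨y, rfl⟩
    have : I'.d n y ∈ LinearMap.ker (I'.d (n + 1)) := by rw [h]; exact ⟨y, rfl⟩
    exact this

theorem Rd_exact_zero :
    LinearMap.ker (Rd (R := R) I' 0) = LinearMap.range (Rε (R := R) I') := by
  have h := I'.exact_zero
  ext x
  constructor
  · intro hx
    have hx' : (show (I'.X 0).carrier from x) ∈ LinearMap.ker (I'.d 0) := hx
    rw [h] at hx'
    obtain ⟨y, hy⟩ := hx'
    exact ⟨y, hy⟩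
  · rintro ⟨y, rfl⟩
    have : I'.ε y ∈ LinearMap.ker (I'.d 0) := by rw [h]; exact ⟨y, rfl⟩
    exact this

include hf hmsp hm'sp in
/-- The torsion submodules over `R` and over `S` agree. -/
theorem mem_gam_iff (X : GrLC.GMod.{u} 𝒜') (x : X.carrier) :
    x ∈ GrLC.gam m'.toIdeal X.carrier ↔
      (show Res R X from x) ∈ GrLC.gam m.toIdeal (Res R X) := by
  constructor
  · rintro ⟨k, hk⟩
    refine ⟨k, fun r hr => ?_⟩
    rw [res_smul_def]
    apply hk
    have h1 : algebraMap R S r ∈ (m.toIdeal ^ k).map (algebraMap R S) :=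
      Ideal.mem_map_of_mem _ hr
    rw [Ideal.map_pow] at h1
    exact Ideal.pow_right_mono (map_le 𝒜 hf m hmsp m' hm'sp) k h1
  · rintro ⟨k, hk⟩
    obtain ⟨N, hN⟩ := Ideal.exists_pow_le_of_le_radical_of_fg
      (le_radical_map 𝒜 hf m hmsp m' hm'sp) (IsNoetherian.noetherian _)
    refine ⟨N * k, fun s hs => ?_⟩
    have h1 : s ∈ (m.toIdeal ^ k).map (algebraMap R S) := by
      rw [Ideal.map_pow]
      rw [pow_mul] at hs
      exact Ideal.pow_right_mono hN k hs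
    have h2 : ∀ s ∈ (m.toIdeal ^ k).map (algebraMap R S), s • x = 0 := by
      intro s hs
      refine Submodule.span_induction ?_ ?_ ?_ ?_ hs
      · rintro _ ⟨r, hr, rfl⟩
        exact hk r hr
      · exact zero_smul _ _
      · intro a b _ _ ha hb
        rw [add_smul, ha, hb, add_zero]
      · intro a b _ hb
        rw [smul_eq_mul, mul_smul, hb, smul_zero]
    exact h2 s h1

include hf hmsp hm'sp in
/-- The terms of a *injective resolution over `S` are acyclic for `Γ_m` over `R`. -/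
theorem res_acyclic (n j : ℕ) (x : LC m.toIdeal (j + 1) (Res R (I'.X n))) : x = 0 := by
  obtain ⟨φ, -⟩ := Groth.Agent.S11614.result R S m.toIdeal (Res R (I'.X n)) (j + 1)
  have hx : φ.symm x = 0 := by
    let iso := (localCohomology.isoOfSameRadical (radical_eq 𝒜 hf m hmsp m' hm'sp) (j + 1)).app
      (ModuleCat.of S (Res R (I'.X n)))
    have h1 : iso.hom (φ.symm x) = 0 := hacyc m' I' n j _
    have h2 : φ.symm x = iso.inv (iso.hom (φ.symm x)) := (Iso.hom_inv_id_apply iso _).symm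
    rw [h2, h1, map_zero]
  rw [← φ.apply_symm_apply x, hx, map_zero]


section Theta

variable [SetLike.GradedSMul 𝒜 𝒜'] (ES : GrLC.StarInjRes 𝒜 𝒜')
  (θ : ∀ n, Res R (I'.X n) →ₗ[R] (ES.X n).carrier)
  (hθgr : ∀ n, GrLC.IsGrHom (resGr R (I'.X n)) (ES.X n).gr (θ n))
  (hθ0 : ∀ s : S, θ 0 (Rε (R := R) I' s) = ES.ε s)
  (hθ : ∀ (n : ℕ) (x : Res R (I'.X n)), θ (n + 1) (Rd I' n x) = ES.d n (θ n x))

include hf hmsp hm'sp in
/-- A torsion cocycle over `S` is a torsion cocycle over `R`. -/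
theorem mem_cocycR (p : ℕ) (z : ↥(I'.cocyc m' p)) :
    (show Res R (I'.X p) from (z : (I'.X p).carrier)) ∈
      cocyc m.toIdeal (fun n => Res R (I'.X n)) (Rd I') p :=
  ⟨(mem_gam_iff 𝒜 hf m hmsp m' hm'sp (I'.X p) z).mp z.2.1, z.2.2⟩

/-- The cocycle over `R` attached to a cocycle over `S`. -/
def toR (p : ℕ) : ↥(I'.cocyc m' p) →+
    ↥(cocyc m.toIdeal (fun n => Res R (I'.X n)) (Rd I') p) where
  toFun z := ⟨(show Res R (I'.X p) from (z : (I'.X p).carrier)),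
    mem_cocycR 𝒜 hf m hmsp m' hm'sp I' p z⟩
  map_zero' := rfl
  map_add' _ _ := rfl

/-- The comparison map on cocycles over `R`. -/
def ΘR (p : ℕ) : ↥(cocyc m.toIdeal (fun n => Res R (I'.X n)) (Rd I') p) →ₗ[R] ES.H m p :=
  (show ↥(cocyc m.toIdeal (fun n => (ES.X n).carrier) ES.d p) →ₗ[R] ES.H m p from
    ES.toH m p) ∘ₗ
    θc m.toIdeal (fun n => Res R (I'.X n)) (Rd I') (fun n => (ES.X n).carrier) ES.d θ hθ p

/-- The comparison map on cocycles. -/
def Θ₀ (p : ℕ) : ↥(I'.cocyc m' p) →+ ES.H m p :=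
  (ΘR 𝒜 m I' ES θ hθ p).toAddMonoidHom.comp (toR 𝒜 hf m hmsp m' hm'sp I' p)

theorem Θ₀_apply (p : ℕ) (z : ↥(I'.cocyc m' p)) :
    Θ₀ 𝒜 hf m hmsp m' hm'sp I' ES θ hθ p z = ES.toH m p (θc m.toIdeal
      (fun n => Res R (I'.X n)) (Rd I') (fun n => (ES.X n).carrier) ES.d θ hθ p
      (toR 𝒜 hf m hmsp m' hm'sp I' p z)) := rfl

theorem Θ₀_cobdy (p : ℕ) (z : ↥(I'.cocyc m' p))
    (hz : (z : (I'.X p).carrier) ∈ I'.cobdy m' p) :
    Θ₀ 𝒜 hf m hmsp m' hm'sp I' ES θ hθ p z = 0 := by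
  rw [Θ₀_apply, Submodule.mkQ_apply, Submodule.Quotient.mk_eq_zero]
  show θ p (show Res R (I'.X p) from (z : (I'.X p).carrier)) ∈ ES.cobdy m p
  cases p with
  | zero =>
    have h0 : (z : (I'.X 0).carrier) = 0 := (Submodule.mem_bot S).mp hz
    rw [h0]
    show θ 0 0 ∈ ES.cobdy m 0
    rw [map_zero]
    exact zero_mem _
  | succ q =>
    obtain ⟨w, hw, hwz⟩ := hz
    have hw' := (mem_gam_iff 𝒜 hf m hmsp m' hm'sp (I'.X q) w).mp hw
    refine ⟨θ q (show Res R (I'.X q) from w),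
      Groth.Agent.Lib.Helper29GrConeLES.map_mem_gam m.toIdeal (θ q) hw', ?_⟩
    rw [← hθ q, Rd_apply]
    exact congrArg (θ (q + 1)) hwz

/-- The comparison map `H^p_{m'}(S) → H^p_m(S)`. -/
def Θ (p : ℕ) : I'.H m' p →+ ES.H m p :=
  QuotientAddGroup.lift ((I'.cobdy m' p).comap (I'.cocyc m' p).subtype).toAddSubgroup
    (Θ₀ 𝒜 hf m hmsp m' hm'sp I' ES θ hθ p)
    (fun z hz => Θ₀_cobdy 𝒜 hf m hmsp m' hm'sp I' ES θ hθ p z hz)

theorem Θ_mk (p : ℕ) (z : ↥(I'.cocyc m' p)) :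
    Θ 𝒜 hf m hmsp m' hm'sp I' ES θ hθ p (I'.toH m' p z) =
      Θ₀ 𝒜 hf m hmsp m' hm'sp I' ES θ hθ p z := rfl


theorem Θ_semilinear (p : ℕ) (r : R) (x : I'.H m' p) :
    Θ 𝒜 hf m hmsp m' hm'sp I' ES θ hθ p (algebraMap R S r • x) =
      r • Θ 𝒜 hf m hmsp m' hm'sp I' ES θ hθ p x := by
  obtain ⟨z, rfl⟩ := Submodule.mkQ_surjective _ x
  have h1 : algebraMap R S r • (Submodule.mkQ _ z : I'.H m' p) =
      I'.toH m' p (algebraMap R S r • z) := rfl
  have h2 : (Submodule.mkQ _ z : I'.H m' p) = I'.toH m' p z := rfl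
  rw [h1, h2, Θ_mk, Θ_mk, Θ₀_apply, Θ₀_apply]
  have h3 : toR 𝒜 hf m hmsp m' hm'sp I' p (algebraMap R S r • z) =
      r • toR 𝒜 hf m hmsp m' hm'sp I' p z := rfl
  rw [h3, map_smul]
  rfl

include hθgr in
theorem Θ_mem_Hgr (p : ℕ) (γ : ℤ) (x : I'.H m' p) (hx : x ∈ I'.Hgr m' p γ) :
    Θ 𝒜 hf m hmsp m' hm'sp I' ES θ hθ p x ∈ ES.Hgr m p γ := by
  obtain ⟨z, hzγ, rfl⟩ := hx
  rw [Θ_mk, Θ₀_apply]
  exact ⟨_, hθgr p γ _ hzγ, rfl⟩

include hθ0 in
/-- The comparison map and the comparison isomorphisms with Mathlib's local cohomology. -/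
theorem cE_Θ (p : ℕ) (z : ↥(I'.cocyc m' p)) :
    cE m ES p (Θ 𝒜 hf m hmsp m' hm'sp I' ES θ hθ p (I'.toH m' p z)) =
      cmp m.toIdeal (fun n => Res R (I'.X n)) (Rd I') (Rd_exact_succ I') (Rε I')
        I'.ε_injective (Rd_exact_zero I') p (toR 𝒜 hf m hmsp m' hm'sp I' p z) := by
  rw [Θ_mk, Θ₀_apply, cE_mk]
  have h := cmp_naturality m.toIdeal (fun n => Res R (I'.X n)) (Rd I') (Rd_exact_succ I')
    (Rε I') I'.ε_injective (Rd_exact_zero I') (fun n => (ES.X n).carrier) ES.d ES.exact_succ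
    ES.ε ES.ε_injective ES.exact_zero (LinearMap.id : S →ₗ[R] S) θ hθ hθ0 p
    (toR 𝒜 hf m hmsp m' hm'sp I' p z)
  rw [h, ModuleCat.ofHom_id, (localCohomology m.toIdeal p).map_id]
  rfl

include hθ0 in
theorem Θ_bijective (p : ℕ) :
    Function.Bijective (Θ 𝒜 hf m hmsp m' hm'sp I' ES θ hθ p) := by
  have hac := res_acyclic 𝒜 hf m hmsp m' hm'sp I'
  constructor
  · rw [injective_iff_map_eq_zero]
    intro x hx
    obtain ⟨z, rfl⟩ := Submodule.mkQ_surjective _ x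
    have h2 : (Submodule.mkQ _ z : I'.H m' p) = I'.toH m' p z := rfl
    rw [h2] at hx ⊢
    have h3 := cE_Θ 𝒜 hf m hmsp m' hm'sp I' ES θ hθ0 hθ p z
    rw [hx, map_zero] at h3
    have h4 : toR 𝒜 hf m hmsp m' hm'sp I' p z ∈ LinearMap.ker
        (cmp m.toIdeal (fun n => Res R (I'.X n)) (Rd I') (Rd_exact_succ I') (Rε I')
          I'.ε_injective (Rd_exact_zero I') p) := h3.symm
    rw [ker_cmp m.toIdeal (fun n => Res R (I'.X n)) (Rd I') (Rd_exact_succ I') (Rε I')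
      I'.ε_injective (Rd_exact_zero I') hac p] at h4
    have h5 : (show Res R (I'.X p) from (z : (I'.X p).carrier)) ∈
        cob m.toIdeal (fun n => Res R (I'.X n)) (Rd I') p := h4
    rw [Submodule.mkQ_apply, Submodule.Quotient.mk_eq_zero]
    show (z : (I'.X p).carrier) ∈ I'.cobdy m' p
    cases p with
    | zero =>
      have h0 : (show Res R (I'.X 0) from (z : (I'.X 0).carrier)) = 0 :=
        (Submodule.mem_bot R).mp h5
      exact (Submodule.mem_bot S).mpr h0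
    | succ q =>
      obtain ⟨w, hw, hwz⟩ := h5
      exact ⟨w, (mem_gam_iff 𝒜 hf m hmsp m' hm'sp (I'.X q) w).mpr hw, hwz⟩
  · intro y
    obtain ⟨zR, hzR⟩ := cmp_surjective m.toIdeal (fun n => Res R (I'.X n)) (Rd I')
      (Rd_exact_succ I') (Rε I') I'.ε_injective (Rd_exact_zero I') hac p (cE m ES p y)
    obtain ⟨zv, hzg, hzk⟩ := zR
    let z : ↥(I'.cocyc m' p) :=
      ⟨zv, (mem_gam_iff 𝒜 hf m hmsp m' hm'sp (I'.X p) zv).mpr hzg, hzk⟩
    refine ⟨I'.toH m' p z, ?_⟩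
    apply (cE m ES p).injective
    rw [cE_Θ 𝒜 hf m hmsp m' hm'sp I' ES θ hθ0 hθ p z]
    exact hzR

end Theta

section Final

variable [SetLike.GradedSMul 𝒜 𝒜'] (ES : GrLC.StarInjRes 𝒜 𝒜')

include hf hmsp hm'sp in
/-- Independence of the base, compatibly with degrees. -/
theorem exists_baseChange_equiv (p : ℕ) :
    ∃ Θ : I'.H m' p ≃+ ES.H m p,
      (∀ (r : R) (x : I'.H m' p), Θ (algebraMap R S r • x) = r • Θ x) ∧
      ∀ (γ : ℤ) (x : I'.H m' p), x ∈ I'.Hgr m' p γ → Θ x ∈ ES.Hgr m p γ := by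
  obtain ⟨θ, hθgr, hθ0, hθ⟩ := Groth.Agent.Lib.Helper29GrCompare.exists_comparison 𝒜 𝒜'
    (fun n => resGMod 𝒜 hf (I'.X n)) (Rd I') (Rε I')
    (fun n γ x hx => I'.d_grHom n γ x hx) (fun γ s hs => I'.ε_grHom γ s hs)
    (Rd_exact_zero I') (Rd_exact_succ I') ES I'.ε_injective
  refine ⟨AddEquiv.ofBijective (Θ 𝒜 hf m hmsp m' hm'sp I' ES θ hθ p)
    (Θ_bijective 𝒜 hf m hmsp m' hm'sp I' ES θ hθ0 hθ p), ?_, ?_⟩
  · intro r x
    exact Θ_semilinear 𝒜 hf m hmsp m' hm'sp I' ES θ hθ p r x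
  · intro γ x hx
    exact Θ_mem_Hgr 𝒜 hf m hmsp m' hm'sp I' ES θ hθgr hθ p γ x hx

end Final

end Main

end Groth.Agent.Lib.Helper29.GrBaseIndep
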