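import Groth.Agent.Lib.Helper29GrCofree
import Groth.Prelude.Def_GrLC

/-! The coinduced module `C(L) = ι → L` with the twisted action `(r_h • a)_j = r_h • a_{j-h}`:
it is right adjoint to `X ↦ G(X)` (cofree graded module, viewed ungraded), hence injective when
`L` is (helper29). -/

set_option autoImplicit false
open DirectSum

noncomputable section

namespace Groth.Agent.Lib.Helper29GrCoind

open Groth.Agent.Lib.Helper29GrCofree

universe u

variable {ι : Type} [AddCommGroup ι] [DecidableEq ι]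
variable {R : Type u} [CommRing R] (𝒜 : ι → AddSubgroup R) [GradedRing 𝒜]

/-- An additive map commuting with homogeneous scalars is linear. -/
theorem map_smul_of_homogeneous {M M' : Type*} [AddCommGroup M] [Module R M] [AddCommGroup M']
    [Module R M'] (φ : M →+ M')
    (hφ : ∀ (h : ι) (a : R), a ∈ 𝒜 h → ∀ x : M, φ (a • x) = a • φ x) (r : R) (x : M) :
    φ (r • x) = r • φ x := by
  classical
  induction r using DirectSum.Decomposition.inductionOn 𝒜 with
  | zero => rw [zero_smul, zero_smul, map_zero]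
  | homogeneous a => exact hφ _ a a.2 x
  | add r s hr hs => rw [add_smul, map_add, hr, hs, add_smul]

variable (L : Type u) [AddCommGroup L] [Module R L]

/-- The carrier of the coinduced module: all functions `ι → L`. -/
def CL (_𝒜 : ι → AddSubgroup R) (L : Type u) [AddCommGroup L] : Type u := ι → L

instance : AddCommGroup (CL 𝒜 L) := inferInstanceAs (AddCommGroup (ι → L))

/-- The action of an element `a` shifted by `h`. -/
def actHom (h : ι) (a : R) : AddMonoid.End (ι → L) :=
  show (ι → L) →+ (ι → L) from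
  { toFun := fun ξ j => a • ξ (j - h)
    map_zero' := by funext j; simp
    map_add' := fun ξ ζ => by funext j; simp }

omit [DecidableEq ι] in
theorem actHom_apply (h : ι) (a : R) (ξ : ι → L) (j : ι) :
    actHom L h a ξ j = a • ξ (j - h) := rfl

/-- The action of a homogeneous element of degree `h`. -/
def rhoPiece (h : ι) : 𝒜 h →+ AddMonoid.End (ι → L) where
  toFun a := actHom L h (a : R)
  map_zero' := by
    apply AddMonoid.End.ext
    intro ξ
    funext j
    rw [actHom_apply]
    simp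
  map_add' a b := by
    apply AddMonoid.End.ext
    intro ξ
    funext j
    change actHom L h ((a : R) + (b : R)) ξ j = actHom L h (a : R) ξ j + actHom L h (b : R) ξ j
    rw [actHom_apply, actHom_apply, actHom_apply, add_smul]

/-- The ring homomorphism `R → End(ι → L)`. -/
def rho : R →+* AddMonoid.End (ι → L) :=
  (DirectSum.toSemiring (rhoPiece 𝒜 L)
    (by
      apply AddMonoid.End.ext
      intro ξ
      funext j
      change actHom L 0 (1 : R) ξ j = ξ j
      rw [actHom_apply, one_smul, sub_zero])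
    (by
      intro i j ai aj
      apply AddMonoid.End.ext
      intro ξ
      funext k
      change actHom L (i + j) ((ai : R) * (aj : R)) ξ k =
        actHom L i (ai : R) (actHom L j (aj : R) ξ) k
      rw [actHom_apply, actHom_apply, actHom_apply, mul_smul]
      congr 3
      abel)).comp
  (DirectSum.decomposeRingEquiv 𝒜).toRingHom

instance instModuleCL : Module R (CL 𝒜 L) :=
  Module.compHom (ι → L) (rho 𝒜 L)

/-- View an element of `CL` as a function. -/
def toFn (ξ : CL 𝒜 L) : ι → L := ξ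

/-- View a function as an element of `CL`. -/
def ofFn (ξ : ι → L) : CL 𝒜 L := ξ

theorem smul_def (r : R) (ξ : CL 𝒜 L) : r • ξ = ofFn 𝒜 L (rho 𝒜 L r (toFn 𝒜 L ξ)) := rfl

/-- The action of a homogeneous element. -/
theorem smul_apply_of_mem {h : ι} {a : R} (ha : a ∈ 𝒜 h) (ξ : CL 𝒜 L) (j : ι) :
    (a • ξ) j = a • ξ (j - h) := by
  rw [smul_def]
  change (rho 𝒜 L a (toFn 𝒜 L ξ)) j = _
  rw [rho, RingHom.comp_apply]
  change (DirectSum.toSemiring (rhoPiece 𝒜 L) _ _) (DirectSum.decompose 𝒜 a) (toFn 𝒜 L ξ) j = _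
  rw [DirectSum.decompose_of_mem 𝒜 ha, DirectSum.toSemiring_of]
  rfl

omit [DecidableEq ι] in
theorem add_apply (ξ ζ : CL 𝒜 L) (j : ι) : (ξ + ζ) j = ξ j + ζ j := rfl

omit [DecidableEq ι] in
theorem sub_apply (ξ ζ : CL 𝒜 L) (j : ι) : (ξ - ζ) j = ξ j - ζ j := rfl

omit [DecidableEq ι] in
theorem zero_apply (j : ι) : (0 : CL 𝒜 L) j = 0 := rfl

omit [DecidableEq ι] in
theorem ext_CL {ξ ζ : CL 𝒜 L} (h : ∀ j, ξ j = ζ j) : ξ = ζ := funext h

/-! ### Functoriality of `G` -/

section GNmap

variable {X Y : Type u} [AddCommGroup X] [Module R X] [AddCommGroup Y] [Module R Y]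

/-- `G(f)` as an additive map. -/
def GNmapAdd (f : X →ₗ[R] Y) : GN 𝒜 X →+ GN 𝒜 Y :=
  show (ι →₀ X) →+ (ι →₀ Y) from Finsupp.mapRange.addMonoidHom f.toAddMonoidHom

theorem GNmapAdd_single (f : X →ₗ[R] Y) (g : ι) (x : X) :
    GNmapAdd 𝒜 f (ofF 𝒜 X (Finsupp.single g x)) = ofF 𝒜 Y (Finsupp.single g (f x)) := by
  change Finsupp.mapRange f f.map_zero (Finsupp.single g x) = _
  rw [Finsupp.mapRange_single]
  rfl

/-- `G(f)` as a linear map. -/
def GNmap (f : X →ₗ[R] Y) : GN 𝒜 X →ₗ[R] GN 𝒜 Y where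
  toFun := GNmapAdd 𝒜 f
  map_add' := map_add _
  map_smul' r ξ := by
    refine map_smul_of_homogeneous 𝒜 (GNmapAdd 𝒜 f) ?_ r ξ
    intro h a ha ξ
    induction ξ using GN_induction 𝒜 X with
    | h0 => rw [smul_zero, map_zero, smul_zero]
    | hadd x y hx hy => rw [smul_add, map_add, map_add, smul_add, hx, hy]
    | hs g n =>
      rw [smul_single 𝒜 X ha, GNmapAdd_single, GNmapAdd_single, smul_single 𝒜 Y ha, map_smul]

theorem GNmap_single (f : X →ₗ[R] Y) (g : ι) (x : X) :
    GNmap 𝒜 f (ofF 𝒜 X (Finsupp.single g x)) = ofF 𝒜 Y (Finsupp.single g (f x)) :=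
  GNmapAdd_single 𝒜 f g x

theorem GNmap_injective (f : X →ₗ[R] Y) (hf : Function.Injective f) :
    Function.Injective (GNmap 𝒜 f) := by
  intro ξ ζ h
  exact Finsupp.mapRange_injective f f.map_zero hf h

end GNmap

/-! ### The adjunction `Hom(G(X), L) = Hom(X, C(L))` -/

section Adj

variable {X : Type u} [AddCommGroup X] [Module R X]

/-- The transpose of `θ : G(X) → L`. -/
def toC (θ : GN 𝒜 X →ₗ[R] L) : X →ₗ[R] CL 𝒜 L where
  toFun x := ofFn 𝒜 L (fun j => θ (ofF 𝒜 X (Finsupp.single j x)))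
  map_add' x y := by
    apply ext_CL
    intro j
    change θ (ofF 𝒜 X (Finsupp.single j (x + y))) =
      θ (ofF 𝒜 X (Finsupp.single j x)) + θ (ofF 𝒜 X (Finsupp.single j y))
    rw [← map_add]
    congr 1
    exact Finsupp.single_add j x y
  map_smul' r x := by
    let φ : X →+ CL 𝒜 L :=
      { toFun := fun x => ofFn 𝒜 L (fun j => θ (ofF 𝒜 X (Finsupp.single j x)))
        map_zero' := by
          apply ext_CL
          intro j
          change θ (ofF 𝒜 X (Finsupp.single j 0)) = 0
          rw [Finsupp.single_zero]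
          exact map_zero θ
        map_add' := fun x y => by
          apply ext_CL
          intro j
          change θ (ofF 𝒜 X (Finsupp.single j (x + y))) =
            θ (ofF 𝒜 X (Finsupp.single j x)) + θ (ofF 𝒜 X (Finsupp.single j y))
          rw [← map_add]
          congr 1
          exact Finsupp.single_add j x y }
    refine map_smul_of_homogeneous 𝒜 φ ?_ r x
    intro h a ha x
    apply ext_CL
    intro j
    rw [smul_apply_of_mem 𝒜 L ha]
    change θ (ofF 𝒜 X (Finsupp.single j (a • x))) = a • θ (ofF 𝒜 X (Finsupp.single (j - h) x))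
    rw [← map_smul, smul_single 𝒜 X ha]
    congr 3
    abel

theorem toC_apply (θ : GN 𝒜 X →ₗ[R] L) (x : X) (j : ι) :
    toC 𝒜 L θ x j = θ (ofF 𝒜 X (Finsupp.single j x)) := rfl

/-- Evaluation at `j` as an additive map. -/
def evalAdd (j : ι) : CL 𝒜 L →+ L where
  toFun ξ := ξ j
  map_zero' := rfl
  map_add' _ _ := rfl

/-- The transpose of `ψ : X → C(L)`, as an additive map. -/
def fromCAdd (ψ : X →ₗ[R] CL 𝒜 L) : GN 𝒜 X →+ L :=
  show (ι →₀ X) →+ L from
    Finsupp.liftAddHom (fun j => (evalAdd 𝒜 L j).comp ψ.toAddMonoidHom)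

theorem fromCAdd_single (ψ : X →ₗ[R] CL 𝒜 L) (j : ι) (x : X) :
    fromCAdd 𝒜 L ψ (ofF 𝒜 X (Finsupp.single j x)) = ψ x j := by
  change Finsupp.liftAddHom (fun j => (evalAdd 𝒜 L j).comp ψ.toAddMonoidHom)
    (Finsupp.single j x) = _
  rw [Finsupp.liftAddHom_apply_single]
  rfl

/-- The transpose of `ψ : X → C(L)`. -/
def fromC (ψ : X →ₗ[R] CL 𝒜 L) : GN 𝒜 X →ₗ[R] L where
  toFun := fromCAdd 𝒜 L ψ
  map_add' := map_add _
  map_smul' r ξ := by
    refine map_smul_of_homogeneous 𝒜 (fromCAdd 𝒜 L ψ) ?_ r ξ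
    intro h a ha ξ
    induction ξ using GN_induction 𝒜 X with
    | h0 => rw [smul_zero, map_zero, smul_zero]
    | hadd x y hx hy => rw [smul_add, map_add, map_add, smul_add, hx, hy]
    | hs g n =>
      rw [smul_single 𝒜 X ha, fromCAdd_single, fromCAdd_single, map_smul,
        smul_apply_of_mem 𝒜 L ha]
      congr 2
      abel

theorem fromC_single (ψ : X →ₗ[R] CL 𝒜 L) (j : ι) (x : X) :
    fromC 𝒜 L ψ (ofF 𝒜 X (Finsupp.single j x)) = ψ x j :=
  fromCAdd_single 𝒜 L ψ j x

end Adj

/-- `C(L)` is injective when `L` is. -/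
theorem injective_CL [Module.Injective R L] : Module.Injective R (CL 𝒜 L) := by
  refine ⟨fun X Y _ _ _ _ f hf g => ?_⟩
  obtain ⟨Θ, hΘ⟩ := Module.Injective.out (GNmap 𝒜 f) (GNmap_injective 𝒜 f hf) (fromC 𝒜 L g)
  refine ⟨toC 𝒜 L Θ, fun x => ?_⟩
  apply ext_CL
  intro j
  rw [toC_apply, ← GNmap_single 𝒜 f, hΘ, fromC_single]

end Groth.Agent.Lib.Helper29GrCoind
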