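import Groth.Agent.Lib.Helper29GrCoind
import Groth.Agent.Lib.Helper29ExtSes
import Groth.Agent.S0300

/-! For a `ℤ`-graded Noetherian ring and an injective module `N`, the cofree graded module
`G(N)` has injective dimension at most one as an ungraded module:
`0 → G(N) → C(ℤ →₀ N) → C(ℤ →₀ N) → 0` (helper29). -/

set_option autoImplicit false
set_option linter.style.haveILetI false
open DirectSum CategoryTheory

noncomputable section

namespace Groth.Agent.Lib.Helper29GrCoindRes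

open Groth.Agent.Lib.Helper29GrCofree Groth.Agent.Lib.Helper29GrCoind

universe u

/-- Solving `a (j - 1) - T (a j) = b j` over `ℤ` for an additive automorphism `T`. -/
theorem exists_solve {L : Type*} [AddCommGroup L] (T : L ≃+ L) (b : ℤ → L) :
    ∃ a : ℤ → L, ∀ j, a (j - 1) - T (a j) = b j := by
  let a : ℤ → L := fun z => Int.inductionOn' (motive := fun _ => L) z 0 0
    (fun k _ ak => T.symm (ak - b (k + 1))) (fun k _ ak => b k + T ak)
  refine ⟨a, fun j => ?_⟩
  rcases le_or_gt j 0 with hj | hj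
  · have h1 : a (j - 1) = b j + T (a j) := Int.inductionOn'_sub_one hj
    rw [h1]; abel
  · have h0 : 0 ≤ j - 1 := by omega
    have h1 : a (j - 1 + 1) = T.symm (a (j - 1) - b (j - 1 + 1)) := Int.inductionOn'_add_one h0
    rw [sub_add_cancel] at h1
    rw [h1, AddEquiv.apply_symm_apply]; abel

variable {R : Type u} [CommRing R] (𝒜 : ℤ → AddSubgroup R) [GradedRing 𝒜]
variable (N : Type u) [AddCommGroup N] [Module R N]

/-- Shift by `k` on `ℤ →₀ N`. -/
def T (k : ℤ) : (ℤ →₀ N) ≃ₗ[R] (ℤ →₀ N) := Finsupp.domLCongr (Equiv.addRight k)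

theorem T_apply (k : ℤ) (x : ℤ →₀ N) (j : ℤ) : T (R := R) N k x j = x (j - k) := by
  rw [T, Finsupp.domLCongr_apply, Finsupp.domCongr_apply, Finsupp.equivMapDomain_apply]
  congr 1

theorem T_T (k l : ℤ) (x : ℤ →₀ N) : T (R := R) N k (T (R := R) N l x) = T (R := R) N (l + k) x := by
  ext j
  rw [T_apply, T_apply, T_apply]
  congr 1
  ring

theorem T_zero (x : ℤ →₀ N) : T (R := R) N 0 x = x := by
  ext j
  rw [T_apply, sub_zero]

theorem mapDomain_eq_T (h : ℤ) (x : ℤ →₀ N) :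
    Finsupp.mapDomain (fun g => h + g) x = T (R := R) N h x := by
  rw [T, Finsupp.domLCongr_apply, Finsupp.domCongr_apply, Finsupp.equivMapDomain_eq_mapDomain]
  congr 1
  funext g
  exact add_comm h g

/-- The map `G(N) → C(ℤ →₀ N)`, `l ↦ (T^{-j} l)_j`. -/
def ι₀Add : GN 𝒜 N →+ CL 𝒜 (ℤ →₀ N) where
  toFun l := ofFn 𝒜 (ℤ →₀ N) (fun j => T (R := R) N (-j) (toF 𝒜 N l))
  map_zero' := by
    apply ext_CL
    intro j
    exact map_zero (T (R := R) N (-j))
  map_add' x y := by
    apply ext_CL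
    intro j
    exact map_add (T (R := R) N (-j)) _ _

theorem ι₀Add_apply (l : GN 𝒜 N) (j : ℤ) :
    ι₀Add 𝒜 N l j = T (R := R) N (-j) (toF 𝒜 N l) := rfl

/-- The map `G(N) → C(ℤ →₀ N)` as a linear map. -/
def ι₀ : GN 𝒜 N →ₗ[R] CL 𝒜 (ℤ →₀ N) where
  toFun := ι₀Add 𝒜 N
  map_add' := map_add _
  map_smul' r l := by
    refine map_smul_of_homogeneous 𝒜 (ι₀Add 𝒜 N) ?_ r l
    intro h a ha l
    apply ext_CL
    intro j
    rw [smul_apply_of_mem 𝒜 _ ha, ι₀Add_apply, ι₀Add_apply, smul_of_mem 𝒜 N ha]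
    change T (R := R) N (-j) (Finsupp.mapDomain (fun g => h + g) (a • toF 𝒜 N l)) = _
    rw [mapDomain_eq_T (R := R), T_T, ← map_smul]
    congr 2
    ring

theorem ι₀_apply (l : GN 𝒜 N) (j : ℤ) :
    ι₀ 𝒜 N l j = T (R := R) N (-j) (toF 𝒜 N l) := rfl

/-- The differential `C(ℤ →₀ N) → C(ℤ →₀ N)`, `(a_j) ↦ (a_{j-1} - T a_j)`. -/
def δAdd : CL 𝒜 (ℤ →₀ N) →+ CL 𝒜 (ℤ →₀ N) where
  toFun a := ofFn 𝒜 (ℤ →₀ N) (fun j => a (j - 1) - T (R := R) N 1 (a j))
  map_zero' := by
    apply ext_CL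
    intro j
    change (0 : ℤ →₀ N) - T (R := R) N 1 0 = 0
    rw [map_zero, sub_zero]
  map_add' x y := by
    apply ext_CL
    intro j
    change (x (j - 1) + y (j - 1)) - T (R := R) N 1 (x j + y j) =
      (x (j - 1) - T (R := R) N 1 (x j)) + (y (j - 1) - T (R := R) N 1 (y j))
    rw [map_add]
    abel

theorem δAdd_apply (a : CL 𝒜 (ℤ →₀ N)) (j : ℤ) :
    δAdd 𝒜 N a j = a (j - 1) - T (R := R) N 1 (a j) := rfl

/-- The differential as a linear map. -/
def δ : CL 𝒜 (ℤ →₀ N) →ₗ[R] CL 𝒜 (ℤ →₀ N) where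
  toFun := δAdd 𝒜 N
  map_add' := map_add _
  map_smul' r a := by
    refine map_smul_of_homogeneous 𝒜 (δAdd 𝒜 N) ?_ r a
    intro h c hc a
    apply ext_CL
    intro j
    rw [smul_apply_of_mem 𝒜 _ hc, δAdd_apply, δAdd_apply, smul_apply_of_mem 𝒜 _ hc,
      smul_apply_of_mem 𝒜 _ hc, smul_sub, map_smul]
    congr 3
    ring

theorem δ_apply (a : CL 𝒜 (ℤ →₀ N)) (j : ℤ) :
    δ 𝒜 N a j = a (j - 1) - T (R := R) N 1 (a j) := rfl

theorem ι₀_injective : Function.Injective (ι₀ 𝒜 N) := by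
  intro l l' h
  have h0 := congrFun h 0
  rw [ι₀_apply, ι₀_apply, neg_zero, T_zero, T_zero] at h0
  exact h0

theorem δ_ι₀ (l : GN 𝒜 N) : δ 𝒜 N (ι₀ 𝒜 N l) = 0 := by
  apply ext_CL
  intro j
  rw [δ_apply, ι₀_apply, ι₀_apply, T_T, Helper29GrCoind.zero_apply]
  have : -j + 1 = -(j - 1) := by ring
  rw [this, sub_self]

theorem exact_ι₀_δ : Function.Exact (ι₀ 𝒜 N) (δ 𝒜 N) := by
  intro a
  constructor
  · intro ha
    have hrec : ∀ j : ℤ, a (j - 1) = T (R := R) N 1 (a j) := by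
      intro j
      have := congrFun ha j
      rw [δ_apply, Helper29GrCoind.zero_apply, sub_eq_zero] at this
      exact this
    have key : ∀ j : ℤ, a j = T (R := R) N (-j) (a 0) := by
      intro j
      induction j using Int.induction_on with
      | zero => rw [neg_zero, T_zero]
      | succ i ih =>
        have h1 := hrec ((i : ℤ) + 1)
        rw [add_sub_cancel_right, ih] at h1
        apply (T (R := R) N 1).injective
        rw [← h1, T_T]
        congr 2
        ring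
      | pred i ih =>
        have h1 := hrec (-(i : ℤ))
        rw [h1, ih, T_T]
        congr 2
        ring
    refine ⟨ofF 𝒜 N (a 0), ?_⟩
    apply ext_CL
    intro j
    rw [ι₀_apply, key j]
    rfl
  · rintro ⟨l, rfl⟩
    exact δ_ι₀ 𝒜 N l

theorem δ_surjective : Function.Surjective (δ 𝒜 N) := by
  intro b
  obtain ⟨a, ha⟩ := exists_solve (T (R := R) N 1).toAddEquiv (toFn 𝒜 _ b)
  refine ⟨ofFn 𝒜 _ a, ?_⟩
  apply ext_CL
  intro j
  rw [δ_apply]
  exact ha j

/-- Over a Noetherian ring, `ℤ →₀ N` is injective when `N` is. -/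
theorem injective_finsupp [IsNoetherianRing R] [Module.Injective R N] :
    Module.Injective R (ℤ →₀ N) := by
  classical
  have h1 : Module.Injective R (DirectSum (ULift.{u} ℤ) fun _ => N) :=
    Groth.Agent.S0300.result R (fun _ : ULift.{u} ℤ => N) (fun _ => inferInstance)
  let e : (DirectSum (ULift.{u} ℤ) fun _ => N) ≃ₗ[R] (ℤ →₀ N) :=
    (finsuppLEquivDirectSum R N (ULift.{u} ℤ)).symm.trans (Finsupp.domLCongr Equiv.ulift)
  exact (Module.Baer.of_equiv e (Module.Baer.of_injective h1)).injective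

/-- `G(N)` has injective dimension at most one as an ungraded module. -/
theorem hasInjectiveDimensionLT_GN [IsNoetherianRing R] [Module.Injective R N] :
    HasInjectiveDimensionLT (ModuleCat.of R (GN 𝒜 N)) 2 := by
  haveI hL : Module.Injective R (ℤ →₀ N) := injective_finsupp N
  haveI hC : Module.Injective R (CL 𝒜 (ℤ →₀ N)) := injective_CL 𝒜 _
  have hS := Helper29ExtSes.ses_shortExact (ι₀ 𝒜 N) (δ 𝒜 N) (ι₀_injective 𝒜 N)
    (δ_surjective 𝒜 N) (exact_ι₀_δ 𝒜 N)
  haveI hI : Injective (ModuleCat.of R (CL 𝒜 (ℤ →₀ N))) :=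
    Module.injective_object_of_injective_module _ _
  have h3 : HasInjectiveDimensionLT (ModuleCat.of R (CL 𝒜 (ℤ →₀ N))) 1 := inferInstance
  have h2 : HasInjectiveDimensionLT (ModuleCat.of R (CL 𝒜 (ℤ →₀ N))) 2 := inferInstance
  exact hS.hasInjectiveDimensionLT_X₁ 1 h3 h2

/-- A *injective graded module over a Noetherian `ℤ`-graded ring has injective dimension at
most one as an ungraded module. -/
theorem hasInjectiveDimensionLT_of_isStarInj [IsNoetherianRing R] (M : Type u) [AddCommGroup M]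
    [Module R M] (ℳ : ℤ → AddSubgroup M) [DirectSum.Decomposition ℳ] [SetLike.GradedSMul 𝒜 ℳ]
    (hM : GrLC.IsStarInj 𝒜 ℳ) : HasInjectiveDimensionLT (ModuleCat.of R M) 2 := by
  let I := Injective.under (ModuleCat.of R M)
  let j : ModuleCat.of R M ⟶ I := Injective.ι _
  let j' : M →ₗ[R] I := j.hom
  have hj : Function.Injective j' := (ModuleCat.mono_iff_injective j).mp inferInstance
  have hIobj : Injective (ModuleCat.of R I) := (inferInstance : Injective I)
  haveI hImod : Module.Injective R I := Module.injective_module_of_injective_object R I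
  let f : M →ₗ[R] GN 𝒜 I := adj 𝒜 I ℳ j'
  have hfgr : GrLC.IsGrHom ℳ (GNgr 𝒜 I) f := adj_grHom 𝒜 I ℳ j'
  have hfinj : Function.Injective f := adj_injective 𝒜 I ℳ j' hj
  obtain ⟨r, -, hrf⟩ := hM (GrLC.GMod.of 𝒜 M ℳ) (GrLC.GMod.of 𝒜 (GN 𝒜 I) (GNgr 𝒜 I))
    f hfgr hfinj LinearMap.id (fun g m hm => hm)
  have hret : Retract (ModuleCat.of R M) (ModuleCat.of R (GN 𝒜 I)) :=
    { i := ModuleCat.ofHom f
      r := ModuleCat.ofHom r
      retract := by
        ext x
        exact LinearMap.congr_fun hrf x }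
  haveI := hasInjectiveDimensionLT_GN 𝒜 I
  exact hret.hasInjectiveDimensionLT 2

end Groth.Agent.Lib.Helper29GrCoindRes
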