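import Groth.Agent.Lib.Helper29GrConeLES

/-! The connecting homomorphism `H^p(M'') → H^{p+1}(M')` of graded local cohomology, computed on
the cone resolution: it is homogeneous, its image is the kernel of `H^{p+1}(M') → H^{p+1}(M)`, and
it is injective when `H^p(M) = 0` (helper29). -/

set_option autoImplicit false
set_option linter.style.haveILetI false
set_option linter.unusedSectionVars false
open DirectSum

noncomputable section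

namespace Groth.Agent.Lib.Helper29GrConeDelta

open Groth.Agent.Lib.Helper29GrInjOps Groth.Agent.Lib.Helper29GrProd Groth.Agent.Lib.Helper29GrSub
  Groth.Agent.Lib.Helper29GrHom Groth.Agent.Lib.Helper29GrGam Groth.Agent.Lib.Helper29GrConeRes
  Groth.Agent.Lib.Helper29GrResCompare Groth.Agent.Lib.Helper29GrConeLES
open Groth.Agent.Lib.Helper29Cone (mem_gam_prod)

universe u

variable {ι : Type} [AddCommGroup ι] [DecidableEq ι]
variable {R : Type u} [CommRing R] {𝒜 : ι → AddSubgroup R} [GradedRing 𝒜]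
variable {M' : Type u} [AddCommGroup M'] [Module R M'] {ℳ' : ι → AddSubgroup M'}
  [DirectSum.Decomposition ℳ'] [SetLike.GradedSMul 𝒜 ℳ']
variable {M : Type u} [AddCommGroup M] [Module R M] {ℳ : ι → AddSubgroup M}
  [DirectSum.Decomposition ℳ] [SetLike.GradedSMul 𝒜 ℳ]
variable {M'' : Type u} [AddCommGroup M''] [Module R M''] {ℳ'' : ι → AddSubgroup M''}
  [DirectSum.Decomposition ℳ''] [SetLike.GradedSMul 𝒜 ℳ'']
variable (E' : GrLC.StarInjRes 𝒜 ℳ') (E : GrLC.StarInjRes 𝒜 ℳ)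
variable (f : M' →ₗ[R] M) (g : M →ₗ[R] M'')
variable (φ : ∀ n, (E'.X n).carrier →ₗ[R] (E.X n).carrier)
variable (hfi : Function.Injective f) (hgs : Function.Surjective g)
  (hfg : LinearMap.ker g = LinearMap.range f) (hg : GrLC.IsGrHom ℳ ℳ'' g)
  (hφ : ∀ n, GrLC.IsGrHom (E'.X n).gr (E.X n).gr (φ n))
  (hφ0 : ∀ m' : M', φ 0 (E'.ε m') = E.ε (f m'))
  (hφd : ∀ (n : ℕ) (x : (E'.X n).carrier), φ (n + 1) (E'.d n x) = E.d n (φ n x))
variable (ρ0 : K E' E 0 →ₗ[R] (E'.X 0).carrier)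
  (hρ0 : GrLC.IsGrHom (Kgr E' E 0) (E'.X 0).gr ρ0)
  (hρε : ∀ w : (E'.X 0).carrier, ρ0 (εK E' E φ w) = w)
variable (a : HomogeneousIdeal 𝒜)

theorem dK_fst (n : ℕ) (c : K E' E n) : (dK E' E φ n c).1 = -(E'.d (n + 1) c.1) := rfl

theorem dK_snd (n : ℕ) (c : K E' E n) : (dK E' E φ n c).2 = φ (n + 1) c.1 + E.d n c.2 := rfl

local notation "CRr" => coneRes E' E f g φ hfi hgs hfg hg hφ hφ0 hφd ρ0 hρ0 hρε

/-- The underlying element of the cone of a cocycle of the cone resolution. -/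
def toK (p : ℕ) (c : ↥((CRr).cocyc a p)) : K E' E p :=
  ((show ↥(P E' E ρ0 p) from c.1) : K E' E p)

theorem toK_mem_P (p : ℕ) (c : ↥((CRr).cocyc a p)) :
    toK E' E f g φ hfi hgs hfg hg hφ hφ0 hφd ρ0 hρ0 hρε a p c ∈ P E' E ρ0 p :=
  (show ↥(P E' E ρ0 p) from c.1).2

theorem toK_mem_gam (p : ℕ) (c : ↥((CRr).cocyc a p)) :
    toK E' E f g φ hfi hgs hfg hg hφ hφ0 hφd ρ0 hρ0 hρε a p c ∈
      GrLC.gam a.toIdeal (K E' E p) :=
  (mem_gam_sub a.toIdeal (P E' E ρ0 p) (show ↥(P E' E ρ0 p) from c.1)).mp c.2.1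

theorem dK_toK (p : ℕ) (c : ↥((CRr).cocyc a p)) :
    dK E' E φ p (toK E' E f g φ hfi hgs hfg hg hφ hφ0 hφd ρ0 hρ0 hρε a p c) = 0 := by
  have h : Dd E' E φ ρ0 p (show ↥(P E' E ρ0 p) from c.1) = 0 := c.2.2
  exact congrArg Subtype.val h

theorem cocyc_fst_mem (p : ℕ) (c : ↥((CRr).cocyc a p)) :
    (toK E' E f g φ hfi hgs hfg hg hφ hφ0 hφd ρ0 hρ0 hρε a p c).1 ∈ E'.cocyc a (p + 1) := by
  have h1 := toK_mem_gam E' E f g φ hfi hgs hfg hg hφ hφ0 hφd ρ0 hρ0 hρε a p c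
  have h2 := congrArg Prod.fst (dK_toK E' E f g φ hfi hgs hfg hg hφ hφ0 hφd ρ0 hρ0 hρε a p c)
  rw [dK_fst] at h2
  exact ⟨((mem_gam_prod a.toIdeal _).mp h1).1, neg_eq_zero.mp h2⟩

/-- The connecting map on cocycles: `(u, v) ↦ u`. -/
def δ₀ (p : ℕ) : ↥((CRr).cocyc a p) →ₗ[R] ↥(E'.cocyc a (p + 1)) where
  toFun c := ⟨(toK E' E f g φ hfi hgs hfg hg hφ hφ0 hφd ρ0 hρ0 hρε a p c).1,
    cocyc_fst_mem E' E f g φ hfi hgs hfg hg hφ hφ0 hφd ρ0 hρ0 hρε a p c⟩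
  map_add' _ _ := rfl
  map_smul' _ _ := rfl

theorem δ₀_coe (p : ℕ) (c : ↥((CRr).cocyc a p)) :
    ((δ₀ E' E f g φ hfi hgs hfg hg hφ hφ0 hφd ρ0 hρ0 hρε a p c : ↥(E'.cocyc a (p + 1))) :
      (E'.X (p + 1)).carrier) =
      (toK E' E f g φ hfi hgs hfg hg hφ hφ0 hφd ρ0 hρ0 hρε a p c).1 := rfl

theorem δ₀_cobdy (p : ℕ) (c : ↥((CRr).cocyc a p))
    (hc : c.1 ∈ (CRr).cobdy a p) :
    (toK E' E f g φ hfi hgs hfg hg hφ hφ0 hφd ρ0 hρ0 hρε a p c).1 ∈ E'.cobdy a (p + 1) := by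
  cases p with
  | zero =>
    have h0 : c.1 = 0 := (Submodule.mem_bot R).mp hc
    have h1 : toK E' E f g φ hfi hgs hfg hg hφ hφ0 hφd ρ0 hρ0 hρε a 0 c = 0 := by
      unfold toK
      rw [h0]
      rfl
    rw [h1]
    exact zero_mem _
  | succ q =>
    obtain ⟨w, hw, hwc⟩ := hc
    have hw' : (show ↥(P E' E ρ0 q) from w) ∈ GrLC.gam a.toIdeal ↥(P E' E ρ0 q) := hw
    have hwg := (mem_gam_sub a.toIdeal (P E' E ρ0 q) _).mp hw'
    have hwc' : dK E' E φ q ((show ↥(P E' E ρ0 q) from w) : K E' E q) =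
        toK E' E f g φ hfi hgs hfg hg hφ hφ0 hφd ρ0 hρ0 hρε a (q + 1) c :=
      congrArg Subtype.val hwc
    refine ⟨-((show ↥(P E' E ρ0 q) from w) : K E' E q).1,
      neg_mem ((mem_gam_prod a.toIdeal _).mp hwg).1, ?_⟩
    rw [map_neg, ← hwc', dK_fst]

/-- The connecting map `H^p(M'') → H^{p+1}(M')` on the cone resolution. -/
def δc (p : ℕ) : (CRr).H a p →ₗ[R] E'.H a (p + 1) :=
  Submodule.liftQ _ (E'.toH a (p + 1) ∘ₗ δ₀ E' E f g φ hfi hgs hfg hg hφ hφ0 hφd ρ0 hρ0 hρε a p)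
    (by
      intro c hc
      rw [LinearMap.mem_ker, LinearMap.comp_apply, Submodule.mkQ_apply,
        Submodule.Quotient.mk_eq_zero]
      exact δ₀_cobdy E' E f g φ hfi hgs hfg hg hφ hφ0 hφd ρ0 hρ0 hρε a p c hc)

theorem δc_mk (p : ℕ) (c : ↥((CRr).cocyc a p)) :
    δc E' E f g φ hfi hgs hfg hg hφ hφ0 hφd ρ0 hρ0 hρε a p ((CRr).toH a p c) =
      E'.toH a (p + 1) (δ₀ E' E f g φ hfi hgs hfg hg hφ hφ0 hφd ρ0 hρ0 hρε a p c) := rfl

/-- The connecting map is homogeneous. -/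
theorem δc_mem_Hgr (p : ℕ) (γ : ι) (h : (CRr).H a p) (hh : h ∈ (CRr).Hgr a p γ) :
    δc E' E f g φ hfi hgs hfg hg hφ hφ0 hφd ρ0 hρ0 hρε a p h ∈ E'.Hgr a (p + 1) γ := by
  obtain ⟨z, hzγ, rfl⟩ := hh
  rw [δc_mk]
  refine ⟨_, ?_, rfl⟩
  rw [δ₀_coe]
  have hzγ' : toK E' E f g φ hfi hgs hfg hg hφ hφ0 hφd ρ0 hρ0 hρε a p z ∈ Kgr E' E p γ := hzγ
  exact ((mem_Kgr E' E p γ _).mp hzγ').1

/-- The image of the connecting map is contained in the kernel of the map induced by `φ`. -/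
theorem φ_δ₀_mem_cobdy (p : ℕ) (c : ↥((CRr).cocyc a p)) :
    φ (p + 1) (toK E' E f g φ hfi hgs hfg hg hφ hφ0 hφd ρ0 hρ0 hρε a p c).1 ∈
      E.cobdy a (p + 1) := by
  have h1 := toK_mem_gam E' E f g φ hfi hgs hfg hg hφ hφ0 hφd ρ0 hρ0 hρε a p c
  have h2 := congrArg Prod.snd (dK_toK E' E f g φ hfi hgs hfg hg hφ hφ0 hφd ρ0 hρ0 hρε a p c)
  rw [dK_snd] at h2
  refine ⟨-(toK E' E f g φ hfi hgs hfg hg hφ hφ0 hφd ρ0 hρ0 hρε a p c).2,
    neg_mem ((mem_gam_prod a.toIdeal _).mp h1).2, ?_⟩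
  rw [map_neg]
  exact (eq_neg_of_add_eq_zero_left h2).symm

theorem mem_cobdy_of_δc_eq (p : ℕ) (z : ↥(E'.cocyc a (p + 1))) (h : (CRr).H a p)
    (hh : δc E' E f g φ hfi hgs hfg hg hφ hφ0 hφd ρ0 hρ0 hρε a p h = E'.toH a (p + 1) z) :
    φ (p + 1) (z : (E'.X (p + 1)).carrier) ∈ E.cobdy a (p + 1) := by
  obtain ⟨c, rfl⟩ := Submodule.mkQ_surjective _ h
  have h1 : δc E' E f g φ hfi hgs hfg hg hφ hφ0 hφd ρ0 hρ0 hρε a p
      (Submodule.mkQ _ c) = E'.toH a (p + 1)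
        (δ₀ E' E f g φ hfi hgs hfg hg hφ hφ0 hφd ρ0 hρ0 hρε a p c) := rfl
  rw [h1] at hh
  have h2 : E'.toH a (p + 1)
      (z - δ₀ E' E f g φ hfi hgs hfg hg hφ hφ0 hφd ρ0 hρ0 hρε a p c) = 0 := by
    rw [map_sub, hh, sub_self]
  rw [Submodule.mkQ_apply, Submodule.Quotient.mk_eq_zero] at h2
  obtain ⟨t, ht, htz⟩ := h2
  have h3 : (z : (E'.X (p + 1)).carrier) =
      (toK E' E f g φ hfi hgs hfg hg hφ hφ0 hφd ρ0 hρ0 hρε a p c).1 + E'.d p t := by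
    have : E'.d p t = (z : (E'.X (p + 1)).carrier) -
        (toK E' E f g φ hfi hgs hfg hg hφ hφ0 hφd ρ0 hρ0 hρε a p c).1 := htz
    rw [this, add_sub_cancel]
  rw [h3, map_add, hφd p t]
  refine add_mem (φ_δ₀_mem_cobdy E' E f g φ hfi hgs hfg hg hφ hφ0 hφd ρ0 hρ0 hρε a p c) ?_
  exact ⟨φ p t, map_mem_gam a.toIdeal (φ p) ht, rfl⟩

/-- Every class killed by `φ` is in the image of the connecting map. -/
theorem exists_δc_eq (p : ℕ) (z : ↥(E'.cocyc a (p + 1)))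
    (hz : φ (p + 1) (z : (E'.X (p + 1)).carrier) ∈ E.cobdy a (p + 1)) :
    ∃ h : (CRr).H a p,
      δc E' E f g φ hfi hgs hfg hg hφ hφ0 hφd ρ0 hρ0 hρε a p h = E'.toH a (p + 1) z := by
  obtain ⟨z, hzc⟩ := z
  obtain ⟨y, hy, hyz⟩ := hz
  have hyz' : E.d p y = φ (p + 1) z := hyz
  have hcg : ((z, -y) : K E' E p) ∈ GrLC.gam a.toIdeal (K E' E p) :=
    (mem_gam_prod a.toIdeal _).mpr ⟨hzc.1, neg_mem hy⟩
  have hcd : dK E' E φ p (z, -y) = 0 := by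
    have hz2 : E'.d (p + 1) z = 0 := hzc.2
    rw [dK_apply, hz2, map_neg, hyz', neg_zero, add_neg_cancel]
    rfl
  let c : ↥(P E' E ρ0 p) := ⟨p' E' E φ ρ0 p (z, -y), ρ'_p' E' E φ ρ0 hρε p _⟩
  have hc : c ∈ (CRr).cocyc a p := by
    refine ⟨(mem_gam_sub a.toIdeal (P E' E ρ0 p) c).mpr (map_mem_gam a.toIdeal _ hcg), ?_⟩
    apply Subtype.ext
    show dK E' E φ p (p' E' E φ ρ0 p (z, -y)) = 0
    rw [dK_p' E' E φ hφd ρ0 p, hcd]
  refine ⟨(CRr).toH a p ⟨c, hc⟩, ?_⟩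
  rw [δc_mk]
  have h2 : E'.toH a (p + 1) (δ₀ E' E f g φ hfi hgs hfg hg hφ hφ0 hφd ρ0 hρ0 hρε a p ⟨c, hc⟩ -
      ⟨z, hzc⟩) = 0 := by
    rw [Submodule.mkQ_apply, Submodule.Quotient.mk_eq_zero]
    show (p' E' E φ ρ0 p (z, -y)).1 - z ∈ E'.cobdy a (p + 1)
    cases p with
    | zero =>
      rw [p'_zero_apply, εK_apply]
      refine ⟨ρ0 (z, -y), map_mem_gam a.toIdeal ρ0 hcg, ?_⟩
      show E'.d 0 (ρ0 (z, -y)) = z - -(E'.d 0 (ρ0 (z, -y))) - z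
      abel
    | succ q =>
      rw [p'_succ_apply, sub_self]
      exact zero_mem _
  rw [map_sub, sub_eq_zero] at h2
  exact h2

/-- The connecting map is injective when `H^p(M) = 0`. -/
theorem δc_injective (p : ℕ) (hE : ∀ v ∈ E.cocyc a p, v ∈ E.cobdy a p) :
    Function.Injective (δc E' E f g φ hfi hgs hfg hg hφ hφ0 hφd ρ0 hρ0 hρε a p) := by
  rw [injective_iff_map_eq_zero]
  intro h hh
  obtain ⟨c, rfl⟩ := Submodule.mkQ_surjective _ h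
  have h1 : E'.toH a (p + 1) (δ₀ E' E f g φ hfi hgs hfg hg hφ hφ0 hφd ρ0 hρ0 hρε a p c) = 0 := hh
  rw [Submodule.mkQ_apply, Submodule.Quotient.mk_eq_zero] at h1
  obtain ⟨u', hu', hu'c⟩ := h1
  rw [Submodule.mkQ_apply, Submodule.Quotient.mk_eq_zero]
  have hcP := toK_mem_P E' E f g φ hfi hgs hfg hg hφ hφ0 hφd ρ0 hρ0 hρε a p c
  have hcg' := toK_mem_gam E' E f g φ hfi hgs hfg hg hφ hφ0 hφd ρ0 hρ0 hρε a p c
  have hcd' := dK_toK E' E f g φ hfi hgs hfg hg hφ hφ0 hφd ρ0 hρ0 hρε a p c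
  have hcK : ((show ↥(P E' E ρ0 p) from c.1) : K E' E p) =
      toK E' E f g φ hfi hgs hfg hg hφ hφ0 hφd ρ0 hρ0 hρε a p c := rfl
  have hu'c' : E'.d p u' = (toK E' E f g φ hfi hgs hfg hg hφ hφ0 hφd ρ0 hρ0 hρε a p c).1 := hu'c
  clear hu'c
  generalize toK E' E f g φ hfi hgs hfg hg hφ hφ0 hφd ρ0 hρ0 hρε a p c = cK at *
  obtain ⟨u, v⟩ := cK
  change E'.d p u' = u at hu'c'
  rw [dK_apply, Prod.mk_eq_zero] at hcd'
  have hv1 : v + φ p u' ∈ E.cocyc a p := by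
    refine ⟨add_mem ((mem_gam_prod a.toIdeal _).mp hcg').2 (map_mem_gam a.toIdeal (φ p) hu'), ?_⟩
    show E.d p (v + φ p u') = 0
    rw [map_add, ← hφd p u', hu'c', add_comm (E.d p v)]
    exact hcd'.2
  have hv2 := hE _ hv1
  show (show ↥(P E' E ρ0 p) from c.1) ∈ (CRr).cobdy a p
  cases p with
  | zero =>
    have h0 : v + φ 0 u' = 0 := (Submodule.mem_bot R).mp hv2
    have hc0 : ((u, v) : K E' E 0) = -εK E' E φ u' := by
      rw [εK_apply, hu'c', eq_neg_of_add_eq_zero_left h0]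
      ext <;> simp
    have hρ : ρ0 (u, v) = 0 := hcP
    rw [hc0, map_neg, hρε, neg_eq_zero] at hρ
    have : (show ↥(P E' E ρ0 0) from c.1) = 0 := by
      apply Subtype.ext
      rw [hcK, hc0, hρ, map_zero, neg_zero]
      rfl
    rw [this]
    exact zero_mem _
  | succ q =>
    obtain ⟨v₂, hv₂, hv₂v⟩ := hv2
    have hv₂v' : E.d q v₂ = v + φ (q + 1) u' := hv₂v
    have hc₂g : ((-u', v₂) : K E' E q) ∈ GrLC.gam a.toIdeal (K E' E q) :=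
      (mem_gam_prod a.toIdeal _).mpr ⟨neg_mem hu', hv₂⟩
    refine ⟨⟨p' E' E φ ρ0 q (-u', v₂), ρ'_p' E' E φ ρ0 hρε q _⟩, ?_, ?_⟩
    · exact (mem_gam_sub a.toIdeal (P E' E ρ0 q) _).mpr (map_mem_gam a.toIdeal _ hc₂g)
    · apply Subtype.ext
      show dK E' E φ q (p' E' E φ ρ0 q (-u', v₂)) = _
      rw [hcK, dK_p' E' E φ hφd ρ0 q, dK_apply, map_neg, neg_neg, hu'c', map_neg, hv₂v']
      ext <;> simp

end Groth.Agent.Lib.Helper29GrConeDelta
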