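import Mathlib
import Groth.Agent.Lib.Helper29GrArt
import Groth.Agent.Lib.Helper29GrGam
import Groth.Agent.Lib.Helper29GrHom
import Groth.Agent.Lib.Helper29LCAcyclic
import Groth.Agent.S11614
import Groth.Agent.S13217
import Groth.Prelude.Def_GrLC

/-! Degree-`h` pieces of graded local cohomology for an ideal generated in degree zero:
`H^i_a(M)_h ≅ H^i_{a₀}(M_h)` over `R₀` (helper29). -/

set_option autoImplicit false
set_option linter.style.haveILetI false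
open DirectSum CategoryTheory

namespace Groth.Agent.Lib.Helper29.GrDeg0

open Groth.Agent.Lib.Helper29.GrArt Groth.Agent.Lib.Helper29GrEss Groth.Agent.Lib.Helper29LCAcyclic

universe u

variable {ι : Type} [AddCommGroup ι] [DecidableEq ι]
variable {R : Type u} [CommRing R] (𝒜 : ι → AddSubgroup R) [GradedRing 𝒜]

theorem isNoetherianRing_deg0 [IsNoetherianRing R] : IsNoetherianRing (GrLC.deg0 𝒜) := by
  rw [isNoetherianRing_iff, isNoetherian_iff']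
  let Φ : Submodule (GrLC.deg0 𝒜) (GrLC.deg0 𝒜) → Submodule R R := fun N =>
    Submodule.span R ((N.map (Algebra.linearMap (GrLC.deg0 𝒜) R) : Submodule (GrLC.deg0 𝒜) R) : Set R)
  have hsm : StrictMono Φ := by
    intro N N' hlt
    refine lt_of_le_of_ne (Submodule.span_mono (Submodule.map_mono hlt.le)) ?_
    intro heq
    obtain ⟨x, hx', hx⟩ := SetLike.exists_of_lt hlt
    apply hx
    have h1 : (x : R) ∈ Φ N' := Submodule.subset_span ⟨x, hx', rfl⟩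
    rw [← heq] at h1
    have h2 := mem_of_mem_span_of_mem_piece 𝒜 𝒜 0 (N.map (Algebra.linearMap (GrLC.deg0 𝒜) R))
      (by rintro _ ⟨y, _, rfl⟩; exact y.2) (x : R) h1 x.2
    obtain ⟨y, hy, hyx⟩ := h2
    have : y = x := Subtype.ext hyx
    rw [← this]
    exact hy
  exact hsm.wellFoundedGT

section Comp
variable {L : Type u} [AddCommGroup L] [Module R L] (𝓛 : ι → AddSubgroup L)
  [DirectSum.Decomposition 𝓛] [SetLike.GradedSMul 𝒜 𝓛]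
variable {L' : Type u} [AddCommGroup L'] [Module R L'] (𝓛' : ι → AddSubgroup L')
  [DirectSum.Decomposition 𝓛'] [SetLike.GradedSMul 𝒜 𝓛']

/-- The restriction of a homogeneous map to the pieces of degree `h`. -/
def compMap (β : L →ₗ[R] L') (hβ : GrLC.IsGrHom 𝓛 𝓛' β) (h : ι) :
    GrLC.comp 𝒜 𝓛 h →ₗ[GrLC.deg0 𝒜] GrLC.comp 𝒜 𝓛' h :=
  (β.restrictScalars (GrLC.deg0 𝒜)).restrict (fun x hx => hβ h x hx)

theorem compMap_coe (β : L →ₗ[R] L') (hβ : GrLC.IsGrHom 𝓛 𝓛' β) (h : ι) (x : GrLC.comp 𝒜 𝓛 h) :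
    ((compMap 𝒜 𝓛 𝓛' β hβ h x : GrLC.comp 𝒜 𝓛' h) : L') = β x := rfl

/-- The projection onto the piece of degree `h`. -/
def compProj (h : ι) : L →ₗ[GrLC.deg0 𝒜] GrLC.comp 𝒜 𝓛 h where
  toFun x := ⟨(decompose 𝓛 x h : L), SetLike.coe_mem _⟩
  map_add' x y := by
    apply Subtype.ext
    show ((decompose 𝓛 (x + y)) h : L) = ((decompose 𝓛 x) h : L) + ((decompose 𝓛 y) h : L)
    rw [DirectSum.decompose_add, DirectSum.add_apply, AddSubgroup.coe_add]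
  map_smul' r x := by
    apply Subtype.ext
    show ((decompose 𝓛 ((r : R) • x)) h : L) = (r : R) • ((decompose 𝓛 x) h : L)
    rw [decompose_smul_of_mem 𝒜 𝓛 r.2 x h, sub_zero]

theorem compProj_coe (h : ι) (x : L) : ((compProj 𝒜 𝓛 h x : GrLC.comp 𝒜 𝓛 h) : L) = (decompose 𝓛 x h : L) := rfl

theorem compProj_subtype (h : ι) (x : GrLC.comp 𝒜 𝓛 h) : compProj 𝒜 𝓛 h (x : L) = x := by
  apply Subtype.ext
  rw [compProj_coe]
  exact DirectSum.decompose_of_mem_same 𝓛 x.2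

end Comp

variable (a : HomogeneousIdeal 𝒜)

/-- `a₀ = a ∩ R₀`. -/
abbrev a0 : Ideal (GrLC.deg0 𝒜) := a.toIdeal.comap (GrLC.deg0 𝒜).subtype

theorem map_a0 (ha : a.toIdeal = Ideal.span ((a : Set R) ∩ (𝒜 0 : AddSubgroup R))) :
    Ideal.map (algebraMap (GrLC.deg0 𝒜) R) (a0 𝒜 a) = a.toIdeal := by
  apply le_antisymm
  · exact Ideal.map_comap_le
  · conv_lhs => rw [ha]
    rw [Ideal.span_le]
    rintro r ⟨hra, hr0⟩
    exact Ideal.mem_map_of_mem (algebraMap (GrLC.deg0 𝒜) R) (I := a0 𝒜 a) (x := ⟨r, hr0⟩) hra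

theorem map_a0_pow (ha : a.toIdeal = Ideal.span ((a : Set R) ∩ (𝒜 0 : AddSubgroup R))) (k : ℕ) :
    Ideal.map (algebraMap (GrLC.deg0 𝒜) R) (a0 𝒜 a ^ k) = a.toIdeal ^ k := by
  rw [Ideal.map_pow, map_a0 𝒜 a ha]

/-- Torsion for `a` and for `a₀` agree. -/
theorem mem_gam_iff (ha : a.toIdeal = Ideal.span ((a : Set R) ∩ (𝒜 0 : AddSubgroup R)))
    {L : Type u} [AddCommGroup L] [Module R L] (x : L) :
    x ∈ GrLC.gam a.toIdeal L ↔ x ∈ GrLC.gam (a0 𝒜 a) L := by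
  constructor
  · rintro ⟨k, hk⟩
    refine ⟨k, fun r hr => ?_⟩
    apply hk (r : R)
    rw [← map_a0_pow 𝒜 a ha k]
    exact Ideal.mem_map_of_mem _ hr
  · rintro ⟨k, hk⟩
    refine ⟨k, fun r hr => ?_⟩
    rw [← map_a0_pow 𝒜 a ha k] at hr
    let P : Ideal R := (Submodule.span R {x}).annihilator
    have hP : Ideal.map (algebraMap (GrLC.deg0 𝒜) R) (a0 𝒜 a ^ k) ≤ P := by
      rw [Ideal.map_le_iff_le_comap]
      intro s hs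
      rw [Ideal.mem_comap, Submodule.mem_annihilator_span_singleton]
      exact hk s hs
    have := hP hr
    rwa [Submodule.mem_annihilator_span_singleton] at this

variable {L : Type u} [AddCommGroup L] [Module R L] (𝓛 : ι → AddSubgroup L)
  [DirectSum.Decomposition 𝓛] [SetLike.GradedSMul 𝒜 𝓛]

variable (ha : a.toIdeal = Ideal.span ((a : Set R) ∩ (𝒜 0 : AddSubgroup R)))

include ha in
theorem subsingleton_LC_restrict [IsNoetherianRing R] [Module.Free ℤ ι] [Module.Finite ℤ ι]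
    (hI : GrLC.IsStarInj 𝒜 𝓛) (j : ℕ) : Subsingleton (LC (a0 𝒜 a) (j + 1) L) := by
  haveI := isNoetherianRing_deg0 𝒜
  haveI : Subsingleton (LocCoh.H a.toIdeal (j + 1) L) :=
    Groth.Agent.S13217.result R 𝒜 a L 𝓛 hI (j + 1) (by omega)
  obtain ⟨φ, -⟩ := Groth.Agent.S11614.result (GrLC.deg0 𝒜) R (a0 𝒜 a) L (j + 1)
  rw [map_a0 𝒜 a ha] at φ
  exact φ.symm.toEquiv.subsingleton

include ha in
theorem comp_acyclic [IsNoetherianRing R] [Module.Free ℤ ι] [Module.Finite ℤ ι]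
    (hI : GrLC.IsStarInj 𝒜 𝓛) (h : ι) (j : ℕ) (x : LC (a0 𝒜 a) (j + 1) (GrLC.comp 𝒜 𝓛 h)) : x = 0 := by
  haveI := subsingleton_LC_restrict 𝒜 a 𝓛 ha hI j
  let F := localCohomology (a0 𝒜 a) (j + 1)
  let i₁ : ModuleCat.of (GrLC.deg0 𝒜) (GrLC.comp 𝒜 𝓛 h) ⟶ ModuleCat.of (GrLC.deg0 𝒜) L :=
    ModuleCat.ofHom (GrLC.comp 𝒜 𝓛 h).subtype
  let p₁ : ModuleCat.of (GrLC.deg0 𝒜) L ⟶ ModuleCat.of (GrLC.deg0 𝒜) (GrLC.comp 𝒜 𝓛 h) :=
    ModuleCat.ofHom (compProj 𝒜 𝓛 h)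
  have hcomp : i₁ ≫ p₁ = 𝟙 _ := by
    ext y
    exact congrArg Subtype.val (compProj_subtype 𝒜 𝓛 h y)
  have h1 : F.map i₁ ≫ F.map p₁ = 𝟙 _ := by
    rw [← F.map_comp, hcomp, F.map_id]
  have h2 : (F.map p₁) ((F.map i₁) x) = x := by
    have := congrArg (fun f => f x) (congrArg (fun g => (g.hom : _ → _)) h1)
    exact this
  rw [← h2, Subsingleton.elim ((F.map i₁) x) 0, map_zero]

include ha in
/-- torsion in a piece (over `R₀`, for `a₀`) vs torsion in the whole module (over `R`, for `a`). -/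
theorem mem_gam_comp_iff (h : ι) (x : GrLC.comp 𝒜 𝓛 h) :
    x ∈ GrLC.gam (a0 𝒜 a) (GrLC.comp 𝒜 𝓛 h) ↔ (x : L) ∈ GrLC.gam a.toIdeal L := by
  rw [mem_gam_iff 𝒜 a ha]
  constructor
  · rintro ⟨k, hk⟩
    exact ⟨k, fun r hr => congrArg Subtype.val (hk r hr)⟩
  · rintro ⟨k, hk⟩
    exact ⟨k, fun r hr => Subtype.ext (hk r hr)⟩

section Res

variable {M : Type u} [AddCommGroup M] [Module R M] (ℳ : ι → AddSubgroup M)
  [DirectSum.Decomposition ℳ] [SetLike.GradedSMul 𝒜 ℳ] (E : GrLC.StarInjRes 𝒜 ℳ) (h : ι)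

/-- terms of the degree-`h` complex -/
abbrev Xh (n : ℕ) : Type u := ↥(GrLC.comp 𝒜 (E.X n).gr h)

/-- differentials of the degree-`h` complex -/
def dh (n : ℕ) : Xh 𝒜 ℳ E h n →ₗ[GrLC.deg0 𝒜] Xh 𝒜 ℳ E h (n + 1) :=
  compMap 𝒜 (E.X n).gr (E.X (n + 1)).gr (E.d n) (E.d_grHom n) h

/-- augmentation of the degree-`h` complex -/
def εh : GrLC.comp 𝒜 ℳ h →ₗ[GrLC.deg0 𝒜] Xh 𝒜 ℳ E h 0 :=
  compMap 𝒜 ℳ (E.X 0).gr E.ε E.ε_grHom h

theorem dh_coe (n : ℕ) (x : Xh 𝒜 ℳ E h n) :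
    ((dh 𝒜 ℳ E h n x : Xh 𝒜 ℳ E h (n + 1)) : (E.X (n + 1)).carrier) = E.d n x := rfl

theorem εh_coe (x : GrLC.comp 𝒜 ℳ h) :
    ((εh 𝒜 ℳ E h x : Xh 𝒜 ℳ E h 0) : (E.X 0).carrier) = E.ε x := rfl

theorem εh_injective : Function.Injective (εh 𝒜 ℳ E h) := by
  intro x y hxy
  apply Subtype.ext
  apply E.ε_injective
  exact congrArg Subtype.val hxy

theorem exact_zero_h : LinearMap.ker (dh 𝒜 ℳ E h 0) = LinearMap.range (εh 𝒜 ℳ E h) := by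
  ext x
  constructor
  · intro hx
    have hx' : E.d 0 (x : (E.X 0).carrier) = 0 := congrArg Subtype.val (LinearMap.mem_ker.mp hx)
    have h1 : (x : (E.X 0).carrier) ∈ LinearMap.range E.ε := by
      rw [← E.exact_zero]; exact hx'
    obtain ⟨m, hm⟩ := h1
    refine ⟨⟨(decompose ℳ m h : M), SetLike.coe_mem _⟩, ?_⟩
    apply Subtype.ext
    rw [εh_coe]
    show E.ε ((decompose ℳ m h : M)) = x
    rw [← Groth.Agent.Lib.Helper29GrHom.decompose_map (E.X 0).gr ℳ E.ε E.ε_grHom m h, hm]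
    exact DirectSum.decompose_of_mem_same _ x.2
  · rintro ⟨m, rfl⟩
    rw [LinearMap.mem_ker]
    apply Subtype.ext
    rw [dh_coe, εh_coe]
    have : E.ε (m : M) ∈ LinearMap.ker (E.d 0) := by
      rw [E.exact_zero]; exact LinearMap.mem_range_self _ _
    exact this

theorem exact_succ_h (n : ℕ) :
    LinearMap.ker (dh 𝒜 ℳ E h (n + 1)) = LinearMap.range (dh 𝒜 ℳ E h n) := by
  ext x
  constructor
  · intro hx
    have hx' : E.d (n + 1) (x : (E.X (n + 1)).carrier) = 0 :=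
      congrArg Subtype.val (LinearMap.mem_ker.mp hx)
    have h1 : (x : (E.X (n + 1)).carrier) ∈ LinearMap.range (E.d n) := by
      rw [← E.exact_succ]; exact hx'
    obtain ⟨m, hm⟩ := h1
    refine ⟨⟨(decompose (E.X n).gr m h : (E.X n).carrier), SetLike.coe_mem _⟩, ?_⟩
    apply Subtype.ext
    rw [dh_coe]
    show E.d n ((decompose (E.X n).gr m h : (E.X n).carrier)) = x
    rw [← Groth.Agent.Lib.Helper29GrHom.decompose_map (E.X (n + 1)).gr (E.X n).gr (E.d n)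
      (E.d_grHom n) m h, hm]
    exact DirectSum.decompose_of_mem_same _ x.2
  · rintro ⟨m, rfl⟩
    rw [LinearMap.mem_ker]
    apply Subtype.ext
    rw [dh_coe, dh_coe]
    have : E.d n (m : (E.X n).carrier) ∈ LinearMap.ker (E.d (n + 1)) := by
      rw [E.exact_succ]; exact LinearMap.mem_range_self _ _
    exact this

include ha in
theorem coe_mem_cocyc (i : ℕ) (z : cocyc (a0 𝒜 a) (Xh 𝒜 ℳ E h) (dh 𝒜 ℳ E h) i) :
    ((z : Xh 𝒜 ℳ E h i) : (E.X i).carrier) ∈ E.cocyc a i :=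
  ⟨(mem_gam_comp_iff 𝒜 a (E.X i).gr ha h z.1).mp z.2.1, congrArg Subtype.val (LinearMap.mem_ker.mp z.2.2)⟩

/-- degree-`h` torsion cocycles as cocycles of `Γ_a(E)`. -/
def ψ₀ (i : ℕ) : cocyc (a0 𝒜 a) (Xh 𝒜 ℳ E h) (dh 𝒜 ℳ E h) i →ₗ[GrLC.deg0 𝒜] E.cocyc a i where
  toFun z := ⟨((z : Xh 𝒜 ℳ E h i) : (E.X i).carrier), coe_mem_cocyc 𝒜 a ha ℳ E h i z⟩
  map_add' _ _ := rfl
  map_smul' _ _ := rfl

/-- the class map from degree-`h` torsion cocycles to `H^i_a(M)_h`. -/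
def ψ (i : ℕ) : cocyc (a0 𝒜 a) (Xh 𝒜 ℳ E h) (dh 𝒜 ℳ E h) i →ₗ[GrLC.deg0 𝒜] E.Hcomp a i h :=
  (((E.toH a i).restrictScalars (GrLC.deg0 𝒜)) ∘ₗ ψ₀ 𝒜 a ha ℳ E h i).codRestrict (E.Hcomp a i h)
    (fun z => ⟨ψ₀ 𝒜 a ha ℳ E h i z, (z : Xh 𝒜 ℳ E h i).2, rfl⟩)

theorem ψ_coe (i : ℕ) (z : cocyc (a0 𝒜 a) (Xh 𝒜 ℳ E h) (dh 𝒜 ℳ E h) i) :
    ((ψ 𝒜 a ha ℳ E h i z : E.Hcomp a i h) : E.H a i) = E.toH a i (ψ₀ 𝒜 a ha ℳ E h i z) := rfl

theorem ψ_surjective (i : ℕ) : Function.Surjective (ψ 𝒜 a ha ℳ E h i) := by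
  rintro ⟨x, z, hz, rfl⟩
  refine ⟨⟨⟨(z : (E.X i).carrier), hz⟩,
    (mem_gam_comp_iff 𝒜 a (E.X i).gr ha h ⟨(z : (E.X i).carrier), hz⟩).mpr z.2.1,
    LinearMap.mem_ker.mpr (Subtype.ext z.2.2)⟩, ?_⟩
  apply Subtype.ext
  rfl

theorem ψ_eq_zero_iff (i : ℕ) (z : cocyc (a0 𝒜 a) (Xh 𝒜 ℳ E h) (dh 𝒜 ℳ E h) i) :
    ψ 𝒜 a ha ℳ E h i z = 0 ↔ ((z : Xh 𝒜 ℳ E h i) : (E.X i).carrier) ∈ E.cobdy a i := by
  rw [← Subtype.coe_inj, ψ_coe]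
  show E.toH a i (ψ₀ 𝒜 a ha ℳ E h i z) = 0 ↔ _
  rw [Submodule.mkQ_apply, Submodule.Quotient.mk_eq_zero, Submodule.mem_comap]
  rfl

theorem ker_ψ_zero : LinearMap.ker (ψ 𝒜 a ha ℳ E h 0) =
    (⊥ : Submodule (GrLC.deg0 𝒜) (Xh 𝒜 ℳ E h 0)).comap
      (cocyc (a0 𝒜 a) (Xh 𝒜 ℳ E h) (dh 𝒜 ℳ E h) 0).subtype := by
  ext z
  rw [LinearMap.mem_ker, ψ_eq_zero_iff, Submodule.mem_comap, Submodule.mem_bot]
  show ((z : Xh 𝒜 ℳ E h 0) : (E.X 0).carrier) ∈ (⊥ : Submodule R (E.X 0).carrier) ↔ _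
  rw [Submodule.mem_bot]
  constructor
  · intro hz
    exact Subtype.ext hz
  · intro hz
    exact congrArg Subtype.val hz

theorem ker_ψ_succ (n : ℕ) : LinearMap.ker (ψ 𝒜 a ha ℳ E h (n + 1)) =
    ((GrLC.gam (a0 𝒜 a) (Xh 𝒜 ℳ E h n)).map (dh 𝒜 ℳ E h n)).comap
      (cocyc (a0 𝒜 a) (Xh 𝒜 ℳ E h) (dh 𝒜 ℳ E h) (n + 1)).subtype := by
  ext z
  rw [LinearMap.mem_ker, ψ_eq_zero_iff, Submodule.mem_comap]
  show ((z : Xh 𝒜 ℳ E h (n + 1)) : (E.X (n + 1)).carrier) ∈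
    (GrLC.gam a.toIdeal (E.X n).carrier).map (E.d n) ↔ _
  constructor
  · rintro ⟨y, hy, hyz⟩
    have hyh : ((decompose (E.X n).gr y h : (E.X n).carrier)) ∈ GrLC.gam a.toIdeal (E.X n).carrier :=
      Groth.Agent.Lib.Helper29GrGam.gam_isHomogeneous 𝒜 (E.X n).gr a h hy
    refine ⟨⟨(decompose (E.X n).gr y h : (E.X n).carrier), SetLike.coe_mem _⟩,
      (mem_gam_comp_iff 𝒜 a (E.X n).gr ha h _).mpr hyh, ?_⟩
    apply Subtype.ext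
    rw [dh_coe]
    show E.d n ((decompose (E.X n).gr y h : (E.X n).carrier)) = _
    rw [← Groth.Agent.Lib.Helper29GrHom.decompose_map (E.X (n + 1)).gr (E.X n).gr (E.d n)
      (E.d_grHom n) y h, hyz]
    exact DirectSum.decompose_of_mem_same _ (z : Xh 𝒜 ℳ E h (n + 1)).2
  · rintro ⟨y, hy, hyz⟩
    refine ⟨(y : (E.X n).carrier), (mem_gam_comp_iff 𝒜 a (E.X n).gr ha h y).mp hy, ?_⟩
    rw [← dh_coe, hyz]
    rfl

set_option maxSynthPendingDepth 2 in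
theorem nonempty_Hcomp_quot (i : ℕ) : Nonempty (E.Hcomp a i h ≃ₗ[GrLC.deg0 𝒜]
    (cocyc (a0 𝒜 a) (Xh 𝒜 ℳ E h) (dh 𝒜 ℳ E h) i ⧸ LinearMap.ker (ψ 𝒜 a ha ℳ E h i))) :=
  ⟨((ψ 𝒜 a ha ℳ E h i).quotKerEquivOfSurjective (ψ_surjective 𝒜 a ha ℳ E h i)).symm⟩

include ha in
/-- `H^i_a(M)_h ≅ H^i_{a₀}(M_h)` over `R₀`. -/
theorem nonempty_Hcomp_equiv [IsNoetherianRing R] [Module.Free ℤ ι] [Module.Finite ℤ ι] (i : ℕ) :
    Nonempty (E.Hcomp a i h ≃ₗ[GrLC.deg0 𝒜] LC (a0 𝒜 a) i (GrLC.comp 𝒜 ℳ h)) := by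
  have hacyc : ∀ (n j : ℕ) (x : LC (a0 𝒜 a) (j + 1) (Xh 𝒜 ℳ E h n)), x = 0 :=
    fun n j x => comp_acyclic 𝒜 a (E.X n).gr ha (E.starInj n) h j x
  obtain ⟨e0⟩ := nonempty_Hcomp_quot 𝒜 a ha ℳ E h i
  cases i with
  | zero =>
    obtain ⟨e1⟩ := nonempty_zero (a0 𝒜 a) (Xh 𝒜 ℳ E h) (dh 𝒜 ℳ E h) (εh 𝒜 ℳ E h)
      (εh_injective 𝒜 ℳ E h) (exact_zero_h 𝒜 ℳ E h)
    exact ⟨e0.trans ((Submodule.quotEquivOfEq _ _ (ker_ψ_zero 𝒜 a ha ℳ E h)).trans e1)⟩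
  | succ n =>
    obtain ⟨e1⟩ := nonempty_succ (a0 𝒜 a) (Xh 𝒜 ℳ E h) (dh 𝒜 ℳ E h) (εh 𝒜 ℳ E h)
      (exact_succ_h 𝒜 ℳ E h) hacyc (εh_injective 𝒜 ℳ E h) (exact_zero_h 𝒜 ℳ E h) n
    exact ⟨e0.trans ((Submodule.quotEquivOfEq _ _ (ker_ψ_succ 𝒜 a ha ℳ E h n)).trans e1)⟩

end Res

end Groth.Agent.Lib.Helper29.GrDeg0
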