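import Groth.Agent.Lib.Helper29GrResCompare
import Groth.Agent.Lib.Helper29GrDeg0

/-! Maps induced on graded local cohomology (and on its graded pieces, over the degree-zero
subring) by linear maps compatible with cocycles and coboundaries; finiteness of a graded piece
over the degree-zero subring does not depend on the resolution (helper29). -/

set_option autoImplicit false
set_option linter.style.haveILetI false
set_option linter.unusedSectionVars false
open DirectSum

noncomputable section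

namespace Groth.Agent.Lib.Helper29GrHmap

open Groth.Agent.Lib.Helper29GrResCompare

universe u

variable {ι : Type} [AddCommGroup ι] [DecidableEq ι]
variable {R : Type u} [CommRing R] {𝒜 : ι → AddSubgroup R} [GradedRing 𝒜]
variable {M' : Type u} [AddCommGroup M'] [Module R M'] {ℳ' : ι → AddSubgroup M'}
  [DirectSum.Decomposition ℳ'] [SetLike.GradedSMul 𝒜 ℳ']
variable {M : Type u} [AddCommGroup M] [Module R M] {ℳ : ι → AddSubgroup M}
  [DirectSum.Decomposition ℳ] [SetLike.GradedSMul 𝒜 ℳ]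
variable (E' : GrLC.StarInjRes 𝒜 ℳ') (E : GrLC.StarInjRes 𝒜 ℳ) (a : HomogeneousIdeal 𝒜)
variable (i j : ℕ) (θ : (E'.X i).carrier →ₗ[R] (E.X j).carrier)
  (hZ : ∀ z ∈ E'.cocyc a i, θ z ∈ E.cocyc a j) (hB : ∀ z ∈ E'.cobdy a i, θ z ∈ E.cobdy a j)

/-- The map induced on cohomology. -/
def Hmap : E'.H a i →ₗ[R] E.H a j :=
  Submodule.mapQ _ _ (θ.restrict hZ) (fun z hz => hB z hz)

theorem Hmap_toH (z : ↥(E'.cocyc a i)) :
    Hmap E' E a i j θ hZ hB (E'.toH a i z) = E.toH a j ⟨θ z, hZ z z.2⟩ := rfl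

variable (γ γ' : ι) (hγ : ∀ z ∈ (E'.X i).gr γ, θ z ∈ (E.X j).gr γ')

/-- The map induced on graded pieces, over the degree-zero subring. -/
def HmapComp : E'.Hcomp a i γ →ₗ[GrLC.deg0 𝒜] E.Hcomp a j γ' :=
  ((Hmap E' E a i j θ hZ hB).restrictScalars (GrLC.deg0 𝒜)).restrict
    (p := E'.Hcomp a i γ) (q := E.Hcomp a j γ') (by
      rintro _ ⟨z, hz, rfl⟩
      exact ⟨⟨θ z, hZ z z.2⟩, hγ _ hz, rfl⟩)

theorem HmapComp_coe (y : E'.Hcomp a i γ) :
    ((HmapComp E' E a i j θ hZ hB γ γ' hγ y : E.Hcomp a j γ') : E.H a j) =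
      Hmap E' E a i j θ hZ hB (y : E'.H a i) := rfl

/-- Elements of a graded piece, as classes of homogeneous cocycles. -/
theorem exists_rep (y : E'.Hcomp a i γ) : ∃ z : ↥(E'.cocyc a i),
    (z : (E'.X i).carrier) ∈ (E'.X i).gr γ ∧ E'.toH a i z = (y : E'.H a i) := y.2

section Indep

variable [IsNoetherianRing R] [Module.Free ℤ ι] [Module.Finite ℤ ι]

/-- Finiteness of a graded piece of graded local cohomology over `R_0` does not depend on the
resolution. -/
theorem finite_Hcomp_of_res (D F : GrLC.StarInjRes 𝒜 ℳ) (n : ℕ) (γ : ι)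
    (hF : Module.Finite (GrLC.deg0 𝒜) (F.Hcomp a n γ)) :
    Module.Finite (GrLC.deg0 𝒜) (D.Hcomp a n γ) := by
  classical
  obtain ⟨ψ, hψ⟩ := Groth.Agent.S13243.result (AddMonoidHom.id ι) R 𝒜 𝒜
    (fun h => by simp) a a rfl M ℳ ℳ (fun h => by simp) D F n
  haveI : IsNoetherianRing (GrLC.deg0 𝒜) := Groth.Agent.Lib.Helper29.GrDeg0.isNoetherianRing_deg0 𝒜
  haveI : IsNoetherian (GrLC.deg0 𝒜) (F.Hcomp a n γ) := isNoetherian_of_isNoetherianRing_of_finite _ _
  let f : D.Hcomp a n γ →ₗ[GrLC.deg0 𝒜] F.Hcomp a n γ :=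
    (ψ.toLinearMap.restrictScalars (GrLC.deg0 𝒜)).restrict (p := D.Hcomp a n γ)
      (q := F.Hcomp a n γ) (by
        intro x hx
        have hx' : x ∈ ⨆ g ∈ (AddMonoidHom.id ι) ⁻¹' {γ}, D.Hgr a n g := by
          have : D.Hgr a n γ ≤ ⨆ g ∈ (AddMonoidHom.id ι) ⁻¹' {γ}, D.Hgr a n g :=
            le_iSup₂ (f := fun g (_ : g ∈ (AddMonoidHom.id ι) ⁻¹' {γ}) => D.Hgr a n g) γ rfl
          exact this hx
        exact hψ γ x hx')
  have hf : Function.Injective f := by
    intro x y hxy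
    apply Subtype.ext
    apply ψ.injective
    exact congrArg Subtype.val hxy
  exact Module.Finite.of_injective f hf

end Indep

end Groth.Agent.Lib.Helper29GrHmap
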