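import Groth.Agent.Lib.Helper29GrConeLES
import Groth.Agent.Lib.Helper29GrHmap

/-! Finiteness over the degree-zero subring along the long exact sequence of graded local
cohomology (cone model): exactness at `H^{n+1}(M')` and injectivity of `H^n(M) → H^n(M'')` when
`H^n(M')` vanishes in the given degree (helper29). -/

set_option autoImplicit false
set_option linter.style.haveILetI false
set_option linter.unusedSectionVars false
open DirectSum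

noncomputable section

namespace Groth.Agent.Lib.Helper29GrConeFin

open Groth.Agent.Lib.Helper29GrInjOps Groth.Agent.Lib.Helper29GrProd Groth.Agent.Lib.Helper29GrSub
  Groth.Agent.Lib.Helper29GrHom Groth.Agent.Lib.Helper29GrGam Groth.Agent.Lib.Helper29GrConeRes
  Groth.Agent.Lib.Helper29GrResCompare Groth.Agent.Lib.Helper29GrConeLES
  Groth.Agent.Lib.Helper29GrHmap
open Groth.Agent.Lib.Helper29Cone (mem_gam_prod)

universe u

variable {ι : Type} [AddCommGroup ι] [DecidableEq ι]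
variable {R : Type u} [CommRing R] {𝒜 : ι → AddSubgroup R} [GradedRing 𝒜]
variable {M' : Type u} [AddCommGroup M'] [Module R M'] {ℳ' : ι → AddSubgroup M'}
  [DirectSum.Decomposition ℳ'] [SetLike.GradedSMul 𝒜 ℳ']
variable {M : Type u} [AddCommGroup M] [Module R M] {ℳ : ι → AddSubgroup M}
  [DirectSum.Decomposition ℳ] [SetLike.GradedSMul 𝒜 ℳ]
variable {M'' : Type u} [AddCommGroup M''] [Module R M''] {ℳ'' : ι → AddSubgroup M''}
  [DirectSum.Decomposition ℳ''] [SetLike.GradedSMul 𝒜 ℳ'']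
variable (E' : GrLC.StarInjRes 𝒜 ℳ') (E : GrLC.StarInjRes 𝒜 ℳ)
variable (f : M' →ₗ[R] M) (g : M →ₗ[R] M'')
variable (φ : ∀ n, (E'.X n).carrier →ₗ[R] (E.X n).carrier)
variable (hfi : Function.Injective f) (hgs : Function.Surjective g)
  (hfg : LinearMap.ker g = LinearMap.range f) (hg : GrLC.IsGrHom ℳ ℳ'' g)
  (hφ : ∀ n, GrLC.IsGrHom (E'.X n).gr (E.X n).gr (φ n))
  (hφ0 : ∀ m' : M', φ 0 (E'.ε m') = E.ε (f m'))
  (hφd : ∀ (n : ℕ) (x : (E'.X n).carrier), φ (n + 1) (E'.d n x) = E.d n (φ n x))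
variable (ρ0 : K E' E 0 →ₗ[R] (E'.X 0).carrier)
  (hρ0 : GrLC.IsGrHom (Kgr E' E 0) (E'.X 0).gr ρ0)
  (hρε : ∀ w : (E'.X 0).carrier, ρ0 (εK E' E φ w) = w)
variable (a : HomogeneousIdeal 𝒜)

local notation "CR" => coneRes E' E f g φ hfi hgs hfg hg hφ hφ0 hφd ρ0 hρ0 hρε

/-! ### The map induced by `φ` -/

include hφd in
theorem φ_cocyc (n : ℕ) : ∀ z ∈ E'.cocyc a n, φ n z ∈ E.cocyc a n := by
  intro z hz
  refine ⟨map_mem_gam a.toIdeal (φ n) hz.1, ?_⟩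
  show E.d n (φ n z) = 0
  have h2 : E'.d n z = 0 := hz.2
  rw [← hφd n z, h2, map_zero]

include hφd in
theorem φ_cobdy (n : ℕ) : ∀ z ∈ E'.cobdy a n, φ n z ∈ E.cobdy a n := by
  intro z hz
  cases n with
  | zero =>
    have : z = 0 := (Submodule.mem_bot R).mp hz
    rw [this, map_zero]
    exact zero_mem _
  | succ k =>
    obtain ⟨w, hw, rfl⟩ := hz
    rw [hφd]
    exact ⟨φ k w, map_mem_gam a.toIdeal (φ k) hw, rfl⟩

/-! ### The projection from the cone resolution to `E'[1]` -/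

/-- The projection `D^n → E'^{n+1}`. -/
def θπ (n : ℕ) : ((CR).X n).carrier →ₗ[R] (E'.X (n + 1)).carrier :=
  LinearMap.fst R _ _ ∘ₗ (P E' E ρ0 n).subtype

theorem θπ_apply (n : ℕ) (c : ↥(P E' E ρ0 n)) :
    θπ E' E f g φ hfi hgs hfg hg hφ hφ0 hφd ρ0 hρ0 hρε n c = (c : K E' E n).1 := rfl

theorem mem_cocyc_cone (n : ℕ) (c : ((CR).X n).carrier) :
    c ∈ (CR).cocyc a n ↔
      ((show ↥(P E' E ρ0 n) from c) : K E' E n) ∈ GrLC.gam a.toIdeal (K E' E n) ∧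
      dK E' E φ n ((show ↥(P E' E ρ0 n) from c) : K E' E n) = 0 := by
  constructor
  · intro hc
    refine ⟨(mem_gam_sub a.toIdeal (P E' E ρ0 n) c).mp hc.1, ?_⟩
    have h2 : Dd E' E φ ρ0 n c = 0 := hc.2
    have := congrArg Subtype.val h2
    exact this
  · rintro ⟨h1, h2⟩
    exact ⟨(mem_gam_sub a.toIdeal (P E' E ρ0 n) c).mpr h1, Subtype.ext h2⟩

theorem mem_cobdy_cone_succ (k : ℕ) (c : ((CR).X (k + 1)).carrier) :
    c ∈ (CR).cobdy a (k + 1) ↔ ∃ w : K E' E k, ρ' E' E ρ0 k w = 0 ∧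
      w ∈ GrLC.gam a.toIdeal (K E' E k) ∧
      dK E' E φ k w = ((show ↥(P E' E ρ0 (k + 1)) from c) : K E' E (k + 1)) := by
  constructor
  · rintro ⟨w, hw, hwc⟩
    have hw' : (show ↥(P E' E ρ0 k) from w) ∈ GrLC.gam a.toIdeal ↥(P E' E ρ0 k) := hw
    exact ⟨((show ↥(P E' E ρ0 k) from w) : K E' E k), (show ↥(P E' E ρ0 k) from w).2,
      (mem_gam_sub a.toIdeal (P E' E ρ0 k) _).mp hw', congrArg Subtype.val hwc⟩
  · rintro ⟨w, hwρ, hwg, hwc⟩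
    refine ⟨⟨w, hwρ⟩, (mem_gam_sub a.toIdeal (P E' E ρ0 k) ⟨w, hwρ⟩).mpr hwg, ?_⟩
    exact Subtype.ext hwc

theorem θπ_cocyc (n : ℕ) : ∀ c ∈ (CR).cocyc a n,
    θπ E' E f g φ hfi hgs hfg hg hφ hφ0 hφd ρ0 hρ0 hρε n c ∈ E'.cocyc a (n + 1) := by
  intro c hc
  obtain ⟨h1, h2⟩ := (mem_cocyc_cone E' E f g φ hfi hgs hfg hg hφ hφ0 hφd ρ0 hρ0 hρε a n c).mp hc
  obtain ⟨⟨u, v⟩, hcP⟩ := c
  rw [dK_apply, Prod.mk_eq_zero, neg_eq_zero] at h2
  exact ⟨((mem_gam_prod a.toIdeal _).mp h1).1, h2.1⟩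

theorem θπ_cobdy (n : ℕ) : ∀ c ∈ (CR).cobdy a n,
    θπ E' E f g φ hfi hgs hfg hg hφ hφ0 hφd ρ0 hρ0 hρε n c ∈ E'.cobdy a (n + 1) := by
  intro c hc
  cases n with
  | zero =>
    have : c = 0 := (Submodule.mem_bot R).mp hc
    rw [this, map_zero]
    exact zero_mem _
  | succ k =>
    obtain ⟨⟨w1, w2⟩, -, hwg, hwc⟩ :=
      (mem_cobdy_cone_succ E' E f g φ hfi hgs hfg hg hφ hφ0 hφd ρ0 hρ0 hρε a k c).mp hc
    refine ⟨-w1, neg_mem ((mem_gam_prod a.toIdeal _).mp hwg).1, ?_⟩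
    rw [map_neg]
    have := congrArg Prod.fst hwc
    rw [dK_apply] at this
    exact this

theorem θπ_gr (n : ℕ) (γ : ι) : ∀ c ∈ ((CR).X n).gr γ,
    θπ E' E f g φ hfi hgs hfg hg hφ hφ0 hφd ρ0 hρ0 hρε n c ∈ (E'.X (n + 1)).gr γ := by
  intro c hc
  have hc' : ((show ↥(P E' E ρ0 n) from c) : K E' E n) ∈ Kgr E' E n γ := hc
  exact ((mem_Kgr E' E n γ _).mp hc').1

/-! ### The inclusion of `E` into the cone resolution -/

/-- The map `E^n → D^n`, `v ↦ p'(0, v)`. -/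
def θι (n : ℕ) : (E.X n).carrier →ₗ[R] ((CR).X n).carrier :=
  (p' E' E φ ρ0 n ∘ₗ LinearMap.inr R _ _).codRestrict (P E' E ρ0 n)
    (fun v => ρ'_p' E' E φ ρ0 hρε n _)

theorem θι_coe (n : ℕ) (v : (E.X n).carrier) :
    ((show ↥(P E' E ρ0 n) from θι E' E f g φ hfi hgs hfg hg hφ hφ0 hφd ρ0 hρ0 hρε n v) :
      K E' E n) = p' E' E φ ρ0 n (0, v) := rfl

theorem θι_cocyc (n : ℕ) : ∀ v ∈ E.cocyc a n,
    θι E' E f g φ hfi hgs hfg hg hφ hφ0 hφd ρ0 hρ0 hρε n v ∈ (CR).cocyc a n := by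
  intro v hv
  rw [mem_cocyc_cone]
  have hcg : (((0 : (E'.X (n + 1)).carrier), v) : K E' E n) ∈ GrLC.gam a.toIdeal (K E' E n) :=
    (mem_gam_prod a.toIdeal _).mpr ⟨zero_mem _, hv.1⟩
  refine ⟨map_mem_gam a.toIdeal (p' E' E φ ρ0 n) hcg, ?_⟩
  have hv2 : E.d n v = 0 := hv.2
  rw [θι_coe, dK_p' E' E φ hφd ρ0 n, dK_apply, hv2, map_zero, map_zero, neg_zero, add_zero]
  rfl

theorem θι_cobdy (n : ℕ) : ∀ v ∈ E.cobdy a n,
    θι E' E f g φ hfi hgs hfg hg hφ hφ0 hφd ρ0 hρ0 hρε n v ∈ (CR).cobdy a n := by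
  intro v hv
  cases n with
  | zero =>
    have : v = 0 := (Submodule.mem_bot R).mp hv
    rw [this, map_zero]
    exact zero_mem _
  | succ k =>
    obtain ⟨w, hw, rfl⟩ := hv
    rw [mem_cobdy_cone_succ]
    have hcg : (((0 : (E'.X (k + 1)).carrier), w) : K E' E k) ∈ GrLC.gam a.toIdeal (K E' E k) :=
      (mem_gam_prod a.toIdeal _).mpr ⟨zero_mem _, hw⟩
    refine ⟨p' E' E φ ρ0 k (0, w), ρ'_p' E' E φ ρ0 hρε k _,
      map_mem_gam a.toIdeal (p' E' E φ ρ0 k) hcg, ?_⟩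
    rw [θι_coe, dK_p' E' E φ hφd ρ0 k, dK_apply, p'_succ_apply, map_zero, map_zero, neg_zero,
      zero_add]

theorem θι_gr (n : ℕ) (γ : ι) : ∀ v ∈ (E.X n).gr γ,
    θι E' E f g φ hfi hgs hfg hg hφ hφ0 hφd ρ0 hρ0 hρε n v ∈ ((CR).X n).gr γ := by
  intro v hv
  have hcγ : (((0 : (E'.X (n + 1)).carrier), v) : K E' E n) ∈ Kgr E' E n γ :=
    (mem_Kgr E' E n γ _).mpr ⟨zero_mem _, hv⟩
  exact p'_hom E' E φ hφ ρ0 hρ0 n γ _ hcγ

/-! ### Exactness statements -/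

include hφ hφd hρ0 hρε in
/-- The inner argument of `KT3`, without the vanishing hypothesis. -/
theorem KT3' (n : ℕ) (γ : ι) (v : (E.X n).carrier)
    (hv : v ∈ E.cocyc a n) (hvγ : v ∈ (E.X n).gr γ)
    (hb : p' E' E φ ρ0 n (0, v) ∈ KB E' E φ a n) :
    ∃ u ∈ E'.cocyc a n, u ∈ (E'.X n).gr γ ∧ v - φ n u ∈ E.cobdy a n := by
  classical
  have hcg : (((0 : (E'.X (n + 1)).carrier), v) : K E' E n) ∈ GrLC.gam a.toIdeal (K E' E n) :=
    (mem_gam_prod a.toIdeal _).mpr ⟨zero_mem _, hv.1⟩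
  have hcγ : (((0 : (E'.X (n + 1)).carrier), v) : K E' E n) ∈ Kgr E' E n γ :=
    (mem_Kgr E' E n γ _).mpr ⟨zero_mem _, hvγ⟩
  cases n with
  | zero =>
    have h0 : p' E' E φ ρ0 0 (0, v) = 0 := (Submodule.mem_bot R).mp hb
    rw [p'_zero_apply, sub_eq_zero, εK_apply, Prod.mk.injEq] at h0
    refine ⟨ρ0 (0, v), ⟨map_mem_gam a.toIdeal ρ0 hcg, ?_⟩, hρ0 γ _ hcγ, ?_⟩
    · show E'.d 0 (ρ0 (0, v)) = 0
      have := h0.1
      rw [eq_comm, neg_eq_zero] at this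
      exact this
    · rw [← h0.2, sub_self]
      exact zero_mem _
  | succ k =>
    obtain ⟨⟨w, y⟩, hw, hwc⟩ := hb
    rw [p'_succ_apply, dK_apply, Prod.mk.injEq, neg_eq_zero] at hwc
    have hw' := (mem_gam_prod a.toIdeal _).mp hw
    refine ⟨((decompose (E'.X (k + 1)).gr w) γ : (E'.X (k + 1)).carrier),
      ⟨gam_isHomogeneous 𝒜 (E'.X (k + 1)).gr a γ hw'.1, ?_⟩, SetLike.coe_mem _, ?_⟩
    · show E'.d (k + 1) _ = 0
      rw [← decompose_map (E'.X (k + 1 + 1)).gr (E'.X (k + 1)).gr (E'.d (k + 1))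
        (E'.d_grHom (k + 1)) w γ, hwc.1, DirectSum.decompose_zero]
      rfl
    · refine ⟨((decompose (E.X k).gr y) γ : (E.X k).carrier),
        gam_isHomogeneous 𝒜 (E.X k).gr a γ hw'.2, ?_⟩
      have e1 := decompose_map (E.X (k + 1)).gr (E.X k).gr (E.d k) (E.d_grHom k) y γ
      have e2 := decompose_map (E.X (k + 1)).gr (E'.X (k + 1)).gr (φ (k + 1)) (hφ (k + 1)) w γ
      have e3 : ((decompose (E.X (k + 1)).gr (φ (k + 1) w + E.d k y)) γ : (E.X (k + 1)).carrier)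
          = v := by
        rw [hwc.2, DirectSum.decompose_of_mem_same _ hvγ]
      rw [DirectSum.decompose_add, DirectSum.add_apply, AddSubgroup.coe_add, e1, e2] at e3
      rw [← e3, add_sub_cancel_left]

/-- `H^n(M)_γ → H^n(M'')_γ` (cone resolution) is injective when `H^n(M')_γ = 0`. -/
theorem ι_injective (n : ℕ) (γ : ι) (h' : E'.Hcomp a n γ = ⊥) :
    Function.Injective (HmapComp E (CR) a n n
      (θι E' E f g φ hfi hgs hfg hg hφ hφ0 hφd ρ0 hρ0 hρε n)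
      (θι_cocyc E' E f g φ hfi hgs hfg hg hφ hφ0 hφd ρ0 hρ0 hρε a n)
      (θι_cobdy E' E f g φ hfi hgs hfg hg hφ hφ0 hφd ρ0 hρ0 hρε a n) γ γ
      (θι_gr E' E f g φ hfi hgs hfg hg hφ hφ0 hφd ρ0 hρ0 hρε n γ)) := by
  rw [injective_iff_map_eq_zero]
  intro y hy
  obtain ⟨v, hvγ, hvy⟩ := exists_rep E a n γ y
  apply Subtype.ext
  rw [← hvy, Submodule.coe_zero, toH_eq_zero_iff]
  have hy' := congrArg Subtype.val hy
  rw [HmapComp_coe, ← hvy, Hmap_toH, Submodule.coe_zero, toH_eq_zero_iff] at hy'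
  have hb : p' E' E φ ρ0 n (0, (v : (E.X n).carrier)) ∈ KB E' E φ a n := by
    cases n with
    | zero =>
      have h0 := (Submodule.mem_bot R).mp hy'
      have h1 := congrArg Subtype.val h0
      exact (Submodule.mem_bot R).mpr h1
    | succ k =>
      obtain ⟨w, -, hwg, hwc⟩ :=
        (mem_cobdy_cone_succ E' E f g φ hfi hgs hfg hg hφ hφ0 hφd ρ0 hρ0 hρε a k _).mp hy'
      exact ⟨w, hwg, hwc⟩
  obtain ⟨u, hu, huγ, huv⟩ := KT3' E' E φ hφ hφd ρ0 hρ0 hρε a n γ v v.2 hvγ hb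
  have hub : u ∈ E'.cobdy a n := (Hcomp_eq_bot_iff_forall E' a n γ).mp h' u hu huγ
  have := add_mem huv (φ_cobdy E' E φ hφd a n u hub)
  rwa [sub_add_cancel] at this

/-- Exactness at `H^{n+1}(M')_γ`. -/
theorem range_π_eq_ker_φ (n : ℕ) (γ : ι) :
    LinearMap.range (HmapComp (CR) E' a n (n + 1)
      (θπ E' E f g φ hfi hgs hfg hg hφ hφ0 hφd ρ0 hρ0 hρε n)
      (θπ_cocyc E' E f g φ hfi hgs hfg hg hφ hφ0 hφd ρ0 hρ0 hρε a n)
      (θπ_cobdy E' E f g φ hfi hgs hfg hg hφ hφ0 hφd ρ0 hρ0 hρε a n) γ γ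
      (θπ_gr E' E f g φ hfi hgs hfg hg hφ hφ0 hφd ρ0 hρ0 hρε n γ)) =
    LinearMap.ker (HmapComp E' E a (n + 1) (n + 1) (φ (n + 1))
      (φ_cocyc E' E φ hφd a (n + 1)) (φ_cobdy E' E φ hφd a (n + 1)) γ γ
      (fun z hz => hφ (n + 1) γ z hz)) := by
  ext y
  rw [LinearMap.mem_range, LinearMap.mem_ker]
  constructor
  · rintro ⟨cb, rfl⟩
    obtain ⟨c, hcγ, hc⟩ := exists_rep (CR) a n γ cb
    apply Subtype.ext
    rw [HmapComp_coe, HmapComp_coe, ← hc, Hmap_toH, Hmap_toH, Submodule.coe_zero, toH_eq_zero_iff]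
    obtain ⟨h1, h2⟩ := (mem_cocyc_cone E' E f g φ hfi hgs hfg hg hφ hφ0 hφd ρ0 hρ0 hρε a n c.1).mp c.2
    obtain ⟨⟨⟨u, v⟩, hcP⟩, hcc⟩ := c
    rw [dK_apply, Prod.mk_eq_zero] at h2
    refine ⟨-v, neg_mem ((mem_gam_prod a.toIdeal _).mp h1).2, ?_⟩
    rw [map_neg]
    show -(E.d n v) = φ (n + 1) u
    exact (eq_neg_of_add_eq_zero_left h2.2).symm
  · intro hy
    obtain ⟨u, huγ, huy⟩ := exists_rep E' a (n + 1) γ y
    have hy' := congrArg Subtype.val hy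
    rw [HmapComp_coe, ← huy, Hmap_toH, Submodule.coe_zero, toH_eq_zero_iff] at hy'
    have hφu : φ (n + 1) (u : (E'.X (n + 1)).carrier) ∈ E.cobdy a (n + 1) := hy'
    obtain ⟨y', hy'g, hy'γ, hy'u⟩ :=
      exists_homog_primitive E a n γ _ hφu (hφ (n + 1) γ _ huγ)
    have hcg : (((u : (E'.X (n + 1)).carrier), -y') : K E' E n) ∈ GrLC.gam a.toIdeal (K E' E n) :=
      (mem_gam_prod a.toIdeal _).mpr ⟨u.2.1, neg_mem hy'g⟩
    have hcγ : (((u : (E'.X (n + 1)).carrier), -y') : K E' E n) ∈ Kgr E' E n γ :=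
      (mem_Kgr E' E n γ _).mpr ⟨huγ, neg_mem hy'γ⟩
    have hcd : dK E' E φ n ((u : (E'.X (n + 1)).carrier), -y') = 0 := by
      have hu2 : E'.d (n + 1) (u : (E'.X (n + 1)).carrier) = 0 := u.2.2
      rw [dK_apply, hu2, map_neg, hy'u, neg_zero, add_neg_cancel]
      rfl
    let c : ((CR).X n).carrier := (⟨p' E' E φ ρ0 n ((u : (E'.X (n + 1)).carrier), -y'),
      ρ'_p' E' E φ ρ0 hρε n _⟩ : ↥(P E' E ρ0 n))
    have hcc : c ∈ (CR).cocyc a n := by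
      rw [mem_cocyc_cone]
      exact ⟨map_mem_gam a.toIdeal _ hcg, by
        show dK E' E φ n (p' E' E φ ρ0 n _) = 0
        rw [dK_p' E' E φ hφd ρ0 n, hcd]⟩
    have hcγ' : c ∈ ((CR).X n).gr γ := p'_hom E' E φ hφ ρ0 hρ0 n γ _ hcγ
    refine ⟨⟨(CR).toH a n ⟨c, hcc⟩, ⟨⟨c, hcc⟩, hcγ', rfl⟩⟩, ?_⟩
    apply Subtype.ext
    rw [HmapComp_coe]
    show Hmap (CR) E' a n (n + 1) _ _ _ ((CR).toH a n ⟨c, hcc⟩) = (y : E'.H a (n + 1))
    rw [Hmap_toH, ← huy, Submodule.mkQ_apply, Submodule.mkQ_apply, Submodule.Quotient.eq,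
      Submodule.mem_comap]
    show θπ E' E f g φ hfi hgs hfg hg hφ hφ0 hφd ρ0 hρ0 hρε n c - (u : (E'.X (n + 1)).carrier) ∈
      E'.cobdy a (n + 1)
    rw [θπ_apply]
    cases n with
    | zero =>
      show (p' E' E φ ρ0 0 ((u : (E'.X 1).carrier), -y')).1 - (u : (E'.X 1).carrier) ∈ _
      rw [p'_zero_apply, εK_apply]
      refine ⟨ρ0 ((u : (E'.X 1).carrier), -y'), map_mem_gam a.toIdeal ρ0 hcg, ?_⟩
      simp
    | succ k =>
      show (p' E' E φ ρ0 (k + 1) ((u : (E'.X (k + 1 + 1)).carrier), -y')).1 -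
        (u : (E'.X (k + 1 + 1)).carrier) ∈ _
      rw [p'_succ_apply, sub_self]
      exact zero_mem _

section Final

variable [IsNoetherianRing R] [Module.Free ℤ ι] [Module.Finite ℤ ι] (F : GrLC.StarInjRes 𝒜 ℳ'')

include hfi hgs hfg hg hφ hφ0 hφd in
/-- If `H^n(M'')_γ` and `H^{n+1}(M)_γ` are finite over `R_0`, so is `H^{n+1}(M')_γ`. -/
theorem T4fin (n : ℕ) (γ : ι) (hF : Module.Finite (GrLC.deg0 𝒜) (F.Hcomp a n γ))
    (hE : Module.Finite (GrLC.deg0 𝒜) (E.Hcomp a (n + 1) γ)) :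
    Module.Finite (GrLC.deg0 𝒜) (E'.Hcomp a (n + 1) γ) := by
  obtain ⟨ρ0, hρ0, hρε⟩ := exists_retraction E' E f φ hfi hφ hφ0
  haveI : IsNoetherianRing (GrLC.deg0 𝒜) := Groth.Agent.Lib.Helper29.GrDeg0.isNoetherianRing_deg0 𝒜
  have hC : Module.Finite (GrLC.deg0 𝒜) ((coneRes E' E f g φ hfi hgs hfg hg hφ hφ0 hφd ρ0 hρ0 hρε).Hcomp a n γ) := finite_Hcomp_of_res a (coneRes E' E f g φ hfi hgs hfg hg hφ hφ0 hφd ρ0 hρ0 hρε) F n γ hF
  haveI : IsNoetherian (GrLC.deg0 𝒜) ((coneRes E' E f g φ hfi hgs hfg hg hφ hφ0 hφd ρ0 hρ0 hρε).Hcomp a n γ) :=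
    isNoetherian_of_isNoetherianRing_of_finite _ _
  haveI : IsNoetherian (GrLC.deg0 𝒜) (E.Hcomp a (n + 1) γ) :=
    isNoetherian_of_isNoetherianRing_of_finite _ _
  haveI := isNoetherian_of_range_eq_ker _ _
    (range_π_eq_ker_φ E' E f g φ hfi hgs hfg hg hφ hφ0 hφd ρ0 hρ0 hρε a n γ)
  exact Module.IsNoetherian.finite _ _

include hfi hgs hfg hg hφ hφ0 hφd in
/-- If `H^n(M')_γ = 0` and `H^n(M'')_γ` is finite over `R_0`, so is `H^n(M)_γ`. -/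
theorem T5fin (n : ℕ) (γ : ι) (h' : E'.Hcomp a n γ = ⊥)
    (hF : Module.Finite (GrLC.deg0 𝒜) (F.Hcomp a n γ)) :
    Module.Finite (GrLC.deg0 𝒜) (E.Hcomp a n γ) := by
  obtain ⟨ρ0, hρ0, hρε⟩ := exists_retraction E' E f φ hfi hφ hφ0
  haveI : IsNoetherianRing (GrLC.deg0 𝒜) := Groth.Agent.Lib.Helper29.GrDeg0.isNoetherianRing_deg0 𝒜
  have hC : Module.Finite (GrLC.deg0 𝒜) ((coneRes E' E f g φ hfi hgs hfg hg hφ hφ0 hφd ρ0 hρ0 hρε).Hcomp a n γ) := finite_Hcomp_of_res a (coneRes E' E f g φ hfi hgs hfg hg hφ hφ0 hφd ρ0 hρ0 hρε) F n γ hF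
  haveI : IsNoetherian (GrLC.deg0 𝒜) ((coneRes E' E f g φ hfi hgs hfg hg hφ hφ0 hφd ρ0 hρ0 hρε).Hcomp a n γ) :=
    isNoetherian_of_isNoetherianRing_of_finite _ _
  exact Module.Finite.of_injective _
    (ι_injective E' E f g φ hfi hgs hfg hg hφ hφ0 hφd ρ0 hρ0 hρε a n γ h')

end Final

end Groth.Agent.Lib.Helper29GrConeFin
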