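import Groth.Agent.Lib.Helper29GrConeRes
import Groth.Agent.Lib.Helper29Cone

/-! The long exact sequence of graded local cohomology attached to a short exact sequence
`0 → M' → M → M'' → 0` of graded modules, at the level of elements (helper29). -/

set_option autoImplicit false
set_option linter.style.haveILetI false
set_option linter.unusedSectionVars false
open DirectSum

noncomputable section

namespace Groth.Agent.Lib.Helper29GrConeLES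

open Groth.Agent.Lib.Helper29GrInjOps Groth.Agent.Lib.Helper29GrProd Groth.Agent.Lib.Helper29GrSub
  Groth.Agent.Lib.Helper29GrHom Groth.Agent.Lib.Helper29GrGam Groth.Agent.Lib.Helper29GrConeRes
  Groth.Agent.Lib.Helper29GrResCompare

universe u

theorem map_mem_gam {R : Type u} [CommRing R] (I : Ideal R) {A B : Type u} [AddCommGroup A]
    [Module R A] [AddCommGroup B] [Module R B] (β : A →ₗ[R] B) {x : A} (hx : x ∈ GrLC.gam I A) :
    β x ∈ GrLC.gam I B := by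
  obtain ⟨k, hk⟩ := hx
  exact ⟨k, fun r hr => by rw [← map_smul, hk r hr, map_zero]⟩

theorem mem_gam_sub {R : Type u} [CommRing R] (I : Ideal R) {L : Type u} [AddCommGroup L]
    [Module R L] (P : Submodule R L) (z : ↥P) :
    z ∈ GrLC.gam I ↥P ↔ (z : L) ∈ GrLC.gam I L := by
  constructor
  · rintro ⟨k, hk⟩
    exact ⟨k, fun r hr => by rw [← Submodule.coe_smul, hk r hr]; rfl⟩
  · rintro ⟨k, hk⟩
    exact ⟨k, fun r hr => Subtype.ext (by rw [Submodule.coe_smul, hk r hr]; rfl)⟩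

variable {ι : Type} [AddCommGroup ι] [DecidableEq ι]
variable {R : Type u} [CommRing R] {𝒜 : ι → AddSubgroup R} [GradedRing 𝒜]
variable {M' : Type u} [AddCommGroup M'] [Module R M'] {ℳ' : ι → AddSubgroup M'}
  [DirectSum.Decomposition ℳ'] [SetLike.GradedSMul 𝒜 ℳ']
variable {M : Type u} [AddCommGroup M] [Module R M] {ℳ : ι → AddSubgroup M}
  [DirectSum.Decomposition ℳ] [SetLike.GradedSMul 𝒜 ℳ]
variable {M'' : Type u} [AddCommGroup M''] [Module R M''] {ℳ'' : ι → AddSubgroup M''}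
  [DirectSum.Decomposition ℳ''] [SetLike.GradedSMul 𝒜 ℳ'']
variable (E' : GrLC.StarInjRes 𝒜 ℳ') (E : GrLC.StarInjRes 𝒜 ℳ)
variable (f : M' →ₗ[R] M) (g : M →ₗ[R] M'')
variable (φ : ∀ n, (E'.X n).carrier →ₗ[R] (E.X n).carrier)
variable (hfi : Function.Injective f) (hgs : Function.Surjective g)
  (hfg : LinearMap.ker g = LinearMap.range f) (hg : GrLC.IsGrHom ℳ ℳ'' g)
  (hφ : ∀ n, GrLC.IsGrHom (E'.X n).gr (E.X n).gr (φ n))
  (hφ0 : ∀ m' : M', φ 0 (E'.ε m') = E.ε (f m'))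
  (hφd : ∀ (n : ℕ) (x : (E'.X n).carrier), φ (n + 1) (E'.d n x) = E.d n (φ n x))
variable (ρ0 : K E' E 0 →ₗ[R] (E'.X 0).carrier)
  (hρ0 : GrLC.IsGrHom (Kgr E' E 0) (E'.X 0).gr ρ0)
  (hρε : ∀ w : (E'.X 0).carrier, ρ0 (εK E' E φ w) = w)
variable (a : HomogeneousIdeal 𝒜)

/-- Coboundaries of `Γ_a` of the cone. -/
def KB : (n : ℕ) → Submodule R (K E' E n)
  | 0 => ⊥
  | k + 1 => (GrLC.gam a.toIdeal (K E' E k)).map (dK E' E φ k)

/-- Vanishing of the degree `γ` part of the `n`-th cohomology of `Γ_a` of the cone resolution,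
in terms of the cone. -/
def Kvanish (n : ℕ) (γ : ι) : Prop :=
  ∀ c : K E' E n, ρ' E' E ρ0 n c = 0 → c ∈ GrLC.gam a.toIdeal (K E' E n) → dK E' E φ n c = 0 →
    c ∈ Kgr E' E n γ → c ∈ KB E' E φ a n

theorem cone_Hcomp_eq_bot_iff (n : ℕ) (γ : ι) :
    (coneRes E' E f g φ hfi hgs hfg hg hφ hφ0 hφd ρ0 hρ0 hρε).Hcomp a n γ = ⊥ ↔
      Kvanish E' E φ ρ0 a n γ := by
  rw [Hcomp_eq_bot_iff_forall]
  constructor
  · intro h c hc hcg hcd hcγ
    have hz : (⟨c, hc⟩ : ↥(P E' E ρ0 n)) ∈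
        (coneRes E' E f g φ hfi hgs hfg hg hφ hφ0 hφd ρ0 hρ0 hρε).cocyc a n :=
      ⟨(mem_gam_sub a.toIdeal (P E' E ρ0 n) ⟨c, hc⟩).mpr hcg, Subtype.ext hcd⟩
    have hb := h ⟨c, hc⟩ hz hcγ
    cases n with
    | zero =>
      have h0 : (⟨c, hc⟩ : ↥(P E' E ρ0 0)) = 0 := (Submodule.mem_bot R).mp hb
      exact (Submodule.mem_bot R).mpr (congrArg Subtype.val h0)
    | succ k =>
      obtain ⟨w, hw, hwz⟩ := hb
      have hw' : (show ↥(P E' E ρ0 k) from w) ∈ GrLC.gam a.toIdeal ↥(P E' E ρ0 k) := hw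
      exact ⟨((show ↥(P E' E ρ0 k) from w) : K E' E k),
        (mem_gam_sub a.toIdeal (P E' E ρ0 k) _).mp hw', congrArg Subtype.val hwz⟩
  · intro h z hz hzγ
    obtain ⟨c, hc⟩ := z
    have hc' := h c hc ((mem_gam_sub a.toIdeal (P E' E ρ0 n) ⟨c, hc⟩).mp hz.1)
      (congrArg Subtype.val hz.2) hzγ
    cases n with
    | zero =>
      have h0 : c = 0 := (Submodule.mem_bot R).mp hc'
      exact (Submodule.mem_bot R).mpr (Subtype.ext h0)
    | succ k =>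
      obtain ⟨c', hc'g, hc'c⟩ := hc'
      refine ⟨⟨p' E' E φ ρ0 k c', ρ'_p' E' E φ ρ0 hρε k c'⟩, ?_, ?_⟩
      · exact (mem_gam_sub a.toIdeal (P E' E ρ0 k) _).mpr (map_mem_gam a.toIdeal _ hc'g)
      · apply Subtype.ext
        show dK E' E φ k (p' E' E φ ρ0 k c') = c
        rw [dK_p' E' E φ hφd ρ0 k c', hc'c]


open Groth.Agent.Lib.Helper29Cone (mem_gam_prod)

include hφ hφd hρε in
/-- `H^{n+1}(M')_γ = 0` and `H^n(M)_γ = 0` imply `H^n(M'')_γ = 0` (cone level). -/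
theorem KT1 (n : ℕ) (γ : ι) (h1 : E'.Hcomp a (n + 1) γ = ⊥) (h2 : E.Hcomp a n γ = ⊥) :
    Kvanish E' E φ ρ0 a n γ := by
  rw [Hcomp_eq_bot_iff_forall] at h1 h2
  rintro ⟨u, v⟩ hcρ hcg hcd hcγ
  rw [dK_apply, Prod.mk_eq_zero, neg_eq_zero] at hcd
  have hg' := (mem_gam_prod a.toIdeal _).mp hcg
  have huγ : u ∈ (E'.X (n + 1)).gr γ := hcγ.1
  have hvγ : v ∈ (E.X n).gr γ := hcγ.2
  have hu : u ∈ E'.cocyc a (n + 1) := ⟨hg'.1, hcd.1⟩
  obtain ⟨w, hwg, hwγ, hwu⟩ := exists_homog_primitive E' a n γ u (h1 u hu huγ) huγ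
  have hv' : v + φ n w ∈ E.cocyc a n := by
    refine ⟨add_mem hg'.2 (map_mem_gam a.toIdeal (φ n) hwg), ?_⟩
    show E.d n (v + φ n w) = 0
    rw [map_add, ← hφd n w, hwu]
    exact (add_comm _ _).trans hcd.2
  have hv'γ : v + φ n w ∈ (E.X n).gr γ := add_mem hvγ (hφ n γ w hwγ)
  have hb := h2 _ hv' hv'γ
  cases n with
  | zero =>
    have h0 : v + φ 0 w = 0 := (Submodule.mem_bot R).mp hb
    have hc : ((u, v) : K E' E 0) = -εK E' E φ w := by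
      rw [εK_apply, hwu]
      ext
      · simp
      · simp only [Prod.snd_neg]
        exact eq_neg_of_add_eq_zero_left h0
    have hρc : ρ0 ((u, v) : K E' E 0) = 0 := hcρ
    rw [hc, map_neg, hρε, neg_eq_zero] at hρc
    rw [hc, hρc, map_zero, neg_zero]
    exact zero_mem _
  | succ k =>
    obtain ⟨y, hy, hyv⟩ := hb
    refine ⟨(-w, y), (mem_gam_prod a.toIdeal _).mpr ⟨neg_mem hwg, hy⟩, ?_⟩
    rw [dK_apply, map_neg, neg_neg, hwu, map_neg, hyv]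
    ext <;> simp

include hφ hφd hρ0 hρε in
/-- A class of `H^{n+1}(M')_γ` killed by `φ` comes from `H^n(M'')_γ` (cone level). -/
theorem KT2 (n : ℕ) (γ : ι) (u : (E'.X (n + 1)).carrier) (hu : u ∈ E'.cocyc a (n + 1))
    (huγ : u ∈ (E'.X (n + 1)).gr γ) (hφu : φ (n + 1) u ∈ E.cobdy a (n + 1))
    (hK : Kvanish E' E φ ρ0 a n γ) : u ∈ E'.cobdy a (n + 1) := by
  obtain ⟨y, hyg, hyγ, hyu⟩ := exists_homog_primitive E a n γ _ hφu (hφ (n + 1) γ u huγ)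
  have hcg : ((u, -y) : K E' E n) ∈ GrLC.gam a.toIdeal (K E' E n) :=
    (mem_gam_prod a.toIdeal _).mpr ⟨hu.1, neg_mem hyg⟩
  have hcγ : ((u, -y) : K E' E n) ∈ Kgr E' E n γ :=
    (mem_Kgr E' E n γ _).mpr ⟨huγ, neg_mem hyγ⟩
  have hcd : dK E' E φ n (u, -y) = 0 := by
    have hu2 : E'.d (n + 1) u = 0 := hu.2
    rw [dK_apply, hu2, map_neg, hyu, neg_zero, add_neg_cancel]
    rfl
  have hb := hK (p' E' E φ ρ0 n (u, -y)) (ρ'_p' E' E φ ρ0 hρε n _)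
    (map_mem_gam a.toIdeal _ hcg) (by rw [dK_p' E' E φ hφd ρ0 n, hcd])
    (p'_hom E' E φ hφ ρ0 hρ0 n γ _ hcγ)
  cases n with
  | zero =>
    have h0 : p' E' E φ ρ0 0 (u, -y) = 0 := (Submodule.mem_bot R).mp hb
    rw [p'_zero_apply, sub_eq_zero, εK_apply, Prod.mk.injEq] at h0
    refine ⟨-ρ0 (u, -y), neg_mem (map_mem_gam a.toIdeal ρ0 hcg), ?_⟩
    rw [map_neg]
    exact h0.1.symm
  | succ k =>
    obtain ⟨⟨w', y'⟩, hw, hwc⟩ := hb
    rw [p'_succ_apply, dK_apply, Prod.mk.injEq] at hwc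
    refine ⟨-w', neg_mem ((mem_gam_prod a.toIdeal _).mp hw).1, ?_⟩
    rw [map_neg]
    exact hwc.1

include hφ hφd hρ0 hρε in
/-- If `H^n(M'')_γ = 0` then `H^n(M')_γ → H^n(M)_γ` is surjective (cone level). -/
theorem KT3 (n : ℕ) (γ : ι) (hK : Kvanish E' E φ ρ0 a n γ) (v : (E.X n).carrier)
    (hv : v ∈ E.cocyc a n) (hvγ : v ∈ (E.X n).gr γ) :
    ∃ u ∈ E'.cocyc a n, u ∈ (E'.X n).gr γ ∧ v - φ n u ∈ E.cobdy a n := by
  classical
  have hcg : (((0 : (E'.X (n + 1)).carrier), v) : K E' E n) ∈ GrLC.gam a.toIdeal (K E' E n) :=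
    (mem_gam_prod a.toIdeal _).mpr ⟨zero_mem _, hv.1⟩
  have hcγ : (((0 : (E'.X (n + 1)).carrier), v) : K E' E n) ∈ Kgr E' E n γ :=
    (mem_Kgr E' E n γ _).mpr ⟨zero_mem _, hvγ⟩
  have hcd : dK E' E φ n ((0 : (E'.X (n + 1)).carrier), v) = 0 := by
    have hv2 : E.d n v = 0 := hv.2
    rw [dK_apply, hv2, map_zero, map_zero, neg_zero, add_zero]
    rfl
  have hb := hK (p' E' E φ ρ0 n (0, v)) (ρ'_p' E' E φ ρ0 hρε n _)
    (map_mem_gam a.toIdeal _ hcg) (by rw [dK_p' E' E φ hφd ρ0 n, hcd])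
    (p'_hom E' E φ hφ ρ0 hρ0 n γ _ hcγ)
  cases n with
  | zero =>
    have h0 : p' E' E φ ρ0 0 (0, v) = 0 := (Submodule.mem_bot R).mp hb
    rw [p'_zero_apply, sub_eq_zero, εK_apply, Prod.mk.injEq] at h0
    refine ⟨ρ0 (0, v), ⟨map_mem_gam a.toIdeal ρ0 hcg, ?_⟩, hρ0 γ _ hcγ, ?_⟩
    · show E'.d 0 (ρ0 (0, v)) = 0
      have := h0.1
      rw [eq_comm, neg_eq_zero] at this
      exact this
    · rw [← h0.2, sub_self]
      exact zero_mem _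
  | succ k =>
    obtain ⟨⟨w, y⟩, hw, hwc⟩ := hb
    rw [p'_succ_apply, dK_apply, Prod.mk.injEq, neg_eq_zero] at hwc
    have hw' := (mem_gam_prod a.toIdeal _).mp hw
    refine ⟨((decompose (E'.X (k + 1)).gr w) γ : (E'.X (k + 1)).carrier),
      ⟨gam_isHomogeneous 𝒜 (E'.X (k + 1)).gr a γ hw'.1, ?_⟩, SetLike.coe_mem _, ?_⟩
    · show E'.d (k + 1) _ = 0
      rw [← decompose_map (E'.X (k + 1 + 1)).gr (E'.X (k + 1)).gr (E'.d (k + 1))
        (E'.d_grHom (k + 1)) w γ, hwc.1, DirectSum.decompose_zero]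
      rfl
    · refine ⟨((decompose (E.X k).gr y) γ : (E.X k).carrier),
        gam_isHomogeneous 𝒜 (E.X k).gr a γ hw'.2, ?_⟩
      have e1 := decompose_map (E.X (k + 1)).gr (E.X k).gr (E.d k) (E.d_grHom k) y γ
      have e2 := decompose_map (E.X (k + 1)).gr (E'.X (k + 1)).gr (φ (k + 1)) (hφ (k + 1)) w γ
      have e3 : ((decompose (E.X (k + 1)).gr (φ (k + 1) w + E.d k y)) γ : (E.X (k + 1)).carrier)
          = v := by
        rw [hwc.2, DirectSum.decompose_of_mem_same _ hvγ]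
      rw [DirectSum.decompose_add, DirectSum.add_apply, AddSubgroup.coe_add, e1, e2] at e3
      rw [← e3, add_sub_cancel_left]


section Final

include hfi hφ hφ0 in
theorem exists_retraction : ∃ ρ0 : K E' E 0 →ₗ[R] (E'.X 0).carrier,
    GrLC.IsGrHom (Kgr E' E 0) (E'.X 0).gr ρ0 ∧ ∀ w : (E'.X 0).carrier, ρ0 (εK E' E φ w) = w := by
  obtain ⟨h, hh, hhf⟩ := E'.starInj 0 (E'.X 0) (GrLC.GMod.of 𝒜 (K E' E 0) (Kgr E' E 0))
    (εK E' E φ) (εK_hom E' E φ hφ) (εK_injective E' E f φ hfi hφ0) LinearMap.id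
    (fun γ x hx => hx)
  exact ⟨h, hh, fun w => LinearMap.congr_fun hhf w⟩

variable [IsNoetherianRing R] [Module.Free ℤ ι] [Module.Finite ℤ ι] (F : GrLC.StarInjRes 𝒜 ℳ'')

include hfi hgs hfg hg hφ hφ0 hφd in
/-- `H^{n+1}(M')_γ = 0` and `H^n(M)_γ = 0` imply `H^n(M'')_γ = 0`. -/
theorem T1 (n : ℕ) (γ : ι) (h1 : E'.Hcomp a (n + 1) γ = ⊥) (h2 : E.Hcomp a n γ = ⊥) :
    F.Hcomp a n γ = ⊥ := by
  obtain ⟨ρ0, hρ0, hρε⟩ := exists_retraction E' E f φ hfi hφ hφ0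
  rw [← Hcomp_eq_bot_iff (coneRes E' E f g φ hfi hgs hfg hg hφ hφ0 hφd ρ0 hρ0 hρε) F a n γ,
    cone_Hcomp_eq_bot_iff]
  exact KT1 E' E φ hφ hφd ρ0 hρε a n γ h1 h2

include hfi hgs hfg hg hφ hφ0 hφd in
/-- If `H^n(M'')_γ = 0`, a cocycle of `E'` of degree `(n+1, γ)` whose image under `φ` is a
coboundary is a coboundary. -/
theorem T2 (n : ℕ) (γ : ι) (hF : F.Hcomp a n γ = ⊥) (u : (E'.X (n + 1)).carrier)
    (hu : u ∈ E'.cocyc a (n + 1)) (huγ : u ∈ (E'.X (n + 1)).gr γ)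
    (hφu : φ (n + 1) u ∈ E.cobdy a (n + 1)) : u ∈ E'.cobdy a (n + 1) := by
  obtain ⟨ρ0, hρ0, hρε⟩ := exists_retraction E' E f φ hfi hφ hφ0
  rw [← Hcomp_eq_bot_iff (coneRes E' E f g φ hfi hgs hfg hg hφ hφ0 hφd ρ0 hρ0 hρε) F a n γ,
    cone_Hcomp_eq_bot_iff] at hF
  exact KT2 E' E φ hφ hφd ρ0 hρ0 hρε a n γ u hu huγ hφu hF

include hfi hgs hfg hg hφ hφ0 hφd in
/-- If `H^n(M'')_γ = 0`, every cocycle of `E` of degree `(n, γ)` is, up to a coboundary, the image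
of a cocycle of `E'` of the same degree. -/
theorem T3 (n : ℕ) (γ : ι) (hF : F.Hcomp a n γ = ⊥) (v : (E.X n).carrier)
    (hv : v ∈ E.cocyc a n) (hvγ : v ∈ (E.X n).gr γ) :
    ∃ u ∈ E'.cocyc a n, u ∈ (E'.X n).gr γ ∧ v - φ n u ∈ E.cobdy a n := by
  obtain ⟨ρ0, hρ0, hρε⟩ := exists_retraction E' E f φ hfi hφ hφ0
  rw [← Hcomp_eq_bot_iff (coneRes E' E f g φ hfi hgs hfg hg hφ hφ0 hφd ρ0 hρ0 hρε) F a n γ,
    cone_Hcomp_eq_bot_iff] at hF
  exact KT3 E' E φ hφ hφd ρ0 hρ0 hρε a n γ hF v hv hvγ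

end Final

end Groth.Agent.Lib.Helper29GrConeLES
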