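import Groth.Agent.Lib.Helper29GrConeFin

/-! The full long exact sequence of graded pieces of graded local cohomology in the cone model:
the three families of maps and exactness at every spot (helper29). -/

set_option autoImplicit false
set_option linter.style.haveILetI false
set_option linter.unusedSectionVars false
open DirectSum

noncomputable section

namespace Groth.Agent.Lib.Helper29GrConeLES2

open Groth.Agent.Lib.Helper29GrInjOps Groth.Agent.Lib.Helper29GrProd Groth.Agent.Lib.Helper29GrSub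
  Groth.Agent.Lib.Helper29GrHom Groth.Agent.Lib.Helper29GrGam Groth.Agent.Lib.Helper29GrConeRes
  Groth.Agent.Lib.Helper29GrResCompare Groth.Agent.Lib.Helper29GrConeLES
  Groth.Agent.Lib.Helper29GrHmap Groth.Agent.Lib.Helper29GrConeFin
open Groth.Agent.Lib.Helper29Cone (mem_gam_prod)

universe u

variable {ι : Type} [AddCommGroup ι] [DecidableEq ι]
variable {R : Type u} [CommRing R] {𝒜 : ι → AddSubgroup R} [GradedRing 𝒜]
variable {M' : Type u} [AddCommGroup M'] [Module R M'] {ℳ' : ι → AddSubgroup M'}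
  [DirectSum.Decomposition ℳ'] [SetLike.GradedSMul 𝒜 ℳ']
variable {M : Type u} [AddCommGroup M] [Module R M] {ℳ : ι → AddSubgroup M}
  [DirectSum.Decomposition ℳ] [SetLike.GradedSMul 𝒜 ℳ]
variable {M'' : Type u} [AddCommGroup M''] [Module R M''] {ℳ'' : ι → AddSubgroup M''}
  [DirectSum.Decomposition ℳ''] [SetLike.GradedSMul 𝒜 ℳ'']
variable (E' : GrLC.StarInjRes 𝒜 ℳ') (E : GrLC.StarInjRes 𝒜 ℳ)
variable (f : M' →ₗ[R] M) (g : M →ₗ[R] M'')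
variable (φ : ∀ n, (E'.X n).carrier →ₗ[R] (E.X n).carrier)
variable (hfi : Function.Injective f) (hgs : Function.Surjective g)
  (hfg : LinearMap.ker g = LinearMap.range f) (hg : GrLC.IsGrHom ℳ ℳ'' g)
  (hφ : ∀ n, GrLC.IsGrHom (E'.X n).gr (E.X n).gr (φ n))
  (hφ0 : ∀ m' : M', φ 0 (E'.ε m') = E.ε (f m'))
  (hφd : ∀ (n : ℕ) (x : (E'.X n).carrier), φ (n + 1) (E'.d n x) = E.d n (φ n x))
variable (ρ0 : K E' E 0 →ₗ[R] (E'.X 0).carrier)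
  (hρ0 : GrLC.IsGrHom (Kgr E' E 0) (E'.X 0).gr ρ0)
  (hρε : ∀ w : (E'.X 0).carrier, ρ0 (εK E' E φ w) = w)
variable (a : HomogeneousIdeal 𝒜)

local notation "CR" => coneRes E' E f g φ hfi hgs hfg hg hφ hφ0 hφd ρ0 hρ0 hρε

/-- `H^n(M')_γ → H^n(M)_γ`. -/
def mF (n : ℕ) (γ : ι) : E'.Hcomp a n γ →ₗ[GrLC.deg0 𝒜] E.Hcomp a n γ :=
  HmapComp E' E a n n (φ n) (φ_cocyc E' E φ hφd a n) (φ_cobdy E' E φ hφd a n) γ γ
    (fun z hz => hφ n γ z hz)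

/-- `H^n(M)_γ → H^n(M'')_γ` (cone resolution). -/
def mI (n : ℕ) (γ : ι) : E.Hcomp a n γ →ₗ[GrLC.deg0 𝒜] (CR).Hcomp a n γ :=
  HmapComp E (CR) a n n (θι E' E f g φ hfi hgs hfg hg hφ hφ0 hφd ρ0 hρ0 hρε n) (θι_cocyc E' E f g φ hfi hgs hfg hg hφ hφ0 hφd ρ0 hρ0 hρε a n) (θι_cobdy E' E f g φ hfi hgs hfg hg hφ hφ0 hφd ρ0 hρ0 hρε a n) γ γ
    (θι_gr E' E f g φ hfi hgs hfg hg hφ hφ0 hφd ρ0 hρ0 hρε n γ)

/-- `H^n(M'')_γ → H^{n+1}(M')_γ` (cone resolution). -/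
def mP (n : ℕ) (γ : ι) : (CR).Hcomp a n γ →ₗ[GrLC.deg0 𝒜] E'.Hcomp a (n + 1) γ :=
  HmapComp (CR) E' a n (n + 1) (θπ E' E f g φ hfi hgs hfg hg hφ hφ0 hφd ρ0 hρ0 hρε n) (θπ_cocyc E' E f g φ hfi hgs hfg hg hφ hφ0 hφd ρ0 hρ0 hρε a n) (θπ_cobdy E' E f g φ hfi hgs hfg hg hφ hφ0 hφd ρ0 hρ0 hρε a n) γ γ
    (θπ_gr E' E f g φ hfi hgs hfg hg hφ hφ0 hφd ρ0 hρ0 hρε n γ)

/-- Exactness at `H^{n+1}(M')_γ`. -/
theorem ker_mF_succ (n : ℕ) (γ : ι) :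
    LinearMap.ker (mF E' E φ hφ hφd a (n + 1) γ) = LinearMap.range (mP E' E f g φ hfi hgs hfg hg hφ hφ0 hφd ρ0 hρ0 hρε a n γ) :=
  (range_π_eq_ker_φ E' E f g φ hfi hgs hfg hg hφ hφ0 hφd ρ0 hρ0 hρε a n γ).symm

include hfi hφ0 in
/-- `H^0(M')_γ → H^0(M)_γ` is injective. -/
theorem mF_zero_injective (γ : ι) : Function.Injective (mF E' E φ hφ hφd a 0 γ) := by
  rw [injective_iff_map_eq_zero]
  intro y hy
  obtain ⟨u, huγ, huy⟩ := exists_rep E' a 0 γ y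
  apply Subtype.ext
  rw [← huy, Submodule.coe_zero, toH_eq_zero_iff]
  have hy' : Hmap E' E a 0 0 (φ 0) (φ_cocyc E' E φ hφd a 0) (φ_cobdy E' E φ hφd a 0) (y : E'.H a 0) = 0 :=
    congrArg Subtype.val hy
  rw [← huy, Hmap_toH, toH_eq_zero_iff] at hy'
  have h0 : φ 0 (u : (E'.X 0).carrier) = 0 := (Submodule.mem_bot R).mp hy'
  have hu2 : (u : (E'.X 0).carrier) ∈ LinearMap.ker (E'.d 0) := u.2.2
  rw [E'.exact_zero] at hu2
  obtain ⟨m', hm'⟩ := hu2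
  rw [← hm', hφ0] at h0
  have h1 : f m' = 0 := E.ε_injective (by rw [h0, map_zero])
  have h2 : m' = 0 := hfi (by rw [h1, map_zero])
  show (u : (E'.X 0).carrier) ∈ (⊥ : Submodule R (E'.X 0).carrier)
  rw [Submodule.mem_bot, ← hm', h2, map_zero]

/-- Exactness at `H^n(M)_γ`. -/
theorem ker_mI (n : ℕ) (γ : ι) :
    LinearMap.ker (mI E' E f g φ hfi hgs hfg hg hφ hφ0 hφd ρ0 hρ0 hρε a n γ) = LinearMap.range (mF E' E φ hφ hφd a n γ) := by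
  ext y
  rw [LinearMap.mem_range, LinearMap.mem_ker]
  constructor
  · intro hy
    obtain ⟨v, hvγ, hvy⟩ := exists_rep E a n γ y
    have hy' : Hmap E (CR) a n n (θι E' E f g φ hfi hgs hfg hg hφ hφ0 hφd ρ0 hρ0 hρε n) (θι_cocyc E' E f g φ hfi hgs hfg hg hφ hφ0 hφd ρ0 hρ0 hρε a n) (θι_cobdy E' E f g φ hfi hgs hfg hg hφ hφ0 hφd ρ0 hρ0 hρε a n) (y : E.H a n) = 0 :=
      congrArg Subtype.val hy
    rw [← hvy, Hmap_toH, toH_eq_zero_iff] at hy'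
    have hb : p' E' E φ ρ0 n (0, (v : (E.X n).carrier)) ∈ KB E' E φ a n := by
      cases n with
      | zero =>
        have h0 := (Submodule.mem_bot R).mp hy'
        have h1 := congrArg Subtype.val h0
        exact (Submodule.mem_bot R).mpr h1
      | succ k =>
        obtain ⟨w, -, hwg, hwc⟩ := (mem_cobdy_cone_succ E' E f g φ hfi hgs hfg hg hφ hφ0 hφd ρ0 hρ0 hρε a k _).mp hy'
        exact ⟨w, hwg, hwc⟩
    obtain ⟨u, hu, huγ, huv⟩ := KT3' E' E φ hφ hφd ρ0 hρ0 hρε a n γ v v.2 hvγ hb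
    refine ⟨⟨E'.toH a n ⟨u, hu⟩, ⟨⟨u, hu⟩, huγ, rfl⟩⟩, ?_⟩
    apply Subtype.ext
    show Hmap E' E a n n (φ n) (φ_cocyc E' E φ hφd a n) (φ_cobdy E' E φ hφd a n) (E'.toH a n ⟨u, hu⟩) = (y : E.H a n)
    rw [Hmap_toH, ← hvy, Submodule.mkQ_apply, Submodule.mkQ_apply, Submodule.Quotient.eq,
      Submodule.mem_comap]
    show φ n u - (v : (E.X n).carrier) ∈ E.cobdy a n
    have := neg_mem huv
    rwa [neg_sub] at this
  · rintro ⟨yb, rfl⟩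
    obtain ⟨u, huγ, huy⟩ := exists_rep E' a n γ yb
    apply Subtype.ext
    show Hmap E (CR) a n n (θι E' E f g φ hfi hgs hfg hg hφ hφ0 hφd ρ0 hρ0 hρε n) (θι_cocyc E' E f g φ hfi hgs hfg hg hφ hφ0 hφd ρ0 hρ0 hρε a n) (θι_cobdy E' E f g φ hfi hgs hfg hg hφ hφ0 hφd ρ0 hρ0 hρε a n)
      (Hmap E' E a n n (φ n) (φ_cocyc E' E φ hφd a n) (φ_cobdy E' E φ hφd a n) (yb : E'.H a n)) = 0
    rw [← huy, Hmap_toH, Hmap_toH, toH_eq_zero_iff]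
    have hu2 : E'.d n (u : (E'.X n).carrier) = 0 := u.2.2
    cases n with
    | zero =>
      show θι E' E f g φ hfi hgs hfg hg hφ hφ0 hφd ρ0 hρ0 hρε 0 (φ 0 u) ∈ (⊥ : Submodule R _)
      rw [Submodule.mem_bot]
      apply Subtype.ext
      rw [θι_coe]
      have h1 : (((0 : (E'.X 1).carrier), φ 0 (u : (E'.X 0).carrier)) : K E' E 0) =
          εK E' E φ (u : (E'.X 0).carrier) := by
        rw [εK_apply, hu2, neg_zero]
      rw [h1, p'_εK E' E φ ρ0 hρε]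
      rfl
    | succ k =>
      rw [mem_cobdy_cone_succ]
      have hcg : (((u : (E'.X (k + 1)).carrier), (0 : (E.X k).carrier)) : K E' E k) ∈
          GrLC.gam a.toIdeal (K E' E k) :=
        (mem_gam_prod a.toIdeal _).mpr ⟨u.2.1, zero_mem _⟩
      refine ⟨p' E' E φ ρ0 k ((u : (E'.X (k + 1)).carrier), 0), ρ'_p' E' E φ ρ0 hρε k _,
        map_mem_gam a.toIdeal (p' E' E φ ρ0 k) hcg, ?_⟩
      rw [dK_p' E' E φ hφd ρ0 k, dK_apply, hu2, neg_zero, map_zero, add_zero]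
      rfl

/-- Exactness at `H^n(M'')_γ`. -/
theorem ker_mP (n : ℕ) (γ : ι) :
    LinearMap.ker (mP E' E f g φ hfi hgs hfg hg hφ hφ0 hφd ρ0 hρ0 hρε a n γ) = LinearMap.range (mI E' E f g φ hfi hgs hfg hg hφ hφ0 hφd ρ0 hρ0 hρε a n γ) := by
  classical
  ext y
  rw [LinearMap.mem_range, LinearMap.mem_ker]
  constructor
  · intro hy
    obtain ⟨c, hcγ, hcy⟩ := exists_rep (CR) a n γ y
    have hy' : Hmap (CR) E' a n (n + 1) (θπ E' E f g φ hfi hgs hfg hg hφ hφ0 hφd ρ0 hρ0 hρε n) (θπ_cocyc E' E f g φ hfi hgs hfg hg hφ hφ0 hφd ρ0 hρ0 hρε a n) (θπ_cobdy E' E f g φ hfi hgs hfg hg hφ hφ0 hφd ρ0 hρ0 hρε a n) (y : (CR).H a n) = 0 :=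
      congrArg Subtype.val hy
    rw [← hcy, Hmap_toH, toH_eq_zero_iff] at hy'
    obtain ⟨h1, h2⟩ := (mem_cocyc_cone E' E f g φ hfi hgs hfg hg hφ hφ0 hφd ρ0 hρ0 hρε a n c.1).mp c.2
    obtain ⟨w, hwg, hwγ, hwd⟩ := exists_homog_primitive E' a n γ _ hy' (θπ_gr E' E f g φ hfi hgs hfg hg hφ hφ0 hφd ρ0 hρ0 hρε n γ _ hcγ)
    obtain ⟨⟨⟨c1, c2⟩, hcP⟩, hcc⟩ := c
    have hwd' : E'.d n w = c1 := hwd
    have hcγ' : ((c1, c2) : K E' E n) ∈ Kgr E' E n γ := hcγ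
    rw [mem_Kgr] at hcγ'
    have h1' := (mem_gam_prod a.toIdeal _).mp h1
    rw [dK_apply, Prod.mk_eq_zero] at h2
    -- the cocycle of `E`
    have hv'c : c2 + φ n w ∈ E.cocyc a n := by
      refine ⟨add_mem h1'.2 (map_mem_gam a.toIdeal (φ n) hwg), ?_⟩
      show E.d n (c2 + φ n w) = 0
      rw [map_add, ← hφd n w, hwd', add_comm (E.d n c2)]
      exact h2.2
    have hv'γ : c2 + φ n w ∈ (E.X n).gr γ := add_mem hcγ'.2 (hφ n γ w hwγ)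
    refine ⟨⟨E.toH a n ⟨c2 + φ n w, hv'c⟩, ⟨⟨c2 + φ n w, hv'c⟩, hv'γ, rfl⟩⟩, ?_⟩
    apply Subtype.ext
    show Hmap E (CR) a n n (θι E' E f g φ hfi hgs hfg hg hφ hφ0 hφd ρ0 hρ0 hρε n) (θι_cocyc E' E f g φ hfi hgs hfg hg hφ hφ0 hφd ρ0 hρ0 hρε a n) (θι_cobdy E' E f g φ hfi hgs hfg hg hφ hφ0 hφd ρ0 hρ0 hρε a n) (E.toH a n ⟨c2 + φ n w, hv'c⟩) =
      (y : (CR).H a n)
    rw [Hmap_toH, ← hcy, Submodule.mkQ_apply, Submodule.mkQ_apply, Submodule.Quotient.eq,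
      Submodule.mem_comap]
    show θι E' E f g φ hfi hgs hfg hg hφ hφ0 hφd ρ0 hρ0 hρε n (c2 + φ n w) -
      (show ((CR).X n).carrier from (⟨(c1, c2), hcP⟩ : ↥(P E' E ρ0 n))) ∈ (CR).cobdy a n
    cases n with
    | zero =>
      have heq : θι E' E f g φ hfi hgs hfg hg hφ hφ0 hφd ρ0 hρ0 hρε 0 (c2 + φ 0 w) = (⟨(c1, c2), hcP⟩ : ↥(P E' E ρ0 0)) := by
        apply Subtype.ext
        rw [θι_coe]
        have h3 : (((0 : (E'.X 1).carrier), c2 + φ 0 w) : K E' E 0) =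
            ((c1, c2) : K E' E 0) + εK E' E φ w := by
          rw [εK_apply, hwd', Prod.mk_add_mk, add_neg_cancel]
        rw [h3, map_add, p'_εK E' E φ ρ0 hρε, add_zero, p'_of_mem E' E φ ρ0 0 _ hcP]
      rw [heq, sub_self]
      exact zero_mem _
    | succ k =>
      rw [mem_cobdy_cone_succ]
      have hcg : ((w, (0 : (E.X k).carrier)) : K E' E k) ∈ GrLC.gam a.toIdeal (K E' E k) :=
        (mem_gam_prod a.toIdeal _).mpr ⟨hwg, zero_mem _⟩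
      refine ⟨p' E' E φ ρ0 k (w, 0), ρ'_p' E' E φ ρ0 hρε k _,
        map_mem_gam a.toIdeal (p' E' E φ ρ0 k) hcg, ?_⟩
      rw [dK_p' E' E φ hφd ρ0 k, dK_apply, hwd', map_zero, add_zero]
      show _ = ((show ↥(P E' E ρ0 (k + 1)) from
        θι E' E f g φ hfi hgs hfg hg hφ hφ0 hφd ρ0 hρ0 hρε (k + 1) (c2 + φ (k + 1) w)) : K E' E (k + 1)) -
        ((c1, c2) : K E' E (k + 1))
      rw [θι_coe, p'_succ_apply, Prod.mk_sub_mk, zero_sub, add_sub_cancel_left]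
  · rintro ⟨yb, rfl⟩
    obtain ⟨v, hvγ, hvy⟩ := exists_rep E a n γ yb
    apply Subtype.ext
    show Hmap (CR) E' a n (n + 1) (θπ E' E f g φ hfi hgs hfg hg hφ hφ0 hφd ρ0 hρ0 hρε n) (θπ_cocyc E' E f g φ hfi hgs hfg hg hφ hφ0 hφd ρ0 hρ0 hρε a n) (θπ_cobdy E' E f g φ hfi hgs hfg hg hφ hφ0 hφd ρ0 hρ0 hρε a n)
      (Hmap E (CR) a n n (θι E' E f g φ hfi hgs hfg hg hφ hφ0 hφd ρ0 hρ0 hρε n) (θι_cocyc E' E f g φ hfi hgs hfg hg hφ hφ0 hφd ρ0 hρ0 hρε a n) (θι_cobdy E' E f g φ hfi hgs hfg hg hφ hφ0 hφd ρ0 hρ0 hρε a n) (yb : E.H a n)) = 0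
    rw [← hvy, Hmap_toH, Hmap_toH, toH_eq_zero_iff]
    show θπ E' E f g φ hfi hgs hfg hg hφ hφ0 hφd ρ0 hρ0 hρε n (θι E' E f g φ hfi hgs hfg hg hφ hφ0 hφd ρ0 hρ0 hρε n v) ∈ E'.cobdy a (n + 1)
    rw [θπ_apply, θι_coe]
    cases n with
    | zero =>
      have hcg : (((0 : (E'.X 1).carrier), (v : (E.X 0).carrier)) : K E' E 0) ∈
          GrLC.gam a.toIdeal (K E' E 0) :=
        (mem_gam_prod a.toIdeal _).mpr ⟨zero_mem _, v.2.1⟩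
      rw [p'_zero_apply, εK_apply]
      refine ⟨ρ0 (0, (v : (E.X 0).carrier)), map_mem_gam a.toIdeal ρ0 hcg, ?_⟩
      simp
    | succ k =>
      rw [p'_succ_apply]
      exact zero_mem _

end Groth.Agent.Lib.Helper29GrConeLES2
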