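import Groth.Agent.Lib.Helper29GrInjOps
import Groth.Agent.Lib.Helper29GrResCompare

/-! The mapping cone of a homogeneous chain map `φ : E' → E` between *injective resolutions lying
over an injective homogeneous map `f : M' → M` is (after splitting off `E'^0`) a *injective
resolution of the cokernel of `f` (helper29). -/

set_option autoImplicit false
set_option linter.style.haveILetI false
set_option linter.unusedSectionVars false
open DirectSum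

noncomputable section

namespace Groth.Agent.Lib.Helper29GrConeRes

open Groth.Agent.Lib.Helper29GrInjOps Groth.Agent.Lib.Helper29GrProd Groth.Agent.Lib.Helper29GrSub
  Groth.Agent.Lib.Helper29GrHom Groth.Agent.Lib.Helper29GrGam

universe u

variable {ι : Type} [AddCommGroup ι] [DecidableEq ι]
variable {R : Type u} [CommRing R] {𝒜 : ι → AddSubgroup R} [GradedRing 𝒜]
variable {M' : Type u} [AddCommGroup M'] [Module R M'] {ℳ' : ι → AddSubgroup M'}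
  [DirectSum.Decomposition ℳ'] [SetLike.GradedSMul 𝒜 ℳ']
variable {M : Type u} [AddCommGroup M] [Module R M] {ℳ : ι → AddSubgroup M}
  [DirectSum.Decomposition ℳ] [SetLike.GradedSMul 𝒜 ℳ]
variable {M'' : Type u} [AddCommGroup M''] [Module R M''] {ℳ'' : ι → AddSubgroup M''}
  [DirectSum.Decomposition ℳ''] [SetLike.GradedSMul 𝒜 ℳ'']
variable (E' : GrLC.StarInjRes 𝒜 ℳ') (E : GrLC.StarInjRes 𝒜 ℳ)
variable (f : M' →ₗ[R] M) (g : M →ₗ[R] M'')
variable (φ : ∀ n, (E'.X n).carrier →ₗ[R] (E.X n).carrier)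

/-- The terms of the cone. -/
abbrev K (n : ℕ) : Type u := (E'.X (n + 1)).carrier × (E.X n).carrier

/-- The pieces of the cone. -/
def Kgr (n : ℕ) : ι → AddSubgroup (K E' E n) := prodGr (E'.X (n + 1)).gr (E.X n).gr

instance (n : ℕ) : DirectSum.Decomposition (Kgr E' E n) :=
  prodDecomposition (E'.X (n + 1)).gr (E.X n).gr

instance (n : ℕ) : SetLike.GradedSMul 𝒜 (Kgr E' E n) :=
  prod_gradedSMul (E'.X (n + 1)).gr (E.X n).gr 𝒜

theorem mem_Kgr (n : ℕ) (γ : ι) (c : K E' E n) :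
    c ∈ Kgr E' E n γ ↔ c.1 ∈ (E'.X (n + 1)).gr γ ∧ c.2 ∈ (E.X n).gr γ := Iff.rfl

/-- The differential of the cone. -/
def dK (n : ℕ) : K E' E n →ₗ[R] K E' E (n + 1) :=
  LinearMap.prod (-(E'.d (n + 1)) ∘ₗ LinearMap.fst R _ _)
    (φ (n + 1) ∘ₗ LinearMap.fst R _ _ + E.d n ∘ₗ LinearMap.snd R _ _)

theorem dK_apply (n : ℕ) (u : (E'.X (n + 1)).carrier) (v : (E.X n).carrier) :
    dK E' E φ n (u, v) = (-(E'.d (n + 1) u), φ (n + 1) u + E.d n v) := rfl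

/-- The augmentation of the cone. -/
def εK : (E'.X 0).carrier →ₗ[R] K E' E 0 := LinearMap.prod (-(E'.d 0)) (φ 0)

theorem εK_apply (w : (E'.X 0).carrier) : εK E' E φ w = (-(E'.d 0 w), φ 0 w) := rfl

theorem E_d_d {N : Type u} [AddCommGroup N] [Module R N] {𝒩 : ι → AddSubgroup N}
    [DirectSum.Decomposition 𝒩] [SetLike.GradedSMul 𝒜 𝒩] (G : GrLC.StarInjRes 𝒜 𝒩) (n : ℕ)
    (x : (G.X n).carrier) : G.d (n + 1) (G.d n x) = 0 := by
  have : G.d n x ∈ LinearMap.ker (G.d (n + 1)) := by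
    rw [G.exact_succ n]; exact LinearMap.mem_range_self _ x
  exact this

theorem E_d_ε {N : Type u} [AddCommGroup N] [Module R N] {𝒩 : ι → AddSubgroup N}
    [DirectSum.Decomposition 𝒩] [SetLike.GradedSMul 𝒜 𝒩] (G : GrLC.StarInjRes 𝒜 𝒩) (m : N) :
    G.d 0 (G.ε m) = 0 := by
  have : G.ε m ∈ LinearMap.ker (G.d 0) := by
    rw [G.exact_zero]; exact LinearMap.mem_range_self _ m
  exact this

variable (hfi : Function.Injective f) (hgs : Function.Surjective g)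
  (hfg : LinearMap.ker g = LinearMap.range f) (hg : GrLC.IsGrHom ℳ ℳ'' g)
  (hφ : ∀ n, GrLC.IsGrHom (E'.X n).gr (E.X n).gr (φ n))
  (hφ0 : ∀ m' : M', φ 0 (E'.ε m') = E.ε (f m'))
  (hφd : ∀ (n : ℕ) (x : (E'.X n).carrier), φ (n + 1) (E'.d n x) = E.d n (φ n x))

include hφ in
theorem dK_hom (n : ℕ) : GrLC.IsGrHom (Kgr E' E n) (Kgr E' E (n + 1)) (dK E' E φ n) := by
  rintro γ ⟨u, v⟩ ⟨hu, hv⟩
  rw [dK_apply]
  exact (mem_Kgr E' E (n + 1) γ _).mpr ⟨neg_mem (E'.d_grHom (n + 1) γ u hu),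
    add_mem (hφ (n + 1) γ u hu) (E.d_grHom n γ v hv)⟩

include hφ in
theorem εK_hom : GrLC.IsGrHom (E'.X 0).gr (Kgr E' E 0) (εK E' E φ) := by
  intro γ w hw
  rw [εK_apply]
  exact (mem_Kgr E' E 0 γ _).mpr ⟨neg_mem (E'.d_grHom 0 γ w hw), hφ 0 γ w hw⟩

include hφd in
theorem dK_εK (w : (E'.X 0).carrier) : dK E' E φ 0 (εK E' E φ w) = 0 := by
  rw [εK_apply, dK_apply, map_neg, E_d_d E' 0 w, neg_zero, map_neg, hφd 0 w, neg_add_cancel]
  simp

include hφd in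
theorem dK_dK (n : ℕ) (c : K E' E n) : dK E' E φ (n + 1) (dK E' E φ n c) = 0 := by
  obtain ⟨u, v⟩ := c
  rw [dK_apply, dK_apply, map_neg, E_d_d E' (n + 1) u, neg_zero, map_neg, map_add, hφd (n + 1) u,
    E_d_d E n v, add_zero, neg_add_cancel]
  simp

include hφd in
theorem exactK_succ (n : ℕ) (c : K E' E (n + 1)) (hc : dK E' E φ (n + 1) c = 0) :
    ∃ c' : K E' E n, dK E' E φ n c' = c := by
  obtain ⟨u, v⟩ := c
  rw [dK_apply, Prod.mk_eq_zero, neg_eq_zero] at hc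
  have hu : u ∈ LinearMap.range (E'.d (n + 1)) := by rw [← E'.exact_succ (n + 1)]; exact hc.1
  obtain ⟨u0, rfl⟩ := hu
  have h1 : E.d (n + 1) (φ (n + 1) u0 + v) = 0 := by
    rw [map_add, ← hφd (n + 1) u0]; exact hc.2
  have h2 : φ (n + 1) u0 + v ∈ LinearMap.range (E.d n) := by rw [← E.exact_succ n]; exact h1
  obtain ⟨v0, hv0⟩ := h2
  refine ⟨(-u0, v0), ?_⟩
  rw [dK_apply, map_neg, neg_neg, map_neg, hv0]
  ext <;> simp

include hfi hφ0 in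
theorem εK_injective : Function.Injective (εK E' E φ) := by
  rw [injective_iff_map_eq_zero]
  intro w hw
  rw [εK_apply, Prod.mk_eq_zero, neg_eq_zero] at hw
  have hw1 : w ∈ LinearMap.range E'.ε := by rw [← E'.exact_zero]; exact hw.1
  obtain ⟨m', rfl⟩ := hw1
  have h1 : E.ε (f m') = 0 := by rw [← hφ0 m']; exact hw.2
  have h2 : f m' = 0 := E.ε_injective (by rw [h1, map_zero])
  have h3 : m' = 0 := hfi (by rw [h2, map_zero])
  rw [h3, map_zero]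

variable (ρ0 : K E' E 0 →ₗ[R] (E'.X 0).carrier)
  (hρ0 : GrLC.IsGrHom (Kgr E' E 0) (E'.X 0).gr ρ0)
  (hρε : ∀ w : (E'.X 0).carrier, ρ0 (εK E' E φ w) = w)

/-- The retraction, extended by zero to all degrees. -/
def ρ' : (n : ℕ) → K E' E n →ₗ[R] (E'.X 0).carrier
  | 0 => ρ0
  | _ + 1 => 0

/-- The projection onto the complement of `E'^0`, extended by the identity. -/
def p' : (n : ℕ) → K E' E n →ₗ[R] K E' E n
  | 0 => LinearMap.id - εK E' E φ ∘ₗ ρ0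
  | _ + 1 => LinearMap.id

theorem p'_zero_apply (c : K E' E 0) : p' E' E φ ρ0 0 c = c - εK E' E φ (ρ0 c) := rfl

theorem p'_succ_apply (n : ℕ) (c : K E' E (n + 1)) : p' E' E φ ρ0 (n + 1) c = c := rfl

include hρε in
theorem ρ'_p' (n : ℕ) (c : K E' E n) : ρ' E' E ρ0 n (p' E' E φ ρ0 n c) = 0 := by
  cases n with
  | zero =>
    show ρ0 (c - εK E' E φ (ρ0 c)) = 0
    rw [map_sub, hρε, sub_self]
  | succ n => rfl

theorem p'_of_mem (n : ℕ) (c : K E' E n) (hc : ρ' E' E ρ0 n c = 0) : p' E' E φ ρ0 n c = c := by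
  cases n with
  | zero =>
    have hc' : ρ0 c = 0 := hc
    rw [p'_zero_apply, hc', map_zero, sub_zero]
  | succ n => rfl

include hφd in
theorem dK_p' (n : ℕ) (c : K E' E n) : dK E' E φ n (p' E' E φ ρ0 n c) = dK E' E φ n c := by
  cases n with
  | zero => rw [p'_zero_apply, map_sub, dK_εK E' E φ hφd, sub_zero]
  | succ n => rfl

include hρε in
theorem p'_εK (w : (E'.X 0).carrier) : p' E' E φ ρ0 0 (εK E' E φ w) = 0 := by
  rw [p'_zero_apply, hρε, sub_self]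

include hρ0 in
theorem ρ'_hom (n : ℕ) : GrLC.IsGrHom (Kgr E' E n) (E'.X 0).gr (ρ' E' E ρ0 n) := by
  cases n with
  | zero => exact hρ0
  | succ n => intro γ c _; exact zero_mem _

include hρ0 hφ in
theorem p'_hom (n : ℕ) : GrLC.IsGrHom (Kgr E' E n) (Kgr E' E n) (p' E' E φ ρ0 n) := by
  cases n with
  | zero =>
    intro γ c hc
    rw [p'_zero_apply]
    exact sub_mem hc (εK_hom E' E φ hφ γ _ (hρ0 γ c hc))
  | succ n => intro γ c hc; exact hc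

/-- The terms of the cone resolution as submodules of the cone. -/
def P (n : ℕ) : Submodule R (K E' E n) := LinearMap.ker (ρ' E' E ρ0 n)

include hρ0 in
theorem hP (n : ℕ) : (P E' E ρ0 n).IsHomogeneous (Kgr E' E n) :=
  ker_isHomogeneous (E'.X 0).gr (Kgr E' E n) (ρ' E' E ρ0 n) (ρ'_hom E' E ρ0 hρ0 n)

theorem mem_P_succ (n : ℕ) (c : K E' E (n + 1)) : c ∈ P E' E ρ0 (n + 1) := by
  show ρ' E' E ρ0 (n + 1) c = 0
  rfl


/-- The terms of the cone resolution. -/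
def DG (n : ℕ) : GrLC.GMod.{u} 𝒜 :=
  { carrier := ↥(P E' E ρ0 n)
    gr := subGr (Kgr E' E n) (P E' E ρ0 n)
    dec := subDecomposition (Kgr E' E n) (P E' E ρ0 n) (hP E' E ρ0 hρ0 n)
    gsmul := sub_gradedSMul (Kgr E' E n) (P E' E ρ0 n) 𝒜 }

/-- The differential of the cone resolution. -/
def Dd (n : ℕ) : ↥(P E' E ρ0 n) →ₗ[R] ↥(P E' E ρ0 (n + 1)) :=
  (dK E' E φ n ∘ₗ (P E' E ρ0 n).subtype).codRestrict (P E' E ρ0 (n + 1))
    (fun c => mem_P_succ E' E ρ0 n _)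

theorem Dd_coe (n : ℕ) (c : ↥(P E' E ρ0 n)) :
    ((Dd E' E φ ρ0 n c : ↥(P E' E ρ0 (n + 1))) : K E' E (n + 1)) = dK E' E φ n (c : K E' E n) := rfl

/-- The pre-augmentation `M → D^0`. -/
def η₀ : M →ₗ[R] ↥(P E' E ρ0 0) :=
  (p' E' E φ ρ0 0 ∘ₗ LinearMap.inr R _ _ ∘ₗ E.ε).codRestrict (P E' E ρ0 0)
    (fun m => ρ'_p' E' E φ ρ0 hρε 0 _)

theorem η₀_coe (m : M) :
    ((η₀ E' E φ ρ0 hρε m : ↥(P E' E ρ0 0)) : K E' E 0) = p' E' E φ ρ0 0 (0, E.ε m) := rfl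

include hfg hφ0 in
theorem ker_le_ker_η₀ : LinearMap.ker g ≤ LinearMap.ker (η₀ E' E φ ρ0 hρε) := by
  intro m hm
  rw [hfg] at hm
  obtain ⟨m', rfl⟩ := hm
  rw [LinearMap.mem_ker]
  apply Subtype.ext
  rw [η₀_coe]
  have h1 : ((0 : (E'.X 1).carrier), E.ε (f m')) = εK E' E φ (E'.ε m') := by
    rw [εK_apply, E_d_ε E' m', neg_zero, hφ0 m']
  rw [h1, p'_εK E' E φ ρ0 hρε]
  rfl

/-- The augmentation of the cone resolution. -/
def Dε : M'' →ₗ[R] ↥(P E' E ρ0 0) :=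
  ((LinearMap.ker g).liftQ (η₀ E' E φ ρ0 hρε) (ker_le_ker_η₀ E' E f g φ hfg hφ0 ρ0 hρε)) ∘ₗ
    (g.quotKerEquivOfSurjective hgs).symm.toLinearMap

theorem Dε_apply (m : M) :
    Dε E' E f g φ hgs hfg hφ0 ρ0 hρε (g m) = η₀ E' E φ ρ0 hρε m := by
  have h1 : (g.quotKerEquivOfSurjective hgs).symm (g m) = (LinearMap.ker g).mkQ m := by
    rw [LinearEquiv.symm_apply_eq]
    rfl
  unfold Dε
  rw [LinearMap.comp_apply, LinearEquiv.coe_coe, h1]
  rfl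

include hg hφ hρ0 in
theorem Dε_hom : GrLC.IsGrHom ℳ'' (DG E' E ρ0 hρ0 0).gr
    (Dε E' E f g φ hgs hfg hφ0 ρ0 hρε) := by
  classical
  intro γ m'' hm''
  obtain ⟨m, rfl⟩ := hgs m''
  have h1 : g ((decompose ℳ m) γ : M) = g m := by
    rw [← decompose_map ℳ'' ℳ g hg m γ, DirectSum.decompose_of_mem_same _ hm'']
  rw [← h1, Dε_apply]
  show ((η₀ E' E φ ρ0 hρε _ : ↥(P E' E ρ0 0)) : K E' E 0) ∈ Kgr E' E 0 γ
  rw [η₀_coe]
  apply p'_hom E' E φ hφ ρ0 hρ0 0 γ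
  exact (mem_Kgr E' E 0 γ _).mpr ⟨zero_mem _, E.ε_grHom γ _ (SetLike.coe_mem _)⟩

include hφ hρ0 in
theorem Dd_hom (n : ℕ) : GrLC.IsGrHom (DG E' E ρ0 hρ0 n).gr (DG E' E ρ0 hρ0 (n + 1)).gr
    (Dd E' E φ ρ0 n) := by
  intro γ c hc
  exact dK_hom E' E φ hφ n γ _ hc

include hfi hφ0 hρε in
theorem Dε_injective : Function.Injective (Dε E' E f g φ hgs hfg hφ0 ρ0 hρε) := by
  rw [injective_iff_map_eq_zero]
  intro m'' hm''
  obtain ⟨m, rfl⟩ := hgs m''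
  rw [Dε_apply] at hm''
  have h1 : p' E' E φ ρ0 0 (0, E.ε m) = 0 := by
    rw [← η₀_coe E' E φ ρ0 hρε, hm'']
    rfl
  rw [p'_zero_apply, sub_eq_zero] at h1
  set w := ρ0 (0, E.ε m) with hw
  rw [εK_apply, Prod.mk.injEq] at h1
  have h2 : E'.d 0 w = 0 := by
    have := h1.1
    rw [eq_comm, neg_eq_zero] at this
    exact this
  have h3 : w ∈ LinearMap.range E'.ε := by rw [← E'.exact_zero]; exact h2
  obtain ⟨m', hm'⟩ := h3
  have h4 : E.ε m = E.ε (f m') := by rw [h1.2, ← hm', hφ0]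
  have h5 : m = f m' := E.ε_injective h4
  have h6 : m ∈ LinearMap.ker g := by rw [hfg, h5]; exact LinearMap.mem_range_self _ _
  exact h6

include hφd hφ0 hρε in
theorem D_exact_zero : LinearMap.ker (Dd E' E φ ρ0 0) =
    LinearMap.range (Dε E' E f g φ hgs hfg hφ0 ρ0 hρε) := by
  apply le_antisymm
  · rintro ⟨⟨u, v⟩, hc⟩ hd
    have hd' : dK E' E φ 0 (u, v) = 0 := congrArg Subtype.val hd
    rw [dK_apply, Prod.mk_eq_zero, neg_eq_zero] at hd'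
    have hu : u ∈ LinearMap.range (E'.d 0) := by rw [← E'.exact_succ 0]; exact hd'.1
    obtain ⟨w, rfl⟩ := hu
    have h1 : E.d 0 (φ 0 w + v) = 0 := by rw [map_add, ← hφd 0 w]; exact hd'.2
    have h2 : φ 0 w + v ∈ LinearMap.range E.ε := by rw [← E.exact_zero]; exact h1
    obtain ⟨m, hm⟩ := h2
    refine ⟨g m, ?_⟩
    rw [Dε_apply]
    apply Subtype.ext
    rw [η₀_coe]
    show p' E' E φ ρ0 0 (0, E.ε m) = (E'.d 0 w, v)
    have h3 : ((0 : (E'.X 1).carrier), E.ε m) = (E'.d 0 w, v) + εK E' E φ w := by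
      rw [εK_apply, hm]
      ext <;> simp [add_comm]
    rw [h3, map_add, p'_εK E' E φ ρ0 hρε, add_zero]
    exact p'_of_mem E' E φ ρ0 0 _ hc
  · rintro _ ⟨m'', rfl⟩
    obtain ⟨m, rfl⟩ := hgs m''
    rw [LinearMap.mem_ker, Dε_apply]
    apply Subtype.ext
    rw [Dd_coe, η₀_coe, dK_p' E' E φ hφd ρ0, dK_apply]
    have h := E_d_ε E m
    simp only [map_zero, neg_zero, zero_add, h]
    rfl

include hφd hρε in
theorem D_exact_succ (n : ℕ) : LinearMap.ker (Dd E' E φ ρ0 (n + 1)) =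
    LinearMap.range (Dd E' E φ ρ0 n) := by
  apply le_antisymm
  · rintro ⟨c, hc⟩ hd
    have hd' : dK E' E φ (n + 1) c = 0 := congrArg Subtype.val hd
    obtain ⟨c', rfl⟩ := exactK_succ E' E φ hφd n c hd'
    refine ⟨⟨p' E' E φ ρ0 n c', ρ'_p' E' E φ ρ0 hρε n c'⟩, ?_⟩
    apply Subtype.ext
    rw [Dd_coe]
    exact dK_p' E' E φ hφd ρ0 n c'
  · rintro _ ⟨c, rfl⟩
    rw [LinearMap.mem_ker]
    apply Subtype.ext
    rw [Dd_coe, Dd_coe, dK_dK E' E φ hφd]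
    rfl

include hφ hρε in
theorem D_starInj (n : ℕ) : GrLC.IsStarInj 𝒜 (DG E' E ρ0 hρ0 n).gr := by
  have hK : GrLC.IsStarInj 𝒜 (Kgr E' E n) := by
    letI : DirectSum.Decomposition (prodGr (E'.X (n + 1)).gr (E.X n).gr) :=
      prodDecomposition _ _
    letI : SetLike.GradedSMul 𝒜 (prodGr (E'.X (n + 1)).gr (E.X n).gr) :=
      prod_gradedSMul _ _ 𝒜
    exact isStarInj_prod 𝒜 (E'.X (n + 1)).gr (E.X n).gr (E'.starInj (n + 1)) (E.starInj n)
  exact @isStarInj_sub_of_retract _ _ _ _ _ 𝒜 _ _ _ _ (Kgr E' E n) _ _ (P E' E ρ0 n) hK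
    (p' E' E φ ρ0 n) (p'_hom E' E φ hφ ρ0 hρ0 n) (ρ'_p' E' E φ ρ0 hρε n)
    (p'_of_mem E' E φ ρ0 n) (DG E' E ρ0 hρ0 n).dec (DG E' E ρ0 hρ0 n).gsmul

/-- The cone resolution of the cokernel. -/
def coneRes : GrLC.StarInjRes 𝒜 ℳ'' where
  X := DG E' E ρ0 hρ0
  d := Dd E' E φ ρ0
  ε := Dε E' E f g φ hgs hfg hφ0 ρ0 hρε
  d_grHom := Dd_hom E' E φ hφ ρ0 hρ0
  ε_grHom := Dε_hom E' E f g φ hgs hfg hg hφ hφ0 ρ0 hρ0 hρε
  ε_injective := Dε_injective E' E f g φ hfi hgs hfg hφ0 ρ0 hρε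
  exact_zero := D_exact_zero E' E f g φ hgs hfg hφ0 hφd ρ0 hρε
  exact_succ := D_exact_succ E' E φ hφd ρ0 hρε
  starInj := D_starInj E' E φ hφ ρ0 hρ0 hρε

end Groth.Agent.Lib.Helper29GrConeRes
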