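import Groth.Agent.Lib.Helper29GrConv
import Groth.Agent.Lib.Helper29GrRes

/-! Converting *injective resolutions back from `AddSubgroup`-valued gradings; existence of
*injective resolutions for gradings valued in any `SetLike` type (helper29). -/

set_option autoImplicit false
set_option linter.style.haveILetI false
set_option linter.unusedSectionVars false
open DirectSum

noncomputable section

namespace Groth.Agent.Lib.Helper29GrConv2

open Groth.Agent.Lib.Helper29GrConv

universe u

variable {ι : Type} [AddCommGroup ι] [DecidableEq ι]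
variable {R : Type u} [CommRing R] {σ : Type u} [SetLike σ R] [AddSubgroupClass σ R]
variable (𝒜 : ι → σ) [GradedRing 𝒜]

theorem isStarInj_ofAS (Y : GrLC.GMod.{u} (asGr 𝒜)) (h : GrLC.IsStarInj (asGr 𝒜) Y.gr) :
    GrLC.IsStarInj 𝒜 (ofAS 𝒜 Y).gr := by
  intro A B f hf hfi g hg
  exact h (toAS 𝒜 A) (toAS 𝒜 B) f hf hfi g hg

variable {M : Type u} [AddCommGroup M] [Module R M] {τ : Type u} [SetLike τ M]
  [AddSubgroupClass τ M] {ℳ : ι → τ} [DirectSum.Decomposition ℳ] [SetLike.GradedSMul 𝒜 ℳ]

/-- Converting a *injective resolution back. -/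
def resOfAS (E : GrLC.StarInjRes (asGr 𝒜) (asGr ℳ)) : GrLC.StarInjRes 𝒜 ℳ where
  X := fun n => ofAS 𝒜 (E.X n)
  d := E.d
  ε := E.ε
  d_grHom := E.d_grHom
  ε_grHom := fun g m hm => E.ε_grHom g m hm
  ε_injective := E.ε_injective
  exact_zero := E.exact_zero
  exact_succ := E.exact_succ
  starInj := fun n => isStarInj_ofAS 𝒜 (E.X n) (E.starInj n)

/-- Existence of *injective resolutions for gradings valued in any `SetLike` type. -/
theorem exists_res [IsNoetherianRing R] [Module.Free ℤ ι] [Module.Finite ℤ ι] :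
    Nonempty (GrLC.StarInjRes 𝒜 ℳ) :=
  ⟨resOfAS 𝒜 (Groth.Agent.Lib.Helper29GrRes.starInjRes (asGr 𝒜) (asGr ℳ))⟩

end Groth.Agent.Lib.Helper29GrConv2
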