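import Groth.Agent.Lib.Helper29GrConv
import Groth.Agent.Lib.Helper13Syzygy

/-! The standard grading of a polynomial ring, converted to `AddSubgroup`-valued pieces:
positivity, the irrelevant ideal, generation in degree one (helper29). -/

set_option autoImplicit false
set_option linter.style.haveILetI false
set_option linter.unusedSectionVars false
open DirectSum

noncomputable section

namespace Groth.Agent.Lib.Helper29GrStdPoly

open Groth.Agent.Lib.Helper29GrConv

universe u

variable (k : Type u) [Field k] (n : ℕ)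

/-- The standard grading with `AddSubgroup`-valued pieces. -/
abbrev A : ℤ → AddSubgroup (MvPolynomial (Fin n) k) := asGr (GrSyz.stdGr k (Fin n))

/-- The irrelevant ideal. -/
abbrev mm : HomogeneousIdeal (A k n) :=
  idealAS (GrSyz.stdGr k (Fin n)) (GrSyz.irrel (GrSyz.stdGr k (Fin n)))

theorem X_mem_one (i : Fin n) : (MvPolynomial.X i : MvPolynomial (Fin n) k) ∈ A k n 1 := by
  show (MvPolynomial.X i : MvPolynomial (Fin n) k) ∈ GrSyz.stdGr k (Fin n) 1
  rw [GrSyz.mem_stdGr_iff]
  exact MvPolynomial.isWeightedHomogeneous_X k (fun _ : Fin n => (1 : ℤ)) i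

theorem hpos : ∀ e : ℤ, e < 0 → A k n e = ⊥ := by
  intro e he
  rw [eq_bot_iff]
  intro p hp
  have hp' : p.IsWeightedHomogeneous (fun _ : Fin n => (1 : ℤ)) e := hp
  rw [AddSubgroup.mem_bot]
  by_contra hne
  obtain ⟨d, hd⟩ := MvPolynomial.ne_zero_iff.mp hne
  have h1 := hp' hd
  have h2 : 0 ≤ Finsupp.weight (fun _ : Fin n => (1 : ℤ)) d := by
    rw [Finsupp.weight_apply, Finsupp.sum]
    exact Finset.sum_nonneg fun j _ => by positivity
  omega

theorem ha : (mm k n).toIdeal =
    Ideal.span (⋃ e ∈ Set.Ioi (0 : ℤ), (A k n e : Set (MvPolynomial (Fin n) k))) := by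
  show Ideal.span {r : MvPolynomial (Fin n) k | ∃ e : ℤ, 0 < e ∧ r ∈ GrSyz.stdGr k (Fin n) e} = _
  congr 1
  ext r
  simp only [Set.mem_setOf_eq, Set.mem_iUnion, Set.mem_Ioi, exists_prop]
  exact Iff.rfl

theorem hhom : (mm k n).toIdeal =
    Ideal.span ((A k n 1 : AddSubgroup (MvPolynomial (Fin n) k)) : Set (MvPolynomial (Fin n) k)) := by
  apply le_antisymm
  · show (GrSyz.irrel (GrSyz.stdGr k (Fin n))).toIdeal ≤ _
    rw [← Groth.Agent.Helper13Syzygy.I_top_eq_irrel]
    unfold Groth.Agent.Helper13Syzygy.I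
    apply Ideal.span_mono
    rintro _ ⟨l, -, rfl⟩
    exact X_mem_one k n l
  · show _ ≤ Ideal.span {r : MvPolynomial (Fin n) k | ∃ e : ℤ, 0 < e ∧ r ∈ GrSyz.stdGr k (Fin n) e}
    apply Ideal.span_mono
    intro r hr
    exact ⟨1, one_pos, hr⟩

end Groth.Agent.Lib.Helper29GrStdPoly
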