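import Groth.Agent.Lib.Helper29GrQuasiReg
import Groth.Agent.Lib.Helper29GrStdPoly
import Groth.Agent.Lib.Helper29EndDeg

/-! Translation between the `endDeg` formulation of `d`-regularity for `Submodule`-valued gradings
and the `AddSubgroup`-valued formulation `DReg` (helper29). -/

set_option autoImplicit false
set_option linter.style.haveILetI false
set_option linter.unusedSectionVars false
open DirectSum

noncomputable section

namespace Groth.Agent.Lib.Helper29GrDRegConv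

open Groth.Agent.Lib.Helper29GrConv Groth.Agent.Lib.Helper29GrQuasiReg
  Groth.Agent.Lib.Helper29EndDeg

universe u

variable {R : Type u} [CommRing R] {σ : Type u} [SetLike σ R] [AddSubgroupClass σ R]
variable {𝒜 : ℤ → σ} [GradedRing 𝒜]
variable {M : Type u} [AddCommGroup M] [Module R M] {τ : Type u} [SetLike τ M]
  [AddSubgroupClass τ M] {ℳ : ℤ → τ} [DirectSum.Decomposition ℳ] [SetLike.GradedSMul 𝒜 ℳ]

theorem Hgr_eq_bot_iff (E : GrLC.StarInjRes 𝒜 ℳ) (a : HomogeneousIdeal 𝒜) (i : ℕ) (e : ℤ) :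
    E.Hgr a i e = ⊥ ↔ E.Hcomp a i e = ⊥ := by
  constructor
  · intro h
    rw [eq_bot_iff]
    intro w hw
    have hw' : w ∈ E.Hgr a i e := hw
    rw [h] at hw'
    exact (Submodule.mem_bot _).mpr (AddSubgroup.mem_bot.mp hw')
  · intro h
    rw [eq_bot_iff]
    intro w hw
    have hw' : w ∈ E.Hcomp a i e := hw
    rw [h] at hw'
    exact AddSubgroup.mem_bot.mpr ((Submodule.mem_bot _).mp hw')

theorem endDeg_Hgr_le_iff (E : GrLC.StarInjRes 𝒜 ℳ) (a : HomogeneousIdeal 𝒜) (i : ℕ) (d : ℤ) :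
    GrLC.endDeg (E.Hgr a i) ≤ ((d : WithTop ℤ) : WithBot (WithTop ℤ)) ↔
      ∀ e : ℤ, d < e → E.Hcomp a i e = ⊥ := by
  rw [endDeg_le_iff]
  constructor
  · intro h e he
    by_contra hne
    have := h e (fun hb => hne ((Hgr_eq_bot_iff E a i e).mp hb))
    rw [coe_le_coe_iff] at this
    omega
  · intro h n hn
    rw [coe_le_coe_iff]
    by_contra hlt
    exact hn ((Hgr_eq_bot_iff E a i n).mpr (h n (by omega)))

/-- The `endDeg` formulation of `d`-regularity is `DReg` of the converted resolution. -/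
theorem dReg_iff (E : GrLC.StarInjRes 𝒜 ℳ) (a : HomogeneousIdeal 𝒜) (d : ℤ) :
    (GrLC.endDeg (E.Hgr a 0) ≤ ((d : WithTop ℤ) : WithBot (WithTop ℤ)) ∧
      ∀ i : ℕ, 0 < i → E.Hcomp a i (d - (i : ℤ) + 1) = ⊥) ↔
    DReg (idealAS 𝒜 a) (resAS E) d := by
  unfold DReg
  rw [endDeg_Hgr_le_iff]
  constructor
  · rintro ⟨h1, h2⟩
    exact ⟨fun e he => (Hcomp_resAS_eq_bot_iff E a 0 e).mpr (h1 e he),
      fun i hi => (Hcomp_resAS_eq_bot_iff E a i _).mpr (h2 i hi)⟩
  · rintro ⟨h1, h2⟩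
    exact ⟨fun e he => (Hcomp_resAS_eq_bot_iff E a 0 e).mp (h1 e he),
      fun i hi => (Hcomp_resAS_eq_bot_iff E a i _).mp (h2 i hi)⟩

end Groth.Agent.Lib.Helper29GrDRegConv
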