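import Groth.Agent.Lib.Helper29GrHmod
import Groth.Agent.Lib.Helper29GrHmap

/-! For a non-negatively graded *local ring `(R, m)` with Artinian degree-zero part, some power
of `m` lies in the irrelevant ideal `R_+`; hence `Γ_m = Γ_{R_+}` and the graded local cohomology
with supports in `m` and in `R_+` have pieces of the same length (helper29). -/

set_option autoImplicit false
set_option linter.style.haveILetI false
set_option linter.unusedSectionVars false
open DirectSum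

noncomputable section

namespace Groth.Agent.Lib.Helper29GrStarLocalArt

open Groth.Agent.Lib.Helper29.GrHmod Groth.Agent.Lib.Helper29GrResCompare

universe u

section Pow

variable {R : Type u} [CommRing R] (𝒜 : ℤ → AddSubgroup R) [GradedRing 𝒜]
  (hpos : ∀ n : ℤ, n < 0 → 𝒜 n = ⊥)

include hpos in
/-- Every element is congruent to its degree-zero component modulo `R_+`. -/
theorem sub_component_zero_mem_Rp (x : R) : x - ((decompose 𝒜 x) 0 : R) ∈ Rp 𝒜 := by
  classical
  have hsum := DirectSum.sum_support_decompose 𝒜 x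
  have h1 : x - ((decompose 𝒜 x) 0 : R) =
      ∑ k ∈ (decompose 𝒜 x).support.erase 0, ((decompose 𝒜 x) k : R) := by
    by_cases h0 : (0 : ℤ) ∈ (decompose 𝒜 x).support
    · rw [← Finset.add_sum_erase _ _ h0] at hsum
      exact sub_eq_of_eq_add' hsum.symm
    · have hz : ((decompose 𝒜 x) 0 : R) = 0 := by
        have := DFinsupp.notMem_support_iff.mp h0
        rw [this, AddSubgroup.coe_zero]
      rw [Finset.erase_eq_of_notMem h0, hsum, hz, sub_zero]
  rw [h1]
  refine Ideal.sum_mem _ fun k hk => ?_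
  exact component_mem_Rp 𝒜 hpos x k (Finset.ne_of_mem_erase hk)

include hpos in
/-- The degree-zero subring surjects onto `R/R_+`. -/
theorem deg0_to_quot_surjective :
    Function.Surjective ((Ideal.Quotient.mk (Rp 𝒜)).comp (GrLC.deg0 𝒜).subtype) := by
  intro y
  obtain ⟨x, rfl⟩ := Ideal.Quotient.mk_surjective y
  refine ⟨⟨((decompose 𝒜 x) 0 : R), SetLike.coe_mem _⟩, ?_⟩
  rw [RingHom.comp_apply, Subring.coe_subtype]
  rw [Ideal.Quotient.eq, ← neg_sub]
  exact neg_mem (sub_component_zero_mem_Rp 𝒜 hpos x)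

variable (m : HomogeneousIdeal 𝒜) (hm : GrLC.IsStarLocal 𝒜 m)

include hpos in
/-- An ideal containing `R_+` is homogeneous. -/
theorem isHomogeneous_of_Rp_le (J : Ideal R) (hJ : Rp 𝒜 ≤ J) : J.IsHomogeneous 𝒜 := by
  intro k x hx
  by_cases hk : k = 0
  · subst hk
    have h1 := hJ (sub_component_zero_mem_Rp 𝒜 hpos x)
    have h2 := sub_mem hx h1
    rwa [sub_sub_cancel] at h2
  · exact hJ (component_mem_Rp 𝒜 hpos x k hk)

include hpos hm in
/-- `m` is the only maximal ideal containing `R_+`. -/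
theorem eq_of_isMaximal_of_Rp_le (J : Ideal R) (hJ : Rp 𝒜 ≤ J) (hmax : J.IsMaximal) :
    J = m.toIdeal := by
  let P : HomogeneousIdeal 𝒜 := ⟨J, isHomogeneous_of_Rp_le 𝒜 hpos J hJ⟩
  have hco : IsCoatom P := by
    refine ⟨?_, fun Q hQ => ?_⟩
    · intro h
      apply hmax.ne_top
      have : P.toIdeal = (⊤ : HomogeneousIdeal 𝒜).toIdeal := congrArg _ h
      rw [HomogeneousIdeal.toIdeal_top] at this
      exact this
    · have h1 : J < Q.toIdeal := by
        refine lt_of_le_of_ne (fun x hx => hQ.le hx) ?_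
        intro heq
        apply hQ.ne
        apply HomogeneousIdeal.toIdeal_injective
        exact heq
      have h2 := hmax.1.2 _ h1
      apply HomogeneousIdeal.toIdeal_injective
      rw [h2, HomogeneousIdeal.toIdeal_top]
  have := hm.2 P hco
  rw [← this]

include hpos hm in
theorem jacobson_Rp : (Rp 𝒜).jacobson = m.toIdeal := by
  have hmax := isMaximal_of_isStarLocal 𝒜 hpos m hm
  have hle := Rp_le 𝒜 hpos m hm
  unfold Ideal.jacobson
  have : {J : Ideal R | Rp 𝒜 ≤ J ∧ J.IsMaximal} = {m.toIdeal} := by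
    ext J
    constructor
    · rintro ⟨h1, h2⟩
      exact eq_of_isMaximal_of_Rp_le 𝒜 hpos m hm J h1 h2
    · intro h
      rw [Set.mem_singleton_iff] at h
      rw [h]
      exact ⟨hle, hmax⟩
  rw [this, sInf_singleton]

include hpos hm in
/-- Some power of `m` lies in `R_+` when `R_0` is Artinian. -/
theorem exists_pow_le_Rp [IsArtinianRing (GrLC.deg0 𝒜)] : ∃ N : ℕ, m.toIdeal ^ N ≤ Rp 𝒜 := by
  haveI : IsArtinianRing (R ⧸ Rp 𝒜) :=
    Function.Surjective.isArtinianRing (deg0_to_quot_surjective 𝒜 hpos)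
  obtain ⟨N, hN⟩ := IsArtinianRing.isNilpotent_jacobson_bot (R := R ⧸ Rp 𝒜)
  refine ⟨N, ?_⟩
  have h1 : Ideal.comap (Ideal.Quotient.mk (Rp 𝒜)) (⊥ : Ideal (R ⧸ Rp 𝒜)).jacobson =
      m.toIdeal := by
    rw [Ideal.comap_jacobson_of_surjective Ideal.Quotient.mk_surjective]
    have : Ideal.comap (Ideal.Quotient.mk (Rp 𝒜)) ⊥ = Rp 𝒜 := by
      rw [← RingHom.ker_eq_comap_bot, Ideal.mk_ker]
    rw [this, jacobson_Rp 𝒜 hpos m hm]
  rw [← h1]
  refine (Ideal.le_comap_pow _ N).trans ?_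
  rw [hN]
  intro x hx
  rw [Ideal.mem_comap, Ideal.zero_eq_bot, Ideal.mem_bot] at hx
  exact Ideal.Quotient.eq_zero_iff_mem.mp hx

end Pow

section Gam

variable {R : Type u} [CommRing R]

theorem gam_le_of_le {a b : Ideal R} (hab : a ≤ b) (Y : Type u) [AddCommGroup Y] [Module R Y] :
    GrLC.gam b Y ≤ GrLC.gam a Y := by
  rintro y ⟨n, hn⟩
  exact ⟨n, fun r hr => hn r (Ideal.pow_right_mono hab n hr)⟩

theorem gam_eq_of_pow_le {a b : Ideal R} (hab : a ≤ b) (N : ℕ) (hN : b ^ N ≤ a)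
    (Y : Type u) [AddCommGroup Y] [Module R Y] : GrLC.gam b Y = GrLC.gam a Y := by
  refine le_antisymm (gam_le_of_le hab Y) ?_
  rintro y ⟨n, hn⟩
  refine ⟨N * n, fun r hr => hn r ?_⟩
  rw [pow_mul] at hr
  exact Ideal.pow_right_mono hN n hr

end Gam

section Len

variable {R : Type u} [CommRing R] {𝒜 : ℤ → AddSubgroup R} [GradedRing 𝒜]
variable {M : Type u} [AddCommGroup M] [Module R M] {ℳ : ℤ → AddSubgroup M}
  [DirectSum.Decomposition ℳ] [SetLike.GradedSMul 𝒜 ℳ]

theorem length_Hcomp_le_of_gam_eq (E : GrLC.StarInjRes 𝒜 ℳ) (a b : HomogeneousIdeal 𝒜)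
    (h : ∀ j, GrLC.gam a.toIdeal (E.X j).carrier = GrLC.gam b.toIdeal (E.X j).carrier)
    (i : ℕ) (n : ℤ) :
    Module.length (GrLC.deg0 𝒜) (E.Hcomp a i n) ≤ Module.length (GrLC.deg0 𝒜) (E.Hcomp b i n) := by
  have hcocyc : E.cocyc a i = E.cocyc b i := by
    unfold GrLC.StarInjRes.cocyc
    rw [h i]
  have hcobdy : E.cobdy a i = E.cobdy b i := by
    cases i with
    | zero => rfl
    | succ k =>
      show (GrLC.gam a.toIdeal (E.X k).carrier).map (E.d k) =
        (GrLC.gam b.toIdeal (E.X k).carrier).map (E.d k)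
      rw [h k]
  have hZ : ∀ z ∈ E.cocyc a i, (LinearMap.id : (E.X i).carrier →ₗ[R] (E.X i).carrier) z ∈
      E.cocyc b i := fun z hz => hcocyc ▸ hz
  have hB : ∀ z ∈ E.cobdy a i, z ∈ E.cobdy b i := fun z hz => hcobdy ▸ hz
  let Ψ : E.H a i →ₗ[R] E.H b i :=
    Submodule.mapQ _ _ ((LinearMap.id : (E.X i).carrier →ₗ[R] (E.X i).carrier).restrict hZ)
      (fun z hz => hB z hz)
  let Φ : E.Hcomp a i n →ₗ[GrLC.deg0 𝒜] E.Hcomp b i n :=
    (Ψ.restrictScalars (GrLC.deg0 𝒜)).restrict (p := E.Hcomp a i n) (q := E.Hcomp b i n) (by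
      rintro _ ⟨z, hz, rfl⟩
      exact ⟨⟨z, hZ z z.2⟩, hz, rfl⟩)
  have hΦ : Function.Injective Φ := by
    rw [injective_iff_map_eq_zero]
    rintro ⟨_, z, hz, rfl⟩ h0
    have h1 : Ψ (E.toH a i z) = 0 := congrArg Subtype.val h0
    have h2 : E.toH b i ⟨z, hZ z z.2⟩ = 0 := h1
    rw [toH_eq_zero_iff] at h2
    apply Subtype.ext
    show E.toH a i z = 0
    rw [toH_eq_zero_iff, hcobdy]
    exact h2
  exact Module.length_le_of_injective Φ hΦ

theorem length_Hcomp_eq_of_gam_eq (E : GrLC.StarInjRes 𝒜 ℳ) (a b : HomogeneousIdeal 𝒜)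
    (h : ∀ j, GrLC.gam a.toIdeal (E.X j).carrier = GrLC.gam b.toIdeal (E.X j).carrier)
    (i : ℕ) (n : ℤ) :
    Module.length (GrLC.deg0 𝒜) (E.Hcomp a i n) = Module.length (GrLC.deg0 𝒜) (E.Hcomp b i n) :=
  le_antisymm (length_Hcomp_le_of_gam_eq E a b h i n)
    (length_Hcomp_le_of_gam_eq E b a (fun j => (h j).symm) i n)

end Len

end Groth.Agent.Lib.Helper29GrStarLocalArt
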