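import Groth.Agent.Lib.Helper29GrFilterReg
import Groth.Agent.Lib.Helper29GrStarLocalArt
import Groth.Agent.Lib.Helper29GrStarLocal

/-! The degree-zero subring of a *local non-negatively graded ring is local, with the same residue
field; avoidance of finitely many ideals by an element of degree one (helper29). -/

set_option autoImplicit false
set_option linter.style.haveILetI false
set_option linter.unusedSectionVars false
open DirectSum TensorProduct
open scoped Pointwise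

namespace Groth.Agent.Lib.Helper29GrDeg0Local

open Groth.Agent.Lib.Helper29GrEss Groth.Agent.Lib.Helper29.GrHmod

universe u

variable {R : Type u} [CommRing R] [IsNoetherianRing R] (𝒜 : ℤ → AddSubgroup R) [GradedRing 𝒜]
  (hpos : ∀ n : ℤ, n < 0 → 𝒜 n = ⊥) (m : HomogeneousIdeal 𝒜) (hm : GrLC.IsStarLocal 𝒜 m)

include hm in
/-- Degree-zero elements outside `m` are units of the degree-zero subring. -/
theorem isUnit_deg0 (a : GrLC.deg0 𝒜) (ha : (a : R) ∉ m.toIdeal) : IsUnit a := by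
  obtain ⟨b, hb⟩ := (Groth.Agent.Lib.Helper29GrStarLocal.isUnit_of_notMem 𝒜 m hm a.2 ha).exists_right_inv
  have h1 := decompose_smul_of_mem 𝒜 𝒜 a.2 b 0
  rw [smul_eq_mul, hb, sub_zero] at h1
  have h2 : ((decompose 𝒜 (1 : R)) 0 : R) = 1 :=
    DirectSum.decompose_of_mem_same 𝒜 (SetLike.one_mem_graded 𝒜)
  rw [h2, smul_eq_mul] at h1
  rw [isUnit_iff_exists_inv]
  refine ⟨⟨((decompose 𝒜 b) 0 : R), SetLike.coe_mem _⟩, ?_⟩
  apply Subtype.ext
  exact h1.symm

include hm in
theorem isLocalRing_deg0 : IsLocalRing (GrLC.deg0 𝒜) := by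
  have hne : m.toIdeal ≠ ⊤ := Groth.Agent.Lib.Helper29GrStarLocal.toIdeal_ne_top 𝒜 m hm
  haveI : Nontrivial R := by
    by_contra h
    rw [not_nontrivial_iff_subsingleton] at h
    exact hne (Subsingleton.elim _ _)
  have hnu : ∀ a : GrLC.deg0 𝒜, a ∈ nonunits (GrLC.deg0 𝒜) ↔ (a : R) ∈ m.toIdeal := by
    intro a
    constructor
    · intro ha
      by_contra hcon
      exact ha (isUnit_deg0 𝒜 m hm a hcon)
    · intro ha hu
      apply hne
      rw [Ideal.eq_top_iff_one]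
      obtain ⟨b, hb⟩ := hu.exists_right_inv
      have : ((a * b : GrLC.deg0 𝒜) : R) ∈ m.toIdeal := by
        rw [Subring.coe_mul]
        exact Ideal.mul_mem_right _ _ ha
      rwa [hb] at this
  refine IsLocalRing.of_nonunits_add ?_
  intro a b ha hb
  rw [hnu] at ha hb ⊢
  rw [Subring.coe_add]
  exact add_mem ha hb

include hm in
theorem mem_maximalIdeal_iff [IsLocalRing (GrLC.deg0 𝒜)] (a : GrLC.deg0 𝒜) :
    a ∈ IsLocalRing.maximalIdeal (GrLC.deg0 𝒜) ↔ (a : R) ∈ m.toIdeal := by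
  have hne : m.toIdeal ≠ ⊤ := Groth.Agent.Lib.Helper29GrStarLocal.toIdeal_ne_top 𝒜 m hm
  rw [IsLocalRing.mem_maximalIdeal]
  constructor
  · intro ha
    by_contra hcon
    exact ha (isUnit_deg0 𝒜 m hm a hcon)
  · intro ha hu
    apply hne
    rw [Ideal.eq_top_iff_one]
    obtain ⟨b, hb⟩ := hu.exists_right_inv
    have : ((a * b : GrLC.deg0 𝒜) : R) ∈ m.toIdeal := by
      rw [Subring.coe_mul]
      exact Ideal.mul_mem_right _ _ ha
    rwa [hb] at this

include hpos hm in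
/-- The residue field of the degree-zero subring surjects onto `R/m`. -/
theorem infinite_residueField [IsLocalRing (GrLC.deg0 𝒜)] (hinf : Infinite (R ⧸ m.toIdeal)) :
    Infinite (IsLocalRing.ResidueField (GrLC.deg0 𝒜)) := by
  let ψ : IsLocalRing.ResidueField (GrLC.deg0 𝒜) →+* R ⧸ m.toIdeal :=
    Ideal.Quotient.lift (IsLocalRing.maximalIdeal (GrLC.deg0 𝒜))
      ((Ideal.Quotient.mk m.toIdeal).comp (GrLC.deg0 𝒜).subtype)
      (fun a ha => by
        rw [RingHom.comp_apply, Subring.coe_subtype, Ideal.Quotient.eq_zero_iff_mem]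
        exact (mem_maximalIdeal_iff 𝒜 m hm a).mp ha)
  have hψ : Function.Surjective ψ := by
    intro y
    obtain ⟨x, rfl⟩ := Ideal.Quotient.mk_surjective y
    refine ⟨IsLocalRing.residue _ ⟨((decompose 𝒜 x) 0 : R), SetLike.coe_mem _⟩, ?_⟩
    have h1 : ψ (IsLocalRing.residue _ ⟨((decompose 𝒜 x) 0 : R), SetLike.coe_mem _⟩) =
        Ideal.Quotient.mk m.toIdeal ((decompose 𝒜 x) 0 : R) := rfl
    rw [h1, Ideal.Quotient.eq, ← neg_sub]
    exact neg_mem (Rp_le 𝒜 hpos m hm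
      (Groth.Agent.Lib.Helper29GrStarLocalArt.sub_component_zero_mem_Rp 𝒜 hpos x))
  exact Infinite.of_surjective ψ hψ

/-- Avoidance: finitely many ideals none of which contains `R_1` are simultaneously avoided by an
element of degree one, when the residue field of `R_0` is infinite. -/
theorem exists_mem_one_notMem [IsLocalRing (GrLC.deg0 𝒜)]
    (hinf : Infinite (IsLocalRing.ResidueField (GrLC.deg0 𝒜))) (S : Set (Ideal R))
    (hSfin : S.Finite) (hS : ∀ P ∈ S, ¬ Ideal.span ((𝒜 1 : AddSubgroup R) : Set R) ≤ P) :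
    ∃ y ∈ 𝒜 1, ∀ P ∈ S, y ∉ P := by
  classical
  set K₀ := IsLocalRing.ResidueField (GrLC.deg0 𝒜) with hK₀
  set A1 : Submodule (GrLC.deg0 𝒜) R := GrLC.comp 𝒜 𝒜 1 with hA1
  haveI : Module.Finite (GrLC.deg0 𝒜) A1 := Helper29GrPieceFin.finite_comp 𝒜 𝒜 1
  set π := TensorProduct.mk (GrLC.deg0 𝒜) K₀ A1 1 with hπ
  haveI : Finite S := Set.finite_coe_iff.mpr hSfin
  let p : S → Submodule K₀ (K₀ ⊗[GrLC.deg0 𝒜] A1) := fun P =>
    Submodule.span K₀ (π '' {y : A1 | (y : R) ∈ P.1})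
  have hp : ∀ P, p P ≠ ⊤ := by
    intro P htop
    have h1 : Submodule.span (GrLC.deg0 𝒜) {y : A1 | (y : R) ∈ P.1} = ⊤ :=
      Groth.Agent.Lib.Helper29GrFilterReg.span_eq_top_of_tensor _ htop
    apply hS P.1 P.2
    rw [Ideal.span_le]
    intro x hx
    have hxm : x ∈ A1 := hx
    have h2 : Submodule.span (GrLC.deg0 𝒜) {y : A1 | (y : R) ∈ P.1} ≤
        (P.1.restrictScalars (GrLC.deg0 𝒜)).comap A1.subtype := by
      rw [Submodule.span_le]
      intro y hy
      exact hy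
    have h3 : (⟨x, hxm⟩ : A1) ∈ Submodule.span (GrLC.deg0 𝒜) {y : A1 | (y : R) ∈ P.1} := by
      rw [h1]; trivial
    exact h2 h3
  obtain ⟨v, hv⟩ := Submodule.exists_forall_notMem_of_forall_ne_top p hp
  obtain ⟨y, rfl⟩ := TensorProduct.mk_surjective (GrLC.deg0 𝒜) A1 K₀
    IsLocalRing.residue_surjective v
  refine ⟨(y : R), y.2, fun P hP hyP => ?_⟩
  exact hv ⟨P, hP⟩ (Submodule.subset_span ⟨y, hyP, rfl⟩)

end Groth.Agent.Lib.Helper29GrDeg0Local
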