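import Groth.Agent.Lib.Helper29GrConeDelta
import Groth.Agent.Lib.Helper29GrLCFun

/-! The homogeneous connecting homomorphism of graded local cohomology for arbitrary *injective
resolutions of the terms of a homogeneous short exact sequence (helper29). -/

set_option autoImplicit false
set_option linter.style.haveILetI false
set_option linter.unusedSectionVars false
open CategoryTheory DirectSum

noncomputable section

namespace Groth.Agent.Lib.Helper29.GrDeltaLES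

open Groth.Agent.Lib.Helper29LCAcyclic Groth.Agent.Lib.Helper29.LCNat
  Groth.Agent.Lib.Helper29.GrLCFun Groth.Agent.Lib.Helper29GrConeRes
  Groth.Agent.Lib.Helper29GrConeLES Groth.Agent.Lib.Helper29GrConeDelta

universe u

variable {ι : Type} [AddCommGroup ι] [DecidableEq ι] [Module.Free ℤ ι] [Module.Finite ℤ ι]
variable {R : Type u} [CommRing R] [IsNoetherianRing R] {𝒜 : ι → AddSubgroup R} [GradedRing 𝒜]
variable (a : HomogeneousIdeal 𝒜)
variable {M' : Type u} [AddCommGroup M'] [Module R M'] {ℳ' : ι → AddSubgroup M'}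
  [DirectSum.Decomposition ℳ'] [SetLike.GradedSMul 𝒜 ℳ']
variable {M : Type u} [AddCommGroup M] [Module R M] {ℳ : ι → AddSubgroup M}
  [DirectSum.Decomposition ℳ] [SetLike.GradedSMul 𝒜 ℳ]
variable {M'' : Type u} [AddCommGroup M''] [Module R M''] {ℳ'' : ι → AddSubgroup M''}
  [DirectSum.Decomposition ℳ''] [SetLike.GradedSMul 𝒜 ℳ'']

section Map

variable (E' : GrLC.StarInjRes 𝒜 ℳ') (E : GrLC.StarInjRes 𝒜 ℳ) (f : M' →ₗ[R] M)
  (θ : ∀ n, (E'.X n).carrier →ₗ[R] (E.X n).carrier)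
  (hθ0 : ∀ m : M', θ 0 (E'.ε m) = E.ε (f m))
  (hθ : ∀ (n : ℕ) (x : (E'.X n).carrier), θ (n + 1) (E'.d n x) = E.d n (θ n x))

include hθ0 in
/-- The map induced on local cohomology, computed with a chain map. -/
theorem LC_map_cE_mk (p : ℕ) (z : E'.cocyc a p) :
    (localCohomology a.toIdeal p).map (ModuleCat.ofHom f) (cE a E' p (E'.toH a p z)) =
      cE a E p (E.toH a p (θc a.toIdeal (fun n => (E'.X n).carrier) E'.d
        (fun n => (E.X n).carrier) E.d θ hθ p z)) :=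
  (cmp_naturality a.toIdeal (fun n => (E'.X n).carrier) E'.d E'.exact_succ E'.ε
    E'.ε_injective E'.exact_zero (fun n => (E.X n).carrier) E.d E.exact_succ E.ε
    E.ε_injective E.exact_zero f θ hθ hθ0 p z).symm

include hθ0 hθ in
theorem LC_map_eq_zero_iff (p : ℕ) (z : E'.cocyc a (p + 1)) :
    (localCohomology a.toIdeal (p + 1)).map (ModuleCat.ofHom f)
      (cE a E' (p + 1) (E'.toH a (p + 1) z)) = 0 ↔
      θ (p + 1) (z : (E'.X (p + 1)).carrier) ∈ E.cobdy a (p + 1) := by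
  rw [LC_map_cE_mk a E' E f θ hθ0 hθ (p + 1) z, LinearEquiv.map_eq_zero_iff,
    Submodule.mkQ_apply, Submodule.Quotient.mk_eq_zero]
  rfl

end Map

section Id

variable (F F' : GrLC.StarInjRes 𝒜 ℳ'')

/-- Comparison of two resolutions of the same module. -/
def resEquiv (p : ℕ) : F.H a p ≃ₗ[R] F'.H a p := (cE a F p).trans (cE a F' p).symm

theorem resEquiv_mem_Hgr (p : ℕ) (γ : ι) (h : F.H a p) (hh : h ∈ F.Hgr a p γ) :
    resEquiv a F F' p h ∈ F'.Hgr a p γ := by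
  have h1 := map_mem_Hgr a F F' (LinearMap.id : M'' →ₗ[R] M'') (fun _ _ hm => hm) p γ h hh
  have h2 : (localCohomology a.toIdeal p).map (ModuleCat.ofHom (LinearMap.id : M'' →ₗ[R] M'')) =
      𝟙 _ := by
    rw [ModuleCat.ofHom_id]
    exact (localCohomology a.toIdeal p).map_id _
  rw [h2] at h1
  exact h1

end Id

variable (E' : GrLC.StarInjRes 𝒜 ℳ') (E : GrLC.StarInjRes 𝒜 ℳ) (F : GrLC.StarInjRes 𝒜 ℳ'')
variable (f : M' →ₗ[R] M) (g : M →ₗ[R] M'')
variable (hfi : Function.Injective f) (hgs : Function.Surjective g)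
  (hfg : LinearMap.ker g = LinearMap.range f) (hf : GrLC.IsGrHom ℳ' ℳ f)
  (hg : GrLC.IsGrHom ℳ ℳ'' g)

include hfi hgs hfg hf hg in
/-- The homogeneous connecting homomorphism `H^p(M'') → H^{p+1}(M')`: its image is the kernel of
`H^{p+1}(M') → H^{p+1}(M)`, and it is injective when `H^p(M) = 0`. -/
theorem exists_connecting (p : ℕ) :
    ∃ δ : F.H a p →ₗ[R] E'.H a (p + 1),
      (∀ (γ : ι) (h : F.H a p), h ∈ F.Hgr a p γ → δ h ∈ E'.Hgr a (p + 1) γ) ∧
      (∀ x : E'.H a (p + 1), (localCohomology a.toIdeal (p + 1)).map (ModuleCat.ofHom f)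
        (cE a E' (p + 1) x) = 0 ↔ ∃ h, δ h = x) ∧
      ((∀ y : E.H a p, y = 0) → Function.Injective δ) := by
  obtain ⟨φ, hφ, hφ0, hφd⟩ := exists_lift E' E f hf
  obtain ⟨ρ0, hρ0, hρε⟩ := exists_retraction E' E f φ hfi hφ hφ0
  let CRr := coneRes E' E f g φ hfi hgs hfg hg hφ hφ0 hφd ρ0 hρ0 hρε
  let ψ : F.H a p ≃ₗ[R] CRr.H a p := resEquiv a F CRr p
  refine ⟨(δc E' E f g φ hfi hgs hfg hg hφ hφ0 hφd ρ0 hρ0 hρε a p) ∘ₗ ψ.toLinearMap, ?_, ?_, ?_⟩
  · intro γ h hh
    exact δc_mem_Hgr E' E f g φ hfi hgs hfg hg hφ hφ0 hφd ρ0 hρ0 hρε a p γ _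
      (resEquiv_mem_Hgr a F CRr p γ h hh)
  · intro x
    obtain ⟨z, rfl⟩ := Submodule.mkQ_surjective _ x
    have hiff := LC_map_eq_zero_iff a E' E f φ hφ0 hφd p z
    change (localCohomology a.toIdeal (p + 1)).map (ModuleCat.ofHom f)
      (cE a E' (p + 1) (E'.toH a (p + 1) z)) = 0 ↔ _
    rw [hiff]
    constructor
    · intro hz
      obtain ⟨h', hh'⟩ := exists_δc_eq E' E f g φ hfi hgs hfg hg hφ hφ0 hφd ρ0 hρ0 hρε a p z hz
      exact ⟨ψ.symm h', by
        rw [LinearMap.comp_apply, LinearEquiv.coe_coe, LinearEquiv.apply_symm_apply]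
        exact hh'⟩
    · rintro ⟨h, hh⟩
      exact mem_cobdy_of_δc_eq E' E f g φ hfi hgs hfg hg hφ hφ0 hφd ρ0 hρ0 hρε a p z (ψ h) hh
  · intro hE
    have hE' : ∀ v ∈ E.cocyc a p, v ∈ E.cobdy a p := by
      intro v hv
      have := hE (E.toH a p ⟨v, hv⟩)
      rw [Submodule.mkQ_apply, Submodule.Quotient.mk_eq_zero] at this
      exact this
    exact (δc_injective E' E f g φ hfi hgs hfg hg hφ hφ0 hφd ρ0 hρ0 hρε a p hE').comp ψ.injective

end Groth.Agent.Lib.Helper29.GrDeltaLES
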