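import Groth.Agent.Lib.Helper29GrEulerAdd

/-! Consequences of the long exact sequence of graded pieces of graded local cohomology:
isomorphism when the quotient has no cohomology in a degree, subadditivity of lengths in the
middle, transport of a resolution along a graded isomorphism (helper29). -/

set_option autoImplicit false
set_option linter.style.haveILetI false
set_option linter.unusedSectionVars false
open DirectSum

noncomputable section

namespace Groth.Agent.Lib.Helper29GrLESUse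

open Groth.Agent.Lib.Helper29GrConeRes Groth.Agent.Lib.Helper29GrResCompare
  Groth.Agent.Lib.Helper29GrConeLES Groth.Agent.Lib.Helper29GrHmap
  Groth.Agent.Lib.Helper29GrConeFin Groth.Agent.Lib.Helper29GrConeLES2
  Groth.Agent.Lib.Helper29GrCompareMap Groth.Agent.Lib.Helper29EulerLES
  Groth.Agent.Lib.Helper29GrEulerAdd

universe u

variable {ι : Type} [AddCommGroup ι] [DecidableEq ι] [Module.Free ℤ ι] [Module.Finite ℤ ι]
variable {R : Type u} [CommRing R] [IsNoetherianRing R] {𝒜 : ι → AddSubgroup R} [GradedRing 𝒜]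

variable {M' : Type u} [AddCommGroup M'] [Module R M'] {ℳ' : ι → AddSubgroup M'}
  [DirectSum.Decomposition ℳ'] [SetLike.GradedSMul 𝒜 ℳ']
variable {M : Type u} [AddCommGroup M] [Module R M] {ℳ : ι → AddSubgroup M}
  [DirectSum.Decomposition ℳ] [SetLike.GradedSMul 𝒜 ℳ]
variable {M'' : Type u} [AddCommGroup M''] [Module R M''] {ℳ'' : ι → AddSubgroup M''}
  [DirectSum.Decomposition ℳ''] [SetLike.GradedSMul 𝒜 ℳ'']
variable (E' : GrLC.StarInjRes 𝒜 ℳ') (E : GrLC.StarInjRes 𝒜 ℳ) (F : GrLC.StarInjRes 𝒜 ℳ'')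
variable (f : M' →ₗ[R] M) (g : M →ₗ[R] M'')
variable (hfi : Function.Injective f) (hgs : Function.Surjective g)
  (hfg : LinearMap.ker g = LinearMap.range f) (hf : GrLC.IsGrHom ℳ' ℳ f)
  (hg : GrLC.IsGrHom ℳ ℳ'' g)
variable (a : HomogeneousIdeal 𝒜)

include hfi hgs hfg hf hg in
/-- If the quotient has no graded local cohomology in degree `γ`, the sub and the middle term have
graded local cohomology of the same length in degree `γ`. -/
theorem length_eq_of_quot_vanish (γ : ι) (hC : ∀ n, F.Hcomp a n γ = ⊥) (n : ℕ) :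
    Module.length (GrLC.deg0 𝒜) (E'.Hcomp a n γ) = Module.length (GrLC.deg0 𝒜) (E.Hcomp a n γ) := by
  obtain ⟨φ, hφ, hφ0, hφd⟩ := exists_comparison_over E' E f hf
  obtain ⟨ρ0, hρ0, hρε⟩ := exists_retraction E' E f φ hfi hφ hφ0
  have hCR : ∀ n, (coneRes E' E f g φ hfi hgs hfg hg hφ hφ0 hφd ρ0 hρ0 hρε).Hcomp a n γ = ⊥ :=
    fun n => (Hcomp_eq_bot_iff _ F a n γ).mpr (hC n)
  have hinj : Function.Injective (mF E' E φ hφ hφd a n γ) := by
    cases n with
    | zero => exact mF_zero_injective E' E f φ hfi hφ hφ0 hφd a γ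
    | succ k =>
      rw [← LinearMap.ker_eq_bot, ker_mF_succ E' E f g φ hfi hgs hfg hg hφ hφ0 hφd ρ0 hρ0 hρε a k γ,
        eq_bot_iff]
      rintro _ ⟨y, rfl⟩
      have hy : (y : (coneRes E' E f g φ hfi hgs hfg hg hφ hφ0 hφd ρ0 hρ0 hρε).H a k) ∈
          (⊥ : Submodule (GrLC.deg0 𝒜) _) := hCR k ▸ y.2
      have hy0 : y = 0 := Subtype.ext ((Submodule.mem_bot _).mp hy)
      rw [hy0, map_zero]
      exact zero_mem _
  have hsurj : Function.Surjective (mF E' E φ hφ hφd a n γ) := by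
    rw [← LinearMap.range_eq_top, ← ker_mI E' E f g φ hfi hgs hfg hg hφ hφ0 hφd ρ0 hρ0 hρε a n γ,
      eq_top_iff]
    intro y _
    rw [LinearMap.mem_ker]
    have hy : ((mI E' E f g φ hfi hgs hfg hg hφ hφ0 hφd ρ0 hρ0 hρε a n γ y :
        (coneRes E' E f g φ hfi hgs hfg hg hφ hφ0 hφd ρ0 hρ0 hρε).Hcomp a n γ) :
        (coneRes E' E f g φ hfi hgs hfg hg hφ hφ0 hφd ρ0 hρ0 hρε).H a n) ∈
        (⊥ : Submodule (GrLC.deg0 𝒜) _) := hCR n ▸ Subtype.property _
    exact Subtype.ext ((Submodule.mem_bot _).mp hy)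
  exact (LinearEquiv.ofBijective _ ⟨hinj, hsurj⟩).length_eq

include hfi hgs hfg hf hg in
/-- Subadditivity of lengths at the middle term of the long exact sequence. -/
theorem length_mid_le (γ : ι) (n : ℕ) :
    Module.length (GrLC.deg0 𝒜) (E.Hcomp a n γ) ≤
      Module.length (GrLC.deg0 𝒜) (E'.Hcomp a n γ) +
        Module.length (GrLC.deg0 𝒜) (F.Hcomp a n γ) := by
  obtain ⟨φ, hφ, hφ0, hφd⟩ := exists_comparison_over E' E f hf
  obtain ⟨ρ0, hρ0, hρε⟩ := exists_retraction E' E f φ hfi hφ hφ0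
  have hCR : Module.length (GrLC.deg0 𝒜)
      ((coneRes E' E f g φ hfi hgs hfg hg hφ hφ0 hφd ρ0 hρ0 hρε).Hcomp a n γ) =
      Module.length (GrLC.deg0 𝒜) (F.Hcomp a n γ) := length_Hcomp_eq a _ F n γ
  set mi := mI E' E f g φ hfi hgs hfg hg hφ hφ0 hφd ρ0 hρ0 hρε a n γ with hmi
  have h1 : Module.length (GrLC.deg0 𝒜) (E.Hcomp a n γ) =
      Module.length (GrLC.deg0 𝒜) (LinearMap.ker mi) +
        Module.length (GrLC.deg0 𝒜) (LinearMap.range mi) := by
    apply Module.length_eq_add_of_exact (LinearMap.ker mi).subtype mi.rangeRestrict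
      (Submodule.injective_subtype _) (LinearMap.surjective_rangeRestrict _)
    intro y
    constructor
    · intro hy
      refine ⟨⟨y, ?_⟩, rfl⟩
      rw [LinearMap.mem_ker]
      exact congrArg Subtype.val hy
    · rintro ⟨z, rfl⟩
      apply Subtype.ext
      exact z.2
  have h2 : Module.length (GrLC.deg0 𝒜) (LinearMap.ker mi) ≤
      Module.length (GrLC.deg0 𝒜) (E'.Hcomp a n γ) := by
    rw [hmi, ker_mI E' E f g φ hfi hgs hfg hg hφ hφ0 hφd ρ0 hρ0 hρε a n γ]
    exact Module.length_le_of_surjective (mF E' E φ hφ hφd a n γ).rangeRestrict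
      (LinearMap.surjective_rangeRestrict _)
  have h3 : Module.length (GrLC.deg0 𝒜) (LinearMap.range mi) ≤
      Module.length (GrLC.deg0 𝒜) (F.Hcomp a n γ) := by
    rw [← hCR]
    exact Module.length_le_of_injective (LinearMap.range mi).subtype (Submodule.injective_subtype _)
  rw [h1]
  exact add_le_add h2 h3

section Transport

variable {N₁ : Type u} [AddCommGroup N₁] [Module R N₁] {𝒩₁ : ι → AddSubgroup N₁}
  [DirectSum.Decomposition 𝒩₁] [SetLike.GradedSMul 𝒜 𝒩₁]
variable {N₂ : Type u} [AddCommGroup N₂] [Module R N₂] {𝒩₂ : ι → AddSubgroup N₂}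
  [DirectSum.Decomposition 𝒩₂] [SetLike.GradedSMul 𝒜 𝒩₂]

/-- Transport of a *injective resolution along a bijective graded homomorphism. -/
def resOfEquiv (e : N₁ →ₗ[R] N₂) (he : GrLC.IsGrHom 𝒩₁ 𝒩₂ e) (hinj : Function.Injective e)
    (hsurj : Function.Surjective e) (G : GrLC.StarInjRes 𝒜 𝒩₂) : GrLC.StarInjRes 𝒜 𝒩₁ where
  X := G.X
  d := G.d
  ε := G.ε ∘ₗ e
  d_grHom := G.d_grHom
  ε_grHom := fun γ m hm => G.ε_grHom γ _ (he γ m hm)
  ε_injective := G.ε_injective.comp hinj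
  exact_zero := by
    rw [G.exact_zero, LinearMap.range_comp_of_range_eq_top _ (LinearMap.range_eq_top.mpr hsurj)]
  exact_succ := G.exact_succ
  starInj := G.starInj

theorem resOfEquiv_Hcomp (e : N₁ →ₗ[R] N₂) (he : GrLC.IsGrHom 𝒩₁ 𝒩₂ e)
    (hinj : Function.Injective e) (hsurj : Function.Surjective e) (G : GrLC.StarInjRes 𝒜 𝒩₂)
    (i : ℕ) (γ : ι) : (resOfEquiv e he hinj hsurj G).Hcomp a i γ = G.Hcomp a i γ := rfl

end Transport

end Groth.Agent.Lib.Helper29GrLESUse
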