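import Groth.Agent.Lib.Helper29GrSerreGen
import Groth.Agent.Lib.Helper29GrLESUse

/-! The difference equation `χ_γ(N) = χ_{γ+1}(N) + χ_γ(Q)` for graded local cohomology with support
in `R_+`, for a graded module `N` with a graded submodule `N' ⊆ N` (quotient `Q`) which is also
isomorphic to `N_{≥ 1}(1)` by a map of degree one (the situation of the Rees module `N = ⊕ IⁿM`,
`N' = I N`, the map being multiplication by the variable) (helper29). -/

set_option autoImplicit false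
set_option linter.style.haveILetI false
set_option linter.unusedSectionVars false
open DirectSum Pointwise

noncomputable section

namespace Groth.Agent.Lib.Helper29GrDiffEq

open Groth.Agent.Lib.Helper29GrEulerAdd Groth.Agent.Lib.Helper29GrHom
  Groth.Agent.Lib.Helper29GrVanish
  Groth.Agent.Lib.Helper29GrMulLES Groth.Agent.Lib.Helper29GrShift
  Groth.Agent.Lib.Helper29GrQuot
  Groth.Agent.Lib.Helper29GrSub Groth.Agent.Lib.Helper29GrRes Groth.Agent.Lib.Helper29GrGam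
  Groth.Agent.Lib.Helper29GrSerre Groth.Agent.Lib.Helper29GrSerreGen
  Groth.Agent.Lib.Helper29GrLESUse

universe u

variable {R : Type u} [CommRing R] [IsNoetherianRing R] {𝒜 : ℤ → AddSubgroup R} [GradedRing 𝒜]
variable (a : HomogeneousIdeal 𝒜)
variable (hpos : ∀ n : ℤ, n < 0 → 𝒜 n = ⊥)
  (ha : a.toIdeal = Ideal.span (⋃ n ∈ Set.Ioi (0 : ℤ), (𝒜 n : Set R)))
variable (D : ℕ) (hD : Groth.Agent.Lib.Helper8.Cd.Bound a.toIdeal D)

variable {N' : Type u} [AddCommGroup N'] [Module R N'] {𝒩' : ℤ → AddSubgroup N'}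
  [DirectSum.Decomposition 𝒩'] [SetLike.GradedSMul 𝒜 𝒩']
variable {N : Type u} [AddCommGroup N] [Module R N] {𝒩 : ℤ → AddSubgroup N}
  [DirectSum.Decomposition 𝒩] [SetLike.GradedSMul 𝒜 𝒩] [Module.Finite R N]
variable {Q : Type u} [AddCommGroup Q] [Module R Q] {𝒬 : ℤ → AddSubgroup Q}
  [DirectSum.Decomposition 𝒬] [SetLike.GradedSMul 𝒜 𝒬]

include hpos ha hD in
theorem diff_eq (j : N' →ₗ[R] N) (q : N →ₗ[R] Q) (hji : Function.Injective j)
    (hqs : Function.Surjective q) (hjq : LinearMap.ker q = LinearMap.range j)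
    (hj : GrLC.IsGrHom 𝒩' 𝒩 j) (hq : GrLC.IsGrHom 𝒩 𝒬 q)
    (μ : N' →ₗ[R] N) (hμi : Function.Injective μ) (hμ : GrLC.IsGrHom 𝒩' (shiftGr 𝒩 1) μ)
    (hμs : ∀ γ : ℤ, 1 ≤ γ → ∀ x ∈ 𝒩 γ, x ∈ LinearMap.range μ)
    (hμt : ∀ x : N, ∃ k : ℕ, ∀ r ∈ a.toIdeal ^ k, r • x ∈ LinearMap.range μ)
    (hQ : FinMod a Q 𝒬) (EN : GrLC.StarInjRes 𝒜 𝒩) (EQ : GrLC.StarInjRes 𝒜 𝒬) :
    ∀ γ : ℤ, 0 ≤ γ → (∀ i, Module.length (GrLC.deg0 𝒜) (EN.Hcomp a i γ) ≠ ⊤) ∧
      chi a D EN γ = chi a D EN (γ + 1) + chi a D EQ γ := by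
  classical
  -- the cokernel of `μ`, graded as a quotient of `N(1)`
  have hRhom : (LinearMap.range μ).IsHomogeneous (shiftGr 𝒩 1) := by
    rw [LinearMap.range_eq_map]
    exact map_isHomogeneous 𝒩' (shiftGr 𝒩 1) μ hμ (fun g x _ => Submodule.mem_top)
  letI : DirectSum.Decomposition (quotGr (shiftGr 𝒩 1) (LinearMap.range μ)) :=
    quotDecomposition _ _ hRhom
  letI : SetLike.GradedSMul 𝒜 (quotGr (shiftGr 𝒩 1) (LinearMap.range μ)) :=
    quot_gradedSMul _ _ 𝒜
  let EC : GrLC.StarInjRes 𝒜 (quotGr (shiftGr 𝒩 1) (LinearMap.range μ)) := starInjRes 𝒜 _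
  let EN' : GrLC.StarInjRes 𝒜 𝒩' := starInjRes 𝒜 𝒩'
  have htors : GrLC.gam a.toIdeal (N ⧸ LinearMap.range μ) = ⊤ := by
    rw [eq_top_iff]
    intro y _
    obtain ⟨x, rfl⟩ := Submodule.mkQ_surjective _ y
    obtain ⟨k, hk⟩ := hμt x
    refine ⟨k, fun r hr => ?_⟩
    rw [← map_smul, Submodule.mkQ_apply, Submodule.Quotient.mk_eq_zero]
    exact hk r hr
  have hmk : GrLC.IsGrHom (shiftGr 𝒩 1) (quotGr (shiftGr 𝒩 1) (LinearMap.range μ))
      (LinearMap.range μ).mkQ := fun γ y hy => ⟨y, hy, rfl⟩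
  -- vanishing of the graded local cohomology of the cokernel in degrees `≥ 0`
  have hCvan : ∀ γ : ℤ, 0 ≤ γ → ∀ n, EC.Hcomp a n γ = ⊥ := by
    intro γ hγ n
    cases n with
    | zero =>
      have h1 := length_Hcomp_zero_of_torsion' a EC htors γ
      have h2 : Subsingleton ↥(GrLC.comp 𝒜 (quotGr (shiftGr 𝒩 1) (LinearMap.range μ)) γ) := by
        refine ⟨fun x y => ?_⟩
        have hz : ∀ z : ↥(GrLC.comp 𝒜 (quotGr (shiftGr 𝒩 1) (LinearMap.range μ)) γ), z = 0 := by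
          rintro ⟨z, w, hw, rfl⟩
          apply Subtype.ext
          show (LinearMap.range μ).mkQ w = 0
          rw [Submodule.mkQ_apply, Submodule.Quotient.mk_eq_zero]
          exact hμs (γ + 1) (by omega) w hw
        rw [hz x, hz y]
      rw [Module.length_eq_zero_iff.mpr h2, Module.length_eq_zero_iff] at h1
      exact Submodule.eq_bot_of_subsingleton
    | succ k => exact Hcomp_succ_of_torsion' a EC htors k γ
  -- `H^i(N')_γ` and `H^i(N)_{γ+1}` have the same length for `γ ≥ 0`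
  have hshift : ∀ γ : ℤ, 0 ≤ γ → ∀ n, Module.length (GrLC.deg0 𝒜) (EN'.Hcomp a n γ) =
      Module.length (GrLC.deg0 𝒜) (EN.Hcomp a n (γ + 1)) := by
    intro γ hγ n
    exact length_eq_of_quot_vanish EN' (shiftRes EN 1) EC μ (LinearMap.range μ).mkQ hμi
      (Submodule.mkQ_surjective _) (Submodule.ker_mkQ _) hμ hmk a γ (hCvan γ hγ) n
  -- finiteness, by descending induction
  obtain ⟨r, hr⟩ := exists_bound_uniform a hpos ha EN
  have hfinN : ∀ (k : ℕ) (γ : ℤ), 0 ≤ γ → r ≤ γ + k →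
      ∀ i, Module.length (GrLC.deg0 𝒜) (EN.Hcomp a i γ) ≠ ⊤ := by
    intro k
    induction k with
    | zero =>
      intro γ _ hγr i
      rw [hr i γ (by simpa using hγr)]
      simp
    | succ k ih =>
      intro γ hγ hγr i
      have h1 := ih (γ + 1) (by omega) (by push_cast at hγr; omega) i
      have h2 := length_mid_le EN' EN EQ j q hji hqs hjq hj hq a γ i
      rw [hshift γ hγ i] at h2
      intro htop
      rw [htop, top_le_iff, ENat.add_eq_top] at h2
      rcases h2 with h2 | h2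
      · exact h1 h2
      · exact hQ.2 EQ i γ h2
  intro γ hγ
  have hN : ∀ i, Module.length (GrLC.deg0 𝒜) (EN.Hcomp a i γ) ≠ ⊤ := by
    intro i
    exact hfinN (r - γ).toNat γ hγ (by have := Int.self_le_toNat (r - γ); omega) i
  have hN1 : ∀ i, Module.length (GrLC.deg0 𝒜) (EN.Hcomp a i (γ + 1)) ≠ ⊤ := by
    intro i
    exact hfinN (r - (γ + 1)).toNat (γ + 1) (by omega)
      (by have := Int.self_le_toNat (r - (γ + 1)); omega) i
  refine ⟨hN, ?_⟩
  have h1 : chi a D EN γ = chi a D EN' γ + chi a D EQ γ :=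
    chi_add' a D hD EN' EN EQ j q hji hqs hjq hj hq γ
      (fun i => by rw [hshift γ hγ i]; exact hN1 i) hN (fun i => hQ.2 EQ i γ)
  have h2 : chi a D EN' γ = chi a D EN (γ + 1) := by
    unfold chi hl
    refine Finset.sum_congr rfl fun i _ => ?_
    rw [hshift γ hγ i]
  rw [h1, h2]

end Groth.Agent.Lib.Helper29GrDiffEq
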