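import Groth.Agent.Lib.Helper29GrStarLocalArt
import Groth.Agent.Lib.Helper29GrStarLocal
import Groth.Agent.Lib.Helper28FGDim

/-! For a Noetherian non-negatively `ℤ`-graded *local ring `(R, m)` with Artinian degree-zero part,
`ht m = dim R` (helper29).  Route: a minimal prime `P` with `dim R/P = dim R` is homogeneous, so
`P ≤ m`; `R/P` is a domain of finite type over the field `R_0/(P ∩ R_0)`, hence all its maximal
ideals have height `dim R/P`. -/

set_option autoImplicit false
set_option linter.style.haveILetI false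
set_option linter.unusedSectionVars false
open DirectSum

noncomputable section

namespace Groth.Agent.Lib.Helper29GrDimHt

open Groth.Agent.Lib.Helper29.GrHmod

universe u

section FT

variable {R : Type u} [CommRing R] (𝒜 : ℤ → AddSubgroup R) [GradedRing 𝒜]
  (hpos : ∀ n : ℤ, n < 0 → 𝒜 n = ⊥)

include hpos in
/-- A Noetherian non-negatively graded ring is of finite type over its degree-zero part. -/
theorem finiteType_deg0 [IsNoetherianRing R] : Algebra.FiniteType (GrLC.deg0 𝒜) R := by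
  classical
  have hfg : (Submodule.span R (⋃ n ∈ Set.Ioi (0 : ℤ), (𝒜 n : Set R))).FG :=
    IsNoetherian.noetherian _
  obtain ⟨T, hTsub, hT⟩ := (Submodule.fg_span_iff_fg_span_finset_subset _).mp hfg
  refine ⟨⟨T, ?_⟩⟩
  set B := Algebra.adjoin (GrLC.deg0 𝒜) (T : Set R) with hB
  have hTdeg : ∀ t ∈ T, ∃ i : ℤ, 0 < i ∧ t ∈ 𝒜 i := by
    intro t ht
    have := hTsub ht
    simp only [Set.mem_iUnion, Set.mem_Ioi, SetLike.mem_coe, exists_prop] at this
    exact this
  have hnegB : ∀ k : ℤ, k < 0 → ∀ z ∈ 𝒜 k, z ∈ B := by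
    intro k hk z hz
    rw [hpos _ hk, AddSubgroup.mem_bot] at hz
    rw [hz]
    exact Subalgebra.zero_mem _
  have key : ∀ d : ℕ, ∀ a ∈ 𝒜 (d : ℤ), a ∈ B := by
    intro d
    induction d using Nat.strong_induction_on with
    | _ d ih =>
      intro a ha
      rcases Nat.eq_zero_or_pos d with rfl | hd
      · exact Subalgebra.algebraMap_mem B (⟨a, ha⟩ : GrLC.deg0 𝒜)
      · have haI : a ∈ Submodule.span R (⋃ n ∈ Set.Ioi (0 : ℤ), (𝒜 n : Set R)) := by
          refine Submodule.subset_span ?_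
          simp only [Set.mem_iUnion, Set.mem_Ioi, SetLike.mem_coe, exists_prop]
          exact ⟨(d : ℤ), by exact_mod_cast hd, ha⟩
        rw [hT, Submodule.mem_span_finset] at haI
        obtain ⟨c, -, hc⟩ := haI
        have e : a = ∑ t ∈ T, (decompose 𝒜 (c t * t) (d : ℤ) : R) := by
          conv_lhs => rw [← decompose_of_mem_same 𝒜 ha, ← hc]
          rw [decompose_sum, DFinsupp.finset_sum_apply, AddSubmonoidClass.coe_finset_sum]
          rfl
        rw [e]
        refine Subalgebra.sum_mem _ fun t ht => ?_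
        obtain ⟨i, hi0, hi⟩ := hTdeg t ht
        have hd' : (d : ℤ) = ((d : ℤ) - i) + i := by ring
        rw [hd', coe_decompose_mul_add_of_right_mem 𝒜 hi]
        refine Subalgebra.mul_mem _ ?_ (Algebra.subset_adjoin ht)
        have hz : ((decompose 𝒜 (c t)) ((d : ℤ) - i) : R) ∈ 𝒜 ((d : ℤ) - i) := SetLike.coe_mem _
        generalize ((decompose 𝒜 (c t)) ((d : ℤ) - i) : R) = z at hz
        rcases lt_or_ge ((d : ℤ) - i) 0 with hneg | hnn
        · exact hnegB _ hneg z hz
        · obtain ⟨j, hj⟩ := Int.eq_ofNat_of_zero_le hnn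
          have hjd : j < d := by omega
          rw [hj] at hz
          exact ih j hjd _ hz
  rw [eq_top_iff]
  intro x _
  rw [← DirectSum.sum_support_decompose 𝒜 x]
  refine Subalgebra.sum_mem _ fun k _ => ?_
  have hz : ((decompose 𝒜 x) k : R) ∈ 𝒜 k := SetLike.coe_mem _
  generalize ((decompose 𝒜 x) k : R) = z at hz
  rcases lt_or_ge k 0 with hneg | hnn
  · exact hnegB _ hneg z hz
  · obtain ⟨j, hj⟩ := Int.eq_ofNat_of_zero_le hnn
    rw [hj] at hz
    exact key j _ hz

end FT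

section MinPrime

variable {R : Type u} [CommRing R] (𝒜 : ℤ → AddSubgroup R) [GradedRing 𝒜]

/-- Minimal primes of a `ℤ`-graded ring are homogeneous. -/
theorem isHomogeneous_of_mem_minimalPrimes {P : Ideal R} (hP : P ∈ minimalPrimes R) :
    P.IsHomogeneous 𝒜 := by
  have hPp : P.IsPrime := hP.1.1
  have hcore : (P.homogeneousCore 𝒜).toIdeal.IsPrime := hPp.homogeneousCore
  have hle : (P.homogeneousCore 𝒜).toIdeal ≤ P := Ideal.toIdeal_homogeneousCore_le 𝒜 P
  have hge : P ≤ (P.homogeneousCore 𝒜).toIdeal := hP.2 ⟨hcore, bot_le⟩ hle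
  have heq : (P.homogeneousCore 𝒜).toIdeal = P := le_antisymm hle hge
  rw [← heq]
  exact (P.homogeneousCore 𝒜).isHomogeneous

/-- A Noetherian ring of finite Krull dimension has a minimal prime `P` with
`dim R/P = dim R`. -/
theorem exists_minimalPrimes_ringKrullDim_quotient_eq [IsNoetherianRing R] (d : ℕ)
    (hd : ringKrullDim R = d) : ∃ P ∈ minimalPrimes R, ringKrullDim (R ⧸ P) = d := by
  haveI : FiniteRingKrullDim R := by
    rw [finiteRingKrullDim_iff_ne_bot_and_top, hd]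
    refine ⟨WithBot.coe_ne_bot, ?_⟩
    intro h
    have h' : (((d : ℕ∞)) : WithBot ℕ∞) = ((⊤ : ℕ∞) : WithBot ℕ∞) := h
    rw [WithBot.coe_inj] at h'
    exact ENat.coe_ne_top d h'
  obtain ⟨M, hM, hMd⟩ := Ideal.exists_isMaximal_height (R := R)
  haveI := hM.isPrime
  obtain ⟨l, -, hlen⟩ := M.exists_ltSeries_length_eq_height
  set q₀ := l.head with hq₀
  have h1 : ringKrullDim R ≤ ringKrullDim (R ⧸ q₀.asIdeal) := by
    rw [ringKrullDim_quotient, ← hMd, ← hlen]
    have hset : PrimeSpectrum.zeroLocus (q₀.asIdeal : Set R) = Set.Ici q₀ := by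
      ext x
      rw [PrimeSpectrum.mem_zeroLocus, Set.mem_Ici]
      rfl
    rw [hset, ← Order.coheight_eq_krullDim_Ici]
    have := Order.length_le_coheight_head (p := l)
    exact_mod_cast this
  obtain ⟨P, hPmin, hPle⟩ := Ideal.exists_minimalPrimes_le (bot_le : (⊥ : Ideal R) ≤ q₀.asIdeal)
  refine ⟨P, hPmin, ?_⟩
  rw [← hd]
  refine le_antisymm ?_ (le_trans h1 ?_)
  · exact ringKrullDim_le_of_surjective (Ideal.Quotient.mk P) Ideal.Quotient.mk_surjective
  · exact ringKrullDim_le_of_surjective (Ideal.Quotient.factor hPle)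
      (Ideal.Quotient.factor_surjective hPle)

end MinPrime

section Main

variable {R : Type u} [CommRing R] [IsNoetherianRing R] (𝒜 : ℤ → AddSubgroup R) [GradedRing 𝒜]
  (hpos : ∀ n : ℤ, n < 0 → 𝒜 n = ⊥) [IsArtinianRing (GrLC.deg0 𝒜)]
  (m : HomogeneousIdeal 𝒜) (hm : GrLC.IsStarLocal 𝒜 m)

/-- height of the image of a prime in a quotient is at most its height -/
theorem height_map_quotientMk_le {S : Type*} [CommRing S] (q p : Ideal S) [p.IsPrime]
    (hqp : q ≤ p) : (p.map (Ideal.Quotient.mk q)).height ≤ p.height := by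
  haveI : (p.map (Ideal.Quotient.mk q)).IsPrime := Ideal.isPrime_map_quotientMk_of_isPrime hqp
  have h := Order.height_le_height_apply_of_strictMono _
    (RingHom.strictMono_comap_of_surjective (Ideal.Quotient.mk_surjective (I := q)))
    (⟨p.map (Ideal.Quotient.mk q), inferInstance⟩ : PrimeSpectrum (S ⧸ q))
  rw [← PrimeSpectrum.height_eq_orderHeight, ← PrimeSpectrum.height_eq_orderHeight] at h
  have h2 : (PrimeSpectrum.comap (Ideal.Quotient.mk q)
      (⟨p.map (Ideal.Quotient.mk q), inferInstance⟩ : PrimeSpectrum (S ⧸ q))).asIdeal = p := by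
    rw [PrimeSpectrum.comap_asIdeal]
    exact Ideal.comap_map_mk hqp
  rw [h2] at h
  exact h

include hpos hm in
/-- `ht m = dim R` for a non-negatively graded *local Noetherian ring with Artinian `R_0`. -/
theorem height_eq (d : ℕ) (hd : ringKrullDim R = d) : m.toIdeal.height = d := by
  classical
  obtain ⟨P, hPmin, hPd⟩ := exists_minimalPrimes_ringKrullDim_quotient_eq (R := R) d hd
  haveI hPp : P.IsPrime := hPmin.1.1
  have hPh := isHomogeneous_of_mem_minimalPrimes 𝒜 hPmin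
  have hPm : P ≤ m.toIdeal :=
    Groth.Agent.Lib.Helper29GrStarLocal.le_of_ne_top 𝒜 m hm P hPh hPp.ne_top
  haveI hmax : m.toIdeal.IsMaximal := isMaximal_of_isStarLocal 𝒜 hpos m hm
  haveI hmp : m.toIdeal.IsPrime := hmax.isPrime
  -- the residue field of `R_0` at `P ∩ R_0`
  let p₀ : Ideal (GrLC.deg0 𝒜) := P.comap (GrLC.deg0 𝒜).subtype
  haveI hp₀ : p₀.IsPrime := Ideal.comap_isPrime _ _
  haveI hp₀m : p₀.IsMaximal := IsArtinianRing.isMaximal_of_isPrime p₀
  letI : Field (GrLC.deg0 𝒜 ⧸ p₀) := Ideal.Quotient.field p₀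
  let φ : (GrLC.deg0 𝒜 ⧸ p₀) →+* R ⧸ P := Ideal.quotientMap P (GrLC.deg0 𝒜).subtype le_rfl
  letI : Algebra (GrLC.deg0 𝒜 ⧸ p₀) (R ⧸ P) := φ.toAlgebra
  haveI : IsScalarTower (GrLC.deg0 𝒜) (GrLC.deg0 𝒜 ⧸ p₀) (R ⧸ P) :=
    IsScalarTower.of_algebraMap_eq (fun r => rfl)
  haveI : Algebra.FiniteType (GrLC.deg0 𝒜) R := finiteType_deg0 𝒜 hpos
  haveI : Algebra.FiniteType (GrLC.deg0 𝒜) (R ⧸ P) := inferInstance
  haveI : Algebra.FiniteType (GrLC.deg0 𝒜 ⧸ p₀) (R ⧸ P) :=
    Algebra.FiniteType.of_restrictScalars_finiteType (GrLC.deg0 𝒜) _ _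
  -- the maximal ideal of `R/P`
  have hM : (m.toIdeal.map (Ideal.Quotient.mk P)).IsMaximal :=
    Ideal.IsMaximal.map_of_surjective_of_ker_le Ideal.Quotient.mk_surjective
      (by rwa [Ideal.mk_ker])
  haveI : IsDomain (R ⧸ P) := Ideal.Quotient.isDomain P
  haveI hbot : (⊥ : Ideal (R ⧸ P)).IsPrime := Ideal.isPrime_bot
  let e : ((R ⧸ P) ⧸ (⊥ : Ideal (R ⧸ P))) ≃+* (R ⧸ P) := RingEquiv.quotientBot (R ⧸ P)
  haveI hM' : ((m.toIdeal.map (Ideal.Quotient.mk P)).comap e).IsMaximal :=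
    Ideal.comap_isMaximal_of_equiv e
  have h1 := Groth.Agent.Lib.Helper28.height_eq_ringKrullDim_quotient_of_isMaximal_of_finiteType
    (GrLC.deg0 𝒜 ⧸ p₀) (R ⧸ P) ⊥ ((m.toIdeal.map (Ideal.Quotient.mk P)).comap e)
  rw [ringKrullDim_eq_of_ringEquiv e, hPd] at h1
  have h2 : ((m.toIdeal.map (Ideal.Quotient.mk P)).comap e).height =
      (m.toIdeal.map (Ideal.Quotient.mk P)).height := e.height_comap _
  rw [h2] at h1
  have h3 : (m.toIdeal.map (Ideal.Quotient.mk P)).height = d := by exact_mod_cast h1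
  have h4 := height_map_quotientMk_le P m.toIdeal hPm
  rw [h3] at h4
  have h5 := Ideal.height_le_ringKrullDim_of_ne_top hmax.ne_top
  rw [hd] at h5
  have h6 : m.toIdeal.height ≤ d := by exact_mod_cast h5
  exact le_antisymm h6 h4

end Main

end Groth.Agent.Lib.Helper29GrDimHt
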