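import Groth.Prelude.Def_GrSeg
import Groth.Prelude.Def_GrLC
import Groth.Agent.Lib.Helper29GrBaer

/-! Graded duals and tensor products: if `HM ≅ M ⊗ H` compatibly with degrees then the graded dual
of `HM` is `Hom_R(M, H^*)` (helper29). -/

set_option autoImplicit false
set_option linter.style.haveILetI false
set_option linter.unusedSectionVars false
open DirectSum TensorProduct

noncomputable section

namespace Groth.Agent.Lib.Helper29.GrDualAlg

universe u

section GDual

variable {k : Type u} [Field k] {R : Type u} [CommRing R] [Algebra k R]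
variable {H : Type u} [AddCommGroup H] [Module R H] [Module k H] [IsScalarTower k R H]
  {ℋ : ℤ → AddSubgroup H} [DirectSum.Decomposition ℋ]
variable {K : Type u} [AddCommGroup K] [Module R K] [Module k K] [IsScalarTower k R K]
  {𝒦 : ℤ → AddSubgroup K} [DirectSum.Decomposition 𝒦]
variable {βK : K →ₗ[k] H →ₗ[k] k} (hK : GrSeg.IsGDual R ℋ 𝒦 βK)

include hK in
theorem gdual_component (κ : K) (i : ℤ) (x : H) (hx : x ∈ ℋ (-i)) :
    βK κ x = βK ((decompose 𝒦 κ i : K)) x := by
  classical
  conv_lhs => rw [← DirectSum.sum_support_decompose 𝒦 κ]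
  rw [map_sum, LinearMap.sum_apply]
  by_cases hi : i ∈ (decompose 𝒦 κ).support
  · rw [Finset.sum_eq_single_of_mem i hi]
    intro i' _ hne
    exact hK.vanish i' _ (SetLike.coe_mem _) (-i) (fun h => hne (neg_injective h).symm) x hx
  · rw [DFinsupp.notMem_support_iff] at hi
    rw [hi, ZeroMemClass.coe_zero, map_zero, LinearMap.zero_apply]
    apply Finset.sum_eq_zero
    intro i' hi'
    have hne : i' ≠ i := by
      rintro rfl
      exact (DFinsupp.mem_support_iff.mp hi') hi
    exact hK.vanish i' _ (SetLike.coe_mem _) (-i) (fun h => hne (neg_injective h).symm) x hx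

include hK in
theorem gdual_injective (κ : K) (h : ∀ x, βK κ x = 0) : κ = 0 := by
  have h1 : ∀ i, (decompose 𝒦 κ i : K) = 0 := by
    intro i
    apply hK.eq_zero i _ (SetLike.coe_mem _)
    intro x hx
    rw [← gdual_component hK κ i x hx]
    exact h x
  have h2 : decompose 𝒦 κ = 0 := by
    ext i
    rw [h1 i]
    rfl
  exact (decompose 𝒦).injective (by rw [h2, decompose_zero])

include hK in
theorem gdual_ext (κ κ' : K) (h : ∀ x, βK κ x = βK κ' x) : κ = κ' := by
  have := gdual_injective hK (κ - κ') (fun x => by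
    rw [map_sub, LinearMap.sub_apply, h x, sub_self])
  exact sub_eq_zero.mp this

include hK in
theorem gdual_exists_rep (i : ℤ) (lam : H →ₗ[k] k)
    (hlam : ∀ g : ℤ, g ≠ -i → ∀ h ∈ ℋ g, lam h = 0) :
    ∃ κ : K, κ ∈ 𝒦 i ∧ ∀ h, βK κ h = lam h := by
  obtain ⟨κ, hκ, hκeq⟩ := hK.exists_eq i lam
  refine ⟨κ, hκ, fun h => ?_⟩
  induction h using DirectSum.Decomposition.inductionOn ℋ with
  | zero => rw [map_zero, map_zero]
  | @homogeneous g h =>
    by_cases hg : g = -i
    · subst hg
      exact hκeq h h.2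
    · rw [hlam g hg h h.2]
      exact hK.vanish i κ hκ g hg h h.2
  | add a b ha hb => rw [map_add, map_add, ha, hb]

end GDual


section Main

variable {k : Type u} [Field k] {R : Type u} [CommRing R] [Algebra k R]
  (𝒜 : ℤ → AddSubgroup R) [GradedRing 𝒜]
variable {H : Type u} [AddCommGroup H] [Module R H] [Module k H] [IsScalarTower k R H]
  {ℋ : ℤ → AddSubgroup H} [DirectSum.Decomposition ℋ]
variable {K : Type u} [AddCommGroup K] [Module R K] [Module k K] [IsScalarTower k R K]
  {𝒦 : ℤ → AddSubgroup K} [DirectSum.Decomposition 𝒦] [SetLike.GradedSMul 𝒜 𝒦]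
variable {βK : K →ₗ[k] H →ₗ[k] k} (hK : GrSeg.IsGDual R ℋ 𝒦 βK)
variable {M : Type u} [AddCommGroup M] [Module R M] {ℳ : ℤ → AddSubgroup M}
  [DirectSum.Decomposition ℳ] [SetLike.GradedSMul 𝒜 ℳ] [Module.Finite R M]
variable {HM : Type u} [AddCommGroup HM] [Module R HM] [Module k HM] [IsScalarTower k R HM]
  {ℋM : ℤ → AddSubgroup HM} [DirectSum.Decomposition ℋM]
variable {D : Type u} [AddCommGroup D] [Module R D] [Module k D] [IsScalarTower k R D]
  {𝒟 : ℤ → AddSubgroup D} [DirectSum.Decomposition 𝒟]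
variable {βD : D →ₗ[k] HM →ₗ[k] k} (hD : GrSeg.IsGDual R ℋM 𝒟 βD)
variable (T : M ⊗[R] H ≃ₗ[R] HM)
  (hT : ∀ (j : ℤ) (x : M), x ∈ ℳ j → ∀ (g : ℤ) (h : H), h ∈ ℋ g → T (x ⊗ₜ h) ∈ ℋM (g + j))

/-- The functional `h ↦ β_D(d)(T(x ⊗ h))`. -/
def lam (d : D) (x : M) : H →ₗ[k] k where
  toFun h := βD d (T (x ⊗ₜ h))
  map_add' h h' := by rw [tmul_add, map_add, map_add]
  map_smul' c h := by
    rw [← algebraMap_smul R c h, tmul_smul, map_smul, algebraMap_smul, map_smul]
    rfl

include hK hD hT in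
theorem exists_rep_hom (i j : ℤ) (d : D) (hd : d ∈ 𝒟 i) (x : M) (hx : x ∈ ℳ j) :
    ∃ κ : K, κ ∈ 𝒦 (j + i) ∧ ∀ h, βK κ h = βD d (T (x ⊗ₜ h)) := by
  refine gdual_exists_rep hK (j + i) (lam (βD := βD) T d x) ?_
  intro g hg h hh
  refine hD.vanish i d hd (g + j) ?_ _ (hT j x hx g h hh)
  intro h'
  apply hg
  omega

include hK hD hT in
theorem exists_rep_pair (d : D) (x : M) : ∃ κ : K, ∀ h, βK κ h = βD d (T (x ⊗ₜ h)) := by
  induction d using DirectSum.Decomposition.inductionOn 𝒟 with
  | zero => exact ⟨0, fun h => by rw [map_zero, map_zero, LinearMap.zero_apply, LinearMap.zero_apply]⟩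
  | @homogeneous i d =>
    induction x using DirectSum.Decomposition.inductionOn ℳ with
    | zero =>
      exact ⟨0, fun h => by rw [map_zero, LinearMap.zero_apply, zero_tmul, map_zero, map_zero]⟩
    | @homogeneous j x =>
      obtain ⟨κ, -, hκ⟩ := exists_rep_hom hK hD T hT i j d d.2 x x.2
      exact ⟨κ, hκ⟩
    | add x x' hx hx' =>
      obtain ⟨κ, hκ⟩ := hx
      obtain ⟨κ', hκ'⟩ := hx'
      exact ⟨κ + κ', fun h => by
        rw [map_add, LinearMap.add_apply, hκ h, hκ' h, add_tmul, map_add, map_add]⟩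
  | add d d' hd hd' =>
    obtain ⟨κ, hκ⟩ := hd
    obtain ⟨κ', hκ'⟩ := hd'
    exact ⟨κ + κ', fun h => by
      rw [map_add, LinearMap.add_apply, hκ h, hκ' h, map_add, LinearMap.add_apply]⟩

include hK hD hT in
theorem exists_eps : ∃ ε : D →ₗ[R] (M →ₗ[R] K),
    ∀ d x h, βK (ε d x) h = βD d (T (x ⊗ₜ h)) := by
  choose e he using exists_rep_pair hK hD T hT
  have hadd : ∀ d x x', e d (x + x') = e d x + e d x' := by
    intro d x x'
    apply gdual_ext hK
    intro h
    rw [map_add, LinearMap.add_apply, he, he, he, add_tmul, map_add, map_add]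
  have hsmul : ∀ d (r : R) x, e d (r • x) = r • e d x := by
    intro d r x
    apply gdual_ext hK
    intro h
    rw [hK.map_smul, he, he, smul_tmul]
  have hadd' : ∀ d d' x, e (d + d') x = e d x + e d' x := by
    intro d d' x
    apply gdual_ext hK
    intro h
    rw [map_add, LinearMap.add_apply, he, he, he, map_add, LinearMap.add_apply]
  have hsmul' : ∀ (r : R) d x, e (r • d) x = r • e d x := by
    intro r d x
    apply gdual_ext hK
    intro h
    rw [hK.map_smul, he, he, hD.map_smul, ← map_smul, ← tmul_smul]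
  refine ⟨{ toFun := fun d => { toFun := e d, map_add' := hadd d, map_smul' := hsmul d }
            map_add' := fun d d' => LinearMap.ext (hadd' d d')
            map_smul' := fun r d => LinearMap.ext (hsmul' r d) }, ?_⟩
  intro d x h
  exact he d x h


/-- The additive map `M ⊗ H → k`, `x ⊗ h ↦ β_K(φ x)(h)`. -/
def Bmap (φ : M →ₗ[R] K) : M ⊗[R] H →+ k :=
  TensorProduct.liftAddHom
    { toFun := fun x => (βK (φ x)).toAddMonoidHom
      map_zero' := by
        ext h
        change βK (φ 0) h = 0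
        rw [map_zero, map_zero, LinearMap.zero_apply]
      map_add' := fun x x' => by
        ext h
        change βK (φ (x + x')) h = βK (φ x) h + βK (φ x') h
        rw [map_add, map_add, LinearMap.add_apply] }
    (fun r x h => by
      change βK (φ (r • x)) h = βK (φ x) (r • h)
      rw [map_smul, hK.map_smul])

theorem Bmap_tmul (φ : M →ₗ[R] K) (x : M) (h : H) : Bmap hK φ (x ⊗ₜ h) = βK (φ x) h := rfl

theorem Bmap_smul (φ : M →ₗ[R] K) (c : k) (t : M ⊗[R] H) :
    Bmap hK φ (algebraMap k R c • t) = c • Bmap hK φ t := by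
  induction t using TensorProduct.induction_on with
  | zero => rw [smul_zero, map_zero, smul_zero]
  | tmul x h =>
    rw [smul_tmul', Bmap_tmul, Bmap_tmul, map_smul, algebraMap_smul, map_smul, LinearMap.smul_apply]
  | add a b ha hb => rw [smul_add, map_add, ha, hb, map_add, smul_add]

/-- The functional on `HM` attached to `φ : M → K`. -/
def Lam (φ : M →ₗ[R] K) : HM →ₗ[k] k where
  toFun y := Bmap hK φ (T.symm y)
  map_add' y y' := by rw [map_add, map_add]
  map_smul' c y := by
    rw [← algebraMap_smul R c y, map_smul, Bmap_smul]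
    rfl

theorem Lam_T (φ : M →ₗ[R] K) (x : M) (h : H) : Lam hK T φ (T (x ⊗ₜ h)) = βK (φ x) h := by
  change Bmap hK φ (T.symm (T (x ⊗ₜ h))) = _
  rw [LinearEquiv.symm_apply_apply, Bmap_tmul]

include hK hD hT in
theorem exists_preimage_hom (ε : D →ₗ[R] (M →ₗ[R] K))
    (hε : ∀ d x h, βK (ε d x) h = βD d (T (x ⊗ₜ h))) (i : ℤ) (φ : M →ₗ[R] K)
    (hφ : GrLC.IsGrHomDeg ℳ 𝒦 φ i) : ∃ d : D, ε d = φ := by
  obtain ⟨d, hd, hdeq⟩ := hD.exists_eq i (Lam hK T φ)
  refine ⟨d, ?_⟩
  apply LinearMap.ext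
  intro x
  apply gdual_ext hK
  intro h
  rw [hε]
  induction x using DirectSum.Decomposition.inductionOn ℳ with
  | zero => rw [zero_tmul, map_zero, map_zero, map_zero, map_zero, LinearMap.zero_apply]
  | @homogeneous j x =>
    induction h using DirectSum.Decomposition.inductionOn ℋ with
    | zero => rw [tmul_zero, map_zero, map_zero, map_zero]
    | @homogeneous g h =>
      have hmem := hT j x x.2 g h h.2
      by_cases hg : g + j = -i
      · rw [hdeq _ (by rw [← hg]; exact hmem), Lam_T]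
      · rw [hD.vanish i d hd (g + j) hg _ hmem]
        symm
        refine hK.vanish (j + i) _ (hφ j x x.2) g ?_ h h.2
        intro h'
        apply hg
        omega
    | add a b ha hb => rw [tmul_add, map_add, map_add, map_add, ha, hb]
  | add x x' hx hx' =>
    rw [add_tmul, map_add, map_add, hx, hx', map_add, map_add, LinearMap.add_apply]

include 𝒜 hK hD hT in
/-- The graded dual of `HM ≅ M ⊗ H` is `Hom_R(M, K)`, `K` the graded dual of `H`. -/
theorem exists_dual_equiv : ∃ ε : D ≃ₗ[R] (M →ₗ[R] K),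
    ∀ (i : ℤ) (d : D), d ∈ 𝒟 i → GrLC.IsGrHomDeg ℳ 𝒦 (ε d) i := by
  obtain ⟨ε, hε⟩ := exists_eps hK hD T hT
  have hinj : Function.Injective ε := by
    rw [injective_iff_map_eq_zero]
    intro d hd
    apply gdual_injective hD
    intro y
    obtain ⟨t, rfl⟩ := T.surjective y
    induction t using TensorProduct.induction_on with
    | zero => rw [map_zero, map_zero]
    | tmul x h =>
      rw [← hε, hd, LinearMap.zero_apply, map_zero, LinearMap.zero_apply]
    | add a b ha hb => rw [map_add, map_add, ha, hb, add_zero]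
  have hsurj : Function.Surjective ε := by
    intro φ
    obtain ⟨Dset, hsum⟩ := Groth.Agent.Lib.Helper29GrBaer.exists_sum_part 𝒜 ℳ 𝒦 φ
    choose! pre hpre using fun d' : ℤ => exists_preimage_hom hK hD T hT ε hε d'
      (Groth.Agent.Lib.Helper29GrBaer.part 𝒜 ℳ 𝒦 φ d')
      (Groth.Agent.Lib.Helper29GrBaer.part_isGrHomDeg 𝒜 ℳ 𝒦 φ d')
    refine ⟨∑ d' ∈ Dset, pre d', ?_⟩
    rw [map_sum, ← hsum]
    exact Finset.sum_congr rfl (fun d' _ => hpre d')
  refine ⟨LinearEquiv.ofBijective ε ⟨hinj, hsurj⟩, ?_⟩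
  intro i d hd j x hx
  obtain ⟨κ, hκ, hκeq⟩ := exists_rep_hom hK hD T hT i j d hd x hx
  have : ε d x = κ := by
    apply gdual_ext hK
    intro h
    rw [hε, hκeq]
  change ε d x ∈ 𝒦 (j + i)
  rw [this]
  exact hκ

end Main

end Groth.Agent.Lib.Helper29.GrDualAlg
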