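import Groth.Agent.Lib.Helper29GrBaer

/-!
# The graded module `*Hom(A, I)` (helper8)

For graded modules `A`, `I` over a graded ring: the `R`-submodule of `A →ₗ[R] I` of maps with only
finitely many nonzero homogeneous parts, with its grading by degree.
-/

set_option autoImplicit false
set_option linter.unusedSectionVars false
open DirectSum

noncomputable section

namespace Groth.Agent.Lib.Helper8.StarHom

open Groth.Agent.Lib.Helper29GrBaer Groth.Agent.Lib.Helper29GrEss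

universe u

variable {ι : Type} [AddCommGroup ι] [DecidableEq ι]
variable {R : Type u} [CommRing R] (𝒜 : ι → AddSubgroup R) [GradedRing 𝒜]
variable {A : Type u} [AddCommGroup A] [Module R A] (𝓐 : ι → AddSubgroup A)
  [DirectSum.Decomposition 𝓐] [SetLike.GradedSMul 𝒜 𝓐]
variable {I : Type u} [AddCommGroup I] [Module R I] (ℐ : ι → AddSubgroup I)
  [DirectSum.Decomposition ℐ] [SetLike.GradedSMul 𝒜 ℐ]

omit [SetLike.GradedSMul 𝒜 𝓐] [DirectSum.Decomposition ℐ] [SetLike.GradedSMul 𝒜 ℐ] in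
/-- Linear maps agreeing on homogeneous elements agree. -/
theorem ext_homogeneous {f f' : A →ₗ[R] I} (h : ∀ (g : ι) (a : A), a ∈ 𝓐 g → f a = f' a) :
    f = f' := by
  apply LinearMap.ext
  intro a
  induction a using DirectSum.Decomposition.inductionOn 𝓐 with
  | zero => rw [map_zero, map_zero]
  | @homogeneous g a => exact h g a a.2
  | add a b ha hb => rw [map_add, map_add, ha, hb]

theorem part_add (φ ψ : A →ₗ[R] I) (d : ι) :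
    part 𝒜 𝓐 ℐ (φ + ψ) d = part 𝒜 𝓐 ℐ φ d + part 𝒜 𝓐 ℐ ψ d := by
  apply ext_homogeneous 𝓐
  intro g a ha
  rw [LinearMap.add_apply, part_of_mem 𝒜 𝓐 ℐ _ d ha, part_of_mem 𝒜 𝓐 ℐ _ d ha,
    part_of_mem 𝒜 𝓐 ℐ _ d ha, LinearMap.add_apply, DirectSum.decompose_add, DirectSum.add_apply,
    AddSubgroup.coe_add]

theorem part_zero (d : ι) : part 𝒜 𝓐 ℐ (0 : A →ₗ[R] I) d = 0 := by
  apply ext_homogeneous 𝓐
  intro g a ha
  rw [part_of_mem 𝒜 𝓐 ℐ _ d ha, LinearMap.zero_apply, DirectSum.decompose_zero]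
  rfl

theorem part_smul_of_mem {i : ι} {r : R} (hr : r ∈ 𝒜 i) (φ : A →ₗ[R] I) (d : ι) :
    part 𝒜 𝓐 ℐ (r • φ) d = r • part 𝒜 𝓐 ℐ φ (d - i) := by
  apply ext_homogeneous 𝓐
  intro g a ha
  rw [LinearMap.smul_apply, part_of_mem 𝒜 𝓐 ℐ _ d ha, part_of_mem 𝒜 𝓐 ℐ _ (d - i) ha,
    LinearMap.smul_apply, decompose_smul_of_mem 𝒜 ℐ hr]
  have e1 : g + d - i = g + (d - i) := by abel
  rw [e1]

theorem part_of_isGrHomDeg {φ : A →ₗ[R] I} {d : ι} (hφ : GrLC.IsGrHomDeg 𝓐 ℐ φ d) (d' : ι) :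
    part 𝒜 𝓐 ℐ φ d' = if d' = d then φ else 0 := by
  apply ext_homogeneous 𝓐
  intro g a ha
  rw [part_of_mem 𝒜 𝓐 ℐ _ d' ha]
  by_cases h : d' = d
  · subst h
    rw [if_pos rfl, DirectSum.decompose_of_mem_same ℐ (hφ g a ha)]
  · rw [if_neg h, LinearMap.zero_apply, DirectSum.decompose_of_mem_ne ℐ (hφ g a ha)]
    intro h'
    exact h (add_left_cancel h').symm

theorem part_sum {κ : Type*} (s : Finset κ) (f : κ → (A →ₗ[R] I)) (d : ι) :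
    part 𝒜 𝓐 ℐ (∑ j ∈ s, f j) d = ∑ j ∈ s, part 𝒜 𝓐 ℐ (f j) d := by
  classical
  induction s using Finset.induction_on with
  | empty => rw [Finset.sum_empty, Finset.sum_empty, part_zero]
  | insert a s ha ih => rw [Finset.sum_insert ha, Finset.sum_insert ha, part_add, ih]

/-- A map all of whose parts outside a finite set vanish is the sum of its parts. -/
theorem sum_part_eq (φ : A →ₗ[R] I) (D : Finset ι) (hD : ∀ d, d ∉ D → part 𝒜 𝓐 ℐ φ d = 0) :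
    ∑ d ∈ D, part 𝒜 𝓐 ℐ φ d = φ := by
  classical
  apply ext_homogeneous 𝓐
  intro g a ha
  rw [LinearMap.sum_apply]
  have h1 : ∀ d, part 𝒜 𝓐 ℐ φ d a = ((decompose ℐ (φ a)) (g + d) : I) :=
    fun d => part_of_mem 𝒜 𝓐 ℐ φ d ha
  simp only [h1]
  rw [← Finset.sum_image (f := fun h => ((decompose ℐ (φ a)) h : I)) (g := fun d => g + d)
    (fun x _ y _ hxy => add_left_cancel hxy)]
  apply sum_proj_eq
  intro h hh
  refine Finset.mem_image.mpr ⟨h - g, ?_, by abel⟩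
  by_contra hcon
  have h2 := hD _ hcon
  have h3 := h1 (h - g)
  rw [h2, LinearMap.zero_apply] at h3
  have e1 : g + (h - g) = h := by abel
  rw [e1] at h3
  rw [DFinsupp.mem_support_iff] at hh
  exact hh (Subtype.ext h3.symm)

/-- The submodule `*Hom(A, I)` of maps with finitely many nonzero homogeneous parts. -/
def starHom : Submodule R (A →ₗ[R] I) where
  carrier := {φ | ∃ D : Finset ι, ∀ d, d ∉ D → part 𝒜 𝓐 ℐ φ d = 0}
  add_mem' := by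
    classical
    rintro φ ψ ⟨D, hD⟩ ⟨D', hD'⟩
    refine ⟨D ∪ D', fun d hd => ?_⟩
    rw [Finset.mem_union, not_or] at hd
    rw [part_add, hD d hd.1, hD' d hd.2, add_zero]
  zero_mem' := ⟨∅, fun d _ => part_zero 𝒜 𝓐 ℐ d⟩
  smul_mem' := by
    classical
    rintro r φ ⟨D, hD⟩
    refine ⟨((decompose 𝒜 r).support ×ˢ D).image (fun p => p.1 + p.2), fun d hd => ?_⟩
    rw [← DirectSum.sum_support_decompose 𝒜 r, Finset.sum_smul, part_sum]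
    apply Finset.sum_eq_zero
    intro i hi
    rw [part_smul_of_mem 𝒜 𝓐 ℐ (SetLike.coe_mem _)]
    have h1 : d - i ∉ D := by
      intro hmem
      apply hd
      refine Finset.mem_image.mpr ⟨(i, d - i), Finset.mem_product.mpr ⟨hi, hmem⟩, ?_⟩
      show i + (d - i) = d
      abel
    rw [hD _ h1, smul_zero]

theorem mem_starHom {φ : A →ₗ[R] I} :
    φ ∈ starHom 𝒜 𝓐 ℐ ↔ ∃ D : Finset ι, ∀ d, d ∉ D → part 𝒜 𝓐 ℐ φ d = 0 := Iff.rfl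

theorem mem_starHom_of_isGrHomDeg {φ : A →ₗ[R] I} {d : ι} (hφ : GrLC.IsGrHomDeg 𝓐 ℐ φ d) :
    φ ∈ starHom 𝒜 𝓐 ℐ := by
  classical
  refine ⟨{d}, fun d' hd' => ?_⟩
  rw [part_of_isGrHomDeg 𝒜 𝓐 ℐ hφ, if_neg]
  intro h
  exact hd' (by rw [h]; exact Finset.mem_singleton_self d)

theorem part_mem_starHom (φ : A →ₗ[R] I) (d : ι) : part 𝒜 𝓐 ℐ φ d ∈ starHom 𝒜 𝓐 ℐ :=
  mem_starHom_of_isGrHomDeg 𝒜 𝓐 ℐ (part_isGrHomDeg 𝒜 𝓐 ℐ φ d)

/-- The pieces of `*Hom(A, I)`. -/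
def starGr : ι → AddSubgroup ↥(starHom 𝒜 𝓐 ℐ) := fun d =>
  { carrier := {φ | GrLC.IsGrHomDeg 𝓐 ℐ (φ : A →ₗ[R] I) d}
    add_mem' := fun {φ ψ} hφ hψ g a ha => by
      show (φ : A →ₗ[R] I) a + (ψ : A →ₗ[R] I) a ∈ ℐ (g + d)
      exact add_mem (hφ g a ha) (hψ g a ha)
    zero_mem' := fun g a _ => zero_mem _
    neg_mem' := fun {φ} hφ g a ha => by
      show -((φ : A →ₗ[R] I) a) ∈ ℐ (g + d)
      exact neg_mem (hφ g a ha) }

theorem mem_starGr {d : ι} {φ : ↥(starHom 𝒜 𝓐 ℐ)} :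
    φ ∈ starGr 𝒜 𝓐 ℐ d ↔ GrLC.IsGrHomDeg 𝓐 ℐ (φ : A →ₗ[R] I) d := Iff.rfl

/-- the part as an element of the piece -/
def partPiece (φ : ↥(starHom 𝒜 𝓐 ℐ)) (d : ι) : ↥(starGr 𝒜 𝓐 ℐ d) :=
  ⟨⟨part 𝒜 𝓐 ℐ (φ : A →ₗ[R] I) d, part_mem_starHom 𝒜 𝓐 ℐ _ d⟩,
    part_isGrHomDeg 𝒜 𝓐 ℐ _ d⟩

/-- the finite set of degrees of nonzero parts -/
def degs (φ : ↥(starHom 𝒜 𝓐 ℐ)) : Finset ι := Classical.choose φ.2

theorem part_eq_zero_of_notMem_degs (φ : ↥(starHom 𝒜 𝓐 ℐ)) (d : ι) (hd : d ∉ degs 𝒜 𝓐 ℐ φ) :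
    part 𝒜 𝓐 ℐ (φ : A →ₗ[R] I) d = 0 := Classical.choose_spec φ.2 d hd

/-- The decomposition map. -/
def decFun (φ : ↥(starHom 𝒜 𝓐 ℐ)) : ⨁ d, ↥(starGr 𝒜 𝓐 ℐ d) :=
  ∑ d ∈ degs 𝒜 𝓐 ℐ φ, DirectSum.of (fun d => ↥(starGr 𝒜 𝓐 ℐ d)) d (partPiece 𝒜 𝓐 ℐ φ d)

theorem coe_decFun (φ : ↥(starHom 𝒜 𝓐 ℐ)) :
    DirectSum.coeAddMonoidHom (starGr 𝒜 𝓐 ℐ) (decFun 𝒜 𝓐 ℐ φ) = φ := by
  classical
  apply Subtype.ext
  rw [decFun, map_sum]
  simp only [DirectSum.coeAddMonoidHom_of]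
  rw [AddSubmonoidClass.coe_finsetSum]
  exact sum_part_eq 𝒜 𝓐 ℐ (φ : A →ₗ[R] I) (degs 𝒜 𝓐 ℐ φ)
    (part_eq_zero_of_notMem_degs 𝒜 𝓐 ℐ φ)

theorem part_coe (x : ⨁ d, ↥(starGr 𝒜 𝓐 ℐ d)) (d : ι) :
    part 𝒜 𝓐 ℐ ((DirectSum.coeAddMonoidHom (starGr 𝒜 𝓐 ℐ) x : ↥(starHom 𝒜 𝓐 ℐ)) :
      A →ₗ[R] I) d = (((x d : ↥(starGr 𝒜 𝓐 ℐ d)) : ↥(starHom 𝒜 𝓐 ℐ)) : A →ₗ[R] I) := by
  classical
  induction x using DirectSum.induction_on with
  | zero =>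
    rw [map_zero]
    exact part_zero 𝒜 𝓐 ℐ d
  | of d' y =>
    rw [DirectSum.coeAddMonoidHom_of, part_of_isGrHomDeg 𝒜 𝓐 ℐ y.2]
    by_cases h : d = d'
    · subst h
      rw [if_pos rfl, DirectSum.of_eq_same]
    · rw [if_neg h, DirectSum.of_eq_of_ne _ _ _ (fun h' => h h')]
      rfl
  | add x y hx hy =>
    rw [map_add, Submodule.coe_add, part_add, hx, hy, DirectSum.add_apply]
    rfl

theorem decFun_apply (φ : ↥(starHom 𝒜 𝓐 ℐ)) (d : ι) :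
    (((decFun 𝒜 𝓐 ℐ φ d : ↥(starGr 𝒜 𝓐 ℐ d)) : ↥(starHom 𝒜 𝓐 ℐ)) : A →ₗ[R] I) =
      part 𝒜 𝓐 ℐ (φ : A →ₗ[R] I) d := by
  rw [← part_coe, coe_decFun]

/-- The grading of `*Hom(A, I)`. -/
@[instance_reducible]
def starDecomposition : DirectSum.Decomposition (starGr 𝒜 𝓐 ℐ) where
  decompose' := decFun 𝒜 𝓐 ℐ
  left_inv := coe_decFun 𝒜 𝓐 ℐ
  right_inv := by
    intro x
    apply DFinsupp.ext
    intro d
    apply Subtype.ext
    apply Subtype.ext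
    rw [decFun_apply, part_coe]

theorem star_gradedSMul : SetLike.GradedSMul 𝒜 (starGr 𝒜 𝓐 ℐ) where
  smul_mem := by
    intro i d r φ hr hφ g a ha
    show r • ((φ : ↥(starHom 𝒜 𝓐 ℐ)) : A →ₗ[R] I) a ∈ ℐ (g + (i +ᵥ d))
    have h := SetLike.GradedSMul.smul_mem (A := 𝒜) (B := ℐ) hr (hφ g a ha)
    rw [vadd_eq_add] at h ⊢
    have e1 : i + (g + d) = g + (i + d) := by abel
    rw [← e1]
    exact h

end Groth.Agent.Lib.Helper8.StarHom
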