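import Groth.Agent.Lib.Helper8Veronese

/-!
# Veronese of a module from the Veronese of its dual (helper8)

Abstract duality argument: if `C × H → k` and `C' × H' → k'` are graded perfect pairings
(over a graded ring `R` and its Veronese `R'`), and `Λ : H' → H` identifies `H'` with the Veronese
of `H`, then `C'` is the Veronese of `C`.
-/

set_option autoImplicit false
set_option linter.style.haveILetI false
set_option linter.unusedSectionVars false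
universe u
open DirectSum

noncomputable section

namespace Groth.Agent.Lib.Helper8.VerDual

open Groth.Agent.Lib.Helper8.Veronese

/-- A graded pairing `C × H → R_0`, balanced over `R`, perfect in each degree on the `C` side. -/
structure PerfPairing {R : Type u} [CommRing R] (𝒜 : ℤ → AddSubgroup R) [GradedRing 𝒜]
    {C : Type u} [AddCommGroup C] [Module R C] (𝒞 : ℤ → AddSubgroup C)
    {H : Type u} [AddCommGroup H] [Module R H] (ℋ : ℤ → AddSubgroup H) where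
  P : C → H → ↥(GrLC.deg0 𝒜)
  add_left : ∀ c c' h, P (c + c') h = P c h + P c' h
  add_right : ∀ c h h', P c (h + h') = P c h + P c h'
  smul : ∀ (r : R) c h, P (r • c) h = P c (r • h)
  smul_right : ∀ (t : ↥(GrLC.deg0 𝒜)) c h, P c ((t : R) • h) = t * P c h
  graded : ∀ {i d : ℤ}, i + d ≠ 0 → ∀ {c : C}, c ∈ 𝒞 i → ∀ {h : H}, h ∈ ℋ d → P c h = 0
  ndl : ∀ {i : ℤ} {v : C}, v ∈ 𝒞 i → (∀ x ∈ ℋ (-i), P v x = 0) → v = 0
  rep : ∀ (i : ℤ) (mu : H → ↥(GrLC.deg0 𝒜)),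
    (∀ x ∈ ℋ (-i), ∀ y ∈ ℋ (-i), mu (x + y) = mu x + mu y) →
    (∀ (t : ↥(GrLC.deg0 𝒜)), ∀ x ∈ ℋ (-i), mu ((t : R) • x) = t * mu x) →
    ∃ v ∈ 𝒞 i, ∀ x ∈ ℋ (-i), P v x = mu x

namespace PerfPairing

variable {R : Type u} [CommRing R] {𝒜 : ℤ → AddSubgroup R} [GradedRing 𝒜]
  {C : Type u} [AddCommGroup C] [Module R C] {𝒞 : ℤ → AddSubgroup C}
  [DirectSum.Decomposition 𝒞]
  {H : Type u} [AddCommGroup H] [Module R H] {ℋ : ℤ → AddSubgroup H} (PP : PerfPairing 𝒜 𝒞 ℋ)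

theorem zero_left (h : H) : PP.P 0 h = 0 := by
  have := PP.add_left 0 0 h
  rw [add_zero] at this
  exact left_eq_add.mp this

theorem zero_right (c : C) : PP.P c 0 = 0 := by
  have := PP.add_right c 0 0
  rw [add_zero] at this
  exact left_eq_add.mp this

theorem neg_left (c : C) (h : H) : PP.P (-c) h = -PP.P c h := by
  have := PP.add_left c (-c) h
  rw [add_neg_cancel, PP.zero_left] at this
  exact (neg_eq_of_add_eq_zero_right this.symm).symm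

theorem sub_left (c c' : C) (h : H) : PP.P (c - c') h = PP.P c h - PP.P c' h := by
  rw [sub_eq_add_neg, PP.add_left, PP.neg_left, sub_eq_add_neg]

theorem pair_decompose (g : ℤ) {x : H} (hx : x ∈ ℋ (-g)) (w : C) :
    PP.P w x = PP.P ((decompose 𝒞 w) g : C) x := by
  induction w using DirectSum.Decomposition.inductionOn 𝒞 with
  | zero =>
    rw [DirectSum.decompose_zero]
    rfl
  | @homogeneous i w =>
    by_cases hig : i = g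
    · subst hig
      rw [DirectSum.decompose_of_mem_same 𝒞 w.2]
    · rw [DirectSum.decompose_of_mem_ne 𝒞 w.2 hig, PP.zero_left]
      exact PP.graded (by omega) w.2 hx
  | add a b ha hb =>
    rw [DirectSum.decompose_add, DirectSum.add_apply, AddSubgroup.coe_add, PP.add_left,
      PP.add_left, ha, hb]

theorem eq_zero_of_forall (w : C) (S : Set ℤ)
    (hS : ∀ g, g ∉ S → ((decompose 𝒞 w) g : C) = 0)
    (h : ∀ g ∈ S, ∀ x ∈ ℋ (-g), PP.P w x = 0) : w = 0 := by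
  have hcomp : ∀ g, ((decompose 𝒞 w) g : C) = 0 := by
    intro g
    by_cases hg : g ∈ S
    · apply PP.ndl (SetLike.coe_mem _)
      intro x hx
      rw [← PP.pair_decompose g hx w]
      exact h g hg x hx
    · exact hS g hg
  apply (DirectSum.decompose 𝒞).injective
  rw [DirectSum.decompose_zero]
  apply DFinsupp.ext
  intro g
  exact Subtype.ext (hcomp g)

end PerfPairing

section Main

variable {R : Type u} [CommRing R] {𝒜 : ℤ → AddSubgroup R} [GradedRing 𝒜]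
  {R' : Type u} [CommRing R'] {𝒜' : ℤ → AddSubgroup R'} [GradedRing 𝒜'] (D : VerData 𝒜 𝒜')
  (φ₀ : ↥(GrLC.deg0 𝒜') ≃+* ↥(GrLC.deg0 𝒜))
  (hφ₀ : ∀ t : ↥(GrLC.deg0 𝒜'), ((φ₀ t : ↥(GrLC.deg0 𝒜)) : R) = D.φ (t : R'))
  {C : Type u} [AddCommGroup C] [Module R C] (𝒞 : ℤ → AddSubgroup C)
  [DirectSum.Decomposition 𝒞] [SetLike.GradedSMul 𝒜 𝒞]
  {H : Type u} [AddCommGroup H] [Module R H] {ℋ : ℤ → AddSubgroup H} (PP : PerfPairing 𝒜 𝒞 ℋ)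
  {C' : Type u} [AddCommGroup C'] [Module R' C'] (𝒞' : ℤ → AddSubgroup C')
  [DirectSum.Decomposition 𝒞'] [SetLike.GradedSMul 𝒜' 𝒞']
  {H' : Type u} [AddCommGroup H'] [Module R' H'] {ℋ' : ℤ → AddSubgroup H'}
  (PP' : PerfPairing 𝒜' 𝒞' ℋ')
  (hind' : ∀ (motive : H' → Prop), motive 0 → (∀ d, ∀ x ∈ ℋ' d, motive x) →
    (∀ x y, motive x → motive y → motive (x + y)) → ∀ x, motive x)
  (Λ : H' →+ H) (hΛinj : Function.Injective Λ)
  (hΛsmul : ∀ (a : R') (y : H'), Λ (a • y) = D.φ a • Λ y)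
  (hΛgr : ∀ (j : ℤ) (y : H'), y ∈ ℋ' j → Λ y ∈ ℋ (j * D.q))
  (hΛsur : ∀ (j : ℤ) (z : H), z ∈ ℋ (j * D.q) → ∃ y ∈ ℋ' j, Λ y = z)

/-- The relation defining the Veronese comparison map. -/
def Q (c' : C') (v : C) : Prop :=
  v ∈ Vc D (GrLC.GMod.of 𝒜 C 𝒞) ∧
    ∀ d, ∀ h' ∈ ℋ' d, PP.P v (Λ h') = φ₀ (PP'.P c' h')

include hind' in
theorem Q_all {c' : C'} {v : C} (hQ : Q D φ₀ 𝒞 PP 𝒞' PP' Λ c' v) (h' : H') :
    PP.P v (Λ h') = φ₀ (PP'.P c' h') := by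
  refine hind' (fun h' => PP.P v (Λ h') = φ₀ (PP'.P c' h')) ?_ ?_ ?_ h'
  · show PP.P v (Λ 0) = φ₀ (PP'.P c' 0)
    rw [map_zero, PP.zero_right, PP'.zero_right, map_zero]
  · intro d x hx
    exact hQ.2 d x hx
  · intro x y hx hy
    show PP.P v (Λ (x + y)) = φ₀ (PP'.P c' (x + y))
    rw [map_add, PP.add_right, PP'.add_right, map_add, hx, hy]

theorem neg_mul_q (j : ℤ) : -(j * (D.q : ℤ)) = (-j) * (D.q : ℤ) := (neg_mul j _).symm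

include hΛsur in
theorem Q_unique {c' : C'} {v₁ v₂ : C} (h₁ : Q D φ₀ 𝒞 PP 𝒞' PP' Λ c' v₁)
    (h₂ : Q D φ₀ 𝒞 PP 𝒞' PP' Λ c' v₂) : v₁ = v₂ := by
  have hw : v₁ - v₂ ∈ Vc D (GrLC.GMod.of 𝒜 C 𝒞) := sub_mem h₁.1 h₂.1
  have hz : v₁ - v₂ = 0 := by
    apply PP.eq_zero_of_forall (v₁ - v₂) {g | (D.q : ℤ) ∣ g}
    · intro g hg
      exact decompose_eq_zero_of_mem_Vc D (GrLC.GMod.of 𝒜 C 𝒞) hw g hg
    · rintro g ⟨j, rfl⟩ x hx
      have hx' : x ∈ ℋ ((-j) * (D.q : ℤ)) := by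
        have e1 : -((D.q : ℤ) * j) = (-j) * (D.q : ℤ) := by ring
        rw [← e1]; exact hx
      obtain ⟨y, hy, rfl⟩ := hΛsur (-j) x hx'
      rw [PP.sub_left, h₁.2 (-j) y hy, h₂.2 (-j) y hy, sub_self]
  exact sub_eq_zero.mp hz

include hφ₀ hΛinj hΛsmul hΛgr hΛsur in
theorem Q_exists_hom {j : ℤ} {c' : C'} (hc' : c' ∈ 𝒞' j) :
    ∃ v ∈ 𝒞 (j * D.q), Q D φ₀ 𝒞 PP 𝒞' PP' Λ c' v := by
  have hq : (D.q : ℤ) ≠ 0 := by exact_mod_cast D.hq.ne'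
  have hleft : ∀ y, Function.invFun Λ (Λ y) = y := Function.leftInverse_invFun hΛinj
  let mu : H → ↥(GrLC.deg0 𝒜) := fun x => φ₀ (PP'.P c' (Function.invFun Λ x))
  have hlift : ∀ x ∈ ℋ (-(j * (D.q : ℤ))), ∃ y ∈ ℋ' (-j), Λ y = x := by
    intro x hx
    rw [neg_mul_q] at hx
    exact hΛsur (-j) x hx
  obtain ⟨v, hv, hvmu⟩ := PP.rep (j * D.q) mu
    (by
      intro x hx y hy
      obtain ⟨x', -, rfl⟩ := hlift x hx
      obtain ⟨y', -, rfl⟩ := hlift y hy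
      show φ₀ (PP'.P c' (Function.invFun Λ (Λ x' + Λ y'))) =
        φ₀ (PP'.P c' (Function.invFun Λ (Λ x'))) + φ₀ (PP'.P c' (Function.invFun Λ (Λ y')))
      rw [← map_add, hleft, hleft, hleft, PP'.add_right, map_add])
    (by
      intro t x hx
      obtain ⟨x', -, rfl⟩ := hlift x hx
      show φ₀ (PP'.P c' (Function.invFun Λ ((t : R) • Λ x'))) =
        t * φ₀ (PP'.P c' (Function.invFun Λ (Λ x')))
      have ht : (t : R) = D.φ ((φ₀.symm t : ↥(GrLC.deg0 𝒜')) : R') := by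
        rw [← hφ₀, RingEquiv.apply_symm_apply]
      rw [ht, ← hΛsmul, hleft, hleft, PP'.smul_right, map_mul, RingEquiv.apply_symm_apply])
  refine ⟨v, hv, mem_Vc_of_mem D (GrLC.GMod.of 𝒜 C 𝒞) (j := j) hv, ?_⟩
  intro d h' hh'
  by_cases hd : d = -j
  · subst hd
    have h1 : Λ h' ∈ ℋ (-(j * (D.q : ℤ))) := by
      rw [neg_mul_q]; exact hΛgr (-j) h' hh'
    rw [hvmu _ h1]
    show φ₀ (PP'.P c' (Function.invFun Λ (Λ h'))) = _
    rw [hleft]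
  · have h1 : j + d ≠ 0 := fun h => hd (by omega)
    have h2 : j * (D.q : ℤ) + d * (D.q : ℤ) ≠ 0 := by
      rw [← add_mul]
      exact mul_ne_zero h1 hq
    rw [PP.graded h2 hv (hΛgr d h' hh'), PP'.graded h1 hc' hh', map_zero]

theorem Q_add {c₁ c₂ : C'} {v₁ v₂ : C} (h₁ : Q D φ₀ 𝒞 PP 𝒞' PP' Λ c₁ v₁)
    (h₂ : Q D φ₀ 𝒞 PP 𝒞' PP' Λ c₂ v₂) : Q D φ₀ 𝒞 PP 𝒞' PP' Λ (c₁ + c₂) (v₁ + v₂) := by
  refine ⟨add_mem h₁.1 h₂.1, fun d h' hh' => ?_⟩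
  rw [PP.add_left, PP'.add_left, map_add, h₁.2 d h' hh', h₂.2 d h' hh']

theorem Q_zero : Q D φ₀ 𝒞 PP 𝒞' PP' Λ 0 0 := by
  refine ⟨zero_mem _, fun d h' _ => ?_⟩
  rw [PP.zero_left, PP'.zero_left, map_zero]

include hind' hΛsmul in
theorem Q_smul (a : R') {c' : C'} {v : C} (hQ : Q D φ₀ 𝒞 PP 𝒞' PP' Λ c' v) :
    Q D φ₀ 𝒞 PP 𝒞' PP' Λ (a • c') (D.φ a • v) := by
  refine ⟨smul_mem_Vc D (GrLC.GMod.of 𝒜 C 𝒞) a hQ.1, fun d h' _ => ?_⟩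
  rw [PP.smul, ← hΛsmul, Q_all D φ₀ 𝒞 PP 𝒞' PP' hind' Λ hQ, PP'.smul]

include hφ₀ hΛinj hΛsmul hΛgr hΛsur in
theorem Q_exists (c' : C') : ∃ v, Q D φ₀ 𝒞 PP 𝒞' PP' Λ c' v := by
  induction c' using DirectSum.Decomposition.inductionOn 𝒞' with
  | zero => exact ⟨0, Q_zero D φ₀ 𝒞 PP 𝒞' PP' Λ⟩
  | homogeneous c =>
    obtain ⟨v, -, hv⟩ := Q_exists_hom D φ₀ hφ₀ 𝒞 PP 𝒞' PP' Λ hΛinj hΛsmul hΛgr hΛsur c.2
    exact ⟨v, hv⟩
  | add a b ha hb =>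
    obtain ⟨v₁, h₁⟩ := ha
    obtain ⟨v₂, h₂⟩ := hb
    exact ⟨v₁ + v₂, Q_add D φ₀ 𝒞 PP 𝒞' PP' Λ h₁ h₂⟩

theorem Q_inj {c' : C'} (hQ : Q D φ₀ 𝒞 PP 𝒞' PP' Λ c' 0) : c' = 0 := by
  apply PP'.eq_zero_of_forall c' Set.univ
  · intro g hg
    exact absurd (Set.mem_univ g) hg
  · intro g _ x hx
    have := hQ.2 (-g) x hx
    rw [PP.zero_left] at this
    exact (map_eq_zero_iff φ₀ φ₀.injective).mp this.symm

include hφ₀ hΛsmul hΛgr in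
theorem Q_surj {j : ℤ} {v : C} (hv : v ∈ 𝒞 (j * D.q)) :
    ∃ c' ∈ 𝒞' j, Q D φ₀ 𝒞 PP 𝒞' PP' Λ c' v := by
  have hq : (D.q : ℤ) ≠ 0 := by exact_mod_cast D.hq.ne'
  let mu' : H' → ↥(GrLC.deg0 𝒜') := fun h' => φ₀.symm (PP.P v (Λ h'))
  obtain ⟨c', hc', hcmu⟩ := PP'.rep j mu'
    (by
      intro x _ y _
      show φ₀.symm (PP.P v (Λ (x + y))) = φ₀.symm (PP.P v (Λ x)) + φ₀.symm (PP.P v (Λ y))
      rw [map_add, PP.add_right, map_add])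
    (by
      intro t x _
      show φ₀.symm (PP.P v (Λ ((t : R') • x))) = t * φ₀.symm (PP.P v (Λ x))
      rw [hΛsmul, ← hφ₀, PP.smul_right, map_mul, RingEquiv.symm_apply_apply])
  refine ⟨c', hc', mem_Vc_of_mem D (GrLC.GMod.of 𝒜 C 𝒞) (j := j) hv, ?_⟩
  intro d h' hh'
  by_cases hd : d = -j
  · subst hd
    rw [hcmu h' hh']
    show _ = φ₀ (φ₀.symm (PP.P v (Λ h')))
    rw [RingEquiv.apply_symm_apply]
  · have h1 : j + d ≠ 0 := fun h => hd (by omega)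
    have h2 : j * (D.q : ℤ) + d * (D.q : ℤ) ≠ 0 := by
      rw [← add_mul]
      exact mul_ne_zero h1 hq
    rw [PP.graded h2 hv (hΛgr d h' hh'), PP'.graded h1 hc' hh', map_zero]

include PP PP' hφ₀ hind' hΛinj hΛsmul hΛgr hΛsur in
/-- The Veronese comparison of the dual modules. -/
theorem exists_veronese_dual :
    ∃ g : C' →ₛₗ[D.φ] C, Function.Injective g ∧
      ∀ j : ℤ, (𝒞' j).map (g : C' →+ C) = 𝒞 (j * D.q) := by
  choose gfun hg using Q_exists D φ₀ hφ₀ 𝒞 PP 𝒞' PP' Λ hΛinj hΛsmul hΛgr hΛsur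
  let g : C' →ₛₗ[D.φ] C :=
    { toFun := gfun
      map_add' := fun a b => Q_unique D φ₀ 𝒞 PP 𝒞' PP' Λ hΛsur (hg (a + b))
        (Q_add D φ₀ 𝒞 PP 𝒞' PP' Λ (hg a) (hg b))
      map_smul' := fun a c => Q_unique D φ₀ 𝒞 PP 𝒞' PP' Λ hΛsur (hg (a • c))
        (Q_smul D φ₀ 𝒞 PP 𝒞' PP' hind' Λ hΛsmul a (hg c)) }
  have hgfun : ∀ c', g c' = gfun c' := fun _ => rfl
  refine ⟨g, ?_, ?_⟩
  · rw [injective_iff_map_eq_zero]
    intro c' hc'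
    have h1 := hg c'
    rw [← hgfun, hc'] at h1
    exact Q_inj D φ₀ 𝒞 PP 𝒞' PP' Λ h1
  · intro j
    ext v
    constructor
    · rintro ⟨c', hc', rfl⟩
      obtain ⟨v, hv, hQ⟩ := Q_exists_hom D φ₀ hφ₀ 𝒞 PP 𝒞' PP' Λ hΛinj hΛsmul hΛgr hΛsur hc'
      have : gfun c' = v := Q_unique D φ₀ 𝒞 PP 𝒞' PP' Λ hΛsur (hg c') hQ
      show gfun c' ∈ 𝒞 (j * D.q)
      rw [this]
      exact hv
    · intro hv
      obtain ⟨c', hc', hQ⟩ := Q_surj D φ₀ hφ₀ 𝒞 PP 𝒞' PP' Λ hΛsmul hΛgr hv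
      exact ⟨c', hc', Q_unique D φ₀ 𝒞 PP 𝒞' PP' Λ hΛsur (hg c') hQ⟩

end Main

end Groth.Agent.Lib.Helper8.VerDual
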