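import Groth.Agent.Lib.Helper8GrPairing
import Groth.Agent.Lib.Helper8StarHom
import Groth.Agent.Lib.Helper8VerDual
import Groth.Prelude.Def_GrSeg

/-! Graded duals over the degree-zero field of a graded ring, in pairing form: a field-free
packaging, the bridge to `GrSeg.IsGDual`, and existence of graded duals as `*Hom(-, *E(R/m))`
(after helper8's construction of the *canonical module) (helper29). -/

set_option autoImplicit false
set_option linter.style.haveILetI false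
set_option linter.unusedSectionVars false
universe u
open DirectSum

noncomputable section

namespace Groth.Agent.Lib.Helper29.GrDualExist

open Groth.Agent.Lib.Helper8.StarHom Groth.Agent.Lib.Helper8.GrPairing

variable {R : Type u} [CommRing R] (𝒜 : ℤ → AddSubgroup R) [GradedRing 𝒜]

/-- `D` (pieces `𝒟`) is, through the pairing `P`, the graded dual of `H` (pieces `ℋ`) over the
degree-zero subring. -/
structure DualPairing {H : Type u} [AddCommGroup H] [Module R H] (ℋ : ℤ → AddSubgroup H)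
    {D : Type u} [AddCommGroup D] [Module R D] (𝒟 : ℤ → AddSubgroup D)
    (P : D → H → ↥(GrLC.deg0 𝒜)) : Prop where
  add_left : ∀ d d' x, P (d + d') x = P d x + P d' x
  add_right : ∀ d x x', P d (x + x') = P d x + P d x'
  smul : ∀ (r : R) d x, P (r • d) x = P d (r • x)
  smul_left : ∀ (t : ↥(GrLC.deg0 𝒜)) d x, P ((t : R) • d) x = t * P d x
  vanish : ∀ (n : ℤ) (d : D), d ∈ 𝒟 n → ∀ j : ℤ, j ≠ -n → ∀ x : H, x ∈ ℋ j → P d x = 0
  eq_zero : ∀ (n : ℤ) (d : D), d ∈ 𝒟 n → (∀ x : H, x ∈ ℋ (-n) → P d x = 0) → d = 0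
  exists_eq : ∀ (n : ℤ) (g : H →ₗ[↥(GrLC.deg0 𝒜)] ↥(GrLC.deg0 𝒜)),
    ∃ d : D, d ∈ 𝒟 n ∧ ∀ x : H, x ∈ ℋ (-n) → P d x = g x

namespace DualPairing

variable {𝒜}
variable {H : Type u} [AddCommGroup H] [Module R H] {ℋ : ℤ → AddSubgroup H}
  {D : Type u} [AddCommGroup D] [Module R D] {𝒟 : ℤ → AddSubgroup D}
  {P : D → H → ↥(GrLC.deg0 𝒜)} (PP : DualPairing 𝒜 ℋ 𝒟 P)

/-- The pairing as a bilinear map over the degree-zero subring. -/
def β : D →ₗ[↥(GrLC.deg0 𝒜)] H →ₗ[↥(GrLC.deg0 𝒜)] ↥(GrLC.deg0 𝒜) :=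
  LinearMap.mk₂ ↥(GrLC.deg0 𝒜) P PP.add_left (fun c d x => PP.smul_left c d x) PP.add_right
    (fun c d x => by
      show P d ((c : R) • x) = c * P d x
      rw [← PP.smul, PP.smul_left])

theorem β_apply (d : D) (x : H) : PP.β d x = P d x := rfl

theorem isGDual [DirectSum.Decomposition ℋ] [DirectSum.Decomposition 𝒟]
    (h0 : IsField (GrLC.deg0 𝒜)) :
    letI : Field ↥(GrLC.deg0 𝒜) := h0.toField
    GrSeg.IsGDual R ℋ 𝒟 PP.β :=
  letI : Field ↥(GrLC.deg0 𝒜) := h0.toField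
  ⟨PP.smul, PP.vanish, PP.eq_zero, PP.exists_eq⟩

end DualPairing

section OfPerf

open Groth.Agent.Lib.Helper8.VerDual

variable {𝒜}
variable {H : Type u} [AddCommGroup H] [Module R H] {ℋ : ℤ → AddSubgroup H}
  [SetLike.GradedSMul 𝒜 ℋ]
  {C : Type u} [AddCommGroup C] [Module R C] {𝒞 : ℤ → AddSubgroup C}

/-- helper8's perfect pairings are dual pairings. -/
theorem dualPairing_of_perfPairing (PP : PerfPairing 𝒜 𝒞 ℋ) : DualPairing 𝒜 ℋ 𝒞 PP.P where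
  add_left := PP.add_left
  add_right := PP.add_right
  smul := PP.smul
  smul_left := fun t c h => by rw [PP.smul, PP.smul_right]
  vanish := fun n c hc j hj x hx => PP.graded (fun h => hj (by omega)) hc hx
  eq_zero := fun n c hc h => PP.ndl hc h
  exists_eq := fun n g => by
    obtain ⟨v, hv, hvm⟩ := PP.rep n (fun x => g x) (fun x _ y _ => map_add g x y)
      (fun t x _ => by
        have : (t : R) • x = t • x := rfl
        rw [this, map_smul]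
        rfl)
    exact ⟨v, hv, hvm⟩

end OfPerf

section Exist

variable [IsNoetherianRing R]
  (hpos : ∀ n : ℤ, n < 0 → 𝒜 n = ⊥) (h0 : IsField (GrLC.deg0 𝒜))
  (m : HomogeneousIdeal 𝒜) (hmne : m.toIdeal ≠ ⊤)
  (hmsp : m.toIdeal = Ideal.span (⋃ n ∈ Set.Ioi (0 : ℤ), (𝒜 n : Set R)))
  {E' : Type u} [AddCommGroup E'] [Module R E'] (𝓔 : ℤ → AddSubgroup E')
  [DirectSum.Decomposition 𝓔] [SetLike.GradedSMul 𝒜 𝓔]
  (e : (R ⧸ m.toIdeal) →ₗ[R] E') (he : GrLC.IsStarInjHull 𝒜 (GrLC.quotGr 𝒜 m) 𝓔 e)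
  {H : Type u} [AddCommGroup H] [Module R H] (ℋ : ℤ → AddSubgroup H)
  [DirectSum.Decomposition ℋ] [SetLike.GradedSMul 𝒜 ℋ]

include he in
theorem starDualPairing :
    letI : DirectSum.Decomposition (starGr 𝒜 ℋ 𝓔) := starDecomposition 𝒜 ℋ 𝓔
    DualPairing 𝒜 ℋ (starGr 𝒜 ℋ 𝓔)
      (fun (c : ↥(starHom 𝒜 ℋ 𝓔)) (h : H) =>
        eps 𝒜 hpos h0 m hmne hmsp 𝓔 e he ((c : H →ₗ[R] E') h)) := by
  classical
  obtain ⟨ε, hε⟩ : ∃ ε : E' →ₗ[↥(GrLC.deg0 𝒜)] ↥(GrLC.deg0 𝒜),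
      ε = eps 𝒜 hpos h0 m hmne hmsp 𝓔 e he := ⟨_, rfl⟩
  rw [← hε]
  refine ⟨?_, ?_, ?_, ?_, ?_, ?_, ?_⟩
  · intro c c' h
    show ε (((c + c' : ↥(starHom 𝒜 ℋ 𝓔)) : H →ₗ[R] E') h) = _
    rw [Submodule.coe_add, LinearMap.add_apply, map_add]
  · intro c h h'
    show ε ((c : H →ₗ[R] E') (h + h')) = _
    rw [map_add, map_add]
  · intro r c h
    show ε (((r • c : ↥(starHom 𝒜 ℋ 𝓔)) : H →ₗ[R] E') h) = ε ((c : H →ₗ[R] E') (r • h))
    rw [Submodule.coe_smul, LinearMap.smul_apply, (c : H →ₗ[R] E').map_smul]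
  · intro t c h
    show ε ((((t : R) • c : ↥(starHom 𝒜 ℋ 𝓔)) : H →ₗ[R] E') h) = t * ε ((c : H →ₗ[R] E') h)
    rw [Submodule.coe_smul, LinearMap.smul_apply]
    exact map_smul ε t _
  · intro j c hc i hi x hx
    show ε ((c : H →ₗ[R] E') x) = 0
    rw [hε]
    have hne : i + j ≠ 0 := fun h => hi (by omega)
    exact eps_of_mem_ne 𝒜 hpos h0 m hmne hmsp 𝓔 e he hne (hc i x hx)
  · intro j c hc h
    apply Subtype.ext
    apply eq_zero_of_eps_comp 𝒜 hpos h0 m hmne hmsp 𝓔 e he ℋ (c : H →ₗ[R] E') j hc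
    intro x hx
    have := h x hx
    rw [hε] at this
    exact this
  · intro j g
    obtain ⟨f, hf, hfl⟩ := exists_hom_of_functional 𝒜 hpos h0 m hmne hmsp 𝓔 e he ℋ (-j)
      (g.comp (GrLC.comp 𝒜 ℋ (-j)).subtype)
    rw [neg_neg] at hf
    refine ⟨⟨f, mem_starHom_of_isGrHomDeg 𝒜 ℋ 𝓔 hf⟩, hf, ?_⟩
    intro x hx
    show ε (f x) = g x
    rw [hε]
    exact hfl x hx

include hpos h0 hmne hmsp he in
/-- Every graded module has a graded dual. -/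
theorem exists_dual : ∃ (D : GrLC.GMod.{u} 𝒜) (P : D.carrier → H → ↥(GrLC.deg0 𝒜)),
    DualPairing 𝒜 ℋ D.gr P := by
  letI decC : DirectSum.Decomposition (starGr 𝒜 ℋ 𝓔) := starDecomposition 𝒜 ℋ 𝓔
  letI gsC : SetLike.GradedSMul 𝒜 (starGr 𝒜 ℋ 𝓔) := star_gradedSMul 𝒜 ℋ 𝓔
  exact ⟨GrLC.GMod.of 𝒜 ↥(starHom 𝒜 ℋ 𝓔) (starGr 𝒜 ℋ 𝓔), _,
    starDualPairing 𝒜 hpos h0 m hmne hmsp 𝓔 e he ℋ⟩

end Exist

end Groth.Agent.Lib.Helper29.GrDualExist
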