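import Groth.Prelude.Def_GrSeg
import Groth.Prelude.Def_GrLC
import Groth.Agent.Lib.Helper29GrDualAlg
import Groth.Agent.Lib.Helper29GrHom

/-! Functoriality of graded duals: dual maps of homogeneous maps, exactness of the graded dual,
uniqueness of graded duals (helper29). -/

set_option autoImplicit false
set_option linter.style.haveILetI false
set_option linter.unusedSectionVars false
open DirectSum

noncomputable section

namespace Groth.Agent.Lib.Helper29.GrDualFun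

open Groth.Agent.Lib.Helper29.GrDualAlg

universe u

variable {k : Type u} [Field k] {R : Type u} [CommRing R] [Algebra k R]
variable {H₁ : Type u} [AddCommGroup H₁] [Module R H₁] [Module k H₁] [IsScalarTower k R H₁]
  {ℋ₁ : ℤ → AddSubgroup H₁} [DirectSum.Decomposition ℋ₁]
variable {D₁ : Type u} [AddCommGroup D₁] [Module R D₁] [Module k D₁] [IsScalarTower k R D₁]
  {𝒟₁ : ℤ → AddSubgroup D₁} [DirectSum.Decomposition 𝒟₁]
variable {β₁ : D₁ →ₗ[k] H₁ →ₗ[k] k} (h₁ : GrSeg.IsGDual R ℋ₁ 𝒟₁ β₁)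
variable {H₂ : Type u} [AddCommGroup H₂] [Module R H₂] [Module k H₂] [IsScalarTower k R H₂]
  {ℋ₂ : ℤ → AddSubgroup H₂} [DirectSum.Decomposition ℋ₂]
variable {D₂ : Type u} [AddCommGroup D₂] [Module R D₂] [Module k D₂] [IsScalarTower k R D₂]
  {𝒟₂ : ℤ → AddSubgroup D₂} [DirectSum.Decomposition 𝒟₂]
variable {β₂ : D₂ →ₗ[k] H₂ →ₗ[k] k} (h₂ : GrSeg.IsGDual R ℋ₂ 𝒟₂ β₂)
variable {H₃ : Type u} [AddCommGroup H₃] [Module R H₃] [Module k H₃] [IsScalarTower k R H₃]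
  {ℋ₃ : ℤ → AddSubgroup H₃} [DirectSum.Decomposition ℋ₃]
variable {D₃ : Type u} [AddCommGroup D₃] [Module R D₃] [Module k D₃] [IsScalarTower k R D₃]
  {𝒟₃ : ℤ → AddSubgroup D₃} [DirectSum.Decomposition 𝒟₃]
variable {β₃ : D₃ →ₗ[k] H₃ →ₗ[k] k} (h₃ : GrSeg.IsGDual R ℋ₃ 𝒟₃ β₃)

section Map

variable (φ : H₁ →ₗ[R] H₂) (hφ : GrLC.IsGrHom ℋ₁ ℋ₂ φ)

include h₁ h₂ hφ in
theorem exists_rep_hom (i : ℤ) (d : D₂) (hd : d ∈ 𝒟₂ i) :
    ∃ κ : D₁, κ ∈ 𝒟₁ i ∧ ∀ x, β₁ κ x = β₂ d (φ x) := by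
  refine gdual_exists_rep h₁ i ((β₂ d) ∘ₗ (φ.restrictScalars k)) ?_
  intro g hg x hx
  exact h₂.vanish i d hd g hg (φ x) (hφ g x hx)

include h₁ h₂ hφ in
theorem exists_rep (d : D₂) : ∃ κ : D₁, ∀ x, β₁ κ x = β₂ d (φ x) := by
  induction d using DirectSum.Decomposition.inductionOn 𝒟₂ with
  | zero => exact ⟨0, fun x => by rw [map_zero, map_zero, LinearMap.zero_apply, LinearMap.zero_apply]⟩
  | @homogeneous i d =>
    obtain ⟨κ, -, hκ⟩ := exists_rep_hom h₁ h₂ φ hφ i d d.2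
    exact ⟨κ, hκ⟩
  | add d d' hd hd' =>
    obtain ⟨κ, hκ⟩ := hd
    obtain ⟨κ', hκ'⟩ := hd'
    exact ⟨κ + κ', fun x => by
      rw [map_add, LinearMap.add_apply, hκ x, hκ' x, map_add, LinearMap.add_apply]⟩

include h₁ h₂ hφ in
/-- The dual map of a homogeneous map. -/
theorem exists_dualMap : ∃ g : D₂ →ₗ[R] D₁, ∀ d x, β₁ (g d) x = β₂ d (φ x) := by
  choose e he using exists_rep h₁ h₂ φ hφ
  refine ⟨{ toFun := e
            map_add' := fun d d' => ?_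
            map_smul' := fun r d => ?_ }, he⟩
  · apply gdual_ext h₁
    intro x
    rw [map_add, LinearMap.add_apply, he, he, he, map_add, LinearMap.add_apply]
  · apply gdual_ext h₁
    intro x
    rw [RingHom.id_apply, h₁.map_smul, he, he, h₂.map_smul, φ.map_smul]

variable (g : D₂ →ₗ[R] D₁) (hg : ∀ d x, β₁ (g d) x = β₂ d (φ x))

include h₁ h₂ hφ hg in
theorem dualMap_isGrHom : GrLC.IsGrHom 𝒟₂ 𝒟₁ g := by
  intro i d hd
  obtain ⟨κ, hκ, hκeq⟩ := exists_rep_hom h₁ h₂ φ hφ i d hd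
  have : g d = κ := by
    apply gdual_ext h₁
    intro x
    rw [hg, hκeq]
  rw [this]
  exact hκ

include h₁ h₂ hφ hg in
theorem dualMap_surjective (hinj : Function.Injective φ) : Function.Surjective g := by
  have hgr := dualMap_isGrHom h₁ h₂ φ hφ g hg
  obtain ⟨s, hs⟩ := LinearMap.exists_leftInverse_of_injective (φ.restrictScalars k)
    (LinearMap.ker_eq_bot.mpr hinj)
  have hs' : ∀ x, s (φ x) = x := fun x => LinearMap.congr_fun hs x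
  intro d₁
  induction d₁ using DirectSum.Decomposition.inductionOn 𝒟₁ with
  | zero => exact ⟨0, map_zero g⟩
  | @homogeneous i d₁ =>
    obtain ⟨d₂, hd₂, hd₂eq⟩ := h₂.exists_eq i ((β₁ (d₁ : D₁)) ∘ₗ s)
    refine ⟨d₂, ?_⟩
    have : g d₂ - (d₁ : D₁) = 0 := by
      apply h₁.eq_zero i _ (sub_mem (hgr i d₂ hd₂) d₁.2)
      intro x hx
      rw [map_sub, LinearMap.sub_apply, hg, hd₂eq (φ x) (hφ _ x hx), LinearMap.comp_apply, hs',
        sub_self]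
    exact sub_eq_zero.mp this
  | add d d' hd hd' =>
    obtain ⟨e, he⟩ := hd
    obtain ⟨e', he'⟩ := hd'
    exact ⟨e + e', by rw [map_add, he, he']⟩

include h₂ hg in
theorem dualMap_injective (hsurj : Function.Surjective φ) : Function.Injective g := by
  rw [injective_iff_map_eq_zero]
  intro d hd
  apply gdual_injective h₂
  intro y
  obtain ⟨x, rfl⟩ := hsurj y
  rw [← hg, hd, map_zero, LinearMap.zero_apply]

end Map

section Exact

variable (φ : H₁ →ₗ[R] H₂) (hφ : GrLC.IsGrHom ℋ₁ ℋ₂ φ)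
  (ψ : H₂ →ₗ[R] H₃) (hψ : GrLC.IsGrHom ℋ₂ ℋ₃ ψ)
  (hex : ∀ y, ψ y = 0 → ∃ x, φ x = y)
  (g₁ : D₂ →ₗ[R] D₁) (hg₁ : ∀ d x, β₁ (g₁ d) x = β₂ d (φ x))
  (g₂ : D₃ →ₗ[R] D₂) (hg₂ : ∀ d y, β₂ (g₂ d) y = β₃ d (ψ y))

include h₁ h₂ h₃ hφ hψ hex hg₁ hg₂ in
theorem dualMap_exact_hom (i : ℤ) (d : D₂) (hd : d ∈ 𝒟₂ i) (h0 : g₁ d = 0) :
    ∃ d₃, g₂ d₃ = d := by
  have hgr₂ := dualMap_isGrHom h₂ h₃ ψ hψ g₂ hg₂
  -- a generalized inverse of ψ
  obtain ⟨s₀, hs₀⟩ := LinearMap.exists_rightInverse_of_surjective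
    ((ψ.restrictScalars k).rangeRestrict) (LinearMap.range_rangeRestrict _)
  obtain ⟨π, hπ⟩ := LinearMap.exists_leftInverse_of_injective
    (LinearMap.range (ψ.restrictScalars k)).subtype
    (LinearMap.ker_eq_bot.mpr (Submodule.subtype_injective _))
  have hkey : ∀ y, ψ (s₀ (π (ψ y))) = ψ y := by
    intro y
    have h1 : π (ψ y) = ⟨ψ y, ⟨y, rfl⟩⟩ :=
      LinearMap.congr_fun hπ (⟨ψ y, ⟨y, rfl⟩⟩ : LinearMap.range (ψ.restrictScalars k))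
    rw [h1]
    have h2 := LinearMap.congr_fun hs₀ (⟨ψ y, ⟨y, rfl⟩⟩ : LinearMap.range (ψ.restrictScalars k))
    exact congrArg Subtype.val h2
  obtain ⟨d₃, hd₃, hd₃eq⟩ := h₃.exists_eq i ((β₂ d) ∘ₗ (s₀ ∘ₗ π))
  refine ⟨d₃, ?_⟩
  have : g₂ d₃ - d = 0 := by
    apply h₂.eq_zero i _ (sub_mem (hgr₂ i d₃ hd₃) hd)
    intro y hy
    rw [map_sub, LinearMap.sub_apply, hg₂, hd₃eq (ψ y) (hψ _ y hy), LinearMap.comp_apply,
      LinearMap.comp_apply]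
    obtain ⟨x, hx⟩ := hex (s₀ (π (ψ y)) - y) (by rw [map_sub, hkey, sub_self])
    have h3 : β₂ d (s₀ (π (ψ y)) - y) = 0 := by
      rw [← hx, ← hg₁, h0, map_zero, LinearMap.zero_apply]
    rw [map_sub] at h3
    exact h3
  exact sub_eq_zero.mp this

include h₁ h₂ h₃ hφ hψ hex hg₁ hg₂ in
/-- Exactness of the graded dual. -/
theorem dualMap_exact (d : D₂) (h0 : g₁ d = 0) : ∃ d₃, g₂ d₃ = d := by
  classical
  have hgr₁ := dualMap_isGrHom h₁ h₂ φ hφ g₁ hg₁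
  have hcomp : ∀ i, g₁ ((decompose 𝒟₂ d) i : D₂) = 0 := by
    intro i
    rw [← Groth.Agent.Lib.Helper29GrHom.decompose_map 𝒟₁ 𝒟₂ g₁ hgr₁ d i, h0, decompose_zero]
    rfl
  choose e he using fun i => dualMap_exact_hom h₁ h₂ h₃ φ hφ ψ hψ hex g₁ hg₁ g₂ hg₂ i
    ((decompose 𝒟₂ d) i : D₂) (SetLike.coe_mem _) (hcomp i)
  refine ⟨∑ i ∈ (decompose 𝒟₂ d).support, e i, ?_⟩
  rw [map_sum]
  conv_rhs => rw [← DirectSum.sum_support_decompose 𝒟₂ d]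
  exact Finset.sum_congr rfl (fun i _ => he i)

end Exact

section Steps

variable (δ : H₁ →ₗ[R] H₂) (hδ : GrLC.IsGrHom ℋ₁ ℋ₂ δ)

include h₁ h₂ hδ in
/-- A bijective homogeneous map induces an isomorphism of graded duals. -/
theorem nonempty_equiv_of_bijective (hb : Function.Bijective δ) : Nonempty (D₂ ≃ₗ[R] D₁) := by
  obtain ⟨g, hg⟩ := exists_dualMap h₁ h₂ δ hδ
  exact ⟨LinearEquiv.ofBijective g ⟨dualMap_injective h₂ δ g hg hb.2,
    dualMap_surjective h₁ h₂ δ hδ g hg hb.1⟩⟩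

variable (ψ : H₂ →ₗ[R] H₃) (hψ : GrLC.IsGrHom ℋ₂ ℋ₃ ψ)
  (hinj : Function.Injective δ) (hex : ∀ y, ψ y = 0 ↔ ∃ x, δ x = y)
  (g₂ : D₃ →ₗ[R] D₂) (hg₂ : ∀ d y, β₂ (g₂ d) y = β₃ d (ψ y))

include h₁ h₂ h₃ hδ hψ hinj hex hg₂ in
/-- The graded dual of a kernel is the cokernel of the dual map. -/
theorem nonempty_equiv_quotient : Nonempty (D₁ ≃ₗ[R] (D₂ ⧸ LinearMap.range g₂)) := by
  obtain ⟨g, hg⟩ := exists_dualMap h₁ h₂ δ hδ
  have hsurj := dualMap_surjective h₁ h₂ δ hδ g hg hinj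
  have hker : LinearMap.ker g = LinearMap.range g₂ := by
    apply le_antisymm
    · intro d hd
      exact dualMap_exact h₁ h₂ h₃ δ hδ ψ hψ (fun y hy => (hex y).mp hy) g hg g₂ hg₂ d hd
    · rintro _ ⟨d₃, rfl⟩
      rw [LinearMap.mem_ker]
      apply gdual_injective h₁
      intro x
      rw [hg, hg₂, (hex (δ x)).mpr ⟨x, rfl⟩, map_zero]
  exact ⟨((Submodule.quotEquivOfEq _ _ hker.symm).trans
    (g.quotKerEquivOfSurjective hsurj)).symm⟩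

end Steps

end Groth.Agent.Lib.Helper29.GrDualFun
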