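import Groth.Agent.Lib.Helper29GrDualAlg

/-! The isomorphism `(M ⊗ H)^* ≅ Hom_R(M, H^*)` with its characterizing formula, and its
naturality in `M` (helper29). -/

set_option autoImplicit false
set_option linter.style.haveILetI false
set_option linter.unusedSectionVars false
open DirectSum TensorProduct

noncomputable section

namespace Groth.Agent.Lib.Helper29.GrDualNat

open Groth.Agent.Lib.Helper29.GrDualAlg

universe u

variable {k : Type u} [Field k] {R : Type u} [CommRing R] [Algebra k R]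
  (𝒜 : ℤ → AddSubgroup R) [GradedRing 𝒜]
variable {H : Type u} [AddCommGroup H] [Module R H] [Module k H] [IsScalarTower k R H]
  {ℋ : ℤ → AddSubgroup H} [DirectSum.Decomposition ℋ]
variable {K : Type u} [AddCommGroup K] [Module R K] [Module k K] [IsScalarTower k R K]
  {𝒦 : ℤ → AddSubgroup K} [DirectSum.Decomposition 𝒦] [SetLike.GradedSMul 𝒜 𝒦]
variable {βK : K →ₗ[k] H →ₗ[k] k} (hK : GrSeg.IsGDual R ℋ 𝒦 βK)
variable {M : Type u} [AddCommGroup M] [Module R M] {ℳ : ℤ → AddSubgroup M}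
  [DirectSum.Decomposition ℳ] [SetLike.GradedSMul 𝒜 ℳ] [Module.Finite R M]
variable {HM : Type u} [AddCommGroup HM] [Module R HM] [Module k HM] [IsScalarTower k R HM]
  {ℋM : ℤ → AddSubgroup HM} [DirectSum.Decomposition ℋM]
variable {D : Type u} [AddCommGroup D] [Module R D] [Module k D] [IsScalarTower k R D]
  {𝒟 : ℤ → AddSubgroup D} [DirectSum.Decomposition 𝒟]
variable {βD : D →ₗ[k] HM →ₗ[k] k} (hD : GrSeg.IsGDual R ℋM 𝒟 βD)
variable (T : M ⊗[R] H ≃ₗ[R] HM)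
  (hT : ∀ (j : ℤ) (x : M), x ∈ ℳ j → ∀ (g : ℤ) (h : H), h ∈ ℋ g → T (x ⊗ₜ h) ∈ ℋM (g + j))

include 𝒜 hK hD hT in
/-- The graded dual of `HM ≅ M ⊗ H` is `Hom_R(M, K)`, with the characterizing formula. -/
theorem exists_dual_equiv_char : ∃ ε : D ≃ₗ[R] (M →ₗ[R] K),
    (∀ d x h, βK (ε d x) h = βD d (T (x ⊗ₜ h))) ∧
    ∀ (i : ℤ) (d : D), d ∈ 𝒟 i → GrLC.IsGrHomDeg ℳ 𝒦 (ε d) i := by
  obtain ⟨ε, hε⟩ := exists_eps hK hD T hT
  have hinj : Function.Injective ε := by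
    rw [injective_iff_map_eq_zero]
    intro d hd
    apply gdual_injective hD
    intro y
    obtain ⟨t, rfl⟩ := T.surjective y
    induction t using TensorProduct.induction_on with
    | zero => rw [map_zero, map_zero]
    | tmul x h =>
      rw [← hε, hd, LinearMap.zero_apply, map_zero, LinearMap.zero_apply]
    | add a b ha hb => rw [map_add, map_add, ha, hb, add_zero]
  have hsurj : Function.Surjective ε := by
    intro φ
    obtain ⟨Dset, hsum⟩ := Groth.Agent.Lib.Helper29GrBaer.exists_sum_part 𝒜 ℳ 𝒦 φ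
    choose! pre hpre using fun d' : ℤ => exists_preimage_hom hK hD T hT ε hε d'
      (Groth.Agent.Lib.Helper29GrBaer.part 𝒜 ℳ 𝒦 φ d')
      (Groth.Agent.Lib.Helper29GrBaer.part_isGrHomDeg 𝒜 ℳ 𝒦 φ d')
    refine ⟨∑ d' ∈ Dset, pre d', ?_⟩
    rw [map_sum, ← hsum]
    exact Finset.sum_congr rfl (fun d' _ => hpre d')
  refine ⟨LinearEquiv.ofBijective ε ⟨hinj, hsurj⟩, fun d x h => hε d x h, ?_⟩
  intro i d hd j x hx
  obtain ⟨κ, hκ, hκeq⟩ := exists_rep_hom hK hD T hT i j d hd x hx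
  have : ε d x = κ := by
    apply gdual_ext hK
    intro h
    rw [hε, hκeq]
  change ε d x ∈ 𝒦 (j + i)
  rw [this]
  exact hκ

section Nat

variable {M' : Type u} [AddCommGroup M'] [Module R M']
variable {HM' : Type u} [AddCommGroup HM'] [Module R HM'] [Module k HM'] [IsScalarTower k R HM']
variable {D' : Type u} [AddCommGroup D'] [Module R D'] [Module k D'] [IsScalarTower k R D']
variable {βD' : D' →ₗ[k] HM' →ₗ[k] k}
variable (T' : M' ⊗[R] H ≃ₗ[R] HM')

include hK in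
/-- Naturality of `(M ⊗ H)^* ≅ Hom_R(M, H^*)`. -/
theorem eps_natural (ε : D →ₗ[R] (M →ₗ[R] K))
    (hε : ∀ d x h, βK (ε d x) h = βD d (T (x ⊗ₜ h)))
    (ε' : D' →ₗ[R] (M' →ₗ[R] K))
    (hε' : ∀ d x h, βK (ε' d x) h = βD' d (T' (x ⊗ₜ h)))
    (f : M →ₗ[R] M') (Hf : HM →ₗ[R] HM') (hHf : ∀ x h, Hf (T (x ⊗ₜ h)) = T' (f x ⊗ₜ h))
    (g : D' →ₗ[R] D) (hg : ∀ d' y, βD (g d') y = βD' d' (Hf y)) (d' : D') :
    ε (g d') = (ε' d') ∘ₗ f := by
  apply LinearMap.ext
  intro x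
  apply gdual_ext hK
  intro h
  rw [hε, hg, hHf, LinearMap.comp_apply, hε']

end Nat

end Groth.Agent.Lib.Helper29.GrDualNat
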