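import Groth.Agent.Lib.Helper29GrDualExist

/-! Transport of a perfect graded pairing over `S` along a finite homogeneous ring map `R → S`
inducing an isomorphism in degree zero, and along a semilinear homogeneous bijection (helper29). -/

set_option autoImplicit false
set_option linter.style.haveILetI false
set_option linter.unusedSectionVars false
universe u
open DirectSum

noncomputable section

namespace Groth.Agent.Lib.Helper29.GrDualTransport

open Groth.Agent.Lib.Helper29.GrDualExist Groth.Agent.Lib.Helper8.VerDual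

section Inverse

variable {A B : Type u} [AddCommGroup A] [AddCommGroup B]
  (𝓐 : ℤ → AddSubgroup A) [DirectSum.Decomposition 𝓐]
  (𝓑 : ℤ → AddSubgroup B) [DirectSum.Decomposition 𝓑]

/-- A homogeneous additive map commutes with taking homogeneous components. -/
theorem decompose_map_add (β : A →+ B) (hβ : ∀ (g : ℤ) (x : A), x ∈ 𝓐 g → β x ∈ 𝓑 g) (x : A)
    (i : ℤ) : ((decompose 𝓑 (β x)) i : B) = β ((decompose 𝓐 x) i) := by
  classical
  induction x using DirectSum.Decomposition.inductionOn 𝓐 with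
  | zero => simp
  | @homogeneous j x =>
    have hx : β (x : A) ∈ 𝓑 j := hβ j x x.2
    by_cases h : j = i
    · subst h
      rw [DirectSum.decompose_of_mem_same _ hx, DirectSum.decompose_of_mem_same _ x.2]
    · rw [DirectSum.decompose_of_mem_ne _ hx h, DirectSum.decompose_of_mem_ne _ x.2 h, map_zero]
  | add x y hx hy =>
    rw [map_add, DirectSum.decompose_add, DirectSum.decompose_add, DirectSum.add_apply,
      DirectSum.add_apply, AddSubgroup.coe_add, AddSubgroup.coe_add, hx, hy, map_add]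

/-- The inverse of a homogeneous additive bijection is homogeneous. -/
theorem symm_mem (Θ : A ≃+ B) (hΘ : ∀ (g : ℤ) (x : A), x ∈ 𝓐 g → Θ x ∈ 𝓑 g) (g : ℤ) (y : B)
    (hy : y ∈ 𝓑 g) : Θ.symm y ∈ 𝓐 g := by
  classical
  have h1 : ∀ i, i ≠ g → ((decompose 𝓐 (Θ.symm y)) i : A) = 0 := by
    intro i hi
    apply Θ.injective
    rw [map_zero, ← AddEquiv.coe_toAddMonoidHom,
      ← decompose_map_add 𝓐 𝓑 Θ.toAddMonoidHom hΘ (Θ.symm y) i]
    show ((decompose 𝓑 (Θ (Θ.symm y))) i : B) = 0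
    rw [AddEquiv.apply_symm_apply, DirectSum.decompose_of_mem_ne 𝓑 hy (Ne.symm hi)]
  have h2 : Θ.symm y = ((decompose 𝓐 (Θ.symm y)) g : A) := by
    conv_lhs => rw [← DirectSum.sum_support_decompose 𝓐 (Θ.symm y)]
    by_cases hg : g ∈ (decompose 𝓐 (Θ.symm y)).support
    · rw [Finset.sum_eq_single_of_mem g hg (fun i _ hi => h1 i hi)]
    · rw [DFinsupp.notMem_support_iff] at hg
      rw [hg, ZeroMemClass.coe_zero]
      apply Finset.sum_eq_zero
      intro i hi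
      have hne : i ≠ g := by
        rintro rfl
        exact (DFinsupp.mem_support_iff.mp hi) hg
      exact h1 i hne
  rw [h2]
  exact SetLike.coe_mem _

end Inverse


section Transport

variable {R : Type u} [CommRing R] {S : Type u} [CommRing S] [Algebra R S]
  (𝒜 : ℤ → AddSubgroup R) [GradedRing 𝒜] (𝒜' : ℤ → AddSubgroup S) [GradedRing 𝒜']
  (hf0 : (𝒜 0).map (algebraMap R S : R →+ S) = 𝒜' 0)
  (h0 : IsField (GrLC.deg0 𝒜)) (h0' : IsField (GrLC.deg0 𝒜'))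

/-- The map induced in degree zero. -/
def φ0 : ↥(GrLC.deg0 𝒜) →+* ↥(GrLC.deg0 𝒜') :=
  (algebraMap R S).restrict (GrLC.deg0 𝒜) (GrLC.deg0 𝒜') (fun x hx => by
    have h : algebraMap R S x ∈ (𝒜 0).map (algebraMap R S : R →+ S) := ⟨x, hx, rfl⟩
    rw [hf0] at h
    exact h)

theorem φ0_coe (t : ↥(GrLC.deg0 𝒜)) :
    ((φ0 𝒜 𝒜' hf0 t : ↥(GrLC.deg0 𝒜')) : S) = algebraMap R S (t : R) := rfl

include h0 h0' in
theorem φ0_bijective : Function.Bijective (φ0 𝒜 𝒜' hf0) := by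
  constructor
  · rw [injective_iff_map_eq_zero]
    intro t ht
    by_contra hne
    obtain ⟨u, hu⟩ := h0.mul_inv_cancel hne
    have h1 : φ0 𝒜 𝒜' hf0 t * φ0 𝒜 𝒜' hf0 u = 1 := by rw [← map_mul, hu, map_one]
    rw [ht, zero_mul] at h1
    obtain ⟨x, y, hxy⟩ := h0'.exists_pair_ne
    apply hxy
    rw [← mul_one x, ← mul_one y, ← h1, mul_zero, mul_zero]
  · rintro ⟨s, hs⟩
    have hs' : s ∈ (𝒜 0).map (algebraMap R S : R →+ S) := by rw [hf0]; exact hs
    obtain ⟨r, hr, rfl⟩ := hs'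
    exact ⟨⟨r, hr⟩, rfl⟩

/-- The isomorphism of the degree-zero fields. -/
def σ : ↥(GrLC.deg0 𝒜) ≃+* ↥(GrLC.deg0 𝒜') :=
  RingEquiv.ofBijective (φ0 𝒜 𝒜' hf0) (φ0_bijective 𝒜 𝒜' hf0 h0 h0')

theorem σ_coe (t : ↥(GrLC.deg0 𝒜)) :
    ((σ 𝒜 𝒜' hf0 h0 h0' t : ↥(GrLC.deg0 𝒜')) : S) = algebraMap R S (t : R) := rfl

variable {H' : Type u} [AddCommGroup H'] [Module S H'] (ℋ' : ℤ → AddSubgroup H')
  [DirectSum.Decomposition ℋ']
  {H : Type u} [AddCommGroup H] [Module R H] (ℋ : ℤ → AddSubgroup H) [DirectSum.Decomposition ℋ]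
  (Θ : H' ≃+ H) (hΘs : ∀ (r : R) (x : H'), Θ (algebraMap R S r • x) = r • Θ x)
  (hΘg : ∀ (γ : ℤ) (x : H'), x ∈ ℋ' γ → Θ x ∈ ℋ γ)
  {C' : Type u} [AddCommGroup C'] [Module S C'] [Module R C'] [IsScalarTower R S C']
  (𝒞' : ℤ → AddSubgroup C') (PP' : PerfPairing 𝒜' 𝒞' ℋ')

include hΘs in
theorem symm_smul (r : R) (y : H) : Θ.symm (r • y) = algebraMap R S r • Θ.symm y := by
  apply Θ.injective
  rw [hΘs, AddEquiv.apply_symm_apply, AddEquiv.apply_symm_apply]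

include hf0 h0 h0' PP' hΘs hΘg in
/-- Transport of a perfect pairing over `S` to a dual pairing over `R`. -/
theorem exists_transport : ∃ P : C' → H → ↥(GrLC.deg0 𝒜), DualPairing 𝒜 ℋ 𝒞' P := by
  refine ⟨fun c y => (σ 𝒜 𝒜' hf0 h0 h0').symm (PP'.P c (Θ.symm y)), ?_, ?_, ?_, ?_, ?_, ?_, ?_⟩
  · intro c c' y
    show (σ 𝒜 𝒜' hf0 h0 h0').symm (PP'.P (c + c') (Θ.symm y)) = _
    rw [PP'.add_left, map_add]
  · intro c y y'
    show (σ 𝒜 𝒜' hf0 h0 h0').symm (PP'.P c (Θ.symm (y + y'))) = _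
    rw [map_add, PP'.add_right, map_add]
  · intro r c y
    show (σ 𝒜 𝒜' hf0 h0 h0').symm (PP'.P (r • c) (Θ.symm y)) =
      (σ 𝒜 𝒜' hf0 h0 h0').symm (PP'.P c (Θ.symm (r • y)))
    rw [symm_smul Θ hΘs, ← algebraMap_smul S r c, PP'.smul]
  · intro t c y
    show (σ 𝒜 𝒜' hf0 h0 h0').symm (PP'.P ((t : R) • c) (Θ.symm y)) =
      t * (σ 𝒜 𝒜' hf0 h0 h0').symm (PP'.P c (Θ.symm y))
    rw [← algebraMap_smul S (t : R) c, ← σ_coe 𝒜 𝒜' hf0 h0 h0' t, PP'.smul, PP'.smul_right,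
      map_mul, RingEquiv.symm_apply_apply]
  · intro n c hc j hj y hy
    show (σ 𝒜 𝒜' hf0 h0 h0').symm (PP'.P c (Θ.symm y)) = 0
    have h1 := symm_mem ℋ' ℋ Θ hΘg j y hy
    rw [PP'.graded (i := n) (d := j) (fun h => hj (by omega)) hc h1, map_zero]
  · intro n c hc h
    apply PP'.ndl hc
    intro x hx
    have h1 : (σ 𝒜 𝒜' hf0 h0 h0').symm (PP'.P c (Θ.symm (Θ x))) = 0 := h (Θ x) (hΘg _ x hx)
    rw [AddEquiv.symm_apply_apply] at h1
    exact (map_eq_zero_iff _ (σ 𝒜 𝒜' hf0 h0 h0').symm.injective).mp h1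
  · intro n g
    obtain ⟨v, hv, hvm⟩ := PP'.rep n (fun x => σ 𝒜 𝒜' hf0 h0 h0' (g (Θ x)))
      (fun x _ y _ => by
        show σ 𝒜 𝒜' hf0 h0 h0' (g (Θ (x + y))) = _
        rw [map_add, map_add, map_add])
      (fun t' x _ => by
        show σ 𝒜 𝒜' hf0 h0 h0' (g (Θ ((t' : S) • x))) = t' * σ 𝒜 𝒜' hf0 h0 h0' (g (Θ x))
        obtain ⟨t, rfl⟩ := (σ 𝒜 𝒜' hf0 h0 h0').surjective t'
        rw [σ_coe, hΘs]
        have : ((t : R) • Θ x) = t • Θ x := rfl
        rw [this, map_smul, smul_eq_mul, map_mul])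
    refine ⟨v, hv, fun y hy => ?_⟩
    show (σ 𝒜 𝒜' hf0 h0 h0').symm (PP'.P v (Θ.symm y)) = g y
    rw [hvm _ (symm_mem ℋ' ℋ Θ hΘg _ y hy), RingEquiv.symm_apply_apply,
      AddEquiv.apply_symm_apply]

end Transport

end Groth.Agent.Lib.Helper29.GrDualTransport
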