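import Groth.Agent.Lib.Helper29GrPolyLC
import Groth.Agent.Lib.Helper13RegLin

/-! Eisenbud–Goto: for a minimal graded free resolution `F` of a finitely generated graded module
`M` over a polynomial ring, `F` is generated in degrees `≤ d + i` iff the graded local cohomology
of `M` vanishes in degrees `> d - i` (helper29). -/

set_option autoImplicit false
set_option linter.style.haveILetI false
set_option linter.unusedSectionVars false
open DirectSum

noncomputable section

namespace Groth.Agent.Lib.Helper29GrEG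

open Groth.Agent.Lib.Helper29GrHV Groth.Agent.Lib.Helper29GrHV2 Groth.Agent.Lib.Helper29GrFree
  Groth.Agent.Lib.Helper29GrStdPoly Groth.Agent.Lib.Helper29GrPolyLC
  Groth.Agent.Lib.Helper29GrConv Groth.Agent.Lib.Helper29GrMumford
  Groth.Agent.Lib.Helper29GrKoszulCone

universe u

variable {k : Type u} [Field k] {n : ℕ}
variable {M : Type u} [AddCommGroup M] [Module k M] [Module (MvPolynomial (Fin n) k) M]
  {ℳ : ℤ → Submodule k M} [DirectSum.Decomposition ℳ]
  [SetLike.GradedSMul (GrSyz.stdGr k (Fin n)) ℳ]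
  (F : GrSyz.FreeRes (GrSyz.stdGr k (Fin n)) ℳ)

/-- The module as a bundled graded module over the converted grading. -/
def XM (ℳ : ℤ → Submodule k M) [DirectSum.Decomposition ℳ]
    [SetLike.GradedSMul (GrSyz.stdGr k (Fin n)) ℳ] : GrLC.GMod.{u} (A k n) :=
  { carrier := M, gr := asGr ℳ }

theorem dLin_gr (i : ℕ) : GrLC.IsGrHom (freeGr (A k n) (F.deg (i + 1)))
    (freeGr (A k n) (F.deg i)) (F.dLin i) := by
  intro γ v hv a
  show (F.dLin i v) a ∈ A k n (γ - F.deg i a)
  rw [Matrix.mulVecLin_apply]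
  show ∑ b, F.d i a b * v b ∈ A k n (γ - F.deg i a)
  refine sum_mem fun b _ => ?_
  have h1 : F.d i a b ∈ A k n (F.deg (i + 1) b - F.deg i a) := F.d_mem i a b
  have h2 : v b ∈ A k n (γ - F.deg (i + 1) b) := hv b
  have h3 := SetLike.GradedMul.mul_mem (A := A k n) h1 h2
  rw [show F.deg (i + 1) b - F.deg i a + (γ - F.deg (i + 1) b) = γ - F.deg i a by ring] at h3
  exact h3

theorem augLin_gr : GrLC.IsGrHom (freeGr (A k n) (F.deg 0)) (asGr ℳ) F.augLin := by
  intro γ v hv
  show F.augLin v ∈ asGr ℳ γ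
  rw [Fintype.linearCombination_apply]
  refine sum_mem fun b _ => ?_
  have h1 : F.aug b ∈ asGr ℳ (F.deg 0 b) := F.aug_mem b
  have h2 : v b ∈ A k n (γ - F.deg 0 b) := hv b
  have h3 := SetLike.GradedSMul.smul_mem (A := A k n) (B := asGr ℳ) h2 h1
  rw [vadd_eq_add, sub_add_cancel] at h3
  exact h3

theorem coord_mem_of_mem_range (hF : F.IsMinimal (GrSyz.irrel (GrSyz.stdGr k (Fin n))).toIdeal)
    (i : ℕ) (v : Fin (F.rk i) → MvPolynomial (Fin n) k) (hv : v ∈ LinearMap.range (F.dLin i))
    (a : Fin (F.rk i)) : v a ∈ (mm k n).toIdeal := by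
  obtain ⟨w, rfl⟩ := hv
  rw [Matrix.mulVecLin_apply]
  show ∑ b, F.d i a b * w b ∈ (mm k n).toIdeal
  exact Ideal.sum_mem _ fun b _ => Ideal.mul_mem_right _ _ (hF i a b)

/-- A stage of the resolution: a graded module `W` covered by `F_i` with kernel the image of
`F_{i+1}`. -/
structure Stage (i : ℕ) where
  W : GrLC.GMod.{u} (A k n)
  π : (Fin (F.rk i) → MvPolynomial (Fin n) k) →ₗ[MvPolynomial (Fin n) k] W.carrier
  hg : GrLC.IsGrHom (freeGr (A k n) (F.deg i)) W.gr π
  hs : Function.Surjective π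
  hk : LinearMap.ker π = LinearMap.range (F.dLin i)

/-- The next stage: the syzygy module. -/
def Stage.next {i : ℕ} (T : Stage F i) : Stage F (i + 1) where
  W := subGMod (freeGMod (A k n) (F.deg i)) (LinearMap.ker T.π)
    (ker_hom (X₁ := freeGMod (A k n) (F.deg i)) (X₀ := T.W) T.π T.hg)
  π := LinearMap.codRestrict (LinearMap.ker T.π) (F.dLin i) (fun v => by
    rw [T.hk]
    exact ⟨v, rfl⟩)
  hg := fun γ v hv => dLin_gr F i γ v hv
  hs := by
    rintro ⟨w, hw⟩
    have hw' : w ∈ LinearMap.range (F.dLin i) := T.hk ▸ hw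
    obtain ⟨v, rfl⟩ := hw'
    exact ⟨v, rfl⟩
  hk := by
    rw [← F.exact_succ i]
    ext v
    exact ⟨fun hv => congrArg Subtype.val hv, fun hv => Subtype.ext hv⟩

/-- The zeroth stage: the module itself. -/
def stage0 : Stage F 0 where
  W := XM ℳ
  π := F.augLin
  hg := augLin_gr F
  hs := F.aug_surjective
  hk := F.exact_zero

/-- All stages. -/
def stage : ∀ i : ℕ, Stage F i
  | 0 => stage0 F
  | i + 1 => (stage i).next

variable [IsNoetherianRing (MvPolynomial (Fin n) k)]

theorem exists_gens : ∃ xs : List (MvPolynomial (Fin n) k), (∀ x ∈ xs, x ∈ A k n 1) ∧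
    (mm k n).toIdeal = Ideal.span {x | x ∈ xs} :=
  exists_list_gens (a := mm k n) (hhom k n)

theorem mm_ne_top : (mm k n).toIdeal ≠ ⊤ :=
  (Groth.Agent.Helper13FreeRes.isMaximal_irrel_stdGr k (Fin n)).ne_top

/-- Local-cohomology regularity of `M` forces the degrees of a minimal resolution. -/
theorem genLE_of_reg (hF : F.IsMinimal (GrSyz.irrel (GrSyz.stdGr k (Fin n))).toIdeal) (d : ℤ)
    (hM : Reg (mm k n) (XM ℳ) d) :
    ∀ i : ℕ, Reg (mm k n) (stage F i).W (d + i) ∧ ∀ b, F.deg i b ≤ d + i := by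
  obtain ⟨xs, hxs, hxa⟩ := exists_gens (k := k) (n := n)
  have key : ∀ i : ℕ, Reg (mm k n) (stage F i).W (d + i) →
      (∀ b, F.deg i b ≤ d + i) ∧ Reg (mm k n) (stage F (i + 1)).W (d + (i + 1 : ℕ)) := by
    intro i hi
    have hdeg : ∀ b, F.deg i b ≤ d + i :=
      deg_le_of_reg xs hxs hxa mm_ne_top (stage F i).W (F.deg i) (stage F i).π (stage F i).hg
        (stage F i).hs (fun v hv b => coord_mem_of_mem_range F hF i v
          ((stage F i).hk ▸ (LinearMap.mem_ker.mpr hv)) b) (d + i) hi
    refine ⟨hdeg, ?_⟩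
    have h := reg_ker (zeroReg k n) (stage F i).W (F.deg i) (stage F i).π (stage F i).hg
      (stage F i).hs (d + i) hdeg hi
    rw [show d + ((i + 1 : ℕ) : ℤ) = d + i + 1 by push_cast; ring]
    exact h
  intro i
  induction i with
  | zero =>
    have h0 : Reg (mm k n) (stage F 0).W (d + (0 : ℕ)) := by
      rw [Nat.cast_zero, add_zero]
      exact hM
    exact ⟨h0, (key 0 h0).1⟩
  | succ i ih =>
    have h1 := (key i ih.1).2
    exact ⟨h1, (key (i + 1) h1).1⟩

/-- A minimal resolution generated in degrees `≤ d + i` of finite length forces the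
local-cohomology regularity of `M`. -/
theorem reg_of_genLE (L : ℕ) (hL : F.HasLengthLE L) (d : ℤ) (hd : F.IsGenLE d) :
    Reg (mm k n) (XM ℳ) d := by
  have key : ∀ (m i : ℕ), i + m = L + 1 → Reg (mm k n) (stage F i).W (d + i) := by
    intro m
    induction m with
    | zero =>
      intro i hi
      have hrk : F.rk i = 0 := hL i (by omega)
      have hemp : IsEmpty (Fin (F.rk i)) := by
        rw [hrk]
        exact Fin.isEmpty
      have hsub : Subsingleton (stage F i).W.carrier := by
        refine ⟨fun x y => ?_⟩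
        obtain ⟨v, rfl⟩ := (stage F i).hs x
        obtain ⟨w, rfl⟩ := (stage F i).hs y
        rw [Subsingleton.elim v w]
      intro t _ j
      exact HV_of_subsingleton _ j _
    | succ m ih =>
      intro i hi
      have h1 := ih (i + 1) (by omega)
      rw [show d + ((i + 1 : ℕ) : ℤ) = d + i + 1 by push_cast; ring] at h1
      exact reg_quot (zeroReg k n) (stage F i).W (F.deg i) (stage F i).π (stage F i).hg
        (stage F i).hs (d + i) (fun b => hd i b) h1
  have := key (L + 1) 0 (by omega)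
  rw [Nat.cast_zero, add_zero] at this
  exact this

end Groth.Agent.Lib.Helper29GrEG
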