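import Groth.Agent.Lib.Helper29GrEG
import Groth.Agent.Lib.Helper29GrDRegConv

/-! Eisenbud–Goto in the `endDeg` formulation (helper29). -/

set_option autoImplicit false
set_option linter.style.haveILetI false
set_option linter.unusedSectionVars false
open DirectSum

noncomputable section

namespace Groth.Agent.Lib.Helper29GrEGFinal

open Groth.Agent.Lib.Helper29GrHV Groth.Agent.Lib.Helper29GrHV2 Groth.Agent.Lib.Helper29GrFree
  Groth.Agent.Lib.Helper29GrStdPoly Groth.Agent.Lib.Helper29GrPolyLC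
  Groth.Agent.Lib.Helper29GrConv Groth.Agent.Lib.Helper29GrMumford
  Groth.Agent.Lib.Helper29GrEG Groth.Agent.Lib.Helper29GrDRegConv
  Groth.Agent.Lib.Helper29GrQuasiReg

universe u

theorem add_coe_le_iff (x : WithBot (WithTop ℤ)) (i d : ℤ) :
    x + ((i : WithTop ℤ) : WithBot (WithTop ℤ)) ≤ ((d : WithTop ℤ) : WithBot (WithTop ℤ)) ↔
      x ≤ (((d - i : ℤ) : WithTop ℤ) : WithBot (WithTop ℤ)) := by
  induction x using WithBot.recBotCoe with
  | bot => simp
  | coe y =>
    induction y using WithTop.recTopCoe with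
    | top =>
      rw [← WithBot.coe_add, WithTop.top_add, WithBot.coe_le_coe, WithBot.coe_le_coe]
      simp
    | coe m =>
      rw [← WithBot.coe_add, ← WithTop.coe_add, WithBot.coe_le_coe, WithBot.coe_le_coe,
        WithTop.coe_le_coe, WithTop.coe_le_coe]
      constructor <;> intro h <;> omega

theorem iInf_coe_eq (x : WithBot (WithTop ℤ)) :
    ⨅ (r : ℤ) (_ : x ≤ ((r : WithTop ℤ) : WithBot (WithTop ℤ))),
      ((r : WithTop ℤ) : WithBot (WithTop ℤ)) = x := by
  apply le_antisymm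
  · have key : ∀ r : ℤ, x ≤ ((r : WithTop ℤ) : WithBot (WithTop ℤ)) →
        (⨅ (r : ℤ) (_ : x ≤ ((r : WithTop ℤ) : WithBot (WithTop ℤ))),
          ((r : WithTop ℤ) : WithBot (WithTop ℤ))) ≤ ((r : WithTop ℤ) : WithBot (WithTop ℤ)) :=
      fun r hr => iInf₂_le (f := fun (r : ℤ) (_ : x ≤ ((r : WithTop ℤ) : WithBot (WithTop ℤ))) =>
        ((r : WithTop ℤ) : WithBot (WithTop ℤ))) r hr
    induction x using WithBot.recBotCoe with
    | bot =>
      rw [le_bot_iff]
      by_contra hne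
      obtain ⟨y, hy⟩ := WithBot.ne_bot_iff_exists.mp hne
      induction y using WithTop.recTopCoe with
      | top =>
        have h1 := key 0 bot_le
        rw [← hy, WithBot.coe_le_coe] at h1
        simp at h1
      | coe m =>
        have h1 := key (m - 1) bot_le
        rw [← hy, WithBot.coe_le_coe, WithTop.coe_le_coe] at h1
        omega
    | coe y =>
      induction y using WithTop.recTopCoe with
      | top => exact le_of_le_of_eq le_top WithBot.coe_top.symm
      | coe m => exact key m le_rfl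
  · exact le_iInf₂ fun r hr => hr

theorem eq_of_forall_coe_le_iff (x y : WithBot (WithTop ℤ))
    (h : ∀ d : ℤ, x ≤ ((d : WithTop ℤ) : WithBot (WithTop ℤ)) ↔
      y ≤ ((d : WithTop ℤ) : WithBot (WithTop ℤ))) : x = y := by
  rw [← iInf_coe_eq x, ← iInf_coe_eq y]
  congr 1
  funext r
  rw [h r]

variable {k : Type u} [Field k] {n : ℕ}
variable {M : Type u} [AddCommGroup M] [Module k M] [Module (MvPolynomial (Fin n) k) M]
  {ℳ : ℤ → Submodule k M} [DirectSum.Decomposition ℳ]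
  [SetLike.GradedSMul (GrSyz.stdGr k (Fin n)) ℳ]

/-- The converted resolution, as a resolution of the bundled module. -/
def resX (E : GrLC.StarInjRes (GrSyz.stdGr k (Fin n)) ℳ) :
    GrLC.StarInjRes (A k n) (XM (n := n) ℳ).gr :=
  (resAS E : GrLC.StarInjRes (asGr (GrSyz.stdGr k (Fin n))) (asGr ℳ))

theorem Hcomp_resX_eq_bot_iff (E : GrLC.StarInjRes (GrSyz.stdGr k (Fin n)) ℳ) (i : ℕ) (e : ℤ) :
    (resX E).Hcomp (mm k n) i e = ⊥ ↔
      E.Hcomp (GrSyz.irrel (GrSyz.stdGr k (Fin n))) i e = ⊥ :=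
  Hcomp_resAS_eq_bot_iff E _ i e

/-- `Reg` in terms of a resolution. -/
theorem reg_iff_Hcomp (E : GrLC.StarInjRes (GrSyz.stdGr k (Fin n)) ℳ) (d : ℤ) :
    Reg (mm k n) (XM (n := n) ℳ) d ↔ ∀ (i : ℕ) (e : ℤ), d - i < e →
      E.Hcomp (GrSyz.irrel (GrSyz.stdGr k (Fin n))) i e = ⊥ := by
  constructor
  · intro h i e he
    have h1 := h (e + i) (by omega) i
    rw [add_sub_cancel_right, HV_iff (mm k n) (XM (n := n) ℳ) (resX E)] at h1
    exact (Hcomp_resX_eq_bot_iff E i e).mp h1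
  · intro h t ht j
    rw [HV_iff (mm k n) (XM (n := n) ℳ) (resX E)]
    exact (Hcomp_resX_eq_bot_iff E j _).mpr (h j _ (by omega))

/-- `Reg` in terms of `endDeg`. -/
theorem reg_iff_endDeg (E : GrLC.StarInjRes (GrSyz.stdGr k (Fin n)) ℳ) (d : ℤ) :
    Reg (mm k n) (XM (n := n) ℳ) d ↔ ∀ i : ℕ,
      GrLC.endDeg (E.Hgr (GrSyz.irrel (GrSyz.stdGr k (Fin n))) i) +
        (((i : ℤ) : WithTop ℤ) : WithBot (WithTop ℤ)) ≤ ((d : WithTop ℤ) : WithBot (WithTop ℤ)) := by
  rw [reg_iff_Hcomp E]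
  constructor
  · intro h i
    rw [add_coe_le_iff, endDeg_Hgr_le_iff]
    exact h i
  · intro h i
    have := h i
    rw [add_coe_le_iff, endDeg_Hgr_le_iff] at this
    exact this

/-- `Reg` in terms of `d`-regularity. -/
theorem reg_iff_dReg (E : GrLC.StarInjRes (GrSyz.stdGr k (Fin n)) ℳ) (d : ℤ) :
    Reg (mm k n) (XM (n := n) ℳ) d ↔
      (GrLC.endDeg (E.Hgr (GrSyz.irrel (GrSyz.stdGr k (Fin n))) 0) ≤
          ((d : WithTop ℤ) : WithBot (WithTop ℤ)) ∧
        ∀ i : ℕ, 0 < i → E.Hcomp (GrSyz.irrel (GrSyz.stdGr k (Fin n))) i (d - (i : ℤ) + 1) = ⊥) := by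
  rw [dReg_iff, reg_iff_Hcomp E]
  constructor
  · intro h
    refine ⟨fun e he => ?_, fun i _ => ?_⟩
    · refine (Hcomp_resAS_eq_bot_iff E _ 0 e).mpr (h 0 e ?_)
      rw [Nat.cast_zero, sub_zero]
      exact he
    · exact (Hcomp_resAS_eq_bot_iff E _ i _).mpr (h i _ (by omega))
  · intro h i e he
    have h1 := dReg_all (mm k n) (hhom k n) (resAS E) d h (e + i) (by omega) i
    rw [add_sub_cancel_right] at h1
    exact (Hcomp_resAS_eq_bot_iff E _ i e).mp h1

end Groth.Agent.Lib.Helper29GrEGFinal
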