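import Groth.Agent.Lib.Helper29GrConeLES2
import Groth.Agent.Lib.Helper29EulerLES
import Groth.Agent.Lib.Helper29GrCompareMap

/-! Additivity of the Euler characteristic of graded pieces of graded local cohomology along a
short exact sequence of graded modules; independence of lengths from the resolution (helper29). -/

set_option autoImplicit false
set_option linter.style.haveILetI false
set_option linter.unusedSectionVars false
open DirectSum

noncomputable section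

namespace Groth.Agent.Lib.Helper29GrEulerAdd

open Groth.Agent.Lib.Helper29GrConeRes Groth.Agent.Lib.Helper29GrResCompare
  Groth.Agent.Lib.Helper29GrConeLES Groth.Agent.Lib.Helper29GrHmap
  Groth.Agent.Lib.Helper29GrConeFin Groth.Agent.Lib.Helper29GrConeLES2
  Groth.Agent.Lib.Helper29GrCompareMap Groth.Agent.Lib.Helper29EulerLES

universe u

variable {ι : Type} [AddCommGroup ι] [DecidableEq ι] [Module.Free ℤ ι] [Module.Finite ℤ ι]
variable {R : Type u} [CommRing R] [IsNoetherianRing R] {𝒜 : ι → AddSubgroup R} [GradedRing 𝒜]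

section Indep

variable {M : Type u} [AddCommGroup M] [Module R M] {ℳ : ι → AddSubgroup M}
  [DirectSum.Decomposition ℳ] [SetLike.GradedSMul 𝒜 ℳ] (a : HomogeneousIdeal 𝒜)

theorem length_Hcomp_le (D F : GrLC.StarInjRes 𝒜 ℳ) (n : ℕ) (γ : ι) :
    Module.length (GrLC.deg0 𝒜) (D.Hcomp a n γ) ≤ Module.length (GrLC.deg0 𝒜) (F.Hcomp a n γ) := by
  classical
  obtain ⟨ψ, hψ⟩ := Groth.Agent.S13243.result (AddMonoidHom.id ι) R 𝒜 𝒜
    (fun h => by simp) a a rfl M ℳ ℳ (fun h => by simp) D F n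
  let f : D.Hcomp a n γ →ₗ[GrLC.deg0 𝒜] F.Hcomp a n γ :=
    (ψ.toLinearMap.restrictScalars (GrLC.deg0 𝒜)).restrict (p := D.Hcomp a n γ)
      (q := F.Hcomp a n γ) (by
        intro x hx
        have hx' : x ∈ ⨆ g ∈ (AddMonoidHom.id ι) ⁻¹' {γ}, D.Hgr a n g := by
          have : D.Hgr a n γ ≤ ⨆ g ∈ (AddMonoidHom.id ι) ⁻¹' {γ}, D.Hgr a n g :=
            le_iSup₂ (f := fun g (_ : g ∈ (AddMonoidHom.id ι) ⁻¹' {γ}) => D.Hgr a n g) γ rfl
          exact this hx
        exact hψ γ x hx')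
  have hf : Function.Injective f := by
    intro x y hxy
    apply Subtype.ext
    apply ψ.injective
    exact congrArg Subtype.val hxy
  exact Module.length_le_of_injective f hf

/-- The length of a graded piece of graded local cohomology does not depend on the resolution. -/
theorem length_Hcomp_eq (D F : GrLC.StarInjRes 𝒜 ℳ) (n : ℕ) (γ : ι) :
    Module.length (GrLC.deg0 𝒜) (D.Hcomp a n γ) = Module.length (GrLC.deg0 𝒜) (F.Hcomp a n γ) :=
  le_antisymm (length_Hcomp_le a D F n γ) (length_Hcomp_le a F D n γ)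

end Indep

variable {M' : Type u} [AddCommGroup M'] [Module R M'] {ℳ' : ι → AddSubgroup M'}
  [DirectSum.Decomposition ℳ'] [SetLike.GradedSMul 𝒜 ℳ']
variable {M : Type u} [AddCommGroup M] [Module R M] {ℳ : ι → AddSubgroup M}
  [DirectSum.Decomposition ℳ] [SetLike.GradedSMul 𝒜 ℳ]
variable {M'' : Type u} [AddCommGroup M''] [Module R M''] {ℳ'' : ι → AddSubgroup M''}
  [DirectSum.Decomposition ℳ''] [SetLike.GradedSMul 𝒜 ℳ'']
variable (E' : GrLC.StarInjRes 𝒜 ℳ') (E : GrLC.StarInjRes 𝒜 ℳ) (F : GrLC.StarInjRes 𝒜 ℳ'')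
variable (f : M' →ₗ[R] M) (g : M →ₗ[R] M'')
variable (hfi : Function.Injective f) (hgs : Function.Surjective g)
  (hfg : LinearMap.ker g = LinearMap.range f) (hf : GrLC.IsGrHom ℳ' ℳ f)
  (hg : GrLC.IsGrHom ℳ ℳ'' g)
variable (a : HomogeneousIdeal 𝒜)

/-- The length of `H^i(M)_γ` as a natural number. -/
def hl {N : Type u} [AddCommGroup N] [Module R N] {𝒩 : ι → AddSubgroup N}
    [DirectSum.Decomposition 𝒩] [SetLike.GradedSMul 𝒜 𝒩] (G : GrLC.StarInjRes 𝒜 𝒩)
    (a : HomogeneousIdeal 𝒜) (i : ℕ) (γ : ι) : ℕ :=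
  (Module.length (GrLC.deg0 𝒜) (G.Hcomp a i γ)).toNat

include hfi hgs hfg hf hg in
/-- Additivity of the Euler characteristic along a short exact sequence. -/
theorem euler_additive (γ : ι)
    (hA : ∀ n, Module.length (GrLC.deg0 𝒜) (E'.Hcomp a n γ) ≠ ⊤)
    (hB : ∀ n, Module.length (GrLC.deg0 𝒜) (E.Hcomp a n γ) ≠ ⊤)
    (hC : ∀ n, Module.length (GrLC.deg0 𝒜) (F.Hcomp a n γ) ≠ ⊤)
    (N : ℕ) (hN : E'.Hcomp a (N + 1) γ = ⊥) :
    ∑ n ∈ Finset.range (N + 1), (-1 : ℤ) ^ n *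
      ((hl E' a n γ : ℤ) - (hl E a n γ : ℤ) + (hl F a n γ : ℤ)) = 0 := by
  obtain ⟨φ, hφ, hφ0, hφd⟩ := exists_comparison_over E' E f hf
  obtain ⟨ρ0, hρ0, hρε⟩ := exists_retraction E' E f φ hfi hφ hφ0
  have hCR : ∀ n, Module.length (GrLC.deg0 𝒜)
      ((coneRes E' E f g φ hfi hgs hfg hg hφ hφ0 hφd ρ0 hρ0 hρε).Hcomp a n γ) =
      Module.length (GrLC.deg0 𝒜) (F.Hcomp a n γ) := fun n => length_Hcomp_eq a _ F n γ
  have key := euler_les (R₀ := GrLC.deg0 𝒜)
    (fun n => E'.Hcomp a n γ) (fun n => E.Hcomp a n γ)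
    (fun n => (coneRes E' E f g φ hfi hgs hfg hg hφ hφ0 hφd ρ0 hρ0 hρε).Hcomp a n γ)
    (fun n => mF E' E φ hφ hφd a n γ)
    (fun n => mI E' E f g φ hfi hgs hfg hg hφ hφ0 hφd ρ0 hρ0 hρε a n γ)
    (fun n => mP E' E f g φ hfi hgs hfg hg hφ hφ0 hφd ρ0 hρ0 hρε a n γ)
    (mF_zero_injective E' E f φ hfi hφ hφ0 hφd a γ)
    (fun n => ker_mI E' E f g φ hfi hgs hfg hg hφ hφ0 hφd ρ0 hρ0 hρε a n γ)
    (fun n => ker_mP E' E f g φ hfi hgs hfg hg hφ hφ0 hφd ρ0 hρ0 hρε a n γ)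
    (fun n => ker_mF_succ E' E f g φ hfi hgs hfg hg hφ hφ0 hφd ρ0 hρ0 hρε a n γ)
    hA hB (fun n => by rw [hCR n]; exact hC n) N
    (by rw [hN]; exact ⟨fun x y => Subtype.ext ((Submodule.mem_bot _).mp x.2 |>.trans
      ((Submodule.mem_bot _).mp y.2).symm)⟩)
  simp only [hCR] at key
  exact key

end Groth.Agent.Lib.Helper29GrEulerAdd
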