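import Groth.Agent.Lib.Helper29GrGam

/-! Socles of localised modules and counting summands of an injective hull (helper29).

Tools for the zeroth Bass number: `Ext^0(k, Y)` is the socle, the socle of a localisation `X_p`
is detected by vectors of `X`, and it is unchanged by essential extensions. -/

set_option autoImplicit false
universe u
open CategoryTheory DirectSum

namespace Groth.Agent.Lib.Helper29Socle

open Groth.Agent.Lib.Helper29GrHom Groth.Agent.Lib.Helper29GrEss Groth.Agent.Lib.Helper29GrSub
  Groth.Agent.Lib.Helper29GrQuot Groth.Agent.Lib.Helper29GrGam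

/-! ### Graded preliminaries -/

section graded

variable {ι : Type} [AddCommGroup ι] [DecidableEq ι]
variable {R : Type u} [CommRing R] (𝒜 : ι → AddSubgroup R) [GradedRing 𝒜]
variable {L : Type u} [AddCommGroup L] [Module R L] (𝓛 : ι → AddSubgroup L)
  [DirectSum.Decomposition 𝓛] [SetLike.GradedSMul 𝒜 𝓛]

omit [SetLike.GradedSMul 𝒜 𝓛] in
/-- The range of a map out of `R` which is homogeneous of some degree is homogeneous. -/
theorem range_isHomogeneous_deg (β : R →ₗ[R] L) (d : ι)
    (hβ : ∀ (j : ι) (r : R), r ∈ 𝒜 j → β r ∈ 𝓛 (j + d)) :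
    (LinearMap.range β).IsHomogeneous 𝓛 := by
  classical
  rintro i _ ⟨x, rfl⟩
  induction x using DirectSum.Decomposition.inductionOn 𝒜 with
  | zero =>
    rw [map_zero, DirectSum.decompose_zero]
    exact zero_mem _
  | homogeneous m =>
    rename_i j
    have hm : β (m : R) ∈ 𝓛 (j + d) := hβ j m m.2
    by_cases h : j + d = i
    · subst h
      rw [DirectSum.decompose_of_mem_same _ hm]
      exact LinearMap.mem_range_self β _
    · rw [DirectSum.decompose_of_mem_ne _ hm h]
      exact zero_mem _
  | add m m' hm hm' =>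
    rw [map_add, DirectSum.decompose_add, DirectSum.add_apply, AddSubgroup.coe_add]
    exact add_mem hm hm'

include 𝒜 in
/-- Relative version of "*essential implies essential": inside a homogeneous submodule `J`. -/
theorem exists_smul_mem_rel (J N : Submodule R L) (hJ : J.IsHomogeneous 𝓛)
    (hN : N.IsHomogeneous 𝓛)
    (hess : ∀ Q : Submodule R L, Q.IsHomogeneous 𝓛 → Q ≤ J → Q ≠ ⊥ → Q ⊓ N ≠ ⊥)
    (x : L) (hx : x ∈ J) (hx0 : x ≠ 0) : ∃ r : R, r • x ≠ 0 ∧ r • x ∈ N := by
  classical
  letI dec : DirectSum.Decomposition (subGr 𝓛 J) := subDecomposition 𝓛 J hJ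
  haveI gs : SetLike.GradedSMul 𝒜 (subGr 𝓛 J) := sub_gradedSMul 𝓛 J 𝒜
  have hN' : (N.comap J.subtype).IsHomogeneous (subGr 𝓛 J) :=
    comap_isHomogeneous (subGr 𝓛 J) 𝓛 J.subtype (fun g m hm => hm) hN
  have hess' : ∀ P : Submodule R ↥J, P.IsHomogeneous (subGr 𝓛 J) → P ≠ ⊥ →
      P ⊓ N.comap J.subtype ≠ ⊥ := by
    intro P hP hP0
    have h1 : (P.map J.subtype).IsHomogeneous 𝓛 :=
      map_isHomogeneous (subGr 𝓛 J) 𝓛 J.subtype (fun g m hm => hm) hP
    have h2 : P.map J.subtype ≤ J := by
      rintro _ ⟨y, -, rfl⟩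
      exact y.2
    have h3 : P.map J.subtype ≠ ⊥ := by
      obtain ⟨y, hy, hy0⟩ := Submodule.exists_mem_ne_zero_of_ne_bot hP0
      intro hbot
      apply hy0
      have : J.subtype y ∈ P.map J.subtype := ⟨y, hy, rfl⟩
      rw [hbot, Submodule.mem_bot] at this
      exact Subtype.ext this
    obtain ⟨z, hz, hz0⟩ := Submodule.exists_mem_ne_zero_of_ne_bot (hess _ h1 h2 h3)
    obtain ⟨⟨y, hy, rfl⟩, hzN⟩ := hz
    intro hbot
    apply hz0
    have : y ∈ P ⊓ N.comap J.subtype := ⟨hy, hzN⟩
    rw [hbot, Submodule.mem_bot] at this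
    rw [this]
    rfl
  obtain ⟨h, r, -, h1, h2⟩ := exists_smul_mem 𝒜 (subGr 𝓛 J) (N.comap J.subtype) hN' hess'
    ⟨x, hx⟩ (fun h => hx0 (congrArg Subtype.val h))
  exact ⟨r, fun h0 => h1 (Subtype.ext h0), h2⟩

end graded

/-! ### Independent families -/

section indep

variable {R : Type*} [CommRing R] {E : Type*} [AddCommGroup E] [Module R E] {Λ : Type*}
  {J : Λ → Submodule R E}

theorem eq_zero_of_sum_eq_zero (hind : iSupIndep J) (F : Finset Λ) (y : Λ → E)
    (hy : ∀ α, y α ∈ J α) (hsum : ∑ α ∈ F, y α = 0) (α : Λ) (hα : α ∈ F) : y α = 0 := by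
  classical
  have hdis := hind α
  rw [Submodule.disjoint_def] at hdis
  apply hdis _ (hy α)
  rw [← Finset.add_sum_erase F y hα, add_eq_zero_iff_eq_neg] at hsum
  rw [hsum]
  apply Submodule.neg_mem
  apply Submodule.sum_mem
  intro β hβ
  exact Submodule.mem_iSup_of_mem β (Submodule.mem_iSup_of_mem (Finset.ne_of_mem_erase hβ) (hy β))

end indep

/-! ### The socle over a local ring -/

section loc
variable (A : Type u) [CommRing A] [IsLocalRing A] (Y : Type u) [AddCommGroup Y] [Module A Y]

/-- The socle: the elements killed by the maximal ideal. -/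
def soc : Submodule A Y where
  carrier := {y | ∀ a ∈ IsLocalRing.maximalIdeal A, a • y = 0}
  zero_mem' := fun a _ => smul_zero a
  add_mem' := fun {x y} hx hy a ha => by rw [smul_add, hx a ha, hy a ha, add_zero]
  smul_mem' := fun c x hx a ha => by rw [smul_comm, hx a ha, smul_zero]

variable {A Y} in
theorem mem_soc {y : Y} : y ∈ soc A Y ↔ ∀ a ∈ IsLocalRing.maximalIdeal A, a • y = 0 := Iff.rfl

theorem smul_one_residue (a : A) (ha : a ∈ IsLocalRing.maximalIdeal A) :
    a • (1 : IsLocalRing.ResidueField A) = 0 := by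
  rw [Algebra.smul_def, mul_one]
  exact (IsLocalRing.residue_eq_zero_iff a).2 ha

/-- Evaluation at one. -/
noncomputable def evalOne : (IsLocalRing.ResidueField A →ₗ[A] Y) →ₗ[A] soc A Y where
  toFun φ := ⟨φ 1, fun a ha => by rw [← map_smul, smul_one_residue A a ha, map_zero]⟩
  map_add' φ ψ := rfl
  map_smul' c φ := rfl

theorem evalOne_bijective : Function.Bijective (evalOne A Y) := by
  constructor
  · intro φ ψ h
    have h1 : φ 1 = ψ 1 := congrArg Subtype.val h
    apply LinearMap.ext
    intro x
    obtain ⟨a, rfl⟩ := IsLocalRing.residue_surjective x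
    have : IsLocalRing.residue A a = a • (1 : IsLocalRing.ResidueField A) := by
      rw [Algebra.smul_def, mul_one]; rfl
    rw [this, map_smul, map_smul, h1]
  · intro y
    let ψ : (A ⧸ IsLocalRing.maximalIdeal A) →ₗ[A] Y :=
      Submodule.liftQ (IsLocalRing.maximalIdeal A) (LinearMap.toSpanSingleton A Y y.1)
        (fun a ha => by
          rw [LinearMap.mem_ker, LinearMap.toSpanSingleton_apply]
          exact y.2 a ha)
    refine ⟨ψ, ?_⟩
    apply Subtype.ext
    show ψ (Submodule.Quotient.mk 1) = y.1
    rw [Submodule.liftQ_apply, LinearMap.toSpanSingleton_apply, one_smul]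

theorem length_ext_zero :
    Module.length A (Abelian.Ext.{u} (ModuleCat.of A (IsLocalRing.ResidueField A))
      (ModuleCat.of A Y) 0) = Module.length A (soc A Y) := by
  have e1 := (Abelian.Ext.linearEquiv₀ (R := A) (X := ModuleCat.of A (IsLocalRing.ResidueField A))
    (Y := ModuleCat.of A Y))
  have e2 := ModuleCat.homLinearEquiv (S := A) (M := ModuleCat.of A (IsLocalRing.ResidueField A))
    (N := ModuleCat.of A Y)
  have e3 := LinearEquiv.ofBijective (evalOne A Y) (evalOne_bijective A Y)
  rw [e1.length_eq, e2.length_eq, e3.length_eq]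

end loc

/-! ### The socle of a localisation -/

section count
variable {R : Type u} [CommRing R] [IsNoetherianRing R] (p : Ideal R) [p.IsPrime]
  (X : Type u) [AddCommGroup X] [Module R X]

open LocalizedModule

omit [IsNoetherianRing R] in
theorem mk_eq_zero_iff' (y : X) (s : p.primeCompl) :
    (mk y s : LocalizedModule p.primeCompl X) = 0 ↔ ∃ u : p.primeCompl, u • y = 0 := by
  rw [← zero_mk (1 : p.primeCompl), mk_eq]
  constructor
  · rintro ⟨u, hu⟩
    refine ⟨u, ?_⟩
    rwa [one_smul, smul_zero, smul_zero] at hu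
  · rintro ⟨u, hu⟩
    exact ⟨u, by rw [one_smul, smul_zero, smul_zero, hu]⟩

theorem mk_mem_soc_iff (y : X) (s : p.primeCompl) :
    (mk y s : LocalizedModule p.primeCompl X) ∈
      soc (Localization.AtPrime p) (LocalizedModule p.primeCompl X) ↔
      ∃ t : p.primeCompl, ∀ r ∈ p, ((t : R) * r) • y = 0 := by
  constructor
  · intro h
    obtain ⟨G, hG⟩ := (isNoetherianRing_iff_ideal_fg R).mp inferInstance p
    have h1 : ∀ g ∈ G, ∃ t : p.primeCompl, ((t : R) * g) • y = 0 := by
      intro g hg
      have hgp : g ∈ p := hG ▸ Ideal.subset_span hg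
      have hm : Localization.mk g (1 : p.primeCompl) ∈
          IsLocalRing.maximalIdeal (Localization.AtPrime p) := by
        rw [Localization.mk_eq_mk'_apply]
        exact (IsLocalization.AtPrime.mk'_mem_maximal_iff (Localization.AtPrime p) p g 1).2 hgp
      have h2 := h _ hm
      rw [mk_smul_mk, mk_eq_zero_iff'] at h2
      obtain ⟨u, hu⟩ := h2
      refine ⟨u, ?_⟩
      rw [mul_smul]
      exact hu
    choose! t ht using h1
    refine ⟨∏ g ∈ G, t g, ?_⟩
    intro r hr
    rw [← hG] at hr
    induction hr using Submodule.span_induction with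
    | mem g hg =>
      have hdvd : ((t g : p.primeCompl) : R) ∣ ((∏ g ∈ G, t g : p.primeCompl) : R) := by
        rw [Submonoid.coe_finsetProd]
        exact Finset.dvd_prod_of_mem (fun g => ((t g : p.primeCompl) : R)) hg
      obtain ⟨c, hc⟩ := hdvd
      rw [hc, mul_comm _ c, mul_assoc, mul_smul, ht g hg, smul_zero]
    | zero => simp
    | add a b _ _ ha hb => rw [mul_add, add_smul, ha, hb, add_zero]
    | smul c a _ ha =>
      rw [smul_eq_mul, ← mul_assoc, mul_comm _ c, mul_assoc, mul_smul, ha, smul_zero]
  · rintro ⟨t, ht⟩ a ha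
    obtain ⟨r, u, rfl⟩ := IsLocalization.exists_mk'_eq p.primeCompl a
    have hr : r ∈ p :=
      (IsLocalization.AtPrime.mk'_mem_maximal_iff (Localization.AtPrime p) p r u).1 ha
    rw [← Localization.mk_eq_mk'_apply, mk_smul_mk, mk_eq_zero_iff']
    refine ⟨t, ?_⟩
    have := ht r hr
    rw [mul_smul] at this
    exact this

variable {Λ' : Type*} (v : Λ' → X)

/-- The images of the vectors in the localisation. -/
noncomputable def wvec (α : Λ') : LocalizedModule p.primeCompl X := mk (v α) 1

theorem wvec_mem_soc (ha : ∀ α, ∀ r ∈ p, r • v α = 0) (α : Λ') :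
    wvec p X v α ∈ soc (Localization.AtPrime p) (LocalizedModule p.primeCompl X) := by
  rw [wvec, mk_mem_soc_iff]
  exact ⟨1, fun r hr => by rw [Submonoid.coe_one, one_mul]; exact ha α r hr⟩

/-- The linear combination map. -/
noncomputable def Psi : (Λ' →₀ Localization.AtPrime p) →ₗ[Localization.AtPrime p]
    LocalizedModule p.primeCompl X :=
  Finsupp.linearCombination (Localization.AtPrime p) (wvec p X v)

omit [IsNoetherianRing R] in
theorem Psi_mapRange (c₀ : Λ' →₀ R) :
    Psi p X v (c₀.mapRange (algebraMap R (Localization.AtPrime p)) (map_zero _)) =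
      mkLinearMap p.primeCompl X (Finsupp.linearCombination R v c₀) := by
  induction c₀ using Finsupp.induction_linear with
  | zero => rw [Finsupp.mapRange_zero, map_zero, map_zero, map_zero]
  | add c d hc hd =>
    rw [Finsupp.mapRange_add (map_add _), map_add, hc, hd, map_add, map_add]
  | single α r =>
    rw [Finsupp.mapRange_single, Psi, Finsupp.linearCombination_single,
      Finsupp.linearCombination_single, wvec, map_smul, mkLinearMap_apply, algebraMap_smul]

omit [IsNoetherianRing R] in
theorem exists_common_denom (c : Λ' →₀ Localization.AtPrime p) :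
    ∃ (s : p.primeCompl) (c₀ : Λ' →₀ R),
      algebraMap R (Localization.AtPrime p) (s : R) • c =
        c₀.mapRange (algebraMap R (Localization.AtPrime p)) (map_zero _) := by
  induction c using Finsupp.induction_linear with
  | zero => exact ⟨1, 0, by rw [smul_zero, Finsupp.mapRange_zero]⟩
  | add c d hc hd =>
    obtain ⟨s, c₀, hc⟩ := hc
    obtain ⟨t, d₀, hd⟩ := hd
    refine ⟨s * t, (t : R) • c₀ + (s : R) • d₀, ?_⟩
    ext α
    have h1 := DFunLike.congr_fun hc α
    have h2 := DFunLike.congr_fun hd α
    simp only [Finsupp.smul_apply, Finsupp.mapRange_apply, smul_eq_mul] at h1 h2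
    simp only [Finsupp.smul_apply, Finsupp.add_apply, Finsupp.mapRange_apply, smul_eq_mul,
      Submonoid.coe_mul, map_mul, map_add]
    rw [← h1, ← h2]
    ring
  | single α a =>
    obtain ⟨r, s, rfl⟩ := IsLocalization.exists_mk'_eq p.primeCompl a
    refine ⟨s, Finsupp.single α r, ?_⟩
    rw [Finsupp.mapRange_single, Finsupp.smul_single, smul_eq_mul, IsLocalization.mk'_spec']

theorem mem_maximal_of_Psi_eq_zero
    (hb : ∀ (c₀ : Λ' →₀ R) (u : p.primeCompl), u • Finsupp.linearCombination R v c₀ = 0 →
      ∀ α, c₀ α ∈ p)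
    (c : Λ' →₀ Localization.AtPrime p) (hc : Psi p X v c = 0) (α : Λ') :
    c α ∈ IsLocalRing.maximalIdeal (Localization.AtPrime p) := by
  obtain ⟨s, c₀, hs⟩ := exists_common_denom p c
  have h1 : Psi p X v (c₀.mapRange (algebraMap R (Localization.AtPrime p)) (map_zero _)) = 0 := by
    rw [← hs, map_smul, hc, smul_zero]
  rw [Psi_mapRange, mkLinearMap_apply, mk_eq_zero_iff'] at h1
  obtain ⟨u, hu⟩ := h1
  have h2 := hb c₀ u hu α
  have h3 : algebraMap R (Localization.AtPrime p) s * c α =
      algebraMap R (Localization.AtPrime p) (c₀ α) := by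
    have := DFunLike.congr_fun hs α
    simpa only [Finsupp.smul_apply, Finsupp.mapRange_apply, smul_eq_mul] using this
  have h4 : algebraMap R (Localization.AtPrime p) (c₀ α) ∈
      IsLocalRing.maximalIdeal (Localization.AtPrime p) :=
    (IsLocalization.AtPrime.to_map_mem_maximal_iff (Localization.AtPrime p) p (c₀ α)).2 h2
  rw [← h3] at h4
  have hunit : IsUnit (algebraMap R (Localization.AtPrime p) (s : R)) :=
    IsLocalization.map_units (Localization.AtPrime p) s
  exact (Ideal.unit_mul_mem_iff_mem _ hunit).mp h4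

theorem Psi_range (ha : ∀ α, ∀ r ∈ p, r • v α = 0)
    (hc : ∀ y : X, (∀ r ∈ p, r • y = 0) →
      ∃ (u : p.primeCompl) (c₀ : Λ' →₀ R), u • y = Finsupp.linearCombination R v c₀) :
    LinearMap.range (Psi p X v) =
      soc (Localization.AtPrime p) (LocalizedModule p.primeCompl X) := by
  apply le_antisymm
  · rw [Psi, Finsupp.range_linearCombination, Submodule.span_le]
    rintro _ ⟨α, rfl⟩
    exact wvec_mem_soc p X v ha α
  · intro z hz
    induction z using LocalizedModule.induction_on with
    | _ y s =>
      obtain ⟨t, ht⟩ := (mk_mem_soc_iff p X y s).1 hz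
      obtain ⟨u, c₀, hu⟩ := hc (t • y) (fun r hr => by
        rw [Submonoid.smul_def, smul_smul, mul_comm]; exact ht r hr)
      have h1 : (mk y s : LocalizedModule p.primeCompl X) =
          (Localization.mk 1 (u * (t * s)) : Localization.AtPrime p) •
            Psi p X v (c₀.mapRange (algebraMap R (Localization.AtPrime p)) (map_zero _)) := by
        rw [Psi_mapRange, mkLinearMap_apply, ← hu, mk_smul_mk, one_smul, mul_one,
          mk_cancel_common_left, mk_cancel_common_left]
      rw [h1]
      exact Submodule.smul_mem _ _ (LinearMap.mem_range_self _ _)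

theorem length_soc_eq_card (ha : ∀ α, ∀ r ∈ p, r • v α = 0)
    (hb : ∀ (c₀ : Λ' →₀ R) (u : p.primeCompl), u • Finsupp.linearCombination R v c₀ = 0 →
      ∀ α, c₀ α ∈ p)
    (hc : ∀ y : X, (∀ r ∈ p, r • y = 0) →
      ∃ (u : p.primeCompl) (c₀ : Λ' →₀ R), u • y = Finsupp.linearCombination R v c₀) :
    Module.length (Localization.AtPrime p)
      (soc (Localization.AtPrime p) (LocalizedModule p.primeCompl X)) = ENat.card Λ' := by
  set m := IsLocalRing.maximalIdeal (Localization.AtPrime p) with hm
  let π : (Λ' →₀ Localization.AtPrime p) →ₗ[Localization.AtPrime p]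
      (Λ' →₀ (Localization.AtPrime p ⧸ m)) := Finsupp.mapRange.linearMap m.mkQ
  have hπ : Function.Surjective π :=
    Finsupp.mapRange_surjective _ (map_zero _) m.mkQ_surjective
  have hπ0 : ∀ c, π c = 0 ↔ ∀ α, c α ∈ m := by
    intro c
    rw [Finsupp.ext_iff]
    refine forall_congr' (fun α => ?_)
    rw [Finsupp.mapRange.linearMap_apply, Finsupp.mapRange_apply, Finsupp.zero_apply,
      Submodule.mkQ_apply, Submodule.Quotient.mk_eq_zero]
  have hker : LinearMap.ker (Psi p X v) = LinearMap.ker π := by
    ext c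
    rw [LinearMap.mem_ker, LinearMap.mem_ker, hπ0]
    constructor
    · intro h α
      exact mem_maximal_of_Psi_eq_zero p X v hb c h α
    · intro h
      rw [Psi, Finsupp.linearCombination_apply, Finsupp.sum]
      apply Finset.sum_eq_zero
      intro α _
      exact wvec_mem_soc p X v ha α _ (h α)
  have e1 := LinearMap.quotKerEquivRange (Psi p X v)
  have e2 := LinearMap.quotKerEquivOfSurjective π hπ
  have e3 := Submodule.quotEquivOfEq _ _ hker
  have e4 := LinearEquiv.ofEq _ _ (Psi_range p X v ha hc)
  rw [← e4.length_eq, ← e1.length_eq, e3.length_eq, e2.length_eq, Module.length_finsupp]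
  haveI : IsSimpleModule (Localization.AtPrime p) (Localization.AtPrime p ⧸ m) :=
    isSimpleModule_iff_isCoatom.mpr (Ideal.isMaximal_def.mp inferInstance)
  rw [Module.length_eq_one, mul_one]

/-- The socle of a localisation does not change along an essential extension. -/
theorem length_soc_eq_of_essential {M E' : Type u} [AddCommGroup M] [Module R M]
    [AddCommGroup E'] [Module R E'] (e : M →ₗ[R] E') (hinj : Function.Injective e)
    (hess : ∀ y : E', y ≠ 0 → ∃ r : R, r • y ≠ 0 ∧ r • y ∈ LinearMap.range e) :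
    Module.length (Localization.AtPrime p)
        (soc (Localization.AtPrime p) (LocalizedModule p.primeCompl M)) =
      Module.length (Localization.AtPrime p)
        (soc (Localization.AtPrime p) (LocalizedModule p.primeCompl E')) := by
  let ep : LocalizedModule p.primeCompl M →ₗ[Localization.AtPrime p]
      LocalizedModule p.primeCompl E' := LocalizedModule.map p.primeCompl e
  have hep : Function.Injective ep := LocalizedModule.map_injective _ _ hinj
  have hmaps : ∀ z ∈ soc (Localization.AtPrime p) (LocalizedModule p.primeCompl M),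
      ep z ∈ soc (Localization.AtPrime p) (LocalizedModule p.primeCompl E') := by
    intro z hz a ha
    rw [← map_smul, hz a ha, map_zero]
  let φ := ep.restrict hmaps
  have hφinj : Function.Injective φ := by
    intro z z' h
    apply Subtype.ext
    apply hep
    exact congrArg Subtype.val h
  have hφsurj : Function.Surjective φ := by
    rintro ⟨z, hz⟩
    induction z using LocalizedModule.induction_on with
    | _ y s =>
      obtain ⟨t, ht⟩ := (mk_mem_soc_iff p E' y s).1 hz
      by_cases hy0 : t • y = 0
      · refine ⟨0, ?_⟩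
        apply Subtype.ext
        rw [map_zero]
        symm
        show mk y s = 0
        rw [mk_eq_zero_iff']
        exact ⟨t, hy0⟩
      · obtain ⟨r, hr0, m, hm⟩ := hess (t • y) hy0
        have hrp : r ∉ p := fun hrp => hr0 (by
          rw [Submonoid.smul_def, smul_smul, mul_comm]; exact ht r hrp)
        have hz' : ep (mk m (⟨r, hrp⟩ * (t * s))) = mk y s := by
          show LocalizedModule.map p.primeCompl e (mk m (⟨r, hrp⟩ * (t * s))) = mk y s
          rw [LocalizedModule.map_mk, hm]
          have : r • t • y = (⟨r, hrp⟩ : p.primeCompl) • t • y := rfl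
          rw [this, mk_cancel_common_left, mk_cancel_common_left]
        have hmem : mk m (⟨r, hrp⟩ * (t * s)) ∈
            soc (Localization.AtPrime p) (LocalizedModule p.primeCompl M) := by
          intro a ha
          apply hep
          rw [map_smul, hz', map_zero]
          exact hz a ha
        exact ⟨⟨_, hmem⟩, Subtype.ext hz'⟩
  exact (LinearEquiv.ofBijective φ ⟨hφinj, hφsurj⟩).length_eq

end count

/-! ### Modules that look like `E(R/P)` -/

section EP
variable {R : Type u} [CommRing R] (P : Ideal R) [P.IsPrime] {E : Type u} [AddCommGroup E]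
  [Module R E] (f : (R ⧸ P) →ₗ[R] E) (hf : Function.Injective f)

include hf in
theorem f_mk_eq_zero_iff (a : R) : f (Ideal.Quotient.mk P a) = 0 ↔ a ∈ P := by
  rw [map_eq_zero_iff f hf, Ideal.Quotient.eq_zero_iff_mem]

omit [P.IsPrime] in
theorem smul_f_mk (r a : R) :
    r • f (Ideal.Quotient.mk P a) = f (Ideal.Quotient.mk P (r * a)) := by
  rw [← map_smul]
  rfl

variable (J : Submodule R E)
  (hess : ∀ y ∈ J, y ≠ 0 → ∃ r : R, r • y ≠ 0 ∧ r • y ∈ LinearMap.range f)

include hf hess in
/-- Elements outside `P` are nonzerodivisors on `J`. -/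
theorem eq_zero_of_smul_eq_zero {r : R} (hr : r ∉ P) {y : E} (hy : y ∈ J) (h : r • y = 0) :
    y = 0 := by
  by_contra hy0
  obtain ⟨r', hr'0, w, hw⟩ := hess y hy hy0
  obtain ⟨a, rfl⟩ := Ideal.Quotient.mk_surjective w
  have h1 : f (Ideal.Quotient.mk P (r * a)) = 0 := by
    rw [← smul_f_mk, hw, smul_comm, h, smul_zero]
  rw [f_mk_eq_zero_iff P f hf] at h1
  have ha : a ∈ P := (Ideal.IsPrime.mem_or_mem inferInstance h1).resolve_left hr
  apply hr'0
  rw [← hw, (f_mk_eq_zero_iff P f hf a).2 ha]

include hf hess in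
/-- Every element of `J` is killed by a power of `P`. -/
theorem exists_pow_smul_eq_zero [IsNoetherianRing R] {x : E} (hx : x ∈ J) :
    ∃ n : ℕ, ∀ r ∈ P ^ n, r • x = 0 := by
  classical
  -- all associated primes of the cyclic module equal `P`
  have hAss : ∀ q ∈ associatedPrimes R (Submodule.span R {x}), q = P := by
    intro q hq
    obtain ⟨hqp, y, hy⟩ := isAssociatedPrime_iff.mp hq
    have hq' : ∀ s : R, s ∈ q ↔ s • y = 0 := by
      intro s
      rw [hy, Submodule.mem_colon_singleton, Submodule.mem_bot]
    have hy0 : y ≠ 0 := by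
      intro h0
      apply hqp.ne_top
      rw [eq_top_iff]
      intro s _
      rw [hq', h0, smul_zero]
    have hyJ : (y : E) ∈ J := (Submodule.span_le.mpr (Set.singleton_subset_iff.mpr hx)) y.2
    have hy0' : (y : E) ≠ 0 := fun h0 => hy0 (Subtype.ext h0)
    obtain ⟨r, hr0, w, hw⟩ := hess y hyJ hy0'
    have hq'' : ∀ s : R, s ∈ q ↔ s • (y : E) = 0 := by
      intro s
      rw [hq']
      constructor
      · intro h
        have := congrArg Subtype.val h
        exact this
      · intro h
        exact Subtype.ext h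
    have hrq : r ∉ q := fun h => hr0 ((hq'' r).mp h)
    have hw0 : w ≠ 0 := by
      intro h0
      apply hr0
      rw [← hw, h0, map_zero]
    ext s
    have h1 : s ∈ q ↔ s • (r • (y : E)) = 0 := by
      rw [smul_smul, ← hq'']
      constructor
      · intro h; exact Ideal.mul_mem_right _ _ h
      · intro h; exact (hqp.mem_or_mem h).resolve_right hrq
    haveI : IsDomain (R ⧸ P) := Ideal.Quotient.isDomain _
    have h2 : s ∈ P ↔ s • (r • (y : E)) = 0 := by
      rw [← hw, ← map_smul, map_eq_zero_iff f hf]
      change _ ↔ Ideal.Quotient.mk P s * w = 0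
      rw [mul_eq_zero, Ideal.Quotient.eq_zero_iff_mem]
      constructor
      · intro h; exact Or.inl h
      · intro h; exact h.resolve_right hw0
    rw [h1, h2]
  have hle : P ≤ (Module.annihilator R (Submodule.span R {x})).radical := by
    rw [← Ideal.sInf_minimalPrimes]
    apply le_sInf
    intro q hq
    have h1 := Module.associatedPrimes.minimalPrimes_annihilator_subset_associatedPrimes R
      (Submodule.span R {x}) hq
    exact le_of_eq (hAss q h1).symm
  obtain ⟨n, hn⟩ := Ideal.exists_pow_le_of_le_radical_of_fg_radical hle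
    ((isNoetherianRing_iff_ideal_fg R).mp inferInstance _)
  refine ⟨n, fun r hr => ?_⟩
  have h3 := Module.mem_annihilator.mp (hn hr) ⟨x, Submodule.mem_span_singleton_self x⟩
  exact congrArg Subtype.val h3

end EP

end Groth.Agent.Lib.Helper29Socle
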