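import Groth.Agent.Lib.Helper29GrExt
import Groth.Agent.Lib.Helper29ExtSes
import Groth.Agent.Lib.Helper29Socle
import Groth.Prelude.Def_GrLC2

/-! Vanishing of `Ext^i_{S⁻¹R}(S⁻¹M, S⁻¹I)` for finitely generated graded `M` and *injective `I`,
and dimension shifting for Bass numbers (helper29). -/

set_option autoImplicit false
open DirectSum CategoryTheory CategoryTheory.Abelian

noncomputable section

namespace Groth.Agent.Lib.Helper29GrExtLoc

open Groth.Agent.Lib.Helper29GrHom Groth.Agent.Lib.Helper29GrShift Groth.Agent.Lib.Helper29GrEss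
  Groth.Agent.Lib.Helper29GrSub Groth.Agent.Lib.Helper29GrQuot Groth.Agent.Lib.Helper29GrBaer
  Groth.Agent.Lib.Helper29GrExt Groth.Agent.Lib.Helper29ExtSes Groth.Agent.Lib.Helper29Socle

universe u

/-! ### Localised short exact sequences -/

section locses

variable {R : Type u} [CommRing R] (S : Submonoid R)
variable {M Q : Type u} [AddCommGroup M] [Module R M] [AddCommGroup Q] [Module R Q]
  {Y : Type u} [AddCommGroup Y] [Module (Localization S) Y]
variable (g : M →ₗ[R] Q) (hg : Function.Surjective g)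

theorem map_exact' {M₀ M₁ M₂ : Type u} [AddCommGroup M₀] [Module R M₀] [AddCommGroup M₁]
    [Module R M₁] [AddCommGroup M₂] [Module R M₂] (f : M₀ →ₗ[R] M₁) (h : M₁ →ₗ[R] M₂)
    (ex : Function.Exact f h) :
    Function.Exact (LocalizedModule.map S f) (LocalizedModule.map S h) :=
  LocalizedModule.map_exact S f h ex

theorem map_comp_apply {M₀ M₁ M₂ : Type u} [AddCommGroup M₀] [Module R M₀] [AddCommGroup M₁]
    [Module R M₁] [AddCommGroup M₂] [Module R M₂] (f : M₀ →ₗ[R] M₁) (h : M₁ →ₗ[R] M₂)
    (x : LocalizedModule S M₀) :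
    LocalizedModule.map S h (LocalizedModule.map S f x) = LocalizedModule.map S (h ∘ₗ f) x := by
  induction x using LocalizedModule.induction_on with
  | _ m s => rw [LocalizedModule.map_mk, LocalizedModule.map_mk, LocalizedModule.map_mk]; rfl

include hg in
theorem loc_subsingleton_of_ses (i : ℕ)
    (h1 : Subsingleton (Ext.{u} (ModuleCat.of (Localization S)
      (LocalizedModule S (LinearMap.ker g))) (ModuleCat.of (Localization S) Y) i))
    (h3 : Subsingleton (Ext.{u} (ModuleCat.of (Localization S) (LocalizedModule S Q))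
      (ModuleCat.of (Localization S) Y) i)) :
    Subsingleton (Ext.{u} (ModuleCat.of (Localization S) (LocalizedModule S M))
      (ModuleCat.of (Localization S) Y) i) :=
  subsingleton_of_ses (LocalizedModule.map S (LinearMap.ker g).subtype) (LocalizedModule.map S g)
    (LocalizedModule.map_injective S _ (LinearMap.ker g).injective_subtype)
    (LocalizedModule.map_surjective S _ hg)
    (map_exact' S _ _ (LinearMap.exact_subtype_ker_map g)) i h1 h3

include hg in
theorem loc_subsingleton_one_of_extends [Module.Projective R M]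
    (hext : ∀ φ : LocalizedModule S (LinearMap.ker g) →ₗ[Localization S] Y,
      ∃ ψ : LocalizedModule S M →ₗ[Localization S] Y,
        ψ ∘ₗ LocalizedModule.map S (LinearMap.ker g).subtype = φ) :
    Subsingleton (Ext.{u} (ModuleCat.of (Localization S) (LocalizedModule S Q))
      (ModuleCat.of (Localization S) Y) 1) :=
  subsingleton_one_of_extends (LocalizedModule.map S (LinearMap.ker g).subtype)
    (LocalizedModule.map S g)
    (LocalizedModule.map_injective S _ (LinearMap.ker g).injective_subtype)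
    (LocalizedModule.map_surjective S _ hg)
    (map_exact' S _ _ (LinearMap.exact_subtype_ker_map g)) hext

include hg in
theorem loc_subsingleton_succ_of_ker [Module.Projective R M] (i : ℕ)
    (h1 : Subsingleton (Ext.{u} (ModuleCat.of (Localization S)
      (LocalizedModule S (LinearMap.ker g))) (ModuleCat.of (Localization S) Y) i)) :
    Subsingleton (Ext.{u} (ModuleCat.of (Localization S) (LocalizedModule S Q))
      (ModuleCat.of (Localization S) Y) (i + 1)) :=
  subsingleton_succ_of_ker (LocalizedModule.map S (LinearMap.ker g).subtype)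
    (LocalizedModule.map S g)
    (LocalizedModule.map_injective S _ (LinearMap.ker g).injective_subtype)
    (LocalizedModule.map_surjective S _ hg)
    (map_exact' S _ _ (LinearMap.exact_subtype_ker_map g)) i h1

end locses

/-! ### The graded induction -/

section graded

variable {ι : Type} [AddCommGroup ι] [DecidableEq ι]
variable {R : Type u} [CommRing R] (𝒜 : ι → AddSubgroup R) [GradedRing 𝒜] (S : Submonoid R)
variable (I : Type u) [AddCommGroup I] [Module R I]

/-- `Ext^i(S⁻¹M, S⁻¹I) = 0` for all finitely generated graded modules `M`. -/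
def PL (i : ℕ) : Prop :=
  ∀ (M : Type u) [AddCommGroup M] [Module R M] (𝓜 : ι → AddSubgroup M)
    [DirectSum.Decomposition 𝓜] [SetLike.GradedSMul 𝒜 𝓜] [Module.Finite R M],
    Subsingleton (Ext.{u} (ModuleCat.of (Localization S) (LocalizedModule S M))
      (ModuleCat.of (Localization S) (LocalizedModule S I)) i)

/-- The same for graded modules generated by one homogeneous element. -/
def PLcyc (i : ℕ) : Prop :=
  ∀ (M : Type u) [AddCommGroup M] [Module R M] (𝓜 : ι → AddSubgroup M)
    [DirectSum.Decomposition 𝓜] [SetLike.GradedSMul 𝒜 𝓜] (m : M) (g : ι), m ∈ 𝓜 g →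
    Submodule.span R {m} = ⊤ →
    Subsingleton (Ext.{u} (ModuleCat.of (Localization S) (LocalizedModule S M))
      (ModuleCat.of (Localization S) (LocalizedModule S I)) i)

variable {I} (ℐ : ι → AddSubgroup I) [DirectSum.Decomposition ℐ] [SetLike.GradedSMul 𝒜 ℐ]

include ℐ in
theorem PLcyc_one [IsNoetherianRing R] (hI : GrLC.IsStarInj 𝒜 ℐ) : PLcyc 𝒜 S I 1 := by
  intro M _ _ 𝓜 _ _ m g hm hspan
  have hK := ker_toSpanSingleton_isHomogeneous 𝒜 𝓜 hm
  refine loc_subsingleton_one_of_extends S (LinearMap.toSpanSingleton R M m)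
    (toSpanSingleton_surjective hspan) ?_
  intro φ
  let K : Submodule R R := LinearMap.ker (LinearMap.toSpanSingleton R M m)
  let decK : DirectSum.Decomposition (subGr 𝒜 K) := subDecomposition 𝒜 K hK
  have gsK : SetLike.GradedSMul 𝒜 (subGr 𝒜 K) := sub_gradedSMul 𝒜 K 𝒜
  haveI : Module.FinitePresentation R K := Module.finitePresentation_of_finite R K
  obtain ⟨⟨φ₀, s⟩, hs⟩ := IsLocalizedModule.surj S
    (LocalizedModule.map S (M := K) (N := I)) φ
  obtain ⟨ψ₀, hψ₀⟩ := exists_extension 𝒜 (subGr 𝒜 K) ℐ 𝒜 hI K.subtype (fun j x hx => hx)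
    K.injective_subtype φ₀
  refine ⟨(Localization.mk 1 s : Localization S) • LocalizedModule.map S ψ₀, ?_⟩
  apply LinearMap.ext
  intro x
  have h1 : LocalizedModule.map S ψ₀ (LocalizedModule.map S K.subtype x) =
      LocalizedModule.map S φ₀ x := by
    rw [map_comp_apply, hψ₀]
  have h2 : LocalizedModule.map S φ₀ x = (s : R) • φ x := by
    have := LinearMap.congr_fun hs x
    rw [← this]
    rfl
  rw [LinearMap.comp_apply, LinearMap.smul_apply, h1, h2, ← algebraMap_smul (Localization S)
    (s : R) (φ x), smul_smul, Localization.mk_eq_mk'_apply, IsLocalization.mk'_spec, map_one,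
    one_smul]

theorem PLcyc_succ [IsNoetherianRing R] (i : ℕ) (hP : PL 𝒜 S I i) : PLcyc 𝒜 S I (i + 1) := by
  intro M _ _ 𝓜 _ _ m g hm hspan
  have hK := ker_toSpanSingleton_isHomogeneous 𝒜 𝓜 hm
  refine loc_subsingleton_succ_of_ker S (LinearMap.toSpanSingleton R M m)
    (toSpanSingleton_surjective hspan) i ?_
  let K : Submodule R R := LinearMap.ker (LinearMap.toSpanSingleton R M m)
  let decK : DirectSum.Decomposition (subGr 𝒜 K) := subDecomposition 𝒜 K hK
  have gsK : SetLike.GradedSMul 𝒜 (subGr 𝒜 K) := sub_gradedSMul 𝒜 K 𝒜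
  exact hP K (subGr 𝒜 K)

section Gen

variable (I)

theorem PL_of_PLcyc_aux (i : ℕ) (hc : PLcyc 𝒜 S I i) : ∀ (n : ℕ)
    (M : Type u) [AddCommGroup M] [Module R M] (𝓜 : ι → AddSubgroup M)
    [DirectSum.Decomposition 𝓜] [SetLike.GradedSMul 𝒜 𝓜] (T : Finset M), T.card ≤ n →
    (∀ a ∈ T, ∃ g, a ∈ 𝓜 g) → Submodule.span R (T : Set M) = ⊤ →
    Subsingleton (Ext.{u} (ModuleCat.of (Localization S) (LocalizedModule S M))
      (ModuleCat.of (Localization S) (LocalizedModule S I)) i) := by
  classical
  intro n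
  induction n with
  | zero =>
    intro M _ _ 𝓜 _ _ T hcard _ hspan
    have hT : T = ∅ := Finset.card_eq_zero.mp (Nat.le_zero.mp hcard)
    rw [hT, Finset.coe_empty, Submodule.span_empty] at hspan
    refine hc M 𝓜 0 0 (zero_mem _) ?_
    rw [← hspan]
    simp
  | succ n ih =>
    intro M _ _ 𝓜 _ _ T hcard hhom hspan
    by_cases hT : T = ∅
    · rw [hT, Finset.coe_empty, Submodule.span_empty] at hspan
      refine hc M 𝓜 0 0 (zero_mem _) ?_
      rw [← hspan]
      simp
    · obtain ⟨s₀, hs₀⟩ := Finset.nonempty_iff_ne_empty.mpr hT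
      obtain ⟨g₀, hg₀⟩ := hhom s₀ hs₀
      let N : Submodule R M := Submodule.span R {s₀}
      have hN : N.IsHomogeneous 𝓜 := span_singleton_isHomogeneous 𝒜 𝓜 hg₀
      have hker : LinearMap.ker N.mkQ = N := Submodule.ker_mkQ N
      have hKhom : (LinearMap.ker N.mkQ).IsHomogeneous 𝓜 := by rw [hker]; exact hN
      refine loc_subsingleton_of_ses S N.mkQ N.mkQ_surjective i ?_ ?_
      · let decK : DirectSum.Decomposition (subGr 𝓜 (LinearMap.ker N.mkQ)) :=
          subDecomposition 𝓜 _ hKhom
        have gsK : SetLike.GradedSMul 𝒜 (subGr 𝓜 (LinearMap.ker N.mkQ)) :=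
          sub_gradedSMul 𝓜 _ 𝒜
        have hs₀K : s₀ ∈ LinearMap.ker N.mkQ := by
          rw [hker]; exact Submodule.mem_span_singleton_self s₀
        exact hc (LinearMap.ker N.mkQ) (subGr 𝓜 (LinearMap.ker N.mkQ)) ⟨s₀, hs₀K⟩ g₀ hg₀
          (span_singleton_subtype_eq_top _ s₀ hker hs₀K)
      · let decQ : DirectSum.Decomposition (quotGr 𝓜 N) := quotDecomposition 𝓜 N hN
        have gsQ : SetLike.GradedSMul 𝒜 (quotGr 𝓜 N) := quot_gradedSMul 𝓜 N 𝒜
        refine ih (M ⧸ N) (quotGr 𝓜 N) ((T.erase s₀).image N.mkQ) ?_ ?_ ?_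
        · refine Finset.card_image_le.trans ?_
          rw [Finset.card_erase_of_mem hs₀]
          omega
        · intro a ha
          obtain ⟨b, hb, rfl⟩ := Finset.mem_image.mp ha
          obtain ⟨g, hg⟩ := hhom b (Finset.mem_of_mem_erase hb)
          exact ⟨g, b, hg, rfl⟩
        · rw [Finset.coe_image, ← Submodule.map_span, eq_top_iff]
          rintro y -
          obtain ⟨x, rfl⟩ := N.mkQ_surjective y
          have hx : x ∈ Submodule.span R (T : Set M) := hspan ▸ Submodule.mem_top
          rw [← Finset.insert_erase hs₀, Finset.coe_insert, Submodule.span_insert] at hx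
          obtain ⟨a, ha, b, hb, rfl⟩ := Submodule.mem_sup.mp hx
          have ha0 : N.mkQ a = 0 := by
            rw [← LinearMap.mem_ker, hker]
            exact ha
          rw [map_add, ha0, zero_add]
          exact Submodule.mem_map_of_mem hb

theorem PL_of_PLcyc (i : ℕ) (hc : PLcyc 𝒜 S I i) : PL 𝒜 S I i := by
  intro M _ _ 𝓜 _ _ _
  obtain ⟨T, hT, hspan⟩ := exists_homogeneous_generators (R := R) 𝓜
  exact PL_of_PLcyc_aux 𝒜 S I i hc T.card M 𝓜 T le_rfl hT hspan

end Gen

include ℐ in
/-- `Ext^i(S⁻¹M, S⁻¹I) = 0` for `i ≥ 1`, `M` finitely generated graded and `I` *injective. -/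
theorem PL_all [IsNoetherianRing R] (hI : GrLC.IsStarInj 𝒜 ℐ) (i : ℕ) (hi : 1 ≤ i) :
    PL 𝒜 S I i := by
  induction i, hi using Nat.le_induction with
  | base => exact PL_of_PLcyc 𝒜 S I 1 (PLcyc_one 𝒜 S ℐ hI)
  | succ i _ ih => exact PL_of_PLcyc 𝒜 S I (i + 1) (PLcyc_succ 𝒜 S i ih)

end graded

/-! ### The residue field as a localisation of `R ⧸ p` -/

section residue

variable {R : Type u} [CommRing R] (p : Ideal R) [p.IsPrime]

/-- The map `R_p → (R ⧸ p)_p`. -/
def tau : Localization.AtPrime p →ₗ[Localization.AtPrime p]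
    LocalizedModule p.primeCompl (R ⧸ p) :=
  LinearMap.toSpanSingleton (Localization.AtPrime p) _ (LocalizedModule.mk 1 1)

theorem tau_mk (r : R) (s : p.primeCompl) :
    tau p (Localization.mk r s) = LocalizedModule.mk (Ideal.Quotient.mk p r) s := by
  rw [tau, LinearMap.toSpanSingleton_apply, LocalizedModule.mk_smul_mk, mul_one]
  congr 1
  rw [Algebra.smul_def, mul_one]
  rfl

theorem tau_surjective : Function.Surjective (tau p) := by
  intro z
  induction z using LocalizedModule.induction_on with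
  | _ x s =>
    obtain ⟨r, rfl⟩ := Ideal.Quotient.mk_surjective x
    exact ⟨Localization.mk r s, tau_mk p r s⟩

theorem ker_tau : LinearMap.ker (tau p) = IsLocalRing.maximalIdeal (Localization.AtPrime p) := by
  ext a
  obtain ⟨r, s, rfl⟩ := IsLocalization.exists_mk'_eq p.primeCompl a
  rw [LinearMap.mem_ker, ← Localization.mk_eq_mk'_apply, tau_mk, mk_eq_zero_iff',
    Localization.mk_eq_mk'_apply, IsLocalization.AtPrime.mk'_mem_maximal_iff _ p]
  constructor
  · rintro ⟨u, hu⟩
    have h1 : Ideal.Quotient.mk p ((u : R) * r) = 0 := by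
      rw [map_mul]
      exact hu
    rw [Ideal.Quotient.eq_zero_iff_mem] at h1
    exact (Ideal.IsPrime.mem_or_mem inferInstance h1).resolve_left u.2
  · intro hr
    refine ⟨1, ?_⟩
    rw [one_smul, Ideal.Quotient.eq_zero_iff_mem]
    exact hr

/-- `(R ⧸ p)_p` is the residue field of `R_p`. -/
def resEquiv : (Localization.AtPrime p ⧸ IsLocalRing.maximalIdeal (Localization.AtPrime p))
    ≃ₗ[Localization.AtPrime p] LocalizedModule p.primeCompl (R ⧸ p) :=
  (Submodule.quotEquivOfEq _ _ (ker_tau p)).symm ≪≫ₗ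
    LinearMap.quotKerEquivOfSurjective (tau p) (tau_surjective p)

/-- The isomorphism in `ModuleCat`. -/
def resIso : ModuleCat.of (Localization.AtPrime p) (LocalizedModule p.primeCompl (R ⧸ p)) ≅
    ModuleCat.of (Localization.AtPrime p) (IsLocalRing.ResidueField (Localization.AtPrime p)) :=
  (resEquiv p).symm.toModuleIso

end residue

/-! ### Vanishing at a graded prime -/

section vanish

variable {ι : Type} [AddCommGroup ι] [DecidableEq ι]
variable {R : Type u} [CommRing R] [IsNoetherianRing R] (𝒜 : ι → AddSubgroup R) [GradedRing 𝒜]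
variable {I : Type u} [AddCommGroup I] [Module R I]
  (ℐ : ι → AddSubgroup I) [DirectSum.Decomposition ℐ] [SetLike.GradedSMul 𝒜 ℐ]

include ℐ in
theorem ext_residue_eq_zero (hI : GrLC.IsStarInj 𝒜 ℐ) (p : HomogeneousIdeal 𝒜)
    [p.toIdeal.IsPrime] (i : ℕ)
    (x : Ext.{u} (ModuleCat.of (Localization.AtPrime p.toIdeal)
        (IsLocalRing.ResidueField (Localization.AtPrime p.toIdeal)))
      (ModuleCat.of (Localization.AtPrime p.toIdeal)
        (LocalizedModule p.toIdeal.primeCompl I)) (i + 1)) : x = 0 := by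
  have hp : (p.toIdeal : Submodule R R).IsHomogeneous 𝒜 := p.isHomogeneous
  letI decQ : DirectSum.Decomposition (quotGr 𝒜 (p.toIdeal : Submodule R R)) :=
    quotDecomposition 𝒜 _ hp
  haveI gsQ : SetLike.GradedSMul 𝒜 (quotGr 𝒜 (p.toIdeal : Submodule R R)) :=
    quot_gradedSMul 𝒜 _ 𝒜
  have h := PL_all 𝒜 p.toIdeal.primeCompl ℐ hI (i + 1) (Nat.le_add_left 1 i)
    (R ⧸ p.toIdeal) (quotGr 𝒜 (p.toIdeal : Submodule R R))
  exact ext_eq_zero_of_iso (resIso p.toIdeal) (i + 1) h x

end vanish

/-! ### Shifting Bass numbers -/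

section bass

variable {R : Type u} [CommRing R] [IsNoetherianRing R] (p : Ideal R) [p.IsPrime]
variable {Z' X Z : Type u} [AddCommGroup Z'] [Module R Z'] [AddCommGroup X] [Module R X]
  [AddCommGroup Z] [Module R Z] (f : Z' →ₗ[R] X) (g : X →ₗ[R] Z)

open LocalizedModule in
theorem exists_map_eq_of_mem_soc
    (hess : ∀ y : X, y ≠ 0 → ∃ r : R, r • y ≠ 0 ∧ r • y ∈ LinearMap.range f)
    (z : LocalizedModule p.primeCompl X)
    (hz : z ∈ soc (Localization.AtPrime p) (LocalizedModule p.primeCompl X)) :
    ∃ w, LocalizedModule.map p.primeCompl f w = z := by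
  induction z using LocalizedModule.induction_on with
  | _ y s =>
    obtain ⟨t, ht⟩ := (mk_mem_soc_iff p X y s).1 hz
    by_cases hy0 : t • y = 0
    · refine ⟨0, ?_⟩
      rw [map_zero]
      symm
      rw [mk_eq_zero_iff']
      exact ⟨t, hy0⟩
    · obtain ⟨r, hr0, m, hm⟩ := hess (t • y) hy0
      have hrp : r ∉ p := fun hrp => hr0 (by
        rw [Submonoid.smul_def, smul_smul, mul_comm]; exact ht r hrp)
      refine ⟨mk m (⟨r, hrp⟩ * (t * s)), ?_⟩
      rw [LocalizedModule.map_mk, hm]
      have : r • t • y = (⟨r, hrp⟩ : p.primeCompl) • t • y := rfl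
      rw [this, mk_cancel_common_left, mk_cancel_common_left]

variable (hf : Function.Injective f) (hg : Function.Surjective g) (hex : Function.Exact f g)

include hf hg hex in
theorem bassNum_shift
    (hvan : ∀ (i : ℕ) (x : Ext.{u} (ModuleCat.of (Localization.AtPrime p)
        (IsLocalRing.ResidueField (Localization.AtPrime p)))
      (ModuleCat.of (Localization.AtPrime p) (LocalizedModule p.primeCompl X)) (i + 1)), x = 0)
    (hess : ∀ y : X, y ≠ 0 → ∃ r : R, r • y ≠ 0 ∧ r • y ∈ LinearMap.range f) (i : ℕ) :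
    GrLC.bassNum p Z i = GrLC.bassNum p Z' (i + 1) := by
  have hexp := map_exact' p.primeCompl f g hex
  have h2 : ∀ φ : ModuleCat.of (Localization.AtPrime p)
        (IsLocalRing.ResidueField (Localization.AtPrime p)) ⟶
      ModuleCat.of (Localization.AtPrime p) (LocalizedModule p.primeCompl X),
      φ ≫ ModuleCat.ofHom (LocalizedModule.map p.primeCompl g) = 0 := by
    intro φ
    ext x
    obtain ⟨a, rfl⟩ := IsLocalRing.residue_surjective x
    have hx : IsLocalRing.residue (Localization.AtPrime p) a =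
        a • (1 : IsLocalRing.ResidueField (Localization.AtPrime p)) := by
      rw [Algebra.smul_def, mul_one]; rfl
    have hsoc : φ.hom 1 ∈ soc (Localization.AtPrime p) (LocalizedModule p.primeCompl X) := by
      intro a' ha'
      rw [← map_smul, smul_one_residue _ a' ha', map_zero]
    obtain ⟨w, hw⟩ := exists_map_eq_of_mem_soc p f hess _ hsoc
    show LocalizedModule.map p.primeCompl g (φ.hom (IsLocalRing.residue _ a)) = 0
    rw [hx, map_smul, map_smul, ← hw, hexp.apply_apply_eq_zero, smul_zero]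
  exact length_ext_shift (LocalizedModule.map p.primeCompl f) (LocalizedModule.map p.primeCompl g)
    (LocalizedModule.map_injective _ _ hf) (LocalizedModule.map_surjective _ _ hg) hexp
    (ModuleCat.of (Localization.AtPrime p) (IsLocalRing.ResidueField (Localization.AtPrime p)))
    hvan h2 i

end bass

end Groth.Agent.Lib.Helper29GrExtLoc
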