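import Groth.Agent.Lib.Helper29GrVanish
import Groth.Agent.Lib.Helper29GrConeFin
import Groth.Agent.Lib.Helper29GrPieceFin

/-! Finiteness over `R_0` of the graded pieces `H^i_{R_+}(M)_n` for a finitely generated graded
module over a non-negatively graded Noetherian ring (helper29). -/

set_option autoImplicit false
set_option linter.style.haveILetI false
set_option linter.unusedSectionVars false
open DirectSum Pointwise

noncomputable section

namespace Groth.Agent.Lib.Helper29GrFinite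

open Groth.Agent.Lib.Helper29GrShift Groth.Agent.Lib.Helper29GrShiftInj
  Groth.Agent.Lib.Helper29GrResCompare Groth.Agent.Lib.Helper29GrConeLES
  Groth.Agent.Lib.Helper29GrMulLES Groth.Agent.Lib.Helper29GrQuot Groth.Agent.Lib.Helper29GrSub
  Groth.Agent.Lib.Helper29GrEss Groth.Agent.Lib.Helper29GrCompareMap
  Groth.Agent.Lib.Helper29GrCMEnd Groth.Agent.Lib.Helper29GrRes Groth.Agent.Lib.Helper29GrGam
  Groth.Agent.Lib.Helper29GrQuotEnd Groth.Agent.Lib.Helper29GrRegSeqEnd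
  Groth.Agent.Lib.Helper29GrTorsBound Groth.Agent.Lib.Helper29GrAvoid
  Groth.Agent.Lib.Helper29GrVanish Groth.Agent.Lib.Helper29GrConeFin
  Groth.Agent.Lib.Helper29GrHmap Groth.Agent.Lib.Helper29GrPieceFin

universe u

variable {R : Type u} [CommRing R] [IsNoetherianRing R] {𝒜 : ℤ → AddSubgroup R} [GradedRing 𝒜]
  (a : HomogeneousIdeal 𝒜)
variable {M : Type u} [AddCommGroup M] [Module R M] {ℳ : ℤ → AddSubgroup M}
  [DirectSum.Decomposition ℳ] [SetLike.GradedSMul 𝒜 ℳ]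
variable {N : Type u} [AddCommGroup N] [Module R N] {𝒩 : ℤ → AddSubgroup N}
  [DirectSum.Decomposition 𝒩] [SetLike.GradedSMul 𝒜 𝒩]

/-- Finiteness along multiplication by a homogeneous regular element `x` of degree `k`: if
`H^n(M/xM)_γ` and `H^{n+1}(M)_γ` are finite over `R_0`, so is `H^{n+1}(M)_{γ-k}`. -/
theorem T4x_fin (E : GrLC.StarInjRes 𝒜 ℳ) (F : GrLC.StarInjRes 𝒜 𝒩) (x : R) (k : ℤ)
    (hx : x ∈ 𝒜 k) (hreg : IsSMulRegular M x)
    (g : M →ₗ[R] N) (hgs : Function.Surjective g) (hg : GrLC.IsGrHom ℳ 𝒩 g)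
    (hker : LinearMap.ker g = LinearMap.range (x • (LinearMap.id : M →ₗ[R] M)))
    (n : ℕ) (γ : ℤ) (hF : Module.Finite (GrLC.deg0 𝒜) (F.Hcomp a n γ))
    (hE : Module.Finite (GrLC.deg0 𝒜) (E.Hcomp a (n + 1) γ)) :
    Module.Finite (GrLC.deg0 𝒜) (E.Hcomp a (n + 1) (γ - k)) := by
  have h := T4fin (shiftRes E (-k)) E (x • (LinearMap.id : M →ₗ[R] M)) g (mulx E x k) hreg hgs
    hker hg (mulx_hom E x k hx) (fun m' => (map_smul E.ε x m').symm)
    (fun n u => (map_smul (E.d n) x u).symm) a F n γ hF hE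
  rw [sub_eq_add_neg]
  exact h

/-- `H^0_{R_+}(M)_γ` is finite over `R_0`. -/
theorem finite_zero [Module.Finite R M] (E : GrLC.StarInjRes 𝒜 ℳ) (γ : ℤ) :
    Module.Finite (GrLC.deg0 𝒜) (E.Hcomp a 0 γ) := by
  haveI : IsNoetherianRing (GrLC.deg0 𝒜) := Groth.Agent.Lib.Helper29.GrDeg0.isNoetherianRing_deg0 𝒜
  haveI : IsNoetherian R M := isNoetherian_of_isNoetherianRing_of_finite R M
  haveI : Module.Finite (GrLC.deg0 𝒜) (GrLC.comp 𝒜 ℳ γ) := finite_comp 𝒜 ℳ γ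
  haveI : IsNoetherian (GrLC.deg0 𝒜) (GrLC.comp 𝒜 ℳ γ) :=
    isNoetherian_of_isNoetherianRing_of_finite _ _
  let T : Submodule (GrLC.deg0 𝒜) M :=
    GrLC.comp 𝒜 ℳ γ ⊓ (GrLC.gam a.toIdeal M).restrictScalars (GrLC.deg0 𝒜)
  haveI : IsNoetherian (GrLC.deg0 𝒜) T := isNoetherian_of_le (inf_le_left : T ≤ GrLC.comp 𝒜 ℳ γ)
  have hcoc : ∀ m : T, E.ε (m : M) ∈ E.cocyc a 0 := by
    intro m
    refine ⟨map_mem_gam a.toIdeal E.ε m.2.2, ?_⟩
    show E.d 0 (E.ε (m : M)) = 0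
    have : E.ε (m : M) ∈ LinearMap.ker (E.d 0) := by
      rw [E.exact_zero]
      exact ⟨_, rfl⟩
    exact this
  let Φ : T →ₗ[GrLC.deg0 𝒜] E.Hcomp a 0 γ :=
    { toFun := fun m => ⟨E.toH a 0 ⟨E.ε (m : M), hcoc m⟩,
        ⟨⟨E.ε (m : M), hcoc m⟩, E.ε_grHom γ _ m.2.1, rfl⟩⟩
      map_add' := by
        intro m m'
        apply Subtype.ext
        show E.toH a 0 ⟨E.ε ((m + m' : T) : M), _⟩ =
          E.toH a 0 ⟨E.ε (m : M), _⟩ + E.toH a 0 ⟨E.ε (m' : M), _⟩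
        rw [← map_add]
        congr 1
        apply Subtype.ext
        show E.ε ((m + m' : T) : M) = E.ε (m : M) + E.ε (m' : M)
        rw [Submodule.coe_add, map_add]
      map_smul' := by
        intro r m
        apply Subtype.ext
        show E.toH a 0 ⟨E.ε ((r • m : T) : M), _⟩ = (r : R) • E.toH a 0 ⟨E.ε (m : M), _⟩
        rw [← map_smul]
        congr 1
        apply Subtype.ext
        show E.ε ((r • m : T) : M) = (r : R) • E.ε (m : M)
        rw [← map_smul]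
        rfl }
  have hΦ : Function.Surjective Φ := by
    rintro ⟨y, z, hzγ, rfl⟩
    have hzk : (z : (E.X 0).carrier) ∈ LinearMap.range E.ε := E.exact_zero ▸ z.2.2
    obtain ⟨m, hm⟩ := hzk
    have hmn : m ∈ ℳ γ :=
      mem_of_map_mem ℳ (E.X 0).gr E.ε E.ε_grHom E.ε_injective (hm ▸ hzγ)
    have hmg : m ∈ GrLC.gam a.toIdeal M := by
      obtain ⟨k, hk⟩ := z.2.1
      refine ⟨k, fun r hr => ?_⟩
      apply E.ε_injective
      rw [map_smul, hm, hk r hr, map_zero]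
    refine ⟨⟨m, hmn, hmg⟩, ?_⟩
    apply Subtype.ext
    show E.toH a 0 ⟨E.ε m, _⟩ = E.toH a 0 z
    congr 1
    exact Subtype.ext hm
  exact Module.Finite.of_surjective Φ hΦ

/-- Passing to `M/Γ_a(M)`: finiteness in positive cohomological degree. -/
theorem finite_of_quot_gam (E : GrLC.StarInjRes 𝒜 ℳ)
    [DirectSum.Decomposition (quotGr ℳ (GrLC.gam a.toIdeal M))]
    [SetLike.GradedSMul 𝒜 (quotGr ℳ (GrLC.gam a.toIdeal M))]
    (G : GrLC.StarInjRes 𝒜 (quotGr ℳ (GrLC.gam a.toIdeal M))) (n : ℕ) (γ : ℤ)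
    (h : Module.Finite (GrLC.deg0 𝒜) (G.Hcomp a (n + 1) γ)) :
    Module.Finite (GrLC.deg0 𝒜) (E.Hcomp a (n + 1) γ) := by
  have hP : (GrLC.gam a.toIdeal M).IsHomogeneous ℳ := gam_isHomogeneous 𝒜 ℳ a
  letI : DirectSum.Decomposition (subGr ℳ (GrLC.gam a.toIdeal M)) := subDecomposition ℳ _ hP
  letI : SetLike.GradedSMul 𝒜 (subGr ℳ (GrLC.gam a.toIdeal M)) := sub_gradedSMul ℳ _ 𝒜
  let EP : GrLC.StarInjRes 𝒜 (subGr ℳ (GrLC.gam a.toIdeal M)) :=
    starInjRes 𝒜 (subGr ℳ (GrLC.gam a.toIdeal M))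
  have htors : LocCoh.IsPowerTorsion a.toIdeal ↥(GrLC.gam a.toIdeal M) := by
    rintro ⟨m, k, hk⟩
    refine ⟨k, fun r hr => ?_⟩
    apply Subtype.ext
    rw [Submodule.coe_smul]
    exact hk r hr
  have hvan : ∀ y : LocCoh.H a.toIdeal (n + 1) ↥(GrLC.gam a.toIdeal M), y = 0 := by
    intro y
    have := (Groth.Agent.S0323.result R a.toIdeal ↥(GrLC.gam a.toIdeal M) htors).2 (n + 1)
      (Nat.succ_pos n)
    exact Subsingleton.elim _ _
  have hEP : EP.Hcomp a (n + 1) γ = ⊥ := Hcomp_eq_bot_of_H_eq_zero a EP (n + 1) hvan γ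
  have hg : GrLC.IsGrHom ℳ (quotGr ℳ (GrLC.gam a.toIdeal M)) (GrLC.gam a.toIdeal M).mkQ :=
    fun g m hm => ⟨m, hm, rfl⟩
  obtain ⟨φ, hφ, hφ0, hφd⟩ := exists_comparison_over EP E (GrLC.gam a.toIdeal M).subtype
    (fun g m hm => hm)
  exact T5fin EP E (GrLC.gam a.toIdeal M).subtype (GrLC.gam a.toIdeal M).mkQ φ
    (Submodule.injective_subtype _) (Submodule.mkQ_surjective _)
    (by rw [Submodule.ker_mkQ, Submodule.range_subtype]) hg hφ hφ0 hφd a G (n + 1) γ hEP h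

/-- `H^i_{R_+}(M)_γ` is finite over `R_0`. -/
theorem finite_Hcomp (hpos : ∀ n : ℤ, n < 0 → 𝒜 n = ⊥)
    (ha : a.toIdeal = Ideal.span (⋃ n ∈ Set.Ioi (0 : ℤ), (𝒜 n : Set R))) :
    ∀ (i : ℕ) (M : Type u) [AddCommGroup M] [Module R M] [Module.Finite R M]
      (ℳ : ℤ → AddSubgroup M) [DirectSum.Decomposition ℳ] [SetLike.GradedSMul 𝒜 ℳ]
      (E : GrLC.StarInjRes 𝒜 ℳ) (γ : ℤ), Module.Finite (GrLC.deg0 𝒜) (E.Hcomp a i γ) := by
  intro i
  induction i with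
  | zero =>
    intro M _ _ _ ℳ _ _ E γ
    exact finite_zero a E γ
  | succ i ih =>
    intro M _ _ _ ℳ _ _ E γ
    have hP : (GrLC.gam a.toIdeal M).IsHomogeneous ℳ := gam_isHomogeneous 𝒜 ℳ a
    letI : DirectSum.Decomposition (quotGr ℳ (GrLC.gam a.toIdeal M)) :=
      quotDecomposition ℳ _ hP
    letI : SetLike.GradedSMul 𝒜 (quotGr ℳ (GrLC.gam a.toIdeal M)) := quot_gradedSMul ℳ _ 𝒜
    let G : GrLC.StarInjRes 𝒜 (quotGr ℳ (GrLC.gam a.toIdeal M)) :=
      starInjRes 𝒜 (quotGr ℳ (GrLC.gam a.toIdeal M))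
    obtain ⟨k, hk, x, hxk, hxa, hreg⟩ := exists_regular 𝒜 (quotGr ℳ (GrLC.gam a.toIdeal M)) hpos a ha
      (quot_gam_torsionFree a.toIdeal M)
    have hQhom : (x • (⊤ : Submodule R (M ⧸ GrLC.gam a.toIdeal M))).IsHomogeneous
        (quotGr ℳ (GrLC.gam a.toIdeal M)) := smul_top_isHomogeneous hxk
    letI : DirectSum.Decomposition (quotGr (quotGr ℳ (GrLC.gam a.toIdeal M))
        (x • (⊤ : Submodule R (M ⧸ GrLC.gam a.toIdeal M)))) := quotDecomposition _ _ hQhom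
    letI : SetLike.GradedSMul 𝒜 (quotGr (quotGr ℳ (GrLC.gam a.toIdeal M))
        (x • (⊤ : Submodule R (M ⧸ GrLC.gam a.toIdeal M)))) := quot_gradedSMul _ _ 𝒜
    let F : GrLC.StarInjRes 𝒜 (quotGr (quotGr ℳ (GrLC.gam a.toIdeal M))
        (x • (⊤ : Submodule R (M ⧸ GrLC.gam a.toIdeal M)))) := starInjRes 𝒜 _
    have hF : ∀ δ, Module.Finite (GrLC.deg0 𝒜) (F.Hcomp a i δ) := fun δ => ih _ _ F δ
    have hmkhom : GrLC.IsGrHom (quotGr ℳ (GrLC.gam a.toIdeal M))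
        (quotGr (quotGr ℳ (GrLC.gam a.toIdeal M))
          (x • (⊤ : Submodule R (M ⧸ GrLC.gam a.toIdeal M))))
        (x • (⊤ : Submodule R (M ⧸ GrLC.gam a.toIdeal M))).mkQ := fun γ y hy => ⟨y, hy, rfl⟩
    have hkermk : LinearMap.ker (x • (⊤ : Submodule R (M ⧸ GrLC.gam a.toIdeal M))).mkQ =
        LinearMap.range (x • (LinearMap.id :
          (M ⧸ GrLC.gam a.toIdeal M) →ₗ[R] (M ⧸ GrLC.gam a.toIdeal M))) := by
      rw [Submodule.ker_mkQ, range_smul_id]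
    obtain ⟨r, hr⟩ := exists_bound a hpos ha (i + 1) _ _ G
    have key : ∀ (d : ℕ) (δ : ℤ), r - δ ≤ d → Module.Finite (GrLC.deg0 𝒜) (G.Hcomp a (i + 1) δ) := by
      intro d
      induction d with
      | zero =>
        intro δ hδ
        rw [hr δ (by push_cast at hδ; omega)]
        infer_instance
      | succ d ihd =>
        intro δ hδ
        have h1 : Module.Finite (GrLC.deg0 𝒜) (G.Hcomp a (i + 1) (δ + k)) :=
          ihd (δ + k) (by push_cast at hδ ⊢; omega)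
        have h2 := T4x_fin a G F x k hxk hreg _ (Submodule.mkQ_surjective _) hmkhom hkermk i
          (δ + k) (hF (δ + k)) h1
        rwa [add_sub_cancel_right] at h2
    apply finite_of_quot_gam a E G i γ
    exact key (r - γ).toNat γ (Int.self_le_toNat _)

end Groth.Agent.Lib.Helper29GrFinite
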