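import Mathlib
import Groth.Agent.Lib.Helper13MinRes
import Groth.Agent.Lib.Helper13TorMore
import Groth.Agent.Lib.Helper23GrSyz
import Groth.Agent.Lib.Helper29ExtSes

/-! Graded freeness criterion over a polynomial ring: `Tor_1(M, k) = 0` implies `M` free with a
homogeneous basis (helper29).  Uses helper13's `exists_minGens` and Tor library. -/

set_option autoImplicit false
set_option linter.style.haveILetI false
universe u
open MvPolynomial CategoryTheory CategoryTheory.Limits TensorProduct

namespace Groth.Agent.Lib.Helper29GrFreeTor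

open Groth.Agent.Helper13MinRes Groth.Agent.Helper13Hilb Groth.Agent.Lib.Helper23

section Bridge

variable (k : Type u) [Field k] (m : ℕ)


theorem eq_zero_of_mem_stdGr_neg {i : ℤ} (hi : i < 0) {p : MvPolynomial (Fin m) k} (hp : p ∈ (GrSyz.stdGr k (Fin m)) i) : p = 0 := by
  apply eq_zero_of_mem_stdGr_of_nonpos hi.le hp
  by_contra hne
  have hw : Finsupp.weight (fun _ : Fin m => (1 : ℤ)) (0 : Fin m →₀ ℕ) = i :=
    ((GrSyz.mem_stdGr_iff k (Fin m) i p).mp hp) (d := 0) hne
  rw [map_zero] at hw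
  omega

theorem mem_homogeneousSubmodule_of_mem_stdGr {i : ℤ} (hi : 0 ≤ i) {p : MvPolynomial (Fin m) k} (hp : p ∈ (GrSyz.stdGr k (Fin m)) i) :
    p ∈ homogeneousSubmodule (Fin m) k i.toNat := by
  rw [mem_homogeneousSubmodule]
  intro d hd
  have hw : Finsupp.weight (fun _ : Fin m => (1 : ℤ)) d = i :=
    ((GrSyz.mem_stdGr_iff k (Fin m) i p).mp hp) hd
  rw [weight_one_int] at hw
  have h1 : Finsupp.weight (1 : Fin m → ℕ) d = d.degree := by
    rw [Finsupp.degree_eq_weight_one]
    rfl
  rw [h1]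
  omega

variable {M : Type u} [AddCommGroup M] [Module (MvPolynomial (Fin m) k) M] (ℳ : ℕ → AddSubgroup M)
  [SetLike.GradedSMul (homogeneousSubmodule (Fin m) k) ℳ] [DirectSum.Decomposition ℳ]

/-- the projection onto the degree `d` piece (zero for negative `d`) -/
noncomputable def piM (d : ℤ) : M →+ M where
  toFun x := if 0 ≤ d then (DirectSum.decompose ℳ x d.toNat : M) else 0
  map_zero' := by
    split_ifs
    · simp
    · rfl
  map_add' x y := by
    split_ifs
    · simp [DirectSum.decompose_add]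
    · simp

def pieceM (d : ℤ) : AddSubgroup M := if 0 ≤ d then ℳ d.toNat else ⊥

theorem piM_of_nonneg {d : ℤ} (hd : 0 ≤ d) (x : M) :
    piM ℳ d x = (DirectSum.decompose ℳ x d.toNat : M) := by
  show (if 0 ≤ d then (DirectSum.decompose ℳ x d.toNat : M) else 0) = _
  rw [if_pos hd]

theorem piM_of_neg {d : ℤ} (hd : ¬ 0 ≤ d) (x : M) : piM ℳ d x = 0 := by
  show (if 0 ≤ d then (DirectSum.decompose ℳ x d.toNat : M) else 0) = _
  rw [if_neg hd]

theorem piM_smul_of_mem (e j i : ℤ) (s : MvPolynomial (Fin m) k) (hs : s ∈ (GrSyz.stdGr k (Fin m)) i) (x : M) (hx : x ∈ pieceM ℳ j) :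
    piM ℳ e (s • x) = if e - j = i then s • x else 0 := by
  classical
  by_cases hj : 0 ≤ j
  swap
  · have hx0 : x = 0 := by
      unfold pieceM at hx
      rw [if_neg hj] at hx
      exact (AddSubgroup.mem_bot).mp hx
    rw [hx0, smul_zero, map_zero]
    simp
  by_cases hi : 0 ≤ i
  swap
  · have hs0 : s = 0 := eq_zero_of_mem_stdGr_neg k m (not_le.mp hi) hs
    rw [hs0, zero_smul, map_zero]
    simp
  have hx' : x ∈ ℳ j.toNat := by
    unfold pieceM at hx
    rwa [if_pos hj] at hx
  have hs' := mem_homogeneousSubmodule_of_mem_stdGr k m hi hs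
  have hsx : s • x ∈ ℳ (i.toNat + j.toNat) := SetLike.GradedSMul.smul_mem hs' hx'
  by_cases he : 0 ≤ e
  · rw [piM_of_nonneg ℳ he]
    by_cases heq : e - j = i
    · rw [if_pos heq]
      have h1 : i.toNat + j.toNat = e.toNat := by omega
      rw [h1] at hsx
      rw [DirectSum.decompose_of_mem_same ℳ hsx]
    · rw [if_neg heq]
      have h1 : i.toNat + j.toNat ≠ e.toNat := by omega
      rw [DirectSum.decompose_of_mem_ne ℳ hsx h1]
  · rw [piM_of_neg ℳ he, if_neg (by omega)]

/-- helper13's grading data for an `ℕ`-graded module over the polynomial ring. -/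
noncomputable def grDataM : GrData (GrSyz.stdGr k (Fin m)) M where
  π := piM ℳ
  piece := pieceM ℳ
  π_mem d x := by
    by_cases hd : 0 ≤ d
    · rw [piM_of_nonneg ℳ hd]
      unfold pieceM
      rw [if_pos hd]
      exact SetLike.coe_mem _
    · rw [piM_of_neg ℳ hd]
      exact zero_mem _
  sum_π x := by
    classical
    refine ⟨(DirectSum.decompose ℳ x).support.image (fun i : ℕ => (i : ℤ)), ?_⟩
    rw [Finset.sum_image (fun a _ b _ h => by exact_mod_cast h)]
    conv_lhs => rw [← DirectSum.sum_support_decompose ℳ x]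
    refine Finset.sum_congr rfl (fun i _ => ?_)
    rw [piM_of_nonneg ℳ (by omega : (0 : ℤ) ≤ (i : ℤ))]
    simp
  π_smul e j s x hx := by
    classical
    induction s using DirectSum.Decomposition.inductionOn (GrSyz.stdGr k (Fin m)) with
    | zero => simp
    | @homogeneous i s =>
      rw [piM_smul_of_mem k m ℳ e j i s.1 s.2 x hx]
      by_cases heq : e - j = i
      · rw [if_pos heq, heq, DirectSum.decompose_of_mem_same (GrSyz.stdGr k (Fin m)) s.2]
      · rw [if_neg heq, DirectSum.decompose_of_mem_ne (GrSyz.stdGr k (Fin m)) s.2 (Ne.symm heq), zero_smul]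
    | add s t hs ht =>
      rw [add_smul, map_add, hs, ht, DirectSum.decompose_add, DirectSum.add_apply,
        AddMemClass.coe_add, add_smul]

end Bridge

section TorStep

variable {R : Type u} [CommRing R] (𝔪 : Ideal R) {M : Type u} [AddCommGroup M] [Module R M]

/-- If `Tor_1(M, R/𝔪) = 0` then `M ⊗ 𝔪 → M ⊗ R` is injective. -/
theorem lTensor_injective_of_tor_one
    (h : IsZero (((Tor (ModuleCat.{u} R) 1).obj (ModuleCat.of R M)).obj
      (ModuleCat.of R (R ⧸ 𝔪)))) :
    Function.Injective (LinearMap.lTensor M (Submodule.subtype 𝔪)) := by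
  have hS := Groth.Agent.Lib.Helper29ExtSes.ses_shortExact (Submodule.subtype 𝔪) (Submodule.mkQ 𝔪)
    (Submodule.injective_subtype 𝔪) (Submodule.mkQ_surjective 𝔪) (LinearMap.exact_subtype_mkQ 𝔪)
  have h₂ : IsZero (((Tor (ModuleCat.{u} R) 1).obj (ModuleCat.of R M)).obj
      (ModuleCat.of R R)) := by
    haveI : Module.Flat R (ModuleCat.of R R) := (inferInstance : Module.Flat R R)
    exact Groth.Agent.Helper13Tor.isZero_tor_of_flat_right _ _ 1 Nat.one_pos
  exact (Groth.Agent.Helper13Tor.isZero_tor_one_iff_lTensor_injective (ModuleCat.of R M) _ hS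
    h₂).mp h

/-- Relations with coefficients in `𝔪` lie in `𝔪 • K` when `Tor_1(M, R/𝔪) = 0`. -/
theorem mem_smul_ker_of_tor_one {n : ℕ} (g : Fin n → M)
    (hsurj : Function.Surjective (Fintype.linearCombination R g))
    (h : IsZero (((Tor (ModuleCat.{u} R) 1).obj (ModuleCat.of R M)).obj
      (ModuleCat.of R (R ⧸ 𝔪))))
    (c : Fin n → R) (hc : ∀ b, c b ∈ 𝔪) (hrel : ∑ b, c b • g b = 0) :
    c ∈ 𝔪 • LinearMap.ker (Fintype.linearCombination R g) := by
  classical
  have hinj := lTensor_injective_of_tor_one 𝔪 (M := M) h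
  set φ := Fintype.linearCombination R g with hφ
  set K := LinearMap.ker φ with hK
  -- the element of `M ⊗ 𝔪`
  let t : M ⊗[R] 𝔪 := ∑ b, g b ⊗ₜ[R] (⟨c b, hc b⟩ : 𝔪)
  have ht : t = 0 := by
    apply hinj
    rw [map_zero]
    apply (TensorProduct.rid R M).injective
    rw [map_zero, map_sum, map_sum]
    simp only [LinearMap.lTensor_tmul, Submodule.subtype_apply, TensorProduct.rid_tmul]
    exact hrel
  let t' : (Fin n → R) ⊗[R] 𝔪 := ∑ b, (Pi.single b (1 : R)) ⊗ₜ[R] (⟨c b, hc b⟩ : 𝔪)
  have ht' : LinearMap.rTensor 𝔪 φ t' = 0 := by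
    rw [map_sum]
    simp only [LinearMap.rTensor_tmul]
    rw [← ht]
    refine Finset.sum_congr rfl (fun b _ => ?_)
    congr 1
    rw [hφ, Fintype.linearCombination_apply_single, one_smul]
  have hex : Function.Exact (LinearMap.rTensor 𝔪 K.subtype) (LinearMap.rTensor 𝔪 φ) :=
    rTensor_exact 𝔪 (LinearMap.exact_subtype_ker_map φ) hsurj
  obtain ⟨s, hs⟩ := (hex t').mp ht'
  let ν : (Fin n → R) ⊗[R] 𝔪 →ₗ[R] (Fin n → R) :=
    (TensorProduct.rid R (Fin n → R)).toLinearMap ∘ₗ
      LinearMap.lTensor (Fin n → R) (Submodule.subtype 𝔪)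
  have hν : ∀ (f : Fin n → R) (r : 𝔪), ν (f ⊗ₜ r) = (r : R) • f := by
    intro f r
    simp [ν]
  have hνt' : ν t' = c := by
    simp only [t', map_sum, hν]
    ext b
    simp [Finset.sum_apply, Pi.single_apply]
  have hmem : ∀ s : K ⊗[R] 𝔪, ν (LinearMap.rTensor 𝔪 K.subtype s) ∈ 𝔪 • K := by
    intro s
    induction s using TensorProduct.induction_on with
    | zero => simp
    | tmul κ r =>
      rw [LinearMap.rTensor_tmul, hν]
      exact Submodule.smul_mem_smul r.2 κ.2
    | add x y hx hy =>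
      rw [map_add, map_add]
      exact Submodule.add_mem _ hx hy
  rw [← hνt', ← hs]
  exact hmem s

end TorStep

section Main

variable (k : Type u) [Field k] (m : ℕ)
  {M : Type u} [AddCommGroup M] [Module (MvPolynomial (Fin m) k) M]
  [Module.Finite (MvPolynomial (Fin m) k) M]
  (ℳ : ℕ → AddSubgroup M)
  [SetLike.GradedSMul (homogeneousSubmodule (Fin m) k) ℳ] [DirectSum.Decomposition ℳ]

/-- Graded freeness criterion. -/
theorem exists_homogeneous_basis
    (h : IsZero (((Tor (ModuleCat.{u} (MvPolynomial (Fin m) k)) 1).obj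
      (ModuleCat.of (MvPolynomial (Fin m) k) M)).obj
      (ModuleCat.of (MvPolynomial (Fin m) k) (MvPolynomial (Fin m) k ⧸
        RingHom.ker (constantCoeff : MvPolynomial (Fin m) k →+* k))))) :
    ∃ (ι : Type u) (b : Module.Basis ι (MvPolynomial (Fin m) k) M),
      ∀ i, SetLike.IsHomogeneousElem ℳ (b i) := by
  classical
  have h𝔪 : (GrSyz.irrel (GrSyz.stdGr k (Fin m))).toIdeal =
      RingHom.ker (constantCoeff : MvPolynomial (Fin m) k →+* k) :=
    Groth.Agent.Helper13FreeRes.irrel_stdGr_eq_ker k (Fin m)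
  obtain ⟨n, a, g, hg, hspan, hrel⟩ := exists_minGens (grDataM k m ℳ) ⊤
    (GrSyz.irrel (GrSyz.stdGr k (Fin m))).toIdeal
    (fun i p hp hnot => isUnit_of_mem_stdGr_of_notMem_irrel hp hnot) Module.Finite.fg_top
    (fun _ _ _ => trivial)
  set φ := Fintype.linearCombination (MvPolynomial (Fin m) k) g with hφ
  have hφapp : ∀ c, φ c = ∑ b, c b • g b := fun c => Fintype.linearCombination_apply _ _ _
  have hsurj : Function.Surjective φ := by
    rw [← LinearMap.range_eq_top, hφ, Fintype.range_linearCombination, hspan]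
  -- compatibility with the projections
  have hcompat : ∀ (d : ℤ) (c : Fin n → MvPolynomial (Fin m) k),
      (grDataM k m ℳ).π d (φ c) = φ (proj (GrSyz.stdGr k (Fin m)) a d c) := by
    intro d c
    rw [hφapp, hφapp, map_sum]
    refine Finset.sum_congr rfl (fun b _ => ?_)
    rw [(grDataM k m ℳ).π_smul d (a b) (c b) (g b) (hg b).2, proj_apply]
  have hKstable : ∀ (d : ℤ) (c : Fin n → MvPolynomial (Fin m) k), φ c = 0 →
      φ (proj (GrSyz.stdGr k (Fin m)) a d c) = 0 := by
    intro d c hc
    rw [← hcompat, hc, map_zero]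
  -- lower bound for the degrees
  set d0 : ℤ := -(∑ b, |a b|) with hd0
  have hd0le : ∀ b, d0 ≤ a b := by
    intro b
    have h1 : |a b| ≤ ∑ b', |a b'| :=
      Finset.single_le_sum (f := fun b' => |a b'|) (fun _ _ => abs_nonneg _) (Finset.mem_univ b)
    have h2 : -|a b| ≤ a b := neg_abs_le (a b)
    omega
  have hbase : ∀ e < d0, ∀ c : Fin n → MvPolynomial (Fin m) k,
      proj (GrSyz.stdGr k (Fin m)) a e c = 0 := by
    intro e he c
    funext b
    rw [proj_apply]
    have hlt : e - a b < 0 := by have := hd0le b; omega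
    exact eq_zero_of_mem_stdGr_neg k m hlt (SetLike.coe_mem _)
  -- the key step
  have hstep : ∀ D : ℤ, (∀ e < D, ∀ c, φ c = 0 → proj (GrSyz.stdGr k (Fin m)) a e c = 0) →
      ∀ c, φ c = 0 → proj (GrSyz.stdGr k (Fin m)) a D c = 0 := by
    intro D hQ c hc
    set c' := proj (GrSyz.stdGr k (Fin m)) a D c with hc'
    have hc'K : φ c' = 0 := hKstable D c hc
    have hc'rel : ∑ b, c' b • g b = 0 := by rw [← hφapp]; exact hc'K
    have hc'm : ∀ b, c' b ∈ RingHom.ker (constantCoeff : MvPolynomial (Fin m) k →+* k) := by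
      intro b
      rw [← h𝔪]
      exact hrel c' hc'rel b
    have hmem := mem_smul_ker_of_tor_one
      (RingHom.ker (constantCoeff : MvPolynomial (Fin m) k →+* k)) g hsurj h c' hc'm hc'rel
    have hz : ∀ z ∈ RingHom.ker (constantCoeff : MvPolynomial (Fin m) k →+* k) • LinearMap.ker φ,
        proj (GrSyz.stdGr k (Fin m)) a D z = 0 := by
      intro z hz
      refine Submodule.smul_induction_on hz ?_ ?_
      · intro r hr κ hκ
        have hκ0 : φ κ = 0 := hκ
        obtain ⟨T, hT⟩ := sum_proj (GrSyz.stdGr k (Fin m)) a κ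
        have hr' : r ∈ (GrSyz.irrel (GrSyz.stdGr k (Fin m))).toIdeal := by rw [h𝔪]; exact hr
        rw [hT, Finset.smul_sum, map_sum]
        refine Finset.sum_eq_zero (fun e _ => ?_)
        have h1 := (grDataFree (GrSyz.stdGr k (Fin m)) a).π_smul D e r
          (proj (GrSyz.stdGr k (Fin m)) a e κ) (proj_mem (GrSyz.stdGr k (Fin m)) a e κ)
        have h2 : proj (GrSyz.stdGr k (Fin m)) a D (r • proj (GrSyz.stdGr k (Fin m)) a e κ) =
            ((DirectSum.decompose (GrSyz.stdGr k (Fin m)) r (D - e) : MvPolynomial (Fin m) k)) •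
              proj (GrSyz.stdGr k (Fin m)) a e κ := h1
        rw [h2]
        by_cases he : e < D
        · rw [hQ e he κ hκ0, smul_zero]
        · have hcomp : (DirectSum.decompose (GrSyz.stdGr k (Fin m)) r (D - e) :
              MvPolynomial (Fin m) k) = 0 := by
            apply eq_zero_of_mem_stdGr_of_nonpos_of_mem_irrel (n := D - e) (by omega)
              (SetLike.coe_mem _)
            exact (GrSyz.irrel (GrSyz.stdGr k (Fin m))).isHomogeneous (D - e) hr'
          rw [hcomp, zero_smul]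
      · intro x y hx hy
        rw [map_add, hx, hy, add_zero]
    have h3 := hz c' hmem
    rw [proj_eq_self (GrSyz.stdGr k (Fin m)) a D c' (proj_mem _ a D c)] at h3
    exact h3
  have hall : ∀ j : ℕ, ∀ e < d0 + j, ∀ c, φ c = 0 → proj (GrSyz.stdGr k (Fin m)) a e c = 0 := by
    intro j
    induction j with
    | zero =>
      intro e he c _
      exact hbase e (by simpa using he) c
    | succ j ih =>
      intro e he c hc
      by_cases he' : e < d0 + j
      · exact ih e he' c hc
      · have heq : e = d0 + j := by push_cast at he; omega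
        rw [heq]
        exact hstep (d0 + j) ih c hc
  have hK0 : ∀ c, φ c = 0 → c = 0 := by
    intro c hc
    obtain ⟨T, hT⟩ := sum_proj (GrSyz.stdGr k (Fin m)) a c
    rw [hT]
    refine Finset.sum_eq_zero (fun e _ => ?_)
    have : e < d0 + ((e - d0).toNat + 1 : ℕ) := by push_cast; omega
    exact hall _ e this c hc
  have hli : LinearIndependent (MvPolynomial (Fin m) k) g := by
    rw [Fintype.linearIndependent_iff]
    intro c hc b
    have h0 : φ c = 0 := by rw [hφapp]; exact hc
    rw [hK0 c h0]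
    rfl
  let B := Module.Basis.mk hli (le_of_eq hspan.symm)
  refine ⟨ULift.{u} (Fin n), B.reindex Equiv.ulift.symm, fun i => ?_⟩
  rw [Module.Basis.reindex_apply, Module.Basis.mk_apply]
  have hgi := (hg (Equiv.ulift.symm.symm i)).2
  change g _ ∈ pieceM ℳ _ at hgi
  unfold pieceM at hgi
  split_ifs at hgi with hpos
  · exact ⟨_, hgi⟩
  · rw [(AddSubgroup.mem_bot).mp hgi]
    exact ⟨0, zero_mem _⟩

end Main

end Groth.Agent.Lib.Helper29GrFreeTor
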