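import Groth.Agent.Lib.Helper29GrStarLocal3
import Groth.Agent.S11175
import Groth.Agent.S11625
import Groth.Agent.S0318

/-! If `R_p` is Cohen–Macaulay local of dimension `n` and the localization of `H^n_p(R)` at `p` is an
injective `R_p`-module, then `R_p` is a Gorenstein local ring (helper29). -/

set_option autoImplicit false
set_option linter.style.haveILetI false
set_option linter.unusedSectionVars false
open TensorProduct IsLocalRing

namespace Groth.Agent.Lib.Helper29GrGorTop

universe u

theorem injective_of_equiv {A : Type u} [CommRing A] {Q Q' : Type u} [AddCommGroup Q] [Module A Q]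
    [AddCommGroup Q'] [Module A Q'] (e : Q ≃ₗ[A] Q') (h : Module.Injective A Q) :
    Module.Injective A Q' :=
  Module.Baer.injective (Module.Baer.of_equiv e (Module.Baer.of_injective h))

/-- `R_p ⊗ H ≃ H^n_{pR_p}(R_p)` for `H ≃ H^n_p(R)`. -/
theorem nonempty_localized_equiv (R : Type u) [CommRing R] [IsNoetherianRing R] (p : Ideal R)
    [p.IsPrime] (n : ℕ) (H : Type u) [AddCommGroup H] [Module R H]
    (e₀ : H ≃ₗ[R] LocCoh.H p n R) :
    Nonempty (LocalizedModule p.primeCompl H ≃ₗ[Localization.AtPrime p]
      LocCoh.H (maximalIdeal (Localization.AtPrime p)) n (Localization.AtPrime p)) := by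
  obtain ⟨e₁⟩ := Groth.Agent.S11617.result R (Localization.AtPrime p) p R n
  have hmap : Ideal.map (algebraMap R (Localization.AtPrime p)) p =
      maximalIdeal (Localization.AtPrime p) := Localization.AtPrime.map_eq_maximalIdeal
  rw [hmap] at e₁
  let e₂ : LocCoh.H (maximalIdeal (Localization.AtPrime p)) n ((Localization.AtPrime p) ⊗[R] R)
      ≃ₗ[Localization.AtPrime p]
      LocCoh.H (maximalIdeal (Localization.AtPrime p)) n (Localization.AtPrime p) :=
    ((localCohomology (maximalIdeal (Localization.AtPrime p)) n).mapIso
      (TensorProduct.AlgebraTensorModule.rid R (Localization.AtPrime p)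
        (Localization.AtPrime p)).toModuleIso).toLinearEquiv
  let e₃ : (Localization.AtPrime p) ⊗[R] H ≃ₗ[Localization.AtPrime p]
      (Localization.AtPrime p) ⊗[R] LocCoh.H p n R :=
    TensorProduct.AlgebraTensorModule.congr (LinearEquiv.refl _ _) e₀
  let e₄ : LocalizedModule p.primeCompl H ≃ₗ[Localization.AtPrime p]
      (Localization.AtPrime p) ⊗[R] H := LocalizedModule.equivTensorProduct p.primeCompl H
  exact ⟨e₄.trans (e₃.trans (e₁.trans e₂))⟩

theorem isGorensteinLocalRing_of_injective (R : Type u) [CommRing R] [IsNoetherianRing R]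
    (p : Ideal R) [p.IsPrime]
    (hCM : LocCoh.IsCohenMacaulayLocalRing (Localization.AtPrime p))
    (n : ℕ) (hn : p.height = n) (H : Type u) [AddCommGroup H] [Module R H]
    (e₀ : H ≃ₗ[R] LocCoh.H p n R)
    (hinj : Module.Injective (Localization.AtPrime p) (LocalizedModule p.primeCompl H)) :
    LocCoh.IsGorensteinLocalRing (Localization.AtPrime p) := by
  rw [Groth.Agent.S11175.result]
  have hdim : ringKrullDim (Localization.AtPrime p) = n := by
    rw [IsLocalization.AtPrime.ringKrullDim_eq_height p (Localization.AtPrime p), hn]
    rfl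
  have hsd : Module.supportDim (Localization.AtPrime p) (Localization.AtPrime p) = n := by
    rw [Module.supportDim_self_eq_ringKrullDim, hdim]
  have hdepth : LocCoh.depth (Localization.AtPrime p) (Localization.AtPrime p) = n := by
    have h := hCM.supportDim_eq_depth
    rw [hsd] at h
    have h' : ((n : ℕ∞) : WithBot ℕ∞) =
        ((LocCoh.depth (Localization.AtPrime p) (Localization.AtPrime p) : ℕ∞) : WithBot ℕ∞) := h
    exact (WithBot.coe_injective h').symm
  refine ⟨n, ?_, ?_⟩
  · intro i hi
    rcases lt_or_gt_of_ne hi with hlt | hgt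
    · have hIM : maximalIdeal (Localization.AtPrime p) •
          (⊤ : Submodule (Localization.AtPrime p) (Localization.AtPrime p)) ≠ ⊤ := by
        rw [Ideal.smul_top_eq_map, Algebra.algebraMap_self, Ideal.map_id]
        intro h
        have : Ideal.IsPrime (maximalIdeal (Localization.AtPrime p)) := inferInstance
        exact this.ne_top h
      exact ((Groth.Agent.S0318.result (Localization.AtPrime p)
        (maximalIdeal (Localization.AtPrime p)) (Localization.AtPrime p) hIM n).mp hdepth).1 i hlt
    · apply Groth.Agent.S11625.result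
      rw [hsd]
      exact_mod_cast hgt
  · obtain ⟨e⟩ := nonempty_localized_equiv R p n H e₀
    exact injective_of_equiv e hinj

/-- The localization of a `p`-power-torsion module is power torsion over `R_p`. -/
theorem isPowerTorsion_localized {R : Type u} [CommRing R] (p : Ideal R) [p.IsPrime]
    {E' : Type u} [AddCommGroup E'] [Module R E'] (h : ∀ x : E', x ∈ GrLC.gam p E') :
    LocCoh.IsPowerTorsion (maximalIdeal (Localization.AtPrime p))
      (LocalizedModule p.primeCompl E') := by
  intro y
  induction y using LocalizedModule.induction_on with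
  | _ x s =>
    obtain ⟨k, hk⟩ := h x
    refine ⟨k, ?_⟩
    rw [← Localization.AtPrime.map_eq_maximalIdeal, ← Ideal.map_pow]
    have hle : (p ^ k).map (algebraMap R (Localization.AtPrime p)) ≤
        LinearMap.ker (LinearMap.toSpanSingleton (Localization.AtPrime p) _
          (LocalizedModule.mk x s)) := by
      rw [Ideal.map_le_iff_le_comap]
      intro r hr
      rw [Ideal.mem_comap, LinearMap.mem_ker, LinearMap.toSpanSingleton_apply, algebraMap_smul,
        LocalizedModule.smul'_mk, hk r hr, LocalizedModule.zero_mk]
    intro a ha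
    have := hle ha
    rwa [LinearMap.mem_ker, LinearMap.toSpanSingleton_apply] at this

end Groth.Agent.Lib.Helper29GrGorTop
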