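import Groth.Agent.Lib.Helper29GrSummand
import Groth.Agent.Lib.Helper29GrCofree

/-! Existence of *injective hulls (helper29). -/

set_option autoImplicit false
open DirectSum

namespace Groth.Agent.Lib.Helper29GrHull

open Groth.Agent.Lib.Helper29GrHom Groth.Agent.Lib.Helper29GrEss Groth.Agent.Lib.Helper29GrSub
  Groth.Agent.Lib.Helper29GrSummand Groth.Agent.Lib.Helper29GrCofree

universe u

variable {ι : Type} [AddCommGroup ι] [DecidableEq ι]
variable {R : Type u} [CommRing R] (𝒜 : ι → AddSubgroup R) [GradedRing 𝒜]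
variable {I : Type u} [AddCommGroup I] [Module R I] (ℐ : ι → AddSubgroup I)
  [DirectSum.Decomposition ℐ] [SetLike.GradedSMul 𝒜 ℐ]
variable {M : Type u} [AddCommGroup M] [Module R M] (ℳ : ι → AddSubgroup M)
  [DirectSum.Decomposition ℳ] [SetLike.GradedSMul 𝒜 ℳ]

/-- Inside a *injective module, every homogeneously embedded graded module has a *injective
hull. -/
theorem exists_hull_of_embedding (hI : GrLC.IsStarInj 𝒜 ℐ) (j : M →ₗ[R] I)
    (hjgr : GrLC.IsGrHom ℳ ℐ j) (hjinj : Function.Injective j) :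
    ∃ (E : GrLC.GMod.{u} 𝒜) (f : M →ₗ[R] E.carrier) (ψ : E.carrier →ₗ[R] I),
      GrLC.IsStarInjHull 𝒜 ℳ E.gr f ∧ Function.Injective ψ ∧ GrLC.IsGrHom E.gr ℐ ψ ∧
        ψ ∘ₗ f = j := by
  classical
  have hM₀ : (LinearMap.range j).IsHomogeneous ℐ := range_isHomogeneous ℐ ℳ j hjgr
  obtain ⟨X, Q, h, hXess, hQhom, hcompl, hhgr, hrange, hhX⟩ :=
    exists_summand 𝒜 ℐ hI (LinearMap.range j) hM₀
  obtain ⟨hXhom, hM₀X, hXel⟩ := hXess
  letI decX : DirectSum.Decomposition (subGr ℐ X) := subDecomposition ℐ X hXhom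
  haveI gsX : SetLike.GradedSMul 𝒜 (subGr ℐ X) := sub_gradedSMul ℐ X 𝒜
  let f : M →ₗ[R] ↥X := LinearMap.codRestrict X j (fun m => hM₀X ⟨m, rfl⟩)
  have hf : ∀ m, ((f m : ↥X) : I) = j m := fun m => rfl
  refine ⟨GrLC.GMod.of 𝒜 ↥X (subGr ℐ X), f, X.subtype, ?_, Submodule.subtype_injective X,
    fun d a ha => ha, ?_⟩
  · refine { injective := ?_, grHom := ?_, essential := ?_, starInj := ?_ }
    · intro m m' hmm
      apply hjinj
      have := congrArg (fun x : ↥X => (x : I)) hmm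
      exact this
    · intro g m hm
      exact hjgr g m hm
    · intro P hP hP0
      change Submodule R ↥X at P
      change P.IsHomogeneous (subGr ℐ X) at hP
      obtain ⟨p, hpP, hp0⟩ := Submodule.exists_mem_ne_zero_of_ne_bot hP0
      obtain ⟨d, hd⟩ := exists_component_ne_zero (subGr ℐ X) hp0
      set pd : ↥X := ((DirectSum.decompose (subGr ℐ X) p) d : ↥X) with hpd
      have hpdP : pd ∈ P := hP d hpP
      have hpdd : (pd : I) ∈ ℐ d := SetLike.coe_mem ((DirectSum.decompose (subGr ℐ X) p) d)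
      have hpd0 : (pd : I) ≠ 0 := fun h0 => hd (Subtype.ext h0)
      obtain ⟨s, hs0, m, hm⟩ := hXel d (pd : I) pd.2 hpdd hpd0
      intro hbot
      have hmem : s • pd ∈ P ⊓ LinearMap.range f := by
        refine ⟨P.smul_mem s hpdP, m, ?_⟩
        apply Subtype.ext
        exact hm
      have hbot' : P ⊓ LinearMap.range f = ⊥ := hbot
      rw [hbot', Submodule.mem_bot] at hmem
      exact hs0 (congrArg Subtype.val hmem)
    · intro A' B' f' hf'gr hf'inj g' hg'gr
      obtain ⟨k, hkgr, hk⟩ := hI A' B' f' hf'gr hf'inj (X.subtype ∘ₗ g')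
        (fun d a ha => hg'gr d a ha)
      refine ⟨LinearMap.codRestrict X (h ∘ₗ k)
        (fun b => by rw [← hrange]; exact ⟨k b, rfl⟩), ?_, ?_⟩
      · intro d b hb
        exact hhgr d _ (hkgr d b hb)
      · apply LinearMap.ext
        intro a
        apply Subtype.ext
        change h (k (f' a)) = X.subtype (g' a)
        have h1 : k (f' a) = X.subtype (g' a) := LinearMap.congr_fun hk a
        rw [h1]
        exact hhX _ (Submodule.coe_mem (show ↥X from g' a))
  · apply LinearMap.ext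
    intro m
    rfl

/-- Every graded module embeds homogeneously into a *injective one: the cofree module on an
injective module containing it. -/
theorem exists_hull_of_injective (N : Type u) [AddCommGroup N] [Module R N]
    [Module.Injective R N] (e : M →ₗ[R] N) (he : Function.Injective e) :
    ∃ (E : GrLC.GMod.{u} 𝒜) (f : M →ₗ[R] E.carrier) (ψ : E.carrier →ₗ[R] N),
      GrLC.IsStarInjHull 𝒜 ℳ E.gr f ∧ ψ ∘ₗ f = e := by
  obtain ⟨E, f, ψ, hE, -, -, hψf⟩ := exists_hull_of_embedding 𝒜 (GNgr 𝒜 N) ℳ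
    (isStarInj_GN 𝒜 N) (adj 𝒜 N ℳ e) (adj_grHom 𝒜 N ℳ e) (adj_injective 𝒜 N ℳ e he)
  refine ⟨E, f, eps 𝒜 N ∘ₗ ψ, hE, ?_⟩
  rw [LinearMap.comp_assoc, hψf]
  apply LinearMap.ext
  intro m
  exact eps_adj 𝒜 N ℳ e m

end Groth.Agent.Lib.Helper29GrHull
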