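import Mathlib

/-!
# Lowest homogeneous components in an ℕ-graded ring (helper29)

`GeDeg 𝒢 m a`: `a` has no homogeneous components in degrees `< m`.
The component of a product in the lowest possible degree is the product of the lowest components.
-/

set_option autoImplicit false
set_option linter.style.haveILetI false

namespace Groth.Agent.Lib.Helper29.GrIcA

open DirectSum

variable {k : Type*} [CommRing k] {G : Type*} [CommRing G] [Algebra k G]
  (𝒢 : ℕ → Submodule k G) [GradedAlgebra 𝒢]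

/-- `a` has no components in degrees `< m`. -/
def GeDeg (m : ℕ) (a : G) : Prop := ∀ j < m, (decompose 𝒢 a j : G) = 0

theorem geDeg_zero (a : G) : GeDeg 𝒢 0 a := fun j hj => absurd hj (Nat.not_lt_zero j)

theorem geDeg_of_mem {i m : ℕ} (h : m ≤ i) {a : G} (ha : a ∈ 𝒢 i) : GeDeg 𝒢 m a := by
  intro j hj
  rw [decompose_of_mem_ne 𝒢 ha (by omega)]

theorem coe_decompose_mul (a b : G) (n : ℕ) :
    (decompose 𝒢 (a * b) n : G) =
      ∑ ij ∈ Finset.HasAntidiagonal.antidiagonal n, (decompose 𝒢 a ij.1 : G) * (decompose 𝒢 b ij.2 : G) := by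
  rw [decompose_mul, coe_mul_apply_eq_sum_antidiagonal]

theorem geDeg_mul {m n : ℕ} {a b : G} (ha : GeDeg 𝒢 m a) (hb : GeDeg 𝒢 n b) :
    GeDeg 𝒢 (m + n) (a * b) := by
  intro j hj
  rw [coe_decompose_mul]
  apply Finset.sum_eq_zero
  intro ij hij
  rw [Finset.HasAntidiagonal.mem_antidiagonal] at hij
  by_cases h1 : ij.1 < m
  · rw [ha _ h1, zero_mul]
  · rw [hb ij.2 (by omega), mul_zero]

theorem low_mul {m n : ℕ} {a b : G} (ha : GeDeg 𝒢 m a) (hb : GeDeg 𝒢 n b) :
    (decompose 𝒢 (a * b) (m + n) : G) = (decompose 𝒢 a m : G) * (decompose 𝒢 b n : G) := by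
  rw [coe_decompose_mul]
  rw [Finset.sum_eq_single (m, n)]
  · intro ij hij hne
    rw [Finset.HasAntidiagonal.mem_antidiagonal] at hij
    by_cases h1 : ij.1 < m
    · rw [ha _ h1, zero_mul]
    · have h2 : ij.2 < n := by
        by_contra h2
        apply hne
        ext <;> simp only <;> omega
      rw [hb _ h2, mul_zero]
  · intro h
    exact absurd (Finset.HasAntidiagonal.mem_antidiagonal.mpr (rfl : (m, n).1 + (m, n).2 = m + n)) h

theorem geDeg_pow {m : ℕ} {a : G} (ha : GeDeg 𝒢 m a) (N : ℕ) : GeDeg 𝒢 (N * m) (a ^ N) := by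
  induction N with
  | zero =>
    rw [Nat.zero_mul]
    exact geDeg_zero 𝒢 _
  | succ N ih =>
    rw [pow_succ, Nat.succ_mul]
    exact geDeg_mul 𝒢 ih ha

theorem low_pow {m : ℕ} {a : G} (ha : GeDeg 𝒢 m a) (N : ℕ) :
    (decompose 𝒢 (a ^ N) (N * m) : G) = (decompose 𝒢 a m : G) ^ N := by
  induction N with
  | zero =>
    rw [Nat.zero_mul, pow_zero, pow_zero]
    exact decompose_of_mem_same 𝒢 (SetLike.one_mem_graded 𝒢)
  | succ N ih =>
    rw [pow_succ, Nat.succ_mul, low_mul 𝒢 (geDeg_pow 𝒢 ha N) ha, ih, pow_succ]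

/-- Every nonzero element has a lowest nonzero component. -/
theorem exists_low {a : G} (ha : a ≠ 0) :
    ∃ m, GeDeg 𝒢 m a ∧ (decompose 𝒢 a m : G) ≠ 0 := by
  classical
  have hne : ∃ j, (decompose 𝒢 a j : G) ≠ 0 := by
    by_contra h
    push Not at h
    apply ha
    rw [← sum_support_decompose 𝒢 a]
    exact Finset.sum_eq_zero fun i _ => h i
  refine ⟨Nat.find hne, ?_, Nat.find_spec hne⟩
  intro j hj
  by_contra h
  exact Nat.find_min hne hj h

/-- For homogeneous `w` of degree `e`, any component of `h * w` is a multiple of `w`. -/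
theorem exists_component_mul_eq {e : ℕ} {w : G} (hw : w ∈ 𝒢 e) (h : G) (j : ℕ) :
    ∃ h' : G, (decompose 𝒢 (h * w) j : G) = h' * w := by
  by_cases hle : e ≤ j
  · exact ⟨_, coe_decompose_mul_of_right_mem_of_le 𝒢 hw hle⟩
  · exact ⟨0, by rw [coe_decompose_mul_of_right_mem_of_not_le 𝒢 hw hle, zero_mul]⟩

end Groth.Agent.Lib.Helper29.GrIcA
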