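import Mathlib
import Groth.Agent.Lib.Helper29GrIcA

/-!
# Integral closure of a Noetherian graded domain is graded (fraction form) (helper29)

If `w` is a nonzero homogeneous element of a Noetherian ℕ-graded domain `G` and `a / w` is integral
over `G`, then `a_j / w` is integral over `G` for every homogeneous component `a_j` of `a`.
-/

set_option autoImplicit false
set_option linter.style.haveILetI false
set_option linter.unusedSectionVars false

namespace Groth.Agent.Lib.Helper29.GrIcB

open DirectSum Groth.Agent.Lib.Helper29.GrIcA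

variable {k : Type*} [CommRing k] {G : Type*} [CommRing G] [IsDomain G] [Algebra k G]
  [IsNoetherianRing G]
  (𝒢 : ℕ → Submodule k G) [GradedAlgebra 𝒢]
  (L : Type*) [Field L] [Algebra G L] [IsFractionRing G L]

omit [IsNoetherianRing G] in
/-- An integral element of the fraction field has a common denominator for all its powers. -/
theorem exists_common_denom {x : L} (hx : IsIntegral G x) :
    ∃ d : G, d ≠ 0 ∧ ∀ N : ℕ, ∃ h : G, algebraMap G L h = algebraMap G L d * x ^ N := by
  classical
  obtain ⟨s, hs⟩ := hx.fg_adjoin_singleton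
  obtain ⟨b, hb⟩ := IsLocalization.exist_integer_multiples_of_finset (nonZeroDivisors G) s
  refine ⟨b, nonZeroDivisors.ne_zero b.2, ?_⟩
  have key : ∀ z ∈ Submodule.span G (s : Set L), IsLocalization.IsInteger G ((b : G) • z) := by
    intro z hz
    induction hz using Submodule.span_induction with
    | mem z hz => exact hb z hz
    | zero => rw [smul_zero]; exact IsLocalization.isInteger_zero
    | add z₁ z₂ _ _ h₁ h₂ => rw [smul_add]; exact IsLocalization.isInteger_add h₁ h₂
    | smul c z _ h₁ => rw [smul_comm]; exact IsLocalization.isInteger_smul h₁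
  intro N
  have hmem : x ^ N ∈ Submodule.span G (s : Set L) := by
    rw [hs]
    exact Subalgebra.pow_mem _ (Algebra.subset_adjoin (Set.mem_singleton x)) N
  obtain ⟨h, hh⟩ := key _ hmem
  exact ⟨h, by rw [hh, Algebra.smul_def]⟩

/-- An element of the fraction field all of whose powers have a common denominator is integral
(Noetherian case). -/
theorem isIntegral_of_common_denom {y : L} {d : G} (hd : d ≠ 0)
    (h : ∀ N : ℕ, ∃ h : G, algebraMap G L h = algebraMap G L d * y ^ N) : IsIntegral G y := by
  have hd' : algebraMap G L d ≠ 0 := by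
    rw [Ne, map_eq_zero_iff _ (IsFractionRing.injective G L)]; exact hd
  set T : Submodule G L := Submodule.span G {(algebraMap G L d)⁻¹} with hT
  have hle : Subalgebra.toSubmodule (Algebra.adjoin G {y}) ≤ T := by
    rw [Algebra.adjoin_eq_span, Submodule.span_le]
    intro z hz
    obtain ⟨N, rfl⟩ := Submonoid.mem_closure_singleton.mp hz
    obtain ⟨h', hh'⟩ := h N
    have : y ^ N = h' • (algebraMap G L d)⁻¹ := by
      rw [Algebra.smul_def, hh', mul_comm, ← mul_assoc, inv_mul_cancel₀ hd', one_mul]
    rw [SetLike.mem_coe, this]
    exact Submodule.smul_mem _ _ (Submodule.subset_span (Set.mem_singleton _))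
  have hTn : IsNoetherian G T := isNoetherian_span_of_finite G (Set.finite_singleton _)
  have hN : IsNoetherian G (Subalgebra.toSubmodule (Algebra.adjoin G {y})) :=
    isNoetherian_of_le hle
  have hfg : (Subalgebra.toSubmodule (Algebra.adjoin G {y})).FG :=
    Module.Finite.iff_fg.mp inferInstance
  exact IsIntegral.of_mem_of_fg _ hfg y (Algebra.subset_adjoin (Set.mem_singleton y))

/-- The lowest component of the numerator of an integral fraction with homogeneous denominator
gives an integral fraction. -/
theorem isIntegral_low_div {e : ℕ} {w : G} (hw : w ∈ 𝒢 e) (hw0 : w ≠ 0) {a : G} {m : ℕ}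
    (ham : GeDeg 𝒢 m a) (hint : IsIntegral G (algebraMap G L a / algebraMap G L w)) :
    IsIntegral G (algebraMap G L (decompose 𝒢 a m : G) / algebraMap G L w) := by
  have hinj := IsFractionRing.injective G L
  have hw' : algebraMap G L w ≠ 0 := by
    rw [Ne, map_eq_zero_iff _ hinj]; exact hw0
  obtain ⟨d, hd0, hd⟩ := exists_common_denom L hint
  obtain ⟨md, hdge, hdlow⟩ := exists_low 𝒢 hd0
  refine isIntegral_of_common_denom L hdlow ?_
  intro N
  obtain ⟨h, hh⟩ := hd N
  -- `h * w ^ N = d * a ^ N`
  have h1 : h * w ^ N = d * a ^ N := by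
    apply hinj
    rw [map_mul, map_mul, map_pow, map_pow, hh, div_pow, mul_assoc,
      div_mul_cancel₀ _ (pow_ne_zero N hw')]
  have hwN : w ^ N ∈ 𝒢 (N • e) := SetLike.pow_mem_graded N hw
  obtain ⟨h', hh'⟩ := exists_component_mul_eq 𝒢 hwN h (md + N * m)
  have h2 : (decompose 𝒢 (d * a ^ N) (md + N * m) : G) =
      (decompose 𝒢 d md : G) * (decompose 𝒢 a m : G) ^ N := by
    rw [low_mul 𝒢 hdge (geDeg_pow 𝒢 ham N), low_pow 𝒢 ham N]
  refine ⟨h', ?_⟩
  have h3 : h' * w ^ N = (decompose 𝒢 d md : G) * (decompose 𝒢 a m : G) ^ N := by
    rw [← hh', h1, h2]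
  rw [div_pow, ← mul_div_assoc, eq_div_iff (pow_ne_zero N hw'), ← map_pow, ← map_pow, ← map_mul,
    ← map_mul, h3]

/-- Components of the numerator of an integral fraction with homogeneous denominator give
integral fractions. -/
theorem isIntegral_component_div {e : ℕ} {w : G} (hw : w ∈ 𝒢 e) (hw0 : w ≠ 0) (a : G)
    (hint : IsIntegral G (algebraMap G L a / algebraMap G L w)) (j : ℕ) :
    IsIntegral G (algebraMap G L (decompose 𝒢 a j : G) / algebraMap G L w) := by
  classical
  -- a bound on the degrees
  obtain ⟨D, hD⟩ : ∃ D, ∀ j, D ≤ j → (decompose 𝒢 a j : G) = 0 := by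
    refine ⟨(decompose 𝒢 a).support.sup id + 1, fun j hj => ?_⟩
    have : j ∉ (decompose 𝒢 a).support := by
      intro hmem
      have := Finset.le_sup (f := id) hmem
      simp only [id] at this
      omega
    rw [DFinsupp.notMem_support_iff.mp this, ZeroMemClass.coe_zero]
  have key : ∀ t : ℕ, ∀ (a : G) (m : ℕ), GeDeg 𝒢 m a →
      (∀ j, m + t ≤ j → (decompose 𝒢 a j : G) = 0) →
      IsIntegral G (algebraMap G L a / algebraMap G L w) →
      ∀ j, IsIntegral G (algebraMap G L (decompose 𝒢 a j : G) / algebraMap G L w) := by
    intro t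
    induction t with
    | zero =>
      intro a m ham hup _ j
      have : (decompose 𝒢 a j : G) = 0 := by
        by_cases hj : j < m
        · exact ham j hj
        · exact hup j (by omega)
      rw [this, map_zero, zero_div]
      exact isIntegral_zero
    | succ t ih =>
      intro a m ham hup hint j
      have hm := isIntegral_low_div 𝒢 L hw hw0 ham hint
      set am : G := (decompose 𝒢 a m : G) with ham_def
      have hamm : am ∈ 𝒢 m := (decompose 𝒢 a m).2
      have hcomp : ∀ i, (decompose 𝒢 (a - am) i : G) =
          if i = m then 0 else (decompose 𝒢 a i : G) := by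
        intro i
        rw [decompose_sub, DFinsupp.sub_apply, AddSubgroupClass.coe_sub]
        split_ifs with him
        · subst him
          rw [decompose_of_mem_same 𝒢 hamm, sub_self]
        · rw [decompose_of_mem_ne 𝒢 hamm (Ne.symm him), sub_zero]
      have h1 : GeDeg 𝒢 (m + 1) (a - am) := by
        intro i hi
        rw [hcomp]
        split_ifs with him
        · rfl
        · exact ham i (by omega)
      have h2 : ∀ i, m + 1 + t ≤ i → (decompose 𝒢 (a - am) i : G) = 0 := by
        intro i hi
        rw [hcomp]
        split_ifs with him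
        · rfl
        · exact hup i (by omega)
      have h3 : IsIntegral G (algebraMap G L (a - am) / algebraMap G L w) := by
        rw [map_sub, sub_div]
        exact hint.sub hm
      have h4 := ih (a - am) (m + 1) h1 h2 h3 j
      by_cases hjm : j = m
      · subst hjm
        exact hm
      · rw [hcomp, if_neg hjm] at h4
        exact h4
  exact key D a 0 (geDeg_zero 𝒢 a) (fun j hj => hD j (by omega)) hint j

end Groth.Agent.Lib.Helper29.GrIcB
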