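import Mathlib
import Groth.Agent.Lib.Helper14GradedNoeth
import Groth.Agent.Lib.Helper5IntDim

/-!
# Ideals of finite colength in graded domains of dimension ≥ 2 contain homogeneous elements (helper29)

Let `G` be a Noetherian ℕ-graded domain over a field `k` with `G₀ = k` and `dim G ≥ 2`.  If `𝔠` is
an ideal such that every prime containing it is maximal, then `𝔠` contains a nonzero homogeneous
element.
-/

set_option autoImplicit false
set_option linter.style.haveILetI false
set_option linter.unusedSectionVars false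
universe u

namespace Groth.Agent.Lib.Helper29.GrIcC

open DirectSum Polynomial

variable {k : Type u} [Field k] {G : Type u} [CommRing G] [IsDomain G] [Algebra k G]
  (𝒢 : ℕ → Submodule k G) [GradedAlgebra 𝒢]

section FT

variable [IsNoetherianRing G] (h0 : ∀ x ∈ 𝒢 0, ∃ c : k, algebraMap k G c = x)
include h0

theorem finiteType_of_h0 : Algebra.FiniteType k G := by
  have h1 : Algebra.FiniteType (𝒢 0) G :=
    Groth.Agent.Lib.Helper14.finiteType_of_isNoetherianRing_graded 𝒢
  obtain ⟨T, hT⟩ := h1.out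
  refine ⟨⟨T, ?_⟩⟩
  have key : ∀ x ∈ Algebra.adjoin (𝒢 0) (T : Set G), x ∈ Algebra.adjoin k (T : Set G) := by
    intro x hx
    induction hx using Algebra.adjoin_induction with
    | mem x hx => exact Algebra.subset_adjoin hx
    | algebraMap r =>
      obtain ⟨c, hc⟩ := h0 r r.2
      have : algebraMap (𝒢 0) G r = algebraMap k G c := hc.symm
      rw [this]
      exact Subalgebra.algebraMap_mem _ c
    | add x y _ _ hx hy => exact Subalgebra.add_mem _ hx hy
    | mul x y _ _ hx hy => exact Subalgebra.mul_mem _ hx hy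
  rw [eq_top_iff]
  intro x _
  exact key x (by rw [hT]; trivial)

end FT

/-- Key homogeneity trick: if a maximal ideal `P` with `G/P` integral over `k` contains no nonzero
homogeneous element, then two homogeneous elements of the same degree are integrally dependent. -/
theorem isIntegral_of_same_degree (P : Ideal G) [hPmax : P.IsMaximal]
    (hint : Algebra.IsIntegral k (G ⧸ P))
    (hP : ∀ e, ∀ w ∈ 𝒢 e, w ∈ P → w = 0) {c : ℕ} {u v : G} (hu : u ∈ 𝒢 c) (hv : v ∈ 𝒢 c)
    (hv0 : v ≠ 0) (S : Subalgebra k G) (hvS : v ∈ S) : IsIntegral S u := by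
  letI : Field (G ⧸ P) := Ideal.Quotient.field P
  set π : G →+* G ⧸ P := Ideal.Quotient.mk P with hπ
  have hπv : π v ≠ 0 := by
    intro h
    rw [hπ, Ideal.Quotient.eq_zero_iff_mem] at h
    exact hv0 (hP c v hv h)
  set z : G ⧸ P := π u / π v with hz
  obtain ⟨p, hpm, hpz⟩ := hint.isIntegral z
  set v' : S := ⟨v, hvS⟩ with hv'
  set q : S[X] := scaleRoots (p.map (algebraMap k S)) v' with hq
  have hqm : q.Monic := (monic_scaleRoots_iff v').mpr (hpm.map _)
  have hdeg : (p.map (algebraMap k S)).natDegree = p.natDegree :=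
    natDegree_map_eq_of_injective (algebraMap k S).injective p
  set n := p.natDegree with hn
  refine ⟨q, hqm, ?_⟩
  set r : G := eval₂ (algebraMap S G) u q with hr
  -- (a) `r ∈ P`
  have ha : r ∈ P := by
    rw [← Ideal.Quotient.eq_zero_iff_mem, ← hπ, hr, hom_eval₂]
    have h1 : π u = (π.comp (algebraMap S G)) v' * z := by
      rw [hz, RingHom.comp_apply]
      change π u = π v * (π u / π v)
      rw [mul_div_cancel₀ _ hπv]
    rw [h1, hq, scaleRoots_eval₂_mul, eval₂_map]
    have h2 : (π.comp (algebraMap S G)).comp (algebraMap k S) = algebraMap k (G ⧸ P) := by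
      ext x
      rfl
    rw [h2, hpz, mul_zero]
  -- (b) `r` is homogeneous of degree `n • c`
  have hb : r ∈ 𝒢 (n • c) := by
    rw [hr, eval₂_eq_sum_range, hq, natDegree_scaleRoots, hdeg]
    apply Submodule.sum_mem
    intro i hi
    rw [Finset.mem_range] at hi
    have hi' : i ≤ n := by omega
    rw [coeff_scaleRoots, hdeg, coeff_map]
    have h3 : algebraMap S G (algebraMap k S (p.coeff i) * v' ^ (n - i)) =
        algebraMap k G (p.coeff i) * v ^ (n - i) := by
      rw [map_mul, map_pow]
      rfl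
    rw [h3]
    have h4 : algebraMap k G (p.coeff i) * v ^ (n - i) * u ^ i ∈ 𝒢 (0 + (n - i) • c + i • c) :=
      SetLike.mul_mem_graded (SetLike.mul_mem_graded (SetLike.algebraMap_mem_graded 𝒢 _)
        (SetLike.pow_mem_graded _ hv)) (SetLike.pow_mem_graded _ hu)
    have h5 : 0 + (n - i) • c + i • c = n • c := by
      simp only [smul_eq_mul]
      rw [zero_add, ← Nat.add_mul, Nat.sub_add_cancel hi']
    rw [h5] at h4
    exact h4
  exact hP _ r hb ha

section Main

variable [IsNoetherianRing G] (h0 : ∀ x ∈ 𝒢 0, ∃ c : k, algebraMap k G c = x)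
include h0

/-- There is a nonzero homogeneous element of positive degree when `dim G ≥ 1`. -/
theorem exists_pos_homogeneous (hdim : 1 ≤ ringKrullDim G) :
    ∃ b, 0 < b ∧ ∃ h ∈ 𝒢 b, h ≠ 0 := by
  by_contra hno
  push Not at hno
  have hsurj : Function.Surjective (algebraMap k G) := by
    intro x
    obtain ⟨c, hc⟩ := h0 _ (decompose 𝒢 x 0).2
    refine ⟨c, ?_⟩
    rw [hc]
    classical
    conv_rhs => rw [← sum_support_decompose 𝒢 x]
    symm
    apply Finset.sum_eq_single 0
    · intro j _ hj
      exact hno j (Nat.pos_of_ne_zero hj) _ (decompose 𝒢 x j).2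
    · intro h
      rw [DFinsupp.notMem_support_iff.mp h, ZeroMemClass.coe_zero]
  have h1 := ringKrullDim_le_of_surjective (algebraMap k G) hsurj
  rw [ringKrullDim_eq_zero_of_field] at h1
  have : (1 : WithBot ℕ∞) ≤ 0 := hdim.trans h1
  exact absurd this (by norm_num)

theorem exists_homogeneous_mem (hdim : 2 ≤ ringKrullDim G) (𝔠 : Ideal G)
    (hmax : ∀ P : Ideal G, P.IsPrime → 𝔠 ≤ P → P.IsMaximal) :
    ∃ e, ∃ w ∈ 𝒢 e, w ≠ 0 ∧ w ∈ 𝔠 := by
  by_contra hno
  push Not at hno
  have hft : Algebra.FiniteType k G := finiteType_of_h0 𝒢 h0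
  -- the multiplicative set of nonzero homogeneous elements
  let W : Submonoid G :=
    { carrier := {w | w ≠ 0 ∧ SetLike.IsHomogeneousElem 𝒢 w}
      one_mem' := ⟨one_ne_zero, ⟨0, SetLike.one_mem_graded 𝒢⟩⟩
      mul_mem' := fun ha hb => ⟨mul_ne_zero ha.1 hb.1, ha.2.mul hb.2⟩ }
  have hdisj : Disjoint (𝔠 : Set G) (W : Set G) := by
    rw [Set.disjoint_left]
    rintro w hw ⟨hw0, e, hwe⟩
    exact hno e w hwe hw0 hw
  obtain ⟨P, hPprime, hcP, hPW⟩ := Ideal.exists_le_prime_disjoint 𝔠 W hdisj
  haveI hPmax : P.IsMaximal := hmax P hPprime hcP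
  have hP : ∀ e, ∀ w ∈ 𝒢 e, w ∈ P → w = 0 := by
    intro e w hwe hwP
    by_contra hw0
    exact Set.disjoint_left.mp hPW hwP ⟨hw0, e, hwe⟩
  letI : Field (G ⧸ P) := Ideal.Quotient.field P
  haveI : Algebra.FiniteType k (G ⧸ P) :=
    Algebra.FiniteType.of_surjective (Ideal.Quotient.mkₐ k P) (Ideal.Quotient.mkₐ_surjective k P)
  haveI : Module.Finite k (G ⧸ P) := finite_of_finite_type_of_isJacobsonRing k (G ⧸ P)
  have hint : Algebra.IsIntegral k (G ⧸ P) := inferInstance
  obtain ⟨b, hb, h, hhb, hh0⟩ := exists_pos_homogeneous 𝒢 h0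
    (le_trans (by norm_num) hdim)
  set S : Subalgebra k G := (Polynomial.aeval h : k[X] →ₐ[k] G).range with hS
  have hhS : h ∈ S := ⟨X, aeval_X h⟩
  have hhom : ∀ a, ∀ g ∈ 𝒢 a, IsIntegral S g := by
    intro a g hg
    have hu : g ^ b ∈ 𝒢 (a * b) := by
      have := SetLike.pow_mem_graded b hg
      rwa [smul_eq_mul, mul_comm] at this
    have hv : h ^ a ∈ 𝒢 (a * b) := by
      have := SetLike.pow_mem_graded a hhb
      rwa [smul_eq_mul] at this
    have h1 := isIntegral_of_same_degree 𝒢 P hint hP hu hv (pow_ne_zero a hh0) S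
      (Subalgebra.pow_mem S hhS a)
    exact IsIntegral.of_pow hb h1
  haveI hSG : Algebra.IsIntegral S G := by
    classical
    refine ⟨fun x => ?_⟩
    rw [← sum_support_decompose 𝒢 x]
    exact IsIntegral.sum _ fun i _ => hhom i _ (decompose 𝒢 x i).2
  have h1 : ringKrullDim G ≤ ringKrullDim S :=
    Groth.Agent.Lib.Helper5.ringKrullDim_le_of_isIntegral S G
  have h2 : ringKrullDim S ≤ 1 := by
    have hsurj : Function.Surjective
        ((Polynomial.aeval h : k[X] →ₐ[k] G).rangeRestrict) :=
      AlgHom.rangeRestrict_surjective _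
    have h3 := ringKrullDim_le_of_surjective
      ((Polynomial.aeval h : k[X] →ₐ[k] G).rangeRestrict).toRingHom hsurj
    rw [Polynomial.ringKrullDim_of_isNoetherianRing, ringKrullDim_eq_zero_of_field, zero_add] at h3
    exact h3
  have : (2 : WithBot ℕ∞) ≤ 1 := hdim.trans (h1.trans h2)
  exact absurd this (by norm_num)

end Main

end Groth.Agent.Lib.Helper29.GrIcC
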