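import Mathlib
import Groth.Agent.Lib.Helper29GrIcB
import Groth.Agent.Lib.Helper29GrIcC
import Groth.Agent.Lib.Helper25GrDim

/-!
# The conductor of a graded domain with finite-length normalization quotient (helper29)

Let `G` be a Noetherian ℕ-graded domain over a field `k` with `G₀ = k` and `dim G ≥ 2`, `B` the
integral closure of `G` in its fraction field `L`.  If `B/G` has finite length, then some power of
the irrelevant ideal multiplies `B` into `G`.
-/

set_option autoImplicit false
set_option linter.style.haveILetI false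
set_option linter.unusedSectionVars false
universe u

namespace Groth.Agent.Lib.Helper29.GrIcD

open DirectSum Groth.Agent.Lib.Helper29.GrIcA Groth.Agent.Lib.Helper29.GrIcB
  Groth.Agent.Lib.Helper29.GrIcC Groth.Agent.Lib.Helper25.GrDim

/-- A prime containing the annihilator of a module of finite length is maximal. -/
theorem isMaximal_of_annihilator_le {R : Type*} [CommRing R] {M : Type*} [AddCommGroup M]
    [Module R M] (h : IsFiniteLength R M) :
    ∀ (P : Ideal R), P.IsPrime → Module.annihilator R M ≤ P → P.IsMaximal := by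
  induction h with
  | of_subsingleton =>
    intro P hP hle
    exfalso
    apply hP.ne_top
    rw [eq_top_iff]
    refine le_trans ?_ hle
    intro r _
    rw [Module.mem_annihilator]
    intro m
    exact Subsingleton.elim _ _
  | @of_simple_quotient M _ _ N _ _ ih =>
    intro P hP hle
    obtain ⟨I, hI, ⟨e⟩⟩ := isSimpleModule_iff_quot_maximal.mp
      (inferInstance : IsSimpleModule R (M ⧸ N))
    have hmul : I * Module.annihilator R N ≤ P := by
      refine le_trans ?_ hle
      rw [Ideal.mul_le]
      intro a ha b hb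
      rw [Module.mem_annihilator]
      intro m
      have h1 : a • m ∈ N := by
        rw [← Submodule.Quotient.mk_eq_zero, Submodule.Quotient.mk_smul]
        apply e.injective
        rw [map_smul, map_zero]
        obtain ⟨r, hr⟩ := Ideal.Quotient.mk_surjective (e (Submodule.Quotient.mk m))
        rw [← hr, Algebra.smul_def, Ideal.Quotient.algebraMap_eq, ← map_mul,
          Ideal.Quotient.eq_zero_iff_mem]
        exact I.mul_mem_right _ ha
      have h2 : b • (⟨a • m, h1⟩ : N) = 0 := Module.mem_annihilator.mp hb _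
      have h3 := congrArg (fun z : N => (z : M)) h2
      simp only [Submodule.coe_smul, ZeroMemClass.coe_zero] at h3
      rw [mul_comm, mul_smul]
      exact h3
    rcases (Ideal.IsPrime.mul_le hP).mp hmul with h1 | h1
    · rw [← hI.eq_of_le hP.ne_top h1]
      exact hI
    · exact ih P hP h1

variable {k : Type u} [Field k] {G : Type u} [CommRing G] [IsDomain G] [Algebra k G]
  [IsNoetherianRing G]
  (𝒢 : ℕ → Submodule k G) [GradedAlgebra 𝒢]
  (h0 : ∀ x ∈ 𝒢 0, ∃ c : k, algebraMap k G c = x)
  (L : Type u) [Field L] [Algebra G L] [IsFractionRing G L]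

/-- The quotient `B/G`. -/
abbrev Q : Type u := ↥(integralClosure G L) ⧸
  LinearMap.range (Algebra.linearMap G ↥(integralClosure G L))

/-- The conductor of `G` in its integral closure. -/
def cond : Ideal G := Module.annihilator G (Q (G := G) L)

theorem mem_cond_iff (c : G) : c ∈ cond (G := G) L ↔
    ∀ x : integralClosure G L, ∃ g : G, algebraMap G L g = algebraMap G L c * (x : L) := by
  unfold cond
  rw [Module.mem_annihilator]
  constructor
  · intro h x
    have h1 := h (Submodule.Quotient.mk x)
    rw [← Submodule.Quotient.mk_smul, Submodule.Quotient.mk_eq_zero] at h1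
    obtain ⟨g, hg⟩ := h1
    refine ⟨g, ?_⟩
    have h2 := congrArg (fun z : integralClosure G L => (z : L)) hg
    simp only [Algebra.linearMap_apply] at h2
    rw [show ((c • x : integralClosure G L) : L) = c • (x : L) from rfl, Algebra.smul_def] at h2
    exact h2
  · intro h m
    obtain ⟨x, rfl⟩ := Submodule.Quotient.mk_surjective _ m
    rw [← Submodule.Quotient.mk_smul, Submodule.Quotient.mk_eq_zero]
    obtain ⟨g, hg⟩ := h x
    refine ⟨g, ?_⟩
    apply Subtype.ext
    rw [show ((c • x : integralClosure G L) : L) = c • (x : L) from rfl, Algebra.smul_def, ← hg]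
    rfl

include h0

/-- The conductor contains a nonzero homogeneous element. -/
theorem exists_homogeneous_mem_cond (hdim : 2 ≤ ringKrullDim G)
    (hfin : IsFiniteLength G (Q (G := G) L)) :
    ∃ e, ∃ w ∈ 𝒢 e, w ≠ 0 ∧ w ∈ cond (G := G) L :=
  exists_homogeneous_mem 𝒢 h0 hdim (cond (G := G) L)
    (fun P hP hle => isMaximal_of_annihilator_le hfin P hP hle)

omit h0 in
/-- The conductor is a homogeneous ideal as soon as it contains a nonzero homogeneous element. -/
theorem cond_isHomogeneous {e : ℕ} {w : G} (hw : w ∈ 𝒢 e) (hw0 : w ≠ 0)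
    (hwc : w ∈ cond (G := G) L) : (cond (G := G) L).IsHomogeneous 𝒢 := by
  classical
  have hinj := IsFractionRing.injective G L
  have hw' : algebraMap G L w ≠ 0 := by
    rw [Ne, map_eq_zero_iff _ hinj]; exact hw0
  intro i c hc
  rw [mem_cond_iff]
  intro x
  obtain ⟨a, ha⟩ := (mem_cond_iff L w).mp hwc x
  have hx : (x : L) = algebraMap G L a / algebraMap G L w := by
    rw [ha, mul_comm, mul_div_assoc, div_self hw', mul_one]
  have hxint : IsIntegral G (algebraMap G L a / algebraMap G L w) := by
    rw [← hx]; exact x.2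
  -- each component
  have hcomp : ∀ j, ∃ g : G, algebraMap G L g =
      algebraMap G L (decompose 𝒢 c i : G) *
        (algebraMap G L (decompose 𝒢 a j : G) / algebraMap G L w) := by
    intro j
    have hj := isIntegral_component_div 𝒢 L hw hw0 a hxint j
    obtain ⟨g, hg⟩ := (mem_cond_iff L c).mp hc ⟨_, hj⟩
    have h1 : g * w = c * (decompose 𝒢 a j : G) := by
      apply hinj
      rw [map_mul, map_mul, hg]
      change algebraMap G L c * (algebraMap G L (decompose 𝒢 a j : G) / algebraMap G L w) *
        algebraMap G L w = _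
      rw [mul_assoc, div_mul_cancel₀ _ hw']
    obtain ⟨g', hg'⟩ := exists_component_mul_eq 𝒢 hw g (i + j)
    have h2 : (decompose 𝒢 (c * (decompose 𝒢 a j : G)) (i + j) : G) =
        (decompose 𝒢 c i : G) * (decompose 𝒢 a j : G) :=
      coe_decompose_mul_add_of_right_mem 𝒢 (decompose 𝒢 a j).2
    refine ⟨g', ?_⟩
    rw [← mul_div_assoc, eq_div_iff hw', ← map_mul, ← map_mul, ← hg', h1, h2]
  choose g hg using hcomp
  refine ⟨∑ j ∈ (decompose 𝒢 a).support, g j, ?_⟩
  rw [map_sum, hx]
  conv_rhs => rw [← sum_support_decompose 𝒢 a, map_sum, Finset.sum_div, Finset.mul_sum]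
  exact Finset.sum_congr rfl fun j _ => hg j

/-- A power of the irrelevant ideal multiplies the integral closure into `G`. -/
theorem exists_pow_irr_le_cond (hdim : 2 ≤ ringKrullDim G)
    (hfin : IsFiniteLength G (Q (G := G) L)) :
    ∃ n : ℕ, irr 𝒢 ^ n ≤ cond (G := G) L := by
  obtain ⟨e, w, hw, hw0, hwc⟩ := exists_homogeneous_mem_cond 𝒢 h0 L hdim hfin
  have hhom := cond_isHomogeneous 𝒢 L hw hw0 hwc
  have hirrmax := irr_isMaximal 𝒢 h0
  have hle : irr 𝒢 ≤ (cond (G := G) L).radical := by
    rw [← Ideal.sInf_minimalPrimes]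
    apply le_sInf
    intro P hP
    have hPhom := isHomogeneous_of_mem_minimalPrimes 𝒢 hhom hP
    have hPprime : P.IsPrime := hP.1.1
    have hPle : P ≤ irr 𝒢 := le_irr_of_isHomogeneous 𝒢 h0 P hPhom hPprime.ne_top
    have hPmax : P.IsMaximal := isMaximal_of_annihilator_le hfin P hPprime hP.1.2
    rw [hPmax.eq_of_le hirrmax.ne_top hPle]
  exact Ideal.exists_pow_le_of_le_radical_of_fg hle (IsNoetherian.noetherian _)

theorem exists_pow_irr_mul_mem (hdim : 2 ≤ ringKrullDim G)
    (hfin : IsFiniteLength G (Q (G := G) L)) :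
    ∃ n : ℕ, ∀ c ∈ irr 𝒢 ^ n, ∀ x : integralClosure G L,
      ∃ g : G, algebraMap G L g = algebraMap G L c * (x : L) := by
  obtain ⟨n, hn⟩ := exists_pow_irr_le_cond 𝒢 h0 L hdim hfin
  exact ⟨n, fun c hc => (mem_cond_iff L c).mp (hn hc)⟩

end Groth.Agent.Lib.Helper29.GrIcD
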