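import Mathlib
import Groth.Agent.Lib.Helper29GrIcC
import Groth.Agent.Lib.Helper25GrDim
import Groth.Agent.Lib.Helper22AssHeightOne
import Groth.Agent.Lib.Helper4Japanese3
import Groth.Agent.Lib.Helper14Japanese
import Groth.Agent.Lib.Helper5IntDim
import Groth.Agent.Lib.Helper28FGDim

/-!
# The integral closure of a graded domain of dimension ≥ 2 is saturated w.r.t. the irrelevant ideal
(helper29)

Let `G` be a Noetherian ℕ-graded domain over a field `k` with `G₀ = k` and `dim G ≥ 2`, `B` the
integral closure of `G` in its fraction field `L`.  If `v ∈ L` and `G₊ⁿ v ⊆ B` then `v ∈ B`.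
-/

set_option autoImplicit false
set_option linter.style.haveILetI false
set_option linter.unusedSectionVars false
universe u

namespace Groth.Agent.Lib.Helper29.GrIcE

open DirectSum Groth.Agent.Lib.Helper29.GrIcC Groth.Agent.Lib.Helper25.GrDim

variable {k : Type u} [Field k] {G : Type u} [CommRing G] [IsDomain G] [Algebra k G]
  [IsNoetherianRing G]
  (𝒢 : ℕ → Submodule k G) [GradedAlgebra 𝒢]
  (h0 : ∀ x ∈ 𝒢 0, ∃ c : k, algebraMap k G c = x)
  (L : Type u) [Field L] [Algebra G L] [IsFractionRing G L]

include h0

/-- The integral closure is a finite `G`-module (affine domains are Japanese). -/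
theorem finite_integralClosure : Module.Finite G (integralClosure G L) := by
  haveI : Algebra.FiniteType k G := finiteType_of_h0 𝒢 h0
  exact Groth.Agent.Lib.Helper14.IsN2.finite
    (Groth.Agent.Lib.Helper4.Japanese.isN2_of_finiteType_field k G) L L

omit h0 in
theorem algebraMap_injective : Function.Injective (algebraMap G (integralClosure G L)) := by
  intro a b hab
  apply IsFractionRing.injective G L
  exact congrArg (fun z : integralClosure G L => (z : L)) hab

/-- Primes of the integral closure containing the irrelevant ideal have height at least two. -/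
theorem two_le_height (hdim : 2 ≤ ringKrullDim G) (P : Ideal (integralClosure G L)) [hP : P.IsPrime]
    (hle : (irr 𝒢).map (algebraMap G (integralClosure G L)) ≤ P) : 2 ≤ P.height := by
  haveI hftG : Algebra.FiniteType k G := finiteType_of_h0 𝒢 h0
  haveI hfin : Module.Finite G (integralClosure G L) := finite_integralClosure 𝒢 h0 L
  letI : Algebra k (integralClosure G L) :=
    ((algebraMap G (integralClosure G L)).comp (algebraMap k G)).toAlgebra
  haveI : IsScalarTower k G (integralClosure G L) := IsScalarTower.of_algebraMap_eq fun _ => rfl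
  haveI hftB : Algebra.FiniteType k (integralClosure G L) :=
    Algebra.FiniteType.trans hftG inferInstance
  have hirrmax := irr_isMaximal 𝒢 h0
  -- `P` lies over the irrelevant ideal
  have hcomap : P.comap (algebraMap G (integralClosure G L)) = irr 𝒢 := by
    have h1 : irr 𝒢 ≤ P.comap (algebraMap G (integralClosure G L)) :=
      Ideal.map_le_iff_le_comap.mp hle
    have h2 : P.comap (algebraMap G (integralClosure G L)) ≠ ⊤ :=
      (Ideal.comap_isPrime _ P).ne_top
    exact (hirrmax.eq_of_le h2 h1).symm
  haveI hPmax : P.IsMaximal :=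
    Ideal.isMaximal_of_isIntegral_of_isMaximal_comap P (by rw [hcomap]; exact hirrmax)
  -- height of `P` is `dim B`
  haveI : (⊥ : Ideal (integralClosure G L)).IsPrime := Ideal.isPrime_bot
  let e : (integralClosure G L ⧸ (⊥ : Ideal (integralClosure G L))) ≃+* integralClosure G L :=
    RingEquiv.quotientBot _
  haveI hMmax : (P.comap e).IsMaximal :=
    Ideal.comap_isMaximal_of_surjective _ e.surjective
  have h1 := Groth.Agent.Lib.Helper28.height_eq_ringKrullDim_quotient_of_isMaximal_of_finiteType k
    (integralClosure G L) ⊥ (P.comap e)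
  rw [ringKrullDim_eq_of_ringEquiv e] at h1
  have h2 : (P.comap e).height = P.height := e.height_comap P
  rw [h2] at h1
  have h3 : ringKrullDim (integralClosure G L) = ringKrullDim G :=
    Groth.Agent.Lib.Helper5.ringKrullDim_eq_of_isIntegral_of_injective G (integralClosure G L)
      (algebraMap_injective L)
  rw [h3] at h1
  rw [← h1] at hdim
  have h4 : ((2 : ℕ∞) : WithBot ℕ∞) ≤ ((P.height : ℕ∞) : WithBot ℕ∞) := hdim
  exact WithBot.coe_le_coe.mp h4

/-- Saturation: if `G₊ⁿ v` consists of integral elements then `v` is integral. -/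
theorem isIntegral_of_pow_irr_mul (hdim : 2 ≤ ringKrullDim G) (v : L) (n : ℕ)
    (h : ∀ c ∈ irr 𝒢 ^ n, IsIntegral G (algebraMap G L c * v)) : IsIntegral G v := by
  haveI hfin : Module.Finite G (integralClosure G L) := finite_integralClosure 𝒢 h0 L
  haveI : IsNoetherianRing (integralClosure G L) :=
    IsNoetherianRing.of_finite G (integralClosure G L)
  haveI : IsIntegrallyClosed (integralClosure G L) :=
    integralClosure.isIntegrallyClosedOfFiniteExtension (R := G) L
  have hinj := IsFractionRing.injective G L
  obtain ⟨c₀, x₀, hx₀, hv⟩ := IsFractionRing.div_surjective (A := G) v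
  have hx₀' : x₀ ≠ 0 := nonZeroDivisors.ne_zero hx₀
  have hx₀L : algebraMap G L x₀ ≠ 0 := by
    rw [Ne, map_eq_zero_iff _ hinj]; exact hx₀'
  set x : integralClosure G L := algebraMap G (integralClosure G L) x₀ with hx
  set c : integralClosure G L := algebraMap G (integralClosure G L) c₀ with hc
  have hxne : x ≠ 0 := by
    rw [hx, Ne, map_eq_zero_iff _ (algebraMap_injective L)]; exact hx₀'
  suffices hdvd : x ∣ c by
    obtain ⟨b, hb⟩ := hdvd
    have : v = (b : L) := by
      rw [← hv]
      have h1 := congrArg (fun z : integralClosure G L => (z : L)) hb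
      simp only [MulMemClass.coe_mul] at h1
      rw [div_eq_iff hx₀L, mul_comm]
      exact h1
    rw [this]
    exact b.2
  by_contra hndvd
  have hne : (Ideal.Quotient.mk (Ideal.span {x}) c) ≠ 0 := by
    rw [Ne, Ideal.Quotient.eq_zero_iff_mem, Ideal.mem_span_singleton]; exact hndvd
  obtain ⟨P, hP, hle⟩ := exists_le_isAssociatedPrime_of_isNoetherianRing (integralClosure G L)
    (Ideal.Quotient.mk (Ideal.span {x}) c) hne
  haveI hPprime : P.IsPrime := hP.isPrime
  have hht : P.height = 1 :=
    Groth.Agent.Lib.Helper22.AssHeightOne.height_eq_one_of_mem_associatedPrimes x hxne P hP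
  have hmem : ∀ a ∈ irr 𝒢 ^ n, algebraMap G (integralClosure G L) a ∈ P := by
    intro a ha
    apply hle
    rw [Submodule.mem_colon_singleton, Submodule.mem_bot]
    have hb := h a ha
    set b : integralClosure G L := ⟨_, hb⟩ with hbdef
    have h1 : algebraMap G (integralClosure G L) a * c = b * x := by
      apply Subtype.ext
      simp only [MulMemClass.coe_mul]
      change algebraMap G L a * algebraMap G L c₀ = algebraMap G L a * v * algebraMap G L x₀
      rw [← hv, mul_assoc, div_mul_cancel₀ _ hx₀L]
    change Ideal.Quotient.mk (Ideal.span {x}) (algebraMap G (integralClosure G L) a * c) = 0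
    rw [h1, Ideal.Quotient.eq_zero_iff_mem, Ideal.mem_span_singleton]
    exact Dvd.intro_left _ rfl
  have hirrP : (irr 𝒢).map (algebraMap G (integralClosure G L)) ≤ P := by
    rw [Ideal.map_le_iff_le_comap]
    intro a ha
    rw [Ideal.mem_comap]
    have h1 := hmem (a ^ n) (Ideal.pow_mem_pow ha n)
    rw [map_pow] at h1
    exact hPprime.mem_of_pow_mem n h1
  have h2 := two_le_height 𝒢 h0 L hdim P hirrP
  rw [hht] at h2
  exact absurd h2 (by norm_num)

end Groth.Agent.Lib.Helper29.GrIcE
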