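import Mathlib
import Groth.Agent.Lib.Helper8LC2
import Groth.Agent.Lib.Helper8LCDepth

/-!
# Local cohomology: connecting isomorphism `H⁰_I(M₃) ≃ H¹_I(M₁)` (helper29)

For a short exact sequence `0 → M₁ → M₂ → M₃ → 0` with `H⁰_I(M₂) = H¹_I(M₂) = 0` the connecting
homomorphism `H⁰_I(M₃) → H¹_I(M₁)` is an isomorphism; vanishing criteria.
-/

set_option autoImplicit false
set_option linter.style.haveILetI false
set_option linter.unusedSectionVars false
universe u

namespace Groth.Agent.Lib.Helper29.GrIcF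

open CategoryTheory Groth.Agent.Lib.Helper8.LC

variable {R : Type u} [CommRing R] (I : Ideal R)

/-- If `x ∈ I` acts bijectively on `M`, all local cohomology of `M` vanishes. -/
theorem H_eq_zero_of_bijective (i : ℕ) (M : Type u) [AddCommGroup M] [Module R M] (x : R)
    (hx : x ∈ I) (hbij : Function.Bijective (LinearMap.lsmul R M x))
    (y : (localCohomology I i).obj (ModuleCat.of R M)) : y = 0 := by
  apply H_eq_zero_of_smul_injective I i (ModuleCat.of R M) x hx
  intro w hw
  rw [← H_map_lsmul] at hw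
  let e : M ≃ₗ[R] M := LinearEquiv.ofBijective (LinearMap.lsmul R M x) hbij
  have hcomp : ModuleCat.ofHom (LinearMap.lsmul R M x) ≫ ModuleCat.ofHom e.symm.toLinearMap =
      𝟙 (ModuleCat.of R M) := by
    apply ModuleCat.hom_ext
    apply LinearMap.ext
    intro m
    exact e.symm_apply_apply m
  have h1 : (localCohomology I i).map (ModuleCat.ofHom e.symm.toLinearMap)
      ((localCohomology I i).map (ModuleCat.ofHom (LinearMap.lsmul R M x)) w) = w := by
    rw [← ModuleCat.comp_apply, ← Functor.map_comp, hcomp, CategoryTheory.Functor.map_id,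
      ModuleCat.id_apply]
  rw [hw, map_zero] at h1
  exact h1.symm

/-- If `M` has no `I`-power torsion, `H⁰_I(M) = 0`. -/
theorem H_zero_eq_zero_of_torsionSub_eq_bot (M : Type u) [AddCommGroup M] [Module R M]
    (h : DRing.torsionSub I M = ⊥) (y : (localCohomology I 0).obj (ModuleCat.of R M)) : y = 0 := by
  apply Φ_injective I (ModuleCat.of R M)
  rw [map_zero]
  have h1 := Φ_mem_torsionSub I (ModuleCat.of R M) y
  have h2 : Φ I (ModuleCat.of R M) y ∈ DRing.torsionSub I M := h1
  rw [h, Submodule.mem_bot] at h2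
  exact h2

section SES

variable {M₁ M₂ M₃ : Type u} [AddCommGroup M₁] [Module R M₁] [AddCommGroup M₂] [Module R M₂]
  [AddCommGroup M₃] [Module R M₃] (f : M₁ →ₗ[R] M₂) (g : M₂ →ₗ[R] M₃)
  (hf : Function.Injective f) (hg : Function.Surjective g) (hex : Function.Exact f g)

include hf hg hex in
/-- `H^{i+1}_I(M₁) = 0` if `H^i_I(M₃) = 0` and `H^{i+1}_I(M₂) = 0`. -/
theorem H_succ_left_eq_zero (i : ℕ)
    (h3 : ∀ z : (localCohomology I i).obj (ModuleCat.of R M₃), z = 0)
    (h2 : ∀ y : (localCohomology I (i + 1)).obj (ModuleCat.of R M₂), y = 0)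
    (x : (localCohomology I (i + 1)).obj (ModuleCat.of R M₁)) : x = 0 := by
  have hS := Sfg_shortExact f g hf hg hex
  obtain ⟨z, hz⟩ := H_exact₁ I i (Sfg f g hex) hS x (h2 _)
  rw [← hz, h3 z, map_zero]

include hf hg hex in
/-- The connecting isomorphism. -/
theorem nonempty_H_zero_equiv_H_one
    (h0 : ∀ y : (localCohomology I 0).obj (ModuleCat.of R M₂), y = 0)
    (h1 : ∀ y : (localCohomology I 1).obj (ModuleCat.of R M₂), y = 0) :
    Nonempty ((localCohomology I 0).obj (ModuleCat.of R M₃) ≃ₗ[R]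
      (localCohomology I 1).obj (ModuleCat.of R M₁)) := by
  have hS := Sfg_shortExact f g hf hg hex
  refine ⟨LinearEquiv.ofBijective (Hδ I 0 (Sfg f g hex) hS).hom ⟨?_, ?_⟩⟩
  · rw [injective_iff_map_eq_zero]
    intro z hz
    obtain ⟨y, hy⟩ := H_exact₃ I 0 (Sfg f g hex) hS z hz
    rw [← hy, h0 y, map_zero]
  · intro x
    exact H_exact₁ I 0 (Sfg f g hex) hS x (h1 _)

include hf hg hex in
/-- If moreover `M₃` is `I`-power torsion then `M₃ ≃ H¹_I(M₁)`. -/
theorem nonempty_equiv_H_one
    (h0 : ∀ y : (localCohomology I 0).obj (ModuleCat.of R M₂), y = 0)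
    (h1 : ∀ y : (localCohomology I 1).obj (ModuleCat.of R M₂), y = 0)
    (htors : DRing.torsionSub I M₃ = ⊤) :
    Nonempty (M₃ ≃ₗ[R] (localCohomology I 1).obj (ModuleCat.of R M₁)) := by
  obtain ⟨e⟩ := nonempty_H_zero_equiv_H_one I f g hf hg hex h0 h1
  have e1 : (localCohomology I 0).obj (ModuleCat.of R M₃) ≃ₗ[R] DRing.torsionSub I M₃ :=
    ΦEquiv I (ModuleCat.of R M₃)
  have e2 : DRing.torsionSub I M₃ ≃ₗ[R] M₃ :=
    (LinearEquiv.ofEq _ _ htors).trans Submodule.topEquiv
  exact ⟨(e2.symm.trans e1.symm).trans e⟩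

end SES

end Groth.Agent.Lib.Helper29.GrIcF
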