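import Mathlib
import Groth.Agent.Lib.Helper29GrIcD
import Groth.Agent.Lib.Helper29GrIcE
import Groth.Agent.Lib.Helper29GrIcF

/-!
# `Ḡ/G ≃ H¹_{G₊}(G)` for a graded domain with finite-length normalization quotient (helper29)
-/

set_option autoImplicit false
set_option linter.style.haveILetI false
set_option linter.unusedSectionVars false
universe u

namespace Groth.Agent.Lib.Helper29.GrIcG

open DirectSum Groth.Agent.Lib.Helper29.GrIcC Groth.Agent.Lib.Helper29.GrIcD
  Groth.Agent.Lib.Helper29.GrIcE Groth.Agent.Lib.Helper29.GrIcF Groth.Agent.Lib.Helper25.GrDim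

variable {k : Type u} [Field k] {G : Type u} [CommRing G] [IsDomain G] [Algebra k G]
  [IsNoetherianRing G]
  (𝒢 : ℕ → Submodule k G) [GradedAlgebra 𝒢]
  (h0 : ∀ x ∈ 𝒢 0, ∃ c : k, algebraMap k G c = x)
  (L : Type u) [Field L] [Algebra G L] [IsFractionRing G L]

include h0

/-- A nonzero element of the irrelevant ideal. -/
theorem exists_mem_irr_ne_zero (hdim : 2 ≤ ringKrullDim G) : ∃ x ∈ irr 𝒢, x ≠ 0 := by
  obtain ⟨b, hb, h, hhb, hh0⟩ := exists_pos_homogeneous 𝒢 h0 (le_trans (by norm_num) hdim)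
  refine ⟨h, ?_, hh0⟩
  rw [mem_irr_iff, decompose_of_mem_ne 𝒢 hhb (by omega)]

/-- All local cohomology of the fraction field vanishes. -/
theorem H_fractionField_eq_zero (hdim : 2 ≤ ringKrullDim G) (i : ℕ)
    (y : (localCohomology (irr 𝒢) i).obj (ModuleCat.of G L)) : y = 0 := by
  obtain ⟨x, hx, hx0⟩ := exists_mem_irr_ne_zero 𝒢 h0 hdim
  have hx' : algebraMap G L x ≠ 0 := by
    rw [Ne, map_eq_zero_iff _ (IsFractionRing.injective G L)]; exact hx0
  refine H_eq_zero_of_bijective (irr 𝒢) i L x hx ⟨?_, ?_⟩ y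
  · intro a b hab
    simp only [LinearMap.lsmul_apply, Algebra.smul_def] at hab
    exact mul_left_cancel₀ hx' hab
  · intro a
    refine ⟨a / algebraMap G L x, ?_⟩
    simp only [LinearMap.lsmul_apply, Algebra.smul_def]
    rw [mul_div_cancel₀ _ hx']

/-- `H⁰` of the integral closure vanishes. -/
theorem H_zero_integralClosure_eq_zero (hdim : 2 ≤ ringKrullDim G)
    (y : (localCohomology (irr 𝒢) 0).obj (ModuleCat.of G (integralClosure G L))) : y = 0 := by
  obtain ⟨x, hx, hx0⟩ := exists_mem_irr_ne_zero 𝒢 h0 hdim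
  have hx' : algebraMap G L x ≠ 0 := by
    rw [Ne, map_eq_zero_iff _ (IsFractionRing.injective G L)]; exact hx0
  refine H_zero_eq_zero_of_torsionSub_eq_bot (irr 𝒢) (integralClosure G L) ?_ y
  rw [Submodule.eq_bot_iff]
  rintro m ⟨n, hn⟩
  have h1 := hn (x ^ n) (Ideal.pow_mem_pow hx n)
  have h2 := congrArg (fun z : integralClosure G L => (z : L)) h1
  simp only [ZeroMemClass.coe_zero] at h2
  rw [show ((x ^ n • m : integralClosure G L) : L) = (x ^ n) • (m : L) from rfl,
    Algebra.smul_def, map_pow] at h2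
  apply Subtype.ext
  rw [ZeroMemClass.coe_zero]
  exact (mul_eq_zero.mp h2).resolve_left (pow_ne_zero n hx')

/-- `H⁰` of `L/Ḡ` vanishes. -/
theorem H_zero_quot_eq_zero (hdim : 2 ≤ ringKrullDim G)
    (y : (localCohomology (irr 𝒢) 0).obj
      (ModuleCat.of G (L ⧸ Subalgebra.toSubmodule (integralClosure G L)))) : y = 0 := by
  refine H_zero_eq_zero_of_torsionSub_eq_bot (irr 𝒢) _ ?_ y
  rw [Submodule.eq_bot_iff]
  rintro m ⟨n, hn⟩
  obtain ⟨v, rfl⟩ := Submodule.Quotient.mk_surjective _ m
  rw [Submodule.Quotient.mk_eq_zero]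
  change IsIntegral G v
  refine isIntegral_of_pow_irr_mul 𝒢 h0 L hdim v n ?_
  intro c hc
  have h1 := hn c hc
  rw [← Submodule.Quotient.mk_smul, Submodule.Quotient.mk_eq_zero, Algebra.smul_def] at h1
  exact h1

/-- `H¹` of the integral closure vanishes. -/
theorem H_one_integralClosure_eq_zero (hdim : 2 ≤ ringKrullDim G)
    (y : (localCohomology (irr 𝒢) 1).obj (ModuleCat.of G (integralClosure G L))) : y = 0 := by
  have hf : Function.Injective (integralClosure G L).val.toLinearMap := Subtype.val_injective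
  have hg : Function.Surjective (Subalgebra.toSubmodule (integralClosure G L)).mkQ :=
    Submodule.mkQ_surjective _
  have hex : Function.Exact (integralClosure G L).val.toLinearMap
      (Subalgebra.toSubmodule (integralClosure G L)).mkQ := by
    intro v
    rw [Submodule.mkQ_apply, Submodule.Quotient.mk_eq_zero]
    constructor
    · intro hv
      exact ⟨⟨v, hv⟩, rfl⟩
    · rintro ⟨b, rfl⟩
      exact b.2
  exact H_succ_left_eq_zero (irr 𝒢) _ _ hf hg hex 0 (H_zero_quot_eq_zero 𝒢 h0 L hdim)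
    (H_fractionField_eq_zero 𝒢 h0 L hdim 1) y

/-- Main theorem. -/
theorem main (hdim : 2 ≤ ringKrullDim G) (hfin : IsFiniteLength G (Q (G := G) L)) :
    Nonempty (Q (G := G) L ≃ₗ[G] (localCohomology (irr 𝒢) 1).obj (ModuleCat.of G G)) := by
  have hf : Function.Injective (Algebra.linearMap G (integralClosure G L)) :=
    algebraMap_injective L
  have hg : Function.Surjective
      (LinearMap.range (Algebra.linearMap G (integralClosure G L))).mkQ :=
    Submodule.mkQ_surjective _
  have hex : Function.Exact (Algebra.linearMap G (integralClosure G L))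
      (LinearMap.range (Algebra.linearMap G (integralClosure G L))).mkQ :=
    LinearMap.exact_map_mkQ_range _
  have htors : DRing.torsionSub (irr 𝒢) (Q (G := G) L) = ⊤ := by
    obtain ⟨n, hn⟩ := exists_pow_irr_mul_mem 𝒢 h0 L hdim hfin
    rw [eq_top_iff]
    intro m _
    refine ⟨n, fun c hc => ?_⟩
    obtain ⟨x, rfl⟩ := Submodule.Quotient.mk_surjective _ m
    rw [← Submodule.Quotient.mk_smul, Submodule.Quotient.mk_eq_zero]
    obtain ⟨g, hg⟩ := hn c hc x
    refine ⟨g, ?_⟩
    apply Subtype.ext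
    rw [show ((c • x : integralClosure G L) : L) = c • (x : L) from rfl, Algebra.smul_def, ← hg]
    rfl
  exact nonempty_equiv_H_one (irr 𝒢) _ _ hf hg hex (H_zero_integralClosure_eq_zero 𝒢 h0 L hdim)
    (H_one_integralClosure_eq_zero 𝒢 h0 L hdim) htors

end Groth.Agent.Lib.Helper29.GrIcG
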