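import Mathlib
import Groth.Agent.Lib.Helper29GrIcD
import Groth.Agent.Lib.Helper29GrIcE

/-!
# Normality of the punctured spectrum of a graded domain ⟺ finite length of `Ḡ/G` (helper29)
-/

set_option autoImplicit false
set_option linter.style.haveILetI false
set_option linter.unusedSectionVars false
universe u

namespace Groth.Agent.Lib.Helper29.GrIcH

open DirectSum Groth.Agent.Lib.Helper29.GrIcC Groth.Agent.Lib.Helper29.GrIcD
  Groth.Agent.Lib.Helper29.GrIcE Groth.Agent.Lib.Helper25.GrDim

section Loc

variable {G : Type u} [CommRing G] [IsDomain G] (L : Type u) [Field L] [Algebra G L]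
  [IsFractionRing G L]

/-- `G_p` is integrally closed iff every element of `L` integral over `G` lies in `G_p`. -/
theorem isIntegrallyClosed_atPrime_iff (p : Ideal G) [hp : p.IsPrime] :
    IsIntegrallyClosed (Localization.AtPrime p) ↔
      ∀ x : L, IsIntegral G x → ∃ s : G, s ∉ p ∧ ∃ g : G,
        algebraMap G L g = algebraMap G L s * x := by
  have hinj := IsFractionRing.injective G L
  have hunit : ∀ y : p.primeCompl, IsUnit (algebraMap G L y) := by
    intro y
    apply IsUnit.mk0
    rw [Ne, map_eq_zero_iff _ hinj]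
    intro h
    exact y.2 (by rw [h]; exact p.zero_mem)
  letI : Algebra (Localization.AtPrime p) L :=
    (IsLocalization.lift (M := p.primeCompl) (g := algebraMap G L) hunit).toAlgebra
  haveI : IsScalarTower G (Localization.AtPrime p) L :=
    IsScalarTower.of_algebraMap_eq fun x => (IsLocalization.lift_eq hunit x).symm
  haveI : IsFractionRing (Localization.AtPrime p) L :=
    IsFractionRing.isFractionRing_of_isDomain_of_isLocalization p.primeCompl
      (Localization.AtPrime p) L
  constructor
  · intro hic x hx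
    have hx' : IsIntegral (Localization.AtPrime p) x := hx.tower_top
    obtain ⟨y, hy⟩ := IsIntegrallyClosed.algebraMap_eq_of_integral hx'
    obtain ⟨⟨g, s⟩, hgs⟩ := IsLocalization.surj p.primeCompl y
    refine ⟨s, s.2, g, ?_⟩
    have h1 := congrArg (algebraMap (Localization.AtPrime p) L) hgs
    rw [map_mul, hy, ← IsScalarTower.algebraMap_apply, ← IsScalarTower.algebraMap_apply] at h1
    rw [← h1, mul_comm]
  · intro h
    rw [isIntegrallyClosed_iff L]
    intro x hx
    obtain ⟨m, hm⟩ := IsIntegral.exists_multiple_integral_of_isLocalization p.primeCompl x hx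
    obtain ⟨s, hs, g, hg⟩ := h _ hm
    have hsm : s * (m : G) ∈ p.primeCompl := p.primeCompl.mul_mem hs m.2
    refine ⟨IsLocalization.mk' (Localization.AtPrime p) g ⟨s * m, hsm⟩, ?_⟩
    have hne : algebraMap G L (s * m) ≠ 0 := (hunit ⟨s * m, hsm⟩).ne_zero
    have h1 := congrArg (algebraMap (Localization.AtPrime p) L)
      (IsLocalization.mk'_spec (Localization.AtPrime p) g ⟨s * m, hsm⟩)
    rw [map_mul, ← IsScalarTower.algebraMap_apply, ← IsScalarTower.algebraMap_apply] at h1
    rw [hg, Submonoid.smul_def, Algebra.smul_def, ← mul_assoc, ← map_mul] at h1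
    rw [mul_comm] at h1
    exact mul_left_cancel₀ hne h1

end Loc

variable {k : Type u} [Field k] {G : Type u} [CommRing G] [IsDomain G] [Algebra k G]
  [IsNoetherianRing G]
  (𝒢 : ℕ → Submodule k G) [GradedAlgebra 𝒢]
  (h0 : ∀ x ∈ 𝒢 0, ∃ c : k, algebraMap k G c = x)
  (L : Type u) [Field L] [Algebra G L] [IsFractionRing G L]

include h0

/-- Finite length ⇒ normal on the punctured spectrum. -/
theorem isIntegrallyClosed_of_isFiniteLength (hdim : 2 ≤ ringKrullDim G)
    (hfin : IsFiniteLength G (Q (G := G) L)) (p : Ideal G) [hp : p.IsPrime]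
    (hnp : ¬ irr 𝒢 ≤ p) : IsIntegrallyClosed (Localization.AtPrime p) := by
  rw [isIntegrallyClosed_atPrime_iff L]
  obtain ⟨n, hn⟩ := exists_pow_irr_mul_mem 𝒢 h0 L hdim hfin
  obtain ⟨s, hs, hsp⟩ := SetLike.not_le_iff_exists.mp hnp
  intro x hx
  refine ⟨s ^ n, fun h => hsp (hp.mem_of_pow_mem n h), ?_⟩
  exact hn (s ^ n) (Ideal.pow_mem_pow hs n) ⟨x, hx⟩

/-- Normal on the punctured spectrum ⇒ finite length. -/
theorem isFiniteLength_of_isIntegrallyClosed
    (h : ∀ (p : Ideal G) [p.IsPrime], ¬ irr 𝒢 ≤ p → IsIntegrallyClosed (Localization.AtPrime p)) :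
    IsFiniteLength G (Q (G := G) L) := by
  classical
  haveI hfinB : Module.Finite G (integralClosure G L) := finite_integralClosure 𝒢 h0 L
  haveI hfinQ : Module.Finite G (Q (G := G) L) := inferInstance
  have hirrmax := irr_isMaximal 𝒢 h0
  -- primes containing the conductor equal the irrelevant ideal
  have hprime : ∀ p : Ideal G, p.IsPrime → cond (G := G) L ≤ p → p = irr 𝒢 := by
    intro p hp hle
    by_contra hne
    have hnp : ¬ irr 𝒢 ≤ p := fun hle' => hne (hirrmax.eq_of_le hp.ne_top hle').symm
    have hic := h p hnp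
    rw [isIntegrallyClosed_atPrime_iff L] at hic
    obtain ⟨T, hT⟩ := hfinB.fg_top
    have key : ∀ b ∈ T, ∃ s : G, s ∉ p ∧ ∃ g : G,
        algebraMap G L g = algebraMap G L s * ((b : integralClosure G L) : L) :=
      fun b _ => hic _ b.2
    choose! s hs g hg using key
    set S : G := ∏ b ∈ T, s b with hS
    have hSp : S ∉ p := by
      rw [hS]
      intro hmem
      obtain ⟨b, hb, hbp⟩ := (hp.prod_mem_iff).mp hmem
      exact hs b hb hbp
    apply hSp
    apply hle
    rw [mem_cond_iff]
    intro x
    have hx : x ∈ Submodule.span G (T : Set (integralClosure G L)) := by rw [hT]; trivial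
    induction hx using Submodule.span_induction with
    | mem b hb =>
      refine ⟨(∏ b' ∈ T.erase b, s b') * g b, ?_⟩
      rw [map_mul, hg b hb, ← mul_assoc, ← map_mul, Finset.prod_erase_mul T s hb]
    | zero => exact ⟨0, by simp⟩
    | add x y _ _ hx hy =>
      obtain ⟨gx, hgx⟩ := hx
      obtain ⟨gy, hgy⟩ := hy
      exact ⟨gx + gy, by rw [map_add, hgx, hgy, AddMemClass.coe_add, mul_add]⟩
    | smul c x _ hx =>
      obtain ⟨gx, hgx⟩ := hx
      refine ⟨c * gx, ?_⟩
      rw [map_mul, hgx, show ((c • x : integralClosure G L) : L) = c • (x : L) from rfl,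
        Algebra.smul_def]
      ring
  -- `G ⧸ cond` is an Artinian ring
  haveI hArt : IsArtinianRing (G ⧸ cond (G := G) L) := by
    rw [isArtinianRing_iff_isNoetherianRing_krullDimLE_zero]
    refine ⟨inferInstance, ?_⟩
    rw [Ring.krullDimLE_zero_iff]
    intro P hP
    have h1 : (P.comap (Ideal.Quotient.mk (cond (G := G) L))) = irr 𝒢 := by
      apply hprime _ (Ideal.comap_isPrime _ P)
      intro c hc
      rw [Ideal.mem_comap, Ideal.Quotient.eq_zero_iff_mem.mpr hc]
      exact P.zero_mem
    have h2 : P = (irr 𝒢).map (Ideal.Quotient.mk (cond (G := G) L)) := by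
      rw [← h1, Ideal.map_comap_of_surjective _ Ideal.Quotient.mk_surjective]
    rw [h2]
    refine Ideal.IsMaximal.map_of_surjective_of_ker_le Ideal.Quotient.mk_surjective ?_
    rw [Ideal.mk_ker, ← h1]
    intro c hc
    rw [Ideal.mem_comap, Ideal.Quotient.eq_zero_iff_mem.mpr hc]
    exact P.zero_mem
  -- `Q` is a finite module over this Artinian ring
  have htor : Module.IsTorsionBySet G (Q (G := G) L) (cond (G := G) L : Set G) := by
    intro m c
    exact Module.mem_annihilator.mp c.2 m
  letI : Module (G ⧸ cond (G := G) L) (Q (G := G) L) := htor.module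
  haveI : IsScalarTower G (G ⧸ cond (G := G) L) (Q (G := G) L) := htor.isScalarTower
  haveI : Module.Finite (G ⧸ cond (G := G) L) (Q (G := G) L) :=
    Module.Finite.of_restrictScalars_finite G _ _
  haveI hA : IsArtinian (G ⧸ cond (G := G) L) (Q (G := G) L) := inferInstance
  haveI : IsArtinian G (Q (G := G) L) :=
    isArtinian_of_surjective_algebraMap (S := G) (R := G ⧸ cond (G := G) L)
      Ideal.Quotient.mk_surjective
  rw [isFiniteLength_iff_isNoetherian_isArtinian]
  exact ⟨inferInstance, inferInstance⟩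

end Groth.Agent.Lib.Helper29.GrIcH
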