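import Groth.Agent.Lib.Helper29GrMaxHull
import Groth.Agent.Lib.Helper29GrAss

/-! Injectivity criterion for *injective modules over a Noetherian `ℤ`-graded ring: a
*injective module is injective iff no non-homogeneous prime has its homogeneous core among the
associated primes (helper29).  Part 1: torsion lemmas and the Baer direction. -/

set_option autoImplicit false
set_option linter.style.haveILetI false
open DirectSum

namespace Groth.Agent.Lib.Helper29GrInjCrit

open Groth.Agent.Lib.Helper29GrEss Groth.Agent.Lib.Helper29GrAss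
  Groth.Agent.Lib.Helper29GrMaxHull

universe u

variable {R : Type u} [CommRing R] [IsNoetherianRing R] (𝒜 : ℤ → AddSubgroup R) [GradedRing 𝒜]
variable {M : Type u} [AddCommGroup M] [Module R M] (ℳ : ℤ → AddSubgroup M)
  [DirectSum.Decomposition ℳ] [SetLike.GradedSMul 𝒜 ℳ]

/-- `y` is killed by a homogeneous element outside `q`. -/
def IsTors (q : Ideal R) (y : M) : Prop :=
  ∃ t : R, SetLike.IsHomogeneousElem 𝒜 t ∧ t ∉ q ∧ t • y = 0

variable {𝒜}

omit [IsNoetherianRing R] in
/-- Simultaneous killer of finitely many torsion elements. -/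
theorem exists_common_killer {q : Ideal R} [hq : q.IsPrime] {α : Type*} (T : Finset α)
    (y : α → M) :
    ∃ t : R, SetLike.IsHomogeneousElem 𝒜 t ∧ t ∉ q ∧ ∀ k ∈ T, IsTors 𝒜 q (y k) → t • y k = 0 := by
  classical
  induction T using Finset.induction_on with
  | empty =>
    exact ⟨1, ⟨0, SetLike.GradedOne.one_mem⟩, fun h => hq.ne_top ((Ideal.eq_top_iff_one q).mpr h),
      fun k hk => absurd hk (Finset.notMem_empty k)⟩
  | insert a T ha ih =>
    obtain ⟨t, ⟨e, ht⟩, htq, htk⟩ := ih
    by_cases hta : IsTors 𝒜 q (y a)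
    · obtain ⟨t', ⟨e', ht'⟩, ht'q, ht'a⟩ := hta
      refine ⟨t * t', ⟨e + e', SetLike.GradedMul.mul_mem ht ht'⟩, ?_, ?_⟩
      · intro h
        rcases hq.mem_or_mem h with h | h
        · exact htq h
        · exact ht'q h
      · intro k hk hkt
        rcases Finset.mem_insert.mp hk with rfl | hk
        · rw [mul_smul, ht'a, smul_zero]
        · rw [mul_comm, mul_smul, htk k hk hkt, smul_zero]
    · refine ⟨t, ⟨e, ht⟩, htq, ?_⟩
      intro k hk hkt
      rcases Finset.mem_insert.mp hk with rfl | hk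
      · exact absurd hkt hta
      · exact htk k hk hkt

omit [IsNoetherianRing R] in
/-- If all components are torsion, so is the element. -/
theorem isTors_of_components {q : Ideal R} [hq : q.IsPrime] (y : M)
    (h : ∀ k, IsTors 𝒜 q ((decompose ℳ y) k : M)) : IsTors 𝒜 q y := by
  classical
  obtain ⟨t, ht, htq, htk⟩ := exists_common_killer (𝒜 := 𝒜) (q := q) (decompose ℳ y).support
    (fun k => ((decompose ℳ y) k : M))
  refine ⟨t, ht, htq, ?_⟩
  rw [← DirectSum.sum_support_decompose ℳ y, Finset.smul_sum]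
  exact Finset.sum_eq_zero fun k hk => htk k hk (h k)

omit [IsNoetherianRing R] in
/-- Components of an element killed by a homogeneous ideal are killed by it. -/
theorem comp_killed (q : HomogeneousIdeal 𝒜) (y : M) (hy : ∀ a ∈ q.toIdeal, a • y = 0) (k : ℤ) :
    ∀ a ∈ q.toIdeal, a • ((decompose ℳ y) k : M) = 0 := by
  classical
  intro a ha
  rw [← DirectSum.sum_support_decompose 𝒜 a, Finset.sum_smul]
  apply Finset.sum_eq_zero
  intro d _
  have had : ((decompose 𝒜 a) d : R) ∈ q.toIdeal := q.isHomogeneous d ha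
  have h1 := decompose_smul_of_mem 𝒜 ℳ (SetLike.coe_mem ((decompose 𝒜 a) d)) y (k + d)
  rw [hy _ had, DirectSum.decompose_zero, add_sub_cancel_right] at h1
  exact h1.symm

include ℳ in
/-- If `q` is not an associated prime, every element killed by `q` is torsion. -/
theorem exists_tors (q : HomogeneousIdeal 𝒜) [hq : q.toIdeal.IsPrime]
    (hqass : q.toIdeal ∉ associatedPrimes R M) (y : M) (hy : ∀ a ∈ q.toIdeal, a • y = 0) :
    IsTors 𝒜 q.toIdeal y := by
  classical
  by_contra hcon
  have hk : ∃ k, ¬ IsTors 𝒜 q.toIdeal ((decompose ℳ y) k : M) := by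
    by_contra h
    rw [not_exists] at h
    exact hcon (isTors_of_components ℳ y fun k => not_not.mp (h k))
  obtain ⟨k, hk⟩ := hk
  set x : M := ((decompose ℳ y) k : M) with hx
  have hxk : x ∈ ℳ k := SetLike.coe_mem _
  have hqx := comp_killed ℳ q y hy k
  have hhom := annihilator_span_singleton_isHomogeneous 𝒜 ℳ hxk
  apply hqass
  rw [AssociatedPrimes.mem_iff, isAssociatedPrime_iff]
  refine ⟨hq, x, ?_⟩
  ext r
  rw [Submodule.mem_colon_singleton, Submodule.mem_bot]
  constructor
  · intro hr; exact hqx r hr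
  · intro hr
    have hr' : r ∈ (Submodule.span R {x}).annihilator := by
      rw [Submodule.mem_annihilator_span_singleton]; exact hr
    rw [← DirectSum.sum_support_decompose 𝒜 r]
    apply Ideal.sum_mem
    intro d _
    by_contra hd
    have h1 : ((decompose 𝒜 r) d : R) ∈ (Submodule.span R {x}).annihilator := hhom d hr'
    rw [Submodule.mem_annihilator_span_singleton] at h1
    exact hk ⟨_, ⟨d, SetLike.coe_mem _⟩, hd, h1⟩

/-! ### The Baer direction -/

/-- One-step extension of a map from an ideal. -/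
theorem extend_step {R : Type*} {M : Type*} [CommRing R] [AddCommGroup M] [Module R M]
    (I : Ideal R) (φ : I →ₗ[R] M) (y : R) (z : M)
    (hz : ∀ (c : R) (hc : c * y ∈ I), φ ⟨c * y, hc⟩ = c • z) :
    ∃ (J : Ideal R) (hIJ : I ≤ J) (_ : y ∈ J) (φ' : J →ₗ[R] M),
      ∀ (x : R) (hx : x ∈ I), φ' ⟨x, hIJ hx⟩ = φ ⟨x, hx⟩ := by
  let f₁ : R →ₗ.[R] M := ⟨I, φ⟩
  let f₂ : R →ₗ.[R] M := LinearPMap.mkSpanSingleton' y z (by
    intro c hc
    have hcI : c * y ∈ I := by
      rw [smul_eq_mul] at hc
      rw [hc]; exact I.zero_mem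
    rw [RingHom.id_apply, ← hz c hcI]
    have : (⟨c * y, hcI⟩ : I) = 0 := by
      apply Subtype.ext
      rw [smul_eq_mul] at hc
      exact hc
    rw [this, map_zero])
  have hagree : ∀ (x : f₁.domain) (w : f₂.domain), (x : R) = w → f₁ x = f₂ w := by
    rintro ⟨x, hx⟩ ⟨w, hw⟩ hxw
    change x = w at hxw
    subst hxw
    obtain ⟨c, rfl⟩ := Submodule.mem_span_singleton.mp hw
    rw [LinearPMap.mkSpanSingleton'_apply, RingHom.id_apply, ← hz c hx]
    rfl
  refine ⟨(f₁.sup f₂ hagree).domain, (le_sup_left : I ≤ I ⊔ f₂.domain),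
    (le_sup_right : f₂.domain ≤ I ⊔ f₂.domain) (Submodule.mem_span_singleton_self y),
    (f₁.sup f₂ hagree).toFun, fun x hx => ?_⟩
  exact ((f₁.left_le_sup f₂ hagree).2 (x := ⟨x, hx⟩)
    (y := ⟨x, (le_sup_left : I ≤ I ⊔ f₂.domain) hx⟩) rfl).symm

variable (𝒜)

/-- A *injective module such that no non-homogeneous prime has its core among the associated
primes is injective. -/
theorem baer_of_no_core (hM : GrLC.IsStarInj 𝒜 ℳ)
    (hcore : ∀ p : Ideal R, p.IsPrime → ¬ p.IsHomogeneous 𝒜 →
      (p.homogeneousCore 𝒜).toIdeal ∉ associatedPrimes R M) : Module.Baer R M := by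
  classical
  intro I
  induction I using IsNoetherian.induction with
  | hgt I IH =>
    intro φ
    by_cases htop : I = ⊤
    · refine ⟨φ ∘ₗ LinearMap.codRestrict I LinearMap.id (fun x => htop ▸ Submodule.mem_top),
        fun x hx => rfl⟩
    by_cases hA : ∃ y : R, y ∉ I ∧ ∃ a : R, a ∉ I ∧ a * y ∈ I
    · -- the colon ideal is strictly bigger: use the induction hypothesis twice
      obtain ⟨y, hyI, a, haI, hay⟩ := hA
      let Q : Ideal R := Submodule.comap (LinearMap.mulRight R y) I
      have hIQ : I ≤ Q := fun c hc => Ideal.mul_mem_right y I hc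
      have hQlt : I < Q := lt_of_le_of_ne hIQ (fun h => haI (h ▸ (show a ∈ Q from hay)))
      let θ : Q →ₗ[R] M := φ ∘ₗ LinearMap.codRestrict I
        ((LinearMap.mulRight R y) ∘ₗ Submodule.subtype (Q : Submodule R R)) (fun c => c.2)
      obtain ⟨gQ, hgQ⟩ := IH Q hQlt θ
      have hz : ∀ (c : R) (hc : c * y ∈ I), φ ⟨c * y, hc⟩ = c • gQ 1 := by
        intro c hc
        have h1 : gQ c = φ ⟨c * y, hc⟩ := hgQ c hc
        rw [← h1, ← map_smul, smul_eq_mul, mul_one]
      obtain ⟨J, hIJ, hyJ, φ', hφ'⟩ := extend_step I φ y (gQ 1) hz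
      have hJlt : I < J := lt_of_le_of_ne hIJ (fun h => hyI (h ▸ hyJ))
      obtain ⟨g, hg⟩ := IH J hJlt φ'
      exact ⟨g, fun x hx => by rw [hg x (hIJ hx), hφ' x hx]⟩
    · -- `I` is prime
      have hprime : Ideal.IsPrime I := by
        rw [Ideal.isPrime_iff]
        refine ⟨htop, fun {a y} hay => ?_⟩
        by_contra hcon
        rw [not_or] at hcon
        exact hA ⟨y, hcon.2, a, hcon.1, hay⟩
      by_cases hhom : Ideal.IsHomogeneous 𝒜 I
      · obtain ⟨z, hz⟩ := exists_elt 𝒜 (⟨I, hhom⟩ : HomogeneousIdeal 𝒜) ℳ hM φ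
        exact ⟨LinearMap.toSpanSingleton R M z, fun x hx => (hz x hx).symm⟩
      · -- a non-homogeneous prime
        set q : HomogeneousIdeal 𝒜 := Ideal.homogeneousCore 𝒜 I with hqdef
        have hqI : q.toIdeal ≤ I := Ideal.toIdeal_homogeneousCore_le 𝒜 I
        haveI hqprime : q.toIdeal.IsPrime := Ideal.IsPrime.homogeneousCore hprime
        have hqass := hcore I hprime hhom
        -- subtract a multiplication map so that the map vanishes on `q`
        obtain ⟨z₀, hz₀⟩ := exists_elt 𝒜 q ℳ hM (φ ∘ₗ Submodule.inclusion hqI)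
        let θ' : I →ₗ[R] M := φ - (LinearMap.toSpanSingleton R M z₀) ∘ₗ Submodule.subtype I
        have hθ' : ∀ (a : R) (ha : a ∈ I), θ' ⟨a, ha⟩ = φ ⟨a, ha⟩ - a • z₀ := fun a ha => rfl
        have hθ'q : ∀ (a : R) (ha : a ∈ q.toIdeal), θ' ⟨a, hqI ha⟩ = 0 := by
          intro a ha
          rw [hθ', sub_eq_zero, ← hz₀ a ha]
          rfl
        have hkill : ∀ (a : R) (ha : a ∈ I), ∀ b ∈ q.toIdeal, b • θ' ⟨a, ha⟩ = 0 := by
          intro a ha b hb
          rw [← map_smul]
          have : b • (⟨a, ha⟩ : I) = ⟨b * a, hqI (q.toIdeal.mul_mem_right a hb)⟩ := rfl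
          rw [this]
          exact hθ'q (b * a) (q.toIdeal.mul_mem_right a hb)
        -- a common homogeneous killer outside `I`
        obtain ⟨S, hS⟩ := (isNoetherian_def.mp inferInstance : ∀ s : Submodule R R, s.FG) I
        obtain ⟨t, ht, htq, htk⟩ := exists_common_killer (𝒜 := 𝒜) (q := q.toIdeal) S
          (fun s => if h : s ∈ I then θ' ⟨s, h⟩ else 0)
        have htI : t ∉ I := fun h =>
          htq (Ideal.mem_homogeneousCore_of_homogeneous_of_mem ht h)
        have htθ : ∀ (a : R) (ha : a ∈ I), t • θ' ⟨a, ha⟩ = 0 := by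
          intro a ha
          have ha' : a ∈ Submodule.span R (S : Set R) := hS ▸ ha
          induction ha' using Submodule.span_induction with
          | mem s hs =>
            have h1 := htk s hs
            simp only [dif_pos ha] at h1
            exact h1 (exists_tors ℳ q hqass _ (hkill s ha))
          | zero =>
            have : (⟨0, ha⟩ : I) = 0 := rfl
            rw [this, map_zero, smul_zero]
          | add x w hx hw ihx ihw =>
            have hxI : x ∈ I := hS ▸ hx
            have hwI : w ∈ I := hS ▸ hw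
            have : (⟨x + w, ha⟩ : I) = ⟨x, hxI⟩ + ⟨w, hwI⟩ := rfl
            rw [this, map_add, smul_add, ihx hxI, ihw hwI, add_zero]
          | smul c x hx ihx =>
            have hxI : x ∈ I := hS ▸ hx
            have : (⟨c • x, ha⟩ : I) = c • ⟨x, hxI⟩ := rfl
            rw [this, map_smul, smul_comm, ihx hxI, smul_zero]
        -- extend by zero on `t`
        have hz : ∀ (c : R) (hc : c * t ∈ I), θ' ⟨c * t, hc⟩ = c • (0 : M) := by
          intro c hc
          have hcI : c ∈ I := (hprime.mem_or_mem hc).resolve_right htI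
          have : (⟨c * t, hc⟩ : I) = t • ⟨c, hcI⟩ := Subtype.ext (mul_comm c t)
          rw [this, map_smul, htθ c hcI, smul_zero]
        obtain ⟨J, hIJ, htJ, φ', hφ'⟩ := extend_step I θ' t 0 hz
        have hJlt : I < J := lt_of_le_of_ne hIJ (fun h => htI (h ▸ htJ))
        obtain ⟨g, hg⟩ := IH J hJlt φ'
        refine ⟨g + LinearMap.toSpanSingleton R M z₀, fun x hx => ?_⟩
        rw [LinearMap.add_apply, hg x (hIJ hx), hφ' x hx, hθ' x hx,
          LinearMap.toSpanSingleton_apply, sub_add_cancel]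

end Groth.Agent.Lib.Helper29GrInjCrit
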