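import Groth.Agent.Lib.Helper29GrInjCrit

/-! Injectivity criterion for *injective modules, part 2: if a graded module is injective
(as an ungraded module) then no non-homogeneous prime has its homogeneous core among the
associated primes (leading-form argument), helper29. -/

set_option autoImplicit false
set_option linter.style.haveILetI false
open DirectSum

namespace Groth.Agent.Lib.Helper29GrInjCrit

open Groth.Agent.Lib.Helper29GrEss Groth.Agent.Lib.Helper29GrAss
  Groth.Agent.Lib.Helper29GrBaer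

universe u

variable {R : Type u} [CommRing R] (𝒜 : ℤ → AddSubgroup R) [GradedRing 𝒜]
variable {M : Type u} [AddCommGroup M] [Module R M] (ℳ : ℤ → AddSubgroup M)
  [DirectSum.Decomposition ℳ] [SetLike.GradedSMul 𝒜 ℳ]

/-- Components of a product. -/
theorem decompose_smul_eq_sum [∀ (i : ℤ) (x : 𝒜 i), Decidable (x ≠ 0)] (s : R) (w : M) (n : ℤ) :
    ((decompose ℳ (s • w)) n : M) =
      ∑ d ∈ (decompose 𝒜 s).support, ((decompose 𝒜 s) d : R) • ((decompose ℳ w) (n - d) : M) := by
  conv_lhs => rw [← DirectSum.sum_support_decompose 𝒜 s]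
  rw [Finset.sum_smul, ← projHom_apply, map_sum]
  apply Finset.sum_congr rfl
  intro d _
  rw [projHom_apply]
  exact decompose_smul_of_mem 𝒜 ℳ (SetLike.coe_mem _) w n

/-- Extraction of a single term. -/
theorem decompose_smul_single_term [∀ (i : ℤ) (x : 𝒜 i), Decidable (x ≠ 0)] (s : R) (w : M)
    (D : Finset ℤ)
    (hD : ∀ d, d ∉ D → ∀ j, ((decompose 𝒜 s) d : R) • ((decompose ℳ w) j : M) = 0)
    (d₀ k₀ : ℤ)
    (h : ∀ d ∈ D, d ≠ d₀ → ((decompose ℳ w) (d₀ + k₀ - d) : M) = 0) :
    ((decompose ℳ (s • w)) (d₀ + k₀) : M) =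
      ((decompose 𝒜 s) d₀ : R) • ((decompose ℳ w) k₀ : M) := by
  rw [decompose_smul_eq_sum 𝒜 ℳ s w]
  have hk : d₀ + k₀ - d₀ = k₀ := by ring
  rw [Finset.sum_eq_single d₀, hk]
  · intro d _ hd
    by_cases hdD : d ∈ D
    · rw [h d hdD hd, smul_zero]
    · exact hD d hdD _
  · intro hd₀
    rw [DFinsupp.notMem_support_iff] at hd₀
    rw [hd₀, ZeroMemClass.coe_zero, zero_smul]

variable [IsNoetherianRing R]

include ℳ in
/-- If a graded module is injective, no non-homogeneous prime has its core among the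
associated primes. -/
theorem core_notMem_of_injective (hinj : Module.Injective R M) (p : Ideal R) [hp : p.IsPrime]
    (hph : ¬ p.IsHomogeneous 𝒜) :
    (p.homogeneousCore 𝒜).toIdeal ∉ associatedPrimes R M := by
  classical
  intro hass
  set q : HomogeneousIdeal 𝒜 := p.homogeneousCore 𝒜 with hqdef
  have hqp : q.toIdeal ≤ p := Ideal.toIdeal_homogeneousCore_le 𝒜 p
  rw [AssociatedPrimes.mem_iff, isAssociatedPrime_iff] at hass
  obtain ⟨hqprime, x₀, hx₀⟩ := hass
  haveI := hqprime
  have hx₀' : ∀ r : R, r ∈ q.toIdeal ↔ r • x₀ = 0 := by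
    intro r
    rw [hx₀, Submodule.mem_colon_singleton, Submodule.mem_bot]
  -- a homogeneous non-torsion element killed by `q`
  have hx₀nt : ¬ IsTors 𝒜 q.toIdeal x₀ := by
    rintro ⟨t, -, htq, ht0⟩
    exact htq ((hx₀' t).mpr ht0)
  have hk : ∃ k, ¬ IsTors 𝒜 q.toIdeal ((decompose ℳ x₀) k : M) := by
    by_contra h
    rw [not_exists] at h
    exact hx₀nt (isTors_of_components ℳ x₀ fun k => not_not.mp (h k))
  obtain ⟨k, hxnt⟩ := hk
  set x : M := ((decompose ℳ x₀) k : M) with hxdef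
  have hxk : x ∈ ℳ k := SetLike.coe_mem _
  have hqx : ∀ a ∈ q.toIdeal, a • x = 0 :=
    comp_killed ℳ q x₀ (fun a ha => (hx₀' a).mp ha) k
  -- an element of `p` outside `q`
  have hs : ∃ s ∈ p, s ∉ q.toIdeal := by
    by_contra h
    push_neg at h
    apply hph
    have : q.toIdeal = p := le_antisymm hqp h
    rw [← this]
    exact q.isHomogeneous
  obtain ⟨s, hsp, hsq⟩ := hs
  -- divide `x` by `s`
  obtain ⟨w, hqw, hsw⟩ : ∃ w : M, (∀ a ∈ q.toIdeal, a • w = 0) ∧ s • w = x := by
    let μ : (R ⧸ q.toIdeal) →ₗ[R] (R ⧸ q.toIdeal) := LinearMap.lsmul R (R ⧸ q.toIdeal) s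
    have hμ : Function.Injective μ := by
      rw [← LinearMap.ker_eq_bot, LinearMap.ker_eq_bot']
      intro d hd
      obtain ⟨r, rfl⟩ := Ideal.Quotient.mk_surjective d
      have h1 : Ideal.Quotient.mk q.toIdeal (s * r) = 0 := hd
      rw [Ideal.Quotient.eq_zero_iff_mem] at h1 ⊢
      exact (hqprime.mem_or_mem h1).resolve_left hsq
    let φ : (R ⧸ q.toIdeal) →ₗ[R] M := Submodule.liftQ q.toIdeal (LinearMap.toSpanSingleton R M x)
      (fun a ha => by
        rw [LinearMap.mem_ker, LinearMap.toSpanSingleton_apply]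
        exact hqx a ha)
    obtain ⟨ψ, hψ⟩ := Module.Injective.out μ hμ φ
    refine ⟨ψ (Ideal.Quotient.mk q.toIdeal 1), fun a ha => ?_, ?_⟩
    · rw [← map_smul]
      have : a • (Ideal.Quotient.mk q.toIdeal 1) = 0 := by
        change Ideal.Quotient.mk q.toIdeal (a * 1) = 0
        rw [mul_one, Ideal.Quotient.eq_zero_iff_mem]
        exact ha
      rw [this, map_zero]
    · rw [← map_smul]
      have h1 := hψ (Ideal.Quotient.mk q.toIdeal 1)
      have h2 : μ (Ideal.Quotient.mk q.toIdeal 1) = s • (Ideal.Quotient.mk q.toIdeal 1) := rfl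
      rw [h2] at h1
      rw [h1]
      change LinearMap.toSpanSingleton R M x 1 = x
      rw [LinearMap.toSpanSingleton_apply, one_smul]
  -- clean `w`: kill its torsion components
  obtain ⟨t, ⟨e, hte⟩, htq, htk⟩ := exists_common_killer (𝒜 := 𝒜) (q := q.toIdeal)
    (decompose ℳ w).support (fun j => ((decompose ℳ w) j : M))
  set w' : M := t • w with hw'def
  have hw'comp : ∀ j, ((decompose ℳ w') j : M) = t • ((decompose ℳ w) (j - e) : M) :=
    fun j => decompose_smul_of_mem 𝒜 ℳ hte w j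
  have hclean : ∀ j, ((decompose ℳ w') j : M) ≠ 0 →
      ¬ IsTors 𝒜 q.toIdeal ((decompose ℳ w') j : M) := by
    intro j hj0 htors
    rw [hw'comp] at hj0 htors
    apply hj0
    by_cases hsupp : (j - e) ∈ (decompose ℳ w).support
    · apply htk (j - e) hsupp
      obtain ⟨t', ⟨e', ht'e⟩, ht'q, ht'0⟩ := htors
      refine ⟨t' * t, ⟨e' + e, SetLike.GradedMul.mul_mem ht'e hte⟩, ?_, ?_⟩
      · intro h
        rcases hqprime.mem_or_mem h with h | h
        · exact ht'q h
        · exact htq h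
      · rw [mul_smul]; exact ht'0
    · rw [DFinsupp.notMem_support_iff] at hsupp
      rw [hsupp, ZeroMemClass.coe_zero, smul_zero]
  have hqw' : ∀ a ∈ q.toIdeal, a • w' = 0 := fun a ha => by
    rw [hw'def, smul_comm, hqw a ha, smul_zero]
  have hqw'comp : ∀ j, ∀ a ∈ q.toIdeal, a • ((decompose ℳ w') j : M) = 0 :=
    fun j => comp_killed ℳ q w' hqw' j
  set x' : M := t • x with hx'def
  have hx'deg : x' ∈ ℳ (e + k) := SetLike.GradedSMul.smul_mem (A := 𝒜) (B := ℳ) hte hxk
  have hx'0 : x' ≠ 0 := fun h => hxnt ⟨t, ⟨e, hte⟩, htq, h⟩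
  have hsw' : s • w' = x' := by rw [hw'def, smul_comm, hsw]
  have hw'0 : w' ≠ 0 := by
    intro h
    apply hx'0
    rw [← hsw', h, smul_zero]
  -- supports
  set W : Finset ℤ := (decompose ℳ w').support with hWdef
  have hWne : W.Nonempty := by
    obtain ⟨j, hj⟩ := exists_component_ne_zero ℳ hw'0
    refine ⟨j, ?_⟩
    rw [hWdef, DFinsupp.mem_support_iff]
    intro h
    apply hj
    rw [h, ZeroMemClass.coe_zero]
  set D : Finset ℤ := (decompose 𝒜 s).support.filter
    (fun d => ((decompose 𝒜 s) d : R) ∉ q.toIdeal) with hDdef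
  have hDmem : ∀ d, d ∈ D ↔ ((decompose 𝒜 s) d : R) ∉ q.toIdeal := by
    intro d
    rw [hDdef, Finset.mem_filter, DFinsupp.mem_support_iff]
    constructor
    · exact fun h => h.2
    · intro h
      refine ⟨fun h0 => h ?_, h⟩
      rw [h0, ZeroMemClass.coe_zero]
      exact q.toIdeal.zero_mem
  have hDne : D.Nonempty := by
    by_contra h
    rw [Finset.not_nonempty_iff_eq_empty] at h
    apply hsq
    rw [← DirectSum.sum_support_decompose 𝒜 s]
    apply Ideal.sum_mem
    intro d _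
    by_contra hd
    have : d ∈ D := (hDmem d).mpr hd
    rw [h] at this
    exact absurd this (Finset.notMem_empty d)
  have hDkill : ∀ d, d ∉ D → ∀ j,
      ((decompose 𝒜 s) d : R) • ((decompose ℳ w') j : M) = 0 := by
    intro d hd j
    rw [hDmem, not_not] at hd
    exact hqw'comp j _ hd
  set d₂ := D.max' hDne with hd₂
  set d₁ := D.min' hDne with hd₁
  set k₂ := W.max' hWne with hk₂
  set k₁ := W.min' hWne with hk₁
  have hd₂D : d₂ ∈ D := Finset.max'_mem D hDne
  have hd₁D : d₁ ∈ D := Finset.min'_mem D hDne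
  have hk₂W : k₂ ∈ W := Finset.max'_mem W hWne
  have hk₁W : k₁ ∈ W := Finset.min'_mem W hWne
  have hWzero : ∀ j, j ∉ W → ((decompose ℳ w') j : M) = 0 := by
    intro j hj
    rw [hWdef, DFinsupp.notMem_support_iff] at hj
    rw [hj, ZeroMemClass.coe_zero]
  have hWne0 : ∀ j, j ∈ W → ((decompose ℳ w') j : M) ≠ 0 := by
    intro j hj h
    rw [hWdef, DFinsupp.mem_support_iff] at hj
    apply hj
    exact Subtype.ext h
  -- the two extreme terms
  have htop : ((decompose ℳ (s • w')) (d₂ + k₂) : M) =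
      ((decompose 𝒜 s) d₂ : R) • ((decompose ℳ w') k₂ : M) := by
    apply decompose_smul_single_term 𝒜 ℳ s w' D hDkill
    intro d hd hne
    apply hWzero
    intro hmem
    have h1 : d ≤ d₂ := Finset.le_max' D d hd
    have h2 : d₂ + k₂ - d ≤ k₂ := Finset.le_max' W _ hmem
    have h3 : d < d₂ := lt_of_le_of_ne h1 hne
    omega
  have hbot : ((decompose ℳ (s • w')) (d₁ + k₁) : M) =
      ((decompose 𝒜 s) d₁ : R) • ((decompose ℳ w') k₁ : M) := by
    apply decompose_smul_single_term 𝒜 ℳ s w' D hDkill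
    intro d hd hne
    apply hWzero
    intro hmem
    have h1 : d₁ ≤ d := Finset.min'_le D d hd
    have h2 : k₁ ≤ d₁ + k₁ - d := Finset.min'_le W _ hmem
    have h3 : d₁ < d := lt_of_le_of_ne h1 (Ne.symm hne)
    omega
  have hnz : ∀ d ∈ D, ∀ j ∈ W, ((decompose 𝒜 s) d : R) • ((decompose ℳ w') j : M) ≠ 0 := by
    intro d hd j hj h0
    exact hclean j (hWne0 j hj) ⟨_, ⟨d, SetLike.coe_mem _⟩, (hDmem d).mp hd, h0⟩
  have hdeg : ∀ n, ((decompose ℳ (s • w')) n : M) ≠ 0 → n = e + k := by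
    intro n hn
    by_contra hne
    apply hn
    rw [hsw', DirectSum.decompose_of_mem_ne ℳ hx'deg (Ne.symm hne)]
  have e₂ : d₂ + k₂ = e + k := hdeg _ (by rw [htop]; exact hnz d₂ hd₂D k₂ hk₂W)
  have e₁ : d₁ + k₁ = e + k := hdeg _ (by rw [hbot]; exact hnz d₁ hd₁D k₁ hk₁W)
  have hk12 : k₁ ≤ k₂ := Finset.min'_le W k₂ hk₂W
  have hd12 : d₁ ≤ d₂ := Finset.min'_le D d₂ hd₂D
  have hdeq : d₁ = d₂ := by omega
  -- so `s` has a single component outside `q`, which is then a homogeneous element of `p`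
  apply (hDmem d₁).mp hd₁D
  apply Ideal.mem_homogeneousCore_of_homogeneous_of_mem ⟨d₁, SetLike.coe_mem _⟩
  have hrest : ∀ d ∈ (decompose 𝒜 s).support.erase d₁, ((decompose 𝒜 s) d : R) ∈ p := by
    intro d hd
    apply hqp
    by_contra hdq
    have hdD : d ∈ D := (hDmem d).mpr hdq
    have h1 : d₁ ≤ d := Finset.min'_le D d hdD
    have h2 : d ≤ d₂ := Finset.le_max' D d hdD
    exact (Finset.mem_erase.mp hd).1 (by omega)
  by_cases hd₁s : d₁ ∈ (decompose 𝒜 s).support
  · have hsum := Finset.add_sum_erase (decompose 𝒜 s).support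
      (fun d => ((decompose 𝒜 s) d : R)) hd₁s
    rw [DirectSum.sum_support_decompose 𝒜 s] at hsum
    have : ((decompose 𝒜 s) d₁ : R) =
        s - ∑ d ∈ (decompose 𝒜 s).support.erase d₁, ((decompose 𝒜 s) d : R) :=
      eq_sub_of_add_eq hsum
    rw [this]
    exact p.sub_mem hsp (Ideal.sum_mem p hrest)
  · rw [DFinsupp.notMem_support_iff] at hd₁s
    rw [hd₁s, ZeroMemClass.coe_zero]
    exact p.zero_mem

end Groth.Agent.Lib.Helper29GrInjCrit
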