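import Groth.Agent.Lib.Helper29GrProd
import Groth.Agent.Lib.Helper29GrSub
import Groth.Agent.Lib.Helper29GrHom
import Groth.Prelude.Def_GrLC

/-! Products and homogeneous retracts of graded modules; *injectivity is inherited
(helper29). -/

set_option autoImplicit false
set_option linter.style.haveILetI false
set_option linter.unusedSectionVars false
open DirectSum

noncomputable section

namespace Groth.Agent.Lib.Helper29GrInjOps

open Groth.Agent.Lib.Helper29GrProd Groth.Agent.Lib.Helper29GrSub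

universe u

variable {ι : Type} [AddCommGroup ι] [DecidableEq ι]
variable {R : Type u} [CommRing R] (𝒜 : ι → AddSubgroup R) [GradedRing 𝒜]

section Prod

variable {A : Type u} [AddCommGroup A] [Module R A] (𝓐 : ι → AddSubgroup A)
  [DirectSum.Decomposition 𝓐] [SetLike.GradedSMul 𝒜 𝓐]
variable {B : Type u} [AddCommGroup B] [Module R B] (𝓑 : ι → AddSubgroup B)
  [DirectSum.Decomposition 𝓑] [SetLike.GradedSMul 𝒜 𝓑]

/-- A product of *injective modules is *injective (for any grading instances on the product). -/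
theorem isStarInj_prod (hA : GrLC.IsStarInj 𝒜 𝓐) (hB : GrLC.IsStarInj 𝒜 𝓑)
    [DirectSum.Decomposition (prodGr 𝓐 𝓑)] [SetLike.GradedSMul 𝒜 (prodGr 𝓐 𝓑)] :
    GrLC.IsStarInj 𝒜 (prodGr 𝓐 𝓑) := by
  intro S T f hf hfinj g hg
  obtain ⟨h1, hh1, hh1f⟩ := hA S T f hf hfinj (LinearMap.fst R _ _ ∘ₗ g)
    (fun j a ha => (hg j a ha).1)
  obtain ⟨h2, hh2, hh2f⟩ := hB S T f hf hfinj (LinearMap.snd R _ _ ∘ₗ g)
    (fun j a ha => (hg j a ha).2)
  refine ⟨LinearMap.prod h1 h2, fun j b hb => ⟨hh1 j b hb, hh2 j b hb⟩, ?_⟩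
  apply LinearMap.ext
  intro a
  have e1 := LinearMap.congr_fun hh1f a
  have e2 := LinearMap.congr_fun hh2f a
  exact Prod.ext e1 e2

end Prod

section Sub

variable {L : Type u} [AddCommGroup L] [Module R L] (𝓛 : ι → AddSubgroup L)
  [DirectSum.Decomposition 𝓛] [SetLike.GradedSMul 𝒜 𝓛]

/-- A homogeneous retract of a *injective module is *injective (for any grading instances on the
submodule). -/
theorem isStarInj_sub_of_retract (P : Submodule R L) (hL : GrLC.IsStarInj 𝒜 𝓛)
    (p : L →ₗ[R] L) (hp : GrLC.IsGrHom 𝓛 𝓛 p)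
    (hpP : ∀ x, p x ∈ P) (hpid : ∀ x ∈ P, p x = x)
    [DirectSum.Decomposition (subGr 𝓛 P)] [SetLike.GradedSMul 𝒜 (subGr 𝓛 P)] :
    GrLC.IsStarInj 𝒜 (subGr 𝓛 P) := by
  intro S T f hf hfinj g hg
  obtain ⟨h, hh, hhf⟩ := hL S T f hf hfinj (P.subtype ∘ₗ g) (fun j a ha => hg j a ha)
  refine ⟨(p ∘ₗ h).codRestrict P (fun b => hpP (h b)), ?_, ?_⟩
  · intro j b hb
    exact hp j _ (hh j b hb)
  · apply LinearMap.ext
    intro a
    apply Subtype.ext
    have e2 : h (f a) = (g a : L) := LinearMap.congr_fun hhf a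
    show p (h (f a)) = (g a : L)
    rw [e2]
    exact hpid _ (g a).2

end Sub

end Groth.Agent.Lib.Helper29GrInjOps
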