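import Groth.Agent.Lib.Helper29GrHV

/-! Bounded complexes of graded modules with torsion homology, and the chase computing the
vanishing of graded local cohomology of the degree-zero term (helper29). -/

set_option autoImplicit false
set_option linter.style.haveILetI false
set_option linter.unusedSectionVars false
open DirectSum

noncomputable section

namespace Groth.Agent.Lib.Helper29GrKoszulChase

open Groth.Agent.Lib.Helper29GrHV

universe u

variable {R : Type u} [CommRing R] [IsNoetherianRing R] {𝒜 : ℤ → AddSubgroup R} [GradedRing 𝒜]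

/-- A (homological) complex of graded modules `⋯ → X 2 → X 1 → X 0`. -/
structure GCx (𝒜 : ℤ → AddSubgroup R) [GradedRing 𝒜] where
  X : ℕ → GrLC.GMod.{u} 𝒜
  d : ∀ j : ℕ, (X (j + 1)).carrier →ₗ[R] (X j).carrier
  d_gr : ∀ j : ℕ, GrLC.IsGrHom (X (j + 1)).gr (X j).gr (d j)
  d_comp : ∀ (j : ℕ) (x : (X (j + 2)).carrier), d j (d (j + 1) x) = 0

variable (a : HomogeneousIdeal 𝒜)

/-- The homology of the complex is `a`-torsion. -/
structure TorsH (L : GCx 𝒜) : Prop where
  h0 : ∀ z : (L.X 0).carrier, ∃ N : ℕ, ∀ r ∈ a.toIdeal ^ N, r • z ∈ LinearMap.range (L.d 0)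
  hs : ∀ (j : ℕ) (z : (L.X (j + 1)).carrier), L.d j z = 0 →
    ∃ N : ℕ, ∀ r ∈ a.toIdeal ^ N, r • z ∈ LinearMap.range (L.d (j + 1))

/-- Terms of the truncated complex `⋯ → X 3 → X 2 → ker (d 0)`. -/
def truncX (L : GCx 𝒜) : ℕ → GrLC.GMod.{u} 𝒜
  | 0 => subGMod (L.X 1) (LinearMap.ker (L.d 0)) (ker_hom (L.d 0) (L.d_gr 0))
  | j + 1 => L.X (j + 2)

/-- Differentials of the truncated complex. -/
def truncd (L : GCx 𝒜) : ∀ j : ℕ, (truncX L (j + 1)).carrier →ₗ[R] (truncX L j).carrier
  | 0 => LinearMap.codRestrict (LinearMap.ker (L.d 0)) (L.d 1) (fun x => L.d_comp 0 x)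
  | j + 1 => L.d (j + 2)

/-- The truncated complex. -/
def trunc (L : GCx 𝒜) : GCx 𝒜 where
  X := truncX L
  d := truncd L
  d_gr := by
    intro j
    cases j with
    | zero => exact fun γ x hx => L.d_gr 1 γ x hx
    | succ j => exact L.d_gr (j + 2)
  d_comp := by
    intro j x
    cases j with
    | zero =>
      apply Subtype.ext
      exact L.d_comp 1 x
    | succ j => exact L.d_comp (j + 2) x

variable {a}

theorem torsH_trunc (L : GCx 𝒜) (hT : TorsH a L) : TorsH a (trunc L) where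
  h0 := by
    intro z
    obtain ⟨N, hN⟩ := hT.hs 0 z.1 z.2
    refine ⟨N, fun r hr => ?_⟩
    obtain ⟨w, hw⟩ := hN r hr
    exact ⟨w, Subtype.ext hw⟩
  hs := by
    intro j z hz
    cases j with
    | zero =>
      have hz' : L.d 1 z = 0 := congrArg Subtype.val hz
      exact hT.hs 1 z hz'
    | succ j => exact hT.hs (j + 2) z hz

/-- The chase: if `H^{i₀+j-1}(X j)_γ = 0` for all `j ≥ 1`, then `H^{i₀}(X 0)_γ = 0` (`i₀ ≥ 1`). -/
theorem chase (n : ℕ) : ∀ (L : GCx 𝒜), TorsH a L →
    (∀ j, n < j → Subsingleton (L.X j).carrier) → ∀ (i₀ : ℕ) (γ : ℤ),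
    (∀ j, HV a (L.X (j + 1)) (i₀ + 1 + j) γ) → HV a (L.X 0) (i₀ + 1) γ := by
  induction n with
  | zero =>
    intro L hT hb i₀ γ _
    have hsub : Subsingleton (L.X 1).carrier := hb 1 Nat.one_pos
    have htors : GrLC.gam a.toIdeal (L.X 0).carrier = ⊤ := by
      rw [eq_top_iff]
      intro z _
      obtain ⟨N, hN⟩ := hT.h0 z
      refine ⟨N, fun r hr => ?_⟩
      obtain ⟨w, hw⟩ := hN r hr
      rw [← hw, Subsingleton.elim w 0, map_zero]
    exact HV_of_torsion (L.X 0) htors i₀ γ
  | succ n ih =>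
    intro L hT hb i₀ γ h
    have hb' : ∀ j, n < j → Subsingleton ((trunc L).X j).carrier := by
      intro j hj
      cases j with
      | zero => exact absurd hj (Nat.not_lt_zero n)
      | succ j => exact hb (j + 2) (by omega)
    have hZ : HV a ((trunc L).X 0) (i₀ + 1 + 1) γ := by
      apply ih (trunc L) (torsH_trunc L hT) hb' (i₀ + 1) γ
      intro j
      have := h (j + 1)
      rw [show i₀ + 1 + (j + 1) = i₀ + 1 + 1 + j by omega] at this
      exact this
    exact HV_of_torsion_coker (L.d 0) (L.d_gr 0) hT.h0 i₀ γ (h 0) hZ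

/-- The degree-zero end of the chase: if `H^j(X j)_γ = 0` for all `j`, then `d 0` is onto in
degree `γ`. -/
theorem chase_zero (n : ℕ) (L : GCx 𝒜) (hT : TorsH a L)
    (hb : ∀ j, n < j → Subsingleton (L.X j).carrier) (γ : ℤ)
    (h : ∀ j, HV a (L.X j) j γ) (z : (L.X 0).carrier) (hz : z ∈ (L.X 0).gr γ) :
    z ∈ LinearMap.range (L.d 0) := by
  have hb' : ∀ j, n < j → Subsingleton ((trunc L).X j).carrier := by
    intro j hj
    cases j with
    | zero => exact absurd hj (Nat.not_lt_zero n)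
    | succ j => exact hb (j + 2) (by omega)
  have hZ : HV a ((trunc L).X 0) (1 + 1) γ := by
    apply chase n (trunc L) (torsH_trunc L hT) hb' 1 γ
    intro j
    rw [show 1 + 1 + j = j + 2 by omega]
    exact h (j + 2)
  exact mem_range_of_HV (L.d 0) (L.d_gr 0) hT.h0 γ (h 0) (h 1) hZ z hz

end Groth.Agent.Lib.Helper29GrKoszulChase
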