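import Groth.Agent.Lib.Helper29GrKoszulChase

/-! The cone of multiplication by a degree-one element on a complex of graded modules, and the
invariants it preserves (helper29). -/

set_option autoImplicit false
set_option linter.style.haveILetI false
set_option linter.unusedSectionVars false
open DirectSum

noncomputable section

namespace Groth.Agent.Lib.Helper29GrKoszulCone

open Groth.Agent.Lib.Helper29GrHV Groth.Agent.Lib.Helper29GrKoszulChase
  Groth.Agent.Lib.Helper29GrProd Groth.Agent.Lib.Helper29GrShift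
  Groth.Agent.Lib.Helper29GrShiftInj Groth.Agent.Lib.Helper29GrMulLES
  Groth.Agent.Lib.Helper29GrResCompare

universe u

variable {R : Type u} [CommRing R] [IsNoetherianRing R] {𝒜 : ℤ → AddSubgroup R} [GradedRing 𝒜]

/-- The product of two bundled graded modules. -/
def prodGMod (X Y : GrLC.GMod.{u} 𝒜) : GrLC.GMod.{u} 𝒜 :=
  { carrier := X.carrier × Y.carrier
    gr := prodGr X.gr Y.gr
    dec := prodDecomposition X.gr Y.gr
    gsmul := prod_gradedSMul X.gr Y.gr 𝒜 }

variable {a : HomogeneousIdeal 𝒜}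

theorem HV_prod (X Y : GrLC.GMod.{u} 𝒜) (i : ℕ) (γ : ℤ) (hX : HV a X i γ) (hY : HV a Y i γ) :
    HV a (prodGMod X Y) i γ := by
  let S : GSES X (prodGMod X Y) Y :=
    { f := LinearMap.inl R X.carrier Y.carrier
      g := LinearMap.snd R X.carrier Y.carrier
      hfi := LinearMap.inl_injective
      hgs := LinearMap.snd_surjective
      hfg := (LinearMap.range_inl R X.carrier Y.carrier).symm
      hf := fun γ x hx => ⟨hx, zero_mem _⟩
      hg := fun γ z hz => hz.2 }
  exact HV_mid S i γ hX hY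

theorem HV_shift (X : GrLC.GMod.{u} 𝒜) (d : ℤ) (i : ℕ) (γ : ℤ) (hX : HV a X i (γ + d)) :
    HV a (shiftGMod 𝒜 X d) i γ := by
  obtain ⟨E⟩ := exists_res X
  have h1 : (shiftRes E d).Hcomp a i γ = ⊥ := (Hcomp_shiftRes_eq_bot_iff E a d i γ).mpr (hX E)
  exact (HV_iff a (shiftGMod 𝒜 X d) (shiftRes E d) i γ).mpr h1

theorem HV_of_subsingleton (X : GrLC.GMod.{u} 𝒜) [Subsingleton X.carrier] (i : ℕ) (γ : ℤ) :
    HV a X i γ := by
  cases i with
  | zero =>
    intro E
    rw [eq_bot_iff]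
    rintro w ⟨z, -, rfl⟩
    rw [Submodule.mem_bot]
    have hz : (z : (E.X 0).carrier) ∈ LinearMap.ker (E.d 0) := z.2.2
    rw [E.exact_zero] at hz
    obtain ⟨m, hm⟩ := hz
    have hz0 : z = 0 := by
      apply Subtype.ext
      rw [← hm, Subsingleton.elim m 0, map_zero]
      rfl
    rw [hz0, map_zero]
  | succ i =>
    apply HV_of_torsion
    rw [eq_top_iff]
    intro z _
    rw [Subsingleton.elim z 0]
    exact zero_mem _

/-! ### The cone -/

/-- Terms of the cone of `x : L(-1) → L`. -/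
def coneX (L : GCx 𝒜) : ℕ → GrLC.GMod.{u} 𝒜
  | 0 => L.X 0
  | j + 1 => prodGMod (L.X (j + 1)) (shiftGMod 𝒜 (L.X j) (-1))

/-- The first differential of the cone. -/
def coned0 (x : R) (L : GCx 𝒜) : (L.X 1).carrier × (L.X 0).carrier →ₗ[R] (L.X 0).carrier :=
  (L.d 0).coprod (x • LinearMap.id)

/-- The higher differentials of the cone. -/
def conedS (x : R) (L : GCx 𝒜) (j : ℕ) :
    (L.X (j + 2)).carrier × (L.X (j + 1)).carrier →ₗ[R]
      (L.X (j + 1)).carrier × (L.X j).carrier :=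
  ((L.d (j + 1)).coprod (x • LinearMap.id)).prod
    (-(L.d j ∘ₗ LinearMap.snd R (L.X (j + 2)).carrier (L.X (j + 1)).carrier))

omit [IsNoetherianRing R] in
theorem coned0_apply (x : R) (L : GCx 𝒜) (u : (L.X 1).carrier) (v : (L.X 0).carrier) :
    coned0 x L (u, v) = L.d 0 u + x • v := by
  simp [coned0]

omit [IsNoetherianRing R] in
theorem conedS_apply (x : R) (L : GCx 𝒜) (j : ℕ) (u : (L.X (j + 2)).carrier)
    (v : (L.X (j + 1)).carrier) :
    conedS x L j (u, v) = (L.d (j + 1) u + x • v, -(L.d j v)) := by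
  simp [conedS]

/-- Differentials of the cone. -/
def coned (x : R) (L : GCx 𝒜) : ∀ j : ℕ, (coneX L (j + 1)).carrier →ₗ[R] (coneX L j).carrier
  | 0 => coned0 x L
  | j + 1 => conedS x L j

omit [IsNoetherianRing R] in
theorem smul_mem_of_mem_one (X : GrLC.GMod.{u} 𝒜) {x : R} (hx : x ∈ 𝒜 1) (γ : ℤ) (v : X.carrier)
    (hv : v ∈ X.gr (γ + -1)) : x • v ∈ X.gr γ := by
  have := SetLike.GradedSMul.smul_mem (A := 𝒜) (B := X.gr) hx hv
  rwa [vadd_eq_add, show (1 : ℤ) + (γ + -1) = γ by ring] at this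

/-- The cone of multiplication by `x ∈ R_1`. -/
def coneGCx (x : R) (hx : x ∈ 𝒜 1) (L : GCx 𝒜) : GCx 𝒜 where
  X := coneX L
  d := coned x L
  d_gr := by
    intro j
    cases j with
    | zero =>
      rintro γ ⟨u, v⟩ ⟨hu, hv⟩
      change coned0 x L (u, v) ∈ (L.X 0).gr γ
      rw [coned0_apply]
      exact add_mem (L.d_gr 0 γ u hu) (smul_mem_of_mem_one (L.X 0) hx γ v hv)
    | succ j =>
      rintro γ ⟨u, v⟩ ⟨hu, hv⟩
      change conedS x L j (u, v) ∈ prodGr (L.X (j + 1)).gr (shiftGr (L.X j).gr (-1)) γ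
      rw [conedS_apply]
      refine ⟨add_mem (L.d_gr (j + 1) γ u hu) (smul_mem_of_mem_one (L.X (j + 1)) hx γ v hv), ?_⟩
      exact ((L.X j).gr (γ + -1)).neg_mem (L.d_gr j (γ + -1) v hv)
  d_comp := by
    intro j
    cases j with
    | zero =>
      rintro ⟨u, v⟩
      change coned0 x L (conedS x L 0 (u, v)) = 0
      rw [conedS_apply, coned0_apply, map_add, L.d_comp, map_smul, smul_neg, zero_add,
        add_neg_cancel]
    | succ j =>
      rintro ⟨u, v⟩
      change conedS x L j (conedS x L (j + 1) (u, v)) = 0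
      rw [conedS_apply, conedS_apply, map_add, L.d_comp, map_smul, smul_neg, zero_add,
        add_neg_cancel, map_neg, L.d_comp, neg_zero, neg_zero]
      rfl

/-! ### Invariants -/

/-- A power of `y` kills the homology of `L`. -/
def Kills (y : R) (L : GCx 𝒜) : Prop :=
  (∀ z : (L.X 0).carrier, ∃ N : ℕ, y ^ N • z ∈ LinearMap.range (L.d 0)) ∧
    ∀ (j : ℕ) (z : (L.X (j + 1)).carrier), L.d j z = 0 →
      ∃ N : ℕ, y ^ N • z ∈ LinearMap.range (L.d (j + 1))

omit [IsNoetherianRing R] in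
theorem coned0_self (x : R) (L : GCx 𝒜) (z : (L.X 0).carrier) :
    coned0 x L (0, z) = x ^ 1 • z := by
  rw [coned0_apply, map_zero, zero_add, pow_one]

omit [IsNoetherianRing R] in
theorem conedS_self (x : R) (L : GCx 𝒜) (j : ℕ) (u : (L.X (j + 1)).carrier)
    (v : (L.X j).carrier) (h : L.d j u + x • v = 0) :
    conedS x L j (0, u) = x ^ 1 • (u, v) := by
  rw [conedS_apply, map_zero, zero_add, pow_one, Prod.smul_mk]
  refine Prod.ext rfl ?_
  change -(L.d j u) = x • v
  rw [neg_eq_iff_add_eq_zero]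
  exact h

omit [IsNoetherianRing R] in
theorem coned0_kill (x : R) (L : GCx 𝒜) (y : R) (N : ℕ) (z : (L.X 0).carrier)
    (w : (L.X 1).carrier) (hw : L.d 0 w = y ^ N • z) :
    coned0 x L (w, 0) = y ^ N • z := by
  rw [coned0_apply, smul_zero, add_zero]
  exact hw

omit [IsNoetherianRing R] in
theorem conedS_kill (x : R) (L : GCx 𝒜) (j : ℕ) (y : R) (N N' : ℕ)
    (u : (L.X (j + 1)).carrier) (v : (L.X j).carrier) (w : (L.X (j + 1)).carrier)
    (w' : (L.X (j + 2)).carrier) (hw : L.d j w = y ^ N • v)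
    (hw' : L.d (j + 1) w' = y ^ N' • (y ^ N • u + x • w)) :
    conedS x L j (w', y ^ N' • (-w)) = y ^ (N' + N) • (u, v) := by
  rw [conedS_apply, hw', map_smul, map_neg, hw, Prod.smul_mk, pow_add, mul_smul, mul_smul]
  refine Prod.ext ?_ ?_
  · change y ^ N' • (y ^ N • u + x • w) + x • y ^ N' • -w = y ^ N' • y ^ N • u
    rw [smul_add, smul_neg, smul_neg, smul_comm x, add_assoc, add_neg_cancel, add_zero]
  · change -(y ^ N' • -(y ^ N • v)) = y ^ N' • y ^ N • v
    rw [smul_neg, neg_neg]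

omit [IsNoetherianRing R] in
theorem kills_aux (x : R) (L : GCx 𝒜) (j : ℕ) (y : R) (N : ℕ)
    (u : (L.X (j + 1)).carrier) (v : (L.X j).carrier) (w : (L.X (j + 1)).carrier)
    (h : L.d j u + x • v = 0) (hw : L.d j w = y ^ N • v) :
    L.d j (y ^ N • u + x • w) = 0 := by
  rw [map_add, map_smul, map_smul, hw, smul_comm x, ← smul_add, h, smul_zero]

omit [IsNoetherianRing R] in
theorem kills_cone_self (x : R) (hx : x ∈ 𝒜 1) (L : GCx 𝒜) : Kills x (coneGCx x hx L) := by
  refine ⟨fun z => ⟨1, ?_⟩, fun j z hz => ⟨1, ?_⟩⟩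
  · exact ⟨((0 : (L.X 1).carrier), z), coned0_self x L z⟩
  · cases j with
    | zero =>
      obtain ⟨u, v⟩ := z
      have hz' : coned0 x L (u, v) = 0 := hz
      rw [coned0_apply] at hz'
      exact ⟨((0 : (L.X 2).carrier), u), conedS_self x L 0 u v hz'⟩
    | succ j =>
      obtain ⟨u, v⟩ := z
      have hz' : conedS x L j (u, v) = 0 := hz
      rw [conedS_apply, Prod.mk_eq_zero] at hz'
      exact ⟨((0 : (L.X (j + 3)).carrier), u), conedS_self x L (j + 1) u v hz'.1⟩

omit [IsNoetherianRing R] in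
theorem kills_cone_of_kills (x : R) (hx : x ∈ 𝒜 1) (L : GCx 𝒜) (y : R) (hy : Kills y L) :
    Kills y (coneGCx x hx L) := by
  refine ⟨fun z => ?_, fun j z hz => ?_⟩
  · obtain ⟨N, w, hw⟩ := hy.1 z
    exact ⟨N, (w, (0 : (L.X 0).carrier)), coned0_kill x L y N z w hw⟩
  · cases j with
    | zero =>
      obtain ⟨u, v⟩ := z
      have hz' : coned0 x L (u, v) = 0 := hz
      rw [coned0_apply] at hz'
      obtain ⟨N, w, hw⟩ := hy.1 v
      obtain ⟨N', w', hw'⟩ := hy.2 0 (y ^ N • u + x • w) (kills_aux x L 0 y N u v w hz' hw)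
      exact ⟨N' + N, (w', y ^ N' • (-w)), conedS_kill x L 0 y N N' u v w w' hw hw'⟩
    | succ j =>
      obtain ⟨u, v⟩ := z
      have hz' : conedS x L j (u, v) = 0 := hz
      rw [conedS_apply, Prod.mk_eq_zero, neg_eq_zero] at hz'
      obtain ⟨N, w, hw⟩ := hy.2 j v hz'.2
      obtain ⟨N', w', hw'⟩ := hy.2 (j + 1) (y ^ N • u + x • w)
        (kills_aux x L (j + 1) y N u v w hz'.1 hw)
      exact ⟨N' + N, (w', y ^ N' • (-w)), conedS_kill x L (j + 1) y N N' u v w w' hw hw'⟩

/-- The terms of `L` are built from shifts of `L.X 0`, as far as vanishing is concerned. -/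
def QProp (a : HomogeneousIdeal 𝒜) (L : GCx 𝒜) : Prop :=
  ∀ (j i : ℕ) (γ : ℤ), HV a (L.X 0) i (γ - j) → HV a (L.X j) i γ

theorem qProp_cone (x : R) (hx : x ∈ 𝒜 1) (L : GCx 𝒜) (hQ : QProp a L) :
    QProp a (coneGCx x hx L) := by
  intro j i γ h
  cases j with
  | zero => exact hQ 0 i γ h
  | succ j =>
    have h' : HV a (L.X 0) i (γ - ((j + 1 : ℕ) : ℤ)) := h
    apply HV_prod
    · exact hQ (j + 1) i γ h'
    · apply HV_shift
      apply hQ j i (γ + -1)
      rw [show γ + -1 - (j : ℤ) = γ - ((j + 1 : ℕ) : ℤ) by push_cast; ring]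
      exact h'

omit [IsNoetherianRing R] in
theorem bounded_cone (x : R) (hx : x ∈ 𝒜 1) (L : GCx 𝒜) (n : ℕ)
    (hb : ∀ j, n < j → Subsingleton (L.X j).carrier) :
    ∀ j, n + 1 < j → Subsingleton ((coneGCx x hx L).X j).carrier := by
  intro j hj
  cases j with
  | zero => exact absurd hj (Nat.not_lt_zero _)
  | succ j =>
    have h1 : Subsingleton (L.X (j + 1)).carrier := hb (j + 1) (by omega)
    have h2 : Subsingleton (L.X j).carrier := hb j (by omega)
    change Subsingleton ((L.X (j + 1)).carrier × (L.X j).carrier)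
    infer_instance

omit [IsNoetherianRing R] in
/-- The image of the first differential of the cone. -/
theorem range_cone_d0 (x : R) (hx : x ∈ 𝒜 1) (L : GCx 𝒜) (I : Ideal R)
    (hL : LinearMap.range (L.d 0) ≤ I • (⊤ : Submodule R (L.X 0).carrier)) (hxI : x ∈ I)
    (z : (L.X 0).carrier) (hz : z ∈ LinearMap.range ((coneGCx x hx L).d 0)) :
    z ∈ I • (⊤ : Submodule R (L.X 0).carrier) := by
  obtain ⟨⟨u, v⟩, rfl⟩ := hz
  change coned0 x L (u, v) ∈ _
  rw [coned0_apply]
  exact add_mem (hL ⟨u, rfl⟩) (Submodule.smul_mem_smul hxI Submodule.mem_top)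

end Groth.Agent.Lib.Helper29GrKoszulCone
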