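import Groth.Agent.Lib.Helper29GrKoszulCone

/-! The Koszul complex of a list of degree-one elements on a graded module, as an iterated cone,
with the invariants needed for the regularity chase (helper29). -/

set_option autoImplicit false
set_option linter.style.haveILetI false
set_option linter.unusedSectionVars false
open DirectSum

noncomputable section

namespace Groth.Agent.Lib.Helper29GrKoszulList

open Groth.Agent.Lib.Helper29GrHV Groth.Agent.Lib.Helper29GrKoszulChase
  Groth.Agent.Lib.Helper29GrKoszulCone Groth.Agent.Lib.Helper29GrSub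

universe u

variable {R : Type u} [CommRing R] [IsNoetherianRing R] {𝒜 : ℤ → AddSubgroup R} [GradedRing 𝒜]

/-- The zero graded module (as the bottom submodule of `M`). -/
def zeroGMod (M : GrLC.GMod.{u} 𝒜) : GrLC.GMod.{u} 𝒜 :=
  subGMod M ⊥ (IsHomogeneous.bot M.gr)

instance (M : GrLC.GMod.{u} 𝒜) : Subsingleton (zeroGMod M).carrier :=
  inferInstanceAs (Subsingleton ↥(⊥ : Submodule R M.carrier))

/-- Terms of the complex `M` concentrated in degree zero. -/
def baseX (M : GrLC.GMod.{u} 𝒜) : ℕ → GrLC.GMod.{u} 𝒜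
  | 0 => M
  | _ + 1 => zeroGMod M

/-- The complex `M` concentrated in degree zero. -/
def baseCx (M : GrLC.GMod.{u} 𝒜) : GCx 𝒜 where
  X := baseX M
  d := fun _ => 0
  d_gr := fun j γ x _ => by
    rw [LinearMap.zero_apply]
    exact zero_mem _
  d_comp := fun _ _ => rfl

/-- The invariants of the Koszul complex. -/
structure KInv (a : HomogeneousIdeal 𝒜) (xs : List R) (K : GCx 𝒜) : Prop where
  kills : ∀ y ∈ xs, Kills y K
  q : QProp a K
  bdd : ∀ j, xs.length < j → Subsingleton (K.X j).carrier
  rng : LinearMap.range (K.d 0) ≤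
    Ideal.span {x | x ∈ xs} • (⊤ : Submodule R (K.X 0).carrier)

variable {a : HomogeneousIdeal 𝒜}

theorem kInv_base (M : GrLC.GMod.{u} 𝒜) : KInv a [] (baseCx M) where
  kills := fun y hy => absurd hy (List.not_mem_nil)
  q := by
    intro j i γ h
    cases j with
    | zero =>
      have h' : HV a M i (γ - ((0 : ℕ) : ℤ)) := h
      rw [Nat.cast_zero, sub_zero] at h'
      exact h'
    | succ j =>
      have : Subsingleton ((baseCx M).X (j + 1)).carrier :=
        inferInstanceAs (Subsingleton (zeroGMod M).carrier)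
      exact HV_of_subsingleton _ i γ
  bdd := by
    intro j hj
    cases j with
    | zero => exact absurd hj (Nat.lt_irrefl _)
    | succ j => exact inferInstanceAs (Subsingleton (zeroGMod M).carrier)
  rng := by
    rintro z ⟨w, rfl⟩
    exact zero_mem _

theorem kInv_cone (x : R) (hx : x ∈ 𝒜 1) (xs : List R) (K : GCx 𝒜) (hK : KInv a xs K) :
    KInv a (x :: xs) (coneGCx x hx K) where
  kills := by
    intro y hy
    rcases List.mem_cons.mp hy with rfl | hy
    · exact kills_cone_self y hx K
    · exact kills_cone_of_kills x hx K y (hK.kills y hy)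
  q := qProp_cone x hx K hK.q
  bdd := by
    intro j hj
    exact bounded_cone x hx K xs.length hK.bdd j (by simpa using hj)
  rng := by
    intro z hz
    have hle : Ideal.span {y | y ∈ xs} ≤ Ideal.span {y | y ∈ x :: xs} :=
      Ideal.span_mono fun y hy => List.mem_cons_of_mem x hy
    exact range_cone_d0 x hx K (Ideal.span {y | y ∈ x :: xs})
      (hK.rng.trans (Submodule.smul_mono_left hle))
      (Ideal.subset_span (List.mem_cons_self)) z hz

/-- Existence of the Koszul complex with its invariants. -/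
theorem exists_koszul (M : GrLC.GMod.{u} 𝒜) (xs : List R) (hxs : ∀ x ∈ xs, x ∈ 𝒜 1) :
    ∃ K : GCx 𝒜, K.X 0 = M ∧ KInv a xs K := by
  induction xs with
  | nil => exact ⟨baseCx M, rfl, kInv_base M⟩
  | cons x xs ih =>
    obtain ⟨K, hK0, hK⟩ := ih (fun y hy => hxs y (List.mem_cons_of_mem x hy))
    exact ⟨coneGCx x (hxs x List.mem_cons_self) K, hK0,
      kInv_cone x (hxs x List.mem_cons_self) xs K hK⟩

omit [IsNoetherianRing R] in
/-- Elementwise power-killing by generators gives killing by a power of the ideal. -/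
theorem exists_pow_smul_mem {N : Type u} [AddCommGroup N] [Module R N] (B : Submodule R N) (z : N)
    (S : Set R) (I : Ideal R) (hI : I = Ideal.span S) (hfg : I.FG)
    (h : ∀ y ∈ S, ∃ n : ℕ, y ^ n • z ∈ B) : ∃ n : ℕ, ∀ r ∈ I ^ n, r • z ∈ B := by
  let J : Ideal R := LinearMap.ker (B.mkQ.comp (LinearMap.toSpanSingleton R N z))
  have hJ : ∀ r : R, r ∈ J ↔ r • z ∈ B := by
    intro r
    change B.mkQ (r • z) = 0 ↔ _
    rw [Submodule.mkQ_apply, Submodule.Quotient.mk_eq_zero]
  have hle : I ≤ J.radical := by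
    rw [hI, Ideal.span_le]
    intro y hy
    obtain ⟨n, hn⟩ := h y hy
    exact ⟨n, (hJ _).mpr hn⟩
  obtain ⟨n, hn⟩ := Ideal.exists_pow_le_of_le_radical_of_fg hle hfg
  exact ⟨n, fun r hr => (hJ r).mp (hn hr)⟩

theorem torsH_of_kills (K : GCx 𝒜) (xs : List R) (ha : a.toIdeal = Ideal.span {x | x ∈ xs})
    (hk : ∀ y ∈ xs, Kills y K) : TorsH a K where
  h0 := fun z => exists_pow_smul_mem (LinearMap.range (K.d 0)) z {x | x ∈ xs} a.toIdeal ha
    (IsNoetherian.noetherian _) fun y hy => (hk y hy).1 z
  hs := fun j z hz => exists_pow_smul_mem (LinearMap.range (K.d (j + 1))) z {x | x ∈ xs}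
    a.toIdeal ha (IsNoetherian.noetherian _) fun y hy => (hk y hy).2 j z hz

end Groth.Agent.Lib.Helper29GrKoszulList
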