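import Groth.Agent.Lib.Helper29GrTopTensor

/-! The isomorphism `M ⊗ H^n_a(R) ≅ H^n_a(M)` as a definition, with its formula on pure tensors,
its compatibility with degrees and its naturality in `M` (helper29). -/

set_option autoImplicit false
set_option linter.style.haveILetI false
set_option linter.unusedSectionVars false
open CategoryTheory DirectSum TensorProduct

noncomputable section

namespace Groth.Agent.Lib.Helper29.GrTensorNat

open Groth.Agent.Lib.Helper29LCAcyclic Groth.Agent.Lib.Helper29.GrLCFun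
  Groth.Agent.Lib.Helper8.Watts Groth.Agent.Lib.Helper8.Bridge Groth.Agent.Lib.Helper8.LocDual

universe u

variable {ι : Type} [AddCommGroup ι] [DecidableEq ι] [Module.Free ℤ ι] [Module.Finite ℤ ι]
variable {R : Type u} [CommRing R] [IsNoetherianRing R] {𝒜 : ι → AddSubgroup R} [GradedRing 𝒜]
variable (a : HomogeneousIdeal 𝒜)
variable {M : Type u} [AddCommGroup M] [Module R M] {ℳ : ι → AddSubgroup M}
  [DirectSum.Decomposition ℳ] [SetLike.GradedSMul 𝒜 ℳ]
variable {M' : Type u} [AddCommGroup M'] [Module R M'] {ℳ' : ι → AddSubgroup M'}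
  [DirectSum.Decomposition ℳ'] [SetLike.GradedSMul 𝒜 ℳ']
variable (n : ℕ) (hcd : LocCoh.CdLE R a.toIdeal n)
  (I : GrLC.StarInjRes 𝒜 𝒜) (EM : GrLC.StarInjRes 𝒜 ℳ) (EM' : GrLC.StarInjRes 𝒜 ℳ')

/-- `M ⊗ H^n_a(R) ≅ H^n_a(M)`. -/
def Ttop : M ⊗[R] I.H a n ≃ₗ[R] EM.H a n :=
  ((TensorProduct.congr (LinearEquiv.refl R M) (cE a I n)).trans
    ((TensorProduct.comm R M (Er a.toIdeal n)).trans
      (τEquiv a.toIdeal n hcd (ModuleCat.of R M)))).trans (cE a EM n).symm

theorem Ttop_tmul (x : M) (h : I.H a n) :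
    Ttop a n hcd I EM (x ⊗ₜ h) = (cE a EM n).symm ((localCohomology a.toIdeal n).map
      (ModuleCat.ofHom (LinearMap.toSpanSingleton R M x)) (cE a I n h)) := by
  change (cE a EM n).symm (τ a.toIdeal n (ModuleCat.of R M) ((cE a I n h) ⊗ₜ x)) = _
  rw [τ_tmul]
  rfl

theorem Ttop_mem_Hgr (j : ι) (x : M) (hx : x ∈ ℳ j) (g : ι) (h : I.H a n)
    (hh : h ∈ I.Hgr a n g) : Ttop a n hcd I EM (x ⊗ₜ h) ∈ EM.Hgr a n (g + j) := by
  rw [Ttop_tmul]
  have hf : GrLC.IsGrHomDeg 𝒜 ℳ (LinearMap.toSpanSingleton R M x) j := by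
    intro g' r hr
    rw [LinearMap.toSpanSingleton_apply]
    exact SetLike.GradedSMul.smul_mem hr hx
  exact map_mem_Hgr_deg a I EM (LinearMap.toSpanSingleton R M x) j hf n g h hh

/-- The map induced on graded local cohomology by a linear map. -/
def Hmap (f : M →ₗ[R] M') (p : ℕ) : EM.H a p →ₗ[R] EM'.H a p :=
  (cE a EM' p).symm.toLinearMap ∘ₗ ((localCohomology a.toIdeal p).map (ModuleCat.ofHom f)).hom ∘ₗ
    (cE a EM p).toLinearMap

theorem Hmap_apply (f : M →ₗ[R] M') (p : ℕ) (y : EM.H a p) :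
    Hmap a EM EM' f p y = (cE a EM' p).symm
      ((localCohomology a.toIdeal p).map (ModuleCat.ofHom f) (cE a EM p y)) := rfl

theorem Hmap_mem_Hgr (f : M →ₗ[R] M') (hf : GrLC.IsGrHom ℳ ℳ' f) (p : ℕ) (γ : ι) (y : EM.H a p)
    (hy : y ∈ EM.Hgr a p γ) : Hmap a EM EM' f p y ∈ EM'.Hgr a p γ :=
  map_mem_Hgr a EM EM' f hf p γ y hy

theorem Hmap_eq_zero_iff (f : M →ₗ[R] M') (p : ℕ) (y : EM.H a p) :
    Hmap a EM EM' f p y = 0 ↔
      (localCohomology a.toIdeal p).map (ModuleCat.ofHom f) (cE a EM p y) = 0 := by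
  rw [Hmap_apply, LinearEquiv.map_eq_zero_iff]

/-- Naturality of `M ⊗ H^n_a(R) ≅ H^n_a(M)`. -/
theorem Ttop_natural (f : M →ₗ[R] M') (x : M) (h : I.H a n) :
    Hmap a EM EM' f n (Ttop a n hcd I EM (x ⊗ₜ h)) = Ttop a n hcd I EM' (f x ⊗ₜ h) := by
  rw [Hmap_apply, Ttop_tmul, Ttop_tmul, LinearEquiv.apply_symm_apply]
  congr 1
  have h1 : ModuleCat.ofHom (LinearMap.toSpanSingleton R M' (f x)) =
      ModuleCat.ofHom (LinearMap.toSpanSingleton R M x) ≫ ModuleCat.ofHom f := by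
    rw [← ModuleCat.ofHom_comp]
    congr 1
    apply LinearMap.ext
    intro r
    rw [LinearMap.comp_apply, LinearMap.toSpanSingleton_apply, LinearMap.toSpanSingleton_apply,
      map_smul]
  rw [h1, Functor.map_comp]
  rfl

end Groth.Agent.Lib.Helper29.GrTensorNat
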