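import Groth.Agent.Lib.Helper29GrDualFun
import Groth.Agent.Lib.Helper29GrDualNat
import Groth.Agent.Lib.Helper29GrTensorNat
import Groth.Agent.Lib.Helper29GrDeltaLES
import Groth.Agent.Lib.Helper29GrFreeCover
import Groth.Agent.Lib.Helper29ExtShiftEquiv
import Groth.Agent.Lib.Helper29GrDualExist
import Groth.Agent.Lib.Helper29GrHmod
import Groth.Agent.S13225

/-! Graded local duality over a Cohen–Macaulay graded ring over a field: the graded dual of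
`H^{n-j}_m(M)` is `Ext^j_R(M, K)`, `K` the graded dual of `H^n_m(R)` (helper29). -/

set_option autoImplicit false
set_option linter.style.haveILetI false
set_option linter.unusedSectionVars false
open CategoryTheory DirectSum TensorProduct

noncomputable section

namespace Groth.Agent.Lib.Helper29.GrLocalDuality

open Groth.Agent.Lib.Helper29.GrDualExist Groth.Agent.Lib.Helper29.GrDualFun
  Groth.Agent.Lib.Helper29.GrDualNat Groth.Agent.Lib.Helper29.GrTensorNat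
  Groth.Agent.Lib.Helper29.GrDeltaLES Groth.Agent.Lib.Helper29.GrFreeCover
  Groth.Agent.Lib.Helper29.ExtShiftEquiv Groth.Agent.Lib.Helper29GrFree
  Groth.Agent.Lib.Helper29GrHV Groth.Agent.Lib.Helper29.GrLCFun
  Groth.Agent.Lib.Helper8.ExtPres

universe u

variable {R : Type u} [CommRing R] [IsNoetherianRing R] (𝒜 : ℤ → AddSubgroup R) [GradedRing 𝒜]

/-- The decomposition of graded local cohomology into its pieces. -/
def HDec {M : Type u} [AddCommGroup M] [Module R M] {ℳ : ℤ → AddSubgroup M}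
    [DirectSum.Decomposition ℳ] [SetLike.GradedSMul 𝒜 ℳ] (E : GrLC.StarInjRes 𝒜 ℳ)
    (a : HomogeneousIdeal 𝒜) (i : ℕ) : DirectSum.Decomposition (E.Hgr a i) :=
  (Groth.Agent.S13225.result R 𝒜 a M ℳ E i).chooseDecomposition

variable (hR : LocCoh.IsCohenMacaulayRing R)
  (hpos : ∀ n : ℤ, n < 0 → 𝒜 n = ⊥) (h0 : IsField (GrLC.deg0 𝒜))
  (m : HomogeneousIdeal 𝒜) (hm : GrLC.IsStarLocal 𝒜 m)
  (hmsp : m.toIdeal = Ideal.span (⋃ n ∈ Set.Ioi (0 : ℤ), (𝒜 n : Set R)))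
  {E' : Type u} [AddCommGroup E'] [Module R E'] (𝓔 : ℤ → AddSubgroup E')
  [DirectSum.Decomposition 𝓔] [SetLike.GradedSMul 𝒜 𝓔]
  (e : (R ⧸ m.toIdeal) →ₗ[R] E') (he : GrLC.IsStarInjHull 𝒜 (GrLC.quotGr 𝒜 m) 𝓔 e)
  (n : ℕ) (hn : ringKrullDim R = n) (hcd : LocCoh.CdLE R m.toIdeal n)
  (I : GrLC.StarInjRes 𝒜 𝒜)
  {K : Type u} [AddCommGroup K] [Module R K] (𝒦 : ℤ → AddSubgroup K)
  [DirectSum.Decomposition 𝒦] [SetLike.GradedSMul 𝒜 𝒦]
  (PK : K → I.H m n → ↥(GrLC.deg0 𝒜)) (hPK : DualPairing 𝒜 (I.Hgr m n) 𝒦 PK)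

include h0 hPK in
/-- Top degree: the graded dual of `H^n_m(M)` is `Hom_R(M, K)`, with the characterizing formula. -/
theorem top_dual (M : GrLC.GMod.{u} 𝒜) [Module.Finite R M.carrier]
    (EM : GrLC.StarInjRes 𝒜 M.gr) (D : GrLC.GMod.{u} 𝒜)
    (P : D.carrier → EM.H m n → ↥(GrLC.deg0 𝒜)) (hP : DualPairing 𝒜 (EM.Hgr m n) D.gr P) :
    ∃ ε : D.carrier ≃ₗ[R] (M.carrier →ₗ[R] K),
      ∀ d x h, PK (ε d x) h = P d (Ttop m n hcd I EM (x ⊗ₜ h)) := by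
  letI : Field ↥(GrLC.deg0 𝒜) := h0.toField
  letI := HDec 𝒜 I m n
  letI := HDec 𝒜 EM m n
  have hK := hPK.isGDual h0
  have hD := hP.isGDual h0
  obtain ⟨ε, hε, -⟩ := exists_dual_equiv_char 𝒜 hK hD (Ttop m n hcd I EM)
    (Ttop_mem_Hgr m n hcd I EM)
  exact ⟨ε, hε⟩

include hR hpos h0 hm hmsp hn in
/-- A graded free presentation and the resulting connecting homomorphism. -/
theorem exists_presentation (M : GrLC.GMod.{u} 𝒜) [Module.Finite R M.carrier]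
    (EM : GrLC.StarInjRes 𝒜 M.gr) (p : ℕ) (hp : p < n) :
    ∃ (t : ℕ) (deg : Fin t → ℤ) (π : (Fin t → R) →ₗ[R] M.carrier)
      (hπg : GrLC.IsGrHom (freeGr 𝒜 deg) M.gr π) (_ : Function.Surjective π)
      (EN : GrLC.StarInjRes 𝒜 (subGMod (freeGMod 𝒜 deg) (LinearMap.ker π)
        (ker_hom (X₁ := freeGMod 𝒜 deg) (X₀ := M) π hπg)).gr)
      (EF : GrLC.StarInjRes 𝒜 (freeGMod 𝒜 deg).gr)
      (δ : EM.H m p →ₗ[R] EN.H m (p + 1)),
      (∀ (γ : ℤ) (h : EM.H m p), h ∈ EM.Hgr m p γ → δ h ∈ EN.Hgr m (p + 1) γ) ∧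
      Function.Injective δ ∧
      (∀ x : EN.H m (p + 1),
        Hmap m EN EF (LinearMap.ker π).subtype (p + 1) x = 0 ↔ ∃ h, δ h = x) ∧
      (p + 1 < n → Function.Surjective δ) := by
  obtain ⟨t, deg, π, hπg, hπs⟩ := exists_free_cover 𝒜 M.gr
  obtain ⟨EN⟩ := exists_res (subGMod (freeGMod 𝒜 deg) (LinearMap.ker π)
    (ker_hom (X₁ := freeGMod 𝒜 deg) (X₀ := M) π hπg))
  obtain ⟨EF⟩ := exists_res (freeGMod 𝒜 deg)
  obtain ⟨δ, hδgr, hδex, hδinj⟩ := exists_connecting m EN EF EM (LinearMap.ker π).subtype π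
    (LinearMap.ker π).subtype_injective hπs (Submodule.range_subtype _).symm
    (fun _ _ hx => hx) hπg p
  have hvan : ∀ i, i < n → ∀ y : EF.H m i, y = 0 := fun i hi y =>
    free_H_eq_zero 𝒜 hR hpos h0 m hm hmsp n hn deg EF i hi y
  refine ⟨t, deg, π, hπg, hπs, EN, EF, δ, hδgr, hδinj (hvan p hp), ?_, ?_⟩
  · intro x
    rw [Hmap_eq_zero_iff]
    exact hδex x
  · intro hp1 x
    refine (hδex x).mp ?_
    rw [← Hmap_eq_zero_iff m EN EF]
    exact hvan (p + 1) hp1 _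

include hR hpos h0 hm hmsp he hn hcd hPK in
/-- The case `j = 1`. -/
theorem duality_one (p : ℕ) (hp : p + 1 = n) (M : GrLC.GMod.{u} 𝒜) [Module.Finite R M.carrier]
    (EM : GrLC.StarInjRes 𝒜 M.gr) (D : GrLC.GMod.{u} 𝒜)
    (P : D.carrier → EM.H m p → ↥(GrLC.deg0 𝒜)) (hP : DualPairing 𝒜 (EM.Hgr m p) D.gr P) :
    Nonempty (D.carrier ≃ₗ[R]
      Abelian.Ext.{u} (ModuleCat.of R M.carrier) (ModuleCat.of R K) 1) := by
  subst hp
  have hmne : m.toIdeal ≠ ⊤ := Groth.Agent.Lib.Helper29GrStarLocal.toIdeal_ne_top 𝒜 m hm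
  obtain ⟨t, deg, π, hπg, hπs, EN, EF, δ, hδgr, hδinj, hδex, -⟩ :=
    exists_presentation 𝒜 hR hpos h0 m hm hmsp (p + 1) hn M EM p (Nat.lt_succ_self p)
  letI : Field ↥(GrLC.deg0 𝒜) := h0.toField
  letI := HDec 𝒜 I m (p + 1)
  letI := HDec 𝒜 EM m p
  letI := HDec 𝒜 EN m (p + 1)
  letI := HDec 𝒜 EF m (p + 1)
  haveI := Groth.Agent.Lib.Helper29.GrHmod.H_gradedSMul EN m (p + 1)
  haveI := Groth.Agent.Lib.Helper29.GrHmod.H_gradedSMul EF m (p + 1)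
  obtain ⟨DN, PN, hPN⟩ := exists_dual 𝒜 hpos h0 m hmne hmsp 𝓔 e he (EN.Hgr m (p + 1))
  obtain ⟨DF, PF, hPF⟩ := exists_dual 𝒜 hpos h0 m hmne hmsp 𝓔 e he (EF.Hgr m (p + 1))
  have hD := hP.isGDual h0
  have hDN := hPN.isGDual h0
  have hDF := hPF.isGDual h0
  have hι : GrLC.IsGrHom (subGMod (freeGMod 𝒜 deg) (LinearMap.ker π)
      (ker_hom (X₁ := freeGMod 𝒜 deg) (X₀ := M) π hπg)).gr (freeGMod 𝒜 deg).gr
      (LinearMap.ker π).subtype := fun _ _ hx => hx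
  have hHgr : GrLC.IsGrHom (EN.Hgr m (p + 1)) (EF.Hgr m (p + 1))
      (Hmap m EN EF (LinearMap.ker π).subtype (p + 1)) :=
    fun γ y hy => Hmap_mem_Hgr m EN EF _ hι (p + 1) γ y hy
  obtain ⟨g, hg⟩ := exists_dualMap hDN hDF (Hmap m EN EF (LinearMap.ker π).subtype (p + 1)) hHgr
  obtain ⟨e1⟩ := nonempty_equiv_quotient hD hDN hDF δ (fun γ h hh => hδgr γ h hh)
    (Hmap m EN EF (LinearMap.ker π).subtype (p + 1)) hHgr hδinj hδex g hg
  haveI : Module.Finite R (subGMod (freeGMod 𝒜 deg) (LinearMap.ker π)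
      (ker_hom (X₁ := freeGMod 𝒜 deg) (X₀ := M) π hπg)).carrier :=
    inferInstanceAs (Module.Finite R ↥(LinearMap.ker π))
  haveI : Module.Finite R (freeGMod 𝒜 deg).carrier :=
    inferInstanceAs (Module.Finite R (Fin t → R))
  obtain ⟨εN, hεN⟩ := top_dual 𝒜 h0 m (p + 1) hcd I 𝒦 PK hPK _ EN DN PN hPN
  obtain ⟨εF, hεF⟩ := top_dual 𝒜 h0 m (p + 1) hcd I 𝒦 PK hPK _ EF DF PF hPF
  have hK := hPK.isGDual h0
  have hnat : ∀ d' : DF.carrier, εN (g d') = (εF d') ∘ₗ (LinearMap.ker π).subtype := fun d' =>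
    eps_natural (βD := hPN.β) (βD' := hPF.β) hK (Ttop m (p + 1) hcd I EN)
      (Ttop m (p + 1) hcd I EF) εN.toLinearMap hεN
      εF.toLinearMap hεF (LinearMap.ker π).subtype
      (Hmap m EN EF (LinearMap.ker π).subtype (p + 1))
      (fun x h => Ttop_natural m (p + 1) hcd I EN EF _ x h) g hg d'
  have hmap : (LinearMap.range g).map εN.toLinearMap =
      LinearMap.range (LinearMap.lcomp R K (LinearMap.ker π).subtype) := by
    ext φ
    constructor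
    · rintro ⟨_, ⟨d', rfl⟩, rfl⟩
      exact ⟨εF d', (hnat d').symm⟩
    · rintro ⟨ψ, rfl⟩
      refine ⟨g (εF.symm ψ), ⟨_, rfl⟩, ?_⟩
      show εN (g (εF.symm ψ)) = _
      rw [hnat, LinearEquiv.apply_symm_apply]
      rfl
  have e2 := Submodule.Quotient.equiv (LinearMap.range g)
    (LinearMap.range (LinearMap.lcomp R K (LinearMap.ker π).subtype)) εN hmap
  exact ⟨e1.trans (e2.trans (extOneEquiv π hπs K))⟩

include hR hpos h0 hm hmsp he hn in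
/-- The inductive step `j + 1 → j + 2`. -/
theorem duality_step (j : ℕ)
    (ih : ∀ (p : ℕ), p + (j + 1) = n → ∀ (M : GrLC.GMod.{u} 𝒜) [Module.Finite R M.carrier]
      (EM : GrLC.StarInjRes 𝒜 M.gr) (D : GrLC.GMod.{u} 𝒜)
      (P : D.carrier → EM.H m p → ↥(GrLC.deg0 𝒜)), DualPairing 𝒜 (EM.Hgr m p) D.gr P →
      Nonempty (D.carrier ≃ₗ[R]
        Abelian.Ext.{u} (ModuleCat.of R M.carrier) (ModuleCat.of R K) (j + 1)))
    (p : ℕ) (hp : p + (j + 1 + 1) = n) (M : GrLC.GMod.{u} 𝒜) [Module.Finite R M.carrier]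
    (EM : GrLC.StarInjRes 𝒜 M.gr) (D : GrLC.GMod.{u} 𝒜)
    (P : D.carrier → EM.H m p → ↥(GrLC.deg0 𝒜)) (hP : DualPairing 𝒜 (EM.Hgr m p) D.gr P) :
    Nonempty (D.carrier ≃ₗ[R]
      Abelian.Ext.{u} (ModuleCat.of R M.carrier) (ModuleCat.of R K) (j + 1 + 1)) := by
  have hmne : m.toIdeal ≠ ⊤ := Groth.Agent.Lib.Helper29GrStarLocal.toIdeal_ne_top 𝒜 m hm
  obtain ⟨t, deg, π, hπg, hπs, EN, EF, δ, hδgr, hδinj, -, hδsurj⟩ :=
    exists_presentation 𝒜 hR hpos h0 m hm hmsp n hn M EM p (by omega)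
  letI : Field ↥(GrLC.deg0 𝒜) := h0.toField
  letI := HDec 𝒜 EM m p
  letI := HDec 𝒜 EN m (p + 1)
  haveI := Groth.Agent.Lib.Helper29.GrHmod.H_gradedSMul EN m (p + 1)
  obtain ⟨DN, PN, hPN⟩ := exists_dual 𝒜 hpos h0 m hmne hmsp 𝓔 e he (EN.Hgr m (p + 1))
  have hD := hP.isGDual h0
  have hDN := hPN.isGDual h0
  obtain ⟨e1⟩ := nonempty_equiv_of_bijective hD hDN δ (fun γ h hh => hδgr γ h hh)
    ⟨hδinj, hδsurj (by omega)⟩
  haveI : Module.Finite R (subGMod (freeGMod 𝒜 deg) (LinearMap.ker π)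
      (ker_hom (X₁ := freeGMod 𝒜 deg) (X₀ := M) π hπg)).carrier :=
    inferInstanceAs (Module.Finite R ↥(LinearMap.ker π))
  obtain ⟨e2⟩ := ih (p + 1) (by omega) _ EN DN PN hPN
  exact ⟨e1.symm.trans (e2.trans (extShiftEquiv π hπs K j))⟩

include hR hpos h0 hm hmsp he hn hcd hPK in
/-- Graded local duality: the graded dual of `H^p_m(M)` is `Ext^j_R(M, K)` when `p + j = n`. -/
theorem duality (j p : ℕ) (hp : p + j = n) (M : GrLC.GMod.{u} 𝒜) [Module.Finite R M.carrier]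
    (EM : GrLC.StarInjRes 𝒜 M.gr) (D : GrLC.GMod.{u} 𝒜)
    (P : D.carrier → EM.H m p → ↥(GrLC.deg0 𝒜)) (hP : DualPairing 𝒜 (EM.Hgr m p) D.gr P) :
    Nonempty (D.carrier ≃ₗ[R]
      Abelian.Ext.{u} (ModuleCat.of R M.carrier) (ModuleCat.of R K) j) := by
  cases j with
  | zero =>
    have hpn : p = n := by omega
    subst hpn
    obtain ⟨ε, -⟩ := top_dual 𝒜 h0 m p hcd I 𝒦 PK hPK M EM D P hP
    exact ⟨ε.trans ((ModuleCat.homLinearEquiv (M := ModuleCat.of R M.carrier)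
      (N := ModuleCat.of R K) (S := R)).symm.trans (Abelian.Ext.linearEquiv₀ (R := R)).symm)⟩
  | succ j =>
    have key : ∀ (j p : ℕ), p + (j + 1) = n → ∀ (M : GrLC.GMod.{u} 𝒜)
        [Module.Finite R M.carrier] (EM : GrLC.StarInjRes 𝒜 M.gr) (D : GrLC.GMod.{u} 𝒜)
        (P : D.carrier → EM.H m p → ↥(GrLC.deg0 𝒜)), DualPairing 𝒜 (EM.Hgr m p) D.gr P →
        Nonempty (D.carrier ≃ₗ[R]
          Abelian.Ext.{u} (ModuleCat.of R M.carrier) (ModuleCat.of R K) (j + 1)) := by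
      intro j
      induction j with
      | zero =>
        intro p hp M _ EM D P hP
        exact duality_one 𝒜 hR hpos h0 m hm hmsp 𝓔 e he n hn hcd I 𝒦 PK hPK p hp M EM D P hP
      | succ j ih =>
        intro p hp M _ EM D P hP
        exact duality_step 𝒜 hR hpos h0 m hm hmsp 𝓔 e he n hn (K := K) j ih p hp M EM D P hP
    exact key j p hp M EM D P hP

end Groth.Agent.Lib.Helper29.GrLocalDuality
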