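import Mathlib
import Groth.Agent.Lib.Helper29Coaction
set_option autoImplicit false
set_option linter.style.haveILetI false
universe u
open DirectSum
open scoped LaurentPolynomial

namespace Groth.Agent.Lib.Helper29.GrLocz

open Groth.Agent.Lib.Helper29

section Twist

variable {ι : Type*} [DecidableEq ι] [AddMonoid ι]
variable {R : Type*} [CommRing R] (𝒜 : ι → AddSubgroup R) [GradedRing 𝒜]
variable {S : Type*} [CommRing S] (f : R →+* S) (g : ι → S) (hg0 : g 0 = 1)
  (hgadd : ∀ i j, g (i + j) = g i * g j)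

/-- `a ↦ ∑ f(a_i) g(i)`. -/
noncomputable def twistG : R →+* S :=
  (DirectSum.toSemiring
    (fun i => (AddMonoidHom.mulRight (g i)).comp (f.toAddMonoidHom.comp (𝒜 i).subtype))
    (by
      change f ((1 : R)) * g 0 = 1
      rw [hg0, map_one, one_mul])
    (by
      intro i j ai aj
      change f ((ai : R) * (aj : R)) * g (i + j) = (f ai * g i) * (f aj * g j)
      rw [hgadd, map_mul]; ring)).comp (DirectSum.decomposeRingEquiv 𝒜).toRingHom

theorem twistG_apply_of_mem {i : ι} {a : R} (ha : a ∈ 𝒜 i) :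
    twistG 𝒜 f g hg0 hgadd a = f a * g i := by
  have h1 : (DirectSum.decomposeRingEquiv 𝒜).toRingHom a = DirectSum.of _ i ⟨a, ha⟩ := by
    change decompose 𝒜 a = _
    rw [decompose_of_mem 𝒜 ha]
  unfold twistG
  rw [RingHom.comp_apply, h1, DirectSum.toSemiring_of]
  rfl

end Twist

section Loc

variable {A : Type u} [CommRing A] (𝒜 : ℕ → AddSubgroup A) [GradedRing 𝒜]
variable (S : Submonoid A)

/-- `A → S⁻¹A[T;T⁻¹]`, `a ↦ ∑ (a_i/1) T^i`. -/
noncomputable def phiA : A →+* (Localization S)[T;T⁻¹] :=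
  twistG 𝒜 ((LaurentPolynomial.C).comp (algebraMap A (Localization S)))
    (fun i => LaurentPolynomial.T (i : ℤ)) LaurentPolynomial.T_zero
    (by intro i j; push_cast; exact LaurentPolynomial.T_add _ _)

theorem phiA_of_mem {i : ℕ} {a : A} (ha : a ∈ 𝒜 i) :
    phiA 𝒜 S a = LaurentPolynomial.C (algebraMap A (Localization S) a) *
      LaurentPolynomial.T (i : ℤ) :=
  twistG_apply_of_mem 𝒜 _ _ _ _ ha

variable (hS : ∀ s ∈ S, SetLike.IsHomogeneousElem 𝒜 s)

include hS in
theorem isUnit_phiA (s : S) : IsUnit (phiA 𝒜 S (s : A)) := by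
  obtain ⟨j, hj⟩ := hS s s.2
  rw [phiA_of_mem 𝒜 S hj]
  exact ((IsLocalization.map_units (Localization S) s).map LaurentPolynomial.C).mul
    (LaurentPolynomial.isUnit_T _)

/-- the coaction `S⁻¹A → S⁻¹A[T;T⁻¹]`. -/
noncomputable def Phi : Localization S →+* (Localization S)[T;T⁻¹] :=
  IsLocalization.lift (M := S) (isUnit_phiA 𝒜 S hS)

theorem Phi_algebraMap (a : A) :
    Phi 𝒜 S hS (algebraMap A (Localization S) a) = phiA 𝒜 S a :=
  IsLocalization.lift_eq _ a

/-- the `ℤ`-grading on `S⁻¹A`. -/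
noncomputable def grd : ℤ → AddSubgroup (Localization S) := Coaction.grd (Phi 𝒜 S hS)

theorem algebraMap_mem {i : ℕ} {a : A} (ha : a ∈ 𝒜 i) :
    algebraMap A (Localization S) a ∈ grd 𝒜 S hS (i : ℤ) := by
  change _ = _
  rw [Phi_algebraMap, phiA_of_mem 𝒜 S ha]

theorem inv_mem (s : S) {j : ℕ} (hj : (s : A) ∈ 𝒜 j) :
    IsLocalization.mk' (Localization S) 1 s ∈ grd 𝒜 S hS (-(j : ℤ)) := by
  change _ = _
  set w := IsLocalization.mk' (Localization S) (1 : A) s with hw
  have h1 : w * algebraMap A (Localization S) (s : A) = 1 := by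
    rw [hw, IsLocalization.mk'_spec, map_one]
  have h2 : Phi 𝒜 S hS w * (LaurentPolynomial.C (algebraMap A (Localization S) (s : A)) *
      LaurentPolynomial.T (j : ℤ)) = 1 := by
    rw [← phiA_of_mem 𝒜 S hj, ← Phi_algebraMap 𝒜 S hS, ← map_mul, h1, map_one]
  calc Phi 𝒜 S hS w = Phi 𝒜 S hS w * ((LaurentPolynomial.C (algebraMap A (Localization S) (s : A)) *
      LaurentPolynomial.T (j : ℤ)) * (LaurentPolynomial.C w * LaurentPolynomial.T (-(j : ℤ)))) := by
        have : (LaurentPolynomial.C (algebraMap A (Localization S) (s : A)) *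
          LaurentPolynomial.T (j : ℤ)) * (LaurentPolynomial.C w * LaurentPolynomial.T (-(j : ℤ)))
          = 1 := by
          have e : LaurentPolynomial.C (algebraMap A (Localization S) (s : A)) *
              LaurentPolynomial.T (j : ℤ) * (LaurentPolynomial.C w * LaurentPolynomial.T (-(j : ℤ)))
              = LaurentPolynomial.C (w * algebraMap A (Localization S) (s : A)) *
                (LaurentPolynomial.T (j : ℤ) * LaurentPolynomial.T (-(j : ℤ))) := by
            rw [map_mul]; ring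
          rw [e, h1, map_one, ← LaurentPolynomial.T_add, add_neg_cancel, LaurentPolynomial.T_zero,
            mul_one]
        rw [this, mul_one]
    _ = LaurentPolynomial.C w * LaurentPolynomial.T (-(j : ℤ)) := by
        rw [← mul_assoc, h2, one_mul]

instance : SetLike.GradedMonoid (grd 𝒜 S hS) :=
  inferInstanceAs (SetLike.GradedMonoid (Coaction.grd (Phi 𝒜 S hS)))

theorem mk'_mem {i j : ℕ} {a : A} (ha : a ∈ 𝒜 i) (s : S) (hj : (s : A) ∈ 𝒜 j) :
    IsLocalization.mk' (Localization S) a s ∈ grd 𝒜 S hS ((i : ℤ) - j) := by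
  rw [IsLocalization.mk'_eq_mul_mk'_one, sub_eq_add_neg]
  exact SetLike.mul_mem_graded (algebraMap_mem 𝒜 S hS ha) (inv_mem 𝒜 S hS s hj)

theorem hspan (x : Localization S) :
    x ∈ AddSubgroup.closure (⋃ n, (grd 𝒜 S hS n : Set (Localization S))) := by
  classical
  obtain ⟨⟨a, s⟩, rfl⟩ := IsLocalization.mk'_surjective S x
  obtain ⟨j, hj⟩ := hS s s.2
  change IsLocalization.mk' (Localization S) a s ∈ _
  rw [IsLocalization.mk'_eq_mul_mk'_one, ← DirectSum.sum_support_decompose 𝒜 a, map_sum,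
    Finset.sum_mul]
  refine AddSubgroup.sum_mem _ fun i _ => AddSubgroup.subset_closure ?_
  rw [← IsLocalization.mk'_eq_mul_mk'_one]
  exact Set.mem_iUnion.mpr ⟨_, mk'_mem 𝒜 S hS (SetLike.coe_mem _) s hj⟩

noncomputable instance gradedRing : GradedRing (grd 𝒜 S hS) :=
  Coaction.gradedRing (Phi 𝒜 S hS) (hspan 𝒜 S hS)



theorem coeff_Phi_mk' (a : A) (s : S) {j : ℕ} (hj : (s : A) ∈ 𝒜 j) (n : ℤ) :
    (Phi 𝒜 S hS (IsLocalization.mk' (Localization S) a s)).coeff n =
      if 0 ≤ n + j then IsLocalization.mk' (Localization S)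
        ((decompose 𝒜 a (n + j).toNat : A)) s else 0 := by
  classical
  have h1 : IsLocalization.mk' (Localization S) a s =
      ∑ i ∈ (decompose 𝒜 a).support,
        IsLocalization.mk' (Localization S) ((decompose 𝒜 a i : A)) s := by
    conv_lhs => rw [IsLocalization.mk'_eq_mul_mk'_one, ← DirectSum.sum_support_decompose 𝒜 a,
      map_sum, Finset.sum_mul]
    refine Finset.sum_congr rfl fun i _ => ?_
    rw [← IsLocalization.mk'_eq_mul_mk'_one]
  have h2 : ∀ i : ℕ, (Phi 𝒜 S hS (IsLocalization.mk' (Localization S)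
      ((decompose 𝒜 a i : A)) s)).coeff n =
      if n = (i : ℤ) - j then IsLocalization.mk' (Localization S) ((decompose 𝒜 a i : A)) s
      else 0 := fun i =>
    Coaction.coeff_of_mem _ (mk'_mem 𝒜 S hS (SetLike.coe_mem _) s hj) n
  rw [h1, map_sum]
  have h3 : (∑ i ∈ (decompose 𝒜 a).support, Phi 𝒜 S hS (IsLocalization.mk' (Localization S)
      ((decompose 𝒜 a i : A)) s)).coeff n = ∑ i ∈ (decompose 𝒜 a).support,
      (Phi 𝒜 S hS (IsLocalization.mk' (Localization S) ((decompose 𝒜 a i : A)) s)).coeff n := by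
    induction (decompose 𝒜 a).support using Finset.induction_on with
    | empty => simp
    | insert i T hi ih =>
      rw [Finset.sum_insert hi, Finset.sum_insert hi, ← ih]
      rfl
  rw [h3]
  simp_rw [h2]
  split_ifs with hn
  · rw [Finset.sum_eq_single (n + j).toNat]
    · rw [if_pos (by omega)]
    · intro b _ hb
      rw [if_neg (by omega)]
    · intro hb
      rw [DFinsupp.notMem_support_iff] at hb
      rw [hb]
      simp
  · apply Finset.sum_eq_zero
    intro i _
    rw [if_neg]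
    omega



theorem val_mem (c : HomogeneousLocalization 𝒜 S) : c.val ∈ grd 𝒜 S hS 0 := by
  obtain ⟨y, rfl⟩ := HomogeneousLocalization.mk_surjective c
  rw [HomogeneousLocalization.val_mk, Localization.mk_eq_mk'_apply]
  have := mk'_mem 𝒜 S hS y.num.2 ⟨y.den, y.den_mem⟩ y.den.2
  rwa [sub_self] at this

theorem exists_val_eq {x : Localization S} (hx : x ∈ grd 𝒜 S hS 0) :
    ∃ c : HomogeneousLocalization 𝒜 S, c.val = x := by
  obtain ⟨⟨a, s⟩, rfl⟩ := IsLocalization.mk'_surjective S x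
  obtain ⟨j, hj⟩ := hS s s.2
  change IsLocalization.mk' (Localization S) a s ∈ _ at hx
  change ∃ c : HomogeneousLocalization 𝒜 S, c.val = IsLocalization.mk' (Localization S) a s
  have h1 := Coaction.coeff_of_mem _ hx 0
  rw [if_pos rfl, coeff_Phi_mk' 𝒜 S hS a s hj, if_pos (by omega)] at h1
  have h2 : ((0 : ℤ) + (j : ℤ)).toNat = j := by simp
  rw [h2] at h1
  refine ⟨HomogeneousLocalization.mk ⟨j, ⟨decompose 𝒜 a j, SetLike.coe_mem _⟩, ⟨s, hj⟩, s.2⟩, ?_⟩
  rw [HomogeneousLocalization.val_mk, Localization.mk_eq_mk'_apply, ← h1]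

/-- `A_(S) ≃ (S⁻¹A)_0`. -/
noncomputable def valEquiv :
    HomogeneousLocalization 𝒜 S ≃+* SetLike.GradeZero.subring (grd 𝒜 S hS) :=
  RingEquiv.ofBijective
    ((algebraMap (HomogeneousLocalization 𝒜 S) (Localization S)).codRestrict
      (SetLike.GradeZero.subring (grd 𝒜 S hS)) (fun c => val_mem 𝒜 S hS c))
    ⟨fun c c' h => HomogeneousLocalization.val_injective S (congrArg Subtype.val h),
      fun x => by
        obtain ⟨c, hc⟩ := exists_val_eq 𝒜 S hS x.2
        exact ⟨c, Subtype.ext hc⟩⟩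

theorem valEquiv_coe (c : HomogeneousLocalization 𝒜 S) :
    ((valEquiv 𝒜 S hS c : SetLike.GradeZero.subring (grd 𝒜 S hS)) : Localization S) = c.val := rfl

end Loc

section AtPrime

variable {A : Type u} [CommRing A] (𝒜 : ℕ → AddSubgroup A) [GradedRing 𝒜]
variable (p : Ideal A) [p.IsPrime]

/-- homogeneous elements outside `p`. -/
def Sp : Submonoid A := p.primeCompl ⊓ SetLike.homogeneousSubmonoid 𝒜

theorem Sp_hom : ∀ s ∈ Sp 𝒜 p, SetLike.IsHomogeneousElem 𝒜 s := fun _ hs => hs.2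

theorem mapId_surjective : Function.Surjective
    (HomogeneousLocalization.mapId 𝒜 (inf_le_left : Sp 𝒜 p ≤ p.primeCompl)) := by
  intro c
  obtain ⟨y, rfl⟩ := HomogeneousLocalization.mk_surjective c
  exact ⟨HomogeneousLocalization.mk ⟨y.deg, y.num, y.den, ⟨y.den_mem, ⟨y.deg, y.den.2⟩⟩⟩, rfl⟩

theorem mapId_injective : Function.Injective
    (HomogeneousLocalization.mapId 𝒜 (inf_le_left : Sp 𝒜 p ≤ p.primeCompl)) := by
  classical
  intro c c' h
  obtain ⟨y, rfl⟩ := HomogeneousLocalization.mk_surjective c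
  obtain ⟨y', rfl⟩ := HomogeneousLocalization.mk_surjective c'
  have h' : (HomogeneousLocalization.mk ⟨y.deg, y.num, y.den, y.den_mem.1⟩ :
      HomogeneousLocalization 𝒜 p.primeCompl).val =
      (HomogeneousLocalization.mk ⟨y'.deg, y'.num, y'.den, y'.den_mem.1⟩ :
      HomogeneousLocalization 𝒜 p.primeCompl).val := congrArg HomogeneousLocalization.val h
  rw [HomogeneousLocalization.val_mk, HomogeneousLocalization.val_mk,
    Localization.mk_eq_mk_iff, Localization.r_iff_exists] at h'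
  obtain ⟨u, hu⟩ := h'
  dsimp only at hu
  apply HomogeneousLocalization.val_injective
  rw [HomogeneousLocalization.val_mk, HomogeneousLocalization.val_mk,
    Localization.mk_eq_mk_iff, Localization.r_iff_exists]
  have hX : (y'.den : A) * (y.num : A) ∈ 𝒜 (y'.deg + y.deg) :=
    SetLike.mul_mem_graded y'.den.2 y.num.2
  have hY : (y.den : A) * (y'.num : A) ∈ 𝒜 (y'.deg + y.deg) := by
    have := SetLike.mul_mem_graded y.den.2 y'.num.2
    rwa [add_comm] at this
  obtain ⟨e, he⟩ : ∃ e, (decompose 𝒜 (u : A) e : A) ∉ p := by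
    by_contra hcon
    push Not at hcon
    apply u.2
    rw [← DirectSum.sum_support_decompose 𝒜 (u : A)]
    exact Ideal.sum_mem _ fun i _ => hcon i
  refine ⟨⟨(decompose 𝒜 (u : A) e : A), he, ⟨e, SetLike.coe_mem _⟩⟩, ?_⟩
  dsimp only
  have hu' : (u : A) * ((y'.den : A) * (y.num : A)) = (u : A) * ((y.den : A) * (y'.num : A)) := hu
  rw [← DirectSum.coe_decompose_mul_add_of_right_mem 𝒜 hX,
    ← DirectSum.coe_decompose_mul_add_of_right_mem 𝒜 hY, hu']

/-- `A_(p) ≃ (S_p⁻¹A)_0`. -/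
noncomputable def atPrimeEquiv : HomogeneousLocalization.AtPrime 𝒜 p ≃+*
    SetLike.GradeZero.subring (grd 𝒜 (Sp 𝒜 p) (Sp_hom 𝒜 p)) :=
  (RingEquiv.ofBijective _ ⟨mapId_injective 𝒜 p, mapId_surjective 𝒜 p⟩).symm.trans
    (valEquiv 𝒜 (Sp 𝒜 p) (Sp_hom 𝒜 p))

end AtPrime

end Groth.Agent.Lib.Helper29.GrLocz
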