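import Groth.Agent.Lib.Helper29GrBaer
import Groth.Agent.Lib.Helper29GrSub
import Groth.Agent.Lib.Helper29GrEss
import Groth.Prelude.Def_GrLC
import Groth.Prelude.Def_Wider

/-! A *injective graded module which is torsion for a graded maximal ideal `m` is injective
as an ungraded module (Baer's criterion via the graded Baer property for `m ⊆ R` and
Artin–Rees), helper29. -/

set_option autoImplicit false
set_option linter.style.haveILetI false
open DirectSum

namespace Groth.Agent.Lib.Helper29GrMaxHull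

open Groth.Agent.Lib.Helper29GrBaer Groth.Agent.Lib.Helper29GrSub Groth.Agent.Lib.Helper29GrEss

universe u

variable {ι : Type} [AddCommGroup ι] [DecidableEq ι]
variable {R : Type u} [CommRing R] [IsNoetherianRing R] (𝒜 : ι → AddSubgroup R) [GradedRing 𝒜]
variable (m : HomogeneousIdeal 𝒜)
variable {E : Type u} [AddCommGroup E] [Module R E] (𝓔 : ι → AddSubgroup E)
  [DirectSum.Decomposition 𝓔] [SetLike.GradedSMul 𝒜 𝓔]

/-- Graded Baer property for the inclusion of a homogeneous ideal. -/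
theorem exists_elt (hE : GrLC.IsStarInj 𝒜 𝓔) (θ : m.toIdeal →ₗ[R] E) :
    ∃ z : E, ∀ (a : R) (ha : a ∈ m.toIdeal), θ ⟨a, ha⟩ = a • z := by
  have hhom : Submodule.IsHomogeneous (m.toIdeal : Submodule R R) 𝒜 := m.isHomogeneous
  letI : DirectSum.Decomposition (subGr 𝒜 (m.toIdeal : Submodule R R)) :=
    subDecomposition 𝒜 _ hhom
  haveI : SetLike.GradedSMul 𝒜 (subGr 𝒜 (m.toIdeal : Submodule R R)) :=
    sub_gradedSMul 𝒜 _ 𝒜
  obtain ⟨ψ, hψ⟩ := exists_extension 𝒜 (subGr 𝒜 (m.toIdeal : Submodule R R)) 𝓔 𝒜 hE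
    (Submodule.subtype (m.toIdeal : Submodule R R)) (fun g x hx => hx)
    (Submodule.subtype_injective _) θ
  refine ⟨ψ 1, fun a ha => ?_⟩
  have h1 := LinearMap.congr_fun hψ ⟨a, ha⟩
  rw [LinearMap.comp_apply] at h1
  rw [← h1, ← map_smul]
  congr 1
  change a = a • (1 : R)
  rw [smul_eq_mul, mul_one]

variable [hmax : m.toIdeal.IsMaximal]

/-- Every map from an ideal containing a power of `m` into a *injective module extends. -/
theorem extends_of_pow_le (hE : GrLC.IsStarInj 𝒜 𝓔) (N : ℕ) (I : Ideal R) :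
    m.toIdeal ^ N ≤ I → ∀ ψ : I →ₗ[R] E, ∃ g : R →ₗ[R] E, ∀ (x : R) (hx : x ∈ I),
      g x = ψ ⟨x, hx⟩ := by
  induction I using IsNoetherian.induction with
  | hgt I IH =>
    intro hNI ψ
    by_cases htop : I = ⊤
    · refine ⟨ψ ∘ₗ LinearMap.codRestrict I LinearMap.id (fun x => htop ▸ Submodule.mem_top),
        fun x hx => rfl⟩
    · -- the least power of `m` inside `I`
      classical
      have hex : ∃ n, m.toIdeal ^ n ≤ I := ⟨N, hNI⟩
      have hn0 : Nat.find hex ≠ 0 := by
        intro h0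
        have := Nat.find_spec hex
        rw [h0, pow_zero, Ideal.one_eq_top, top_le_iff] at this
        exact htop this
      obtain ⟨j, hj⟩ := Nat.exists_eq_succ_of_ne_zero hn0
      have hj1 : m.toIdeal ^ (j + 1) ≤ I := by
        have := Nat.find_spec hex
        rwa [hj] at this
      have hj0 : ¬ m.toIdeal ^ j ≤ I := Nat.find_min hex (by omega)
      obtain ⟨y, hym, hyI⟩ := SetLike.not_le_iff_exists.mp hj0
      have hmy : ∀ a ∈ m.toIdeal, a * y ∈ I := fun a ha =>
        hj1 (by rw [pow_succ']; exact Ideal.mul_mem_mul ha hym)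
      -- the map `a ↦ ψ (a y)` on `m`
      let θ : m.toIdeal →ₗ[R] E := ψ ∘ₗ LinearMap.codRestrict I
        ((LinearMap.mulRight R y) ∘ₗ Submodule.subtype (m.toIdeal : Submodule R R))
        (fun a => hmy a a.2)
      obtain ⟨z, hz⟩ := exists_elt 𝒜 m 𝓔 hE θ
      have hz' : ∀ (a : R) (ha : a ∈ m.toIdeal), ψ ⟨a * y, hmy a ha⟩ = a • z :=
        fun a ha => hz a ha
      -- the colon ideal is `m`
      have hcolon : ∀ c : R, c * y ∈ I → c ∈ m.toIdeal := by
        let Q : Ideal R := Submodule.comap (LinearMap.mulRight R y) I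
        have hmQ : m.toIdeal ≤ Q := fun a ha => hmy a ha
        have hQtop : Q ≠ ⊤ := by
          intro h
          have h1 : (1 : R) ∈ Q := h ▸ Submodule.mem_top
          have h2 : (1 : R) * y ∈ I := h1
          rw [one_mul] at h2
          exact hyI h2
        have hQ : m.toIdeal = Q := hmax.eq_of_le hQtop hmQ
        intro c hc
        rw [hQ]
        exact hc
      let f₁ : R →ₗ.[R] E := ⟨I, ψ⟩
      let f₂ : R →ₗ.[R] E := LinearPMap.mkSpanSingleton' y z (by
        intro c hc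
        have hcI : c * y ∈ I := by
          rw [smul_eq_mul] at hc
          rw [hc]; exact I.zero_mem
        have hcm := hcolon c hcI
        rw [RingHom.id_apply, ← hz' c hcm]
        have : (⟨c * y, hmy c hcm⟩ : I) = 0 := by
          apply Subtype.ext
          rw [smul_eq_mul] at hc
          exact hc
        rw [this, map_zero])
      have hagree : ∀ (x : f₁.domain) (w : f₂.domain), (x : R) = w → f₁ x = f₂ w := by
        rintro ⟨x, hx⟩ ⟨w, hw⟩ hxw
        change x = w at hxw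
        subst hxw
        obtain ⟨c, rfl⟩ := Submodule.mem_span_singleton.mp hw
        have hcm := hcolon c hx
        rw [LinearPMap.mkSpanSingleton'_apply, RingHom.id_apply, ← hz' c hcm]
        rfl
      let f := f₁.sup f₂ hagree
      have hlt : I < f.domain := by
        refine lt_of_le_of_ne (le_sup_left : I ≤ I ⊔ f₂.domain) ?_
        intro heq
        apply hyI
        have : y ∈ f.domain :=
          (le_sup_right : f₂.domain ≤ I ⊔ f₂.domain) (Submodule.mem_span_singleton_self y)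
        rw [heq]
        exact this
      obtain ⟨g, hg⟩ := IH f.domain hlt (hNI.trans hlt.le) f.toFun
      refine ⟨g, fun x hx => ?_⟩
      rw [hg x (hlt.le hx)]
      exact ((f₁.left_le_sup f₂ hagree).2 (x := ⟨x, hx⟩) (y := ⟨x, hlt.le hx⟩) rfl).symm

/-- A *injective `m`-torsion module over a Noetherian graded ring is injective, for a graded
maximal ideal `m`. -/
theorem baer_of_torsion (hE : GrLC.IsStarInj 𝒜 𝓔) (htors : GrLC.gam m.toIdeal E = ⊤) :
    Module.Baer R E := by
  classical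
  intro J φ
  -- a uniform power of `m` killing the image of `φ`
  have hn : ∃ n : ℕ, ∀ (y : R) (hy : y ∈ J), ∀ a ∈ m.toIdeal ^ n, a • φ ⟨y, hy⟩ = 0 := by
    obtain ⟨S, hS⟩ := (isNoetherian_def.mp inferInstance : ∀ s : Submodule R R, s.FG) J
    have hmem : ∀ x : E, ∃ n : ℕ, ∀ r ∈ m.toIdeal ^ n, r • x = 0 := fun x => by
      have : x ∈ GrLC.gam m.toIdeal E := htors ▸ Submodule.mem_top
      exact this
    choose ν hν using hmem
    let n := S.sup (fun s => if h : s ∈ J then ν (φ ⟨s, h⟩) else 0)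
    refine ⟨n, fun y hy => ?_⟩
    have hy' : y ∈ Submodule.span R (S : Set R) := hS ▸ hy
    induction hy' using Submodule.span_induction with
    | mem s hs =>
      intro a ha
      have hsJ : s ∈ J := hS ▸ Submodule.subset_span hs
      apply hν (φ ⟨s, hsJ⟩) a
      refine Ideal.pow_le_pow_right ?_ ha
      have := Finset.le_sup (f := fun s => if h : s ∈ J then ν (φ ⟨s, h⟩) else 0) hs
      simpa [hsJ] using this
    | zero =>
      intro a _
      have : (⟨0, hy⟩ : J) = 0 := rfl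
      rw [this, map_zero, smul_zero]
    | add x w hx hw ihx ihw =>
      intro a ha
      have hxJ : x ∈ J := hS ▸ hx
      have hwJ : w ∈ J := hS ▸ hw
      have : (⟨x + w, hy⟩ : J) = ⟨x, hxJ⟩ + ⟨w, hwJ⟩ := rfl
      rw [this, map_add, smul_add, ihx hxJ a ha, ihw hwJ a ha, add_zero]
    | smul c x hx ihx =>
      intro a ha
      have hxJ : x ∈ J := hS ▸ hx
      have : (⟨c • x, hy⟩ : J) = c • ⟨x, hxJ⟩ := rfl
      rw [this, map_smul, smul_comm, ihx hxJ a ha, smul_zero]
  obtain ⟨n, hn⟩ := hn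
  -- Artin–Rees
  obtain ⟨k, hk⟩ := Ideal.exists_pow_inf_eq_pow_smul m.toIdeal (J : Submodule R R)
  have hAR : ∀ x : R, x ∈ m.toIdeal ^ (n + k) → ∀ hx : x ∈ J, φ ⟨x, hx⟩ = 0 := by
    intro x hxK hxJ
    have h1 : x ∈ (m.toIdeal ^ (n + k) • (⊤ : Submodule R R) ⊓ (J : Submodule R R)) := by
      refine ⟨?_, hxJ⟩
      rw [smul_eq_mul, Ideal.mul_top]
      exact hxK
    rw [hk (n + k) (Nat.le_add_left k n), Nat.add_sub_cancel] at h1
    have h2 : m.toIdeal ^ n • (m.toIdeal ^ k • (⊤ : Submodule R R) ⊓ (J : Submodule R R)) ≤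
        (LinearMap.ker φ).map J.subtype := by
      rw [Submodule.smul_le]
      intro a ha w hw
      have hwJ : w ∈ J := (Submodule.mem_inf.mp hw).2
      refine ⟨⟨a • w, J.smul_mem a hwJ⟩, ?_, rfl⟩
      change φ ⟨a • w, J.smul_mem a hwJ⟩ = 0
      have : (⟨a • w, J.smul_mem a hwJ⟩ : J) = a • ⟨w, hwJ⟩ := rfl
      rw [this, map_smul]
      exact hn w hwJ a ha
    obtain ⟨w, hw, hwx⟩ := h2 h1
    have : w = ⟨x, hxJ⟩ := Subtype.ext hwx
    rw [← this]
    exact hw
  let f₁ : R →ₗ.[R] E := ⟨J, φ⟩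
  let f₂ : R →ₗ.[R] E := ⟨m.toIdeal ^ (n + k), 0⟩
  have hagree : ∀ (x : f₁.domain) (w : f₂.domain), (x : R) = w → f₁ x = f₂ w := by
    rintro ⟨x, hx⟩ ⟨w, hw⟩ hxw
    change x = w at hxw
    subst hxw
    exact hAR x hw hx
  let f := f₁.sup f₂ hagree
  obtain ⟨g, hg⟩ := extends_of_pow_le 𝒜 m 𝓔 hE (n + k) f.domain
    (le_sup_right : f₂.domain ≤ J ⊔ f₂.domain) f.toFun
  refine ⟨g, fun x hx => ?_⟩
  have hxd : x ∈ f.domain := (le_sup_left : J ≤ J ⊔ f₂.domain) hx
  rw [hg x hxd]
  exact ((f₁.left_le_sup f₂ hagree).2 (x := ⟨x, hx⟩) (y := ⟨x, hxd⟩) rfl).symm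

end Groth.Agent.Lib.Helper29GrMaxHull
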