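import Groth.Agent.Lib.Helper29GrProd
import Groth.Agent.Lib.Helper29GrShiftInj

/-! Finite product gradings on `κ → A`, and graded free modules of finite rank with prescribed
basis degrees as bundled graded modules (helper29). -/

set_option autoImplicit false
set_option linter.style.haveILetI false
set_option linter.unusedSectionVars false
open DirectSum

noncomputable section

namespace Groth.Agent.Lib.Helper29GrPi

open Groth.Agent.Lib.Helper29GrShift

universe u

section Pi

variable {ι : Type} [AddCommGroup ι] [DecidableEq ι]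
variable {R : Type u} [CommRing R]
variable {κ : Type} [Fintype κ] [DecidableEq κ]
variable {A : Type u} [AddCommGroup A] [Module R A] (𝓐 : κ → ι → AddSubgroup A)

/-- The product pieces. -/
def piGr : ι → AddSubgroup (κ → A) := fun g =>
  { carrier := {v | ∀ b, v b ∈ 𝓐 b g}
    zero_mem' := fun _ => zero_mem _
    add_mem' := fun hv hw b => add_mem (hv b) (hw b)
    neg_mem' := fun hv b => neg_mem (hv b) }

theorem mem_piGr {g : ι} {v : κ → A} : v ∈ piGr 𝓐 g ↔ ∀ b, v b ∈ 𝓐 b g := Iff.rfl

theorem single_mem (b : κ) (g : ι) {x : A} (hx : x ∈ 𝓐 b g) : Pi.single b x ∈ piGr 𝓐 g := by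
  intro b'
  by_cases h : b' = b
  · subst h
    rw [Pi.single_eq_same]
    exact hx
  · rw [Pi.single_eq_of_ne h]
    exact zero_mem _

/-- Inclusion of a factor, on pieces. -/
def singlePiece (b : κ) (g : ι) : ↥(𝓐 b g) →+ ↥(piGr 𝓐 g) where
  toFun x := ⟨Pi.single b (x : A), single_mem 𝓐 b g x.2⟩
  map_zero' := Subtype.ext (Pi.single_zero (M := fun _ : κ => A) b)
  map_add' x y := by
    apply Subtype.ext
    show (Pi.single b ((x : A) + (y : A)) : κ → A) =
      (Pi.single b (x : A) : κ → A) + (Pi.single b (y : A) : κ → A)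
    exact Pi.single_add (f := fun _ : κ => A) b (x : A) (y : A)

theorem coe_map_singlePiece (b : κ) (y : ⨁ g, 𝓐 b g) :
    DirectSum.coeAddMonoidHom (piGr 𝓐) (DirectSum.map (singlePiece 𝓐 b) y) =
      Pi.single b (DirectSum.coeAddMonoidHom (𝓐 b) y) := by
  classical
  induction y using DirectSum.induction_on with
  | zero =>
    rw [map_zero, map_zero, map_zero, Pi.single_zero]
  | of g x =>
    rw [DirectSum.map_of, DirectSum.coeAddMonoidHom_of, DirectSum.coeAddMonoidHom_of]
    rfl
  | add x y hx hy =>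
    rw [map_add, map_add, map_add, hx, hy, Pi.single_add]

variable [∀ b, DirectSum.Decomposition (𝓐 b)]

/-- The decomposition map. -/
def decHom : (κ → A) →+ ⨁ g, piGr 𝓐 g :=
  ∑ b : κ, (DirectSum.map (singlePiece 𝓐 b)).comp
    ((DirectSum.decomposeAddEquiv (𝓐 b)).toAddMonoidHom.comp
      (Pi.evalAddMonoidHom (fun _ : κ => A) b))

theorem decHom_apply (v : κ → A) :
    decHom 𝓐 v = ∑ b : κ, DirectSum.map (singlePiece 𝓐 b) (DirectSum.decompose (𝓐 b) (v b)) := by
  unfold decHom
  rw [AddMonoidHom.finsetSum_apply]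
  rfl

/-- The product decomposition. -/
@[instance_reducible]
def piDecomposition : DirectSum.Decomposition (piGr 𝓐) :=
  DirectSum.Decomposition.ofAddHom (piGr 𝓐) (decHom 𝓐)
    (by
      apply AddMonoidHom.ext
      intro v
      rw [AddMonoidHom.comp_apply, decHom_apply, map_sum]
      have h : ∀ b : κ, DirectSum.coeAddMonoidHom (piGr 𝓐)
          (DirectSum.map (singlePiece 𝓐 b) (DirectSum.decompose (𝓐 b) (v b))) =
          Pi.single b (v b) := by
        intro b
        rw [coe_map_singlePiece]
        congr 1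
        exact DirectSum.Decomposition.left_inv (v b)
      rw [Finset.sum_congr rfl fun b _ => h b, Finset.univ_sum_single]
      rfl)
    (by
      apply DirectSum.addHom_ext
      rintro g ⟨v, hv⟩
      rw [AddMonoidHom.comp_apply, DirectSum.coeAddMonoidHom_of]
      change decHom 𝓐 v = _
      rw [decHom_apply]
      have h : ∀ b : κ, DirectSum.map (singlePiece 𝓐 b) (DirectSum.decompose (𝓐 b) (v b)) =
          DirectSum.of (fun g => ↥(piGr 𝓐 g)) g (singlePiece 𝓐 b g ⟨v b, hv b⟩) := by
        intro b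
        rw [DirectSum.decompose_of_mem (𝓐 b) (hv b), DirectSum.map_of]
      rw [Finset.sum_congr rfl fun b _ => h b, ← map_sum]
      have h2 : ∑ b : κ, singlePiece 𝓐 b g ⟨v b, hv b⟩ = (⟨v, hv⟩ : ↥(piGr 𝓐 g)) := by
        apply Subtype.ext
        rw [AddSubgroup.val_finsetSum]
        exact Finset.univ_sum_single v
      rw [h2]
      rfl)

theorem pi_gradedSMul (𝒜 : ι → AddSubgroup R) [GradedRing 𝒜]
    [∀ b, SetLike.GradedSMul 𝒜 (𝓐 b)] : SetLike.GradedSMul 𝒜 (piGr 𝓐) where
  smul_mem := by
    intro i j r v hr hv b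
    exact SetLike.GradedSMul.smul_mem (A := 𝒜) (B := 𝓐 b) hr (hv b)

end Pi

end Groth.Agent.Lib.Helper29GrPi
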