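import Groth.Agent.Lib.Helper29GrRegSeqEnd
import Groth.Agent.Lib.Helper29GrHV
import Groth.Agent.Lib.Helper29GrStd

/-! Degree-one regular sequences on a non-negatively graded module are algebraically independent
over the degree-zero subring (helper29). -/

set_option autoImplicit false
set_option linter.style.haveILetI false
set_option linter.unusedSectionVars false
open DirectSum
open scoped Pointwise

namespace Groth.Agent.Lib.Helper29GrPolyInj

open Groth.Agent.Lib.Helper29GrQuot Groth.Agent.Lib.Helper29GrEss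
  Groth.Agent.Lib.Helper29GrRegSeqEnd

universe u

theorem aeval_eq_eval₂_finSuccEquiv {A B : Type*} [CommRing A] [CommRing B] [Algebra A B] (n : ℕ)
    (f : Fin (n + 1) → B) (p : MvPolynomial (Fin (n + 1)) A) :
    MvPolynomial.aeval f p =
      Polynomial.eval₂ ((MvPolynomial.aeval (fun i : Fin n => f i.succ) :
        MvPolynomial (Fin n) A →ₐ[A] B) : MvPolynomial (Fin n) A →+* B) (f 0)
        (MvPolynomial.finSuccEquiv A n p) := by
  induction p using MvPolynomial.induction_on with
  | C a => simp [MvPolynomial.finSuccEquiv_apply]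
  | add p q hp hq => rw [map_add, map_add, Polynomial.eval₂_add, hp, hq]
  | mul_X p i hp =>
    rw [map_mul, map_mul, Polynomial.eval₂_mul, hp]
    congr 1
    refine Fin.cases ?_ ?_ i
    · simp [MvPolynomial.finSuccEquiv_X_zero]
    · intro j
      simp [MvPolynomial.finSuccEquiv_X_succ]

section Core

variable {R : Type u} [CommRing R]

/-- One-variable step: if `φ q • v ∈ r M` forces `q = 0` and `r` is `M`-regular, then
`P(r) • v = 0` forces `P = 0`. -/
theorem eval₂_smul_eq_zero {M : Type u} [AddCommGroup M] [Module R M] {B : Type*} [CommRing B]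
    (φ : B →+* R) (r : R) (hreg : IsSMulRegular M r) (v : M)
    (hφ : ∀ q : B, φ q • v ∈ r • (⊤ : Submodule R M) → q = 0) :
    ∀ P : Polynomial B, (Polynomial.eval₂ φ r P) • v = 0 → P = 0 := by
  have step : ∀ P : Polynomial B, (Polynomial.eval₂ φ r P) • v = 0 →
      P.coeff 0 = 0 ∧ (Polynomial.eval₂ φ r P.divX) • v = 0 := by
    intro P hP
    have h1 : Polynomial.eval₂ φ r P =
        Polynomial.eval₂ φ r P.divX * r + φ (P.coeff 0) := by
      conv_lhs => rw [← Polynomial.divX_mul_X_add P]
      rw [Polynomial.eval₂_add, Polynomial.eval₂_mul, Polynomial.eval₂_X, Polynomial.eval₂_C]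
    rw [h1, add_smul, mul_comm, mul_smul] at hP
    have h2 : φ (P.coeff 0) • v ∈ r • (⊤ : Submodule R M) := by
      have h3 : φ (P.coeff 0) • v = r • (-(Polynomial.eval₂ φ r P.divX • v)) := by
        rw [smul_neg]
        exact eq_neg_of_add_eq_zero_right hP
      rw [h3]
      exact Submodule.smul_mem_pointwise_smul _ r ⊤ Submodule.mem_top
    have h4 := hφ _ h2
    refine ⟨h4, ?_⟩
    rw [h4, map_zero, zero_smul, add_zero] at hP
    apply hreg
    simpa using hP
  have key : ∀ (k : ℕ) (P : Polynomial B), (Polynomial.eval₂ φ r P) • v = 0 → P.coeff k = 0 := by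
    intro k
    induction k with
    | zero => exact fun P hP => (step P hP).1
    | succ k ih =>
      intro P hP
      rw [← Polynomial.coeff_divX]
      exact ih P.divX (step P hP).2
  intro P hP
  ext k
  rw [Polynomial.coeff_zero]
  exact key k P hP

variable {𝒜 : ℤ → AddSubgroup R} [GradedRing 𝒜]

/-- A weakly regular sequence of elements of degree one on a graded module living in
non-negative degrees is algebraically independent over the degree-zero subring, relative to
any degree-zero element with trivial annihilator in the degree-zero subring. -/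
theorem aeval_smul_eq_zero : ∀ (n : ℕ) (M : Type u) [AddCommGroup M] [Module R M]
    (ℳ : ℤ → AddSubgroup M) [DirectSum.Decomposition ℳ] [SetLike.GradedSMul 𝒜 ℳ]
    (_ : ∀ k : ℤ, k < 0 → ℳ k = ⊥) (f : Fin n → R) (_ : ∀ i, f i ∈ 𝒜 1)
    (_ : RingTheory.Sequence.IsWeaklyRegular M (List.ofFn f)) (v : M) (_ : v ∈ ℳ 0)
    (_ : ∀ a : GrLC.deg0 𝒜, (a : R) • v = 0 → a = 0)
    (p : MvPolynomial (Fin n) (GrLC.deg0 𝒜)), (MvPolynomial.aeval f p : R) • v = 0 → p = 0 := by
  intro n
  induction n with
  | zero =>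
    intro M _ _ ℳ _ _ hlow f hf hreg v hv hfaith p hp
    rw [MvPolynomial.eq_C_of_isEmpty p] at hp ⊢
    rw [MvPolynomial.aeval_C] at hp
    rw [hfaith _ hp, map_zero]
  | succ n ih =>
    intro M _ _ ℳ _ _ hlow f hf hreg v hv hfaith p hp
    rw [List.ofFn_succ, RingTheory.Sequence.isWeaklyRegular_cons_iff] at hreg
    obtain ⟨hreg0, hreg'⟩ := hreg
    have hPhom : (f 0 • (⊤ : Submodule R M)).IsHomogeneous ℳ := smul_top_isHomogeneous (hf 0)
    letI : DirectSum.Decomposition (quotGr ℳ (f 0 • (⊤ : Submodule R M))) :=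
      quotDecomposition ℳ _ hPhom
    letI : SetLike.GradedSMul 𝒜 (quotGr ℳ (f 0 • (⊤ : Submodule R M))) :=
      quot_gradedSMul ℳ _ 𝒜
    -- elements of `f 0 • M` have vanishing degree-zero component
    have hcomp0 : ∀ y ∈ f 0 • (⊤ : Submodule R M), ((decompose ℳ y) 0 : M) = 0 := by
      intro y hy
      obtain ⟨z, -, rfl⟩ := (Submodule.mem_smul_pointwise_iff_exists _ _ _).mp hy
      have h1 := decompose_smul_of_mem 𝒜 ℳ (hf 0) z 0
      rw [h1]
      have h2 : ((decompose ℳ z) (0 - 1) : M) = 0 :=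
        Groth.Agent.Lib.Helper29GrStd.eq_zero_of_mem_of_eq_bot (hlow (0 - 1) (by norm_num))
          (SetLike.coe_mem _)
      rw [h2, smul_zero]
    have hdeg0 : ∀ y ∈ ℳ 0, y ∈ f 0 • (⊤ : Submodule R M) → y = 0 := by
      intro y hy0 hy
      have := hcomp0 y hy
      rwa [DirectSum.decompose_of_mem_same ℳ hy0] at this
    have hsmul0 : ∀ (b : R), b ∈ 𝒜 0 → b • v ∈ ℳ 0 := by
      intro b hb
      have := SetLike.GradedSMul.smul_mem (A := 𝒜) (B := ℳ) hb hv
      rwa [vadd_eq_add, zero_add] at this
    have key := ih (M ⧸ f 0 • (⊤ : Submodule R M)) (quotGr ℳ (f 0 • (⊤ : Submodule R M)))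
      (fun k hk => by
        rw [eq_bot_iff]
        rintro _ ⟨y, hy, rfl⟩
        have hy' : y ∈ ℳ k := hy
        rw [hlow k hk, AddSubgroup.mem_bot] at hy'
        rw [hy', map_zero]
        exact zero_mem _)
      (fun i => f i.succ) (fun i => hf i.succ) hreg'
      ((f 0 • (⊤ : Submodule R M)).mkQ v) ⟨v, hv, rfl⟩
      (fun a ha => by
        apply hfaith
        apply hdeg0 _ (hsmul0 _ a.2)
        rwa [← map_smul, Submodule.mkQ_apply, Submodule.Quotient.mk_eq_zero] at ha)
    rw [aeval_eq_eval₂_finSuccEquiv] at hp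
    have h0 := eval₂_smul_eq_zero
      ((MvPolynomial.aeval (fun i : Fin n => f i.succ) :
        MvPolynomial (Fin n) (GrLC.deg0 𝒜) →ₐ[GrLC.deg0 𝒜] R) :
          MvPolynomial (Fin n) (GrLC.deg0 𝒜) →+* R) (f 0) hreg0 v
      (fun q hq => by
        apply key q
        rw [← map_smul, Submodule.mkQ_apply, Submodule.Quotient.mk_eq_zero]
        exact hq) _ hp
    exact (MvPolynomial.finSuccEquiv (GrLC.deg0 𝒜) n).injective (h0.trans (map_zero _).symm)

end Core

end Groth.Agent.Lib.Helper29GrPolyInj
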