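import Groth.Agent.Lib.Helper29GrAvoid
import Groth.Agent.Lib.Helper8Cd
import Groth.Agent.S0323

/-! Vanishing of the graded pieces `H^i_{R_+}(M)_n`, `n ≫ 0`, for a finitely generated graded
module over a non-negatively graded Noetherian ring (helper29). -/

set_option autoImplicit false
set_option linter.style.haveILetI false
set_option linter.unusedSectionVars false
open DirectSum Pointwise

noncomputable section

namespace Groth.Agent.Lib.Helper29GrVanish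

open Groth.Agent.Lib.Helper29GrShift Groth.Agent.Lib.Helper29GrShiftInj
  Groth.Agent.Lib.Helper29GrResCompare Groth.Agent.Lib.Helper29GrConeLES
  Groth.Agent.Lib.Helper29GrMulLES Groth.Agent.Lib.Helper29GrQuot Groth.Agent.Lib.Helper29GrSub
  Groth.Agent.Lib.Helper29GrEss Groth.Agent.Lib.Helper29GrCompareMap
  Groth.Agent.Lib.Helper29GrCMEnd Groth.Agent.Lib.Helper29GrRes Groth.Agent.Lib.Helper29GrGam
  Groth.Agent.Lib.Helper29GrQuotEnd Groth.Agent.Lib.Helper29GrRegSeqEnd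
  Groth.Agent.Lib.Helper29GrTorsBound Groth.Agent.Lib.Helper29GrAvoid

universe u

/-- `M/Γ_I(M)` has no nonzero element killed by `I`. -/
theorem quot_gam_torsionFree {R : Type u} [CommRing R] [IsNoetherianRing R] (I : Ideal R)
    (M : Type u) [AddCommGroup M] [Module R M] (m' : M ⧸ GrLC.gam I M)
    (h : ∀ r ∈ I, r • m' = 0) : m' = 0 := by
  classical
  obtain ⟨m, rfl⟩ := Submodule.mkQ_surjective _ m'
  rw [Submodule.mkQ_apply, Submodule.Quotient.mk_eq_zero]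
  have h' : ∀ r ∈ I, ∃ n : ℕ, ∀ c ∈ I ^ n, c • r • m = 0 := fun r hr => by
    have := h r hr
    rwa [Submodule.mkQ_apply, ← Submodule.Quotient.mk_smul, Submodule.Quotient.mk_eq_zero] at this
  obtain ⟨S, hS⟩ := (IsNoetherian.noetherian I : I.FG)
  choose! kk hkk using h'
  obtain ⟨K, hK⟩ := Finset.exists_le (S.image kk)
  refine ⟨K + 1, fun c hc => ?_⟩
  rw [pow_succ] at hc
  refine Submodule.mul_induction_on hc ?_ ?_
  · intro c hc r hr
    have hr' : r ∈ Submodule.span R (S : Set R) := hS ▸ hr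
    refine Submodule.span_induction (p := fun r _ => (c * r) • m = 0) ?_ ?_ ?_ ?_ hr'
    · intro s hs
      rw [mul_smul]
      have hsI : s ∈ I := hS ▸ Submodule.subset_span hs
      exact hkk s hsI c (Ideal.pow_le_pow_right (hK _ (Finset.mem_image_of_mem kk hs)) hc)
    · rw [mul_zero, zero_smul]
    · intro r r' _ _ h1 h2
      rw [mul_add, add_smul, h1, h2, add_zero]
    · intro t r _ h1
      rw [smul_eq_mul, mul_left_comm, mul_smul, h1, smul_zero]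
  · intro x y hx hy
    rw [add_smul, hx, hy, add_zero]

variable {R : Type u} [CommRing R] [IsNoetherianRing R] {𝒜 : ℤ → AddSubgroup R} [GradedRing 𝒜]
  (a : HomogeneousIdeal 𝒜)

section TwoOfThree

variable {M' : Type u} [AddCommGroup M'] [Module R M'] {ℳ' : ℤ → AddSubgroup M'}
  [DirectSum.Decomposition ℳ'] [SetLike.GradedSMul 𝒜 ℳ']
variable {M : Type u} [AddCommGroup M] [Module R M] {ℳ : ℤ → AddSubgroup M}
  [DirectSum.Decomposition ℳ] [SetLike.GradedSMul 𝒜 ℳ]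
variable {M'' : Type u} [AddCommGroup M''] [Module R M''] {ℳ'' : ℤ → AddSubgroup M''}
  [DirectSum.Decomposition ℳ''] [SetLike.GradedSMul 𝒜 ℳ'']
variable (E' : GrLC.StarInjRes 𝒜 ℳ') (E : GrLC.StarInjRes 𝒜 ℳ) (F : GrLC.StarInjRes 𝒜 ℳ'')
variable (f : M' →ₗ[R] M) (g : M →ₗ[R] M'')
variable (hfi : Function.Injective f) (hgs : Function.Surjective g)
  (hfg : LinearMap.ker g = LinearMap.range f) (hf : GrLC.IsGrHom ℳ' ℳ f)
  (hg : GrLC.IsGrHom ℳ ℳ'' g)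

include hfi hgs hfg hf hg in
/-- `H^n(M')_γ = 0` and `H^n(M'')_γ = 0` imply `H^n(M)_γ = 0`. -/
theorem Hcomp_mid_eq_bot (n : ℕ) (γ : ℤ) (h' : E'.Hcomp a n γ = ⊥) (hF : F.Hcomp a n γ = ⊥) :
    E.Hcomp a n γ = ⊥ := by
  obtain ⟨φ, hφ, hφ0, hφd⟩ := exists_comparison_over E' E f hf
  rw [Hcomp_eq_bot_iff_forall]
  intro v hv hvγ
  obtain ⟨u, hu, huγ, huv⟩ := T3 E' E f g φ hfi hgs hfg hg hφ hφ0 hφd a F n γ hF v hv hvγ
  have hub : u ∈ E'.cobdy a n := (Hcomp_eq_bot_iff_forall E' a n γ).mp h' u hu huγ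
  have hφu : φ n u ∈ E.cobdy a n := by
    cases n with
    | zero =>
      have : u = 0 := (Submodule.mem_bot R).mp hub
      rw [this, map_zero]
      exact zero_mem _
    | succ n =>
      obtain ⟨w, hw, rfl⟩ := hub
      rw [hφd]
      exact ⟨φ n w, map_mem_gam a.toIdeal (φ n) hw, rfl⟩
  have := add_mem huv hφu
  rwa [sub_add_cancel] at this

end TwoOfThree

variable {M : Type u} [AddCommGroup M] [Module R M] {ℳ : ℤ → AddSubgroup M}
  [DirectSum.Decomposition ℳ] [SetLike.GradedSMul 𝒜 ℳ]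

/-- Passing to `M/Γ_a(M)` does not change vanishing of positive-degree local cohomology pieces. -/
theorem Hcomp_of_quot_gam (E : GrLC.StarInjRes 𝒜 ℳ)
    [DirectSum.Decomposition (quotGr ℳ (GrLC.gam a.toIdeal M))]
    [SetLike.GradedSMul 𝒜 (quotGr ℳ (GrLC.gam a.toIdeal M))]
    (G : GrLC.StarInjRes 𝒜 (quotGr ℳ (GrLC.gam a.toIdeal M))) (n : ℕ) (γ : ℤ)
    (h : G.Hcomp a (n + 1) γ = ⊥) : E.Hcomp a (n + 1) γ = ⊥ := by
  have hP : (GrLC.gam a.toIdeal M).IsHomogeneous ℳ := gam_isHomogeneous 𝒜 ℳ a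
  letI : DirectSum.Decomposition (subGr ℳ (GrLC.gam a.toIdeal M)) := subDecomposition ℳ _ hP
  letI : SetLike.GradedSMul 𝒜 (subGr ℳ (GrLC.gam a.toIdeal M)) := sub_gradedSMul ℳ _ 𝒜
  let EP : GrLC.StarInjRes 𝒜 (subGr ℳ (GrLC.gam a.toIdeal M)) :=
    starInjRes 𝒜 (subGr ℳ (GrLC.gam a.toIdeal M))
  have htors : LocCoh.IsPowerTorsion a.toIdeal ↥(GrLC.gam a.toIdeal M) := by
    rintro ⟨m, k, hk⟩
    refine ⟨k, fun r hr => ?_⟩
    apply Subtype.ext
    rw [Submodule.coe_smul]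
    exact hk r hr
  have hvan : ∀ y : LocCoh.H a.toIdeal (n + 1) ↥(GrLC.gam a.toIdeal M), y = 0 := by
    intro y
    have := (Groth.Agent.S0323.result R a.toIdeal ↥(GrLC.gam a.toIdeal M) htors).2 (n + 1)
      (Nat.succ_pos n)
    exact Subsingleton.elim _ _
  have hEP : EP.Hcomp a (n + 1) γ = ⊥ := Hcomp_eq_bot_of_H_eq_zero a EP (n + 1) hvan γ
  have hg : GrLC.IsGrHom ℳ (quotGr ℳ (GrLC.gam a.toIdeal M)) (GrLC.gam a.toIdeal M).mkQ :=
    fun g m hm => ⟨m, hm, rfl⟩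
  exact Hcomp_mid_eq_bot a EP E G (GrLC.gam a.toIdeal M).subtype (GrLC.gam a.toIdeal M).mkQ
    (Submodule.injective_subtype _) (Submodule.mkQ_surjective _)
    (by rw [Submodule.ker_mkQ, Submodule.range_subtype]) (fun g m hm => hm) hg (n + 1) γ hEP h

variable {N : Type u} [AddCommGroup N] [Module R N] {𝒩 : ℤ → AddSubgroup N}
  [DirectSum.Decomposition 𝒩] [SetLike.GradedSMul 𝒜 𝒩]

/-- If `x ∈ R_+` is homogeneous of degree `k ≥ 0` and `M`-regular and `H^i(M/xM)_n = 0` for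
`n ≥ r'`, then `H^{i+1}(M)_δ = 0` for `δ ≥ r' - k`. -/
theorem step_reg (E : GrLC.StarInjRes 𝒜 ℳ) (F : GrLC.StarInjRes 𝒜 𝒩) (x : R) (k : ℤ)
    (hx : x ∈ 𝒜 k) (hk : 0 ≤ k) (hxa : x ∈ a.toIdeal) (hreg : IsSMulRegular M x)
    (g : M →ₗ[R] N) (hgs : Function.Surjective g) (hg : GrLC.IsGrHom ℳ 𝒩 g)
    (hker : LinearMap.ker g = LinearMap.range (x • (LinearMap.id : M →ₗ[R] M)))
    (i : ℕ) (r' : ℤ) (hF : ∀ n, r' ≤ n → F.Hcomp a i n = ⊥) (δ : ℤ) (hδ : r' - k ≤ δ) :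
    E.Hcomp a (i + 1) δ = ⊥ := by
  classical
  rw [eq_bot_iff]
  intro y hy
  rw [Submodule.mem_bot]
  by_contra hy0
  have hex := exists_pow_smul_eq_zero E a hxa (i + 1) y
  have hs0 : Nat.find hex ≠ 0 := by
    intro h0
    have := Nat.find_spec hex
    rw [h0, pow_zero, one_smul] at this
    exact hy0 this
  obtain ⟨s', hs'⟩ := Nat.exists_eq_succ_of_ne_zero hs0
  have hmin : x ^ s' • y ≠ 0 := Nat.find_min hex (by omega)
  have hkill : x • (x ^ s' • y) = 0 := by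
    rw [← mul_smul, ← pow_succ']
    have := Nat.find_spec hex
    rw [hs'] at this
    exact this
  apply hmin
  have hnn : 0 ≤ s' • k := by
    rw [nsmul_eq_mul]
    positivity
  refine T2x E a F x k hx hreg g hgs hg hker i (s' • k + δ + k) (hF _ (by omega)) (x ^ s' • y)
    ?_ hkill
  rw [add_sub_cancel_right]
  exact pow_smul_mem_Hcomp E a hx (i + 1) δ y hy s'

/-- `H^0_{R_+}(M)_n = 0` for `n ≫ 0`. -/
theorem exists_bound_zero [Module.Finite R M]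
    (ha : a.toIdeal = Ideal.span (⋃ n ∈ Set.Ioi (0 : ℤ), (𝒜 n : Set R)))
    (E : GrLC.StarInjRes 𝒜 ℳ) : ∃ r : ℤ, ∀ n, r ≤ n → E.Hcomp a 0 n = ⊥ := by
  obtain ⟨n₀, hn₀⟩ := exists_bound_gam 𝒜 ℳ a ha
  refine ⟨n₀, fun n hn => ?_⟩
  rw [Hcomp_eq_bot_iff_forall]
  intro z hz hzγ
  have hzk : z ∈ LinearMap.range E.ε := E.exact_zero ▸ hz.2
  obtain ⟨m, rfl⟩ := hzk
  have hmn : m ∈ ℳ n := mem_of_map_mem ℳ (E.X 0).gr E.ε E.ε_grHom E.ε_injective hzγ
  have hmg : m ∈ GrLC.gam a.toIdeal M := by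
    obtain ⟨k, hk⟩ := hz.1
    refine ⟨k, fun r hr => ?_⟩
    apply E.ε_injective
    rw [map_smul, hk r hr, map_zero]
  rw [hn₀ n hn m hmn hmg, map_zero]
  exact zero_mem _

/-- `H^i_{R_+}(M)_n = 0` for `n ≫ 0`, for each `i`. -/
theorem exists_bound (hpos : ∀ n : ℤ, n < 0 → 𝒜 n = ⊥)
    (ha : a.toIdeal = Ideal.span (⋃ n ∈ Set.Ioi (0 : ℤ), (𝒜 n : Set R))) :
    ∀ (i : ℕ) (M : Type u) [AddCommGroup M] [Module R M] [Module.Finite R M]
      (ℳ : ℤ → AddSubgroup M) [DirectSum.Decomposition ℳ] [SetLike.GradedSMul 𝒜 ℳ]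
      (E : GrLC.StarInjRes 𝒜 ℳ), ∃ r : ℤ, ∀ n, r ≤ n → E.Hcomp a i n = ⊥ := by
  intro i
  induction i with
  | zero =>
    intro M _ _ _ ℳ _ _ E
    exact exists_bound_zero a ha E
  | succ i ih =>
    intro M _ _ _ ℳ _ _ E
    have hP : (GrLC.gam a.toIdeal M).IsHomogeneous ℳ := gam_isHomogeneous 𝒜 ℳ a
    letI : DirectSum.Decomposition (quotGr ℳ (GrLC.gam a.toIdeal M)) :=
      quotDecomposition ℳ _ hP
    letI : SetLike.GradedSMul 𝒜 (quotGr ℳ (GrLC.gam a.toIdeal M)) := quot_gradedSMul ℳ _ 𝒜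
    let G : GrLC.StarInjRes 𝒜 (quotGr ℳ (GrLC.gam a.toIdeal M)) :=
      starInjRes 𝒜 (quotGr ℳ (GrLC.gam a.toIdeal M))
    obtain ⟨k, hk, x, hxk, hxa, hreg⟩ := exists_regular 𝒜 (quotGr ℳ (GrLC.gam a.toIdeal M)) hpos a ha
      (quot_gam_torsionFree a.toIdeal M)
    have hQhom : (x • (⊤ : Submodule R (M ⧸ GrLC.gam a.toIdeal M))).IsHomogeneous
        (quotGr ℳ (GrLC.gam a.toIdeal M)) := smul_top_isHomogeneous hxk
    letI : DirectSum.Decomposition (quotGr (quotGr ℳ (GrLC.gam a.toIdeal M))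
        (x • (⊤ : Submodule R (M ⧸ GrLC.gam a.toIdeal M)))) := quotDecomposition _ _ hQhom
    letI : SetLike.GradedSMul 𝒜 (quotGr (quotGr ℳ (GrLC.gam a.toIdeal M))
        (x • (⊤ : Submodule R (M ⧸ GrLC.gam a.toIdeal M)))) := quot_gradedSMul _ _ 𝒜
    let F : GrLC.StarInjRes 𝒜 (quotGr (quotGr ℳ (GrLC.gam a.toIdeal M))
        (x • (⊤ : Submodule R (M ⧸ GrLC.gam a.toIdeal M)))) := starInjRes 𝒜 _
    obtain ⟨r', hr'⟩ := ih _ _ F
    have hmkhom : GrLC.IsGrHom (quotGr ℳ (GrLC.gam a.toIdeal M))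
        (quotGr (quotGr ℳ (GrLC.gam a.toIdeal M))
          (x • (⊤ : Submodule R (M ⧸ GrLC.gam a.toIdeal M))))
        (x • (⊤ : Submodule R (M ⧸ GrLC.gam a.toIdeal M))).mkQ := fun γ y hy => ⟨y, hy, rfl⟩
    have hkermk : LinearMap.ker (x • (⊤ : Submodule R (M ⧸ GrLC.gam a.toIdeal M))).mkQ =
        LinearMap.range (x • (LinearMap.id :
          (M ⧸ GrLC.gam a.toIdeal M) →ₗ[R] (M ⧸ GrLC.gam a.toIdeal M))) := by
      rw [Submodule.ker_mkQ, range_smul_id]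
    refine ⟨r' - k, fun n hn => ?_⟩
    apply Hcomp_of_quot_gam a E G i n
    exact step_reg a G F x k hxk hk.le hxa hreg _ (Submodule.mkQ_surjective _) hmkhom hkermk i r'
      hr' n hn

/-- `H^i_{R_+}(M)_n = 0` for `n ≫ 0`, uniformly in `i`. -/
theorem exists_bound_uniform (hpos : ∀ n : ℤ, n < 0 → 𝒜 n = ⊥)
    (ha : a.toIdeal = Ideal.span (⋃ n ∈ Set.Ioi (0 : ℤ), (𝒜 n : Set R)))
    [Module.Finite R M] (E : GrLC.StarInjRes 𝒜 ℳ) :
    ∃ r : ℤ, ∀ (i : ℕ) (n : ℤ), r ≤ n → E.Hcomp a i n = ⊥ := by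
  classical
  obtain ⟨t, ht⟩ := Groth.Agent.Lib.Helper8.Cd.exists_bound a.toIdeal
  have h := fun i : ℕ => exists_bound a hpos ha i M ℳ E
  choose rr hrr using h
  obtain ⟨r, hr⟩ := Finset.exists_le ((Finset.range (t + 1)).image rr)
  refine ⟨r, fun i n hn => ?_⟩
  by_cases hi : i ≤ t
  · exact hrr i n ((hr _ (Finset.mem_image_of_mem rr (Finset.mem_range.mpr (by omega)))).trans hn)
  · exact Hcomp_eq_bot_of_H_eq_zero a E i (ht M i (by omega)) n

end Groth.Agent.Lib.Helper29GrVanish
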