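import Groth.Agent.Lib.Helper29GrDeg0Local
import Groth.Agent.Lib.Helper29GrPolyInj
import Groth.Agent.Lib.Helper29GrCMEnd
import Groth.Agent.Lib.Helper29GrDimHt
import Groth.Agent.Lib.Helper29GrFree
import Groth.Agent.Lib.Helper29GrMumford
import Groth.Agent.Lib.Helper29GrVanish

/-! Towards: a standard graded Cohen–Macaulay ring over an Artinian local ring with `a(R) = -dim R`
is a polynomial ring (helper29). -/

set_option autoImplicit false
set_option linter.style.haveILetI false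
set_option linter.unusedSectionVars false
open DirectSum TensorProduct
open scoped Pointwise

namespace Groth.Agent.Lib.Helper29GrPolyChar

open Groth.Agent.Lib.Helper29GrEss Groth.Agent.Lib.Helper29.GrHmod Groth.Agent.Lib.Helper29GrHV
  Groth.Agent.Lib.Helper29GrFree Groth.Agent.Lib.Helper29GrGam
  Groth.Agent.Lib.Helper29GrResCompare

universe u

section Gam

variable {R : Type u} [CommRing R]

/-- A module without nonzero elements killed by `I` has no `I`-power torsion. -/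
theorem eq_zero_of_mem_gam (I : Ideal R) {M : Type u} [AddCommGroup M] [Module R M]
    (htf : ∀ x : M, (∀ r ∈ I, r • x = 0) → x = 0) (z : M) (hz : z ∈ GrLC.gam I M) : z = 0 := by
  obtain ⟨n, hn⟩ := hz
  induction n generalizing z with
  | zero =>
    have h1 : (1 : R) ∈ I ^ 0 := by
      rw [pow_zero, Ideal.one_eq_top]
      trivial
    have := hn 1 h1
    rwa [one_smul] at this
  | succ n ih =>
    apply ih
    intro r hr
    apply htf
    intro s hs
    rw [← mul_smul]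
    apply hn
    rw [pow_succ']
    exact Ideal.mul_mem_mul hs hr

end Gam

variable {R : Type u} [CommRing R] [IsNoetherianRing R] {𝒜 : ℤ → AddSubgroup R} [GradedRing 𝒜]

/-- Graded local cohomology only depends on the torsion functor. -/
theorem HV_of_gam_eq (a b : HomogeneousIdeal 𝒜)
    (h : ∀ (Y : Type u) [AddCommGroup Y] [Module R Y], GrLC.gam a.toIdeal Y = GrLC.gam b.toIdeal Y)
    (X : GrLC.GMod.{u} 𝒜) (j : ℕ) (γ : ℤ) (hX : HV a X j γ) : HV b X j γ := by
  intro E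
  have h1 := hX E
  rw [Hcomp_eq_bot_iff_forall] at h1 ⊢
  have hc : E.cocyc b j = E.cocyc a j := by
    unfold GrLC.StarInjRes.cocyc
    rw [← h]
  have hb : E.cobdy b j = E.cobdy a j := by
    cases j with
    | zero => rfl
    | succ j =>
      show (GrLC.gam b.toIdeal (E.X j).carrier).map (E.d j) =
        (GrLC.gam a.toIdeal (E.X j).carrier).map (E.d j)
      rw [← h]
  rw [hc, hb]
  exact h1

/-- Vanishing of `H^0` in all degrees means there is no torsion. -/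
theorem eq_zero_of_HV_zero (a : HomogeneousIdeal 𝒜) (X : GrLC.GMod.{u} 𝒜)
    (h : ∀ γ, HV a X 0 γ) (x : X.carrier) (hx : ∀ r ∈ a.toIdeal, r • x = 0) : x = 0 := by
  classical
  have hxg : x ∈ GrLC.gam a.toIdeal X.carrier := ⟨1, fun r hr => hx r (by rwa [pow_one] at hr)⟩
  have hhom := gam_isHomogeneous 𝒜 X.gr a
  rw [← DirectSum.sum_support_decompose X.gr x]
  refine Finset.sum_eq_zero fun γ _ => ?_
  exact (HV_zero_iff X γ).mp (h γ) _ (SetLike.coe_mem _) (hhom γ hxg)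

section Reg

variable (hpos : ∀ n : ℤ, n < 0 → 𝒜 n = ⊥)
  (hstd : Ideal.span (⋃ n ∈ Set.Ioi (0 : ℤ), (𝒜 n : Set R)) =
    Ideal.span ((𝒜 1 : AddSubgroup R) : Set R))
  [IsArtinianRing (GrLC.deg0 𝒜)] (m : HomogeneousIdeal 𝒜) (hm : GrLC.IsStarLocal 𝒜 m)

include hpos hstd hm in
/-- A finitely generated module without `m`-torsion has a regular element of degree one, when the
residue field is infinite. -/
theorem exists_regular_one (hinf : Infinite (R ⧸ m.toIdeal)) (M : Type u) [AddCommGroup M]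
    [Module R M] [Module.Finite R M]
    (htf : ∀ x : M, (∀ r ∈ m.toIdeal, r • x = 0) → x = 0) :
    ∃ y ∈ 𝒜 1, IsSMulRegular M y := by
  haveI : IsLocalRing (GrLC.deg0 𝒜) :=
    Groth.Agent.Lib.Helper29GrDeg0Local.isLocalRing_deg0 𝒜 m hm
  have hinf' := Groth.Agent.Lib.Helper29GrDeg0Local.infinite_residueField 𝒜 hpos m hm hinf
  haveI hmax : m.toIdeal.IsMaximal := isMaximal_of_isStarLocal 𝒜 hpos m hm
  obtain ⟨N, hN⟩ := Groth.Agent.Lib.Helper29GrStarLocalArt.exists_pow_le_Rp 𝒜 hpos m hm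
  obtain ⟨y, hy1, hyP⟩ := Groth.Agent.Lib.Helper29GrDeg0Local.exists_mem_one_notMem 𝒜 hinf'
    (associatedPrimes R M) (associatedPrimes.finite R M) (by
      intro P hP hle
      obtain ⟨hprime, x, hx⟩ := isAssociatedPrime_iff.mp hP
      have hmP : m.toIdeal ≤ P := by
        apply Ideal.IsPrime.le_of_pow_le (n := N)
        refine hN.trans ?_
        unfold Rp
        rw [hstd]
        exact hle
      have hx0 : x = 0 := htf x fun r hr => by
        have := hmP hr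
        rw [hx, Submodule.mem_colon_singleton, Submodule.mem_bot] at this
        exact this
      apply hprime.ne_top
      rw [hx, hx0, Ideal.eq_top_iff_one, Submodule.mem_colon_singleton, smul_zero]
      exact zero_mem _)
  refine ⟨y, hy1, ?_⟩
  by_contra hreg
  have h1 : y ∈ ({r : R | IsSMulRegular M r}ᶜ : Set R) := hreg
  rw [← biUnion_associatedPrimes_eq_compl_regular R M] at h1
  simp only [Set.mem_iUnion, SetLike.mem_coe, exists_prop] at h1
  obtain ⟨P, hP, hyPm⟩ := h1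
  exact hyP P hP hyPm

end Reg

section Quot

theorem span_hom {t : ℕ} (g : Fin t → R) (hg : ∀ j, g j ∈ 𝒜 1) :
    (Ideal.span (Set.range g)).IsHomogeneous 𝒜 :=
  Ideal.homogeneous_span 𝒜 _ (by rintro _ ⟨j, rfl⟩; exact ⟨1, hg j⟩)

variable (𝒜) in
/-- The graded quotient `R/(g)`. -/
def Y {t : ℕ} (g : Fin t → R) (hg : ∀ j, g j ∈ 𝒜 1) : GrLC.GMod.{u} 𝒜 :=
  quotGMod (ringGMod 𝒜) (Ideal.span (Set.range g)) (span_hom (𝒜 := 𝒜) g hg)

/-- The projection `R → R/(g)`. -/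
def proj {t : ℕ} (g : Fin t → R) (hg : ∀ j, g j ∈ 𝒜 1) : R →ₗ[R] (Y 𝒜 g hg).carrier :=
  (Ideal.span (Set.range g)).mkQ

theorem proj_grHom {t : ℕ} (g : Fin t → R) (hg : ∀ j, g j ∈ 𝒜 1) :
    GrLC.IsGrHom 𝒜 (Y 𝒜 g hg).gr (proj g hg) := fun _ x hx => ⟨x, hx, rfl⟩

theorem proj_surjective {t : ℕ} (g : Fin t → R) (hg : ∀ j, g j ∈ 𝒜 1) :
    Function.Surjective (proj g hg) := Submodule.mkQ_surjective _

theorem ker_proj {t : ℕ} (g : Fin t → R) (hg : ∀ j, g j ∈ 𝒜 1) :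
    LinearMap.ker (proj g hg) = Ideal.span (Set.range g) := Submodule.ker_mkQ _

theorem ker_proj' {t : ℕ} (g : Fin t → R) (hg : ∀ j, g j ∈ 𝒜 1) :
    LinearMap.ker (proj g hg) = Ideal.span (Set.range g) • (⊤ : Submodule R R) := by
  rw [ker_proj, smul_eq_mul, Ideal.mul_top]

theorem proj_eq_zero_iff {t : ℕ} (g : Fin t → R) (hg : ∀ j, g j ∈ 𝒜 1) (x : R) :
    proj g hg x = 0 ↔ x ∈ Ideal.span (Set.range g) := by
  rw [← LinearMap.mem_ker, ker_proj]

instance {t : ℕ} (g : Fin t → R) (hg : ∀ j, g j ∈ 𝒜 1) : Module.Finite R (Y 𝒜 g hg).carrier :=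
  Module.Finite.of_surjective (proj g hg) (proj_surjective g hg)

theorem ofList_ofFn {t : ℕ} (g : Fin t → R) :
    Ideal.ofList (List.ofFn g) = Ideal.span (Set.range g) := by
  unfold Ideal.ofList
  congr 1
  ext x
  simp [List.mem_ofFn]

end Quot

section CM

variable (R : Type u) [CommRing R] [hR : LocCoh.IsCohenMacaulayRing R]
  (𝒜 : ℤ → AddSubgroup R) [GradedRing 𝒜] (hpos : ∀ n : ℤ, n < 0 → 𝒜 n = ⊥)
  (hstd : Ideal.span (⋃ n ∈ Set.Ioi (0 : ℤ), (𝒜 n : Set R)) =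
    Ideal.span ((𝒜 1 : AddSubgroup R) : Set R))
  [IsArtinianRing (GrLC.deg0 𝒜)] (m : HomogeneousIdeal 𝒜) (hm : GrLC.IsStarLocal 𝒜 m)
  (d : ℕ) (hd : ringKrullDim R = d)

include hpos hm in
theorem mem_m_of_mem_one {x : R} (hx : x ∈ 𝒜 1) : x ∈ m.toIdeal := by
  apply Rp_le 𝒜 hpos m hm
  apply Ideal.subset_span
  simp only [Set.mem_iUnion, Set.mem_Ioi, SetLike.mem_coe, exists_prop]
  exact ⟨1, one_pos, hx⟩

include hpos hm hd in
/-- Cohen–Macaulayness: `H^j_m(R) = 0` for `j < d`. -/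
theorem HV_ring_of_lt (j : ℕ) (hj : j < d) (γ : ℤ) : HV m (ringGMod 𝒜) j γ := by
  haveI hmax : m.toIdeal.IsMaximal := isMaximal_of_isStarLocal 𝒜 hpos m hm
  have hht := Groth.Agent.Lib.Helper29GrDimHt.height_eq 𝒜 hpos m hm d hd
  intro E
  exact Groth.Agent.Lib.Helper29GrCMEnd.Hcomp_eq_bot_of_H_eq_zero m E j
    (Groth.Agent.Lib.Helper29MaxVanish.H_self_eq_zero_of_lt_height m.toIdeal hR j
      (by rw [hht]; exact_mod_cast hj)) γ

include hpos hm hd in
/-- Vanishing of local cohomology of `R/(g)` below `d - t` for a regular sequence `g` of length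
`t ≤ d` of elements of degree one. -/
theorem HV_quot_of_lt {t : ℕ} (g : Fin t → R) (hg : ∀ j, g j ∈ 𝒜 1)
    (hreg : RingTheory.Sequence.IsWeaklyRegular R (List.ofFn g)) (htd : t ≤ d) (j : ℕ)
    (hj : j < d - t) (γ : ℤ) : HV m (Y 𝒜 g hg) j γ := by
  haveI hmax : m.toIdeal.IsMaximal := isMaximal_of_isStarLocal 𝒜 hpos m hm
  have hgm : ∀ j, g j ∈ m.toIdeal := fun j => mem_m_of_mem_one R 𝒜 hpos m hm (hg j)
  haveI : Nontrivial (Y 𝒜 g hg).carrier := by
    apply Submodule.Quotient.nontrivial_iff.mpr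
    intro htop
    apply hmax.ne_top
    have hle : Ideal.span (Set.range g) ≤ m.toIdeal := by
      rw [Ideal.span_le]
      rintro _ ⟨i, rfl⟩
      exact hgm i
    rw [eq_top_iff]
    exact htop.symm.le.trans hle
  obtain ⟨E⟩ := exists_res (ringGMod 𝒜)
  intro F
  exact (Groth.Agent.Lib.Helper29GrRegSeqEnd.main hpos m t R 𝒜 g (fun _ => 1) hg hgm hreg
    (Y 𝒜 g hg).carrier (Y 𝒜 g hg).gr (proj g hg) (proj_grHom g hg) (proj_surjective g hg)
    (ker_proj' g hg) E F d htd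
    (fun j hj γ => HV_ring_of_lt R 𝒜 hpos m hm d hd j hj γ E)).1 j hj γ

include hpos hstd hm hd in
/-- Existence of regular sequences of degree-one elements of every length `≤ d`. -/
theorem exists_regSeq (hinf : Infinite (R ⧸ m.toIdeal)) : ∀ i : ℕ, i ≤ d →
    ∃ g : Fin i → R, (∀ j, g j ∈ 𝒜 1) ∧
      RingTheory.Sequence.IsWeaklyRegular R (List.ofFn g) := by
  intro i
  induction i with
  | zero =>
    intro _
    refine ⟨fun j => j.elim0, fun j => j.elim0, ?_⟩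
    rw [List.ofFn_zero]
    exact RingTheory.Sequence.IsWeaklyRegular.nil R R
  | succ i ih =>
    intro hi
    obtain ⟨g, hg, hreg⟩ := ih (by omega)
    have htf : ∀ x : (Y 𝒜 g hg).carrier, (∀ r ∈ m.toIdeal, r • x = 0) → x = 0 :=
      eq_zero_of_HV_zero m (Y 𝒜 g hg)
        (fun γ => HV_quot_of_lt R 𝒜 hpos m hm d hd g hg hreg (by omega) 0 (by omega) γ)
    obtain ⟨y, hy1, hyreg⟩ := exists_regular_one hpos hstd m hm hinf (Y 𝒜 g hg).carrier htf
    refine ⟨Fin.snoc g y, ?_, ?_⟩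
    · intro j
      refine Fin.lastCases ?_ (fun j => ?_) j
      · rw [Fin.snoc_last]; exact hy1
      · rw [Fin.snoc_castSucc]; exact hg j
    · have hl : List.ofFn (Fin.snoc g y : Fin (i + 1) → R) = List.ofFn g ++ [y] := by
        rw [List.ofFn_succ', List.concat_eq_append]
        simp only [Fin.snoc_castSucc, Fin.snoc_last]
      rw [hl, RingTheory.Sequence.isWeaklyRegular_append_iff]
      refine ⟨hreg, ?_⟩
      rw [RingTheory.Sequence.isWeaklyRegular_singleton_iff]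
      have he : (Ideal.ofList (List.ofFn g) • (⊤ : Submodule R R)) =
          Ideal.span (Set.range g) := by
        rw [ofList_ofFn, smul_eq_mul, Ideal.mul_top]
      exact ((Submodule.quotEquivOfEq _ _ he).isSMulRegular_congr y).mpr hyreg

end CM

section Surj

variable {R : Type u} [CommRing R] {𝒜 : ℤ → AddSubgroup R} [GradedRing 𝒜]

/-- If all pieces of positive degree lie in the ideal generated by degree-one elements `g`, then
`R = R_0[g]`. -/
theorem aeval_surjective (hpos : ∀ n : ℤ, n < 0 → 𝒜 n = ⊥) {d : ℕ} (g : Fin d → R)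
    (hg : ∀ j, g j ∈ 𝒜 1)
    (h : ∀ γ : ℤ, 1 ≤ γ → ∀ x ∈ 𝒜 γ, x ∈ Ideal.span (Set.range g)) :
    Function.Surjective (MvPolynomial.aeval g : MvPolynomial (Fin d) (GrLC.deg0 𝒜) →ₐ[_] R) := by
  classical
  set S : Subalgebra (GrLC.deg0 𝒜) R :=
    (MvPolynomial.aeval g : MvPolynomial (Fin d) (GrLC.deg0 𝒜) →ₐ[GrLC.deg0 𝒜] R).range with hS
  have hgS : ∀ j, g j ∈ S := fun j => ⟨MvPolynomial.X j, MvPolynomial.aeval_X g j⟩
  have key : ∀ n : ℕ, ∀ x ∈ 𝒜 (n : ℤ), x ∈ S := by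
    intro n
    induction n with
    | zero =>
      intro x hx
      exact S.algebraMap_mem ⟨x, hx⟩
    | succ n ih =>
      intro x hx
      have hx' := h ((n + 1 : ℕ) : ℤ) (by push_cast; omega) x hx
      obtain ⟨c, rfl⟩ := Ideal.mem_span_range_iff_exists_fun.mp hx'
      have h1 := DirectSum.decompose_of_mem_same 𝒜 hx
      rw [← h1, DirectSum.decompose_sum, DFinsupp.finsetSum_apply, AddSubgroup.val_finsetSum]
      refine Subalgebra.sum_mem _ fun j _ => ?_
      have h2 := decompose_smul_of_mem 𝒜 𝒜 (hg j) (c j) ((n + 1 : ℕ) : ℤ)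
      rw [smul_eq_mul, mul_comm] at h2
      rw [h2, smul_eq_mul]
      refine Subalgebra.mul_mem _ (hgS j) (ih _ ?_)
      have h3 : ((n + 1 : ℕ) : ℤ) - 1 = (n : ℤ) := by push_cast; ring
      rw [h3]
      exact SetLike.coe_mem _
  intro x
  have hx : x ∈ S := by
    rw [← DirectSum.sum_support_decompose 𝒜 x]
    refine Subalgebra.sum_mem _ fun k _ => ?_
    rcases lt_or_ge k 0 with hk | hk
    · have : ((decompose 𝒜 x) k : R) = 0 :=
        Groth.Agent.Lib.Helper29GrStd.eq_zero_of_mem_of_eq_bot (hpos k hk) (SetLike.coe_mem _)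
      rw [this]
      exact zero_mem _
    · obtain ⟨n, rfl⟩ := Int.eq_ofNat_of_zero_le hk
      exact key n _ (SetLike.coe_mem _)
  exact hx

end Surj

section Top

variable (R : Type u) [CommRing R] [hR : LocCoh.IsCohenMacaulayRing R]
  (𝒜 : ℤ → AddSubgroup R) [GradedRing 𝒜] (hpos : ∀ n : ℤ, n < 0 → 𝒜 n = ⊥)
  (hstd : Ideal.span (⋃ n ∈ Set.Ioi (0 : ℤ), (𝒜 n : Set R)) =
    Ideal.span ((𝒜 1 : AddSubgroup R) : Set R))
  [IsArtinianRing (GrLC.deg0 𝒜)] (m : HomogeneousIdeal 𝒜) (hm : GrLC.IsStarLocal 𝒜 m)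
  (d : ℕ) (hd : ringKrullDim R = d)

include hpos hm hd in
/-- Higher local cohomology of the quotient by a maximal regular sequence vanishes. -/
theorem HV_quot_of_pos (g : Fin d → R) (hg : ∀ j, g j ∈ 𝒜 1)
    (hreg : RingTheory.Sequence.IsWeaklyRegular R (List.ofFn g)) (j : ℕ) (hj : 1 ≤ j) (γ : ℤ) :
    HV m (Y 𝒜 g hg) j γ := by
  haveI hmax : m.toIdeal.IsMaximal := isMaximal_of_isStarLocal 𝒜 hpos m hm
  have hht := Groth.Agent.Lib.Helper29GrDimHt.height_eq 𝒜 hpos m hm d hd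
  have hgm : ∀ j, g j ∈ m.toIdeal := fun j => mem_m_of_mem_one R 𝒜 hpos m hm (hg j)
  have hkill : ∀ r ∈ List.ofFn g, ∀ y : (Y 𝒜 g hg).carrier, r • y = 0 := by
    intro r hr y
    obtain ⟨i, rfl⟩ := (List.mem_ofFn' g r).mp hr
    obtain ⟨z, rfl⟩ := proj_surjective g hg y
    rw [← map_smul, proj_eq_zero_iff, smul_eq_mul]
    exact Ideal.mul_mem_right _ _ (Ideal.subset_span ⟨i, rfl⟩)
  have hmem : ∀ r ∈ List.ofFn g, r ∈ m.toIdeal := by
    intro r hr
    obtain ⟨i, rfl⟩ := (List.mem_ofFn' g r).mp hr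
    exact hgm i
  have h1 := Groth.Agent.Lib.Helper29MaxVanish.supportDim_tensor_add_length_le m.toIdeal
    (Y 𝒜 g hg).carrier (List.ofFn g) hreg hmem hkill
  rw [List.length_ofFn, hht] at h1
  have h2 := Groth.Agent.Lib.Helper29GrCMEnd.lt_sub_of_add_le_of_lt (n := d + j) h1 (by omega)
  rw [Nat.add_sub_cancel_left] at h2
  intro E
  exact Groth.Agent.Lib.Helper29GrCMEnd.Hcomp_eq_bot_of_H_eq_zero m E j
    (Groth.Agent.Lib.Helper29MaxVanish.H_eq_zero_of_localDim_lt m.toIdeal (Y 𝒜 g hg).carrier j h2) γ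

include hpos hm hd in
/-- `H^0` of the quotient by a maximal regular sequence vanishes in positive degrees when
`a(R) = -d`. -/
theorem HV_quot_zero (g : Fin d → R) (hg : ∀ j, g j ∈ 𝒜 1)
    (hreg : RingTheory.Sequence.IsWeaklyRegular R (List.ofFn g)) (I : GrLC.StarInjRes 𝒜 𝒜)
    (ha : GrLC.endDeg (I.Hgr m d) = (((-(d : ℤ) : ℤ) : WithTop ℤ) : WithBot (WithTop ℤ)))
    (γ : ℤ) (hγ : 1 ≤ γ) : HV m (Y 𝒜 g hg) 0 γ := by
  have hgm : ∀ j, g j ∈ m.toIdeal := fun j => mem_m_of_mem_one R 𝒜 hpos m hm (hg j)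
  obtain ⟨F⟩ := exists_res (Y 𝒜 g hg)
  have hend := Groth.Agent.Lib.Helper29GrCMEnd.endDeg_quot_regSeq R 𝒜 hpos m hm d hd I d le_rfl g
    (fun _ => 1) hg hgm hreg (Y 𝒜 g hg).carrier (Y 𝒜 g hg).gr (proj g hg) (proj_grHom g hg)
    (proj_surjective g hg) (ker_proj g hg) F
  rw [ha, Nat.sub_self, ← WithBot.coe_add, ← WithTop.coe_add] at hend
  have hsum : (-(d : ℤ) + ∑ _i : Fin d, (1 : ℤ)) = 0 := by
    simp
  rw [hsum] at hend
  rw [HV_iff m (Y 𝒜 g hg) F, ← Groth.Agent.Lib.Helper29GrQuotEnd.Hgr_eq_bot_iff]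
  by_contra hne
  have h1 := Groth.Agent.Lib.Helper29EndDeg.le_endDeg _ hne
  rw [hend, Groth.Agent.Lib.Helper29EndDeg.coe_le_coe_iff] at h1
  omega

end Top

section Tors

variable {R : Type u} [CommRing R] [IsNoetherianRing R] {𝒜 : ℤ → AddSubgroup R} [GradedRing 𝒜]
  (hpos : ∀ n : ℤ, n < 0 → 𝒜 n = ⊥) (a : HomogeneousIdeal 𝒜)
  (hhom : a.toIdeal = Ideal.span ((𝒜 1 : AddSubgroup R) : Set R))

include hpos hhom in
/-- A finitely generated graded module all of whose higher local cohomology (with respect to an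
ideal generated in degree one) vanishes is torsion. -/
theorem gam_eq_top_of_HV (X : GrLC.GMod.{u} 𝒜) [Module.Finite R X.carrier]
    (h : ∀ j : ℕ, 1 ≤ j → ∀ γ, HV a X j γ) : GrLC.gam a.toIdeal X.carrier = ⊤ := by
  classical
  have hT : (GrLC.gam a.toIdeal X.carrier).IsHomogeneous X.gr := gam_isHomogeneous 𝒜 X.gr a
  set T := GrLC.gam a.toIdeal X.carrier with hTdef
  have htorsT : GrLC.gam a.toIdeal (subGMod X T hT).carrier = ⊤ := by
    rw [eq_top_iff]
    rintro ⟨y, k, hk⟩ -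
    refine ⟨k, fun r hr => ?_⟩
    apply Subtype.ext
    exact hk r hr
  have hall : ∀ (j : ℕ) (γ : ℤ), HV a (quotGMod X T hT) j γ := by
    intro j γ
    cases j with
    | zero =>
      rw [HV_zero_iff]
      intro z _ hz
      exact eq_zero_of_mem_gam a.toIdeal
        (Groth.Agent.Lib.Helper29GrVanish.quot_gam_torsionFree a.toIdeal X.carrier) z hz
    | succ j =>
      exact HV_right (sesSubQuot X T hT) (j + 1) γ
        (HV_of_torsion (subGMod X T hT) htorsT (j + 1) γ) (h (j + 1) (by omega) γ)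
  obtain ⟨xs, hxs, hxa⟩ := Groth.Agent.Lib.Helper29GrMumford.exists_list_gens (a := a) hhom
  have hpiece : ∀ (t : ℤ) (z : (quotGMod X T hT).carrier), z ∈ (quotGMod X T hT).gr t →
      z ∈ a.toIdeal • (⊤ : Submodule R (quotGMod X T hT).carrier) := fun t z hz =>
    Groth.Agent.Lib.Helper29GrMumford.piece_le_smul_top (a := a) (quotGMod X T hT) xs hxs hxa t
      (fun j => hall j (t - j)) z hz
  have htop : a.toIdeal • (⊤ : Submodule R (quotGMod X T hT).carrier) = ⊤ := by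
    rw [eq_top_iff]
    intro z _
    rw [← DirectSum.sum_support_decompose (quotGMod X T hT).gr z]
    exact Submodule.sum_mem _ fun t _ => hpiece t _ (SetLike.coe_mem _)
  haveI : Module.Finite R (quotGMod X T hT).carrier :=
    Module.Finite.of_surjective T.mkQ (Submodule.mkQ_surjective _)
  have hzero := Groth.Agent.Lib.Helper29GrStd.eq_zero_of_smul_top_eq_top 𝒜 (quotGMod X T hT).gr
    hpos a.toIdeal hhom htop
  rw [eq_top_iff]
  intro y _
  have h3 : T.mkQ y = 0 := hzero (T.mkQ y)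
  rwa [Submodule.mkQ_apply, Submodule.Quotient.mk_eq_zero] at h3

end Tors

section Final

variable (R : Type u) [CommRing R] [hR : LocCoh.IsCohenMacaulayRing R]
  (𝒜 : ℤ → AddSubgroup R) [GradedRing 𝒜] (hpos : ∀ n : ℤ, n < 0 → 𝒜 n = ⊥)
  (hstd : Ideal.span (⋃ n ∈ Set.Ioi (0 : ℤ), (𝒜 n : Set R)) =
    Ideal.span ((𝒜 1 : AddSubgroup R) : Set R))
  [IsArtinianRing (GrLC.deg0 𝒜)] (m : HomogeneousIdeal 𝒜) (hm : GrLC.IsStarLocal 𝒜 m)
  (d : ℕ) (hd : ringKrullDim R = d)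

include hpos hstd hm hd in
/-- When `a(R) = -d`, a maximal regular sequence of degree-one elements generates `R_+`. -/
theorem mem_span_of_pos (g : Fin d → R) (hg : ∀ j, g j ∈ 𝒜 1)
    (hreg : RingTheory.Sequence.IsWeaklyRegular R (List.ofFn g)) (I : GrLC.StarInjRes 𝒜 𝒜)
    (ha : GrLC.endDeg (I.Hgr m d) = (((-(d : ℤ) : ℤ) : WithTop ℤ) : WithBot (WithTop ℤ)))
    (γ : ℤ) (hγ : 1 ≤ γ) (x : R) (hx : x ∈ 𝒜 γ) : x ∈ Ideal.span (Set.range g) := by
  let a : HomogeneousIdeal 𝒜 := ⟨Rp 𝒜, Rp_isHomogeneous 𝒜⟩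
  have hhom : a.toIdeal = Ideal.span ((𝒜 1 : AddSubgroup R) : Set R) := hstd
  have hle : a.toIdeal ≤ m.toIdeal := Rp_le 𝒜 hpos m hm
  obtain ⟨N, hN⟩ := Groth.Agent.Lib.Helper29GrStarLocalArt.exists_pow_le_Rp 𝒜 hpos m hm
  have hgam : ∀ (Y : Type u) [AddCommGroup Y] [Module R Y],
      GrLC.gam m.toIdeal Y = GrLC.gam a.toIdeal Y := fun Y _ _ =>
    Groth.Agent.Lib.Helper29GrStarLocalArt.gam_eq_of_pow_le hle N hN Y
  have h1 : ∀ j : ℕ, 1 ≤ j → ∀ γ, HV a (Y 𝒜 g hg) j γ := fun j hj γ =>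
    HV_of_gam_eq m a hgam _ j γ (HV_quot_of_pos R 𝒜 hpos m hm d hd g hg hreg j hj γ)
  have htors := gam_eq_top_of_HV hpos a hhom (Y 𝒜 g hg) h1
  have h0 : HV a (Y 𝒜 g hg) 0 γ :=
    HV_of_gam_eq m a hgam _ 0 γ (HV_quot_zero R 𝒜 hpos m hm d hd g hg hreg I ha γ hγ)
  have h2 := eq_zero_of_HV_zero_of_torsion (Y 𝒜 g hg) htors γ h0 (proj g hg x)
    (proj_grHom g hg γ x hx)
  exact (proj_eq_zero_iff g hg x).mp h2

end Final

end Groth.Agent.Lib.Helper29GrPolyChar
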