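import Groth.Agent.Lib.Helper29GrFree
import Groth.Agent.Lib.Helper29GrStdPoly
import Groth.Agent.Lib.Helper29GrVanish

/-! The graded local cohomology of a polynomial ring at its irrelevant ideal vanishes in degrees
`> -i` (the polynomial ring is `0`-regular), via the regular sequence of variables (helper29). -/

set_option autoImplicit false
set_option linter.style.haveILetI false
set_option linter.unusedSectionVars false
open DirectSum

noncomputable section

namespace Groth.Agent.Lib.Helper29GrPolyLC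

open Groth.Agent.Lib.Helper29GrHV Groth.Agent.Lib.Helper29GrHV2 Groth.Agent.Lib.Helper29GrFree
  Groth.Agent.Lib.Helper29GrStdPoly Groth.Agent.Lib.Helper29GrQuot
  Groth.Agent.Helper13Syzygy

universe u

section General

variable {R : Type u} [CommRing R] [IsNoetherianRing R] {𝒜 : ℤ → AddSubgroup R} [GradedRing 𝒜]
  {a : HomogeneousIdeal 𝒜}

/-- `0`-regularity passes from `X/xX` to `X` for a regular linear form `x`. -/
theorem zeroReg_of_quot (X Y : GrLC.GMod.{u} 𝒜) (x : R) (hx : x ∈ 𝒜 1) (hxa : x ∈ a.toIdeal)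
    (hreg : IsSMulRegular X.carrier x) (g : X.carrier →ₗ[R] Y.carrier)
    (hgs : Function.Surjective g) (hg : GrLC.IsGrHom X.gr Y.gr g)
    (hker : LinearMap.ker g = LinearMap.range (x • (LinearMap.id : X.carrier →ₗ[R] X.carrier)))
    (hY : ∀ (q : ℕ) (e : ℤ), -(q : ℤ) < e → HV a Y q e) :
    ∀ (q : ℕ) (e : ℤ), -(q : ℤ) < e → HV a X q e := by
  intro q e he
  cases q with
  | zero => exact HV_zero_of_regular X x hxa hreg e
  | succ i =>
    obtain ⟨E⟩ := exists_res X
    obtain ⟨F⟩ := exists_res Y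
    rw [HV_iff a X E]
    refine Groth.Agent.Lib.Helper29GrVanish.step_reg a E F x 1 hx zero_le_one hxa hreg g hgs hg
      hker i (1 - (i : ℤ)) (fun n hn => hY i n (by omega) F) e ?_
    push_cast at he
    omega

end General

variable (k : Type u) [Field k] (n : ℕ)

theorem I_hom (j : ℕ) : (I k n j).IsHomogeneous (A k n) := by
  apply Ideal.homogeneous_span
  rintro _ ⟨l, -, rfl⟩
  exact ⟨1, X_mem_one k n l⟩

/-- `S / (x_0, …, x_{j-1})` as a graded module. -/
def T (j : ℕ) : GrLC.GMod.{u} (A k n) :=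
  quotGMod (ringGMod (A k n)) (I k n j) (I_hom k n j)

theorem X_mem_mm (l : Fin n) : (MvPolynomial.X l : MvPolynomial (Fin n) k) ∈ (mm k n).toIdeal := by
  rw [hhom]
  exact Ideal.subset_span (X_mem_one k n l)

theorem T_top_zeroReg : ∀ (q : ℕ) (e : ℤ), -(q : ℤ) < e → HV (mm k n) (T k n n) q e := by
  have hIn : ∀ p : MvPolynomial (Fin n) k, p ∈ (mm k n).toIdeal → p ∈ I k n n := by
    intro p hp
    rw [I_top_eq_irrel]
    exact hp
  intro q e he
  cases q with
  | zero =>
    apply HV_zero_of_piece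
    rintro z ⟨p, hp, rfl⟩
    have hp' : p ∈ (mm k n).toIdeal := by
      rw [ha]
      refine Ideal.subset_span (Set.mem_iUnion₂.mpr ⟨e, ?_, hp⟩)
      rw [Nat.cast_zero, neg_zero] at he
      exact he
    exact (Submodule.Quotient.mk_eq_zero _).mpr (hIn p hp')
  | succ i =>
    refine HV_of_torsion (T k n n) (gam_quot_eq_top (mm k n).toIdeal (I k n n) fun p =>
      ⟨1, fun r hr => ?_⟩) i e
    rw [pow_one] at hr
    rw [smul_eq_mul]
    exact (I k n n).mul_mem_right p (hIn r hr)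

theorem regular_X (j : ℕ) (hj : j < n) :
    IsSMulRegular (MvPolynomial (Fin n) k ⧸ I k n j)
      (MvPolynomial.X ⟨j, hj⟩ : MvPolynomial (Fin n) k) := by
  intro z₁ z₂ h
  have h' : (MvPolynomial.X ⟨j, hj⟩ : MvPolynomial (Fin n) k) • z₁ =
      (MvPolynomial.X ⟨j, hj⟩ : MvPolynomial (Fin n) k) • z₂ := h
  have h0 : (MvPolynomial.X ⟨j, hj⟩ : MvPolynomial (Fin n) k) • (z₁ - z₂) = 0 := by
    rw [smul_sub]
    exact sub_eq_zero.mpr h'
  obtain ⟨p, hp⟩ := (I k n j).mkQ_surjective (z₁ - z₂)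
  rw [← hp, ← map_smul, Submodule.mkQ_apply, Submodule.Quotient.mk_eq_zero, smul_eq_mul] at h0
  have h1 := mem_I_of_X_mul_mem k n j hj p h0
  have hz : z₁ - z₂ = 0 := by
    rw [← hp, Submodule.mkQ_apply, Submodule.Quotient.mk_eq_zero]
    exact h1
  exact sub_eq_zero.mp hz

/-- The projection `S/I_j → S/I_{j+1}`. -/
def proj (j : ℕ) : (MvPolynomial (Fin n) k ⧸ I k n j) →ₗ[MvPolynomial (Fin n) k]
    (MvPolynomial (Fin n) k ⧸ I k n (j + 1)) :=
  (I k n j).mapQ (I k n (j + 1)) LinearMap.id (by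
    rw [Submodule.comap_id]
    exact I_mono k n j)

theorem proj_mk (j : ℕ) (p : MvPolynomial (Fin n) k) :
    proj k n j ((I k n j).mkQ p) = (I k n (j + 1)).mkQ p := rfl

theorem proj_surjective (j : ℕ) : Function.Surjective (proj k n j) := by
  intro z
  obtain ⟨p, rfl⟩ := (I k n (j + 1)).mkQ_surjective z
  exact ⟨(I k n j).mkQ p, proj_mk k n j p⟩

theorem ker_proj (j : ℕ) (hj : j < n) :
    LinearMap.ker (proj k n j) = LinearMap.range
      ((MvPolynomial.X ⟨j, hj⟩ : MvPolynomial (Fin n) k) •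
        (LinearMap.id : (MvPolynomial (Fin n) k ⧸ I k n j) →ₗ[MvPolynomial (Fin n) k]
          (MvPolynomial (Fin n) k ⧸ I k n j))) := by
  ext z
  obtain ⟨p, rfl⟩ := (I k n j).mkQ_surjective z
  rw [LinearMap.mem_ker, proj_mk, Submodule.mkQ_apply, Submodule.Quotient.mk_eq_zero,
    LinearMap.mem_range]
  constructor
  · intro hp
    rw [I_succ k n j hj] at hp
    obtain ⟨u, hu, w, hw, rfl⟩ := Submodule.mem_sup.mp hp
    obtain ⟨c, rfl⟩ := Ideal.mem_span_singleton'.mp hw
    refine ⟨(I k n j).mkQ c, ?_⟩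
    rw [LinearMap.smul_apply, LinearMap.id_apply, ← map_smul, smul_eq_mul, map_add]
    have : (I k n j).mkQ u = 0 := by
      rw [Submodule.mkQ_apply, Submodule.Quotient.mk_eq_zero]
      exact hu
    rw [this, zero_add, mul_comm]
  · rintro ⟨w, hw⟩
    obtain ⟨q, rfl⟩ := (I k n j).mkQ_surjective w
    rw [LinearMap.smul_apply, LinearMap.id_apply, ← map_smul, smul_eq_mul] at hw
    have h1 : (I k n j).mkQ (MvPolynomial.X ⟨j, hj⟩ * q - p) = 0 := by
      rw [map_sub, hw, sub_self]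
    rw [Submodule.mkQ_apply, Submodule.Quotient.mk_eq_zero] at h1
    have h2 : MvPolynomial.X ⟨j, hj⟩ * q ∈ I k n (j + 1) :=
      (I k n (j + 1)).mul_mem_right q (X_mem_I k n (j + 1) ⟨j, hj⟩ (Nat.lt_succ_self j))
    have h3 : p = MvPolynomial.X ⟨j, hj⟩ * q - (MvPolynomial.X ⟨j, hj⟩ * q - p) := by ring
    rw [h3]
    exact (I k n (j + 1)).sub_mem h2 (I_mono k n j h1)

theorem tower : ∀ (m j : ℕ), j + m = n →
    ∀ (q : ℕ) (e : ℤ), -(q : ℤ) < e → HV (mm k n) (T k n j) q e := by
  intro m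
  induction m with
  | zero =>
    intro j hj
    have : j = n := by omega
    subst this
    exact T_top_zeroReg k j
  | succ m ih =>
    intro j hj
    have hjn : j < n := by omega
    refine zeroReg_of_quot (T k n j) (T k n (j + 1)) (MvPolynomial.X ⟨j, hjn⟩)
      (X_mem_one k n _) (X_mem_mm k n _) (regular_X k n j hjn) (proj k n j)
      (proj_surjective k n j) ?_ (ker_proj k n j hjn) (ih (j + 1) (by omega))
    rintro γ z ⟨p, hp, rfl⟩
    exact ⟨p, hp, rfl⟩

/-- The polynomial ring is `0`-regular. -/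
theorem zeroReg : ∀ (q : ℕ) (e : ℤ), -(q : ℤ) < e →
    HV (mm k n) (ringGMod (A k n)) q e := by
  intro q e he
  have h := tower k n n 0 (zero_add n) q e he
  refine HV_of_equiv (X := T k n 0) (Y := ringGMod (A k n))
    (Submodule.quotEquivOfEqBot (I k n 0) (I_zero k n)) ?_ q e h
  rintro γ z ⟨p, hp, rfl⟩
  exact hp

end Groth.Agent.Lib.Helper29GrPolyLC

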