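import Groth.Agent.Lib.Helper29GrSub
import Groth.Prelude.Def_GrLC

/-! Product grading on `A × B` (helper29). -/

set_option autoImplicit false
open DirectSum

noncomputable section

namespace Groth.Agent.Lib.Helper29GrProd

universe u

variable {ι : Type} [AddCommGroup ι] [DecidableEq ι]
variable {R : Type u} [CommRing R]
variable {A : Type u} [AddCommGroup A] [Module R A] (𝓐 : ι → AddSubgroup A)
variable {B : Type u} [AddCommGroup B] [Module R B] (𝓑 : ι → AddSubgroup B)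

/-- The product pieces. -/
def prodGr : ι → AddSubgroup (A × B) := fun g => (𝓐 g).prod (𝓑 g)

theorem mem_prodGr {g : ι} {z : A × B} : z ∈ prodGr 𝓐 𝓑 g ↔ z.1 ∈ 𝓐 g ∧ z.2 ∈ 𝓑 g := Iff.rfl

/-- left inclusion of pieces -/
def inlPiece (g : ι) : ↥(𝓐 g) →+ ↥(prodGr 𝓐 𝓑 g) where
  toFun x := ⟨((x : A), 0), x.2, zero_mem _⟩
  map_zero' := rfl
  map_add' x y := Subtype.ext (by simp)

/-- right inclusion of pieces -/
def inrPiece (g : ι) : ↥(𝓑 g) →+ ↥(prodGr 𝓐 𝓑 g) where
  toFun x := ⟨(0, (x : B)), zero_mem _, x.2⟩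
  map_zero' := rfl
  map_add' x y := Subtype.ext (by simp)

theorem coe_map_inlPiece (y : ⨁ g, 𝓐 g) :
    DirectSum.coeAddMonoidHom (prodGr 𝓐 𝓑) (DirectSum.map (inlPiece 𝓐 𝓑) y) =
      (DirectSum.coeAddMonoidHom 𝓐 y, 0) := by
  classical
  induction y using DirectSum.induction_on with
  | zero =>
    rw [map_zero, map_zero, map_zero]
    rfl
  | of g x =>
    rw [DirectSum.map_of, DirectSum.coeAddMonoidHom_of, DirectSum.coeAddMonoidHom_of]
    rfl
  | add x y hx hy =>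
    rw [map_add, map_add, map_add, hx, hy]
    simp

theorem coe_map_inrPiece (y : ⨁ g, 𝓑 g) :
    DirectSum.coeAddMonoidHom (prodGr 𝓐 𝓑) (DirectSum.map (inrPiece 𝓐 𝓑) y) =
      (0, DirectSum.coeAddMonoidHom 𝓑 y) := by
  classical
  induction y using DirectSum.induction_on with
  | zero =>
    rw [map_zero, map_zero, map_zero]
    rfl
  | of g x =>
    rw [DirectSum.map_of, DirectSum.coeAddMonoidHom_of, DirectSum.coeAddMonoidHom_of]
    rfl
  | add x y hx hy =>
    rw [map_add, map_add, map_add, hx, hy]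
    simp

variable [DirectSum.Decomposition 𝓐] [DirectSum.Decomposition 𝓑]

/-- The decomposition map. -/
def decHom : (A × B) →+ ⨁ g, prodGr 𝓐 𝓑 g :=
  ((DirectSum.map (inlPiece 𝓐 𝓑)).comp
      ((DirectSum.decomposeAddEquiv 𝓐).toAddMonoidHom.comp (AddMonoidHom.fst A B))) +
    ((DirectSum.map (inrPiece 𝓐 𝓑)).comp
      ((DirectSum.decomposeAddEquiv 𝓑).toAddMonoidHom.comp (AddMonoidHom.snd A B)))

theorem decHom_apply (z : A × B) :
    decHom 𝓐 𝓑 z = DirectSum.map (inlPiece 𝓐 𝓑) (DirectSum.decompose 𝓐 z.1) +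
      DirectSum.map (inrPiece 𝓐 𝓑) (DirectSum.decompose 𝓑 z.2) := rfl

/-- The product decomposition. -/
@[instance_reducible]
def prodDecomposition : DirectSum.Decomposition (prodGr 𝓐 𝓑) :=
  DirectSum.Decomposition.ofAddHom (prodGr 𝓐 𝓑) (decHom 𝓐 𝓑)
    (by
      apply AddMonoidHom.ext
      intro z
      rw [AddMonoidHom.comp_apply, decHom_apply, map_add, coe_map_inlPiece, coe_map_inrPiece]
      have h1 : DirectSum.coeAddMonoidHom 𝓐 (DirectSum.decompose 𝓐 z.1) = z.1 :=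
        DirectSum.Decomposition.left_inv z.1
      have h2 : DirectSum.coeAddMonoidHom 𝓑 (DirectSum.decompose 𝓑 z.2) = z.2 :=
        DirectSum.Decomposition.left_inv z.2
      rw [h1, h2]
      simp)
    (by
      apply DirectSum.addHom_ext
      rintro g ⟨⟨a, b⟩, ha, hb⟩
      rw [AddMonoidHom.comp_apply, DirectSum.coeAddMonoidHom_of]
      change decHom 𝓐 𝓑 (a, b) = _
      have ha' : a ∈ 𝓐 g := ha
      have hb' : b ∈ 𝓑 g := hb
      rw [decHom_apply, DirectSum.decompose_of_mem 𝓐 ha', DirectSum.decompose_of_mem 𝓑 hb',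
        DirectSum.map_of, DirectSum.map_of, ← map_add]
      have : inlPiece 𝓐 𝓑 g ⟨a, ha'⟩ + inrPiece 𝓐 𝓑 g ⟨b, hb'⟩ =
          (⟨(a, b), ha, hb⟩ : ↥(prodGr 𝓐 𝓑 g)) := by
        apply Subtype.ext
        simp [inlPiece, inrPiece]
      rw [this]
      rfl)

theorem prod_gradedSMul (𝒜 : ι → AddSubgroup R) [GradedRing 𝒜] [SetLike.GradedSMul 𝒜 𝓐]
    [SetLike.GradedSMul 𝒜 𝓑] : SetLike.GradedSMul 𝒜 (prodGr 𝓐 𝓑) where
  smul_mem := by
    rintro i j r z hr ⟨ha, hb⟩
    exact ⟨SetLike.GradedSMul.smul_mem (A := 𝒜) (B := 𝓐) hr ha,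
      SetLike.GradedSMul.smul_mem (A := 𝒜) (B := 𝓑) hr hb⟩

/-- components of the product decomposition -/
theorem decompose_prod (z : A × B) (g : ι) :
    (((prodDecomposition 𝓐 𝓑).decompose' z) g : A × B) =
      (((DirectSum.decompose 𝓐 z.1) g : A), ((DirectSum.decompose 𝓑 z.2) g : B)) := by
  change ((decHom 𝓐 𝓑 z) g : A × B) = _
  rw [decHom_apply, DirectSum.add_apply, DirectSum.map_apply, DirectSum.map_apply]
  simp [inlPiece, inrPiece]

end Groth.Agent.Lib.Helper29GrProd
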