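import Groth.Agent.Lib.Helper29GrHV2
import Groth.Agent.Lib.Helper29GrMumford
import Groth.Agent.Lib.Helper29GrWeakReg
import Groth.Agent.Lib.Helper29GrVanish

/-! `d`-regularity (local cohomology sense) of `M` versus `M/xM` for a quasi-regular linear
form `x` (helper29). -/

set_option autoImplicit false
set_option linter.style.haveILetI false
set_option linter.unusedSectionVars false
open DirectSum

noncomputable section

namespace Groth.Agent.Lib.Helper29GrQuasiReg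

open Groth.Agent.Lib.Helper29GrHV Groth.Agent.Lib.Helper29GrHV2
  Groth.Agent.Lib.Helper29GrMumford Groth.Agent.Lib.Helper29GrWeakReg
  Groth.Agent.Lib.Helper29GrShiftInj Groth.Agent.Lib.Helper29GrCMEnd

universe u

variable {R : Type u} [CommRing R] [IsNoetherianRing R] {𝒜 : ℤ → AddSubgroup R} [GradedRing 𝒜]
  (a : HomogeneousIdeal 𝒜)
variable {M : Type u} [AddCommGroup M] [Module R M] {ℳ : ℤ → AddSubgroup M}
  [DirectSum.Decomposition ℳ] [SetLike.GradedSMul 𝒜 ℳ]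
variable {N : Type u} [AddCommGroup N] [Module R N] {𝒩 : ℤ → AddSubgroup N}
  [DirectSum.Decomposition 𝒩] [SetLike.GradedSMul 𝒜 𝒩]

/-- `d`-regularity in the sense of local cohomology. -/
def DReg (E : GrLC.StarInjRes 𝒜 ℳ) (d : ℤ) : Prop :=
  (∀ e : ℤ, d < e → E.Hcomp a 0 e = ⊥) ∧ ∀ i : ℕ, 0 < i → E.Hcomp a i (d - (i : ℤ) + 1) = ⊥

/-- `d`-regularity gives vanishing of all `H^j(M)_{s-j}` for `s > d`. -/
theorem dReg_all (hhom : a.toIdeal = Ideal.span ((𝒜 1 : AddSubgroup R) : Set R))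
    (E : GrLC.StarInjRes 𝒜 ℳ) (d : ℤ) (h : DReg a E d) (s : ℤ) (hs : d < s) (j : ℕ) :
    E.Hcomp a j (s - j) = ⊥ := by
  let X : GrLC.GMod.{u} 𝒜 := { carrier := M, gr := ℳ }
  cases j with
  | zero =>
    rw [Nat.cast_zero, sub_zero]
    exact h.1 s hs
  | succ j =>
    obtain ⟨xs, hxs, hxa⟩ := exists_list_gens (a := a) hhom
    have hv : ∀ i : ℕ, 1 ≤ i → HV a X i (d + 1 - i) := by
      intro i hi
      rw [HV_iff a X E, show d + 1 - (i : ℤ) = d - (i : ℤ) + 1 by ring]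
      exact h.2 i hi
    obtain ⟨k, hk⟩ : ∃ k : ℕ, s = d + 1 + k := ⟨(s - d - 1).toNat, by omega⟩
    have h1 := diag_vanishing X xs hxs hxa 1 le_rfl d hv k (j + 1) (Nat.succ_pos j).nat_succ_le
    rw [hk]
    exact h1 E

variable (x : R) (hx : x ∈ 𝒜 1)
  (hK : ∀ j : ℕ, 1 ≤ j → ∀ y : LocCoh.H a.toIdeal j ↥(Submodule.torsionBy R M x), y = 0)
  (π : M →ₗ[R] N) (hπs : Function.Surjective π) (hπg : GrLC.IsGrHom ℳ 𝒩 π)
  (hker : LinearMap.ker π = LinearMap.range (x • (LinearMap.id : M →ₗ[R] M)))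

include hx hK hπs hπg hker in
/-- `M` `d`-regular implies `M/xM` `d`-regular. -/
theorem dReg_quot (hhom : a.toIdeal = Ideal.span ((𝒜 1 : AddSubgroup R) : Set R))
    (E : GrLC.StarInjRes 𝒜 ℳ) (F : GrLC.StarInjRes 𝒜 𝒩) (d : ℤ) (h : DReg a E d) :
    DReg a F d := by
  constructor
  · intro e he
    refine Hcomp_quot_smul_eq_bot a x 1 hx hK π hπs hπg hker E F 0 e (h.1 e he) ?_
    have := dReg_all a hhom E d h e he 1
    rw [Nat.cast_one] at this
    exact this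
  · intro i hi
    refine Hcomp_quot_smul_eq_bot a x 1 hx hK π hπs hπg hker E F i _ (h.2 i hi) ?_
    have := h.2 (i + 1) (Nat.succ_pos i)
    rw [show d - ((i + 1 : ℕ) : ℤ) + 1 = d - (i : ℤ) + 1 - 1 by push_cast; ring] at this
    exact this

include hx hK hπs hπg hker in
/-- One descending step: `H^{i+1}(M)_{γ+1} = 0` and `H^i(M/xM)_{γ+1} = 0` imply
`H^{i+1}(M)_γ = 0`. -/
theorem step_down (E : GrLC.StarInjRes 𝒜 ℳ) (F : GrLC.StarInjRes 𝒜 𝒩) (i : ℕ) (γ : ℤ)
    (h1 : F.Hcomp a i (γ + 1) = ⊥) (h2 : E.Hcomp a (i + 1) (γ + 1) = ⊥) :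
    E.Hcomp a (i + 1) γ = ⊥ := by
  let XM : GrLC.GMod.{u} 𝒜 := { carrier := M, gr := ℳ }
  let XN : GrLC.GMod.{u} 𝒜 := { carrier := N, gr := 𝒩 }
  have hKhom : (Submodule.torsionBy R M x).IsHomogeneous XM.gr := torsionBy_isHomogeneous hx
  have hle : Submodule.torsionBy R M x ≤ LinearMap.ker (x • (LinearMap.id : M →ₗ[R] M)) := by
    intro m hm
    rw [Submodule.mem_torsionBy_iff] at hm
    rw [LinearMap.mem_ker, LinearMap.smul_apply, LinearMap.id_apply]
    exact hm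
  let f : (M ⧸ Submodule.torsionBy R M x) →ₗ[R] M :=
    (Submodule.torsionBy R M x).liftQ (x • (LinearMap.id : M →ₗ[R] M)) hle
  have hfi : Function.Injective f := by
    rw [← LinearMap.ker_eq_bot]
    apply Submodule.ker_liftQ_eq_bot
    intro m hm
    rw [LinearMap.mem_ker, LinearMap.smul_apply, LinearMap.id_apply] at hm
    rw [Submodule.mem_torsionBy_iff]
    exact hm
  have hrange : LinearMap.range f = LinearMap.range (x • (LinearMap.id : M →ₗ[R] M)) :=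
    Submodule.range_liftQ _ _ _
  let S2 : GSES (shiftGMod 𝒜 (quotGMod XM (Submodule.torsionBy R M x) hKhom) (-1)) XM XN :=
    { f := f
      g := π
      hfi := hfi
      hgs := hπs
      hfg := hker.trans hrange.symm
      hf := by
        rintro g _ ⟨m, hm, rfl⟩
        show x • m ∈ ℳ g
        have h := SetLike.GradedSMul.smul_mem (A := 𝒜) (B := ℳ) hx hm
        rw [vadd_eq_add, add_neg_cancel_comm_assoc] at h
        exact h
      hg := hπg }
  have hN : HV a XN i (γ + 1) := (HV_iff a XN F i (γ + 1)).mpr h1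
  have hM : HV a XM (i + 1) (γ + 1) := (HV_iff a XM E (i + 1) (γ + 1)).mpr h2
  have h3 := HV_left S2 i (γ + 1) hN hM
  rw [HV_shift_iff, add_neg_cancel_right] at h3
  have hKv : HV a (subGMod XM (Submodule.torsionBy R M x) hKhom) (i + 1) γ := by
    obtain ⟨EK⟩ := exists_res (subGMod XM (Submodule.torsionBy R M x) hKhom)
    rw [HV_iff a _ EK]
    exact Hcomp_eq_bot_of_H_eq_zero a EK (i + 1) (hK (i + 1) (Nat.le_add_left 1 i)) γ
  exact HV_mid (sesSubQuot XM (Submodule.torsionBy R M x) hKhom) (i + 1) γ hKv h3 E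

include hx hK hπs hπg hker in
/-- `M/xM` `d`-regular and `H^0(M)_{>d} = 0` imply `M` `d`-regular. -/
theorem dReg_of_quot [Module.Finite R M] (hpos : ∀ n : ℤ, n < 0 → 𝒜 n = ⊥)
    (ha : a.toIdeal = Ideal.span (⋃ n ∈ Set.Ioi (0 : ℤ), (𝒜 n : Set R)))
    (hhom : a.toIdeal = Ideal.span ((𝒜 1 : AddSubgroup R) : Set R))
    (E : GrLC.StarInjRes 𝒜 ℳ) (F : GrLC.StarInjRes 𝒜 𝒩) (d : ℤ) (h : DReg a F d)
    (h0 : ∀ e : ℤ, d < e → E.Hcomp a 0 e = ⊥) : DReg a E d := by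
  refine ⟨h0, ?_⟩
  obtain ⟨r₀, hr₀⟩ := Groth.Agent.Lib.Helper29GrVanish.exists_bound_uniform a hpos ha E
  have key : ∀ (i : ℕ) (m : ℕ) (s : ℤ), d < s → r₀ + ((i + 1 : ℕ) : ℤ) ≤ s + m →
      E.Hcomp a (i + 1) (s - ((i + 1 : ℕ) : ℤ)) = ⊥ := by
    intro i m
    induction m with
    | zero =>
      intro s _ hs
      apply hr₀
      rw [Nat.cast_zero, add_zero] at hs
      omega
    | succ m ih =>
      intro s hds hs
      have h1 := dReg_all a hhom F d h s hds i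
      have h2 := ih (s + 1) (by omega) (by push_cast at hs ⊢; omega)
      apply step_down a x hx hK π hπs hπg hker E F i
      · rw [show s - ((i + 1 : ℕ) : ℤ) + 1 = s - (i : ℤ) by push_cast; ring]
        exact h1
      · rw [show s - ((i + 1 : ℕ) : ℤ) + 1 = s + 1 - ((i + 1 : ℕ) : ℤ) by ring]
        exact h2
  intro i hi
  obtain ⟨i₀, rfl⟩ : ∃ i₀, i = i₀ + 1 := ⟨i - 1, by omega⟩
  have := key i₀ (r₀ + ((i₀ + 1 : ℕ) : ℤ) - (d + 1)).toNat (d + 1) (by omega) (by omega)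
  rw [show d - ((i₀ + 1 : ℕ) : ℤ) + 1 = d + 1 - ((i₀ + 1 : ℕ) : ℤ) by ring]
  exact this

end Groth.Agent.Lib.Helper29GrQuasiReg
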