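import Groth.Agent.Lib.Helper29GrMulLES
import Groth.Agent.Lib.Helper29EndDeg
import Groth.Agent.Lib.Helper29GrHmod

/-! The end of the graded local cohomology of `M/xM` for a homogeneous `M`-regular element `x`
(helper29). -/

set_option autoImplicit false
set_option linter.style.haveILetI false
set_option linter.unusedSectionVars false
open DirectSum

noncomputable section

namespace Groth.Agent.Lib.Helper29GrQuotEnd

open Groth.Agent.Lib.Helper29GrMulLES Groth.Agent.Lib.Helper29GrResCompare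
  Groth.Agent.Lib.Helper29EndDeg

universe u

section General

variable {ι : Type} [AddCommGroup ι] [DecidableEq ι]
variable {R : Type u} [CommRing R] {𝒜 : ι → AddSubgroup R} [GradedRing 𝒜]
variable {M : Type u} [AddCommGroup M] [Module R M] {ℳ : ι → AddSubgroup M}
  [DirectSum.Decomposition ℳ] [SetLike.GradedSMul 𝒜 ℳ]
variable (E : GrLC.StarInjRes 𝒜 ℳ) (a : HomogeneousIdeal 𝒜)

theorem Hgr_eq_bot_iff (i : ℕ) (γ : ι) : E.Hgr a i γ = ⊥ ↔ E.Hcomp a i γ = ⊥ := by
  constructor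
  · intro h
    rw [eq_bot_iff]
    intro w hw
    have hw' : w ∈ E.Hgr a i γ := hw
    rw [h] at hw'
    exact (Submodule.mem_bot _).mpr (AddSubgroup.mem_bot.mp hw')
  · intro h
    rw [eq_bot_iff]
    intro w hw
    have hw' : w ∈ E.Hcomp a i γ := hw
    rw [h] at hw'
    exact AddSubgroup.mem_bot.mpr ((Submodule.mem_bot _).mp hw')

theorem pow_smul_mem_Hcomp {x : R} {k : ι} (hx : x ∈ 𝒜 k) (i : ℕ) (γ : ι) (y : E.H a i)
    (hy : y ∈ E.Hcomp a i γ) (s : ℕ) : x ^ s • y ∈ E.Hcomp a i (s • k + γ) := by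
  induction s with
  | zero => rw [pow_zero, one_smul, zero_smul, zero_add]; exact hy
  | succ s ih =>
    rw [pow_succ', mul_smul, succ_nsmul', add_assoc]
    exact Groth.Agent.Lib.Helper29.GrHmod.smul_mem_Hgr E a i hx ih

theorem exists_pow_smul_eq_zero {x : R} (hx : x ∈ a.toIdeal) (i : ℕ) (y : E.H a i) :
    ∃ s : ℕ, x ^ s • y = 0 := by
  obtain ⟨⟨u, hu⟩, rfl⟩ := Submodule.mkQ_surjective _ y
  obtain ⟨N, hN⟩ := hu.1
  refine ⟨N, ?_⟩
  rw [← map_smul]
  have : x ^ N • (⟨u, hu⟩ : ↥(E.cocyc a i)) = 0 := by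
    apply Subtype.ext
    rw [Submodule.coe_smul]
    exact hN _ (Ideal.pow_mem_pow hx N)
  rw [this, map_zero]

end General

section Int

variable {R : Type u} [CommRing R] [IsNoetherianRing R] {𝒜 : ℤ → AddSubgroup R} [GradedRing 𝒜]
variable {M : Type u} [AddCommGroup M] [Module R M] {ℳ : ℤ → AddSubgroup M}
  [DirectSum.Decomposition ℳ] [SetLike.GradedSMul 𝒜 ℳ]
variable (E : GrLC.StarInjRes 𝒜 ℳ) (a : HomogeneousIdeal 𝒜)
variable {N : Type u} [AddCommGroup N] [Module R N] {𝒩 : ℤ → AddSubgroup N}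
  [DirectSum.Decomposition 𝒩] [SetLike.GradedSMul 𝒜 𝒩]
variable (F : GrLC.StarInjRes 𝒜 𝒩)
variable (x : R) (k : ℤ) (hx : x ∈ 𝒜 k) (hk : 0 ≤ k) (hxa : x ∈ a.toIdeal)
  (hreg : IsSMulRegular M x)
variable (g : M →ₗ[R] N) (hgs : Function.Surjective g) (hg : GrLC.IsGrHom ℳ 𝒩 g)
  (hker : LinearMap.ker g = LinearMap.range (x • (LinearMap.id : M →ₗ[R] M)))

include hx hk hxa hreg hgs hg hker in
/-- If `H^j_a(M) = 0` then `end H^j_a(M/xM) = end H^{j+1}_a(M) + deg x`. -/
theorem endDeg_quot (j : ℕ) (hj : ∀ γ, E.Hcomp a j γ = ⊥) :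
    GrLC.endDeg (F.Hgr a j) =
      GrLC.endDeg (E.Hgr a (j + 1)) + ((k : WithTop ℤ) : WithBot (WithTop ℤ)) := by
  classical
  apply endDeg_eq_add
  · intro γ hγ h
    apply hγ
    rw [Hgr_eq_bot_iff] at h ⊢
    exact T1x E a F x k hx hreg g hgs hg hker j γ h (hj γ)
  · intro i hi
    rw [Ne, Hgr_eq_bot_iff, ← Ne, Submodule.ne_bot_iff] at hi
    obtain ⟨y, hy, hy0⟩ := hi
    have hex := exists_pow_smul_eq_zero E a hxa (j + 1) y
    have hs0 : Nat.find hex ≠ 0 := by
      intro h0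
      have := Nat.find_spec hex
      rw [h0, pow_zero, one_smul] at this
      exact hy0 this
    obtain ⟨s', hs'⟩ := Nat.exists_eq_succ_of_ne_zero hs0
    have hmin : x ^ s' • y ≠ 0 := Nat.find_min hex (by omega)
    have hkill : x • (x ^ s' • y) = 0 := by
      rw [← mul_smul, ← pow_succ']
      have := Nat.find_spec hex
      rw [hs'] at this
      exact this
    refine ⟨s' • k + i + k, ?_, ?_⟩
    · have : 0 ≤ s' • k := by
        rw [nsmul_eq_mul]
        positivity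
      omega
    · intro hF
      rw [Hgr_eq_bot_iff] at hF
      apply hmin
      refine T2x E a F x k hx hreg g hgs hg hker j (s' • k + i + k) hF (x ^ s' • y) ?_ hkill
      rw [add_sub_cancel_right]
      exact pow_smul_mem_Hcomp E a hx (j + 1) i y hy s'

include hx hk hxa hreg hgs hg hker in
/-- One step of the induction along a regular sequence. -/
theorem step (c : ℕ) (hE : ∀ j, j < c + 1 → ∀ γ, E.Hcomp a j γ = ⊥) :
    (∀ j, j < c → ∀ γ, F.Hcomp a j γ = ⊥) ∧
      GrLC.endDeg (F.Hgr a c) =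
        GrLC.endDeg (E.Hgr a (c + 1)) + ((k : WithTop ℤ) : WithBot (WithTop ℤ)) := by
  refine ⟨fun j hj γ => ?_, ?_⟩
  · exact T1x E a F x k hx hreg g hgs hg hker j γ (hE (j + 1) (by omega) _) (hE j (by omega) γ)
  · exact endDeg_quot E a F x k hx hk hxa hreg g hgs hg hker c (hE c (by omega))

end Int

end Groth.Agent.Lib.Helper29GrQuotEnd
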