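import Mathlib
import Groth.Agent.Lib.Helper14WeierReg
set_option autoImplicit false
set_option linter.style.haveILetI false
universe u
open DirectSum

namespace Groth.Agent.Lib.Helper29.GrUnit

variable {R : Type u} [CommRing R] (𝒜 : ℤ → AddSubgroup R) [GradedRing 𝒜]

theorem one_mem_zero : (1 : R) ∈ 𝒜 0 := SetLike.GradedOne.one_mem

/-- the inverse of a homogeneous unit is homogeneous. -/
theorem exists_inv_mem {i : ℤ} {a : R} (ha : a ∈ 𝒜 i) (hu : IsUnit a) :
    ∃ b ∈ 𝒜 (-i), a * b = 1 := by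
  obtain ⟨b', hb'⟩ := isUnit_iff_exists_inv.mp hu
  refine ⟨(decompose 𝒜 b' (-i) : R), SetLike.coe_mem _, ?_⟩
  have h := coe_decompose_mul_add_of_left_mem 𝒜 (j := -i) (b := b') ha
  rw [hb', add_neg_cancel, decompose_of_mem_same 𝒜 (one_mem_zero 𝒜)] at h
  exact h.symm

theorem inv_mem {i : ℤ} (a : Rˣ) (ha : (a : R) ∈ 𝒜 i) : ((a⁻¹ : Rˣ) : R) ∈ 𝒜 (-i) := by
  obtain ⟨b, hb, hab⟩ := exists_inv_mem 𝒜 ha a.isUnit
  have : b = ((a⁻¹ : Rˣ) : R) := by
    have h1 : ((a⁻¹ : Rˣ) : R) * (a * b) = ((a⁻¹ : Rˣ) : R) := by rw [hab, mul_one]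
    rw [← mul_assoc, Units.inv_mul, one_mul] at h1
    exact h1
  rw [← this]; exact hb

theorem zpow_mem {N : ℤ} (t : Rˣ) (ht : (t : R) ∈ 𝒜 N) (k : ℤ) :
    ((t ^ k : Rˣ) : R) ∈ 𝒜 (k * N) := by
  have hnat : ∀ (M : ℤ) (s : Rˣ), (s : R) ∈ 𝒜 M → ∀ n : ℕ, ((s ^ n : Rˣ) : R) ∈ 𝒜 ((n : ℤ) * M) := by
    intro M s hs n
    have := SetLike.pow_mem_graded n hs
    rw [Units.val_pow_eq_pow_val]
    simpa [nsmul_eq_mul] using this
  cases k with
  | ofNat n =>
    simpa using hnat N t ht n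
  | negSucc n =>
    rw [zpow_negSucc, ← inv_pow]
    have := hnat (-N) t⁻¹ (inv_mem 𝒜 t ht) (n + 1)
    convert this using 2
    rw [Int.negSucc_eq]; push_cast; ring

section Local

variable [IsLocalRing (SetLike.GradeZero.subring 𝒜)]

include 𝒜 in
theorem nontrivial : Nontrivial R := by
  refine ⟨⟨0, 1, fun h => ?_⟩⟩
  have : (0 : SetLike.GradeZero.subring 𝒜) = 1 := Subtype.ext h
  exact zero_ne_one this

omit [IsLocalRing (SetLike.GradeZero.subring 𝒜)] in
theorem isUnit_deg0 (c : SetLike.GradeZero.subring 𝒜) (h : IsUnit (c : R)) : IsUnit c := by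
  obtain ⟨b, hb, hab⟩ := exists_inv_mem 𝒜 c.2 h
  rw [neg_zero] at hb
  exact isUnit_iff_exists_inv.mpr ⟨⟨b, hb⟩, Subtype.ext hab⟩

theorem not_isUnit_add {i : ℤ} {a b : R} (ha : a ∈ 𝒜 i) (hb : b ∈ 𝒜 i) (hna : ¬ IsUnit a)
    (hnb : ¬ IsUnit b) : ¬ IsUnit (a + b) := by
  intro hu
  obtain ⟨v, hv, hav⟩ := exists_inv_mem 𝒜 (add_mem ha hb) hu
  have h1 : a * v ∈ 𝒜 0 := by
    have := SetLike.mul_mem_graded ha hv; rwa [add_neg_cancel] at this
  have h2 : b * v ∈ 𝒜 0 := by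
    have := SetLike.mul_mem_graded hb hv; rwa [add_neg_cancel] at this
  have hsum : (⟨a * v, h1⟩ : SetLike.GradeZero.subring 𝒜) + ⟨b * v, h2⟩ = 1 :=
    Subtype.ext (by simp only [Subring.coe_add, Subring.coe_one]; rw [← add_mul, hav])
  rcases IsLocalRing.isUnit_or_isUnit_of_add_one hsum with h | h
  · exact hna (isUnit_of_mul_isUnit_left (h.map (SetLike.GradeZero.subring 𝒜).subtype))
  · exact hnb (isUnit_of_mul_isUnit_left (h.map (SetLike.GradeZero.subring 𝒜).subtype))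

/-- the `*`-maximal ideal: elements all of whose components are nonunits. -/
def Nst : Ideal R where
  carrier := {x | ∀ i, ¬ IsUnit (decompose 𝒜 x i : R)}
  zero_mem' := by
    intro i
    haveI := nontrivial 𝒜
    simp
  add_mem' := by
    intro x y hx hy i
    rw [decompose_add, DirectSum.add_apply, AddSubgroup.coe_add]
    exact not_isUnit_add 𝒜 (SetLike.coe_mem _) (SetLike.coe_mem _) (hx i) (hy i)
  smul_mem' := by
    intro c x hx
    haveI := nontrivial 𝒜
    induction c using DirectSum.Decomposition.inductionOn 𝒜 with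
    | zero => intro i; simp
    | @homogeneous j c =>
      intro i
      have h := coe_decompose_mul_add_of_left_mem 𝒜 (i := j) (j := i - j) (b := x) c.2
      rw [add_sub_cancel] at h
      rw [smul_eq_mul, h]
      intro hu
      exact hx (i - j) (isUnit_of_mul_isUnit_right hu)
    | add c c' hc hc' =>
      intro i
      rw [add_smul, decompose_add, DirectSum.add_apply, AddSubgroup.coe_add]
      exact not_isUnit_add 𝒜 (SetLike.coe_mem _) (SetLike.coe_mem _) (hc i) (hc' i)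

theorem mem_Nst_iff (x : R) : x ∈ Nst 𝒜 ↔ ∀ i, ¬ IsUnit (decompose 𝒜 x i : R) := Iff.rfl

theorem mem_Nst_iff_of_mem {i : ℤ} {a : R} (ha : a ∈ 𝒜 i) : a ∈ Nst 𝒜 ↔ ¬ IsUnit a := by
  haveI := nontrivial 𝒜
  constructor
  · intro h
    have := h i
    rwa [decompose_of_mem_same 𝒜 ha] at this
  · intro h j
    by_cases hij : i = j
    · subst hij; rwa [decompose_of_mem_same 𝒜 ha]
    · rw [decompose_of_mem_ne 𝒜 ha hij]; simp

theorem Nst_isHomogeneous : (Nst 𝒜).IsHomogeneous 𝒜 := by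
  intro i x hx
  exact (mem_Nst_iff_of_mem 𝒜 (SetLike.coe_mem _)).mpr (hx i)

theorem one_notMem_Nst : (1 : R) ∉ Nst 𝒜 := fun h =>
  (mem_Nst_iff_of_mem 𝒜 (one_mem_zero 𝒜)).mp h isUnit_one

theorem Nst_ne_top : Nst 𝒜 ≠ ⊤ := fun h => one_notMem_Nst 𝒜 (h ▸ Submodule.mem_top)

instance Nst_isPrime : (Nst 𝒜).IsPrime := by
  refine (Nst_isHomogeneous 𝒜).isPrime_of_homogeneous_mem_or_mem (Nst_ne_top 𝒜) ?_
  rintro x y ⟨i, hx⟩ ⟨j, hy⟩ hxy
  by_contra hcon
  push Not at hcon
  have hux : IsUnit x := not_not.mp fun h => hcon.1 ((mem_Nst_iff_of_mem 𝒜 hx).mpr h)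
  have huy : IsUnit y := not_not.mp fun h => hcon.2 ((mem_Nst_iff_of_mem 𝒜 hy).mpr h)
  exact (mem_Nst_iff_of_mem 𝒜 (SetLike.mul_mem_graded hx hy)).mp hxy (hux.mul huy)

theorem coe_mem_Nst_iff (c : SetLike.GradeZero.subring 𝒜) :
    (c : R) ∈ Nst 𝒜 ↔ c ∈ IsLocalRing.maximalIdeal (SetLike.GradeZero.subring 𝒜) := by
  rw [mem_Nst_iff_of_mem 𝒜 c.2, IsLocalRing.mem_maximalIdeal, mem_nonunits_iff]
  exact ⟨fun h hu => h (hu.map (SetLike.GradeZero.subring 𝒜).subtype),
    fun h hu => h (isUnit_deg0 𝒜 c hu)⟩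

end Local


section NotUnit

open Classical in
/-- `t - 1` is not a unit when `t` is a homogeneous unit of nonzero degree. -/
theorem not_isUnit_sub_one [Nontrivial R] {N : ℤ} (hN : 0 < N) {t : R} (ht : t ∈ 𝒜 N)
    (htu : IsUnit t) : ¬ IsUnit (t - 1) := by
  intro hu
  obtain ⟨r, hr⟩ := isUnit_iff_exists_inv.mp hu
  have hr0 : decompose 𝒜 r ≠ 0 := by
    intro h0
    have : r = 0 := by
      have := congrArg (decompose 𝒜).symm h0
      simpa using this
    rw [this, mul_zero] at hr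
    exact zero_ne_one hr
  have hsupp : (decompose 𝒜 r).support.Nonempty := by
    rw [Finset.nonempty_iff_ne_empty, Ne, DFinsupp.support_eq_empty]
    exact hr0
  -- component formula
  have hcomp : ∀ j : ℤ, (decompose 𝒜 (1 : R) (N + j) : R) =
      t * (decompose 𝒜 r j : R) - (decompose 𝒜 r (N + j) : R) := by
    intro j
    rw [← hr, sub_mul, one_mul, decompose_sub, DirectSum.sub_apply, AddSubgroup.coe_sub,
      coe_decompose_mul_add_of_left_mem 𝒜 ht]
  set j := (decompose 𝒜 r).support.max' hsupp with hj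
  have hjmem : j ∈ (decompose 𝒜 r).support := Finset.max'_mem _ _
  have hjtop : (decompose 𝒜 r (N + j) : R) = 0 := by
    have : N + j ∉ (decompose 𝒜 r).support := fun hmem => by
      have := Finset.le_max' _ _ hmem
      rw [← hj] at this
      omega
    rw [DFinsupp.notMem_support_iff] at this
    rw [this]; rfl
  by_cases hNj : N + j = 0
  · set j' := (decompose 𝒜 r).support.min' hsupp with hj'
    have hj'mem : j' ∈ (decompose 𝒜 r).support := Finset.min'_mem _ _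
    have hj'le : j' ≤ j := Finset.min'_le _ _ hjmem
    have hbot : (decompose 𝒜 r (j' - N) : R) = 0 := by
      have : j' - N ∉ (decompose 𝒜 r).support := fun hmem => by
        have := Finset.min'_le _ _ hmem
        rw [← hj'] at this
        omega
      rw [DFinsupp.notMem_support_iff] at this
      rw [this]; rfl
    have h1 := hcomp (j' - N)
    rw [add_sub_cancel, hbot, mul_zero, zero_sub,
      decompose_of_mem_ne 𝒜 (one_mem_zero 𝒜) (by omega : (0 : ℤ) ≠ j')] at h1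
    rw [DFinsupp.mem_support_iff] at hj'mem
    apply hj'mem
    apply Subtype.ext
    rw [ZeroMemClass.coe_zero]
    exact neg_eq_zero.mp h1.symm
  · have h1 := hcomp j
    rw [hjtop, sub_zero, decompose_of_mem_ne 𝒜 (one_mem_zero 𝒜) (Ne.symm hNj)] at h1
    rw [DFinsupp.mem_support_iff] at hjmem
    apply hjmem
    apply Subtype.ext
    rw [ZeroMemClass.coe_zero]
    exact (htu.mul_right_eq_zero).mp h1.symm

end NotUnit


section Main

variable [IsLocalRing (SetLike.GradeZero.subring 𝒜)] (N : ℕ) (hN : 0 < N) (t : Rˣ)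
  (ht : (t : R) ∈ 𝒜 (N : ℤ))
  (hmin : ∀ (n : ℤ), 0 < n → n < (N : ℤ) → ∀ s ∈ 𝒜 n, ¬ IsUnit s)

include hN ht hmin in
omit [IsLocalRing (SetLike.GradeZero.subring 𝒜)] in
/-- structure of homogeneous units. -/
theorem exists_eq_zpow_mul {i : ℤ} {a : R} (ha : a ∈ 𝒜 i) (hu : IsUnit a) :
    ∃ k : ℤ, ∃ c ∈ 𝒜 0, a = ((t ^ k : Rˣ) : R) * c := by
  have hN' : (0 : ℤ) < N := by exact_mod_cast hN
  have hmem : a * ((t ^ (-(i / N)) : Rˣ) : R) ∈ 𝒜 (i % N) := by
    have := SetLike.mul_mem_graded ha (zpow_mem 𝒜 t ht (-(i / N)))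
    have e : i + -(i / N) * N = i % N := by
      have := Int.emod_add_mul_ediv i N
      linarith
    rwa [e] at this
  have hunit : IsUnit (a * ((t ^ (-(i / N)) : Rˣ) : R)) := hu.mul (Units.isUnit _)
  have hr0 : i % N = 0 := by
    by_contra hne
    have h1 : 0 ≤ i % N := Int.emod_nonneg i (ne_of_gt hN')
    have h2 : i % N < N := Int.emod_lt_of_pos i hN'
    exact hmin (i % N) (lt_of_le_of_ne h1 (Ne.symm hne)) h2 _ hmem hunit
  rw [hr0] at hmem
  refine ⟨i / N, _, hmem, ?_⟩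
  rw [mul_comm a, ← mul_assoc, ← Units.val_mul, ← zpow_add]
  simp

omit [GradedRing 𝒜] [IsLocalRing (SetLike.GradeZero.subring 𝒜)] in
theorem zpow_sub_one_mem (k : ℤ) :
    ((t ^ k : Rˣ) : R) - 1 ∈ Ideal.span {(t : R) - 1} := by
  rw [← Ideal.Quotient.eq, map_one]
  have h1 : Ideal.Quotient.mk (Ideal.span {(t : R) - 1}) (t : R) = 1 := by
    rw [← map_one (Ideal.Quotient.mk (Ideal.span {(t : R) - 1})), Ideal.Quotient.eq]
    exact Ideal.mem_span_singleton_self _
  let q : R →* R ⧸ Ideal.span {(t : R) - 1} :=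
    ((Ideal.Quotient.mk (Ideal.span {(t : R) - 1}) : R →+* R ⧸ Ideal.span {(t : R) - 1}) :
      R →* R ⧸ Ideal.span {(t : R) - 1})
  have h2 : Units.map q t = 1 := Units.ext h1
  have h3 := congrArg Units.val (map_zpow (Units.map q) t k)
  rw [h2, one_zpow] at h3
  exact h3

/-- the candidate maximal ideal of `R` above `t - 1`. -/
def Mid : Ideal R := Nst 𝒜 ⊔ Ideal.span {(t : R) - 1}

include hN ht hmin in
theorem exists_deg0_sub_mem (x : R) : ∃ c ∈ 𝒜 0, x - c ∈ Mid 𝒜 t := by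
  induction x using DirectSum.Decomposition.inductionOn 𝒜 with
  | zero => exact ⟨0, zero_mem _, by simp⟩
  | @homogeneous i a =>
    by_cases hu : IsUnit (a : R)
    · obtain ⟨k, c, hc, hac⟩ := exists_eq_zpow_mul 𝒜 N hN t ht hmin a.2 hu
      refine ⟨c, hc, ?_⟩
      have : (a : R) - c = (((t ^ k : Rˣ) : R) - 1) * c := by rw [hac]; ring
      rw [this]
      exact Ideal.mul_mem_right _ _ (Ideal.mem_sup_right (zpow_sub_one_mem t k))
    · refine ⟨0, zero_mem _, ?_⟩
      rw [sub_zero]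
      exact Ideal.mem_sup_left ((mem_Nst_iff_of_mem 𝒜 a.2).mpr hu)
  | add x y hx hy =>
    obtain ⟨c, hc, hxc⟩ := hx
    obtain ⟨d, hd, hyd⟩ := hy
    refine ⟨c + d, add_mem hc hd, ?_⟩
    have : x + y - (c + d) = (x - c) + (y - d) := by ring
    rw [this]
    exact add_mem hxc hyd

include ht in
omit [IsLocalRing (SetLike.GradeZero.subring 𝒜)] in
theorem pow_mul_zpow_mem {i : ℤ} {a : R} (ha : a ∈ 𝒜 i) :
    a ^ N * ((t ^ (-i) : Rˣ) : R) ∈ 𝒜 0 := by
  have h1 := SetLike.pow_mem_graded N ha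
  have h2 := zpow_mem 𝒜 t ht (-i)
  have := SetLike.mul_mem_graded h1 h2
  have e : N • i + -i * (N : ℤ) = 0 := by rw [nsmul_eq_mul]; ring
  rwa [e] at this

omit [GradedRing 𝒜] [IsLocalRing (SetLike.GradeZero.subring 𝒜)] in
theorem mk_zpow (k : ℤ) :
    Ideal.Quotient.mk (Ideal.span {(t : R) - 1}) ((t ^ k : Rˣ) : R) = 1 := by
  rw [← map_one (Ideal.Quotient.mk (Ideal.span {(t : R) - 1})), Ideal.Quotient.eq]
  exact zpow_sub_one_mem t k

include hN ht in
omit [IsLocalRing (SetLike.GradeZero.subring 𝒜)] in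
theorem isIntegral_mk (x : R) : IsIntegral (SetLike.GradeZero.subring 𝒜)
    (Ideal.Quotient.mk (Ideal.span {(t : R) - 1}) x) := by
  induction x using DirectSum.Decomposition.inductionOn 𝒜 with
  | zero => rw [map_zero]; exact isIntegral_zero
  | @homogeneous i a =>
    apply IsIntegral.of_pow hN
    have : (Ideal.Quotient.mk (Ideal.span {(t : R) - 1}) (a : R)) ^ N =
        algebraMap (SetLike.GradeZero.subring 𝒜) (R ⧸ Ideal.span {(t : R) - 1})
          ⟨_, pow_mul_zpow_mem 𝒜 N t ht a.2⟩ := by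
      change _ = Ideal.Quotient.mk (Ideal.span {(t : R) - 1}) ((a : R) ^ N * ((t ^ (-i) : Rˣ) : R))
      rw [map_mul, mk_zpow, mul_one, map_pow]
    rw [this]
    exact isIntegral_algebraMap
  | add x y hx hy => rw [map_add]; exact hx.add hy

include hN ht in
omit [IsLocalRing (SetLike.GradeZero.subring 𝒜)] in
theorem algebra_isIntegral :
    Algebra.IsIntegral (SetLike.GradeZero.subring 𝒜) (R ⧸ Ideal.span {(t : R) - 1}) :=
  ⟨fun y => by
    obtain ⟨x, rfl⟩ := Ideal.Quotient.mk_surjective y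
    exact isIntegral_mk 𝒜 N hN t ht x⟩

include hN ht hmin in
theorem comap_eq_Mid (P : Ideal (R ⧸ Ideal.span {(t : R) - 1})) (hP : P.IsMaximal) :
    P.comap (Ideal.Quotient.mk (Ideal.span {(t : R) - 1})) = Mid 𝒜 t := by
  haveI := algebra_isIntegral 𝒜 N hN t ht
  have hmax : (P.comap (algebraMap (SetLike.GradeZero.subring 𝒜)
      (R ⧸ Ideal.span {(t : R) - 1}))).IsMaximal :=
    Ideal.isMaximal_comap_of_isIntegral_of_isMaximal P
  have hm := IsLocalRing.eq_maximalIdeal hmax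
  have hmc : ∀ c : SetLike.GradeZero.subring 𝒜,
      c ∈ IsLocalRing.maximalIdeal (SetLike.GradeZero.subring 𝒜) ↔
        (c : R) ∈ P.comap (Ideal.Quotient.mk (Ideal.span {(t : R) - 1})) := by
    intro c
    rw [← hm]
    rfl
  haveI hPp : (P.comap (Ideal.Quotient.mk (Ideal.span {(t : R) - 1}))).IsPrime :=
    Ideal.comap_isPrime _ _
  have hle : Mid 𝒜 t ≤ P.comap (Ideal.Quotient.mk (Ideal.span {(t : R) - 1})) := by
    refine sup_le ?_ ?_
    · have hhom : ∀ (i : ℤ) (a : R), a ∈ 𝒜 i → ¬ IsUnit a →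
          a ∈ P.comap (Ideal.Quotient.mk (Ideal.span {(t : R) - 1})) := by
        intro i a ha hna
        have hc := pow_mul_zpow_mem 𝒜 N t ht ha
        have hcn : ¬ IsUnit (a ^ N * ((t ^ (-i) : Rˣ) : R)) := by
          intro hu
          exact hna ((isUnit_pow_iff hN.ne').mp (isUnit_of_mul_isUnit_left hu))
        have hcm : (⟨_, hc⟩ : SetLike.GradeZero.subring 𝒜) ∈
            IsLocalRing.maximalIdeal (SetLike.GradeZero.subring 𝒜) := by
          rw [← coe_mem_Nst_iff]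
          exact (mem_Nst_iff_of_mem 𝒜 hc).mpr hcn
        have h1 := (hmc _).mp hcm
        have h2 : a ^ N = (a ^ N * ((t ^ (-i) : Rˣ) : R)) * ((t ^ i : Rˣ) : R) := by
          rw [mul_assoc, ← Units.val_mul, ← zpow_add]; simp
        have h3 : a ^ N ∈ P.comap (Ideal.Quotient.mk (Ideal.span {(t : R) - 1})) := by
          rw [h2]; exact Ideal.mul_mem_right _ _ h1
        exact hPp.mem_of_pow_mem N h3
      intro x hx
      classical
      rw [← DirectSum.sum_support_decompose 𝒜 x]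
      exact Ideal.sum_mem _ fun i _ => hhom i _ (SetLike.coe_mem _) (hx i)
    · rw [Ideal.span_le, Set.singleton_subset_iff, SetLike.mem_coe, Ideal.mem_comap]
      have : Ideal.Quotient.mk (Ideal.span {(t : R) - 1}) ((t : R) - 1) = 0 :=
        Ideal.Quotient.eq_zero_iff_mem.mpr (Ideal.mem_span_singleton_self _)
      rw [this]; exact P.zero_mem
  refine le_antisymm ?_ hle
  intro x hx
  obtain ⟨c, hc, hxc⟩ := exists_deg0_sub_mem 𝒜 N hN t ht hmin x
  have hcP : c ∈ P.comap (Ideal.Quotient.mk (Ideal.span {(t : R) - 1})) := by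
    have : c = x - (x - c) := by ring
    rw [this]; exact sub_mem hx (hle hxc)
  have hcN : c ∈ Nst 𝒜 := (coe_mem_Nst_iff 𝒜 ⟨c, hc⟩).mpr ((hmc ⟨c, hc⟩).mpr hcP)
  have : x = (x - c) + c := by ring
  rw [this]
  exact add_mem hxc (Ideal.mem_sup_left hcN)

include hN ht hmin in
theorem isLocalRing_quot : IsLocalRing (R ⧸ Ideal.span {(t : R) - 1}) := by
  haveI := nontrivial 𝒜
  have hN' : (0 : ℤ) < N := by exact_mod_cast hN
  haveI : Nontrivial (R ⧸ Ideal.span {(t : R) - 1}) :=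
    Ideal.Quotient.nontrivial_iff.mpr (by
      rw [Ne, Ideal.span_singleton_eq_top]
      exact not_isUnit_sub_one 𝒜 hN' ht t.isUnit)
  apply IsLocalRing.of_unique_max_ideal
  obtain ⟨P, hP⟩ := Ideal.exists_maximal (R ⧸ Ideal.span {(t : R) - 1})
  refine ⟨P, hP, fun P' hP' => ?_⟩
  have h1 := comap_eq_Mid 𝒜 N hN t ht hmin P hP
  have h2 := comap_eq_Mid 𝒜 N hN t ht hmin P' hP'
  rw [← Ideal.map_comap_of_surjective _ Ideal.Quotient.mk_surjective P', h2, ← h1,
    Ideal.map_comap_of_surjective _ Ideal.Quotient.mk_surjective]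

include hN ht hmin in
theorem Mid_isMaximal : (Mid 𝒜 t).IsMaximal := by
  haveI := isLocalRing_quot 𝒜 N hN t ht hmin
  rw [← comap_eq_Mid 𝒜 N hN t ht hmin _ (IsLocalRing.maximalIdeal.isMaximal _)]
  exact Ideal.comap_isMaximal_of_surjective _ Ideal.Quotient.mk_surjective

include hN ht hmin in
theorem mul_notMem_sq {s : R} (hs : s ∉ Mid 𝒜 t) : s * ((t : R) - 1) ∉ Mid 𝒜 t ^ 2 := by
  intro hmem
  have hM := Mid_isMaximal 𝒜 N hN t ht hmin
  have hN' : (0 : ℤ) < N := by exact_mod_cast hN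
  obtain ⟨y, m0, hm0, hy⟩ := hM.exists_inv hs
  have ht1 : (t : R) - 1 ∈ Mid 𝒜 t := Ideal.mem_sup_right (Ideal.mem_span_singleton_self _)
  have h1 : (t : R) - 1 ∈ Mid 𝒜 t ^ 2 := by
    have e : (t : R) - 1 = y * (s * ((t : R) - 1)) + m0 * ((t : R) - 1) := by
      linear_combination (-((t : R) - 1)) * hy
    rw [e]
    refine add_mem (Ideal.mul_mem_left _ _ hmem) ?_
    rw [pow_two]
    exact Ideal.mul_mem_mul hm0 ht1
  have h2 : Mid 𝒜 t ^ 2 ≤ Nst 𝒜 ⊔ Ideal.span {((t : R) - 1) * ((t : R) - 1)} := by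
    rw [pow_two, Mid, Ideal.sup_mul, Ideal.mul_sup, Ideal.mul_sup, Ideal.span_singleton_mul_span_singleton]
    refine sup_le (sup_le ?_ ?_) (sup_le ?_ le_sup_right)
    · exact le_sup_of_le_left Ideal.mul_le_right
    · exact le_sup_of_le_left Ideal.mul_le_left
    · exact le_sup_of_le_left Ideal.mul_le_right
  obtain ⟨n, hn, z, hz, hnz⟩ := Submodule.mem_sup.mp (h2 h1)
  obtain ⟨r, rfl⟩ := Ideal.mem_span_singleton'.mp hz
  have h3 : ((t : R) - 1) * (1 - r * ((t : R) - 1)) ∈ Nst 𝒜 := by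
    have : ((t : R) - 1) * (1 - r * ((t : R) - 1)) = n := by linear_combination -hnz
    rw [this]; exact hn
  rcases (Nst_isPrime 𝒜).mem_or_mem h3 with h4 | h4
  · have h5 := Nst_isHomogeneous 𝒜 0 h4
    rw [decompose_sub, DirectSum.sub_apply, AddSubgroup.coe_sub,
      decompose_of_mem_ne 𝒜 ht (ne_of_gt hN'), decompose_of_mem_same 𝒜 (one_mem_zero 𝒜),
      zero_sub] at h5
    exact one_notMem_Nst 𝒜 (by simpa using (Nst 𝒜).neg_mem h5)
  · apply hM.ne_top
    rw [Ideal.eq_top_iff_one]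
    have : (1 : R) = (1 - r * ((t : R) - 1)) + r * ((t : R) - 1) := by ring
    rw [this]
    exact add_mem (Ideal.mem_sup_left h4) (Ideal.mul_mem_left _ _ ht1)

include hN ht hmin in
/-- `C = R/(t-1)` is a regular local ring. -/
theorem isRegularLocalRing_quot [IsNoetherianRing R]
    (hreg : ∀ (p : Ideal R) [p.IsPrime], IsRegularLocalRing (Localization.AtPrime p)) :
    IsRegularLocalRing (R ⧸ Ideal.span {(t : R) - 1}) := by
  haveI : IsRegularRing R := isRegularRing_iff.mpr hreg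
  haveI := isLocalRing_quot 𝒜 N hN t ht hmin
  have hcomap := comap_eq_Mid 𝒜 N hN t ht hmin
    (IsLocalRing.maximalIdeal (R ⧸ Ideal.span {(t : R) - 1})) (IsLocalRing.maximalIdeal.isMaximal _)
  have hP : IsRegularLocalRing (Localization.AtPrime
      (IsLocalRing.maximalIdeal (R ⧸ Ideal.span {(t : R) - 1}))) := by
    refine Groth.Agent.Lib.Helper14WeierReg.reg_of_not_mem_sq R ((t : R) - 1) _ rfl _ ?_
    intro s hs
    rw [hcomap] at hs ⊢
    exact mul_notMem_sq 𝒜 N hN t ht hmin hs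
  let e : (R ⧸ Ideal.span {(t : R) - 1}) ≃ₐ[R ⧸ Ideal.span {(t : R) - 1}]
      Localization.AtPrime (IsLocalRing.maximalIdeal (R ⧸ Ideal.span {(t : R) - 1})) :=
    IsLocalization.atUnits _ (IsLocalRing.maximalIdeal (R ⧸ Ideal.span {(t : R) - 1})).primeCompl
      (fun x hx => by
        rw [IsUnit.mem_submonoid_iff]
        exact not_not.mp fun hnu => hx ((IsLocalRing.mem_maximalIdeal x).mpr hnu))
  exact IsRegularLocalRing.of_ringEquiv e.toRingEquiv.symm

end Main

end Groth.Agent.Lib.Helper29.GrUnit
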