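import Mathlib
import Groth.Prelude.Def_CAlg
import Groth.Agent.Lib.Helper29LocQuotNum
import Groth.Agent.Lib.Helper5FinDimDepth
import Groth.Agent.Lib.Helper28PolyCM
import Groth.Agent.Lib.Helper28FlatNormal

set_option autoImplicit false
set_option linter.style.haveILetI false
universe u

namespace Groth.Agent.Lib.Helper29SkCompare

open Polynomial
open Groth.Agent.Lib.Helper28 IsLocalRing LocCoh Groth.Agent.Lib.Helper5.GenDepth
  Groth.Agent.Lib.Helper29LocQuotNum Groth.Agent.Lib.Helper5

section LocComap

/-- the local ring of `B` at the contraction of a prime `Q` of a localization `L` has the same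
height and depth as `L_Q`. -/
theorem height_dep_comap_of_isLocalization {B : Type u} [CommRing B] [IsNoetherianRing B]
    (M : Submonoid B) (L : Type u) [CommRing L] [Algebra B L] [IsLocalization M L]
    (Q : Ideal L) [Q.IsPrime] :
    (Q.comap (algebraMap B L)).height = Q.height ∧
      dep (Q.comap (algebraMap B L)) B = dep Q L := by
  haveI : IsLocalization.AtPrime (Localization.AtPrime Q) (Q.comap (algebraMap B L)) :=
    IsLocalization.isLocalization_isLocalization_atPrime_isLocalization M
      (Localization.AtPrime Q) Q
  haveI : IsLocalizedModule (Q.comap (algebraMap B L)).primeCompl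
      (Algebra.linearMap B (Localization.AtPrime Q)) :=
    isLocalizedModule_iff_isLocalization.mpr inferInstance
  obtain ⟨h1, h2⟩ := FinDimDepth.transport_aux (Q.comap (algebraMap B L))
    B (Localization.AtPrime Q) (Localization.AtPrime Q)
    (Algebra.linearMap B (Localization.AtPrime Q))
  constructor
  · have h3 : dm (Q.comap (algebraMap B L)) B =
        Module.supportDim (Localization.AtPrime Q) (Localization.AtPrime Q) := h2.symm
    rw [dm_self, supportDim_localization_self] at h3
    exact WithBot.coe_injective h3
  · rw [dep_self Q]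
    exact h1.symm

end LocComap

section Away

variable {R R₁ : Type u} [CommRing R] [CommRing R₁] [IsNoetherianRing R] [IsNoetherianRing R₁]

/-- If every element of `R₁` becomes an element of `R` after multiplication by a power of `s`,
the primes of `R` not containing `s` have the same local invariants as primes of `R₁`. -/
theorem exists_prime_of_away (ι : R →+* R₁) (hι : Function.Injective ι) (s : R)
    (hs : ∀ g : R₁, ∃ (k : ℕ) (r : R), ι r = ι s ^ k * g)
    (p : Ideal R) [p.IsPrime] (hsp : s ∉ p) :
    ∃ (p₁ : Ideal R₁) (_ : p₁.IsPrime), p₁.comap ι = p ∧ p₁.height = p.height ∧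
      dep p₁ R₁ = dep p R := by
  letI algRR₁ : Algebra R R₁ := ι.toAlgebra
  have halg : ∀ r : R, algebraMap R (Localization.Away (ι s)) r =
      algebraMap R₁ (Localization.Away (ι s)) (ι r) := fun r =>
    IsScalarTower.algebraMap_apply R R₁ (Localization.Away (ι s)) r
  haveI hloc : IsLocalization.Away s (Localization.Away (ι s)) := by
    refine ⟨?_, ?_, ?_⟩
    · rintro ⟨y, k, rfl⟩
      rw [halg, map_pow]
      exact IsLocalization.map_units (Localization.Away (ι s))
        (⟨ι s ^ k, k, rfl⟩ : Submonoid.powers (ι s))
    · intro z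
      obtain ⟨⟨g, ⟨y, m, rfl⟩⟩, hz⟩ := IsLocalization.surj (Submonoid.powers (ι s)) z
      obtain ⟨k, r, hr⟩ := hs g
      refine ⟨(r, ⟨s ^ (m + k), m + k, rfl⟩), ?_⟩
      show z * algebraMap R (Localization.Away (ι s)) (s ^ (m + k)) =
        algebraMap R (Localization.Away (ι s)) r
      rw [halg, halg, hr, map_pow, pow_add, map_mul, map_mul, ← mul_assoc, hz]
      ring
    · intro x y hxy
      rw [halg, halg] at hxy
      obtain ⟨⟨c, n, rfl⟩, hc⟩ := IsLocalization.exists_of_eq (M := Submonoid.powers (ι s)) hxy
      refine ⟨⟨s ^ n, n, rfl⟩, ?_⟩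
      apply hι
      show ι (s ^ n * x) = ι (s ^ n * y)
      rw [map_mul, map_mul, map_pow]
      exact hc
  haveI hNL : IsNoetherianRing (Localization.Away (ι s)) :=
    IsLocalization.isNoetherianRing (Submonoid.powers (ι s)) _ inferInstance
  have hdisj : Disjoint (Submonoid.powers s : Set R) (p : Set R) := by
    rw [Set.disjoint_left]
    rintro x ⟨k, rfl⟩ hx
    exact hsp (Ideal.IsPrime.mem_of_pow_mem inferInstance k hx)
  haveI hQ : (p.map (algebraMap R (Localization.Away (ι s)))).IsPrime :=
    IsLocalization.isPrime_of_isPrime_disjoint (Submonoid.powers s) _ p inferInstance hdisj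
  have hcm : (p.map (algebraMap R (Localization.Away (ι s)))).comap
      (algebraMap R (Localization.Away (ι s))) = p :=
    IsLocalization.under_map_of_isPrime_disjoint (Submonoid.powers s) _ inferInstance hdisj
  obtain ⟨h1, h2⟩ := height_dep_comap_of_isLocalization (Submonoid.powers s)
    (Localization.Away (ι s)) (p.map (algebraMap R (Localization.Away (ι s))))
  obtain ⟨h3, h4⟩ := height_dep_comap_of_isLocalization (Submonoid.powers (ι s))
    (Localization.Away (ι s)) (p.map (algebraMap R (Localization.Away (ι s))))
  have hcm' : ((p.map (algebraMap R (Localization.Away (ι s)))).comap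
      (algebraMap R₁ (Localization.Away (ι s)))).comap ι = p := by
    rw [Ideal.comap_comap]
    have : (algebraMap R₁ (Localization.Away (ι s))).comp ι =
        algebraMap R (Localization.Away (ι s)) :=
      (IsScalarTower.algebraMap_eq R R₁ (Localization.Away (ι s))).symm
    rw [this]
    exact hcm
  refine ⟨(p.map (algebraMap R (Localization.Away (ι s)))).comap
      (algebraMap R₁ (Localization.Away (ι s))), Ideal.comap_isPrime _ _, hcm', ?_, ?_⟩
  · rw [h3, ← h1]
    exact height_congr_ideal hcm
  · rw [h4, ← h2]
    exact dep_congr_ideal hcm R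

end Away

section Poly

variable {A : Type u} [CommRing A] [IsNoetherianRing A]

/-- flat base change along `A → A[X]` -/
theorem exists_nat_polynomial (Q : Ideal A[X]) [Q.IsPrime] :
    ∃ c : ℕ, Q.height = (Q.comap (algebraMap A A[X])).height + c ∧
      dep Q A[X] = dep (Q.comap (algebraMap A A[X])) A + c := by
  haveI hloc : IsLocalRing (EGA4.FibLocRing A A[X] Q) := isLocalRing_fibLocRing (A := A) Q
  haveI hdom : IsDomain (EGA4.FibLocRing A A[X] Q) := isDomain_fibLocRing_polynomial Q
  have hle := ringKrullDim_fibLocRing_polynomial_le_one Q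
  have hF := depth_self_eq_ringKrullDim_of_isDomain_of_le_one hle
  have h1 := height_eq_height_fibLocRing_add (A := A) Q
  have h2 := depth_localization_eq_add_fibLocRing (A := A) Q
  have hd1 : LocCoh.depth (EGA4.FibLocRing A A[X] Q) (EGA4.FibLocRing A A[X] Q) ≤ 1 := by
    rw [hF] at hle
    exact_mod_cast hle
  obtain ⟨c, hc⟩ := ENat.ne_top_iff_exists.mp (ne_top_of_le_ne_top ENat.one_ne_top hd1)
  have hht : (IsLocalRing.maximalIdeal (EGA4.FibLocRing A A[X] Q)).height = c := by
    have := IsLocalRing.maximalIdeal_height_eq_ringKrullDim (R := EGA4.FibLocRing A A[X] Q)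
    rw [hF, ← hc] at this
    exact WithBot.coe_injective this
  refine ⟨c, ?_, ?_⟩
  · rw [h1, hht, add_comm]
  · rw [dep_self, dep_self, h2, ← hc]

end Poly

end Groth.Agent.Lib.Helper29SkCompare
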