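import Mathlib
import Groth.Agent.Lib.Helper29LocQuotNum
import Groth.Agent.Lib.Helper29SkCompare
import Groth.Agent.Lib.Helper28DepthMore
import Groth.Agent.Lib.Helper29GrDeg0
import Groth.Agent.Lib.Helper29GrUnit
import Groth.Agent.Lib.Helper5TensorSk
set_option autoImplicit false
set_option linter.style.haveILetI false
universe u
open DirectSum

namespace Groth.Agent.Lib.Helper29.GrS1

open Groth.Agent.Lib.Helper29LocQuotNum Groth.Agent.Lib.Helper5.GenDepth

section Ass

variable {R₀ R M : Type*} [CommRing R₀] [CommRing R] [Algebra R₀ R] [IsNoetherianRing R]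
  [AddCommGroup M] [Module R M] [Module R₀ M] [IsScalarTower R₀ R M]

/-- an `R₀`-annihilator prime of an element of an `R`-module is the contraction of an
associated prime over the Noetherian ring `R`. -/
theorem exists_isAssociatedPrime_comap (q : Ideal R₀) [hq : q.IsPrime] (m : M)
    (hqm : ∀ r : R₀, r ∈ q ↔ r • m = 0) :
    ∃ Q : Ideal R, IsAssociatedPrime Q M ∧ Q.comap (algebraMap R₀ R) = q := by
  let 𝒮 : Set (Ideal R) := {J | (∃ b : R, J = (⊥ : Submodule R M).colon {b • m}) ∧
    ∀ w : R₀, w ∉ q → algebraMap R₀ R w ∉ J}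
  have hne : 𝒮.Nonempty := by
    refine ⟨(⊥ : Submodule R M).colon {(1 : R) • m}, ⟨1, rfl⟩, ?_⟩
    intro w hw hmem
    rw [Submodule.mem_colon_singleton, Submodule.mem_bot, one_smul, algebraMap_smul] at hmem
    exact hw ((hqm w).mpr hmem)
  obtain ⟨J, ⟨⟨b, hJ⟩, hJW⟩, hmax⟩ :=
    set_has_maximal_iff_noetherian.mpr (inferInstance : IsNoetherian R R) 𝒮 hne
  have hmemJ : ∀ x : R, x ∈ J ↔ x • b • m = 0 := by
    intro x; rw [hJ, Submodule.mem_colon_singleton, Submodule.mem_bot]
  have hprime : Ideal.IsPrime J := by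
    refine ⟨?_, ?_⟩
    · intro htop
      have : algebraMap R₀ R 1 ∈ J := by rw [htop]; exact Submodule.mem_top
      exact hJW 1 (fun h => hq.ne_top ((Ideal.eq_top_iff_one _).mpr h)) this
    · intro x₁ x₂ h12
      by_contra hcon
      push Not at hcon
      obtain ⟨h1, h2⟩ := hcon
      -- J' = ann(x₁ • y)
      by_cases hJ' : ∀ w : R₀, w ∉ q → algebraMap R₀ R w ∉ (⊥ : Submodule R M).colon {(x₁ * b) • m}
      · have hmem : (⊥ : Submodule R M).colon {(x₁ * b) • m} ∈ 𝒮 := ⟨⟨x₁ * b, rfl⟩, hJ'⟩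
        have hle : J ≤ (⊥ : Submodule R M).colon {(x₁ * b) • m} := by
          intro z hz
          rw [Submodule.mem_colon_singleton, Submodule.mem_bot, mul_smul, smul_comm,
            (hmemJ z).mp hz, smul_zero]
        have heq : J = (⊥ : Submodule R M).colon {(x₁ * b) • m} := by
          by_contra hne'
          exact hmax _ hmem (lt_of_le_of_ne hle hne')
        apply h2
        rw [heq, Submodule.mem_colon_singleton, Submodule.mem_bot, mul_smul, ← mul_smul x₂,
          mul_comm x₂, ← hmemJ]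
        exact h12
      · push Not at hJ'
        obtain ⟨w, hw, hwmem⟩ := hJ'
        rw [Submodule.mem_colon_singleton, Submodule.mem_bot] at hwmem
        have hmem : (⊥ : Submodule R M).colon {(algebraMap R₀ R w * b) • m} ∈ 𝒮 := by
          refine ⟨⟨_, rfl⟩, ?_⟩
          intro w' hw' hw'mem
          rw [Submodule.mem_colon_singleton, Submodule.mem_bot, mul_smul, ← mul_smul,
            ← map_mul, ← hmemJ] at hw'mem
          exact hJW (w' * w) (fun h => (hq.mem_or_mem h).elim hw' hw) hw'mem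
        have hle : J ≤ (⊥ : Submodule R M).colon {(algebraMap R₀ R w * b) • m} := by
          intro z hz
          rw [Submodule.mem_colon_singleton, Submodule.mem_bot, mul_smul, smul_comm,
            (hmemJ z).mp hz, smul_zero]
        have heq : J = (⊥ : Submodule R M).colon {(algebraMap R₀ R w * b) • m} := by
          by_contra hne'
          exact hmax _ hmem (lt_of_le_of_ne hle hne')
        apply h1
        rw [heq, Submodule.mem_colon_singleton, Submodule.mem_bot, mul_smul, ← mul_smul x₁,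
          mul_comm x₁, mul_smul, ← mul_smul x₁]
        exact hwmem
  refine ⟨J, isAssociatedPrime_iff.mpr ⟨hprime, b • m, hJ⟩, ?_⟩
  ext r
  rw [Ideal.mem_comap]
  constructor
  · intro h
    by_contra hr
    exact hJW r hr h
  · intro h
    rw [hmemJ, smul_comm, algebraMap_smul, (hqm r).mp h, smul_zero]

end Ass


section S1

variable {R : Type u} [CommRing R] [IsNoetherianRing R]

/-- `(S_1)` for a Noetherian ring: every associated prime is minimal. -/
theorem hasS1_iff : LocCoh.HasSk 1 R R ↔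
    ∀ Q : Ideal R, Q ∈ associatedPrimes R R → Q.height = 0 := by
  rw [hasSk_iff]
  constructor
  · intro h Q hQ
    haveI := hQ.isPrime
    have h1 := h Q
    have h2 : dep Q R = 0 := (Groth.Agent.Lib.Helper28.depth_localization_eq_zero_iff Q).mpr hQ
    rw [h2] at h1
    by_contra hne
    have h3 : (1 : ℕ∞) ≤ Q.height := Order.one_le_iff_ne_zero.mpr hne
    have h4 : min ((1 : ℕ) : ℕ∞) Q.height = 1 := by
      rw [Nat.cast_one]; exact min_eq_left h3
    rw [h4] at h1
    exact absurd h1 (by simp)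
  · intro h p hp
    by_cases h0 : dep p R = 0
    · have := h p ((Groth.Agent.Lib.Helper28.depth_localization_eq_zero_iff p).mp h0)
      rw [this]; simp
    · refine le_trans (min_le_left _ _) ?_
      rw [Nat.cast_one]
      exact Order.one_le_iff_ne_zero.mpr h0

/-- `(S_k)` passes to localizations. -/
theorem hasSk_of_isLocalization (k : ℕ) (M : Submonoid R) (L : Type u) [CommRing L] [Algebra R L]
    [IsLocalization M L] (h : LocCoh.HasSk k R R) : LocCoh.HasSk k L L := by
  haveI : IsNoetherianRing L := IsLocalization.isNoetherianRing M L inferInstance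
  rw [hasSk_iff] at h ⊢
  intro Q hQ
  obtain ⟨h1, h2⟩ := Groth.Agent.Lib.Helper29SkCompare.height_dep_comap_of_isLocalization M L Q
  rw [← h1, ← h2]
  exact h _

end S1

section Graded

variable {R : Type u} [CommRing R] [IsNoetherianRing R] (𝒜 : ℤ → AddSubgroup R) [GradedRing 𝒜]

theorem comap_map_deg0 (I : Ideal (GrLC.deg0 𝒜)) :
    (I.map (algebraMap (GrLC.deg0 𝒜) R)).comap (algebraMap (GrLC.deg0 𝒜) R) = I := by
  refine le_antisymm ?_ Ideal.le_comap_map
  intro x hx
  rw [Ideal.mem_comap] at hx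
  have h1 : (x : R) ∈ Submodule.span R
      ((Submodule.map (Algebra.linearMap (GrLC.deg0 𝒜) R) I : Submodule (GrLC.deg0 𝒜) R) : Set R) := by
    have : Ideal.map (algebraMap (GrLC.deg0 𝒜) R) I = Submodule.span R
        ((Submodule.map (Algebra.linearMap (GrLC.deg0 𝒜) R) I : Submodule (GrLC.deg0 𝒜) R) :
          Set R) := by
      unfold Ideal.map
      congr 1
    rw [← this]
    exact hx
  have h2 := Groth.Agent.Lib.Helper29.GrArt.mem_of_mem_span_of_mem_piece 𝒜 𝒜 0
    (Submodule.map (Algebra.linearMap (GrLC.deg0 𝒜) R) I)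
    (by rintro _ ⟨y, _, rfl⟩; exact y.2) (x : R) h1 x.2
  obtain ⟨y, hy, hyx⟩ := h2
  have : y = x := Subtype.ext hyx
  rw [← this]
  exact hy

/-- `(S_1)` descends to the degree-zero part of a `ℤ`-graded Noetherian ring with a homogeneous
unit of positive degree. -/
theorem hasS1_deg0 (d : ℕ) (hd : 0 < d) (f : Rˣ) (hf : (f : R) ∈ 𝒜 (d : ℤ))
    (h : LocCoh.HasSk 1 R R) : LocCoh.HasSk 1 (GrLC.deg0 𝒜) (GrLC.deg0 𝒜) := by
  classical
  haveI : IsNoetherianRing (GrLC.deg0 𝒜) := Groth.Agent.Lib.Helper29.GrDeg0.isNoetherianRing_deg0 𝒜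
  rw [hasS1_iff] at h ⊢
  intro q hq
  haveI hqp : q.IsPrime := hq.isPrime
  obtain ⟨_, c, hc⟩ := isAssociatedPrime_iff.mp hq
  obtain ⟨Q, hQass, hQq⟩ := exists_isAssociatedPrime_comap (R₀ := GrLC.deg0 𝒜) (R := R) (M := R)
    q (c : R) (fun r => by
      rw [hc, Submodule.mem_colon_singleton, Submodule.mem_bot]
      constructor
      · intro h0
        have := congrArg Subtype.val h0
        exact this
      · intro h0
        exact Subtype.ext h0)
  haveI hQp : Q.IsPrime := hQass.isPrime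
  have hQ0 := h Q hQass
  rw [Ideal.height_eq_zero_iff] at hQ0 ⊢
  refine ⟨⟨hqp, bot_le⟩, ?_⟩
  rintro q' ⟨hq'prime, -⟩ hq'q
  obtain ⟨Q', hQ'prime, hQ'q'⟩ :=
    (Ideal.comap_map_eq_self_iff_of_isPrime q').mp (comap_map_deg0 𝒜 q')
  have hQcprime : ((Q'.homogeneousCore 𝒜).toIdeal).IsPrime := Ideal.IsPrime.homogeneousCore hQ'prime
  have hQcle : (Q'.homogeneousCore 𝒜).toIdeal ≤ Q := by
    intro b hb
    rw [← DirectSum.sum_support_decompose 𝒜 b]
    refine Ideal.sum_mem _ fun i _ => ?_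
    have hbi : (decompose 𝒜 b i : R) ∈ (Q'.homogeneousCore 𝒜).toIdeal :=
      (Q'.homogeneousCore 𝒜).isHomogeneous i hb
    have hbi' : (decompose 𝒜 b i : R) ∈ Q' := Ideal.toIdeal_homogeneousCore_le 𝒜 Q' hbi
    -- e = b_i^d * f^{-i}
    have he0 : (decompose 𝒜 b i : R) ^ d * ((f ^ (-i) : Rˣ) : R) ∈ 𝒜 0 :=
      Groth.Agent.Lib.Helper29.GrUnit.pow_mul_zpow_mem 𝒜 d f hf (SetLike.coe_mem _)
    have heQ' : (decompose 𝒜 b i : R) ^ d * ((f ^ (-i) : Rˣ) : R) ∈ Q' :=
      Ideal.mul_mem_right _ _ (Ideal.pow_mem_of_mem _ hbi' d hd)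
    have heq' : (⟨_, he0⟩ : GrLC.deg0 𝒜) ∈ q' := by
      rw [← hQ'q', Ideal.mem_comap]
      exact heQ'
    have heQ : (decompose 𝒜 b i : R) ^ d * ((f ^ (-i) : Rˣ) : R) ∈ Q := by
      have := hq'q heq'
      rw [← hQq, Ideal.mem_comap] at this
      exact this
    have hpow : (decompose 𝒜 b i : R) ^ d ∈ Q := by
      have e : (decompose 𝒜 b i : R) ^ d =
          ((decompose 𝒜 b i : R) ^ d * ((f ^ (-i) : Rˣ) : R)) * ((f ^ i : Rˣ) : R) := by
        rw [mul_assoc, ← Units.val_mul, ← zpow_add]; simp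
      rw [e]
      exact Ideal.mul_mem_right _ _ heQ
    exact hQp.mem_of_pow_mem d hpow
  have hQleQc : Q ≤ (Q'.homogeneousCore 𝒜).toIdeal := hQ0.2 ⟨hQcprime, bot_le⟩ hQcle
  intro x hx
  rw [← hQq, Ideal.mem_comap] at hx
  have h1 : (x : R) ∈ Q' := Ideal.toIdeal_homogeneousCore_le 𝒜 Q' (hQleQc hx)
  rw [← hQ'q', Ideal.mem_comap]
  exact h1

end Graded

end Groth.Agent.Lib.Helper29.GrS1
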