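import Groth.Agent.Lib.Helper29GrEulerAdd
import Groth.Agent.Lib.Helper29GrFinite
import Groth.Agent.Lib.Helper29GrVanish
import Groth.Agent.Lib.Helper29GrMulLES

/-! Ingredients for the Serre–Grothendieck formula: lengths of graded pieces along graded short
exact sequences, finiteness of all lengths over an Artinian base, the torsion case, shifts
(helper29). -/

set_option autoImplicit false
set_option linter.style.haveILetI false
set_option linter.unusedSectionVars false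
open DirectSum

noncomputable section

namespace Groth.Agent.Lib.Helper29GrSerre

open Groth.Agent.Lib.Helper29GrEulerAdd Groth.Agent.Lib.Helper29GrHom
  Groth.Agent.Lib.Helper29GrPieceFin Groth.Agent.Lib.Helper29.GrDeg0
  Groth.Agent.Lib.Helper29GrFinite Groth.Agent.Lib.Helper29GrVanish
  Groth.Agent.Lib.Helper29GrMulLES Groth.Agent.Lib.Helper29GrShift
  Groth.Agent.Lib.Helper29GrConeLES Groth.Agent.Lib.Helper29GrCMEnd
  Groth.Agent.Lib.Helper29GrTorsBound

universe u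

variable {R : Type u} [CommRing R] [IsNoetherianRing R] {𝒜 : ℤ → AddSubgroup R} [GradedRing 𝒜]

/-- The Hilbert function of a graded module (over the degree-zero subring). -/
def hf (𝒜 : ℤ → AddSubgroup R) [GradedRing 𝒜] {X : Type u} [AddCommGroup X] [Module R X]
    (𝒳 : ℤ → AddSubgroup X) [SetLike.GradedSMul 𝒜 𝒳] (n : ℤ) : ℕ :=
  (Module.length (GrLC.deg0 𝒜) (GrLC.comp 𝒜 𝒳 n)).toNat

section Pieces

variable {M' : Type u} [AddCommGroup M'] [Module R M'] {ℳ' : ℤ → AddSubgroup M'}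
  [DirectSum.Decomposition ℳ'] [SetLike.GradedSMul 𝒜 ℳ']
variable {M : Type u} [AddCommGroup M] [Module R M] {ℳ : ℤ → AddSubgroup M}
  [DirectSum.Decomposition ℳ] [SetLike.GradedSMul 𝒜 ℳ]
variable {M'' : Type u} [AddCommGroup M''] [Module R M''] {ℳ'' : ℤ → AddSubgroup M''}
  [DirectSum.Decomposition ℳ''] [SetLike.GradedSMul 𝒜 ℳ'']
variable (f : M' →ₗ[R] M) (g : M →ₗ[R] M'')
variable (hfi : Function.Injective f) (hgs : Function.Surjective g)
  (hfg : LinearMap.ker g = LinearMap.range f) (hf' : GrLC.IsGrHom ℳ' ℳ f)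
  (hg : GrLC.IsGrHom ℳ ℳ'' g)

include hfi hgs hfg hf' hg in
/-- Lengths of graded pieces are additive along graded short exact sequences. -/
theorem length_comp_add (n : ℤ) :
    Module.length (GrLC.deg0 𝒜) (GrLC.comp 𝒜 ℳ n) =
      Module.length (GrLC.deg0 𝒜) (GrLC.comp 𝒜 ℳ' n) +
        Module.length (GrLC.deg0 𝒜) (GrLC.comp 𝒜 ℳ'' n) := by
  classical
  apply Module.length_eq_add_of_exact (compMap 𝒜 ℳ' ℳ f hf' n) (compMap 𝒜 ℳ ℳ'' g hg n)
  · intro x y hxy
    apply Subtype.ext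
    apply hfi
    exact congrArg Subtype.val hxy
  · rintro ⟨y, hy⟩
    obtain ⟨m, rfl⟩ := hgs y
    refine ⟨⟨((decompose ℳ m) n : M), SetLike.coe_mem _⟩, ?_⟩
    apply Subtype.ext
    show g ((decompose ℳ m) n : M) = g m
    rw [← Groth.Agent.Lib.Helper29GrHom.decompose_map ℳ'' ℳ g hg m n]
    exact DirectSum.decompose_of_mem_same ℳ'' hy
  · rintro ⟨m, hm⟩
    constructor
    · intro h0
      have h1 : g m = 0 := congrArg Subtype.val h0
      have h2 : m ∈ LinearMap.range f := hfg ▸ (LinearMap.mem_ker.mpr h1)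
      obtain ⟨m', rfl⟩ := h2
      refine ⟨⟨((decompose ℳ' m') n : M'), SetLike.coe_mem _⟩, ?_⟩
      apply Subtype.ext
      show f ((decompose ℳ' m') n : M') = f m'
      rw [← Groth.Agent.Lib.Helper29GrHom.decompose_map ℳ ℳ' f hf' m' n]
      exact DirectSum.decompose_of_mem_same ℳ hm
    · rintro ⟨m', hm'⟩
      apply Subtype.ext
      have h1 : f (m' : M') = m := congrArg Subtype.val hm'
      show g m = 0
      rw [← h1]
      have : f (m' : M') ∈ LinearMap.ker g := hfg ▸ LinearMap.mem_range_self f _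
      exact this

end Pieces

variable [IsArtinianRing (GrLC.deg0 𝒜)]
variable {X : Type u} [AddCommGroup X] [Module R X] {𝒳 : ℤ → AddSubgroup X}
  [DirectSum.Decomposition 𝒳] [SetLike.GradedSMul 𝒜 𝒳]

theorem length_comp_ne_top [Module.Finite R X] (n : ℤ) :
    Module.length (GrLC.deg0 𝒜) (GrLC.comp 𝒜 𝒳 n) ≠ ⊤ := by
  haveI : IsNoetherian R X := isNoetherian_of_isNoetherianRing_of_finite R X
  haveI : Module.Finite (GrLC.deg0 𝒜) (GrLC.comp 𝒜 𝒳 n) := finite_comp 𝒜 𝒳 n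
  exact Module.length_ne_top

variable (a : HomogeneousIdeal 𝒜)

theorem length_Hcomp_ne_top [Module.Finite R X] (hpos : ∀ n : ℤ, n < 0 → 𝒜 n = ⊥)
    (ha : a.toIdeal = Ideal.span (⋃ n ∈ Set.Ioi (0 : ℤ), (𝒜 n : Set R)))
    (G : GrLC.StarInjRes 𝒜 𝒳) (i : ℕ) (n : ℤ) :
    Module.length (GrLC.deg0 𝒜) (G.Hcomp a i n) ≠ ⊤ := by
  haveI : Module.Finite (GrLC.deg0 𝒜) (G.Hcomp a i n) := finite_Hcomp a hpos ha i X 𝒳 G n
  exact Module.length_ne_top

/-- `H^0_a(X)_n ≅ Γ_a(X)_n`: equality of lengths. -/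
theorem length_Hcomp_zero (G : GrLC.StarInjRes 𝒜 𝒳) (n : ℤ) :
    Module.length (GrLC.deg0 𝒜) (G.Hcomp a 0 n) =
      Module.length (GrLC.deg0 𝒜)
        ↥(GrLC.comp 𝒜 𝒳 n ⊓ (GrLC.gam a.toIdeal X).restrictScalars (GrLC.deg0 𝒜)) := by
  let T : Submodule (GrLC.deg0 𝒜) X :=
    GrLC.comp 𝒜 𝒳 n ⊓ (GrLC.gam a.toIdeal X).restrictScalars (GrLC.deg0 𝒜)
  have hcoc : ∀ m : T, G.ε (m : X) ∈ G.cocyc a 0 := by
    intro m
    refine ⟨map_mem_gam a.toIdeal G.ε m.2.2, ?_⟩
    show G.d 0 (G.ε (m : X)) = 0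
    have : G.ε (m : X) ∈ LinearMap.ker (G.d 0) := by
      rw [G.exact_zero]
      exact ⟨_, rfl⟩
    exact this
  let Φ : T →ₗ[GrLC.deg0 𝒜] G.Hcomp a 0 n :=
    { toFun := fun m => ⟨G.toH a 0 ⟨G.ε (m : X), hcoc m⟩,
        ⟨⟨G.ε (m : X), hcoc m⟩, G.ε_grHom n _ m.2.1, rfl⟩⟩
      map_add' := by
        intro m m'
        apply Subtype.ext
        show G.toH a 0 ⟨G.ε ((m + m' : T) : X), _⟩ =
          G.toH a 0 ⟨G.ε (m : X), _⟩ + G.toH a 0 ⟨G.ε (m' : X), _⟩
        rw [← map_add]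
        congr 1
        apply Subtype.ext
        show G.ε ((m + m' : T) : X) = G.ε (m : X) + G.ε (m' : X)
        rw [Submodule.coe_add, map_add]
      map_smul' := by
        intro r m
        apply Subtype.ext
        show G.toH a 0 ⟨G.ε ((r • m : T) : X), _⟩ = (r : R) • G.toH a 0 ⟨G.ε (m : X), _⟩
        rw [← map_smul]
        congr 1
        apply Subtype.ext
        show G.ε ((r • m : T) : X) = (r : R) • G.ε (m : X)
        rw [← map_smul]
        rfl }
  have hΦs : Function.Surjective Φ := by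
    rintro ⟨y, z, hzγ, rfl⟩
    have hzk : (z : (G.X 0).carrier) ∈ LinearMap.range G.ε := G.exact_zero ▸ z.2.2
    obtain ⟨m, hm⟩ := hzk
    have hmn : m ∈ 𝒳 n :=
      mem_of_map_mem 𝒳 (G.X 0).gr G.ε G.ε_grHom G.ε_injective (hm ▸ hzγ)
    have hmg : m ∈ GrLC.gam a.toIdeal X := by
      obtain ⟨k, hk⟩ := z.2.1
      refine ⟨k, fun r hr => ?_⟩
      apply G.ε_injective
      rw [map_smul, hm, hk r hr, map_zero]
    refine ⟨⟨m, hmn, hmg⟩, ?_⟩
    apply Subtype.ext
    show G.toH a 0 ⟨G.ε m, _⟩ = G.toH a 0 z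
    congr 1
    exact Subtype.ext hm
  have hΦi : Function.Injective Φ := by
    rw [injective_iff_map_eq_zero]
    intro m hm
    have h1 : G.toH a 0 ⟨G.ε (m : X), hcoc m⟩ = 0 := congrArg Subtype.val hm
    rw [Groth.Agent.Lib.Helper29GrResCompare.toH_eq_zero_iff] at h1
    have h2 : G.ε (m : X) = 0 := (Submodule.mem_bot R).mp h1
    apply Subtype.ext
    apply G.ε_injective
    rw [h2, Submodule.coe_zero, map_zero]
  exact (LinearEquiv.ofBijective Φ ⟨hΦi, hΦs⟩).length_eq.symm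

/-- For an `a`-torsion module, `H^0_a(X)_n` has the length of `X_n`. -/
theorem length_Hcomp_zero_of_torsion (G : GrLC.StarInjRes 𝒜 𝒳) (htors : GrLC.gam a.toIdeal X = ⊤)
    (n : ℤ) :
    Module.length (GrLC.deg0 𝒜) (G.Hcomp a 0 n) =
      Module.length (GrLC.deg0 𝒜) (GrLC.comp 𝒜 𝒳 n) := by
  rw [length_Hcomp_zero a G n]
  have : GrLC.comp 𝒜 𝒳 n ⊓ (GrLC.gam a.toIdeal X).restrictScalars (GrLC.deg0 𝒜) =
      GrLC.comp 𝒜 𝒳 n := by
    rw [htors]
    exact inf_of_le_left (fun x _ => Submodule.mem_top)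
  rw [this]

/-- For an `a`-torsion module the higher graded local cohomology vanishes. -/
theorem Hcomp_succ_of_torsion (G : GrLC.StarInjRes 𝒜 𝒳) (htors : GrLC.gam a.toIdeal X = ⊤)
    (i : ℕ) (n : ℤ) : G.Hcomp a (i + 1) n = ⊥ := by
  have htors' : LocCoh.IsPowerTorsion a.toIdeal X := by
    intro x
    have : x ∈ GrLC.gam a.toIdeal X := htors ▸ Submodule.mem_top
    exact this
  have hvan : ∀ y : LocCoh.H a.toIdeal (i + 1) X, y = 0 := by
    intro y
    have := (Groth.Agent.S0323.result R a.toIdeal X htors').2 (i + 1) (Nat.succ_pos i)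
    exact Subsingleton.elim _ _
  exact Hcomp_eq_bot_of_H_eq_zero a G (i + 1) hvan n

end Groth.Agent.Lib.Helper29GrSerre
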