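import Groth.Agent.Lib.Helper29GrSerre1

/-! The Euler characteristic `χ(n) = Σ (-1)^i ℓ(H^i_{R_+}(X)_n)` of graded local cohomology:
additivity, independence of the resolution, the torsion case, eventual vanishing, shifts
(helper29). -/

set_option autoImplicit false
set_option linter.style.haveILetI false
set_option linter.unusedSectionVars false
open DirectSum

noncomputable section

namespace Groth.Agent.Lib.Helper29GrSerre

open Groth.Agent.Lib.Helper29GrEulerAdd Groth.Agent.Lib.Helper29GrHom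
  Groth.Agent.Lib.Helper29GrPieceFin Groth.Agent.Lib.Helper29.GrDeg0
  Groth.Agent.Lib.Helper29GrFinite Groth.Agent.Lib.Helper29GrVanish
  Groth.Agent.Lib.Helper29GrMulLES Groth.Agent.Lib.Helper29GrShift
  Groth.Agent.Lib.Helper29GrConeLES Groth.Agent.Lib.Helper29GrCMEnd
  Groth.Agent.Lib.Helper29GrTorsBound

universe u

variable {R : Type u} [CommRing R] [IsNoetherianRing R] {𝒜 : ℤ → AddSubgroup R} [GradedRing 𝒜]
variable (a : HomogeneousIdeal 𝒜)

/-- The Euler characteristic of the degree-`n` pieces of graded local cohomology, truncated at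
cohomological degree `D`. -/
def chi (D : ℕ) {X : Type u} [AddCommGroup X] [Module R X] {𝒳 : ℤ → AddSubgroup X}
    [DirectSum.Decomposition 𝒳] [SetLike.GradedSMul 𝒜 𝒳] (G : GrLC.StarInjRes 𝒜 𝒳) (n : ℤ) : ℤ :=
  ∑ i ∈ Finset.range (D + 1), (-1 : ℤ) ^ i * (hl G a i n : ℤ)

section Basic

variable {X : Type u} [AddCommGroup X] [Module R X] {𝒳 : ℤ → AddSubgroup X}
  [DirectSum.Decomposition 𝒳] [SetLike.GradedSMul 𝒜 𝒳]

theorem chi_indep (D : ℕ) (G G' : GrLC.StarInjRes 𝒜 𝒳) (n : ℤ) : chi a D G n = chi a D G' n := by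
  unfold chi hl
  refine Finset.sum_congr rfl fun i _ => ?_
  rw [length_Hcomp_eq a G G' i n]

theorem chi_shift (D : ℕ) (G : GrLC.StarInjRes 𝒜 𝒳) (k n : ℤ) :
    chi a D (shiftRes G k) n = chi a D G (n + k) := rfl

theorem hf_shift (k n : ℤ) : hf 𝒜 (shiftGr 𝒳 k) n = hf 𝒜 𝒳 (n + k) := rfl

end Basic

section Add

variable [IsArtinianRing (GrLC.deg0 𝒜)]
variable (hpos : ∀ n : ℤ, n < 0 → 𝒜 n = ⊥)
  (ha : a.toIdeal = Ideal.span (⋃ n ∈ Set.Ioi (0 : ℤ), (𝒜 n : Set R)))
variable (D : ℕ) (hD : Groth.Agent.Lib.Helper8.Cd.Bound a.toIdeal D)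
variable {M' : Type u} [AddCommGroup M'] [Module R M'] {ℳ' : ℤ → AddSubgroup M'}
  [DirectSum.Decomposition ℳ'] [SetLike.GradedSMul 𝒜 ℳ']
variable {M : Type u} [AddCommGroup M] [Module R M] {ℳ : ℤ → AddSubgroup M}
  [DirectSum.Decomposition ℳ] [SetLike.GradedSMul 𝒜 ℳ]
variable {M'' : Type u} [AddCommGroup M''] [Module R M''] {ℳ'' : ℤ → AddSubgroup M''}
  [DirectSum.Decomposition ℳ''] [SetLike.GradedSMul 𝒜 ℳ'']
variable [Module.Finite R M'] [Module.Finite R M] [Module.Finite R M'']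
variable (E' : GrLC.StarInjRes 𝒜 ℳ') (E : GrLC.StarInjRes 𝒜 ℳ) (F : GrLC.StarInjRes 𝒜 ℳ'')
variable (f : M' →ₗ[R] M) (g : M →ₗ[R] M'')
variable (hfi : Function.Injective f) (hgs : Function.Surjective g)
  (hfg : LinearMap.ker g = LinearMap.range f) (hf' : GrLC.IsGrHom ℳ' ℳ f)
  (hg : GrLC.IsGrHom ℳ ℳ'' g)

include hpos ha hD hfi hgs hfg hf' hg in
/-- Additivity of `χ` along graded short exact sequences of finitely generated modules. -/
theorem chi_add (n : ℤ) : chi a D E n = chi a D E' n + chi a D F n := by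
  have key := euler_additive E' E F f g hfi hgs hfg hf' hg a n
    (fun i => length_Hcomp_ne_top a hpos ha E' i n)
    (fun i => length_Hcomp_ne_top a hpos ha E i n)
    (fun i => length_Hcomp_ne_top a hpos ha F i n) D
    (Hcomp_eq_bot_of_H_eq_zero a E' (D + 1) (hD M' (D + 1) (Nat.lt_succ_self D)) n)
  unfold chi
  have h2 : ∑ i ∈ Finset.range (D + 1), (-1 : ℤ) ^ i *
      ((hl E' a i n : ℤ) - (hl E a i n : ℤ) + (hl F a i n : ℤ)) =
      ∑ i ∈ Finset.range (D + 1), (-1 : ℤ) ^ i * (hl E' a i n : ℤ) -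
      ∑ i ∈ Finset.range (D + 1), (-1 : ℤ) ^ i * (hl E a i n : ℤ) +
      ∑ i ∈ Finset.range (D + 1), (-1 : ℤ) ^ i * (hl F a i n : ℤ) := by
    rw [← Finset.sum_sub_distrib, ← Finset.sum_add_distrib]
    refine Finset.sum_congr rfl fun i _ => ?_
    ring
  rw [h2] at key
  linarith

include hfi hgs hfg hf' hg in
/-- Additivity of the Hilbert function along graded short exact sequences. -/
theorem hf_add (n : ℤ) : hf 𝒜 ℳ n = hf 𝒜 ℳ' n + hf 𝒜 ℳ'' n := by
  unfold hf
  rw [length_comp_add f g hfi hgs hfg hf' hg n]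
  exact ENat.toNat_add (length_comp_ne_top n) (length_comp_ne_top n)

omit [Module.Finite R M'] [Module.Finite R M''] in
include hpos ha hD in
/-- For a torsion module, `χ` is the Hilbert function. -/
theorem chi_of_torsion (htors : GrLC.gam a.toIdeal M = ⊤) (n : ℤ) :
    chi a D E n = (hf 𝒜 ℳ n : ℤ) := by
  unfold chi
  rw [Finset.sum_range_succ']
  have h0 : ∑ i ∈ Finset.range D, (-1 : ℤ) ^ (i + 1) * (hl E a (i + 1) n : ℤ) = 0 := by
    refine Finset.sum_eq_zero fun i _ => ?_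
    have : hl E a (i + 1) n = 0 := by
      unfold hl
      rw [Hcomp_succ_of_torsion a E htors i n]
      simp
    rw [this]
    simp
  rw [h0, zero_add, pow_zero, one_mul]
  unfold hl hf
  rw [length_Hcomp_zero_of_torsion a E htors n]

omit [Module.Finite R M'] [Module.Finite R M''] in
include hpos ha in
/-- `χ(n) = 0` for `n ≫ 0`. -/
theorem chi_eventually_zero : ∃ r : ℤ, ∀ n, r ≤ n → chi a D E n = 0 := by
  obtain ⟨r, hr⟩ := exists_bound_uniform a hpos ha E
  refine ⟨r, fun n hn => ?_⟩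
  unfold chi
  refine Finset.sum_eq_zero fun i _ => ?_
  have : hl E a i n = 0 := by
    unfold hl
    rw [hr i n hn]
    simp
  rw [this]
  simp

omit [Module.Finite R M'] [Module.Finite R M''] in
include ha in
/-- The Hilbert function of a finitely generated torsion module vanishes in high degrees. -/
theorem hf_eventually_zero_of_torsion (htors : GrLC.gam a.toIdeal M = ⊤) :
    ∃ r : ℤ, ∀ n, r ≤ n → hf 𝒜 ℳ n = 0 := by
  obtain ⟨n₀, hn₀⟩ := exists_bound_gam 𝒜 ℳ a ha
  refine ⟨n₀, fun n hn => ?_⟩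
  unfold hf
  have : Subsingleton ↥(GrLC.comp 𝒜 ℳ n) := by
    refine ⟨fun x y => ?_⟩
    apply Subtype.ext
    rw [hn₀ n hn x.1 x.2 (htors ▸ Submodule.mem_top), hn₀ n hn y.1 y.2 (htors ▸ Submodule.mem_top)]
  rw [Module.length_eq_zero]
  rfl

end Add

end Groth.Agent.Lib.Helper29GrSerre
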