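import Groth.Agent.Lib.Helper29GrSerre2

/-! The Serre–Grothendieck formula `H_X(n) - P_X(n) = Σ (-1)^i ℓ(H^i_{R_+}(X)_n)` for `R_+`:
the two reduction steps and the Noetherian induction (helper29). -/

set_option autoImplicit false
set_option linter.style.haveILetI false
set_option linter.unusedSectionVars false
open DirectSum Pointwise

noncomputable section

namespace Groth.Agent.Lib.Helper29GrSerre

open Groth.Agent.Lib.Helper29GrEulerAdd Groth.Agent.Lib.Helper29GrHom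
  Groth.Agent.Lib.Helper29GrPieceFin Groth.Agent.Lib.Helper29.GrDeg0
  Groth.Agent.Lib.Helper29GrFinite Groth.Agent.Lib.Helper29GrVanish
  Groth.Agent.Lib.Helper29GrMulLES Groth.Agent.Lib.Helper29GrShift
  Groth.Agent.Lib.Helper29GrConeLES Groth.Agent.Lib.Helper29GrCMEnd
  Groth.Agent.Lib.Helper29GrTorsBound Groth.Agent.Lib.Helper29GrQuot
  Groth.Agent.Lib.Helper29GrSub Groth.Agent.Lib.Helper29GrRes Groth.Agent.Lib.Helper29GrGam
  Groth.Agent.Lib.Helper29GrRegSeqEnd Groth.Agent.Lib.Helper29GrAvoid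

universe u

variable {R : Type u} [CommRing R] [IsNoetherianRing R] {𝒜 : ℤ → AddSubgroup R} [GradedRing 𝒜]
variable (a : HomogeneousIdeal 𝒜)
variable [IsArtinianRing (GrLC.deg0 𝒜)]
variable (hpos : ∀ n : ℤ, n < 0 → 𝒜 n = ⊥)
  (ha : a.toIdeal = Ideal.span (⋃ n ∈ Set.Ioi (0 : ℤ), (𝒜 n : Set R)))
variable (D : ℕ) (hD : Groth.Agent.Lib.Helper8.Cd.Bound a.toIdeal D)

section RegStep

variable {Y : Type u} [AddCommGroup Y] [Module R Y] {𝒴 : ℤ → AddSubgroup Y}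
  [DirectSum.Decomposition 𝒴] [SetLike.GradedSMul 𝒜 𝒴] [Module.Finite R Y]
variable {N : Type u} [AddCommGroup N] [Module R N] {𝒩 : ℤ → AddSubgroup N}
  [DirectSum.Decomposition 𝒩] [SetLike.GradedSMul 𝒜 𝒩] [Module.Finite R N]

include hpos ha hD in
/-- The regular-element step: the formula for `Y/xY` implies the formula for `Y`. -/
theorem reg_step (E : GrLC.StarInjRes 𝒜 𝒴) (F : GrLC.StarInjRes 𝒜 𝒩) (x : R) (k : ℤ) (hk : 0 < k)
    (hx : x ∈ 𝒜 k) (hreg : IsSMulRegular Y x) (g : Y →ₗ[R] N) (hgs : Function.Surjective g)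
    (hg : GrLC.IsGrHom 𝒴 𝒩 g)
    (hker : LinearMap.ker g = LinearMap.range (x • (LinearMap.id : Y →ₗ[R] Y)))
    (P : Polynomial ℚ) (hP : ∃ N₀ : ℤ, ∀ n : ℤ, N₀ ≤ n → P.eval (n : ℚ) = (hf 𝒜 𝒴 n : ℚ))
    (hF : ∀ n : ℤ, (hf 𝒜 𝒩 n : ℚ) -
      (P - P.comp (Polynomial.X - Polynomial.C (k : ℚ))).eval (n : ℚ) = (chi a D F n : ℚ))
    (n : ℤ) : (hf 𝒜 𝒴 n : ℚ) - P.eval (n : ℚ) = (chi a D E n : ℚ) := by
  have hxhom : GrLC.IsGrHom (shiftGr 𝒴 (-k)) 𝒴 (x • (LinearMap.id : Y →ₗ[R] Y)) := by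
    intro γ u hu
    have h := SetLike.GradedSMul.smul_mem (A := 𝒜) (B := 𝒴) hx (show u ∈ 𝒴 (γ + -k) from hu)
    rw [vadd_eq_add, add_neg_cancel_comm_assoc] at h
    exact h
  have h1 : ∀ n, hf 𝒜 𝒴 n = hf 𝒜 𝒴 (n + -k) + hf 𝒜 𝒩 n := fun n =>
    hf_add (ℳ' := shiftGr 𝒴 (-k)) (x • (LinearMap.id : Y →ₗ[R] Y)) g hreg hgs hker hxhom hg n
  have h2 : ∀ n, chi a D E n = chi a D E (n + -k) + chi a D F n := fun n =>
    chi_add a hpos ha D hD (shiftRes E (-k)) E F (x • (LinearMap.id : Y →ₗ[R] Y)) g hreg hgs hker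
      hxhom hg n
  set Dn : ℤ → ℚ := fun n => (hf 𝒜 𝒴 n : ℚ) - P.eval (n : ℚ) - (chi a D E n : ℚ) with hDn
  have hstep : ∀ n, Dn n = Dn (n + -k) := by
    intro n
    have e1 := hF n
    rw [Polynomial.eval_sub, Polynomial.eval_comp, Polynomial.eval_sub, Polynomial.eval_X,
      Polynomial.eval_C] at e1
    have e2 : ((hf 𝒜 𝒴 n : ℕ) : ℚ) = (hf 𝒜 𝒴 (n + -k) : ℚ) + (hf 𝒜 𝒩 n : ℚ) := by
      rw [h1 n]
      push_cast
      ring
    have e3 : ((chi a D E n : ℤ) : ℚ) = (chi a D E (n + -k) : ℚ) + (chi a D F n : ℚ) := by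
      rw [h2 n]
      push_cast
      ring
    have e4 : ((n + -k : ℤ) : ℚ) = (n : ℚ) - (k : ℚ) := by
      push_cast
      ring
    simp only [hDn]
    rw [e2, e3, e4]
    linarith
  have hiter : ∀ (j : ℕ) (n : ℤ), Dn (n + j * k) = Dn n := by
    intro j
    induction j with
    | zero =>
      intro n
      simp
    | succ j ih =>
      intro n
      rw [hstep (n + ((j + 1 : ℕ) : ℤ) * k)]
      have : n + ((j + 1 : ℕ) : ℤ) * k + -k = n + (j : ℤ) * k := by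
        push_cast
        ring
      rw [this]
      exact ih n
  obtain ⟨N₀, hN₀⟩ := hP
  obtain ⟨r, hr⟩ := chi_eventually_zero a hpos ha D E
  have hzero : ∀ m, N₀ ≤ m → r ≤ m → Dn m = 0 := by
    intro m h1 h2
    simp only [hDn]
    rw [hN₀ m h1, hr m h2]
    simp
  have hfin : Dn n = 0 := by
    rw [← hiter ((max N₀ r - n).toNat) n]
    apply hzero
    · have h3 : ((max N₀ r - n).toNat : ℤ) * k ≥ (max N₀ r - n).toNat := by
        have : (0 : ℤ) ≤ ((max N₀ r - n).toNat : ℤ) := Int.natCast_nonneg _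
        nlinarith
      have h4 := Int.self_le_toNat (max N₀ r - n)
      have h5 := le_max_left N₀ r
      omega
    · have h3 : ((max N₀ r - n).toNat : ℤ) * k ≥ (max N₀ r - n).toNat := by
        have : (0 : ℤ) ≤ ((max N₀ r - n).toNat : ℤ) := Int.natCast_nonneg _
        nlinarith
      have h4 := Int.self_le_toNat (max N₀ r - n)
      have h5 := le_max_right N₀ r
      omega
  simp only [hDn] at hfin
  linarith

end RegStep

section QuotGam

variable {X : Type u} [AddCommGroup X] [Module R X] {𝒳 : ℤ → AddSubgroup X}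
  [DirectSum.Decomposition 𝒳] [SetLike.GradedSMul 𝒜 𝒳] [Module.Finite R X]

include hpos ha hD in
/-- Passing to `X/Γ_a(X)`: `H_X - χ_X` is unchanged, and the Hilbert functions agree in high
degrees. -/
theorem quot_gam_step (G : GrLC.StarInjRes 𝒜 𝒳)
    [DirectSum.Decomposition (quotGr 𝒳 (GrLC.gam a.toIdeal X))]
    [SetLike.GradedSMul 𝒜 (quotGr 𝒳 (GrLC.gam a.toIdeal X))]
    (G' : GrLC.StarInjRes 𝒜 (quotGr 𝒳 (GrLC.gam a.toIdeal X))) :
    (∀ n : ℤ, (hf 𝒜 𝒳 n : ℤ) - chi a D G n =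
      (hf 𝒜 (quotGr 𝒳 (GrLC.gam a.toIdeal X)) n : ℤ) - chi a D G' n) ∧
    ∃ r : ℤ, ∀ n, r ≤ n → hf 𝒜 𝒳 n = hf 𝒜 (quotGr 𝒳 (GrLC.gam a.toIdeal X)) n := by
  have hP : (GrLC.gam a.toIdeal X).IsHomogeneous 𝒳 := gam_isHomogeneous 𝒜 𝒳 a
  letI : DirectSum.Decomposition (subGr 𝒳 (GrLC.gam a.toIdeal X)) := subDecomposition 𝒳 _ hP
  letI : SetLike.GradedSMul 𝒜 (subGr 𝒳 (GrLC.gam a.toIdeal X)) := sub_gradedSMul 𝒳 _ 𝒜
  haveI : IsNoetherian R X := isNoetherian_of_isNoetherianRing_of_finite R X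
  haveI : Module.Finite R ↥(GrLC.gam a.toIdeal X) := Module.IsNoetherian.finite R _
  let EP : GrLC.StarInjRes 𝒜 (subGr 𝒳 (GrLC.gam a.toIdeal X)) :=
    starInjRes 𝒜 (subGr 𝒳 (GrLC.gam a.toIdeal X))
  have htors : GrLC.gam a.toIdeal ↥(GrLC.gam a.toIdeal X) = ⊤ := by
    rw [eq_top_iff]
    rintro ⟨m, k, hk⟩ -
    refine ⟨k, fun r hr => ?_⟩
    apply Subtype.ext
    rw [Submodule.coe_smul]
    exact hk r hr
  have hg : GrLC.IsGrHom 𝒳 (quotGr 𝒳 (GrLC.gam a.toIdeal X)) (GrLC.gam a.toIdeal X).mkQ :=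
    fun g m hm => ⟨m, hm, rfl⟩
  have hfg : LinearMap.ker (GrLC.gam a.toIdeal X).mkQ =
      LinearMap.range (GrLC.gam a.toIdeal X).subtype := by
    rw [Submodule.ker_mkQ, Submodule.range_subtype]
  have hsub : GrLC.IsGrHom (subGr 𝒳 (GrLC.gam a.toIdeal X)) 𝒳 (GrLC.gam a.toIdeal X).subtype :=
    fun g m hm => hm
  have h1 : ∀ n, hf 𝒜 𝒳 n = hf 𝒜 (subGr 𝒳 (GrLC.gam a.toIdeal X)) n +
      hf 𝒜 (quotGr 𝒳 (GrLC.gam a.toIdeal X)) n := fun n =>
    hf_add (GrLC.gam a.toIdeal X).subtype (GrLC.gam a.toIdeal X).mkQ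
      (Submodule.injective_subtype _) (Submodule.mkQ_surjective _) hfg hsub hg n
  have h2 : ∀ n, chi a D G n = chi a D EP n + chi a D G' n := fun n =>
    chi_add a hpos ha D hD EP G G' (GrLC.gam a.toIdeal X).subtype (GrLC.gam a.toIdeal X).mkQ
      (Submodule.injective_subtype _) (Submodule.mkQ_surjective _) hfg hsub hg n
  have h3 : ∀ n, chi a D EP n = (hf 𝒜 (subGr 𝒳 (GrLC.gam a.toIdeal X)) n : ℤ) := fun n =>
    chi_of_torsion a hpos ha D hD EP htors n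
  refine ⟨fun n => ?_, ?_⟩
  · rw [h1 n, h2 n, h3 n]
    push_cast
    ring
  · obtain ⟨r, hr⟩ := hf_eventually_zero_of_torsion (ℳ := subGr 𝒳 (GrLC.gam a.toIdeal X)) a ha htors
    refine ⟨r, fun n hn => ?_⟩
    rw [h1 n, hr n hn, zero_add]

end QuotGam

theorem poly_eq_zero_of_eventually (P : Polynomial ℚ) (N₀ : ℤ)
    (h : ∀ n : ℤ, N₀ ≤ n → P.eval (n : ℚ) = 0) : P = 0 := by
  apply Polynomial.eq_zero_of_infinite_isRoot
  apply Set.infinite_of_injective_forall_mem (f := fun j : ℕ => ((N₀ + j : ℤ) : ℚ))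
  · intro i j hij
    have h0 : ((N₀ + i : ℤ) : ℚ) = ((N₀ + j : ℤ) : ℚ) := hij
    have h1 : (N₀ + i : ℤ) = N₀ + j := by exact_mod_cast h0
    omega
  · intro j
    exact h _ (by omega)

section HfReg

variable {Y : Type u} [AddCommGroup Y] [Module R Y] {𝒴 : ℤ → AddSubgroup Y}
  [DirectSum.Decomposition 𝒴] [SetLike.GradedSMul 𝒜 𝒴] [Module.Finite R Y]
variable {N : Type u} [AddCommGroup N] [Module R N] {𝒩 : ℤ → AddSubgroup N}
  [DirectSum.Decomposition 𝒩] [SetLike.GradedSMul 𝒜 𝒩] [Module.Finite R N]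

/-- Hilbert functions along `0 → Y(-k) → Y → Y/xY → 0`. -/
theorem hf_reg (x : R) (k : ℤ) (hx : x ∈ 𝒜 k) (hreg : IsSMulRegular Y x) (g : Y →ₗ[R] N)
    (hgs : Function.Surjective g) (hg : GrLC.IsGrHom 𝒴 𝒩 g)
    (hker : LinearMap.ker g = LinearMap.range (x • (LinearMap.id : Y →ₗ[R] Y))) (n : ℤ) :
    hf 𝒜 𝒴 n = hf 𝒜 𝒴 (n + -k) + hf 𝒜 𝒩 n := by
  have hxhom : GrLC.IsGrHom (shiftGr 𝒴 (-k)) 𝒴 (x • (LinearMap.id : Y →ₗ[R] Y)) := by
    intro γ u hu
    have h := SetLike.GradedSMul.smul_mem (A := 𝒜) (B := 𝒴) hx (show u ∈ 𝒴 (γ + -k) from hu)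
    rw [vadd_eq_add, add_neg_cancel_comm_assoc] at h
    exact h
  exact hf_add (ℳ' := shiftGr 𝒴 (-k)) (x • (LinearMap.id : Y →ₗ[R] Y)) g hreg hgs hker hxhom hg n

end HfReg

include hpos ha hD in
/-- The Serre–Grothendieck formula for `R_+`, by Noetherian induction. -/
theorem serre_aux (M₀ : Type u) [AddCommGroup M₀] [Module R M₀] [Module.Finite R M₀] :
    ∀ (K : Submodule R M₀) (X : Type u) [AddCommGroup X] [Module R X] (𝒳 : ℤ → AddSubgroup X)
      [DirectSum.Decomposition 𝒳] [SetLike.GradedSMul 𝒜 𝒳] (π : M₀ →ₗ[R] X),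
      Function.Surjective π → LinearMap.ker π = K →
      ∀ (G : GrLC.StarInjRes 𝒜 𝒳) (P : Polynomial ℚ),
      (∃ N₀ : ℤ, ∀ n : ℤ, N₀ ≤ n → P.eval (n : ℚ) = (hf 𝒜 𝒳 n : ℚ)) → ∀ n : ℤ,
      (hf 𝒜 𝒳 n : ℚ) - P.eval (n : ℚ) = (chi a D G n : ℚ) := by
  haveI : IsNoetherian R M₀ := isNoetherian_of_isNoetherianRing_of_finite R M₀
  intro K
  induction K using IsNoetherian.induction with
  | hgt K ih =>
  intro X _ _ 𝒳 _ _ π hπ hK G P hP n
  haveI : Module.Finite R X := Module.Finite.of_surjective π hπ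
  by_cases hT : GrLC.gam a.toIdeal X = ⊤
  · -- torsion case
    obtain ⟨r, hr⟩ := hf_eventually_zero_of_torsion (ℳ := 𝒳) a ha hT
    obtain ⟨N₀, hN₀⟩ := hP
    have hP0 : P = 0 := poly_eq_zero_of_eventually P (max N₀ r) (fun m hm => by
      rw [hN₀ m (le_trans (le_max_left _ _) hm), hr m (le_trans (le_max_right _ _) hm)]
      simp)
    rw [hP0, Polynomial.eval_zero, sub_zero, chi_of_torsion a hpos ha D hD G hT n]
    simp
  · have hhom : (GrLC.gam a.toIdeal X).IsHomogeneous 𝒳 := gam_isHomogeneous 𝒜 𝒳 a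
    letI : DirectSum.Decomposition (quotGr 𝒳 (GrLC.gam a.toIdeal X)) :=
      quotDecomposition 𝒳 _ hhom
    letI : SetLike.GradedSMul 𝒜 (quotGr 𝒳 (GrLC.gam a.toIdeal X)) := quot_gradedSMul 𝒳 _ 𝒜
    let G' : GrLC.StarInjRes 𝒜 (quotGr 𝒳 (GrLC.gam a.toIdeal X)) :=
      starInjRes 𝒜 (quotGr 𝒳 (GrLC.gam a.toIdeal X))
    obtain ⟨hA1, r, hr⟩ := quot_gam_step a hpos ha D hD G G'
    have hP' : ∃ N₀ : ℤ, ∀ n : ℤ, N₀ ≤ n →
        P.eval (n : ℚ) = (hf 𝒜 (quotGr 𝒳 (GrLC.gam a.toIdeal X)) n : ℚ) := by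
      obtain ⟨N₀, hN₀⟩ := hP
      exact ⟨max N₀ r, fun m hm => by
        rw [hN₀ m (le_trans (le_max_left _ _) hm), hr m (le_trans (le_max_right _ _) hm)]⟩
    suffices hbar : (hf 𝒜 (quotGr 𝒳 (GrLC.gam a.toIdeal X)) n : ℚ) - P.eval (n : ℚ) =
        (chi a D G' n : ℚ) by
      have h' := congrArg (Int.cast : ℤ → ℚ) (hA1 n)
      push_cast at h'
      linarith
    obtain ⟨k, hk, x, hxk, hxa, hreg⟩ := exists_regular 𝒜 (quotGr 𝒳 (GrLC.gam a.toIdeal X)) hpos a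
      ha (quot_gam_torsionFree a.toIdeal X)
    have hQhom : (x • (⊤ : Submodule R (X ⧸ GrLC.gam a.toIdeal X))).IsHomogeneous
        (quotGr 𝒳 (GrLC.gam a.toIdeal X)) := smul_top_isHomogeneous hxk
    letI : DirectSum.Decomposition (quotGr (quotGr 𝒳 (GrLC.gam a.toIdeal X))
        (x • (⊤ : Submodule R (X ⧸ GrLC.gam a.toIdeal X)))) := quotDecomposition _ _ hQhom
    letI : SetLike.GradedSMul 𝒜 (quotGr (quotGr 𝒳 (GrLC.gam a.toIdeal X))
        (x • (⊤ : Submodule R (X ⧸ GrLC.gam a.toIdeal X)))) := quot_gradedSMul _ _ 𝒜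
    let F : GrLC.StarInjRes 𝒜 (quotGr (quotGr 𝒳 (GrLC.gam a.toIdeal X))
        (x • (⊤ : Submodule R (X ⧸ GrLC.gam a.toIdeal X)))) := starInjRes 𝒜 _
    have hmkhom : GrLC.IsGrHom (quotGr 𝒳 (GrLC.gam a.toIdeal X))
        (quotGr (quotGr 𝒳 (GrLC.gam a.toIdeal X))
          (x • (⊤ : Submodule R (X ⧸ GrLC.gam a.toIdeal X))))
        (x • (⊤ : Submodule R (X ⧸ GrLC.gam a.toIdeal X))).mkQ := fun γ y hy => ⟨y, hy, rfl⟩
    have hkermk : LinearMap.ker (x • (⊤ : Submodule R (X ⧸ GrLC.gam a.toIdeal X))).mkQ =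
        LinearMap.range (x • (LinearMap.id :
          (X ⧸ GrLC.gam a.toIdeal X) →ₗ[R] (X ⧸ GrLC.gam a.toIdeal X))) := by
      rw [Submodule.ker_mkQ, range_smul_id]
    -- the composite surjection
    let π₂ : M₀ →ₗ[R] ((X ⧸ GrLC.gam a.toIdeal X) ⧸
        (x • (⊤ : Submodule R (X ⧸ GrLC.gam a.toIdeal X)))) :=
      (x • (⊤ : Submodule R (X ⧸ GrLC.gam a.toIdeal X))).mkQ ∘ₗ (GrLC.gam a.toIdeal X).mkQ ∘ₗ π
    have hπ₂ : Function.Surjective π₂ :=
      (Submodule.mkQ_surjective _).comp ((Submodule.mkQ_surjective _).comp hπ)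
    have hlt : K < LinearMap.ker π₂ := by
      rw [← hK]
      refine lt_of_le_of_ne (fun w hw => ?_) ?_
      · rw [LinearMap.mem_ker] at hw ⊢
        show (x • (⊤ : Submodule R (X ⧸ GrLC.gam a.toIdeal X))).mkQ
          ((GrLC.gam a.toIdeal X).mkQ (π w)) = 0
        rw [hw, map_zero, map_zero]
      · intro heq
        obtain ⟨z, hz⟩ : ∃ z : X, z ∉ GrLC.gam a.toIdeal X := by
          by_contra hcon
          exact hT (eq_top_iff.mpr fun z _ => by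
            by_contra hz
            exact hcon ⟨z, hz⟩)
        obtain ⟨w, rfl⟩ := hπ z
        have hw2 : x • w ∈ LinearMap.ker π₂ := by
          rw [LinearMap.mem_ker]
          show (x • (⊤ : Submodule R (X ⧸ GrLC.gam a.toIdeal X))).mkQ
            ((GrLC.gam a.toIdeal X).mkQ (π (x • w))) = 0
          rw [map_smul, map_smul, Submodule.mkQ_apply, Submodule.Quotient.mk_eq_zero]
          exact Submodule.smul_mem_pointwise_smul _ _ _ Submodule.mem_top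
        rw [← heq, LinearMap.mem_ker, map_smul] at hw2
        have h3 : x • (GrLC.gam a.toIdeal X).mkQ (π w) = 0 := by
          rw [← map_smul, hw2, map_zero]
        have h4 : (GrLC.gam a.toIdeal X).mkQ (π w) = 0 := by
          apply hreg
          show x • (GrLC.gam a.toIdeal X).mkQ (π w) = x • 0
          rw [h3, smul_zero]
        rw [Submodule.mkQ_apply, Submodule.Quotient.mk_eq_zero] at h4
        exact hz h4
    have hreg1 := fun m => hf_reg (𝒜 := 𝒜) x k hxk hreg _ (Submodule.mkQ_surjective _) hmkhom hkermk m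
    refine reg_step a hpos ha D hD G' F x k hk hxk hreg _ (Submodule.mkQ_surjective _) hmkhom hkermk
      P hP' (fun m => ?_) n
    refine ih (LinearMap.ker π₂) hlt _ _ π₂ hπ₂ rfl F _ ?_ m
    obtain ⟨N₀, hN₀⟩ := hP'
    refine ⟨N₀ + k, fun m hm => ?_⟩
    rw [Polynomial.eval_sub, Polynomial.eval_comp, Polynomial.eval_sub, Polynomial.eval_X,
      Polynomial.eval_C]
    have e4 : (m : ℚ) - (k : ℚ) = ((m + -k : ℤ) : ℚ) := by
      push_cast
      ring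
    rw [e4, hN₀ m (by omega), hN₀ (m + -k) (by omega), hreg1 m]
    push_cast
    ring

end Groth.Agent.Lib.Helper29GrSerre
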