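import Groth.Agent.Lib.Helper29GrSerre3

/-! The Serre–Grothendieck formula `H_X(n) - P_X(n) = Σ (-1)^i ℓ(H^i_{R_+}(X)_n)` over a positively
graded Noetherian ring whose degree-zero part need not be Artinian: it is enough that all finitely
generated graded modules killed by a fixed ideal `𝔔` have pieces and graded local cohomology pieces
of finite length (helper29). -/

set_option autoImplicit false
set_option linter.style.haveILetI false
set_option linter.unusedSectionVars false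
open DirectSum Pointwise

noncomputable section

namespace Groth.Agent.Lib.Helper29GrSerreGen

open Groth.Agent.Lib.Helper29GrEulerAdd Groth.Agent.Lib.Helper29GrHom
  Groth.Agent.Lib.Helper29GrPieceFin Groth.Agent.Lib.Helper29.GrDeg0
  Groth.Agent.Lib.Helper29GrFinite Groth.Agent.Lib.Helper29GrVanish
  Groth.Agent.Lib.Helper29GrMulLES Groth.Agent.Lib.Helper29GrShift
  Groth.Agent.Lib.Helper29GrConeLES Groth.Agent.Lib.Helper29GrCMEnd
  Groth.Agent.Lib.Helper29GrTorsBound Groth.Agent.Lib.Helper29GrQuot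
  Groth.Agent.Lib.Helper29GrSub Groth.Agent.Lib.Helper29GrRes Groth.Agent.Lib.Helper29GrGam
  Groth.Agent.Lib.Helper29GrRegSeqEnd Groth.Agent.Lib.Helper29GrAvoid
  Groth.Agent.Lib.Helper29GrSerre

universe u

variable {R : Type u} [CommRing R] [IsNoetherianRing R] {𝒜 : ℤ → AddSubgroup R} [GradedRing 𝒜]
variable (a : HomogeneousIdeal 𝒜)

/-- All pieces and all pieces of graded local cohomology of the graded module have finite
length over the degree-zero subring. -/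
def FinMod (X : Type u) [AddCommGroup X] [Module R X] (𝒳 : ℤ → AddSubgroup X)
    [DirectSum.Decomposition 𝒳] [SetLike.GradedSMul 𝒜 𝒳] : Prop :=
  (∀ n : ℤ, Module.length (GrLC.deg0 𝒜) (GrLC.comp 𝒜 𝒳 n) ≠ ⊤) ∧
    ∀ (G : GrLC.StarInjRes 𝒜 𝒳) (i : ℕ) (n : ℤ),
      Module.length (GrLC.deg0 𝒜) (G.Hcomp a i n) ≠ ⊤

/-- Every finitely generated graded module killed by `𝔔` satisfies `FinMod`. -/
def FinHyp (𝔔 : Ideal R) : Prop :=
  ∀ (X : Type u) [AddCommGroup X] [Module R X] [Module.Finite R X] (𝒳 : ℤ → AddSubgroup X)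
    [DirectSum.Decomposition 𝒳] [SetLike.GradedSMul 𝒜 𝒳],
    (∀ r ∈ 𝔔, ∀ x : X, r • x = 0) → FinMod a X 𝒳

section Tors1

variable {X : Type u} [AddCommGroup X] [Module R X] {𝒳 : ℤ → AddSubgroup X}
  [DirectSum.Decomposition 𝒳] [SetLike.GradedSMul 𝒜 𝒳]

/-- `H^0_a(X)_n ≅ Γ_a(X)_n`: equality of lengths. -/
theorem length_Hcomp_zero' (G : GrLC.StarInjRes 𝒜 𝒳) (n : ℤ) :
    Module.length (GrLC.deg0 𝒜) (G.Hcomp a 0 n) =
      Module.length (GrLC.deg0 𝒜)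
        ↥(GrLC.comp 𝒜 𝒳 n ⊓ (GrLC.gam a.toIdeal X).restrictScalars (GrLC.deg0 𝒜)) := by
  let T : Submodule (GrLC.deg0 𝒜) X :=
    GrLC.comp 𝒜 𝒳 n ⊓ (GrLC.gam a.toIdeal X).restrictScalars (GrLC.deg0 𝒜)
  have hcoc : ∀ m : T, G.ε (m : X) ∈ G.cocyc a 0 := by
    intro m
    refine ⟨map_mem_gam a.toIdeal G.ε m.2.2, ?_⟩
    show G.d 0 (G.ε (m : X)) = 0
    have : G.ε (m : X) ∈ LinearMap.ker (G.d 0) := by
      rw [G.exact_zero]
      exact ⟨_, rfl⟩
    exact this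
  let Φ : T →ₗ[GrLC.deg0 𝒜] G.Hcomp a 0 n :=
    { toFun := fun m => ⟨G.toH a 0 ⟨G.ε (m : X), hcoc m⟩,
        ⟨⟨G.ε (m : X), hcoc m⟩, G.ε_grHom n _ m.2.1, rfl⟩⟩
      map_add' := by
        intro m m'
        apply Subtype.ext
        show G.toH a 0 ⟨G.ε ((m + m' : T) : X), _⟩ =
          G.toH a 0 ⟨G.ε (m : X), _⟩ + G.toH a 0 ⟨G.ε (m' : X), _⟩
        rw [← map_add]
        congr 1
        apply Subtype.ext
        show G.ε ((m + m' : T) : X) = G.ε (m : X) + G.ε (m' : X)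
        rw [Submodule.coe_add, map_add]
      map_smul' := by
        intro r m
        apply Subtype.ext
        show G.toH a 0 ⟨G.ε ((r • m : T) : X), _⟩ = (r : R) • G.toH a 0 ⟨G.ε (m : X), _⟩
        rw [← map_smul]
        congr 1
        apply Subtype.ext
        show G.ε ((r • m : T) : X) = (r : R) • G.ε (m : X)
        rw [← map_smul]
        rfl }
  have hΦs : Function.Surjective Φ := by
    rintro ⟨y, z, hzγ, rfl⟩
    have hzk : (z : (G.X 0).carrier) ∈ LinearMap.range G.ε := G.exact_zero ▸ z.2.2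
    obtain ⟨m, hm⟩ := hzk
    have hmn : m ∈ 𝒳 n :=
      mem_of_map_mem 𝒳 (G.X 0).gr G.ε G.ε_grHom G.ε_injective (hm ▸ hzγ)
    have hmg : m ∈ GrLC.gam a.toIdeal X := by
      obtain ⟨k, hk⟩ := z.2.1
      refine ⟨k, fun r hr => ?_⟩
      apply G.ε_injective
      rw [map_smul, hm, hk r hr, map_zero]
    refine ⟨⟨m, hmn, hmg⟩, ?_⟩
    apply Subtype.ext
    show G.toH a 0 ⟨G.ε m, _⟩ = G.toH a 0 z
    congr 1
    exact Subtype.ext hm
  have hΦi : Function.Injective Φ := by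
    rw [injective_iff_map_eq_zero]
    intro m hm
    have h1 : G.toH a 0 ⟨G.ε (m : X), hcoc m⟩ = 0 := congrArg Subtype.val hm
    rw [Groth.Agent.Lib.Helper29GrResCompare.toH_eq_zero_iff] at h1
    have h2 : G.ε (m : X) = 0 := (Submodule.mem_bot R).mp h1
    apply Subtype.ext
    apply G.ε_injective
    rw [h2, Submodule.coe_zero, map_zero]
  exact (LinearEquiv.ofBijective Φ ⟨hΦi, hΦs⟩).length_eq.symm

/-- For an `a`-torsion module, `H^0_a(X)_n` has the length of `X_n`. -/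
theorem length_Hcomp_zero_of_torsion' (G : GrLC.StarInjRes 𝒜 𝒳) (htors : GrLC.gam a.toIdeal X = ⊤)
    (n : ℤ) :
    Module.length (GrLC.deg0 𝒜) (G.Hcomp a 0 n) =
      Module.length (GrLC.deg0 𝒜) (GrLC.comp 𝒜 𝒳 n) := by
  rw [length_Hcomp_zero' a G n]
  have : GrLC.comp 𝒜 𝒳 n ⊓ (GrLC.gam a.toIdeal X).restrictScalars (GrLC.deg0 𝒜) =
      GrLC.comp 𝒜 𝒳 n := by
    rw [htors]
    exact inf_of_le_left (fun x _ => Submodule.mem_top)
  rw [this]

/-- For an `a`-torsion module the higher graded local cohomology vanishes. -/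
theorem Hcomp_succ_of_torsion' (G : GrLC.StarInjRes 𝒜 𝒳) (htors : GrLC.gam a.toIdeal X = ⊤)
    (i : ℕ) (n : ℤ) : G.Hcomp a (i + 1) n = ⊥ := by
  have htors' : LocCoh.IsPowerTorsion a.toIdeal X := by
    intro x
    have : x ∈ GrLC.gam a.toIdeal X := htors ▸ Submodule.mem_top
    exact this
  have hvan : ∀ y : LocCoh.H a.toIdeal (i + 1) X, y = 0 := by
    intro y
    have := (Groth.Agent.S0323.result R a.toIdeal X htors').2 (i + 1) (Nat.succ_pos i)
    exact Subsingleton.elim _ _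
  exact Hcomp_eq_bot_of_H_eq_zero a G (i + 1) hvan n

end Tors1

variable (hpos : ∀ n : ℤ, n < 0 → 𝒜 n = ⊥)
  (ha : a.toIdeal = Ideal.span (⋃ n ∈ Set.Ioi (0 : ℤ), (𝒜 n : Set R)))
variable (D : ℕ) (hD : Groth.Agent.Lib.Helper8.Cd.Bound a.toIdeal D)

section Tors2

variable {M : Type u} [AddCommGroup M] [Module R M] {ℳ : ℤ → AddSubgroup M}
  [DirectSum.Decomposition ℳ] [SetLike.GradedSMul 𝒜 ℳ] [Module.Finite R M]
variable (E : GrLC.StarInjRes 𝒜 ℳ)

include hpos ha hD in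
/-- For a torsion module, `χ` is the Hilbert function. -/
theorem chi_of_torsion' (htors : GrLC.gam a.toIdeal M = ⊤) (n : ℤ) :
    chi a D E n = (hf 𝒜 ℳ n : ℤ) := by
  unfold chi
  rw [Finset.sum_range_succ']
  have h0 : ∑ i ∈ Finset.range D, (-1 : ℤ) ^ (i + 1) * (hl E a (i + 1) n : ℤ) = 0 := by
    refine Finset.sum_eq_zero fun i _ => ?_
    have : hl E a (i + 1) n = 0 := by
      unfold hl
      rw [Hcomp_succ_of_torsion' a E htors i n]
      simp
    rw [this]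
    simp
  rw [h0, zero_add, pow_zero, one_mul]
  unfold hl hf
  rw [length_Hcomp_zero_of_torsion' a E htors n]

include hpos ha in
/-- `χ(n) = 0` for `n ≫ 0`. -/
theorem chi_eventually_zero' : ∃ r : ℤ, ∀ n, r ≤ n → chi a D E n = 0 := by
  obtain ⟨r, hr⟩ := exists_bound_uniform a hpos ha E
  refine ⟨r, fun n hn => ?_⟩
  unfold chi
  refine Finset.sum_eq_zero fun i _ => ?_
  have : hl E a i n = 0 := by
    unfold hl
    rw [hr i n hn]
    simp
  rw [this]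
  simp

include ha in
/-- The Hilbert function of a finitely generated torsion module vanishes in high degrees. -/
theorem hf_eventually_zero_of_torsion' (htors : GrLC.gam a.toIdeal M = ⊤) :
    ∃ r : ℤ, ∀ n, r ≤ n → hf 𝒜 ℳ n = 0 := by
  obtain ⟨n₀, hn₀⟩ := exists_bound_gam 𝒜 ℳ a ha
  refine ⟨n₀, fun n hn => ?_⟩
  unfold hf
  have : Subsingleton ↥(GrLC.comp 𝒜 ℳ n) := by
    refine ⟨fun x y => ?_⟩
    apply Subtype.ext
    rw [hn₀ n hn x.1 x.2 (htors ▸ Submodule.mem_top), hn₀ n hn y.1 y.2 (htors ▸ Submodule.mem_top)]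
  rw [Module.length_eq_zero]
  rfl

end Tors2


section Add

variable {M' : Type u} [AddCommGroup M'] [Module R M'] {ℳ' : ℤ → AddSubgroup M'}
  [DirectSum.Decomposition ℳ'] [SetLike.GradedSMul 𝒜 ℳ']
variable {M : Type u} [AddCommGroup M] [Module R M] {ℳ : ℤ → AddSubgroup M}
  [DirectSum.Decomposition ℳ] [SetLike.GradedSMul 𝒜 ℳ]
variable {M'' : Type u} [AddCommGroup M''] [Module R M''] {ℳ'' : ℤ → AddSubgroup M''}
  [DirectSum.Decomposition ℳ''] [SetLike.GradedSMul 𝒜 ℳ'']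
variable (E' : GrLC.StarInjRes 𝒜 ℳ') (E : GrLC.StarInjRes 𝒜 ℳ) (F : GrLC.StarInjRes 𝒜 ℳ'')
variable (f : M' →ₗ[R] M) (g : M →ₗ[R] M'')
variable (hfi : Function.Injective f) (hgs : Function.Surjective g)
  (hfg : LinearMap.ker g = LinearMap.range f) (hf' : GrLC.IsGrHom ℳ' ℳ f)
  (hg : GrLC.IsGrHom ℳ ℳ'' g)

include hD hfi hgs hfg hf' hg in
/-- Additivity of `χ` in one degree along graded short exact sequences, under finiteness of the
lengths in that degree. -/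
theorem chi_add' (n : ℤ)
    (hA : ∀ i, Module.length (GrLC.deg0 𝒜) (E'.Hcomp a i n) ≠ ⊤)
    (hB : ∀ i, Module.length (GrLC.deg0 𝒜) (E.Hcomp a i n) ≠ ⊤)
    (hC : ∀ i, Module.length (GrLC.deg0 𝒜) (F.Hcomp a i n) ≠ ⊤) :
    chi a D E n = chi a D E' n + chi a D F n := by
  have key := euler_additive E' E F f g hfi hgs hfg hf' hg a n hA hB hC D
    (Hcomp_eq_bot_of_H_eq_zero a E' (D + 1) (hD M' (D + 1) (Nat.lt_succ_self D)) n)
  unfold chi
  have h2 : ∑ i ∈ Finset.range (D + 1), (-1 : ℤ) ^ i *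
      ((hl E' a i n : ℤ) - (hl E a i n : ℤ) + (hl F a i n : ℤ)) =
      ∑ i ∈ Finset.range (D + 1), (-1 : ℤ) ^ i * (hl E' a i n : ℤ) -
      ∑ i ∈ Finset.range (D + 1), (-1 : ℤ) ^ i * (hl E a i n : ℤ) +
      ∑ i ∈ Finset.range (D + 1), (-1 : ℤ) ^ i * (hl F a i n : ℤ) := by
    rw [← Finset.sum_sub_distrib, ← Finset.sum_add_distrib]
    refine Finset.sum_congr rfl fun i _ => ?_
    ring
  rw [h2] at key
  linarith

include hfi hgs hfg hf' hg in
/-- Additivity of the Hilbert function in one degree along graded short exact sequences. -/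
theorem hf_add' (n : ℤ)
    (hA : Module.length (GrLC.deg0 𝒜) (GrLC.comp 𝒜 ℳ' n) ≠ ⊤)
    (hC : Module.length (GrLC.deg0 𝒜) (GrLC.comp 𝒜 ℳ'' n) ≠ ⊤) :
    hf 𝒜 ℳ n = hf 𝒜 ℳ' n + hf 𝒜 ℳ'' n := by
  unfold hf
  rw [length_comp_add f g hfi hgs hfg hf' hg n]
  exact ENat.toNat_add hA hC

end Add

section RegStep

variable {Y : Type u} [AddCommGroup Y] [Module R Y] {𝒴 : ℤ → AddSubgroup Y}
  [DirectSum.Decomposition 𝒴] [SetLike.GradedSMul 𝒜 𝒴] [Module.Finite R Y]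
variable {N : Type u} [AddCommGroup N] [Module R N] {𝒩 : ℤ → AddSubgroup N}
  [DirectSum.Decomposition 𝒩] [SetLike.GradedSMul 𝒜 𝒩] [Module.Finite R N]

include hpos ha hD in
/-- The regular-element step: the formula for `Y/xY` implies the formula for `Y`. -/
theorem reg_step' (hY : FinMod a Y 𝒴) (hN : FinMod a N 𝒩)
    (E : GrLC.StarInjRes 𝒜 𝒴) (F : GrLC.StarInjRes 𝒜 𝒩) (x : R) (k : ℤ) (hk : 0 < k)
    (hx : x ∈ 𝒜 k) (hreg : IsSMulRegular Y x) (g : Y →ₗ[R] N) (hgs : Function.Surjective g)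
    (hg : GrLC.IsGrHom 𝒴 𝒩 g)
    (hker : LinearMap.ker g = LinearMap.range (x • (LinearMap.id : Y →ₗ[R] Y)))
    (P : Polynomial ℚ) (hP : ∃ N₀ : ℤ, ∀ n : ℤ, N₀ ≤ n → P.eval (n : ℚ) = (hf 𝒜 𝒴 n : ℚ))
    (hF : ∀ n : ℤ, (hf 𝒜 𝒩 n : ℚ) -
      (P - P.comp (Polynomial.X - Polynomial.C (k : ℚ))).eval (n : ℚ) = (chi a D F n : ℚ))
    (n : ℤ) : (hf 𝒜 𝒴 n : ℚ) - P.eval (n : ℚ) = (chi a D E n : ℚ) := by
  have hxhom : GrLC.IsGrHom (shiftGr 𝒴 (-k)) 𝒴 (x • (LinearMap.id : Y →ₗ[R] Y)) := by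
    intro γ u hu
    have h := SetLike.GradedSMul.smul_mem (A := 𝒜) (B := 𝒴) hx (show u ∈ 𝒴 (γ + -k) from hu)
    rw [vadd_eq_add, add_neg_cancel_comm_assoc] at h
    exact h
  have h1 : ∀ n, hf 𝒜 𝒴 n = hf 𝒜 𝒴 (n + -k) + hf 𝒜 𝒩 n := fun n =>
    hf_add' (ℳ' := shiftGr 𝒴 (-k)) (x • (LinearMap.id : Y →ₗ[R] Y)) g hreg hgs hker hxhom hg n
      (hY.1 (n + -k)) (hN.1 n)
  have h2 : ∀ n, chi a D E n = chi a D E (n + -k) + chi a D F n := fun n =>
    chi_add' a D hD (shiftRes E (-k)) E F (x • (LinearMap.id : Y →ₗ[R] Y)) g hreg hgs hker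
      hxhom hg n (fun i => hY.2 E i (n + -k)) (fun i => hY.2 E i n) (fun i => hN.2 F i n)
  set Dn : ℤ → ℚ := fun n => (hf 𝒜 𝒴 n : ℚ) - P.eval (n : ℚ) - (chi a D E n : ℚ) with hDn
  have hstep : ∀ n, Dn n = Dn (n + -k) := by
    intro n
    have e1 := hF n
    rw [Polynomial.eval_sub, Polynomial.eval_comp, Polynomial.eval_sub, Polynomial.eval_X,
      Polynomial.eval_C] at e1
    have e2 : ((hf 𝒜 𝒴 n : ℕ) : ℚ) = (hf 𝒜 𝒴 (n + -k) : ℚ) + (hf 𝒜 𝒩 n : ℚ) := by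
      rw [h1 n]
      push_cast
      ring
    have e3 : ((chi a D E n : ℤ) : ℚ) = (chi a D E (n + -k) : ℚ) + (chi a D F n : ℚ) := by
      rw [h2 n]
      push_cast
      ring
    have e4 : ((n + -k : ℤ) : ℚ) = (n : ℚ) - (k : ℚ) := by
      push_cast
      ring
    simp only [hDn]
    rw [e2, e3, e4]
    linarith
  have hiter : ∀ (j : ℕ) (n : ℤ), Dn (n + j * k) = Dn n := by
    intro j
    induction j with
    | zero =>
      intro n
      simp
    | succ j ih =>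
      intro n
      rw [hstep (n + ((j + 1 : ℕ) : ℤ) * k)]
      have : n + ((j + 1 : ℕ) : ℤ) * k + -k = n + (j : ℤ) * k := by
        push_cast
        ring
      rw [this]
      exact ih n
  obtain ⟨N₀, hN₀⟩ := hP
  obtain ⟨r, hr⟩ := chi_eventually_zero' a hpos ha D E
  have hzero : ∀ m, N₀ ≤ m → r ≤ m → Dn m = 0 := by
    intro m h1 h2
    simp only [hDn]
    rw [hN₀ m h1, hr m h2]
    simp
  have hfin : Dn n = 0 := by
    rw [← hiter ((max N₀ r - n).toNat) n]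
    apply hzero
    · have h3 : ((max N₀ r - n).toNat : ℤ) * k ≥ (max N₀ r - n).toNat := by
        have : (0 : ℤ) ≤ ((max N₀ r - n).toNat : ℤ) := Int.natCast_nonneg _
        nlinarith
      have h4 := Int.self_le_toNat (max N₀ r - n)
      have h5 := le_max_left N₀ r
      omega
    · have h3 : ((max N₀ r - n).toNat : ℤ) * k ≥ (max N₀ r - n).toNat := by
        have : (0 : ℤ) ≤ ((max N₀ r - n).toNat : ℤ) := Int.natCast_nonneg _
        nlinarith
      have h4 := Int.self_le_toNat (max N₀ r - n)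
      have h5 := le_max_right N₀ r
      omega
  simp only [hDn] at hfin
  linarith

end RegStep

section QuotGam

variable {X : Type u} [AddCommGroup X] [Module R X] {𝒳 : ℤ → AddSubgroup X}
  [DirectSum.Decomposition 𝒳] [SetLike.GradedSMul 𝒜 𝒳] [Module.Finite R X]

include hpos ha hD in
/-- Passing to `X/Γ_a(X)`: `H_X - χ_X` is unchanged, and the Hilbert functions agree in high
degrees. -/
theorem quot_gam_step' (𝔔 : Ideal R) (hfin : FinHyp a 𝔔) (hX : ∀ r ∈ 𝔔, ∀ x : X, r • x = 0)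
    (G : GrLC.StarInjRes 𝒜 𝒳)
    [DirectSum.Decomposition (quotGr 𝒳 (GrLC.gam a.toIdeal X))]
    [SetLike.GradedSMul 𝒜 (quotGr 𝒳 (GrLC.gam a.toIdeal X))]
    (G' : GrLC.StarInjRes 𝒜 (quotGr 𝒳 (GrLC.gam a.toIdeal X))) :
    (∀ n : ℤ, (hf 𝒜 𝒳 n : ℤ) - chi a D G n =
      (hf 𝒜 (quotGr 𝒳 (GrLC.gam a.toIdeal X)) n : ℤ) - chi a D G' n) ∧
    ∃ r : ℤ, ∀ n, r ≤ n → hf 𝒜 𝒳 n = hf 𝒜 (quotGr 𝒳 (GrLC.gam a.toIdeal X)) n := by
  have hP : (GrLC.gam a.toIdeal X).IsHomogeneous 𝒳 := gam_isHomogeneous 𝒜 𝒳 a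
  letI : DirectSum.Decomposition (subGr 𝒳 (GrLC.gam a.toIdeal X)) := subDecomposition 𝒳 _ hP
  letI : SetLike.GradedSMul 𝒜 (subGr 𝒳 (GrLC.gam a.toIdeal X)) := sub_gradedSMul 𝒳 _ 𝒜
  haveI : IsNoetherian R X := isNoetherian_of_isNoetherianRing_of_finite R X
  haveI : Module.Finite R ↥(GrLC.gam a.toIdeal X) := Module.IsNoetherian.finite R _
  let EP : GrLC.StarInjRes 𝒜 (subGr 𝒳 (GrLC.gam a.toIdeal X)) :=
    starInjRes 𝒜 (subGr 𝒳 (GrLC.gam a.toIdeal X))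
  have hXf : FinMod a X 𝒳 := hfin X 𝒳 hX
  have hSf : FinMod a ↥(GrLC.gam a.toIdeal X) (subGr 𝒳 (GrLC.gam a.toIdeal X)) :=
    hfin _ _ (fun r hr x => Subtype.ext (by
      rw [Submodule.coe_smul, hX r hr, Submodule.coe_zero]))
  have hQf : FinMod a (X ⧸ GrLC.gam a.toIdeal X) (quotGr 𝒳 (GrLC.gam a.toIdeal X)) :=
    hfin _ _ (fun r hr x => by
      obtain ⟨y, rfl⟩ := Submodule.mkQ_surjective _ x
      rw [← map_smul, hX r hr, map_zero])
  have htors : GrLC.gam a.toIdeal ↥(GrLC.gam a.toIdeal X) = ⊤ := by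
    rw [eq_top_iff]
    rintro ⟨m, k, hk⟩ -
    refine ⟨k, fun r hr => ?_⟩
    apply Subtype.ext
    rw [Submodule.coe_smul]
    exact hk r hr
  have hg : GrLC.IsGrHom 𝒳 (quotGr 𝒳 (GrLC.gam a.toIdeal X)) (GrLC.gam a.toIdeal X).mkQ :=
    fun g m hm => ⟨m, hm, rfl⟩
  have hfg : LinearMap.ker (GrLC.gam a.toIdeal X).mkQ =
      LinearMap.range (GrLC.gam a.toIdeal X).subtype := by
    rw [Submodule.ker_mkQ, Submodule.range_subtype]
  have hsub : GrLC.IsGrHom (subGr 𝒳 (GrLC.gam a.toIdeal X)) 𝒳 (GrLC.gam a.toIdeal X).subtype :=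
    fun g m hm => hm
  have h1 : ∀ n, hf 𝒜 𝒳 n = hf 𝒜 (subGr 𝒳 (GrLC.gam a.toIdeal X)) n +
      hf 𝒜 (quotGr 𝒳 (GrLC.gam a.toIdeal X)) n := fun n =>
    hf_add' (GrLC.gam a.toIdeal X).subtype (GrLC.gam a.toIdeal X).mkQ
      (Submodule.injective_subtype _) (Submodule.mkQ_surjective _) hfg hsub hg n
      (hSf.1 n) (hQf.1 n)
  have h2 : ∀ n, chi a D G n = chi a D EP n + chi a D G' n := fun n =>
    chi_add' a D hD EP G G' (GrLC.gam a.toIdeal X).subtype (GrLC.gam a.toIdeal X).mkQ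
      (Submodule.injective_subtype _) (Submodule.mkQ_surjective _) hfg hsub hg n
      (fun i => hSf.2 EP i n) (fun i => hXf.2 G i n) (fun i => hQf.2 G' i n)
  have h3 : ∀ n, chi a D EP n = (hf 𝒜 (subGr 𝒳 (GrLC.gam a.toIdeal X)) n : ℤ) := fun n =>
    chi_of_torsion' a hpos ha D hD EP htors n
  refine ⟨fun n => ?_, ?_⟩
  · rw [h1 n, h2 n, h3 n]
    push_cast
    ring
  · obtain ⟨r, hr⟩ := hf_eventually_zero_of_torsion' (ℳ := subGr 𝒳 (GrLC.gam a.toIdeal X)) a ha htors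
    refine ⟨r, fun n hn => ?_⟩
    rw [h1 n, hr n hn, zero_add]

end QuotGam

section HfReg

variable {Y : Type u} [AddCommGroup Y] [Module R Y] {𝒴 : ℤ → AddSubgroup Y}
  [DirectSum.Decomposition 𝒴] [SetLike.GradedSMul 𝒜 𝒴] [Module.Finite R Y]
variable {N : Type u} [AddCommGroup N] [Module R N] {𝒩 : ℤ → AddSubgroup N}
  [DirectSum.Decomposition 𝒩] [SetLike.GradedSMul 𝒜 𝒩] [Module.Finite R N]

/-- Hilbert functions along `0 → Y(-k) → Y → Y/xY → 0`. -/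
theorem hf_reg' (hY : FinMod a Y 𝒴) (hN : FinMod a N 𝒩)
    (x : R) (k : ℤ) (hx : x ∈ 𝒜 k) (hreg : IsSMulRegular Y x) (g : Y →ₗ[R] N)
    (hgs : Function.Surjective g) (hg : GrLC.IsGrHom 𝒴 𝒩 g)
    (hker : LinearMap.ker g = LinearMap.range (x • (LinearMap.id : Y →ₗ[R] Y))) (n : ℤ) :
    hf 𝒜 𝒴 n = hf 𝒜 𝒴 (n + -k) + hf 𝒜 𝒩 n := by
  have hxhom : GrLC.IsGrHom (shiftGr 𝒴 (-k)) 𝒴 (x • (LinearMap.id : Y →ₗ[R] Y)) := by
    intro γ u hu
    have h := SetLike.GradedSMul.smul_mem (A := 𝒜) (B := 𝒴) hx (show u ∈ 𝒴 (γ + -k) from hu)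
    rw [vadd_eq_add, add_neg_cancel_comm_assoc] at h
    exact h
  exact hf_add' (ℳ' := shiftGr 𝒴 (-k)) (x • (LinearMap.id : Y →ₗ[R] Y)) g hreg hgs hker hxhom hg n
    (hY.1 (n + -k)) (hN.1 n)

end HfReg

include hpos ha hD in
/-- The Serre–Grothendieck formula for `R_+`, by Noetherian induction, for modules killed by an
ideal `𝔔` satisfying the finiteness hypothesis. -/
theorem serre_aux' (𝔔 : Ideal R) (hfin : FinHyp a 𝔔) (M₀ : Type u) [AddCommGroup M₀] [Module R M₀]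
    [Module.Finite R M₀] (h𝔔 : ∀ r ∈ 𝔔, ∀ x : M₀, r • x = 0) :
    ∀ (K : Submodule R M₀) (X : Type u) [AddCommGroup X] [Module R X] (𝒳 : ℤ → AddSubgroup X)
      [DirectSum.Decomposition 𝒳] [SetLike.GradedSMul 𝒜 𝒳] (π : M₀ →ₗ[R] X),
      Function.Surjective π → LinearMap.ker π = K →
      ∀ (G : GrLC.StarInjRes 𝒜 𝒳) (P : Polynomial ℚ),
      (∃ N₀ : ℤ, ∀ n : ℤ, N₀ ≤ n → P.eval (n : ℚ) = (hf 𝒜 𝒳 n : ℚ)) → ∀ n : ℤ,
      (hf 𝒜 𝒳 n : ℚ) - P.eval (n : ℚ) = (chi a D G n : ℚ) := by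
  haveI : IsNoetherian R M₀ := isNoetherian_of_isNoetherianRing_of_finite R M₀
  intro K
  induction K using IsNoetherian.induction with
  | hgt K ih =>
  intro X _ _ 𝒳 _ _ π hπ hK G P hP n
  haveI : Module.Finite R X := Module.Finite.of_surjective π hπ
  have hX : ∀ r ∈ 𝔔, ∀ x : X, r • x = 0 := by
    intro r hr x
    obtain ⟨y, rfl⟩ := hπ x
    rw [← map_smul, h𝔔 r hr, map_zero]
  by_cases hT : GrLC.gam a.toIdeal X = ⊤
  · -- torsion case
    obtain ⟨r, hr⟩ := hf_eventually_zero_of_torsion' (ℳ := 𝒳) a ha hT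
    obtain ⟨N₀, hN₀⟩ := hP
    have hP0 : P = 0 := poly_eq_zero_of_eventually P (max N₀ r) (fun m hm => by
      rw [hN₀ m (le_trans (le_max_left _ _) hm), hr m (le_trans (le_max_right _ _) hm)]
      simp)
    rw [hP0, Polynomial.eval_zero, sub_zero, chi_of_torsion' a hpos ha D hD G hT n]
    simp
  · have hhom : (GrLC.gam a.toIdeal X).IsHomogeneous 𝒳 := gam_isHomogeneous 𝒜 𝒳 a
    letI : DirectSum.Decomposition (quotGr 𝒳 (GrLC.gam a.toIdeal X)) :=
      quotDecomposition 𝒳 _ hhom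
    letI : SetLike.GradedSMul 𝒜 (quotGr 𝒳 (GrLC.gam a.toIdeal X)) := quot_gradedSMul 𝒳 _ 𝒜
    let G' : GrLC.StarInjRes 𝒜 (quotGr 𝒳 (GrLC.gam a.toIdeal X)) :=
      starInjRes 𝒜 (quotGr 𝒳 (GrLC.gam a.toIdeal X))
    obtain ⟨hA1, r, hr⟩ := quot_gam_step' a hpos ha D hD 𝔔 hfin hX G G'
    have hP' : ∃ N₀ : ℤ, ∀ n : ℤ, N₀ ≤ n →
        P.eval (n : ℚ) = (hf 𝒜 (quotGr 𝒳 (GrLC.gam a.toIdeal X)) n : ℚ) := by
      obtain ⟨N₀, hN₀⟩ := hP
      exact ⟨max N₀ r, fun m hm => by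
        rw [hN₀ m (le_trans (le_max_left _ _) hm), hr m (le_trans (le_max_right _ _) hm)]⟩
    suffices hbar : (hf 𝒜 (quotGr 𝒳 (GrLC.gam a.toIdeal X)) n : ℚ) - P.eval (n : ℚ) =
        (chi a D G' n : ℚ) by
      have h' := congrArg (Int.cast : ℤ → ℚ) (hA1 n)
      push_cast at h'
      linarith
    have hXQ : ∀ r ∈ 𝔔, ∀ x : X ⧸ GrLC.gam a.toIdeal X, r • x = 0 := by
      intro r hr x
      obtain ⟨y, rfl⟩ := Submodule.mkQ_surjective _ x
      rw [← map_smul, hX r hr, map_zero]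
    have hQf : FinMod a (X ⧸ GrLC.gam a.toIdeal X) (quotGr 𝒳 (GrLC.gam a.toIdeal X)) :=
      hfin _ _ hXQ
    obtain ⟨k, hk, x, hxk, hxa, hreg⟩ := exists_regular 𝒜 (quotGr 𝒳 (GrLC.gam a.toIdeal X)) hpos a
      ha (quot_gam_torsionFree a.toIdeal X)
    have hQhom : (x • (⊤ : Submodule R (X ⧸ GrLC.gam a.toIdeal X))).IsHomogeneous
        (quotGr 𝒳 (GrLC.gam a.toIdeal X)) := smul_top_isHomogeneous hxk
    letI : DirectSum.Decomposition (quotGr (quotGr 𝒳 (GrLC.gam a.toIdeal X))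
        (x • (⊤ : Submodule R (X ⧸ GrLC.gam a.toIdeal X)))) := quotDecomposition _ _ hQhom
    letI : SetLike.GradedSMul 𝒜 (quotGr (quotGr 𝒳 (GrLC.gam a.toIdeal X))
        (x • (⊤ : Submodule R (X ⧸ GrLC.gam a.toIdeal X)))) := quot_gradedSMul _ _ 𝒜
    let F : GrLC.StarInjRes 𝒜 (quotGr (quotGr 𝒳 (GrLC.gam a.toIdeal X))
        (x • (⊤ : Submodule R (X ⧸ GrLC.gam a.toIdeal X)))) := starInjRes 𝒜 _
    have hQQf : FinMod a ((X ⧸ GrLC.gam a.toIdeal X) ⧸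
        (x • (⊤ : Submodule R (X ⧸ GrLC.gam a.toIdeal X))))
        (quotGr (quotGr 𝒳 (GrLC.gam a.toIdeal X))
          (x • (⊤ : Submodule R (X ⧸ GrLC.gam a.toIdeal X)))) :=
      hfin _ _ (fun r hr z => by
        obtain ⟨y, rfl⟩ := Submodule.mkQ_surjective _ z
        rw [← map_smul, hXQ r hr, map_zero])
    have hmkhom : GrLC.IsGrHom (quotGr 𝒳 (GrLC.gam a.toIdeal X))
        (quotGr (quotGr 𝒳 (GrLC.gam a.toIdeal X))
          (x • (⊤ : Submodule R (X ⧸ GrLC.gam a.toIdeal X))))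
        (x • (⊤ : Submodule R (X ⧸ GrLC.gam a.toIdeal X))).mkQ := fun γ y hy => ⟨y, hy, rfl⟩
    have hkermk : LinearMap.ker (x • (⊤ : Submodule R (X ⧸ GrLC.gam a.toIdeal X))).mkQ =
        LinearMap.range (x • (LinearMap.id :
          (X ⧸ GrLC.gam a.toIdeal X) →ₗ[R] (X ⧸ GrLC.gam a.toIdeal X))) := by
      rw [Submodule.ker_mkQ, range_smul_id]
    -- the composite surjection
    let π₂ : M₀ →ₗ[R] ((X ⧸ GrLC.gam a.toIdeal X) ⧸
        (x • (⊤ : Submodule R (X ⧸ GrLC.gam a.toIdeal X)))) :=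
      (x • (⊤ : Submodule R (X ⧸ GrLC.gam a.toIdeal X))).mkQ ∘ₗ (GrLC.gam a.toIdeal X).mkQ ∘ₗ π
    have hπ₂ : Function.Surjective π₂ :=
      (Submodule.mkQ_surjective _).comp ((Submodule.mkQ_surjective _).comp hπ)
    have hlt : K < LinearMap.ker π₂ := by
      rw [← hK]
      refine lt_of_le_of_ne (fun w hw => ?_) ?_
      · rw [LinearMap.mem_ker] at hw ⊢
        show (x • (⊤ : Submodule R (X ⧸ GrLC.gam a.toIdeal X))).mkQ
          ((GrLC.gam a.toIdeal X).mkQ (π w)) = 0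
        rw [hw, map_zero, map_zero]
      · intro heq
        obtain ⟨z, hz⟩ : ∃ z : X, z ∉ GrLC.gam a.toIdeal X := by
          by_contra hcon
          exact hT (eq_top_iff.mpr fun z _ => by
            by_contra hz
            exact hcon ⟨z, hz⟩)
        obtain ⟨w, rfl⟩ := hπ z
        have hw2 : x • w ∈ LinearMap.ker π₂ := by
          rw [LinearMap.mem_ker]
          show (x • (⊤ : Submodule R (X ⧸ GrLC.gam a.toIdeal X))).mkQ
            ((GrLC.gam a.toIdeal X).mkQ (π (x • w))) = 0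
          rw [map_smul, map_smul, Submodule.mkQ_apply, Submodule.Quotient.mk_eq_zero]
          exact Submodule.smul_mem_pointwise_smul _ _ _ Submodule.mem_top
        rw [← heq, LinearMap.mem_ker, map_smul] at hw2
        have h3 : x • (GrLC.gam a.toIdeal X).mkQ (π w) = 0 := by
          rw [← map_smul, hw2, map_zero]
        have h4 : (GrLC.gam a.toIdeal X).mkQ (π w) = 0 := by
          apply hreg
          show x • (GrLC.gam a.toIdeal X).mkQ (π w) = x • 0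
          rw [h3, smul_zero]
        rw [Submodule.mkQ_apply, Submodule.Quotient.mk_eq_zero] at h4
        exact hz h4
    have hreg1 := fun m => hf_reg' (𝒜 := 𝒜) a hQf hQQf x k hxk hreg _ (Submodule.mkQ_surjective _)
      hmkhom hkermk m
    refine reg_step' a hpos ha D hD hQf hQQf G' F x k hk hxk hreg _ (Submodule.mkQ_surjective _)
      hmkhom hkermk P hP' (fun m => ?_) n
    refine ih (LinearMap.ker π₂) hlt _ _ π₂ hπ₂ rfl F _ ?_ m
    obtain ⟨N₀, hN₀⟩ := hP'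
    refine ⟨N₀ + k, fun m hm => ?_⟩
    rw [Polynomial.eval_sub, Polynomial.eval_comp, Polynomial.eval_sub, Polynomial.eval_X,
      Polynomial.eval_C]
    have e4 : (m : ℚ) - (k : ℚ) = ((m + -k : ℤ) : ℚ) := by
      push_cast
      ring
    rw [e4, hN₀ m (by omega), hN₀ (m + -k) (by omega), hreg1 m]
    push_cast
    ring

end Groth.Agent.Lib.Helper29GrSerreGen
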