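import Groth.Agent.Lib.Helper29GrHom

/-! Shifted gradings (helper29). -/

set_option autoImplicit false
open DirectSum

namespace Groth.Agent.Lib.Helper29GrShift

universe u

variable {ι : Type} [AddCommGroup ι] [DecidableEq ι]
variable {R : Type u} [CommRing R] (𝒜 : ι → AddSubgroup R) [GradedRing 𝒜]
variable {E : Type u} [AddCommGroup E] [Module R E] (𝓔 : ι → AddSubgroup E)

/-- The shifted family of pieces `E(d)_j = E_{j+d}`. -/
def shiftGr (d : ι) : ι → AddSubgroup E := fun j => 𝓔 (j + d)

section
variable [DirectSum.Decomposition 𝓔] (d : ι)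

theorem coe_equivCongrLeft_symm (h : ι ≃ ι) (y : ⨁ k, 𝓔 (h.symm k)) :
    DirectSum.coeAddMonoidHom 𝓔 ((DirectSum.equivCongrLeft h).symm y) =
      DirectSum.coeAddMonoidHom (fun k => 𝓔 (h.symm k)) y := by
  classical
  induction y using DirectSum.induction_on with
  | zero => simp
  | of k x =>
    have : (DirectSum.equivCongrLeft h).symm (DirectSum.of (fun k => 𝓔 (h.symm k)) k x) =
        DirectSum.of (fun i => 𝓔 i) (h.symm k) x := by
      rw [AddEquiv.symm_apply_eq, DirectSum.equivCongrLeft_of]
    rw [this, DirectSum.coeAddMonoidHom_of, DirectSum.coeAddMonoidHom_of]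
  | add x y hx hy => rw [map_add, map_add, map_add, hx, hy]

/-- Reindexing a decomposition along an equivalence. -/
noncomputable def reindexDecomposition (h : ι ≃ ι) :
    DirectSum.Decomposition (fun k => 𝓔 (h.symm k)) where
  decompose' x := DirectSum.equivCongrLeft h (DirectSum.decompose 𝓔 x)
  left_inv x := by
    rw [← coe_equivCongrLeft_symm 𝓔 h, AddEquiv.symm_apply_apply]
    exact DirectSum.Decomposition.left_inv x
  right_inv y := by
    rw [← coe_equivCongrLeft_symm 𝓔 h]
    have := DirectSum.Decomposition.right_inv (ℳ := 𝓔) ((DirectSum.equivCongrLeft h).symm y)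
    change DirectSum.equivCongrLeft h (DirectSum.Decomposition.decompose' _) = y
    rw [this, AddEquiv.apply_symm_apply]

/-- The shifted family is again a decomposition. -/
noncomputable def shiftDecomposition : DirectSum.Decomposition (shiftGr 𝓔 d) :=
  reindexDecomposition 𝓔 (Equiv.addRight d).symm

end

include 𝒜 in
theorem shift_gradedSMul [SetLike.GradedSMul 𝒜 𝓔] (d : ι) : SetLike.GradedSMul 𝒜 (shiftGr 𝓔 d) where
  smul_mem := by
    intro i j a b ha hb
    change a • b ∈ 𝓔 (i + j + d)
    have := SetLike.GradedSMul.smul_mem (A := 𝒜) (B := 𝓔) (i := i) (j := j + d) ha hb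
    rw [vadd_eq_add, ← add_assoc] at this
    exact this

end Groth.Agent.Lib.Helper29GrShift
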