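import Mathlib
import Groth.Prelude.Def_CAlg
import Groth.Agent.Lib.Helper25GrGlob
import Groth.Agent.Lib.Helper5GrLoc
import Groth.Agent.Lib.Helper5GorRing
import Groth.Agent.Lib.Helper29GorAnn

set_option autoImplicit false
set_option linter.style.haveILetI false
universe u

namespace Groth.Agent.Lib.Helper29GrStarCrit

open Groth.Agent.Lib.Helper28 Groth.Agent.Lib.Helper5 Groth.Agent.Lib.Helper5.GenDepth

section CM

variable {ι : Type} [AddCommGroup ι] [LinearOrder ι] [IsOrderedCancelAddMonoid ι]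
  [Module.Free ℤ ι] [Module.Finite ℤ ι]
variable {R : Type u} [CommRing R] [IsNoetherianRing R] (𝒜 : ι → AddSubgroup R) [GradedRing 𝒜]

omit [IsNoetherianRing R] in
theorem dm_self (p : Ideal R) [p.IsPrime] :
    dm p R = Module.supportDim (Localization.AtPrime p) (Localization.AtPrime p) :=
  Module.supportDim_eq_of_equiv (localizedModuleSelfEquiv p)

omit [IsNoetherianRing R] in
theorem dep_self (p : Ideal R) [p.IsPrime] :
    dep p R = LocCoh.depth (Localization.AtPrime p) (Localization.AtPrime p) :=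
  depth_localizedModule_self p

/-- A Noetherian graded ring which is Cohen–Macaulay at a prime containing all homogeneous
primes is Cohen–Macaulay. -/
theorem isCohenMacaulayRing_of_localization (𝔐 : Ideal R) [𝔐.IsPrime]
    (h𝔐 : ∀ J : Ideal R, J.IsHomogeneous 𝒜 → J.IsPrime → J ≤ 𝔐)
    (hCM : LocCoh.IsCohenMacaulayLocalRing (Localization.AtPrime 𝔐)) :
    LocCoh.IsCohenMacaulayRing R := by
  refine ⟨fun q hq => ?_⟩
  haveI hcore : (Ideal.homogeneousCore 𝒜 q).toIdeal.IsPrime := Ideal.IsPrime.homogeneousCore hq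
  have hle : (Ideal.homogeneousCore 𝒜 q).toIdeal ≤ 𝔐 :=
    h𝔐 _ (Ideal.homogeneousCore 𝒜 q).isHomogeneous hcore
  have hprimeq : (q.map (Ideal.Quotient.mk (Ideal.homogeneousCore 𝒜 q).toIdeal)).IsPrime :=
    Ideal.map_isPrime_of_surjective Ideal.Quotient.mk_surjective (by
      rw [Ideal.mk_ker]; exact Ideal.toIdeal_homogeneousCore_le 𝒜 q)
  obtain ⟨dd, hdd⟩ := ENat.ne_top_iff_exists.mp (Ideal.height_ne_top hprimeq.ne_top)
  obtain ⟨g1, g2⟩ := Groth.Agent.Lib.Helper5.GrLoc.main 𝒜 q R 𝒜 dd hdd.symm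
  have hCMm : LocCoh.IsCohenMacaulayModule (Localization.AtPrime 𝔐)
      (LocalizedModule 𝔐.primeCompl R) := by
    unfold LocCoh.IsCohenMacaulayModule
    have := hCM.supportDim_eq_depth
    rw [← dm_self, ← dep_self] at this
    exact this
  have hnt : ∀ (p : Ideal R) [p.IsPrime], Nontrivial (LocalizedModule p.primeCompl R) := by
    intro p _
    exact (localizedModuleSelfEquiv p).toEquiv.nontrivial
  have hLL := Groth.Agent.Lib.Helper25.GrGlob.dm_eq_dep_of_le
    (Ideal.homogeneousCore 𝒜 q).toIdeal 𝔐 hle R hCMm (hnt _)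
  refine { supportDim_eq_depth := ?_ }
  rw [← dm_self, ← dep_self, g2 (hnt q), hLL, g1]
  push_cast
  rfl

end CM


section Gor

open LocCoh Groth.Agent.Lib.Helper5.GorRing Groth.Agent.Lib.Helper5.GrLoc
  Groth.Agent.Lib.Helper5.Coact

theorem gor_addMonoidAlgebra_fin (n : ℕ) :
    ∀ (A : Type u) [CommRing A] [IsGorensteinRing A],
      IsGorensteinRing (AddMonoidAlgebra A (Fin n → ℤ)) := by
  induction n with
  | zero =>
    intro A _ _
    exact gorRing_of_ringEquiv
      (AddMonoidAlgebra.uniqueRingEquiv (R := A) (Fin 0 → ℤ)).symm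
  | succ n ih =>
    intro A _ _
    haveI := ih A
    haveI hpoly : IsGorensteinRing
        (Polynomial (AddMonoidAlgebra A (Fin n → ℤ))) := gorRing_polynomial _
    haveI hlaur : IsGorensteinRing
        (LaurentPolynomial (AddMonoidAlgebra A (Fin n → ℤ))) :=
      gorRing_of_isLocalization
        (Submonoid.powers (Polynomial.X : Polynomial (AddMonoidAlgebra A (Fin n → ℤ)))) _
    exact gorRing_of_ringEquiv
      ((AddMonoidAlgebra.domCongr A A (finSuccAddEquiv n)).toRingEquiv.trans
        AddMonoidAlgebra.curryRingEquiv).symm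

theorem gor_addMonoidAlgebra (ι : Type) [AddCommGroup ι] [Module.Free ℤ ι] [Module.Finite ℤ ι]
    (A : Type u) [CommRing A] [IsGorensteinRing A] :
    IsGorensteinRing (AddMonoidAlgebra A ι) := by
  let e : ι ≃+ (Fin (Module.finrank ℤ ι) → ℤ) := (Module.finBasis ℤ ι).equivFun.toAddEquiv
  haveI := gor_addMonoidAlgebra_fin (Module.finrank ℤ ι) A
  exact gorRing_of_ringEquiv (AddMonoidAlgebra.domCongr A A e).toRingEquiv.symm

theorem gor_fibLocRing (ι : Type) [AddCommGroup ι] [Module.Free ℤ ι] [Module.Finite ℤ ι]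
    (R : Type u) [CommRing R] [IsNoetherianRing R]
    (Q : Ideal (AddMonoidAlgebra R ι)) [Q.IsPrime] :
    IsGorensteinLocalRing (EGA4.FibLocRing R (AddMonoidAlgebra R ι) Q) := by
  haveI := isNoetherianRing_addMonoidAlgebra ι R
  refine forall_gor_fiber_iff.mp ?_ Q
  intro p hp
  haveI := gorRing_of_field p.ResidueField
  haveI := gor_addMonoidAlgebra ι p.ResidueField
  exact gorRing_of_ringEquiv
    (AddMonoidAlgebra.scalarTensorEquiv R (M := ι) p.ResidueField).toRingEquiv.symm

theorem gor_congr_ideal {R : Type u} [CommRing R] {q1 q2 : Ideal R}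
    [q1.IsPrime] [q2.IsPrime] (h : q1 = q2) :
    IsGorensteinLocalRing (Localization.AtPrime q1) ↔
      IsGorensteinLocalRing (Localization.AtPrime q2) := by
  subst h
  rfl

variable {ι : Type} [AddCommGroup ι] [DecidableEq ι] [Module.Free ℤ ι] [Module.Finite ℤ ι]
variable {R : Type u} [CommRing R] [IsNoetherianRing R] (𝒜 : ι → AddSubgroup R) [GradedRing 𝒜]

/-- `R_p` is Gorenstein iff `R_{p*}` is. -/
theorem gor_localization_iff_core (p : Ideal R) [p.IsPrime]
    [hcore : (Ideal.homogeneousCore 𝒜 p).toIdeal.IsPrime] :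
    IsGorensteinLocalRing (Localization.AtPrime p) ↔
      IsGorensteinLocalRing (Localization.AtPrime (Ideal.homogeneousCore 𝒜 p).toIdeal) := by
  haveI hN := isNoetherianRing_addMonoidAlgebra ι R
  haveI hU := uniqueSums ι
  haveI h𝔓prime : (p.map (algebraMap R (AddMonoidAlgebra R ι))).IsPrime := map_isPrime p
  haveI h𝔓'prime : ((p.map (algebraMap R (AddMonoidAlgebra R ι))).comap
      ((tau 𝒜 : AddMonoidAlgebra R ι ≃+* AddMonoidAlgebra R ι) :
        AddMonoidAlgebra R ι →+* AddMonoidAlgebra R ι)).IsPrime := Ideal.comap_isPrime _ _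
  have h1 := gor_localization_iff (A := R) (p.map (algebraMap R (AddMonoidAlgebra R ι)))
  have h2 := gor_localization_iff (A := R) ((p.map (algebraMap R (AddMonoidAlgebra R ι))).comap
      ((tau 𝒜 : AddMonoidAlgebra R ι ≃+* AddMonoidAlgebra R ι) :
        AddMonoidAlgebra R ι →+* AddMonoidAlgebra R ι))
  have f1 := gor_fibLocRing ι R (p.map (algebraMap R (AddMonoidAlgebra R ι)))
  have f2 := gor_fibLocRing ι R ((p.map (algebraMap R (AddMonoidAlgebra R ι))).comap
      ((tau 𝒜 : AddMonoidAlgebra R ι ≃+* AddMonoidAlgebra R ι) :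
        AddMonoidAlgebra R ι →+* AddMonoidAlgebra R ι))
  have c1 := gor_congr_ideal (comap_map_eq (ι := ι) p)
  have c2 := gor_congr_ideal (comap_tau_comap 𝒜 p)
  let e := Localization.localRingEquiv ((p.map (algebraMap R (AddMonoidAlgebra R ι))).comap
      ((tau 𝒜 : AddMonoidAlgebra R ι ≃+* AddMonoidAlgebra R ι) :
        AddMonoidAlgebra R ι →+* AddMonoidAlgebra R ι))
      (p.map (algebraMap R (AddMonoidAlgebra R ι))) (tau 𝒜) rfl
  constructor
  · intro h
    have h3 := h1.mpr ⟨c1.mpr h, f1⟩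
    have h4 : IsGorensteinLocalRing (Localization.AtPrime
      ((p.map (algebraMap R (AddMonoidAlgebra R ι))).comap
      ((tau 𝒜 : AddMonoidAlgebra R ι ≃+* AddMonoidAlgebra R ι) :
        AddMonoidAlgebra R ι →+* AddMonoidAlgebra R ι))) := gorLocal_of_ringEquiv e.symm
    exact c2.mp (h2.mp h4).1
  · intro h
    have h3 := h2.mpr ⟨c2.mpr h, f2⟩
    have h4 : IsGorensteinLocalRing (Localization.AtPrime
      (p.map (algebraMap R (AddMonoidAlgebra R ι)))) := gorLocal_of_ringEquiv e
    exact c1.mp (h1.mp h4).1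


theorem gorLocal_of_le {R : Type u} [CommRing R] (c 𝔐 : Ideal R) [c.IsPrime] [𝔐.IsPrime]
    (h : c ≤ 𝔐) (hG : IsGorensteinLocalRing (Localization.AtPrime 𝔐)) :
    IsGorensteinLocalRing (Localization.AtPrime c) := by
  haveI hGR : IsGorensteinRing (Localization.AtPrime 𝔐) :=
    Groth.Agent.Lib.Helper29.GorAnn.isGorensteinRing_of_isGorensteinLocalRing _
  have hdisj : Disjoint (𝔐.primeCompl : Set R) (c : Set R) := by
    rw [Set.disjoint_left]
    intro x hx hxc
    exact hx (h hxc)
  haveI hP : (c.map (algebraMap R (Localization.AtPrime 𝔐))).IsPrime :=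
    IsLocalization.isPrime_of_isPrime_disjoint 𝔐.primeCompl _ c inferInstance hdisj
  have hcomap : (c.map (algebraMap R (Localization.AtPrime 𝔐))).comap
      (algebraMap R (Localization.AtPrime 𝔐)) = c :=
    IsLocalization.comap_map_of_isPrime_disjoint 𝔐.primeCompl _ inferInstance hdisj
  haveI hcp : ((c.map (algebraMap R (Localization.AtPrime 𝔐))).comap
      (algebraMap R (Localization.AtPrime 𝔐))).IsPrime := Ideal.comap_isPrime _ _
  haveI h1 := hGR.isGorensteinLocalRing_localization (c.map (algebraMap R (Localization.AtPrime 𝔐)))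
  haveI : IsLocalization.AtPrime
      (Localization.AtPrime (c.map (algebraMap R (Localization.AtPrime 𝔐))))
      ((c.map (algebraMap R (Localization.AtPrime 𝔐))).comap
        (algebraMap R (Localization.AtPrime 𝔐))) :=
    IsLocalization.isLocalization_isLocalization_atPrime_isLocalization 𝔐.primeCompl
      (Localization.AtPrime (c.map (algebraMap R (Localization.AtPrime 𝔐))))
      (c.map (algebraMap R (Localization.AtPrime 𝔐)))
  have h2 : IsGorensteinLocalRing (Localization.AtPrime
      ((c.map (algebraMap R (Localization.AtPrime 𝔐))).comap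
        (algebraMap R (Localization.AtPrime 𝔐)))) :=
    gorLocal_of_ringEquiv (IsLocalization.algEquiv
      ((c.map (algebraMap R (Localization.AtPrime 𝔐))).comap
        (algebraMap R (Localization.AtPrime 𝔐))).primeCompl
      (Localization.AtPrime (c.map (algebraMap R (Localization.AtPrime 𝔐))))
      (Localization.AtPrime ((c.map (algebraMap R (Localization.AtPrime 𝔐))).comap
        (algebraMap R (Localization.AtPrime 𝔐))))).toRingEquiv
  exact (gor_congr_ideal hcomap).mp h2

/-- A Noetherian graded ring which is Gorenstein at a prime containing all homogeneous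
primes is Gorenstein. -/
theorem isGorensteinRing_of_localization {ι : Type} [AddCommGroup ι] [LinearOrder ι]
    [IsOrderedCancelAddMonoid ι] [Module.Free ℤ ι] [Module.Finite ℤ ι]
    {R : Type u} [CommRing R] [IsNoetherianRing R] (𝒜 : ι → AddSubgroup R) [GradedRing 𝒜]
    (𝔐 : Ideal R) [𝔐.IsPrime]
    (h𝔐 : ∀ J : Ideal R, J.IsHomogeneous 𝒜 → J.IsPrime → J ≤ 𝔐)
    (hG : IsGorensteinLocalRing (Localization.AtPrime 𝔐)) :
    IsGorensteinRing R := by
  refine ⟨fun q hq => ?_⟩
  haveI hcore : (Ideal.homogeneousCore 𝒜 q).toIdeal.IsPrime := Ideal.IsPrime.homogeneousCore hq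
  have hle : (Ideal.homogeneousCore 𝒜 q).toIdeal ≤ 𝔐 :=
    h𝔐 _ (Ideal.homogeneousCore 𝒜 q).isHomogeneous hcore
  exact (gor_localization_iff_core 𝒜 q).mpr (gorLocal_of_le _ 𝔐 hle hG)

end Gor

end Groth.Agent.Lib.Helper29GrStarCrit
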