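import Mathlib
import Groth.Prelude.Def_Wider

/-! Consequences, over the base ring `R`, of a localization `H → H_p` being an injective hull of the
residue field of `R_p`: the socle of `H` is essential and of rank one, and maps from ideals of `R`
to `H` are multiplications up to a denominator (helper29). -/

set_option autoImplicit false
set_option linter.style.haveILetI false
set_option linter.unusedSectionVars false
open TensorProduct IsLocalRing

namespace Groth.Agent.Lib.Helper29LocHull

universe u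

variable {R : Type u} [CommRing R] (p : Ideal R) [p.IsPrime]
variable {H : Type u} [AddCommGroup H] [Module R H]
variable {Hm : Type u} [AddCommGroup Hm] [Module R Hm] [Module (Localization.AtPrime p) Hm]
  [IsScalarTower R (Localization.AtPrime p) Hm]
variable (loc : H →ₗ[R] Hm) [IsLocalizedModule p.primeCompl loc]
variable (f : ResidueField (Localization.AtPrime p) →ₗ[Localization.AtPrime p] Hm)

local notation "A" => Localization.AtPrime p

theorem smul_apply_eq_zero (c : ResidueField A) {t : R} (ht : t ∈ p) : t • f c = 0 := by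
  rw [← algebraMap_smul A t (f c), ← map_smul]
  have : algebraMap R A t • c = 0 := by
    rw [Algebra.smul_def, ResidueField.algebraMap_eq]
    have h1 : residue A (algebraMap R A t) = 0 := by
      rw [residue_eq_zero_iff]
      exact (IsLocalization.AtPrime.to_map_mem_maximal_iff A p t).mpr ht
    rw [h1, zero_mul]
  rw [this, map_zero]

theorem exists_smul_mem_range (hf : InjHull.IsInjectiveHull f) {y : Hm} (hy : y ≠ 0) :
    ∃ a : A, a • y ≠ 0 ∧ a • y ∈ LinearMap.range f := by
  have hne : Submodule.span A {y} ≠ ⊥ := by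
    intro h
    apply hy
    have : y ∈ Submodule.span A {y} := Submodule.mem_span_singleton_self y
    rw [h] at this
    exact (Submodule.mem_bot A).mp this
  obtain ⟨z, hz, hz0⟩ := Submodule.exists_mem_ne_zero_of_ne_bot (hf.essential _ hne)
  obtain ⟨a, rfl⟩ := Submodule.mem_span_singleton.mp hz.1
  exact ⟨a, hz0, hz.2⟩

theorem exists_smul_eq_of_mem_range {z z' : Hm} (hz : z ∈ LinearMap.range f)
    (hz' : z' ∈ LinearMap.range f) (hz'0 : z' ≠ 0) : ∃ a : A, z = a • z' := by
  obtain ⟨c, rfl⟩ := hz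
  obtain ⟨c', rfl⟩ := hz'
  have hc' : c' ≠ 0 := fun h => hz'0 (by rw [h, map_zero])
  obtain ⟨a, ha⟩ := residue_surjective (c * c'⁻¹)
  refine ⟨a, ?_⟩
  rw [← map_smul, Algebra.smul_def, ResidueField.algebraMap_eq, ha, mul_assoc,
    inv_mul_cancel₀ hc', mul_one]

theorem mem_range_of_smul_eq_zero (hf : InjHull.IsInjectiveHull f) {y : Hm}
    (hy : ∀ t ∈ p, t • y = 0) : y ∈ LinearMap.range f := by
  by_cases hy0 : y = 0
  · rw [hy0]; exact zero_mem _
  obtain ⟨a, ha0, ha⟩ := exists_smul_mem_range p f hf hy0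
  have hu : IsUnit a := by
    by_contra hnu
    have hmem : a ∈ maximalIdeal A := (mem_maximalIdeal a).mpr hnu
    obtain ⟨⟨r, s⟩, hrs⟩ := IsLocalization.surj p.primeCompl a
    have hr : r ∈ p := by
      rw [← IsLocalization.AtPrime.to_map_mem_maximal_iff A p r]
      have := Ideal.mul_mem_right (algebraMap R A s) _ hmem
      rwa [hrs] at this
    apply ha0
    have hsu : IsUnit (algebraMap R A s) := IsLocalization.map_units A s
    have h1 : algebraMap R A s • (a • y) = 0 := by
      rw [← mul_smul, mul_comm, hrs, algebraMap_smul]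
      exact hy r hr
    exact (hsu.smul_eq_zero).mp h1
  obtain ⟨u, rfl⟩ := hu
  have : y = (↑u⁻¹ : A) • ((u : A) • y) := by rw [← mul_smul, Units.inv_mul, one_smul]
  rw [this]
  exact Submodule.smul_mem _ _ ha

theorem exists_smul_ne_zero (hf : InjHull.IsInjectiveHull f) (hloc : Function.Injective loc)
    {x : H} (hx : x ≠ 0) : ∃ r : R, r • x ≠ 0 ∧ ∀ t ∈ p, t • r • x = 0 := by
  have hy : loc x ≠ 0 := fun h => hx (hloc (h.trans (map_zero loc).symm))
  obtain ⟨a, ha0, ha⟩ := exists_smul_mem_range p f hf hy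
  obtain ⟨⟨r, s⟩, hrs⟩ := IsLocalization.surj p.primeCompl a
  have hsu : IsUnit (algebraMap R A s) := IsLocalization.map_units A s
  have h1 : loc (r • x) = algebraMap R A s • (a • loc x) := by
    rw [map_smul, ← mul_smul, mul_comm, hrs, algebraMap_smul]
  refine ⟨r, ?_, fun t ht => ?_⟩
  · intro h
    rw [h, map_zero] at h1
    exact ha0 ((hsu.smul_eq_zero).mp h1.symm)
  · apply hloc
    rw [map_smul, map_zero, h1]
    obtain ⟨c, hc⟩ := ha
    rw [← hc, ← map_smul f (algebraMap R A s) c]
    exact smul_apply_eq_zero p f _ ht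

theorem exists_smul_eq_smul (hf : InjHull.IsInjectiveHull f) (hloc : Function.Injective loc)
    {x x' : H} (hx : ∀ t ∈ p, t • x = 0) (hx' : ∀ t ∈ p, t • x' = 0) (hx'0 : x' ≠ 0) :
    ∃ r : R, ∃ s ∈ p.primeCompl, s • x = r • x' := by
  have h1 : loc x ∈ LinearMap.range f :=
    mem_range_of_smul_eq_zero p f hf (fun t ht => by rw [← map_smul, hx t ht, map_zero])
  have h2 : loc x' ∈ LinearMap.range f :=
    mem_range_of_smul_eq_zero p f hf (fun t ht => by rw [← map_smul, hx' t ht, map_zero])
  have h3 : loc x' ≠ 0 := fun h => hx'0 (hloc (h.trans (map_zero loc).symm))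
  obtain ⟨a, ha⟩ := exists_smul_eq_of_mem_range p f h1 h2 h3
  obtain ⟨⟨r, s⟩, hrs⟩ := IsLocalization.surj p.primeCompl a
  refine ⟨r, s, s.2, hloc ?_⟩
  rw [map_smul, map_smul, ha, ← algebraMap_smul A (s : R), ← mul_smul, mul_comm, hrs,
    algebraMap_smul]

include loc in
theorem nontrivial_of_hull (hf : InjHull.IsInjectiveHull f) : Nontrivial H := by
  by_contra hnt
  rw [not_nontrivial_iff_subsingleton] at hnt
  have h1 : f 1 ≠ 0 := fun h => one_ne_zero (hf.injective (h.trans (map_zero f).symm))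
  obtain ⟨⟨x, s⟩, hs⟩ := IsLocalizedModule.surj p.primeCompl loc (f 1)
  rw [Subsingleton.elim x 0, map_zero] at hs
  have hsu : IsUnit (algebraMap R A s) := IsLocalization.map_units A s
  rw [Submonoid.smul_def, ← algebraMap_smul A] at hs
  exact h1 ((hsu.smul_eq_zero).mp hs)

/-- Maps from ideals of `R` to `H` are multiplications by an element of `H`, up to a
denominator. -/
theorem exists_smul_eq (hf : InjHull.IsInjectiveHull f) (hloc : Function.Injective loc)
    (J : Ideal R) (φ : J →ₗ[R] H) :
    ∃ s ∈ p.primeCompl, ∃ h' : H, ∀ a : J, s • φ a = (a : R) • h' := by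
  let ψ : A ⊗[R] J →ₗ[A] Hm := LinearMap.liftBaseChange A (loc ∘ₗ φ)
  let ι' : A ⊗[R] J →ₗ[A] A ⊗[R] R := (Submodule.subtype J).baseChange A
  have hι : Function.Injective ι' := by
    have := Module.Flat.lTensor_preserves_injective_linearMap (M := A) (Submodule.subtype J)
      Subtype.val_injective
    intro x y hxy
    apply this
    exact hxy
  obtain ⟨χ, hχ⟩ := hf.isInjective.out ι' hι ψ
  obtain ⟨⟨h', s⟩, hs⟩ := IsLocalizedModule.surj p.primeCompl loc (χ (1 ⊗ₜ[R] (1 : R)))
  refine ⟨s, s.2, h', fun a => hloc ?_⟩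
  have h1 : loc (φ a) = (a : R) • χ (1 ⊗ₜ[R] (1 : R)) := by
    have h2 := hχ (1 ⊗ₜ[R] a)
    have h3 : ι' (1 ⊗ₜ[R] a) = (a : R) • ((1 : A) ⊗ₜ[R] (1 : R)) := by
      change (Submodule.subtype J).baseChange A (1 ⊗ₜ[R] a) = _
      rw [LinearMap.baseChange_tmul, Submodule.subtype_apply, TensorProduct.smul_tmul',
        TensorProduct.smul_tmul, smul_eq_mul, mul_one]
    have h4 : ψ (1 ⊗ₜ[R] a) = loc (φ a) := by
      change LinearMap.liftBaseChange A (loc ∘ₗ φ) (1 ⊗ₜ[R] a) = _
      rw [LinearMap.liftBaseChange_tmul, one_smul, LinearMap.comp_apply]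
    rw [← h4, ← h2, h3, ← algebraMap_smul A (a : R), map_smul, algebraMap_smul]
  rw [map_smul, map_smul, h1, ← hs, smul_comm]
  rfl

end Groth.Agent.Lib.Helper29LocHull
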