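import Groth.Agent.Lib.Helper29GrStarLocal2
import Groth.Agent.Lib.Helper29LocHull
import Groth.Agent.Lib.Helper29GorHull
import Groth.Agent.S11617

/-! For a Gorenstein ring `R` and a prime `p` of height `n`, `R_p ⊗ H^n_p(R)` is an injective hull
of the residue field of `R_p`; packaging of the consequences (helper29). -/

set_option autoImplicit false
set_option linter.style.haveILetI false
set_option linter.unusedSectionVars false
open TensorProduct IsLocalRing

namespace Groth.Agent.Lib.Helper29GrStarLocal3

open Groth.Agent.Lib.Helper29GrStarLocal2 Groth.Agent.Lib.Helper29LocHull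

universe u

section Transport

variable {A : Type u} [CommRing A] {M E E' : Type u} [AddCommGroup M] [Module A M]
  [AddCommGroup E] [Module A E] [AddCommGroup E'] [Module A E']

/-- Injective hulls can be transported along linear equivalences of the target. -/
theorem isInjectiveHull_equiv (f : M →ₗ[A] E) (hf : InjHull.IsInjectiveHull f) (e : E ≃ₗ[A] E') :
    InjHull.IsInjectiveHull (e.toLinearMap ∘ₗ f) := by
  refine { injective := ?_, essential := ?_, isInjective := ?_ }
  · exact e.injective.comp hf.injective
  · intro N hN
    have hN' : N.comap e.toLinearMap ≠ ⊥ := by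
      intro h
      apply hN
      rw [eq_bot_iff]
      intro y hy
      have : e.symm y ∈ N.comap e.toLinearMap := by
        rw [Submodule.mem_comap]
        change e (e.symm y) ∈ N
        rwa [e.apply_symm_apply]
      rw [h, Submodule.mem_bot] at this
      rw [Submodule.mem_bot, ← e.apply_symm_apply y, this, map_zero]
    obtain ⟨z, hz, hz0⟩ := Submodule.exists_mem_ne_zero_of_ne_bot (hf.essential _ hN')
    obtain ⟨hz1, c, hc⟩ := hz
    intro hbot
    have hmem : e z ∈ N ⊓ LinearMap.range (e.toLinearMap ∘ₗ f) := by
      refine ⟨hz1, c, ?_⟩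
      rw [LinearMap.comp_apply, hc]
      rfl
    rw [hbot, Submodule.mem_bot] at hmem
    exact hz0 (e.injective (hmem.trans (map_zero e).symm))
  · constructor
    intro X Y _ _ _ _ i hi g
    obtain ⟨h, hh⟩ := hf.isInjective.out i hi (e.symm.toLinearMap ∘ₗ g)
    refine ⟨e.toLinearMap ∘ₗ h, fun x => ?_⟩
    rw [LinearMap.comp_apply, hh x, LinearMap.comp_apply]
    exact e.apply_symm_apply (g x)

end Transport

section Package

variable {R : Type u} [CommRing R] (p : Ideal R) [p.IsPrime]
variable {H : Type u} [AddCommGroup H] [Module R H]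

/-- Packaging the consequences of `R_p ⊗ H` being an injective hull of the residue field. -/
theorem locHullProps_of_hull
    (f : ResidueField (Localization.AtPrime p) →ₗ[Localization.AtPrime p]
      (Localization.AtPrime p) ⊗[R] H) (hf : InjHull.IsInjectiveHull f)
    (hB : ∀ (s : R) (x : H), s ∉ p → s • x = 0 → x = 0) : LocHullProps p H := by
  have hloc : Function.Injective (TensorProduct.mk R (Localization.AtPrime p) H 1) := by
    rw [injective_iff_map_eq_zero]
    intro x hx
    obtain ⟨c, hc⟩ := (IsLocalizedModule.eq_zero_iff p.primeCompl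
      (TensorProduct.mk R (Localization.AtPrime p) H 1)).mp hx
    exact hB c.1 x c.2 hc
  refine { nontrivial := ?_, soc_ess := ?_, soc_rank := ?_, ext := ?_ }
  · exact nontrivial_of_hull p (TensorProduct.mk R (Localization.AtPrime p) H 1) f hf
  · intro x hx
    exact exists_smul_ne_zero p (TensorProduct.mk R (Localization.AtPrime p) H 1) f hf hloc hx
  · intro x x' hx hx' hx'0
    obtain ⟨r, s, hs, h⟩ :=
      exists_smul_eq_smul p (TensorProduct.mk R (Localization.AtPrime p) H 1) f hf hloc hx hx' hx'0
    exact ⟨r, s, hs, h⟩
  · intro J φ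
    obtain ⟨s, hs, h', h⟩ :=
      exists_smul_eq p (TensorProduct.mk R (Localization.AtPrime p) H 1) f hf hloc J φ
    exact ⟨s, hs, h', h⟩

end Package

section Gorenstein

/-- For a Gorenstein ring and a prime `p` of height `n`: `R_p ⊗ H^n_p(R)` is an injective hull of
the residue field of `R_p`. -/
theorem exists_hull_tensor (R : Type u) [CommRing R] [LocCoh.IsGorensteinRing R] (p : Ideal R)
    [p.IsPrime] (n : ℕ) (hn : p.height = n) (H : Type u) [AddCommGroup H] [Module R H]
    (e₀ : H ≃ₗ[R] LocCoh.H p n R) :
    ∃ f : ResidueField (Localization.AtPrime p) →ₗ[Localization.AtPrime p]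
      (Localization.AtPrime p) ⊗[R] H, InjHull.IsInjectiveHull f := by
  haveI : LocCoh.IsGorensteinLocalRing (Localization.AtPrime p) :=
    LocCoh.IsGorensteinRing.isGorensteinLocalRing_localization p
  have hdim : ringKrullDim (Localization.AtPrime p) = n := by
    rw [IsLocalization.AtPrime.ringKrullDim_eq_height p (Localization.AtPrime p), hn]
    rfl
  obtain ⟨f, hf⟩ := Groth.Agent.Lib.Helper29.GorHull.exists_isInjectiveHull_of_gorenstein
    (Localization.AtPrime p) n hdim
  obtain ⟨e₁⟩ := Groth.Agent.S11617.result R (Localization.AtPrime p) p R n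
  have hmap : Ideal.map (algebraMap R (Localization.AtPrime p)) p =
      maximalIdeal (Localization.AtPrime p) := Localization.AtPrime.map_eq_maximalIdeal
  rw [hmap] at e₁
  let e₂ : LocCoh.H (maximalIdeal (Localization.AtPrime p)) n ((Localization.AtPrime p) ⊗[R] R)
      ≃ₗ[Localization.AtPrime p]
      LocCoh.H (maximalIdeal (Localization.AtPrime p)) n (Localization.AtPrime p) :=
    ((localCohomology (maximalIdeal (Localization.AtPrime p)) n).mapIso
      (TensorProduct.AlgebraTensorModule.rid R (Localization.AtPrime p)
        (Localization.AtPrime p)).toModuleIso).toLinearEquiv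
  let e₃ : (Localization.AtPrime p) ⊗[R] H ≃ₗ[Localization.AtPrime p]
      (Localization.AtPrime p) ⊗[R] LocCoh.H p n R :=
    TensorProduct.AlgebraTensorModule.congr (LinearEquiv.refl _ _) e₀
  let eqv := e₃.trans (e₁.trans e₂)
  exact ⟨eqv.symm.toLinearMap ∘ₗ f, isInjectiveHull_equiv f hf eqv.symm⟩

end Gorenstein

end Groth.Agent.Lib.Helper29GrStarLocal3
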