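import Groth.Agent.Lib.Helper29InjOfExtResidue
import Groth.Agent.Lib.Helper29GrExtLoc
import Groth.Agent.Lib.Helper29GrStarLocal3
import Groth.Agent.S13220
import Groth.Agent.S11664
import Groth.Agent.S0302

/-! For a graded prime `p` of a Noetherian graded ring, the localization at `p` of the *injective
envelope of `R ⧸ p` is an injective hull of the residue field of `R_p` (helper29). -/

set_option autoImplicit false
set_option linter.style.haveILetI false
set_option linter.unusedSectionVars false
open DirectSum TensorProduct IsLocalRing CategoryTheory CategoryTheory.Abelian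

namespace Groth.Agent.Lib.Helper29GrStarHullLoc

open Groth.Agent.Lib.Helper29GrEss Groth.Agent.Lib.Helper29GrHom Groth.Agent.Lib.Helper29GrQuot
  Groth.Agent.Lib.Helper29GrExtLoc

universe u

section Transport

variable {A : Type u} [CommRing A] {M M' E : Type u} [AddCommGroup M] [Module A M]
  [AddCommGroup M'] [Module A M'] [AddCommGroup E] [Module A E]

/-- Injective hulls can be transported along linear equivalences of the source. -/
theorem isInjectiveHull_comp_equiv (f : M →ₗ[A] E) (hf : InjHull.IsInjectiveHull f)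
    (e : M' ≃ₗ[A] M) : InjHull.IsInjectiveHull (f ∘ₗ e.toLinearMap) := by
  have hr : LinearMap.range (f ∘ₗ e.toLinearMap) = LinearMap.range f := by
    apply le_antisymm
    · rintro _ ⟨x, rfl⟩
      exact ⟨e x, rfl⟩
    · rintro _ ⟨x, rfl⟩
      refine ⟨e.symm x, ?_⟩
      rw [LinearMap.comp_apply]
      change f (e (e.symm x)) = f x
      rw [e.apply_symm_apply]
  refine { injective := ?_, essential := ?_, isInjective := ?_ }
  · exact hf.injective.comp e.injective
  · intro N hN
    rw [hr]
    exact hf.essential N hN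
  · exact hf.isInjective

end Transport

section Main

variable {ι : Type} [AddCommGroup ι] [DecidableEq ι] [Module.Free ℤ ι] [Module.Finite ℤ ι]
variable {R : Type u} [CommRing R] [IsNoetherianRing R] (𝒜 : ι → AddSubgroup R) [GradedRing 𝒜]
variable (p : HomogeneousIdeal 𝒜) [p.toIdeal.IsPrime]
variable {E' : Type u} [AddCommGroup E'] [Module R E'] (𝓔 : ι → AddSubgroup E')
  [DirectSum.Decomposition 𝓔] [SetLike.GradedSMul 𝒜 𝓔]
variable (e : (R ⧸ p.toIdeal) →ₗ[R] E') (he : GrLC.IsStarInjHull 𝒜 (GrLC.quotGr 𝒜 p) 𝓔 e)

include he in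
/-- `*E(R/p)_p` is power torsion. -/
theorem isPowerTorsion_localized :
    LocCoh.IsPowerTorsion (maximalIdeal (Localization.AtPrime p.toIdeal))
      (LocalizedModule p.toIdeal.primeCompl E') := by
  intro y
  induction y using LocalizedModule.induction_on with
  | _ x s =>
    have hx : x ∈ GrLC.gam p.toIdeal E' := by
      rw [Groth.Agent.S13220.result R 𝒜 p E' 𝓔 e he]
      trivial
    obtain ⟨k, hk⟩ := hx
    refine ⟨k, ?_⟩
    rw [← Localization.AtPrime.map_eq_maximalIdeal, ← Ideal.map_pow]
    have hle : (p.toIdeal ^ k).map (algebraMap R (Localization.AtPrime p.toIdeal)) ≤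
        LinearMap.ker (LinearMap.toSpanSingleton (Localization.AtPrime p.toIdeal) _
          (LocalizedModule.mk x s)) := by
      rw [Ideal.map_le_iff_le_comap]
      intro r hr
      rw [Ideal.mem_comap, LinearMap.mem_ker, LinearMap.toSpanSingleton_apply, algebraMap_smul,
        LocalizedModule.smul'_mk, hk r hr, LocalizedModule.zero_mk]
    intro a ha
    have := hle ha
    rwa [LinearMap.mem_ker, LinearMap.toSpanSingleton_apply] at this

include he in
/-- `*E(R/p)_p` is injective over `R_p`. -/
theorem injective_localized :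
    Module.Injective (Localization.AtPrime p.toIdeal)
      (LocalizedModule p.toIdeal.primeCompl E') :=
  Groth.Agent.Lib.Helper29InjOfExtResidue.injective_of_ext_one_residue _ _
    (isPowerTorsion_localized 𝒜 p 𝓔 e he)
    (fun x => ext_residue_eq_zero 𝒜 𝓔 he.starInj p 0 x)

include he in
/-- A *essential extension is essential. -/
theorem essential_of_starEss (N' : Submodule R E') (hN' : N' ≠ ⊥) :
    N' ⊓ LinearMap.range e ≠ ⊥ := by
  classical
  have hq : GrLC.quotGr 𝒜 p = quotGr 𝒜 (p.toIdeal : Submodule R R) := by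
    funext g
    ext x
    constructor
    · rintro ⟨r, hr, rfl⟩
      exact ⟨r, hr, rfl⟩
    · rintro ⟨r, hr, rfl⟩
      exact ⟨r, hr, rfl⟩
  have hgr := he.grHom
  rw [hq] at hgr
  have hp : (p.toIdeal : Submodule R R).IsHomogeneous 𝒜 := p.isHomogeneous
  letI decQ : DirectSum.Decomposition (quotGr 𝒜 (p.toIdeal : Submodule R R)) :=
    quotDecomposition 𝒜 _ hp
  have hrange : (LinearMap.range e).IsHomogeneous 𝓔 :=
    range_isHomogeneous 𝓔 (quotGr 𝒜 (p.toIdeal : Submodule R R)) e hgr
  obtain ⟨x, hx, hx0⟩ := Submodule.exists_mem_ne_zero_of_ne_bot hN'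
  obtain ⟨h, r, -, hr0, hr⟩ := exists_smul_mem 𝒜 𝓔 (LinearMap.range e) hrange he.essential x hx0
  intro hbot
  have hmem : r • x ∈ N' ⊓ LinearMap.range e := ⟨N'.smul_mem r hx, hr⟩
  rw [hbot, Submodule.mem_bot] at hmem
  exact hr0 hmem

include he in
/-- The localization of `e` is an injective hull. -/
theorem isInjectiveHull_localized :
    InjHull.IsInjectiveHull (LocalizedModule.map p.toIdeal.primeCompl e) := by
  refine { injective := ?_, essential := ?_, isInjective := ?_ }
  · exact LocalizedModule.map_injective _ e he.injective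
  swap
  · exact injective_localized 𝒜 p 𝓔 e he
  intro L hL
  have h1 := Groth.Agent.S11664.result R p.toIdeal.primeCompl E' (LinearMap.range e)
    (essential_of_starEss 𝒜 p 𝓔 e he) L hL
  have hle : Submodule.localized p.toIdeal.primeCompl (LinearMap.range e) ≤
      LinearMap.range (LocalizedModule.map p.toIdeal.primeCompl e) := by
    intro y hy
    obtain ⟨z, ⟨w, rfl⟩, s, rfl⟩ := (Submodule.mem_localized' _ _ _ _ y).mp hy
    refine ⟨LocalizedModule.mk w s, ?_⟩
    rw [LocalizedModule.map_mk, IsLocalizedModule.mk_eq_mk']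
  intro hbot
  apply h1
  rw [eq_bot_iff] at hbot ⊢
  exact le_trans (inf_le_inf_left L hle) hbot

include he in
/-- `*E(R/p)_p` is isomorphic to any injective hull of the residue field of `R_p`. -/
theorem nonempty_localized_equiv (E₀ : Type u) [AddCommGroup E₀]
    [Module (Localization.AtPrime p.toIdeal) E₀]
    (f : ResidueField (Localization.AtPrime p.toIdeal) →ₗ[Localization.AtPrime p.toIdeal] E₀)
    (hf : InjHull.IsInjectiveHull f) :
    Nonempty (LocalizedModule p.toIdeal.primeCompl E' ≃ₗ[Localization.AtPrime p.toIdeal] E₀) := by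
  have h1 := isInjectiveHull_comp_equiv _ (isInjectiveHull_localized 𝒜 p 𝓔 e he)
    (resIso p.toIdeal).toLinearEquiv.symm
  obtain ⟨ψ, -⟩ := Groth.Agent.S0302.result (Localization.AtPrime p.toIdeal)
    (ResidueField (Localization.AtPrime p.toIdeal)) _ E₀ _ h1 f hf
  exact ⟨ψ⟩

end Main

end Groth.Agent.Lib.Helper29GrStarHullLoc
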