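import Groth.Agent.Lib.Helper29GrStarLocal
import Groth.Agent.Lib.Helper29GrShiftInj
import Groth.Agent.Lib.Helper29GrQuot
import Groth.Agent.S13212
import Groth.Agent.S13214

/-! A graded module `H` over a *local ring `(R, m)` whose localization at `m` is an injective hull
of the residue field of `R_m` is, up to a shift, the *injective envelope of `R ⧸ m` (helper29).
The input from the localization is packaged in `LocHullProps`. -/

set_option autoImplicit false
set_option linter.style.haveILetI false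
set_option linter.unusedSectionVars false
open DirectSum

namespace Groth.Agent.Lib.Helper29GrStarLocal2

open Groth.Agent.Lib.Helper29GrEss Groth.Agent.Lib.Helper29GrHom
  Groth.Agent.Lib.Helper29GrStarLocal Groth.Agent.Lib.Helper29GrShift
  Groth.Agent.Lib.Helper29GrShiftInj

universe u

/-- The properties of an `R`-module `H` that follow when `H_p` is an injective hull of the residue
field of `R_p` and `H → H_p` is injective. -/
structure LocHullProps {R : Type u} [CommRing R] (p : Ideal R) (H : Type u) [AddCommGroup H]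
    [Module R H] : Prop where
  nontrivial : Nontrivial H
  soc_ess : ∀ x : H, x ≠ 0 → ∃ r : R, r • x ≠ 0 ∧ ∀ t ∈ p, t • r • x = 0
  soc_rank : ∀ x x' : H, (∀ t ∈ p, t • x = 0) → (∀ t ∈ p, t • x' = 0) → x' ≠ 0 →
    ∃ r s : R, s ∉ p ∧ s • x = r • x'
  ext : ∀ (J : Ideal R) (φ : J →ₗ[R] H),
    ∃ s : R, s ∉ p ∧ ∃ h' : H, ∀ a : J, s • φ a = (a : R) • h'

variable {ι : Type} [AddCommGroup ι] [DecidableEq ι] [Module.Free ℤ ι] [Module.Finite ℤ ι]
variable {R : Type u} [CommRing R] [IsNoetherianRing R] (𝒜 : ι → AddSubgroup R) [GradedRing 𝒜]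
variable (m : HomogeneousIdeal 𝒜) (hm : GrLC.IsStarLocal 𝒜 m)
variable {H : Type u} [AddCommGroup H] [Module R H] (ℋ : ι → AddSubgroup H)
  [DirectSum.Decomposition ℋ] [SetLike.GradedSMul 𝒜 ℋ]

theorem exists_component_notMem {s : R} (hs : s ∉ m.toIdeal) :
    ∃ k, ((decompose 𝒜 s) k : R) ∉ m.toIdeal := by
  classical
  by_contra hcon
  rw [not_exists] at hcon
  apply hs
  rw [← DirectSum.sum_support_decompose 𝒜 s]
  exact Ideal.sum_mem _ (fun k _ => not_not.mp (hcon k))

include hm in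
/-- Homogeneous maps from homogeneous ideals to `H` are multiplications by homogeneous elements. -/
theorem exists_eq_smul (hP : LocHullProps m.toIdeal H) (J : Ideal R) (hJ : J.IsHomogeneous 𝒜)
    (φ : J →ₗ[R] H) (g : ι) (hφ : ∀ (l : ι) (a : J), (a : R) ∈ 𝒜 l → φ a ∈ ℋ (l + g)) :
    ∃ h ∈ ℋ g, ∀ a : J, φ a = (a : R) • h := by
  classical
  obtain ⟨s, hs, h', hsh⟩ := hP.ext J φ
  obtain ⟨k, hk⟩ := exists_component_notMem 𝒜 m hs
  obtain ⟨u, hu⟩ := isUnit_of_notMem 𝒜 m hm (SetLike.coe_mem ((decompose 𝒜 s) k)) hk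
  set h₀ : H := ((decompose ℋ h') (g + k) : H) with hh₀
  set h : H := ((decompose ℋ ((↑u⁻¹ : R) • h₀)) g : H) with hh
  have key : ∀ (l : ι) (a : J), (a : R) ∈ 𝒜 l → φ a = (a : R) • h := by
    intro l a ha
    have h1 : ((decompose ℋ (s • φ a)) (l + g + k) : H) =
        ((decompose ℋ ((a : R) • h')) (l + g + k) : H) := by rw [hsh a]
    rw [decompose_smul_of_mem_right 𝒜 ℋ (hφ l a ha) s (l + g + k),
      decompose_smul_of_mem 𝒜 ℋ ha h' (l + g + k)] at h1
    have e1 : l + g + k - (l + g) = k := by abel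
    have e2 : l + g + k - l = g + k := by abel
    rw [e1, e2, ← hu] at h1
    have h2 : φ a = (a : R) • ((↑u⁻¹ : R) • h₀) := by
      rw [smul_comm, hh₀, ← h1, ← mul_smul, Units.inv_mul, one_smul]
    have h3 : ((decompose ℋ (φ a)) (l + g) : H) =
        ((decompose ℋ ((a : R) • ((↑u⁻¹ : R) • h₀))) (l + g) : H) := by rw [← h2]
    rw [DirectSum.decompose_of_mem_same _ (hφ l a ha),
      decompose_smul_of_mem 𝒜 ℋ ha _ (l + g), add_sub_cancel_left] at h3
    exact h3
  refine ⟨h, SetLike.coe_mem _, fun a => ?_⟩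
  have ha : a = ∑ l ∈ (decompose 𝒜 (a : R)).support,
      (⟨((decompose 𝒜 (a : R)) l : R), hJ l a.2⟩ : J) := by
    apply Subtype.ext
    rw [Submodule.coe_sum]
    exact (DirectSum.sum_support_decompose 𝒜 (a : R)).symm
  have hr : (a : R) • h = ∑ l ∈ (decompose 𝒜 (a : R)).support,
      ((decompose 𝒜 (a : R)) l : R) • h := by
    rw [← Finset.sum_smul, DirectSum.sum_support_decompose 𝒜 (a : R)]
  rw [hr]
  conv_lhs => rw [ha]
  rw [map_sum]
  apply Finset.sum_congr rfl
  intro l _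
  exact key l _ (SetLike.coe_mem _)

omit [Module.Free ℤ ι] [Module.Finite ℤ ι] [IsNoetherianRing R] in
/-- An injective homogeneous map reflects homogeneity. -/
theorem mem_of_map_mem {N : Type u} [AddCommGroup N] [Module R N] (𝒩 : ι → AddSubgroup N)
    [DirectSum.Decomposition 𝒩] [SetLike.GradedSMul 𝒜 𝒩]
    (f : H →ₗ[R] N) (hf : ∀ (g : ι) (x : H), x ∈ ℋ g → f x ∈ 𝒩 g) (hinj : Function.Injective f)
    {d : ι} {x : H} (hx : f x ∈ 𝒩 d) : x ∈ ℋ d := by
  classical
  have h1 : ∀ i, i ≠ d → ((decompose ℋ x) i : H) = 0 := by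
    intro i hi
    apply hinj
    rw [map_zero, ← decompose_map 𝒩 ℋ f hf x i, DirectSum.decompose_of_mem_ne _ hx (Ne.symm hi)]
  have h2 : x = ((decompose ℋ x) d : H) := by
    conv_lhs => rw [← DirectSum.sum_support_decompose ℋ x]
    rw [Finset.sum_eq_single d]
    · intro i _ hi
      exact h1 i hi
    · intro hd
      rw [DFinsupp.notMem_support_iff.mp hd]
      rfl
  rw [h2]
  exact SetLike.coe_mem _

include hm in
/-- `H` is *injective. -/
theorem isStarInj (hP : LocHullProps m.toIdeal H) : GrLC.IsStarInj 𝒜 ℋ := by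
  classical
  rw [Groth.Agent.S13212.result R 𝒜 H ℋ]
  intro N f hf
  have hhom : ∀ (g : ι) (y : N.carrier), y ∈ N.gr g → y ∈ LinearMap.range f := by
    intro g y hy
    have hrange : (LinearMap.range f).IsHomogeneous N.gr :=
      range_isHomogeneous N.gr ℋ f hf.grHom
    let J : Ideal R := (LinearMap.range f).comap (LinearMap.toSpanSingleton R N.carrier y)
    have hJmem : ∀ a : R, a ∈ J ↔ a • y ∈ LinearMap.range f := fun a => by
      simp only [J, Submodule.mem_comap, LinearMap.toSpanSingleton_apply]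
    have hJ : J.IsHomogeneous 𝒜 := by
      intro l a ha
      rw [hJmem] at ha ⊢
      have := hrange (l + g) ha
      rwa [decompose_smul_of_mem_right 𝒜 N.gr hy a (l + g), add_sub_cancel_right] at this
    let e := LinearEquiv.ofInjective f hf.injective
    let ψ : J →ₗ[R] LinearMap.range f :=
      LinearMap.codRestrict (LinearMap.range f)
        (LinearMap.toSpanSingleton R N.carrier y ∘ₗ J.subtype) (fun a => (hJmem a).mp a.2)
    let φ : J →ₗ[R] H := e.symm.toLinearMap ∘ₗ ψ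
    have hφ : ∀ a : J, f (φ a) = (a : R) • y := by
      intro a
      have h1 : e (φ a) = ψ a := e.apply_symm_apply (ψ a)
      exact congrArg Subtype.val h1
    have hφgr : ∀ (l : ι) (a : J), (a : R) ∈ 𝒜 l → φ a ∈ ℋ (l + g) := by
      intro l a ha
      apply mem_of_map_mem 𝒜 ℋ N.gr f hf.grHom hf.injective
      rw [hφ]
      exact SetLike.GradedSMul.smul_mem (A := 𝒜) (B := N.gr) ha hy
    obtain ⟨h, hh, hφh⟩ := exists_eq_smul 𝒜 m hm ℋ hP J hJ φ g hφgr
    have hy'g : y - f h ∈ N.gr g := sub_mem hy (hf.grHom g h hh)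
    have hkill : ∀ a : R, a • (y - f h) ∈ LinearMap.range f → a • (y - f h) = 0 := by
      intro a ha
      have haJ : a ∈ J := by
        rw [hJmem]
        have : a • y = a • (y - f h) + f (a • h) := by rw [smul_sub, map_smul, sub_add_cancel]
        rw [this]
        exact add_mem ha (LinearMap.mem_range_self f _)
      have h1 := hφ ⟨a, haJ⟩
      rw [hφh ⟨a, haJ⟩, map_smul] at h1
      rw [smul_sub, ← h1, sub_self]
    by_contra hyr
    have hy'0 : y - f h ≠ 0 := by
      intro h0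
      apply hyr
      rw [sub_eq_zero] at h0
      rw [h0]
      exact LinearMap.mem_range_self f h
    have hspan : (Submodule.span R {y - f h}).IsHomogeneous N.gr :=
      span_singleton_isHomogeneous 𝒜 N.gr hy'g
    have hne : Submodule.span R {y - f h} ≠ ⊥ := by
      rw [Ne, Submodule.span_singleton_eq_bot]
      exact hy'0
    apply hf.essential _ hspan hne
    rw [eq_bot_iff]
    rintro z ⟨hz1, hz2⟩
    obtain ⟨a, rfl⟩ := Submodule.mem_span_singleton.mp hz1
    rw [Submodule.mem_bot]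
    exact hkill a hz2
  intro y
  rw [← LinearMap.mem_range, ← DirectSum.sum_support_decompose N.gr y]
  exact Submodule.sum_mem _ (fun g _ => hhom g _ (SetLike.coe_mem _))

omit [Module.Free ℤ ι] [Module.Finite ℤ ι] [IsNoetherianRing R] in
/-- A nonzero homogeneous socle element. -/
theorem exists_homogeneous_socle (hP : LocHullProps m.toIdeal H) :
    ∃ (g₀ : ι) (e₁ : H), e₁ ∈ ℋ g₀ ∧ e₁ ≠ 0 ∧ ∀ t ∈ m.toIdeal, t • e₁ = 0 := by
  classical
  haveI := hP.nontrivial
  obtain ⟨x, hx⟩ := exists_ne (0 : H)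
  obtain ⟨r, hr0, hr⟩ := hP.soc_ess x hx
  obtain ⟨j, hj⟩ := exists_component_ne_zero ℋ hr0
  refine ⟨j, _, SetLike.coe_mem _, hj, fun t ht => ?_⟩
  have ht' : t • ((decompose ℋ (r • x)) j : H) = ∑ l ∈ (decompose 𝒜 t).support,
      ((decompose 𝒜 t) l : R) • ((decompose ℋ (r • x)) j : H) := by
    rw [← Finset.sum_smul, DirectSum.sum_support_decompose 𝒜 t]
  rw [ht']
  apply Finset.sum_eq_zero
  intro l _
  have htl : ((decompose 𝒜 t) l : R) ∈ m.toIdeal := m.isHomogeneous l ht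
  have h1 := decompose_smul_of_mem 𝒜 ℋ (SetLike.coe_mem ((decompose 𝒜 t) l)) (r • x) (l + j)
  rw [add_sub_cancel_left, hr _ htl, DirectSum.decompose_zero] at h1
  exact h1.symm

include hm in
/-- `H` is, up to a shift, the *injective envelope of `R ⧸ m`. -/
theorem exists_equiv_hull (hP : LocHullProps m.toIdeal H)
    (E' : Type u) [AddCommGroup E'] [Module R E'] (𝓔 : ι → AddSubgroup E')
    [DirectSum.Decomposition 𝓔] [SetLike.GradedSMul 𝒜 𝓔]
    (e : (R ⧸ m.toIdeal) →ₗ[R] E') (he : GrLC.IsStarInjHull 𝒜 (GrLC.quotGr 𝒜 m) 𝓔 e) :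
    ∃ (g : ι) (φ : H ≃ₗ[R] E'), GrLC.IsGrHomDeg ℋ 𝓔 φ.toLinearMap g := by
  classical
  obtain ⟨g₀, e₁, he₁g, he₁0, he₁m⟩ := exists_homogeneous_socle 𝒜 m ℋ hP
  have hle : m.toIdeal ≤ LinearMap.ker (LinearMap.toSpanSingleton R H e₁) := by
    intro r hr
    rw [LinearMap.mem_ker, LinearMap.toSpanSingleton_apply]
    exact he₁m r hr
  let f₁ : (R ⧸ m.toIdeal) →ₗ[R] H :=
    Submodule.liftQ m.toIdeal (LinearMap.toSpanSingleton R H e₁) hle
  have hf₁ : ∀ r : R, f₁ (Ideal.Quotient.mk m.toIdeal r) = r • e₁ := by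
    intro r
    change Submodule.liftQ m.toIdeal _ hle (Submodule.Quotient.mk r) = _
    rw [Submodule.liftQ_apply, LinearMap.toSpanSingleton_apply]
  have hf₁inj : Function.Injective f₁ := by
    rw [injective_iff_map_eq_zero]
    intro w hw
    obtain ⟨r, rfl⟩ := Ideal.Quotient.mk_surjective w
    rw [hf₁] at hw
    rw [Ideal.Quotient.eq_zero_iff_mem]
    by_contra hr
    exact he₁0 (eq_zero_of_smul_eq_zero 𝒜 m hm ℋ r hr e₁ hw)
  letI decS : DirectSum.Decomposition (shiftGr ℋ g₀) := shiftDecomposition ℋ g₀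
  haveI gsS : SetLike.GradedSMul 𝒜 (shiftGr ℋ g₀) := shift_gradedSMul 𝒜 ℋ g₀
  have hull₂ : GrLC.IsStarInjHull 𝒜 (GrLC.quotGr 𝒜 m) (shiftGr ℋ g₀) f₁ := by
    refine { injective := hf₁inj, grHom := ?_, essential := ?_, starInj := ?_ }
    · rintro j w ⟨r, hr, rfl⟩
      change f₁ (Ideal.Quotient.mk m.toIdeal r) ∈ ℋ (j + g₀)
      rw [hf₁]
      exact SetLike.GradedSMul.smul_mem (A := 𝒜) (B := ℋ) hr he₁g
    · intro P _ hP0
      obtain ⟨x, hxP, hx0⟩ := Submodule.exists_mem_ne_zero_of_ne_bot hP0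
      obtain ⟨r, hr0, hr⟩ := hP.soc_ess x hx0
      obtain ⟨r', s, hs, hrs⟩ := hP.soc_rank (r • x) e₁ hr he₁m he₁0
      have hne : s • r • x ≠ 0 := fun h =>
        hr0 (eq_zero_of_smul_eq_zero 𝒜 m hm ℋ s hs (r • x) h)
      intro hbot
      have hmem : s • r • x ∈ P ⊓ LinearMap.range f₁ := by
        refine ⟨P.smul_mem s (P.smul_mem r hxP), Ideal.Quotient.mk m.toIdeal r', ?_⟩
        rw [hf₁, hrs]
      rw [hbot, Submodule.mem_bot] at hmem
      exact hne hmem
    · exact isStarInj_shift 𝒜 (GrLC.GMod.of 𝒜 H ℋ) g₀ (isStarInj 𝒜 m hm ℋ hP)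
  have hq : GrLC.quotGr 𝒜 m =
      Groth.Agent.Lib.Helper29GrQuot.quotGr 𝒜 (m.toIdeal : Submodule R R) := by
    funext g
    ext x
    constructor
    · rintro ⟨r, hr, rfl⟩
      exact ⟨r, hr, rfl⟩
    · rintro ⟨r, hr, rfl⟩
      exact ⟨r, hr, rfl⟩
  rw [hq] at he hull₂
  have hp : (m.toIdeal : Submodule R R).IsHomogeneous 𝒜 := m.isHomogeneous
  letI decQ : DirectSum.Decomposition
      (Groth.Agent.Lib.Helper29GrQuot.quotGr 𝒜 (m.toIdeal : Submodule R R)) :=
    Groth.Agent.Lib.Helper29GrQuot.quotDecomposition 𝒜 _ hp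
  haveI gsQ : SetLike.GradedSMul 𝒜
      (Groth.Agent.Lib.Helper29GrQuot.quotGr 𝒜 (m.toIdeal : Submodule R R)) :=
    Groth.Agent.Lib.Helper29GrQuot.quot_gradedSMul 𝒜 _ 𝒜
  obtain ⟨β, hβ, -⟩ := Groth.Agent.S13214.result R 𝒜 (R ⧸ m.toIdeal)
    (Groth.Agent.Lib.Helper29GrQuot.quotGr 𝒜 (m.toIdeal : Submodule R R))
    H (shiftGr ℋ g₀) E' 𝓔 f₁ e hull₂ he
  refine ⟨-g₀, β, fun j x hx => ?_⟩
  apply hβ (j + -g₀) x
  change x ∈ ℋ (j + -g₀ + g₀)
  rwa [neg_add_cancel_right]

end Groth.Agent.Lib.Helper29GrStarLocal2
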