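import Groth.Agent.Lib.Helper29GrStdPoly
import Groth.Agent.Lib.Helper13Hilb

/-! The degree-zero subring of the standard-graded polynomial ring over a field is (a quotient
of) the field; lengths of graded pieces over it are vector-space dimensions (helper29). -/

set_option autoImplicit false
set_option linter.style.haveILetI false
set_option linter.unusedSectionVars false
open DirectSum

noncomputable section

namespace Groth.Agent.Lib.Helper29GrStdPolyLen

open Groth.Agent.Lib.Helper29GrConv Groth.Agent.Lib.Helper29GrStdPoly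

universe u

variable (k : Type u) [Field k] (n : ℕ)

theorem C_mem_zero (c : k) : (MvPolynomial.C c : MvPolynomial (Fin n) k) ∈ A k n 0 := by
  show (MvPolynomial.C c : MvPolynomial (Fin n) k) ∈ GrSyz.stdGr k (Fin n) 0
  rw [GrSyz.mem_stdGr_iff]
  exact MvPolynomial.isWeightedHomogeneous_C _ c

theorem eq_C_of_mem_zero (p : MvPolynomial (Fin n) k) (hp : p ∈ A k n 0) :
    p = MvPolynomial.C (MvPolynomial.coeff 0 p) := by
  have hp' : p.IsWeightedHomogeneous (fun _ : Fin n => (1 : ℤ)) 0 := hp
  ext m
  rw [MvPolynomial.coeff_C]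
  split_ifs with h
  · rw [h]
  · by_contra hne
    have h1 := hp' hne
    rw [Groth.Agent.Helper13Hilb.weight_one_int] at h1
    have h2 : m.degree = 0 := by exact_mod_cast h1
    rw [Finsupp.degree_eq_zero_iff] at h2
    exact h h2.symm

/-- The field maps onto the degree-zero subring. -/
def psi : k →+* GrLC.deg0 (A k n) where
  toFun c := ⟨MvPolynomial.C c, C_mem_zero k n c⟩
  map_one' := Subtype.ext (by simp)
  map_mul' a b := Subtype.ext (by simp)
  map_zero' := Subtype.ext (by simp)
  map_add' a b := Subtype.ext (by simp)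

theorem psi_surjective : Function.Surjective (psi k n) := by
  rintro ⟨p, hp⟩
  exact ⟨MvPolynomial.coeff 0 p, Subtype.ext (eq_C_of_mem_zero k n p hp).symm⟩

instance isArtinianRing_deg0 : IsArtinianRing (GrLC.deg0 (A k n)) :=
  (psi_surjective k n).isArtinianRing

variable {k n}
variable {M : Type u} [AddCommGroup M] [Module k M] [Module (MvPolynomial (Fin n) k) M]
  [IsScalarTower k (MvPolynomial (Fin n) k) M]
  (ℳ : ℤ → Submodule k M) [DirectSum.Decomposition ℳ]
  [SetLike.GradedSMul (GrSyz.stdGr k (Fin n)) ℳ]

/-- Lengths of graded pieces over the degree-zero subring are dimensions over the field. -/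
theorem toNat_length_comp (d : ℤ) :
    (Module.length (GrLC.deg0 (A k n)) (GrLC.comp (A k n) (asGr ℳ) d)).toNat =
      Module.finrank k ↥(ℳ d) := by
  letI : Algebra k (GrLC.deg0 (A k n)) := (psi k n).toAlgebra
  letI : Module k ↥(GrLC.comp (A k n) (asGr ℳ) d) := Module.compHom _ (psi k n)
  haveI : IsScalarTower k (GrLC.deg0 (A k n)) ↥(GrLC.comp (A k n) (asGr ℳ) d) :=
    ⟨fun c r v => by
      show ((psi k n c) * r) • v = (psi k n c) • (r • v)
      rw [mul_smul]⟩
  rw [← Module.length_eq_of_surjective (S := k) (R := GrLC.deg0 (A k n)) (psi_surjective k n),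
    Module.length_eq_rank, Cardinal.toNat_toENat]
  let e : ↥(GrLC.comp (A k n) (asGr ℳ) d) ≃ₗ[k] ↥(ℳ d) :=
    { toFun := fun v => ⟨v.1, v.2⟩
      invFun := fun v => ⟨v.1, v.2⟩
      left_inv := fun v => rfl
      right_inv := fun v => rfl
      map_add' := fun v w => rfl
      map_smul' := fun c v => by
        apply Subtype.ext
        show ((psi k n c : MvPolynomial (Fin n) k)) • (v : M) = c • (v : M)
        show (MvPolynomial.C c : MvPolynomial (Fin n) k) • (v : M) = c • (v : M)
        rw [← MvPolynomial.algebraMap_eq, algebraMap_smul] }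
  exact e.finrank_eq

end Groth.Agent.Lib.Helper29GrStdPolyLen
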