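import Mathlib

/-! Induced decompositions on a homogeneous `S`-submodule and on the quotient by it, for a
module graded by `A`-submodules (`A → S` an algebra), over an arbitrary index type (helper29). -/

set_option autoImplicit false
set_option linter.style.haveILetI false
open DirectSum

noncomputable section

namespace Groth.Agent.Lib.Helper29GrSubQuotA

universe u

variable {ι : Type*} [DecidableEq ι]
variable {A S : Type u} [CommRing A] [CommRing S] [Algebra A S]
variable {L : Type u} [AddCommGroup L] [Module A L] [Module S L] [IsScalarTower A S L]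
variable (𝓛 : ι → Submodule A L) (P : Submodule S L)

/-- The induced pieces on a submodule. -/
def subPieces : ι → Submodule A ↥P := fun g => (𝓛 g).comap (P.subtype.restrictScalars A)

theorem mem_subPieces {g : ι} {x : ↥P} : x ∈ subPieces 𝓛 P g ↔ (x : L) ∈ 𝓛 g := Iff.rfl

/-- The induced pieces on the quotient. -/
def quotPieces : ι → Submodule A (L ⧸ P) := fun g => (𝓛 g).map (P.mkQ.restrictScalars A)

theorem mem_quotPieces {g : ι} {y : L ⧸ P} :
    y ∈ quotPieces 𝓛 P g ↔ ∃ a ∈ 𝓛 g, P.mkQ a = y := Iff.rfl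

/-- Component inclusion maps. -/
def inclPiece (g : ι) : ↥(subPieces 𝓛 P g) →+ ↥(𝓛 g) where
  toFun x := ⟨((x : ↥P) : L), x.2⟩
  map_zero' := rfl
  map_add' _ _ := rfl

theorem inclPiece_injective (g : ι) : Function.Injective (inclPiece 𝓛 P g) := by
  intro x y h
  apply Subtype.ext
  apply Subtype.ext
  exact congrArg (fun z : ↥(𝓛 g) => (z : L)) h

theorem coe_map_inclPiece (y : ⨁ g, subPieces 𝓛 P g) :
    DirectSum.coeAddMonoidHom 𝓛 (DirectSum.map (inclPiece 𝓛 P) y) =
      ((DirectSum.coeAddMonoidHom (subPieces 𝓛 P) y : ↥P) : L) := by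
  classical
  induction y using DirectSum.induction_on with
  | zero => simp
  | of g x =>
    rw [DirectSum.map_of, DirectSum.coeAddMonoidHom_of, DirectSum.coeAddMonoidHom_of]
    rfl
  | add x y hx hy =>
    rw [map_add, map_add, map_add, hx, hy]
    rfl

/-- Component projection maps. -/
def projPiece (g : ι) : ↥(𝓛 g) →+ ↥(quotPieces 𝓛 P g) where
  toFun x := ⟨P.mkQ (x : L), (x : L), x.2, rfl⟩
  map_zero' := Subtype.ext (map_zero P.mkQ)
  map_add' x y := Subtype.ext (map_add P.mkQ (x : L) (y : L))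

theorem coe_map_projPiece (y : ⨁ g, 𝓛 g) :
    DirectSum.coeAddMonoidHom (quotPieces 𝓛 P) (DirectSum.map (projPiece 𝓛 P) y) =
      P.mkQ (DirectSum.coeAddMonoidHom 𝓛 y) := by
  classical
  induction y using DirectSum.induction_on with
  | zero => simp
  | of g x =>
    rw [DirectSum.map_of, DirectSum.coeAddMonoidHom_of, DirectSum.coeAddMonoidHom_of]
    rfl
  | add x y hx hy => rw [map_add, map_add, map_add, map_add, hx, hy]

variable [DirectSum.Decomposition 𝓛]

theorem isInternal_subPieces (hP : ∀ (g : ι) (x : L), x ∈ P → ((decompose 𝓛 x) g : L) ∈ P) :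
    DirectSum.IsInternal (subPieces 𝓛 P) := by
  classical
  constructor
  · rw [injective_iff_map_eq_zero]
    intro y hy
    have h1 := coe_map_inclPiece 𝓛 P y
    rw [hy] at h1
    have h2 : DirectSum.map (inclPiece 𝓛 P) y = 0 := by
      apply (DirectSum.Decomposition.isInternal 𝓛).injective
      rw [h1, map_zero]
      rfl
    exact (DirectSum.map_injective (inclPiece 𝓛 P)).mpr (inclPiece_injective 𝓛 P)
      (h2.trans (map_zero _).symm)
  · intro x
    let y : ⨁ g, subPieces 𝓛 P g := ∑ g ∈ (decompose 𝓛 (x : L)).support,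
      DirectSum.of (fun g => subPieces 𝓛 P g) g
        ⟨⟨((decompose 𝓛 (x : L)) g : L), hP g x x.2⟩,
          (SetLike.coe_mem ((decompose 𝓛 (x : L)) g) : ((decompose 𝓛 (x : L)) g : L) ∈ 𝓛 g)⟩
    refine ⟨y, ?_⟩
    apply Subtype.ext
    rw [← coe_map_inclPiece]
    have h3 : DirectSum.map (inclPiece 𝓛 P) y = decompose 𝓛 (x : L) := by
      simp only [y, map_sum, DirectSum.map_of]
      exact DirectSum.sum_support_of (decompose 𝓛 (x : L))
    rw [h3]
    exact DirectSum.Decomposition.left_inv (x : L)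

/-- The induced decomposition on a homogeneous submodule. -/
@[instance_reducible]
def subDecomposition (hP : ∀ (g : ι) (x : L), x ∈ P → ((decompose 𝓛 x) g : L) ∈ P) :
    DirectSum.Decomposition (subPieces 𝓛 P) :=
  (isInternal_subPieces 𝓛 P hP).chooseDecomposition

/-- The decomposition map on `L`, before passing to the quotient. -/
def preDec : L →+ ⨁ g, quotPieces 𝓛 P g :=
  (DirectSum.map (projPiece 𝓛 P)).comp (DirectSum.decomposeAddEquiv 𝓛).toAddMonoidHom

theorem preDec_apply (x : L) :
    preDec 𝓛 P x = DirectSum.map (projPiece 𝓛 P) (DirectSum.decompose 𝓛 x) := rfl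

theorem preDec_eq_zero (hP : ∀ (g : ι) (x : L), x ∈ P → ((decompose 𝓛 x) g : L) ∈ P) {x : L}
    (hx : x ∈ P) : preDec 𝓛 P x = 0 := by
  rw [preDec_apply]
  ext g
  rw [DirectSum.map_apply, DirectSum.zero_apply]
  change P.mkQ ((DirectSum.decompose 𝓛 x) g : L) = 0
  rw [Submodule.mkQ_apply, Submodule.Quotient.mk_eq_zero]
  exact hP g x hx

/-- The decomposition map on the quotient. -/
def decHom (hP : ∀ (g : ι) (x : L), x ∈ P → ((decompose 𝓛 x) g : L) ∈ P) :
    (L ⧸ P) →+ ⨁ g, quotPieces 𝓛 P g :=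
  QuotientAddGroup.lift P.toAddSubgroup (preDec 𝓛 P) (fun _ hx => preDec_eq_zero 𝓛 P hP hx)

theorem decHom_mk (hP : ∀ (g : ι) (x : L), x ∈ P → ((decompose 𝓛 x) g : L) ∈ P) (x : L) :
    decHom 𝓛 P hP (P.mkQ x) = preDec 𝓛 P x := rfl

/-- The induced decomposition on the quotient by a homogeneous submodule. -/
@[instance_reducible]
def quotDecomposition (hP : ∀ (g : ι) (x : L), x ∈ P → ((decompose 𝓛 x) g : L) ∈ P) :
    DirectSum.Decomposition (quotPieces 𝓛 P) :=
  DirectSum.Decomposition.ofAddHom (quotPieces 𝓛 P) (decHom 𝓛 P hP)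
    (by
      apply AddMonoidHom.ext
      intro y
      obtain ⟨x, rfl⟩ := P.mkQ_surjective y
      rw [AddMonoidHom.comp_apply, decHom_mk, preDec_apply, coe_map_projPiece]
      have : DirectSum.coeAddMonoidHom 𝓛 (DirectSum.decompose 𝓛 x) = x :=
        DirectSum.Decomposition.left_inv x
      rw [this]
      rfl)
    (by
      apply DirectSum.addHom_ext
      rintro g ⟨y, a, ha, rfl⟩
      rw [AddMonoidHom.comp_apply, DirectSum.coeAddMonoidHom_of]
      change decHom 𝓛 P hP (P.mkQ a) = _
      rw [decHom_mk, preDec_apply, DirectSum.decompose_of_mem 𝓛 ha, DirectSum.map_of]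
      rfl)

end Groth.Agent.Lib.Helper29GrSubQuotA
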