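import Groth.Agent.Lib.Helper29GrSub
import Groth.Prelude.Def_GrLC

/-! Maximal *essential extensions inside a *injective module are graded direct summands
(helper29). -/

set_option autoImplicit false
open DirectSum

namespace Groth.Agent.Lib.Helper29GrSummand

open Groth.Agent.Lib.Helper29GrHom Groth.Agent.Lib.Helper29GrEss Groth.Agent.Lib.Helper29GrSub

universe u

variable {ι : Type} [AddCommGroup ι] [DecidableEq ι]
variable {R : Type u} [CommRing R] (𝒜 : ι → AddSubgroup R) [GradedRing 𝒜]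
variable {I : Type u} [AddCommGroup I] [Module R I] (ℐ : ι → AddSubgroup I)
  [DirectSum.Decomposition ℐ] [SetLike.GradedSMul 𝒜 ℐ]

/-- `Y` is a homogeneous submodule containing `M₀`, *essential over `M₀` (elementwise form). -/
def EssOver (M₀ Y : Submodule R I) : Prop :=
  Y.IsHomogeneous ℐ ∧ M₀ ≤ Y ∧
    ∀ (g : ι) (y : I), y ∈ Y → y ∈ ℐ g → y ≠ 0 → ∃ r : R, r • y ≠ 0 ∧ r • y ∈ M₀

theorem essOver_self (M₀ : Submodule R I) (hM₀ : M₀.IsHomogeneous ℐ) : EssOver ℐ M₀ M₀ :=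
  ⟨hM₀, le_rfl, fun _ y hy _ hy0 => ⟨1, by rwa [one_smul], by rwa [one_smul]⟩⟩

theorem mem_piece_of_add {X Q : Submodule R I} (hX : X.IsHomogeneous ℐ) (hQ : Q.IsHomogeneous ℐ)
    (hXQ : X ⊓ Q = ⊥) {x q : I} (hx : x ∈ X) (hq : q ∈ Q) {d : ι} (hxq : x + q ∈ ℐ d) :
    x ∈ ℐ d := by
  have h1 : ((decompose ℐ (x + q)) d : I) = x + q := DirectSum.decompose_of_mem_same _ hxq
  rw [DirectSum.decompose_add, DirectSum.add_apply, AddSubgroup.coe_add] at h1
  have h2 : x - ((decompose ℐ x) d : I) ∈ X ⊓ Q := by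
    constructor
    · exact X.sub_mem hx (hX d hx)
    · have : x - ((decompose ℐ x) d : I) = ((decompose ℐ q) d : I) - q := by
        rw [sub_eq_sub_iff_add_eq_add, ← h1]; abel
      rw [this]
      exact Q.sub_mem (hQ d hq) hq
  rw [hXQ, Submodule.mem_bot, sub_eq_zero] at h2
  rw [h2]
  exact SetLike.coe_mem _

theorem exists_summand (hI : GrLC.IsStarInj 𝒜 ℐ) (M₀ : Submodule R I)
    (hM₀ : M₀.IsHomogeneous ℐ) :
    ∃ (X Q : Submodule R I) (h : I →ₗ[R] I), EssOver ℐ M₀ X ∧ Q.IsHomogeneous ℐ ∧ IsCompl X Q ∧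
      GrLC.IsGrHom ℐ ℐ h ∧ LinearMap.range h = X ∧ ∀ x ∈ X, h x = x := by
  classical
  -- Zorn 1
  obtain ⟨X, hM₀X, hXS, hXmax⟩ := zorn_le_nonempty₀ {Y : Submodule R I | EssOver ℐ M₀ Y}
    (by
      intro c hc hchain y hy
      refine ⟨sSup c, ⟨?_, ?_, ?_⟩, fun z hz => le_sSup hz⟩
      · exact IsHomogeneous.sSup_of_directed ℐ ⟨y, hy⟩ hchain.directedOn (fun Y hY => (hc hY).1)
      · exact (hc hy).2.1.trans (le_sSup hy)
      · intro g z hz hzg hz0
        obtain ⟨Y, hY, hzY⟩ := (Submodule.mem_sSup_of_directed ⟨y, hy⟩ hchain.directedOn).mp hz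
        exact (hc hY).2.2 g z hzY hzg hz0)
    M₀ (essOver_self ℐ M₀ hM₀)
  obtain ⟨hXhom, hM₀X', hXess⟩ := hXS
  -- Zorn 2
  obtain ⟨Q, -, hQS, hQmax⟩ := zorn_le_nonempty₀
    {Q : Submodule R I | Q.IsHomogeneous ℐ ∧ X ⊓ Q = ⊥}
    (by
      intro c hc hchain y hy
      refine ⟨sSup c, ⟨?_, ?_⟩, fun z hz => le_sSup hz⟩
      · exact IsHomogeneous.sSup_of_directed ℐ ⟨y, hy⟩ hchain.directedOn (fun Y hY => (hc hY).1)
      · rw [eq_bot_iff]
        rintro z ⟨hzX, hzc⟩
        obtain ⟨Y, hY, hzY⟩ := (Submodule.mem_sSup_of_directed ⟨y, hy⟩ hchain.directedOn).mp hzc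
        rw [← (hc hY).2]
        exact ⟨hzX, hzY⟩)
    ⊥ ⟨IsHomogeneous.bot ℐ, inf_bot_eq _⟩
  obtain ⟨hQhom, hXQ⟩ := hQS
  -- the submodule A = X ⊔ Q with its grading
  set A : Submodule R I := X ⊔ Q with hA
  have hAhom : A.IsHomogeneous ℐ := IsHomogeneous.sup ℐ hXhom hQhom
  letI decA : DirectSum.Decomposition (subGr ℐ A) := subDecomposition ℐ A hAhom
  haveI gsA : SetLike.GradedSMul 𝒜 (subGr ℐ A) := sub_gradedSMul ℐ A 𝒜
  let X' : Submodule R ↥A := X.comap A.subtype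
  let Q' : Submodule R ↥A := Q.comap A.subtype
  have hc : IsCompl X' Q' := by
    constructor
    · rw [disjoint_iff, eq_bot_iff]
      rintro a ⟨haX, haQ⟩
      have : (a : I) ∈ X ⊓ Q := ⟨haX, haQ⟩
      rw [hXQ, Submodule.mem_bot] at this
      rw [Submodule.mem_bot]
      exact Subtype.ext this
    · rw [codisjoint_iff, eq_top_iff]
      rintro ⟨a, ha⟩ -
      obtain ⟨x, hx, q, hq, rfl⟩ := Submodule.mem_sup.mp ha
      have hxA : x ∈ A := (le_sup_left : X ≤ A) hx
      have hqA : q ∈ A := (le_sup_right : Q ≤ A) hq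
      have : (⟨x + q, ha⟩ : ↥A) = ⟨x, hxA⟩ + ⟨q, hqA⟩ := rfl
      rw [this]
      exact Submodule.add_mem_sup (show (⟨x, hxA⟩ : ↥A) ∈ X' from hx)
        (show (⟨q, hqA⟩ : ↥A) ∈ Q' from hq)
  let g : ↥A →ₗ[R] I := A.subtype ∘ₗ X'.projection Q' hc
  have hgX : ∀ a : ↥A, g a ∈ X := by
    intro a
    change ((X'.projection Q' hc a : ↥A) : I) ∈ X
    have : X'.projection Q' hc a ∈ X' := by
      rw [← Submodule.coe_projectionOnto_apply]
      exact Submodule.coe_mem _
    exact this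
  have hgQ : ∀ a : ↥A, (a : I) - g a ∈ Q := by
    intro a
    have h1 := Submodule.projection_add_projection_eq_self hc a
    have h2 : Q'.projection X' hc.symm a ∈ Q' := by
      rw [← Submodule.coe_projectionOnto_apply]
      exact Submodule.coe_mem _
    have h3 : (a : I) - g a = ((Q'.projection X' hc.symm a : ↥A) : I) := by
      change (a : I) - ((X'.projection Q' hc a : ↥A) : I) = _
      rw [sub_eq_iff_eq_add, ← Submodule.coe_add, add_comm, h1]
    rw [h3]
    exact h2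
  have hg_left : ∀ a : ↥A, (a : I) ∈ X → g a = a := by
    intro a ha
    change ((X'.projection Q' hc a : ↥A) : I) = a
    rw [Submodule.projection_apply_of_mem_left hc (show a ∈ X' from ha)]
  have hg_right : ∀ a : ↥A, (a : I) ∈ Q → g a = 0 := by
    intro a ha
    change ((X'.projection Q' hc a : ↥A) : I) = 0
    rw [Submodule.projection_apply_of_mem_right hc (show a ∈ Q' from ha)]
    rfl
  have hggr : GrLC.IsGrHom (subGr ℐ A) ℐ g := by
    intro d a ha
    have ha' : (a : I) ∈ ℐ d := ha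
    have : g a + ((a : I) - g a) ∈ ℐ d := by rwa [add_sub_cancel]
    exact mem_piece_of_add ℐ hXhom hQhom hXQ (hgX a) (hgQ a) this
  -- extend g to h : I → I
  obtain ⟨h, hhgr, hh⟩ := hI (GrLC.GMod.of 𝒜 ↥A (subGr ℐ A)) (GrLC.GMod.of 𝒜 I ℐ) A.subtype
    (fun d a ha => ha) (Submodule.subtype_injective A) g hggr
  change I →ₗ[R] I at h
  change GrLC.IsGrHom ℐ ℐ h at hhgr
  change h ∘ₗ A.subtype = g at hh
  have hhX : ∀ x ∈ X, h x = x := by
    intro x hx
    have hxA : x ∈ A := (le_sup_left : X ≤ A) hx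
    have := LinearMap.congr_fun hh ⟨x, hxA⟩
    rw [hg_left ⟨x, hxA⟩ hx] at this
    exact this
  have hhQ : ∀ q ∈ Q, h q = 0 := by
    intro q hq
    have hqA : q ∈ A := (le_sup_right : Q ≤ A) hq
    have := LinearMap.congr_fun hh ⟨q, hqA⟩
    rw [hg_right ⟨q, hqA⟩ hq] at this
    exact this
  -- ker h = Q
  have hker : LinearMap.ker h = Q := by
    apply le_antisymm
    · apply hQmax ⟨ker_isHomogeneous ℐ ℐ h hhgr, ?_⟩
      · intro q hq; exact hhQ q hq
      · rw [eq_bot_iff]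
        rintro z ⟨hzX, hzk⟩
        rw [SetLike.mem_coe, LinearMap.mem_ker, hhX z hzX] at hzk
        rw [Submodule.mem_bot]; exact hzk
    · intro q hq; exact hhQ q hq
  -- range h is *essential over M₀
  have hrange_hom : (LinearMap.range h).IsHomogeneous ℐ := range_isHomogeneous ℐ ℐ h hhgr
  have hXrange : X ≤ LinearMap.range h := fun x hx => ⟨x, hhX x hx⟩
  have hrangeS : EssOver ℐ M₀ (LinearMap.range h) := by
    refine ⟨hrange_hom, hM₀X'.trans hXrange, ?_⟩
    rintro d y ⟨z, rfl⟩ hyd hy0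
    -- WLOG z homogeneous
    set z' : I := ((decompose ℐ z) d : I) with hz'
    have hz'd : z' ∈ ℐ d := SetLike.coe_mem _
    have hhz' : h z' = h z := by
      rw [hz', ← decompose_map ℐ ℐ h hhgr z d, DirectSum.decompose_of_mem_same _ hyd]
    have hz'Q : z' ∉ Q := by
      intro hq
      apply hy0
      rw [← hhz', hhQ z' hq]
    -- Q ⊔ span{z'} is bigger
    have hQ'hom : (Q ⊔ Submodule.span R {z'}).IsHomogeneous ℐ :=
      IsHomogeneous.sup ℐ hQhom (span_singleton_isHomogeneous 𝒜 ℐ hz'd)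
    have hne : X ⊓ (Q ⊔ Submodule.span R {z'}) ≠ ⊥ := by
      intro hbot
      have := hQmax ⟨hQ'hom, hbot⟩ le_sup_left
      exact hz'Q (this (Submodule.mem_sup_right (Submodule.mem_span_singleton_self z')))
    obtain ⟨x, hx, hx0⟩ := Submodule.exists_mem_ne_zero_of_ne_bot hne
    obtain ⟨hxX, hxQ'⟩ := hx
    obtain ⟨e, he⟩ := exists_component_ne_zero ℐ hx0
    -- the e-th component
    obtain ⟨q, hq, w, hw, hqw⟩ := Submodule.mem_sup.mp hxQ'
    obtain ⟨r, rfl⟩ := Submodule.mem_span_singleton.mp hw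
    have hxe : ((decompose ℐ x) e : I) = ((decompose ℐ q) e : I) +
        ((decompose 𝒜 r) (e - d) : R) • z' := by
      rw [← hqw, DirectSum.decompose_add, DirectSum.add_apply, AddSubgroup.coe_add,
        decompose_smul_of_mem_right 𝒜 ℐ hz'd r e]
    have hxeX : ((decompose ℐ x) e : I) ∈ X := hXhom e hxX
    have hqe : ((decompose ℐ q) e : I) ∈ Q := hQhom e hq
    have h4 : h ((decompose ℐ x) e : I) = ((decompose 𝒜 r) (e - d) : R) • h z := by
      rw [hxe, map_add, hhQ _ hqe, zero_add, map_smul, hhz']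
    rw [hhX _ hxeX] at h4
    obtain ⟨s, hs0, hsM⟩ := hXess e _ hxeX (SetLike.coe_mem _) he
    refine ⟨s * ((decompose 𝒜 r) (e - d) : R), ?_, ?_⟩
    · rw [mul_smul, ← h4]; exact hs0
    · rw [mul_smul, ← h4]; exact hsM
  have hrange : LinearMap.range h = X := le_antisymm (hXmax hrangeS hXrange) hXrange
  refine ⟨X, Q, h, ⟨hXhom, hM₀X', hXess⟩, hQhom, ?_, hhgr, hrange, hhX⟩
  constructor
  · rw [disjoint_iff]; exact hXQ
  · rw [codisjoint_iff, eq_top_iff]
    intro z _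
    have hhz : h z ∈ X := by rw [← hrange]; exact ⟨z, rfl⟩
    have : z - h z ∈ Q := by
      rw [← hker, LinearMap.mem_ker, map_sub, hhX _ hhz, sub_self]
    have hz : z = h z + (z - h z) := by abel
    rw [hz]
    exact Submodule.add_mem_sup hhz this

end Groth.Agent.Lib.Helper29GrSummand
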