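import Groth.Agent.Lib.Helper29GrTopTensor
import Groth.Agent.Lib.Helper29GrDualAlg
import Groth.Agent.Lib.Helper29GrASH
import Groth.Agent.Lib.Helper8CdDim

/-! Graded local duality in the top degree: `(H^n_m(M))^* ≅ Hom_R(M, (H^n_m(R))^*)` (helper29). -/

set_option autoImplicit false
set_option linter.style.haveILetI false
set_option linter.unusedSectionVars false
open DirectSum TensorProduct

noncomputable section

namespace Groth.Agent.Lib.Helper29.GrTopDual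

open Groth.Agent.Lib.Helper29GrConv Groth.Agent.Lib.Helper29.GrASH

universe u

theorem cdLE_of_ringKrullDim (R : Type u) [CommRing R] [IsNoetherianRing R] (n : ℕ)
    (hn : ringKrullDim R = n) (I : Ideal R) : LocCoh.CdLE R I n := by
  intro M _ _ i hi
  refine ⟨fun x y => ?_⟩
  have h : ringKrullDim R < ((i : ℕ) : WithBot ℕ∞) := by
    rw [hn]
    exact_mod_cast hi
  rw [Groth.Agent.Lib.Helper8.CdDim.Q_all i R h I M x,
    Groth.Agent.Lib.Helper8.CdDim.Q_all i R h I M y]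

variable (k : Type u) [Field k] (R : Type u) [CommRing R] [Algebra k R] [IsNoetherianRing R]
  (𝒜 : ℤ → Submodule k R) [GradedAlgebra 𝒜] (mR : HomogeneousIdeal 𝒜) (n : ℕ)
  (hcd : LocCoh.CdLE R mR.toIdeal n)
  (I : GrLC.StarInjRes 𝒜 𝒜) [Module k (I.H mR n)] [IsScalarTower k R (I.H mR n)]
  [DirectSum.Decomposition (I.Hgr mR n)]
  (K : Type u) [AddCommGroup K] [Module R K] [Module k K] [IsScalarTower k R K]
  (𝒦 : ℤ → AddSubgroup K) [DirectSum.Decomposition 𝒦] [SetLike.GradedSMul 𝒜 𝒦]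
  (βK : K →ₗ[k] I.H mR n →ₗ[k] k) (hK : GrSeg.IsGDual R (I.Hgr mR n) 𝒦 βK)
  (M : Type u) [AddCommGroup M] [Module R M]
  (ℳ : ℤ → AddSubgroup M) [DirectSum.Decomposition ℳ] [SetLike.GradedSMul 𝒜 ℳ] [Module.Finite R M]
  (EM : GrLC.StarInjRes 𝒜 ℳ) [Module k (EM.H mR n)] [IsScalarTower k R (EM.H mR n)]
  [DirectSum.Decomposition (EM.Hgr mR n)]
  (D : Type u) [AddCommGroup D] [Module R D] [Module k D] [IsScalarTower k R D]
  (𝒟 : ℤ → AddSubgroup D) [DirectSum.Decomposition 𝒟]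
  (βD : D →ₗ[k] EM.H mR n →ₗ[k] k) (hD : GrSeg.IsGDual R (EM.Hgr mR n) 𝒟 βD)

include hcd in
theorem exists_T : ∃ T : M ⊗[R] I.H mR n ≃ₗ[R] EM.H mR n, ∀ (j : ℤ) (x : M), x ∈ ℳ j →
    ∀ (g : ℤ) (h : I.H mR n), h ∈ I.Hgr mR n g → T (x ⊗ₜ h) ∈ EM.Hgr mR n (g + j) := by
  obtain ⟨T', hT'⟩ := Groth.Agent.Lib.Helper29.GrTopTensor.exists_tensor_equiv
    (idealAS 𝒜 mR) n hcd (resAS I) (resAS EM)
  refine ⟨(TensorProduct.congr (LinearEquiv.refl R M) (asH I mR n)).trans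
    (T'.trans (asH EM mR n).symm), fun j x hx g h hh => ?_⟩
  change (asH EM mR n).symm (T' (x ⊗ₜ (asH I mR n h))) ∈ _
  exact asH_symm_mem_Hgr EM mR n (g + j) _ (hT' j x hx g _ (asH_mem_Hgr I mR n g h hh))

include hcd hK hD in
theorem main : ∃ ε : D ≃ₗ[R] (M →ₗ[R] K),
    GrLC.IsGrHom 𝒟 (fun d : ℤ => (GrLC.homDeg 𝒜 ℳ 𝒦 d).toAddSubgroup) ε.toLinearMap := by
  obtain ⟨T, hT⟩ := exists_T k R 𝒜 mR n hcd I M ℳ EM
  haveI : SetLike.GradedSMul (asGr 𝒜) 𝒦 :=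
    ⟨fun {_ _ _ _} ha hb => SetLike.GradedSMul.smul_mem (A := 𝒜) (B := 𝒦) ha hb⟩
  haveI : SetLike.GradedSMul (asGr 𝒜) ℳ :=
    ⟨fun {_ _ _ _} ha hb => SetLike.GradedSMul.smul_mem (A := 𝒜) (B := ℳ) ha hb⟩
  obtain ⟨ε, hε⟩ := Groth.Agent.Lib.Helper29.GrDualAlg.exists_dual_equiv (asGr 𝒜) hK hD T hT
  exact ⟨ε, fun g d hd => hε g d hd⟩

end Groth.Agent.Lib.Helper29.GrTopDual
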