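import Groth.Agent.Lib.Helper29GrLCFun
import Groth.Agent.Lib.Helper8Watts

/-! Top graded local cohomology as a tensor product: `M ⊗ H^n_a(R) ≅ H^n_a(M)` compatibly with
degrees, when `cd(R, a) ≤ n` (helper29). -/

set_option autoImplicit false
set_option linter.style.haveILetI false
set_option linter.unusedSectionVars false
open CategoryTheory DirectSum TensorProduct

noncomputable section

namespace Groth.Agent.Lib.Helper29.GrTopTensor

open Groth.Agent.Lib.Helper29LCAcyclic Groth.Agent.Lib.Helper29.GrLCFun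
  Groth.Agent.Lib.Helper8.Watts Groth.Agent.Lib.Helper8.Bridge Groth.Agent.Lib.Helper8.LocDual

universe u

variable {ι : Type} [AddCommGroup ι] [DecidableEq ι] [Module.Free ℤ ι] [Module.Finite ℤ ι]
variable {R : Type u} [CommRing R] [IsNoetherianRing R] {𝒜 : ι → AddSubgroup R} [GradedRing 𝒜]
variable (a : HomogeneousIdeal 𝒜)
variable {M : Type u} [AddCommGroup M] [Module R M] {ℳ : ι → AddSubgroup M}
  [DirectSum.Decomposition ℳ] [SetLike.GradedSMul 𝒜 ℳ]

theorem exists_tensor_equiv (n : ℕ) (hcd : LocCoh.CdLE R a.toIdeal n)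
    (I : GrLC.StarInjRes 𝒜 𝒜) (EM : GrLC.StarInjRes 𝒜 ℳ) :
    ∃ T : M ⊗[R] I.H a n ≃ₗ[R] EM.H a n, ∀ (j : ι) (x : M), x ∈ ℳ j → ∀ (g : ι) (h : I.H a n),
      h ∈ I.Hgr a n g → T (x ⊗ₜ h) ∈ EM.Hgr a n (g + j) := by
  let T : M ⊗[R] I.H a n ≃ₗ[R] EM.H a n :=
    ((TensorProduct.congr (LinearEquiv.refl R M) (cE a I n)).trans
      ((TensorProduct.comm R M (Er a.toIdeal n)).trans
        (τEquiv a.toIdeal n hcd (ModuleCat.of R M)))).trans (cE a EM n).symm
  refine ⟨T, fun j x hx g h hh => ?_⟩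
  have hT : T (x ⊗ₜ h) = (cE a EM n).symm ((localCohomology a.toIdeal n).map
      (ModuleCat.ofHom (LinearMap.toSpanSingleton R M x)) (cE a I n h)) := by
    change (cE a EM n).symm (τ a.toIdeal n (ModuleCat.of R M) ((cE a I n h) ⊗ₜ x)) = _
    rw [τ_tmul]
    rfl
  rw [hT]
  have hf : GrLC.IsGrHomDeg 𝒜 ℳ (LinearMap.toSpanSingleton R M x) j := by
    intro g' r hr
    rw [LinearMap.toSpanSingleton_apply]
    exact SetLike.GradedSMul.smul_mem hr hx
  exact map_mem_Hgr_deg a I EM (LinearMap.toSpanSingleton R M x) j hf n g h hh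

end Groth.Agent.Lib.Helper29.GrTopTensor
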