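import Groth.Agent.Lib.Helper25FinQuotSk
import Mathlib

/-! Cohen–Macaulayness descends along a finite injective local homomorphism with a module
retraction (helper29). -/

set_option autoImplicit false
set_option linter.style.haveILetI false
universe u

namespace Groth.Agent.Lib.Helper29.RetractCM

open CategoryTheory Abelian Groth.Agent.Lib

variable {B R : Type u} [CommRing B] [CommRing R] [Algebra B R] [IsNoetherianRing B]
  [Module.Finite B R]

/-- depth passes to a module retract (no going-down needed). -/
theorem le_idealDepth_self_of_retract (E : R →ₗ[B] B)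
    (hE : ∀ b : B, E (algebraMap B R b) = b) (I : Ideal B) (n : ℕ)
    (h : (n : ℕ∞) ≤ LocCoh.idealDepth I R) : (n : ℕ∞) ≤ LocCoh.idealDepth I B := by
  rw [Helper28.natCast_le_idealDepth_iff_ext'] at h ⊢
  intro i hi
  refine Helper25.FinQuotSk.subsingleton_ext_of_retract (ModuleCat.ofHom (Algebra.linearMap B R))
    (ModuleCat.ofHom E) ?_ i (h i hi)
  ext
  have h1 := hE 1
  rw [map_one] at h1
  simpa using h1

theorem idealDepth_le_of_retract (E : R →ₗ[B] B)
    (hE : ∀ b : B, E (algebraMap B R b) = b) (I : Ideal B) :
    LocCoh.idealDepth I R ≤ LocCoh.idealDepth I B := by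
  rw [← ENat.forall_natCast_le_iff_le]
  intro n hn
  exact le_idealDepth_self_of_retract E hE I n hn

/-- Cohen–Macaulayness descends along a finite injective local homomorphism of local rings
admitting a module retraction. -/
theorem isCohenMacaulayLocalRing_of_retract [IsLocalRing B]
    [hR : LocCoh.IsCohenMacaulayLocalRing R] [IsLocalHom (algebraMap B R)]
    (hinj : Function.Injective (algebraMap B R)) (E : R →ₗ[B] B)
    (hE : ∀ b : B, E (algebraMap B R b) = b) : LocCoh.IsCohenMacaulayLocalRing B := by
  haveI : IsNoetherianRing R := inferInstance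
  haveI : IsLocalRing R := inferInstance
  haveI : Algebra.IsIntegral B R := Algebra.IsIntegral.of_finite B R
  refine { supportDim_eq_depth := le_antisymm ?_ Helper28.depth_le_supportDim }
  rw [Module.supportDim_self_eq_ringKrullDim,
    ← Helper5.ringKrullDim_eq_of_isIntegral_of_injective B R hinj,
    ← Module.supportDim_self_eq_ringKrullDim, hR.supportDim_eq_depth,
    ← Helper28.depth_eq_depth_of_isLocalHom_of_finite (A := B) (B := R) (M := R)]
  exact WithBot.coe_le_coe.mpr (idealDepth_le_of_retract E hE _)

end Groth.Agent.Lib.Helper29.RetractCM
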