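import Mathlib
import Groth.Agent.Lib.Helper29GrUnit
import Groth.Agent.Lib.Helper29GrPieceFin
import Groth.Agent.Lib.Helper29GrDeg0
import Groth.Agent.Lib.Helper29RetractCM
import Groth.Agent.Lib.Helper28ProjNormal
import Groth.Agent.Lib.Helper28PolyCM
set_option autoImplicit false
set_option linter.style.haveILetI false
universe u
open DirectSum

namespace Groth.Agent.Lib.Helper29.GrUnitCM

open Groth.Agent.Lib.Helper29.GrUnit

variable {R : Type u} [CommRing R] (𝒜 : ℤ → AddSubgroup R) [GradedRing 𝒜]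

section Reg

open Classical in
/-- `t - 1` is a nonzerodivisor when `t` is a homogeneous unit of positive degree. -/
theorem sub_one_mem_nonZeroDivisors {N : ℤ} (hN : 0 < N) {t : R} (ht : t ∈ 𝒜 N)
    (htu : IsUnit t) : t - 1 ∈ nonZeroDivisors R := by
  rw [mem_nonZeroDivisors_iff_right]
  intro r hr
  by_contra hr0
  have hr0' : decompose 𝒜 r ≠ 0 := by
    intro h0
    apply hr0
    have := congrArg (decompose 𝒜).symm h0
    simpa using this
  have hsupp : (decompose 𝒜 r).support.Nonempty := by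
    rw [Finset.nonempty_iff_ne_empty, Ne, DFinsupp.support_eq_empty]
    exact hr0'
  set j := (decompose 𝒜 r).support.max' hsupp with hj
  have hjmem : j ∈ (decompose 𝒜 r).support := Finset.max'_mem _ _
  have hjtop : (decompose 𝒜 r (N + j) : R) = 0 := by
    have : N + j ∉ (decompose 𝒜 r).support := fun hmem => by
      have := Finset.le_max' _ _ hmem
      rw [← hj] at this
      omega
    rw [DFinsupp.notMem_support_iff] at this
    rw [this]; rfl
  have h1 : (decompose 𝒜 ((t - 1) * r) (N + j) : R) =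
      t * (decompose 𝒜 r j : R) - (decompose 𝒜 r (N + j) : R) := by
    rw [sub_mul, one_mul, decompose_sub, DirectSum.sub_apply, AddSubgroup.coe_sub,
      coe_decompose_mul_add_of_left_mem 𝒜 ht]
  rw [mul_comm] at hr
  rw [hr, hjtop, sub_zero, decompose_zero, DirectSum.zero_apply, ZeroMemClass.coe_zero] at h1
  rw [DFinsupp.mem_support_iff] at hjmem
  apply hjmem
  apply Subtype.ext
  rw [ZeroMemClass.coe_zero]
  exact (htu.mul_right_eq_zero).mp h1.symm

end Reg


section Retract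

variable (N : ℕ) (hN : 0 < N) (t : Rˣ) (ht : (t : R) ∈ 𝒜 (N : ℤ))

/-- component of the retraction. -/
noncomputable def piAux (i : ℤ) : 𝒜 i →+ R :=
  if (N : ℤ) ∣ i then (AddMonoidHom.mulLeft ((t ^ (-(i / N)) : Rˣ) : R)).comp (𝒜 i).subtype else 0

/-- the projection `B → B_0`, `b ↦ ∑ t^{-k} b_{kN}` (as an additive map to `B`). -/
noncomputable def piAdd : R →+ R :=
  (DirectSum.toAddMonoid (piAux 𝒜 N t)).comp (decomposeAddEquiv 𝒜).toAddMonoidHom

theorem piAdd_of_mem {i : ℤ} {b : R} (hb : b ∈ 𝒜 i) :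
    piAdd 𝒜 N t b = if (N : ℤ) ∣ i then ((t ^ (-(i / N)) : Rˣ) : R) * b else 0 := by
  have h1 : (decomposeAddEquiv 𝒜).toAddMonoidHom b = DirectSum.of _ i ⟨b, hb⟩ := by
    change decompose 𝒜 b = _
    rw [decompose_of_mem 𝒜 hb]
  unfold piAdd
  rw [AddMonoidHom.comp_apply, h1, DirectSum.toAddMonoid_of]
  unfold piAux
  split_ifs with h
  · rfl
  · rfl

include ht in
theorem piAdd_mem (b : R) : piAdd 𝒜 N t b ∈ 𝒜 0 := by
  induction b using DirectSum.Decomposition.inductionOn 𝒜 with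
  | zero => rw [map_zero]; exact zero_mem _
  | @homogeneous i b =>
    rw [piAdd_of_mem 𝒜 N t b.2]
    split_ifs with h
    · have := SetLike.mul_mem_graded (zpow_mem 𝒜 t ht (-(i / N))) b.2
      have e : -(i / (N : ℤ)) * N + i = 0 := by
        obtain ⟨k, rfl⟩ := h
        by_cases hN0 : (N : ℤ) = 0
        · simp [hN0]
        · rw [Int.mul_ediv_cancel_left _ hN0]; ring
      rwa [e] at this
    · exact zero_mem _
  | add x y hx hy => rw [map_add]; exact add_mem hx hy

theorem piAdd_deg0 {c : R} (hc : c ∈ 𝒜 0) : piAdd 𝒜 N t c = c := by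
  rw [piAdd_of_mem 𝒜 N t hc, if_pos (dvd_zero _)]
  simp

theorem piAdd_mul_deg0 {c : R} (hc : c ∈ 𝒜 0) (b : R) :
    piAdd 𝒜 N t (c * b) = c * piAdd 𝒜 N t b := by
  induction b using DirectSum.Decomposition.inductionOn 𝒜 with
  | zero => simp
  | @homogeneous i b =>
    have hcb : c * (b : R) ∈ 𝒜 i := by
      have := SetLike.mul_mem_graded hc b.2
      rwa [zero_add] at this
    rw [piAdd_of_mem 𝒜 N t hcb, piAdd_of_mem 𝒜 N t b.2]
    split_ifs with h
    · ring
    · simp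
  | add x y hx hy => rw [mul_add, map_add, map_add, hx, hy, mul_add]

include hN ht in
theorem piAdd_t_mul (b : R) : piAdd 𝒜 N t ((t : R) * b) = piAdd 𝒜 N t b := by
  have hN' : (N : ℤ) ≠ 0 := by exact_mod_cast hN.ne'
  induction b using DirectSum.Decomposition.inductionOn 𝒜 with
  | zero => simp
  | @homogeneous i b =>
    have htb : (t : R) * (b : R) ∈ 𝒜 ((N : ℤ) + i) := SetLike.mul_mem_graded ht b.2
    rw [piAdd_of_mem 𝒜 N t htb, piAdd_of_mem 𝒜 N t b.2]
    by_cases h : (N : ℤ) ∣ i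
    · rw [if_pos h, if_pos ((Int.dvd_add_right (dvd_refl _)).mpr h)]
      obtain ⟨k, rfl⟩ := h
      have e : ((N : ℤ) + N * k) / N = k + 1 := by
        have : (N : ℤ) + N * k = N * (k + 1) := by ring
        rw [this, Int.mul_ediv_cancel_left _ hN']
      rw [e, Int.mul_ediv_cancel_left _ hN', ← mul_assoc]
      congr 1
      have : ((t ^ (-(k + 1)) : Rˣ) : R) * (t : R) = ((t ^ (-(k + 1)) * t : Rˣ) : R) := by
        rw [Units.val_mul]
      rw [this]
      congr 1
      rw [neg_add, zpow_add, zpow_neg_one, mul_assoc, inv_mul_cancel, mul_one]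
    · rw [if_neg h, if_neg (fun h' => h ((Int.dvd_add_right (dvd_refl _)).mp h'))]
  | add x y hx hy => rw [mul_add, map_add, map_add, hx, hy]

/-- the `B_0`-linear projection `B → B_0`. -/
noncomputable def piLin : R →ₗ[SetLike.GradeZero.subring 𝒜] SetLike.GradeZero.subring 𝒜 where
  toFun b := ⟨piAdd 𝒜 N t b, piAdd_mem 𝒜 N t ht b⟩
  map_add' x y := Subtype.ext (map_add _ x y)
  map_smul' c b := Subtype.ext (piAdd_mul_deg0 𝒜 N t c.2 b)

theorem piLin_coe (c : SetLike.GradeZero.subring 𝒜) : piLin 𝒜 N t ht (c : R) = c :=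
  Subtype.ext (piAdd_deg0 𝒜 N t c.2)

include hN in
theorem piLin_vanish :
    (Ideal.span {(t : R) - 1}).restrictScalars (SetLike.GradeZero.subring 𝒜) ≤
      LinearMap.ker (piLin 𝒜 N t ht) := by
  intro x hx
  rw [Submodule.restrictScalars_mem, Ideal.mem_span_singleton'] at hx
  obtain ⟨r, rfl⟩ := hx
  rw [LinearMap.mem_ker]
  apply Subtype.ext
  change piAdd 𝒜 N t (r * ((t : R) - 1)) = 0
  have : r * ((t : R) - 1) = (t : R) * r - r := by ring
  rw [this, map_sub, piAdd_t_mul 𝒜 N hN t ht, sub_self]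

/-- the retraction `C = B/(t-1) → B_0`. -/
noncomputable def retr : (R ⧸ Ideal.span {(t : R) - 1}) →ₗ[SetLike.GradeZero.subring 𝒜]
    SetLike.GradeZero.subring 𝒜 :=
  (Submodule.liftQ _ (piLin 𝒜 N t ht) (piLin_vanish 𝒜 N hN t ht)).comp
    (Submodule.Quotient.restrictScalarsEquiv (SetLike.GradeZero.subring 𝒜)
      (Ideal.span {(t : R) - 1})).symm.toLinearMap

theorem retr_algebraMap (c : SetLike.GradeZero.subring 𝒜) :
    retr 𝒜 N hN t ht (algebraMap (SetLike.GradeZero.subring 𝒜) (R ⧸ Ideal.span {(t : R) - 1}) c)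
      = c := by
  change (Submodule.liftQ _ (piLin 𝒜 N t ht) (piLin_vanish 𝒜 N hN t ht))
    (Submodule.Quotient.mk (c : R)) = c
  rw [Submodule.liftQ_apply]
  exact piLin_coe 𝒜 N t ht c

end Retract


section Finite

variable [IsNoetherianRing R] (N : ℕ) (hN : 0 < N) (t : Rˣ) (ht : (t : R) ∈ 𝒜 (N : ℤ))

include hN ht in
theorem finite_quot :
    Module.Finite (SetLike.GradeZero.subring 𝒜) (R ⧸ Ideal.span {(t : R) - 1}) := by
  classical
  have hN' : (0 : ℤ) < N := by exact_mod_cast hN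
  haveI : ∀ r : Fin N, Module.Finite (GrLC.deg0 𝒜) (GrLC.comp 𝒜 𝒜 ((r : ℕ) : ℤ)) := fun r =>
    Groth.Agent.Lib.Helper29GrPieceFin.finite_comp 𝒜 𝒜 _
  let g : ∀ r : Fin N, GrLC.comp 𝒜 𝒜 ((r : ℕ) : ℤ) →ₗ[GrLC.deg0 𝒜]
      (R ⧸ Ideal.span {(t : R) - 1}) := fun r =>
    (Ideal.Quotient.mkₐ (GrLC.deg0 𝒜) (Ideal.span {(t : R) - 1})).toLinearMap.comp
      (GrLC.comp 𝒜 𝒜 ((r : ℕ) : ℤ)).subtype
  let f : (∀ r : Fin N, GrLC.comp 𝒜 𝒜 ((r : ℕ) : ℤ)) →ₗ[GrLC.deg0 𝒜]
      (R ⧸ Ideal.span {(t : R) - 1}) :=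
    ∑ r : Fin N, (g r).comp (LinearMap.proj r)
  have hf : ∀ (r : Fin N) (y : GrLC.comp 𝒜 𝒜 ((r : ℕ) : ℤ)),
      f (Pi.single r y) = Ideal.Quotient.mk (Ideal.span {(t : R) - 1}) (y : R) := by
    intro r y
    change (∑ r' : Fin N, (g r').comp (LinearMap.proj r')) (Pi.single r y) = _
    rw [LinearMap.sum_apply, Finset.sum_eq_single r]
    · simp only [LinearMap.comp_apply, LinearMap.proj_apply, Pi.single_eq_same]
      rfl
    · intro r' _ hr'
      simp only [LinearMap.comp_apply, LinearMap.proj_apply, Pi.single_eq_of_ne hr', map_zero]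
    · intro h; exact absurd (Finset.mem_univ r) h
  refine Module.Finite.of_surjective f ?_
  intro c
  obtain ⟨x, rfl⟩ := Ideal.Quotient.mk_surjective c
  change Ideal.Quotient.mk (Ideal.span {(t : R) - 1}) x ∈ LinearMap.range f
  induction x using DirectSum.Decomposition.inductionOn 𝒜 with
  | zero => rw [map_zero]; exact zero_mem _
  | @homogeneous i b =>
    have h1 : 0 ≤ i % N := Int.emod_nonneg i (ne_of_gt hN')
    have h2 : i % N < N := Int.emod_lt_of_pos i hN'
    have hr : (i % (N : ℤ)).toNat < N := by omega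
    have hy : ((t ^ (-(i / N)) : Rˣ) : R) * (b : R) ∈ 𝒜 (((⟨(i % (N : ℤ)).toNat, hr⟩ : Fin N) : ℕ) : ℤ) := by
      have := SetLike.mul_mem_graded (zpow_mem 𝒜 t ht (-(i / N))) b.2
      have e : -(i / (N : ℤ)) * N + i = (((⟨(i % (N : ℤ)).toNat, hr⟩ : Fin N) : ℕ) : ℤ) := by
        have := Int.emod_add_mul_ediv i N
        simp only [Int.toNat_of_nonneg h1]
        linarith
      rwa [e] at this
    refine ⟨Pi.single ⟨(i % (N : ℤ)).toNat, hr⟩ ⟨_, hy⟩, ?_⟩
    rw [hf, map_mul, mk_zpow, one_mul]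
  | add x y hx hy => rw [map_add]; exact add_mem hx hy

end Finite

section CM

variable [IsLocalRing (SetLike.GradeZero.subring 𝒜)] (N : ℕ) (hN : 0 < N) (t : Rˣ)
  (ht : (t : R) ∈ 𝒜 (N : ℤ))
  (hmin : ∀ (n : ℤ), 0 < n → n < (N : ℤ) → ∀ s ∈ 𝒜 n, ¬ IsUnit s)

include hN ht hmin in
/-- `C = B/(t-1)` is a Cohen–Macaulay local ring when `B` is a Cohen–Macaulay ring. -/
theorem isCohenMacaulayLocalRing_quot [hB : LocCoh.IsCohenMacaulayRing R] :
    LocCoh.IsCohenMacaulayLocalRing (R ⧸ Ideal.span {(t : R) - 1}) := by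
  haveI : IsNoetherianRing R := inferInstance
  have hN' : (0 : ℤ) < N := by exact_mod_cast hN
  haveI := isLocalRing_quot 𝒜 N hN t ht hmin
  have hreg := sub_one_mem_nonZeroDivisors 𝒜 hN' ht t.isUnit
  have hI : Ideal.span {(t : R) - 1} = Ideal.ofList [(t : R) - 1] := by
    simp [Ideal.ofList]
  have hht : (([(t : R) - 1] : List R).length : ℕ∞) ≤ (Ideal.span {(t : R) - 1}).height := by
    simpa using Ideal.one_le_height_span_singleton_of_mem_nonZeroDivisors hreg
  haveI hC : LocCoh.IsCohenMacaulayRing (R ⧸ Ideal.span {(t : R) - 1}) :=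
    (Groth.Agent.Lib.Helper28.isCohenMacaulayRing_quotient_of_eq_ofList [(t : R) - 1] _ hI hht).1
  haveI := hC.isCohenMacaulayLocalRing_localization
    (IsLocalRing.maximalIdeal (R ⧸ Ideal.span {(t : R) - 1}))
  let e : (R ⧸ Ideal.span {(t : R) - 1}) ≃ₐ[R ⧸ Ideal.span {(t : R) - 1}]
      Localization.AtPrime (IsLocalRing.maximalIdeal (R ⧸ Ideal.span {(t : R) - 1})) :=
    IsLocalization.atUnits _ (IsLocalRing.maximalIdeal (R ⧸ Ideal.span {(t : R) - 1})).primeCompl
      (fun x hx => by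
        rw [IsUnit.mem_submonoid_iff]
        exact not_not.mp fun hnu => hx ((IsLocalRing.mem_maximalIdeal x).mpr hnu))
  exact Groth.Agent.Lib.Helper28.isCohenMacaulayLocalRing_of_ringEquiv e.toRingEquiv.symm

include hN ht hmin in
/-- the degree-zero part of a Cohen–Macaulay `ℤ`-graded ring with `B_0` local and a homogeneous
unit of positive degree is a Cohen–Macaulay local ring. -/
theorem isCohenMacaulayLocalRing_deg0 [hB : LocCoh.IsCohenMacaulayRing R] :
    LocCoh.IsCohenMacaulayLocalRing (SetLike.GradeZero.subring 𝒜) := by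
  haveI : IsNoetherianRing R := inferInstance
  haveI : IsNoetherianRing (SetLike.GradeZero.subring 𝒜) :=
    Groth.Agent.Lib.Helper29.GrDeg0.isNoetherianRing_deg0 𝒜
  haveI := isLocalRing_quot 𝒜 N hN t ht hmin
  haveI := isCohenMacaulayLocalRing_quot 𝒜 N hN t ht hmin
  haveI := finite_quot 𝒜 N hN t ht
  have hcomap := comap_eq_Mid 𝒜 N hN t ht hmin
    (IsLocalRing.maximalIdeal (R ⧸ Ideal.span {(t : R) - 1})) (IsLocalRing.maximalIdeal.isMaximal _)
  haveI : IsLocalHom (algebraMap (SetLike.GradeZero.subring 𝒜)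
      (R ⧸ Ideal.span {(t : R) - 1})) := by
    refine ⟨fun c hc => ?_⟩
    by_contra hcu
    have h1 : c ∈ IsLocalRing.maximalIdeal (SetLike.GradeZero.subring 𝒜) :=
      (IsLocalRing.mem_maximalIdeal c).mpr hcu
    have h2 : (c : R) ∈ Mid 𝒜 t := Ideal.mem_sup_left ((coe_mem_Nst_iff 𝒜 c).mpr h1)
    rw [← hcomap, Ideal.mem_comap] at h2
    exact (IsLocalRing.mem_maximalIdeal _).mp h2 hc
  have hE := retr_algebraMap 𝒜 N hN t ht
  have hinj : Function.Injective (algebraMap (SetLike.GradeZero.subring 𝒜)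
      (R ⧸ Ideal.span {(t : R) - 1})) := by
    intro a b hab
    rw [← hE a, ← hE b, hab]
  exact Groth.Agent.Lib.Helper29.RetractCM.isCohenMacaulayLocalRing_of_retract hinj
    (retr 𝒜 N hN t ht) hE

end CM

end Groth.Agent.Lib.Helper29.GrUnitCM
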