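import Mathlib
import Groth.Agent.Lib.Helper29GrUnit
import Groth.Agent.Lib.Helper19GRLoc
import Groth.Agent.Lib.Helper28RegLoc
set_option autoImplicit false
set_option linter.style.haveILetI false
universe u
open DirectSum

namespace Groth.Agent.Lib.Helper29.GrUnitRoot

variable {R : Type u} [CommRing R] (𝒜 : ℤ → AddSubgroup R) [GradedRing 𝒜]

section Twist

variable {S : Type*} [CommRing S] (f : R →+* S) (g : ℤ → S) (hg0 : g 0 = 1)
  (hgadd : ∀ i j, g (i + j) = g i * g j)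

/-- `a ↦ ∑ f(a_i) g(i)`. -/
noncomputable def twist : R →+* S :=
  (DirectSum.toSemiring
    (fun i => (AddMonoidHom.mulRight (g i)).comp (f.toAddMonoidHom.comp (𝒜 i).subtype))
    (by
      change f ((1 : R)) * g 0 = 1
      rw [hg0, map_one, one_mul])
    (by
      intro i j ai aj
      change f ((ai : R) * (aj : R)) * g (i + j) = (f ai * g i) * (f aj * g j)
      rw [hgadd, map_mul]; ring)).comp (DirectSum.decomposeRingEquiv 𝒜).toRingHom

theorem twist_apply_of_mem {i : ℤ} {a : R} (ha : a ∈ 𝒜 i) :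
    twist 𝒜 f g hg0 hgadd a = f a * g i := by
  have h1 : (DirectSum.decomposeRingEquiv 𝒜).toRingHom a = DirectSum.of _ i ⟨a, ha⟩ := by
    change decompose 𝒜 a = _
    rw [decompose_of_mem 𝒜 ha]
  unfold twist
  rw [RingHom.comp_apply, h1, DirectSum.toSemiring_of]
  rfl

end Twist


section Iso

open Polynomial
open scoped LaurentPolynomial
open LaurentPolynomial (T T_zero T_add T_pow)

variable (N : ℕ) (hN : 0 < N) (t : Rˣ) (ht : (t : R) ∈ 𝒜 (N : ℤ))

omit [GradedRing 𝒜] in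
theorem root_pow : (AdjoinRoot.root (X ^ N - C (t : R))) ^ N =
    AdjoinRoot.of (X ^ N - C (t : R)) (t : R) := by
  have := AdjoinRoot.eval₂_root (X ^ N - C (t : R))
  rw [eval₂_sub, eval₂_pow, eval₂_X, eval₂_C] at this
  exact sub_eq_zero.mp this

include hN in
theorem isUnit_root : IsUnit (AdjoinRoot.root (X ^ N - C (t : R))) :=
  (isUnit_pow_iff hN.ne').mp (by rw [root_pow]; exact t.isUnit.map _)

/-- the root as a unit. -/
noncomputable def u : (AdjoinRoot (X ^ N - C (t : R)))ˣ := (isUnit_root N hN t).unit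

theorem u_val : ((u N hN t : (AdjoinRoot (X ^ N - C (t : R)))ˣ) : AdjoinRoot (X ^ N - C (t : R))) =
    AdjoinRoot.root (X ^ N - C (t : R)) := IsUnit.unit_spec _

theorem of_t_eq : AdjoinRoot.of (X ^ N - C (t : R)) (t : R) =
    ((u N hN t ^ (N : ℤ) : (AdjoinRoot (X ^ N - C (t : R)))ˣ) : AdjoinRoot (X ^ N - C (t : R))) := by
  rw [zpow_natCast, Units.val_pow_eq_pow_val, u_val, root_pow]

theorem mk_t : Ideal.Quotient.mk (Ideal.span {(t : R) - 1}) (t : R) = 1 := by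
  rw [← map_one (Ideal.Quotient.mk (Ideal.span {(t : R) - 1})), Ideal.Quotient.eq]
  exact Ideal.mem_span_singleton_self _

/-- `R → C[T;T⁻¹]`, `a ↦ ∑ ā_i T^i`. -/
noncomputable def rho : R →+* (R ⧸ Ideal.span {(t : R) - 1})[T;T⁻¹] :=
  twist 𝒜 ((LaurentPolynomial.C).comp (Ideal.Quotient.mk (Ideal.span {(t : R) - 1})))
    (fun i => T i) T_zero T_add

theorem rho_apply_of_mem {i : ℤ} {a : R} (ha : a ∈ 𝒜 i) :
    rho 𝒜 t a = LaurentPolynomial.C (Ideal.Quotient.mk (Ideal.span {(t : R) - 1}) a) * T i :=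
  twist_apply_of_mem 𝒜 _ _ _ _ ha

include ht in
theorem eval₂_rho : (X ^ N - C (t : R)).eval₂ (rho 𝒜 t) (T 1) = 0 := by
  rw [eval₂_sub, eval₂_pow, eval₂_X, eval₂_C, rho_apply_of_mem 𝒜 t ht, mk_t, map_one, one_mul,
    T_pow, mul_one, sub_self]

/-- `R[U]/(U^N - t) → C[T;T⁻¹]`. -/
noncomputable def psi : AdjoinRoot (X ^ N - C (t : R)) →+* (R ⧸ Ideal.span {(t : R) - 1})[T;T⁻¹] :=
  AdjoinRoot.lift (rho 𝒜 t) (T 1) (eval₂_rho 𝒜 N t ht)

theorem psi_of (r : R) : psi 𝒜 N t ht (AdjoinRoot.of _ r) = rho 𝒜 t r := AdjoinRoot.lift_of _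

theorem psi_root : psi 𝒜 N t ht (AdjoinRoot.root _) = T 1 := AdjoinRoot.lift_root _

/-- `R → R[U]/(U^N - t)`, `a ↦ ∑ a_i U^{-i}`. -/
noncomputable def sigma : R →+* AdjoinRoot (X ^ N - C (t : R)) :=
  twist 𝒜 (AdjoinRoot.of (X ^ N - C (t : R)))
    (fun i => (((u N hN t)⁻¹ ^ i : (AdjoinRoot (X ^ N - C (t : R)))ˣ) :
      AdjoinRoot (X ^ N - C (t : R))))
    (by simp) (by intro i j; rw [zpow_add, Units.val_mul])

theorem sigma_apply_of_mem {i : ℤ} {a : R} (ha : a ∈ 𝒜 i) :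
    sigma 𝒜 N hN t a = AdjoinRoot.of (X ^ N - C (t : R)) a *
      (((u N hN t)⁻¹ ^ i : (AdjoinRoot (X ^ N - C (t : R)))ˣ) :
        AdjoinRoot (X ^ N - C (t : R))) :=
  twist_apply_of_mem 𝒜 _ _ _ _ ha

include ht in
theorem sigma_t : sigma 𝒜 N hN t (t : R) = 1 := by
  rw [sigma_apply_of_mem 𝒜 N hN t ht, of_t_eq N hN t, ← Units.val_mul, ← mul_zpow,
    mul_inv_cancel, one_zpow, Units.val_one]

/-- `C = R/(t-1) → R[U]/(U^N - t)`. -/
noncomputable def chiC : (R ⧸ Ideal.span {(t : R) - 1}) →+* AdjoinRoot (X ^ N - C (t : R)) :=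
  Ideal.Quotient.lift _ (sigma 𝒜 N hN t) (by
    intro a ha
    obtain ⟨r, rfl⟩ := Ideal.mem_span_singleton'.mp ha
    rw [map_mul, map_sub, map_one, sigma_t 𝒜 N hN t ht, sub_self, mul_zero])

theorem chiC_mk (r : R) : chiC 𝒜 N hN t ht (Ideal.Quotient.mk _ r) = sigma 𝒜 N hN t r :=
  Ideal.Quotient.lift_mk _ _ _

/-- `C[T;T⁻¹] → R[U]/(U^N - t)`. -/
noncomputable def chi : (R ⧸ Ideal.span {(t : R) - 1})[T;T⁻¹] →+* AdjoinRoot (X ^ N - C (t : R)) :=
  LaurentPolynomial.eval₂ (chiC 𝒜 N hN t ht) (u N hN t)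

theorem psi_zpow (n : ℤ) :
    psi 𝒜 N t ht ((u N hN t ^ n : (AdjoinRoot (X ^ N - C (t : R)))ˣ) :
      AdjoinRoot (X ^ N - C (t : R))) = T n := by
  let F1 : Multiplicative ℤ →* (R ⧸ Ideal.span {(t : R) - 1})[T;T⁻¹] :=
    ((psi 𝒜 N t ht : _ →* _)).comp
      ((Units.coeHom (AdjoinRoot (X ^ N - C (t : R)))).comp (zpowersHom _ (u N hN t)))
  let F2 : Multiplicative ℤ →* (R ⧸ Ideal.span {(t : R) - 1})[T;T⁻¹] :=
    ⟨⟨fun n => T (Multiplicative.toAdd n), T_zero⟩, fun a b => T_add _ _⟩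
  have h : F1 = F2 := MonoidHom.ext_mint (by
    change psi 𝒜 N t ht ((u N hN t ^ (1 : ℤ) : (AdjoinRoot (X ^ N - C (t : R)))ˣ) :
      AdjoinRoot (X ^ N - C (t : R))) = T 1
    rw [zpow_one, u_val, psi_root])
  exact DFunLike.congr_fun h (Multiplicative.ofAdd n)

theorem psi_sigma (r : R) : psi 𝒜 N t ht (sigma 𝒜 N hN t r) =
    LaurentPolynomial.C (Ideal.Quotient.mk (Ideal.span {(t : R) - 1}) r) := by
  induction r using DirectSum.Decomposition.inductionOn 𝒜 with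
  | zero => simp
  | @homogeneous i a =>
    rw [sigma_apply_of_mem 𝒜 N hN t a.2, map_mul, psi_of, rho_apply_of_mem 𝒜 t a.2, inv_zpow',
      psi_zpow, mul_assoc, ← T_add, add_neg_cancel, T_zero, mul_one]
  | add x y hx hy => rw [map_add, map_add, hx, hy, map_add, map_add]

theorem chi_rho (r : R) : chi 𝒜 N hN t ht (rho 𝒜 t r) = AdjoinRoot.of _ r := by
  induction r using DirectSum.Decomposition.inductionOn 𝒜 with
  | zero => simp
  | @homogeneous i a =>
    rw [rho_apply_of_mem 𝒜 t a.2, chi, LaurentPolynomial.eval₂_C_mul_T, chiC_mk, sigma_apply_of_mem 𝒜 N hN t a.2,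
      mul_assoc, ← Units.val_mul, ← mul_zpow, inv_mul_cancel, one_zpow, Units.val_one, mul_one]
  | add x y hx hy => rw [map_add, map_add, hx, hy, map_add]

/-- `R[U]/(U^N - t) ≃ C[T;T⁻¹]`. -/
noncomputable def equiv :
    AdjoinRoot (X ^ N - C (t : R)) ≃+* (R ⧸ Ideal.span {(t : R) - 1})[T;T⁻¹] :=
  RingEquiv.ofRingHom (psi 𝒜 N t ht) (chi 𝒜 N hN t ht)
    (by
      apply RingHom.ext
      intro p
      induction p using LaurentPolynomial.induction_on' with
      | add p q hp hq =>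
        rw [map_add, hp, hq, map_add]
      | C_mul_T n a =>
        obtain ⟨r, rfl⟩ := Ideal.Quotient.mk_surjective a
        rw [RingHom.comp_apply, chi, LaurentPolynomial.eval₂_C_mul_T, chiC_mk, map_mul, psi_sigma, psi_zpow]
        rfl)
    (by
      apply AdjoinRoot.ringHom_ext
      · ext r
        rw [RingHom.comp_apply, RingHom.comp_apply, RingHom.comp_apply, psi_of, chi_rho]
        rfl
      · rw [RingHom.comp_apply, psi_root, chi, LaurentPolynomial.eval₂_T, zpow_one, u_val]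
        rfl)

include hN ht in
/-- `R[U]/(U^N - t)` is a regular ring. -/
theorem isRegularRing_adjoinRoot [IsNoetherianRing R]
    [IsLocalRing (SetLike.GradeZero.subring 𝒜)]
    (hmin : ∀ (n : ℤ), 0 < n → n < (N : ℤ) → ∀ s ∈ 𝒜 n, ¬ IsUnit s)
    (hreg : ∀ (p : Ideal R) [p.IsPrime], IsRegularLocalRing (Localization.AtPrime p)) :
    IsRegularRing (AdjoinRoot (X ^ N - C (t : R))) := by
  haveI hC : IsRegularLocalRing (R ⧸ Ideal.span {(t : R) - 1}) :=
    Groth.Agent.Lib.Helper29.GrUnit.isRegularLocalRing_quot 𝒜 N hN t ht hmin hreg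
  haveI : IsRegularRing (R ⧸ Ideal.span {(t : R) - 1}) :=
    isRegularRing_iff.mpr (fun p _ =>
      Groth.Agent.Lib.Helper28.isRegularLocalRing_localization_of_isRegularLocalRing _ p)
  haveI : IsRegularRing (R ⧸ Ideal.span {(t : R) - 1})[X] := inferInstance
  haveI : IsRegularRing (R ⧸ Ideal.span {(t : R) - 1})[T;T⁻¹] :=
    Groth.Agent.Lib.Helper19.GR.isRegularRing_of_isLocalization
      (R := (R ⧸ Ideal.span {(t : R) - 1})[X])
      (Submonoid.powers (X : (R ⧸ Ideal.span {(t : R) - 1})[X]))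
  exact IsRegularRing.of_ringEquiv (equiv 𝒜 N hN t ht).symm

end Iso

end Groth.Agent.Lib.Helper29.GrUnitRoot
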