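import Groth.Agent.Lib.Helper29GrVanish

/-! Vanishing of the graded pieces `H^i_a(M)_n`, `n ≫ 0`, for a finitely generated graded module
over an arbitrary `ℤ`-graded Noetherian ring (negative degrees allowed), `a` the ideal generated by
the homogeneous elements of positive degree (helper29).  Generalizes `Helper29GrVanish`. -/

set_option autoImplicit false
set_option linter.style.haveILetI false
set_option linter.unusedSectionVars false
open DirectSum Pointwise

noncomputable section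

namespace Groth.Agent.Lib.Helper29GrVanishZ

open Groth.Agent.Lib.Helper29GrShift Groth.Agent.Lib.Helper29GrShiftInj
  Groth.Agent.Lib.Helper29GrResCompare Groth.Agent.Lib.Helper29GrConeLES
  Groth.Agent.Lib.Helper29GrMulLES Groth.Agent.Lib.Helper29GrQuot Groth.Agent.Lib.Helper29GrSub
  Groth.Agent.Lib.Helper29GrEss Groth.Agent.Lib.Helper29GrCompareMap
  Groth.Agent.Lib.Helper29GrCMEnd Groth.Agent.Lib.Helper29GrRes Groth.Agent.Lib.Helper29GrGam
  Groth.Agent.Lib.Helper29GrQuotEnd Groth.Agent.Lib.Helper29GrRegSeqEnd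
  Groth.Agent.Lib.Helper29GrTorsBound Groth.Agent.Lib.Helper29GrAvoid
  Groth.Agent.Lib.Helper29GrVanish Groth.Agent.Lib.Helper29GrStd
  Groth.Agent.Lib.Helper29GrHom Groth.Agent.Lib.Helper29GrAss Groth.Agent.Lib.Helper29GrWeakReg

universe u

section Avoid

variable {R : Type u} [CommRing R] (𝒜 : ℤ → AddSubgroup R) [GradedRing 𝒜]

/-- Graded prime avoidance, negative degrees allowed. -/
theorem exists_homogeneous_not_mem' (a : Ideal R) :
    ∀ P : Finset (Ideal R), (∀ p ∈ P, p.IsPrime ∧ p.IsHomogeneous 𝒜) →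
      (∀ p ∈ P, ∃ k : ℤ, 0 < k ∧ ∃ g ∈ 𝒜 k, g ∈ a ∧ g ∉ p) →
      ∃ k : ℤ, 0 < k ∧ ∃ x ∈ 𝒜 k, x ∈ a ∧ ∀ p ∈ P, x ∉ p := by
  classical
  intro P
  induction P using Finset.strongInductionOn with
  | _ P ih =>
    intro hP hg
    by_cases hPe : P.Nonempty
    swap
    · rw [Finset.not_nonempty_iff_eq_empty] at hPe
      subst hPe
      exact ⟨1, one_pos, 0, zero_mem _, zero_mem _, fun p hp => absurd hp (Finset.notMem_empty p)⟩
    obtain ⟨p, hpP, hpmin⟩ := P.exists_minimal hPe
    have hpprime : p.IsPrime := (hP p hpP).1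
    obtain ⟨k', hk', x', hx'k, hx'a, hx'P⟩ := ih (P.erase p) (Finset.erase_ssubset hpP)
      (fun q hq => hP q (Finset.mem_of_mem_erase hq))
      (fun q hq => hg q (Finset.mem_of_mem_erase hq))
    by_cases hx'p : x' ∈ p
    swap
    · refine ⟨k', hk', x', hx'k, hx'a, fun q hq => ?_⟩
      by_cases hqp : q = p
      · rw [hqp]; exact hx'p
      · exact hx'P q (Finset.mem_erase.mpr ⟨hqp, hq⟩)
    have hnle : ∀ q ∈ P.erase p, ∃ d : ℤ, ∃ h ∈ 𝒜 d, h ∈ q ∧ h ∉ p := by
      intro q hq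
      have hqP : q ∈ P := Finset.mem_of_mem_erase hq
      have hqne : q ≠ p := Finset.ne_of_mem_erase hq
      have hqp : ¬ q ≤ p := fun hle => hqne (le_antisymm hle (hpmin hqP hle))
      exact exists_homogeneous_mem_not_mem 𝒜 (hP q hqP).2 hqp
    choose! d h hhd hhq hhp using hnle
    obtain ⟨kg, hkg, g, hgk, hga, hgp⟩ := hg p hpP
    obtain ⟨N, hN⟩ : ∃ N : ℕ, N = (Int.toNat (-(∑ q ∈ P.erase p, d q))) + 1 := ⟨_, rfl⟩
    have hN1 : 1 ≤ N := by omega
    have hNge : -(∑ q ∈ P.erase p, d q) < (N : ℤ) := by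
      have := Int.self_le_toNat (-(∑ q ∈ P.erase p, d q))
      omega
    set e : ℤ := N • kg + ∑ q ∈ P.erase p, d q with he
    have he0 : 0 < e := by
      have h1 : (N : ℤ) * 1 ≤ (N : ℤ) * kg :=
        mul_le_mul_of_nonneg_left (by omega) (by positivity)
      rw [he, nsmul_eq_mul]
      omega
    set r : R := g ^ N * ∏ q ∈ P.erase p, h q with hr
    have hre : r ∈ 𝒜 e :=
      SetLike.mul_mem_graded (SetLike.pow_mem_graded N hgk)
        (SetLike.prod_mem_graded 𝒜 d h fun q hq => hhd q hq)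
    have hra : r ∈ a := Ideal.mul_mem_right _ _ (Ideal.pow_mem_of_mem _ hga N (by omega))
    have hrp : r ∉ p := by
      intro hmem
      rcases hpprime.mem_or_mem hmem with h1 | h1
      · exact hgp (hpprime.mem_of_pow_mem N h1)
      · obtain ⟨q, hq, hq'⟩ := (Ideal.IsPrime.prod_mem_iff).mp h1
        exact hhp q hq hq'
    have hrq : ∀ q ∈ P.erase p, r ∈ q := by
      intro q hq
      apply Ideal.mul_mem_left
      obtain ⟨c, hc⟩ := Finset.dvd_prod_of_mem h hq
      rw [hc]
      exact Ideal.mul_mem_right _ _ (hhq q hq)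
    obtain ⟨en, hen⟩ : ∃ en : ℕ, e = (en : ℤ) := Int.eq_ofNat_of_zero_le he0.le
    obtain ⟨kn, hkn⟩ : ∃ kn : ℕ, k' = (kn : ℤ) := Int.eq_ofNat_of_zero_le hk'.le
    have hen0 : en ≠ 0 := by rintro rfl; simp at hen; omega
    have hkn0 : kn ≠ 0 := by rintro rfl; simp at hkn; omega
    refine ⟨k' * e, mul_pos hk' he0, x' ^ en + r ^ kn, ?_, ?_, ?_⟩
    · apply add_mem
      · have := SetLike.pow_mem_graded en hx'k
        rw [nsmul_eq_mul, ← hen, mul_comm] at this
        exact this
      · have := SetLike.pow_mem_graded kn hre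
        rw [nsmul_eq_mul, ← hkn] at this
        exact this
    · exact add_mem (Ideal.pow_mem_of_mem _ hx'a en (Nat.pos_of_ne_zero hen0))
        (Ideal.pow_mem_of_mem _ hra kn (Nat.pos_of_ne_zero hkn0))
    · intro q hq hmem
      by_cases hqp : q = p
      · subst hqp
        have h1 : x' ^ en ∈ q := Ideal.pow_mem_of_mem _ hx'p en (Nat.pos_of_ne_zero hen0)
        have h2 : r ^ kn ∈ q := by
          have := sub_mem hmem h1
          rwa [add_sub_cancel_left] at this
        exact hrp (hpprime.mem_of_pow_mem kn h2)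
      · have hqe : q ∈ P.erase p := Finset.mem_erase.mpr ⟨hqp, hq⟩
        have hqprime : q.IsPrime := (hP q hq).1
        have h1 : r ^ kn ∈ q := Ideal.pow_mem_of_mem _ (hrq q hqe) kn (Nat.pos_of_ne_zero hkn0)
        have h2 : x' ^ en ∈ q := by
          have := sub_mem hmem h1
          rwa [add_sub_cancel_right] at this
        exact hx'P q hqe (hqprime.mem_of_pow_mem en h2)

variable {M : Type u} [AddCommGroup M] [Module R M] (ℳ : ℤ → AddSubgroup M)
  [DirectSum.Decomposition ℳ] [SetLike.GradedSMul 𝒜 ℳ]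

include ℳ in
/-- A finitely generated graded module without `a`-torsion over a `ℤ`-graded Noetherian ring has
a homogeneous regular element of positive degree in `a` (`a` generated by the homogeneous elements
of positive degree). -/
theorem exists_regular' [IsNoetherianRing R] [Module.Finite R M]
    (a : HomogeneousIdeal 𝒜)
    (ha : a.toIdeal = Ideal.span (⋃ n ∈ Set.Ioi (0 : ℤ), (𝒜 n : Set R)))
    (htf : ∀ m : M, (∀ r ∈ a.toIdeal, r • m = 0) → m = 0) :
    ∃ k : ℤ, 0 < k ∧ ∃ x ∈ 𝒜 k, x ∈ a.toIdeal ∧ IsSMulRegular M x := by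
  classical
  have hfin : {p : Ideal R | IsAssociatedPrime p M ∧ p.IsHomogeneous 𝒜}.Finite :=
    (associatedPrimes.finite R M).subset fun p hp => hp.1
  obtain ⟨k, hk, x, hxk, hxa, hxP⟩ := exists_homogeneous_not_mem' 𝒜 a.toIdeal hfin.toFinset
    (fun p hp => by
      rw [Set.Finite.mem_toFinset] at hp
      exact ⟨hp.1.isPrime, hp.2⟩)
    (fun p hp => by
      rw [Set.Finite.mem_toFinset] at hp
      obtain ⟨hprime, m, hm⟩ := isAssociatedPrime_iff.mp hp.1
      by_contra hcon
      push Not at hcon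
      have hle : a.toIdeal ≤ p := by
        rw [ha, Ideal.span_le]
        intro g hg
        simp only [Set.mem_iUnion, Set.mem_Ioi, SetLike.mem_coe, exists_prop] at hg
        obtain ⟨n, hn, hgn⟩ := hg
        exact hcon n hn g hgn
          (Groth.Agent.Lib.Helper29GrTorsBound.piece_subset_irrelevant 𝒜 a.toIdeal ha n hn hgn)
      have hm0 : m = 0 := htf m fun r hr => by
        have := hle hr
        rw [hm, Submodule.mem_colon_singleton, Submodule.mem_bot] at this
        exact this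
      apply hprime.ne_top
      rw [hm, hm0, Ideal.eq_top_iff_one, Submodule.mem_colon_singleton, smul_zero]
      exact zero_mem _)
  refine ⟨k, hk, x, hxk, hxa, ?_⟩
  rw [isSMulRegular_iff_torsionBy_eq_bot]
  by_contra hne
  have hThom : (Submodule.torsionBy R M x).IsHomogeneous ℳ := torsionBy_isHomogeneous hxk
  letI : DirectSum.Decomposition (subGr ℳ (Submodule.torsionBy R M x)) :=
    subDecomposition ℳ _ hThom
  letI : SetLike.GradedSMul 𝒜 (subGr ℳ (Submodule.torsionBy R M x)) := sub_gradedSMul ℳ _ 𝒜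
  haveI : Nontrivial ↥(Submodule.torsionBy R M x) := Submodule.nontrivial_iff_ne_bot.mpr hne
  obtain ⟨g₀, m, -, hm0, hprime, hhom⟩ :=
    exists_homogeneous_prime_annihilator 𝒜 (subGr ℳ (Submodule.torsionBy R M x))
  have hann : (Submodule.span R {m}).annihilator = (Submodule.span R {(m : M)}).annihilator := by
    ext r
    rw [Submodule.mem_annihilator_span_singleton, Submodule.mem_annihilator_span_singleton,
      ← Submodule.coe_smul, ← Submodule.coe_zero (p := Submodule.torsionBy R M x),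
      Subtype.coe_inj]
  have hass : IsAssociatedPrime (Submodule.span R {m}).annihilator M := by
    rw [isAssociatedPrime_iff]
    exact ⟨hprime, (m : M), by rw [colon_bot_singleton_eq, hann]⟩
  have hmem : (Submodule.span R {m}).annihilator ∈ hfin.toFinset := by
    rw [Set.Finite.mem_toFinset]
    exact ⟨hass, hhom⟩
  apply hxP _ hmem
  rw [hann, Submodule.mem_annihilator_span_singleton]
  exact (Submodule.mem_torsionBy_iff _ _).mp m.2

end Avoid

section Bound

variable {R : Type u} [CommRing R] [IsNoetherianRing R] {𝒜 : ℤ → AddSubgroup R} [GradedRing 𝒜]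
  (a : HomogeneousIdeal 𝒜)

/-- `H^i_a(M)_n = 0` for `n ≫ 0`, for each `i`; negative degrees allowed. -/
theorem exists_bound'
    (ha : a.toIdeal = Ideal.span (⋃ n ∈ Set.Ioi (0 : ℤ), (𝒜 n : Set R))) :
    ∀ (i : ℕ) (M : Type u) [AddCommGroup M] [Module R M] [Module.Finite R M]
      (ℳ : ℤ → AddSubgroup M) [DirectSum.Decomposition ℳ] [SetLike.GradedSMul 𝒜 ℳ]
      (E : GrLC.StarInjRes 𝒜 ℳ), ∃ r : ℤ, ∀ n, r ≤ n → E.Hcomp a i n = ⊥ := by
  intro i
  induction i with
  | zero =>
    intro M _ _ _ ℳ _ _ E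
    exact exists_bound_zero a ha E
  | succ i ih =>
    intro M _ _ _ ℳ _ _ E
    have hP : (GrLC.gam a.toIdeal M).IsHomogeneous ℳ := gam_isHomogeneous 𝒜 ℳ a
    letI : DirectSum.Decomposition (quotGr ℳ (GrLC.gam a.toIdeal M)) :=
      quotDecomposition ℳ _ hP
    letI : SetLike.GradedSMul 𝒜 (quotGr ℳ (GrLC.gam a.toIdeal M)) := quot_gradedSMul ℳ _ 𝒜
    let G : GrLC.StarInjRes 𝒜 (quotGr ℳ (GrLC.gam a.toIdeal M)) :=
      starInjRes 𝒜 (quotGr ℳ (GrLC.gam a.toIdeal M))
    obtain ⟨k, hk, x, hxk, hxa, hreg⟩ := exists_regular' 𝒜 (quotGr ℳ (GrLC.gam a.toIdeal M)) a ha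
      (quot_gam_torsionFree a.toIdeal M)
    have hQhom : (x • (⊤ : Submodule R (M ⧸ GrLC.gam a.toIdeal M))).IsHomogeneous
        (quotGr ℳ (GrLC.gam a.toIdeal M)) := smul_top_isHomogeneous hxk
    letI : DirectSum.Decomposition (quotGr (quotGr ℳ (GrLC.gam a.toIdeal M))
        (x • (⊤ : Submodule R (M ⧸ GrLC.gam a.toIdeal M)))) := quotDecomposition _ _ hQhom
    letI : SetLike.GradedSMul 𝒜 (quotGr (quotGr ℳ (GrLC.gam a.toIdeal M))
        (x • (⊤ : Submodule R (M ⧸ GrLC.gam a.toIdeal M)))) := quot_gradedSMul _ _ 𝒜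
    let F : GrLC.StarInjRes 𝒜 (quotGr (quotGr ℳ (GrLC.gam a.toIdeal M))
        (x • (⊤ : Submodule R (M ⧸ GrLC.gam a.toIdeal M)))) := starInjRes 𝒜 _
    obtain ⟨r', hr'⟩ := ih _ _ F
    have hmkhom : GrLC.IsGrHom (quotGr ℳ (GrLC.gam a.toIdeal M))
        (quotGr (quotGr ℳ (GrLC.gam a.toIdeal M))
          (x • (⊤ : Submodule R (M ⧸ GrLC.gam a.toIdeal M))))
        (x • (⊤ : Submodule R (M ⧸ GrLC.gam a.toIdeal M))).mkQ := fun γ y hy => ⟨y, hy, rfl⟩
    have hkermk : LinearMap.ker (x • (⊤ : Submodule R (M ⧸ GrLC.gam a.toIdeal M))).mkQ =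
        LinearMap.range (x • (LinearMap.id :
          (M ⧸ GrLC.gam a.toIdeal M) →ₗ[R] (M ⧸ GrLC.gam a.toIdeal M))) := by
      rw [Submodule.ker_mkQ, range_smul_id]
    refine ⟨r' - k, fun n hn => ?_⟩
    apply Hcomp_of_quot_gam a E G i n
    exact step_reg a G F x k hxk hk.le hxa hreg _ (Submodule.mkQ_surjective _) hmkhom hkermk i r'
      hr' n hn

end Bound

end Groth.Agent.Lib.Helper29GrVanishZ
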