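import Groth.Agent.Lib.Helper8MV
import Groth.Agent.Lib.Helper8LCDepth
import Groth.Agent.Lib.Helper8Acyc

/-! # Hartshorne: depth ≥ 2 implies connected punctured spectrum, ideal form (helper29) -/

set_option autoImplicit false
set_option linter.style.haveILetI false
set_option linter.unusedSectionVars false
universe u
open CategoryTheory IsLocalRing

namespace Groth.Agent.Lib.Helper29.Hart
open Groth.Agent.Lib.Helper8.LC Groth.Agent.Lib.Helper8.MV Groth.Agent.Lib.Helper8.Acyc

variable (B : Type u) [CommRing B] [IsNoetherianRing B] [IsLocalRing B]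

/-- Hartshorne: over a Noetherian local ring of depth `≥ 2`, if `I ∩ J` is nilpotent and `I + J` is
primary to the maximal ideal (or the unit ideal), then `I` or `J` is nilpotent. -/
theorem hartshorne (hdepth : (2 : ℕ∞) ≤ LocCoh.depth B B) (I J : Ideal B)
    (hIJ : I ⊓ J ≤ nilradical B)
    (hsum : ∀ Q : Ideal B, Q.IsPrime → I ⊔ J ≤ Q → Q = maximalIdeal B) :
    I ≤ nilradical B ∨ J ≤ nilradical B := by
  -- vanishing of `H^0` and `H^1` with support in `I ⊔ J`
  have hvan : ∀ i < 2, ∀ y : (localCohomology (I ⊔ J) i).obj (ModuleCat.of B B), y = 0 := by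
    intro i hi y
    by_cases htop : I ⊔ J = ⊤
    · obtain ⟨k, hk⟩ := isPowerTorsion_H (I ⊔ J) i (ModuleCat.of B B) y
      have := hk 1 (by rw [htop, Ideal.top_pow]; trivial)
      rwa [one_smul] at this
    · have hle : I ⊔ J ≤ maximalIdeal B := IsLocalRing.le_maximalIdeal htop
      have hrad : (I ⊔ J).radical = (maximalIdeal B).radical := by
        rw [Ideal.IsPrime.radical (inferInstance : (maximalIdeal B).IsPrime)]
        apply le_antisymm
        · exact (Ideal.IsPrime.radical_le_iff inferInstance).mpr hle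
        · rw [Ideal.radical_eq_sInf]
          refine le_sInf ?_
          rintro Q ⟨hJQ, hQ⟩
          rw [hsum Q hQ hJQ]
      have hm : ∀ y : (localCohomology (maximalIdeal B) i).obj (ModuleCat.of B B), y = 0 := by
        intro y
        refine H_eq_zero_of_lt_depth (maximalIdeal B) 2 B ?_ hdepth i hi y
        rw [smul_eq_mul, Ideal.mul_top]
        exact Ideal.IsPrime.ne_top inferInstance
      have hsub : Subsingleton (LocCoh.H (maximalIdeal B) i B) :=
        ⟨fun a b => by rw [hm a, hm b]⟩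
      have := subsingleton_of_radical_eq hrad i B hsub
      exact Subsingleton.elim _ _
  obtain ⟨δ, -, -, -, hker_δ⟩ := mayer_vietoris I J (ModuleCat.of B B)
  have h1mem : (1 : B) ∈ DRing.torsionSub (I ⊓ J) (ModuleCat.of B B) := by
    obtain ⟨k, hk⟩ := Ideal.exists_pow_le_of_le_radical_of_fg hIJ (IsNoetherian.noetherian _)
    refine ⟨k, fun a ha => ?_⟩
    have := hk ha
    rw [Ideal.zero_eq_bot, Ideal.mem_bot] at this
    rw [this, zero_smul]
  obtain ⟨e, he⟩ := exists_Φ_eq (I ⊓ J) (ModuleCat.of B B) 1 h1mem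
  have hδe : δ 0 e = 0 := hvan 1 (by norm_num) _
  have hmem : e ∈ LinearMap.range (dMap I J 0 (ModuleCat.of B B)) := by
    rw [← hker_δ 0]; exact hδe
  obtain ⟨⟨a, b⟩, hab⟩ := hmem
  have h1 := congrArg (Φ (I ⊓ J) (ModuleCat.of B B)) hab
  rw [dMap_apply, map_sub, Φ_HmapOfLE, Φ_HmapOfLE, he] at h1
  have hu := Φ_mem_torsionSub I (ModuleCat.of B B) a
  have hv := Φ_mem_torsionSub J (ModuleCat.of B B) b
  have key : ∀ (K : Ideal B) (w : B), IsUnit w → w ∈ DRing.torsionSub K (ModuleCat.of B B) →
      K ≤ nilradical B := by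
    intro K w hw hwK x hx
    obtain ⟨k, hk⟩ := hwK
    have h2 := hk (x ^ k) (Ideal.pow_mem_pow hx k)
    rw [smul_eq_mul] at h2
    exact mem_nilradical.mpr ⟨k, hw.mul_left_eq_zero.mp h2⟩
  rcases IsLocalRing.isUnit_or_isUnit_of_add_one
    (a := Φ I (ModuleCat.of B B) a) (b := -Φ J (ModuleCat.of B B) b)
    (by rw [← sub_eq_add_neg]; exact h1) with h | h
  · exact Or.inl (key I _ h hu)
  · exact Or.inr (key J _ h.neg (by simpa using hv))

end Groth.Agent.Lib.Helper29.Hart
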