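import Groth.Agent.Lib.Helper17K0a
import Mathlib

/-! Classes of finite modules in `K'_0(A)`: additivity along short exact sequences of linear maps
(helper29). -/

set_option autoImplicit false
set_option linter.style.haveILetI false
universe u
open CategoryTheory

namespace Groth.Agent.Lib.Helper29K0Mod

variable (A : Type u) [CommRing A]

/-- The property "finite `A`-module". -/
abbrev finP : ObjectProperty (ModuleCat.{u} A) := fun X : ModuleCat.{u} A => Module.Finite A X

/-- The class of a module in `K'_0(A)`. -/
noncomputable def cls (X : Type u) [AddCommGroup X] [Module A X] : KZero.K0sub (finP A) :=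
  KZero.clSub (finP A) (ModuleCat.of A X)

variable {A}
variable {X₁ X₂ X₃ : Type u} [AddCommGroup X₁] [Module A X₁] [AddCommGroup X₂] [Module A X₂]
  [AddCommGroup X₃] [Module A X₃]

theorem cls_add_of_exact [Module.Finite A X₁] [Module.Finite A X₂] [Module.Finite A X₃]
    (f : X₁ →ₗ[A] X₂) (g : X₂ →ₗ[A] X₃) (hf : Function.Injective f) (hg : Function.Surjective g)
    (hfg : Function.Exact f g) : cls A X₂ = cls A X₁ + cls A X₃ := by
  let S : ShortComplex (ModuleCat.{u} A) :=
    ShortComplex.mk (ModuleCat.ofHom f) (ModuleCat.ofHom g) (by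
      ext x
      exact hfg.apply_apply_eq_zero x)
  have hS : S.ShortExact :=
    { exact := (ShortComplex.ShortExact.moduleCat_exact_iff_function_exact S).mpr hfg
      mono_f := (ModuleCat.mono_iff_injective _).mpr hf
      epi_g := (ModuleCat.epi_iff_surjective _).mpr hg }
  exact Groth.Agent.Lib.Helper17.K0a.clSub_shortExact (finP A) S hS
    (inferInstanceAs (Module.Finite A X₁)) (inferInstanceAs (Module.Finite A X₂))
    (inferInstanceAs (Module.Finite A X₃))

theorem cls_of_subsingleton (X : Type u) [AddCommGroup X] [Module A X] [Subsingleton X] :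
    cls A X = 0 := by
  have h := cls_add_of_exact (A := A) (0 : X →ₗ[A] X) (0 : X →ₗ[A] X)
    (fun x y _ => Subsingleton.elim x y) (fun y => ⟨y, Subsingleton.elim _ _⟩)
    (fun y => ⟨fun _ => ⟨y, Subsingleton.elim _ _⟩, fun _ => Subsingleton.elim _ _⟩)
  have h' := congrArg (fun t => t - cls A X) h
  simpa using h'.symm

theorem cls_eq_of_equiv [Module.Finite A X₁] [Module.Finite A X₂] (e : X₁ ≃ₗ[A] X₂) :
    cls A X₁ = cls A X₂ := by
  have h := cls_add_of_exact (A := A) e.toLinearMap (0 : X₂ →ₗ[A] PUnit.{u + 1}) e.injective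
    (fun y => ⟨0, Subsingleton.elim _ _⟩)
    (fun y => ⟨fun _ => ⟨e.symm y, e.apply_symm_apply y⟩, fun _ => Subsingleton.elim _ _⟩)
  rw [cls_of_subsingleton (A := A) PUnit.{u + 1}, add_zero] at h
  exact h.symm

/-- The four-term relation for a linear map `μ : X → Y`: `[Y] - [X] = [coker μ] - [ker μ]`. -/
theorem cls_four_term [Module.Finite A X₁] [Module.Finite A X₂] (μ : X₁ →ₗ[A] X₂)
    [Module.Finite A ↥(LinearMap.ker μ)] :
    cls A X₂ - cls A X₁ = cls A (X₂ ⧸ LinearMap.range μ) - cls A ↥(LinearMap.ker μ) := by
  haveI : Module.Finite A ↥(LinearMap.range μ) := Module.Finite.range μ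
  have h1 := cls_add_of_exact (A := A) (LinearMap.ker μ).subtype μ.rangeRestrict
    (Submodule.injective_subtype _) μ.surjective_rangeRestrict (by
      intro x
      constructor
      · intro hx
        refine ⟨⟨x, ?_⟩, rfl⟩
        have := congrArg Subtype.val hx
        exact this
      · rintro ⟨k, rfl⟩
        apply Subtype.ext
        exact k.2)
  have h2 := cls_add_of_exact (A := A) (LinearMap.range μ).subtype (LinearMap.range μ).mkQ
    (Submodule.injective_subtype _) (Submodule.mkQ_surjective _) (by
      intro y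
      rw [Submodule.mkQ_apply, Submodule.Quotient.mk_eq_zero]
      constructor
      · intro hy
        exact ⟨⟨y, hy⟩, rfl⟩
      · rintro ⟨k, rfl⟩
        exact k.2)
  rw [h1, h2]
  abel

end Groth.Agent.Lib.Helper29K0Mod
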