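import Mathlib

/-! Sequences in an additive commutative group which are eventually numerical polynomials
`n ↦ Σ_i C(n, i) • a_i` (helper29). -/

set_option autoImplicit false
open Finset

namespace Groth.Agent.Lib.Helper29NumPoly

variable {G : Type*} [AddCommGroup G]

/-- `f` is eventually a numerical polynomial. -/
def IsNumPoly (f : ℕ → G) : Prop :=
  ∃ (r : ℕ) (a : ℕ → G) (N : ℕ), ∀ n, N ≤ n → f n = ∑ i ∈ range r, (n.choose i : ℤ) • a i

theorem isNumPoly_of_eventually_zero (f : ℕ → G) (N : ℕ) (h : ∀ n, N ≤ n → f n = 0) :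
    IsNumPoly f :=
  ⟨0, fun _ => 0, N, fun n hn => by rw [h n hn, range_zero, sum_empty]⟩

/-- Normal form: coefficients vanish beyond `r`, and `r` can be enlarged. -/
theorem IsNumPoly.exists_of_le {f : ℕ → G} (hf : IsNumPoly f) :
    ∃ (r : ℕ) (a : ℕ → G) (N : ℕ), (∀ i, r ≤ i → a i = 0) ∧
      ∀ r', r ≤ r' → ∀ n, N ≤ n → f n = ∑ i ∈ range r', (n.choose i : ℤ) • a i := by
  obtain ⟨r, a, N, h⟩ := hf
  refine ⟨r, fun i => if i < r then a i else 0, N, fun i hi => if_neg (by omega), ?_⟩
  intro r' hr' n hn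
  rw [h n hn]
  have hsub : range r ⊆ range r' := range_subset_range.mpr hr'
  rw [← sum_subset hsub]
  · refine sum_congr rfl fun i hi => ?_
    show _ = (n.choose i : ℤ) • (if i < r then a i else 0)
    rw [if_pos (mem_range.mp hi)]
  · intro i _ hi
    show (n.choose i : ℤ) • (if i < r then a i else 0) = 0
    rw [if_neg (by rwa [mem_range] at hi), smul_zero]

theorem IsNumPoly.add {f g : ℕ → G} (hf : IsNumPoly f) (hg : IsNumPoly g) :
    IsNumPoly (fun n => f n + g n) := by
  obtain ⟨r₁, a, N₁, -, h₁⟩ := hf.exists_of_le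
  obtain ⟨r₂, b, N₂, -, h₂⟩ := hg.exists_of_le
  refine ⟨max r₁ r₂, fun i => a i + b i, max N₁ N₂, fun n hn => ?_⟩
  show f n + g n = ∑ i ∈ range (max r₁ r₂), (n.choose i : ℤ) • (a i + b i)
  rw [h₁ _ (le_max_left _ _) n (le_trans (le_max_left _ _) hn),
    h₂ _ (le_max_right _ _) n (le_trans (le_max_right _ _) hn), ← sum_add_distrib]
  refine sum_congr rfl fun i _ => ?_
  rw [smul_add]

theorem IsNumPoly.neg {f : ℕ → G} (hf : IsNumPoly f) : IsNumPoly (fun n => - f n) := by
  obtain ⟨r, a, N, h⟩ := hf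
  refine ⟨r, fun i => - a i, N, fun n hn => ?_⟩
  show - f n = ∑ i ∈ range r, (n.choose i : ℤ) • (- a i)
  rw [h n hn, ← sum_neg_distrib]
  refine sum_congr rfl fun i _ => ?_
  rw [smul_neg]

theorem IsNumPoly.sub {f g : ℕ → G} (hf : IsNumPoly f) (hg : IsNumPoly g) :
    IsNumPoly (fun n => f n - g n) := by
  have := hf.add hg.neg
  simpa [sub_eq_add_neg] using this

theorem sum_choose_succ (r n : ℕ) (a : ℕ → G) (ha : ∀ i, r ≤ i → a i = 0) :
    ∑ i ∈ range r, ((n + 1).choose i : ℤ) • a i =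
      ∑ i ∈ range r, (n.choose i : ℤ) • (a i + a (i + 1)) := by
  induction r generalizing a with
  | zero => simp
  | succ r ih =>
    rw [sum_range_succ', sum_range_succ (fun i => (n.choose i : ℤ) • (a i + a (i + 1)))]
    have h1 : ∑ i ∈ range r, ((n + 1).choose (i + 1) : ℤ) • a (i + 1) =
        ∑ i ∈ range r, ((n.choose i : ℤ) • a (i + 1) + (n.choose (i + 1) : ℤ) • a (i + 1)) := by
      refine sum_congr rfl fun i _ => ?_
      rw [Nat.choose_succ_succ, Nat.cast_add, add_smul]
    rw [h1, sum_add_distrib]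
    have h2 : ∑ i ∈ range r, (n.choose i : ℤ) • (a i + a (i + 1)) =
        ∑ i ∈ range r, (n.choose i : ℤ) • a i + ∑ i ∈ range r, (n.choose i : ℤ) • a (i + 1) := by
      rw [← sum_add_distrib]
      refine sum_congr rfl fun i _ => ?_
      rw [smul_add]
    rw [h2, ha (r + 1) le_rfl, add_zero]
    have h3 : ∑ i ∈ range r, (n.choose (i + 1) : ℤ) • a (i + 1) + (n.choose 0 : ℤ) • a 0 =
        ∑ i ∈ range r, (n.choose i : ℤ) • a i + (n.choose r : ℤ) • a r := by
      rw [← sum_range_succ' (fun i => (n.choose i : ℤ) • a i), sum_range_succ]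
    rw [Nat.choose_zero_right] at h3 ⊢
    calc ∑ i ∈ range r, (n.choose i : ℤ) • a (i + 1) +
          ∑ i ∈ range r, (n.choose (i + 1) : ℤ) • a (i + 1) + ((1 : ℕ) : ℤ) • a 0
        = ∑ i ∈ range r, (n.choose i : ℤ) • a (i + 1) +
          (∑ i ∈ range r, (n.choose (i + 1) : ℤ) • a (i + 1) + ((1 : ℕ) : ℤ) • a 0) := by abel
      _ = ∑ i ∈ range r, (n.choose i : ℤ) • a (i + 1) +
          (∑ i ∈ range r, (n.choose i : ℤ) • a i + (n.choose r : ℤ) • a r) := by rw [h3]
      _ = _ := by abel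

theorem IsNumPoly.shift {f : ℕ → G} (hf : IsNumPoly f) : IsNumPoly (fun n => f (n + 1)) := by
  obtain ⟨r, a, N, ha, h⟩ := hf.exists_of_le
  refine ⟨r, fun i => a i + a (i + 1), N, fun n hn => ?_⟩
  show f (n + 1) = _
  rw [h r le_rfl (n + 1) (by omega), sum_choose_succ r n a ha]

/-- If the difference sequence is eventually a numerical polynomial, so is the sequence. -/
theorem isNumPoly_of_diff {f : ℕ → G} (hd : IsNumPoly (fun n => f (n + 1) - f n)) :
    IsNumPoly f := by
  obtain ⟨r, e, N, h⟩ := hd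
  let c : G := f N - ∑ i ∈ range r, (N.choose (i + 1) : ℤ) • e i
  have key : ∀ k, f (N + k) = c + ∑ i ∈ range r, ((N + k).choose (i + 1) : ℤ) • e i := by
    intro k
    induction k with
    | zero =>
      simp only [Nat.add_zero, c]
      abel
    | succ k ih =>
      have h1 := h (N + k) (by omega)
      have h2 : f (N + (k + 1)) = f (N + k) + ∑ i ∈ range r, ((N + k).choose i : ℤ) • e i := by
        have h3 : f (N + k + 1) - f (N + k) = ∑ i ∈ range r, ((N + k).choose i : ℤ) • e i := h1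
        rw [← h3, ← add_assoc]
        abel
      rw [h2, ih, add_assoc, ← sum_add_distrib]
      congr 1
      refine sum_congr rfl fun i _ => ?_
      rw [← add_smul]
      congr 1
      have : (N + (k + 1)).choose (i + 1) = (N + k).choose i + (N + k).choose (i + 1) := by
        rw [← add_assoc, Nat.choose_succ_succ]
      rw [this]
      push_cast
      ring
  refine ⟨r + 1, fun i => if i = 0 then c else e (i - 1), N, fun n hn => ?_⟩
  obtain ⟨k, rfl⟩ := Nat.exists_eq_add_of_le hn
  rw [key k, sum_range_succ']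
  simp only [Nat.add_eq_zero_iff, one_ne_zero, and_false, if_false, Nat.add_sub_cancel,
    Nat.choose_zero_right, if_true, Nat.cast_one, one_smul]
  abel

end Groth.Agent.Lib.Helper29NumPoly
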