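import Groth.Agent.Lib.Helper29GrSubQuotA
import Groth.Agent.Lib.Helper29K0Mod
import Groth.Agent.Lib.Helper29NumPoly

/-! The Hilbert–Serre theorem in `K'_0(A)`: for a finitely generated graded module `M` over a
Noetherian `ℕ`-graded ring `S` generated in degree one over (the image of) `A`, the classes
`[M_n]` form a numerical polynomial for large `n` (helper29). -/

set_option autoImplicit false
set_option linter.style.haveILetI false
set_option linter.unusedSectionVars false
open DirectSum Pointwise

noncomputable section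

namespace Groth.Agent.Lib.Helper29HilbSerre

open Groth.Agent.Lib.Helper29GrSubQuotA Groth.Agent.Lib.Helper29K0Mod
  Groth.Agent.Lib.Helper29NumPoly

universe u

variable {A S : Type u} [CommRing A] [CommRing S] [Algebra A S] (𝒜 : ℕ → Submodule A S)
  [GradedAlgebra 𝒜]
variable {M : Type u} [AddCommGroup M] [Module A M] [Module S M] [IsScalarTower A S M]
  (ℳ : ℕ → Submodule A M) [DirectSum.Decomposition ℳ] [SetLike.GradedSMul 𝒜 ℳ]

theorem smul_mem_piece {i j : ℕ} {x : S} (hx : x ∈ 𝒜 i) {m : M} (hm : m ∈ ℳ j) :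
    x • m ∈ ℳ (i + j) := by
  have h := SetLike.GradedSMul.smul_mem (A := 𝒜) (B := ℳ) hx hm
  rwa [vadd_eq_add] at h

theorem decompose_smul_of_mem {i : ℕ} {x : S} (hx : x ∈ 𝒜 i) (m : M) (n : ℕ) :
    ((decompose ℳ (x • m)) (i + n) : M) = x • ((decompose ℳ m) n : M) := by
  induction m using DirectSum.Decomposition.inductionOn ℳ with
  | zero => simp
  | @homogeneous k m =>
    have hxm : x • (m : M) ∈ ℳ (i + k) := smul_mem_piece 𝒜 ℳ hx m.2
    by_cases hkn : k = n
    · subst hkn
      rw [DirectSum.decompose_of_mem_same ℳ hxm, DirectSum.decompose_of_mem_same ℳ m.2]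
    · rw [DirectSum.decompose_of_mem_ne ℳ hxm (by omega), DirectSum.decompose_of_mem_ne ℳ m.2 hkn,
        smul_zero]
  | add m m' h h' =>
    rw [smul_add, DirectSum.decompose_add, DirectSum.add_apply, Submodule.coe_add, h, h',
      DirectSum.decompose_add, DirectSum.add_apply, Submodule.coe_add, smul_add]

theorem decompose_smul_of_mem_lt {i : ℕ} {x : S} (hx : x ∈ 𝒜 i) (m : M) (j : ℕ) (hj : j < i) :
    ((decompose ℳ (x • m)) j : M) = 0 := by
  induction m using DirectSum.Decomposition.inductionOn ℳ with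
  | zero => simp
  | @homogeneous k m =>
    have hxm : x • (m : M) ∈ ℳ (i + k) := smul_mem_piece 𝒜 ℳ hx m.2
    rw [DirectSum.decompose_of_mem_ne ℳ hxm (by omega)]
  | add m m' h h' =>
    rw [smul_add, DirectSum.decompose_add, DirectSum.add_apply, Submodule.coe_add, h, h', add_zero]

/-- The degree-`n` component of `s • t`, `t ∈ M_n`, is `s_0 • t`. -/
theorem decompose_smul_same {n : ℕ} {t : M} (ht : t ∈ ℳ n) (s : S) :
    ((decompose ℳ (s • t)) n : M) = ((decompose 𝒜 s) 0 : S) • t := by
  induction s using DirectSum.Decomposition.inductionOn 𝒜 with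
  | zero => simp
  | @homogeneous k s =>
    have hst : (s : S) • t ∈ ℳ (k + n) := smul_mem_piece 𝒜 ℳ s.2 ht
    by_cases hk : k = 0
    · subst hk
      rw [DirectSum.decompose_of_mem_same 𝒜 s.2]
      have : (s : S) • t ∈ ℳ n := by simpa using hst
      rw [DirectSum.decompose_of_mem_same ℳ this]
    · rw [DirectSum.decompose_of_mem_ne ℳ hst (by omega), DirectSum.decompose_of_mem_ne 𝒜 s.2 hk,
        zero_smul]
  | add s s' h h' =>
    rw [add_smul, DirectSum.decompose_add, DirectSum.add_apply, Submodule.coe_add, h, h',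
      DirectSum.decompose_add, DirectSum.add_apply, Submodule.coe_add, add_smul]

section Homog

variable {x : S} {i : ℕ} (hx : x ∈ 𝒜 i)

include hx in
theorem torsionBy_homogeneous (g : ℕ) (m : M) (hm : m ∈ Submodule.torsionBy S M x) :
    ((decompose ℳ m) g : M) ∈ Submodule.torsionBy S M x := by
  rw [Submodule.mem_torsionBy_iff] at hm ⊢
  rw [← decompose_smul_of_mem 𝒜 ℳ hx m g, hm, DirectSum.decompose_zero, DirectSum.zero_apply,
    Submodule.coe_zero]

include hx in
theorem smul_top_homogeneous (g : ℕ) (m : M) (hm : m ∈ x • (⊤ : Submodule S M)) :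
    ((decompose ℳ m) g : M) ∈ x • (⊤ : Submodule S M) := by
  obtain ⟨y, -, rfl⟩ := (Submodule.mem_smul_pointwise_iff_exists _ _ _).mp hm
  by_cases hg : g < i
  · rw [decompose_smul_of_mem_lt 𝒜 ℳ hx y g hg]
    exact zero_mem _
  · obtain ⟨n, rfl⟩ := Nat.exists_eq_add_of_le (not_lt.mp hg)
    rw [decompose_smul_of_mem 𝒜 ℳ hx y n]
    exact Submodule.smul_mem_pointwise_smul _ _ _ Submodule.mem_top

end Homog

theorem sub_gradedSMul (P : Submodule S M) : SetLike.GradedSMul 𝒜 (subPieces ℳ P) where
  smul_mem := by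
    intro i j a b ha hb
    exact SetLike.GradedSMul.smul_mem (A := 𝒜) (B := ℳ) ha hb

theorem quot_gradedSMul (P : Submodule S M) : SetLike.GradedSMul 𝒜 (quotPieces ℳ P) where
  smul_mem := by
    rintro i j r y hr ⟨a, ha, rfl⟩
    exact ⟨r • a, SetLike.GradedSMul.smul_mem (A := 𝒜) (B := ℳ) hr ha, map_smul P.mkQ r a⟩

section Finite

variable (h0 : ∀ s ∈ 𝒜 0, s ∈ Set.range (algebraMap A S))

include h0 in
/-- The pieces of a Noetherian graded module are finite over `A`. -/
theorem finite_piece [IsNoetherian S M] (n : ℕ) : Module.Finite A ↥(ℳ n) := by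
  classical
  have hfg : (Submodule.span S ((ℳ n : Submodule A M) : Set M)).FG :=
    IsNoetherian.noetherian _
  obtain ⟨T, hT, hspan⟩ := (Submodule.fg_span_iff_fg_span_finset_subset _).mp hfg
  have hle : ℳ n ≤ Submodule.span A (T : Set M) := by
    intro m hm
    have hm' : m ∈ Submodule.span S (T : Set M) := by
      rw [← hspan]
      exact Submodule.subset_span hm
    obtain ⟨f, -, rfl⟩ := Submodule.mem_span_finset.mp hm'
    have h1 : ((decompose ℳ (∑ t ∈ T, f t • t)) n : M) = ∑ t ∈ T, f t • t :=
      DirectSum.decompose_of_mem_same ℳ hm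
    rw [← h1, DirectSum.decompose_sum, DFinsupp.finset_sum_apply, AddSubmonoidClass.coe_finset_sum]
    refine Submodule.sum_mem _ fun t ht => ?_
    rw [decompose_smul_same 𝒜 ℳ (hT ht) (f t)]
    obtain ⟨a, ha⟩ := h0 _ (SetLike.coe_mem ((decompose 𝒜 (f t)) 0))
    rw [← ha, algebraMap_smul]
    exact Submodule.smul_mem _ _ (Submodule.subset_span ht)
  have heq : ℳ n = Submodule.span A (T : Set M) :=
    le_antisymm hle (Submodule.span_le.mpr hT)
  rw [Module.Finite.iff_fg, heq]
  exact Submodule.fg_span T.finite_toSet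

end Finite

/-- If `S_+` kills the finitely generated graded module `M`, then `M_n = 0` for `n ≫ 0`. -/
theorem exists_bound_of_irrelevant_le [Module.Finite S M]
    (hann : (HomogeneousIdeal.irrelevant 𝒜).toIdeal ≤ Module.annihilator S M) :
    ∃ D : ℕ, ∀ n, D < n → ℳ n = ⊥ := by
  classical
  obtain ⟨T, hT⟩ := (Module.Finite.fg_top : (⊤ : Submodule S M).FG)
  let D : ℕ := T.sup fun t => (decompose ℳ t).support.sup id
  have hsmul : ∀ (s : S) (m : M), s • m = ((decompose 𝒜 s) 0 : S) • m := by
    intro s m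
    have h1 : s - ((decompose 𝒜 s) 0 : S) ∈ (HomogeneousIdeal.irrelevant 𝒜).toIdeal := by
      show s - ((decompose 𝒜 s) 0 : S) ∈ HomogeneousIdeal.irrelevant 𝒜
      rw [HomogeneousIdeal.mem_irrelevant_iff, map_sub, GradedRing.proj_apply,
        GradedRing.proj_apply, DirectSum.decompose_of_mem_same 𝒜 (SetLike.coe_mem _), sub_self]
    have h2 := Module.mem_annihilator.mp (hann h1) m
    rw [sub_smul, sub_eq_zero] at h2
    exact h2
  let W : Submodule S M :=
    { carrier := {m | ∀ n, D < n → ((decompose ℳ m) n : M) = 0}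
      zero_mem' := fun n _ => by simp
      add_mem' := by
        intro m m' hm hm' n hn
        rw [DirectSum.decompose_add, DirectSum.add_apply, Submodule.coe_add, hm n hn, hm' n hn,
          add_zero]
      smul_mem' := by
        intro s m hm n hn
        show ((decompose ℳ (s • m)) n : M) = 0
        have h := decompose_smul_of_mem 𝒜 ℳ (SetLike.coe_mem ((decompose 𝒜 s) 0)) m n
        rw [zero_add] at h
        rw [hsmul s m, h, hm n hn, smul_zero] }
  have hTW : (T : Set M) ⊆ W := by
    intro t ht n hn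
    by_contra hne
    have hmem : n ∈ (decompose ℳ t).support := by
      rw [DFinsupp.mem_support_toFun]
      intro h
      apply hne
      rw [h, Submodule.coe_zero]
    have h1 : n ≤ (decompose ℳ t).support.sup id := Finset.le_sup (f := id) hmem
    have h2 : (decompose ℳ t).support.sup id ≤ D :=
      Finset.le_sup (f := fun t => (decompose ℳ t).support.sup id) ht
    omega
  have hW : W = ⊤ := by
    rw [eq_top_iff, ← hT]
    exact Submodule.span_le.mpr hTW
  refine ⟨D, fun n hn => ?_⟩
  rw [eq_bot_iff]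
  intro m hm
  rw [Submodule.mem_bot]
  have h1 : m ∈ W := hW ▸ Submodule.mem_top
  rw [← DirectSum.decompose_of_mem_same ℳ hm]
  exact h1 n hn

end Groth.Agent.Lib.Helper29HilbSerre
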