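import Groth.Agent.Lib.Helper29HilbSerre

/-! The Hilbert–Serre theorem in `K'_0(A)`: the multiplication-by-`x` step and the induction on
the number of generators of the irrelevant ideal (helper29). -/

set_option autoImplicit false
set_option linter.style.haveILetI false
set_option linter.unusedSectionVars false
open DirectSum Pointwise

noncomputable section

namespace Groth.Agent.Lib.Helper29HilbSerre

open Groth.Agent.Lib.Helper29GrSubQuotA Groth.Agent.Lib.Helper29K0Mod
  Groth.Agent.Lib.Helper29NumPoly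

universe u

variable {A S : Type u} [CommRing A] [CommRing S] [Algebra A S] (𝒜 : ℕ → Submodule A S)
  [GradedAlgebra 𝒜]

section Step

variable {M : Type u} [AddCommGroup M] [Module A M] [Module S M] [IsScalarTower A S M]
  (ℳ : ℕ → Submodule A M) [DirectSum.Decomposition ℳ] [SetLike.GradedSMul 𝒜 ℳ]
variable {x : S} (hx : x ∈ 𝒜 1)

/-- Multiplication by `x ∈ S_1` on pieces. -/
def mulPiece (n : ℕ) : ↥(ℳ n) →ₗ[A] ↥(ℳ (n + 1)) where
  toFun m := ⟨x • (m : M), by
    have := smul_mem_piece 𝒜 ℳ hx m.2
    rwa [add_comm] at this⟩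
  map_add' m m' := Subtype.ext (smul_add x (m : M) (m' : M))
  map_smul' a m := Subtype.ext (smul_comm x a (m : M))

theorem mulPiece_coe (n : ℕ) (m : ↥(ℳ n)) : ((mulPiece 𝒜 ℳ hx n m : ↥(ℳ (n + 1))) : M) = x • (m : M) :=
  rfl

include hx in
/-- `[M_{n+1}] - [M_n] = [(M/xM)_{n+1}] - [(0 :_M x)_n]`. -/
theorem cls_succ_sub (n : ℕ) [Module.Finite A ↥(ℳ n)] [Module.Finite A ↥(ℳ (n + 1))]
    [Module.Finite A ↥(subPieces ℳ (Submodule.torsionBy S M x) n)] :
    cls A ↥(ℳ (n + 1)) - cls A ↥(ℳ n) =
      cls A ↥(quotPieces ℳ (x • (⊤ : Submodule S M)) (n + 1)) -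
        cls A ↥(subPieces ℳ (Submodule.torsionBy S M x) n) := by
  haveI : Module.Finite A ↥(LinearMap.range (mulPiece 𝒜 ℳ hx n)) := Module.Finite.range _
  haveI : Module.Finite A ↥(quotPieces ℳ (x • (⊤ : Submodule S M)) (n + 1)) :=
    Module.Finite.map (ℳ (n + 1)) _
  -- first sequence
  let f₁ : ↥(subPieces ℳ (Submodule.torsionBy S M x) n) →ₗ[A] ↥(ℳ n) :=
    { toFun := fun k => ⟨((k : ↥(Submodule.torsionBy S M x)) : M), k.2⟩
      map_add' := fun _ _ => rfl
      map_smul' := fun _ _ => rfl }
  have h1 := cls_add_of_exact (A := A) f₁ (mulPiece 𝒜 ℳ hx n).rangeRestrict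
    (by
      intro k k' h
      apply Subtype.ext
      apply Subtype.ext
      exact congrArg (fun z : ↥(ℳ n) => (z : M)) h)
    (mulPiece 𝒜 ℳ hx n).surjective_rangeRestrict
    (by
      intro m
      constructor
      · intro hm
        have hm' : x • (m : M) = 0 := by
          have := congrArg (fun z : ↥(LinearMap.range (mulPiece 𝒜 ℳ hx n)) =>
            ((z : ↥(ℳ (n + 1))) : M)) hm
          exact this
        exact ⟨⟨⟨(m : M), (Submodule.mem_torsionBy_iff _ _).mpr hm'⟩, m.2⟩, rfl⟩
      · rintro ⟨k, rfl⟩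
        apply Subtype.ext
        apply Subtype.ext
        show x • ((k : ↥(Submodule.torsionBy S M x)) : M) = 0
        exact (Submodule.mem_torsionBy_iff _ _).mp (k : ↥(Submodule.torsionBy S M x)).2)
  -- second sequence
  let g₂ : ↥(ℳ (n + 1)) →ₗ[A] ↥(quotPieces ℳ (x • (⊤ : Submodule S M)) (n + 1)) :=
    { toFun := fun m => ⟨(x • (⊤ : Submodule S M)).mkQ (m : M), (m : M), m.2, rfl⟩
      map_add' := fun m m' => Subtype.ext (map_add _ (m : M) (m' : M))
      map_smul' := fun a m => Subtype.ext (by
        show (x • (⊤ : Submodule S M)).mkQ (a • (m : M)) = a • (x • (⊤ : Submodule S M)).mkQ (m : M)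
        rw [Submodule.mkQ_apply, Submodule.mkQ_apply]
        rfl) }
  have h2 := cls_add_of_exact (A := A) (LinearMap.range (mulPiece 𝒜 ℳ hx n)).subtype g₂
    (Submodule.injective_subtype _)
    (by
      rintro ⟨y, a, ha, rfl⟩
      exact ⟨⟨a, ha⟩, rfl⟩)
    (by
      intro m
      constructor
      · intro hm
        have hm' : (m : M) ∈ x • (⊤ : Submodule S M) := by
          have := congrArg (fun z : ↥(quotPieces ℳ (x • (⊤ : Submodule S M)) (n + 1)) =>
            (z : M ⧸ x • (⊤ : Submodule S M))) hm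
          have h3 : (x • (⊤ : Submodule S M)).mkQ (m : M) = 0 := this
          rwa [Submodule.mkQ_apply, Submodule.Quotient.mk_eq_zero] at h3
        obtain ⟨y, -, hy⟩ := (Submodule.mem_smul_pointwise_iff_exists _ _ _).mp hm'
        have h4 : (m : M) = x • ((decompose ℳ y) n : M) := by
          have h5 := decompose_smul_of_mem 𝒜 ℳ hx y n
          rw [add_comm, hy, DirectSum.decompose_of_mem_same ℳ m.2] at h5
          exact h5
        refine ⟨⟨m, ⟨(decompose ℳ y) n, ?_⟩⟩, rfl⟩
        apply Subtype.ext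
        rw [mulPiece_coe]
        exact h4.symm
      · rintro ⟨⟨_, k, rfl⟩, rfl⟩
        apply Subtype.ext
        show (x • (⊤ : Submodule S M)).mkQ (x • (k : M)) = 0
        rw [Submodule.mkQ_apply, Submodule.Quotient.mk_eq_zero]
        exact Submodule.smul_mem_pointwise_smul _ _ _ Submodule.mem_top)
  rw [h2, h1]
  abel

end Step

section Main

variable (h0 : ∀ s ∈ 𝒜 0, s ∈ Set.range (algebraMap A S)) [IsNoetherianRing S]

include h0 in
/-- The Hilbert–Serre theorem in `K'_0(A)`, by induction on a list of degree-one generators. -/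
theorem isNumPoly_cls (L : List S) (hL : ∀ y ∈ L, y ∈ 𝒜 1) :
    ∀ (M : Type u) [AddCommGroup M] [Module A M] [Module S M] [IsScalarTower A S M]
      [Module.Finite S M] (ℳ : ℕ → Submodule A M) [DirectSum.Decomposition ℳ]
      [SetLike.GradedSMul 𝒜 ℳ],
      (HomogeneousIdeal.irrelevant 𝒜).toIdeal ≤
        Ideal.span {y | y ∈ L} ⊔ Module.annihilator S M →
      IsNumPoly (fun n => cls A ↥(ℳ n)) := by
  induction L with
  | nil =>
    intro M _ _ _ _ _ ℳ _ _ hann
    have hann' : (HomogeneousIdeal.irrelevant 𝒜).toIdeal ≤ Module.annihilator S M := by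
      refine hann.trans ?_
      have : {y : S | y ∈ ([] : List S)} = ∅ := by
        ext y
        simp
      rw [this, Ideal.span_empty, bot_sup_eq]
    obtain ⟨D, hD⟩ := exists_bound_of_irrelevant_le 𝒜 ℳ hann'
    refine isNumPoly_of_eventually_zero _ (D + 1) fun n hn => ?_
    haveI : Subsingleton ↥(ℳ n) := Submodule.subsingleton_iff_eq_bot.mpr (hD n (by omega))
    exact cls_of_subsingleton _
  | cons x L' ih =>
    intro M _ _ _ _ _ ℳ _ _ hann
    have hx : x ∈ 𝒜 1 := hL x (List.mem_cons_self ..)
    have hL' : ∀ y ∈ L', y ∈ 𝒜 1 := fun y hy => hL y (List.mem_cons_of_mem _ hy)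
    haveI : IsNoetherian S M := isNoetherian_of_isNoetherianRing_of_finite S M
    have hspan : Ideal.span {y | y ∈ x :: L'} = Ideal.span {x} ⊔ Ideal.span {y | y ∈ L'} := by
      have : {y : S | y ∈ x :: L'} = insert x {y | y ∈ L'} := by
        ext y
        simp
      rw [this, Ideal.span_insert]
    -- the kernel
    letI dK : DirectSum.Decomposition (subPieces ℳ (Submodule.torsionBy S M x)) :=
      subDecomposition ℳ _ (torsionBy_homogeneous 𝒜 ℳ hx)
    letI sK : SetLike.GradedSMul 𝒜 (subPieces ℳ (Submodule.torsionBy S M x)) :=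
      sub_gradedSMul 𝒜 ℳ _
    haveI : Module.Finite S ↥(Submodule.torsionBy S M x) := Module.IsNoetherian.finite S _
    have hannK : (HomogeneousIdeal.irrelevant 𝒜).toIdeal ≤
        Ideal.span {y | y ∈ L'} ⊔ Module.annihilator S ↥(Submodule.torsionBy S M x) := by
      refine hann.trans ?_
      rw [hspan, sup_assoc]
      refine sup_le ?_ (sup_le le_sup_left ?_)
      · refine le_sup_of_le_right ?_
        rw [Ideal.span_le, Set.singleton_subset_iff]
        show x ∈ Module.annihilator S ↥(Submodule.torsionBy S M x)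
        rw [Module.mem_annihilator]
        intro k
        apply Subtype.ext
        rw [Submodule.coe_smul, Submodule.coe_zero]
        exact (Submodule.mem_torsionBy_iff _ _).mp k.2
      · refine le_sup_of_le_right ?_
        intro r hr
        rw [Module.mem_annihilator] at hr ⊢
        intro k
        apply Subtype.ext
        rw [Submodule.coe_smul, Submodule.coe_zero]
        exact hr (k : M)
    have hK := ih hL' ↥(Submodule.torsionBy S M x) (subPieces ℳ (Submodule.torsionBy S M x)) hannK
    -- the cokernel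
    letI dC : DirectSum.Decomposition (quotPieces ℳ (x • (⊤ : Submodule S M))) :=
      quotDecomposition ℳ _ (smul_top_homogeneous 𝒜 ℳ hx)
    letI sC : SetLike.GradedSMul 𝒜 (quotPieces ℳ (x • (⊤ : Submodule S M))) :=
      quot_gradedSMul 𝒜 ℳ _
    have hannC : (HomogeneousIdeal.irrelevant 𝒜).toIdeal ≤
        Ideal.span {y | y ∈ L'} ⊔ Module.annihilator S (M ⧸ x • (⊤ : Submodule S M)) := by
      refine hann.trans ?_
      rw [hspan, sup_assoc]
      refine sup_le ?_ (sup_le le_sup_left ?_)
      · refine le_sup_of_le_right ?_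
        rw [Ideal.span_le, Set.singleton_subset_iff]
        show x ∈ Module.annihilator S (M ⧸ x • (⊤ : Submodule S M))
        rw [Module.mem_annihilator]
        intro c
        obtain ⟨m, rfl⟩ := Submodule.mkQ_surjective _ c
        rw [← map_smul, Submodule.mkQ_apply, Submodule.Quotient.mk_eq_zero]
        exact Submodule.smul_mem_pointwise_smul _ _ _ Submodule.mem_top
      · refine le_sup_of_le_right ?_
        intro r hr
        rw [Module.mem_annihilator] at hr ⊢
        intro c
        obtain ⟨m, rfl⟩ := Submodule.mkQ_surjective _ c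
        rw [← map_smul, hr m, map_zero]
    have hC := ih hL' (M ⧸ x • (⊤ : Submodule S M)) (quotPieces ℳ (x • (⊤ : Submodule S M))) hannC
    -- the difference equation
    apply isNumPoly_of_diff
    have hfin : ∀ n, Module.Finite A ↥(ℳ n) := fun n => finite_piece 𝒜 ℳ h0 n
    have hfinK : ∀ n, Module.Finite A ↥(subPieces ℳ (Submodule.torsionBy S M x) n) := fun n =>
      finite_piece 𝒜 (subPieces ℳ (Submodule.torsionBy S M x)) h0 n
    have heq : (fun n => cls A ↥(ℳ (n + 1)) - cls A ↥(ℳ n)) =
        fun n => cls A ↥(quotPieces ℳ (x • (⊤ : Submodule S M)) (n + 1)) -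
          cls A ↥(subPieces ℳ (Submodule.torsionBy S M x) n) := by
      funext n
      haveI := hfin n
      haveI := hfin (n + 1)
      haveI := hfinK n
      exact cls_succ_sub 𝒜 ℳ hx n
    rw [heq]
    exact hC.shift.sub hK

end Main

end Groth.Agent.Lib.Helper29HilbSerre
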