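import Mathlib
import Groth.Agent.Lib.Helper29ExtArt
import Groth.Agent.Lib.Helper29EulerLES
import Groth.Agent.Lib.Helper29ExtSes
import Groth.Agent.S0563
import Groth.Agent.Lib.Helper8Matlis
import Groth.Agent.Lib.Helper29GorHull
import Groth.Agent.Lib.Helper5RLR3

/-! Length of `Hom(I, R/J)` over a two-dimensional regular local ring (helper29):
Euler characteristic of `Ext(-, Y)` for `Y` of finite length. -/

set_option autoImplicit false
set_option linter.style.haveILetI false
universe u
open CategoryTheory Abelian IsLocalRing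
open scoped Pointwise

namespace Groth.Agent.Lib.Helper29HomLen

section Chi

variable {R : Type u} [CommRing R] (Y : ModuleCat.{u} R)

/-- `e_i(X) = length Ext^i(X, Y)`, as a natural number. -/
noncomputable def el (X : ModuleCat.{u} R) (i : ℕ) : ℕ :=
  (Module.length R (Ext.{u} X Y i)).toNat

/-- The truncated Euler characteristic `e_0 - e_1 + e_2`. -/
noncomputable def chi (X : ModuleCat.{u} R) : ℤ :=
  (el Y X 0 : ℤ) - (el Y X 1 : ℤ) + (el Y X 2 : ℤ)

theorem chi_additive {S : ShortComplex (ModuleCat.{u} R)} (hS : S.ShortExact)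
    (h3 : Subsingleton (Ext.{u} S.X₃ Y 3))
    (hf1 : ∀ i, Module.length R (Ext.{u} S.X₁ Y i) ≠ ⊤)
    (hf2 : ∀ i, Module.length R (Ext.{u} S.X₂ Y i) ≠ ⊤)
    (hf3 : ∀ i, Module.length R (Ext.{u} S.X₃ Y i) ≠ ⊤) :
    chi Y S.X₂ = chi Y S.X₁ + chi Y S.X₃ := by
  have hepi : Epi S.g := hS.epi_g
  have key := Groth.Agent.Lib.Helper29EulerLES.euler_les (R₀ := R)
    (fun i => Ext.{u} S.X₃ Y i) (fun i => Ext.{u} S.X₂ Y i) (fun i => Ext.{u} S.X₁ Y i)
    (fun i => (Ext.mk₀ S.g).precompOfLinear R Y (zero_add i))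
    (fun i => (Ext.mk₀ S.f).precompOfLinear R Y (zero_add i))
    (fun i => hS.extClass.precompOfLinear R Y (add_comm 1 i))
    (Ext.precomp_mk₀_injective_of_epi Y S.g)
    (by
      intro n
      ext x
      constructor
      · intro hx
        obtain ⟨x₁, hx₁⟩ := Ext.contravariant_sequence_exact₂ hS Y x hx
        exact ⟨x₁, hx₁⟩
      · rintro ⟨x₁, rfl⟩
        change (Ext.mk₀ S.f).comp ((Ext.mk₀ S.g).comp x₁ (zero_add n)) (zero_add n) = 0
        rw [Ext.mk₀_comp_mk₀_assoc, S.zero, Ext.mk₀_zero, Ext.zero_comp])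
    (by
      intro n
      ext x
      constructor
      · intro hx
        obtain ⟨x₂, hx₂⟩ := Ext.contravariant_sequence_exact₁ hS Y x (add_comm 1 n) hx
        exact ⟨x₂, hx₂⟩
      · rintro ⟨x₂, rfl⟩
        exact hS.extClass_comp_assoc (h := add_comm 1 n) x₂)
    (by
      intro n
      ext x
      constructor
      · intro hx
        obtain ⟨x₁, hx₁⟩ := Ext.contravariant_sequence_exact₃ hS Y x hx (add_comm 1 n)
        exact ⟨x₁, hx₁⟩
      · rintro ⟨x₁, rfl⟩
        exact hS.comp_extClass_assoc x₁ (add_comm 1 n))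
    hf3 hf2 hf1 2 h3
  unfold chi el
  rw [Finset.sum_range_succ, Finset.sum_range_succ, Finset.sum_range_one] at key
  simp only [pow_zero, pow_one, one_mul] at key
  linarith

end Chi

section Local

open Groth.Agent.Lib.Helper29ExtSes

variable {R : Type u} [CommRing R] [IsNoetherianRing R] [IsLocalRing R] (Y : ModuleCat.{u} R)

theorem length_ext_ne_top (hY : IsFiniteLength R Y) (X : ModuleCat.{u} R) [Module.Finite R X]
    (i : ℕ) : Module.length R (Ext.{u} X Y i) ≠ ⊤ := by
  obtain ⟨k, hk⟩ :=
    Groth.Agent.Lib.Helper8.Matlis.exists_pow_smul_eq_zero_of_isFiniteLength (R := R) Y hY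
  haveI hart : IsArtinian R Y := (isFiniteLength_iff_isNoetherian_isArtinian.mp hY).2
  haveI h1 : IsArtinian R (Ext.{u} X Y i) :=
    Groth.Agent.Lib.Helper29.ExtArt.isArtinian_ext Y i X
  have h2 := Groth.Agent.Lib.Helper29.ExtArt.isFiniteLength_of_isArtinian_of_pow_smul
    (Ext.{u} X Y i) k
    (fun a ha x => Groth.Agent.Lib.Helper29.ExtArt.smul_ext_eq_zero_of_right a (hk a ha) i x)
  exact Module.length_ne_top_iff.mpr h2

omit [IsNoetherianRing R] [IsLocalRing R] in
theorem el_congr {X X' : ModuleCat.{u} R} (e : X ≅ X') (i : ℕ) : el Y X i = el Y X' i := by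
  unfold el
  rw [(Groth.Agent.Lib.Helper29.GorHull.extCongrLeft R e Y i).length_eq]

omit [IsNoetherianRing R] [IsLocalRing R] in
theorem chi_congr {X X' : ModuleCat.{u} R} (e : X ≅ X') : chi Y X = chi Y X' := by
  unfold chi
  rw [el_congr Y e 0, el_congr Y e 1, el_congr Y e 2]

omit [IsNoetherianRing R] [IsLocalRing R] in
theorem el_of_subsingleton (X : ModuleCat.{u} R) [Subsingleton X] (i : ℕ) : el Y X i = 0 := by
  unfold el
  have : Subsingleton (Ext.{u} X Y i) := by
    refine ⟨fun a b => ?_⟩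
    have ha := Groth.Agent.Lib.Helper29.ExtArt.smul_ext_eq_zero_of_left (1 : R)
      (fun x : X => Subsingleton.elim _ _) i a
    have hb := Groth.Agent.Lib.Helper29.ExtArt.smul_ext_eq_zero_of_left (1 : R)
      (fun x : X => Subsingleton.elim _ _) i b
    rw [one_smul] at ha hb
    rw [ha, hb]
  rw [Module.length_eq_zero, ENat.toNat_zero]

/-- The Euler characteristic vanishes on `M/xM` for `x` regular on the finite module `M`. -/
theorem chi_quotSMulTop (hY : IsFiniteLength R Y)
    (hgd : ∀ X : ModuleCat.{u} R, Subsingleton (Ext.{u} X Y 3))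
    (M : Type u) [AddCommGroup M] [Module R M] [Module.Finite R M] (x : R)
    (hx : IsSMulRegular M x) : chi Y (ModuleCat.of R (QuotSMulTop x M)) = 0 := by
  have hf : Function.Injective (LinearMap.lsmul R M x) := hx
  have hg := Submodule.mkQ_surjective (x • (⊤ : Submodule R M))
  have hex := LinearMap.exact_lsmul_mkQ_smul_top M x
  have hS := ses_shortExact _ _ hf hg hex
  have h := chi_additive Y hS (hgd _)
    (fun i => length_ext_ne_top Y hY (ModuleCat.of R M) i)
    (fun i => length_ext_ne_top Y hY (ModuleCat.of R M) i)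
    (fun i => length_ext_ne_top Y hY (ModuleCat.of R (QuotSMulTop x M)) i)
  change chi Y (ModuleCat.of R M) = chi Y (ModuleCat.of R M) +
    chi Y (ModuleCat.of R (QuotSMulTop x M)) at h
  linarith

/-- The Euler characteristic of the residue field vanishes when the maximal ideal is generated by
a regular sequence of length two. -/
theorem chi_residue (hY : IsFiniteLength R Y)
    (hgd : ∀ X : ModuleCat.{u} R, Subsingleton (Ext.{u} X Y 3))
    (x y : R) (hxy : Ideal.ofList [x, y] = maximalIdeal R)
    (hreg : RingTheory.Sequence.IsWeaklyRegular R [x, y]) :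
    chi Y (ModuleCat.of R (R ⧸ maximalIdeal R)) = 0 := by
  rw [RingTheory.Sequence.isWeaklyRegular_cons_iff,
    RingTheory.Sequence.isWeaklyRegular_cons_iff] at hreg
  have h0 := chi_quotSMulTop Y hY hgd (QuotSMulTop x R) y hreg.2.1
  have e1 : (R ⧸ maximalIdeal R) ≃ₗ[R] (R ⧸ (Ideal.ofList [x, y] • ⊤ : Submodule R R)) :=
    Submodule.quotEquivOfEq _ _ (by rw [smul_eq_mul, Ideal.mul_top, hxy])
  have e2 := Submodule.quotOfListConsSMulTopEquivQuotSMulTopInner R x [y]
  have e3 : (QuotSMulTop x R ⧸ (Ideal.ofList [y] • ⊤ : Submodule R (QuotSMulTop x R))) ≃ₗ[R]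
      QuotSMulTop y (QuotSMulTop x R) :=
    Submodule.quotEquivOfEq _ _ (by
      rw [Ideal.ofList_singleton, Submodule.ideal_span_singleton_smul])
  rw [chi_congr Y ((e1.trans (e2.trans e3)).toModuleIso)]
  exact h0

/-- The Euler characteristic vanishes on modules of finite length. -/
theorem chi_eq_zero_of_isFiniteLength (hY : IsFiniteLength R Y)
    (hgd : ∀ X : ModuleCat.{u} R, Subsingleton (Ext.{u} X Y 3))
    (hk : chi Y (ModuleCat.of R (R ⧸ maximalIdeal R)) = 0)
    (X : Type u) [AddCommGroup X] [Module R X] (hX : IsFiniteLength R X) :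
    chi Y (ModuleCat.of R X) = 0 := by
  induction hX with
  | @of_subsingleton M _ _ _ =>
    unfold chi
    haveI : Subsingleton (ModuleCat.of R M) := ‹Subsingleton M›
    rw [el_of_subsingleton, el_of_subsingleton, el_of_subsingleton]
    simp
  | @of_simple_quotient M _ _ N hs hN ih =>
    have hM : IsFiniteLength R M := IsFiniteLength.of_simple_quotient hN
    haveI : IsNoetherian R M := (isFiniteLength_iff_isNoetherian_isArtinian.mp hM).1
    haveI : Module.Finite R M := inferInstance
    haveI : Module.Finite R N := inferInstance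
    have hS := ses_shortExact N.subtype N.mkQ (Submodule.subtype_injective N)
      (Submodule.mkQ_surjective N) (LinearMap.exact_subtype_mkQ N)
    have h := chi_additive Y hS (hgd _)
      (fun i => length_ext_ne_top Y hY (ModuleCat.of R N) i)
      (fun i => length_ext_ne_top Y hY (ModuleCat.of R M) i)
      (fun i => length_ext_ne_top Y hY (ModuleCat.of R (M ⧸ N)) i)
    change chi Y (ModuleCat.of R M) = chi Y (ModuleCat.of R N) +
      chi Y (ModuleCat.of R (M ⧸ N)) at h
    obtain ⟨e⟩ := Groth.Agent.Lib.Helper29.GorHull.exists_equiv_kq (A := R) (M ⧸ N)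
    rw [h, ih, chi_congr Y e.toModuleIso]
    change (0 : ℤ) + chi Y (ModuleCat.of R (R ⧸ maximalIdeal R)) = 0
    rw [hk, add_zero]

end Local

section RightExact

open Groth.Agent.Lib.Helper29ExtSes

variable {R : Type u} [CommRing R] [IsNoetherianRing R]

/-- If `Ext^3(A, -)` vanishes, then `Ext^2(A, R/J) ≅ Ext^2(A, R) / J Ext^2(A, R)` (lengths). -/
theorem length_ext_two_quot (A : ModuleCat.{u} R)
    (hgd : ∀ Y : ModuleCat.{u} R, Subsingleton (Ext.{u} A Y 3)) (J : Ideal R) :
    Module.length R (Ext.{u} A (ModuleCat.of R (R ⧸ J)) 2) =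
      Module.length R (Ext.{u} A (ModuleCat.of R R) 2 ⧸
        (J • ⊤ : Submodule R (Ext.{u} A (ModuleCat.of R R) 2))) := by
  have hS := ses_shortExact J.subtype J.mkQ (Submodule.subtype_injective J)
    (Submodule.mkQ_surjective J) (LinearMap.exact_subtype_mkQ J)
  set π : Ext.{u} A (ModuleCat.of R R) 2 →ₗ[R] Ext.{u} A (ModuleCat.of R (R ⧸ J)) 2 :=
    (Ext.mk₀ (ModuleCat.ofHom J.mkQ)).postcompOfLinear R A (add_zero 2) with hπ
  have hsurj : Function.Surjective π := by
    intro x₃
    obtain ⟨x₂, hx₂⟩ := Ext.covariant_sequence_exact₃ A hS x₃ (rfl : 2 + 1 = 3)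
      ((hgd _).elim _ _)
    exact ⟨x₂, hx₂⟩
  have hker : LinearMap.ker π = (J • ⊤ : Submodule R (Ext.{u} A (ModuleCat.of R R) 2)) := by
    apply le_antisymm
    · intro w hw
      have hw' : w.comp (Ext.mk₀ (ModuleCat.ofHom J.mkQ)) (add_zero 2) = 0 := hw
      obtain ⟨z, hz⟩ := Ext.covariant_sequence_exact₂ A hS w hw'
      -- a finite free cover of `J`
      obtain ⟨s, p, hp⟩ := Module.Finite.exists_fin' R J
      have hS2 := ses_shortExact (LinearMap.ker p).subtype p
        (Submodule.subtype_injective _) hp (LinearMap.exact_subtype_ker_map p)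
      obtain ⟨z', hz'⟩ := Ext.covariant_sequence_exact₃ A hS2 z (rfl : 2 + 1 = 3)
        ((hgd _).elim _ _)
      -- the linear map `f ↦ z' ∘ f`
      let Φ : ((Fin s → R) →ₗ[R] R) →ₗ[R] Ext.{u} A (ModuleCat.of R R) 2 :=
        (Ext.bilinearCompOfLinear R A (ModuleCat.of R (Fin s → R)) (ModuleCat.of R R) 2 0 2
          (add_zero 2) z') ∘ₗ
          (Ext.linearEquiv₀ (R := R) (X := ModuleCat.of R (Fin s → R))
            (Y := ModuleCat.of R R)).symm.toLinearMap ∘ₗ
          (ModuleCat.homLinearEquiv (S := R) (M := ModuleCat.of R (Fin s → R))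
            (N := ModuleCat.of R R)).symm.toLinearMap
      have hΦ : ∀ f : (Fin s → R) →ₗ[R] R,
          Φ f = z'.comp (Ext.mk₀ (ModuleCat.ofHom f)) (add_zero 2) := fun f => rfl
      have hw2 : w = Φ (J.subtype ∘ₗ p) := by
        rw [hΦ, ← hz, ← hz']
        change (z'.comp (Ext.mk₀ (ModuleCat.ofHom p)) (add_zero 2)).comp
          (Ext.mk₀ (ModuleCat.ofHom J.subtype)) (add_zero 2) = _
        rw [Ext.comp_assoc_of_third_deg_zero, Ext.mk₀_comp_mk₀]
        rfl
      have hdec : (J.subtype ∘ₗ p) =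
          ∑ i : Fin s, ((p (Pi.single i 1) : J) : R) • LinearMap.proj (R := R) (φ := fun _ => R) i := by
        apply LinearMap.pi_ext
        intro i x
        rw [LinearMap.sum_apply, LinearMap.comp_apply, Submodule.subtype_apply]
        have h1 : (Pi.single i x : Fin s → R) = x • Pi.single i 1 := by
          rw [← Pi.single_smul, smul_eq_mul, mul_one]
        rw [Finset.sum_eq_single i]
        · rw [LinearMap.smul_apply, LinearMap.proj_apply, Pi.single_eq_same, h1, map_smul,
            Submodule.coe_smul, smul_eq_mul, smul_eq_mul, mul_comm]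
        · intro b _ hb
          rw [LinearMap.smul_apply, LinearMap.proj_apply, Pi.single_eq_of_ne hb, smul_zero]
        · intro h
          exact absurd (Finset.mem_univ i) h
      rw [hw2, hdec, map_sum]
      refine Submodule.sum_mem _ (fun i _ => ?_)
      rw [map_smul]
      exact Submodule.smul_mem_smul (p (Pi.single i 1)).2 Submodule.mem_top
    · rw [Submodule.smul_le]
      intro j hj w _
      rw [LinearMap.mem_ker, map_smul]
      exact Groth.Agent.Lib.Helper29.ExtArt.smul_ext_eq_zero_of_right j (fun y => by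
        obtain ⟨y, rfl⟩ := Submodule.Quotient.mk_surjective _ y
        change j • (Submodule.Quotient.mk y : R ⧸ J) = 0
        rw [← Submodule.Quotient.mk_smul, Submodule.Quotient.mk_eq_zero]
        exact J.mul_mem_right y hj) 2 _
  rw [← hker]
  exact (LinearMap.quotKerEquivOfSurjective π hsurj).length_eq.symm

end RightExact

section HomIdeal

open Groth.Agent.Lib.Helper29ExtSes

variable {R : Type u} [CommRing R] [IsNoetherianRing R] [IsLocalRing R] (Y : ModuleCat.{u} R)

/-- `length Hom(I, Y) = length Y + length Ext^2(R/I, Y)` when the Euler characteristic vanishes on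
modules of finite length. -/
theorem length_hom_ideal (hY : IsFiniteLength R Y)
    (hgd : ∀ X : ModuleCat.{u} R, Subsingleton (Ext.{u} X Y 3))
    (hk : chi Y (ModuleCat.of R (R ⧸ maximalIdeal R)) = 0) (I : Ideal R)
    (hI : IsFiniteLength R (R ⧸ I)) :
    Module.length R (I →ₗ[R] Y) =
      Module.length R Y + Module.length R (Ext.{u} (ModuleCat.of R (R ⧸ I)) Y 2) := by
  have hS := ses_shortExact I.subtype I.mkQ (Submodule.subtype_injective I)
    (Submodule.mkQ_surjective I) (LinearMap.exact_subtype_mkQ I)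
  have hadd := chi_additive Y hS (hgd _)
    (fun i => length_ext_ne_top Y hY (ModuleCat.of R I) i)
    (fun i => length_ext_ne_top Y hY (ModuleCat.of R R) i)
    (fun i => length_ext_ne_top Y hY (ModuleCat.of R (R ⧸ I)) i)
  change chi Y (ModuleCat.of R R) = chi Y (ModuleCat.of R I) +
    chi Y (ModuleCat.of R (R ⧸ I)) at hadd
  rw [chi_eq_zero_of_isFiniteLength Y hY hgd hk (R ⧸ I) hI, add_zero] at hadd
  haveI hproj : Projective (ModuleCat.of R R) :=
    (IsProjective.iff_projective.{u, u} R).mp inferInstance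
  have hR : ∀ i, Subsingleton (Ext.{u} (ModuleCat.of R R) Y (i + 1)) := fun i =>
    ⟨fun a b => by rw [Ext.eq_zero_of_projective a, Ext.eq_zero_of_projective b]⟩
  have hR1 : el Y (ModuleCat.of R R) 1 = 0 := by
    unfold el
    haveI := hR 0
    rw [Module.length_eq_zero, ENat.toNat_zero]
  have hR2 : el Y (ModuleCat.of R R) 2 = 0 := by
    unfold el
    haveI := hR 1
    rw [Module.length_eq_zero, ENat.toNat_zero]
  have e0 : Ext.{u} (ModuleCat.of R R) Y 0 ≃ₗ[R] Y :=
    (Ext.linearEquiv₀ (R := R)).trans ((ModuleCat.homLinearEquiv (S := R)).trans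
      (LinearMap.ringLmapEquivSelf R R Y))
  have hR0 : el Y (ModuleCat.of R R) 0 = (Module.length R Y).toNat := by
    unfold el
    rw [e0.length_eq]
  have eI : Ext.{u} (ModuleCat.of R I) Y 0 ≃ₗ[R] (I →ₗ[R] Y) :=
    (Ext.linearEquiv₀ (R := R)).trans (ModuleCat.homLinearEquiv (S := R))
  have hI0 : el Y (ModuleCat.of R I) 0 = (Module.length R (I →ₗ[R] Y)).toNat := by
    unfold el
    rw [eI.length_eq]
  have hI2 : el Y (ModuleCat.of R I) 2 = 0 := by
    unfold el
    have : Subsingleton (Ext.{u} (ModuleCat.of R I) Y 2) := by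
      suffices ∀ x : Ext.{u} (ModuleCat.of R I) Y 2, x = 0 from
        ⟨fun a b => by rw [this a, this b]⟩
      intro x
      obtain ⟨x₂, hx₂⟩ := Ext.contravariant_sequence_exact₁ hS Y x (rfl : 1 + 2 = 3)
        ((hgd _).elim _ _)
      rw [← hx₂, (hR 1).elim x₂ 0, Ext.comp_zero]
    rw [Module.length_eq_zero, ENat.toNat_zero]
  have hI1 : el Y (ModuleCat.of R I) 1 = el Y (ModuleCat.of R (R ⧸ I)) 2 := by
    unfold el
    have hbij : Function.Bijective (hS.extClass.precompOfLinear R Y (rfl : 1 + 1 = 2)) := by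
      constructor
      · rw [injective_iff_map_eq_zero]
        intro x hx
        obtain ⟨x₂, hx₂⟩ := Ext.contravariant_sequence_exact₁ hS Y x (rfl : 1 + 1 = 2) hx
        rw [← hx₂, (hR 0).elim x₂ 0, Ext.comp_zero]
      · intro x₃
        obtain ⟨x₁, hx₁⟩ := Ext.contravariant_sequence_exact₃ hS Y x₃
          ((hR 1).elim _ _) (rfl : 1 + 1 = 2)
        exact ⟨x₁, hx₁⟩
    rw [(LinearEquiv.ofBijective _ hbij).length_eq]
  have hfinH : Module.length R (I →ₗ[R] Y) ≠ ⊤ := by
    rw [← eI.length_eq]
    exact length_ext_ne_top Y hY (ModuleCat.of R I) 0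
  have hfinY : Module.length R Y ≠ ⊤ := Module.length_ne_top_iff.mpr hY
  have hfinE := length_ext_ne_top Y hY (ModuleCat.of R (R ⧸ I)) 2
  unfold chi at hadd
  rw [hR0, hR1, hR2, hI0, hI1, hI2] at hadd
  unfold el at hadd
  generalize Module.length R (I →ₗ[R] Y) = a at *
  generalize Module.length R Y = b at *
  generalize Module.length R (Ext.{u} (ModuleCat.of R (R ⧸ I)) Y 2) = c at *
  lift a to ℕ using hfinH
  lift b to ℕ using hfinY
  lift c to ℕ using hfinE
  simp only [ENat.toNat_coe] at hadd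
  norm_cast
  omega

end HomIdeal

end Groth.Agent.Lib.Helper29HomLen
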