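import Mathlib
import Groth.Agent.Lib.Helper29HomLen
import Groth.Agent.Lib.Helper29CanonIdeal
import Groth.Agent.Lib.Helper5GorArt
import Groth.Agent.Lib.Helper5GorDual
import Groth.Agent.S0342

/-! Length of `Hom(I, R/J)` over a two-dimensional regular local ring (helper29), part 2:
annihilator duality in Artinian Gorenstein local rings and the final count. -/

set_option autoImplicit false
set_option linter.style.haveILetI false
universe u
open CategoryTheory Abelian IsLocalRing
open scoped Pointwise

namespace Groth.Agent.Lib.Helper29HomLen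

section ArtGor

open Groth.Agent.Lib.Helper5.GorArt Groth.Agent.Lib.Helper29Murthy

variable (B : Type u) [CommRing B] [hG : LocCoh.IsGorensteinLocalRing B] [IsArtinianRing B]

/-- In an Artinian Gorenstein local ring, `length (0 : K) = length (B/K)`. -/
theorem length_colon_eq (K : Ideal B) :
    Module.length B ((⊥ : Ideal B).colon (K : Set B) : Ideal B) = Module.length B (B ⧸ K) := by
  have hT1 := T1_of_gor B
  have hinj : Module.Injective B B := injective_of_T1 hT1
  have h1 : Module.length B ((B ⧸ K) →ₗ[B] B) ≤ Module.length B (B ⧸ K) := length_hom_le' hT1 _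
  have h2 : Module.length B (K →ₗ[B] B) ≤ Module.length B K := length_hom_le' hT1 _
  have hex := exact_lcomp (R := B) (M := B) K
  have hinj' : Function.Injective (LinearMap.lcomp B B K.mkQ) := by
    intro f g hfg
    apply LinearMap.ext
    intro x
    obtain ⟨x, rfl⟩ := Submodule.Quotient.mk_surjective _ x
    exact LinearMap.congr_fun hfg x
  have hsurj' : Function.Surjective (LinearMap.lcomp B B K.subtype) := by
    intro f
    obtain ⟨g, hg⟩ := Module.Injective.out K.subtype (Submodule.subtype_injective K) f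
    exact ⟨g, LinearMap.ext hg⟩
  have h3 := Module.length_eq_add_of_exact _ _ hinj' hsurj' hex
  have h4 := Module.length_eq_add_of_exact K.subtype K.mkQ (Submodule.subtype_injective K)
    (Submodule.mkQ_surjective K) (LinearMap.exact_subtype_mkQ K)
  have h5 : Module.length B (B →ₗ[B] B) = Module.length B B :=
    (LinearMap.ringLmapEquivSelf B B B).length_eq
  rw [← (dualEquivAnn K).length_eq]
  have hB : Module.length B B ≠ ⊤ := Module.length_ne_top
  rw [h5] at h3
  have hK : Module.length B K ≠ ⊤ := fun ht => hB (by rw [h4, ht, top_add])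
  have hQ : Module.length B (B ⧸ K) ≠ ⊤ := fun ht => hB (by rw [h4, ht, add_top])
  generalize Module.length B B = b at *
  generalize Module.length B K = k at *
  generalize Module.length B (B ⧸ K) = q at *
  generalize Module.length B ((B ⧸ K) →ₗ[B] B) = d at *
  generalize Module.length B (K →ₗ[B] B) = e at *
  lift b to ℕ using hB
  lift k to ℕ using hK
  lift q to ℕ using hQ
  have hd : d ≠ ⊤ := ne_top_of_le_ne_top (ENat.natCast_ne_top q) h1
  have he : e ≠ ⊤ := ne_top_of_le_ne_top (ENat.natCast_ne_top k) h2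
  lift d to ℕ using hd
  lift e to ℕ using he
  norm_cast at *
  omega

/-- `length (B/K) + length (B/(0:K)) = length B`. -/
theorem length_quot_add_length_quot_colon (K : Ideal B) :
    Module.length B (B ⧸ K) +
      Module.length B (B ⧸ ((⊥ : Ideal B).colon (K : Set B) : Ideal B)) = Module.length B B := by
  rw [← length_colon_eq B K]
  exact (Module.length_eq_add_of_exact (Submodule.subtype _) (Submodule.mkQ _)
    (Submodule.subtype_injective _) (Submodule.mkQ_surjective _)
    (LinearMap.exact_subtype_mkQ _)).symm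

/-- The double annihilator of an ideal is the ideal. -/
theorem colon_colon_eq_self (K : Ideal B) :
    ((⊥ : Ideal B).colon (((⊥ : Ideal B).colon (K : Set B) : Ideal B) : Set B) : Ideal B) = K := by
  have hK0 : Ring.KrullDimLE 0 B := inferInstance
  have hdim : ringKrullDim B = 0 := ringKrullDimZero_iff_ringKrullDim_eq_zero.mp hK0
  apply le_antisymm
  · intro x hx
    apply Groth.Agent.Lib.Helper5.GorUnmixed.mem_of_forall_annihilator B hdim K x
    intro a ha
    rw [Submodule.mem_colon] at hx
    have h1 : a ∈ ((⊥ : Ideal B).colon (K : Set B) : Ideal B) := by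
      rw [Submodule.mem_colon]
      intro j hj
      rw [Submodule.mem_bot, smul_eq_mul]
      exact ha j hj
    have := hx a h1
    rw [Submodule.mem_bot, smul_eq_mul, mul_comm] at this
    exact this
  · intro x hx
    rw [Submodule.mem_colon]
    intro a ha
    rw [SetLike.mem_coe, Submodule.mem_colon] at ha
    have := ha x hx
    rw [Submodule.mem_bot, smul_eq_mul] at this ⊢
    rw [mul_comm]
    exact this

end ArtGor

section Transfer

open Groth.Agent.Lib.Helper29GorLinkSup

variable {R : Type u} [CommRing R] (c : Ideal R)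

theorem le_colon (K : Ideal R) : c ≤ c.colon (K : Set R) := by
  intro x hx
  rw [Submodule.mem_colon]
  intro k _
  rw [smul_eq_mul]
  exact c.mul_mem_right k hx

theorem map_colon (K : Ideal R) :
    ((⊥ : Ideal (R ⧸ c)).colon
      ((K.map (Ideal.Quotient.mk c) : Ideal (R ⧸ c)) : Set (R ⧸ c)) : Ideal (R ⧸ c)) =
      (c.colon (K : Set R)).map (Ideal.Quotient.mk c) := by
  ext b
  obtain ⟨x, rfl⟩ := Ideal.Quotient.mk_surjective b
  constructor
  · intro h
    rw [Submodule.mem_colon] at h
    apply Ideal.mem_map_of_mem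
    rw [Submodule.mem_colon]
    intro k hk
    have := h (Ideal.Quotient.mk c k) (Ideal.mem_map_of_mem _ hk)
    rw [Submodule.mem_bot, smul_eq_mul, ← map_mul, Ideal.Quotient.eq_zero_iff_mem] at this
    exact this
  · intro h
    obtain ⟨x', hx', hxx'⟩ :=
      (Ideal.mem_map_iff_of_surjective _ Ideal.Quotient.mk_surjective).mp h
    rw [← hxx', Submodule.mem_colon]
    intro k' hk'
    obtain ⟨k, hk, rfl⟩ :=
      (Ideal.mem_map_iff_of_surjective _ Ideal.Quotient.mk_surjective).mp hk'
    rw [Submodule.mem_bot, smul_eq_mul, ← map_mul, Ideal.Quotient.eq_zero_iff_mem]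
    rw [Submodule.mem_colon] at hx'
    exact hx' k hk

theorem length_quot_map (K : Ideal R) (hK : c ≤ K) :
    Module.length (R ⧸ c) ((R ⧸ c) ⧸ K.map (Ideal.Quotient.mk c)) = Module.length R (R ⧸ K) := by
  rw [← Module.length_eq_of_surjective (S := R) (R := R ⧸ c)
    (M := (R ⧸ c) ⧸ K.map (Ideal.Quotient.mk c)) Ideal.Quotient.mk_surjective]
  exact (quotQuotLinearEquiv c K hK).length_eq

variable [hG : LocCoh.IsGorensteinLocalRing (R ⧸ c)] [hA : IsArtinianRing (R ⧸ c)]

theorem length_quot_add (K : Ideal R) (hK : c ≤ K) :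
    Module.length R (R ⧸ K) + Module.length R (R ⧸ c.colon (K : Set R)) =
      Module.length R (R ⧸ c) := by
  have h := length_quot_add_length_quot_colon (R ⧸ c) (K.map (Ideal.Quotient.mk c))
  rw [map_colon c K, length_quot_map c K hK,
    length_quot_map c (c.colon (K : Set R)) (le_colon c K)] at h
  rw [h]
  exact (Module.length_eq_of_surjective (S := R) (R := R ⧸ c) (M := R ⧸ c)
    Ideal.Quotient.mk_surjective).symm

theorem colon_colon' (K : Ideal R) (hK : c ≤ K) :
    c.colon ((c.colon (K : Set R) : Ideal R) : Set R) = K := by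
  apply le_antisymm
  · intro x hx
    have h1 := colon_colon_eq_self (R ⧸ c) (K.map (Ideal.Quotient.mk c))
    rw [map_colon c K, map_colon c (c.colon (K : Set R))] at h1
    have h2 : Ideal.Quotient.mk c x ∈ K.map (Ideal.Quotient.mk c) := by
      rw [← h1]
      exact Ideal.mem_map_of_mem _ hx
    obtain ⟨k, hk, hkx⟩ :=
      (Ideal.mem_map_iff_of_surjective _ Ideal.Quotient.mk_surjective).mp h2
    have h3 : k - x ∈ c := Ideal.Quotient.eq.mp hkx
    have h4 : x = k - (k - x) := by ring
    rw [h4]
    exact K.sub_mem hk (hK h3)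
  · intro x hx
    rw [Submodule.mem_colon]
    intro a ha
    rw [SetLike.mem_coe, Submodule.mem_colon] at ha
    have := ha x hx
    rw [smul_eq_mul] at this ⊢
    rw [mul_comm]
    exact this

end Transfer

section Core

variable {R : Type u} [CommRing R] (c I J : Ideal R)
  [hG : LocCoh.IsGorensteinLocalRing (R ⧸ c)] [hA : IsArtinianRing (R ⧸ c)]

omit hG hA in
/-- `length (R/c) = length U + length (R / comap U)` for an `R`-submodule `U` of `R/c`. -/
theorem length_quot_eq_add (U : Submodule R (R ⧸ c)) :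
    Module.length R (R ⧸ c) =
      Module.length R U + Module.length R (R ⧸ (U.comap c.mkQ : Submodule R R)) := by
  have h1 := Module.length_eq_add_of_exact U.subtype U.mkQ (Submodule.subtype_injective U)
    (Submodule.mkQ_surjective U) (LinearMap.exact_subtype_mkQ U)
  have hle : c ≤ (U.comap c.mkQ : Submodule R R) := by
    intro x hx
    rw [Submodule.mem_comap, Submodule.mkQ_apply, (Submodule.Quotient.mk_eq_zero c).mpr hx]
    exact U.zero_mem
  have hmap : (U.comap c.mkQ : Submodule R R).map c.mkQ = U :=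
    Submodule.map_comap_eq_of_surjective (Submodule.mkQ_surjective c) U
  have e : ((R ⧸ c) ⧸ U) ≃ₗ[R] (R ⧸ (U.comap c.mkQ : Submodule R R)) :=
    (Submodule.quotEquivOfEq _ _ hmap.symm).trans
      (Submodule.quotientQuotientEquivQuotient c (U.comap c.mkQ) hle)
  rw [h1, e.length_eq]

/-- Key count: if `W ≅ (0 :_{R/c} I)` then
`length (R/I) = length (R/(I:J)) + length (W/JW)`. -/
theorem length_quot_smul_top (hcI : c ≤ I) (W : Type u) [AddCommGroup W] [Module R W]
    (φ : W ≃ₗ[R] ((⊥ : Ideal (R ⧸ c)).colon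
      ((I.map (Ideal.Quotient.mk c) : Ideal (R ⧸ c)) : Set (R ⧸ c)) : Ideal (R ⧸ c))) :
    Module.length R (R ⧸ I) =
      Module.length R (R ⧸ I.colon (J : Set R)) +
        Module.length R (W ⧸ (J • ⊤ : Submodule R W)) := by
  set V : Ideal (R ⧸ c) := (⊥ : Ideal (R ⧸ c)).colon
      ((I.map (Ideal.Quotient.mk c) : Ideal (R ⧸ c)) : Set (R ⧸ c)) with hV
  let ψ : W →ₗ[R] (R ⧸ c) := ((Submodule.subtype V).restrictScalars R) ∘ₗ φ.toLinearMap
  have hψ : Function.Injective ψ := (Submodule.subtype_injective V).comp φ.injective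
  have hψV : ∀ w, ψ w ∈ V := fun w => (φ w).2
  have hVψ : ∀ v ∈ V, ∃ w, ψ w = v := fun v hv => ⟨φ.symm ⟨v, hv⟩, by
    change ((φ (φ.symm ⟨v, hv⟩) : V) : R ⧸ c) = v
    rw [LinearEquiv.apply_symm_apply]⟩
  have hmemV : ∀ x : R, Ideal.Quotient.mk c x ∈ V ↔ x ∈ c.colon (I : Set R) := by
    intro x
    rw [hV, map_colon c I]
    constructor
    · intro h
      obtain ⟨x', hx', hxx'⟩ :=
        (Ideal.mem_map_iff_of_surjective _ Ideal.Quotient.mk_surjective).mp h
      have h3 : x' - x ∈ c := Ideal.Quotient.eq.mp hxx'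
      have h4 : x = x' - (x' - x) := by ring
      rw [h4]
      exact Ideal.sub_mem _ hx' (le_colon c I h3)
    · intro h
      exact Ideal.mem_map_of_mem _ h
  set U₁ : Submodule R (R ⧸ c) := LinearMap.range ψ with hU₁
  set U₂ : Submodule R (R ⧸ c) := (J • ⊤ : Submodule R W).map ψ with hU₂
  have hU₂' : U₂ = J • U₁ := by
    rw [hU₂, Submodule.map_smul'', Submodule.map_top]
  have hT₁ : (U₁.comap c.mkQ : Submodule R R) = c.colon (I : Set R) := by
    ext x
    rw [Submodule.mem_comap, ← hmemV x]
    constructor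
    · rintro ⟨w, hw⟩
      rw [Submodule.mkQ_apply] at hw
      change Ideal.Quotient.mk c x ∈ V
      have : Ideal.Quotient.mk c x = ψ w := hw.symm
      rw [this]
      exact hψV w
    · intro h
      obtain ⟨w, hw⟩ := hVψ _ h
      exact ⟨w, hw⟩
  have hcT₂ : c ≤ (U₂.comap c.mkQ : Submodule R R) := by
    intro x hx
    rw [Submodule.mem_comap, Submodule.mkQ_apply, (Submodule.Quotient.mk_eq_zero c).mpr hx]
    exact U₂.zero_mem
  have hT₂ : c.colon (((U₂.comap c.mkQ : Submodule R R) : Ideal R) : Set R) =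
      I.colon (J : Set R) := by
    ext x
    constructor
    · intro hx
      rw [Submodule.mem_colon] at hx ⊢
      intro j hj
      rw [← colon_colon' c I hcI, smul_eq_mul, Submodule.mem_colon]
      intro l hl
      have hjl : j * l ∈ (U₂.comap c.mkQ : Submodule R R) := by
        rw [Submodule.mem_comap, hU₂']
        have : c.mkQ (j * l) = j • c.mkQ l := by
          rw [← smul_eq_mul, map_smul]
        rw [this]
        refine Submodule.smul_mem_smul hj ?_
        have hl' : l ∈ (U₁.comap c.mkQ : Submodule R R) := by rw [hT₁]; exact hl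
        exact hl'
      have := hx (j * l) hjl
      rw [smul_eq_mul] at this ⊢
      rw [mul_assoc]
      exact this
    · intro hx
      rw [Submodule.mem_colon] at hx ⊢
      intro t ht
      have ht' : c.mkQ t ∈ J • U₁ := by rw [← hU₂']; exact ht
      have key : ∀ u ∈ J • U₁, x • u = 0 := by
        intro u hu
        refine Submodule.smul_induction_on hu ?_ ?_
        · rintro j hj _ ⟨w, rfl⟩
          have hxj : x * j ∈ I := by
            have := hx j hj
            rwa [smul_eq_mul] at this
          have hv := hψV w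
          rw [hV, Submodule.mem_colon] at hv
          have := hv (Ideal.Quotient.mk c (x * j)) (Ideal.mem_map_of_mem _ hxj)
          rw [Submodule.mem_bot, smul_eq_mul, mul_comm] at this
          rw [smul_smul]
          change (Ideal.Quotient.mk c (x * j)) * ψ w = 0
          exact this
        · intro u v hu hv
          rw [smul_add, hu, hv, add_zero]
      have h1 := key _ ht'
      rw [← map_smul, Submodule.mkQ_apply, Submodule.Quotient.mk_eq_zero] at h1
      exact h1
  -- lengths
  have hb : Module.length R (R ⧸ c) ≠ ⊤ := by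
    rw [Module.length_eq_of_surjective (S := R) (R := R ⧸ c) (M := R ⧸ c)
      Ideal.Quotient.mk_surjective]
    exact Module.length_ne_top
  have E2 := length_quot_eq_add c U₁
  have E3 := length_quot_eq_add c U₂
  rw [hT₁] at E2
  have F1 := length_quot_add c I hcI
  have F2 := length_quot_add c _ hcT₂
  rw [hT₂] at F2
  have D1 : Module.length R W = Module.length R U₁ := (LinearEquiv.ofInjective ψ hψ).length_eq
  have D2 : Module.length R (J • ⊤ : Submodule R W) = Module.length R U₂ :=
    (Submodule.equivMapOfInjective ψ hψ _).length_eq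
  have E1 := Module.length_eq_add_of_exact (J • ⊤ : Submodule R W).subtype
    (J • ⊤ : Submodule R W).mkQ (Submodule.subtype_injective _) (Submodule.mkQ_surjective _)
    (LinearMap.exact_subtype_mkQ _)
  rw [D1, D2] at E1
  generalize Module.length R (R ⧸ c) = b at *
  generalize Module.length R U₁ = u₁ at *
  generalize Module.length R U₂ = u₂ at *
  generalize Module.length R (R ⧸ I) = a at *
  generalize Module.length R (R ⧸ c.colon (I : Set R)) = l at *
  generalize Module.length R (R ⧸ I.colon (J : Set R)) = q at *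
  generalize Module.length R (R ⧸ (U₂.comap c.mkQ : Submodule R R)) = t at *
  generalize Module.length R (W ⧸ (J • ⊤ : Submodule R W)) = w at *
  lift b to ℕ using hb
  have h1 : u₁ ≠ ⊤ := fun h => by rw [h, top_add] at E2; exact ENat.coe_ne_top b E2
  have h2 : l ≠ ⊤ := fun h => by rw [h, add_top] at E2; exact ENat.coe_ne_top b E2
  have h3 : u₂ ≠ ⊤ := fun h => by rw [h, top_add] at E3; exact ENat.coe_ne_top b E3
  have h4 : t ≠ ⊤ := fun h => by rw [h, add_top] at E3; exact ENat.coe_ne_top b E3
  have h5 : a ≠ ⊤ := fun h => by rw [h, top_add] at F1; exact ENat.coe_ne_top b F1.symm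
  have h6 : q ≠ ⊤ := fun h => by rw [h, add_top] at F2; exact ENat.coe_ne_top b F2.symm
  have h7 : w ≠ ⊤ := fun h => by rw [h, add_top] at E1; exact h1 E1
  lift u₁ to ℕ using h1
  lift l to ℕ using h2
  lift u₂ to ℕ using h3
  lift t to ℕ using h4
  lift a to ℕ using h5
  lift q to ℕ using h6
  lift w to ℕ using h7
  norm_cast at *
  omega

end Core

section Main

open Groth.Agent.Lib.Helper28 Groth.Agent.Lib.Helper29MCMDual Groth.Agent.Lib.Helper29GorLink
  Groth.Agent.Lib.Helper29GorLinkSup Groth.Agent.Lib.Helper29CanonIdeal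

/-- Over a regular local ring of dimension two, for ideals `I`, `J` of finite colength,
`length Hom(I, R/J) + length R/(I:J) = length R/J + length R/I`. -/
theorem length_hom_add (R : Type u) [CommRing R] [IsRegularLocalRing R]
    (hdim : ringKrullDim R = 2) (I J : Ideal R)
    (hI : Module.length R (R ⧸ I) < ⊤) (hJ : Module.length R (R ⧸ J) < ⊤) :
    Module.length R (↥I →ₗ[R] (R ⧸ J)) + Module.length R (R ⧸ I.colon (J : Set R)) =
      Module.length R (R ⧸ J) + Module.length R (R ⧸ I) := by
  haveI hN : IsNoetherianRing R := inferInstance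
  haveI hL : IsLocalRing R := inferInstance
  by_cases hItop : I = ⊤
  · subst hItop
    have e : ((⊤ : Ideal R) →ₗ[R] (R ⧸ J)) ≃ₗ[R] (R ⧸ J) :=
      (LinearEquiv.congrLeft (R ⧸ J) R (Submodule.topEquiv (R := R) (M := R))).trans
        (LinearMap.ringLmapEquivSelf R R (R ⧸ J))
    have hcol : (⊤ : Ideal R).colon (J : Set R) = ⊤ := by
      rw [Ideal.eq_top_iff_one, Submodule.mem_colon]
      intro _ _
      trivial
    rw [e.length_eq, hcol]
  have hdim2 : ringKrullDim R = ((2 : ℕ) : WithBot ℕ∞) := by rw [hdim]; rfl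
  have hY : IsFiniteLength R (ModuleCat.of R (R ⧸ J)) :=
    Module.length_ne_top_iff.mp (ne_top_of_lt hJ)
  have hIfl : IsFiniteLength R (R ⧸ I) := Module.length_ne_top_iff.mp (ne_top_of_lt hI)
  have hgd : ∀ X Z : ModuleCat.{u} R, Subsingleton (Ext.{u} X Z 3) := by
    intro X Z
    haveI : HasProjectiveDimensionLT X 3 := Groth.Agent.S0563.result R 2 hdim2 X
    exact HasProjectiveDimensionLT.subsingleton X 3 3 le_rfl Z
  obtain ⟨rs, hlen, hrs, hreg⟩ := Groth.Agent.Lib.Helper5.exists_isRegular_ofList_eq_maximalIdeal R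
  have hl2 : rs.length = 2 := by
    rw [hdim2] at hlen
    exact_mod_cast hlen.symm
  obtain ⟨x, y, rfl⟩ := List.length_eq_two.mp hl2
  have hk := chi_residue (ModuleCat.of R (R ⧸ J)) hY (fun X => hgd X _) x y hrs
    hreg.toIsWeaklyRegular
  have hHom : Module.length R (↥I →ₗ[R] (R ⧸ J)) = Module.length R (R ⧸ J) +
      Module.length R (Ext.{u} (ModuleCat.of R (R ⧸ I)) (ModuleCat.of R (R ⧸ J)) 2) :=
    length_hom_ideal (ModuleCat.of R (R ⧸ J)) hY (fun X => hgd X _) hk I hIfl
  have hE2 := length_ext_two_quot (ModuleCat.of R (R ⧸ I)) (fun Z => hgd _ Z) J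
  -- a regular sequence of length two in `I`
  haveI hG : LocCoh.IsGorensteinLocalRing R := Groth.Agent.S0342.result R
  haveI hCM : LocCoh.IsCohenMacaulayLocalRing R := isCohenMacaulayLocalRing R 2 hdim2
  have hIM : I • (⊤ : Submodule R R) ≠ ⊤ := by
    rw [smul_eq_mul, Ideal.mul_top]
    exact hItop
  have h1 := supportDim_eq_add_idealDepth_of_isCohenMacaulayModule (M := R) I hItop
    hCM.supportDim_eq_depth
  have e0 : (R ⧸ (I • ⊤ : Submodule R R)) ≃ₗ[R] (R ⧸ I) :=
    Submodule.quotEquivOfEq _ _ (by rw [smul_eq_mul, Ideal.mul_top])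
  have hdimA : ringKrullDim (R ⧸ I) = ((0 : ℕ) : WithBot ℕ∞) := by
    haveI : Nontrivial (R ⧸ I) := Ideal.Quotient.nontrivial_iff.mpr hItop
    haveI : IsArtinian R (R ⧸ I) := (isFiniteLength_iff_isNoetherian_isArtinian.mp hIfl).2
    haveI : IsArtinianRing (R ⧸ I) := isArtinian_of_tower R inferInstance
    have hK0 : Ring.KrullDimLE 0 (R ⧸ I) := inferInstance
    rw [Nat.cast_zero]
    exact ringKrullDimZero_iff_ringKrullDim_eq_zero.mp hK0
  obtain ⟨n, hn2, hn⟩ : ∃ n : ℕ, n = 2 ∧ ringKrullDim R = (n : WithBot ℕ∞) := ⟨2, rfl, hdim2⟩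
  obtain ⟨z, hz0, hdimA'⟩ : ∃ z : ℕ, z = 0 ∧ ringKrullDim (R ⧸ I) = (z : WithBot ℕ∞) :=
    ⟨0, rfl, hdimA⟩
  rw [Module.supportDim_self_eq_ringKrullDim, hn, Module.supportDim_eq_of_equiv e0,
    Module.supportDim_quotient_eq_ringKrullDim, hdimA'] at h1
  obtain ⟨d, hd⟩ := ENat.ne_top_iff_exists.mp (idealDepth_ne_top hIM)
  rw [← hd] at h1
  have hd2 : n = z + d := by exact_mod_cast h1
  obtain ⟨rs', hlen', hmem', hreg'⟩ := (natCast_le_idealDepth_iff hIM 2).mp (by
    rw [← hd]
    exact_mod_cast (by omega : 2 ≤ d))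
  obtain ⟨a, b, rfl⟩ := List.length_eq_two.mp hlen'
  have hcI : Ideal.ofList [a, b] ≤ I := ofList_le_of_forall_mem hmem'
  have hmem'' : ∀ z ∈ [a, b], z ∈ maximalIdeal R := fun z hz =>
    IsLocalRing.le_maximalIdeal hItop (hmem' z hz)
  haveI hGc : LocCoh.IsGorensteinLocalRing (R ⧸ Ideal.ofList [a, b]) :=
    gorLocal_quotient_ofList 2 R [a, b] rfl hmem'' hreg'.toIsWeaklyRegular
  have h3 := Module.supportDim_add_length_eq_supportDim_of_isRegular [a, b] hreg'
  have e1 : (R ⧸ (Ideal.ofList [a, b] • ⊤ : Submodule R R)) ≃ₗ[R] (R ⧸ Ideal.ofList [a, b]) :=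
    Submodule.quotEquivOfEq _ _ (by rw [smul_eq_mul, Ideal.mul_top])
  rw [Module.supportDim_eq_of_equiv e1, Module.supportDim_quotient_eq_ringKrullDim,
    Module.supportDim_self_eq_ringKrullDim, hn] at h3
  obtain ⟨m', hm'⟩ := Groth.Agent.Lib.Helper5.exists_nat_ringKrullDim_eq (R ⧸ Ideal.ofList [a, b])
  rw [hm'] at h3
  have hm'0 : m' + [a, b].length = n := by exact_mod_cast h3
  rw [List.length_cons, List.length_cons, List.length_nil] at hm'0
  haveI hAc : IsArtinianRing (R ⧸ Ideal.ofList [a, b]) := by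
    have hK : Ring.KrullDimLE 0 (R ⧸ Ideal.ofList [a, b]) := by
      rw [Ring.krullDimLE_iff, hm']
      have : m' = 0 := by omega
      rw [this]
    exact isArtinianRing_iff_krullDimLE_zero.mpr hK
  -- Rees
  have hann : ∀ r ∈ [a, b], r ∈ Module.annihilator R (ModuleCat.of R (R ⧸ I)) := by
    intro r hr
    change r ∈ Module.annihilator R (R ⧸ I)
    rw [Ideal.annihilator_quotient]
    exact hmem' r hr
  obtain ⟨-, ⟨eR⟩⟩ := Groth.Agent.Lib.Helper8.Rees.rees (ModuleCat.of R (R ⧸ I)) [a, b]
    (ModuleCat.of R R) hann hreg'.toIsWeaklyRegular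
  have φ : Ext.{u} (ModuleCat.of R (R ⧸ I)) (ModuleCat.of R R) 2 ≃ₗ[R]
      ((⊥ : Ideal (R ⧸ Ideal.ofList [a, b])).colon
        ((I.map (Ideal.Quotient.mk (Ideal.ofList [a, b])) : Ideal (R ⧸ Ideal.ofList [a, b])) :
          Set (R ⧸ Ideal.ofList [a, b])) : Ideal (R ⧸ Ideal.ofList [a, b])) :=
    eR.trans ((LinearEquiv.congrRight e1).trans (homEquivAnn I (Ideal.ofList [a, b])))
  have key := length_quot_smul_top (Ideal.ofList [a, b]) I J hcI _ φ
  rw [hHom, hE2, key, add_assoc, add_comm (Module.length R (R ⧸ I.colon (J : Set R)))]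

end Main

end Groth.Agent.Lib.Helper29HomLen
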