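import Mathlib

/-!
# Continuous (locally constant) 1-cocycles on an infinite Galois group

For a Galois extension `L/K` (possibly infinite) with Krull topology on `Gal(L/K)`, every locally
constant multiplicative 1-cocycle with values in `Lˣ` and every locally constant additive
1-cocycle with values in `L` is a coboundary.
-/

set_option autoImplicit false

namespace Groth.Agent.Lib.Helper29KrullCocycle

open IntermediateField

variable {K L : Type*} [Field K] [Field L] [Algebra K L]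

/-- A locally constant function on the Galois group such that `a (σ τ) = a σ` whenever
`a τ = a 1` is right-invariant under the fixing subgroup of a finite normal subextension. -/
theorem exists_normal_invariant [Normal K L] {Y : Type*} (a : (L ≃ₐ[K] L) → Y)
    (hlc : IsLocallyConstant a)
    (hP : ∀ σ τ : L ≃ₐ[K] L, a τ = a 1 → a (σ * τ) = a σ) :
    ∃ E : IntermediateField K L, FiniteDimensional K E ∧ Normal K E ∧
      ∀ σ : L ≃ₐ[K] L, ∀ τ ∈ E.fixingSubgroup, a (σ * τ) = a σ := by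
  have hopen : IsOpen {τ | a τ = a 1} := hlc.isOpen_fiber (a 1)
  have hmem : {τ | a τ = a 1} ∈ nhds (1 : L ≃ₐ[K] L) := hopen.mem_nhds rfl
  obtain ⟨E, hfd, hn, hE⟩ := (krullTopology_mem_nhds_one_iff_of_normal K L _).1 hmem
  exact ⟨E, hfd, hn, fun σ τ hτ => hP σ τ (hE hτ)⟩

section lift

variable [Normal K L] (E : IntermediateField K L) [Normal K E]

/-- A set-theoretic section of the restriction map `Gal(L/K) → Gal(E/K)`. -/
noncomputable def lift (g : E ≃ₐ[K] E) : L ≃ₐ[K] L :=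
  Function.surjInv (AlgEquiv.restrictNormalHom_surjective (F := K) (K₁ := E) L) g

lemma res_lift (g : E ≃ₐ[K] E) : AlgEquiv.restrictNormalHom E (lift E g) = g :=
  Function.surjInv_eq _ g

lemma lift_apply (g : E ≃ₐ[K] E) (x : E) : lift E g (x : L) = (g x : L) := by
  have h := AlgEquiv.restrictNormal_commutes (lift E g) E x
  have h2 : (lift E g).restrictNormal E = g := res_lift E g
  rw [h2] at h
  exact h.symm

lemma sum_reindex [FiniteDimensional K E] {M : Type*} [AddCommMonoid M]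
    (F : (L ≃ₐ[K] L) → M)
    (hF : ∀ ρ : L ≃ₐ[K] L, ∀ τ ∈ E.fixingSubgroup, F (ρ * τ) = F ρ) (σ : L ≃ₐ[K] L) :
    ∑ g : E ≃ₐ[K] E, F (σ * lift E g) = ∑ g : E ≃ₐ[K] E, F (lift E g) := by
  have key : ∀ g : E ≃ₐ[K] E,
      F (σ * lift E g) = F (lift E (AlgEquiv.restrictNormalHom E σ * g)) := by
    intro g
    set ρ := lift E (AlgEquiv.restrictNormalHom E σ * g) with hρ
    have hmem : ρ⁻¹ * (σ * lift E g) ∈ E.fixingSubgroup := by
      rw [← E.restrictNormalHom_ker, MonoidHom.mem_ker, map_mul, map_inv, map_mul, res_lift,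
        res_lift]
      group
    have h := hF ρ _ hmem
    rw [← h]
    congr 1
    group
  simp_rw [key]
  exact Fintype.sum_equiv (Equiv.mulLeft (AlgEquiv.restrictNormalHom E σ)) _ _ (fun g => rfl)

end lift

/-- **Hilbert 90 for the Krull topology** (multiplicative form). -/
theorem exists_eq_inv_mul_smul [IsGalois K L] (a : (L ≃ₐ[K] L) → Lˣ)
    (ha : ∀ σ τ : L ≃ₐ[K] L, a (σ * τ) = a σ * σ • a τ) (hlc : IsLocallyConstant a) :
    ∃ c : Lˣ, ∀ σ : L ≃ₐ[K] L, a σ = c⁻¹ * σ • c := by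
  have ha1 : a 1 = 1 := by
    have h := ha 1 1
    rw [one_mul, one_smul] at h
    exact (mul_eq_left.mp h.symm)
  have hP : ∀ σ τ : L ≃ₐ[K] L, a τ = a 1 → a (σ * τ) = a σ := by
    intro σ τ hτ
    rw [ha, hτ, ha1, smul_one, mul_one]
  obtain ⟨E, hfd, hn, hE⟩ := exists_normal_invariant a hlc hP
  have hsm : ∀ (σ : L ≃ₐ[K] L) (u : Lˣ), ((σ • u : Lˣ) : L) = σ (u : L) := fun _ _ => rfl
  -- Dedekind independence
  let χ : (E ≃ₐ[K] E) → (E →* L) := fun g =>
    ((algebraMap E L : E →* L)).comp (g : E →* E)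
  have hχinj : Function.Injective χ := by
    intro g h hgh
    ext x
    have := DFunLike.congr_fun hgh x
    simpa [χ] using this
  have hli : LinearIndependent L (fun g : E ≃ₐ[K] E => (χ g : E → L)) :=
    (linearIndependent_monoidHom E L).comp χ hχinj
  have hne : ∃ θ : E, (∑ g : E ≃ₐ[K] E, (a (lift E g) : L) * lift E g (θ : L)) ≠ 0 := by
    by_contra hcon
    push Not at hcon
    have hzero : ∑ g : E ≃ₐ[K] E, (a (lift E g) : L) • (χ g : E → L) = 0 := by
      funext θ
      rw [Finset.sum_apply, Pi.zero_apply, ← hcon θ]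
      refine Finset.sum_congr rfl fun g _ => ?_
      simp only [Pi.smul_apply, smul_eq_mul]
      rw [lift_apply]
      rfl
    have := (Fintype.linearIndependent_iff.1 hli) _ hzero 1
    exact (a (lift E 1)).ne_zero this
  obtain ⟨θ, hθ⟩ := hne
  set c : L := ∑ g : E ≃ₐ[K] E, (a (lift E g) : L) * lift E g (θ : L) with hc
  have hσc : ∀ σ : L ≃ₐ[K] L, (a σ : L) * σ c = c := by
    intro σ
    rw [hc, map_sum, Finset.mul_sum]
    have h1 : ∀ g : E ≃ₐ[K] E,
        (a σ : L) * σ ((a (lift E g) : L) * lift E g (θ : L)) =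
          (fun ρ : L ≃ₐ[K] L => (a ρ : L) * ρ (θ : L)) (σ * lift E g) := by
      intro g
      simp only [map_mul, ha, Units.val_mul, hsm, AlgEquiv.mul_apply]
      ring
    simp_rw [h1]
    refine sum_reindex E (fun ρ : L ≃ₐ[K] L => (a ρ : L) * ρ (θ : L)) ?_ σ
    intro ρ τ hτ
    simp only [hE ρ τ hτ, AlgEquiv.mul_apply]
    rw [(mem_fixingSubgroup_iff _ _).1 hτ _ θ.2]
  refine ⟨(Units.mk0 c hθ)⁻¹, fun σ => ?_⟩
  ext
  have h := hσc σ
  have hσc0 : σ c ≠ 0 := by
    intro h0
    rw [h0, mul_zero] at h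
    exact hθ h.symm
  simp only [inv_inv, Units.val_mul, Units.val_mk0, hsm, Units.val_inv_eq_inv_val, map_inv₀]
  field_simp
  exact h

/-- **Additive Hilbert 90 for the Krull topology**. -/
theorem exists_eq_sub [IsGalois K L] (a : (L ≃ₐ[K] L) → L)
    (ha : ∀ σ τ : L ≃ₐ[K] L, a (σ * τ) = a σ + σ (a τ)) (hlc : IsLocallyConstant a) :
    ∃ y : L, ∀ σ : L ≃ₐ[K] L, a σ = σ y - y := by
  have ha1 : a 1 = 0 := by
    have h := ha 1 1
    rw [one_mul, AlgEquiv.one_apply] at h
    exact (add_eq_left.mp h.symm)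
  have hP : ∀ σ τ : L ≃ₐ[K] L, a τ = a 1 → a (σ * τ) = a σ := by
    intro σ τ hτ
    rw [ha, hτ, ha1, map_zero, add_zero]
  obtain ⟨E, hfd, hn, hE⟩ := exists_normal_invariant a hlc hP
  haveI : Algebra.IsSeparable K E := Algebra.isSeparable_tower_bot_of_isSeparable K E L
  haveI : IsGalois K E := ⟨⟩
  obtain ⟨θ, hθ⟩ := Algebra.trace_surjective K E 1
  have htr : ∑ g : E ≃ₐ[K] E, lift E g (θ : L) = 1 := by
    have h := trace_eq_sum_automorphisms (K := K) (L := E) θ
    rw [hθ, map_one] at h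
    have h2 := congrArg (algebraMap E L) h
    rw [map_one, map_sum] at h2
    rw [h2]
    refine Finset.sum_congr rfl fun g _ => ?_
    rw [lift_apply]
    rfl
  set b : L := ∑ g : E ≃ₐ[K] E, a (lift E g) * lift E g (θ : L) with hb
  have hσb : ∀ σ : L ≃ₐ[K] L, σ b = b - a σ := by
    intro σ
    rw [hb, map_sum]
    have h1 : ∀ g : E ≃ₐ[K] E,
        σ (a (lift E g) * lift E g (θ : L)) =
          (fun ρ : L ≃ₐ[K] L => a ρ * ρ (θ : L)) (σ * lift E g)
            - a σ * (fun ρ : L ≃ₐ[K] L => ρ (θ : L)) (σ * lift E g) := by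
      intro g
      simp only [map_mul, ha, AlgEquiv.mul_apply]
      ring
    simp_rw [h1]
    rw [Finset.sum_sub_distrib, ← Finset.mul_sum]
    rw [sum_reindex E (fun ρ : L ≃ₐ[K] L => a ρ * ρ (θ : L)) ?_ σ,
      sum_reindex E (fun ρ : L ≃ₐ[K] L => ρ (θ : L)) ?_ σ, htr, mul_one]
    · intro ρ τ hτ
      simp only [AlgEquiv.mul_apply]
      rw [(mem_fixingSubgroup_iff _ _).1 hτ _ θ.2]
    · intro ρ τ hτ
      simp only [hE ρ τ hτ, AlgEquiv.mul_apply]
      rw [(mem_fixingSubgroup_iff _ _).1 hτ _ θ.2]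
  refine ⟨-b, fun σ => ?_⟩
  rw [map_neg, hσb]
  ring

end Groth.Agent.Lib.Helper29KrullCocycle
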