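import Mathlib
import Groth.Agent.Lib.Helper14KummerTame

/-!
# The totally ramified extension `R[π^{1/e}]` of a discrete valuation ring, packaged (helper29)

`exists_kummer_dvr`: for a DVR `R` with fraction field `K`, a uniformizer `π` and `e ≥ 1`, there is
a DVR `R'` dominating `R`, with fraction field `K'` finite over `K`, and a uniformizer `x` of `R'`
with `x ^ e = π` (namely `R' = R[X]/(X^e - π)`).
-/

set_option autoImplicit false
set_option linter.unusedSectionVars false
set_option linter.unusedVariables false
set_option linter.style.haveILetI false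
universe v

namespace Groth.Agent.Lib.Helper29.KummerDVR

open Polynomial IsLocalRing nonZeroDivisors
open Groth.Agent.Lib.Helper14TameKummer Groth.Agent.Lib.Helper14KummerTame

theorem exists_kummer_dvr (R : Type v) [CommRing R] [IsDomain R] [IsDiscreteValuationRing R]
    (K : Type v) [Field K] [Algebra R K] [IsFractionRing R K] (π : R) (hπ : Irreducible π)
    (e : ℕ) (he : 0 < e) :
    ∃ (R' : Type v) (_ : CommRing R') (_ : IsDomain R') (_ : IsDiscreteValuationRing R')
      (K' : Type v) (_ : Field K') (_ : Algebra R' K') (_ : IsFractionRing R' K')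
      (_ : Algebra R R') (_ : Algebra K K') (_ : Algebra R K')
      (_ : IsScalarTower R R' K') (_ : IsScalarTower R K K')
      (_ : Module.Finite K K') (_ : IsLocalHom (algebraMap R R'))
      (x : R'), x ^ e = algebraMap R R' π ∧ Irreducible x := by
  haveI hdom : IsDomain (AdjoinRoot (X ^ e - C π : R[X])) := ar_isDomain π hπ e he
  haveI hdvr : IsDiscreteValuationRing (AdjoinRoot (X ^ e - C π : R[X])) := ar_isDVR π hπ e he
  have hmaxR : maximalIdeal R = Ideal.span {π} :=
    (IsDiscreteValuationRing.irreducible_iff_uniformizer π).mp hπ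
  have hπm : π ∈ maximalIdeal R := by rw [hmaxR]; exact Ideal.mem_span_singleton_self π
  have hinj : Function.Injective (algebraMap R (AdjoinRoot (X ^ e - C π : R[X]))) :=
    AdjoinRoot.of.injective_of_degree_ne_zero (by
      rw [degree_X_pow_sub_C he]
      exact_mod_cast he.ne')
  have hinjK : Function.Injective
      (algebraMap R (FractionRing (AdjoinRoot (X ^ e - C π : R[X])))) := by
    rw [IsScalarTower.algebraMap_eq R (AdjoinRoot (X ^ e - C π : R[X]))
      (FractionRing (AdjoinRoot (X ^ e - C π : R[X])))]
    exact (IsFractionRing.injective (AdjoinRoot (X ^ e - C π : R[X]))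
      (FractionRing (AdjoinRoot (X ^ e - C π : R[X])))).comp hinj
  letI algKK' : Algebra K (FractionRing (AdjoinRoot (X ^ e - C π : R[X]))) :=
    (IsFractionRing.lift hinjK).toAlgebra
  haveI tower : IsScalarTower R K (FractionRing (AdjoinRoot (X ^ e - C π : R[X]))) :=
    IsScalarTower.of_algebraMap_eq fun r => (IsFractionRing.lift_algebraMap hinjK r).symm
  haveI hfinR : Module.Finite R (AdjoinRoot (X ^ e - C π : R[X])) :=
    (ar_monic π e he).finite_adjoinRoot
  haveI : FaithfulSMul R (AdjoinRoot (X ^ e - C π : R[X])) :=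
    (faithfulSMul_iff_algebraMap_injective R _).mpr hinj
  haveI : Algebra.IsAlgebraic R (AdjoinRoot (X ^ e - C π : R[X])) := inferInstance
  haveI : IsLocalization (Algebra.algebraMapSubmonoid (AdjoinRoot (X ^ e - C π : R[X])) R⁰)
      (FractionRing (AdjoinRoot (X ^ e - C π : R[X]))) := inferInstance
  haveI hfin : Module.Finite K (FractionRing (AdjoinRoot (X ^ e - C π : R[X]))) :=
    Module.Finite.of_isLocalization R (AdjoinRoot (X ^ e - C π : R[X])) R⁰
  have hloc : IsLocalHom (algebraMap R (AdjoinRoot (X ^ e - C π : R[X]))) := by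
    refine ⟨fun a ha => ?_⟩
    by_contra hna
    have ham : a ∈ maximalIdeal R := hna
    rw [hmaxR, Ideal.mem_span_singleton] at ham
    obtain ⟨c, rfl⟩ := ham
    rw [map_mul] at ha
    have h1 : IsUnit (algebraMap R (AdjoinRoot (X ^ e - C π : R[X])) π) :=
      isUnit_of_mul_isUnit_left ha
    have h2 : algebraMap R (AdjoinRoot (X ^ e - C π : R[X])) π =
        AdjoinRoot.root (X ^ e - C π : R[X]) ^ e := (ar_root_pow π e).symm
    rw [h2, isUnit_pow_iff he.ne'] at h1
    exact ar_root_not_isUnit π e he hπm h1
  refine ⟨AdjoinRoot (X ^ e - C π : R[X]), inferInstance, hdom, hdvr,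
    FractionRing (AdjoinRoot (X ^ e - C π : R[X])), inferInstance, inferInstance, inferInstance,
    inferInstance, algKK', inferInstance, inferInstance, tower, hfin, hloc,
    AdjoinRoot.root (X ^ e - C π : R[X]), ar_root_pow π e, ?_⟩
  rw [IsDiscreteValuationRing.irreducible_iff_uniformizer]
  exact ar_maximalIdeal π e he hmaxR

end Groth.Agent.Lib.Helper29.KummerDVR
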