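import Groth.Agent.Lib.Helper8LC2

/-! Local cohomology vanishing below `n` versus `Ext` vanishing (helper29). -/

set_option autoImplicit false
set_option linter.unusedSectionVars false
universe u
open CategoryTheory CategoryTheory.Limits CategoryTheory.Abelian
open scoped TensorProduct

namespace Groth.Agent.Lib.Helper29LCExt
section
open Groth.Agent.Lib.Helper8.LC

variable {R : Type u} [CommRing R] [IsNoetherianRing R] (I : Ideal R)

/-- A module with no `I`-power torsion embeds in an injective module with no `I`-power torsion. -/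
theorem exists_torsionFree_injective (G : Type u) [AddCommGroup G] [Module R G]
    (hG : DRing.torsionSub I G = ⊥) :
    ∃ (E : Type u) (_ : AddCommGroup E) (_ : Module R E) (f : G →ₗ[R] E),
      Module.Injective R E ∧ DRing.torsionSub I E = ⊥ ∧ Function.Injective f := by
  let Ec : ModuleCat.{u} R := Injective.under (ModuleCat.of R G)
  let ι : ModuleCat.of R G ⟶ Ec := Injective.ι (ModuleCat.of R G)
  have hι : Function.Injective ι.hom := (ModuleCat.mono_iff_injective ι).mp inferInstance
  have hEobj : Injective (ModuleCat.of R ↑Ec) := inferInstanceAs (Injective Ec)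
  have hEinj : Module.Injective R Ec := Module.injective_module_of_injective_object R Ec
  have hTinj : Module.Injective R (DRing.torsionSub I Ec) := injective_torsionSub I Ec
  -- retraction onto the torsion part
  obtain ⟨r, hr⟩ := Module.Injective.extension_property R (DRing.torsionSub I Ec)
    (DRing.torsionSub I Ec) Ec (DRing.torsionSub I Ec).subtype (Submodule.injective_subtype _)
    LinearMap.id
  have hr' : ∀ t : DRing.torsionSub I Ec, r (t : Ec) = t := fun t => LinearMap.congr_fun hr t
  -- the complementary projection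
  let π : Ec →ₗ[R] Ec := LinearMap.id - (DRing.torsionSub I Ec).subtype ∘ₗ r
  have hπker : ∀ x : Ec, π x ∈ LinearMap.ker r := by
    intro x
    rw [LinearMap.mem_ker]
    show r (x - ((r x : DRing.torsionSub I Ec) : Ec)) = 0
    rw [map_sub, hr', sub_self]
  have hπid : ∀ x : Ec, x ∈ LinearMap.ker r → π x = x := by
    intro x hx
    show x - ((r x : DRing.torsionSub I Ec) : Ec) = x
    rw [LinearMap.mem_ker.mp hx]; simp
  let π' : Ec →ₗ[R] LinearMap.ker r := π.codRestrict _ hπker
  refine ⟨LinearMap.ker r, inferInstance, inferInstance, π' ∘ₗ ι.hom, ?_, ?_, ?_⟩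
  · -- injectivity via Baer
    apply Module.Baer.injective
    intro J φ
    obtain ⟨ψ₀, hψ₀⟩ := Module.Injective.extension_property R Ec J R J.subtype
      (Submodule.injective_subtype _) ((LinearMap.ker r).subtype ∘ₗ φ)
    refine ⟨π' ∘ₗ ψ₀, ?_⟩
    intro x hx
    apply Subtype.ext
    have h1 : ψ₀ x = ((φ ⟨x, hx⟩ : LinearMap.ker r) : Ec) := LinearMap.congr_fun hψ₀ ⟨x, hx⟩
    show π (ψ₀ x) = _
    rw [h1]
    exact hπid _ (φ ⟨x, hx⟩).2
  · rw [eq_bot_iff]
    rintro ⟨x, hx⟩ ⟨n, hn⟩
    have hxt : x ∈ DRing.torsionSub I Ec := ⟨n, fun a ha => congrArg Subtype.val (hn a ha)⟩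
    have h1 := hr' ⟨x, hxt⟩
    rw [LinearMap.mem_ker.mp hx] at h1
    have : x = 0 := by
      have := congrArg Subtype.val h1
      exact this.symm
    exact (Submodule.mk_eq_zero _ _).mpr this
  · rw [injective_iff_map_eq_zero]
    intro g hg
    have h0 : π (ι.hom g) = 0 := congrArg Subtype.val hg
    have h1 : ι.hom g = ((r (ι.hom g) : DRing.torsionSub I Ec) : Ec) := by
      have : ι.hom g - ((r (ι.hom g) : DRing.torsionSub I Ec) : Ec) = 0 := h0
      exact sub_eq_zero.mp this
    obtain ⟨n, hn⟩ := (r (ι.hom g)).2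
    have hg' : g ∈ DRing.torsionSub I G := by
      refine ⟨n, fun a ha => hι ?_⟩
      rw [map_smul, map_zero, h1]
      exact hn a ha
    rw [hG] at hg'
    exact (Submodule.mem_bot R).mp hg'

end

section
open Groth.Agent.Lib.Helper8.LC

variable {R : Type u} [CommRing R] (I : Ideal R)

/-- `H^0_I(M) = 0` iff `M` has no `I`-power torsion. -/
theorem subsingleton_H0_iff (M : Type u) [AddCommGroup M] [Module R M] :
    Subsingleton (LocCoh.H I 0 M) ↔ DRing.torsionSub I M = ⊥ := by
  constructor
  · intro h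
    rw [eq_bot_iff]
    intro m hm
    obtain ⟨x, hx⟩ := exists_Φ_eq I (ModuleCat.of R M) m hm
    rw [Subsingleton.elim x 0, map_zero] at hx
    exact (Submodule.mem_bot R).mpr hx.symm
  · intro h
    refine ⟨fun x y => Φ_injective I (ModuleCat.of R M) ?_⟩
    have hx := Φ_mem_torsionSub I (ModuleCat.of R M) x
    have hy := Φ_mem_torsionSub I (ModuleCat.of R M) y
    rw [h] at hx hy
    rw [(Submodule.mem_bot R).mp hx, (Submodule.mem_bot R).mp hy]

variable {G E Q : Type u} [AddCommGroup G] [Module R G] [AddCommGroup E] [Module R E]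
  [AddCommGroup Q] [Module R Q] (f : G →ₗ[R] E) (g : E →ₗ[R] Q)
  (hf : Function.Injective f) (hg : Function.Surjective g) (hex : Function.Exact f g)

include hf hg hex in
/-- Dimension shifting for local cohomology along a torsion-free injective. -/
theorem H_shift [Module.Injective R E] (hE : DRing.torsionSub I E = ⊥) (i : ℕ) :
    Subsingleton (LocCoh.H I (i + 1) G) ↔ Subsingleton (LocCoh.H I i Q) := by
  have hS := Sfg_shortExact f g hf hg hex
  have hEobj : Injective (ModuleCat.of R E) := Module.injective_object_of_injective_module R E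
  have hE0 : ∀ (j : ℕ) (y : (localCohomology I j).obj (ModuleCat.of R E)), y = 0 := by
    intro j y
    cases j with
    | zero =>
      haveI := (subsingleton_H0_iff I E).mpr hE
      exact Subsingleton.elim (α := LocCoh.H I 0 E) _ _
    | succ j => exact H_succ_eq_zero_of_injective I (ModuleCat.of R E) j y
  constructor
  · intro h
    refine ⟨fun z z' => ?_⟩
    suffices ∀ z : (localCohomology I i).obj (ModuleCat.of R Q), z = 0 by rw [this z, this z']
    intro z
    have hz : Hδ I i (Sfg f g hex) hS z = 0 := Subsingleton.elim (α := LocCoh.H I (i + 1) G) _ _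
    obtain ⟨y, hy⟩ := H_exact₃ I i (Sfg f g hex) hS z hz
    rw [← hy, hE0 i y, map_zero]
  · intro h
    refine ⟨fun x x' => ?_⟩
    suffices ∀ x : (localCohomology I (i + 1)).obj (ModuleCat.of R G), x = 0 by
      rw [this x, this x']
    intro x
    obtain ⟨z, hz⟩ := H_exact₁ I i (Sfg f g hex) hS x (hE0 (i + 1) _)
    rw [← hz, Subsingleton.elim (α := LocCoh.H I i Q) z 0, map_zero]

end

section
open Groth.Agent.Lib.Helper8.LC

variable {R : Type u} [CommRing R]

variable {G E Q : Type u} [AddCommGroup G] [Module R G] [AddCommGroup E] [Module R E]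
  [AddCommGroup Q] [Module R Q] (f : G →ₗ[R] E) (g : E →ₗ[R] Q)
  (hf : Function.Injective f) (hg : Function.Surjective g) (hex : Function.Exact f g)

/-- `Hom(F, G) = 0` iff `Ext^0(F, G) = 0`. -/
theorem subsingleton_ext_zero_iff (F G : Type u) [AddCommGroup F] [Module R F]
    [AddCommGroup G] [Module R G] :
    Subsingleton (Ext.{u} (ModuleCat.of R F) (ModuleCat.of R G) 0) ↔ ∀ φ : F →ₗ[R] G, φ = 0 := by
  constructor
  · intro h φ
    have h1 : Ext.mk₀ (ModuleCat.ofHom φ) = Ext.mk₀ (0 : ModuleCat.of R F ⟶ ModuleCat.of R G) :=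
      Subsingleton.elim _ _
    have h2 := (Ext.mk₀_bijective _ _).1 h1
    have := congrArg ModuleCat.Hom.hom h2
    simpa using this
  · intro h
    refine ⟨fun x y => ?_⟩
    obtain ⟨a, rfl⟩ := (Ext.mk₀_bijective _ _).2 x
    obtain ⟨b, rfl⟩ := (Ext.mk₀_bijective _ _).2 y
    have ha : a = b := by
      ext : 1
      rw [h a.hom, h b.hom]
    rw [ha]

include hf hg hex in
/-- Dimension shifting for `Ext(F, -)` along an injective `E` with `Hom(F, E) = 0`. -/
theorem Ext_shift [Module.Injective R E] (F : Type u) [AddCommGroup F] [Module R F]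
    (hFE : ∀ φ : F →ₗ[R] E, φ = 0) (i : ℕ) :
    Subsingleton (Ext.{u} (ModuleCat.of R F) (ModuleCat.of R G) (i + 1)) ↔
      Subsingleton (Ext.{u} (ModuleCat.of R F) (ModuleCat.of R Q) i) := by
  have hS := Sfg_shortExact f g hf hg hex
  have hEobj : Injective (ModuleCat.of R E) := Module.injective_object_of_injective_module R E
  have hE0 : ∀ (j : ℕ) (y : Ext.{u} (ModuleCat.of R F) (ModuleCat.of R E) j), y = 0 := by
    intro j y
    cases j with
    | zero =>
      haveI := (subsingleton_ext_zero_iff (R := R) F E).mpr hFE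
      exact Subsingleton.elim _ _
    | succ j => exact Ext.eq_zero_of_injective y
  constructor
  · intro h
    refine ⟨fun z z' => ?_⟩
    suffices ∀ z : Ext.{u} (ModuleCat.of R F) (ModuleCat.of R Q) i, z = 0 by rw [this z, this z']
    intro z
    have hz : z.comp hS.extClass rfl = 0 := Subsingleton.elim _ _
    obtain ⟨y, hy⟩ := Ext.covariant_sequence_exact₃ (ModuleCat.of R F) hS z rfl hz
    rw [← hy, hE0 i y, Ext.zero_comp]
  · intro h
    refine ⟨fun x x' => ?_⟩
    suffices ∀ x : Ext.{u} (ModuleCat.of R F) (ModuleCat.of R G) (i + 1), x = 0 by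
      rw [this x, this x']
    intro x
    obtain ⟨z, hz⟩ := Ext.covariant_sequence_exact₁ (ModuleCat.of R F) hS x (hE0 (i + 1) _) rfl
    rw [← hz, Subsingleton.elim z 0, Ext.zero_comp]

end

section
open Groth.Agent.Lib.Helper8.LC

variable {R : Type u} [CommRing R] [IsNoetherianRing R] (I : Ideal R)

/-- A finite module supported in `V(I)` is killed by a power of `I`. -/
theorem exists_pow_le_annihilator (F : Type u) [AddCommGroup F] [Module R F] [Module.Finite R F]
    (hF : Module.support R F ⊆ PrimeSpectrum.zeroLocus (I : Set R)) :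
    ∃ k : ℕ, I ^ k ≤ Module.annihilator R F := by
  rw [Module.support_eq_zeroLocus, PrimeSpectrum.zeroLocus_subset_zeroLocus_iff] at hF
  exact Ideal.exists_pow_le_of_le_radical_of_fg hF (IsNoetherian.noetherian I)

/-- Maps from a finite module supported in `V(I)` land in the torsion part. -/
theorem map_mem_torsionSub_of_support (F : Type u) [AddCommGroup F] [Module R F] [Module.Finite R F]
    (hF : Module.support R F ⊆ PrimeSpectrum.zeroLocus (I : Set R))
    (G : Type u) [AddCommGroup G] [Module R G] (φ : F →ₗ[R] G) (x : F) :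
    φ x ∈ DRing.torsionSub I G := by
  obtain ⟨k, hk⟩ := exists_pow_le_annihilator I F hF
  refine ⟨k, fun a ha => ?_⟩
  rw [← map_smul, Module.mem_annihilator.mp (hk ha) x, map_zero]

theorem hom_eq_zero_of_support (F : Type u) [AddCommGroup F] [Module R F] [Module.Finite R F]
    (hF : Module.support R F ⊆ PrimeSpectrum.zeroLocus (I : Set R))
    (G : Type u) [AddCommGroup G] [Module R G] (hG : DRing.torsionSub I G = ⊥) (φ : F →ₗ[R] G) :
    φ = 0 := by
  ext x
  have := map_mem_torsionSub_of_support I F hF G φ x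
  rw [hG] at this
  exact (Submodule.mem_bot R).mp this

end

section
open Groth.Agent.Lib.Helper8.LC

variable {R : Type u} [CommRing R] [IsNoetherianRing R] (I : Ideal R)

/-- A finite module has a nonzero map to `R ⧸ p` for every `p` in its support. -/
theorem exists_ne_zero_hom_quotient (F : Type u) [AddCommGroup F] [Module R F] [Module.Finite R F]
    (p : PrimeSpectrum R) (hp : p ∈ Module.support R F) :
    ∃ φ : F →ₗ[R] R ⧸ p.asIdeal, φ ≠ 0 := by
  classical
  let K := p.asIdeal.ResidueField
  have : Nontrivial (K ⊗[R] F) :=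
    (Module.mem_support_iff_nontrivial_residueField_tensorProduct p).mp hp
  obtain ⟨v, hv⟩ := exists_ne (0 : K ⊗[R] F)
  obtain ⟨ψ, hψ⟩ : ∃ ψ : Module.Dual K (K ⊗[R] F), ψ v ≠ 0 := by
    by_contra hcon
    push Not at hcon
    exact hv ((Module.forall_dual_apply_eq_zero_iff K v).mp hcon)
  let Ψ : F →ₗ[R] K := (ψ.restrictScalars R) ∘ₗ (TensorProduct.mk R K F 1)
  have hΨ : Ψ ≠ 0 := by
    intro h0
    apply hψ
    have hψ0 : ∀ w : K ⊗[R] F, ψ w = 0 := by
      intro w
      induction w using TensorProduct.induction_on with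
      | zero => simp
      | tmul a f =>
        have h1 : a ⊗ₜ[R] f = a • ((1 : K) ⊗ₜ[R] f) := by
          rw [TensorProduct.smul_tmul', smul_eq_mul, mul_one]
        have h2 : ψ ((1 : K) ⊗ₜ[R] f) = 0 := LinearMap.congr_fun h0 f
        rw [h1, map_smul, h2, smul_zero]
      | add x y hx hy => rw [map_add, hx, hy, add_zero]
    exact hψ0 v
  -- clear denominators
  obtain ⟨s, hs⟩ := (Module.Finite.fg_top : (⊤ : Submodule R F).FG)
  obtain ⟨b, hb⟩ := IsLocalization.exist_integer_multiples_of_finset
    (nonZeroDivisors (R ⧸ p.asIdeal)) (s.image Ψ)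
  obtain ⟨b₀, hb₀⟩ := Ideal.Quotient.mk_surjective (b : R ⧸ p.asIdeal)
  let ι : (R ⧸ p.asIdeal) →ₗ[R] K := (IsScalarTower.toAlgHom R (R ⧸ p.asIdeal) K).toLinearMap
  have hι : Function.Injective ι := IsFractionRing.injective (R ⧸ p.asIdeal) K
  have hsm : ∀ z : K, b₀ • z = ((b : R ⧸ p.asIdeal)) • z := by
    intro z
    rw [← hb₀, ← Ideal.Quotient.algebraMap_eq, algebraMap_smul]
  have hmem : ∀ x : F, (b₀ • Ψ) x ∈ LinearMap.range ι := by
    intro x
    have hx : x ∈ Submodule.span R (s : Set F) := hs ▸ Submodule.mem_top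
    induction hx using Submodule.span_induction with
    | mem y hy =>
      obtain ⟨c, hc⟩ := hb (Ψ y) (Finset.mem_image_of_mem Ψ hy)
      refine ⟨c, ?_⟩
      rw [LinearMap.smul_apply, hsm]
      exact hc
    | zero => rw [map_zero]; exact zero_mem _
    | add y z _ _ hy hz => rw [map_add]; exact add_mem hy hz
    | smul a y _ hy => rw [map_smul]; exact Submodule.smul_mem _ a hy
  let Φ : F →ₗ[R] R ⧸ p.asIdeal :=
    (LinearEquiv.ofInjective ι hι).symm.toLinearMap ∘ₗ (b₀ • Ψ).codRestrict (LinearMap.range ι) hmem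
  refine ⟨Φ, ?_⟩
  intro hΦ
  apply hΨ
  ext x
  have h1 : (LinearEquiv.ofInjective ι hι).symm ((b₀ • Ψ).codRestrict (LinearMap.range ι) hmem x)
      = 0 := LinearMap.congr_fun hΦ x
  have h2 : (b₀ • Ψ).codRestrict (LinearMap.range ι) hmem x = 0 := by
    rwa [LinearEquiv.map_eq_zero_iff] at h1
  have h3 : b₀ • Ψ x = 0 := congrArg Subtype.val h2
  rw [hsm, Algebra.smul_def, mul_eq_zero] at h3
  rcases h3 with h3 | h3
  · exfalso
    have : (b : R ⧸ p.asIdeal) = 0 := by
      apply IsFractionRing.injective (R ⧸ p.asIdeal) K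
      rw [h3, map_zero]
    exact nonZeroDivisors.coe_ne_zero b this
  · exact h3

end

section
open Groth.Agent.Lib.Helper8.LC

variable {R : Type u} [CommRing R] [IsNoetherianRing R] (I : Ideal R)

/-- If `F` is finite with `V(I) ⊆ Supp F` and `Hom(F, G) = 0`, then `G` has no `I`-power torsion. -/
theorem torsionSub_eq_bot_of_hom_eq_zero (F : Type u) [AddCommGroup F] [Module R F]
    [Module.Finite R F] (hF : PrimeSpectrum.zeroLocus (I : Set R) ⊆ Module.support R F)
    (G : Type u) [AddCommGroup G] [Module R G] (hFG : ∀ φ : F →ₗ[R] G, φ = 0) :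
    DRing.torsionSub I G = ⊥ := by
  by_contra hne
  obtain ⟨x, hxmem, hx0⟩ := Submodule.exists_mem_ne_zero_of_ne_bot hne
  obtain ⟨P, hP, hle⟩ := exists_le_isAssociatedPrime_of_isNoetherianRing R x hx0
  obtain ⟨hPprime, j, hj⟩ := (isAssociatedPrime_iff_exists_injective_linearMap P G).mp hP
  obtain ⟨n, hn⟩ := hxmem
  have hIP : I ≤ P := by
    refine Ideal.IsPrime.le_of_pow_le (n := n) (le_trans ?_ hle)
    intro a ha
    rw [Submodule.mem_colon_singleton, hn a ha]
    exact zero_mem _
  have hPsupp : (⟨P, hPprime⟩ : PrimeSpectrum R) ∈ Module.support R F :=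
    hF (by rw [PrimeSpectrum.mem_zeroLocus]; exact hIP)
  obtain ⟨φ, hφ⟩ := exists_ne_zero_hom_quotient F ⟨P, hPprime⟩ hPsupp
  apply hφ
  ext y
  have h1 : j (φ y) = 0 := LinearMap.congr_fun (hFG (j ∘ₗ φ)) y
  have h2 : φ y = 0 := hj (by rw [h1, map_zero])
  simpa using h2

end

end Groth.Agent.Lib.Helper29LCExt
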