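import Groth.Agent.Lib.Helper29LCAcyclic

set_option autoImplicit false
set_option linter.style.haveILetI false
open CategoryTheory CategoryTheory.Limits Opposite

noncomputable section

namespace Groth.Agent.Lib.Helper29.LCNat

open Groth.Agent.Lib.Helper8.ExtLES Groth.Agent.Lib.Helper8.LC Groth.Agent.Lib.Helper29LCAcyclic

universe u
variable {R : Type u} [CommRing R]

section ExtNat

variable {S S' : ShortComplex (ModuleCat.{u} R)} (φ : S ⟶ S')

/-- The morphism of short complexes of complexes induced by a morphism of short complexes. -/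
def cxSCMapS (K : ChainComplex (ModuleCat.{u} R) ℕ) : cxSC S' K ⟶ cxSC S K where
  τ₁ := (NatTrans.mapHomologicalComplex (αg φ.τ₃) _).app K
  τ₂ := (NatTrans.mapHomologicalComplex (αg φ.τ₂) _).app K
  τ₃ := (NatTrans.mapHomologicalComplex (αg φ.τ₁) _).app K
  comm₁₂ := by
    change (NatTrans.mapHomologicalComplex (αg φ.τ₃) _).app K ≫
      (NatTrans.mapHomologicalComplex (αg S.g) _).app K =
      (NatTrans.mapHomologicalComplex (αg S'.g) _).app K ≫
      (NatTrans.mapHomologicalComplex (αg φ.τ₂) _).app K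
    rw [← NatTrans.comp_app, ← NatTrans.comp_app, ← NatTrans.mapHomologicalComplex_comp,
      ← NatTrans.mapHomologicalComplex_comp, ← αg_comp, ← αg_comp, φ.comm₂₃]
  comm₂₃ := by
    change (NatTrans.mapHomologicalComplex (αg φ.τ₂) _).app K ≫
      (NatTrans.mapHomologicalComplex (αg S.f) _).app K =
      (NatTrans.mapHomologicalComplex (αg S'.f) _).app K ≫
      (NatTrans.mapHomologicalComplex (αg φ.τ₁) _).app K
    rw [← NatTrans.comp_app, ← NatTrans.comp_app, ← NatTrans.mapHomologicalComplex_comp,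
      ← NatTrans.mapHomologicalComplex_comp, ← αg_comp, ← αg_comp, φ.comm₁₂]

variable (hS : S.ShortExact) (hS' : S'.ShortExact)

theorem δOp_naturalityS {X : ModuleCat.{u} R} (P : ProjectiveResolution X) (n : ℕ) :
    δOp S' hS' P n ≫ (NatTrans.leftDerived (αg φ.τ₃) n).app X =
      (NatTrans.leftDerived (αg φ.τ₁) (n + 1)).app X ≫ δOp S hS P n := by
  have h3 : (cxSC_shortExact S' hS' P.complex).δ (n + 1) n (relSucc n) ≫
      (HomologicalComplex.homologyFunctor _ _ n).map
        ((NatTrans.mapHomologicalComplex (αg φ.τ₃) _).app P.complex) =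
      (HomologicalComplex.homologyFunctor _ _ (n + 1)).map
        ((NatTrans.mapHomologicalComplex (αg φ.τ₁) _).app P.complex) ≫
      (cxSC_shortExact S hS P.complex).δ (n + 1) n (relSucc n) :=
    HomologicalComplex.HomologySequence.δ_naturality
      (cxSCMapS φ P.complex)
      (cxSC_shortExact S' hS' P.complex) (cxSC_shortExact S hS P.complex) (n + 1) n (relSucc n)
  have h2 : (NatTrans.leftDerived (αg φ.τ₁) (n + 1)).app X ≫
      (P.isoLeftDerivedObj (FY S.X₁) (n + 1)).hom =
      (P.isoLeftDerivedObj (FY S'.X₁) (n + 1)).hom ≫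
      (HomologicalComplex.homologyFunctor _ _ (n + 1)).map
        ((NatTrans.mapHomologicalComplex (αg φ.τ₁) _).app P.complex) := by
    rw [P.leftDerived_app_eq (αg φ.τ₁) (n + 1)]
    simp only [Category.assoc, Iso.inv_hom_id, Category.comp_id]
  have h1 : (P.isoLeftDerivedObj (FY S'.X₃) n).inv ≫ (NatTrans.leftDerived (αg φ.τ₃) n).app X =
      (HomologicalComplex.homologyFunctor _ _ n).map
        ((NatTrans.mapHomologicalComplex (αg φ.τ₃) _).app P.complex) ≫
      (P.isoLeftDerivedObj (FY S.X₃) n).inv := by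
    rw [P.leftDerived_app_eq (αg φ.τ₃) n]
    simp only [Iso.inv_hom_id_assoc]
  exact conj_nat _ _ _ _ _ _ _ _ _ _ h2 h1 h3

theorem extδP_naturalityS {X : ModuleCat.{u} R} (P : ProjectiveResolution X) (n : ℕ)
    (z : E n X S.X₃) :
    extδP S' hS' P n (Emap n X φ.τ₃ z) = Emap (n + 1) X φ.τ₁ (extδP S hS P n z) := by
  have h := δOp_naturalityS φ hS hS' P n
  have h2 := congrArg Quiver.Hom.unop h
  rw [unop_comp, unop_comp] at h2
  have := congrArg (fun ψ => ψ.hom z) h2
  exact this

theorem Hδ_naturality (I : Ideal R) (i : ℕ) (z : (localCohomology I i).obj S.X₃) :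
    Hδ I i S' hS' ((localCohomology I i).map φ.τ₃ z) =
      (localCohomology I (i + 1)).map φ.τ₁ (Hδ I i S hS z) := by
  obtain ⟨k, zk, rfl⟩ := exists_rep I i S.X₃ z
  rw [map_cls, Hδ_cls, Hδ_cls, map_cls]
  congr 1
  exact extδP_naturalityS φ hS hS' _ i zk

end ExtNat


section Cast

variable (I : Ideal R)

/-- Transport along an equality of cohomological degrees. -/
def lcCast {i j : ℕ} (h : i = j) (N : ModuleCat.{u} R) :
    (localCohomology I i).obj N →ₗ[R] (localCohomology I j).obj N := by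
  subst h
  exact LinearMap.id

theorem lcCast_naturality {i j : ℕ} (h : i = j) {N N' : ModuleCat.{u} R} (g : N ⟶ N')
    (x : (localCohomology I i).obj N) :
    (localCohomology I j).map g (lcCast I h N x) = lcCast I h N' ((localCohomology I i).map g x) := by
  subst h
  rfl

theorem lcCast_bijective {i j : ℕ} (h : i = j) (N : ModuleCat.{u} R) :
    Function.Bijective (lcCast I h N) := by
  subst h
  exact Function.bijective_id

end Cast

section Res

variable (I : Ideal R)
variable (X : ℕ → Type u) [∀ n, AddCommGroup (X n)] [∀ n, Module R (X n)]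
variable (d : ∀ n, X n →ₗ[R] X (n + 1))
variable (hs : ∀ n, LinearMap.ker (d (n + 1)) = LinearMap.range (d n))

/-- Iterated connecting homomorphisms `H^i(Z_n) → H^{i+n}(Z_0)`. -/
def Dmap : (n i : ℕ) → LC I i (Z X d n) →ₗ[R] LC I (i + n) (Z X d 0)
  | 0, _ => LinearMap.id
  | n + 1, i =>
    (lcCast I (by omega : i + 1 + n = i + (n + 1)) (ModuleCat.of R (Z X d 0))) ∘ₗ
      (Dmap n (i + 1)) ∘ₗ (Hδ I i (Sn X d hs n) (Sn_shortExact X d hs n)).hom

theorem Dmap_zero (i : ℕ) (x : LC I i (Z X d 0)) : Dmap I X d hs 0 i x = x := rfl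

theorem Dmap_succ (n i : ℕ) (x : LC I i (Z X d (n + 1))) :
    Dmap I X d hs (n + 1) i x =
      lcCast I (by omega : i + 1 + n = i + (n + 1)) (ModuleCat.of R (Z X d 0))
        (Dmap I X d hs n (i + 1) (Hδ I i (Sn X d hs n) (Sn_shortExact X d hs n) x)) := rfl

variable (hacyc : ∀ (n j : ℕ) (x : LC I (j + 1) (X n)), x = 0)

include hacyc in
theorem Dmap_bijective (n : ℕ) : ∀ j : ℕ, Function.Bijective (Dmap I X d hs n (j + 1)) := by
  induction n with
  | zero => intro j; exact Function.bijective_id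
  | succ n ih =>
    intro j
    have h1 := Hδ_bijective I X d hs hacyc n j
    have h2 := ih (j + 1)
    have h3 := lcCast_bijective I (by omega : j + 1 + 1 + n = j + 1 + (n + 1))
      (ModuleCat.of R (Z X d 0))
    exact h3.comp (h2.comp h1)

end Res


section ChainMap

variable (I : Ideal R)
variable (X : ℕ → Type u) [∀ n, AddCommGroup (X n)] [∀ n, Module R (X n)]
variable (d : ∀ n, X n →ₗ[R] X (n + 1))
variable (hs : ∀ n, LinearMap.ker (d (n + 1)) = LinearMap.range (d n))
variable (X' : ℕ → Type u) [∀ n, AddCommGroup (X' n)] [∀ n, Module R (X' n)]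
variable (d' : ∀ n, X' n →ₗ[R] X' (n + 1))
variable (hs' : ∀ n, LinearMap.ker (d' (n + 1)) = LinearMap.range (d' n))
variable (θ : ∀ n, X n →ₗ[R] X' n) (hθ : ∀ (n : ℕ) (x : X n), θ (n + 1) (d n x) = d' n (θ n x))

/-- The map induced on cocycle modules `Z_n → Z'_n`. -/
def ζ (n : ℕ) : Z X d n →ₗ[R] Z X' d' n :=
  ((θ n).comp (Z X d n).subtype).codRestrict (Z X' d' n) (fun z => by
    change d' n (θ n z.1) = 0
    rw [← hθ n, z.2, map_zero])

theorem ζ_coe (n : ℕ) (z : Z X d n) : ((ζ X d X' d' θ hθ n z : Z X' d' n) : X' n) = θ n z := rfl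

/-- The morphism of short exact sequences `0 → Z_n → X_n → Z_{n+1} → 0`. -/
def SnMap (n : ℕ) : Sn X d hs n ⟶ Sn X' d' hs' n where
  τ₁ := ModuleCat.ofHom (ζ X d X' d' θ hθ n)
  τ₂ := ModuleCat.ofHom (θ n)
  τ₃ := ModuleCat.ofHom (ζ X d X' d' θ hθ (n + 1))
  comm₁₂ := by
    ext z
    rfl
  comm₂₃ := by
    ext x
    exact (hθ n x).symm

theorem Dmap_naturality (n : ℕ) : ∀ (i : ℕ) (x : LC I i (Z X d n)),
    (localCohomology I (i + n)).map (ModuleCat.ofHom (ζ X d X' d' θ hθ 0)) (Dmap I X d hs n i x) =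
      Dmap I X' d' hs' n i
        ((localCohomology I i).map (ModuleCat.ofHom (ζ X d X' d' θ hθ n)) x) := by
  induction n with
  | zero => intro i x; rfl
  | succ n ih =>
    intro i x
    rw [Dmap_succ, Dmap_succ, lcCast_naturality, ih (i + 1)]
    congr 2
    exact (Hδ_naturality (SnMap X d hs X' d' hs' θ hθ n) (Sn_shortExact X d hs n)
      (Sn_shortExact X' d' hs' n) I i x).symm

end ChainMap


section Cmp

variable (I : Ideal R)

theorem LCmap_bijective (p : ℕ) {N N' : Type u} [AddCommGroup N] [Module R N] [AddCommGroup N']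
    [Module R N'] (e : N ≃ₗ[R] N') :
    Function.Bijective ((localCohomology I p).map (ModuleCat.ofHom e.toLinearMap)) := by
  have h1 : ModuleCat.ofHom e.toLinearMap ≫ ModuleCat.ofHom e.symm.toLinearMap = 𝟙 _ := by
    ext x
    exact e.symm_apply_apply x
  have h2 : ModuleCat.ofHom e.symm.toLinearMap ≫ ModuleCat.ofHom e.toLinearMap = 𝟙 _ := by
    ext x
    exact e.apply_symm_apply x
  refine Function.bijective_iff_has_inverse.mpr
    ⟨(localCohomology I p).map (ModuleCat.ofHom e.symm.toLinearMap), fun x => ?_, fun x => ?_⟩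
  · have := congrArg (fun ψ => ((localCohomology I p).map ψ).hom x) h1
    simpa using this
  · have := congrArg (fun ψ => ((localCohomology I p).map ψ).hom x) h2
    simpa using this

variable (X : ℕ → Type u) [∀ n, AddCommGroup (X n)] [∀ n, Module R (X n)]
variable (d : ∀ n, X n →ₗ[R] X (n + 1))
variable (hs : ∀ n, LinearMap.ker (d (n + 1)) = LinearMap.range (d n))
variable {M : Type u} [AddCommGroup M] [Module R M] (ε : M →ₗ[R] X 0)
variable (hε : Function.Injective ε) (h0 : LinearMap.ker (d 0) = LinearMap.range ε)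

/-- The coboundaries of `Γ_I(X_•)`. -/
def cob : (i : ℕ) → Submodule R (X i)
  | 0 => ⊥
  | n + 1 => (GrLC.gam I (X n)).map (d n)

/-- The comparison map from torsion cocycles to local cohomology. -/
def cmp (p : ℕ) : cocyc I X d p →ₗ[R] LC I p M :=
  ((localCohomology I p).map
      (ModuleCat.ofHom (augEquiv X d ε hε h0).symm.toLinearMap)).hom ∘ₗ
    (lcCast I (Nat.zero_add p) (ModuleCat.of R (Z X d 0))) ∘ₗ (Dmap I X d hs p 0) ∘ₗ
    (H0Equiv I (Z X d p)).symm.toLinearMap ∘ₗ τ I X d p

theorem cmp_apply (p : ℕ) (z : cocyc I X d p) :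
    cmp I X d hs ε hε h0 p z =
      (localCohomology I p).map (ModuleCat.ofHom (augEquiv X d ε hε h0).symm.toLinearMap)
        (lcCast I (Nat.zero_add p) (ModuleCat.of R (Z X d 0))
          (Dmap I X d hs p 0 ((H0Equiv I (Z X d p)).symm (τ I X d p z)))) := rfl

theorem cmp_zero_bijective : Function.Bijective (cmp I X d hs ε hε h0 0) := by
  have h1 : Function.Bijective (τ I X d 0) := ⟨τ_injective I X d 0, τ_surjective I X d 0⟩
  have h2 := (H0Equiv I (Z X d 0)).symm.bijective
  have h3 := lcCast_bijective I (Nat.zero_add 0) (ModuleCat.of R (Z X d 0))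
  have h4 := LCmap_bijective I 0 (augEquiv X d ε hε h0).symm
  exact h4.comp (h3.comp (Function.bijective_id.comp (h2.comp h1)))

variable (hacyc : ∀ (n j : ℕ) (x : LC I (j + 1) (X n)), x = 0)

/-- The bijective tail of the comparison map in positive degrees. -/
def tail (n : ℕ) : LC I 1 (Z X d n) →ₗ[R] LC I (n + 1) M :=
  ((localCohomology I (n + 1)).map
      (ModuleCat.ofHom (augEquiv X d ε hε h0).symm.toLinearMap)).hom ∘ₗ
    (lcCast I (Nat.zero_add (n + 1)) (ModuleCat.of R (Z X d 0))) ∘ₗ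
    (lcCast I (by omega : 0 + 1 + n = 0 + (n + 1)) (ModuleCat.of R (Z X d 0))) ∘ₗ
    (Dmap I X d hs n 1)

include hacyc in
theorem tail_bijective (n : ℕ) : Function.Bijective (tail I X d hs ε hε h0 n) := by
  have h1 := Dmap_bijective I X d hs hacyc n 0
  have h2 := lcCast_bijective I (by omega : 0 + 1 + n = 0 + (n + 1)) (ModuleCat.of R (Z X d 0))
  have h3 := lcCast_bijective I (Nat.zero_add (n + 1)) (ModuleCat.of R (Z X d 0))
  have h4 := LCmap_bijective I (n + 1) (augEquiv X d ε hε h0).symm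
  exact h4.comp (h3.comp (h2.comp h1))

theorem cmp_succ (n : ℕ) (z : cocyc I X d (n + 1)) :
    cmp I X d hs ε hε h0 (n + 1) z = tail I X d hs ε hε h0 n (Ψ I X d hs n z) := rfl

include hacyc in
theorem cmp_surjective (p : ℕ) : Function.Surjective (cmp I X d hs ε hε h0 p) := by
  cases p with
  | zero => exact (cmp_zero_bijective I X d hs ε hε h0).2
  | succ n =>
    intro y
    obtain ⟨w, rfl⟩ := (tail_bijective I X d hs ε hε h0 hacyc n).2 y
    obtain ⟨z, rfl⟩ := Ψ_surjective I X d hs hacyc n w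
    exact ⟨z, cmp_succ I X d hs ε hε h0 n z⟩

include hacyc in
theorem ker_cmp (p : ℕ) : LinearMap.ker (cmp I X d hs ε hε h0 p) =
    (cob I X d p).comap (cocyc I X d p).subtype := by
  cases p with
  | zero =>
    have hbot : (cob I X d 0).comap (cocyc I X d 0).subtype = ⊥ := by
      change (⊥ : Submodule R (X 0)).comap (cocyc I X d 0).subtype = ⊥
      rw [Submodule.comap_bot]
      exact Submodule.ker_subtype _
    rw [hbot]
    exact LinearMap.ker_eq_bot.mpr (cmp_zero_bijective I X d hs ε hε h0).1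
  | succ n =>
    rw [← show LinearMap.ker (Ψ I X d hs n) = (cob I X d (n + 1)).comap
      (cocyc I X d (n + 1)).subtype from ker_Ψ I X d hs n]
    ext z
    rw [LinearMap.mem_ker, LinearMap.mem_ker, cmp_succ]
    constructor
    · intro h
      exact (tail_bijective I X d hs ε hε h0 hacyc n).1 (by rw [h, map_zero])
    · intro h
      rw [h, map_zero]

/-- The comparison isomorphism. -/
def cmpEquiv (p : ℕ) :
    (cocyc I X d p ⧸ (cob I X d p).comap (cocyc I X d p).subtype) ≃ₗ[R] LC I p M :=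
  (Submodule.quotEquivOfEq _ _ (ker_cmp I X d hs ε hε h0 hacyc p).symm).trans
    (LinearMap.quotKerEquivOfSurjective (cmp I X d hs ε hε h0 p)
      (cmp_surjective I X d hs ε hε h0 hacyc p))

theorem cmpEquiv_mk (p : ℕ) (z : cocyc I X d p) :
    cmpEquiv I X d hs ε hε h0 hacyc p (Submodule.Quotient.mk z) = cmp I X d hs ε hε h0 p z := rfl

end Cmp


section CmpNat

variable (I : Ideal R)
variable (X : ℕ → Type u) [∀ n, AddCommGroup (X n)] [∀ n, Module R (X n)]
variable (d : ∀ n, X n →ₗ[R] X (n + 1))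
variable (hs : ∀ n, LinearMap.ker (d (n + 1)) = LinearMap.range (d n))
variable {M : Type u} [AddCommGroup M] [Module R M] (ε : M →ₗ[R] X 0)
variable (hε : Function.Injective ε) (h0 : LinearMap.ker (d 0) = LinearMap.range ε)
variable (X' : ℕ → Type u) [∀ n, AddCommGroup (X' n)] [∀ n, Module R (X' n)]
variable (d' : ∀ n, X' n →ₗ[R] X' (n + 1))
variable (hs' : ∀ n, LinearMap.ker (d' (n + 1)) = LinearMap.range (d' n))
variable {M' : Type u} [AddCommGroup M'] [Module R M'] (ε' : M' →ₗ[R] X' 0)
variable (hε' : Function.Injective ε') (h0' : LinearMap.ker (d' 0) = LinearMap.range ε')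
variable (f : M →ₗ[R] M')
variable (θ : ∀ n, X n →ₗ[R] X' n) (hθ : ∀ (n : ℕ) (x : X n), θ (n + 1) (d n x) = d' n (θ n x))
variable (hθ0 : ∀ m : M, θ 0 (ε m) = ε' (f m))

/-- The map induced on torsion cocycles. -/
def θc (p : ℕ) : cocyc I X d p →ₗ[R] cocyc I X' d' p :=
  ((θ p).comp (cocyc I X d p).subtype).codRestrict (cocyc I X' d' p) (fun z => by
    refine ⟨?_, ?_⟩
    · obtain ⟨k, hk⟩ := z.2.1
      exact ⟨k, fun a ha => by
        change a • θ p z.1 = 0
        rw [← map_smul, hk a ha, map_zero]⟩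
    · change d' p (θ p z.1) = 0
      rw [← hθ p]
      have : d p z.1 = 0 := z.2.2
      rw [this, map_zero])

theorem θc_coe (p : ℕ) (z : cocyc I X d p) :
    ((θc I X d X' d' θ hθ p z : cocyc I X' d' p) : X' p) = θ p z := rfl

theorem H0Equiv_symm_naturality {N N' : Type u} [AddCommGroup N] [Module R N] [AddCommGroup N']
    [Module R N'] (g : N →ₗ[R] N') (x : GrLC.gam I N) (x' : GrLC.gam I N')
    (hx : g x.1 = x'.1) :
    (localCohomology I 0).map (ModuleCat.ofHom g) ((H0Equiv I N).symm x) =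
      (H0Equiv I N').symm x' := by
  apply (H0Equiv I N').injective
  rw [LinearEquiv.apply_symm_apply]
  apply Subtype.ext
  rw [H0Equiv_coe]
  have h := Φ_naturality I (ModuleCat.ofHom g) ((H0Equiv I N).symm x)
  rw [h]
  have h2 : Φ I (ModuleCat.of R N) ((H0Equiv I N).symm x) = x.1 := by
    rw [← H0Equiv_coe, LinearEquiv.apply_symm_apply]
  rw [h2]
  exact hx

include hθ0 in
theorem aug_naturality (p : ℕ) (y : LC I p (Z X d 0)) :
    (localCohomology I p).map (ModuleCat.ofHom f)
      ((localCohomology I p).map (ModuleCat.ofHom (augEquiv X d ε hε h0).symm.toLinearMap) y) =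
    (localCohomology I p).map (ModuleCat.ofHom (augEquiv X' d' ε' hε' h0').symm.toLinearMap)
      ((localCohomology I p).map (ModuleCat.ofHom (ζ X d X' d' θ hθ 0)) y) := by
  have hcomm : ModuleCat.ofHom (augEquiv X d ε hε h0).symm.toLinearMap ≫ ModuleCat.ofHom f =
      ModuleCat.ofHom (ζ X d X' d' θ hθ 0) ≫
        ModuleCat.ofHom (augEquiv X' d' ε' hε' h0').symm.toLinearMap := by
    ext z
    change f ((augEquiv X d ε hε h0).symm z) =
      (augEquiv X' d' ε' hε' h0').symm (ζ X d X' d' θ hθ 0 z)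
    apply (augEquiv X' d' ε' hε' h0').injective
    rw [LinearEquiv.apply_symm_apply]
    apply Subtype.ext
    obtain ⟨m, rfl⟩ := (augEquiv X d ε hε h0).surjective z
    rw [LinearEquiv.symm_apply_apply]
    change ε' (f m) = θ 0 (ε m)
    exact (hθ0 m).symm
  have h1 := congrArg (fun ψ => ((localCohomology I p).map ψ).hom y) hcomm
  simpa using h1

include hθ0 in
theorem cmp_naturality (p : ℕ) (z : cocyc I X d p) :
    cmp I X' d' hs' ε' hε' h0' p (θc I X d X' d' θ hθ p z) =
      (localCohomology I p).map (ModuleCat.ofHom f) (cmp I X d hs ε hε h0 p z) := by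
  rw [cmp_apply, cmp_apply, aug_naturality I X d ε hε h0 X' d' ε' hε' h0' f θ hθ hθ0,
    lcCast_naturality I (Nat.zero_add p) (ModuleCat.ofHom (ζ X d X' d' θ hθ 0)),
    Dmap_naturality I X d hs X' d' hs' θ hθ p 0]
  congr 3
  exact (H0Equiv_symm_naturality I (ζ X d X' d' θ hθ p) (τ I X d p z)
    (τ I X' d' p (θc I X d X' d' θ hθ p z)) rfl).symm

end CmpNat

end Groth.Agent.Lib.Helper29.LCNat
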