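import Mathlib
import Groth.Prelude.Def_CAlg
import Groth.Agent.Lib.Helper29LocQuotNum

set_option autoImplicit false
set_option linter.style.haveILetI false
universe u

namespace Groth.Agent.Lib.Helper29LocQuotSurj

open Groth.Agent.Lib.Helper28 IsLocalRing LocCoh Groth.Agent.Lib.Helper5.GenDepth
  Groth.Agent.Lib.Helper29LocQuotNum

section Surj

variable {B G : Type u} [CommRing B] [IsNoetherianRing B] [CommRing G]

theorem enat_add_one_cancel {a b : ℕ∞} (h : a + 1 = b + 1) : a = b :=
  ENat.add_left_injective_of_ne_top ENat.one_ne_top h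

/-- ring isomorphisms preserve `dep` of the ring over itself -/
theorem dep_comap_ringEquiv {R S : Type u} [CommRing R] [CommRing S] [IsNoetherianRing R]
    [IsNoetherianRing S] (e : R ≃+* S) (p : Ideal S) [p.IsPrime] :
    dep (p.comap (e : R →+* S)) R = dep p S := by
  haveI : IsNoetherianRing (Localization.AtPrime p) :=
    IsLocalization.isNoetherianRing p.primeCompl _ inferInstance
  haveI : IsNoetherianRing (Localization.AtPrime (p.comap (e : R →+* S))) :=
    IsLocalization.isNoetherianRing (p.comap (e : R →+* S)).primeCompl _ inferInstance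
  rw [dep_self, dep_self]
  exact depth_self_eq_of_ringEquiv (Localization.localRingEquiv (p.comap (e : R →+* S)) p e rfl)

/-- heights and depths drop by one along a surjection with kernel generated by a
non-zero-divisor -/
theorem height_dep_of_surjective (φ : B →+* G) (hφ : Function.Surjective φ) (x : B)
    (hker : RingHom.ker φ = Ideal.span {x}) (hx : x ∈ nonZeroDivisors B)
    (p : Ideal G) [p.IsPrime] :
    (p.comap φ).height = p.height + 1 ∧ dep (p.comap φ) B = dep p G + 1 := by
  haveI hNG : IsNoetherianRing G := isNoetherianRing_of_surjective B G φ hφ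
  let e : (B ⧸ Ideal.span {x}) ≃+* G :=
    (Ideal.quotEquivOfEq hker.symm).trans (RingHom.quotientKerEquivOfSurjective hφ)
  have he : ∀ b : B, e (Ideal.Quotient.mk (Ideal.span {x}) b) = φ b := fun b => rfl
  obtain ⟨h1, h2⟩ := height_dep_quotient_span_singleton x hx
    (p.comap (e : (B ⧸ Ideal.span {x}) →+* G))
  have hcm : (p.comap (e : (B ⧸ Ideal.span {x}) →+* G)).comap
      (Ideal.Quotient.mk (Ideal.span {x})) = p.comap φ := by
    ext b
    simp only [Ideal.mem_comap]
    rw [RingEquiv.coe_toRingHom, he]
  constructor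
  · rw [← height_congr_ideal hcm, h1]
    congr 1
    exact RingEquiv.height_comap e p
  · rw [← dep_congr_ideal hcm, h2, dep_comap_ringEquiv e p]

/-- primes of `B` containing `x`, for a surjection `φ` with kernel `(x)` -/
theorem case_mem_of_surjective (φ : B →+* G) (hφ : Function.Surjective φ) (x : B)
    (hker : RingHom.ker φ = Ideal.span {x}) (hx : x ∈ nonZeroDivisors B)
    (P : Ideal B) [P.IsPrime] (hu : x ∈ P) :
    ∃ (p : Ideal G) (_ : p.IsPrime), p = P.map φ ∧ p.comap φ = P ∧
      P.height = p.height + 1 ∧ dep P B = dep p G + 1 := by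
  have hle : RingHom.ker φ ≤ P := by
    rw [hker]
    exact (Ideal.span_singleton_le_iff_mem _).mpr hu
  have hp : (P.map φ).IsPrime := Ideal.map_isPrime_of_surjective hφ hle
  have hcm : (P.map φ).comap φ = P := by
    rw [Ideal.comap_map_of_surjective _ hφ, ← RingHom.ker_eq_comap_bot]
    exact sup_eq_left.mpr hle
  refine ⟨_, hp, rfl, hcm, ?_, ?_⟩
  · rw [← (height_dep_of_surjective φ hφ x hker hx _).1]
    exact height_congr_ideal hcm.symm
  · rw [← (height_dep_of_surjective φ hφ x hker hx _).2]
    exact dep_congr_ideal hcm.symm _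

end Surj

end Groth.Agent.Lib.Helper29LocQuotSurj
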