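import Mathlib
import Groth.Prelude.Def_Wider
import Groth.Agent.S11617

/-! `R_p ⊗ H^n_p(R) ≅ H^n_{pR_p}(R_p)` (helper29). -/

set_option autoImplicit false
set_option linter.style.haveILetI false
open TensorProduct IsLocalRing

namespace Groth.Agent.Lib.Helper29LocTensorH

universe u

theorem nonempty_tensor_equiv (R : Type u) [CommRing R] [IsNoetherianRing R] (p : Ideal R)
    [p.IsPrime] (n : ℕ) (H : Type u) [AddCommGroup H] [Module R H]
    (e₀ : H ≃ₗ[R] LocCoh.H p n R) :
    Nonempty ((Localization.AtPrime p) ⊗[R] H ≃ₗ[Localization.AtPrime p]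
      LocCoh.H (maximalIdeal (Localization.AtPrime p)) n (Localization.AtPrime p)) := by
  obtain ⟨e₁⟩ := Groth.Agent.S11617.result R (Localization.AtPrime p) p R n
  have hmap : Ideal.map (algebraMap R (Localization.AtPrime p)) p =
      maximalIdeal (Localization.AtPrime p) := Localization.AtPrime.map_eq_maximalIdeal
  rw [hmap] at e₁
  let e₂ : LocCoh.H (maximalIdeal (Localization.AtPrime p)) n ((Localization.AtPrime p) ⊗[R] R)
      ≃ₗ[Localization.AtPrime p]
      LocCoh.H (maximalIdeal (Localization.AtPrime p)) n (Localization.AtPrime p) :=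
    ((localCohomology (maximalIdeal (Localization.AtPrime p)) n).mapIso
      (TensorProduct.AlgebraTensorModule.rid R (Localization.AtPrime p)
        (Localization.AtPrime p)).toModuleIso).toLinearEquiv
  let e₃ : (Localization.AtPrime p) ⊗[R] H ≃ₗ[Localization.AtPrime p]
      (Localization.AtPrime p) ⊗[R] LocCoh.H p n R :=
    TensorProduct.AlgebraTensorModule.congr (LinearEquiv.refl _ _) e₀
  exact ⟨e₃.trans (e₁.trans e₂)⟩

end Groth.Agent.Lib.Helper29LocTensorH
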