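import Groth.Prelude.Def_GSzMilK
import Mathlib.LinearAlgebra.Multilinear.Basic
import Mathlib.Tactic.Abel
import Mathlib.Tactic.Ring
import Mathlib.Tactic.LinearCombination
import Mathlib.Tactic.FieldSimp
import Mathlib.Tactic.NoncommRing
import Mathlib.GroupTheory.Perm.Sign
import Mathlib.LinearAlgebra.Multilinear.Curry

/-!
Milnor K-theory: symbol calculus (helper29).
-/

universe u v w

namespace Groth.Agent.Lib.Helper29

open MilK

section Basic

variable {F : Type u} [Field F]

/-- the tuple of additive units attached to a tuple of units -/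
def addTuple {n : ℕ} (x : Fin n → Fˣ) : Fin n → Additive Fˣ := fun i => Additive.ofMul (x i)

theorem symbol_def {n : ℕ} (x : Fin n → Fˣ) :
    symbol x = mk F n (PiTensorProduct.tprod ℤ (addTuple x)) := rfl

theorem addTuple_update {n : ℕ} (x : Fin n → Fˣ) (i : Fin n) (a : Fˣ) :
    addTuple (Function.update x i a) = Function.update (addTuple x) i (Additive.ofMul a) := by
  funext j
  unfold addTuple
  by_cases h : j = i
  · subst h; simp
  · simp [Function.update_of_ne h]

theorem symbol_update_mul {n : ℕ} (x : Fin n → Fˣ) (i : Fin n) (a b : Fˣ) :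
    symbol (Function.update x i (a * b)) =
      symbol (Function.update x i a) + symbol (Function.update x i b) := by
  simp only [symbol_def, addTuple_update, ofMul_mul]
  rw [MultilinearMap.map_update_add, map_add]

theorem symbol_update_one {n : ℕ} (x : Fin n → Fˣ) (i : Fin n) :
    symbol (Function.update x i 1) = 0 := by
  have h := symbol_update_mul x i 1 1
  rw [mul_one] at h
  exact left_eq_add.mp h

theorem symbol_eq_zero_of_eq_one {n : ℕ} (x : Fin n → Fˣ) (i : Fin n) (h : x i = 1) :
    symbol x = 0 := by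
  have : x = Function.update x i 1 := by rw [← h, Function.update_eq_self]
  rw [this]
  exact symbol_update_one x i

theorem symbol_update_inv {n : ℕ} (x : Fin n → Fˣ) (i : Fin n) (a : Fˣ) :
    symbol (Function.update x i a⁻¹) = - symbol (Function.update x i a) := by
  have h := symbol_update_mul x i a a⁻¹
  rw [mul_inv_cancel, symbol_update_one] at h
  exact eq_neg_of_add_eq_zero_right h.symm

theorem symbol_update_pow {n : ℕ} (x : Fin n → Fˣ) (i : Fin n) (a : Fˣ) (m : ℕ) :
    symbol (Function.update x i (a ^ m)) = m • symbol (Function.update x i a) := by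
  induction m with
  | zero => simp [symbol_update_one]
  | succ m ih => rw [pow_succ, symbol_update_mul, ih, succ_nsmul]

theorem symbol_update_zpow {n : ℕ} (x : Fin n → Fˣ) (i : Fin n) (a : Fˣ) (m : ℤ) :
    symbol (Function.update x i (a ^ m)) = m • symbol (Function.update x i a) := by
  cases m with
  | ofNat m => simpa using symbol_update_pow x i a m
  | negSucc m =>
    rw [zpow_negSucc, symbol_update_inv, symbol_update_pow, negSucc_zsmul]

/-- `K F n` is generated by symbols. -/
theorem closure_symbol (n : ℕ) :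
    AddSubgroup.closure (Set.range (symbol : (Fin n → Fˣ) → K F n)) = ⊤ := by
  rw [eq_top_iff]
  intro z hz
  clear hz
  obtain ⟨t, rfl⟩ := mk_surjective F n z
  induction t using PiTensorProduct.induction_on with
  | smul_tprod r f =>
    rw [map_zsmul]
    apply AddSubgroup.zsmul_mem
    apply AddSubgroup.subset_closure
    exact ⟨fun i => (f i).toMul, rfl⟩
  | add x y hx hy =>
    rw [map_add]
    exact AddSubgroup.add_mem _ hx hy

@[elab_as_elim]
theorem K_induction {n : ℕ} {P : K F n → Prop} (z : K F n) (h0 : P 0)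
    (hs : ∀ x : Fin n → Fˣ, P (symbol x)) (hadd : ∀ a b, P a → P b → P (a + b))
    (hneg : ∀ a, P a → P (-a)) : P z := by
  have hz : z ∈ AddSubgroup.closure (Set.range (symbol : (Fin n → Fˣ) → K F n)) := by
    rw [closure_symbol]; trivial
  induction hz using AddSubgroup.closure_induction with
  | mem x hx => obtain ⟨y, rfl⟩ := hx; exact hs y
  | zero => exact h0
  | add x y _ _ hx hy => exact hadd x y hx hy
  | neg x _ hx => exact hneg x hx

theorem hom_ext {n : ℕ} {M : Type w} [AddCommGroup M] {f g : K F n →+ M}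
    (h : ∀ x : Fin n → Fˣ, f (symbol x) = g (symbol x)) : f = g := by
  ext z
  induction z using K_induction with
  | h0 => simp
  | hs x => exact h x
  | hadd a b ha hb => rw [map_add, map_add, ha, hb]
  | hneg a ha => rw [map_neg, map_neg, ha]

end Basic


section Biadditive

variable {F : Type u} [Field F] {M : Type w} [AddCommGroup M] (f : Fˣ → Fˣ → M)
  (hl : ∀ a b c, f (a * b) c = f a c + f b c)
  (hr : ∀ a b c, f a (b * c) = f a b + f a c)
  (hs : ∀ a b : Fˣ, (a : F) + (b : F) = 1 → f a b = 0)

include hl in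
theorem ba_one_left (c : Fˣ) : f 1 c = 0 := by
  have h := hl 1 1 c
  rw [mul_one] at h
  exact left_eq_add.mp h

include hr in
theorem ba_one_right (a : Fˣ) : f a 1 = 0 := by
  have h := hr a 1 1
  rw [mul_one] at h
  exact left_eq_add.mp h

include hl in
theorem ba_inv_left (a c : Fˣ) : f a⁻¹ c = - f a c := by
  have h := hl a a⁻¹ c
  rw [mul_inv_cancel, ba_one_left f hl] at h
  exact eq_neg_of_add_eq_zero_right h.symm

include hr in
theorem ba_inv_right (a c : Fˣ) : f a c⁻¹ = - f a c := by
  have h := hr a c c⁻¹
  rw [mul_inv_cancel, ba_one_right f hr] at h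
  exact eq_neg_of_add_eq_zero_right h.symm

include hl hr hs in
theorem ba_neg_self (a : Fˣ) : f a (-a) = 0 := by
  by_cases h1 : a = 1
  · subst h1; exact ba_one_left f hl _
  have ha1 : (a : F) ≠ 1 := fun h => h1 (Units.ext h)
  have hp : (1 : F) - a ≠ 0 := sub_ne_zero.mpr (Ne.symm ha1)
  have hq : (1 : F) - (a⁻¹ : Fˣ) ≠ 0 := by
    rw [sub_ne_zero]
    intro h
    apply h1
    have : (a⁻¹ : Fˣ) = 1 := Units.ext h.symm
    simpa using this
  have hdecomp : -a = Units.mk0 _ hp * (Units.mk0 _ hq)⁻¹ := by
    apply Units.ext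
    simp only [Units.val_neg, Units.val_mul, Units.val_mk0, Units.val_inv_eq_inv_val]
    have ha0 : (a : F) ≠ 0 := a.ne_zero
    have hq' : (1 : F) - (a : F)⁻¹ ≠ 0 := by simpa using hq
    field_simp
    ring
  rw [hdecomp, hr, ba_inv_right f hr]
  have e1 : f a (Units.mk0 _ hp) = 0 := hs _ _ (by simp)
  have e2 : f a (Units.mk0 _ hq) = 0 := by
    have : f a⁻¹ (Units.mk0 _ hq) = 0 := hs _ _ (by simp)
    rw [ba_inv_left f hl] at this
    exact neg_eq_zero.mp this
  rw [e1, e2]
  simp

include hl hr hs in
theorem ba_antisymm (a b : Fˣ) : f a b = - f b a := by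
  have h := ba_neg_self f hl hr hs (a * b)
  have e1 : -(a * b) = (-a) * b := by rw [neg_mul]
  have e2 : -(a * b) = a * (-b) := by rw [mul_neg]
  rw [hl] at h
  nth_rewrite 1 [e1] at h
  rw [e2, hr, hr, ba_neg_self f hl hr hs a, ba_neg_self f hl hr hs b] at h
  simp only [zero_add, add_zero] at h
  exact eq_neg_of_add_eq_zero_left h

include hl hr hs in
theorem ba_self (a : Fˣ) : f a a = f a (-1) := by
  have e : a = (-a) * (-1) := by simp
  nth_rewrite 2 [e]
  rw [hr, ba_neg_self f hl hr hs, zero_add]

end Biadditive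


section General

variable {F : Type u} [Field F]

/-- the two-variable function obtained by varying entries `i` and `j` of a symbol -/
def sym2 {n : ℕ} (x : Fin n → Fˣ) (i j : Fin n) (a b : Fˣ) : K F n :=
  symbol (Function.update (Function.update x i a) j b)

theorem sym2_mul_left {n : ℕ} (x : Fin n → Fˣ) {i j : Fin n} (hij : i ≠ j) (a b c : Fˣ) :
    sym2 x i j (a * b) c = sym2 x i j a c + sym2 x i j b c := by
  unfold sym2
  have e : ∀ v : Fˣ, Function.update (Function.update x i v) j c =
      Function.update (Function.update x j c) i v := fun v => Function.update_comm hij v c x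
  rw [e, e, e, symbol_update_mul]

theorem sym2_mul_right {n : ℕ} (x : Fin n → Fˣ) (i j : Fin n) (a b c : Fˣ) :
    sym2 x i j a (b * c) = sym2 x i j a b + sym2 x i j a c := by
  unfold sym2
  rw [symbol_update_mul]

theorem sym2_steinberg {n : ℕ} (x : Fin n → Fˣ) {i j : Fin n} (hij : i ≠ j) (a b : Fˣ)
    (h : (a : F) + (b : F) = 1) : sym2 x i j a b = 0 := by
  unfold sym2
  apply symbol_eq_zero_of_isSteinberg
  rcases lt_or_gt_of_ne hij with hlt | hlt
  · refine ⟨i, j, hlt, ?_⟩
    rw [Function.update_of_ne hij, Function.update_self, Function.update_self]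
    exact h
  · refine ⟨j, i, hlt, ?_⟩
    rw [Function.update_of_ne hij, Function.update_self, Function.update_self, add_comm]
    exact h

theorem sym2_self_eq {n : ℕ} (x : Fin n → Fˣ) (i j : Fin n) :
    sym2 x i j (x i) (x j) = symbol x := by
  unfold sym2
  rw [Function.update_eq_self, Function.update_eq_self]

theorem sym2_neg_self {n : ℕ} (x : Fin n → Fˣ) {i j : Fin n} (hij : i ≠ j) (a : Fˣ) :
    sym2 x i j a (-a) = 0 :=
  ba_neg_self (sym2 x i j) (sym2_mul_left x hij) (sym2_mul_right x i j) (sym2_steinberg x hij) a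

theorem sym2_antisymm {n : ℕ} (x : Fin n → Fˣ) {i j : Fin n} (hij : i ≠ j) (a b : Fˣ) :
    sym2 x i j a b = - sym2 x i j b a :=
  ba_antisymm (sym2 x i j) (sym2_mul_left x hij) (sym2_mul_right x i j) (sym2_steinberg x hij) a b

theorem sym2_self {n : ℕ} (x : Fin n → Fˣ) {i j : Fin n} (hij : i ≠ j) (a : Fˣ) :
    sym2 x i j a a = sym2 x i j a (-1) :=
  ba_self (sym2 x i j) (sym2_mul_left x hij) (sym2_mul_right x i j) (sym2_steinberg x hij) a

/-- a symbol with entries `a` and `-a` at two different places vanishes -/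
theorem symbol_eq_zero_of_neg {n : ℕ} (x : Fin n → Fˣ) {i j : Fin n} (hij : i ≠ j)
    (h : x j = - x i) : symbol x = 0 := by
  rw [← sym2_self_eq x i j, h]
  exact sym2_neg_self x hij _

/-- swapping two entries of a symbol changes its sign -/
theorem symbol_swap {n : ℕ} (x : Fin n → Fˣ) {i j : Fin n} (hij : i ≠ j) :
    symbol (x ∘ Equiv.swap i j) = - symbol x := by
  have h1 : x ∘ Equiv.swap i j = Function.update (Function.update x i (x j)) j (x i) := by
    funext k
    by_cases hki : k = i
    · subst hki
      simp [Function.update_of_ne hij]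
    · by_cases hkj : k = j
      · subst hkj
        simp
      · simp [Equiv.swap_apply_of_ne_of_ne hki hkj, Function.update_of_ne hki,
          Function.update_of_ne hkj]
  rw [h1]
  change sym2 x i j (x j) (x i) = _
  rw [sym2_antisymm x hij, sym2_self_eq]

/-- permuting the entries of a symbol multiplies it by the sign of the permutation -/
theorem symbol_perm {n : ℕ} (x : Fin n → Fˣ) (σ : Equiv.Perm (Fin n)) :
    symbol (x ∘ σ) = (Equiv.Perm.sign σ : ℤ) • symbol x := by
  induction σ using Equiv.Perm.swap_induction_on generalizing x with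
  | one => simp
  | swap_mul σ i j hij ih =>
    have : x ∘ ⇑(Equiv.swap i j * σ) = (x ∘ Equiv.swap i j) ∘ σ := by
      funext k; simp
    rw [this, ih, symbol_swap x hij, Equiv.Perm.sign_mul, Equiv.Perm.sign_swap hij]
    simp

end General


section DegreeTwo

variable {F : Type u} [Field F]

/-- the symbol `{a, b}` in `K F 2` -/
def s2 (a b : Fˣ) : K F 2 := symbol ![a, b]

theorem s2_mul_left (a b c : Fˣ) : s2 (a * b) c = s2 a c + s2 b c := by
  have h := symbol_update_mul ![a, c] 0 a b
  have e : ∀ v : Fˣ, Function.update ![a, c] 0 v = ![v, c] := by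
    intro v; funext k; fin_cases k <;> simp
  rw [e, e, e] at h
  exact h

theorem s2_mul_right (a b c : Fˣ) : s2 a (b * c) = s2 a b + s2 a c := by
  have h := symbol_update_mul ![a, b] 1 b c
  have e : ∀ v : Fˣ, Function.update ![a, b] 1 v = ![a, v] := by
    intro v; funext k; fin_cases k <;> simp
  rw [e, e, e] at h
  exact h

theorem s2_steinberg (a b : Fˣ) (h : (a : F) + (b : F) = 1) : s2 a b = 0 :=
  symbol_eq_zero_of_isSteinberg _ ⟨0, 1, by decide, by simpa using h⟩

theorem s2_one_left (c : Fˣ) : s2 (1 : Fˣ) c = 0 := ba_one_left s2 s2_mul_left c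

theorem s2_one_right (a : Fˣ) : s2 a (1 : Fˣ) = 0 := ba_one_right s2 s2_mul_right a

theorem s2_inv_left (a c : Fˣ) : s2 a⁻¹ c = - s2 a c := ba_inv_left s2 s2_mul_left a c

theorem s2_inv_right (a c : Fˣ) : s2 a c⁻¹ = - s2 a c := ba_inv_right s2 s2_mul_right a c

theorem s2_neg_self (a : Fˣ) : s2 a (-a) = 0 :=
  ba_neg_self s2 s2_mul_left s2_mul_right s2_steinberg a

theorem s2_antisymm (a b : Fˣ) : s2 a b = - s2 b a :=
  ba_antisymm s2 s2_mul_left s2_mul_right s2_steinberg a b

theorem s2_self (a : Fˣ) : s2 a a = s2 a (-1) :=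
  ba_self s2 s2_mul_left s2_mul_right s2_steinberg a

end DegreeTwo


section RingValued

variable {F : Type u} [Field F] {E : Type w} [Ring E] (R : Fˣ → E)
  (hmul : ∀ a b, R (a * b) = R a + R b)
  (hst : ∀ a b : Fˣ, (a : F) + (b : F) = 1 → R a * R b = 0)

include hmul in
theorem rv_one : R 1 = 0 := by
  have h := hmul 1 1
  rw [mul_one] at h
  exact left_eq_add.mp h

include hmul in
theorem rv_inv (a : Fˣ) : R a⁻¹ = - R a := by
  have h := hmul a a⁻¹
  rw [mul_inv_cancel, rv_one R hmul] at h
  exact eq_neg_of_add_eq_zero_right h.symm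

include hmul in
theorem rv_zpow (a : Fˣ) (m : ℤ) : R (a ^ m) = m • R a := by
  have hnat : ∀ k : ℕ, R (a ^ k) = k • R a := by
    intro k
    induction k with
    | zero => simp [rv_one R hmul]
    | succ k ih => rw [pow_succ, hmul, ih, succ_nsmul]
  cases m with
  | ofNat m => simpa using hnat m
  | negSucc m => rw [zpow_negSucc, rv_inv R hmul, hnat, negSucc_zsmul]

include hmul hst in
theorem rv_neg_self (a : Fˣ) : R a * R (-a) = 0 :=
  ba_neg_self (fun a b => R a * R b) (fun a b c => by simp only [hmul, add_mul])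
    (fun a b c => by simp only [hmul, mul_add]) hst a

include hmul hst in
theorem rv_antisymm (a b : Fˣ) : R a * R b = - (R b * R a) :=
  ba_antisymm (fun a b => R a * R b) (fun a b c => by simp only [hmul, add_mul])
    (fun a b c => by simp only [hmul, mul_add]) hst a b

include hmul hst in
theorem rv_self (a : Fˣ) : R a * R a = R a * R (-1) :=
  ba_self (fun a b => R a * R b) (fun a b c => by simp only [hmul, add_mul])
    (fun a b c => by simp only [hmul, mul_add]) hst a

/-- ordered product of the values of `R` along a tuple -/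
def prodR {n : ℕ} (x : Fin n → Fˣ) : E := (List.ofFn fun k => R (x k)).prod

theorem prodR_succ {n : ℕ} (x : Fin (n + 1) → Fˣ) :
    prodR R x = R (x 0) * prodR R (Fin.tail x) := by
  unfold prodR
  rw [List.ofFn_succ, List.prod_cons]
  rfl

theorem prodR_zero (x : Fin 0 → Fˣ) : prodR R x = 1 := by
  unfold prodR
  simp

include hmul hst in
theorem rv_mul_prodR_eq_zero {m : ℕ} (a : Fˣ) (y : Fin m → Fˣ) (j : Fin m)
    (h : (a : F) + (y j : F) = 1) : R a * prodR R y = 0 := by
  induction m with
  | zero => exact j.elim0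
  | succ m ih =>
    rw [prodR_succ, ← mul_assoc]
    induction j using Fin.cases with
    | zero => rw [hst a (y 0) h, zero_mul]
    | succ j' =>
      rw [rv_antisymm R hmul hst, neg_mul, mul_assoc, ih (Fin.tail y) j' h, mul_zero, neg_zero]

include hmul hst in
theorem prodR_eq_zero_of_isSteinberg {n : ℕ} (x : Fin n → Fˣ) (h : IsSteinberg F x) :
    prodR R x = 0 := by
  induction n with
  | zero => obtain ⟨i, _⟩ := h; exact i.elim0
  | succ n ih =>
    obtain ⟨i, j, hij, hsum⟩ := h
    rw [prodR_succ]
    induction j using Fin.cases with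
    | zero => exact absurd hij (Fin.not_lt_zero i)
    | succ j' =>
      induction i using Fin.cases with
      | zero => exact rv_mul_prodR_eq_zero R hmul hst (x 0) (Fin.tail x) j' hsum
      | succ i' =>
        rw [ih (Fin.tail x) ⟨i', j', Fin.succ_lt_succ_iff.mp hij, hsum⟩, mul_zero]

/-- `R` as a `ℤ`-linear map on additively written units -/
def rvLin : Additive Fˣ →ₗ[ℤ] E :=
  AddMonoidHom.toIntLinearMap
    { toFun := fun a => R a.toMul
      map_zero' := rv_one R hmul
      map_add' := fun a b => hmul a.toMul b.toMul }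

/-- the multilinear map `x ↦ R x₀ * ⋯ * R xₙ₋₁` -/
def rvMulti (n : ℕ) : MultilinearMap ℤ (fun _ : Fin n => Additive Fˣ) E :=
  (MultilinearMap.mkPiAlgebraFin ℤ n E).compLinearMap fun _ => rvLin R hmul

theorem rvMulti_apply (n : ℕ) (x : Fin n → Fˣ) :
    rvMulti R hmul n (fun i => Additive.ofMul (x i)) = prodR R x := by
  unfold rvMulti prodR
  rw [MultilinearMap.compLinearMap_apply, MultilinearMap.mkPiAlgebraFin_apply]
  rfl

/-- the additive map `K F n → E` attached to a ring-valued Steinberg map -/
noncomputable def liftRing (n : ℕ) : K F n →+ E :=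
  lift (rvMulti R hmul n) (fun x hx => by
    rw [rvMulti_apply]; exact prodR_eq_zero_of_isSteinberg R hmul hst x hx)

theorem liftRing_symbol (n : ℕ) (x : Fin n → Fˣ) :
    liftRing R hmul hst n (symbol x) = prodR R x := by
  unfold liftRing
  rw [lift_symbol, rvMulti_apply]

end RingValued


section Cons

variable {F : Type u} [Field F]

/-- the multilinear map `x ↦ {x₀, …, xₙ}` -/
noncomputable def symMulti (n : ℕ) : MultilinearMap ℤ (fun _ : Fin n => Additive Fˣ) (K F n) :=
  (mk F n).toIntLinearMap.compMultilinearMap (PiTensorProduct.tprod ℤ)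

theorem symMulti_apply (n : ℕ) (x : Fin n → Fˣ) :
    symMulti n (fun i => Additive.ofMul (x i)) = symbol x := rfl

theorem isSteinberg_cons {n : ℕ} (a : Fˣ) (x : Fin n → Fˣ) (h : IsSteinberg F x) :
    IsSteinberg F (Fin.cons a x : Fin (n + 1) → Fˣ) := by
  obtain ⟨i, j, hij, hs⟩ := h
  exact ⟨i.succ, j.succ, Fin.succ_lt_succ_iff.mpr hij, by simpa using hs⟩

theorem cons_ofMul {n : ℕ} (a : Fˣ) (x : Fin n → Fˣ) :
    (Fin.cons (Additive.ofMul a) (fun i => Additive.ofMul (x i)) : Fin (n + 1) → Additive Fˣ) =
      fun i => Additive.ofMul ((Fin.cons a x : Fin (n + 1) → Fˣ) i) := by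
  funext i
  induction i using Fin.cases with
  | zero => simp
  | succ i => simp

/-- left multiplication by `{a}`: `{x₁, …, xₙ} ↦ {a, x₁, …, xₙ}` -/
noncomputable def consK (a : Fˣ) (n : ℕ) : K F n →+ K F (n + 1) :=
  lift ((symMulti (F := F) (n + 1)).curryLeft (Additive.ofMul a)) (fun x hx => by
    rw [MultilinearMap.curryLeft_apply, cons_ofMul, symMulti_apply]
    exact symbol_eq_zero_of_isSteinberg _ (isSteinberg_cons a x hx))

@[simp]
theorem consK_symbol (a : Fˣ) (n : ℕ) (x : Fin n → Fˣ) :
    consK a n (symbol x) = symbol (Fin.cons a x : Fin (n + 1) → Fˣ) := by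
  unfold consK
  rw [lift_symbol, MultilinearMap.curryLeft_apply, cons_ofMul, symMulti_apply]

theorem consK_mul (a b : Fˣ) (n : ℕ) : consK (a * b) n = consK a n + consK b n := by
  apply hom_ext
  intro x
  rw [AddMonoidHom.add_apply, consK_symbol, consK_symbol, consK_symbol]
  have h := symbol_update_mul (Fin.cons a x : Fin (n + 1) → Fˣ) 0 a b
  rw [Fin.update_cons_zero, Fin.update_cons_zero, Fin.update_cons_zero] at h
  exact h

theorem consK_consK_steinberg (a b : Fˣ) (h : (a : F) + (b : F) = 1) (n : ℕ) (z : K F n) :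
    consK a (n + 1) (consK b n z) = 0 := by
  induction z using K_induction with
  | h0 => simp
  | hs x =>
    rw [consK_symbol, consK_symbol]
    apply symbol_eq_zero_of_isSteinberg
    exact ⟨0, 1, by simp, by simpa using h⟩
  | hadd p q hp hq => rw [map_add, map_add, hp, hq, add_zero]
  | hneg p hp => rw [map_neg, map_neg, hp, neg_zero]

variable (F) in
/-- the graded group `∏ₙ K F n` -/
abbrev KSeq : Type u := ∀ n : ℕ, K F n

/-- the shift operator on `KSeq F` given by left multiplication by `{a}` -/
noncomputable def shiftOp (a : Fˣ) : AddMonoid.End (KSeq F) where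
  toFun s := fun n => match n with
    | 0 => 0
    | (m + 1) => consK a m (s m)
  map_zero' := by
    funext n
    cases n with
    | zero => rfl
    | succ m => simp
  map_add' s t := by
    funext n
    cases n with
    | zero => simp
    | succ m => simp

theorem shiftOp_apply_zero (a : Fˣ) (s : KSeq F) : shiftOp a s 0 = 0 := rfl

theorem shiftOp_apply_succ (a : Fˣ) (s : KSeq F) (m : ℕ) :
    shiftOp a s (m + 1) = consK a m (s m) := rfl

theorem End_mul_apply {M : Type w} [AddCommGroup M] (f g : AddMonoid.End M) (x : M) :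
    (f * g) x = f (g x) := rfl

theorem End_add_apply {M : Type w} [AddCommGroup M] (f g : AddMonoid.End M) (x : M) :
    (f + g) x = f x + g x := rfl

theorem End_zero_apply {M : Type w} [AddCommGroup M] (x : M) :
    (0 : AddMonoid.End M) x = 0 := rfl

theorem End_neg_apply {M : Type w} [AddCommGroup M] (f : AddMonoid.End M) (x : M) :
    (-f) x = - f x := rfl

theorem End_one_apply {M : Type w} [AddCommGroup M] (x : M) :
    (1 : AddMonoid.End M) x = x := rfl

theorem shiftOp_mul (a b : Fˣ) : shiftOp (a * b) = (shiftOp a + shiftOp b : AddMonoid.End (KSeq F)) := by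
  ext s n
  cases n with
  | zero => simp [End_add_apply, shiftOp_apply_zero]
  | succ m =>
    simp only [End_add_apply, Pi.add_apply, shiftOp_apply_succ, consK_mul,
      AddMonoidHom.add_apply]

theorem shiftOp_steinberg (a b : Fˣ) (h : (a : F) + (b : F) = 1) :
    (shiftOp a * shiftOp b : AddMonoid.End (KSeq F)) = 0 := by
  ext s n
  cases n with
  | zero => simp [End_mul_apply, End_zero_apply, shiftOp_apply_zero]
  | succ m =>
    cases m with
    | zero => simp [End_mul_apply, End_zero_apply, shiftOp_apply_succ, shiftOp_apply_zero]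
    | succ k =>
      simp only [End_mul_apply, shiftOp_apply_succ, End_zero_apply, Pi.zero_apply]
      exact consK_consK_steinberg a b h k (s k)

/-- the unit sequence: the empty symbol in degree zero, zero elsewhere -/
noncomputable def oneSeq : KSeq F := fun n => match n with
  | 0 => symbol (Fin.elim0 : Fin 0 → Fˣ)
  | (_ + 1) => 0

theorem prodR_shiftOp_oneSeq {n : ℕ} (a : Fin n → Fˣ) :
    (prodR (shiftOp (F := F)) a) oneSeq n = symbol a := by
  induction n with
  | zero =>
    rw [prodR_zero]
    change symbol (Fin.elim0 : Fin 0 → Fˣ) = symbol a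
    congr 1
    funext i
    exact i.elim0
  | succ n ih =>
    rw [prodR_succ, End_mul_apply, shiftOp_apply_succ, ih, consK_symbol]
    congr 1
    exact Fin.cons_self_tail a

end Cons


section Extension

/-! Extension of a ring-valued Steinberg map on a residue field `κ` to a field `L` with a
discrete valuation, given an element `T` playing the role of the class of a uniformizer. -/

variable {κ : Type u} [Field κ] {E : Type w} [Ring E] (U : κˣ → E) (T : E)
  (hU : ∀ a b, U (a * b) = U a + U b)
  (hUst : ∀ a b : κˣ, (a : κ) + (b : κ) = 1 → U a * U b = 0)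
  (hTT : T * T = T * U (-1))
  (hUT : ∀ a, U a * T = -(T * U a))

/-- the value attached to an element of valuation `i` and residue class `a` -/
def extVal (i : ℤ) (a : κˣ) : E := U a + i • T

include hU in
theorem extVal_add (i j : ℤ) (a b : κˣ) :
    extVal U T (i + j) (a * b) = extVal U T i a + extVal U T j b := by
  unfold extVal
  rw [hU, add_smul]
  abel

include hU in
theorem extVal_zero_one : extVal U T 0 1 = 0 := by
  unfold extVal
  rw [rv_one U hU, zero_smul, add_zero]

include hU hUst hTT hUT in
theorem extVal_mul_neg (i : ℤ) (a : κˣ) : extVal U T i a * extVal U T i (-a) = 0 := by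
  unfold extVal
  have h1 : U a * U (-a) = 0 := rv_neg_self U hU hUst a
  have h2 : U (-a) = U (-1) + U a := by rw [← hU]; simp
  have h3 : U (-1) + U (-1) = 0 := by rw [← hU]; simp [rv_one U hU]
  have h4 : T * U (-1) + T * U (-1) = 0 := by rw [← mul_add, h3, mul_zero]
  rw [add_mul, mul_add, mul_add, h1, zero_add, mul_smul_comm, smul_mul_assoc, smul_mul_assoc,
    mul_smul_comm, hUT, hTT, h2, mul_add]
  obtain ⟨k, hk⟩ : ∃ k : ℤ, i + i * i = k + k := by
    have := Int.even_mul_succ_self i
    obtain ⟨k, hk⟩ := this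
    exact ⟨k, by rw [← hk]; ring⟩
  have h5 : i • -(T * U a) + (i • (T * U (-1) + T * U a) + i • i • (T * U (-1))) =
      (i + i * i) • (T * U (-1)) := by
    rw [smul_neg, smul_add, smul_smul, add_smul]
    abel
  rw [h5, hk, add_smul, ← smul_add, h4, smul_zero]

end Extension

end Groth.Agent.Lib.Helper29
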