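import Groth.Agent.Lib.Helper29MilK
import Mathlib.RingTheory.DiscreteValuationRing.Basic
import Mathlib.RingTheory.Localization.FractionRing
import Mathlib.RingTheory.LocalRing.ResidueField.Basic
import Mathlib.Data.Matrix.Basic
import Mathlib.Data.Matrix.Mul

/-!
Milnor K-theory of the fraction field of a discrete valuation ring: decomposition of units,
tame symbol and specialization map (helper29).
-/

universe u v w

namespace Groth.Agent.Lib.Helper29

open MilK

section Decomp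

variable (A : Type u) [CommRing A] [IsDomain A] [IsDiscreteValuationRing A]
  (L : Type v) [Field L] [Algebra A L] [IsFractionRing A L] (ϖ : A) (hϖ : Irreducible ϖ)

theorem coe_unitToFrac (u : Aˣ) : ((unitToFrac A L u : Lˣ) : L) = algebraMap A L (u : A) := rfl

theorem exists_decomp (x : Lˣ) :
    ∃ (i : ℤ) (u : Aˣ), x = unitFrac A L ϖ hϖ.ne_zero ^ i * unitToFrac A L u := by
  obtain ⟨a, b, hb, hx⟩ := IsFractionRing.div_surjective (A := A) (x : L)
  have hb0 : b ≠ 0 := nonZeroDivisors.ne_zero hb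
  have ha0 : a ≠ 0 := by
    rintro rfl
    rw [map_zero, zero_div] at hx
    exact x.ne_zero hx.symm
  obtain ⟨m, u, hu⟩ := IsDiscreteValuationRing.eq_unit_mul_pow_irreducible ha0 hϖ
  obtain ⟨n, v, hv⟩ := IsDiscreteValuationRing.eq_unit_mul_pow_irreducible hb0 hϖ
  refine ⟨(m : ℤ) - n, u * v⁻¹, ?_⟩
  apply Units.ext
  have hπ : algebraMap A L ϖ ≠ 0 := (unitFrac A L ϖ hϖ.ne_zero).ne_zero
  have hvne : algebraMap A L (v : A) ≠ 0 := (unitToFrac A L v).ne_zero
  rw [← hx, hu, hv]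
  simp only [Units.val_mul, Units.val_zpow_eq_zpow_val, coe_unitFrac, coe_unitToFrac, map_mul,
    map_pow]
  rw [zpow_sub₀ hπ, zpow_natCast, zpow_natCast]
  have hvinv : algebraMap A L ((v⁻¹ : Aˣ) : A) = (algebraMap A L (v : A))⁻¹ :=
    eq_inv_of_mul_eq_one_left (by rw [← map_mul, Units.inv_mul, map_one])
  rw [hvinv]
  field_simp

theorem decomp_unique {i j : ℤ} {u v : Aˣ}
    (h : unitFrac A L ϖ hϖ.ne_zero ^ i * unitToFrac A L u =
      unitFrac A L ϖ hϖ.ne_zero ^ j * unitToFrac A L v) : i = j ∧ u = v := by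
  have hinj : Function.Injective (algebraMap A L) := IsFractionRing.injective A L
  have key : ∀ (k : ℕ) (w : Aˣ), unitFrac A L ϖ hϖ.ne_zero ^ (k : ℤ) = unitToFrac A L w → k = 0 := by
    intro k w hk
    have h1 := congrArg (fun z : Lˣ => (z : L)) hk
    simp only [zpow_natCast, Units.val_pow_eq_pow_val, coe_unitFrac, coe_unitToFrac] at h1
    rw [← map_pow] at h1
    have h2 : ϖ ^ k = (w : A) := hinj h1
    by_contra hk0
    have : IsUnit (ϖ ^ k) := h2 ▸ w.isUnit
    exact hϖ.not_isUnit ((isUnit_pow_iff hk0).mp this)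
  have hU : Function.Injective (unitToFrac A L) := by
    intro a b hab
    apply Units.ext
    apply hinj
    exact congrArg (fun z : Lˣ => (z : L)) hab
  have gen : ∀ (p a b : Lˣ) (i j : ℤ), p ^ i * a = p ^ j * b → p ^ (i - j) = b * a⁻¹ := by
    intro p a b i j h
    calc p ^ (i - j) = p ^ i * a * a⁻¹ * (p ^ j)⁻¹ := by rw [zpow_sub, mul_inv_cancel_right]
      _ = p ^ j * b * a⁻¹ * (p ^ j)⁻¹ := by rw [h]
      _ = b * a⁻¹ := by
        rw [mul_assoc (p ^ j), mul_comm (p ^ j), mul_inv_cancel_right]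
  have hij : i = j := by
    rcases le_total j i with hle | hle
    · obtain ⟨k, hk⟩ := Int.eq_ofNat_of_zero_le (sub_nonneg.mpr hle)
      have : unitFrac A L ϖ hϖ.ne_zero ^ (k : ℤ) = unitToFrac A L (v * u⁻¹) := by
        rw [← hk, map_mul, map_inv]
        exact gen _ _ _ _ _ h
      have := key k _ this
      omega
    · obtain ⟨k, hk⟩ := Int.eq_ofNat_of_zero_le (sub_nonneg.mpr hle)
      have : unitFrac A L ϖ hϖ.ne_zero ^ (k : ℤ) = unitToFrac A L (u * v⁻¹) := by
        rw [← hk, map_mul, map_inv]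
        exact gen _ _ _ _ _ h.symm
      have := key k _ this
      omega
  refine ⟨hij, ?_⟩
  subst hij
  exact hU (mul_left_cancel h)

end Decomp


section OrdRes

variable (A : Type u) [CommRing A] [IsDomain A] [IsDiscreteValuationRing A]
  (L : Type v) [Field L] [Algebra A L] [IsFractionRing A L] (ϖ : A) (hϖ : Irreducible ϖ)

/-- the valuation of a unit of the fraction field -/
noncomputable def ordPi (x : Lˣ) : ℤ := (exists_decomp A L ϖ hϖ x).choose

/-- the unit part of a unit of the fraction field, with respect to the uniformizer `ϖ` -/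
noncomputable def unitPi (x : Lˣ) : Aˣ := (exists_decomp A L ϖ hϖ x).choose_spec.choose

theorem decomp_spec (x : Lˣ) :
    x = unitFrac A L ϖ hϖ.ne_zero ^ ordPi A L ϖ hϖ x * unitToFrac A L (unitPi A L ϖ hϖ x) :=
  (exists_decomp A L ϖ hϖ x).choose_spec.choose_spec

theorem ordPi_unitPi_eq {x : Lˣ} {i : ℤ} {u : Aˣ}
    (h : x = unitFrac A L ϖ hϖ.ne_zero ^ i * unitToFrac A L u) :
    ordPi A L ϖ hϖ x = i ∧ unitPi A L ϖ hϖ x = u :=
  decomp_unique A L ϖ hϖ ((decomp_spec A L ϖ hϖ x).symm.trans h)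

theorem ordPi_mul (x y : Lˣ) :
    ordPi A L ϖ hϖ (x * y) = ordPi A L ϖ hϖ x + ordPi A L ϖ hϖ y ∧
      unitPi A L ϖ hϖ (x * y) = unitPi A L ϖ hϖ x * unitPi A L ϖ hϖ y := by
  apply ordPi_unitPi_eq
  nth_rewrite 1 [decomp_spec A L ϖ hϖ x, decomp_spec A L ϖ hϖ y]
  rw [zpow_add, map_mul]
  exact mul_mul_mul_comm _ _ _ _

/-- the residue class of the unit part -/
noncomputable def resPi (x : Lˣ) : (IsLocalRing.ResidueField A)ˣ :=
  unitResidue A (unitPi A L ϖ hϖ x)

theorem resPi_mul (x y : Lˣ) :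
    resPi A L ϖ hϖ (x * y) = resPi A L ϖ hϖ x * resPi A L ϖ hϖ y := by
  unfold resPi
  rw [(ordPi_mul A L ϖ hϖ x y).2, map_mul]

theorem coe_unitResidue (u : Aˣ) :
    ((unitResidue A u : (IsLocalRing.ResidueField A)ˣ) : IsLocalRing.ResidueField A) =
      IsLocalRing.residue A (u : A) := rfl

theorem ordPi_unit (u : Aˣ) :
    ordPi A L ϖ hϖ (unitToFrac A L u) = 0 ∧ unitPi A L ϖ hϖ (unitToFrac A L u) = u := by
  apply ordPi_unitPi_eq
  simp

theorem ordPi_zpow_mul_unit (i : ℤ) (u : Aˣ) :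
    ordPi A L ϖ hϖ (unitFrac A L ϖ hϖ.ne_zero ^ i * unitToFrac A L u) = i ∧
      unitPi A L ϖ hϖ (unitFrac A L ϖ hϖ.ne_zero ^ i * unitToFrac A L u) = u :=
  ordPi_unitPi_eq A L ϖ hϖ rfl

theorem coe_decomp (i : ℤ) (u : Aˣ) :
    ((unitFrac A L ϖ hϖ.ne_zero ^ i * unitToFrac A L u : Lˣ) : L) =
      algebraMap A L ϖ ^ i * algebraMap A L (u : A) := by
  rw [Units.val_mul, Units.val_zpow_eq_zpow_val, coe_unitFrac, coe_unitToFrac]

theorem coe_eq_decomp (x : Lˣ) :
    (x : L) = algebraMap A L ϖ ^ (ordPi A L ϖ hϖ x) * algebraMap A L (unitPi A L ϖ hϖ x : A) := by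
  rw [← coe_decomp A L ϖ hϖ, ← decomp_spec]

include hϖ in
theorem residue_pi_pow_mul {k : ℕ} (hk : 0 < k) (a : A) :
    IsLocalRing.residue A (ϖ ^ k * a) = 0 := by
  rw [IsLocalRing.residue_eq_zero_iff]
  apply Ideal.mul_mem_right
  apply Ideal.pow_mem_of_mem _ _ _ hk
  exact (IsLocalRing.mem_maximalIdeal _).mpr hϖ.not_isUnit

/-- positive valuation: the Steinberg partner is a unit congruent to one -/
theorem steinberg_pos {x y : Lˣ} (h : (x : L) + (y : L) = 1) (hx : 0 < ordPi A L ϖ hϖ x) :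
    ordPi A L ϖ hϖ y = 0 ∧ resPi A L ϖ hϖ y = 1 := by
  obtain ⟨k, hk⟩ := Int.eq_ofNat_of_zero_le hx.le
  have hk0 : 0 < k := by omega
  set u := unitPi A L ϖ hϖ x
  have hxe : (x : L) = algebraMap A L (ϖ ^ k * (u : A)) := by
    rw [coe_eq_decomp A L ϖ hϖ x, hk, zpow_natCast, map_mul, map_pow]
  have hnu : ϖ ^ k * (u : A) ∈ nonunits A := by
    rw [← IsLocalRing.mem_maximalIdeal]
    apply Ideal.mul_mem_right
    apply Ideal.pow_mem_of_mem _ _ _ hk0
    exact (IsLocalRing.mem_maximalIdeal _).mpr hϖ.not_isUnit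
  have hw : IsUnit (1 - ϖ ^ k * (u : A)) := IsLocalRing.isUnit_one_sub_self_of_mem_nonunits _ hnu
  obtain ⟨w, hw⟩ := hw
  have hy : y = unitFrac A L ϖ hϖ.ne_zero ^ (0 : ℤ) * unitToFrac A L w := by
    apply Units.ext
    simp only [zpow_zero, one_mul, coe_unitToFrac, hw]
    rw [map_sub, map_one, ← hxe]
    exact (eq_sub_of_add_eq' h)
  obtain ⟨h1, h2⟩ := ordPi_unitPi_eq A L ϖ hϖ hy
  refine ⟨h1, ?_⟩
  apply Units.ext
  unfold resPi
  rw [h2, coe_unitResidue, hw, map_sub, map_one, residue_pi_pow_mul A ϖ hϖ hk0, sub_zero]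
  rfl

/-- negative valuation: the Steinberg partner has the same valuation and opposite residue -/
theorem steinberg_neg {x y : Lˣ} (h : (x : L) + (y : L) = 1) (hx : ordPi A L ϖ hϖ x < 0) :
    ordPi A L ϖ hϖ y = ordPi A L ϖ hϖ x ∧ resPi A L ϖ hϖ y = - resPi A L ϖ hϖ x := by
  obtain ⟨k, hk⟩ := Int.eq_ofNat_of_zero_le (neg_nonneg.mpr hx.le)
  have hk0 : 0 < k := by omega
  set u := unitPi A L ϖ hϖ x with hu
  have hπ : algebraMap A L ϖ ≠ 0 := (unitFrac A L ϖ hϖ.ne_zero).ne_zero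
  have hi : ordPi A L ϖ hϖ x = -(k : ℤ) := by omega
  have hxe : (x : L) = (algebraMap A L ϖ ^ k)⁻¹ * algebraMap A L (u : A) := by
    rw [coe_eq_decomp A L ϖ hϖ x, hi, zpow_neg, zpow_natCast]
  have hw' : IsUnit (ϖ ^ k - (u : A)) := by
    have h1 : IsUnit (1 - ϖ ^ k * ((u⁻¹ : Aˣ) : A)) :=
      IsLocalRing.isUnit_one_sub_self_of_mem_nonunits _ (by
        rw [← IsLocalRing.mem_maximalIdeal]
        apply Ideal.mul_mem_right
        apply Ideal.pow_mem_of_mem _ _ _ hk0
        exact (IsLocalRing.mem_maximalIdeal _).mpr hϖ.not_isUnit)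
    have h2 : ϖ ^ k - (u : A) = -((u : A) * (1 - ϖ ^ k * ((u⁻¹ : Aˣ) : A))) := by
      have : (u : A) * ((u⁻¹ : Aˣ) : A) = 1 := Units.mul_inv u
      linear_combination (-(ϖ ^ k)) * this
    rw [h2]
    exact (u.isUnit.mul h1).neg
  obtain ⟨w, hw⟩ := hw'
  have hy : y = unitFrac A L ϖ hϖ.ne_zero ^ (ordPi A L ϖ hϖ x) * unitToFrac A L w := by
    apply Units.ext
    rw [coe_decomp A L ϖ hϖ, hw, hi, zpow_neg, zpow_natCast, map_sub, map_pow]
    have hy' : (y : L) = 1 - (x : L) := eq_sub_of_add_eq' h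
    rw [hy', hxe]
    have : algebraMap A L ϖ ^ k ≠ 0 := pow_ne_zero _ hπ
    field_simp
  obtain ⟨h1, h2⟩ := ordPi_unitPi_eq A L ϖ hϖ hy
  refine ⟨h1, ?_⟩
  apply Units.ext
  unfold resPi
  rw [h2, Units.val_neg, coe_unitResidue, coe_unitResidue, hw, map_sub]
  have : IsLocalRing.residue A (ϖ ^ k) = 0 := by
    have := residue_pi_pow_mul A ϖ hϖ hk0 1
    rwa [mul_one] at this
  rw [this, zero_sub]

theorem steinberg_zero {x y : Lˣ} (h : (x : L) + (y : L) = 1) (hx : ordPi A L ϖ hϖ x = 0)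
    (hy : ordPi A L ϖ hϖ y = 0) :
    ((resPi A L ϖ hϖ x : (IsLocalRing.ResidueField A)ˣ) : IsLocalRing.ResidueField A) +
      (resPi A L ϖ hϖ y : (IsLocalRing.ResidueField A)ˣ) = 1 := by
  have hinj : Function.Injective (algebraMap A L) := IsFractionRing.injective A L
  have h1 := coe_eq_decomp A L ϖ hϖ x
  have h2 := coe_eq_decomp A L ϖ hϖ y
  rw [hx, zpow_zero, one_mul] at h1
  rw [hy, zpow_zero, one_mul] at h2
  rw [h1, h2, ← map_add] at h
  have h3 : ((unitPi A L ϖ hϖ x : Aˣ) : A) + (unitPi A L ϖ hϖ y : Aˣ) = 1 := by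
    apply hinj
    rw [h, map_one]
  unfold resPi
  rw [coe_unitResidue, coe_unitResidue, ← map_add, h3, map_one]

theorem steinberg_cases {x y : Lˣ} (h : (x : L) + (y : L) = 1) :
    (ordPi A L ϖ hϖ y = 0 ∧ resPi A L ϖ hϖ y = 1) ∨
    (ordPi A L ϖ hϖ x = 0 ∧ resPi A L ϖ hϖ x = 1) ∨
    (ordPi A L ϖ hϖ x = 0 ∧ ordPi A L ϖ hϖ y = 0 ∧
      ((resPi A L ϖ hϖ x : (IsLocalRing.ResidueField A)ˣ) : IsLocalRing.ResidueField A) +
        (resPi A L ϖ hϖ y : (IsLocalRing.ResidueField A)ˣ) = 1) ∨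
    (ordPi A L ϖ hϖ y = ordPi A L ϖ hϖ x ∧ resPi A L ϖ hϖ y = - resPi A L ϖ hϖ x) := by
  have h' : (y : L) + (x : L) = 1 := by rw [add_comm]; exact h
  rcases lt_trichotomy (ordPi A L ϖ hϖ x) 0 with hx | hx | hx
  · right; right; right
    exact steinberg_neg A L ϖ hϖ h hx
  · rcases lt_trichotomy (ordPi A L ϖ hϖ y) 0 with hy | hy | hy
    · exfalso
      have := (steinberg_neg A L ϖ hϖ h' hy).1
      omega
    · right; right; left
      exact ⟨hx, hy, steinberg_zero A L ϖ hϖ h hx hy⟩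
    · right; left
      exact steinberg_pos A L ϖ hϖ h' hy
  · left
    exact steinberg_pos A L ϖ hϖ h hx

end OrdRes


section Model

variable (κ : Type u) [Field κ]

/-- endomorphisms of the graded group of Milnor K-groups -/
abbrev E0 : Type u := AddMonoid.End (KSeq κ)

/-- two by two matrices over `E0` -/
abbrev M2 : Type u := Matrix (Fin 2) (Fin 2) (E0 κ)

/-- the matrix of multiplication by `{a}` on `K ⊕ ξ K` -/
noncomputable def Umat (a : κˣ) : M2 κ := !![shiftOp a, 0; 0, -shiftOp a]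

/-- the matrix of multiplication by `ξ` on `K ⊕ ξ K` -/
noncomputable def Tmat : M2 κ := !![0, 0; 1, shiftOp (-1)]

theorem shiftOp_antisymm (a b : κˣ) :
    (shiftOp a * shiftOp b : E0 κ) = -(shiftOp b * shiftOp a) :=
  rv_antisymm shiftOp shiftOp_mul shiftOp_steinberg a b

theorem shiftOp_neg_one_add : (shiftOp (-1) + shiftOp (-1) : E0 κ) = 0 := by
  rw [← shiftOp_mul]
  simp [rv_one shiftOp (shiftOp_mul (F := κ))]

omit [Field κ] in
theorem ring_aux1 {R : Type w} [Ring R] {x y : R} (h : x * y = 0) : -x * -y = 0 := by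
  rw [neg_mul_neg, h]

omit [Field κ] in
theorem ring_aux2 {R : Type w} [Ring R] {x : R} (h : x * x = -(x * x)) : x * x = x * -x := by
  rw [mul_neg]; exact h

omit [Field κ] in
theorem ring_aux3 {R : Type w} [Ring R] {x y : R} (h : x * y = -(y * x)) :
    -x * y = -(y * -x) := by
  rw [neg_mul, mul_neg, neg_neg, h, neg_neg]

theorem Umat_mul (a b : κˣ) : Umat κ (a * b) = Umat κ a + Umat κ b := by
  unfold Umat
  refine Matrix.ext fun i j => ?_
  fin_cases i <;> fin_cases j <;> simp [shiftOp_mul]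
  abel

theorem Umat_steinberg (a b : κˣ) (h : (a : κ) + (b : κ) = 1) : Umat κ a * Umat κ b = 0 := by
  unfold Umat
  refine Matrix.ext fun i j => ?_
  have h0 := shiftOp_steinberg a b h
  fin_cases i <;> fin_cases j <;>
    simp [Matrix.mul_apply, Fin.sum_univ_two, h0]
  exact ring_aux1 h0

theorem Tmat_sq : Tmat κ * Tmat κ = Tmat κ * Umat κ (-1) := by
  unfold Tmat Umat
  have h := shiftOp_neg_one_add κ
  have h2 : (shiftOp (-1) * shiftOp (-1) : E0 κ) + shiftOp (-1) * shiftOp (-1) = 0 := by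
    rw [← mul_add, h, mul_zero]
  have h3 := eq_neg_of_add_eq_zero_left h2
  refine Matrix.ext fun i j => ?_
  fin_cases i <;> fin_cases j <;> simp [Matrix.mul_apply, Fin.sum_univ_two]
  exact ring_aux2 h3

theorem Umat_Tmat (a : κˣ) : Umat κ a * Tmat κ = -(Tmat κ * Umat κ a) := by
  unfold Tmat Umat
  have h3 := shiftOp_antisymm κ a (-1)
  refine Matrix.ext fun i j => ?_
  fin_cases i <;> fin_cases j <;> simp [Matrix.mul_apply, Fin.sum_univ_two]
  exact ring_aux3 h3

theorem prodR_Umat {n : ℕ} (a : Fin n → κˣ) :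
    (prodR (Umat κ) a) 0 0 = prodR (shiftOp (F := κ)) a ∧ (prodR (Umat κ) a) 1 0 = 0 := by
  induction n with
  | zero => simp [prodR_zero]
  | succ n ih =>
    obtain ⟨h1, h2⟩ := ih (Fin.tail a)
    rw [prodR_succ, prodR_succ]
    constructor
    · rw [Matrix.mul_apply, Fin.sum_univ_two, h1, h2]
      simp [Umat]
    · rw [Matrix.mul_apply, Fin.sum_univ_two, h2]
      simp [Umat]

theorem prodR_lower {F : Type v} [Field F] (R : Fˣ → M2 κ) (hR : ∀ x, R x 0 1 = 0) {n : ℕ}
    (x : Fin n → Fˣ) :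
    (prodR R x) 0 0 = prodR (fun y => R y 0 0) x ∧ (prodR R x) 0 1 = 0 := by
  induction n with
  | zero => simp [prodR_zero]
  | succ n ih =>
    obtain ⟨h1, h2⟩ := ih (Fin.tail x)
    rw [prodR_succ, prodR_succ]
    constructor
    · rw [Matrix.mul_apply, Fin.sum_univ_two, h1, hR]
      simp
    · rw [Matrix.mul_apply, Fin.sum_univ_two, h2, hR]
      simp

end Model


theorem extVal_zero {κ : Type u} [Field κ] {E : Type w} [Ring E] (U : κˣ → E) (T : E) (a : κˣ) :
    extVal U T 0 a = U a := by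
  unfold extVal
  rw [zero_zsmul, add_zero]

section Tame

variable (A : Type u) [CommRing A] [IsDomain A] [IsDiscreteValuationRing A]
  (L : Type v) [Field L] [Algebra A L] [IsFractionRing A L] (ϖ : A) (hϖ : Irreducible ϖ)

/-- the matrix attached to a unit of the fraction field -/
noncomputable def dvrR (x : Lˣ) : M2 (IsLocalRing.ResidueField A) :=
  extVal (Umat (IsLocalRing.ResidueField A)) (Tmat (IsLocalRing.ResidueField A))
    (ordPi A L ϖ hϖ x) (resPi A L ϖ hϖ x)

theorem dvrR_mul (x y : Lˣ) : dvrR A L ϖ hϖ (x * y) = dvrR A L ϖ hϖ x + dvrR A L ϖ hϖ y := by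
  unfold dvrR
  rw [(ordPi_mul A L ϖ hϖ x y).1, resPi_mul, extVal_add _ _ (Umat_mul _)]

theorem dvrR_steinberg (x y : Lˣ) (h : (x : L) + (y : L) = 1) :
    dvrR A L ϖ hϖ x * dvrR A L ϖ hϖ y = 0 := by
  unfold dvrR
  rcases steinberg_cases A L ϖ hϖ h with ⟨h1, h2⟩ | ⟨h1, h2⟩ | ⟨h1, h2, h3⟩ | ⟨h1, h2⟩
  · rw [h1, h2, extVal_zero_one _ _ (Umat_mul _), mul_zero]
  · rw [h1, h2, extVal_zero_one _ _ (Umat_mul _), zero_mul]
  · rw [h1, h2, extVal_zero, extVal_zero]
    exact Umat_steinberg _ _ _ h3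
  · rw [h1, h2]
    exact extVal_mul_neg _ _ (Umat_mul _) (Umat_steinberg _) (Tmat_sq _) (Umat_Tmat _) _ _

/-- the additive map from `K L n` to matrices -/
noncomputable def dvrPsi (n : ℕ) : K L n →+ M2 (IsLocalRing.ResidueField A) :=
  liftRing (dvrR A L ϖ hϖ) (dvrR_mul A L ϖ hϖ) (dvrR_steinberg A L ϖ hϖ) n

theorem dvrPsi_symbol (n : ℕ) (x : Fin n → Lˣ) :
    dvrPsi A L ϖ hϖ n (symbol x) = prodR (dvrR A L ϖ hϖ) x :=
  liftRing_symbol _ _ _ n x

/-- the tame symbol -/
noncomputable def tameMap (n : ℕ) : K L (n + 1) →+ K (IsLocalRing.ResidueField A) n where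
  toFun α := ((dvrPsi A L ϖ hϖ (n + 1) α) 1 0) oneSeq n
  map_zero' := by
    rw [map_zero]
    rfl
  map_add' α β := by
    rw [map_add]
    rfl

/-- the specialization map -/
noncomputable def specMap (n : ℕ) : K L n →+ K (IsLocalRing.ResidueField A) n where
  toFun α := ((dvrPsi A L ϖ hϖ n α) 0 0) oneSeq n
  map_zero' := by
    rw [map_zero]
    rfl
  map_add' α β := by
    rw [map_add]
    rfl

theorem tameMap_symbol (n : ℕ) (x : Fin (n + 1) → Lˣ) :
    tameMap A L ϖ hϖ n (symbol x) = ((prodR (dvrR A L ϖ hϖ) x) 1 0) oneSeq n := by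
  change ((dvrPsi A L ϖ hϖ (n + 1) (symbol x)) 1 0) oneSeq n = _
  rw [dvrPsi_symbol]

theorem specMap_symbol' (n : ℕ) (x : Fin n → Lˣ) :
    specMap A L ϖ hϖ n (symbol x) = ((prodR (dvrR A L ϖ hϖ) x) 0 0) oneSeq n := by
  change ((dvrPsi A L ϖ hϖ n (symbol x)) 0 0) oneSeq n = _
  rw [dvrPsi_symbol]

theorem dvrR_unit (u : Aˣ) :
    dvrR A L ϖ hϖ (unitToFrac A L u) = Umat (IsLocalRing.ResidueField A) (unitResidue A u) := by
  unfold dvrR resPi
  rw [(ordPi_unit A L ϖ hϖ u).1, (ordPi_unit A L ϖ hϖ u).2, extVal_zero]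

theorem dvrR_entry_zero_one (x : Lˣ) : dvrR A L ϖ hϖ x 0 1 = 0 := by
  unfold dvrR extVal Umat Tmat
  simp

theorem dvrR_entry_zero_zero (x : Lˣ) :
    dvrR A L ϖ hϖ x 0 0 = shiftOp (resPi A L ϖ hϖ x) := by
  unfold dvrR extVal Umat Tmat
  simp

/-- the value of the specialization map on a symbol -/
theorem specMap_symbol (n : ℕ) (x : Fin n → Lˣ) :
    specMap A L ϖ hϖ n (symbol x) = symbol fun i => resPi A L ϖ hϖ (x i) := by
  rw [specMap_symbol', (prodR_lower _ (dvrR A L ϖ hϖ) (dvrR_entry_zero_one A L ϖ hϖ) x).1]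
  have : prodR (fun y => dvrR A L ϖ hϖ y 0 0) x =
      prodR (shiftOp (F := IsLocalRing.ResidueField A)) (fun i => resPi A L ϖ hϖ (x i)) := by
    unfold prodR
    congr 1
    apply congrArg
    funext k
    exact dvrR_entry_zero_zero A L ϖ hϖ (x k)
  rw [this, prodR_shiftOp_oneSeq]

theorem isSpecMap_specMap (n : ℕ) : IsSpecMap A L ϖ hϖ n (specMap A L ϖ hϖ n) := by
  intro e u
  rw [specMap_symbol]
  congr 1
  funext i
  unfold resPi
  rw [(ordPi_zpow_mul_unit A L ϖ hϖ (e i) (u i)).2]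

theorem unitFrac_eq_of_irreducible (ϖ' : A) (hϖ' : Irreducible ϖ') :
    ∃ w : Aˣ, unitFrac A L ϖ' hϖ'.ne_zero =
      unitFrac A L ϖ hϖ.ne_zero ^ (1 : ℤ) * unitToFrac A L w := by
  obtain ⟨w, hw⟩ := IsDiscreteValuationRing.associated_of_irreducible A hϖ hϖ'
  refine ⟨w, ?_⟩
  apply Units.ext
  rw [coe_decomp A L ϖ hϖ, zpow_one, coe_unitFrac, ← map_mul, hw]

/-- the value of the tame symbol on `{ϖ', u₁, …, uₙ}` -/
theorem isTameSymbol_tameMap (n : ℕ) : IsTameSymbol A L n (tameMap A L ϖ hϖ n) := by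
  intro ϖ' hϖ' u
  rw [tameMap_symbol, prodR_succ]
  obtain ⟨w, hw⟩ := unitFrac_eq_of_irreducible A L ϖ hϖ ϖ' hϖ'
  have hord := ordPi_unitPi_eq A L ϖ hϖ hw
  have htail : prodR (dvrR A L ϖ hϖ)
      (Fin.tail (Fin.cons (unitFrac A L ϖ' hϖ'.ne_zero) fun i => unitToFrac A L (u i) :
        Fin (n + 1) → Lˣ)) =
      prodR (Umat (IsLocalRing.ResidueField A)) (fun i => unitResidue A (u i)) := by
    rw [Fin.tail_cons]
    unfold prodR
    congr 1
    apply congrArg
    funext k
    exact dvrR_unit A L ϖ hϖ (u k)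
  rw [htail, Fin.cons_zero, Matrix.mul_apply, Fin.sum_univ_two,
    (prodR_Umat _ _).2, mul_zero, add_zero, (prodR_Umat _ _).1]
  have h10 : dvrR A L ϖ hϖ (unitFrac A L ϖ' hϖ'.ne_zero) 1 0 = 1 := by
    unfold dvrR extVal Umat Tmat
    rw [hord.1]
    simp
  rw [h10, one_mul, prodR_shiftOp_oneSeq]

end Tame


section Generation

variable (A : Type u) [CommRing A] [IsDomain A] [IsDiscreteValuationRing A]
  (L : Type v) [Field L] [Algebra A L] [IsFractionRing A L] (ϖ : A) (hϖ : Irreducible ϖ)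

/-- symbols all of whose entries are units of `A` -/
def unitSymbols (n : ℕ) : Set (K L n) :=
  {z | ∃ u : Fin n → Aˣ, z = symbol (fun i => unitToFrac A L (u i))}

/-- symbols `{ϖ, u₁, …, uₙ}` -/
def piSymbols (n : ℕ) : Set (K L (n + 1)) :=
  {z | ∃ u : Fin n → Aˣ,
    z = symbol (Fin.cons (unitFrac A L ϖ hϖ.ne_zero) fun i => unitToFrac A L (u i))}

theorem cons_unit {n : ℕ} (u0 : Aˣ) (u : Fin n → Aˣ) :
    (Fin.cons (unitToFrac A L u0) (fun i => unitToFrac A L (u i)) : Fin (n + 1) → Lˣ) =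
      fun i => unitToFrac A L ((Fin.cons u0 u : Fin (n + 1) → Aˣ) i) := by
  funext i
  induction i using Fin.cases with
  | zero => simp
  | succ i => simp

omit [IsDomain A] [IsDiscreteValuationRing A] [IsFractionRing A L] in
theorem unitToFrac_neg_one : unitToFrac A L (-1) = -1 := by
  apply Units.ext
  simp [unitToFrac]

theorem cons_cons_update {α : Type w} {n : ℕ} (a b a' b' : α) (t : Fin n → α) :
    Function.update (Function.update (Fin.cons a (Fin.cons b t) : Fin (n + 2) → α) 0 a') 1 b' =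
      Fin.cons a' (Fin.cons b' t) := by
  rw [Fin.update_cons_zero, show (1 : Fin (n + 2)) = Fin.succ 0 from rfl, ← Fin.cons_update,
    Fin.update_cons_zero]

theorem cons_cons_swap {α : Type w} {n : ℕ} (a b : α) (t : Fin n → α) :
    (Fin.cons a (Fin.cons b t) : Fin (n + 2) → α) ∘ Equiv.swap 0 1 =
      Fin.cons b (Fin.cons a t) := by
  funext i
  induction i using Fin.cases with
  | zero => simp
  | succ i =>
    induction i using Fin.cases with
    | zero =>
      have : (Fin.succ (0 : Fin (n + 1)) : Fin (n + 2)) = 1 := rfl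
      simp [this]
    | succ i =>
      have hne1 : (Fin.succ (Fin.succ i) : Fin (n + 2)) ≠ 1 := by
        intro h; exact absurd (congrArg Fin.val h) (by simp)
      have hne0 : (Fin.succ (Fin.succ i) : Fin (n + 2)) ≠ 0 := Fin.succ_ne_zero _
      simp [Equiv.swap_apply_of_ne_of_ne hne0 hne1]

theorem zero_ne_one_fin (n : ℕ) : (0 : Fin (n + 2)) ≠ 1 := by
  intro h; exact absurd (congrArg Fin.val h) (by simp)

theorem consK_zpow {F : Type v} [Field F] (a : Fˣ) (e : ℤ) (n : ℕ) :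
    consK (a ^ e) n = e • consK a n := by
  let f : Additive Fˣ →+ (K F n →+ K F (n + 1)) :=
    AddMonoidHom.mk' (fun a => consK a.toMul n) (fun a b => consK_mul _ _ n)
  have := map_zsmul f e (Additive.ofMul a)
  rw [← ofMul_zpow] at this
  exact this

/-- `{ϖ, ϖ, t} = {ϖ, -1, t}` -/
theorem symbol_pi_pi {F : Type v} [Field F] {n : ℕ} (p : Fˣ) (t : Fin n → Fˣ) :
    symbol (Fin.cons p (Fin.cons p t) : Fin (n + 2) → Fˣ) =
      symbol (Fin.cons p (Fin.cons (-1) t) : Fin (n + 2) → Fˣ) := by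
  have h1 := sym2_self (Fin.cons p (Fin.cons p t) : Fin (n + 2) → Fˣ) (zero_ne_one_fin n) p
  unfold sym2 at h1
  rw [cons_cons_update, cons_cons_update] at h1
  exact h1

/-- `{a, b, t} = -{b, a, t}` -/
theorem symbol_cons_cons_swap {F : Type v} [Field F] {n : ℕ} (a b : Fˣ) (t : Fin n → Fˣ) :
    symbol (Fin.cons a (Fin.cons b t) : Fin (n + 2) → Fˣ) =
      - symbol (Fin.cons b (Fin.cons a t) : Fin (n + 2) → Fˣ) := by
  have h := symbol_swap (Fin.cons b (Fin.cons a t) : Fin (n + 2) → Fˣ) (zero_ne_one_fin n)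
  rw [cons_cons_swap] at h
  exact h

theorem consK_mem_closure (n : ℕ) (y : Lˣ) (g : K L (n + 1))
    (hg : g ∈ AddSubgroup.closure (unitSymbols A L (n + 1) ∪ piSymbols A L ϖ hϖ n)) :
    consK y (n + 1) g ∈
      AddSubgroup.closure (unitSymbols A L (n + 2) ∪ piSymbols A L ϖ hϖ (n + 1)) := by
  obtain ⟨e, w, rfl⟩ := exists_decomp A L ϖ hϖ y
  rw [consK_mul, consK_zpow, AddMonoidHom.add_apply, AddMonoidHom.smul_apply]
  induction hg using AddSubgroup.closure_induction with
  | mem z hz =>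
    rcases hz with ⟨u, rfl⟩ | ⟨u, rfl⟩
    · apply AddSubgroup.add_mem
      · apply AddSubgroup.zsmul_mem
        apply AddSubgroup.subset_closure
        right
        rw [consK_symbol]
        exact ⟨u, rfl⟩
      · apply AddSubgroup.subset_closure
        left
        rw [consK_symbol, cons_unit]
        exact ⟨_, rfl⟩
    · apply AddSubgroup.add_mem
      · apply AddSubgroup.zsmul_mem
        rw [consK_symbol, symbol_pi_pi, ← unitToFrac_neg_one A L, cons_unit]
        apply AddSubgroup.subset_closure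
        right
        exact ⟨_, rfl⟩
      · rw [consK_symbol, symbol_cons_cons_swap, cons_unit]
        apply AddSubgroup.neg_mem
        apply AddSubgroup.subset_closure
        right
        exact ⟨_, rfl⟩
  | zero => simp
  | add a b _ _ ha hb =>
    rw [map_add, map_add, smul_add]
    have : e • (consK (unitFrac A L ϖ hϖ.ne_zero) (n + 1)) a +
        e • (consK (unitFrac A L ϖ hϖ.ne_zero) (n + 1)) b +
        ((consK ((unitToFrac A L) w) (n + 1)) a + (consK ((unitToFrac A L) w) (n + 1)) b) =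
        (e • (consK (unitFrac A L ϖ hϖ.ne_zero) (n + 1)) a +
          (consK ((unitToFrac A L) w) (n + 1)) a) +
        (e • (consK (unitFrac A L ϖ hϖ.ne_zero) (n + 1)) b +
          (consK ((unitToFrac A L) w) (n + 1)) b) := by abel
    rw [this]
    exact AddSubgroup.add_mem _ ha hb
  | neg a _ ha =>
    rw [map_neg, map_neg, smul_neg, ← neg_add]
    exact AddSubgroup.neg_mem _ ha

/-- `K L (n+1)` is generated by unit symbols and the symbols `{ϖ, u₁, …, uₙ}` -/
theorem closure_unit_pi (n : ℕ) :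
    AddSubgroup.closure (unitSymbols A L (n + 1) ∪ piSymbols A L ϖ hϖ n) = ⊤ := by
  induction n with
  | zero =>
    rw [eq_top_iff]
    intro z hz
    clear hz
    induction z using K_induction with
    | h0 => exact AddSubgroup.zero_mem _
    | hs x =>
      obtain ⟨e, w, hx⟩ := exists_decomp A L ϖ hϖ (x 0)
      have hx' : x = Function.update x 0 (unitFrac A L ϖ hϖ.ne_zero ^ e * unitToFrac A L w) := by
        rw [← hx, Function.update_eq_self]
      rw [hx', symbol_update_mul, symbol_update_zpow]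
      apply AddSubgroup.add_mem
      · apply AddSubgroup.zsmul_mem
        apply AddSubgroup.subset_closure
        right
        refine ⟨Fin.elim0, ?_⟩
        congr 1
        funext i
        have : i = 0 := by
          apply Fin.ext
          have := i.isLt
          simp only [Fin.val_zero]
          omega
        subst this
        simp
      · apply AddSubgroup.subset_closure
        left
        refine ⟨fun _ => w, ?_⟩
        congr 1
        funext i
        have : i = 0 := by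
          apply Fin.ext
          have := i.isLt
          simp only [Fin.val_zero]
          omega
        subst this
        simp
    | hadd a b ha hb => exact AddSubgroup.add_mem _ ha hb
    | hneg a ha => exact AddSubgroup.neg_mem _ ha
  | succ n ih =>
    rw [eq_top_iff]
    intro z hz
    clear hz
    induction z using K_induction with
    | h0 => exact AddSubgroup.zero_mem _
    | hs x =>
      have hx : symbol x = consK (x 0) (n + 1) (symbol (Fin.tail x)) := by
        rw [consK_symbol, Fin.cons_self_tail]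
      rw [hx]
      apply consK_mem_closure
      rw [ih]
      trivial
    | hadd a b ha hb => exact AddSubgroup.add_mem _ ha hb
    | hneg a ha => exact AddSubgroup.neg_mem _ ha

end Generation


section Uniqueness

variable (A : Type u) [CommRing A] [IsDomain A] [IsDiscreteValuationRing A]
  (L : Type v) [Field L] [Algebra A L] [IsFractionRing A L] (ϖ : A) (hϖ : Irreducible ϖ)

include hϖ in
/-- a tame symbol vanishes on symbols of units -/
theorem tame_unit_symbol {n : ℕ} (d : K L (n + 1) →+ K (IsLocalRing.ResidueField A) n)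
    (hd : IsTameSymbol A L n d) (u : Fin (n + 1) → Aˣ) :
    d (symbol fun i => unitToFrac A L (u i)) = 0 := by
  have hirr : Irreducible (ϖ * (u 0 : A)) := by
    have : Associated ϖ (ϖ * (u 0 : A)) := ⟨u 0, rfl⟩
    exact this.irreducible hϖ
  have hmulU : unitFrac A L (ϖ * (u 0 : A)) hirr.ne_zero =
      unitFrac A L ϖ hϖ.ne_zero * unitToFrac A L (u 0) := by
    apply Units.ext
    simp [coe_unitToFrac]
  set t : Fin n → Lˣ := fun i => unitToFrac A L (Fin.tail u i) with ht
  have h1 := hd (ϖ * (u 0 : A)) hirr (Fin.tail u)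
  have h2 := hd ϖ hϖ (Fin.tail u)
  have h3 := symbol_update_mul (Fin.cons (unitFrac A L ϖ hϖ.ne_zero) t : Fin (n + 1) → Lˣ) 0
    (unitFrac A L ϖ hϖ.ne_zero) (unitToFrac A L (u 0))
  rw [Fin.update_cons_zero, Fin.update_cons_zero, Fin.update_cons_zero, ← hmulU] at h3
  have h4 := congrArg d h3
  rw [map_add, h1, h2] at h4
  have h5 : d (symbol (Fin.cons (unitToFrac A L (u 0)) t : Fin (n + 1) → Lˣ)) = 0 :=
    left_eq_add.mp h4
  have h6 : (Fin.cons (unitToFrac A L (u 0)) t : Fin (n + 1) → Lˣ) =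
      fun i => unitToFrac A L (u i) := by
    rw [ht, cons_unit, Fin.cons_self_tail]
  rw [h6] at h5
  exact h5

/-- any tame symbol is the constructed one -/
theorem tame_unique {n : ℕ} (d : K L (n + 1) →+ K (IsLocalRing.ResidueField A) n)
    (hd : IsTameSymbol A L n d) : d = tameMap A L ϖ hϖ n := by
  ext z
  have hz : z ∈ AddSubgroup.closure (unitSymbols A L (n + 1) ∪ piSymbols A L ϖ hϖ n) := by
    rw [closure_unit_pi]; trivial
  induction hz using AddSubgroup.closure_induction with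
  | mem z hz =>
    rcases hz with ⟨u, rfl⟩ | ⟨u, rfl⟩
    · rw [tame_unit_symbol A L ϖ hϖ d hd, tame_unit_symbol A L ϖ hϖ _ (isTameSymbol_tameMap A L ϖ hϖ n)]
    · rw [hd ϖ hϖ u, isTameSymbol_tameMap A L ϖ hϖ n ϖ hϖ u]
  | zero => simp
  | add a b _ _ ha hb => rw [map_add, map_add, ha, hb]
  | neg a _ ha => rw [map_neg, map_neg, ha]

/-- any specialization map is the constructed one -/
theorem spec_unique {n : ℕ} (s : K L n →+ K (IsLocalRing.ResidueField A) n)
    (hs : IsSpecMap A L ϖ hϖ n s) : s = specMap A L ϖ hϖ n := by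
  apply hom_ext
  intro x
  have hx : x = fun i => unitFrac A L ϖ hϖ.ne_zero ^ (ordPi A L ϖ hϖ (x i)) *
      unitToFrac A L (unitPi A L ϖ hϖ (x i)) := by
    funext i
    exact decomp_spec A L ϖ hϖ (x i)
  rw [hx, hs, isSpecMap_specMap A L ϖ hϖ n]

end Uniqueness

end Groth.Agent.Lib.Helper29
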