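import Groth.Agent.Lib.Helper29MilKDvr

/-!
Milnor K-theory: products with degree one symbols, values of the tame symbol (helper29).
-/

universe u v w

namespace Groth.Agent.Lib.Helper29

open MilK

section Mul

variable {F : Type u} [Field F]

theorem append_one_cast {α : Type w} {n : ℕ} (a : α) (t : Fin n → α) :
    (Fin.append ![a] t) ∘ Fin.cast (Nat.add_comm 1 n).symm = (Fin.cons a t : Fin (n + 1) → α) := by
  funext i
  induction i using Fin.cases with
  | zero =>
    have : Fin.cast (Nat.add_comm 1 n).symm (0 : Fin (n + 1)) = Fin.castAdd n (0 : Fin 1) := by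
      apply Fin.ext; simp
    simp only [Function.comp_apply, this, Fin.append_left, Fin.cons_zero]
    rfl
  | succ j =>
    have : Fin.cast (Nat.add_comm 1 n).symm (Fin.succ j) = Fin.natAdd 1 j := by
      apply Fin.ext; simp [Nat.add_comm]
    simp only [Function.comp_apply, this, Fin.append_right, Fin.cons_succ]

/-- left multiplication by a degree one symbol is `consK` -/
theorem cast_mul_symbol_one (a : Fˣ) (n : ℕ) (z : K F n) :
    MilK.cast F (Nat.add_comm 1 n) (MilK.mul F 1 n (symbol ![a]) z) = consK a n z := by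
  induction z using K_induction with
  | h0 => simp
  | hs x => rw [mul_symbol_symbol, cast_symbol, append_one_cast, consK_symbol]
  | hadd p q hp hq => rw [map_add, map_add, map_add, hp, hq]
  | hneg p hp => rw [map_neg, map_neg, map_neg, hp]

/-- degree one symbols -/
def s1 (a : Fˣ) : K F 1 := symbol ![a]

theorem s1_mul (a b : Fˣ) : s1 (a * b) = s1 a + s1 b := by
  have h := symbol_update_mul ![a] 0 a b
  have e : ∀ v : Fˣ, Function.update ![a] 0 v = ![v] := by
    intro v; funext k; fin_cases k; simp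
  rw [e, e, e] at h
  exact h

theorem s1_zpow (a : Fˣ) (m : ℤ) : s1 (a ^ m) = m • s1 a := by
  have h := symbol_update_zpow ![a] 0 a m
  have e : ∀ v : Fˣ, Function.update ![a] 0 v = ![v] := by
    intro v; funext k; fin_cases k; simp
  rw [e, e] at h
  exact h

theorem consK_zero_oneSeq (a : Fˣ) : consK a 0 (oneSeq 0) = s1 a := by
  change consK a 0 (symbol (Fin.elim0 : Fin 0 → Fˣ)) = symbol ![a]
  rw [consK_symbol]
  congr 1

theorem End_zsmul_apply {M : Type w} [AddCommGroup M] (i : ℤ) (f : AddMonoid.End M) (x : M) :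
    (i • f) x = i • f x := by
  induction i using Int.induction_on with
  | zero => simp
  | succ k ih => rw [add_smul, add_smul, End_add_apply, ih, one_smul, one_smul]
  | pred k ih =>
    rw [sub_smul, sub_smul, sub_eq_add_neg, End_add_apply, ih, one_smul, one_smul, End_neg_apply,
      sub_eq_add_neg]

theorem ring_mul_neg {R : Type w} [Ring R] (x y : R) : x * -y = -(x * y) := mul_neg x y

end Mul

section TameValues

variable (A : Type u) [CommRing A] [IsDomain A] [IsDiscreteValuationRing A]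
  (L : Type v) [Field L] [Algebra A L] [IsFractionRing A L] (ϖ : A) (hϖ : Irreducible ϖ)

/-- the value of any tame symbol on a symbol -/
theorem tame_symbol_eq {n : ℕ} (d : K L (n + 1) →+ K (IsLocalRing.ResidueField A) n)
    (hd : IsTameSymbol A L n d) (x : Fin (n + 1) → Lˣ) :
    d (symbol x) = ((prodR (dvrR A L ϖ hϖ) x) 1 0) oneSeq n := by
  rw [tame_unique A L ϖ hϖ d hd, tameMap_symbol]

theorem dvrR_zpow_mul_unit (i : ℤ) (u : Aˣ) :
    dvrR A L ϖ hϖ (unitFrac A L ϖ hϖ.ne_zero ^ i * unitToFrac A L u) =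
      extVal (Umat (IsLocalRing.ResidueField A)) (Tmat (IsLocalRing.ResidueField A)) i
        (unitResidue A u) := by
  unfold dvrR resPi
  rw [(ordPi_zpow_mul_unit A L ϖ hϖ i u).1, (ordPi_zpow_mul_unit A L ϖ hϖ i u).2]

theorem extVal_entries (κ : Type u) [Field κ] (i : ℤ) (a : κˣ) :
    extVal (Umat κ) (Tmat κ) i a 0 0 = shiftOp a ∧
    extVal (Umat κ) (Tmat κ) i a 0 1 = 0 ∧
    extVal (Umat κ) (Tmat κ) i a 1 0 = i • (1 : E0 κ) ∧
    extVal (Umat κ) (Tmat κ) i a 1 1 = -shiftOp a + i • shiftOp (-1) := by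
  unfold extVal Umat Tmat
  simp

/-- the tame symbol in degree two -/
theorem tame_symbol_two (d : K L 2 →+ K (IsLocalRing.ResidueField A) 1)
    (hd : IsTameSymbol A L 1 d) (i j : ℤ) (u u' : Aˣ) :
    d (symbol ![unitFrac A L ϖ hϖ.ne_zero ^ i * unitToFrac A L u,
        unitFrac A L ϖ hϖ.ne_zero ^ j * unitToFrac A L u']) =
      i • s1 (unitResidue A u') - j • s1 (unitResidue A u) + (i * j) • s1 (-1) := by
  rw [tame_symbol_eq A L ϖ hϖ d hd, prodR_succ, prodR_succ, prodR_zero, mul_one]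
  simp only [Matrix.cons_val_zero, Fin.tail, Matrix.cons_val_succ, Matrix.cons_val_fin_one]
  rw [dvrR_zpow_mul_unit, dvrR_zpow_mul_unit, Matrix.mul_apply, Fin.sum_univ_two]
  obtain ⟨-, -, a3, a4⟩ := extVal_entries (IsLocalRing.ResidueField A) i (unitResidue A u)
  obtain ⟨b1, -, b3, -⟩ := extVal_entries (IsLocalRing.ResidueField A) j (unitResidue A u')
  rw [a3, a4, b1, b3]
  simp only [End_add_apply, End_mul_apply, End_zsmul_apply, End_neg_apply, End_one_apply,
    Pi.add_apply, Pi.neg_apply, Pi.smul_apply, shiftOp_apply_succ, consK_zero_oneSeq, map_zsmul]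
  rw [smul_add, smul_neg, smul_smul, mul_comm j i]
  abel

theorem dvrPsi_consK (a : Lˣ) (n : ℕ) (z : K L n) :
    dvrPsi A L ϖ hϖ (n + 1) (consK a n z) = dvrR A L ϖ hϖ a * dvrPsi A L ϖ hϖ n z := by
  induction z using K_induction with
  | h0 => simp
  | hs x =>
    rw [consK_symbol, dvrPsi_symbol, dvrPsi_symbol, prodR_succ]
    simp
  | hadd p q hp hq => rw [map_add, map_add, map_add, hp, hq, mul_add]
  | hneg p hp =>
    rw [map_neg, map_neg, map_neg, hp]
    exact (ring_mul_neg _ _).symm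

theorem tameMap_consK (a : Lˣ) (n : ℕ) (z : K L n) :
    tameMap A L ϖ hϖ n (consK a n z) =
      (dvrR A L ϖ hϖ a 1 0 * dvrPsi A L ϖ hϖ n z 0 0 +
        dvrR A L ϖ hϖ a 1 1 * dvrPsi A L ϖ hϖ n z 1 0) oneSeq n := by
  change ((dvrPsi A L ϖ hϖ (n + 1) (consK a n z)) 1 0) oneSeq n = _
  rw [dvrPsi_consK, Matrix.mul_apply, Fin.sum_univ_two]

theorem dvrR_neg_pi :
    dvrR A L ϖ hϖ (-unitFrac A L ϖ hϖ.ne_zero) =
      extVal (Umat (IsLocalRing.ResidueField A)) (Tmat (IsLocalRing.ResidueField A)) 1 (-1) := by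
  have h : -unitFrac A L ϖ hϖ.ne_zero = unitFrac A L ϖ hϖ.ne_zero ^ (1 : ℤ) * unitToFrac A L (-1) := by
    rw [unitToFrac_neg_one]; simp
  rw [h, dvrR_zpow_mul_unit]
  congr 1

/-- the specialization map is `x ↦ ∂({-π} x)` -/
theorem tame_neg_pi (n : ℕ) (d : K L (n + 1) →+ K (IsLocalRing.ResidueField A) n)
    (hd : IsTameSymbol A L n d) (s : K L n →+ K (IsLocalRing.ResidueField A) n)
    (hs : IsSpecMap A L ϖ hϖ n s) (x : K L n) :
    d (consK (-unitFrac A L ϖ hϖ.ne_zero) n x) = s x := by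
  rw [tame_unique A L ϖ hϖ d hd, spec_unique A L ϖ hϖ s hs, tameMap_consK, dvrR_neg_pi]
  obtain ⟨-, -, a3, a4⟩ := extVal_entries (IsLocalRing.ResidueField A) 1 (-1)
  rw [a3, a4, one_smul, one_smul, neg_add_cancel, zero_mul, add_zero, one_mul]
  rfl

include hϖ in
/-- `∂({u} ρ) = -{ū} ∂ρ` for a unit `u` -/
theorem tame_unit_consK (n : ℕ) (d : K L (n + 1) →+ K (IsLocalRing.ResidueField A) n)
    (hd : IsTameSymbol A L n d) (d' : K L (n + 1 + 1) →+ K (IsLocalRing.ResidueField A) (n + 1))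
    (hd' : IsTameSymbol A L (n + 1) d') (u : Aˣ) (ρ : K L (n + 1)) :
    d' (consK (unitToFrac A L u) (n + 1) ρ) = -consK (unitResidue A u) n (d ρ) := by
  rw [tame_unique A L ϖ hϖ d hd, tame_unique A L ϖ hϖ d' hd', tameMap_consK, dvrR_unit]
  have h1 : Umat (IsLocalRing.ResidueField A) (unitResidue A u) 1 0 = 0 := by simp [Umat]
  have h2 : Umat (IsLocalRing.ResidueField A) (unitResidue A u) 1 1 = -shiftOp (unitResidue A u) := by
    simp [Umat]
  rw [h1, h2, zero_mul, zero_add, End_mul_apply, End_neg_apply]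
  rfl

/-- the tame symbol of `{a, u₁, …, uₙ}` with the `uᵢ` units -/
theorem tame_cons_units {n : ℕ} (d : K L (n + 1) →+ K (IsLocalRing.ResidueField A) n)
    (hd : IsTameSymbol A L n d) (a : Lˣ) (u : Fin n → Aˣ) :
    d (symbol (Fin.cons a fun i => unitToFrac A L (u i))) =
      ordPi A L ϖ hϖ a • symbol (fun i => unitResidue A (u i)) := by
  set t : Fin n → Lˣ := fun i => unitToFrac A L (u i) with ht
  have h1 := symbol_update_mul (Fin.cons a t : Fin (n + 1) → Lˣ) 0
    (unitFrac A L ϖ hϖ.ne_zero ^ ordPi A L ϖ hϖ a) (unitToFrac A L (unitPi A L ϖ hϖ a))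
  have h2 := symbol_update_zpow (Fin.cons a t : Fin (n + 1) → Lˣ) 0
    (unitFrac A L ϖ hϖ.ne_zero) (ordPi A L ϖ hϖ a)
  rw [Fin.update_cons_zero, Fin.update_cons_zero] at h2
  rw [Fin.update_cons_zero, Fin.update_cons_zero, Fin.update_cons_zero, ← decomp_spec, h2] at h1
  rw [h1, map_add, map_zsmul, hd ϖ hϖ u, ht, cons_unit, tame_unit_symbol A L ϖ hϖ d hd, add_zero]

end TameValues

end Groth.Agent.Lib.Helper29
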