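import Mathlib
set_option autoImplicit false

namespace Groth.Agent.Lib.Helper29.PosInv

open scoped ComplexConjugate

theorem adjoint_eigen {V : Type*} [AddCommGroup V] [Module ℚ V] [FiniteDimensional ℚ V]
    (B : LinearMap.BilinForm ℚ V) (hsymm : B.IsSymm) (hpos : ∀ x : V, x ≠ 0 → 0 < B x x)
    (T T' : V →ₗ[ℚ] V) (hadj : ∀ x y, B (T x) y = B x (T' y))
    (ρ : V →ₗ[ℚ] ℂ) (hρ : ρ ≠ 0) (l l' : ℂ) (hl : ∀ x, ρ (T x) = l * ρ x)
    (hl' : ∀ x, ρ (T' x) = l' * ρ x) :
    l' = conj l := by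
  classical
  obtain ⟨v, hv⟩ := LinearMap.BilinForm.exists_orthogonal_basis (LinearMap.BilinForm.isSymm_iff.mp hsymm)
  have hc : ∀ i, 0 < B (v i) (v i) := fun i => hpos _ (v.ne_zero i)
  have hrepr : ∀ (x : V) (k : Fin (Module.finrank ℚ V)), v.repr x k = B x (v k) / B (v k) (v k) := by
    intro x k
    have h1 : B x (v k) = v.repr x k * B (v k) (v k) := by
      conv_lhs => rw [← v.sum_repr x]
      rw [map_sum, LinearMap.sum_apply, Finset.sum_eq_single k]
      · rw [map_smul, LinearMap.smul_apply, smul_eq_mul]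
      · intro i _ hik
        rw [map_smul, LinearMap.smul_apply, hv hik, smul_zero]
      · intro h
        exact absurd (Finset.mem_univ k) h
    rw [h1, mul_div_cancel_right₀ _ (hc k).ne']
  have hρx : ∀ x : V, ρ x = ∑ i, ((B x (v i) / B (v i) (v i) : ℚ) : ℂ) * ρ (v i) := by
    intro x
    conv_lhs => rw [← v.sum_repr x]
    rw [map_sum]
    refine Finset.sum_congr rfl (fun i _ => ?_)
    rw [map_smul, hrepr, Rat.smul_def]
  have hr : ∃ i, ρ (v i) ≠ 0 := by
    by_contra h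
    push Not at h
    apply hρ
    apply v.ext
    intro i
    simpa using h i
  -- the positive real number S
  have hS : (∑ i, ρ (v i) * conj (ρ (v i)) / ((B (v i) (v i) : ℚ) : ℂ)) ≠ 0 := by
    have h1 : ∀ i, ρ (v i) * conj (ρ (v i)) / ((B (v i) (v i) : ℚ) : ℂ) =
        ((Complex.normSq (ρ (v i)) / ((B (v i) (v i) : ℚ) : ℝ) : ℝ) : ℂ) := by
      intro i
      rw [Complex.mul_conj]
      push_cast
      rfl
    simp_rw [h1]
    rw [← Complex.ofReal_sum]
    rw [Ne, Complex.ofReal_eq_zero]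
    apply ne_of_gt
    obtain ⟨i0, hi0⟩ := hr
    apply Finset.sum_pos'
    · intro i _
      apply div_nonneg (Complex.normSq_nonneg _)
      exact_mod_cast (hc i).le
    · refine ⟨i0, Finset.mem_univ _, ?_⟩
      apply div_pos (Complex.normSq_pos.mpr hi0)
      exact_mod_cast hc i0
  apply mul_right_cancel₀ hS
  rw [Finset.mul_sum, Finset.mul_sum]
  -- left side
  have hL : ∀ j, l' * (ρ (v j) * conj (ρ (v j)) / ((B (v j) (v j) : ℚ) : ℂ)) =
      ∑ i, ((B (T (v i)) (v j) : ℚ) : ℂ) * ρ (v i) * conj (ρ (v j)) /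
        (((B (v i) (v i) : ℚ) : ℂ) * ((B (v j) (v j) : ℚ) : ℂ)) := by
    intro j
    rw [← mul_div_assoc, ← mul_assoc, ← hl', hρx (T' (v j)), Finset.sum_mul, Finset.sum_div]
    refine Finset.sum_congr rfl (fun i _ => ?_)
    have : B (T' (v j)) (v i) = B (T (v i)) (v j) := by
      rw [hsymm.eq, hadj]
    rw [this]
    push_cast
    field_simp
  have hR : ∀ i, conj l * (ρ (v i) * conj (ρ (v i)) / ((B (v i) (v i) : ℚ) : ℂ)) =
      ∑ j, ((B (T (v i)) (v j) : ℚ) : ℂ) * ρ (v i) * conj (ρ (v j)) /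
        (((B (v i) (v i) : ℚ) : ℂ) * ((B (v j) (v j) : ℚ) : ℂ)) := by
    intro i
    have h1 : conj l * conj (ρ (v i)) = conj (ρ (T (v i))) := by
      rw [hl, map_mul]
    have h2 : conj l * (ρ (v i) * conj (ρ (v i)) / ((B (v i) (v i) : ℚ) : ℂ)) =
        ρ (v i) * (conj l * conj (ρ (v i))) / ((B (v i) (v i) : ℚ) : ℂ) := by ring
    rw [h2, h1, hρx (T (v i)), map_sum, Finset.mul_sum, Finset.sum_div]
    refine Finset.sum_congr rfl (fun j _ => ?_)
    rw [map_mul, map_ratCast]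
    push_cast
    field_simp
  simp_rw [hL, hR]
  exact Finset.sum_comm

end Groth.Agent.Lib.Helper29.PosInv
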