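import Mathlib
import Groth.Agent.Lib.Helper29GrLocz
import Groth.Agent.Lib.Helper29GrUnitCM
import Groth.Agent.Lib.Helper5TensorFieldsCM

/-! Local rings of `Proj` of a Cohen–Macaulay graded ring are Cohen–Macaulay (helper29). -/

set_option autoImplicit false
set_option linter.style.haveILetI false
universe u
open DirectSum

namespace Groth.Agent.Lib.Helper29.ProjCM

open Groth.Agent.Lib.Helper29 Groth.Agent.Lib.Helper29.GrLocz

variable {A : Type u} [CommRing A] (𝒜 : ℕ → AddSubgroup A) [GradedRing 𝒜]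
variable (p : Ideal A) [p.IsPrime]

/-- data of a homogeneous unit of minimal positive degree in the graded localization. -/
theorem exists_min_unit (hirr : ∃ d : ℕ, 0 < d ∧ ∃ f ∈ 𝒜 d, f ∉ p) :
    ∃ (N : ℕ) (_ : 0 < N) (t : (Localization (Sp 𝒜 p))ˣ),
      ((t : Localization (Sp 𝒜 p)) ∈ grd 𝒜 (Sp 𝒜 p) (Sp_hom 𝒜 p) (N : ℤ)) ∧
      ∀ (n : ℤ), 0 < n → n < (N : ℤ) → ∀ s ∈ grd 𝒜 (Sp 𝒜 p) (Sp_hom 𝒜 p) n, ¬ IsUnit s := by
  classical
  have hex : ∃ n : ℕ, 0 < n ∧ ∃ s ∈ grd 𝒜 (Sp 𝒜 p) (Sp_hom 𝒜 p) (n : ℤ), IsUnit s := by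
    obtain ⟨d, hd, f, hf, hfp⟩ := hirr
    refine ⟨d, hd, algebraMap A (Localization (Sp 𝒜 p)) f, algebraMap_mem 𝒜 _ _ hf, ?_⟩
    exact IsLocalization.map_units (Localization (Sp 𝒜 p)) (⟨f, hfp, ⟨d, hf⟩⟩ : Sp 𝒜 p)
  obtain ⟨hN, s, hs, hsu⟩ := Nat.find_spec hex
  refine ⟨Nat.find hex, hN, hsu.unit, by rw [IsUnit.unit_spec]; exact hs, ?_⟩
  intro n hn0 hnN s' hs' hsu'
  have hlt : n.toNat < Nat.find hex := by omega
  apply Nat.find_min hex hlt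
  refine ⟨by omega, s', ?_, hsu'⟩
  rwa [Int.toNat_of_nonneg hn0.le]

/-- `A_(p)` is Cohen–Macaulay when `A` is. -/
theorem isCohenMacaulayLocalRing_atPrime [hA : LocCoh.IsCohenMacaulayRing A]
    (hirr : ∃ d : ℕ, 0 < d ∧ ∃ f ∈ 𝒜 d, f ∉ p) :
    LocCoh.IsCohenMacaulayLocalRing (HomogeneousLocalization.AtPrime 𝒜 p) := by
  haveI : IsLocalRing (SetLike.GradeZero.subring (grd 𝒜 (Sp 𝒜 p) (Sp_hom 𝒜 p))) :=
    (atPrimeEquiv 𝒜 p).isLocalRing
  haveI : LocCoh.IsCohenMacaulayRing (Localization (Sp 𝒜 p)) :=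
    Groth.Agent.Lib.Helper5.TensorFieldsCM.isCohenMacaulayRing_of_isLocalization (Sp 𝒜 p) _
  obtain ⟨N, hN, t, ht, hmin⟩ := exists_min_unit 𝒜 p hirr
  haveI := GrUnitCM.isCohenMacaulayLocalRing_deg0 (grd 𝒜 (Sp 𝒜 p) (Sp_hom 𝒜 p)) N hN t ht hmin
  exact Groth.Agent.Lib.Helper28.isCohenMacaulayLocalRing_of_ringEquiv (atPrimeEquiv 𝒜 p).symm

open AlgebraicGeometry in
theorem exists_notMem (x : Proj 𝒜) :
    ∃ d : ℕ, 0 < d ∧ ∃ f ∈ 𝒜 d, f ∉ x.asHomogeneousIdeal.toIdeal := by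
  classical
  have h := x.not_irrelevant_le
  rw [SetLike.not_le_iff_exists] at h
  obtain ⟨a, ha, hax⟩ := h
  rw [HomogeneousIdeal.mem_irrelevant_iff] at ha
  have : ∃ i, (decompose 𝒜 a i : A) ∉ x.asHomogeneousIdeal.toIdeal := by
    by_contra hcon
    push Not at hcon
    apply hax
    change a ∈ x.asHomogeneousIdeal.toIdeal
    rw [← DirectSum.sum_support_decompose 𝒜 a]
    exact Ideal.sum_mem _ fun i _ => hcon i
  obtain ⟨i, hi⟩ := this
  refine ⟨i, ?_, _, SetLike.coe_mem _, hi⟩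
  rcases Nat.eq_zero_or_pos i with h0 | h0
  · exfalso
    apply hi
    subst h0
    have : (decompose 𝒜 a 0 : A) = 0 := ha
    rw [this]
    exact Ideal.zero_mem _
  · exact h0

open AlgebraicGeometry in
/-- every local ring of `Proj A` is Cohen–Macaulay when `A` is. -/
theorem main [hA : LocCoh.IsCohenMacaulayRing A] (x : Proj 𝒜) :
    LocCoh.IsCohenMacaulayLocalRing ((Proj 𝒜).presheaf.stalk x) := by
  haveI := isCohenMacaulayLocalRing_atPrime 𝒜 x.asHomogeneousIdeal.toIdeal (exists_notMem 𝒜 x)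
  let e : (Proj 𝒜).presheaf.stalk x ≃+*
      HomogeneousLocalization.AtPrime 𝒜 x.asHomogeneousIdeal.toIdeal :=
    (Proj.stalkIso 𝒜 x).commRingCatIsoToRingEquiv
  exact Groth.Agent.Lib.Helper28.isCohenMacaulayLocalRing_of_ringEquiv e.symm

end Groth.Agent.Lib.Helper29.ProjCM
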