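import Mathlib

/-!
# Dimension of a stalk at a point of a closed subscheme via an affine chart (helper29)

General scheme lemmas:

* `isRegularLocalRing_stalk`: stalks at points of an affine open with regular coordinate ring are
  regular local rings;
* `ringKrullDim_stalk_eq_height`: `dim O_{X,x} = ht p_x` on an affine open;
* `ringKrullDim_quotient_primeIdealOf_le`: for a closed immersion `ι : Z ⟶ X` and `x ∈ ι(Z) ∩ W`,
  `dim Γ(X, W)/p_x ≤ dim Z`.
-/

set_option autoImplicit false
set_option linter.unusedVariables false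
set_option linter.unusedSectionVars false
set_option linter.style.haveILetI false
universe u
open CategoryTheory AlgebraicGeometry TopologicalSpace Opposite

namespace Groth.Agent.Lib.Helper29.ProjDepth

variable {X : Scheme.{u}} {W : X.Opens} (hW : IsAffineOpen W)

include hW in
theorem isRegularLocalRing_stalk [IsRegularRing Γ(X, W)] (x : X) (hx : x ∈ W) :
    IsRegularLocalRing (X.presheaf.stalk x) := by
  letI alg : Algebra Γ(X, W) (X.presheaf.stalk x) :=
    TopCat.Presheaf.algebra_section_stalk X.presheaf ⟨x, hx⟩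
  haveI locR : IsLocalization.AtPrime (X.presheaf.stalk x) (hW.primeIdealOf ⟨x, hx⟩).asIdeal :=
    hW.isLocalization_stalk ⟨x, hx⟩
  haveI : IsRegularLocalRing (Localization.AtPrime (hW.primeIdealOf ⟨x, hx⟩).asIdeal) :=
    IsRegularRing.isRegularLocalRing_localization _
  exact IsRegularLocalRing.of_ringEquiv
    (IsLocalization.algEquiv (hW.primeIdealOf ⟨x, hx⟩).asIdeal.primeCompl
      (Localization.AtPrime (hW.primeIdealOf ⟨x, hx⟩).asIdeal) (X.presheaf.stalk x)).toRingEquiv

include hW in
theorem ringKrullDim_stalk_eq_height (x : X) (hx : x ∈ W) :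
    ringKrullDim (X.presheaf.stalk x) =
      ((hW.primeIdealOf ⟨x, hx⟩).asIdeal.height : WithBot ℕ∞) := by
  letI alg : Algebra Γ(X, W) (X.presheaf.stalk x) :=
    TopCat.Presheaf.algebra_section_stalk X.presheaf ⟨x, hx⟩
  haveI locR : IsLocalization.AtPrime (X.presheaf.stalk x) (hW.primeIdealOf ⟨x, hx⟩).asIdeal :=
    hW.isLocalization_stalk ⟨x, hx⟩
  exact IsLocalization.AtPrime.ringKrullDim_eq_height (hW.primeIdealOf ⟨x, hx⟩).asIdeal
    (X.presheaf.stalk x)

include hW in
/-- the closure of a point of a closed subscheme, seen in an affine chart, has dimension at most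
that of the subscheme. -/
theorem ringKrullDim_quotient_primeIdealOf_le {Z : Scheme.{u}} (ι : Z ⟶ X) [IsClosedImmersion ι]
    (x : X) (hx : x ∈ W) (hxZ : x ∈ Set.range ι) :
    ringKrullDim (Γ(X, W) ⧸ (hW.primeIdealOf ⟨x, hx⟩).asIdeal) ≤ topologicalKrullDim ↥Z := by
  set p := hW.primeIdealOf ⟨x, hx⟩ with hp
  rw [← PrimeSpectrum.topologicalKrullDim_eq_ringKrullDim]
  -- the map `Spec (Γ/p) → Spec Γ → X`
  let c : PrimeSpectrum (Γ(X, W) ⧸ p.asIdeal) → PrimeSpectrum Γ(X, W) :=
    PrimeSpectrum.comap (Ideal.Quotient.mk p.asIdeal)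
  have hc : Topology.IsClosedEmbedding c :=
    PrimeSpectrum.isClosedEmbedding_comap_of_surjective _ _ Ideal.Quotient.mk_surjective
  let f : PrimeSpectrum (Γ(X, W) ⧸ p.asIdeal) → X := fun q => hW.fromSpec (c q)
  have hf : Topology.IsInducing f :=
    hW.fromSpec.isOpenEmbedding.isInducing.comp hc.isInducing
  have hfx : hW.fromSpec p = x := hW.fromSpec_primeIdealOf ⟨x, hx⟩
  have hfrange : ∀ q, f q ∈ Set.range ι := by
    intro q
    have hcl : IsClosed (Set.range ι) := ι.isClosedEmbedding.isClosed_range
    have h1 : p ≤ c q := by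
      change p.asIdeal ≤ (c q).asIdeal
      intro a ha
      change Ideal.Quotient.mk p.asIdeal a ∈ q.asIdeal
      rw [Ideal.Quotient.eq_zero_iff_mem.mpr ha]
      exact q.asIdeal.zero_mem
    have h2 : p ⤳ c q := (PrimeSpectrum.le_iff_specializes p (c q)).mp h1
    have h3 : hW.fromSpec p ⤳ hW.fromSpec (c q) := h2.map hW.fromSpec.continuous
    rw [hfx] at h3
    exact h3.mem_closed hcl hxZ
  -- factor through `Z`
  choose g hg using hfrange
  have hgi : Topology.IsInducing g := by
    have h1 : Topology.IsInducing (ι ∘ g) := by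
      have : (ι ∘ g) = f := funext hg
      rw [this]
      exact hf
    exact (ι.isClosedEmbedding.isInducing.of_comp_iff).mp h1
  exact hgi.topologicalKrullDim_le

end Groth.Agent.Lib.Helper29.ProjDepth
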