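import Groth.Agent.Lib.Helper4HypIdealB
import Groth.Agent.Lib.Helper27ChartPoly

/-!
# Complete intersections (helper4): charts

* `chartEquiv i` : `Γ(P^n_k, D₊(T_i)) ≃+* k[x_1, …, x_n]`;
* `ringKrullDim_quotient_le` : `dim Γ(X, U)/I(U) ≤ dim V(I)`;
* `ciIdeal_ideal_chart` : the ideal of `V(G_1, …, G_r)` on `D₊(T_i)` is generated by the
  dehomogenizations.
-/

set_option autoImplicit false
set_option linter.style.haveILetI false
universe u

open CategoryTheory CategoryTheory.Limits AlgebraicGeometry TopologicalSpace Opposite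
  HomogeneousLocalization MvPolynomial

namespace Groth.Agent.Lib.Helper4.CIChart

open Groth.Agent.Lib.Helper4.HypIdeal

variable (n : ℕ) (k : Type u) [Field k]

/-- the coordinate ring of the standard chart is a polynomial ring in `n` variables. -/
noncomputable def chartEquiv (i : Fin (n + 1)) :
    Γ(CohB1.ProjSpace n k, LefPen.chart n k i) ≃+* MvPolynomial (Fin n) k :=
  ((Proj.basicOpenIsoAway (CohB1.polyGrading n k) (X i : MvPolynomial (Fin (n + 1)) k)
      (LefPen.X_mem n k i) Nat.one_pos).commRingCatIsoToRingEquiv.symm.trans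
    (Groth.Agent.Lib.Helper27ChartPoly.awayEquiv n k i)).trans
    (MvPolynomial.renameEquiv k (finSuccAboveEquiv i).symm).toRingEquiv

variable {n k}

theorem ringKrullDim_quotient_le {X : Scheme.{u}} (I : X.IdealSheafData) (U : X.affineOpens) :
    ringKrullDim (Γ(X, U) ⧸ I.ideal U) ≤ topologicalKrullDim ↥I.subscheme := by
  rw [← PrimeSpectrum.topologicalKrullDim_eq_ringKrullDim]
  haveI : IsOpenImmersion (I.subschemeCover.f U) := I.subschemeCover.map_prop U
  exact (I.subschemeCover.f U).isOpenEmbedding.isInducing.topologicalKrullDim_le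

theorem ciIdeal_ideal_chart {ι : Type} {a : ι → ℕ} (G : ∀ j, LefPen.Form n k (a j))
    (i : Fin (n + 1)) :
    (LefPen.ciIdeal G).ideal ⟨LefPen.chart n k i, isAffineOpen_chart i⟩ =
      Ideal.span (Set.range fun j => LefPen.dehom (G j) i) := by
  unfold LefPen.ciIdeal
  rw [Scheme.IdealSheafData.ideal_iSup, iSup_apply, Ideal.span_range_eq_iSup]
  congr 1
  funext j
  exact hypIdeal_ideal_chart (G j) i

end Groth.Agent.Lib.Helper4.CIChart
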