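import Mathlib
import Groth.Prelude.Def_CohB1
import Groth.Prelude.Def_LefPen
import Groth.Agent.Lib.Helper29ProjDepthA
import Groth.Agent.Lib.Helper4CIChart
import Groth.Agent.Lib.Helper19EtPolyAt
import Groth.Agent.Lib.Helper5RLR3
import Groth.Agent.Lib.Helper21HZB9

/-!
# Depth of finite locally free modules on `P^N_k` along a closed subscheme (helper29)

* `isRegularLocalRing_stalk_projSpace`: the local rings of `P^N_k` are regular;
* `le_ringKrullDim_stalk`: for a closed immersion `ι : Z ⟶ P^N_k` with `dim Z + r ≤ N` and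
  `x ∈ ι(Z)`: `r ≤ dim O_{P,x}`;
* `le_depth_stalk`: then `r ≤ depth E_x` for every finite locally free `E`.
-/

set_option autoImplicit false
set_option linter.unusedVariables false
set_option linter.unusedSectionVars false
set_option linter.style.haveILetI false
universe u
open CategoryTheory AlgebraicGeometry TopologicalSpace Opposite

namespace Groth.Agent.Lib.Helper29.ProjDepth

open Groth.Agent.Lib.Helper4.HypIdeal Groth.Agent.Lib.Helper4.CIChart

theorem arith (d c : WithBot ℕ∞) (h : ℕ∞) (N r : ℕ) (h1 : (h : WithBot ℕ∞) + c = N) (h2 : c ≤ d)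
    (h3 : d + (r : WithBot ℕ∞) ≤ (N : WithBot ℕ∞)) (h0 : 0 ≤ d) : (r : ℕ∞) ≤ h := by
  induction h with
  | top => exact le_top
  | coe n =>
    have hd : d ≠ ⊥ := by
      intro hb
      rw [hb] at h0
      exact absurd h0 (by simp)
    obtain ⟨d', rfl⟩ := WithBot.ne_bot_iff_exists.mp hd
    have hd' : d' ≠ ⊤ := by
      intro ht
      rw [ht] at h3
      have : ((⊤ : ℕ∞) : WithBot ℕ∞) + (r : WithBot ℕ∞) = ((⊤ : ℕ∞) : WithBot ℕ∞) := by
        rw [show (r : WithBot ℕ∞) = ((r : ℕ∞) : WithBot ℕ∞) from rfl, ← WithBot.coe_add, top_add]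
      rw [this] at h3
      have h4 : ((⊤ : ℕ∞) : WithBot ℕ∞) ≤ ((N : ℕ∞) : WithBot ℕ∞) := h3
      rw [WithBot.coe_le_coe] at h4
      exact absurd h4 (by simp)
    obtain ⟨m, rfl⟩ := ENat.ne_top_iff_exists.mp hd'
    have h5 : (N : WithBot ℕ∞) ≤ ((n : ℕ∞) : WithBot ℕ∞) + ((m : ℕ∞) : WithBot ℕ∞) := by
      rw [← h1]
      exact add_le_add_right h2 _
    have h6 : ((m : ℕ∞) : WithBot ℕ∞) + (r : WithBot ℕ∞) ≤
        ((n : ℕ∞) : WithBot ℕ∞) + ((m : ℕ∞) : WithBot ℕ∞) := h3.trans h5
    have h7 : ((m + r : ℕ) : WithBot ℕ∞) ≤ ((n + m : ℕ) : WithBot ℕ∞) := by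
      push_cast
      exact h6
    have h8 : m + r ≤ n + m := by exact_mod_cast h7
    have : r ≤ n := by omega
    exact_mod_cast this

variable (N : ℕ) (k : Type u) [Field k]

theorem exists_chart_mem (x : CohB1.ProjSpace N k) : ∃ i, x ∈ LefPen.chart N k i := by
  have h : x ∈ (⨆ i, LefPen.chart N k i : (CohB1.ProjSpace N k).Opens) := by
    rw [iSup_chart]; trivial
  exact Opens.mem_iSup.mp h

theorem isRegularRing_chart (i : Fin (N + 1)) :
    IsRegularRing Γ(CohB1.ProjSpace N k, LefPen.chart N k i) :=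
  IsRegularRing.of_ringEquiv (chartEquiv N k i).symm

theorem isLocallyNoetherian_projSpace : IsLocallyNoetherian (CohB1.ProjSpace N k) := by
  refine isLocallyNoetherian_of_affine_cover
    (S := fun i : Fin (N + 1) => ⟨LefPen.chart N k i, isAffineOpen_chart i⟩) iSup_chart ?_
  intro i
  exact isNoetherianRing_of_ringEquiv (MvPolynomial (Fin N) k) (chartEquiv N k i).symm

theorem isRegularLocalRing_stalk_projSpace (x : CohB1.ProjSpace N k) :
    IsRegularLocalRing ((CohB1.ProjSpace N k).presheaf.stalk x) := by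
  obtain ⟨i, hi⟩ := exists_chart_mem N k x
  haveI := isRegularRing_chart N k i
  exact isRegularLocalRing_stalk (isAffineOpen_chart i) x hi

theorem height_add_dim_chart (i : Fin (N + 1))
    (p : Ideal Γ(CohB1.ProjSpace N k, LefPen.chart N k i)) [p.IsPrime] :
    ((p.height : ℕ∞) : WithBot ℕ∞) +
      ringKrullDim (Γ(CohB1.ProjSpace N k, LefPen.chart N k i) ⧸ p) = N := by
  let e := chartEquiv N k i
  haveI : (p.map e).IsPrime := Ideal.map_isPrime_of_equiv e
  have h1 : (p.map e).height = p.height := e.height_map p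
  have h2 : ringKrullDim (Γ(CohB1.ProjSpace N k, LefPen.chart N k i) ⧸ p) =
      ringKrullDim (MvPolynomial (Fin N) k ⧸ p.map e) :=
    ringKrullDim_eq_of_ringEquiv (Ideal.quotientEquiv p (p.map e) e rfl)
  rw [← h1, h2]
  exact Groth.Agent.Lib.Helper19.EtPolyAt.height_add_dim_quotient_mvPolynomial k N (p.map e)

variable {N k}

theorem le_ringKrullDim_stalk {Z : Scheme.{u}} (ι : Z ⟶ CohB1.ProjSpace N k) [IsClosedImmersion ι]
    (r : ℕ) (hr : topologicalKrullDim ↥Z + (r : WithBot ℕ∞) ≤ (N : WithBot ℕ∞))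
    (x : CohB1.ProjSpace N k) (hx : x ∈ Set.range ι) :
    (r : WithBot ℕ∞) ≤ ringKrullDim ((CohB1.ProjSpace N k).presheaf.stalk x) := by
  obtain ⟨i, hi⟩ := exists_chart_mem N k x
  have hW := isAffineOpen_chart (k := k) i
  rw [ringKrullDim_stalk_eq_height hW x hi]
  have h1 := height_add_dim_chart N k i (hW.primeIdealOf ⟨x, hi⟩).asIdeal
  have h2 := ringKrullDim_quotient_primeIdealOf_le hW ι x hi hx
  have h0 : 0 ≤ topologicalKrullDim ↥Z := by
    obtain ⟨z, -⟩ := hx
    have : Nonempty (TopologicalSpace.IrreducibleCloseds ↥Z) :=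
      ⟨⟨closure {z}, isIrreducible_singleton.closure, isClosed_closure⟩⟩
    exact Order.krullDim_nonneg
  have := arith _ _ _ N r h1 h2 hr h0
  exact_mod_cast this

theorem le_depth_stalk {Z : Scheme.{u}} (ι : Z ⟶ CohB1.ProjSpace N k) [IsClosedImmersion ι]
    (r : ℕ) (hr : topologicalKrullDim ↥Z + (r : WithBot ℕ∞) ≤ (N : WithBot ℕ∞))
    (E : (CohB1.ProjSpace N k).Modules) (hE : FlatMod.IsFinLocFree E)
    (x : CohB1.ProjSpace N k) (hx : x ∈ Set.range ι) :
    (r : ℕ∞) ≤ LocCoh.depth ((CohB1.ProjSpace N k).presheaf.stalk x) (E.presheaf.stalk x) := by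
  haveI := isLocallyNoetherian_projSpace N k
  haveI := isRegularLocalRing_stalk_projSpace N k x
  have h1 := le_ringKrullDim_stalk ι r hr x hx
  have hCM := (Groth.Agent.Lib.Helper5.isCohenMacaulayLocalRing_of_isRegularLocalRing
    ((CohB1.ProjSpace N k).presheaf.stalk x)).supportDim_eq_depth
  rw [Module.supportDim_self_eq_ringKrullDim] at hCM
  rw [hCM] at h1
  have h2 : (r : ℕ∞) ≤ LocCoh.depth ((CohB1.ProjSpace N k).presheaf.stalk x)
      ((CohB1.ProjSpace N k).presheaf.stalk x) := by exact_mod_cast h1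
  exact h2.trans (Groth.Agent.Lib.Helper21.HZB.depth_stalk_ge_of_isFinLocFree E hE x)

end Groth.Agent.Lib.Helper29.ProjDepth
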