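import Mathlib
import Groth.Agent.Lib.Helper29GrLocz
import Groth.Agent.Lib.Helper29GrUnitCM
import Groth.Agent.Lib.Helper29ProjCM
import Groth.Agent.Lib.Helper5GorRing

/-! Local rings of `Proj` of a Gorenstein graded ring satisfying condition `(#)` are Gorenstein
(helper29). -/

set_option autoImplicit false
set_option linter.style.haveILetI false
universe u
open DirectSum

namespace Groth.Agent.Lib.Helper29.ProjGor

open Groth.Agent.Lib.Helper29 Groth.Agent.Lib.Helper29.GrLocz Groth.Agent.Lib.Helper29.GrUnit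
  Groth.Agent.Lib.Helper29.GrUnitCM

section DegOne

variable {R : Type u} [CommRing R] (𝒜 : ℤ → AddSubgroup R) [GradedRing 𝒜] (t : Rˣ)
  (ht : (t : R) ∈ 𝒜 ((1 : ℕ) : ℤ))

include ht in
/-- with a homogeneous unit of degree one, `B_0 → B/(t-1)` is bijective. -/
theorem algebraMap_quot_bijective :
    Function.Bijective (algebraMap (SetLike.GradeZero.subring 𝒜)
      (R ⧸ Ideal.span {(t : R) - 1})) := by
  have hE := retr_algebraMap 𝒜 1 Nat.one_pos t ht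
  refine ⟨fun a b hab => by rw [← hE a, ← hE b, hab], ?_⟩
  intro c
  obtain ⟨x, rfl⟩ := Ideal.Quotient.mk_surjective c
  induction x using DirectSum.Decomposition.inductionOn 𝒜 with
  | zero => exact ⟨0, by simp⟩
  | @homogeneous i b =>
    have hy : ((t ^ (-i) : Rˣ) : R) * (b : R) ∈ 𝒜 0 := by
      have := SetLike.mul_mem_graded (zpow_mem 𝒜 t ht (-i)) b.2
      have e : -i * ((1 : ℕ) : ℤ) + i = 0 := by push_cast; ring
      rwa [e] at this
    refine ⟨⟨_, hy⟩, ?_⟩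
    change Ideal.Quotient.mk (Ideal.span {(t : R) - 1}) (((t ^ (-i) : Rˣ) : R) * (b : R)) = _
    rw [map_mul, mk_zpow, one_mul]
  | add x y hx hy =>
    obtain ⟨a, ha⟩ := hx
    obtain ⟨b, hb⟩ := hy
    exact ⟨a + b, by rw [map_add, ha, hb, map_add]⟩

include ht in
/-- the degree-zero part of a Gorenstein `ℤ`-graded ring with a homogeneous unit of degree one
and `B_0` local is a Gorenstein local ring. -/
theorem gorLocal_deg0 [hB : LocCoh.IsGorensteinRing R]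
    [IsLocalRing (SetLike.GradeZero.subring 𝒜)] :
    LocCoh.IsGorensteinLocalRing (SetLike.GradeZero.subring 𝒜) := by
  have hreg : IsSMulRegular R ((t : R) - 1) := by
    have h := sub_one_mem_nonZeroDivisors 𝒜 (N := ((1 : ℕ) : ℤ)) (by norm_num) ht t.isUnit
    intro a b hab
    simp only [smul_eq_mul] at hab
    exact (mul_cancel_left_mem_nonZeroDivisors h).mp hab
  haveI hC : LocCoh.IsGorensteinRing (R ⧸ Ideal.span {(t : R) - 1}) :=
    Groth.Agent.Lib.Helper5.GorRing.gorRing_quotient_of_regular _ hreg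
  let e : SetLike.GradeZero.subring 𝒜 ≃+* (R ⧸ Ideal.span {(t : R) - 1}) :=
    RingEquiv.ofBijective _ (algebraMap_quot_bijective 𝒜 t ht)
  haveI : IsLocalRing (R ⧸ Ideal.span {(t : R) - 1}) := e.isLocalRing
  haveI := hC.isGorensteinLocalRing_localization
    (IsLocalRing.maximalIdeal (R ⧸ Ideal.span {(t : R) - 1}))
  let e2 : (R ⧸ Ideal.span {(t : R) - 1}) ≃ₐ[R ⧸ Ideal.span {(t : R) - 1}]
      Localization.AtPrime (IsLocalRing.maximalIdeal (R ⧸ Ideal.span {(t : R) - 1})) :=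
    IsLocalization.atUnits _ (IsLocalRing.maximalIdeal (R ⧸ Ideal.span {(t : R) - 1})).primeCompl
      (fun x hx => by
        rw [IsUnit.mem_submonoid_iff]
        exact not_not.mp fun hnu => hx ((IsLocalRing.mem_maximalIdeal x).mpr hnu))
  haveI : LocCoh.IsGorensteinLocalRing (R ⧸ Ideal.span {(t : R) - 1}) :=
    Groth.Agent.Lib.Helper5.GorRing.gorLocal_of_ringEquiv e2.toRingEquiv.symm
  exact Groth.Agent.Lib.Helper5.GorRing.gorLocal_of_ringEquiv e.symm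

end DegOne

section Proj

variable {A : Type u} [CommRing A] (𝒜 : ℕ → AddSubgroup A) [GradedRing 𝒜]
variable (p : Ideal A) [hp : p.IsPrime]

open Pointwise in
include hp in
/-- under condition `(#)`, every large degree contains an element outside `p`. -/
theorem exists_notMem_of_sharp
    (hirr : ∃ e : ℕ, 0 < e ∧ ∃ f ∈ 𝒜 e, f ∉ p) (d : ℕ)
    (hd : ∀ n : ℕ, 1 ≤ n → 𝒜 ((n + 1) * d) =
      AddSubgroup.closure ((𝒜 d : Set A) * (𝒜 (n * d) : Set A))) :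
    ∃ g ∈ 𝒜 d, g ∉ p := by
  by_contra hcon
  push Not at hcon
  have hall : ∀ n : ℕ, 1 ≤ n → ∀ a ∈ 𝒜 (n * d), a ∈ p := by
    intro n hn
    induction n, hn using Nat.le_induction with
    | base => intro a ha; rw [one_mul] at ha; exact hcon a ha
    | succ n hn ih =>
      intro a ha
      rw [hd n hn] at ha
      induction ha using AddSubgroup.closure_induction with
      | mem y hy =>
        obtain ⟨u, hu, v, hv, rfl⟩ := Set.mem_mul.mp hy
        exact Ideal.mul_mem_right _ _ (hcon u hu)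
      | zero => exact Ideal.zero_mem _
      | add y z _ _ hy hz => exact Ideal.add_mem _ hy hz
      | neg y _ hy => exact (Ideal.neg_mem_iff _).mpr hy
  obtain ⟨e, he, f, hf, hfp⟩ := hirr
  have h1 : f ^ d ∈ 𝒜 (e * d) := by
    have := SetLike.pow_mem_graded d hf
    rwa [smul_eq_mul, mul_comm] at this
  exact hfp (hp.mem_of_pow_mem d (hall e he _ h1))

open Pointwise in
/-- `A_(p)` is Gorenstein when `A` is Gorenstein with condition `(#)`. -/
theorem gorLocal_atPrime [hA : LocCoh.IsGorensteinRing A]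
    (hsharp : ∃ d₀ : ℕ, ∀ d : ℕ, d₀ ≤ d → ∀ n : ℕ, 1 ≤ n → 𝒜 ((n + 1) * d) =
      AddSubgroup.closure ((𝒜 d : Set A) * (𝒜 (n * d) : Set A)))
    (hirr : ∃ e : ℕ, 0 < e ∧ ∃ f ∈ 𝒜 e, f ∉ p) :
    LocCoh.IsGorensteinLocalRing (HomogeneousLocalization.AtPrime 𝒜 p) := by
  haveI : IsLocalRing (SetLike.GradeZero.subring (grd 𝒜 (Sp 𝒜 p) (Sp_hom 𝒜 p))) :=
    (atPrimeEquiv 𝒜 p).isLocalRing
  haveI : LocCoh.IsGorensteinRing (Localization (Sp 𝒜 p)) :=
    Groth.Agent.Lib.Helper5.GorRing.gorRing_of_isLocalization (Sp 𝒜 p) _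
  obtain ⟨d₀, hd₀⟩ := hsharp
  obtain ⟨g₁, hg₁, hg₁p⟩ := exists_notMem_of_sharp 𝒜 p hirr d₀ (hd₀ d₀ le_rfl)
  obtain ⟨g₂, hg₂, hg₂p⟩ := exists_notMem_of_sharp 𝒜 p hirr (d₀ + 1) (hd₀ (d₀ + 1) (Nat.le_succ _))
  have hu₁ : IsUnit (algebraMap A (Localization (Sp 𝒜 p)) g₁) :=
    IsLocalization.map_units (Localization (Sp 𝒜 p)) (⟨g₁, hg₁p, ⟨d₀, hg₁⟩⟩ : Sp 𝒜 p)
  have hu₂ : IsUnit (algebraMap A (Localization (Sp 𝒜 p)) g₂) :=
    IsLocalization.map_units (Localization (Sp 𝒜 p)) (⟨g₂, hg₂p, ⟨d₀ + 1, hg₂⟩⟩ : Sp 𝒜 p)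
  have hm₁ : ((hu₁.unit⁻¹ : (Localization (Sp 𝒜 p))ˣ) : Localization (Sp 𝒜 p)) ∈
      grd 𝒜 (Sp 𝒜 p) (Sp_hom 𝒜 p) (-(d₀ : ℤ)) := by
    apply GrUnit.inv_mem
    rw [IsUnit.unit_spec]
    exact algebraMap_mem 𝒜 _ _ hg₁
  have hm₂ : ((hu₂.unit : (Localization (Sp 𝒜 p))ˣ) : Localization (Sp 𝒜 p)) ∈
      grd 𝒜 (Sp 𝒜 p) (Sp_hom 𝒜 p) ((d₀ + 1 : ℕ) : ℤ) := by
    rw [IsUnit.unit_spec]
    exact algebraMap_mem 𝒜 _ _ hg₂
  have ht : ((hu₂.unit * hu₁.unit⁻¹ : (Localization (Sp 𝒜 p))ˣ) : Localization (Sp 𝒜 p)) ∈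
      grd 𝒜 (Sp 𝒜 p) (Sp_hom 𝒜 p) ((1 : ℕ) : ℤ) := by
    rw [Units.val_mul]
    have := SetLike.mul_mem_graded hm₂ hm₁
    have e : ((d₀ + 1 : ℕ) : ℤ) + -(d₀ : ℤ) = ((1 : ℕ) : ℤ) := by push_cast; ring
    rwa [e] at this
  haveI := gorLocal_deg0 (grd 𝒜 (Sp 𝒜 p) (Sp_hom 𝒜 p)) (hu₂.unit * hu₁.unit⁻¹) ht
  exact Groth.Agent.Lib.Helper5.GorRing.gorLocal_of_ringEquiv (atPrimeEquiv 𝒜 p).symm

open AlgebraicGeometry Pointwise in
theorem main [hA : LocCoh.IsGorensteinRing A]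
    (hsharp : ∃ d₀ : ℕ, ∀ d : ℕ, d₀ ≤ d → ∀ n : ℕ, 1 ≤ n → 𝒜 ((n + 1) * d) =
      AddSubgroup.closure ((𝒜 d : Set A) * (𝒜 (n * d) : Set A)))
    (x : Proj 𝒜) : LocCoh.IsGorensteinLocalRing ((Proj 𝒜).presheaf.stalk x) := by
  haveI := gorLocal_atPrime 𝒜 x.asHomogeneousIdeal.toIdeal hsharp (ProjCM.exists_notMem 𝒜 x)
  let e : (Proj 𝒜).presheaf.stalk x ≃+*
      HomogeneousLocalization.AtPrime 𝒜 x.asHomogeneousIdeal.toIdeal :=
    (Proj.stalkIso 𝒜 x).commRingCatIsoToRingEquiv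
  exact Groth.Agent.Lib.Helper5.GorRing.gorLocal_of_ringEquiv e.symm

end Proj

end Groth.Agent.Lib.Helper29.ProjGor
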