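import Mathlib
import Groth.Agent.Lib.Helper29GrLocz
import Groth.Agent.Lib.Helper29GrS1
import Groth.Agent.Lib.Helper29ProjCM

/-! Local rings of `Proj` of an `(S_1)` graded Noetherian ring are `(S_1)` (helper29). -/

set_option autoImplicit false
set_option linter.style.haveILetI false
universe u
open DirectSum

namespace Groth.Agent.Lib.Helper29.ProjS1

open Groth.Agent.Lib.Helper29 Groth.Agent.Lib.Helper29.GrLocz

variable {A : Type u} [CommRing A] [IsNoetherianRing A] (𝒜 : ℕ → AddSubgroup A) [GradedRing 𝒜]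
variable (p : Ideal A) [p.IsPrime]

theorem hasS1_atPrime (hA : LocCoh.HasSk 1 A A)
    (hirr : ∃ d : ℕ, 0 < d ∧ ∃ f ∈ 𝒜 d, f ∉ p) :
    IsNoetherianRing (HomogeneousLocalization.AtPrime 𝒜 p) ∧
    LocCoh.HasSk 1 (HomogeneousLocalization.AtPrime 𝒜 p) (HomogeneousLocalization.AtPrime 𝒜 p) := by
  haveI : IsNoetherianRing (Localization (Sp 𝒜 p)) :=
    IsLocalization.isNoetherianRing (Sp 𝒜 p) _ inferInstance
  have hB : LocCoh.HasSk 1 (Localization (Sp 𝒜 p)) (Localization (Sp 𝒜 p)) :=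
    GrS1.hasSk_of_isLocalization 1 (Sp 𝒜 p) _ hA
  obtain ⟨d, hd, f, hf, hfp⟩ := hirr
  have hu : IsUnit (algebraMap A (Localization (Sp 𝒜 p)) f) :=
    IsLocalization.map_units (Localization (Sp 𝒜 p)) (⟨f, hfp, ⟨d, hf⟩⟩ : Sp 𝒜 p)
  have hum : ((hu.unit : (Localization (Sp 𝒜 p))ˣ) : Localization (Sp 𝒜 p)) ∈
      grd 𝒜 (Sp 𝒜 p) (Sp_hom 𝒜 p) (d : ℤ) := by
    rw [IsUnit.unit_spec]
    exact algebraMap_mem 𝒜 _ _ hf
  have h0 := GrS1.hasS1_deg0 (grd 𝒜 (Sp 𝒜 p) (Sp_hom 𝒜 p)) d hd hu.unit hum hB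
  haveI hN0 : IsNoetherianRing (GrLC.deg0 (grd 𝒜 (Sp 𝒜 p) (Sp_hom 𝒜 p))) :=
    Groth.Agent.Lib.Helper29.GrDeg0.isNoetherianRing_deg0 _
  haveI hN1 : IsNoetherianRing (HomogeneousLocalization.AtPrime 𝒜 p) :=
    isNoetherianRing_of_ringEquiv _ (atPrimeEquiv 𝒜 p).symm
  exact ⟨hN1, Groth.Agent.Lib.Helper5.TensorSk.hasSk_self_of_ringEquiv (atPrimeEquiv 𝒜 p).symm 1 h0⟩

open AlgebraicGeometry in
theorem main (hA : LocCoh.HasSk 1 A A) (x : Proj 𝒜) :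
    LocCoh.HasSk 1 ((Proj 𝒜).presheaf.stalk x) ((Proj 𝒜).presheaf.stalk x) := by
  obtain ⟨hN, h⟩ := hasS1_atPrime 𝒜 x.asHomogeneousIdeal.toIdeal hA (ProjCM.exists_notMem 𝒜 x)
  let e : (Proj 𝒜).presheaf.stalk x ≃+*
      HomogeneousLocalization.AtPrime 𝒜 x.asHomogeneousIdeal.toIdeal :=
    (Proj.stalkIso 𝒜 x).commRingCatIsoToRingEquiv
  haveI : IsNoetherianRing ((Proj 𝒜).presheaf.stalk x) := isNoetherianRing_of_ringEquiv _ e.symm
  exact Groth.Agent.Lib.Helper5.TensorSk.hasSk_self_of_ringEquiv e.symm 1 h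

end Groth.Agent.Lib.Helper29.ProjS1
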