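import Mathlib

/-! Dimension of quasi-sober subspaces of a prime spectrum as the Krull dimension of a poset of
primes; removing the closed point of a local spectrum (helper29). -/

set_option autoImplicit false
set_option linter.style.haveILetI false
open Topology TopologicalSpace Order

namespace Groth.Agent.Lib.Helper29.Punc

universe u

section Dim

variable {X : Type*} [TopologicalSpace X] {R : Type*} [CommRing R]

/-- For a quasi-sober space embedded in a prime spectrum, points ↔ irreducible closed subsets. -/
noncomputable def rangeEquivIrreducibleCloseds (g : X → PrimeSpectrum R) (hg : IsEmbedding g) [QuasiSober X] :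
    Set.range g ≃o (IrreducibleCloseds X)ᵒᵈ :=
  haveI : T0Space X := hg.t0Space
  { toEquiv := (Equiv.ofInjective g hg.injective).symm.trans
      ((irreducibleSetEquivPoints (α := X)).toEquiv.symm.trans OrderDual.toDual)
    map_rel_iff' := by
      intro p q
      obtain ⟨p, x, rfl⟩ := p
      obtain ⟨q, y, rfl⟩ := q
      have h1 : (Equiv.ofInjective g hg.injective).symm ⟨g x, x, rfl⟩ = x :=
        (Equiv.ofInjective g hg.injective).symm_apply_apply x
      have h2 : (Equiv.ofInjective g hg.injective).symm ⟨g y, y, rfl⟩ = y :=
        (Equiv.ofInjective g hg.injective).symm_apply_apply y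
      simp only [Equiv.trans_apply]
      rw [h1, h2]
      refine ((RelIso.symm (irreducibleSetEquivPoints (α := X))).map_rel_iff).trans ?_
      show x ⤳ y ↔ g x ≤ g y
      rw [PrimeSpectrum.le_iff_specializes, hg.isInducing.specializes_iff] }

theorem dim_eq_krullDim_range (g : X → PrimeSpectrum R) (hg : IsEmbedding g) [QuasiSober X] :
    topologicalKrullDim X = krullDim (Set.range g) := by
  rw [topologicalKrullDim, ← krullDim_orderDual]
  exact (krullDim_eq_of_orderIso (rangeEquivIrreducibleCloseds g hg)).symm

end Dim

section Poset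

variable {B : Type*} [CommRing B] [IsLocalRing B]

theorem le_closedPoint (p : PrimeSpectrum B) : p ≤ IsLocalRing.closedPoint B :=
  IsLocalRing.le_maximalIdeal p.2.ne_top

theorem krullDim_mono {α : Type*} [Preorder α] {T T' : Set α} (h : T ⊆ T') :
    krullDim T ≤ krullDim T' :=
  krullDim_le_of_strictMono (Set.inclusion h) (fun _ _ hab => hab)

/-- Removing the closed point from a set of primes lowers the dimension by one. -/
theorem krullDim_eq_add_one (T : Set (PrimeSpectrum B)) (hn : IsLocalRing.closedPoint B ∈ T)
    (hne : (T \ {IsLocalRing.closedPoint B}).Nonempty) :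
    krullDim T = krullDim ↥(T \ {IsLocalRing.closedPoint B}) + 1 := by
  classical
  letI : OrderTop T :=
    { top := ⟨IsLocalRing.closedPoint B, hn⟩
      le_top := fun p => le_closedPoint p.1 }
  have e : WithTop {a : T // a ≠ ⊤} ≃o T := WithTop.subtypeOrderIso
  have e' : {a : T // a ≠ ⊤} ≃o ↥(T \ {IsLocalRing.closedPoint B}) :=
    { toFun := fun a => ⟨a.1.1, a.1.2, fun h => a.2 (Subtype.ext h)⟩
      invFun := fun b => ⟨⟨b.1, b.2.1⟩, fun h => b.2.2 (congrArg Subtype.val h)⟩
      left_inv := fun a => rfl
      right_inv := fun b => rfl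
      map_rel_iff' := Iff.rfl }
  haveI : Nonempty {a : T // a ≠ ⊤} := by
    obtain ⟨x, hx⟩ := hne
    exact ⟨e'.symm ⟨x, hx⟩⟩
  rw [← krullDim_eq_of_orderIso e, krullDim_WithTop, krullDim_eq_of_orderIso e']

end Poset

end Groth.Agent.Lib.Helper29.Punc
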