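import Mathlib
import Groth.Prelude.Def_LefX
import Groth.Prelude.Def_FEt
import Groth.Prelude.Def_W4bk5brsh7111920
import Groth.Agent.Lib.Helper8Conn
import Groth.Agent.Lib.Helper29Punc
import Groth.Agent.S11680

set_option autoImplicit false
set_option linter.style.haveILetI false
open Topology TopologicalSpace Order

namespace Groth.Agent.Lib.Helper29.Punc

universe u

section Punctured

variable {B : Type u} [CommRing B] [IsLocalRing B]

theorem isConnected_univ_spec : IsConnected (Set.univ : Set (PrimeSpectrum B)) := by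
  refine ⟨⟨IsLocalRing.closedPoint B, trivial⟩, ?_⟩
  apply isPreconnected_of_forall (IsLocalRing.closedPoint B)
  intro y _
  refine ⟨closure {y}, Set.subset_univ _, ?_, subset_closure rfl, isPreconnected_singleton.closure⟩
  rw [← specializes_iff_mem_closure, ← PrimeSpectrum.le_iff_specializes]
  exact le_closedPoint y

variable {Y : Type u} [TopologicalSpace Y] (j : Y → PrimeSpectrum B) (hj : IsOpenEmbedding j)
  (hr : Set.range j = {IsLocalRing.closedPoint B}ᶜ)

include hj in
theorem quasiSober_Y : QuasiSober Y := hj.quasiSober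

include hj in
/-- dimension of a closed subset of the punctured spectrum -/
theorem dim_closed_Y {Z : Set Y} (hZ : IsClosed Z) :
    topologicalKrullDim ↥Z = krullDim ↥(j '' Z) := by
  haveI := quasiSober_Y j hj
  haveI : QuasiSober ↥Z := hZ.isClosedEmbedding_subtypeVal.quasiSober
  have hg : IsEmbedding (j ∘ (Subtype.val : ↥Z → Y)) := hj.isEmbedding.comp IsEmbedding.subtypeVal
  rw [dim_eq_krullDim_range _ hg, Set.range_comp, Subtype.range_coe]

/-- dimension of a closed subset of the spectrum -/
theorem dim_closed_P {Z : Set (PrimeSpectrum B)} (hZ : IsClosed Z) :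
    topologicalKrullDim ↥Z = krullDim ↥Z := by
  haveI : QuasiSober ↥Z := hZ.isClosedEmbedding_subtypeVal.quasiSober
  have hg : IsEmbedding (Subtype.val : ↥Z → PrimeSpectrum B) := IsEmbedding.subtypeVal
  rw [dim_eq_krullDim_range _ hg, Subtype.range_coe]

include hr in
theorem ne_closedPoint (y : Y) : j y ≠ IsLocalRing.closedPoint B := by
  have : j y ∈ Set.range j := ⟨y, rfl⟩
  rw [hr] at this
  exact this

include hr in
theorem exists_of_ne {x : PrimeSpectrum B} (hx : x ≠ IsLocalRing.closedPoint B) : ∃ y, j y = x := by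
  have : x ∈ Set.range j := by rw [hr]; exact hx
  exact this

include hj hr in
theorem isClosed_union {Z : Set Y} (hZ : IsClosed Z) :
    IsClosed (j '' Z ∪ {IsLocalRing.closedPoint B}) := by
  have h : j '' Z ∪ {IsLocalRing.closedPoint B} = closure (j '' Z) ∪ {IsLocalRing.closedPoint B} := by
    apply le_antisymm
    · exact Set.union_subset_union_left _ subset_closure
    · rintro x (hx | hx)
      · by_cases hxn : x = IsLocalRing.closedPoint B
        · right; exact hxn
        · left
          obtain ⟨y, rfl⟩ := exists_of_ne j hr hxn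
          have : y ∈ closure Z := by
            rw [hj.isInducing.closure_eq_preimage_closure_image]
            exact hx
          rw [hZ.closure_eq] at this
          exact ⟨y, this, rfl⟩
      · right; exact hx
  rw [h]
  exact isClosed_closure.union (IsLocalRing.isClosed_singleton_closedPoint B)

include hj hr in
theorem compl_union (Z : Set Y) :
    (j '' Z ∪ {IsLocalRing.closedPoint B})ᶜ = j '' Zᶜ := by
  ext x
  constructor
  · intro hx
    rw [Set.mem_compl_iff, Set.mem_union, not_or] at hx
    obtain ⟨y, rfl⟩ := exists_of_ne j hr hx.2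
    exact ⟨y, fun hy => hx.1 ⟨y, hy, rfl⟩, rfl⟩
  · rintro ⟨y, hy, rfl⟩
    rw [Set.mem_compl_iff, Set.mem_union, not_or]
    refine ⟨?_, ne_closedPoint j hr y⟩
    rintro ⟨y', hy', h⟩
    exact hy (hj.injective h ▸ hy')

include hr in
theorem union_diff (Z : Set Y) :
    (j '' Z ∪ {IsLocalRing.closedPoint B}) \ {IsLocalRing.closedPoint B} = j '' Z := by
  ext x
  constructor
  · rintro ⟨hx | hx, hxn⟩
    · exact hx
    · exact absurd hx hxn
  · rintro ⟨y, hy, rfl⟩
    exact ⟨Or.inl ⟨y, hy, rfl⟩, ne_closedPoint j hr y⟩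

include hj in
theorem isConnected_image_iff (s : Set Y) : IsConnected (j '' s) ↔ IsConnected s := by
  unfold IsConnected
  rw [Set.image_nonempty, hj.isInducing.isPreconnected_image]

include hj hr in
/-- `c(Spec B) ≥ c + 1` implies that the punctured spectrum is connected in dimension `≥ c`. -/
theorem connectedInDim_of_le_connDim (c : ℕ)
    (hc : ((c + 1 : ℕ) : WithBot ℕ∞) ≤ LocCoh.connDim (PrimeSpectrum B)) :
    LefX.ConnectedInDim Y c := by
  intro Z hZ hdim
  by_contra hnc
  have hT := isClosed_union j hj hr hZ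
  have hncT : ¬ IsConnected (j '' Z ∪ {IsLocalRing.closedPoint B})ᶜ := by
    rw [compl_union j hj hr, isConnected_image_iff j hj]
    exact hnc
  have h1 := Groth.Agent.Lib.Helper8.Conn.connDim_le_of hT hncT
  rw [dim_closed_P hT] at h1
  have h2 : krullDim ↥(j '' Z ∪ {IsLocalRing.closedPoint B}) < ((c + 1 : ℕ) : WithBot ℕ∞) := by
    by_cases hne : (j '' Z).Nonempty
    · rw [krullDim_eq_add_one _ (Or.inr rfl) (by rw [union_diff j hr]; exact hne)]
      have h3 : krullDim ↥((j '' Z ∪ {IsLocalRing.closedPoint B}) \ {IsLocalRing.closedPoint B}) =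
          topologicalKrullDim ↥Z := by
        rw [dim_closed_Y j hj hZ, union_diff j hr]
      rw [h3]
      have h4 : topologicalKrullDim ↥Z + 1 ≤ (c : WithBot ℕ∞) :=
        ENat.WithBot.add_one_le_natCast_iff.mpr hdim
      refine lt_of_le_of_lt h4 ?_
      exact_mod_cast Nat.lt_succ_self c
    · rw [Set.not_nonempty_iff_eq_empty] at hne
      rw [hne, Set.empty_union]
      haveI : Unique ↥({IsLocalRing.closedPoint B} : Set (PrimeSpectrum B)) := Set.uniqueSingleton _
      rw [krullDim_eq_zero_of_unique]
      exact_mod_cast Nat.succ_pos c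
  exact absurd (lt_of_le_of_lt (hc.trans h1) h2) (lt_irrefl _)

include hj hr in
/-- If the punctured spectrum is connected in dimension `≥ k` then `c(Spec B) ≥ k + 1`. -/
theorem le_connDim_of_connectedInDim (k : ℕ) (h : LefX.ConnectedInDim Y k) :
    ((k + 1 : ℕ) : WithBot ℕ∞) ≤ LocCoh.connDim (PrimeSpectrum B) := by
  unfold LocCoh.connDim
  refine le_iInf₂ fun Z hZ => ?_
  obtain ⟨hZc, hZn⟩ := hZ
  have hZne : Z.Nonempty := by
    by_contra hemp
    rw [Set.not_nonempty_iff_eq_empty] at hemp
    apply hZn
    rw [hemp, Set.compl_empty]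
    exact isConnected_univ_spec
  have hnZ : IsLocalRing.closedPoint B ∈ Z := by
    obtain ⟨x, hx⟩ := hZne
    have : x ⤳ IsLocalRing.closedPoint B := by
      rw [← PrimeSpectrum.le_iff_specializes]
      exact le_closedPoint x
    exact this.mem_closed hZc hx
  have hZ' : IsClosed (j ⁻¹' Z) := hZc.preimage hj.continuous
  have himg : j '' (j ⁻¹' Z) = Z \ {IsLocalRing.closedPoint B} := by
    rw [Set.image_preimage_eq_inter_range, hr]
    rfl
  have hZeq : Z = j '' (j ⁻¹' Z) ∪ {IsLocalRing.closedPoint B} := by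
    rw [himg, Set.diff_union_self, Set.union_eq_self_of_subset_right (Set.singleton_subset_iff.mpr hnZ)]
  have hnc : ¬ IsConnected (j ⁻¹' Z)ᶜ := by
    rw [← isConnected_image_iff j hj, ← compl_union j hj hr, ← hZeq]
    exact hZn
  have h1 : (k : WithBot ℕ∞) ≤ topologicalKrullDim ↥(j ⁻¹' Z) := by
    by_contra hlt
    exact hnc (h _ hZ' (not_le.mp hlt))
  rw [dim_closed_Y j hj hZ', himg] at h1
  have hne : (Z \ {IsLocalRing.closedPoint B}).Nonempty := by
    by_contra hemp
    rw [Set.not_nonempty_iff_eq_empty] at hemp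
    haveI : IsEmpty ↥(Z \ {IsLocalRing.closedPoint B}) := by rw [hemp]; infer_instance
    rw [krullDim_eq_bot] at h1
    exact absurd h1 (by simp)
  rw [dim_closed_P hZc, krullDim_eq_add_one Z hnZ hne]
  push_cast
  exact add_le_add_left h1 1

theorem krullDim_zeroLocus (p : Ideal B) :
    krullDim ↥(PrimeSpectrum.zeroLocus (p : Set B)) = ringKrullDim (B ⧸ p) := by
  rw [← dim_closed_P (PrimeSpectrum.isClosed_zeroLocus _), Groth.Agent.S11680.dim_zeroLocus]

include hj hr in
/-- If all irreducible components of the (nonempty) punctured spectrum have dimension `≥ c + 1`,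
then `dim B/p ≥ c + 2` for all minimal primes `p`. -/
theorem le_dim_minimalPrime (c : ℕ) [Nonempty Y]
    (h : ∀ C ∈ irreducibleComponents Y, ((c + 1 : ℕ) : WithBot ℕ∞) ≤ topologicalKrullDim ↥C)
    (p : Ideal B) (hp : p ∈ minimalPrimes B) :
    ((c + 2 : ℕ) : WithBot ℕ∞) ≤ ringKrullDim (B ⧸ p) := by
  haveI := quasiSober_Y j hj
  haveI : T0Space Y := hj.isEmbedding.t0Space
  haveI hpp : p.IsPrime := hp.1.1
  -- `p` is not the maximal ideal
  have hpn : (⟨p, hpp⟩ : PrimeSpectrum B) ≠ IsLocalRing.closedPoint B := by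
    intro heq
    obtain ⟨y⟩ := (inferInstance : Nonempty Y)
    apply ne_closedPoint j hr y
    have h1 : (⟨p, hpp⟩ : PrimeSpectrum B) ≤ j y := by
      obtain ⟨q, hq, hqle⟩ := Ideal.exists_minimalPrimes_le (I := ⊥) (J := (j y).asIdeal) bot_le
      have hqp : p ≤ q := by
        have hq' : q ≤ (IsLocalRing.closedPoint B).asIdeal :=
          haveI := hq.1.1
          le_closedPoint ⟨q, hq.1.1⟩
        rw [← heq] at hq'
        exact hp.2 hq.1 hq'
      exact hqp.trans hqle
    rw [heq] at h1
    exact le_antisymm (le_closedPoint _) h1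
  obtain ⟨x, hx⟩ := exists_of_ne j hr hpn
  set C := irreducibleComponent x with hC
  have hCmem : C ∈ irreducibleComponents Y := irreducibleComponent_mem_irreducibleComponents x
  have hCirr : IsIrreducible C := isIrreducible_irreducibleComponent
  have hCcl : IsClosed C := isClosed_irreducibleComponent
  have hgen := hCirr.isGenericPoint_genericPoint hCcl
  set z := hCirr.genericPoint with hz
  have hzx : z = x := by
    have h1 : z ⤳ x := hgen.specializes mem_irreducibleComponent
    have h2 : j z ≤ j x := by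
      rw [PrimeSpectrum.le_iff_specializes, hj.isInducing.specializes_iff]
      exact h1
    rw [hx] at h2
    have h3 : p ≤ (j z).asIdeal := hp.2 ⟨(j z).2, bot_le⟩ h2
    apply hj.injective
    rw [hx]
    exact le_antisymm h2 h3
  have hsub : j '' C ⊆ PrimeSpectrum.zeroLocus (p : Set B) \ {IsLocalRing.closedPoint B} := by
    rintro _ ⟨y, hy, rfl⟩
    refine ⟨?_, ne_closedPoint j hr y⟩
    have h1 : z ⤳ y := hgen.specializes hy
    rw [hzx] at h1
    have h2 : j x ≤ j y := by
      rw [PrimeSpectrum.le_iff_specializes, hj.isInducing.specializes_iff]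
      exact h1
    rw [hx] at h2
    exact h2
  have h1 := h C hCmem
  rw [dim_closed_Y j hj hCcl] at h1
  have h2 := h1.trans (krullDim_mono hsub)
  have hnV : IsLocalRing.closedPoint B ∈ PrimeSpectrum.zeroLocus (p : Set B) :=
    le_closedPoint ⟨p, hpp⟩
  have hne : (PrimeSpectrum.zeroLocus (p : Set B) \ {IsLocalRing.closedPoint B}).Nonempty :=
    ⟨⟨p, hpp⟩, le_refl p, hpn⟩
  rw [← krullDim_zeroLocus, krullDim_eq_add_one _ hnV hne]
  have : ((c + 2 : ℕ) : WithBot ℕ∞) = ((c + 1 : ℕ) : WithBot ℕ∞) + 1 := by push_cast; ring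
  rw [this]
  exact add_le_add_left h2 1

include hj hr in
/-- If `dim B/q ≥ c + 2` for all minimal primes `q`, then all irreducible components of the
punctured spectrum have dimension `≥ c + 1`. -/
theorem le_dim_component (c : ℕ)
    (h : ∀ q : Ideal B, q ∈ minimalPrimes B → ((c + 2 : ℕ) : WithBot ℕ∞) ≤ ringKrullDim (B ⧸ q))
    (C : Set Y) (hC : C ∈ irreducibleComponents Y) :
    ((c + 1 : ℕ) : WithBot ℕ∞) ≤ topologicalKrullDim ↥C := by
  haveI := quasiSober_Y j hj
  haveI : T0Space Y := hj.isEmbedding.t0Space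
  have hCirr : IsIrreducible C := hC.1
  have hCcl : IsClosed C := isClosed_of_mem_irreducibleComponents C hC
  have hgen := hCirr.isGenericPoint_genericPoint hCcl
  set z := hCirr.genericPoint with hz
  -- the generic point is a minimal prime
  have hmin : (j z).asIdeal ∈ minimalPrimes B := by
    refine ⟨⟨(j z).2, bot_le⟩, ?_⟩
    rintro q' ⟨hq'p, -⟩ hq'le
    have hq'n : (⟨q', hq'p⟩ : PrimeSpectrum B) ≠ IsLocalRing.closedPoint B := by
      intro heq
      apply ne_closedPoint j hr z
      apply le_antisymm (le_closedPoint _)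
      rw [← heq]
      exact hq'le
    obtain ⟨y', hy'⟩ := exists_of_ne j hr hq'n
    have hy'z : y' ⤳ z := by
      rw [← hj.isInducing.specializes_iff, ← PrimeSpectrum.le_iff_specializes, hy']
      exact hq'le
    have hirr : IsIrreducible (closure {y'}) := isIrreducible_singleton.closure
    have hsub : C ⊆ closure {y'} := by
      rw [← hgen.def]
      exact closure_minimal (Set.singleton_subset_iff.mpr
        (specializes_iff_mem_closure.mp hy'z)) isClosed_closure
    have hle : closure {y'} ⊆ C := hC.2 hirr hsub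
    have hy'C : y' ∈ C := hle (subset_closure rfl)
    have h1 : z ⤳ y' := hgen.specializes hy'C
    have h2 : j z ≤ j y' := by
      rw [PrimeSpectrum.le_iff_specializes, hj.isInducing.specializes_iff]
      exact h1
    rw [hy'] at h2
    exact h2
  have himg : j '' C =
      PrimeSpectrum.zeroLocus ((j z).asIdeal : Set B) \ {IsLocalRing.closedPoint B} := by
    ext x
    constructor
    · rintro ⟨y, hy, rfl⟩
      refine ⟨?_, ne_closedPoint j hr y⟩
      have h1 : z ⤳ y := hgen.specializes hy
      have h2 : j z ≤ j y := by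
        rw [PrimeSpectrum.le_iff_specializes, hj.isInducing.specializes_iff]
        exact h1
      exact h2
    · rintro ⟨hx, hxn⟩
      obtain ⟨y, rfl⟩ := exists_of_ne j hr hxn
      refine ⟨y, ?_, rfl⟩
      have h2 : j z ≤ j y := hx
      rw [PrimeSpectrum.le_iff_specializes, hj.isInducing.specializes_iff] at h2
      rw [← hgen.def]
      exact specializes_iff_mem_closure.mp h2
  have h1 := h _ hmin
  have hnV : IsLocalRing.closedPoint B ∈ PrimeSpectrum.zeroLocus ((j z).asIdeal : Set B) :=
    le_closedPoint (j z)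
  have hne : (PrimeSpectrum.zeroLocus ((j z).asIdeal : Set B) \
      {IsLocalRing.closedPoint B}).Nonempty :=
    ⟨j z, (le_refl (j z).asIdeal : (j z).asIdeal ≤ (j z).asIdeal), ne_closedPoint j hr z⟩
  rw [← krullDim_zeroLocus, krullDim_eq_add_one _ hnV hne, ← himg] at h1
  rw [dim_closed_Y j hj hCcl]
  have : ((c + 2 : ℕ) : WithBot ℕ∞) = ((c + 1 : ℕ) : WithBot ℕ∞) + 1 := by push_cast; ring
  rw [this] at h1
  exact ENat.WithBot.add_le_add_one_right_iff.mp h1

end Punctured

end Groth.Agent.Lib.Helper29.Punc
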