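import Groth.Agent.Lib.Helper29GrDiffEq
import Groth.Agent.Lib.Helper29GrConv2
import Groth.Prelude.Def_Rees
import Groth.Prelude.Def_ReesMod
import Groth.Prelude.Def_GrSyz

/-! The Rees module `N = ⊕ IⁿM Xⁿ` of a module over the Rees algebra, the submodule
`N' = ⊕ Iⁿ⁺¹M Xⁿ`, the inclusion `N' → N` and the multiplication by the variable `N' → N` of
degree one, with the properties needed for the difference equation of graded local cohomology
(helper29). -/

set_option autoImplicit false
set_option linter.style.haveILetI false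
set_option linter.unusedSectionVars false
open DirectSum Polynomial

noncomputable section

namespace Groth.Agent.Lib.Helper29ReesGr

open Groth.Agent.Lib.Helper29GrConv Groth.Agent.Lib.Helper29GrShift

universe u

variable {A : Type u} [CommRing A] (I : Ideal A) (M : Type u) [AddCommGroup M] [Module A M]

/-- The shifted `I`-adic filtration `n ↦ I^(n+1) M`. -/
def shiftFilt : I.Filtration M where
  N n := I ^ (n + 1) • (⊤ : Submodule A M)
  mono n := Submodule.smul_mono_left (Ideal.pow_le_pow_right (Nat.le_succ (n + 1)))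
  smul_le n := by
    rw [← mul_smul, ← pow_succ']

theorem shiftFilt_N (n : ℕ) : (shiftFilt I M).N n = I ^ (n + 1) • (⊤ : Submodule A M) := rfl

theorem powFilt_N (n : ℕ) : (Rees.powFilt I M).N n = I ^ n • (⊤ : Submodule A M) := rfl

/-- The grading of the Rees algebra, as additive subgroups. -/
abbrev gA : ℤ → AddSubgroup ↥(reesAlgebra I) := asGr (Rees.degZ (reesAlgebra I))

/-- The Rees module. -/
abbrev NN : Type u := ↥(Rees.powFilt I M).submodule

/-- The grading of the Rees module. -/
abbrev gN : ℤ → AddSubgroup (NN I M) := asGr (Rees.mdegZ (Rees.powFilt I M))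

/-- The Rees module of the shifted filtration. -/
abbrev NN' : Type u := ↥(shiftFilt I M).submodule

/-- The grading of the Rees module of the shifted filtration. -/
abbrev gN' : ℤ → AddSubgroup (NN' I M) := asGr (Rees.mdegZ (shiftFilt I M))

theorem mem_gN_iff (n : ℤ) (x : NN I M) :
    x ∈ gN I M n ↔ ∀ m : ℕ, (m : ℤ) ≠ n → (x : PolynomialModule A M).coeff m = 0 := Iff.rfl

theorem mem_gN'_iff (n : ℤ) (x : NN' I M) :
    x ∈ gN' I M n ↔ ∀ m : ℕ, (m : ℤ) ≠ n → (x : PolynomialModule A M).coeff m = 0 := Iff.rfl

theorem mem_gA_iff (n : ℤ) (f : ↥(reesAlgebra I)) :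
    f ∈ gA I n ↔ ∀ m : ℕ, (m : ℤ) ≠ n → (f : A[X]).coeff m = 0 := Iff.rfl

theorem submodule_le : (shiftFilt I M).submodule ≤ (Rees.powFilt I M).submodule := by
  intro f hf i
  have h1 : I ^ (i + 1) • (⊤ : Submodule A M) ≤ I ^ i • (⊤ : Submodule A M) :=
    Submodule.smul_mono_left (Ideal.pow_le_pow_right (Nat.le_succ i))
  exact h1 (hf i)

/-- The inclusion `N' → N`. -/
def jj : NN' I M →ₗ[↥(reesAlgebra I)] NN I M := Submodule.inclusion (submodule_le I M)

theorem jj_coe (f : NN' I M) : ((jj I M f : NN I M) : PolynomialModule A M) = f := rfl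

theorem jj_injective : Function.Injective (jj I M) := Submodule.inclusion_injective _

theorem jj_grHom : GrLC.IsGrHom (gN' I M) (gN I M) (jj I M) := fun _ _ hx => hx

theorem X_smul_coeff (g : PolynomialModule A M) (n : ℕ) :
    ((X : A[X]) • g).coeff n = if 1 ≤ n then g.coeff (n - 1) else 0 := by
  rw [← Polynomial.monomial_one_one_eq_X, PolynomialModule.monomial_smul_apply]
  split_ifs <;> simp

theorem X_smul_coeff_succ (g : PolynomialModule A M) (n : ℕ) :
    ((X : A[X]) • g).coeff (n + 1) = g.coeff n := by
  rw [X_smul_coeff, if_pos (Nat.le_add_left 1 n), Nat.add_sub_cancel]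

theorem X_smul_coeff_zero (g : PolynomialModule A M) :
    ((X : A[X]) • g).coeff 0 = 0 := by
  rw [X_smul_coeff, if_neg (by omega)]

theorem X_smul_mem (f : NN' I M) :
    (X : A[X]) • (f : PolynomialModule A M) ∈ (Rees.powFilt I M).submodule := by
  intro i
  cases i with
  | zero =>
    rw [X_smul_coeff_zero]
    exact zero_mem _
  | succ n =>
    rw [X_smul_coeff_succ]
    exact f.2 n

/-- Multiplication by the variable, `N' → N`, of degree one. -/
def μμ : NN' I M →ₗ[↥(reesAlgebra I)] NN I M where
  toFun f := ⟨(X : A[X]) • (f : PolynomialModule A M), X_smul_mem I M f⟩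
  map_add' f g := Subtype.ext (by
    show (X : A[X]) • ((f + g : NN' I M) : PolynomialModule A M) = _
    rw [Submodule.coe_add, smul_add]
    rfl)
  map_smul' s f := Subtype.ext (by
    show (X : A[X]) • ((s • f : NN' I M) : PolynomialModule A M) =
      ((s • (⟨(X : A[X]) • (f : PolynomialModule A M), X_smul_mem I M f⟩ : NN I M) : NN I M) :
        PolynomialModule A M)
    rw [Submodule.coe_smul, Submodule.coe_smul, Subalgebra.smul_def, Subalgebra.smul_def,
      smul_smul, smul_smul, mul_comm])

theorem μμ_coe (f : NN' I M) :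
    ((μμ I M f : NN I M) : PolynomialModule A M) = (X : A[X]) • (f : PolynomialModule A M) := rfl

theorem μμ_injective : Function.Injective (μμ I M) := by
  rw [injective_iff_map_eq_zero]
  intro f hf
  apply Subtype.ext
  show (f : PolynomialModule A M) = 0
  have h0 : (f : PolynomialModule A M).coeff = 0 := by
    apply Finsupp.ext
    intro n
    have h1 : ((μμ I M f : NN I M) : PolynomialModule A M).coeff (n + 1) = 0 := by
      rw [hf]
      rfl
    rw [μμ_coe, X_smul_coeff_succ] at h1
    rw [h1]
    rfl
  exact (PolynomialModule.coeff_eq_zero (R := A) (x := (f : PolynomialModule A M))).mp h0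

theorem μμ_grHom : GrLC.IsGrHom (gN' I M) (shiftGr (gN I M) 1) (μμ I M) := by
  intro γ f hf
  show μμ I M f ∈ gN I M (γ + 1)
  rw [mem_gN_iff]
  intro m hm
  rw [μμ_coe]
  cases m with
  | zero => exact X_smul_coeff_zero M _
  | succ k =>
    rw [X_smul_coeff_succ]
    apply (mem_gN'_iff I M γ f).mp hf k
    intro hk
    apply hm
    push_cast
    omega

/-- Elements of the Rees module without constant term are multiples of the variable. -/
theorem mem_range_μμ (x : NN I M) (hx : (x : PolynomialModule A M).coeff 0 = 0) :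
    x ∈ LinearMap.range (μμ I M) := by
  classical
  let g : PolynomialModule A M :=
    PolynomialModule.ofCoeff A
      (Finsupp.comapDomain Nat.succ (x : PolynomialModule A M).coeff Nat.succ_injective.injOn)
  have hg : g ∈ (shiftFilt I M).submodule := by
    intro i
    show (Finsupp.comapDomain Nat.succ (x : PolynomialModule A M).coeff
      Nat.succ_injective.injOn) i ∈ _
    rw [Finsupp.comapDomain_apply]
    exact x.2 (i + 1)
  refine ⟨⟨g, hg⟩, ?_⟩
  apply Subtype.ext
  apply PolynomialModule.coeff_injective
  apply Finsupp.ext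
  intro n
  rw [μμ_coe]
  cases n with
  | zero => rw [X_smul_coeff_zero, hx]
  | succ k =>
    rw [X_smul_coeff_succ]
    show (Finsupp.comapDomain Nat.succ (x : PolynomialModule A M).coeff
      Nat.succ_injective.injOn) k = _
    rw [Finsupp.comapDomain_apply]

theorem mem_range_μμ_of_mem_gN (γ : ℤ) (hγ : 1 ≤ γ) (x : NN I M) (hx : x ∈ gN I M γ) :
    x ∈ LinearMap.range (μμ I M) := by
  apply mem_range_μμ
  apply (mem_gN_iff I M γ x).mp hx 0
  push_cast
  omega

end Groth.Agent.Lib.Helper29ReesGr
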