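import Groth.Agent.Lib.Helper29ReesGrA
import Groth.Agent.Lib.Helper8Matlis
import Groth.Agent.Lib.Helper8LCAdd

/-! The Rees algebra of an `m`-primary ideal as a graded ring: positivity, the irrelevant ideal,
finiteness of the Rees modules, and the finiteness hypothesis of the generalized
Serre–Grothendieck formula for graded modules killed by `I` (helper29). -/

set_option autoImplicit false
set_option linter.style.haveILetI false
set_option linter.unusedSectionVars false
open DirectSum Polynomial

noncomputable section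

namespace Groth.Agent.Lib.Helper29ReesGr

open Groth.Agent.Lib.Helper29GrConv Groth.Agent.Lib.Helper29GrShift
  Groth.Agent.Lib.Helper29GrSerreGen

universe u

section General

/-- A finitely generated module over a quotient `R₀` of a Noetherian local ring `A`, killed by an
`m`-primary ideal of `A`, has finite length. -/
theorem length_ne_top_of_killed {A R₀ : Type u} [CommRing A] [IsLocalRing A] [IsNoetherianRing A]
    [CommRing R₀] (j₀ : A →+* R₀) (hj : Function.Surjective j₀) (I : Ideal A)
    (hI : I.radical = IsLocalRing.maximalIdeal A) (V : Type u) [AddCommGroup V] [Module R₀ V]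
    [Module.Finite R₀ V] (hV : ∀ a ∈ I, ∀ v : V, j₀ a • v = 0) : Module.length R₀ V ≠ ⊤ := by
  letI : Algebra A R₀ := j₀.toAlgebra
  letI : Module A V := Module.compHom V j₀
  haveI : IsScalarTower A R₀ V := ⟨fun a r v => by
    show (j₀ a * r) • v = j₀ a • (r • v)
    rw [mul_smul]⟩
  haveI : Module.Finite A R₀ := Module.Finite.of_surjective (Algebra.linearMap A R₀) hj
  haveI : Module.Finite A V := Module.Finite.trans R₀ V
  have hfl : IsFiniteLength A V := by
    rw [Groth.Agent.Lib.Helper8.Matlis.isFiniteLength_iff_tors]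
    intro P hP x
    have hnle : ¬ I ≤ P.asIdeal := by
      intro hle
      apply hP
      have h1 : IsLocalRing.maximalIdeal A ≤ P.asIdeal := by
        rw [← hI]
        exact (Ideal.IsPrime.radical_le_iff P.2).mpr hle
      exact le_antisymm (IsLocalRing.le_maximalIdeal P.2.ne_top) h1
    obtain ⟨s, hs, hsP⟩ := Set.not_subset.mp hnle
    exact ⟨s, hsP, hV s hs x⟩
  have h1 : Module.length A V = Module.length R₀ V := Module.length_eq_of_surjective hj
  rw [← h1]
  exact Module.length_ne_top_iff.mpr hfl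

end General

/-- Shortcut instance (instance search through `Subalgebra.toRing` gets stuck inside unification
problems for subtypes of modules over the Rees algebra). -/
instance instRingRees {A : Type u} [CommRing A] (I : Ideal A) : Ring ↥(reesAlgebra I) :=
  inferInstance

variable {A : Type u} [CommRing A] [IsNoetherianRing A] (I : Ideal A) (M : Type u) [AddCommGroup M]
  [Module A M] [Module.Finite A M]

/-- The irrelevant ideal of the Rees algebra. -/
abbrev aa : HomogeneousIdeal (gA I) :=
  idealAS (Rees.degZ (reesAlgebra I)) (GrSyz.irrel (Rees.degZ (reesAlgebra I)))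

theorem gA_neg (n : ℤ) (hn : n < 0) : gA I n = ⊥ := by
  rw [eq_bot_iff]
  intro f hf
  rw [AddSubgroup.mem_bot]
  apply Subtype.ext
  apply Polynomial.ext
  intro m
  rw [(mem_gA_iff I n f).mp hf m (by omega)]
  simp

theorem aa_toIdeal : (aa I).toIdeal =
    Ideal.span (⋃ n ∈ Set.Ioi (0 : ℤ), (gA I n : Set ↥(reesAlgebra I))) := by
  show Ideal.span {r : ↥(reesAlgebra I) | ∃ n : ℤ, 0 < n ∧ r ∈ Rees.degZ (reesAlgebra I) n} = _
  congr 1
  ext r
  simp only [Set.mem_ofPred_eq, Set.mem_iUnion, Set.mem_Ioi, SetLike.mem_coe, exists_prop]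
  rfl

theorem coeff_zero_of_mem_aa (r : ↥(reesAlgebra I)) (hr : r ∈ (aa I).toIdeal) :
    (r : A[X]).coeff 0 = 0 := by
  have hr' : r ∈ Ideal.span {r : ↥(reesAlgebra I) | ∃ n : ℤ, 0 < n ∧
      r ∈ Rees.degZ (reesAlgebra I) n} := hr
  refine Submodule.span_induction ?_ ?_ ?_ ?_ hr'
  · rintro x ⟨n, hn, hx⟩
    exact (Rees.mem_degZ_iff (reesAlgebra I) n x).mp hx 0 (by push_cast; omega)
  · simp
  · intro x y _ _ hx hy
    rw [Subalgebra.coe_add, Polynomial.coeff_add, hx, hy, add_zero]
  · intro s x _ hx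
    rw [smul_eq_mul, Subalgebra.coe_mul, Polynomial.mul_coeff_zero, hx, mul_zero]

theorem smul_mem_range_μμ (x : NN I M) :
    ∃ k : ℕ, ∀ r ∈ (aa I).toIdeal ^ k, r • x ∈ LinearMap.range (μμ I M) := by
  refine ⟨1, fun r hr => ?_⟩
  rw [pow_one] at hr
  apply mem_range_μμ
  rw [Submodule.coe_smul, Subalgebra.smul_def, PolynomialModule.smul_apply,
    Finset.Nat.antidiagonal_zero, Finset.sum_singleton, coeff_zero_of_mem_aa I r hr, zero_smul]

instance finite_NN : Module.Finite ↥(reesAlgebra I) (NN I M) := by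
  haveI : IsNoetherian A M := isNoetherian_of_isNoetherianRing_of_finite A M
  rw [Module.Finite.iff_fg, Ideal.Filtration.submodule_fg_iff_stable _
    (fun i => IsNoetherian.noetherian _)]
  exact Ideal.stableFiltration_stable I ⊤

instance finite_NN' : Module.Finite ↥(reesAlgebra I) (NN' I M) := by
  haveI : IsNoetherian A M := isNoetherian_of_isNoetherianRing_of_finite A M
  rw [Module.Finite.iff_fg, Ideal.Filtration.submodule_fg_iff_stable _
    (fun i => IsNoetherian.noetherian _)]
  refine ⟨0, fun n _ => ?_⟩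
  rw [shiftFilt_N, shiftFilt_N, ← mul_smul, ← pow_succ']

/-- The ideal of the Rees algebra generated by `I` (in degree zero). -/
abbrev QQ : Ideal ↥(reesAlgebra I) := I.map (algebraMap A ↥(reesAlgebra I))

theorem algebraMap_smul_coeff (a : A) (y : NN I M) (n : ℕ) :
    ((algebraMap A ↥(reesAlgebra I) a • y : NN I M) : PolynomialModule A M).coeff n =
      a • (y : PolynomialModule A M).coeff n := by
  rw [algebraMap_smul, Submodule.coe_smul_of_tower]
  rfl

theorem smul_mem_range_jj (r : ↥(reesAlgebra I)) (hr : r ∈ QQ I) (y : NN I M) :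
    r • y ∈ LinearMap.range (jj I M) := by
  have hr' : r ∈ Ideal.span ((algebraMap A ↥(reesAlgebra I)) '' (I : Set A)) := hr
  refine Submodule.span_induction (p := fun r _ => ∀ y : NN I M, r • y ∈ LinearMap.range (jj I M))
    ?_ ?_ ?_ ?_ hr' y
  · rintro _ ⟨a, ha, rfl⟩ y
    have hmem : ((algebraMap A ↥(reesAlgebra I) a • y : NN I M) : PolynomialModule A M) ∈
        (shiftFilt I M).submodule := by
      intro n
      rw [algebraMap_smul_coeff, shiftFilt_N, pow_succ', mul_smul]
      exact Submodule.smul_mem_smul ha (y.2 n)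
    exact ⟨⟨_, hmem⟩, rfl⟩
  · intro y
    rw [zero_smul]
    exact zero_mem _
  · intro x z _ _ hx hz y
    rw [add_smul]
    exact add_mem (hx y) (hz y)
  · intro s x _ hx y
    rw [smul_eq_mul, mul_smul]
    exact Submodule.smul_mem _ s (hx y)

theorem smul_quot_eq_zero (r : ↥(reesAlgebra I)) (hr : r ∈ QQ I)
    (x : NN I M ⧸ LinearMap.range (jj I M)) : r • x = 0 := by
  obtain ⟨y, rfl⟩ := Submodule.mkQ_surjective _ x
  rw [← map_smul, Submodule.mkQ_apply, Submodule.Quotient.mk_eq_zero]
  exact smul_mem_range_jj I M r hr y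

section Local

variable [IsLocalRing A] (hI : I.radical = IsLocalRing.maximalIdeal A)

theorem algebraMap_mem_deg0 (a : A) :
    algebraMap A ↥(reesAlgebra I) a ∈ GrLC.deg0 (gA I) := by
  show algebraMap A ↥(reesAlgebra I) a ∈ gA I 0
  rw [mem_gA_iff]
  intro m hm
  show (algebraMap A A[X] a).coeff m = 0
  rw [Polynomial.algebraMap_apply, Algebra.algebraMap_self, RingHom.id_apply, Polynomial.coeff_C,
    if_neg]
  intro h
  apply hm
  rw [h]
  rfl

/-- The structure map `A → R(I)_0`. -/
def j₀ : A →+* ↥(GrLC.deg0 (gA I)) :=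
  (algebraMap A ↥(reesAlgebra I)).codRestrict (GrLC.deg0 (gA I)) (algebraMap_mem_deg0 I)

theorem j₀_coe (a : A) : ((j₀ I a : ↥(GrLC.deg0 (gA I))) : ↥(reesAlgebra I)) =
    algebraMap A ↥(reesAlgebra I) a := rfl

theorem j₀_surjective : Function.Surjective (j₀ I) := by
  rintro ⟨r, hr⟩
  refine ⟨(r : A[X]).coeff 0, ?_⟩
  apply Subtype.ext
  apply Subtype.ext
  rw [j₀_coe]
  show algebraMap A A[X] ((r : A[X]).coeff 0) = (r : A[X])
  apply Polynomial.ext
  intro m
  rw [Polynomial.algebraMap_apply, Algebra.algebraMap_self, RingHom.id_apply, Polynomial.coeff_C]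
  split_ifs with h
  · rw [h]
  · have hr' : r ∈ gA I 0 := hr
    exact ((mem_gA_iff I 0 r).mp hr' m (by omega)).symm

include hI in
/-- The finiteness hypothesis of the generalized Serre–Grothendieck formula holds for graded
modules over the Rees algebra of an `m`-primary ideal killed by `I`. -/
theorem finHyp : FinHyp (aa I) (QQ I) := by
  intro X _ _ _ 𝒳 _ _ hX
  haveI : IsNoetherian ↥(reesAlgebra I) X := isNoetherian_of_isNoetherianRing_of_finite _ X
  have hmemQ : ∀ a ∈ I, algebraMap A ↥(reesAlgebra I) a ∈ QQ I :=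
    fun a ha => Ideal.mem_map_of_mem _ ha
  refine ⟨fun n => ?_, fun G i n => ?_⟩
  · haveI : Module.Finite (GrLC.deg0 (gA I)) (GrLC.comp (gA I) 𝒳 n) :=
      Groth.Agent.Lib.Helper29GrPieceFin.finite_comp (gA I) 𝒳 n
    refine length_ne_top_of_killed (j₀ I) (j₀_surjective I) I hI _ ?_
    intro a ha v
    apply Subtype.ext
    show algebraMap A ↥(reesAlgebra I) a • (v : X) = 0
    exact hX _ (hmemQ a ha) _
  · haveI : Module.Finite (GrLC.deg0 (gA I)) (G.Hcomp (aa I) i n) :=
      Groth.Agent.Lib.Helper29GrFinite.finite_Hcomp (aa I) (gA_neg I) (aa_toIdeal I) i X 𝒳 G n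
    refine length_ne_top_of_killed (j₀ I) (j₀_surjective I) I hI _ ?_
    intro a ha v
    apply Subtype.ext
    show algebraMap A ↥(reesAlgebra I) a • (v : G.H (aa I) i) = 0
    obtain ⟨e⟩ := Groth.Agent.S13224.result ↥(reesAlgebra I) (gA I) (aa I) X 𝒳 G i
    apply e.injective
    rw [map_smul, map_zero]
    exact Groth.Agent.Lib.Helper8.LC.smul_H_eq_zero_of_smul_eq_zero (aa I).toIdeal i _ X
      (fun m => hX _ (hmemQ a ha) m) _

end Local

end Groth.Agent.Lib.Helper29ReesGr
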