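import Groth.Agent.Lib.Helper29ReesGrB

/-! The associated graded module `N/N' = ⊕ IⁿM/Iⁿ⁺¹M` of the Rees module as a graded module over
the Rees algebra, and its Hilbert function in terms of the lengths `ℓ_A(M/IⁿM)` (helper29). -/

set_option autoImplicit false
set_option linter.style.haveILetI false
set_option linter.unusedSectionVars false
open DirectSum Polynomial

noncomputable section

namespace Groth.Agent.Lib.Helper29ReesGr

open Groth.Agent.Lib.Helper29GrConv Groth.Agent.Lib.Helper29GrShift
  Groth.Agent.Lib.Helper29GrSerreGen Groth.Agent.Lib.Helper29GrQuot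
  Groth.Agent.Lib.Helper29GrSerre

universe u

section General

variable {A : Type u} [CommRing A] {M : Type u} [AddCommGroup M] [Module A M]

/-- `ℓ(M/K) = ℓ(L/K) + ℓ(M/L)` for submodules `K ≤ L`. -/
theorem length_quot_add (K L : Submodule A M) (hKL : K ≤ L) :
    Module.length A (M ⧸ K) = Module.length A (↥L ⧸ K.comap L.subtype) +
      Module.length A (M ⧸ L) := by
  apply Module.length_eq_add_of_exact (Submodule.mapQ (K.comap L.subtype) K L.subtype le_rfl)
    (Submodule.mapQ K L LinearMap.id hKL)
  · rw [injective_iff_map_eq_zero]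
    intro y hy
    obtain ⟨x, rfl⟩ := Submodule.mkQ_surjective _ y
    rw [Submodule.mkQ_apply, Submodule.mapQ_apply, Submodule.Quotient.mk_eq_zero] at hy
    rw [Submodule.mkQ_apply, Submodule.Quotient.mk_eq_zero]
    exact hy
  · intro y
    obtain ⟨x, rfl⟩ := Submodule.mkQ_surjective _ y
    exact ⟨K.mkQ x, rfl⟩
  · intro y
    obtain ⟨x, rfl⟩ := Submodule.mkQ_surjective _ y
    rw [Submodule.mkQ_apply, Submodule.mapQ_apply, Submodule.Quotient.mk_eq_zero]
    constructor
    · intro hx
      exact ⟨(K.comap L.subtype).mkQ ⟨x, hx⟩, rfl⟩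
    · rintro ⟨z, hz⟩
      obtain ⟨w, rfl⟩ := Submodule.mkQ_surjective _ z
      rw [Submodule.mkQ_apply, Submodule.mapQ_apply, Submodule.subtype_apply] at hz
      have h1 : (w : M) - x ∈ K := (Submodule.Quotient.eq K).mp hz
      have h2 : x = (w : M) - ((w : M) - x) := by abel
      rw [h2]
      exact L.sub_mem w.2 (hKL h1)

end General

section Fin

variable {A : Type u} [CommRing A] [IsNoetherianRing A] [IsLocalRing A] (I : Ideal A)
  (hI : I.radical = IsLocalRing.maximalIdeal A) (M : Type u) [AddCommGroup M] [Module A M]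
  [Module.Finite A M]

include hI in
theorem length_quot_pow_succ_ne_top (k : ℕ) :
    Module.length A (M ⧸ (I ^ (k + 1) • (⊤ : Submodule A M))) ≠ ⊤ := by
  refine length_ne_top_of_killed (RingHom.id A) Function.surjective_id (I ^ (k + 1)) ?_ _ ?_
  · rw [Ideal.radical_pow I (Nat.succ_ne_zero k), hI]
  · intro a ha v
    obtain ⟨x, rfl⟩ := Submodule.mkQ_surjective _ v
    rw [RingHom.id_apply, ← map_smul, Submodule.mkQ_apply, Submodule.Quotient.mk_eq_zero]
    exact Submodule.smul_mem_smul ha Submodule.mem_top

include hI in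
theorem length_quot_pow_ne_top (k : ℕ) :
    Module.length A (M ⧸ (I ^ k • (⊤ : Submodule A M))) ≠ ⊤ := by
  have h1 := length_quot_pow_succ_ne_top I hI M k
  have hle : I ^ (k + 1) • (⊤ : Submodule A M) ≤ I ^ k • (⊤ : Submodule A M) :=
    Submodule.smul_mono_left (Ideal.pow_le_pow_right (Nat.le_succ k))
  have h2 := length_quot_add (I ^ (k + 1) • (⊤ : Submodule A M)) (I ^ k • (⊤ : Submodule A M)) hle
  intro htop
  apply h1
  rw [h2, htop, add_top]

end Fin

section Quot

variable {A : Type u} [CommRing A] (I : Ideal A) (M : Type u) [AddCommGroup M] [Module A M]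

theorem range_jj_isHomogeneous : (LinearMap.range (jj I M)).IsHomogeneous (gN I M) := by
  rw [LinearMap.range_eq_map]
  exact Groth.Agent.Lib.Helper29GrGam.map_isHomogeneous (gN' I M) (gN I M) (jj I M) (jj_grHom I M)
    (fun g x _ => Submodule.mem_top)

/-- The associated graded module of `M`, as a quotient of the Rees module. -/
abbrev QM : Type u := NN I M ⧸ LinearMap.range (jj I M)

/-- Its grading. -/
abbrev gQ : ℤ → AddSubgroup (QM I M) := quotGr (gN I M) (LinearMap.range (jj I M))

instance decQ : DirectSum.Decomposition (gQ I M) :=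
  quotDecomposition _ _ (range_jj_isHomogeneous I M)

instance smulQ : SetLike.GradedSMul (gA I) (gQ I M) := quot_gradedSMul _ _ (gA I)

theorem mkQ_grHom : GrLC.IsGrHom (gN I M) (gQ I M) (LinearMap.range (jj I M)).mkQ :=
  fun γ y hy => ⟨y, hy, rfl⟩

/-- The monomial `m Xᵏ` of the Rees module, for `m ∈ IᵏM`. -/
def mono (k : ℕ) (m : ↥(I ^ k • (⊤ : Submodule A M))) : NN I M :=
  ⟨PolynomialModule.single A k (m : M), fun i => by
    rw [PolynomialModule.coeff_single, Finsupp.single_apply]
    split_ifs with h
    · subst h; exact m.2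
    · exact zero_mem _⟩

theorem mono_coe (k : ℕ) (m : ↥(I ^ k • (⊤ : Submodule A M))) :
    ((mono I M k m : NN I M) : PolynomialModule A M) = PolynomialModule.single A k (m : M) := rfl

theorem mono_mem (k : ℕ) (m : ↥(I ^ k • (⊤ : Submodule A M))) : mono I M k m ∈ gN I M (k : ℤ) := by
  rw [mem_gN_iff]
  intro i hi
  rw [mono_coe, PolynomialModule.coeff_single, Finsupp.single_apply, if_neg]
  intro h
  apply hi
  rw [h]

theorem eq_mono_of_mem (k : ℕ) (x : NN I M) (hx : x ∈ gN I M (k : ℤ)) :
    x = mono I M k ⟨(x : PolynomialModule A M).coeff k, x.2 k⟩ := by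
  apply Subtype.ext
  apply PolynomialModule.coeff_injective
  apply Finsupp.ext
  intro i
  rw [mono_coe, PolynomialModule.coeff_single, Finsupp.single_apply]
  split_ifs with h
  · rw [h]
  · exact (mem_gN_iff I M k x).mp hx i (fun hik => h (by exact_mod_cast hik.symm))

theorem mono_add (k : ℕ) (m m' : ↥(I ^ k • (⊤ : Submodule A M))) :
    mono I M k (m + m') = mono I M k m + mono I M k m' := by
  apply Subtype.ext
  rw [Submodule.coe_add, mono_coe, mono_coe, mono_coe, Submodule.coe_add,
    PolynomialModule.single_add]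

theorem mono_smul (k : ℕ) (a : A) (m : ↥(I ^ k • (⊤ : Submodule A M))) :
    mono I M k (a • m) = algebraMap A ↥(reesAlgebra I) a • mono I M k m := by
  apply Subtype.ext
  rw [algebraMap_smul, Submodule.coe_smul_of_tower, mono_coe, mono_coe, Submodule.coe_smul,
    PolynomialModule.single_smul]

theorem mono_mem_range_jj_iff (k : ℕ) (m : ↥(I ^ k • (⊤ : Submodule A M))) :
    mono I M k m ∈ LinearMap.range (jj I M) ↔ (m : M) ∈ I ^ (k + 1) • (⊤ : Submodule A M) := by
  constructor
  · rintro ⟨f, hf⟩
    have h1 := f.2 k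
    have h2 : ((jj I M f : NN I M) : PolynomialModule A M) = (f : PolynomialModule A M) := rfl
    rw [← h2, hf, mono_coe, PolynomialModule.coeff_single, Finsupp.single_eq_same] at h1
    exact h1
  · intro hm
    have hmem : PolynomialModule.single A k (m : M) ∈ (shiftFilt I M).submodule := by
      intro i
      rw [PolynomialModule.coeff_single, Finsupp.single_apply]
      split_ifs with h
      · subst h; exact hm
      · exact zero_mem _
    exact ⟨⟨_, hmem⟩, rfl⟩

end Quot

end Groth.Agent.Lib.Helper29ReesGr
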