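import Groth.Agent.Lib.Helper29ReesGrC

/-! The Hilbert function of the associated graded module `⊕ IⁿM/Iⁿ⁺¹M` (as a graded module over
the Rees algebra, lengths over the degree-zero subring) is the difference of the lengths
`ℓ_A(M/Iⁿ⁺¹M) - ℓ_A(M/IⁿM)` (helper29). -/

set_option autoImplicit false
set_option linter.style.haveILetI false
set_option linter.unusedSectionVars false
set_option synthInstance.maxHeartbeats 400000
set_option maxHeartbeats 1000000
open DirectSum Polynomial

noncomputable section

namespace Groth.Agent.Lib.Helper29ReesGr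

open Groth.Agent.Lib.Helper29GrConv Groth.Agent.Lib.Helper29GrShift
  Groth.Agent.Lib.Helper29GrSerreGen Groth.Agent.Lib.Helper29GrQuot
  Groth.Agent.Lib.Helper29GrSerre

universe u

section General

/-- Lengths along a surjective additive map which is semilinear for a surjective ring map. -/
theorem length_eq_of_semilinear_surj {A R₀ : Type u} [CommRing A] [CommRing R₀] (j₀ : A →+* R₀)
    (hj : Function.Surjective j₀) {L' V : Type u} [AddCommGroup L'] [Module A L']
    [AddCommGroup V] [Module R₀ V] (θ : L' →+ V) (hθ : ∀ (a : A) (m : L'), θ (a • m) = j₀ a • θ m)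
    (hs : Function.Surjective θ) (K' : Submodule A L') (hK : ∀ m, θ m = 0 ↔ m ∈ K') :
    Module.length R₀ V = Module.length A (L' ⧸ K') := by
  letI : Algebra A R₀ := j₀.toAlgebra
  letI : Module A V := Module.compHom V j₀
  haveI : IsScalarTower A R₀ V := ⟨fun a r v => by
    show (j₀ a * r) • v = j₀ a • (r • v)
    rw [mul_smul]⟩
  have h1 : Module.length A V = Module.length R₀ V := Module.length_eq_of_surjective hj
  let θ' : L' →ₗ[A] V := { toFun := θ, map_add' := map_add θ, map_smul' := hθ }
  have hker : LinearMap.ker θ' = K' := by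
    ext m
    rw [LinearMap.mem_ker]
    exact hK m
  have hs' : Function.Surjective θ' := hs
  rw [← h1, ← hker]
  exact (θ'.quotKerEquivOfSurjective hs').length_eq.symm

end General

variable {A : Type u} [CommRing A] [IsNoetherianRing A] [IsLocalRing A] (I : Ideal A)
  (hI : I.radical = IsLocalRing.maximalIdeal A) (M : Type u) [AddCommGroup M] [Module A M]
  [Module.Finite A M]

/-- The map `IᵏM → (N/N')_k`. -/
def θθ (k : ℕ) : ↥(I ^ k • (⊤ : Submodule A M)) →+ ↥(GrLC.comp (gA I) (gQ I M) (k : ℤ)) where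
  toFun m := ⟨(LinearMap.range (jj I M)).mkQ (mono I M k m), ⟨mono I M k m, mono_mem I M k m, rfl⟩⟩
  map_zero' := Subtype.ext (by
    show (LinearMap.range (jj I M)).mkQ (mono I M k 0) = 0
    have : mono I M k 0 = 0 := by
      apply Subtype.ext
      rw [mono_coe]
      simp
    rw [this, map_zero])
  map_add' m m' := Subtype.ext (by
    show (LinearMap.range (jj I M)).mkQ (mono I M k (m + m')) =
      (LinearMap.range (jj I M)).mkQ (mono I M k m) +
        (LinearMap.range (jj I M)).mkQ (mono I M k m')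
    rw [mono_add, map_add])

theorem θθ_coe (k : ℕ) (m : ↥(I ^ k • (⊤ : Submodule A M))) :
    ((θθ I M k m : ↥(GrLC.comp (gA I) (gQ I M) (k : ℤ))) : QM I M) =
      (LinearMap.range (jj I M)).mkQ (mono I M k m) := rfl

theorem θθ_smul (k : ℕ) (a : A) (m : ↥(I ^ k • (⊤ : Submodule A M))) :
    θθ I M k (a • m) = j₀ I a • θθ I M k m := by
  apply Subtype.ext
  show (LinearMap.range (jj I M)).mkQ (mono I M k (a • m)) =
    algebraMap A ↥(reesAlgebra I) a • (LinearMap.range (jj I M)).mkQ (mono I M k m)
  rw [mono_smul, map_smul]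

theorem θθ_surjective (k : ℕ) : Function.Surjective (θθ I M k) := by
  rintro ⟨y, x, hx, rfl⟩
  refine ⟨⟨(x : PolynomialModule A M).coeff k, x.2 k⟩, ?_⟩
  apply Subtype.ext
  rw [θθ_coe, ← eq_mono_of_mem I M k x hx]
  rfl

theorem θθ_eq_zero_iff (k : ℕ) (m : ↥(I ^ k • (⊤ : Submodule A M))) :
    θθ I M k m = 0 ↔ m ∈ (I ^ (k + 1) • (⊤ : Submodule A M)).comap
      (I ^ k • (⊤ : Submodule A M)).subtype := by
  rw [Submodule.mem_comap, Submodule.subtype_apply, ← mono_mem_range_jj_iff I M k m]
  constructor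
  · intro h
    have h2 : (LinearMap.range (jj I M)).mkQ (mono I M k m) = 0 := by
      rw [← θθ_coe, h]
      rfl
    rwa [Submodule.mkQ_apply, Submodule.Quotient.mk_eq_zero] at h2
  · intro h
    apply Subtype.ext
    rw [θθ_coe, Submodule.mkQ_apply, (Submodule.Quotient.mk_eq_zero _).mpr h]
    rfl

theorem length_piece_gQ (k : ℕ) :
    Module.length A (M ⧸ (I ^ (k + 1) • (⊤ : Submodule A M))) =
      Module.length (GrLC.deg0 (gA I)) (GrLC.comp (gA I) (gQ I M) (k : ℤ)) +
        Module.length A (M ⧸ (I ^ k • (⊤ : Submodule A M))) := by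
  have hle : I ^ (k + 1) • (⊤ : Submodule A M) ≤ I ^ k • (⊤ : Submodule A M) :=
    Submodule.smul_mono_left (Ideal.pow_le_pow_right (Nat.le_succ k))
  rw [length_quot_add _ _ hle, length_eq_of_semilinear_surj (j₀ I) (j₀_surjective I) (θθ I M k)
    (θθ_smul I M k) (θθ_surjective I M k) _ (θθ_eq_zero_iff I M k)]

include hI in
/-- The Hilbert function of the associated graded module. -/
theorem hf_gQ (k : ℕ) :
    hf (gA I) (gQ I M) (k : ℤ) + (Module.length A (M ⧸ (I ^ k • (⊤ : Submodule A M)))).toNat =
      (Module.length A (M ⧸ (I ^ (k + 1) • (⊤ : Submodule A M)))).toNat := by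
  have h1 := length_piece_gQ I M k
  have h2 := length_quot_pow_succ_ne_top I hI M k
  have h3 : Module.length (GrLC.deg0 (gA I)) (GrLC.comp (gA I) (gQ I M) (k : ℤ)) ≠ ⊤ := by
    intro htop
    apply h2
    rw [h1, htop, top_add]
  unfold hf
  rw [h1, ENat.toNat_add h3 (length_quot_pow_ne_top I hI M k)]

end Groth.Agent.Lib.Helper29ReesGr
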