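import Groth.Agent.Lib.Helper29ReesGrD

/-! The Hilbert–Samuel polynomial minus the Hilbert–Samuel function as the Euler characteristic of
the graded local cohomology of the Rees module with support in the irrelevant ideal of the Rees
algebra (helper29). -/

set_option autoImplicit false
set_option linter.style.haveILetI false
set_option linter.unusedSectionVars false
set_option synthInstance.maxHeartbeats 400000
set_option maxHeartbeats 1000000
open DirectSum Polynomial

noncomputable section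

namespace Groth.Agent.Lib.Helper29ReesGr

open Groth.Agent.Lib.Helper29GrConv Groth.Agent.Lib.Helper29GrShift
  Groth.Agent.Lib.Helper29GrSerreGen Groth.Agent.Lib.Helper29GrQuot
  Groth.Agent.Lib.Helper29GrSerre Groth.Agent.Lib.Helper29GrDiffEq
  Groth.Agent.Lib.Helper29GrRes

universe u

variable {A : Type u} [CommRing A] [IsNoetherianRing A] [IsLocalRing A] (I : Ideal A)
  (hI : I.radical = IsLocalRing.maximalIdeal A) (M : Type u) [AddCommGroup M] [Module A M]
  [Module.Finite A M]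

/-- The Hilbert–Samuel function. -/
def Hs (k : ℕ) : ℕ := (Module.length A (M ⧸ (I ^ k • (⊤ : Submodule A M)))).toNat

include hI in
theorem main (P : Polynomial ℚ)
    (hP : ∃ N : ℕ, ∀ n : ℕ, N ≤ n → P.eval (n : ℚ) = (Hs I M n : ℚ))
    (EN : GrLC.StarInjRes (gA I) (gN I M)) (D : ℕ)
    (hD : Groth.Agent.Lib.Helper8.Cd.Bound (aa I).toIdeal D) (n : ℕ) :
    (∀ i, Module.length (GrLC.deg0 (gA I)) (EN.Hcomp (aa I) i (n : ℤ)) ≠ ⊤) ∧
      P.eval (n : ℚ) - (Hs I M n : ℚ) = (chi (aa I) D EN (n : ℤ) : ℚ) := by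
  have hpos := gA_neg I
  have ha := aa_toIdeal I
  let EQ : GrLC.StarInjRes (gA I) (gQ I M) := starInjRes (gA I) (gQ I M)
  have hQfin : FinMod (aa I) (QM I M) (gQ I M) :=
    finHyp I hI (QM I M) (gQ I M) (smul_quot_eq_zero I M)
  have hdiff := diff_eq (aa I) hpos ha D hD (jj I M) (LinearMap.range (jj I M)).mkQ
    (jj_injective I M) (Submodule.mkQ_surjective _) (Submodule.ker_mkQ _) (jj_grHom I M)
    (mkQ_grHom I M) (μμ I M) (μμ_injective I M) (μμ_grHom I M)
    (mem_range_μμ_of_mem_gN I M) (smul_mem_range_μμ I M) hQfin EN EQ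
  refine ⟨(hdiff (n : ℤ) (Int.natCast_nonneg n)).1, ?_⟩
  -- the Hilbert polynomial of the associated graded module
  obtain ⟨N, hN⟩ := hP
  have hPQ : ∃ N₀ : ℤ, ∀ m : ℤ, N₀ ≤ m →
      (P.comp (X + 1) - P).eval (m : ℚ) = (hf (gA I) (gQ I M) m : ℚ) := by
    refine ⟨(N : ℤ), fun m hm => ?_⟩
    obtain ⟨k, rfl⟩ := Int.eq_ofNat_of_zero_le (le_trans (Int.natCast_nonneg N) hm)
    have hk : N ≤ k := by exact_mod_cast hm
    have h1 := hf_gQ I hI M k
    rw [Polynomial.eval_sub, Polynomial.eval_comp, Polynomial.eval_add, Polynomial.eval_X,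
      Polynomial.eval_one]
    have e1 : ((k : ℤ) : ℚ) + 1 = ((k + 1 : ℕ) : ℚ) := by push_cast; ring
    have e2 : ((k : ℤ) : ℚ) = ((k : ℕ) : ℚ) := by push_cast; ring
    rw [e1, hN (k + 1) (by omega), e2, hN k hk]
    have h2 : (Hs I M (k + 1) : ℚ) = (hf (gA I) (gQ I M) (k : ℤ) : ℚ) + (Hs I M k : ℚ) := by
      unfold Hs
      rw [← h1]
      push_cast
      ring
    rw [h2]
    ring
  have hserre := serre_aux' (aa I) hpos ha D hD (QQ I) (finHyp I hI) (QM I M)
    (smul_quot_eq_zero I M) ⊥ (QM I M) (gQ I M) LinearMap.id Function.surjective_id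
    LinearMap.ker_id EQ (P.comp (X + 1) - P) hPQ
  -- the telescoping argument
  set Dn : ℕ → ℚ := fun k => P.eval (k : ℚ) - (Hs I M k : ℚ) - (chi (aa I) D EN (k : ℤ) : ℚ)
    with hDn
  have hstep : ∀ k : ℕ, Dn k = Dn (k + 1) := by
    intro k
    have h1 := (hdiff (k : ℤ) (Int.natCast_nonneg k)).2
    have h2 := hserre (k : ℤ)
    have h3 := hf_gQ I hI M k
    rw [Polynomial.eval_sub, Polynomial.eval_comp, Polynomial.eval_add, Polynomial.eval_X,
      Polynomial.eval_one] at h2
    have h4 : (Hs I M (k + 1) : ℚ) = (hf (gA I) (gQ I M) (k : ℤ) : ℚ) + (Hs I M k : ℚ) := by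
      unfold Hs
      rw [← h3]
      push_cast
      ring
    have h5 : ((chi (aa I) D EN (k : ℤ) : ℤ) : ℚ) =
        (chi (aa I) D EN ((k : ℤ) + 1) : ℚ) + (chi (aa I) D EQ (k : ℤ) : ℚ) := by
      rw [h1]
      push_cast
      ring
    have e1 : ((k : ℤ) : ℚ) = (k : ℚ) := by push_cast; ring
    have e2 : (((k + 1 : ℕ) : ℤ)) = (k : ℤ) + 1 := by push_cast; ring
    simp only [hDn]
    rw [e2, h5, h4]
    rw [e1] at h2
    push_cast
    linarith
  obtain ⟨r, hr⟩ := chi_eventually_zero' (aa I) hpos ha D EN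
  have hzero : ∀ k : ℕ, N ≤ k → r ≤ (k : ℤ) → Dn k = 0 := by
    intro k hk hkr
    simp only [hDn]
    rw [hN k hk, hr (k : ℤ) hkr]
    simp
  have hiter : ∀ j : ℕ, Dn (n + j) = Dn n := by
    intro j
    induction j with
    | zero => rfl
    | succ j ih => rw [← ih, ← add_assoc, ← hstep]
  have hfin : Dn n = 0 := by
    rw [← hiter (N + r.toNat)]
    apply hzero
    · omega
    · have := Int.self_le_toNat r
      push_cast
      omega
  simp only [hDn] at hfin
  linarith

end Groth.Agent.Lib.Helper29ReesGr
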