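import Mathlib
import Groth.Prelude.Def_CAlg
import Groth.Agent.Lib.Helper29ExtRees
import Groth.Agent.Lib.Helper29ExtReesLoc
import Groth.Agent.Lib.Helper29LocQuotNum
import Groth.Agent.Lib.Helper29SkCompare
import Groth.Agent.Lib.Helper29DepthTwo

set_option autoImplicit false
set_option linter.style.haveILetI false
universe u

namespace Groth.Agent.Lib.Helper29ReesS2

open Polynomial LaurentPolynomial FiltBl
open Groth.Agent.Lib.Helper28 IsLocalRing LocCoh Groth.Agent.Lib.Helper5.GenDepth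
  Groth.Agent.Lib.Helper29ExtRees Groth.Agent.Lib.Helper29LocQuotNum
  Groth.Agent.Lib.Helper29SkCompare Groth.Agent.Lib.Helper29ExtReesLoc

variable {A : Type u} [CommRing A] (𝓕 : FiltBl.IdealFiltration A)

section Basic

theorem pow_mem_F {n : ℕ} {a : A} (ha : a ∈ 𝓕.F n) (e : ℕ) : a ^ e ∈ 𝓕.F (e * n) := by
  induction e with
  | zero => rw [Nat.zero_mul, 𝓕.zero_eq]; exact Submodule.mem_top
  | succ e ih =>
    rw [pow_succ, Nat.succ_mul]
    exact 𝓕.mul_le _ _ (Ideal.mul_mem_mul ih ha)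

/-- the monomial `a X^n` of the Rees algebra -/
noncomputable def mon (n : ℕ) (a : A) (ha : a ∈ 𝓕.F n) : 𝓕.rees :=
  ⟨Polynomial.monomial n a, monomial_mem 𝓕 ha⟩

theorem coe_reesToExt_mon (n : ℕ) (a : A) (ha : a ∈ 𝓕.F n) :
    ((reesToExt 𝓕 (mon 𝓕 n a ha) : 𝓕.extRees) : A[T;T⁻¹]) =
      AddMonoidAlgebra.single (n : ℤ) a := by
  rw [coe_reesToExt]
  show toLaurent (Polynomial.monomial n a) = _
  rw [← Polynomial.C_mul_X_pow_eq_monomial, Polynomial.toLaurent_C_mul_X_pow,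
    ← LaurentPolynomial.single_eq_C_mul_T]

theorem reesToExt_injective : Function.Injective (reesToExt 𝓕) := by
  intro f g h
  apply Subtype.ext
  apply Polynomial.toLaurent_injective
  exact congrArg Subtype.val h

theorem reesToExt_algebraMap (a : A) :
    reesToExt 𝓕 (algebraMap A 𝓕.rees a) = algebraMap A 𝓕.extRees a := by
  apply Subtype.ext
  rw [coe_reesToExt, coe_algebraMap]
  show toLaurent (Polynomial.C a) = _
  exact Polynomial.toLaurent_C a

/-- homogeneous elements of nonnegative degree of `R'` come from `R` -/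
theorem exists_reesToExt_eq_of_nonneg {i : ℤ} (hi : 0 ≤ i) (m : grd 𝓕 i) :
    ∃ r : 𝓕.rees, reesToExt 𝓕 r = (m : 𝓕.extRees) := by
  have ha : ((m : 𝓕.extRees) : A[T;T⁻¹]).coeff i ∈ 𝓕.F i.toNat := (m : 𝓕.extRees).2 i
  refine ⟨mon 𝓕 i.toNat _ ha, ?_⟩
  apply Subtype.ext
  rw [coe_reesToExt_mon, Int.toNat_of_nonneg hi]
  exact (coe_eq_single_of_mem 𝓕 m.2).symm

/-- the hypothesis of `exists_prime_of_away` for `R → R'` and `s = a X^n`, `n ≥ 1` -/
theorem away_hyp_ext (n : ℕ) (hn : 0 < n) (a : A) (ha : a ∈ 𝓕.F n) (g : 𝓕.extRees) :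
    ∃ (k : ℕ) (r : 𝓕.rees), reesToExt 𝓕 r = reesToExt 𝓕 (mon 𝓕 n a ha) ^ k * g := by
  refine DirectSum.Decomposition.inductionOn (grd 𝓕)
    (motive := fun g => ∃ (k : ℕ) (r : 𝓕.rees),
      reesToExt 𝓕 r = reesToExt 𝓕 (mon 𝓕 n a ha) ^ k * g) ⟨0, 0, by simp⟩ ?_ ?_ g
  · intro i m
    rcases le_or_gt 0 i with hi | hi
    · obtain ⟨r, hr⟩ := exists_reesToExt_eq_of_nonneg 𝓕 hi m
      exact ⟨0, r, by rw [pow_zero, one_mul, hr]⟩
    · set e := (-i).toNat with he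
      have hb : ((m : 𝓕.extRees) : A[T;T⁻¹]).coeff i ∈ 𝓕.F i.toNat := (m : 𝓕.extRees).2 i
      set b := ((m : 𝓕.extRees) : A[T;T⁻¹]).coeff i with hbdef
      have hdeg : 0 ≤ (e : ℤ) * n + i := by
        have h1 : (e : ℤ) = -i := by rw [he, Int.toNat_of_nonneg (by omega)]
        have h2 : (1 : ℤ) ≤ n := by exact_mod_cast hn
        nlinarith
      have hmem : a ^ e * b ∈ 𝓕.F ((e : ℤ) * n + i).toNat := by
        apply Ideal.mul_mem_right
        refine 𝓕.antitone ?_ (pow_mem_F 𝓕 ha e)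
        have : ((e : ℤ) * n + i).toNat ≤ e * n := by
          have h3 : ((e * n : ℕ) : ℤ) = (e : ℤ) * n := by push_cast; ring
          omega
        exact this
      refine ⟨e, mon 𝓕 _ (a ^ e * b) hmem, ?_⟩
      apply Subtype.ext
      rw [coe_reesToExt_mon]
      show _ = ((reesToExt 𝓕 (mon 𝓕 n a ha) : 𝓕.extRees) : A[T;T⁻¹]) ^ e *
        ((m : 𝓕.extRees) : A[T;T⁻¹])
      rw [coe_reesToExt_mon, coe_eq_single_of_mem 𝓕 m.2, ← hbdef, AddMonoidAlgebra.single_pow,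
        AddMonoidAlgebra.single_mul_single, Int.toNat_of_nonneg hdeg]
      congr 1
  · rintro m m' ⟨k₁, r₁, h₁⟩ ⟨k₂, r₂, h₂⟩
    refine ⟨k₁ + k₂, mon 𝓕 n a ha ^ k₂ * r₁ + mon 𝓕 n a ha ^ k₁ * r₂, ?_⟩
    rw [map_add, map_mul, map_mul, map_pow, map_pow, h₁, h₂]
    ring

end Basic


section Poly

/-- the inclusion of the Rees algebra into the polynomial ring -/
noncomputable def incl : 𝓕.rees →+* A[X] := (𝓕.rees.val : 𝓕.rees →+* A[X])

theorem incl_apply (r : 𝓕.rees) : incl 𝓕 r = (r : A[X]) := rfl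

theorem incl_injective : Function.Injective (incl 𝓕) := Subtype.val_injective

/-- the hypothesis of `exists_prime_of_away` for `R → A[X]` and `s = a`, `a ∈ F 1` -/
theorem away_hyp_poly (a : A) (ha : a ∈ 𝓕.F 1) (g : A[X]) :
    ∃ (k : ℕ) (r : 𝓕.rees), incl 𝓕 r = incl 𝓕 (algebraMap A 𝓕.rees a) ^ k * g := by
  have hC : incl 𝓕 (algebraMap A 𝓕.rees a) = Polynomial.C a := rfl
  rw [hC]
  induction g using Polynomial.induction_on' with
  | add p q hp hq =>
    obtain ⟨k₁, r₁, h₁⟩ := hp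
    obtain ⟨k₂, r₂, h₂⟩ := hq
    refine ⟨k₁ + k₂, algebraMap A 𝓕.rees a ^ k₂ * r₁ + algebraMap A 𝓕.rees a ^ k₁ * r₂, ?_⟩
    rw [map_add, map_mul, map_mul, map_pow, map_pow, h₁, h₂, hC]
    ring
  | monomial m b =>
    have hmem : a ^ m * b ∈ 𝓕.F m := by
      apply Ideal.mul_mem_right
      have := pow_mem_F 𝓕 ha m
      rwa [Nat.mul_one] at this
    refine ⟨m, mon 𝓕 m (a ^ m * b) hmem, ?_⟩
    show Polynomial.monomial m (a ^ m * b) = _
    rw [← Polynomial.C_pow, Polynomial.C_mul_monomial]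

end Poly

section Regular

theorem coeff_algebraMap_mul_ext (x : A) (r : 𝓕.extRees) (n : ℤ) :
    ((algebraMap A 𝓕.extRees x * r : 𝓕.extRees) : A[T;T⁻¹]).coeff n =
      x * (r : A[T;T⁻¹]).coeff n := by
  show (LaurentPolynomial.C x * (r : A[T;T⁻¹])).coeff n = _
  rw [← LaurentPolynomial.single_eq_C, AddMonoidAlgebra.coeff_single_mul_apply]
  simp

variable {x : A} (hx : x ∈ nonZeroDivisors A)
include hx

theorem eq_zero_of_algebraMap_mul_rees (r : 𝓕.rees) (h : algebraMap A 𝓕.rees x * r = 0) :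
    r = 0 := by
  apply Subtype.ext
  ext n
  have h1 := congrArg (fun f : 𝓕.rees => (f : A[X]).coeff n) h
  have h2 : ((algebraMap A 𝓕.rees x * r : 𝓕.rees) : A[X]).coeff n = x * (r : A[X]).coeff n := by
    show (Polynomial.C x * (r : A[X])).coeff n = _
    rw [Polynomial.coeff_C_mul]
  simp only [h2] at h1
  have h3 : ((0 : 𝓕.rees) : A[X]).coeff n = 0 := rfl
  rw [h3] at h1
  exact (mem_nonZeroDivisors_iff_right.mp hx) _ (by rw [mul_comm]; exact h1)

theorem eq_zero_of_algebraMap_mul_ext (r : 𝓕.extRees) (h : algebraMap A 𝓕.extRees x * r = 0) :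
    r = 0 := by
  apply Subtype.ext
  apply LaurentPolynomial.ext
  intro n
  have h1 : ((algebraMap A 𝓕.extRees x * r : 𝓕.extRees) : A[T;T⁻¹]).coeff n =
      ((0 : 𝓕.extRees) : A[T;T⁻¹]).coeff n := by rw [h]
  rw [coeff_algebraMap_mul_ext] at h1
  have h3 : ((0 : 𝓕.extRees) : A[T;T⁻¹]).coeff n = 0 := rfl
  rw [h3] at h1
  have h4 : (r : A[T;T⁻¹]).coeff n = 0 :=
    (mem_nonZeroDivisors_iff_right.mp hx) _ (by rw [mul_comm]; exact h1)
  rw [h4]
  rfl

/-- `x R' ∩ R = x R` for `x ∈ A` a non-zero-divisor -/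
theorem exists_of_reesToExt_eq_mul (z : 𝓕.rees) (g' : 𝓕.extRees)
    (h : reesToExt 𝓕 z = algebraMap A 𝓕.extRees x * g') :
    ∃ g : 𝓕.rees, z = algebraMap A 𝓕.rees x * g := by
  classical
  have hneg : ∀ n : ℤ, n < 0 → (g' : A[T;T⁻¹]).coeff n = 0 := by
    intro n hn
    have h1 : ((reesToExt 𝓕 z : 𝓕.extRees) : A[T;T⁻¹]).coeff n =
        ((algebraMap A 𝓕.extRees x * g' : 𝓕.extRees) : A[T;T⁻¹]).coeff n := by rw [h]
    rw [coeff_algebraMap_mul_ext] at h1
    have h2 : ((reesToExt 𝓕 z : 𝓕.extRees) : A[T;T⁻¹]).coeff n = 0 := by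
      rw [coe_reesToExt, coeff_toLaurent]
      apply Finsupp.mapDomain_of_notMem_range
      rintro ⟨k, hk⟩
      have : (k : ℤ) = n := hk
      omega
    rw [h2] at h1
    exact (mem_nonZeroDivisors_iff_right.mp hx) _ (by rw [mul_comm]; exact h1.symm)
  have hg' : ∃ g : 𝓕.rees, reesToExt 𝓕 g = g' := by
    have hsum := DirectSum.sum_support_decompose (grd 𝓕) g'
    have hall : ∀ i ∈ (DirectSum.decompose (grd 𝓕) g').support,
        ∃ r : 𝓕.rees, reesToExt 𝓕 r = ((DirectSum.decompose (grd 𝓕) g' i : grd 𝓕 i) : 𝓕.extRees) := by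
      intro i hi
      rcases le_or_gt 0 i with h0 | h0
      · exact exists_reesToExt_eq_of_nonneg 𝓕 h0 _
      · refine ⟨0, ?_⟩
        rw [map_zero]
        have : ((DirectSum.decompose (grd 𝓕) g' i : grd 𝓕 i) : 𝓕.extRees) = comp 𝓕 g' i :=
          dec_apply 𝓕 g' i
        rw [this]
        apply Subtype.ext
        show (0 : A[T;T⁻¹]) = AddMonoidAlgebra.single i ((g' : A[T;T⁻¹]).coeff i)
        rw [hneg i h0, AddMonoidAlgebra.single_zero]
    choose! rr hrr using hall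
    refine ⟨∑ i ∈ (DirectSum.decompose (grd 𝓕) g').support, rr i, ?_⟩
    rw [map_sum]
    exact (Finset.sum_congr rfl hrr).trans hsum
  obtain ⟨g, rfl⟩ := hg'
  refine ⟨g, ?_⟩
  apply reesToExt_injective 𝓕
  rw [h, map_mul, reesToExt_algebraMap]

end Regular


section Cases

variable [IsNoetherianRing A] [IsNoetherianRing 𝓕.rees] [IsNoetherianRing 𝓕.extRees]

omit [IsNoetherianRing 𝓕.rees] in
/-- `A` is `(S_2)` if `R'` is -/
theorem hasSk_base
    (h : ∀ (P : Ideal 𝓕.extRees) [P.IsPrime], min ((2 : ℕ) : ℕ∞) P.height ≤ dep P 𝓕.extRees)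
    (q : Ideal A) [q.IsPrime] : min ((2 : ℕ) : ℕ∞) q.height ≤ dep q A := by
  obtain ⟨P, hP, -, h1, h2⟩ := case_base 𝓕 q
  have h3 := h P
  rwa [h1, h2] at h3

omit [IsNoetherianRing 𝓕.extRees] in
/-- primes of `R` whose contraction to `A` does not contain `F 1`: compare with `A[X]` -/
theorem caseI
    (hA : ∀ (q : Ideal A) [q.IsPrime], min ((2 : ℕ) : ℕ∞) q.height ≤ dep q A)
    (p : Ideal 𝓕.rees) [p.IsPrime] (a : A) (ha : a ∈ 𝓕.F 1)
    (hap : algebraMap A 𝓕.rees a ∉ p) : min ((2 : ℕ) : ℕ∞) p.height ≤ dep p 𝓕.rees := by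
  obtain ⟨p₁, hp₁, -, h1, h2⟩ := exists_prime_of_away (incl 𝓕) (incl_injective 𝓕)
    (algebraMap A 𝓕.rees a) (away_hyp_poly 𝓕 a ha) p hap
  obtain ⟨c, h3, h4⟩ := exists_nat_polynomial p₁
  rw [← h1, ← h2, h3, h4]
  exact ar3 2 _ _ c (hA (p₁.comap (algebraMap A A[X])))

omit [IsNoetherianRing A] in
/-- primes of `R` not containing the irrelevant ideal: compare with `R'` -/
theorem caseIIa
    (h : ∀ (P : Ideal 𝓕.extRees) [P.IsPrime], min ((2 : ℕ) : ℕ∞) P.height ≤ dep P 𝓕.extRees)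
    (p : Ideal 𝓕.rees) [p.IsPrime] (n : ℕ) (hn : 0 < n) (a : A) (ha : a ∈ 𝓕.F n)
    (hnp : mon 𝓕 n a ha ∉ p) : min ((2 : ℕ) : ℕ∞) p.height ≤ dep p 𝓕.rees := by
  obtain ⟨p₁, hp₁, -, h1, h2⟩ := exists_prime_of_away (reesToExt 𝓕) (reesToExt_injective 𝓕)
    (mon 𝓕 n a ha) (away_hyp_ext 𝓕 n hn a ha) p hnp
  rw [← h1, ← h2]
  exact h p₁

end Cases


section Avoid

variable {B : Type u} [CommRing B] [IsNoetherianRing B]

theorem enat_height_zero {a : ℕ∞} (h : min ((2 : ℕ) : ℕ∞) a ≤ 0) : a = 0 := by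
  rw [min_le_iff] at h
  rcases h with h | h
  · exfalso
    have : ((2 : ℕ) : ℕ∞) ≤ ((0 : ℕ) : ℕ∞) := h
    have h2 : (2 : ℕ) ≤ 0 := by exact_mod_cast this
    omega
  · exact le_antisymm h (zero_le)

/-- in an `(S_2)` (even `(S_1)`) ring, a prime of positive height contains a non-zero-divisor -/
theorem exists_mem_nonZeroDivisors
    (hB : ∀ (q : Ideal B) [q.IsPrime], min ((2 : ℕ) : ℕ∞) q.height ≤ dep q B)
    (q : Ideal B) [q.IsPrime] (hq : 1 ≤ q.height) : ∃ x ∈ q, x ∈ nonZeroDivisors B := by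
  classical
  have hfin := associatedPrimes.finite B B
  by_contra hcon
  push Not at hcon
  have hsub : (q : Set B) ⊆ ⋃ i ∈ (hfin.toFinset : Set (Ideal B)), ((id i : Ideal B) : Set B) := by
    intro x hx
    have h1 : x ∈ ((nonZeroDivisors B : Set B))ᶜ := hcon x hx
    rw [← biUnion_associatedPrimes_eq_compl_nonZeroDivisors] at h1
    simpa using h1
  obtain ⟨𝔞, h𝔞, hle⟩ := (Ideal.subset_union_prime (f := id) (⊥ : Ideal B) ⊥
    (fun i hi _ _ => (hfin.mem_toFinset.mp hi).isPrime)).mp hsub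
  have hass : 𝔞 ∈ associatedPrimes B B := hfin.mem_toFinset.mp h𝔞
  haveI : 𝔞.IsPrime := hass.isPrime
  haveI : IsNoetherianRing (Localization.AtPrime 𝔞) :=
    IsLocalization.isNoetherianRing 𝔞.primeCompl _ inferInstance
  have hdep : dep 𝔞 B = 0 :=
    depth_eq_zero_iff.mpr
      (Module.associatedPrimes.mem_associatedPrimes_atPrime_of_mem_associatedPrimes hass)
  have h2 := hB 𝔞
  rw [hdep] at h2
  have h3 := enat_height_zero h2
  have h4 : q.height ≤ 𝔞.height := Ideal.height_mono hle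
  rw [h3] at h4
  have h5 : (1 : ℕ∞) ≤ 0 := hq.trans h4
  simp at h5

end Avoid





section Vertex

variable [IsNoetherianRing A] [IsNoetherianRing 𝓕.rees] [IsNoetherianRing 𝓕.extRees]

/-- the vertex primes `q + R_+` with `ht q ≥ 2` have depth at least two -/
theorem vertex
    (hA : ∀ (q : Ideal A) [q.IsPrime], min ((2 : ℕ) : ℕ∞) q.height ≤ dep q A)
    (h : ∀ (P : Ideal 𝓕.extRees) [P.IsPrime], min ((2 : ℕ) : ℕ∞) P.height ≤ dep P 𝓕.extRees)
    (p : Ideal 𝓕.rees) [p.IsPrime]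
    (hplus : ∀ (n : ℕ), 0 < n → ∀ (a : A) (ha : a ∈ 𝓕.F n), mon 𝓕 n a ha ∈ p)
    (hq : 2 ≤ (p.comap (algebraMap A 𝓕.rees)).height) : (2 : ℕ∞) ≤ dep p 𝓕.rees := by
  classical
  obtain ⟨x, hxq, hx⟩ := exists_mem_nonZeroDivisors hA (p.comap (algebraMap A 𝓕.rees))
    (le_trans (by norm_num) hq)
  have hXp : algebraMap A 𝓕.rees x ∈ p := hxq
  have hregR : IsSMulRegular 𝓕.rees (algebraMap A 𝓕.rees x) := by
    intro r s hrs
    have h0 : algebraMap A 𝓕.rees x * (r - s) = 0 := by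
      rw [mul_sub]
      exact sub_eq_zero.mpr hrs
    exact sub_eq_zero.mp (eq_zero_of_algebraMap_mul_rees 𝓕 hx _ h0)
  have hφX : reesToExt 𝓕 (algebraMap A 𝓕.rees x) = algebraMap A 𝓕.extRees x :=
    reesToExt_algebraMap 𝓕 x
  have hregR' : IsSMulRegular 𝓕.extRees (reesToExt 𝓕 (algebraMap A 𝓕.rees x)) := by
    rw [hφX]
    intro r s hrs
    have h0 : algebraMap A 𝓕.extRees x * (r - s) = 0 := by
      rw [mul_sub]
      exact sub_eq_zero.mpr hrs
    exact sub_eq_zero.mp (eq_zero_of_algebraMap_mul_ext 𝓕 hx _ h0)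
  refine Groth.Agent.Lib.Helper29DepthTwo.two_le_dep (reesToExt 𝓕) (algebraMap A 𝓕.rees x) p hXp
    hregR hregR' ?_ h ?_
  · intro z g' hg'
    rw [hφX] at hg'
    exact exists_of_reesToExt_eq_mul 𝓕 hx z g' hg'
  · intro P hP hφp
    obtain ⟨P₁, hP₁, hmem, e1, -⟩ := case_base 𝓕 (p.comap (algebraMap A 𝓕.rees))
    have hle : P₁ ≤ P := by
      intro y hy
      have hyq := (hmem y).mp hy
      rw [← DirectSum.sum_support_decompose (grd 𝓕) y]
      refine Ideal.sum_mem _ fun i _ => ?_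
      have hc : ((DirectSum.decompose (grd 𝓕) y i : grd 𝓕 i) : 𝓕.extRees) = comp 𝓕 y i :=
        dec_apply 𝓕 y i
      rw [hc]
      rcases lt_or_ge 0 i with hi | hi
      · have hyF : (y : A[T;T⁻¹]).coeff i ∈ 𝓕.F i.toNat := y.2 i
        have hcomp : comp 𝓕 y i = reesToExt 𝓕 (mon 𝓕 i.toNat _ hyF) := by
          apply Subtype.ext
          rw [coe_reesToExt_mon, Int.toNat_of_nonneg hi.le]
          rfl
        rw [hcomp]
        exact hφp _ (hplus _ (by omega) _ hyF)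
      · have hcomp : comp 𝓕 y i =
            reesToExt 𝓕 (algebraMap A 𝓕.rees ((y : A[T;T⁻¹]).coeff i)) * 𝓕.u ^ (-i).toNat := by
          rw [reesToExt_algebraMap]
          apply Subtype.ext
          show AddMonoidAlgebra.single i ((y : A[T;T⁻¹]).coeff i) =
            LaurentPolynomial.C ((y : A[T;T⁻¹]).coeff i) * (T (-1)) ^ (-i).toNat
          rw [T_pow, LaurentPolynomial.single_eq_C_mul_T]
          congr 2
          rw [Int.toNat_of_nonneg (by omega)]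
          ring
        rw [hcomp]
        exact P.mul_mem_right _ (hφp _ (hyq i))
    have h5 : P₁.height ≤ P.height := Ideal.height_mono hle
    rw [e1] at h5
    exact hq.trans h5

end Vertex


section Main

variable [IsNoetherianRing A]

/-- If the extended Rees algebra is `(S_2)` and `ht F^1 ≥ 2`, the Rees algebra is `(S_2)`. -/
theorem hasSk_two_rees (hfg : Algebra.FiniteType A 𝓕.rees) (hht : 2 ≤ (𝓕.F 1).height)
    (h : HasSk 2 𝓕.extRees 𝓕.extRees) : HasSk 2 𝓕.rees 𝓕.rees := by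
  haveI : IsNoetherianRing 𝓕.rees := Algebra.FiniteType.isNoetherianRing A 𝓕.rees
  haveI := isNoetherianRing_extRees 𝓕 hfg
  rw [hasSk_iff] at h ⊢
  have hA : ∀ (q : Ideal A) [q.IsPrime], min ((2 : ℕ) : ℕ∞) q.height ≤ dep q A :=
    fun q _ => hasSk_base 𝓕 h q
  intro p hp
  by_cases hF1 : 𝓕.F 1 ≤ p.comap (algebraMap A 𝓕.rees)
  · by_cases hplus : ∀ (n : ℕ), 0 < n → ∀ (a : A) (ha : a ∈ 𝓕.F n), mon 𝓕 n a ha ∈ p
    · have hq : 2 ≤ (p.comap (algebraMap A 𝓕.rees)).height := hht.trans (Ideal.height_mono hF1)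
      exact (min_le_left _ _).trans (vertex 𝓕 hA h p hplus hq)
    · push Not at hplus
      obtain ⟨n, hn, a, ha, hnp⟩ := hplus
      exact caseIIa 𝓕 h p n hn a ha hnp
  · obtain ⟨a, ha, haq⟩ := SetLike.not_le_iff_exists.mp hF1
    exact caseI 𝓕 hA p a ha haq

end Main

end Groth.Agent.Lib.Helper29ReesS2
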