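import Mathlib

/-!
# Rescaling a ring map out of a `ℤ`-graded ring through the grading (helper29)

For a `ℤ`-graded commutative ring `A = ⨁ 𝒜 d`, a ring map `ψ : A →+* L` into a field and a
nonzero `y : L`, the map `a ↦ ψ a * y ^ (-d)` on homogeneous elements of degree `d` extends to a
ring map `rescale 𝒜 ψ y hy : A →+* L`.
-/

set_option autoImplicit false
set_option linter.unusedSectionVars false
set_option linter.unusedVariables false

namespace Groth.Agent.Lib.Helper29.Rescale

variable {A : Type*} [CommRing A] (𝒜 : ℤ → AddSubgroup A) [GradedRing 𝒜]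
variable {L : Type*} [Field L] (ψ : A →+* L) (y : L)

/-- the degree `d` component of the rescaled map. -/
noncomputable def compHom (d : ℤ) : 𝒜 d →+ L where
  toFun a := ψ (a : A) * y ^ (-d)
  map_zero' := by simp
  map_add' a b := by simp [add_mul]

/-- the rescaled ring map `a ↦ ψ a * y ^ (-deg a)`. -/
noncomputable def rescale (hy : y ≠ 0) : A →+* L :=
  (DirectSum.toSemiring (compHom 𝒜 ψ y)
    (by
      change ψ (1 : A) * y ^ (-(0 : ℤ)) = 1
      simp)
    (by
      intro i j ai aj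
      change ψ ((ai : A) * (aj : A)) * y ^ (-(i + j)) =
        (ψ (ai : A) * y ^ (-i)) * (ψ (aj : A) * y ^ (-j))
      rw [map_mul, neg_add, zpow_add₀ hy]
      ring)).comp
    (DirectSum.decomposeRingEquiv 𝒜).toRingHom

theorem rescale_of_mem (hy : y ≠ 0) {d : ℤ} {a : A} (ha : a ∈ 𝒜 d) :
    rescale 𝒜 ψ y hy a = ψ a * y ^ (-d) := by
  unfold rescale
  rw [RingHom.comp_apply]
  change DirectSum.toSemiring _ _ _ (DirectSum.decompose 𝒜 a) = _
  rw [DirectSum.decompose_of_mem 𝒜 ha, DirectSum.toSemiring_of]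
  rfl

theorem rescale_mul_zpow (hy : y ≠ 0) {d : ℤ} {a : A} (ha : a ∈ 𝒜 d) :
    rescale 𝒜 ψ y hy a * y ^ d = ψ a := by
  rw [rescale_of_mem 𝒜 ψ y hy ha, mul_assoc, ← zpow_add₀ hy, neg_add_cancel, zpow_zero, mul_one]

/-- if the rescaled map sends homogeneous elements into a subring, it sends everything there. -/
theorem rescale_mem (hy : y ≠ 0) (S : Subring L)
    (h : ∀ (d : ℤ) (a : A), a ∈ 𝒜 d → ψ a * y ^ (-d) ∈ S) (a : A) :
    rescale 𝒜 ψ y hy a ∈ S := by
  refine DirectSum.Decomposition.inductionOn 𝒜 (motive := fun a => rescale 𝒜 ψ y hy a ∈ S)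
    ?_ ?_ ?_ a
  · rw [map_zero]; exact S.zero_mem
  · intro i m
    rw [rescale_of_mem 𝒜 ψ y hy m.2]
    exact h i m m.2
  · intro a b ha hb
    rw [map_add]
    exact S.add_mem ha hb

end Groth.Agent.Lib.Helper29.Rescale
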