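import Mathlib

/-!
# Divisibility of images of positive-degree homogeneous elements from generators (helper29)

For a `ℤ`-graded ring `A`, if the ideal `I₊` generated by homogeneous elements of positive degree
is generated by a finite set `T` of homogeneous elements `f` of positive degrees `deg f`, and
`ψ : A →+* B` is a ring map with `x ^ (w * deg f) ∣ ψ f` for all `f ∈ T`, then
`x ^ (w * n) ∣ ψ a` for every homogeneous `a` of positive degree `n`.
-/

set_option autoImplicit false
set_option linter.unusedSectionVars false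
set_option linter.unusedVariables false

namespace Groth.Agent.Lib.Helper29.Rescale

open DirectSum

theorem dvd_of_generators
    {A : Type*} [CommRing A] (𝒜 : ℤ → AddSubgroup A) [GradedRing 𝒜]
    {B : Type*} [CommRing B] (ψ : A →+* B) (x : B) (w : ℕ)
    (T : Finset A) (deg : A → ℕ)
    (hdeg : ∀ f ∈ T, f ∈ 𝒜 (deg f : ℤ)) (hdegpos : ∀ f ∈ T, 0 < deg f)
    (hspan : Ideal.span {a : A | ∃ d : ℤ, 0 < d ∧ a ∈ 𝒜 d} = Ideal.span (T : Set A))
    (hT : ∀ f ∈ T, x ^ (w * deg f) ∣ ψ f) :
    ∀ n : ℕ, 0 < n → ∀ a : A, a ∈ 𝒜 (n : ℤ) → x ^ (w * n) ∣ ψ a := by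
  intro n
  induction n using Nat.strong_induction_on with
  | _ n ih =>
    intro hn a ha
    have hmem : a ∈ Ideal.span (T : Set A) := by
      rw [← hspan]
      exact Ideal.subset_span ⟨(n : ℤ), by exact_mod_cast hn, ha⟩
    obtain ⟨c, -, hc⟩ := Submodule.mem_span_finset.mp hmem
    -- take the degree `n` component
    have h1 : a = ∑ f ∈ T, ((decompose 𝒜 (c f) ((n : ℤ) - (deg f : ℤ)) : 𝒜 _) : A) * f := by
      have h2 : ((decompose 𝒜 a (n : ℤ) : 𝒜 _) : A) = a := decompose_of_mem_same 𝒜 ha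
      rw [← h2, ← hc, decompose_sum, DirectSum.sum_apply, AddSubgroup.val_finsetSum]
      refine Finset.sum_congr rfl fun f hf => ?_
      have h3 : ((n : ℤ) - (deg f : ℤ)) + (deg f : ℤ) = (n : ℤ) := sub_add_cancel _ _
      have h4 := coe_decompose_mul_add_of_right_mem 𝒜 (a := c f) (i := (n : ℤ) - (deg f : ℤ))
        (hdeg f hf)
      rw [h3] at h4
      rw [smul_eq_mul]
      exact h4
    rw [h1, map_sum]
    refine Finset.dvd_sum fun f hf => ?_
    rw [map_mul]
    by_cases hlt : deg f < n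
    · -- induction hypothesis
      have hpos : 0 < n - deg f := Nat.sub_pos_of_lt hlt
      have hcast : ((n - deg f : ℕ) : ℤ) = (n : ℤ) - (deg f : ℤ) := Nat.cast_sub hlt.le
      have hb : ((decompose 𝒜 (c f) ((n : ℤ) - (deg f : ℤ)) : 𝒜 _) : A) ∈
          𝒜 ((n - deg f : ℕ) : ℤ) := by
        rw [hcast]
        exact SetLike.coe_mem _
      have hdp := hdegpos f hf
      have h5 := ih (n - deg f) (by omega) hpos _ hb
      have h6 : x ^ (w * n) = x ^ (w * (n - deg f)) * x ^ (w * deg f) := by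
        rw [← pow_add, ← mul_add, Nat.sub_add_cancel hlt.le]
      rw [h6]
      exact mul_dvd_mul h5 (hT f hf)
    · have hle : n ≤ deg f := not_lt.mp hlt
      have h6 : x ^ (w * n) ∣ x ^ (w * deg f) := pow_dvd_pow x (Nat.mul_le_mul_left w hle)
      exact Dvd.dvd.mul_left (h6.trans (hT f hf)) _

end Groth.Agent.Lib.Helper29.Rescale
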