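import Mathlib
import Groth.Agent.Lib.Helper29RescaleA
import Groth.Agent.Lib.Helper29RescaleB

/-!
# Rescaled map into a domain from divisibility on generators (helper29)

`exists_rescaled`: for a `ℤ`-graded ring `A` whose irrelevant ideal `I₊` is generated by a finite
set `T` of homogeneous elements of positive degrees, a ring map `ψ : A →+* R'` to a domain with
fraction field `K'`, and `x ≠ 0` in `R'` such that `x ^ (w * deg f) ∣ ψ f` on `T` with equality up
to a unit for some `f₀ ∈ T`: there is a ring map `g : A →+* R'` with `g a * (x ^ w) ^ d = ψ a`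
for `a` homogeneous of degree `d` and `g(I₊) R' = R'`.
-/

set_option autoImplicit false
set_option linter.unusedSectionVars false
set_option linter.unusedVariables false

namespace Groth.Agent.Lib.Helper29.Rescale

theorem exists_rescaled
    {A : Type*} [CommRing A] (𝒜 : ℤ → AddSubgroup A) [GradedRing 𝒜]
    (T : Finset A) (deg : A → ℕ)
    (hdeg : ∀ f ∈ T, f ∈ 𝒜 (deg f : ℤ)) (hdegpos : ∀ f ∈ T, 0 < deg f)
    (hspan : Ideal.span {a : A | ∃ d : ℤ, 0 < d ∧ a ∈ 𝒜 d} = Ideal.span (T : Set A))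
    {R' : Type*} [CommRing R'] [IsDomain R'] {K' : Type*} [Field K'] [Algebra R' K']
    [IsFractionRing R' K']
    (ψ : A →+* R') (x : R') (hx0 : x ≠ 0) (w : ℕ)
    (hT : ∀ f ∈ T, x ^ (w * deg f) ∣ ψ f)
    (f₀ : A) (hf₀T : f₀ ∈ T) (u : R') (hu : IsUnit u) (hf₀ : ψ f₀ = u * x ^ (w * deg f₀)) :
    ∃ g : A →+* R',
      (∀ (d : ℤ) (a : A), a ∈ 𝒜 d →
        algebraMap R' K' (g a) * algebraMap R' K' (x ^ w) ^ d = algebraMap R' K' (ψ a)) ∧
      Ideal.map g (Ideal.span {a : A | ∃ d : ℤ, 0 < d ∧ a ∈ 𝒜 d}) = ⊤ := by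
  have hinj : Function.Injective (algebraMap R' K') := IsFractionRing.injective R' K'
  set y : K' := algebraMap R' K' (x ^ w) with hy
  have hy0 : y ≠ 0 := by
    rw [hy, Ne, map_eq_zero_iff _ hinj]
    exact pow_ne_zero w hx0
  have hdvd := dvd_of_generators 𝒜 ψ x w T deg hdeg hdegpos hspan hT
  let ψK : A →+* K' := (algebraMap R' K').comp ψ
  let gK : A →+* K' := rescale 𝒜 ψK y hy0
  -- the rescaled map lands in `R'`
  have hmem : ∀ a : A, gK a ∈ (algebraMap R' K').range := by
    refine rescale_mem 𝒜 ψK y hy0 _ ?_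
    intro d a ha
    by_cases hd : 0 < d
    · -- positive degree: divisibility
      obtain ⟨n, rfl⟩ := Int.eq_ofNat_of_zero_le hd.le
      have hn : 0 < n := by exact_mod_cast hd
      obtain ⟨c, hc⟩ := hdvd n hn a ha
      refine ⟨c, ?_⟩
      change algebraMap R' K' c = algebraMap R' K' (ψ a) * y ^ (-(n : ℤ))
      rw [hc, map_mul, hy, zpow_neg, zpow_natCast, ← map_pow, ← pow_mul]
      have h0 : algebraMap R' K' (x ^ (w * n)) ≠ 0 := by
        rw [Ne, map_eq_zero_iff _ hinj]
        exact pow_ne_zero _ hx0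
      field_simp
    · -- non-positive degree
      have hd' : d ≤ 0 := not_lt.mp hd
      obtain ⟨n, hn⟩ := Int.eq_ofNat_of_zero_le (neg_nonneg.mpr hd')
      refine ⟨ψ a * (x ^ w) ^ n, ?_⟩
      change algebraMap R' K' (ψ a * (x ^ w) ^ n) = algebraMap R' K' (ψ a) * y ^ (-d)
      rw [hn, zpow_natCast, map_mul, map_pow]
  -- restrict to `R'`
  let E : R' ≃+* (algebraMap R' K').range :=
    RingEquiv.ofBijective (algebraMap R' K').rangeRestrict
      ⟨fun a b hab => hinj (by
          have := congrArg Subtype.val hab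
          exact this),
        (algebraMap R' K').rangeRestrict_surjective⟩
  let g : A →+* R' := E.symm.toRingHom.comp (gK.codRestrict _ hmem)
  have hg : ∀ a : A, algebraMap R' K' (g a) = gK a := by
    intro a
    have h1 : E (g a) = gK.codRestrict _ hmem a := E.apply_symm_apply _
    have h2 := congrArg (Subtype.val) h1
    exact h2
  have hgd : ∀ (d : ℤ) (a : A), a ∈ 𝒜 d →
      algebraMap R' K' (g a) * y ^ d = algebraMap R' K' (ψ a) := by
    intro d a ha
    rw [hg]
    exact rescale_mul_zpow 𝒜 ψK y hy0 ha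
  refine ⟨g, hgd, ?_⟩
  -- `g f₀` is a unit
  have hgf : g f₀ = u := by
    apply hinj
    have h1 := hgd _ _ (hdeg f₀ hf₀T)
    rw [hf₀, zpow_natCast, hy, ← map_pow, ← pow_mul, map_mul] at h1
    have h0 : algebraMap R' K' (x ^ (w * deg f₀)) ≠ 0 := by
      rw [Ne, map_eq_zero_iff _ hinj]
      exact pow_ne_zero _ hx0
    exact mul_right_cancel₀ h0 h1
  have hmemI : f₀ ∈ Ideal.span {a : A | ∃ d : ℤ, 0 < d ∧ a ∈ 𝒜 d} :=
    Ideal.subset_span ⟨(deg f₀ : ℤ), by exact_mod_cast hdegpos f₀ hf₀T, hdeg f₀ hf₀T⟩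
  exact Ideal.eq_top_of_isUnit_mem _ (Ideal.mem_map_of_mem g hmemI) (hgf ▸ hu)

end Groth.Agent.Lib.Helper29.Rescale
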