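import Groth.Agent.Lib.Helper29TildeTrunc
import Groth.Agent.Lib.Helper29CechAlgUF
import Groth.Agent.Lib.Helper29GrEGFinal
import Groth.Agent.Lib.Helper13Hilb

/-!
# Sections of `M(e)~` on `P^r_k` over the standard opens versus homogeneous fractions (helper29)

`M` is a `ℤ`-graded module over `S = k[x_0, …, x_r]`; the sheaf is the one attached to the pieces of
non-negative degree.  A section `s` over an open `W` on which all the `x (σ a)` are invertible and a
fraction `y` in the localization of `M` at the submonoid generated by the `x (σ a)` are *related*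
if `s` is given by `y` at every point of `W`.
-/

set_option autoImplicit false
set_option linter.style.haveILetI false
set_option linter.unusedSectionVars false

universe u

open CategoryTheory CategoryTheory.Limits AlgebraicGeometry TopologicalSpace Opposite

namespace Groth.Agent.Lib.Helper29.SerreGro

open Groth.Agent.Lib.Helper27GrTildeSect Groth.Agent.Lib.Helper29.TildePos
  Groth.Agent.Lib.Helper29.TildeMap Groth.Agent.Lib.Helper29.TildeTrunc
  Groth.Agent.Lib.Helper29.CechAlgU Groth.Agent.Lib.Helper29GrStdPoly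
  Groth.Agent.Lib.Helper29GrEG

variable (k : Type u) [Field k] (r : ℕ)

/-- The index type of the standard cover. -/
abbrev κ : Type u := ULift.{u} (Fin (r + 1))

/-- The variables. -/
noncomputable def xv : κ.{u} r → MvPolynomial (Fin (r + 1)) k := fun i => MvPolynomial.X i.down

theorem mem_stdGr_of_mem_poly {i : ℕ} {a : MvPolynomial (Fin (r + 1)) k}
    (ha : a ∈ CohB1.polyGrading r k i) : a ∈ GrSyz.stdGr k (Fin (r + 1)) (i : ℤ) := by
  rw [GrSyz.mem_stdGr_iff]
  intro d hd
  rw [Groth.Agent.Helper13Hilb.weight_one_int]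
  have h1 := (MvPolynomial.mem_homogeneousSubmodule _ _).mp ha hd
  rw [← h1, Finsupp.degree_eq_weight_one]
  rfl

theorem xv_mem_poly (i : κ r) : xv k r i ∈ CohB1.polyGrading r k 1 :=
  (MvPolynomial.mem_homogeneousSubmodule _ _).mpr (MvPolynomial.isHomogeneous_X k i.down)

theorem xv_mem_A (i : κ r) : xv k r i ∈ A k (r + 1) 1 := X_mem_one k (r + 1) i.down

theorem hxv : ∀ i : κ r, ∃ t : ℤ, xv k r i ∈ A k (r + 1) t := fun i => ⟨1, xv_mem_A k r i⟩

variable {M : Type u} [AddCommGroup M] [Module k M] [Module (MvPolynomial (Fin (r + 1)) k) M]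
  [IsScalarTower k (MvPolynomial (Fin (r + 1)) k) M]
  (ℳ : ℤ → Submodule k M) [DirectSum.Decomposition ℳ]
  [SetLike.GradedSMul (GrSyz.stdGr k (Fin (r + 1))) ℳ]
  [SetLike.GradedSMul (CohB1.polyGrading r k) (fun n : ℕ => ℳ (n : ℤ))]

theorem hsm : ∀ (i : ℕ) (z : ℤ) (a : MvPolynomial (Fin (r + 1)) k) (m : M),
    a ∈ CohB1.polyGrading r k i → m ∈ ℳ z → a • m ∈ ℳ ((i : ℤ) + z) := by
  intro i z a m ha hm
  exact SetLike.GradedSMul.smul_mem (A := GrSyz.stdGr k (Fin (r + 1))) (B := ℳ)
    (mem_stdGr_of_mem_poly k r ha) hm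

section Rel

variable {j : ℕ} (σ : Fin j → κ r) (e : ℤ) (W : (Proj (CohB1.polyGrading r k)).Opens)
  (hW : ∀ y : ProjectiveSpectrum (CohB1.polyGrading r k), y ∈ W →
    Sσ (xv k r) σ ≤ y.asHomogeneousIdeal.toIdeal.primeCompl)

/-- The section `s` over `W` is given by the fraction `y` at every point. -/
def Rel (s : Γ(GrTilde.tilde (CohB1.polyGrading r k) (tr ℳ) e, W))
    (y : LocalizedModule (Sσ (xv k r) σ) M) : Prop :=
  ∀ (pt : ProjectiveSpectrum (CohB1.polyGrading r k)) (hpt : pt ∈ W),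
    secVal (CohB1.polyGrading r k) (tr ℳ) e W s pt hpt = resL (hW pt hpt) y

variable {σ e W hW}

theorem Rel.add {s s' : Γ(GrTilde.tilde (CohB1.polyGrading r k) (tr ℳ) e, W)}
    {y y' : LocalizedModule (Sσ (xv k r) σ) M} (h : Rel k r ℳ σ e W hW s y)
    (h' : Rel k r ℳ σ e W hW s' y') : Rel k r ℳ σ e W hW (s + s') (y + y') := by
  intro pt hpt
  rw [secVal_add', h pt hpt, h' pt hpt, map_add]

theorem Rel.zero : Rel k r ℳ σ e W hW 0 0 := by
  intro pt hpt
  rw [secVal_zero', map_zero]

theorem Rel.neg {s : Γ(GrTilde.tilde (CohB1.polyGrading r k) (tr ℳ) e, W)}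
    {y : LocalizedModule (Sσ (xv k r) σ) M} (h : Rel k r ℳ σ e W hW s y) :
    Rel k r ℳ σ e W hW (-s) (-y) := by
  intro pt hpt
  have h1 : secVal (CohB1.polyGrading r k) (tr ℳ) e W (-s) pt hpt =
      - secVal (CohB1.polyGrading r k) (tr ℳ) e W s pt hpt := rfl
  rw [h1, h pt hpt, map_neg]

/-- A section is determined by the fraction it is related to. -/
theorem Rel.unique_left {s s' : Γ(GrTilde.tilde (CohB1.polyGrading r k) (tr ℳ) e, W)}
    {y : LocalizedModule (Sσ (xv k r) σ) M} (h : Rel k r ℳ σ e W hW s y)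
    (h' : Rel k r ℳ σ e W hW s' y) : s = s' := by
  apply sec_ext'
  intro pt hpt
  rw [h pt hpt, h' pt hpt]

end Rel

end Groth.Agent.Lib.Helper29.SerreGro
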