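import Groth.Agent.Lib.Helper29SerreGroA

/-!
# Sections over the standard opens of `P^r_k` versus homogeneous fractions: existence and uniqueness
(helper29).
-/

set_option autoImplicit false
set_option linter.style.haveILetI false
set_option linter.unusedSectionVars false

universe u

open CategoryTheory CategoryTheory.Limits AlgebraicGeometry TopologicalSpace Opposite

namespace Groth.Agent.Lib.Helper29.SerreGro

open Groth.Agent.Lib.Helper27GrTildeSect Groth.Agent.Lib.Helper29.TildePos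
  Groth.Agent.Lib.Helper29.TildeMap Groth.Agent.Lib.Helper29.TildeTrunc
  Groth.Agent.Lib.Helper29.CechAlgU Groth.Agent.Lib.Helper29GrStdPoly
  Groth.Agent.Lib.Helper29GrEG

variable (k : Type u) [Field k] (r : ℕ)

section Monomial

variable {j : ℕ} (σ : Fin j → κ r)

/-- The product of the variables `x (σ a)`. -/
noncomputable def gσ : MvPolynomial (Fin (r + 1)) k := ∏ a : Fin j, xv k r (σ a)

theorem gσ_mem_poly : gσ k r σ ∈ CohB1.polyGrading r k j := by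
  unfold gσ
  have h := SetLike.prod_mem_graded (CohB1.polyGrading r k) (fun _ : Fin j => 1)
    (fun a => xv k r (σ a)) (F := Finset.univ) (fun a _ => xv_mem_poly k r (σ a))
  simpa using h

theorem gσ_pow_mem_poly (K : ℕ) : gσ k r σ ^ K ∈ CohB1.polyGrading r k (K * j) := by
  have := SetLike.pow_mem_graded K (gσ_mem_poly k r σ)
  simpa [smul_eq_mul] using this

theorem gσ_pow_mem_A (K : ℕ) : gσ k r σ ^ K ∈ A k (r + 1) (((K * j : ℕ) : ℤ)) :=
  mem_stdGr_of_mem_poly k r (gσ_pow_mem_poly k r σ K)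

theorem gσ_mem_Sσ : gσ k r σ ∈ Sσ (xv k r) σ :=
  prod_mem (fun a _ => x_mem_Sσ (xv k r) σ a)

theorem gσ_pow_ne_zero (K : ℕ) : gσ k r σ ^ K ≠ 0 := by
  apply pow_ne_zero
  unfold gσ
  rw [Finset.prod_ne_zero_iff]
  intro a _
  exact MvPolynomial.X_ne_zero _

/-- Every element of the submonoid divides a power of the product of the variables. -/
theorem exists_mul_eq_pow (s₀ : MvPolynomial (Fin (r + 1)) k) (hs₀ : s₀ ∈ Sσ (xv k r) σ) :
    ∃ (K : ℕ) (s' : MvPolynomial (Fin (r + 1)) k), s' ∈ Sσ (xv k r) σ ∧ s₀ * s' = gσ k r σ ^ K := by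
  classical
  induction hs₀ using Submonoid.closure_induction with
  | mem s hs =>
    obtain ⟨a, rfl⟩ := hs
    refine ⟨1, ∏ b ∈ Finset.univ.erase a, xv k r (σ b),
      prod_mem (fun b _ => x_mem_Sσ (xv k r) σ b), ?_⟩
    rw [pow_one]
    exact Finset.mul_prod_erase Finset.univ (fun b => xv k r (σ b)) (Finset.mem_univ a)
  | one => exact ⟨0, 1, one_mem _, by simp⟩
  | mul a b _ _ ha hb =>
    obtain ⟨K, a', ha', hK⟩ := ha
    obtain ⟨K', b', hb', hK'⟩ := hb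
    refine ⟨K + K', a' * b', mul_mem ha' hb', ?_⟩
    rw [pow_add, ← hK, ← hK']
    ring

theorem not_mem_of_mem_Sσ {pt : ProjectiveSpectrum (CohB1.polyGrading r k)}
    (h : ∀ a, xv k r (σ a) ∉ pt.asHomogeneousIdeal) :
    Sσ (xv k r) σ ≤ pt.asHomogeneousIdeal.toIdeal.primeCompl := by
  apply Submonoid.closure_le.mpr
  rintro _ ⟨a, rfl⟩
  exact h a

theorem gσ_not_mem_iff (pt : ProjectiveSpectrum (CohB1.polyGrading r k)) :
    gσ k r σ ∉ pt.asHomogeneousIdeal ↔ ∀ a, xv k r (σ a) ∉ pt.asHomogeneousIdeal := by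
  constructor
  · intro h a ha
    apply h
    unfold gσ
    exact (Ideal.IsPrime.prod_mem_iff (hp := pt.isPrime)).mpr ⟨a, Finset.mem_univ a, ha⟩
  · intro h hg
    unfold gσ at hg
    obtain ⟨a, -, ha⟩ := (Ideal.IsPrime.prod_mem_iff (hp := pt.isPrime)).mp hg
    exact h a ha

end Monomial

variable {M : Type u} [AddCommGroup M] [Module k M] [Module (MvPolynomial (Fin (r + 1)) k) M]
  [IsScalarTower k (MvPolynomial (Fin (r + 1)) k) M]
  (ℳ : ℤ → Submodule k M) [DirectSum.Decomposition ℳ]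
  [SetLike.GradedSMul (GrSyz.stdGr k (Fin (r + 1))) ℳ]
  [SetLike.GradedSMul (CohB1.polyGrading r k) (fun n : ℕ => ℳ (n : ℤ))]

section Rep

variable {j : ℕ} (σ : Fin j → κ r) (e : ℤ)

/-- Homogeneous fractions of degree `e` can be written with denominator a power of the product of
the variables and numerator of non-negative degree. -/
theorem exists_rep_aux (hj : 0 < j) (t : ℤ) (s₀ : ↥(Sσ (xv k r) σ)) (m : M)
    (hs₀ : (s₀ : MvPolynomial (Fin (r + 1)) k) ∈ A k (r + 1) t) (hm : m ∈ ℳ (e + t)) :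
    ∃ (K i : ℕ) (m' : M), m' ∈ ℳ (i : ℤ) ∧ (i : ℤ) = ((K * j : ℕ) : ℤ) + e ∧
      (LocalizedModule.mk m s₀ : LocalizedModule (Sσ (xv k r) σ) M) =
        LocalizedModule.mk m' ⟨gσ k r σ ^ K, pow_mem (gσ_mem_Sσ k r σ) K⟩ := by
  obtain ⟨K, s', hs', hK⟩ := exists_mul_eq_pow k r σ s₀.1 s₀.2
  obtain ⟨t', ht'⟩ := homSub_Sσ (xv k r) (hxv k r) σ s' hs'
  have hdeg : ((K * j : ℕ) : ℤ) = t + t' := by
    have h1 : gσ k r σ ^ K ∈ A k (r + 1) (t + t') := by
      rw [← hK]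
      exact SetLike.GradedMul.mul_mem hs₀ ht'
    exact DirectSum.degree_eq_of_mem_mem (A k (r + 1)) (gσ_pow_mem_A k r σ K) h1
      (gσ_pow_ne_zero k r σ K)
  have hm' : m ∈ ℳ (e + t) := hm
  have hm₁ : s' • m ∈ ℳ (((K * j : ℕ) : ℤ) + e) := by
    have := SetLike.GradedSMul.smul_mem (A := GrSyz.stdGr k (Fin (r + 1))) (B := ℳ)
      (show s' ∈ GrSyz.stdGr k (Fin (r + 1)) t' from ht') hm'
    rw [vadd_eq_add] at this
    have h2 : t' + (e + t) = ((K * j : ℕ) : ℤ) + e := by rw [hdeg]; ring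
    rwa [h2] at this
  -- raise the degree
  let L : ℕ := e.natAbs
  have hm₂ : gσ k r σ ^ L • s' • m ∈ ℳ (((L * j : ℕ) : ℤ) + (((K * j : ℕ) : ℤ) + e)) :=
    hsm k r ℳ (L * j) _ _ _ (gσ_pow_mem_poly k r σ L) hm₁
  have hnn : (0 : ℤ) ≤ ((L * j : ℕ) : ℤ) + (((K * j : ℕ) : ℤ) + e) := by
    have h1 : L ≤ L * j := Nat.le_mul_of_pos_right _ hj
    have h2 : (L : ℤ) = |e| := Int.natCast_natAbs e
    have h3 : -|e| ≤ e := neg_abs_le e
    have h4 : (0 : ℤ) ≤ ((K * j : ℕ) : ℤ) := Int.natCast_nonneg _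
    have h5 : ((L : ℕ) : ℤ) ≤ ((L * j : ℕ) : ℤ) := by exact_mod_cast h1
    omega
  obtain ⟨i, hi⟩ := Int.eq_ofNat_of_zero_le hnn
  refine ⟨L + K, i, gσ k r σ ^ L • s' • m, ?_, ?_, ?_⟩
  · rw [← hi]; exact hm₂
  · rw [← hi]; push_cast; ring
  · rw [LocalizedModule.mk_eq]
    refine ⟨1, ?_⟩
    rw [one_smul, one_smul]
    change (gσ k r σ ^ (L + K)) • m = (s₀ : MvPolynomial (Fin (r + 1)) k) • gσ k r σ ^ L • s' • m
    rw [pow_add, ← hK, smul_smul, smul_smul]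
    congr 1
    ring

theorem exists_rep (hj : 0 < j) (y : LocalizedModule (Sσ (xv k r) σ) M)
    (hy : y ∈ LocDeg (XM ℳ) (Sσ (xv k r) σ) e) :
    ∃ (K i : ℕ) (m : M), m ∈ ℳ (i : ℤ) ∧ (i : ℤ) = ((K * j : ℕ) : ℤ) + e ∧
      y = LocalizedModule.mk m ⟨gσ k r σ ^ K, pow_mem (gσ_mem_Sσ k r σ) K⟩ := by
  obtain ⟨t, s₀, m, hs₀, hm, rfl⟩ := hy
  exact exists_rep_aux k r ℳ σ e hj t s₀ m hs₀ hm

end Rep

section Existence

variable {j : ℕ} (σ : Fin j → κ r) (e : ℤ) (W : (Proj (CohB1.polyGrading r k)).Opens)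
  (hW : ∀ y : ProjectiveSpectrum (CohB1.polyGrading r k), y ∈ W →
    Sσ (xv k r) σ ≤ y.asHomogeneousIdeal.toIdeal.primeCompl)

/-- Every homogeneous fraction of degree `e` defines a section. -/
theorem exists_sec_of_locDeg (hj : 0 < j) (y : LocalizedModule (Sσ (xv k r) σ) M)
    (hy : y ∈ LocDeg (XM ℳ) (Sσ (xv k r) σ) e) :
    ∃ s : Γ(GrTilde.tilde (CohB1.polyGrading r k) (tr ℳ) e, W), Rel k r ℳ σ e W hW s y := by
  obtain ⟨K, i, m, hm, hi, rfl⟩ := exists_rep k r ℳ σ e hj y hy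
  have hnin : ∀ pt : W, gσ k r σ ^ K ∉ pt.1.asHomogeneousIdeal := fun pt =>
    hW pt.1 pt.2 (pow_mem (gσ_mem_Sσ k r σ) K)
  refine ⟨ofSect (CohB1.polyGrading r k) (tr ℳ) e W
    (fracOn (CohB1.polyGrading r k) (tr ℳ) e W (i := i) (j := K * j) hm
      (gσ_pow_mem_poly k r σ K) hi hnin), ?_⟩
  intro pt hpt
  rw [resL_mk]
  rfl

/-- Every section over `D₊(∏ x (σ a))` is given by a homogeneous fraction of degree `e`. -/
theorem exists_locDeg_of_sec (hj : 0 < j)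
    (hWeq : W = Proj.basicOpen (CohB1.polyGrading r k) (gσ k r σ))
    (s : Γ(GrTilde.tilde (CohB1.polyGrading r k) (tr ℳ) e, W)) :
    ∃ y : LocalizedModule (Sσ (xv k r) σ) M, y ∈ LocDeg (XM ℳ) (Sσ (xv k r) σ) e ∧
      Rel k r ℳ σ e W hW s y := by
  obtain ⟨K, i, m, hm, hk, hi, hval⟩ := exists_global' (CohB1.polyGrading r k) ℳ W hj
    (gσ_mem_poly k r σ) hWeq s
  refine ⟨(LocalizedModule.mk m ⟨gσ k r σ ^ K, pow_mem (gσ_mem_Sσ k r σ) K⟩ :
    LocalizedModule (Sσ (xv k r) σ) M), ?_, ?_⟩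
  · refine ⟨((K * j : ℕ) : ℤ), ⟨gσ k r σ ^ K, pow_mem (gσ_mem_Sσ k r σ) K⟩, m,
      gσ_pow_mem_A k r σ K, ?_, rfl⟩
    change m ∈ ℳ (e + ((K * j : ℕ) : ℤ))
    have h1 : e + ((K * j : ℕ) : ℤ) = (i : ℤ) := by rw [hi]; push_cast; ring
    rw [h1]
    exact hm
  · intro pt hpt
    rw [resL_mk]
    exact hval pt hpt

/-- The homogeneous fraction giving a section over `D₊(∏ x (σ a))` is unique. -/
theorem Rel.unique_right (hj : 0 < j)
    (hWeq : W = Proj.basicOpen (CohB1.polyGrading r k) (gσ k r σ))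
    {s : Γ(GrTilde.tilde (CohB1.polyGrading r k) (tr ℳ) e, W)}
    {y y' : LocalizedModule (Sσ (xv k r) σ) M} (hy : y ∈ LocDeg (XM ℳ) (Sσ (xv k r) σ) e)
    (hy' : y' ∈ LocDeg (XM ℳ) (Sσ (xv k r) σ) e) (h : Rel k r ℳ σ e W hW s y)
    (h' : Rel k r ℳ σ e W hW s y') : y = y' := by
  have hsub : y - y' ∈ LocDeg (XM ℳ) (Sσ (xv k r) σ) e := sub_mem hy hy'
  obtain ⟨t, s₀, m, hs₀, hm, hw⟩ := hsub
  change M at m
  have hm' : m ∈ ℳ (e + t) := hm
  have hw : y - y' = (LocalizedModule.mk m s₀ : LocalizedModule (Sσ (xv k r) σ) M) := hw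
  have H : ∀ pt : ProjectiveSpectrum (CohB1.polyGrading r k),
      gσ k r σ ∉ pt.asHomogeneousIdeal →
        ∃ u : MvPolynomial (Fin (r + 1)) k, u ∉ pt.asHomogeneousIdeal ∧ u • m = 0 := by
    intro pt hpt
    have hptW : pt ∈ W := by
      rw [hWeq]
      exact (ProjectiveSpectrum.mem_basicOpen _ _ pt).mpr hpt
    have h1 : resL (hW pt hptW) (y - y') = 0 := by
      rw [map_sub, ← h pt hptW, ← h' pt hptW, sub_self]
    rw [hw, resL_mk, ← LocalizedModule.zero_mk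
      (1 : pt.asHomogeneousIdeal.toIdeal.primeCompl), LocalizedModule.mk_eq] at h1
    obtain ⟨u, hu⟩ := h1
    refine ⟨(s₀ : MvPolynomial (Fin (r + 1)) k) * u, ?_, ?_⟩
    · intro hmem
      rcases pt.isPrime.mem_or_mem hmem with h2 | h2
      · exact hW pt hptW s₀.2 h2
      · exact u.2 h2
    · rw [smul_zero, smul_zero, one_smul] at hu
      have hu' : (u : MvPolynomial (Fin (r + 1)) k) • m = 0 := hu
      rw [mul_smul, hu', smul_zero]
  obtain ⟨K, hK⟩ := exists_pow_smul_eq_zero_int (CohB1.polyGrading r k) ℳ (hsm k r ℳ) hj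
    (gσ_mem_poly k r σ) hm' H
  have h0 : y - y' = 0 := by
    rw [hw, ← LocalizedModule.zero_mk (1 : Sσ (xv k r) σ), LocalizedModule.mk_eq]
    refine ⟨⟨gσ k r σ ^ K, pow_mem (gσ_mem_Sσ k r σ) K⟩, ?_⟩
    rw [smul_zero, smul_zero, one_smul]
    exact hK
  exact sub_eq_zero.mp h0

end Existence

section Res

variable {j j' : ℕ} {σ : Fin j → κ r} {σ' : Fin j' → κ r} {e : ℤ}
  {W W' : (Proj (CohB1.polyGrading r k)).Opens}
  {hW : ∀ y : ProjectiveSpectrum (CohB1.polyGrading r k), y ∈ W →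
    Sσ (xv k r) σ ≤ y.asHomogeneousIdeal.toIdeal.primeCompl}
  {hW' : ∀ y : ProjectiveSpectrum (CohB1.polyGrading r k), y ∈ W' →
    Sσ (xv k r) σ' ≤ y.asHomogeneousIdeal.toIdeal.primeCompl}

/-- Compatibility with restriction of sections and of fractions. -/
theorem Rel.res (i : W ⟶ W') (hle : Sσ (xv k r) σ' ≤ Sσ (xv k r) σ)
    {s' : Γ(GrTilde.tilde (CohB1.polyGrading r k) (tr ℳ) e, W')}
    {y' : LocalizedModule (Sσ (xv k r) σ') M} (h : Rel k r ℳ σ' e W' hW' s' y') :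
    Rel k r ℳ σ e W hW
      ((GrTilde.tilde (CohB1.polyGrading r k) (tr ℳ) e).presheaf.map i.op s') (resL hle y') := by
  intro pt hpt
  rw [resL_resL]
  exact h pt (i.le hpt)

/-- Compatibility with signs. -/
theorem Rel.neg_one_pow {s : Γ(GrTilde.tilde (CohB1.polyGrading r k) (tr ℳ) e, W)}
    {y : LocalizedModule (Sσ (xv k r) σ) M} (h : Rel k r ℳ σ e W hW s y) (n : ℕ) :
    Rel k r ℳ σ e W hW (((-1 : ℤ) ^ n) • s)
      (((-1 : MvPolynomial (Fin (r + 1)) k) ^ n) • y) := by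
  rcases Nat.even_or_odd n with hn | hn
  · rw [hn.neg_one_pow, hn.neg_one_pow, one_smul, one_smul]
    exact h
  · rw [hn.neg_one_pow, hn.neg_one_pow, neg_smul, neg_smul, one_smul, one_smul]
    exact h.neg

end Res

end Groth.Agent.Lib.Helper29.SerreGro
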