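import Groth.Agent.Lib.Helper29SerreGroB
import Groth.Agent.Lib.Helper27PnCohVanish

/-!
# The Čech complex of `M(e)~` on `P^r_k` for the standard cover versus the degree `e` part of the
algebraic Čech complex of `M` on the variables (helper29).
-/

set_option autoImplicit false
set_option linter.style.haveILetI false
set_option linter.unusedSectionVars false

universe u

open CategoryTheory CategoryTheory.Limits AlgebraicGeometry TopologicalSpace Opposite

namespace Groth.Agent.Lib.Helper29.SerreGro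

open Groth.Agent.Lib.Helper27GrTildeSect Groth.Agent.Lib.Helper29.TildePos
  Groth.Agent.Lib.Helper29.TildeMap Groth.Agent.Lib.Helper29.TildeTrunc
  Groth.Agent.Lib.Helper29.CechAlgU Groth.Agent.Lib.Helper29GrStdPoly
  Groth.Agent.Lib.Helper29GrEG Groth.Agent.Lib.Helper16.CechLow
  Groth.Agent.Lib.Helper27PnCech

variable (k : Type u) [Field k] (r : ℕ)

section Cover

theorem V_eq (i : κ r) : V r k i = Proj.basicOpen (CohB1.polyGrading r k) (xv k r i) := rfl

variable {p : ℕ} (σ : Fin (p + 1) → κ r)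

theorem mem_V_of_mem_Ux {y : ProjectiveSpectrum (CohB1.polyGrading r k)}
    (hy : y ∈ Ux (V r k) σ) (a : Fin (p + 1)) : xv k r (σ a) ∉ y.asHomogeneousIdeal := by
  have h1 : Ux (V r k) σ ≤ V r k (σ a) := (Pi.π (V r k ∘ σ) a).le
  exact (ProjectiveSpectrum.mem_basicOpen _ _ y).mp (h1 hy)

theorem Ux_eq_basicOpen :
    Ux (V r k) σ = Proj.basicOpen (CohB1.polyGrading r k) (gσ k r σ) := by
  apply le_antisymm
  · intro y hy
    exact (ProjectiveSpectrum.mem_basicOpen _ _ y).mpr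
      ((gσ_not_mem_iff k r σ y).mpr (mem_V_of_mem_Ux k r σ hy))
  · refine (Pi.lift (fun a => homOfLE ?_)).le
    intro y hy
    exact (ProjectiveSpectrum.mem_basicOpen _ _ y).mpr
      ((gσ_not_mem_iff k r σ y).mp ((ProjectiveSpectrum.mem_basicOpen _ _ y).mp hy) a)

theorem hUx : ∀ y : ProjectiveSpectrum (CohB1.polyGrading r k), y ∈ Ux (V r k) σ →
    Sσ (xv k r) σ ≤ y.asHomogeneousIdeal.toIdeal.primeCompl :=
  fun _ hy => not_mem_of_mem_Sσ k r σ (mem_V_of_mem_Ux k r σ hy)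

end Cover

variable {M : Type u} [AddCommGroup M] [Module k M] [Module (MvPolynomial (Fin (r + 1)) k) M]
  [IsScalarTower k (MvPolynomial (Fin (r + 1)) k) M]
  (ℳ : ℤ → Submodule k M) [DirectSum.Decomposition ℳ]
  [SetLike.GradedSMul (GrSyz.stdGr k (Fin (r + 1))) ℳ]
  [SetLike.GradedSMul (CohB1.polyGrading r k) (fun n : ℕ => ℳ (n : ℤ))]

section Complex

variable (e : ℤ)

/-- The presheaf of `M(e)~`. -/
noncomputable abbrev PM : (Proj (CohB1.polyGrading r k)).Opensᵒᵖ ⥤ AddCommGrpCat.{u} :=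
  (GrTilde.tilde (CohB1.polyGrading r k) (tr ℳ) e).presheaf

/-- A Čech cochain of the sheaf and an algebraic cochain are related componentwise. -/
def RelC (p : ℕ) (c' : (CK (V r k) (PM k r ℳ e)).X p) (c : C (xv k r) M (p + 1)) : Prop :=
  ∀ σ : Fin (p + 1) → κ r,
    Rel k r ℳ σ e (Ux (V r k) σ) (hUx k r σ) (pr (V r k) (PM k r ℳ e) p σ c') (c σ)

theorem Rel.sum {j : ℕ} {σ : Fin j → κ r} {W : (Proj (CohB1.polyGrading r k)).Opens}
    {hW : ∀ y : ProjectiveSpectrum (CohB1.polyGrading r k), y ∈ W →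
      Sσ (xv k r) σ ≤ y.asHomogeneousIdeal.toIdeal.primeCompl} {ι : Type*} (T : Finset ι)
    (s : ι → Γ(GrTilde.tilde (CohB1.polyGrading r k) (tr ℳ) e, W))
    (y : ι → LocalizedModule (Sσ (xv k r) σ) M)
    (h : ∀ i ∈ T, Rel k r ℳ σ e W hW (s i) (y i)) :
    Rel k r ℳ σ e W hW (∑ i ∈ T, s i) (∑ i ∈ T, y i) := by
  classical
  induction T using Finset.induction_on with
  | empty =>
    rw [Finset.sum_empty, Finset.sum_empty]
    exact Rel.zero k r ℳ
  | insert a T ha ih =>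
    rw [Finset.sum_insert ha, Finset.sum_insert ha]
    exact Rel.add k r ℳ (h a (Finset.mem_insert_self a T))
      (ih (fun i hi => h i (Finset.mem_insert_of_mem hi)))

variable {e}

/-- The differentials correspond. -/
theorem RelC.d {p : ℕ} {c' : (CK (V r k) (PM k r ℳ e)).X p} {c : C (xv k r) M (p + 1)}
    (h : RelC k r ℳ e p c' c) :
    RelC k r ℳ e (p + 1) ((CK (V r k) (PM k r ℳ e)).d p (p + 1) c') (dC (xv k r) (p + 1) c) := by
  intro τ
  rw [d_pr_apply, dC_apply]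
  refine Rel.sum k r ℳ e Finset.univ _ _ (fun i _ => ?_)
  exact (Rel.res k r ℳ (face (V r k) τ i) (Sσ_comp_le (xv k r) τ i.succAbove)
    (h (τ ∘ i.succAbove))).neg_one_pow k r ℳ (i : ℕ)

theorem RelC.zero (p : ℕ) : RelC k r ℳ e p 0 0 := by
  intro σ
  rw [map_zero]
  exact Rel.zero k r ℳ

/-- Algebraic cochains of degree `e` come from sheaf cochains. -/
theorem exists_relC_of_isDeg (p : ℕ) (c : C (xv k r) M (p + 1))
    (hc : IsDeg (xv k r) (XM ℳ) (p + 1) e c) :
    ∃ c' : (CK (V r k) (PM k r ℳ e)).X p, RelC k r ℳ e p c' c := by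
  choose s hs using fun σ : Fin (p + 1) → κ r =>
    exists_sec_of_locDeg k r ℳ σ e (Ux (V r k) σ) (hUx k r σ) (Nat.succ_pos p) (c σ) (hc σ)
  refine ⟨mkElt (V r k) (PM k r ℳ e) p s, fun σ => ?_⟩
  rw [pr_mkElt]
  exact hs σ

/-- Sheaf cochains give algebraic cochains of degree `e`. -/
theorem exists_relC_of_cochain (p : ℕ) (c' : (CK (V r k) (PM k r ℳ e)).X p) :
    ∃ c : C (xv k r) M (p + 1), IsDeg (xv k r) (XM ℳ) (p + 1) e c ∧ RelC k r ℳ e p c' c := by
  choose y hy hrel using fun σ : Fin (p + 1) → κ r =>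
    exists_locDeg_of_sec k r ℳ σ e (Ux (V r k) σ) (hUx k r σ) (Nat.succ_pos p)
      (Ux_eq_basicOpen k r σ) (pr (V r k) (PM k r ℳ e) p σ c')
  exact ⟨y, hy, hrel⟩

theorem RelC.unique_right {p : ℕ} {c' : (CK (V r k) (PM k r ℳ e)).X p}
    {c c₂ : C (xv k r) M (p + 1)} (hc : IsDeg (xv k r) (XM ℳ) (p + 1) e c)
    (hc₂ : IsDeg (xv k r) (XM ℳ) (p + 1) e c₂) (h : RelC k r ℳ e p c' c)
    (h₂ : RelC k r ℳ e p c' c₂) : c = c₂ := by
  funext σ
  exact Rel.unique_right k r ℳ σ e (Ux (V r k) σ) (hUx k r σ) (Nat.succ_pos p)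
    (Ux_eq_basicOpen k r σ) (hc σ) (hc₂ σ) (h σ) (h₂ σ)

theorem RelC.unique_left {p : ℕ} {c' c'₂ : (CK (V r k) (PM k r ℳ e)).X p}
    {c : C (xv k r) M (p + 1)} (h : RelC k r ℳ e p c' c) (h₂ : RelC k r ℳ e p c'₂ c) :
    c' = c'₂ := by
  apply elt_ext
  intro σ
  exact Rel.unique_left k r ℳ (h σ) (h₂ σ)

/-- **Čech cohomology of `M(e)~` versus the algebraic Čech complex**, in positive degrees. -/
theorem isZero_homology_iff (q : ℕ) :
    IsZero ((CK (V r k) (PM k r ℳ e)).homology (q + 1)) ↔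
      CechEx (xv k r) (XM ℳ) (q + 1) e := by
  constructor
  · intro h c hc hdc
    change C (xv k r) M (q + 2) at c
    obtain ⟨c', hc'⟩ := exists_relC_of_isDeg k r ℳ (q + 1) c hc
    have hd' : (CK (V r k) (PM k r ℳ e)).d (q + 1) (q + 2) c' = 0 := by
      have h1 := hc'.d k r ℳ
      have hdc' : dC (xv k r) (q + 2) c = 0 := hdc
      rw [hdc'] at h1
      exact RelC.unique_left k r ℳ h1 (RelC.zero k r ℳ (q + 2))
    obtain ⟨b', hb'⟩ := exists_of_isZero_homology (V r k) (PM k r ℳ e) q h c' hd'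
    obtain ⟨b, hb, hbrel⟩ := exists_relC_of_cochain k r ℳ q b'
    refine ⟨b, hb, ?_⟩
    have h2 := hbrel.d k r ℳ
    rw [hb'] at h2
    exact RelC.unique_right k r ℳ (isDeg_dC (xv k r) hb) hc h2 hc'
  · intro h
    rw [← HomologicalComplex.exactAt_iff_isZero_homology,
      HomologicalComplex.exactAt_iff' _ q (q + 1) (q + 2) (by simp) (by simp),
      ShortComplex.ab_exact_iff]
    intro c' hc'
    have hc'0 : (CK (V r k) (PM k r ℳ e)).d (q + 1) (q + 2) c' = 0 := hc'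
    obtain ⟨c, hc, hcrel⟩ := exists_relC_of_cochain k r ℳ (q + 1) c'
    have hdc : dC (xv k r) (q + 2) c = 0 := by
      have h1 := hcrel.d k r ℳ
      rw [hc'0] at h1
      exact RelC.unique_right k r ℳ (isDeg_dC (xv k r) hc) (isDeg_zero (xv k r) (q + 3) e) h1
        (RelC.zero k r ℳ (q + 2))
    obtain ⟨b, hb, hdb⟩ := h c hc hdc
    change C (xv k r) M (q + 1) at b
    obtain ⟨b', hb'⟩ := exists_relC_of_isDeg k r ℳ q b hb
    refine ⟨b', ?_⟩
    have h2 := hb'.d k r ℳ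
    have hdb' : dC (xv k r) (q + 1) b = c := hdb
    rw [hdb'] at h2
    exact RelC.unique_left k r ℳ h2 hcrel

end Complex

end Groth.Agent.Lib.Helper29.SerreGro
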