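import Groth.Agent.Lib.Helper29SerreGroC
import Groth.Agent.Lib.Helper27ProjGamma2

/-!
# Cohomology of `M~(e)` on `P^r_k` in positive degrees versus the algebraic Čech complex (helper29)
-/

set_option autoImplicit false
set_option linter.style.haveILetI false
set_option linter.unusedSectionVars false

universe u

open CategoryTheory CategoryTheory.Limits AlgebraicGeometry TopologicalSpace Opposite

namespace Groth.Agent.Lib.Helper29.SerreGro

open Groth.Agent.Lib.Helper27GrTildeSect Groth.Agent.Lib.Helper29.TildePos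
  Groth.Agent.Lib.Helper29.TildeMap Groth.Agent.Lib.Helper29.TildeTrunc
  Groth.Agent.Lib.Helper29.CechAlgU Groth.Agent.Lib.Helper29GrStdPoly
  Groth.Agent.Lib.Helper29GrEG Groth.Agent.Lib.Helper16.CechLow
  Groth.Agent.Lib.Helper27PnCech Groth.Agent.Lib.Helper27PnCohVanish

variable (k : Type u) [Field k] (r : ℕ)

theorem hgen_poly : (HomogeneousIdeal.irrelevant (CohB1.polyGrading r k)).toIdeal =
    Ideal.span ((CohB1.polyGrading r k 1 : Submodule k (MvPolynomial (Fin (r + 1)) k)) :
      Set (MvPolynomial (Fin (r + 1)) k)) := by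
  apply le_antisymm
  · refine (Groth.Agent.Lib.Helper27ProjGamma.irrelevant_le r k).trans (Ideal.span_mono ?_)
    rintro _ ⟨i, rfl⟩
    exact (MvPolynomial.mem_homogeneousSubmodule _ _).mpr (MvPolynomial.isHomogeneous_X k i)
  · rw [Ideal.span_le]
    intro a ha
    exact HomogeneousIdeal.mem_irrelevant_of_mem _ Nat.one_pos ha

variable {M : Type u} [AddCommGroup M] [Module k M] [Module (MvPolynomial (Fin (r + 1)) k) M]
  [IsScalarTower k (MvPolynomial (Fin (r + 1)) k) M]
  (ℳ : ℤ → Submodule k M) [DirectSum.Decomposition ℳ]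
  [SetLike.GradedSMul (GrSyz.stdGr k (Fin (r + 1))) ℳ]
  [SetLike.GradedSMul (CohB1.polyGrading r k) (fun n : ℕ => ℳ (n : ℤ))]

/-- Cohomology of `M(e)~` in positive degrees. -/
theorem subsingleton_HH_tilde_iff (q : ℕ) (e : ℤ) :
    Subsingleton (Coh.HH (CohB1.ProjSpace r k)
      (GrTilde.tilde (CohB1.polyGrading r k) (tr ℳ) e) (q + 1)) ↔
      CechEx (xv k r) (XM ℳ) (q + 1) e := by
  haveI hq : Coh.IsQCoh (X := CohB1.ProjSpace r k)
      (GrTilde.tilde (CohB1.polyGrading r k) (tr ℳ) e) :=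
    isQuasicoherent_tilde_tr (CohB1.polyGrading r k) ℳ e
  obtain ⟨φ⟩ := Groth.Agent.S0013.result (CohB1.ProjSpace r k) (V r k) (iSup_V r k)
    (isAffineOpen_iInf_V r k) (GrTilde.tilde (CohB1.polyGrading r k) (tr ℳ) e) (q + 1)
  rw [← isZero_homology_iff k r ℳ q, AddCommGrpCat.isZero_iff_subsingleton]
  constructor
  · intro h
    exact @Function.Injective.subsingleton _ _ _ φ.injective h
  · intro h
    exact @Function.Injective.subsingleton _ _ _ φ.symm.injective h

/-- **Serre–Grothendieck**: cohomology of `M~(e) = M~ ⊗ O(e)` in positive degrees. -/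
theorem subsingleton_HH_iff (q : ℕ) (e : ℤ) :
    Subsingleton (Coh.HH (CohB1.ProjSpace r k)
      (CohB1.tensorMod (GrTilde.tilde (CohB1.polyGrading r k) (tr ℳ) 0)
        (Twist.twistProjSpace r k e)) (q + 1)) ↔
      CechEx (xv k r) (XM ℳ) (q + 1) e := by
  obtain ⟨ψ⟩ := nonempty_twist_iso (CohB1.polyGrading r k) ℳ (hgen_poly k r) e
  rw [← subsingleton_HH_tilde_iff k r ℳ q e]
  constructor
  · intro h
    exact subsingleton_HH_of_iso (X := CohB1.ProjSpace r k) ψ (q + 1) h
  · intro h
    exact subsingleton_HH_of_iso (X := CohB1.ProjSpace r k) ψ.symm (q + 1) h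

end Groth.Agent.Lib.Helper29.SerreGro
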