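import Groth.Agent.Lib.Helper29SerreGroD
import Groth.Agent.Lib.Helper13RegLin

/-!
# Cohomology of `M~(e)` on `P^r_k` versus graded local cohomology of `M` at the irrelevant ideal
(helper29)
-/

set_option autoImplicit false
set_option linter.style.haveILetI false
set_option linter.unusedSectionVars false

universe u

open CategoryTheory CategoryTheory.Limits AlgebraicGeometry TopologicalSpace Opposite

namespace Groth.Agent.Lib.Helper29.SerreGro

open Groth.Agent.Lib.Helper29.TildeTrunc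
  Groth.Agent.Lib.Helper29.CechAlgU Groth.Agent.Lib.Helper29GrStdPoly
  Groth.Agent.Lib.Helper29GrEG Groth.Agent.Lib.Helper29GrHV Groth.Agent.Lib.Helper29GrEGFinal
  Groth.Agent.Lib.Helper29GrFree

variable (k : Type u) [Field k] (r : ℕ)

theorem mm_eq_span : (mm k (r + 1)).toIdeal = Ideal.span (Set.range (xv k r)) := by
  show (GrSyz.irrel (GrSyz.stdGr k (Fin (r + 1)))).toIdeal = _
  rw [← Groth.Agent.Helper13Syzygy.I_top_eq_irrel]
  unfold Groth.Agent.Helper13Syzygy.I
  congr 1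
  ext p
  constructor
  · rintro ⟨l, -, rfl⟩
    exact ⟨⟨l⟩, rfl⟩
  · rintro ⟨i, rfl⟩
    exact ⟨i.down, i.down.2, rfl⟩

variable {M : Type u} [AddCommGroup M] [Module k M] [Module (MvPolynomial (Fin (r + 1)) k) M]
  [IsScalarTower k (MvPolynomial (Fin (r + 1)) k) M]
  (ℳ : ℤ → Submodule k M) [DirectSum.Decomposition ℳ]
  [SetLike.GradedSMul (GrSyz.stdGr k (Fin (r + 1))) ℳ]
  [SetLike.GradedSMul (CohB1.polyGrading r k) (fun n : ℕ => ℳ (n : ℤ))]

/-- The algebraic Čech complex computes graded local cohomology (vanishing form), for the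
converted module. -/
theorem HV_succ_iff (p : ℕ) (e : ℤ) :
    HV (mm k (r + 1)) (XM ℳ) (p + 1) e ↔ CechEx (xv k r) (XM ℳ) p e := by
  obtain ⟨E⟩ := exists_res (XM (n := r + 1) ℳ)
  rw [HV_iff (mm k (r + 1)) (XM ℳ) E]
  exact Hcomp_succ_eq_bot_iff (xv k r) E (mm k (r + 1)) (mm_eq_span k r) (hxv k r) p e

/-- **Serre–Grothendieck correspondence** in vanishing form:
`H^{q+1}(P^r, M~(e)) = 0` iff `H^{q+2}_𝔪(M)_e = 0`. -/
theorem subsingleton_HH_iff_HV (q : ℕ) (e : ℤ) :
    Subsingleton (Coh.HH (CohB1.ProjSpace r k)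
      (CohB1.tensorMod (GrTilde.tilde (CohB1.polyGrading r k) (tr ℳ) 0)
        (Twist.twistProjSpace r k e)) (q + 1)) ↔
      HV (mm k (r + 1)) (XM ℳ) (q + 2) e := by
  rw [subsingleton_HH_iff k r ℳ q e, HV_succ_iff k r ℳ (q + 1) e]

/-- Regularity of the module in the local cohomology sense gives regularity of the sheaf. -/
theorem isMRegular_of_reg (d : ℤ) (h : Reg (mm k (r + 1)) (XM ℳ) d) :
    Curv2.IsMRegular k r (GrTilde.tilde (CohB1.polyGrading r k) (tr ℳ) 0) d := by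
  intro i hi1 _
  obtain ⟨q, rfl⟩ : ∃ q, i = q + 1 := ⟨i - 1, by omega⟩
  rw [subsingleton_HH_iff_HV k r ℳ q (d - ((q + 1 : ℕ) : ℤ))]
  have h1 := h (d + 1) (by omega) (q + 2)
  have h2 : d + 1 - ((q + 2 : ℕ) : ℤ) = d - ((q + 1 : ℕ) : ℤ) := by push_cast; ring
  rw [h2] at h1
  exact h1

end Groth.Agent.Lib.Helper29.SerreGro
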