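import Groth.Agent.Lib.Helper29SerreGroE
import Groth.Agent.Lib.Helper27PnSections

/-!
# Global sections of `M(d)~` on `P^r_k` versus the bottom of the algebraic Čech complex (helper29)

For `d ≥ 0`: the canonical map `M_d → Γ(P^r, M(d)~)` is surjective iff the degree `d` part of the
augmented Čech complex of `M` is exact at the spot `1`, iff `H^1_𝔪(M)_d = 0`.
-/

set_option autoImplicit false
set_option linter.style.haveILetI false
set_option linter.unusedSectionVars false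

universe u

open CategoryTheory CategoryTheory.Limits AlgebraicGeometry TopologicalSpace Opposite

namespace Groth.Agent.Lib.Helper29.SerreGro

open Groth.Agent.Lib.Helper27GrTildeSect Groth.Agent.Lib.Helper29.TildePos
  Groth.Agent.Lib.Helper29.TildeMap Groth.Agent.Lib.Helper29.TildeTrunc
  Groth.Agent.Lib.Helper29.CechAlgU Groth.Agent.Lib.Helper29GrStdPoly
  Groth.Agent.Lib.Helper29GrEG Groth.Agent.Lib.Helper29GrHV Groth.Agent.Lib.Helper29GrEGFinal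
  Groth.Agent.Lib.Helper29GrFree

variable (k : Type u) [Field k] (r : ℕ)

section Opens

variable {j : ℕ} (σ : Fin j → κ r)

/-- The open `D₊(∏ x (σ a))`. -/
noncomputable def Wσ : (Proj (CohB1.polyGrading r k)).Opens :=
  Proj.basicOpen (CohB1.polyGrading r k) (gσ k r σ)

theorem mem_Wσ_iff (y : ProjectiveSpectrum (CohB1.polyGrading r k)) :
    y ∈ Wσ k r σ ↔ ∀ a, xv k r (σ a) ∉ y.asHomogeneousIdeal :=
  (ProjectiveSpectrum.mem_basicOpen _ _ y).trans (gσ_not_mem_iff k r σ y)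

theorem hWσ : ∀ y : ProjectiveSpectrum (CohB1.polyGrading r k), y ∈ Wσ k r σ →
    Sσ (xv k r) σ ≤ y.asHomogeneousIdeal.toIdeal.primeCompl :=
  fun y hy => not_mem_of_mem_Sσ k r σ ((mem_Wσ_iff k r σ y).mp hy)

theorem exists_mem_Wσ (y : ProjectiveSpectrum (CohB1.polyGrading r k)) :
    ∃ i : κ r, y ∈ Wσ k r (fun _ : Fin 1 => i) := by
  obtain ⟨i, hi⟩ := Groth.Agent.Lib.Helper27PnSections.exists_X_not_mem r k y
  exact ⟨⟨i⟩, (mem_Wσ_iff k r _ y).mpr (fun _ => hi)⟩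

end Opens

variable {M : Type u} [AddCommGroup M] [Module k M] [Module (MvPolynomial (Fin (r + 1)) k) M]
  [IsScalarTower k (MvPolynomial (Fin (r + 1)) k) M]
  (ℳ : ℤ → Submodule k M) [DirectSum.Decomposition ℳ]
  [SetLike.GradedSMul (GrSyz.stdGr k (Fin (r + 1))) ℳ]
  [SetLike.GradedSMul (CohB1.polyGrading r k) (fun n : ℕ => ℳ (n : ℤ))]

section Agree

/-- The components of a `1`-cocycle agree at every point where both are defined. -/
theorem agree (c : C (xv k r) M 1) (hdc : dC (xv k r) 1 c = 0) (σ₁ σ₂ : Fin 1 → κ r)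
    (S' : Submonoid (MvPolynomial (Fin (r + 1)) k)) (h₁ : Sσ (xv k r) σ₁ ≤ S')
    (h₂ : Sσ (xv k r) σ₂ ≤ S') : resL h₁ (c σ₁) = resL h₂ (c σ₂) := by
  let τ : Fin 2 → κ r := Fin.cons (σ₁ 0) σ₂
  have hτ : Sσ (xv k r) τ ≤ S' := by
    apply Submonoid.closure_le.mpr
    rintro _ ⟨a, rfl⟩
    refine Fin.cases ?_ (fun b => ?_) a
    · exact h₁ (x_mem_Sσ (xv k r) σ₁ 0)
    · exact h₂ (x_mem_Sσ (xv k r) σ₂ b)
  have h0 := congrArg (resL hτ) (congrFun hdc τ)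
  rw [dC_apply, Fin.sum_univ_two, Pi.zero_apply, map_zero, map_add, map_smul, map_smul,
    resL_resL, resL_resL, Fin.val_zero, pow_zero, one_smul, Fin.val_one, pow_one, neg_smul,
    one_smul] at h0
  have e0 : τ ∘ (0 : Fin 2).succAbove = σ₂ := cons_comp_succAbove_zero (σ₁ 0) σ₂
  have e1 : τ ∘ (1 : Fin 2).succAbove = σ₁ := by
    funext a
    obtain rfl : a = 0 := Subsingleton.elim _ _
    rfl
  have r0 := resL_congr (fun ρ : Fin 1 → κ r => Sσ (xv k r) ρ) c e0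
    ((Sσ_comp_le (xv k r) τ (0 : Fin 2).succAbove).trans hτ) h₂
  have r1 := resL_congr (fun ρ : Fin 1 → κ r => Sσ (xv k r) ρ) c e1
    ((Sσ_comp_le (xv k r) τ (1 : Fin 2).succAbove).trans hτ) h₁
  rw [r0, r1] at h0
  exact (add_neg_eq_zero.mp h0).symm

end Agree

section Global

variable (d : ℕ)

theorem mem_Wσ_comp {j j' : ℕ} (τ : Fin j' → κ r) (φ : Fin j → Fin j')
    {y : ProjectiveSpectrum (CohB1.polyGrading r k)} (hy : y ∈ Wσ k r τ) :
    y ∈ Wσ k r (τ ∘ φ) :=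
  (mem_Wσ_iff k r _ y).mpr (fun a => (mem_Wσ_iff k r τ y).mp hy (φ a))

/-- The restriction of a global section to the standard opens gives an algebraic `1`-cocycle. -/
theorem exists_cocycle_of_global
    (sΓ : Γ(GrTilde.tilde (CohB1.polyGrading r k) (tr ℳ) (d : ℤ),
      (⊤ : (Proj (CohB1.polyGrading r k)).Opens))) :
    ∃ c : C (xv k r) M 1, IsDeg (xv k r) (XM (n := r + 1) ℳ) 1 (d : ℤ) c ∧
      dC (xv k r) 1 c = 0 ∧ ∀ σ : Fin 1 → κ r,
        Rel k r ℳ σ (d : ℤ) (Wσ k r σ) (hWσ k r σ)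
          ((GrTilde.tilde (CohB1.polyGrading r k) (tr ℳ) (d : ℤ)).presheaf.map
            (homOfLE (le_top : Wσ k r σ ≤ ⊤)).op sΓ) (c σ) := by
  have hex : ∀ σ : Fin 1 → κ r, ∃ y : LocalizedModule (Sσ (xv k r) σ) M,
      y ∈ LocDeg (XM (n := r + 1) ℳ) (Sσ (xv k r) σ) (d : ℤ) ∧
        Rel k r ℳ σ (d : ℤ) (Wσ k r σ) (hWσ k r σ)
          ((GrTilde.tilde (CohB1.polyGrading r k) (tr ℳ) (d : ℤ)).presheaf.map
            (homOfLE (le_top : Wσ k r σ ≤ ⊤)).op sΓ) y :=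
    fun σ => exists_locDeg_of_sec k r ℳ σ (d : ℤ) (Wσ k r σ) (hWσ k r σ) Nat.one_pos rfl _
  choose c hc hrel using hex
  refine ⟨c, hc, ?_, hrel⟩
  funext τ
  have hA : ∀ a : Fin 2, Rel k r ℳ τ (d : ℤ) (Wσ k r τ) (hWσ k r τ)
      ((GrTilde.tilde (CohB1.polyGrading r k) (tr ℳ) (d : ℤ)).presheaf.map
        (homOfLE (le_top : Wσ k r τ ≤ ⊤)).op sΓ)
      (resL (Sσ_comp_le (xv k r) τ a.succAbove) (c (τ ∘ a.succAbove))) := by
    intro a pt hpt
    rw [resL_resL]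
    exact hrel (τ ∘ a.succAbove) pt (mem_Wσ_comp k r τ a.succAbove hpt)
  have hAB := Rel.unique_right k r ℳ τ (d : ℤ) (Wσ k r τ) (hWσ k r τ) (by norm_num) rfl
    (resL_mem_LocDeg _ (hc _)) (resL_mem_LocDeg _ (hc _)) (hA 0) (hA 1)
  rw [dC_apply, Fin.sum_univ_two, Pi.zero_apply, Fin.val_zero, pow_zero, one_smul, Fin.val_one,
    pow_one, neg_smul, one_smul]
  exact add_neg_eq_zero.mpr hAB

/-- Exactness at the spot `1` in degree `d`: every global section of `M(d)~` is `m / 1`. -/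
theorem exists_elem_of_global (h : CechEx (xv k r) (XM (n := r + 1) ℳ) 0 (d : ℤ))
    (sΓ : Γ(GrTilde.tilde (CohB1.polyGrading r k) (tr ℳ) (d : ℤ),
      (⊤ : (Proj (CohB1.polyGrading r k)).Opens))) :
    ∃ m : M, m ∈ ℳ (d : ℤ) ∧ ∀ (pt : ProjectiveSpectrum (CohB1.polyGrading r k))
      (hpt : pt ∈ (⊤ : (Proj (CohB1.polyGrading r k)).Opens)),
      secVal (CohB1.polyGrading r k) (tr ℳ) (d : ℤ) ⊤ sΓ pt hpt =
        LocalizedModule.mk m (1 : pt.asHomogeneousIdeal.toIdeal.primeCompl) := by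
  obtain ⟨c, hc, hdc, hrel⟩ := exists_cocycle_of_global k r ℳ d sΓ
  obtain ⟨b, hb, hdb⟩ := h c hc hdc
  obtain ⟨m, rfl⟩ := exists_iota0_eq (Y := XM (n := r + 1) ℳ) (xv k r) b
  change M at m
  have hm : m ∈ ℳ (d : ℤ) := (isDeg_iota0_iff (Y := XM (n := r + 1) ℳ) (xv k r) m (d : ℤ)).mp hb
  refine ⟨m, hm, fun pt hpt => ?_⟩
  obtain ⟨i, hi⟩ := exists_mem_Wσ k r pt
  have h1 := hrel (fun _ => i) pt hi
  have h2 : c (fun _ => i) =
      (LocalizedModule.mk m 1 : LocalizedModule (Sσ (xv k r) (fun _ : Fin 1 => i)) M) := by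
    rw [← hdb]
    exact dC_iota0_apply (Y := XM (n := r + 1) ℳ) (xv k r) m _
  rw [h2, resL_mk] at h1
  exact h1

/-- Exactness at the spot `1` in degree `d` implies that every global section of `M(d)~` comes
from `M_d`. -/
theorem surjective_globalOf_of_cechEx (h : CechEx (xv k r) (XM (n := r + 1) ℳ) 0 (d : ℤ)) :
    Function.Surjective (fun m : ↥(ℳ ((d : ℕ) : ℤ)) =>
      GrTilde.globalOf (CohB1.polyGrading r k) (fun n : ℕ => ℳ (n : ℤ)) m) := by
  intro s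
  obtain ⟨m, hm, hval⟩ := exists_elem_of_global k r ℳ d h
    (ofSect (CohB1.polyGrading r k) (tr ℳ) (d : ℤ) ⊤ s)
  refine ⟨⟨m, hm⟩, ?_⟩
  apply Subtype.ext
  funext y
  apply Subtype.ext
  exact (hval y.1 y.2).symm

/-- An algebraic `1`-cocycle of degree `d` glues to a global section of `M(d)~`. -/
theorem exists_global_of_cocycle (c : C (xv k r) M 1)
    (hc : IsDeg (xv k r) (XM (n := r + 1) ℳ) 1 (d : ℤ) c) (hdc : dC (xv k r) 1 c = 0) :
    ∃ s : GrTilde.sect (CohB1.polyGrading r k) (tr ℳ) (d : ℤ) (op ⊤),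
      ∀ (σ : Fin 1 → κ r) (pt : ProjectiveSpectrum (CohB1.polyGrading r k))
        (hpt : pt ∈ Wσ k r σ),
        ((s.1 ⟨pt, trivial⟩ : GrTilde.tildeAt (CohB1.polyGrading r k) (tr ℳ) (d : ℤ) pt) :
          GrTilde.LocMod (CohB1.polyGrading r k) (M := M) pt) = resL (hWσ k r σ pt hpt) (c σ) := by
  choose t ht using fun σ : Fin 1 → κ r =>
    exists_sec_of_locDeg k r ℳ σ (d : ℤ) (Wσ k r σ) (hWσ k r σ) Nat.one_pos (c σ) (hc σ)
  choose ix hix using fun pt : ProjectiveSpectrum (CohB1.polyGrading r k) =>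
    exists_mem_Wσ k r pt
  let f : ∀ x : (⊤ : Opens (ProjectiveSpectrum.top (CohB1.polyGrading r k))),
      GrTilde.tildeAt (CohB1.polyGrading r k) (tr ℳ) (d : ℤ) x.1 := fun x =>
    (toSect (CohB1.polyGrading r k) (tr ℳ) (d : ℤ) _ (t (fun _ => ix x.1))).1 ⟨x.1, hix x.1⟩
  have key : ∀ (σ : Fin 1 → κ r) (pt : ProjectiveSpectrum (CohB1.polyGrading r k))
      (hpt : pt ∈ Wσ k r σ),
      ((f ⟨pt, trivial⟩ : GrTilde.tildeAt (CohB1.polyGrading r k) (tr ℳ) (d : ℤ) pt) :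
        GrTilde.LocMod (CohB1.polyGrading r k) (M := M) pt) =
        resL (hWσ k r σ pt hpt) (c σ) := by
    intro σ pt hpt
    have h1 := ht (fun _ => ix pt) pt (hix pt)
    exact h1.trans (agree k r c hdc _ σ _ _ _)
  have hpred : (GrTilde.isLocFrac (CohB1.polyGrading r k) (tr ℳ) (d : ℤ)).pred f := by
    intro x
    obtain ⟨V', hxV', iV', a, b, m, u, nin, hdeg, w⟩ :=
      (toSect (CohB1.polyGrading r k) (tr ℳ) (d : ℤ) _ (t (fun _ => ix x.1))).2 ⟨x.1, hix x.1⟩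
    refine ⟨V', hxV', homOfLE le_top, a, b, m, u, nin, hdeg, fun z => ?_⟩
    have hz : z.1 ∈ Wσ k r (fun _ : Fin 1 => ix x.1) := (iV' z).2
    have h1 := key (fun _ => ix x.1) z.1 hz
    have h2 := ht (fun _ => ix x.1) z.1 hz
    have h3 := w z
    exact h1.trans (h2.symm.trans h3)
  exact ⟨⟨f, hpred⟩, key⟩

/-- If a global section glued from the cocycle `c` is `m / 1`, then `c = d (m)`. -/
theorem cocycle_eq_of_global_eq (c : C (xv k r) M 1)
    (hc : IsDeg (xv k r) (XM (n := r + 1) ℳ) 1 (d : ℤ) c) (m : ↥(ℳ ((d : ℕ) : ℤ)))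
    (s : GrTilde.sect (CohB1.polyGrading r k) (tr ℳ) (d : ℤ) (op ⊤))
    (hs : ∀ (σ : Fin 1 → κ r) (pt : ProjectiveSpectrum (CohB1.polyGrading r k))
        (hpt : pt ∈ Wσ k r σ),
        ((s.1 ⟨pt, trivial⟩ : GrTilde.tildeAt (CohB1.polyGrading r k) (tr ℳ) (d : ℤ) pt) :
          GrTilde.LocMod (CohB1.polyGrading r k) (M := M) pt) = resL (hWσ k r σ pt hpt) (c σ))
    (hm : GrTilde.globalOf (CohB1.polyGrading r k) (fun n : ℕ => ℳ (n : ℤ)) m = s)
    (σ : Fin 1 → κ r) :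
    c σ = (LocalizedModule.mk m.1 1 : LocalizedModule (Sσ (xv k r) σ) M) := by
  have hm' : (LocalizedModule.mk m.1 1 : LocalizedModule (Sσ (xv k r) σ) M) ∈
      LocDeg (XM (n := r + 1) ℳ) (Sσ (xv k r) σ) (d : ℤ) := by
    refine ⟨0, 1, m.1, SetLike.GradedOne.one_mem, ?_, rfl⟩
    change m.1 ∈ ℳ ((d : ℤ) + 0)
    rw [add_zero]
    exact m.2
  apply Rel.unique_right k r ℳ (σ := σ) (e := (d : ℤ)) (W := Wσ k r σ) (hW := hWσ k r σ)
    Nat.one_pos rfl (hc σ) hm'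
    (s := (GrTilde.tilde (CohB1.polyGrading r k) (tr ℳ) (d : ℤ)).presheaf.map
      (homOfLE (le_top : Wσ k r σ ≤ ⊤)).op
        (ofSect (CohB1.polyGrading r k) (tr ℳ) (d : ℤ) ⊤ s))
  · intro pt hpt
    exact hs σ pt hpt
  · intro pt hpt
    rw [resL_mk]
    subst hm
    rfl

/-- Surjectivity of `M_d → Γ(P^r, M(d)~)` implies exactness at the spot `1` in degree `d`. -/
theorem cechEx_of_surjective_globalOf
    (hs : Function.Surjective (fun m : ↥(ℳ ((d : ℕ) : ℤ)) =>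
      GrTilde.globalOf (CohB1.polyGrading r k) (fun n : ℕ => ℳ (n : ℤ)) m)) :
    CechEx (xv k r) (XM (n := r + 1) ℳ) 0 (d : ℤ) := by
  intro c hc hdc
  change C (xv k r) M 1 at c
  obtain ⟨s, hs'⟩ := exists_global_of_cocycle k r ℳ d c hc hdc
  obtain ⟨m, hm⟩ := hs s
  refine ⟨iota0 (xv k r) (XM (n := r + 1) ℳ) m.1,
    (isDeg_iota0_iff (Y := XM (n := r + 1) ℳ) (xv k r) m.1 (d : ℤ)).mpr m.2, ?_⟩
  funext σ
  rw [dC_iota0_apply (Y := XM (n := r + 1) ℳ) (xv k r) m.1 σ]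
  exact (cocycle_eq_of_global_eq k r ℳ d c hc m s hs' hm σ).symm

theorem surjective_globalOf_iff :
    Function.Surjective (fun m : ↥(ℳ ((d : ℕ) : ℤ)) =>
      GrTilde.globalOf (CohB1.polyGrading r k) (fun n : ℕ => ℳ (n : ℤ)) m) ↔
      HV (mm k (r + 1)) (XM (n := r + 1) ℳ) 1 (d : ℤ) :=
  ⟨fun h => (HV_succ_iff k r ℳ 0 (d : ℤ)).mpr (cechEx_of_surjective_globalOf k r ℳ d h),
    fun h => surjective_globalOf_of_cechEx k r ℳ d ((HV_succ_iff k r ℳ 0 (d : ℤ)).mp h)⟩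

end Global

end Groth.Agent.Lib.Helper29.SerreGro
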