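import Groth.Agent.Lib.Helper29SerreGroF
import Groth.Agent.Lib.Helper29GrDRegConv
import Groth.Agent.S0022

/-!
# `d`-regularity of a graded module over `k[x_0..x_r]` in terms of the sheaf `M~` (helper29)
-/

set_option autoImplicit false
set_option linter.style.haveILetI false
set_option linter.unusedSectionVars false

universe u

open CategoryTheory CategoryTheory.Limits AlgebraicGeometry TopologicalSpace Opposite

namespace Groth.Agent.Lib.Helper29.SerreGro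

open Groth.Agent.Lib.Helper29.TildeTrunc
  Groth.Agent.Lib.Helper29.CechAlgU Groth.Agent.Lib.Helper29GrStdPoly
  Groth.Agent.Lib.Helper29GrEG Groth.Agent.Lib.Helper29GrHV Groth.Agent.Lib.Helper29GrEGFinal
  Groth.Agent.Lib.Helper29GrFree

variable (k : Type u) [Field k] (r : ℕ)

variable {M : Type u} [AddCommGroup M] [Module k M] [Module (MvPolynomial (Fin (r + 1)) k) M]
  [IsScalarTower k (MvPolynomial (Fin (r + 1)) k) M]
  (ℳ : ℤ → Submodule k M) [DirectSum.Decomposition ℳ]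
  [SetLike.GradedSMul (GrSyz.stdGr k (Fin (r + 1))) ℳ]
  [SetLike.GradedSMul (CohB1.polyGrading r k) (fun n : ℕ => ℳ (n : ℤ))]

/-- Above the dimension the algebraic Čech complex is exact (Grothendieck vanishing on `P^r`). -/
theorem cechEx_of_lt (q : ℕ) (hq : r < q + 1) (e : ℤ) :
    CechEx (xv k r) (XM (n := r + 1) ℳ) (q + 1) e := by
  rw [← subsingleton_HH_tilde_iff k r ℳ q e]
  haveI hqc : Coh.IsQCoh (X := CohB1.ProjSpace r k)
      (GrTilde.tilde (CohB1.polyGrading r k) (tr ℳ) e) :=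
    isQuasicoherent_tilde_tr (CohB1.polyGrading r k) ℳ e
  exact Groth.Agent.S0022.result r k _ (q + 1) hq

theorem HV_of_lt (q : ℕ) (hq : r < q + 1) (e : ℤ) :
    HV (mm k (r + 1)) (XM (n := r + 1) ℳ) (q + 2) e :=
  (HV_succ_iff k r ℳ (q + 1) e).mpr (cechEx_of_lt k r ℳ q hq e)

theorem Hcomp_eq_bot_iff_HV (E : GrLC.StarInjRes (GrSyz.stdGr k (Fin (r + 1))) ℳ) (i : ℕ)
    (e : ℤ) : E.Hcomp (GrSyz.irrel (GrSyz.stdGr k (Fin (r + 1)))) i e = ⊥ ↔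
      HV (mm k (r + 1)) (XM (n := r + 1) ℳ) i e := by
  rw [HV_iff (mm k (r + 1)) (XM (n := r + 1) ℳ) (resX E)]
  exact (Hcomp_resX_eq_bot_iff E i e).symm

/-- `d`-regularity of `M` (local cohomology) iff `M~` is `d`-regular, `H^0_𝔪(M)_{>d} = 0` and
`M_d → Γ(M(d)~)` is surjective. -/
theorem dRegular_iff (E : GrLC.StarInjRes (GrSyz.stdGr k (Fin (r + 1))) ℳ) (d : ℕ) :
    (GrLC.endDeg (E.Hgr (GrSyz.irrel (GrSyz.stdGr k (Fin (r + 1)))) 0) ≤
        (((d : ℤ) : WithTop ℤ) : WithBot (WithTop ℤ)) ∧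
      ∀ i : ℕ, 0 < i →
        E.Hcomp (GrSyz.irrel (GrSyz.stdGr k (Fin (r + 1)))) i ((d : ℤ) - (i : ℤ) + 1) = ⊥) ↔
    (Curv2.IsMRegular k r (GrTilde.tilde (CohB1.polyGrading r k) (fun n : ℕ => ℳ (n : ℤ)) 0)
        (d : ℤ) ∧
      (∀ e : ℤ, (d : ℤ) < e → E.Hcomp (GrSyz.irrel (GrSyz.stdGr k (Fin (r + 1)))) 0 e = ⊥) ∧
      Function.Surjective (fun m : ↥(ℳ ((d : ℕ) : ℤ)) =>
        GrTilde.globalOf (CohB1.polyGrading r k) (fun n : ℕ => ℳ (n : ℤ)) m)) := by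
  constructor
  · rintro ⟨h0, hi⟩
    refine ⟨?_, (Groth.Agent.Lib.Helper29GrDRegConv.endDeg_Hgr_le_iff E _ 0 (d : ℤ)).mp h0, ?_⟩
    · intro i hi1 _
      obtain ⟨q, rfl⟩ : ∃ q, i = q + 1 := ⟨i - 1, by omega⟩
      have h1 := (Hcomp_eq_bot_iff_HV k r ℳ E (q + 2) _).mp (hi (q + 2) (by omega))
      have h2 : (d : ℤ) - ((q + 2 : ℕ) : ℤ) + 1 = (d : ℤ) - ((q + 1 : ℕ) : ℤ) := by
        push_cast; ring
      rw [h2] at h1
      exact (subsingleton_HH_iff_HV k r ℳ q ((d : ℤ) - ((q + 1 : ℕ) : ℤ))).mpr h1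
    · have h1 := (Hcomp_eq_bot_iff_HV k r ℳ E 1 _).mp (hi 1 Nat.one_pos)
      have h2 : (d : ℤ) - ((1 : ℕ) : ℤ) + 1 = (d : ℤ) := by push_cast; ring
      rw [h2] at h1
      exact (surjective_globalOf_iff k r ℳ d).mpr h1
  · rintro ⟨hreg, h0, hsurj⟩
    refine ⟨(Groth.Agent.Lib.Helper29GrDRegConv.endDeg_Hgr_le_iff E _ 0 (d : ℤ)).mpr h0, ?_⟩
    intro i hi
    rw [Hcomp_eq_bot_iff_HV k r ℳ E i _]
    obtain ⟨j, rfl⟩ : ∃ j, i = j + 1 := ⟨i - 1, by omega⟩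
    rcases j with _ | q
    · have h2 : (d : ℤ) - ((0 + 1 : ℕ) : ℤ) + 1 = (d : ℤ) := by push_cast; ring
      rw [h2]
      exact (surjective_globalOf_iff k r ℳ d).mp hsurj
    · have h2 : (d : ℤ) - ((q + 1 + 1 : ℕ) : ℤ) + 1 = (d : ℤ) - ((q + 1 : ℕ) : ℤ) := by
        push_cast; ring
      rw [h2]
      by_cases hq : q + 1 ≤ r
      · exact (subsingleton_HH_iff_HV k r ℳ q ((d : ℤ) - ((q + 1 : ℕ) : ℤ))).mp
          (hreg (q + 1) (by omega) hq)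
      · exact HV_of_lt k r ℳ q (by omega) _

end Groth.Agent.Lib.Helper29.SerreGro
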