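import Mathlib
import Groth.Prelude.Def_Coh
import Groth.Prelude.Def_CohB1
import Groth.Agent.Lib.Helper3SmDim
import Groth.Agent.Lib.Helper22FibDimLim
import Groth.Agent.Lib.Helper4VarDim5
import Groth.Agent.Lib.Helper4VarDim6
import Groth.Agent.Lib.Helper28HBSch
import Groth.Agent.Lib.Helper5RLR3
import Groth.Agent.Lib.Helper21HZB9

/-!
# Depth of finite locally free modules along a closed subset of a smooth scheme over a field
(helper29)

`le_depth_stalk_of_smooth`: for `X` smooth of relative dimension `n` over a field `k`, a closed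
subset `T` with `dim T + p ≤ n`, a finite locally free `L` and `x ∈ T`: `p ≤ depth L_x`.
-/

set_option autoImplicit false
set_option linter.unusedVariables false
set_option linter.unusedSectionVars false
set_option linter.style.haveILetI false
universe u
open CategoryTheory AlgebraicGeometry TopologicalSpace Opposite

namespace Groth.Agent.Lib.Helper29.SmoothDepth

variable (k : Type u) [Field k] (n : ℕ) (X : Scheme.{u}) [X.Over (Spec (CommRingCat.of k))]
  [SmoothOfRelativeDimension n (X ↘ Spec (CommRingCat.of k))]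

include k

theorem localDim_eq (x : X) : FlatMor.localDim X x = (n : WithBot ℕ∞) := by
  haveI : Subsingleton ↥(Spec (CommRingCat.of k)) :=
    inferInstanceAs (Subsingleton (PrimeSpectrum k))
  rw [← Groth.Agent.Lib.Helper22.FibDimLim.fibreDimAt_eq_localDim_of_subsingleton
    (X ↘ Spec (CommRingCat.of k)) x]
  exact Groth.Agent.Lib.Helper3.SmDim.fibreDimAt_eq_of_smoothOfRelativeDimension n _ x

theorem le_ringKrullDim_stalk (T : Set X) (hT : IsClosed T) (p : ℕ)
    (hdim : topologicalKrullDim ↥T + (p : WithBot ℕ∞) ≤ (n : WithBot ℕ∞)) (x : X) (hx : x ∈ T) :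
    (p : WithBot ℕ∞) ≤ ringKrullDim (X.presheaf.stalk x) := by
  haveI : Smooth (X ↘ Spec (CommRingCat.of k)) :=
    SmoothOfRelativeDimension.smooth n (X ↘ Spec (CommRingCat.of k))
  haveI : LocallyOfFiniteType (X ↘ Spec (CommRingCat.of k)) := inferInstance
  obtain ⟨b, hb⟩ := Groth.Agent.Lib.Helper4.VarDim.exists_ringKrullDim_stalk_eq k X x
  have h1 := Groth.Agent.Lib.Helper4.VarDim.localDim_eq_add k X x
    (Groth.Agent.Lib.Helper4.VarDim.trdegNat k X x) b
    (Groth.Agent.Lib.Helper4.VarDim.trdeg_eq_trdegNat k X x) hb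
  rw [localDim_eq k n X x] at h1
  have h3 := Groth.Agent.Lib.Helper4.VarDim.trdegNat_le_topologicalKrullDim_of_isLocallyClosed
    k X T hT.isLocallyClosed x hx
  rw [hb]
  have e1 : n = Groth.Agent.Lib.Helper4.VarDim.trdegNat k X x + b := by exact_mod_cast h1
  have h4 : ((Groth.Agent.Lib.Helper4.VarDim.trdegNat k X x : ℕ) : WithBot ℕ∞) +
      (p : WithBot ℕ∞) ≤ (n : WithBot ℕ∞) :=
    (add_le_add_left h3 _).trans hdim
  have h5 : ((Groth.Agent.Lib.Helper4.VarDim.trdegNat k X x + p : ℕ) : WithBot ℕ∞) ≤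
      ((n : ℕ) : WithBot ℕ∞) := by
    push_cast
    exact h4
  have h6 : Groth.Agent.Lib.Helper4.VarDim.trdegNat k X x + p ≤ n := by exact_mod_cast h5
  have : p ≤ b := by omega
  exact_mod_cast this

theorem le_depth_stalk_of_smooth (T : Set X) (hT : IsClosed T) (p : ℕ)
    (hdim : topologicalKrullDim ↥T + (p : WithBot ℕ∞) ≤ (n : WithBot ℕ∞))
    (L : X.Modules) (hL : FlatMod.IsFinLocFree L) (x : X) (hx : x ∈ T) :
    (p : ℕ∞) ≤ LocCoh.depth (X.presheaf.stalk x) (L.presheaf.stalk x) := by
  haveI : Smooth (X ↘ Spec (CommRingCat.of k)) :=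
    SmoothOfRelativeDimension.smooth n (X ↘ Spec (CommRingCat.of k))
  haveI : LocallyOfFiniteType (X ↘ Spec (CommRingCat.of k)) := inferInstance
  haveI : IsLocallyNoetherian X :=
    LocallyOfFiniteType.isLocallyNoetherian (X ↘ Spec (CommRingCat.of k))
  haveI hreg : IsRegularLocalRing (X.presheaf.stalk x) :=
    Groth.Agent.Lib.Helper28HBSch.isRegularLocalRing_stalk_of_smooth k X
      (X ↘ Spec (CommRingCat.of k)) x
  have h1 := le_ringKrullDim_stalk k n X T hT p hdim x hx
  have hCM := (Groth.Agent.Lib.Helper5.isCohenMacaulayLocalRing_of_isRegularLocalRing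
    (X.presheaf.stalk x)).supportDim_eq_depth
  rw [Module.supportDim_self_eq_ringKrullDim] at hCM
  rw [hCM] at h1
  have h2 : (p : ℕ∞) ≤ LocCoh.depth (X.presheaf.stalk x) (X.presheaf.stalk x) := by
    exact_mod_cast h1
  exact h2.trans (Groth.Agent.Lib.Helper21.HZB.depth_stalk_ge_of_isFinLocFree L hL x)

end Groth.Agent.Lib.Helper29.SmoothDepth
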