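import Mathlib
import Groth.Agent.Lib.Helper28Depth
import Groth.Agent.Lib.Helper28DepthLoc

/-! Kollár's local tetrachotomy (helper29): a Noetherian local ring that is not Artinian, not a
DVR-like regular ring of dimension one and of depth ≤ 1 admits a finite non-bijective extension
with kernel and cokernel of finite length and without embedded point at the closed point. -/

set_option autoImplicit false
set_option linter.style.haveILetI false
universe u
open IsLocalRing

namespace Groth.Agent.Lib.Helper29Tetra

open Groth.Agent.Lib.Helper28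

variable {R : Type u} [CommRing R] [IsLocalRing R] [IsNoetherianRing R]

/-- The conclusion of the tetrachotomy. -/
def Concl (R : Type u) [CommRing R] [IsLocalRing R] : Prop :=
  ∃ (R' : Type u) (_ : CommRing R') (_ : Algebra R R'), Nontrivial R' ∧ Module.Finite R R' ∧
    ¬ Function.Bijective (algebraMap R R') ∧
    (∃ n : ℕ, (∀ x : R, algebraMap R R' x = 0 → ∀ a ∈ IsLocalRing.maximalIdeal R ^ n, a * x = 0) ∧
      (∀ y : R', ∀ a ∈ IsLocalRing.maximalIdeal R ^ n, a • y ∈ Set.range (algebraMap R R'))) ∧
    IsLocalRing.maximalIdeal R ∉ associatedPrimes R R'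

theorem mem_associatedPrimes_iff {M : Type u} [AddCommGroup M] [Module R M] :
    maximalIdeal R ∈ associatedPrimes R M ↔
      ∃ y : M, ∀ r : R, r ∈ maximalIdeal R ↔ r • y = 0 := by
  rw [AssociatedPrimes.mem_iff, isAssociatedPrime_iff]
  constructor
  · rintro ⟨_, y, hy⟩
    refine ⟨y, fun r => ?_⟩
    rw [hy, Submodule.mem_colon_singleton, Submodule.mem_bot]
  · rintro ⟨y, hy⟩
    refine ⟨inferInstance, y, ?_⟩
    ext r
    rw [Submodule.mem_colon_singleton, Submodule.mem_bot]
    exact hy r

/-- the depth zero case -/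
theorem concl_of_depth_zero (h1 : ¬ IsArtinianRing R) (h0 : LocCoh.depth R R = 0) : Concl R := by
  classical
  rw [depth_eq_zero_iff, mem_associatedPrimes_iff] at h0
  obtain ⟨y0, hy0⟩ := h0
  have hy0ne : y0 ≠ 0 := by
    intro h
    have : (1 : R) ∈ maximalIdeal R := (hy0 1).mpr (by rw [h, smul_zero])
    exact (Ideal.ne_top_iff_one _).mp (IsLocalRing.maximalIdeal.isMaximal R).ne_top this
  -- the ascending chain of annihilators of powers of the maximal ideal
  let f : ℕ →o Ideal R :=
    { toFun := fun n => Submodule.annihilator (maximalIdeal R ^ n)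
      monotone' := by
        intro a b hab
        exact Submodule.annihilator_mono (Ideal.pow_le_pow_right hab) }
  obtain ⟨N0, hN0⟩ := monotone_stabilizes_iff_noetherian.mpr (inferInstance : IsNoetherian R R) f
  set N := N0 + 1 with hN
  have hstab : ∀ n, N ≤ n → Submodule.annihilator (maximalIdeal R ^ n) =
      Submodule.annihilator (maximalIdeal R ^ N) := by
    intro n hn
    have e1 : f N0 = f n := hN0 n (by omega)
    have e2 : f N0 = f N := hN0 N (by omega)
    exact e1.symm.trans e2
  set J : Ideal R := Submodule.annihilator (maximalIdeal R ^ N) with hJ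
  have hJmem : ∀ r : R, r ∈ J ↔ ∀ a ∈ maximalIdeal R ^ N, a * r = 0 := by
    intro r
    rw [hJ, Submodule.mem_annihilator]
    constructor
    · intro h a ha
      rw [mul_comm]
      exact h a ha
    · intro h a ha
      rw [smul_eq_mul, mul_comm]
      exact h a ha
  have hJtop : J ≠ ⊤ := by
    intro htop
    have h1' : (1 : R) ∈ J := htop ▸ Submodule.mem_top
    rw [hJmem] at h1'
    apply h1
    rw [isArtinianRing_iff_isNilpotent_maximalIdeal]
    refine ⟨N, ?_⟩
    rw [Ideal.zero_eq_bot, eq_bot_iff]
    intro a ha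
    have := h1' a ha
    rw [mul_one] at this
    rw [this]
    exact Submodule.zero_mem _
  have hy0J : y0 ∈ J := by
    rw [hJmem]
    intro a ha
    have ha' : a ∈ maximalIdeal R := by
      have : maximalIdeal R ^ N ≤ maximalIdeal R := Ideal.pow_le_self (by omega)
      exact this ha
    exact (hy0 a).mp ha'
  refine ⟨R ⧸ J, inferInstance, inferInstance, Ideal.Quotient.nontrivial_iff.mpr hJtop,
    inferInstance, ?_, ⟨N, ?_, ?_⟩, ?_⟩
  · intro hbij
    apply hy0ne
    apply hbij.1
    rw [map_zero]
    exact Ideal.Quotient.eq_zero_iff_mem.mpr hy0J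
  · intro x hx a ha
    have hxJ : x ∈ J := Ideal.Quotient.eq_zero_iff_mem.mp hx
    exact (hJmem x).mp hxJ a ha
  · intro y a _
    obtain ⟨y, rfl⟩ := Ideal.Quotient.mk_surjective y
    exact ⟨a * y, rfl⟩
  · rw [mem_associatedPrimes_iff]
    rintro ⟨y, hy⟩
    obtain ⟨y, rfl⟩ := Ideal.Quotient.mk_surjective y
    have hmy : ∀ c ∈ maximalIdeal R, c * y ∈ J := by
      intro c hc
      have := (hy c).mp hc
      rw [← Ideal.Quotient.eq_zero_iff_mem]
      exact this
    have hyJ : y ∈ J := by
      rw [← hstab (N + 1) (by omega), Submodule.mem_annihilator]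
      intro a ha
      rw [pow_succ] at ha
      refine Submodule.mul_induction_on ha ?_ ?_
      · intro b hb c hc
        have h2 := (hJmem (c * y)).mp (hmy c hc) b hb
        rw [smul_eq_mul]
        calc y * (b * c) = b * (c * y) := by ring
          _ = 0 := h2
      · intro a b ha hb
        rw [smul_eq_mul] at ha hb ⊢
        rw [mul_add, ha, hb, add_zero]
    have h1' : (1 : R) ∈ maximalIdeal R := by
      rw [hy 1, one_smul]
      exact Ideal.Quotient.eq_zero_iff_mem.mpr hyJ
    exact (Ideal.ne_top_iff_one _).mp (IsLocalRing.maximalIdeal.isMaximal R).ne_top h1'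

/-- a Noetherian local ring which is not Artinian and has principal maximal ideal is regular of
dimension one -/
theorem isRegularLocalRing_of_principal (h1 : ¬ IsArtinianRing R) (s0 : R)
    (hs0 : maximalIdeal R = Ideal.span {s0}) : IsRegularLocalRing R ∧ ringKrullDim R = 1 := by
  have hsf : ((maximalIdeal R).spanFinrank : ℕ∞) ≤ 1 := by
    rw [hs0]
    have := Submodule.spanFinrank_span_le_ncard_of_finite (R := R) (Set.finite_singleton s0)
    rw [Set.ncard_singleton] at this
    exact_mod_cast this
  have hle := ringKrullDim_le_spanFinrank_maximalIdeal R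
  have hle1 : ringKrullDim R ≤ 1 := by
    refine le_trans hle ?_
    exact_mod_cast hsf
  have hnot : ¬ ringKrullDim R ≤ 0 := by
    intro h
    apply h1
    rw [isArtinianRing_iff_krullDimLE_zero]
    exact Ring.krullDimLE_iff.mpr h
  have hdim : ringKrullDim R = 1 := by
    obtain ⟨n, hn⟩ : ∃ n : ℕ, ringKrullDim R = n := by
      have h1 := ringKrullDim_ne_top (R := R)
      have h2 := ringKrullDim_ne_bot (R := R)
      obtain ⟨a, ha⟩ := WithBot.ne_bot_iff_exists.mp h2
      have h3 : a ≠ ⊤ := fun h => h1 (by rw [← ha, h]; rfl)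
      obtain ⟨n, rfl⟩ := ENat.ne_top_iff_exists.mp h3
      exact ⟨n, ha.symm⟩
    rw [hn] at hle1 hnot ⊢
    have a1 : n ≤ 1 := by exact_mod_cast hle1
    have a2 : ¬ n ≤ 0 := by
      intro h
      apply hnot
      exact_mod_cast h
    have : n = 1 := by omega
    rw [this]
    rfl
  refine ⟨IsRegularLocalRing.of_spanFinrank_maximalIdeal_le R ?_, hdim⟩
  rw [hdim]
  exact_mod_cast hsf

/-- the depth one case -/
theorem concl_of_depth_one (h1 : ¬ IsArtinianRing R)
    (h2 : ¬ (IsRegularLocalRing R ∧ ringKrullDim R = 1))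
    (hd : LocCoh.depth R R = 1) : Concl R := by
  classical
  have hIM : maximalIdeal R • (⊤ : Submodule R R) ≠ ⊤ := maximalIdeal_smul_top_ne_top
  obtain ⟨x, hxm, hxreg⟩ := (one_le_idealDepth_iff hIM).mp (le_of_eq hd.symm)
  have hxinj : ∀ t t' : R, x * t = x * t' → t = t' := fun t t' h => hxreg h
  have hd' := idealDepth_quotSMulTop_add_one (maximalIdeal R) R hIM x hxm hxreg
  have hd0 : LocCoh.depth R (QuotSMulTop x R) = 0 := by
    unfold LocCoh.depth at hd ⊢
    rw [hd] at hd'
    generalize LocCoh.idealDepth (maximalIdeal R) (QuotSMulTop x R) = a at hd'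
    induction a using ENat.recTopCoe with
    | top => simp at hd'
    | coe n =>
      have : n + 1 = 1 := by exact_mod_cast hd'
      have : n = 0 := by omega
      rw [this]; rfl
  rw [depth_eq_zero_iff, mem_associatedPrimes_iff] at hd0
  obtain ⟨ybar, hybar⟩ := hd0
  obtain ⟨y, rfl⟩ := Submodule.Quotient.mk_surjective _ ybar
  have hzero : ∀ z : R, (Submodule.Quotient.mk z : QuotSMulTop x R) = 0 ↔ ∃ t, z = x * t := by
    intro z
    rw [Submodule.Quotient.mk_eq_zero, Submodule.mem_smul_pointwise_iff_exists]
    constructor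
    · rintro ⟨t, _, ht⟩
      exact ⟨t, ht.symm⟩
    · rintro ⟨t, ht⟩
      exact ⟨t, trivial, ht.symm⟩
  have hy : ∀ r : R, r ∈ maximalIdeal R ↔ ∃ t, r * y = x * t := by
    intro r
    rw [hybar r, ← hzero]
    rfl
  have hynot : ¬ ∃ t, y = x * t := by
    intro hex
    have h1' : (1 : R) ∈ maximalIdeal R := by
      rw [hy 1, one_mul]
      exact hex
    exact (Ideal.ne_top_iff_one _).mp (IsLocalRing.maximalIdeal.isMaximal R).ne_top h1'
  -- the map `s ↦ s y / x`
  have hex : ∀ s : maximalIdeal R, ∃ t, (s : R) * y = x * t := fun s => (hy s).mp s.2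
  choose T hT using hex
  have hTm : ∀ s, T s ∈ maximalIdeal R := by
    intro s0
    by_contra hnot
    have hu : IsUnit (T s0) := by
      by_contra hnu
      exact hnot ((IsLocalRing.mem_maximalIdeal _).mpr hnu)
    obtain ⟨u, hu⟩ := hu
    apply h2
    apply isRegularLocalRing_of_principal h1 (s0 : R)
    apply le_antisymm
    · intro s hs
      rw [Ideal.mem_span_singleton']
      refine ⟨↑u⁻¹ * T ⟨s, hs⟩, ?_⟩
      have e1 : x * ((s0 : R) * T ⟨s, hs⟩) = x * (s * T s0) := by
        have a1 := hT ⟨s, hs⟩
        have a2 := hT s0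
        simp only at a1
        calc x * ((s0 : R) * T ⟨s, hs⟩) = (s0 : R) * (x * T ⟨s, hs⟩) := by ring
          _ = (s0 : R) * (s * y) := by rw [← a1]
          _ = s * ((s0 : R) * y) := by ring
          _ = s * (x * T s0) := by rw [a2]
          _ = x * (s * T s0) := by ring
      have e2 := hxinj _ _ e1
      rw [← hu] at e2
      calc ↑u⁻¹ * T ⟨s, hs⟩ * (s0 : R) = ↑u⁻¹ * ((s0 : R) * T ⟨s, hs⟩) := by ring
        _ = ↑u⁻¹ * (s * ↑u) := by rw [e2]
        _ = s * (↑u⁻¹ * ↑u) := by ring
        _ = s := by rw [Units.inv_mul, mul_one]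
    · rw [Ideal.span_le]
      intro z hz
      rw [Set.mem_singleton_iff] at hz
      rw [hz]
      exact s0.2
  let ψ : Module.End R (maximalIdeal R) :=
    { toFun := fun s => ⟨T s, hTm s⟩
      map_add' := by
        intro s s'
        apply Subtype.ext
        apply hxinj
        show x * T (s + s') = x * (T s + T s')
        rw [mul_add, ← hT, ← hT, ← hT]
        push_cast
        ring
      map_smul' := by
        intro r s
        apply Subtype.ext
        apply hxinj
        show x * T (r • s) = x * (r * T s)
        rw [← hT]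
        have : x * (r * T s) = r * (x * T s) := by ring
        rw [this, ← hT]
        show (r * (s : R)) * y = r * ((s : R) * y)
        ring }
  have hψ : ∀ s : maximalIdeal R, x * ((ψ s : maximalIdeal R) : R) = (s : R) * y :=
    fun s => (hT s).symm
  -- elements of End(m) are determined by values, and x is a nonzerodivisor
  have hxne : x ≠ 0 := by
    intro h0
    apply hynot
    have := (hy x).mp hxm
    obtain ⟨t, ht⟩ := this
    rw [h0, zero_mul, zero_mul] at ht
    refine ⟨0, ?_⟩
    rw [h0, zero_mul]
    have h3 : x * y = x * 0 := by rw [h0, zero_mul, zero_mul]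
    exact hxinj _ _ h3
  let A : Subalgebra R (Module.End R (maximalIdeal R)) := Algebra.adjoin R {ψ}
  letI instCR : CommRing A := Algebra.adjoinCommRingOfComm R (s := {ψ}) (by
    intro a ha b hb
    rw [Set.mem_singleton_iff] at ha hb
    rw [ha, hb])
  have hψA : ψ ∈ A := Algebra.subset_adjoin (Set.mem_singleton ψ)
  have hfin : Module.Finite R A := by
    have hN : IsNoetherian R (Module.End R (maximalIdeal R)) := isNoetherian_linearMap R _ _
    have : IsNoetherian R (Subalgebra.toSubmodule A) := isNoetherian_submodule' _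
    exact (inferInstance : Module.Finite R (Subalgebra.toSubmodule A))
  have hkey : ∀ (θ : Module.End R (maximalIdeal R)) (a s : maximalIdeal R),
      ((θ a : maximalIdeal R) : R) * s = a * ((θ s : maximalIdeal R) : R) := by
    intro θ a s
    have e1 : θ ((s : R) • a) = (s : R) • θ a := map_smul θ _ _
    have e2 : θ ((a : R) • s) = (a : R) • θ s := map_smul θ _ _
    have e3 : (s : R) • a = (a : R) • s := by
      apply Subtype.ext
      show (s : R) * a = a * s
      ring
    rw [e3, e2] at e1
    have := congrArg (Subtype.val) e1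
    simp only [Submodule.coe_smul, smul_eq_mul] at this
    rw [mul_comm ((θ a : maximalIdeal R) : R)]
    exact this.symm
  refine ⟨A, instCR, (inferInstance : Algebra R A), ?_, hfin, ?_, ⟨1, ?_, ?_⟩, ?_⟩
  · -- nontrivial
    refine ⟨⟨0, 1, ?_⟩⟩
    intro h01
    have h3 : (0 : Module.End R (maximalIdeal R)) = 1 := congrArg Subtype.val h01
    have h4 := LinearMap.congr_fun h3 ⟨x, hxm⟩
    have h5 : (0 : R) = x := congrArg Subtype.val h4
    exact hxne h5.symm
  · -- not bijective
    intro hbij
    obtain ⟨r, hr⟩ := hbij.2 ⟨ψ, hψA⟩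
    have h3 : algebraMap R (Module.End R (maximalIdeal R)) r = ψ := congrArg Subtype.val hr
    have h4 := LinearMap.congr_fun h3 ⟨x, hxm⟩
    have h5 : r * x = ((ψ ⟨x, hxm⟩ : maximalIdeal R) : R) := by
      have := congrArg Subtype.val h4
      simpa [Module.algebraMap_end_apply] using this
    apply hynot
    refine ⟨r, ?_⟩
    have h6 := hψ ⟨x, hxm⟩
    rw [← h5] at h6
    have h7 : x * y = x * (x * r) := by
      calc x * y = x * (r * x) := by rw [h6]
        _ = x * (x * r) := by ring
    exact hxinj _ _ h7
  · -- kernel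
    intro r hr a _
    have h3 : algebraMap R (Module.End R (maximalIdeal R)) r = 0 := congrArg Subtype.val hr
    have h4 := LinearMap.congr_fun h3 ⟨x, hxm⟩
    have h5 : r * x = 0 := by
      have := congrArg Subtype.val h4
      simpa [Module.algebraMap_end_apply] using this
    have h6 : x * r = x * 0 := by rw [mul_zero, mul_comm]; exact h5
    rw [hxinj _ _ h6, mul_zero]
  · -- cokernel
    intro θ a ha
    rw [pow_one] at ha
    refine ⟨((θ.1 ⟨a, ha⟩ : maximalIdeal R) : R), ?_⟩
    apply Subtype.ext
    show algebraMap R (Module.End R (maximalIdeal R)) _ = a • θ.1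
    apply LinearMap.ext
    intro s
    apply Subtype.ext
    have := hkey θ.1 ⟨a, ha⟩ s
    simpa [Module.algebraMap_end_apply] using this
  · -- the maximal ideal is not associated
    rw [mem_associatedPrimes_iff]
    rintro ⟨θ, hθ⟩
    have hx0 : x • θ = 0 := (hθ x).mp hxm
    have hθ0 : θ = 0 := by
      apply Subtype.ext
      apply LinearMap.ext
      intro s
      apply Subtype.ext
      have h3 : x • θ.1 = 0 := congrArg Subtype.val hx0
      have h4 := LinearMap.congr_fun h3 s
      have h5 : x * ((θ.1 s : maximalIdeal R) : R) = 0 := congrArg Subtype.val h4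
      have h6 : x * ((θ.1 s : maximalIdeal R) : R) = x * 0 := by rw [h5, mul_zero]
      exact hxinj _ _ h6
    have h1' : (1 : R) ∈ maximalIdeal R := by
      rw [hθ 1, hθ0, smul_zero]
    exact (Ideal.ne_top_iff_one _).mp (IsLocalRing.maximalIdeal.isMaximal R).ne_top h1'

/-- Kollár's tetrachotomy -/
theorem tetrachotomy (h1 : ¬ IsArtinianRing R)
    (h2 : ¬ (IsRegularLocalRing R ∧ ringKrullDim R = 1))
    (h3 : LocCoh.depth R R ≤ 1) : Concl R := by
  have : LocCoh.depth R R = 0 ∨ LocCoh.depth R R = 1 := by
    generalize LocCoh.depth R R = a at h3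
    induction a using ENat.recTopCoe with
    | top => simp at h3
    | coe n =>
      have : n ≤ 1 := by exact_mod_cast h3
      rcases Nat.le_one_iff_eq_zero_or_eq_one.mp this with h | h
      · left; rw [h]; rfl
      · right; rw [h]; rfl
  rcases this with h | h
  · exact concl_of_depth_zero h1 h
  · exact concl_of_depth_one h1 h2 h

end Groth.Agent.Lib.Helper29Tetra
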