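import Groth.Agent.Lib.Helper27GrTildeBridge

/-!
# The morphism `N(e)~ ⟶ M(e)~` on `Proj` induced by a degree-preserving linear map `N → M`, and a
criterion for it to be an isomorphism (helper29).
-/

set_option autoImplicit false
set_option linter.style.haveILetI false
set_option linter.unusedSectionVars false

universe u

open CategoryTheory CategoryTheory.Limits AlgebraicGeometry TopologicalSpace Opposite

namespace Groth.Agent.Lib.Helper29.TildeMap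

open Groth.Agent.Lib.Helper27GrTildeSect

variable {R A : Type u} [CommRing R] [CommRing A] [Algebra R A] (𝒜 : ℕ → Submodule R A)
  [GradedAlgebra 𝒜]
variable {N : Type u} [AddCommGroup N] [Module R N] [Module A N]
  (𝒩 : ℕ → Submodule R N) [SetLike.GradedSMul 𝒜 𝒩]
variable {M : Type u} [AddCommGroup M] [Module R M] [Module A M]
  (ℳ : ℕ → Submodule R M) [SetLike.GradedSMul 𝒜 ℳ]

section Basic

variable (e : ℤ)

theorem secVal_map' {V W : (Proj 𝒜).Opens} (h : V ≤ W) (s : Γ(GrTilde.tilde 𝒜 ℳ e, W))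
    (y : ProjectiveSpectrum 𝒜) (hy : y ∈ V) :
    secVal 𝒜 ℳ e V ((GrTilde.tilde 𝒜 ℳ e).presheaf.map (homOfLE h).op s) y hy =
      secVal 𝒜 ℳ e W s y (h hy) := rfl

theorem secVal_add' (W : (Proj 𝒜).Opens) (s s' : Γ(GrTilde.tilde 𝒜 ℳ e, W))
    (y : ProjectiveSpectrum 𝒜) (hy : y ∈ W) :
    secVal 𝒜 ℳ e W (s + s') y hy = secVal 𝒜 ℳ e W s y hy + secVal 𝒜 ℳ e W s' y hy := rfl

theorem secVal_zero' (W : (Proj 𝒜).Opens) (y : ProjectiveSpectrum 𝒜) (hy : y ∈ W) :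
    secVal 𝒜 ℳ e W 0 y hy = 0 := rfl

theorem secVal_smul' (W : (Proj 𝒜).Opens) (c : Γ(Proj 𝒜, W)) (s : Γ(GrTilde.tilde 𝒜 ℳ e, W))
    (y : ProjectiveSpectrum 𝒜) (hy : y ∈ W) :
    secVal 𝒜 ℳ e W (c • s) y hy = (funVal 𝒜 W c y hy).val • secVal 𝒜 ℳ e W s y hy := rfl

theorem secVal_mem (W : (Proj 𝒜).Opens) (s : Γ(GrTilde.tilde 𝒜 ℳ e, W))
    (y : ProjectiveSpectrum 𝒜) (hy : y ∈ W) :
    secVal 𝒜 ℳ e W s y hy ∈ GrTilde.tildeAt 𝒜 ℳ e y :=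
  ((toSect 𝒜 ℳ e W s).1 ⟨y, hy⟩).2

theorem sec_ext' (W : (Proj 𝒜).Opens) (s s' : Γ(GrTilde.tilde 𝒜 ℳ e, W))
    (h : ∀ (y : ProjectiveSpectrum 𝒜) (hy : y ∈ W),
      secVal 𝒜 ℳ e W s y hy = secVal 𝒜 ℳ e W s' y hy) : s = s' := by
  have h1 : toSect 𝒜 ℳ e W s = toSect 𝒜 ℳ e W s' :=
    Subtype.ext (funext fun y => Subtype.ext (h y.1 y.2))
  exact h1

end Basic

section Map

variable (f : N →ₗ[A] M)

/-- The localization of `f` at a point of `Proj`. -/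
noncomputable def locMap (y : ProjectiveSpectrum 𝒜) :
    GrTilde.LocMod 𝒜 (M := N) y →ₗ[Twist.Loc 𝒜 y] GrTilde.LocMod 𝒜 (M := M) y :=
  LocalizedModule.map y.asHomogeneousIdeal.toIdeal.primeCompl f

theorem locMap_mk (y : ProjectiveSpectrum 𝒜) (n : N)
    (s : y.asHomogeneousIdeal.toIdeal.primeCompl) :
    locMap 𝒜 f y (LocalizedModule.mk n s) = LocalizedModule.mk (f n) s :=
  LocalizedModule.map_mk _ f n s

theorem locMap_injective (hinj : Function.Injective f) (y : ProjectiveSpectrum 𝒜) :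
    Function.Injective (locMap 𝒜 f y) :=
  LocalizedModule.map_injective _ f hinj

variable (hf : ∀ (i : ℕ) (n : N), n ∈ 𝒩 i → f n ∈ ℳ i) (e : ℤ)

include hf in
theorem locMap_mem (y : ProjectiveSpectrum 𝒜) (q : GrTilde.LocMod 𝒜 (M := N) y)
    (hq : q ∈ GrTilde.tildeAt 𝒜 𝒩 e y) : locMap 𝒜 f y q ∈ GrTilde.tildeAt 𝒜 ℳ e y := by
  obtain ⟨i, j, n, s, hn, hs, hsy, hij, rfl⟩ := exists_frac_of_mem 𝒜 𝒩 e y q hq
  rw [locMap_mk]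
  exact mk_mem_tildeAt 𝒜 ℳ e y (hf i n hn) hs hsy hij

include hf in
theorem mapSect_pred (U : (Opens (ProjectiveSpectrum.top 𝒜))ᵒᵖ) (s : GrTilde.sect 𝒜 𝒩 e U) :
    (GrTilde.isLocFrac 𝒜 ℳ e).pred (fun y : U.unop =>
      (⟨locMap 𝒜 f y.1 (s.1 y).1, locMap_mem 𝒜 𝒩 ℳ f hf e y.1 _ (s.1 y).2⟩ :
        GrTilde.tildeAt 𝒜 ℳ e y.1)) := by
  intro y
  obtain ⟨V, hyV, i, i', j, ⟨m, hm⟩, ⟨t, ht⟩, nin, c, w⟩ := s.2 y
  replace c : (i' : ℤ) = j + e ∨ m = 0 := c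
  refine ⟨V, hyV, i, i', j, ⟨f m, hf i' m hm⟩, ⟨t, ht⟩, nin, ?_, fun z => ?_⟩
  · rcases c with c | c
    · exact Or.inl c
    · exact Or.inr (show f m = 0 by rw [c, map_zero])
  · have e1 := w z
    dsimp only at e1 ⊢
    erw [e1]
    exact locMap_mk 𝒜 f _ m _

/-- The induced map on sections, as dependent functions. -/
noncomputable def mapSect (U : (Opens (ProjectiveSpectrum.top 𝒜))ᵒᵖ) (s : GrTilde.sect 𝒜 𝒩 e U) :
    GrTilde.sect 𝒜 ℳ e U :=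
  ⟨fun y => ⟨locMap 𝒜 f y.1 (s.1 y).1, locMap_mem 𝒜 𝒩 ℳ f hf e y.1 _ (s.1 y).2⟩,
    mapSect_pred 𝒜 𝒩 ℳ f hf e U s⟩

/-- The induced map on sections. -/
noncomputable def mapSec (W : (Proj 𝒜).Opens) (s : Γ(GrTilde.tilde 𝒜 𝒩 e, W)) :
    Γ(GrTilde.tilde 𝒜 ℳ e, W) :=
  ofSect 𝒜 ℳ e W (mapSect 𝒜 𝒩 ℳ f hf e (op W) (toSect 𝒜 𝒩 e W s))

theorem secVal_mapSec (W : (Proj 𝒜).Opens) (s : Γ(GrTilde.tilde 𝒜 𝒩 e, W))
    (y : ProjectiveSpectrum 𝒜) (hy : y ∈ W) :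
    secVal 𝒜 ℳ e W (mapSec 𝒜 𝒩 ℳ f hf e W s) y hy = locMap 𝒜 f y (secVal 𝒜 𝒩 e W s y hy) := rfl

theorem mapSec_add (W : (Proj 𝒜).Opens) (s s' : Γ(GrTilde.tilde 𝒜 𝒩 e, W)) :
    mapSec 𝒜 𝒩 ℳ f hf e W (s + s') = mapSec 𝒜 𝒩 ℳ f hf e W s + mapSec 𝒜 𝒩 ℳ f hf e W s' := by
  apply sec_ext'
  intro y hy
  rw [secVal_add', secVal_mapSec, secVal_mapSec, secVal_mapSec, secVal_add', map_add]

theorem mapSec_smul (W : (Proj 𝒜).Opens) (c : Γ(Proj 𝒜, W)) (s : Γ(GrTilde.tilde 𝒜 𝒩 e, W)) :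
    mapSec 𝒜 𝒩 ℳ f hf e W (c • s) = c • mapSec 𝒜 𝒩 ℳ f hf e W s := by
  apply sec_ext'
  intro y hy
  rw [secVal_smul', secVal_mapSec, secVal_mapSec, secVal_smul', map_smul]

/-- The induced morphism on the underlying abelian presheaves. -/
noncomputable def tildeMapPre :
    (GrTilde.tilde 𝒜 𝒩 e).presheaf ⟶ (GrTilde.tilde 𝒜 ℳ e).presheaf where
  app U := AddCommGrpCat.ofHom (AddMonoidHom.mk'
    (fun s : Γ(GrTilde.tilde 𝒜 𝒩 e, U.unop) => mapSec 𝒜 𝒩 ℳ f hf e U.unop s)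
    (fun s s' => mapSec_add 𝒜 𝒩 ℳ f hf e U.unop s s'))
  naturality U V g := by
    ext s
    rfl

/-- The morphism `N(e)~ ⟶ M(e)~` induced by `f`. -/
noncomputable def tildeMap : GrTilde.tilde 𝒜 𝒩 e ⟶ GrTilde.tilde 𝒜 ℳ e :=
  (⟨PresheafOfModules.homMk (tildeMapPre 𝒜 𝒩 ℳ f hf e) (fun U r s =>
    mapSec_smul 𝒜 𝒩 ℳ f hf e U.unop r s)⟩ : SheafOfModules.Hom _ _)

theorem tildeMap_app (W : (Proj 𝒜).Opens) (s : Γ(GrTilde.tilde 𝒜 𝒩 e, W)) :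
    (tildeMap 𝒜 𝒩 ℳ f hf e).app W s = mapSec 𝒜 𝒩 ℳ f hf e W s := rfl

section Iso

variable (hinj : Function.Injective f)
  (hsurj : ∀ (i : ℕ) (m : M), m ∈ ℳ i → ∃ n ∈ 𝒩 i, f n = m)

include hinj in
theorem mapSec_injective (W : (Proj 𝒜).Opens) :
    Function.Injective (mapSec 𝒜 𝒩 ℳ f hf e W) := by
  intro s s' h
  apply sec_ext'
  intro y hy
  apply locMap_injective 𝒜 f hinj y
  rw [← secVal_mapSec 𝒜 𝒩 ℳ f hf e W s y hy, ← secVal_mapSec 𝒜 𝒩 ℳ f hf e W s' y hy, h]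

include hsurj in
theorem exists_locMap_eq (y : ProjectiveSpectrum 𝒜) (q : GrTilde.LocMod 𝒜 (M := M) y)
    (hq : q ∈ GrTilde.tildeAt 𝒜 ℳ e y) :
    ∃ q' ∈ GrTilde.tildeAt 𝒜 𝒩 e y, locMap 𝒜 f y q' = q := by
  obtain ⟨i, j, m, s, hm, hs, hsy, hij, rfl⟩ := exists_frac_of_mem 𝒜 ℳ e y q hq
  obtain ⟨n, hn, rfl⟩ := hsurj i m hm
  exact ⟨LocalizedModule.mk n ⟨s, hsy⟩, mk_mem_tildeAt 𝒜 𝒩 e y hn hs hsy hij,
    locMap_mk 𝒜 f y n _⟩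

include hinj hsurj in
theorem mapSec_surjective (W : (Proj 𝒜).Opens) :
    Function.Surjective (mapSec 𝒜 𝒩 ℳ f hf e W) := by
  intro t
  choose q hq hqt using fun y : W =>
    exists_locMap_eq 𝒜 𝒩 ℳ f e hsurj y.1 (secVal 𝒜 ℳ e W t y.1 y.2) (secVal_mem 𝒜 ℳ e W t y.1 y.2)
  have hpred : (GrTilde.isLocFrac 𝒜 𝒩 e).pred (fun y : W =>
      (⟨q y, hq y⟩ : GrTilde.tildeAt 𝒜 𝒩 e y.1)) := by
    intro y
    obtain ⟨V, hyV, i, i', j, ⟨m, hm⟩, ⟨u, hu⟩, nin, c, w⟩ := (toSect 𝒜 ℳ e W t).2 y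
    replace c : (i' : ℤ) = j + e ∨ m = 0 := c
    obtain ⟨n, hn, rfl⟩ := hsurj i' m hm
    refine ⟨V, hyV, i, i', j, ⟨n, hn⟩, ⟨u, hu⟩, nin, ?_, fun z => ?_⟩
    · rcases c with c | c
      · exact Or.inl c
      · refine Or.inr (show n = 0 from hinj ?_)
        rw [c, map_zero]
    · apply locMap_injective 𝒜 f hinj _
      have e1 := w z
      dsimp only at e1 ⊢
      exact (hqt (i z)).trans (e1.trans (locMap_mk 𝒜 f _ n _).symm)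
  refine ⟨ofSect 𝒜 𝒩 e W ⟨fun y => ⟨q y, hq y⟩, hpred⟩, ?_⟩
  apply sec_ext'
  intro y hy
  rw [secVal_mapSec]
  exact hqt ⟨y, hy⟩

include hinj hsurj in
/-- The induced morphism is an isomorphism when `f` is injective and onto in every degree. -/
theorem isIso_tildeMap : IsIso (tildeMap 𝒜 𝒩 ℳ f hf e) := by
  rw [Scheme.Modules.Hom.isIso_iff_isIso_app]
  intro V
  rw [ConcreteCategory.isIso_iff_bijective]
  exact ⟨mapSec_injective 𝒜 𝒩 ℳ f hf e hinj V, mapSec_surjective 𝒜 𝒩 ℳ f hf e hinj hsurj V⟩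

end Iso

end Map

end Groth.Agent.Lib.Helper29.TildeMap
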