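import Mathlib
import Groth.Prelude.Def_GrMod2

/-!
# The part of non-negative degrees of a `ℤ`-graded module over an `ℕ`-graded ring, as an
`ℕ`-graded module (helper29).
-/

set_option autoImplicit false
set_option linter.style.haveILetI false
set_option linter.unusedSectionVars false

universe u

open DirectSum

namespace Groth.Agent.Lib.Helper29.TildePos

variable {R A : Type u} [CommRing R] [CommRing A] [Algebra R A] (𝒜 : ℕ → Submodule R A)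
  [GradedAlgebra 𝒜]
variable {M : Type u} [AddCommGroup M] [Module R M] [Module A M] [IsScalarTower R A M]
  (ℳ : ℤ → Submodule R M) [DirectSum.Decomposition ℳ]
  [SetLike.GradedSMul 𝒜 (fun n : ℕ => ℳ (n : ℤ))]

theorem smul_mem_nat {i j : ℕ} {a : A} (ha : a ∈ 𝒜 i) {m : M} (hm : m ∈ ℳ (j : ℤ)) :
    a • m ∈ ℳ ((i + j : ℕ) : ℤ) :=
  SetLike.GradedSMul.smul_mem (A := 𝒜) (B := fun n : ℕ => ℳ (n : ℤ)) ha hm

include 𝒜 in
theorem smul_mem_iSup_nat (a : A) {m : M} (hm : m ∈ ⨆ n : ℕ, ℳ (n : ℤ)) :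
    a • m ∈ ⨆ n : ℕ, ℳ (n : ℤ) := by
  classical
  refine Submodule.iSup_induction (fun n : ℕ => ℳ (n : ℤ))
    (motive := fun m => a • m ∈ ⨆ n : ℕ, ℳ (n : ℤ)) hm (fun n m hmn => ?_) ?_ (fun x y hx hy => ?_)
  · rw [← DirectSum.sum_support_decompose 𝒜 a, Finset.sum_smul]
    refine Submodule.sum_mem _ (fun i _ => ?_)
    exact Submodule.mem_iSup_of_mem (i + n)
      (smul_mem_nat 𝒜 ℳ (SetLike.coe_mem (decompose 𝒜 a i)) hmn)
  · rw [smul_zero]; exact zero_mem _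
  · rw [smul_add]; exact add_mem hx hy

/-- The sum of the pieces of non-negative degree, as an `A`-submodule. -/
def posPart : Submodule A M where
  carrier := {m | m ∈ ⨆ n : ℕ, ℳ (n : ℤ)}
  zero_mem' := (⨆ n : ℕ, ℳ (n : ℤ)).zero_mem
  add_mem' := fun ha hb => (⨆ n : ℕ, ℳ (n : ℤ)).add_mem ha hb
  smul_mem' := fun a _ hm => smul_mem_iSup_nat 𝒜 ℳ a hm

theorem mem_posPart {m : M} : m ∈ posPart 𝒜 ℳ ↔ m ∈ ⨆ n : ℕ, ℳ (n : ℤ) := Iff.rfl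

theorem mem_posPart_of_mem {n : ℕ} {m : M} (hm : m ∈ ℳ (n : ℤ)) : m ∈ posPart 𝒜 ℳ :=
  Submodule.mem_iSup_of_mem n hm

/-- The pieces of the positive part. -/
def posGr (n : ℕ) : Submodule R ↥(posPart 𝒜 ℳ) :=
  (ℳ (n : ℤ)).comap ((posPart 𝒜 ℳ).subtype.restrictScalars R)

theorem mem_posGr {n : ℕ} {m : ↥(posPart 𝒜 ℳ)} : m ∈ posGr 𝒜 ℳ n ↔ (m : M) ∈ ℳ (n : ℤ) :=
  Iff.rfl

instance posGr_gradedSMul : SetLike.GradedSMul 𝒜 (posGr 𝒜 ℳ) where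
  smul_mem := by
    intro i j a m ha hm
    exact smul_mem_nat 𝒜 ℳ ha hm

theorem iSupIndep_posGr : iSupIndep (posGr 𝒜 ℳ) := by
  have h1 : iSupIndep (fun n : ℕ => ℳ (n : ℤ)) :=
    (DirectSum.Decomposition.isInternal ℳ).submodule_iSupIndep.comp Nat.cast_injective
  intro n
  rw [Submodule.disjoint_def]
  intro m hm hm'
  have h2 := h1 n
  rw [Submodule.disjoint_def] at h2
  have h3 : (m : M) ∈ ⨆ (j : ℕ) (_ : j ≠ n), ℳ (j : ℤ) := by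
    have hle : (⨆ (j : ℕ) (_ : j ≠ n), posGr 𝒜 ℳ j) ≤
        (⨆ (j : ℕ) (_ : j ≠ n), ℳ (j : ℤ)).comap
          ((posPart 𝒜 ℳ).subtype.restrictScalars R) := by
      refine iSup₂_le (fun j hj => ?_)
      intro y hy
      exact Submodule.mem_iSup_of_mem j (Submodule.mem_iSup_of_mem hj hy)
    exact hle hm'
  exact Subtype.ext (h2 (m : M) hm h3)

theorem iSup_posGr : iSup (posGr 𝒜 ℳ) = ⊤ := by
  rw [eq_top_iff]
  rintro ⟨m, hm⟩ -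
  have hm' : m ∈ ⨆ n : ℕ, ℳ (n : ℤ) := hm
  have key : ∃ hm : m ∈ posPart 𝒜 ℳ, (⟨m, hm⟩ : ↥(posPart 𝒜 ℳ)) ∈ iSup (posGr 𝒜 ℳ) := by
    refine Submodule.iSup_induction (fun n : ℕ => ℳ (n : ℤ))
      (motive := fun m => ∃ hm : m ∈ posPart 𝒜 ℳ,
        (⟨m, hm⟩ : ↥(posPart 𝒜 ℳ)) ∈ iSup (posGr 𝒜 ℳ)) hm' (fun n m hmn => ?_)
      ⟨zero_mem _, zero_mem _⟩ (fun x y hx hy => ?_)
    · exact ⟨mem_posPart_of_mem 𝒜 ℳ hmn, Submodule.mem_iSup_of_mem n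
        (show (⟨m, mem_posPart_of_mem 𝒜 ℳ hmn⟩ : ↥(posPart 𝒜 ℳ)) ∈ posGr 𝒜 ℳ n from hmn)⟩
    · obtain ⟨hx1, hx2⟩ := hx
      obtain ⟨hy1, hy2⟩ := hy
      exact ⟨add_mem hx1 hy1, add_mem hx2 hy2⟩
  exact key.2

noncomputable instance posGr_decomposition : DirectSum.Decomposition (posGr 𝒜 ℳ) :=
  (DirectSum.isInternal_submodule_of_iSupIndep_of_iSup_eq_top (iSupIndep_posGr 𝒜 ℳ)
    (iSup_posGr 𝒜 ℳ)).chooseDecomposition

end Groth.Agent.Lib.Helper29.TildePos
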