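import Groth.Agent.Lib.Helper29TildePos
import Groth.Agent.Lib.Helper29TildeMap
import Groth.Agent.Lib.Helper27GrTildeQCoh
import Groth.Agent.Lib.Helper23TensorQCoh
import Groth.Agent.S4400
import Groth.Prelude.Def_PicGrp

/-!
# The sheaf on `Proj` attached to the non-negative part of a `ℤ`-graded module: comparison with
the `ℕ`-graded positive part, quasi-coherence, twists, sections over basic opens (helper29).
-/

set_option autoImplicit false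
set_option linter.style.haveILetI false
set_option linter.unusedSectionVars false

universe u

open CategoryTheory CategoryTheory.Limits AlgebraicGeometry TopologicalSpace Opposite

namespace Groth.Agent.Lib.Helper29.TildeTrunc

open Groth.Agent.Lib.Helper27GrTildeSect Groth.Agent.Lib.Helper29.TildePos
  Groth.Agent.Lib.Helper29.TildeMap

variable {R A : Type u} [CommRing R] [CommRing A] [Algebra R A] (𝒜 : ℕ → Submodule R A)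
  [GradedAlgebra 𝒜]
variable {M : Type u} [AddCommGroup M] [Module R M] [Module A M] [IsScalarTower R A M]
  (ℳ : ℤ → Submodule R M) [DirectSum.Decomposition ℳ]
  [SetLike.GradedSMul 𝒜 (fun n : ℕ => ℳ (n : ℤ))]

/-- The truncated family. -/
abbrev tr : ℕ → Submodule R M := fun n : ℕ => ℳ (n : ℤ)

theorem incl_mem (i : ℕ) (n : ↥(posPart 𝒜 ℳ)) (hn : n ∈ posGr 𝒜 ℳ i) :
    (posPart 𝒜 ℳ).subtype n ∈ tr ℳ i := hn

theorem incl_surj (i : ℕ) (m : M) (hm : m ∈ tr ℳ i) :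
    ∃ n ∈ posGr 𝒜 ℳ i, (posPart 𝒜 ℳ).subtype n = m :=
  ⟨⟨m, mem_posPart_of_mem 𝒜 ℳ hm⟩, hm, rfl⟩

/-- The comparison morphism from the sheaf of the positive part. -/
noncomputable def posMap (e : ℤ) :
    GrTilde.tilde 𝒜 (posGr 𝒜 ℳ) e ⟶ GrTilde.tilde 𝒜 (tr ℳ) e :=
  tildeMap 𝒜 (posGr 𝒜 ℳ) (tr ℳ) (posPart 𝒜 ℳ).subtype (incl_mem 𝒜 ℳ) e

instance isIso_posMap (e : ℤ) : IsIso (posMap 𝒜 ℳ e) :=
  isIso_tildeMap 𝒜 (posGr 𝒜 ℳ) (tr ℳ) (posPart 𝒜 ℳ).subtype (incl_mem 𝒜 ℳ) e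
    (posPart 𝒜 ℳ).subtype_injective (incl_surj 𝒜 ℳ)

/-- The comparison isomorphism. -/
noncomputable def posIso (e : ℤ) :
    GrTilde.tilde 𝒜 (posGr 𝒜 ℳ) e ≅ GrTilde.tilde 𝒜 (tr ℳ) e :=
  asIso (posMap 𝒜 ℳ e)

theorem isQuasicoherent_tilde_tr (e : ℤ) : (GrTilde.tilde 𝒜 (tr ℳ) e).IsQuasicoherent := by
  haveI : (GrTilde.tilde 𝒜 (posGr 𝒜 ℳ) e).IsQuasicoherent :=
    isQuasicoherent_tilde 𝒜 (posGr 𝒜 ℳ) e
  exact Groth.Agent.Lib.Helper23.TensorQCoh.isQuasicoherent_of_iso (posIso 𝒜 ℳ e)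

/-- `M~ ⊗ O(e) ≅ M(e)~` for the truncated family. -/
theorem nonempty_twist_iso
    (hgen : (HomogeneousIdeal.irrelevant 𝒜).toIdeal = Ideal.span (𝒜 1 : Set A)) (e : ℤ) :
    Nonempty (CohB1.tensorMod (GrTilde.tilde 𝒜 (tr ℳ) 0) (Twist.twist 𝒜 e) ≅
      GrTilde.tilde 𝒜 (tr ℳ) e) := by
  obtain ⟨φ⟩ := Groth.Agent.S4400.result 𝒜 hgen (posGr 𝒜 ℳ) e
  exact ⟨PicGrp.tensorModIso (posIso 𝒜 ℳ 0).symm (Iso.refl _) ≪≫ φ.symm ≪≫ posIso 𝒜 ℳ e⟩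

/-- Sections over a basic open are single global fractions. -/
theorem exists_global' {e : ℤ} (W : (Proj 𝒜).Opens) {g : A} {d : ℕ} (hd : 0 < d) (hg : g ∈ 𝒜 d)
    (hW : W = Proj.basicOpen 𝒜 g) (s : Γ(GrTilde.tilde 𝒜 (tr ℳ) e, W)) :
    ∃ (k i : ℕ) (m : M) (_ : m ∈ ℳ (i : ℤ)) (hk : ∀ y ∈ W, g ^ k ∉ y.asHomogeneousIdeal),
      (i : ℤ) = k * d + e ∧ ∀ (y : ProjectiveSpectrum 𝒜) (hy : y ∈ W),
        secVal 𝒜 (tr ℳ) e W s y hy = LocalizedModule.mk m ⟨g ^ k, hk y hy⟩ := by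
  subst hW
  obtain ⟨t, rfl⟩ := mapSec_surjective 𝒜 (posGr 𝒜 ℳ) (tr ℳ) (posPart 𝒜 ℳ).subtype
    (incl_mem 𝒜 ℳ) e (posPart 𝒜 ℳ).subtype_injective (incl_surj 𝒜 ℳ) (Proj.basicOpen 𝒜 g) s
  obtain ⟨k, i, m, hik, hm⟩ := exists_global (n := e)
    (toSect 𝒜 (posGr 𝒜 ℳ) e (Proj.basicOpen 𝒜 g) t) hd hg
  have hk : ∀ y ∈ Proj.basicOpen 𝒜 g, g ^ k ∉ y.asHomogeneousIdeal := fun y hy h =>
    (ProjectiveSpectrum.mem_basicOpen 𝒜 g y).mp hy (y.isPrime.mem_of_pow_mem k h)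
  refine ⟨k, i, (m : ↥(posPart 𝒜 ℳ)), m.2, hk, hik, fun y hy => ?_⟩
  rw [secVal_mapSec]
  have h1 := hm ⟨y, hy⟩
  have h2 : secVal 𝒜 (posGr 𝒜 ℳ) e (Proj.basicOpen 𝒜 g) t y hy =
      LocalizedModule.mk (m : ↥(posPart 𝒜 ℳ)) ⟨g ^ k, hk y hy⟩ := h1
  rw [h2, locMap_mk]
  rfl

variable (hsm : ∀ (i : ℕ) (z : ℤ) (a : A) (m : M), a ∈ 𝒜 i → m ∈ ℳ z → a • m ∈ ℳ ((i : ℤ) + z))

include hsm in
theorem pow_smul_mem {d : ℕ} {g : A} (hg : g ∈ 𝒜 d) (L : ℕ) {z : ℤ} {m : M} (hm : m ∈ ℳ z) :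
    g ^ L • m ∈ ℳ (((L * d : ℕ) : ℤ) + z) := by
  have h1 : g ^ L ∈ 𝒜 (L * d) := by
    have := SetLike.pow_mem_graded L hg
    simpa [smul_eq_mul] using this
  exact hsm (L * d) z (g ^ L) m h1 hm

include hsm in
/-- A homogeneous element (of any integer degree) which vanishes at every point of `D₊(g)` is
killed by a power of `g`. -/
theorem exists_pow_smul_eq_zero_int {d : ℕ} (hd : 0 < d) {g : A} (hg : g ∈ 𝒜 d) {z : ℤ} {m : M}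
    (hm : m ∈ ℳ z)
    (H : ∀ y : ProjectiveSpectrum 𝒜, g ∉ y.asHomogeneousIdeal →
      ∃ u : A, u ∉ y.asHomogeneousIdeal ∧ u • m = 0) :
    ∃ K : ℕ, g ^ K • m = 0 := by
  have hL : (0 : ℤ) ≤ ((z.natAbs * d : ℕ) : ℤ) + z := by
    have h1 : z.natAbs ≤ z.natAbs * d := Nat.le_mul_of_pos_right _ hd
    generalize z.natAbs * d = T at h1
    omega
  obtain ⟨n, hn⟩ := Int.eq_ofNat_of_zero_le hL
  have hm' : g ^ z.natAbs • m ∈ ℳ (n : ℤ) := by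
    have := pow_smul_mem 𝒜 ℳ hsm hg z.natAbs hm
    rwa [hn] at this
  let μ : ↥(posPart 𝒜 ℳ) := ⟨g ^ z.natAbs • m, mem_posPart_of_mem 𝒜 ℳ hm'⟩
  have hμ : μ ∈ posGr 𝒜 ℳ n := hm'
  obtain ⟨N, hN⟩ := exists_pow_smul_eq_zero 𝒜 (posGr 𝒜 ℳ) hd hg hμ (fun y hy => by
    obtain ⟨u, hu, hum⟩ := H y hy
    refine ⟨u, hu, Subtype.ext ?_⟩
    change u • g ^ z.natAbs • m = 0
    rw [smul_comm, hum, smul_zero])
  refine ⟨N + z.natAbs, ?_⟩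
  have h1 := congrArg Subtype.val (hN N le_rfl)
  change g ^ N • g ^ z.natAbs • m = 0 at h1
  rw [pow_add, mul_smul]
  exact h1

end Groth.Agent.Lib.Helper29.TildeTrunc
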