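import Groth.Agent.Lib.Helper29GpH1

/-!
Nonabelian `H¹`: fibres of the connecting map, torsors, twisting (helper29).
-/

universe u v w x

namespace Groth.Agent.Lib.Helper29

open GpH1

section Fibres

variable {G : Type u} {A : Type v} {B : Type w} {C : Type x} [Group G] [Group A] [Group B] [Group C]
  [MulDistribMulAction G A] [MulDistribMulAction G B] [MulDistribMulAction G C]
  {ι : A →* B} {π : B →* C}

theorem delta0_eq_delta0_iff (h : IsGExt G ι π) (c c' : MulAction.fixedPoints G C) :
    delta0 h c = delta0 h c' ↔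
      ∃ b : B, b ∈ MulAction.fixedPoints G B ∧ (c' : C) = π b * (c : C) := by
  obtain ⟨b₀, hb₀⟩ := h.surjective c.1
  obtain ⟨b₀', hb₀'⟩ := h.surjective c'.1
  constructor
  · intro heq
    rw [delta0_eq_cl h c b₀ hb₀, delta0_eq_cl h c' b₀' hb₀', OneCocycle.cl_eq_cl_iff] at heq
    obtain ⟨a, ha⟩ := heq
    refine ⟨b₀' * ι a * b₀⁻¹, ?_, ?_⟩
    · intro σ
      have h1 := congrArg ι (ha σ)
      rw [h.ι_cocycleOfLift, map_mul, map_mul, map_inv, h.smul_ι, h.ι_cocycleOfLift] at h1
      rw [smul_mul', smul_mul', smul_inv']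
      have h2 : σ • b₀' * σ • ι a = b₀' * ι a * (b₀⁻¹ * σ • b₀) := by
        rw [h1]
        group
      rw [h2]
      group
    · rw [map_mul, map_mul, map_inv, hb₀, hb₀']
      have : π (ι a) = 1 := (h.exact _).mpr ⟨a, rfl⟩
      rw [this, mul_one, inv_mul_cancel_right]
  · rintro ⟨b, hb, hcc⟩
    have hlift : π (b * b₀) = c' := by rw [map_mul, hb₀, hcc]
    rw [delta0_eq_cl h c b₀ hb₀, delta0_eq_cl h c' (b * b₀) hlift]
    congr 1
    apply OneCocycle.ext
    intro σ
    apply h.injective
    rw [h.ι_cocycleOfLift, h.ι_cocycleOfLift, smul_mul', hb σ]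
    group

end Fibres

section Torsor

variable {G : Type u} {A : Type v} {E : Type w} [Group G] [Group A] [MulDistribMulAction G A]
  [MulAction G E] [MulAction Aᵐᵒᵖ E]
  (hfree : ∀ m₁ m₂ : E, ∃! a : A, m₂ = MulOpposite.op a • m₁)
  (hcompat : ∀ (g : G) (a : A) (m : E), g • (MulOpposite.op a • m) = MulOpposite.op (g • a) • g • m)

include hfree hcompat in
theorem isOneCocycle_of_torsor (m : E) (a : G → A)
    (ha : ∀ g : G, g • m = MulOpposite.op (a g) • m) : IsOneCocycle a := by
  intro g h
  apply (hfree m ((g * h) • m)).unique (ha (g * h))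
  rw [mul_smul, ha h, hcompat, ha g, ← mul_smul, ← MulOpposite.op_mul]

end Torsor

section TorsorIso

variable {G : Type u} {A : Type v} {E : Type w} {E' : Type x}
  [Group G] [Group A] [MulDistribMulAction G A]
  [MulAction G E] [MulAction Aᵐᵒᵖ E]
  (hfree : ∀ m₁ m₂ : E, ∃! a : A, m₂ = MulOpposite.op a • m₁)
  (hcompat : ∀ (g : G) (a : A) (m : E), g • (MulOpposite.op a • m) = MulOpposite.op (g • a) • g • m)
  [MulAction G E'] [MulAction Aᵐᵒᵖ E']
  (hfree' : ∀ m₁ m₂ : E', ∃! a : A, m₂ = MulOpposite.op a • m₁)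
  (hcompat' : ∀ (g : G) (a : A) (m : E'),
    g • (MulOpposite.op a • m) = MulOpposite.op (g • a) • g • m)

include hfree hcompat hfree' hcompat' in
theorem torsor_equiv_iff (m : E) (a : G → A) (ha : ∀ g : G, g • m = MulOpposite.op (a g) • m)
    (m' : E') (a' : G → A) (ha' : ∀ g : G, g • m' = MulOpposite.op (a' g) • m') :
    (∃ f : E ≃ E', (∀ (g : G) (e : E), f (g • e) = g • f e) ∧
        ∀ (b : A) (e : E), f (MulOpposite.op b • e) = MulOpposite.op b • f e) ↔
      Cohomologous a a' := by
  constructor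
  · rintro ⟨f, hfG, hfA⟩
    obtain ⟨c, hc, -⟩ := hfree' m' (f m)
    refine ⟨c, fun g => ?_⟩
    have h1 : g • f m = MulOpposite.op (c * a g) • m' := by
      rw [← hfG, ha g, hfA, hc, ← mul_smul, ← MulOpposite.op_mul]
    have h2 : g • f m = MulOpposite.op (a' g * g • c) • m' := by
      rw [hc, hcompat', ha' g, ← mul_smul, ← MulOpposite.op_mul]
    have h3 : c * a g = a' g * g • c := (hfree' m' (g • f m)).unique h1 h2
    rw [mul_assoc, ← h3, inv_mul_cancel_left]
  · rintro ⟨c, hc⟩
    -- coordinates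
    choose x hx hxu using fun e : E => hfree m e
    choose x' hx' hxu' using fun e' : E' => hfree' m' e'
    have hxop : ∀ b : A, x (MulOpposite.op b • m) = b := fun b => (hxu _ b rfl).symm
    have hxop' : ∀ b : A, x' (MulOpposite.op b • m') = b := fun b => (hxu' _ b rfl).symm
    let f : E ≃ E' :=
      { toFun := fun e => MulOpposite.op (c * x e) • m'
        invFun := fun e' => MulOpposite.op (c⁻¹ * x' e') • m
        left_inv := fun e => by
          change MulOpposite.op (c⁻¹ * x' (MulOpposite.op (c * x e) • m')) • m = e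
          rw [hxop', inv_mul_cancel_left, ← hx e]
        right_inv := fun e' => by
          change MulOpposite.op (c * x (MulOpposite.op (c⁻¹ * x' e') • m)) • m' = e'
          rw [hxop, mul_inv_cancel_left, ← hx' e'] }
    have hf : ∀ e, f e = MulOpposite.op (c * x e) • m' := fun e => rfl
    have hxA : ∀ (b : A) (e : E), x (MulOpposite.op b • e) = x e * b := by
      intro b e
      symm
      apply hxu
      conv_lhs => rw [hx e]
      rw [← mul_smul, ← MulOpposite.op_mul]
    have hxG : ∀ (g : G) (e : E), x (g • e) = a g * g • x e := by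
      intro g e
      symm
      apply hxu
      conv_lhs => rw [hx e]
      rw [hcompat, ha g, ← mul_smul, ← MulOpposite.op_mul]
    refine ⟨f, fun g e => ?_, fun b e => ?_⟩
    · rw [hf, hf, hxG, hcompat', ha' g, ← mul_smul, ← MulOpposite.op_mul, smul_mul', hc g]
      congr 2
      group
    · rw [hf, hf, hxA, ← mul_smul, ← MulOpposite.op_mul, mul_assoc]

end TorsorIso

section TorsorExists

variable {G : Type u} {A : Type v} [Group G] [Group A] [MulDistribMulAction G A]

theorem cocycle_one {a : G → A} (ha : IsOneCocycle a) : a 1 = 1 := by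
  have h := ha 1 1
  rw [one_smul, mul_one] at h
  have := congrArg (fun z => (a 1)⁻¹ * z) h
  simp only [inv_mul_cancel, inv_mul_cancel_left] at this
  exact this.symm

/-- the twisted action of `G` on `A` attached to a cocycle -/
def twistAction (a : G → A) (ha : IsOneCocycle a) : MulAction G A where
  smul := fun g x => a g * g • x
  one_smul := fun x => by
    change a 1 * (1 : G) • x = x
    rw [cocycle_one ha, one_smul, one_mul]
  mul_smul := fun g h x => by
    change a (g * h) * (g * h) • x = a g * g • (a h * h • x)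
    rw [ha g h, smul_mul', mul_smul, mul_assoc]

theorem twistAction_smul (a : G → A) (ha : IsOneCocycle a) (g : G) (x : A) :
    (twistAction a ha).toSMul.smul g x = a g * g • x := rfl

theorem exists_torsor (a : G → A) (ha : IsOneCocycle a) :
    ∃ (E : Type v) (_ : MulAction G E) (_ : MulAction Aᵐᵒᵖ E) (m : E),
      (∀ m₁ m₂ : E, ∃! b : A, m₂ = MulOpposite.op b • m₁) ∧
      (∀ (g : G) (b : A) (e : E), g • (MulOpposite.op b • e) = MulOpposite.op (g • b) • g • e) ∧
      ∀ g : G, g • m = MulOpposite.op (a g) • m := by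
  refine ⟨A, twistAction a ha, Monoid.toOppositeMulAction, (1 : A), ?_, ?_, ?_⟩
  · intro m₁ m₂
    refine ⟨m₁⁻¹ * m₂, ?_, ?_⟩
    · change m₂ = m₁ * (m₁⁻¹ * m₂)
      rw [mul_inv_cancel_left]
    · intro b hb
      change m₂ = m₁ * b at hb
      rw [hb, inv_mul_cancel_left]
  · intro g b e
    change (twistAction a ha).toSMul.smul g (e * b) = (twistAction a ha).toSMul.smul g e * g • b
    rw [twistAction_smul, twistAction_smul, smul_mul', mul_assoc]
  · intro g
    change (twistAction a ha).toSMul.smul g 1 = 1 * a g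
    rw [twistAction_smul, smul_one, mul_one, one_mul]

end TorsorExists

section Twist

variable {G : Type u} {A : Type v} {A' : Type w}
  [Group G] [Group A] [Group A'] [MulDistribMulAction G A] [MulDistribMulAction G A']
  (a : G → A) (ha : IsOneCocycle a) (φ : A' ≃* A)
  (hφ : ∀ (g : G) (x : A'), φ (g • x) = a g * g • φ x * (a g)⁻¹)

include ha hφ in
theorem twist_isOneCocycle (b : G → A') (hb : IsOneCocycle b) :
    IsOneCocycle (fun σ => φ (b σ) * a σ) := by
  intro σ τ
  change φ (b (σ * τ)) * a (σ * τ) = φ (b σ) * a σ * σ • (φ (b τ) * a τ)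
  rw [hb σ τ, map_mul, hφ, ha σ τ, smul_mul']
  group

include hφ in
theorem twist_cohomologous_iff (b b' : G → A') :
    Cohomologous b b' ↔
      Cohomologous (fun σ => φ (b σ) * a σ) (fun σ => φ (b' σ) * a σ) := by
  constructor
  · rintro ⟨c, hc⟩
    refine ⟨φ c, fun σ => ?_⟩
    change φ (b σ) * a σ = (φ c)⁻¹ * (φ (b' σ) * a σ) * σ • φ c
    rw [hc σ, map_mul, map_mul, map_inv, hφ]
    group
  · rintro ⟨c, hc⟩
    refine ⟨φ.symm c, fun σ => ?_⟩
    apply φ.injective
    have h1 : φ (b σ) * a σ = c⁻¹ * (φ (b' σ) * a σ) * σ • c := hc σ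
    rw [map_mul, map_mul, map_inv, hφ, φ.apply_symm_apply]
    have h2 : φ (b σ) = c⁻¹ * (φ (b' σ) * a σ) * σ • c * (a σ)⁻¹ := by
      rw [← h1, mul_inv_cancel_right]
    rw [h2]
    group

include ha hφ in
theorem twist_surjective (c : G → A) (hc : IsOneCocycle c) :
    ∃ b : G → A', IsOneCocycle b ∧ Cohomologous c (fun σ => φ (b σ) * a σ) := by
  refine ⟨fun σ => φ.symm (c σ * (a σ)⁻¹), ?_, ?_⟩
  · intro σ τ
    apply φ.injective
    change φ (φ.symm (c (σ * τ) * (a (σ * τ))⁻¹)) =
      φ (φ.symm (c σ * (a σ)⁻¹) * σ • φ.symm (c τ * (a τ)⁻¹))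
    rw [φ.apply_symm_apply, map_mul, φ.apply_symm_apply, hφ, φ.apply_symm_apply, hc σ τ, ha σ τ,
      smul_mul', smul_inv']
    group
  · refine ⟨1, fun σ => ?_⟩
    change c σ = 1⁻¹ * (φ (φ.symm (c σ * (a σ)⁻¹)) * a σ) * σ • (1 : A)
    rw [φ.apply_symm_apply, smul_one, inv_one, one_mul, mul_one, inv_mul_cancel_right]

end Twist

end Groth.Agent.Lib.Helper29
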