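import Groth.Agent.Lib.Helper8MV

/-! The `x`-torsion of `H^i_a(M)` is the image of `H^i_{a + xR}(M)` (helper29). -/

set_option autoImplicit false
universe u
open CategoryTheory CategoryTheory.Limits

namespace Groth.Agent.Lib.Helper29XTorsion

open Groth.Agent.Lib.Helper8.LC Groth.Agent.Lib.Helper8.MV Groth.Agent.Lib.Helper8.ExtLES

variable {R : Type u} [CommRing R]

/-- In an injective module over a Noetherian ring, every element is divisible by `x ^ k` up to
`x`-torsion, by an element with at least the same annihilator. -/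
theorem exists_div_mod_torsion [IsNoetherianRing R] (E : Type u) [AddCommGroup E] [Module R E]
    [Module.Injective R E] (ε : E) (x : R) (k : ℕ) :
    ∃ (ε₂ : E) (L : ℕ), x ^ L • (ε - x ^ k • ε₂) = 0 ∧ ∀ u : R, u • ε = 0 → u • ε₂ = 0 := by
  classical
  let J : ℕ →o Ideal R := ⟨fun L => LinearMap.ker (LinearMap.toSpanSingleton R E (x ^ L • ε)), by
    intro L L' hLL' u hu
    obtain ⟨j, rfl⟩ := Nat.exists_eq_add_of_le hLL'
    rw [LinearMap.mem_ker, LinearMap.toSpanSingleton_apply] at hu ⊢
    rw [pow_add, mul_comm, mul_smul, smul_comm, hu, smul_zero]⟩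
  have hJ : ∀ L u, u ∈ J L ↔ u • x ^ L • ε = 0 := by
    intro L u
    show u ∈ LinearMap.ker (LinearMap.toSpanSingleton R E (x ^ L • ε)) ↔ _
    rw [LinearMap.mem_ker, LinearMap.toSpanSingleton_apply]
  obtain ⟨L, hL⟩ := monotone_stabilizes_iff_noetherian.mpr inferInstance J
  have hLk : J (L + k) = J L := (hL (L + k) (Nat.le_add_right L k)).symm
  -- the injective map `R ⧸ J (L + k) → R ⧸ J 0`
  have hθ : J (L + k) ≤ Submodule.comap (LinearMap.lsmul R R (x ^ (L + k))) (J 0) := by
    intro u hu
    rw [Submodule.mem_comap, hJ, LinearMap.lsmul_apply, smul_eq_mul, pow_zero, one_smul, mul_smul,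
      smul_comm]
    exact (hJ _ _).mp hu
  let θ : (R ⧸ J (L + k)) →ₗ[R] (R ⧸ J 0) :=
    Submodule.mapQ (J (L + k)) (J 0) (LinearMap.lsmul R R (x ^ (L + k))) hθ
  have hθinj : Function.Injective θ := by
    rw [injective_iff_map_eq_zero]
    intro y hy
    obtain ⟨u, rfl⟩ := Submodule.Quotient.mk_surjective _ y
    have h1 : (Submodule.Quotient.mk (x ^ (L + k) • u) : R ⧸ J 0) = 0 := hy
    rw [Submodule.Quotient.mk_eq_zero, hJ, smul_eq_mul, pow_zero, one_smul, mul_smul,
      smul_comm] at h1
    rw [Submodule.Quotient.mk_eq_zero, hJ]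
    exact h1
  let g : (R ⧸ J (L + k)) →ₗ[R] E :=
    Submodule.liftQ (J (L + k)) (LinearMap.toSpanSingleton R E (x ^ L • ε)) (by
      rw [hLk]
      exact le_rfl)
  obtain ⟨ψ, hψ⟩ := Module.Injective.extension_property R E _ _ θ hθinj g
  refine ⟨ψ (Submodule.Quotient.mk 1), L, ?_, ?_⟩
  · have h1 : x ^ (L + k) • ψ (Submodule.Quotient.mk 1) = x ^ L • ε := by
      rw [← map_smul]
      have h2 : x ^ (L + k) • (Submodule.Quotient.mk 1 : R ⧸ J 0) =
          θ (Submodule.Quotient.mk 1) := by
        show _ = Submodule.Quotient.mk (x ^ (L + k) • (1 : R))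
        rw [← Submodule.Quotient.mk_smul]
      rw [h2]
      have h3 := congrArg (fun φ => φ (Submodule.Quotient.mk 1)) hψ
      simp only [LinearMap.comp_apply] at h3
      rw [h3]
      show LinearMap.toSpanSingleton R E (x ^ L • ε) 1 = _
      rw [LinearMap.toSpanSingleton_apply, one_smul]
    rw [smul_sub, ← mul_smul, ← pow_add, h1, sub_self]
  · intro u hu
    rw [← map_smul, ← Submodule.Quotient.mk_smul, smul_eq_mul, mul_one]
    have : (Submodule.Quotient.mk u : R ⧸ J 0) = 0 := by
      rw [Submodule.Quotient.mk_eq_zero, hJ, pow_zero, one_smul]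
      exact hu
    rw [this, map_zero]

/-- The `x`-power torsion elements of `H^i_a(M)` come from `H^i_{a + xR}(M)`. -/
theorem exists_HmapOfLE_eq_of_pow_smul_eq_zero [IsNoetherianRing R] (a : Ideal R) (x : R) (i : ℕ) :
    ∀ (M : ModuleCat.{u} R) (z : (localCohomology a i).obj M) (k : ℕ), x ^ k • z = 0 →
      ∃ w : (localCohomology (a ⊔ Ideal.span {x}) i).obj M,
        ((Dual2.HmapOfLE (le_sup_left : a ≤ a ⊔ Ideal.span {x}) i).app M).hom w = z := by
  induction i with
  | zero =>
    intro M z k hz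
    have hm : Φ a M z ∈ DRing.torsionSub a M := Φ_mem_torsionSub a M z
    have hxm : x ^ k • Φ a M z = 0 := by
      have := (Φ a M).hom.map_smul (x ^ k) z
      have h2 : Φ a M (x ^ k • z) = x ^ k • Φ a M z := this
      rw [← h2, hz, map_zero]
    have hx : Φ a M z ∈ DRing.torsionSub (Ideal.span {x}) M := by
      refine ⟨k, fun u hu => ?_⟩
      rw [Ideal.span_singleton_pow] at hu
      obtain ⟨c, rfl⟩ := Ideal.mem_span_singleton'.mp hu
      rw [mul_smul, hxm, smul_zero]
    obtain ⟨w, hw⟩ := exists_Φ_eq (a ⊔ Ideal.span {x}) M (Φ a M z) (mem_torsionSub_sup M _ hm hx)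
    refine ⟨w, ?_⟩
    apply Φ_injective a M
    rw [Φ_HmapOfLE, hw]
  | succ i ih =>
    intro M z k hz
    have hS := injSES_shortExact M
    obtain ⟨v, hv⟩ := Hδ_surjective (injSES M) hS a i z
    have h0 : Hδ a i (injSES M) hS (x ^ k • v) = 0 := by
      have := (Hδ a i (injSES M) hS).hom.map_smul (x ^ k) v
      have h2 : Hδ a i (injSES M) hS (x ^ k • v) = x ^ k • Hδ a i (injSES M) hS v := this
      rw [h2, hv]
      exact hz
    obtain ⟨e, he⟩ := H_exact₃ a i (injSES M) hS _ h0
    -- it suffices to find an `x`-torsion `v'` with the same image under `δ`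
    suffices hsuff : ∃ (v' : (localCohomology a i).obj (injSES M).X₃) (k' : ℕ),
        x ^ k' • v' = 0 ∧ Hδ a i (injSES M) hS v' = z by
      obtain ⟨v', k', hv'0, hv'z⟩ := hsuff
      obtain ⟨w', hw'⟩ := ih (injSES M).X₃ v' k' hv'0
      refine ⟨Hδ (a ⊔ Ideal.span {x}) i (injSES M) hS w', ?_⟩
      have := Hδ_HmapOfLE (le_sup_left : a ≤ a ⊔ Ideal.span {x}) i (injSES M) hS w'
      rw [hw'] at this
      rw [← hv'z, this]
    cases i with
    | succ i' =>
      have he0 : e = 0 := H_succ_eq_zero_of_injective a (injSES M).X₂ i' e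
      rw [he0, map_zero] at he
      exact ⟨v, k, he.symm, hv⟩
    | zero =>
      haveI hinjobj : Injective (ModuleCat.of R ↑(injSES M).X₂) :=
        inferInstanceAs (Injective (Injective.under M))
      haveI : Module.Injective R ↑(injSES M).X₂ :=
        Module.injective_module_of_injective_object R ↑(injSES M).X₂
      have hεt : Φ a (injSES M).X₂ e ∈ DRing.torsionSub a ↑(injSES M).X₂ :=
        Φ_mem_torsionSub a _ e
      obtain ⟨ε₂, L, h1, h2⟩ := exists_div_mod_torsion ↑(injSES M).X₂ (Φ a (injSES M).X₂ e) x k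
      have hε₂t : ε₂ ∈ DRing.torsionSub a ↑(injSES M).X₂ := by
        obtain ⟨n, hn⟩ := hεt
        exact ⟨n, fun u hu => h2 u (hn u hu)⟩
      obtain ⟨e₂, he₂⟩ := exists_Φ_eq a (injSES M).X₂ ε₂ hε₂t
      have hkey : x ^ L • (e - x ^ k • e₂) = 0 := by
        apply Φ_injective a (injSES M).X₂
        have hs1 : ∀ (c : R) (y : (localCohomology a 0).obj (injSES M).X₂),
            Φ a (injSES M).X₂ (c • y) = c • Φ a (injSES M).X₂ y :=
          fun c y => (Φ a (injSES M).X₂).hom.map_smul c y
        rw [hs1, map_sub, hs1, he₂, h1, map_zero]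
      refine ⟨v - (localCohomology a 0).map (injSES M).g e₂, L + k, ?_, ?_⟩
      · have hs2 : ∀ (c : R) (y : (localCohomology a 0).obj (injSES M).X₂),
            (localCohomology a 0).map (injSES M).g (c • y) =
              c • (localCohomology a 0).map (injSES M).g y :=
          fun c y => ((localCohomology a 0).map (injSES M).g).hom.map_smul c y
        have h3 : x ^ k • (v - (localCohomology a 0).map (injSES M).g e₂) =
            (localCohomology a 0).map (injSES M).g (e - x ^ k • e₂) := by
          rw [smul_sub, map_sub, hs2, he]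
        rw [pow_add, mul_smul, h3, ← hs2, hkey, map_zero]
      · rw [map_sub, Hδ_map_g, sub_zero, hv]
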