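import Mathlib
import Groth.Prelude.Def_Curves

/-!
# Schemes local for Zariski and finite coverings (helper2)

Namespace `Groth.Agent.Lib.Helper2.AICLocal`.
* `mem_range_of_monic_root`, `surjective_of_isIntegral` : an injective integral map from an
  absolutely integrally closed ring to a domain is surjective.
* `Loc P Q` : `P` is local for jointly surjective families of `Q`-morphisms.
* `main` : a quasi-separated scheme is Zariski- and finite-local iff it is the spectrum of a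
  local absolutely integrally closed domain.
-/

set_option autoImplicit false
set_option linter.style.haveILetI false
universe u
open CategoryTheory CategoryTheory.Limits AlgebraicGeometry TopologicalSpace Topology

namespace Groth.Agent.Lib.Helper2.AICLocal

theorem mem_range_of_monic_root {A C : Type*} [CommRing A] [CommRing C] [IsDomain C]
    (hA : Curves.IsAIC A) (χ : A →+* C) :
    ∀ (n : ℕ) (p : Polynomial A), p.natDegree = n → p.Monic →
      ∀ c : C, p.eval₂ χ c = 0 → c ∈ Set.range χ := by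
  intro n
  induction n with
  | zero =>
    intro p hn hp c hc
    have h1 : p = 1 := hp.natDegree_eq_zero.mp hn
    rw [h1, Polynomial.eval₂_one] at hc
    exact absurd hc one_ne_zero
  | succ n ih =>
    intro p hn hp c hc
    haveI : Nontrivial A := χ.domain_nontrivial
    obtain ⟨a, ha⟩ := hA p hp (by omega)
    obtain ⟨q, hq⟩ := Polynomial.dvd_iff_isRoot.mpr ha
    have hXm : (Polynomial.X - Polynomial.C a).Monic := Polynomial.monic_X_sub_C a
    have hqm : q.Monic := hXm.of_mul_monic_left (hq ▸ hp)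
    have hdeg : q.natDegree = n := by
      have := hXm.natDegree_mul hqm
      rw [← hq, hn, Polynomial.natDegree_X_sub_C] at this
      omega
    rw [hq, Polynomial.eval₂_mul, Polynomial.eval₂_sub, Polynomial.eval₂_X,
      Polynomial.eval₂_C] at hc
    rcases mul_eq_zero.mp hc with h | h
    · exact ⟨a, (sub_eq_zero.mp h).symm⟩
    · exact ih q hdeg hqm c h

theorem surjective_of_isIntegral {A C : Type*} [CommRing A] [CommRing C] [IsDomain C]
    (hA : Curves.IsAIC A) (χ : A →+* C) (hχ : χ.IsIntegral) : Function.Surjective χ := by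
  intro c
  obtain ⟨p, hp, hc⟩ := hχ c
  exact mem_range_of_monic_root hA χ _ p rfl hp c hc

/-- `P` is local for jointly surjective families of `Q`-morphisms. -/
def Loc (P : Scheme.{u}) (Q : MorphismProperty Scheme.{u}) : Prop :=
  ∀ (X : Scheme.{u}) (R : Presieve X), R ∈ Scheme.precoverage Q X →
    ∀ g : P ⟶ X, ∃ (Y : Scheme.{u}) (w : Y ⟶ X) (h : P ⟶ Y), R w ∧ h ≫ w = g

theorem loc_of_iso {P P' : Scheme.{u}} (e : P ≅ P') {Q : MorphismProperty Scheme.{u}}
    (h : Loc P' Q) : Loc P Q := by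
  intro X R hR g
  obtain ⟨Y, w, k, hw, hk⟩ := h X R hR (e.inv ≫ g)
  exact ⟨Y, w, e.hom ≫ k, hw, by rw [Category.assoc, hk, Iso.hom_inv_id_assoc]⟩

theorem exists_retraction {P : Scheme.{u}} [IsAffine P] {Q : MorphismProperty Scheme.{u}}
    (hP : Loc P Q) {ι : Type*} (B : ι → CommRingCat.{u}) (φ : ∀ i, Γ(P, ⊤) ⟶ B i)
    (hQ : ∀ i, Q (Spec.map (φ i)))
    (hs : ∀ x : Spec Γ(P, ⊤), ∃ i, x ∈ Set.range (Spec.map (φ i))) :
    ∃ i, ∃ ψ : B i ⟶ Γ(P, ⊤), φ i ≫ ψ = 𝟙 _ := by
  obtain ⟨Y, w, h, hR, hw⟩ := hP (Spec Γ(P, ⊤))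
    (Presieve.ofArrows (fun i => Spec (B i)) (fun i => Spec.map (φ i)))
    ((Scheme.ofArrows_mem_precoverage_iff Q).mpr ⟨hs, hQ⟩) P.isoSpec.hom
  obtain ⟨i⟩ := hR
  refine ⟨i, Spec.preimage (P.isoSpec.inv ≫ h), ?_⟩
  apply Spec.map_injective
  rw [Spec.map_comp, Spec.map_preimage, Category.assoc, hw, Iso.inv_hom_id, Spec.map_id]

theorem nonempty_of_loc (P : Scheme.{u}) {Q : MorphismProperty Scheme.{u}} (hZ : Loc P Q) :
    Nonempty P := by
  by_contra hne
  rw [not_nonempty_iff] at hne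
  obtain ⟨Y, w, h, hR, -⟩ := hZ P ⊥ (Scheme.bot_mem_precoverage Q P) (𝟙 P)
  exact hR.elim

theorem isAffine_of_loc (P : Scheme.{u}) [QuasiSeparatedSpace P]
    (hZ : Loc P (@IsOpenImmersion ⊓ @QuasiCompact)) : IsAffine P := by
  have hmem : Presieve.ofArrows (fun U : P.affineOpens => (U.1 : Scheme.{u})) (fun U => U.1.ι) ∈
      Scheme.precoverage (@IsOpenImmersion ⊓ @QuasiCompact) P := by
    refine (Scheme.ofArrows_mem_precoverage_iff _).mpr ⟨fun x => ?_, fun U => ?_⟩
    · obtain ⟨U, hU, hxU, -⟩ := exists_isAffineOpen_mem_and_subset (x := x) (U := ⊤) trivial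
      exact ⟨⟨U, hU⟩, by rw [Scheme.Opens.range_ι]; exact hxU⟩
    · haveI : IsAffine (U.1 : Scheme.{u}) := U.2
      exact (show IsOpenImmersion U.1.ι ∧ QuasiCompact U.1.ι from ⟨inferInstance, inferInstance⟩)
  obtain ⟨Y, w, h, hR, hw⟩ := hZ P _ hmem (𝟙 P)
  obtain ⟨U⟩ := hR
  have htop : U.1 = ⊤ := by
    rw [eq_top_iff]
    intro x _
    have hx : U.1.ι (h x) = x := by
      have := congr($hw x)
      simpa using this
    have : x ∈ Set.range U.1.ι := ⟨h x, hx⟩
    rw [Scheme.Opens.range_ι] at this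
    exact this
  have hU : IsAffineOpen (⊤ : P.Opens) := htop ▸ U.2
  haveI : IsAffine ((⊤ : P.Opens) : Scheme.{u}) := hU
  exact IsAffine.of_isIso P.topIso.inv

theorem exists_isUnit_of_loc (P : Scheme.{u}) [IsAffine P]
    (hZ : Loc P (@IsOpenImmersion ⊓ @QuasiCompact)) {ι : Type*} (s : ι → Γ(P, ⊤))
    (hs : Ideal.span (Set.range s) = ⊤) : ∃ i, IsUnit (s i) := by
  have hsurj : ∀ x : Spec Γ(P, ⊤), ∃ i, x ∈ Set.range
      (Spec.map (CommRingCat.ofHom (algebraMap Γ(P, ⊤) (Localization.Away (s i))))) := by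
    intro x
    have hex : ∃ i, s i ∉ x.asIdeal := by
      by_contra hcon
      push Not at hcon
      have hle : Ideal.span (Set.range s) ≤ x.asIdeal := by
        rw [Ideal.span_le]
        rintro _ ⟨i, rfl⟩
        exact hcon i
      rw [hs] at hle
      exact x.isPrime.ne_top (top_le_iff.mp hle)
    obtain ⟨i, hi⟩ := hex
    refine ⟨i, ?_⟩
    have hr := PrimeSpectrum.localization_away_comap_range (Localization.Away (s i)) (s i)
    have hx : x ∈ Set.range (PrimeSpectrum.comap (algebraMap Γ(P, ⊤) (Localization.Away (s i)))) := by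
      rw [hr]
      exact hi
    exact hx
  obtain ⟨i, ψ, hψ⟩ := exists_retraction hZ
    (fun i => CommRingCat.of (Localization.Away (s i)))
    (fun i => CommRingCat.ofHom (algebraMap Γ(P, ⊤) (Localization.Away (s i))))
    (fun i => (show IsOpenImmersion _ ∧ QuasiCompact _ from ⟨inferInstance, inferInstance⟩))
    hsurj
  refine ⟨i, ?_⟩
  have h1 : IsUnit (algebraMap Γ(P, ⊤) (Localization.Away (s i)) (s i)) :=
    IsLocalization.Away.algebraMap_isUnit _
  have h2 := h1.map ψ.hom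
  have h3 : ψ.hom (algebraMap Γ(P, ⊤) (Localization.Away (s i)) (s i)) = s i := by
    have := congr($hψ (s i))
    simpa using this
  rwa [h3] at h2

theorem isLocalRing_of_loc (P : Scheme.{u}) [IsAffine P]
    (hZ : Loc P (@IsOpenImmersion ⊓ @QuasiCompact)) : IsLocalRing Γ(P, ⊤) := by
  obtain ⟨x⟩ := nonempty_of_loc P hZ
  haveI : Nonempty ((⊤ : P.Opens)) := ⟨⟨x, trivial⟩⟩
  haveI : Nontrivial Γ(P, ⊤) := Scheme.component_nontrivial P ⊤
  refine IsLocalRing.of_isUnit_or_isUnit_one_sub_self fun f => ?_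
  obtain ⟨b, hb⟩ := exists_isUnit_of_loc P hZ (fun b : Bool => cond b f (1 - f)) (by
    rw [Ideal.eq_top_iff_one]
    have h1 : f ∈ Ideal.span (Set.range fun b : Bool => cond b f (1 - f)) :=
      Ideal.subset_span ⟨true, rfl⟩
    have h2 : 1 - f ∈ Ideal.span (Set.range fun b : Bool => cond b f (1 - f)) :=
      Ideal.subset_span ⟨false, rfl⟩
    have := Ideal.add_mem _ h1 h2
    simpa using this)
  cases b with
  | true => exact Or.inl hb
  | false => exact Or.inr hb

theorem isDomain_of_loc (P : Scheme.{u}) [IsAffine P] (hF : Loc P @IsFinite) :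
    IsDomain Γ(P, ⊤) := by
  have hsurj : ∀ x : Spec Γ(P, ⊤), ∃ 𝔭 : PrimeSpectrum Γ(P, ⊤), x ∈ Set.range
      (Spec.map (CommRingCat.ofHom (Ideal.Quotient.mk 𝔭.asIdeal))) := by
    intro x
    refine ⟨x, ?_⟩
    have hr := _root_.range_comap_of_surjective (Γ(P, ⊤) ⧸ x.asIdeal)
      (Ideal.Quotient.mk x.asIdeal) Ideal.Quotient.mk_surjective
    have hx : x ∈ Set.range (PrimeSpectrum.comap (Ideal.Quotient.mk x.asIdeal)) := by
      rw [hr, Ideal.mk_ker]
      exact (PrimeSpectrum.mem_zeroLocus (x : PrimeSpectrum Γ(P, ⊤)) _).mpr (le_refl _)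
    exact hx
  obtain ⟨𝔭, ψ, hψ⟩ := exists_retraction hF (ι := PrimeSpectrum Γ(P, ⊤))
    (fun 𝔭 => CommRingCat.of (Γ(P, ⊤) ⧸ 𝔭.asIdeal))
    (fun 𝔭 => CommRingCat.ofHom (Ideal.Quotient.mk 𝔭.asIdeal))
    (fun 𝔭 => inferInstance) hsurj
  have hbot : 𝔭.asIdeal = ⊥ := by
    rw [eq_bot_iff]
    intro a ha
    have h1 : Ideal.Quotient.mk 𝔭.asIdeal a = 0 := Ideal.Quotient.eq_zero_iff_mem.mpr ha
    have h2 : ψ.hom (Ideal.Quotient.mk 𝔭.asIdeal a) = a := by
      have := congr($hψ a)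
      simpa using this
    rw [h1, map_zero] at h2
    exact (Ideal.mem_bot).mpr h2.symm
  haveI : (⊥ : Ideal Γ(P, ⊤)).IsPrime := hbot ▸ 𝔭.isPrime
  exact IsDomain.of_bot_isPrime _

theorem isAIC_of_loc (P : Scheme.{u}) [IsAffine P] [IsDomain Γ(P, ⊤)] (hF : Loc P @IsFinite) :
    Curves.IsAIC Γ(P, ⊤) := by
  intro p hp hdeg
  have hfin : (AdjoinRoot.of p).Finite := by
    have h : (algebraMap Γ(P, ⊤) (AdjoinRoot p)).Finite :=
      RingHom.finite_algebraMap.mpr hp.finite_adjoinRoot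
    rw [AdjoinRoot.algebraMap_eq] at h
    exact h
  have hsurj : ∀ x : Spec Γ(P, ⊤), ∃ _ : Unit, x ∈ Set.range
      (Spec.map (CommRingCat.ofHom (AdjoinRoot.of p))) := by
    intro x
    refine ⟨(), ?_⟩
    have hinj : Function.Injective (AdjoinRoot.of p) :=
      AdjoinRoot.of.injective_of_degree_ne_zero
        (ne_of_gt (Polynomial.natDegree_pos_iff_degree_pos.mp hdeg))
    exact hfin.to_isIntegral.comap_surjective hinj x
  obtain ⟨-, ψ, hψ⟩ := exists_retraction hF (ι := Unit)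
    (fun _ => CommRingCat.of (AdjoinRoot p))
    (fun _ => CommRingCat.ofHom (AdjoinRoot.of p))
    (fun _ => (IsFinite.SpecMap_iff _).mpr hfin) hsurj
  refine ⟨ψ.hom (AdjoinRoot.root p), ?_⟩
  have h1 : ψ.hom.comp (AdjoinRoot.of p) = RingHom.id _ := by
    ext a
    have := congr($hψ a)
    simpa using this
  have h2 := Polynomial.hom_eval₂ p (AdjoinRoot.of p) ψ.hom (AdjoinRoot.root p)
  rw [AdjoinRoot.eval₂_root, map_zero, h1, Polynomial.eval₂_id] at h2
  exact h2.symm

theorem loc_zariski_of_isLocalRing (A : CommRingCat.{u}) [IsLocalRing A] :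
    Loc (Spec A) (@IsOpenImmersion ⊓ @QuasiCompact) := by
  intro X R hR g
  obtain ⟨Y, w, hw, y, hy⟩ :=
    (Presieve.mem_comap_jointlySurjectivePrecoverage_iff _).mp hR.1 (g (IsLocalRing.closedPoint A))
  haveI : IsOpenImmersion w := (hR.2 hw).1
  have hrange : Set.range g ⊆ Set.range w := by
    rintro _ ⟨x, rfl⟩
    have hsp : x ⤳ IsLocalRing.closedPoint A := IsLocalRing.specializes_closedPoint x
    have hsp' : g x ⤳ g (IsLocalRing.closedPoint A) := hsp.map g.continuous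
    exact hsp'.mem_open w.isOpenEmbedding.isOpen_range ⟨y, hy⟩
  exact ⟨Y, w, IsOpenImmersion.lift w g hrange, hw, IsOpenImmersion.lift_fac w g hrange⟩

theorem exists_section_of_finite (A : CommRingCat.{u}) (hA : Curves.IsAIC A) {Z : Scheme.{u}}
    (f : Z ⟶ Spec A) [IsFinite f] (z : Z) (hz : (f z).asIdeal = ⊥) :
    ∃ s : Spec A ⟶ Z, s ≫ f = 𝟙 _ := by
  haveI : IsAffine Z := isAffine_of_isAffineHom f
  let φ : A ⟶ Γ(Z, ⊤) := (Scheme.ΓSpecIso A).inv ≫ f.appTop
  have hφ : Z.isoSpec.inv ≫ f = Spec.map φ := by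
    rw [← Scheme.isoSpec_inv_naturality, Scheme.isoSpec_Spec_inv, ← Spec.map_comp]
  have hfin : φ.hom.Finite := by
    have h1 : f.appTop.hom.Finite := f.finite_appTop
    have h2 : (Scheme.ΓSpecIso A).inv.hom.Finite :=
      RingHom.Finite.of_surjective _
        (ConcreteCategory.bijective_of_isIso (Scheme.ΓSpecIso A).inv).2
    exact h1.comp h2
  let 𝔮 : Ideal Γ(Z, ⊤) := (Z.isoSpec.hom z).asIdeal
  haveI : 𝔮.IsPrime := (Z.isoSpec.hom z).isPrime
  have hq : Ideal.comap φ.hom 𝔮 = ⊥ := by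
    have : Spec.map φ (Z.isoSpec.hom z) = f z := by
      rw [← hφ, ← Scheme.Hom.comp_apply, Iso.hom_inv_id_assoc]
    rw [← hz, ← this]
    rfl
  let χ : A →+* Γ(Z, ⊤) ⧸ 𝔮 := (Ideal.Quotient.mk 𝔮).comp φ.hom
  have hinj : Function.Injective χ := by
    rw [injective_iff_map_eq_zero]
    intro a ha
    have h1 : φ.hom a ∈ 𝔮 := (Ideal.Quotient.eq_zero_iff_mem (I := 𝔮)).mp ha
    have : a ∈ Ideal.comap φ.hom 𝔮 := h1
    rw [hq] at this
    exact this
  have hint : χ.IsIntegral :=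
    RingHom.IsIntegral.trans _ _ hfin.to_isIntegral
      (RingHom.isIntegral_of_surjective _ Ideal.Quotient.mk_surjective)
  have hsurj := surjective_of_isIntegral hA χ hint
  let e := RingEquiv.ofBijective χ ⟨hinj, hsurj⟩
  let ψ : Γ(Z, ⊤) ⟶ A := CommRingCat.ofHom (e.symm.toRingHom.comp (Ideal.Quotient.mk 𝔮))
  have hψ : φ ≫ ψ = 𝟙 A := by
    ext a
    show e.symm (Ideal.Quotient.mk 𝔮 (φ.hom a)) = a
    exact e.symm_apply_apply a
  refine ⟨Spec.map ψ ≫ Z.isoSpec.inv, ?_⟩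
  rw [Category.assoc, hφ, ← Spec.map_comp, hψ, Spec.map_id]

theorem loc_finite_of_isAIC (A : CommRingCat.{u}) [IsDomain A] (hA : Curves.IsAIC A) :
    Loc (Spec A) @IsFinite := by
  intro X R hR g
  obtain ⟨Y, w, hw, y, hy⟩ :=
    (Presieve.mem_comap_jointlySurjectivePrecoverage_iff _).mp hR.1
      (g (⟨⊥, Ideal.isPrime_bot⟩ : PrimeSpectrum A))
  haveI : IsFinite w := hR.2 hw
  obtain ⟨z, hz1, hz2⟩ := Scheme.Pullback.exists_preimage_pullback (f := w) (g := g) y
    (⟨⊥, Ideal.isPrime_bot⟩ : PrimeSpectrum A) hy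
  obtain ⟨s, hs⟩ := exists_section_of_finite A hA (pullback.snd w g) z (by rw [hz2])
  exact ⟨Y, w, s ≫ pullback.fst w g, hw, by
    rw [Category.assoc, pullback.condition, ← Category.assoc, hs, Category.id_comp]⟩

theorem main (P : Scheme.{u}) [QuasiSeparatedSpace P] :
    (Loc P (@IsOpenImmersion ⊓ @QuasiCompact) ∧ Loc P @IsFinite) ↔
    (IsAffine P ∧ IsLocalRing Γ(P, ⊤) ∧ IsDomain Γ(P, ⊤) ∧ Curves.IsAIC Γ(P, ⊤)) := by
  constructor
  · rintro ⟨hZ, hF⟩
    haveI := isAffine_of_loc P hZ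
    haveI := isDomain_of_loc P hF
    exact ⟨inferInstance, isLocalRing_of_loc P hZ, inferInstance, isAIC_of_loc P hF⟩
  · rintro ⟨hA, hL, hD, hAIC⟩
    haveI := hA
    haveI := hL
    haveI := hD
    exact ⟨loc_of_iso P.isoSpec (loc_zariski_of_isLocalRing Γ(P, ⊤)),
      loc_of_iso P.isoSpec (loc_finite_of_isAIC Γ(P, ⊤) hAIC)⟩

end Groth.Agent.Lib.Helper2.AICLocal
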