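import Mathlib
import Groth.Prelude.Def_BlowUp2
import Groth.Agent.Lib.Helper22FTIdeal
import Groth.Agent.Lib.Helper2BlowGlue

/-!
# Separating closed constructible sets by an admissible blow-up (helper2)

Namespace `Groth.Agent.Lib.Helper2.AdmSep`.
* `isCompact_of_isConstructible` : constructible subsets of a compact space are compact.
* `exists_ft_support_eq_compl` : on a qcqs scheme, the complement of a quasi-compact open is the
  support of a finite type ideal sheaf.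
* `disjoint_closure_of_effCartier_sup` : if `(𝓘₁ ⊔ 𝓘₂) 𝒪_{X'}` is effective Cartier, then the closures
  of `b⁻¹ S₁`, `b⁻¹ S₂` are disjoint for `S_i ⊆ V(𝓘_i) ∖ V(𝓘₁ + 𝓘₂)`.
* `exists_admissible_blowUp_separating`.
-/

set_option autoImplicit false
set_option linter.style.haveILetI false
universe u
open CategoryTheory CategoryTheory.Limits AlgebraicGeometry TopologicalSpace Topology

namespace Groth.Agent.Lib.Helper2.AdmSep

open Groth.Agent.Lib.Helper22.FTIdeal

theorem isCompact_of_isConstructible {X : Type*} [TopologicalSpace X] [CompactSpace X]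
    {s : Set X} (hs : IsConstructible s) : IsCompact s := by
  induction s, hs using BooleanSubalgebra.closure_sdiff_sup_induction with
  | isSublattice =>
    exact ⟨fun s hs t ht ↦ ⟨hs.1.union ht.1, hs.2.union ht.2⟩,
      fun s hs t ht ↦ ⟨hs.1.inter ht.1, hs.2.inter_isOpen ht.2 ht.1⟩⟩
  | bot_mem => exact ⟨isOpen_empty, .empty⟩
  | top_mem => exact ⟨isOpen_univ, .univ⟩
  | sdiff U hU V hV => exact hU.2.isCompact.diff hV.1
  | sup s _ t _ hs' ht' => exact hs'.union ht'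

variable {X : Scheme.{u}}

theorem not_mem_support_of_mem_basicOpen (J : X.IdealSheafData) (V : X.affineOpens)
    (c : Γ(X, V.1)) (hc : c ∈ J.ideal V) (x : X) (hx : x ∈ X.basicOpen c) :
    x ∉ J.support := by
  have hxV : x ∈ V.1 := X.basicOpen_le c hx
  rw [Scheme.IdealSheafData.mem_support_iff_of_mem (U := V) hxV, Scheme.mem_zeroLocus_iff]
  intro h
  exact h c hc hx

theorem exists_mem_basicOpen_of_not_mem_support (J : X.IdealSheafData) (V : X.affineOpens)
    (x : X) (hxV : x ∈ V.1) (hx : x ∉ J.support) :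
    ∃ c ∈ J.ideal V, x ∈ X.basicOpen c := by
  rw [Scheme.IdealSheafData.mem_support_iff_of_mem (U := V) hxV, Scheme.mem_zeroLocus_iff] at hx
  push Not at hx
  obtain ⟨c, hc, hxc⟩ := hx
  exact ⟨c, hc, hxc⟩

/-- On a qcqs scheme, the complement of a quasi-compact open is the support of a finite type
quasi-coherent ideal sheaf. -/
theorem exists_ft_support_eq_compl [CompactSpace X] [QuasiSeparatedSpace X]
    (W : X.Opens) (hW : IsCompact (W : Set X)) :
    ∃ 𝓘 : X.IdealSheafData, BlowUp.IsFiniteTypeIdeal 𝓘 ∧ (𝓘.support : Set X) = (W : Set X)ᶜ := by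
  classical
  let Z : Closeds X := ⟨(W : Set X)ᶜ, W.2.isClosed_compl⟩
  let I := Scheme.IdealSheafData.vanishingIdeal Z
  have hI : (I.support : Set X) = (W : Set X)ᶜ :=
    Scheme.IdealSheafData.coe_support_vanishingIdeal Z
  have key : ∀ x ∈ (W : Set X), ∃ J : X.IdealSheafData, J ≤ I ∧ FT J ∧ x ∉ J.support := by
    intro x hx
    obtain ⟨_, ⟨V, hV, rfl⟩, hxV, -⟩ :=
      X.isBasis_affineOpens.exists_subset_of_mem_open (Set.mem_univ x) isOpen_univ
    have hxI : x ∉ I.support := by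
      intro h
      have h' : x ∈ (I.support : Set X) := h
      rw [hI] at h'
      exact h' hx
    obtain ⟨c, hc, hxc⟩ := exists_mem_basicOpen_of_not_mem_support I ⟨V, hV⟩ x hxV hxI
    obtain ⟨J, hJI, hJft, hcJ⟩ := exists_ft_le_mem I ⟨V, hV⟩ c hc
    exact ⟨J, hJI, hJft, not_mem_support_of_mem_basicOpen J ⟨V, hV⟩ c hcJ x hxc⟩
  choose! J hJI hJft hJx using key
  have hcov : (W : Set X) ⊆ ⋃ x : W, ((J x.1).support : Set X)ᶜ := by
    intro x hx
    exact Set.mem_iUnion.mpr ⟨⟨x, hx⟩, hJx x hx⟩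
  obtain ⟨t, ht⟩ := hW.elim_finite_subcover (fun x : W => ((J x.1).support : Set X)ᶜ)
    (fun x => (J x.1).support.isClosed.isOpen_compl) hcov
  have hle : (t.sup fun x : W => J x.1) ≤ I := Finset.sup_le fun x _ => hJI x.1 x.2
  refine ⟨t.sup (fun x : W => J x.1), ?_, ?_⟩
  · have : FT (t.sup fun x : W => J x.1) := by
      refine Finset.sup_induction (p := FT) ft_bot (fun a ha b hb => ha.sup hb) ?_
      intro x _
      exact hJft x.1 x.2
    exact fun V => this V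
  · apply Set.Subset.antisymm
    · intro x hx hxW
      obtain ⟨y, hyt, hxy⟩ := Set.mem_iUnion₂.mp (ht hxW)
      have h1 : J y.1 ≤ t.sup fun x : W => J x.1 :=
        Finset.le_sup (f := fun x : W => J x.1) hyt
      exact hxy (Scheme.IdealSheafData.support_antitone h1 hx)
    · rw [← hI]
      intro x hx
      exact Scheme.IdealSheafData.support_antitone hle hx

/-- Local analysis: when `(𝓘₁ + 𝓘₂) 𝒪_{X'}` is effective Cartier, preimages of subsets of `V(𝓘₁)`,
`V(𝓘₂)` away from `V(𝓘₁ + 𝓘₂)` have disjoint closures. -/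
theorem disjoint_closure_of_effCartier_sup {X' : Scheme.{u}} (b : X' ⟶ X)
    (𝓘₁ 𝓘₂ : X.IdealSheafData) (hE : BlowUp.IsEffCartierIdeal ((𝓘₁ ⊔ 𝓘₂).comap b))
    (S₁ S₂ : Set X) (h₁ : S₁ ⊆ (𝓘₁.support : Set X)) (h₂ : S₂ ⊆ (𝓘₂.support : Set X))
    (hd₁ : Disjoint S₁ ((𝓘₁ ⊔ 𝓘₂).support : Set X))
    (hd₂ : Disjoint S₂ ((𝓘₁ ⊔ 𝓘₂).support : Set X)) :
    Disjoint (closure (b.base ⁻¹' S₁)) (closure (b.base ⁻¹' S₂)) := by
  rw [Set.disjoint_left]
  intro x hx₁ hx₂
  obtain ⟨V, hxV, t, ht, hVt⟩ := hE x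
  have hVt' : (𝓘₁.comap b).ideal V ⊔ (𝓘₂.comap b).ideal V = Ideal.span {t} := by
    rw [← hVt, Scheme.IdealSheafData.comap_sup]
    rfl
  have htmem : t ∈ (𝓘₁.comap b).ideal V ⊔ (𝓘₂.comap b).ideal V := by
    rw [hVt']
    exact Ideal.subset_span rfl
  obtain ⟨f, hf, g, hg, hfg⟩ := Submodule.mem_sup.mp htmem
  have hf' : f ∈ Ideal.span {t} := by
    rw [← hVt']
    exact Ideal.mem_sup_left hf
  have hg' : g ∈ Ideal.span {t} := by
    rw [← hVt']
    exact Ideal.mem_sup_right hg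
  obtain ⟨f', hf'e⟩ := Ideal.mem_span_singleton'.mp hf'
  obtain ⟨g', hg'e⟩ := Ideal.mem_span_singleton'.mp hg'
  have h1 : f' + g' = 1 := by
    have h2 : (f' + g') * t = 1 * t := by
      rw [add_mul, hf'e, hg'e, hfg, one_mul]
    exact (mul_cancel_right_mem_nonZeroDivisors ht).mp h2
  have hxor : x ∈ X'.basicOpen f' ∨ x ∈ X'.basicOpen g' := by
    rw [X'.mem_basicOpen f' x hxV, X'.mem_basicOpen g' x hxV]
    apply IsLocalRing.isUnit_or_isUnit_of_add_one
    rw [← map_add, h1, map_one]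
  -- the general claim
  have claim : ∀ (𝓙 : X.IdealSheafData) (S : Set X) (k k' : Γ(X', V.1)),
      𝓙 ≤ 𝓘₁ ⊔ 𝓘₂ → S ⊆ (𝓙.support : Set X) → Disjoint S ((𝓘₁ ⊔ 𝓘₂).support : Set X) →
      k ∈ (𝓙.comap b).ideal V → k' * t = k → x ∈ X'.basicOpen k' →
      x ∉ closure (b.base ⁻¹' S) := by
    intro 𝓙 S k k' _ hS hdS hk hk' hxk' hxcl
    obtain ⟨p, hpk', hpS⟩ := mem_closure_iff.mp hxcl _ (X'.basicOpen k').2 hxk'
    have hpV : p ∈ V.1 := X'.basicOpen_le k' hpk'
    have hpS' : b.base p ∈ S := hpS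
    -- p ∈ basicOpen t
    have hpt : p ∈ X'.basicOpen t := by
      have hpn : p ∉ ((𝓘₁ ⊔ 𝓘₂).comap b).support := by
        rw [Scheme.IdealSheafData.support_comap]
        intro hp
        exact Set.disjoint_left.mp hdS hpS' hp
      obtain ⟨c, hc, hpc⟩ := exists_mem_basicOpen_of_not_mem_support _ V p hpV hpn
      rw [hVt] at hc
      obtain ⟨c', rfl⟩ := Ideal.mem_span_singleton'.mp hc
      rw [Scheme.basicOpen_mul] at hpc
      exact hpc.2
    have hpk : p ∈ X'.basicOpen k := by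
      rw [← hk', Scheme.basicOpen_mul]
      exact ⟨hpk', hpt⟩
    have hpsupp : p ∈ (𝓙.comap b).support := by
      rw [Scheme.IdealSheafData.support_comap]
      exact hS hpS'
    exact not_mem_support_of_mem_basicOpen _ V k hk p hpk hpsupp
  rcases hxor with hxf | hxg
  · exact claim 𝓘₁ S₁ f f' le_sup_left h₁ hd₁ hf hf'e hxf hx₁
  · exact claim 𝓘₂ S₂ g g' le_sup_right h₂ hd₂ hg hg'e hxg hx₂

/-- Stacks 080P (2): disjoint closed constructible subsets of a quasi-compact open `U` of a qcqs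
scheme get disjoint closures after a `U`-admissible blow-up. -/
theorem exists_admissible_blowUp_separating [CompactSpace X] [QuasiSeparatedSpace X]
    (U : X.Opens) (hU : IsCompact (U : Set X)) (T₁ T₂ : Set U)
    (h₁ : IsClosed T₁) (h₂ : IsClosed T₂) (c₁ : IsConstructible T₁) (c₂ : IsConstructible T₂)
    (hd : Disjoint T₁ T₂) :
    ∃ (𝓘 : X.IdealSheafData) (X' : Scheme.{u}) (b : X' ⟶ X), BlowUp.IsBlowUp b 𝓘 ∧
      BlowUp.IsAdmissibleFor U 𝓘 ∧
      Disjoint (closure (b.base ⁻¹' (Subtype.val '' T₁)))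
        (closure (b.base ⁻¹' (Subtype.val '' T₂))) := by
  haveI : CompactSpace U := isCompact_iff_compactSpace.mp hU
  have key : ∀ T : Set U, IsClosed T → IsConstructible T → ∃ 𝓘 : X.IdealSheafData,
      BlowUp.IsFiniteTypeIdeal 𝓘 ∧ (𝓘.support : Set X) ∩ U = Subtype.val '' T := by
    intro T hT cT
    have hTc : IsCompact (Tᶜ : Set U) := isCompact_of_isConstructible cT.compl
    have hopen : IsOpen (Subtype.val '' Tᶜ : Set X) :=
      U.2.isOpenMap_subtype_val _ hT.isOpen_compl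
    let W : X.Opens := ⟨Subtype.val '' Tᶜ, hopen⟩
    have hWc : IsCompact (W : Set X) := hTc.image continuous_subtype_val
    obtain ⟨𝓘, hft, hsupp⟩ := exists_ft_support_eq_compl W hWc
    refine ⟨𝓘, hft, ?_⟩
    rw [hsupp]
    ext x
    constructor
    · rintro ⟨hxW, hxU⟩
      refine ⟨⟨x, hxU⟩, ?_, rfl⟩
      by_contra hxT
      exact hxW ⟨⟨x, hxU⟩, hxT, rfl⟩
    · rintro ⟨y, hy, rfl⟩
      refine ⟨?_, y.2⟩
      rintro ⟨z, hz, hzy⟩
      have hzy' : z = y := Subtype.ext hzy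
      rw [hzy'] at hz
      exact hz hy
  obtain ⟨𝓘₁, hft₁, hs₁⟩ := key T₁ h₁ c₁
  obtain ⟨𝓘₂, hft₂, hs₂⟩ := key T₂ h₂ c₂
  obtain ⟨X', b, hb⟩ := Groth.Agent.Lib.Helper2.BlowGlue.exists_isBlowUp X (𝓘₁ ⊔ 𝓘₂)
  have hdisj : Disjoint ((𝓘₁ ⊔ 𝓘₂).support : Set X) (U : Set X) := by
    rw [Set.disjoint_left]
    intro x hx hxU
    have hx' : x ∈ (𝓘₁.support : Set X) ∩ (𝓘₂.support : Set X) := by
      rw [← Closeds.coe_inf, ← Scheme.IdealSheafData.support_sup]
      exact hx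
    have hx1 : x ∈ (𝓘₁.support : Set X) ∩ U := ⟨hx'.1, hxU⟩
    have hx2 : x ∈ (𝓘₂.support : Set X) ∩ U := ⟨hx'.2, hxU⟩
    rw [hs₁] at hx1
    rw [hs₂] at hx2
    obtain ⟨y₁, hy₁, e₁⟩ := hx1
    obtain ⟨y₂, hy₂, e₂⟩ := hx2
    have hy : y₁ = y₂ := Subtype.ext (e₁.trans e₂.symm)
    rw [hy] at hy₁
    exact Set.disjoint_left.mp hd hy₁ hy₂
  refine ⟨𝓘₁ ⊔ 𝓘₂, X', b, hb, ⟨fun V => Submodule.FG.sup (hft₁ V) (hft₂ V), hdisj⟩, ?_⟩
  refine disjoint_closure_of_effCartier_sup b 𝓘₁ 𝓘₂ hb.1 _ _ ?_ ?_ ?_ ?_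
  · rw [← hs₁]
    exact Set.inter_subset_left
  · rw [← hs₂]
    exact Set.inter_subset_left
  · rw [Set.disjoint_left]
    rintro x ⟨y, _, rfl⟩ hx
    exact Set.disjoint_left.mp hdisj hx y.2
  · rw [Set.disjoint_left]
    rintro x ⟨y, _, rfl⟩ hx
    exact Set.disjoint_left.mp hdisj hx y.2

end Groth.Agent.Lib.Helper2.AdmSep
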