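import Mathlib
import Groth.Prelude.Def_BlowUp2
import Groth.Prelude.Def_W4c6modpairsegaMP
import Groth.Agent.Lib.Helper20BlowUp
import Groth.Agent.Lib.Helper2StrictTr
import Groth.Agent.Lib.Helper2AdmSep

/-!
# Extending a Zariski cover of the interior after an admissible blow-up (helper2)

Namespace `Groth.Agent.Lib.Helper2.AdmCover`.
* `exists_mem_basicOpen_of_sum`, `comap_finset_sup`, `ideal_finset_sup`.
* `isCompact_interior` : the interior of a qcqs modulus pair is quasi-compact.
* `exists_admissibleBlowUp_cover`.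
-/

set_option autoImplicit false
set_option linter.style.haveILetI false
universe u
open CategoryTheory CategoryTheory.Limits AlgebraicGeometry TopologicalSpace Topology

namespace Groth.Agent.Lib.Helper2.AdmCover

open Groth.Agent.Lib.Helper2.AdmSep Groth.Agent.Lib.Helper2.StrictTr

theorem exists_mem_basicOpen_of_sum {Y : Scheme.{u}} {W : Y.Opens} {κ : Type*} (s : Finset κ)
    (g : κ → Γ(Y, W)) (y : Y) (hy : y ∈ Y.basicOpen (∑ i ∈ s, g i)) :
    ∃ i ∈ s, y ∈ Y.basicOpen (g i) := by
  classical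
  induction s using Finset.induction_on with
  | empty =>
    rw [Finset.sum_empty, Scheme.basicOpen_zero] at hy
    exact absurd hy (by simp)
  | insert a s ha ih =>
    rw [Finset.sum_insert ha] at hy
    have hyW : y ∈ W := Y.basicOpen_le _ hy
    rw [Y.mem_basicOpen _ y hyW, map_add] at hy
    rcases IsLocalRing.isUnit_or_isUnit_of_isUnit_add hy with h | h
    · exact ⟨a, Finset.mem_insert_self _ _, (Y.mem_basicOpen _ y hyW).mpr h⟩
    · obtain ⟨i, hi, hyi⟩ := ih ((Y.mem_basicOpen _ y hyW).mpr h)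
      exact ⟨i, Finset.mem_insert_of_mem hi, hyi⟩

theorem comap_finset_sup {X Y : Scheme.{u}} (b : Y ⟶ X) {κ : Type*} (s : Finset κ)
    (G : κ → X.IdealSheafData) :
    (s.sup G).comap b = s.sup (fun i => (G i).comap b) := by
  classical
  induction s using Finset.induction_on with
  | empty => rw [Finset.sup_empty, Finset.sup_empty, Scheme.IdealSheafData.comap_bot]
  | insert a s ha ih =>
    rw [Finset.sup_insert, Finset.sup_insert, Scheme.IdealSheafData.comap_sup, ih]

theorem ideal_finset_sup {X : Scheme.{u}} {κ : Type*} (s : Finset κ)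
    (G : κ → X.IdealSheafData) (W : X.affineOpens) :
    (s.sup G).ideal W = s.sup (fun i => (G i).ideal W) := by
  classical
  induction s using Finset.induction_on with
  | empty => rw [Finset.sup_empty, Finset.sup_empty]; rfl
  | insert a s ha ih =>
    rw [Finset.sup_insert, Finset.sup_insert, ← ih]
    rfl

theorem isCompact_interior {S : Scheme.{u}} [CompactSpace S] (I : S.IdealSheafData)
    (hI : BlowUp.IsEffCartierIdeal I) : IsCompact ((ModPair.interior I : S.Opens) : Set S) := by
  haveI : IsAffineHom (ModPair.interior I).ι := isAffineHom_ι_compl hI _ rfl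
  haveI : CompactSpace ↥(ModPair.interior I : S.Opens) :=
    QuasiCompact.compactSpace_of_compactSpace (ModPair.interior I).ι
  exact isCompact_iff_compactSpace.mpr inferInstance

/-- After an admissible blow-up, a quasi-compact open cover of the interior of a qcqs modulus pair
extends to a quasi-compact open cover of the total space. -/
theorem exists_admissibleBlowUp_cover {S : Scheme.{u}} [CompactSpace S] [QuasiSeparatedSpace S]
    (I : S.IdealSheafData) (hI : BlowUp.IsEffCartierIdeal I) {ι : Type u} (V : ι → S.Opens)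
    (hVqc : ∀ i, IsCompact (V i : Set S))
    (hcov : ModPair.interior I ≤ ⨆ i, V i) :
    ∃ (F : S.IdealSheafData) (Y : Scheme.{u}) (b : Y ⟶ S) (κ : Type u) (W : κ → Y.Opens),
      BlowUp.IsAdmissibleFor (ModPair.interior I) F ∧ BlowUp.IsBlowUp b F ∧
        BlowUp.IsEffCartierIdeal (I.comap b) ∧ (∀ k, IsCompact (W k : Set Y)) ∧
        (⨆ k, W k) = ⊤ ∧ ∀ k, ∃ i, W k ⊓ b ⁻¹ᵁ ModPair.interior I ≤ b ⁻¹ᵁ V i := by
  classical
  have hUc := isCompact_interior I hI
  have hcov' : ((ModPair.interior I : S.Opens) : Set S) ⊆ ⋃ i, (V i : Set S) := by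
    intro x hx
    have h1 : x ∈ ⨆ i, V i := hcov hx
    obtain ⟨i, hi⟩ := Opens.mem_iSup.mp h1
    exact Set.mem_iUnion.mpr ⟨i, hi⟩
  obtain ⟨t, ht⟩ := hUc.elim_finite_subcover (fun i => (V i : Set S)) (fun i => (V i).2) hcov'
  choose G hGft hGsupp using fun i => exists_ft_support_eq_compl (V i) (hVqc i)
  have hFft : BlowUp.IsFiniteTypeIdeal (t.sup G) := by
    intro W
    rw [ideal_finset_sup]
    refine Finset.sup_induction (p := fun J : Ideal Γ(S, W.1) => J.FG) Submodule.fg_bot
      (fun a ha b hb => Submodule.FG.sup ha hb) ?_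
    intro i _
    exact hGft i W
  have hFdisj : Disjoint ((t.sup G).support : Set S) ((ModPair.interior I : S.Opens) : Set S) := by
    rw [Set.disjoint_left]
    intro x hxF hxU
    obtain ⟨i, hit, hxi⟩ := Set.mem_iUnion₂.mp (ht hxU)
    have h1 : G i ≤ t.sup G := Finset.le_sup (f := G) hit
    have h3 : x ∈ ((G i).support : Set S) := Scheme.IdealSheafData.support_antitone h1 hxF
    rw [hGsupp i] at h3
    exact h3 hxi
  obtain ⟨Y, b, hb⟩ := Groth.Agent.Lib.Helper2.BlowGlue.exists_isBlowUp S (t.sup G)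
  have hIb := Groth.Agent.Lib.Helper20.BlowUpBasic.isEffCartierIdeal_comap (t.sup G) b hb I hI
  have key : ∀ y : Y, ∃ W' : Y.Opens, IsCompact (W' : Set Y) ∧ y ∈ W' ∧
      ∃ i, W' ⊓ b ⁻¹ᵁ ModPair.interior I ≤ b ⁻¹ᵁ V i := by
    intro y
    obtain ⟨W, hyW, τ, hτ, hWτ⟩ := hb.1 y
    have hsup : ((t.sup G).comap b).ideal W = t.sup (fun i => ((G i).comap b).ideal W) := by
      rw [comap_finset_sup, ideal_finset_sup]
    have hτmem : τ ∈ ⨆ i ∈ t, ((G i).comap b).ideal W := by
      rw [← Finset.sup_eq_iSup, ← hsup, hWτ]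
      exact Ideal.subset_span rfl
    obtain ⟨μ, hμ⟩ := (Submodule.mem_iSup_finset_iff_exists_sum _ _).mp hτmem
    have hdiv : ∀ i, i ∈ t → ∃ c : Γ(Y, W.1), c * τ = (μ i : Γ(Y, W.1)) := by
      intro i hi
      have h1 : (G i).comap b ≤ (t.sup G).comap b :=
        Scheme.IdealSheafData.comap_mono b (Finset.le_sup (f := G) hi)
      have h2 : ((μ i : Γ(Y, W.1))) ∈ ((t.sup G).comap b).ideal W := h1 W (μ i).2
      rw [hWτ] at h2
      exact Ideal.mem_span_singleton'.mp h2
    choose! c hc using hdiv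
    have hsum : (∑ i ∈ t, c i) = 1 := by
      have h1 : (∑ i ∈ t, c i) * τ = 1 * τ := by
        rw [Finset.sum_mul, one_mul]
        rw [Finset.sum_congr rfl (fun i hi => hc i hi)]
        exact hμ
      exact (mul_cancel_right_mem_nonZeroDivisors hτ).mp h1
    have hy1 : y ∈ Y.basicOpen (∑ i ∈ t, c i) := by
      rw [hsum, Y.basicOpen_of_isUnit isUnit_one]
      exact hyW
    obtain ⟨i, hit, hyi⟩ := exists_mem_basicOpen_of_sum t c y hy1
    refine ⟨Y.basicOpen (c i), (W.2.basicOpen (c i)).isCompact, hyi, i, ?_⟩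
    rintro p ⟨hp1, hp2⟩
    have hpW : p ∈ W.1 := Y.basicOpen_le _ hp1
    have hp2' : b p ∈ ((ModPair.interior I : S.Opens) : Set S) := hp2
    -- p lies in `basicOpen τ`
    have hpτ : p ∈ Y.basicOpen τ := by
      have hpn : p ∉ ((t.sup G).comap b).support := by
        rw [Scheme.IdealSheafData.support_comap]
        intro hp
        exact Set.disjoint_left.mp hFdisj hp hp2'
      obtain ⟨c', hc', hpc'⟩ := exists_mem_basicOpen_of_not_mem_support _ W p hpW hpn
      rw [hWτ] at hc'
      obtain ⟨c'', rfl⟩ := Ideal.mem_span_singleton'.mp hc'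
      rw [Scheme.basicOpen_mul] at hpc'
      exact hpc'.2
    have hpμ : p ∈ Y.basicOpen (μ i : Γ(Y, W.1)) := by
      rw [← hc i hit, Scheme.basicOpen_mul]
      exact ⟨hp1, hpτ⟩
    have hpn : p ∉ ((G i).comap b).support :=
      not_mem_support_of_mem_basicOpen _ W _ (μ i).2 p hpμ
    rw [Scheme.IdealSheafData.support_comap] at hpn
    by_contra hpV
    apply hpn
    show b p ∈ ((G i).support : Set S)
    rw [hGsupp i]
    exact hpV
  choose W' h1 h2 h3 using key
  refine ⟨t.sup G, Y, b, Y, W', ⟨hFft, hFdisj⟩, hb, hIb, h1, ?_, h3⟩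
  rw [eq_top_iff]
  intro y _
  exact Opens.mem_iSup.mpr ⟨y, h2 y⟩

end Groth.Agent.Lib.Helper2.AdmCover
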