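import Mathlib
import Groth.Prelude.Def_BlowUp2
import Groth.Agent.Lib.Helper22FTIdeal
import Groth.Agent.Lib.Helper2ECLocal
import Groth.Agent.Lib.Helper2BlowLocal

/-!
# Extending an admissible ideal from a quasi-compact open (helper2)

Namespace `Groth.Agent.Lib.Helper2.AdmExt`.
* `quasiCompact_ι_of_isCompact`
* `ker_comp_ι_comap` : for an ideal sheaf `𝓘` on the open `V`, the kernel `J` of `V(𝓘) ⟶ V ⟶ X`
  restricts to `𝓘` on `V`.
* `exists_admissible_extension`.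
-/

set_option autoImplicit false
set_option linter.style.haveILetI false
universe u
open CategoryTheory CategoryTheory.Limits AlgebraicGeometry TopologicalSpace

namespace Groth.Agent.Lib.Helper2.AdmExt

open Groth.Agent.Lib.Helper22.FTIdeal Groth.Agent.Lib.Helper2.ECLocal
open Groth.Agent.Lib.Helper2.BlowLocal

variable {X : Scheme.{u}}

theorem quasiCompact_ι_of_isCompact [QuasiSeparatedSpace X] (V : X.Opens)
    (hV : IsCompact (V : Set X)) : QuasiCompact V.ι := by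
  rw [quasiCompact_iff_forall_isAffineOpen]
  intro W hW
  rw [V.ι.isEmbedding.isCompact_iff, Scheme.Hom.coe_preimage, Set.image_preimage_eq_inter_range,
    Scheme.Opens.range_ι]
  exact hW.isCompact.inter_of_isOpen hV W.isOpen V.isOpen

/-- the kernel of `V(𝓘) ⟶ V ⟶ X` restricts to `𝓘` on `V` -/
theorem ker_comp_ι_comap (V : X.Opens) [QuasiCompact V.ι]
    (𝓘 : (V : Scheme.{u}).IdealSheafData) :
    (𝓘.subschemeι ≫ V.ι).ker.comap V.ι = 𝓘 := by
  have sq : IsPullback 𝓘.subschemeι (𝟙 _) V.ι (𝓘.subschemeι ≫ V.ι) :=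
    IsPullback.of_vert_isIso_mono ⟨by rw [Category.id_comp]⟩
  ext W : 2
  rw [Scheme.IdealSheafData.ideal_comap_of_isOpenImmersion]
  have h := Scheme.ker_ideal_of_isPullback_of_isOpenImmersion (𝓘.subschemeι ≫ V.ι) 𝓘.subschemeι
    (𝟙 _) V.ι sq W
  rw [Scheme.IdealSheafData.ker_subschemeι] at h
  exact h.symm

/-- the kernel of `V(𝓘) ⟶ V ⟶ X` is trivial away from the image of the support -/
theorem ker_comp_ι_ideal_eq_top (V : X.Opens) [QuasiCompact V.ι]
    (𝓘 : (V : Scheme.{u}).IdealSheafData) (U : X.Opens)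
    (hdis : Disjoint (𝓘.support : Set V) (V.ι ⁻¹ᵁ U : Set V)) (W : X.affineOpens)
    (hW : W.1 ≤ U) : (𝓘.subschemeι ≫ V.ι).ker.ideal W = ⊤ := by
  apply ideal_eq_top_of_disjoint
  rw [Scheme.Hom.support_ker, Set.disjoint_right]
  intro x hx hxW
  have hcl : closure (Set.range (𝓘.subschemeι ≫ V.ι)) ⊆ (U : Set X)ᶜ := by
    apply closure_minimal _ U.isOpen.isClosed_compl
    rintro _ ⟨z, rfl⟩ hzU
    have hz : 𝓘.subschemeι z ∈ (𝓘.support : Set V) := by
      rw [← Scheme.IdealSheafData.range_subschemeι]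
      exact ⟨z, rfl⟩
    exact (Set.disjoint_left.1 hdis) hz hzU
  exact hcl hx (hW hxW)

theorem fg_of_comap_ι (V : X.Opens) (J : X.IdealSheafData)
    (h : BlowUp.IsFiniteTypeIdeal (J.comap V.ι)) (W : X.affineOpens) (hW : W.1 ≤ V) :
    (J.ideal W).FG := by
  have hWr : W.1 ≤ V.ι.opensRange := by
    rw [Scheme.Opens.opensRange_ι]
    exact hW
  have hW' : IsAffineOpen (V.ι ⁻¹ᵁ W.1) := W.2.preimage_of_isOpenImmersion V.ι hWr
  have hiso : IsIso (V.ι.app W.1) := Scheme.Hom.isIso_app V.ι W.1 hWr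
  have h1 := h ⟨V.ι ⁻¹ᵁ W.1, hW'⟩
  rw [Groth.Agent.Lib.Helper20.EffCartier.ideal_comap_eq_map V.ι J hW' W.2 le_rfl,
    Scheme.Hom.appLE_eq_app] at h1
  have h2 := h1.map (inv (V.ι.app W.1)).hom
  rw [Ideal.map_map, ← CommRingCat.hom_comp, IsIso.hom_inv_id] at h2
  have h3 : (J.ideal W).map (CommRingCat.Hom.hom (𝟙 Γ(X, W.1))) = J.ideal W := Ideal.map_id _
  rw [h3] at h2
  exact h2

/-- Stacks 080N-like: an ideal of finite type on a quasi-compact open `V` with support disjoint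
from `U ∩ V` extends to an ideal of finite type on `X` with support disjoint from `U`. -/
theorem exists_admissible_extension [CompactSpace X] [QuasiSeparatedSpace X] (U V : X.Opens)
    (hU : IsCompact (U : Set X)) (hV : IsCompact (V : Set X))
    (𝓘 : (V : Scheme.{u}).IdealSheafData) (h𝓘 : BlowUp.IsAdmissibleFor (V.ι ⁻¹ᵁ U) 𝓘) :
    ∃ 𝓙 : X.IdealSheafData, BlowUp.IsAdmissibleFor U 𝓙 ∧ 𝓙.comap V.ι = 𝓘 := by
  classical
  haveI : QuasiCompact V.ι := quasiCompact_ι_of_isCompact V hV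
  obtain ⟨J, hJdef⟩ : ∃ J, J = (𝓘.subschemeι ≫ V.ι).ker := ⟨_, rfl⟩
  have hJV : J.comap V.ι = 𝓘 := by
    rw [hJdef]
    exact ker_comp_ι_comap V 𝓘
  have hJU : ∀ W : X.affineOpens, W.1 ≤ U → J.ideal W = ⊤ := by
    intro W hW
    rw [hJdef]
    exact ker_comp_ι_ideal_eq_top V 𝓘 U h𝓘.2 W hW
  have hFT : FTOn J (U ⊔ V) := by
    apply FTOn.sup
    · intro W hW
      rw [hJU W hW]
      exact ⟨{1}, by simp⟩
    · intro W hW
      apply fg_of_comap_ι V J _ W hW
      rw [hJV]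
      exact h𝓘.1
  obtain ⟨s, hs, hsX⟩ := isCompact_iff_finite_and_eq_biUnion_affineOpens.mp
    (show IsCompact ((⊤ : X.Opens) : Set X) from isCompact_univ)
  have hUV : IsCompact ((U ⊔ V : X.Opens) : Set X) := by
    rw [Opens.coe_sup]
    exact hU.union hV
  obtain ⟨J', hJ'le, hJ'ft, hJ'eq⟩ := extend_finset hs.toFinset J _ hUV hFT
  have hFT' : FT J' := by
    rw [ft_iff_ftOn_top]
    refine hJ'ft.mono ?_
    refine le_sup_of_le_right ?_
    rw [hsX]
    simp
  refine ⟨J', ⟨hFT', ?_⟩, ?_⟩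
  · rw [Set.disjoint_left]
    intro x hxs hxU
    obtain ⟨W, hW, hxW, hWU⟩ := exists_isAffineOpen_mem_and_subset (x := x) (U := U) hxU
    have h1 : J'.ideal ⟨W, hW⟩ = ⊤ := by
      rw [hJ'eq ⟨W, hW⟩ (le_trans hWU le_sup_left)]
      exact hJU ⟨W, hW⟩ hWU
    have h2 := (Scheme.IdealSheafData.mem_support_iff_of_mem (I := J') (U := ⟨W, hW⟩) hxW).1 hxs
    rw [h1] at h2
    simp at h2
    exact h2 hxW
  · rw [← hJV]
    ext W : 2
    rw [Scheme.IdealSheafData.ideal_comap_of_isOpenImmersion,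
      Scheme.IdealSheafData.ideal_comap_of_isOpenImmersion]
    rw [hJ'eq ⟨V.ι ''ᵁ W.1, W.2.image_of_isOpenImmersion V.ι⟩ ?_]
    refine le_trans ?_ le_sup_right
    rintro _ ⟨y, -, rfl⟩
    exact y.2

end Groth.Agent.Lib.Helper2.AdmExt
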