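import Mathlib
import Groth.Prelude.Def_W4stkschemesremainderFib
import Groth.Prelude.Def_Mor2

/-!
# Degrees of fibres: library for the `BddFib` cluster (helper2)
-/

set_option autoImplicit false
universe u v

open CategoryTheory CategoryTheory.Limits AlgebraicGeometry

namespace Groth.Agent.Lib.Helper2.BddFib

open _root_.BddFib

/-- the structure map `K → Γ(T)` of a scheme over `Spec K`. -/
noncomputable abbrev sm (K : Type u) [Field K] {T : Scheme.{u}} (p : T ⟶ Spec (CommRingCat.of K)) :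
    K →+* Γ(T, ⊤) :=
  ((Scheme.ΓSpecIso (CommRingCat.of K)).inv ≫ p.appTop).hom

theorem sm_comp (K : Type u) [Field K] {T T' : Scheme.{u}} (m : T' ⟶ T)
    (p : T ⟶ Spec (CommRingCat.of K)) (k : K) :
    sm K (m ≫ p) k = m.appTop.hom (sm K p k) := by
  simp [sm]

theorem fdl_of_surjective (K : Type u) [Field K] {T : Scheme.{u}}
    (p : T ⟶ Spec (CommRingCat.of K)) [IsAffine T] (n : ℕ)
    (R : Type u) [CommRing R] [Algebra K R] [Module.Finite K R] (hR : Module.finrank K R ≤ n)
    (e : R →+* Γ(T, ⊤)) (hs : Function.Surjective e)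
    (he : ∀ k : K, e (algebraMap K R k) = sm K p k) :
    FiniteOfDegLE (CommRingCat.of K) p n := by
  letI : Algebra K Γ(T, ⊤) := secAlgebra (CommRingCat.of K) p
  let e' : R →ₗ[K] Γ(T, ⊤) :=
    { toFun := e
      map_add' := map_add e
      map_smul' := fun k r => by
        rw [Algebra.smul_def, map_mul, he, RingHom.id_apply, Algebra.smul_def]
        rfl }
  have hs' : Function.Surjective e' := hs
  refine ⟨inferInstance, Module.Finite.of_surjective e' hs', ?_⟩
  exact (LinearMap.finrank_le_finrank_of_surjective hs').trans hR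

theorem fdl_of_injective (K : Type u) [Field K] {T : Scheme.{u}}
    (p : T ⟶ Spec (CommRingCat.of K)) [IsAffine T] (n : ℕ)
    (R : Type u) [CommRing R] [Algebra K R] [Module.Finite K R] (hR : Module.finrank K R ≤ n)
    (e : Γ(T, ⊤) →+* R) (hs : Function.Injective e)
    (he : ∀ k : K, e (sm K p k) = algebraMap K R k) :
    FiniteOfDegLE (CommRingCat.of K) p n := by
  letI : Algebra K Γ(T, ⊤) := secAlgebra (CommRingCat.of K) p
  let e' : Γ(T, ⊤) →ₗ[K] R :=
    { toFun := e
      map_add' := map_add e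
      map_smul' := fun k r => by
        rw [Algebra.smul_def, map_mul, RingHom.id_apply, Algebra.smul_def]
        congr 1
        exact he k }
  have hs' : Function.Injective e' := hs
  refine ⟨inferInstance, Module.Finite.of_injective e' hs', ?_⟩
  haveI := Module.Finite.of_injective e' hs'
  exact (LinearMap.finrank_le_finrank_of_injective hs').trans hR

/-- unfolding `FiniteOfDegLE`. -/
theorem fdl_iff (K : Type u) [Field K] {T : Scheme.{u}} (p : T ⟶ Spec (CommRingCat.of K)) (n : ℕ) :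
    FiniteOfDegLE (CommRingCat.of K) p n ↔
      letI : Algebra K Γ(T, ⊤) := (sm K p).toAlgebra
      IsAffine T ∧ Module.Finite K Γ(T, ⊤) ∧ Module.finrank K Γ(T, ⊤) ≤ n := Iff.rfl


/-- A scheme finite over a field is finite and discrete. -/
theorem finite_discrete_of_fdl (K : Type u) [Field K] {T : Scheme.{u}}
    (p : T ⟶ Spec (CommRingCat.of K)) (n : ℕ) (h : FiniteOfDegLE (CommRingCat.of K) p n) :
    Finite T ∧ DiscreteTopology T := by
  rw [fdl_iff] at h
  letI : Algebra K Γ(T, ⊤) := (sm K p).toAlgebra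
  obtain ⟨haff, hfin, -⟩ := h
  have hart : IsArtinianRing Γ(T, ⊤) := IsArtinianRing.of_finite K _
  let e : T ≃ₜ PrimeSpectrum Γ(T, ⊤) := T.isoSpec.hom.homeomorph
  exact ⟨e.finite_iff.mpr inferInstance, e.discreteTopology_iff.mpr inferInstance⟩  

theorem fdl_openImm (K : Type u) [Field K] {P P' : Scheme.{u}} (m : P' ⟶ P) [IsOpenImmersion m]
    (p : P ⟶ Spec (CommRingCat.of K)) (n : ℕ) (h : FiniteOfDegLE (CommRingCat.of K) p n) :
    FiniteOfDegLE (CommRingCat.of K) (m ≫ p) n := by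
  obtain ⟨hfin, hdisc⟩ := finite_discrete_of_fdl K p n h
  rw [fdl_iff] at h
  letI : Algebra K Γ(P, ⊤) := (sm K p).toAlgebra
  obtain ⟨haff, hfinm, hrk⟩ := h
  have hcl : IsClosedImmersion m := IsClosedImmersion.of_isPreimmersion m (isClosed_discrete _)
  obtain ⟨haff', hsurj⟩ := IsClosedImmersion.isAffine_surjective_of_isAffine m
  exact fdl_of_surjective K (m ≫ p) n Γ(P, ⊤) hrk m.appTop.hom hsurj (fun k => (sm_comp K m p k).symm)

theorem fdl_iso (K : Type u) [Field K] {P P' : Scheme.{u}} (e : P' ≅ P)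
    (p : P ⟶ Spec (CommRingCat.of K)) (p' : P' ⟶ Spec (CommRingCat.of K)) (hp : e.hom ≫ p = p')
    (n : ℕ) (h : FiniteOfDegLE (CommRingCat.of K) p n) :
    FiniteOfDegLE (CommRingCat.of K) p' n := by
  rw [← hp]
  exact fdl_openImm K e.hom p n h

theorem fdl_of_isEmpty (K : Type u) [Field K] {P : Scheme.{u}} [IsEmpty P]
    (p : P ⟶ Spec (CommRingCat.of K)) (n : ℕ) : FiniteOfDegLE (CommRingCat.of K) p n := by
  rw [fdl_iff]
  letI : Algebra K Γ(P, ⊤) := (sm K p).toAlgebra
  have hss : Subsingleton Γ(P, ⊤) := by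
    have : (⊤ : P.Opens) = ⊥ := by
      ext x
      exact isEmptyElim x
    rw [this]
    infer_instance
  refine ⟨inferInstance, inferInstance, ?_⟩
  rw [Module.finrank_zero_of_subsingleton]
  exact Nat.zero_le n


theorem fdl_of_cover (K : Type u) [Field K] {P : Scheme.{u}} (p : P ⟶ Spec (CommRingCat.of K))
    {ι : Type u} [Fintype ι] (W : ι → Scheme.{u}) (m : ∀ i, W i ⟶ P) [∀ i, IsOpenImmersion (m i)]
    (hcov : ∀ x : P, ∃ i, x ∈ Set.range (m i)) (d : ι → ℕ)
    (h : ∀ i, FiniteOfDegLE (CommRingCat.of K) (m i ≫ p) (d i)) :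
    FiniteOfDegLE (CommRingCat.of K) p (∑ i, d i) := by
  have hfd : ∀ i, Finite (W i) ∧ DiscreteTopology (W i) :=
    fun i => finite_discrete_of_fdl K _ _ (h i)
  have hfinP : Finite P := by
    have : ∀ i, Finite (W i) := fun i => (hfd i).1
    let F : (Σ i, W i) → P := fun x => m x.1 x.2
    have hF : Function.Surjective F := by
      intro x
      obtain ⟨i, w, hw⟩ := hcov x
      exact ⟨⟨i, w⟩, hw⟩
    exact Finite.of_surjective F hF
  have hdiscP : DiscreteTopology P := by
    rw [discreteTopology_iff_isOpen_singleton]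
    intro x
    obtain ⟨i, w, rfl⟩ := hcov x
    have := (hfd i).2
    have hop : IsOpen ((m i) '' {w}) := (m i).isOpenEmbedding.isOpenMap _ (isOpen_discrete _)
    rwa [Set.image_singleton] at hop
  have haff : IsAffine P := inferInstance
  letI : ∀ i, Algebra K Γ(W i, ⊤) := fun i => (sm K (m i ≫ p)).toAlgebra
  have hfin : ∀ i, Module.Finite K Γ(W i, ⊤) := fun i => ((fdl_iff K _ _).mp (h i)).2.1
  have hrk : ∀ i, Module.finrank K Γ(W i, ⊤) ≤ d i := fun i => ((fdl_iff K _ _).mp (h i)).2.2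
  let e : Γ(P, ⊤) →+* (∀ i, Γ(W i, ⊤)) := RingHom.pi (fun i => (m i).appTop.hom)
  have hinj : Function.Injective e := by
    intro a b hab
    let 𝒰 : P.OpenCover := Scheme.Cover.mkOfCovers ι W m (fun x => by
      obtain ⟨i, w, hw⟩ := hcov x
      exact ⟨i, w, hw⟩)
    apply 𝒰.ext_elem
    intro i
    exact congrFun hab i
  refine fdl_of_injective K p _ (∀ i, Γ(W i, ⊤)) ?_ e hinj ?_
  · rw [Module.finrank_pi_fintype]
    exact Finset.sum_le_sum (fun i _ => hrk i)
  · intro k
    funext i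
    exact (sm_comp K (m i) p k).symm

theorem fdl_Spec (K : Type u) [Field K] (R : Type u) [CommRing R] [Algebra K R] [Module.Finite K R]
    (n : ℕ) (hR : Module.finrank K R ≤ n) :
    FiniteOfDegLE (CommRingCat.of K) (Spec.map (CommRingCat.ofHom (algebraMap K R))) n := by
  refine fdl_of_surjective K _ n R hR (Scheme.ΓSpecIso (CommRingCat.of R)).inv.hom
    (ConcreteCategory.bijective_of_isIso (Scheme.ΓSpecIso (CommRingCat.of R)).inv).2 ?_
  intro k
  have := Scheme.ΓSpecIso_inv_naturality (CommRingCat.ofHom (algebraMap K R))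
  exact congrArg (fun φ => φ.hom k) this


/-- all field-valued fibres are finite of degree `≤ n`. -/
def DegLE {X Y : Scheme.{u}} (f : X ⟶ Y) (n : ℕ) : Prop :=
  ∀ (K : Type u) [Field K] (g : Spec (CommRingCat.of K) ⟶ Y),
    FiniteOfDegLE (CommRingCat.of K) (pullback.snd f g) n

theorem DegLE.openImm_comp {W T Y : Scheme.{u}} (j : W ⟶ T) [IsOpenImmersion j] (π : T ⟶ Y)
    {d : ℕ} (h : DegLE π d) : DegLE (j ≫ π) d := by
  intro K _ g
  let m : pullback (j ≫ π) g ⟶ pullback π g :=
    pullback.map _ _ _ _ j (𝟙 _) (𝟙 _) (by simp) (by simp)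
  have hm : m ≫ pullback.snd π g = pullback.snd (j ≫ π) g := by
    simp only [m, pullback.map]
    rw [pullback.lift_snd, Category.comp_id]
  rw [← hm]
  exact fdl_openImm K m _ d (h K g)

theorem DegLE.comp_openImm {X V Y : Scheme.{u}} (f' : X ⟶ V) (i : V ⟶ Y) [IsOpenImmersion i]
    {d : ℕ} (h : DegLE f' d) : DegLE (f' ≫ i) d := by
  intro K _ g
  by_cases hne : Nonempty ↥(pullback (f' ≫ i) g)
  · obtain ⟨z⟩ := hne
    have hsub : Subsingleton ↥(Spec (CommRingCat.of K)) :=
      inferInstanceAs (Subsingleton (PrimeSpectrum K))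
    have hr : Set.range g ⊆ Set.range i := by
      rintro _ ⟨pt, rfl⟩
      have : pt = pullback.snd (f' ≫ i) g z := Subsingleton.elim _ _
      rw [this, ← Scheme.Hom.comp_apply, ← pullback.condition]
      exact ⟨f' (pullback.fst (f' ≫ i) g z), by simp⟩
    let g' := IsOpenImmersion.lift i g hr
    have hg' : g' ≫ i = g := IsOpenImmersion.lift_fac _ _ _
    let inv : pullback (f' ≫ i) g ⟶ pullback f' g' :=
      pullback.lift (pullback.fst _ _) (pullback.snd _ _)
        (by rw [← cancel_mono i]; simp [hg', pullback.condition])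
    let hom : pullback f' g' ⟶ pullback (f' ≫ i) g :=
      pullback.lift (pullback.fst _ _) (pullback.snd _ _)
        (by rw [← hg', ← Category.assoc, pullback.condition, Category.assoc])
    have hih : inv ≫ hom = 𝟙 _ := by
      apply pullback.hom_ext
      · simp only [inv, hom, Category.assoc, Category.id_comp]
        rw [pullback.lift_fst, pullback.lift_fst]
      · simp only [inv, hom, Category.assoc, Category.id_comp]
        rw [pullback.lift_snd, pullback.lift_snd]
    have hhi : hom ≫ inv = 𝟙 _ := by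
      apply pullback.hom_ext
      · simp only [inv, hom, Category.assoc, Category.id_comp]
        rw [pullback.lift_fst, pullback.lift_fst]
      · simp only [inv, hom, Category.assoc, Category.id_comp]
        rw [pullback.lift_snd, pullback.lift_snd]
    let e : pullback (f' ≫ i) g ≅ pullback f' g' := ⟨inv, hom, hih, hhi⟩
    refine fdl_iso K e (pullback.snd f' g') _ ?_ d (h K g')
    exact pullback.lift_snd _ _ _
  · rw [not_nonempty_iff] at hne
    exact fdl_of_isEmpty K _ d

theorem DegLE.of_family {ι : Type u} [Fintype ι] {X Y : Scheme.{u}} (f : X ⟶ Y)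
    (W : ι → Scheme.{u}) (h : ∀ i, W i ⟶ X) [∀ i, IsOpenImmersion (h i)]
    (hcov : ∀ x : X, ∃ i, x ∈ Set.range (h i)) (d : ι → ℕ)
    (hB : ∀ i, DegLE (h i ≫ f) (d i)) : DegLE f (∑ i, d i) := by
  intro K _ g
  let m : ∀ i, pullback (h i ≫ f) g ⟶ pullback f g := fun i =>
    pullback.map _ _ _ _ (h i) (𝟙 _) (𝟙 _) (by simp) (by simp)
  have hm : ∀ i, m i ≫ pullback.snd f g = pullback.snd (h i ≫ f) g := by
    intro i
    simp only [m, pullback.map]
    rw [pullback.lift_snd, Category.comp_id]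
  have hmf : ∀ i, m i ≫ pullback.fst f g = pullback.fst (h i ≫ f) g ≫ h i := by
    intro i
    simp only [m, pullback.map]
    rw [pullback.lift_fst]
  refine fdl_of_cover K (pullback.snd f g) (fun i => pullback (h i ≫ f) g) m ?_ d ?_
  · intro z
    obtain ⟨i, w, hw⟩ := hcov (pullback.fst f g z)
    obtain ⟨z', -, hz'⟩ := Scheme.Pullback.exists_preimage_pullback (f := h i)
      (g := pullback.fst f g) w z hw
    let e := pullbackRightPullbackFstIso f g (h i)
    refine ⟨i, e.hom z', ?_⟩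
    have hem : e.hom ≫ m i = pullback.snd (h i) (pullback.fst f g) := by
      apply pullback.hom_ext
      · rw [Category.assoc, hmf, ← Category.assoc, pullbackRightPullbackFstIso_hom_fst,
          pullback.condition]
      · rw [Category.assoc, hm, pullbackRightPullbackFstIso_hom_snd]
    rw [← Scheme.Hom.comp_apply, hem]
    exact hz'
  · intro i
    rw [hm i]
    exact hB i K g

open TensorProduct in
theorem DegLE_finite_Spec (A B' : Type u) [CommRing A] [CommRing B'] [Algebra A B'] (s : Finset B')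
    (hs : Submodule.span A (s : Set B') = ⊤) :
    DegLE (Spec.map (CommRingCat.ofHom (algebraMap A B'))) s.card := by
  classical
  intro K _ g
  obtain ⟨ψ, rfl⟩ := Spec.map_surjective g
  letI : Algebra A K := ψ.hom.toAlgebra
  have hψ : ψ = CommRingCat.ofHom (algebraMap A K) := rfl
  rw [hψ]
  let e := pullbackSymmetry (Spec.map (CommRingCat.ofHom (algebraMap A B')))
    (Spec.map (CommRingCat.ofHom (algebraMap A K))) ≪≫ pullbackSpecIso A K B'
  have hfin : Module.Finite A B' := ⟨⟨s, hs⟩⟩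
  have hspan : Submodule.span K ((s.image (TensorProduct.mk A K B' 1) : Finset _) :
      Set (K ⊗[A] B')) = ⊤ := by
    rw [Finset.coe_image, ← Submodule.baseChange_span, hs, Submodule.baseChange_top]
  have hrk : Module.finrank K (K ⊗[A] B') ≤ s.card := by
    calc Module.finrank K (K ⊗[A] B') = Module.finrank K (⊤ : Submodule K (K ⊗[A] B')) :=
          (finrank_top K _).symm
      _ = Module.finrank K (Submodule.span K ((s.image (TensorProduct.mk A K B' 1) : Finset _) :
        Set (K ⊗[A] B'))) := by rw [hspan]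
      _ ≤ (s.image (TensorProduct.mk A K B' 1)).card := finrank_span_finset_le_card _
      _ ≤ s.card := Finset.card_image_le
  refine fdl_iso K e _ _ ?_ s.card (fdl_Spec K (K ⊗[A] B') s.card hrk)
  simp only [e, Iso.trans_hom, Category.assoc]
  rw [← pullbackSpecIso_inv_fst, Iso.hom_inv_id_assoc, pullbackSymmetry_hom_comp_fst]


theorem DegLE_affine_qf {A B : CommRingCat.{u}} (φ : A ⟶ B) (hft : φ.hom.FiniteType)
    (hqf : φ.hom.QuasiFinite) : ∃ d, DegLE (Spec.map φ) d := by
  algebraize [φ.hom]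
  have key : ∀ q : PrimeSpectrum B, ∃ (S' : Subalgebra A B) (r : S'), S'.toSubmodule.FG ∧
      r.1 ∉ q.asIdeal ∧ Function.Bijective (Localization.awayMap S'.val.toRingHom r) := by
    intro q
    obtain ⟨S', h1, r, h2, h3⟩ :=
      Algebra.QuasiFiniteAt.exists_fg_and_exists_notMem_and_awayMap_bijective (R := A) q.asIdeal
    exact ⟨S', r, h1, h2, h3⟩
  choose S' r hfg hr hbij using key
  have hcov : (Set.univ : Set (PrimeSpectrum B)) ⊆
      ⋃ q, (PrimeSpectrum.basicOpen (r q).1 : Set (PrimeSpectrum B)) := by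
    intro q _
    simp only [Set.mem_iUnion]
    exact ⟨q, hr q⟩
  obtain ⟨t, ht⟩ := isCompact_univ.elim_finite_subcover _
    (fun q => (PrimeSpectrum.basicOpen (r q).1).isOpen) hcov
  have hgen : ∀ q, ∃ s : Finset (S' q), Submodule.span A (s : Set (S' q)) = ⊤ := by
    intro q
    have : Module.Finite A (S' q) := Module.Finite.iff_fg.mpr (hfg q)
    exact Module.Finite.fg_top
  choose gen hgen using hgen
  refine ⟨∑ q : {q // q ∈ t}, (gen q.1).card, ?_⟩
  apply DegLE.of_family (ι := {q // q ∈ t}) (Spec.map φ)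
    (fun q => Spec (CommRingCat.of (Localization.Away (r q.1).1)))
    (fun q => Spec.map (CommRingCat.ofHom (algebraMap B (Localization.Away (r q.1).1))))
  · intro x
    obtain ⟨q, hq, hx⟩ : ∃ q ∈ t, (r q).1 ∉ x.asIdeal := by
      simpa using ht (Set.mem_univ x)
    refine ⟨⟨q, hq⟩, ?_⟩
    have := PrimeSpectrum.localization_away_comap_range (Localization.Away (r q).1) (r q).1
    exact (eq_iff_iff.mp congr(x ∈ $this)).mpr hx
  · rintro ⟨q, hq⟩
    have hfac : Spec.map (CommRingCat.ofHom (algebraMap B (Localization.Away (r q).1))) ≫ Spec.map φ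
        = Spec.map (CommRingCat.ofHom (Localization.awayMap (S' q).val.toRingHom (r q))) ≫
          Spec.map (CommRingCat.ofHom (algebraMap (S' q) (Localization.Away (r q)))) ≫
          Spec.map (CommRingCat.ofHom (algebraMap A (S' q))) := by
      rw [← Spec.map_comp, ← Spec.map_comp, ← Spec.map_comp]
      congr 1
      ext a
      show algebraMap B _ (φ.hom a) = Localization.awayMap (S' q).val.toRingHom (r q)
        (algebraMap (S' q) _ (algebraMap A (S' q) a))
      rw [Localization.awayMap, IsLocalization.Away.map, IsLocalization.map_eq]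
      rfl
    show DegLE (Spec.map (CommRingCat.ofHom (algebraMap B (Localization.Away (r q).1))) ≫
      Spec.map φ) _
    rw [hfac]
    have : IsIso (Spec.map (CommRingCat.ofHom
        (Localization.awayMap (S' q).val.toRingHom (r q)))) := by
      have : IsIso (CommRingCat.ofHom (Localization.awayMap (S' q).val.toRingHom (r q))) :=
        (ConcreteCategory.isIso_iff_bijective _).mpr (hbij q)
      infer_instance
    have hm : IsOpenImmersion (Spec.map (CommRingCat.ofHom
        (Localization.awayMap (S' q).val.toRingHom (r q)))) := inferInstance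
    have hm2 : IsOpenImmersion
        (Spec.map (CommRingCat.ofHom (algebraMap (S' q) (Localization.Away (r q))))) :=
      inferInstance
    exact @DegLE.openImm_comp _ _ _ _ hm _ _
      (@DegLE.openImm_comp _ _ _ _ hm2 _ _ (DegLE_finite_Spec A (S' q) (gen q) (hgen q)))

theorem exists_DegLE {X Y : Scheme.{u}} (f : X ⟶ Y) [LocallyQuasiFinite f] [LocallyOfFiniteType f]
    [CompactSpace X] : ∃ d, DegLE f d := by
  have key : ∀ x : X, ∃ (U : X.Opens) (V : Y.Opens), IsAffineOpen U ∧ IsAffineOpen V ∧ x ∈ U ∧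
      U ≤ f ⁻¹ᵁ V := by
    intro x
    obtain ⟨V, hV, hxV⟩ : ∃ V : Y.Opens, IsAffineOpen V ∧ f x ∈ V := by
      obtain ⟨_, ⟨V, hV, rfl⟩, hxV, -⟩ := Y.isBasis_affineOpens.exists_subset_of_mem_open
        (Set.mem_univ (f x)) isOpen_univ
      exact ⟨V, hV, hxV⟩
    obtain ⟨_, ⟨U, hU, rfl⟩, hxU, hUV⟩ := X.isBasis_affineOpens.exists_subset_of_mem_open
      (show x ∈ (f ⁻¹ᵁ V : Set X) from hxV) (f ⁻¹ᵁ V).isOpen
    exact ⟨U, V, hU, hV, hxU, hUV⟩
  choose U V hU hV hxU hUV using key
  obtain ⟨t, ht⟩ := isCompact_univ.elim_finite_subcover (fun x => (U x : Set X))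
    (fun x => (U x).isOpen) (fun x _ => Set.mem_iUnion.mpr ⟨x, hxU x⟩)
  have hB : ∀ x, ∃ d, DegLE ((hU x).fromSpec ≫ f) d := by
    intro x
    have hfac : (hU x).fromSpec ≫ f =
        Spec.map (f.appLE (V x) (U x) (hUV x)) ≫ (hV x).fromSpec :=
      ((hV x).SpecMap_appLE_fromSpec f (hU x) (hUV x)).symm
    rw [hfac]
    obtain ⟨d, hd⟩ := DegLE_affine_qf (f.appLE (V x) (U x) (hUV x))
      (HasRingHomProperty.appLE (P := @LocallyOfFiniteType) f inferInstance ⟨V x, hV x⟩
        ⟨U x, hU x⟩ (hUV x))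
      (HasRingHomProperty.appLE (P := @LocallyQuasiFinite) f inferInstance ⟨V x, hV x⟩
        ⟨U x, hU x⟩ (hUV x))
    exact ⟨d, DegLE.comp_openImm _ _ hd⟩
  choose d hd using hB
  refine ⟨∑ x : {x // x ∈ t}, d x.1, DegLE.of_family (ι := {x // x ∈ t}) f
    (fun x => Spec Γ(X, U x.1)) (fun x => (hU x.1).fromSpec) ?_ (fun x => d x.1) (fun x => hd x.1)⟩
  intro x
  obtain ⟨i, hi, hx⟩ : ∃ i ∈ t, x ∈ U i := by simpa using ht (Set.mem_univ x)
  exact ⟨⟨i, hi⟩, by rw [(hU i).range_fromSpec]; exact hx⟩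

/-- the fibre over a point as a field-valued fibre. -/
theorem fibreDegLE_of_DegLE {X Y : Scheme.{u}} (f : X ⟶ Y) (n : ℕ) (h : DegLE f n) :
    FibreDegLE f n := by
  intro y
  exact h (Y.residueField y) (Y.fromSpecResidueField y)

open TensorProduct in
theorem fdl_baseChange (κ k : Type u) [Field κ] [Field k] (φ : CommRingCat.of κ ⟶ CommRingCat.of k)
    {T : Scheme.{u}} (p : T ⟶ Spec (CommRingCat.of κ)) (n : ℕ)
    (h : FiniteOfDegLE (CommRingCat.of κ) p n) :
    FiniteOfDegLE (CommRingCat.of k) (pullback.snd p (Spec.map φ)) n := by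
  rw [fdl_iff] at h
  letI : Algebra κ Γ(T, ⊤) := (sm κ p).toAlgebra
  obtain ⟨haff, hfin, hrk⟩ := h
  letI : Algebra κ k := φ.hom.toAlgebra
  have hp : p = T.isoSpec.hom ≫ Spec.map (CommRingCat.ofHom (algebraMap κ Γ(T, ⊤))) := by
    have h1 := Scheme.isoSpec_hom_naturality p
    rw [Scheme.isoSpec_Spec_hom] at h1
    show p = T.isoSpec.hom ≫ Spec.map ((Scheme.ΓSpecIso (CommRingCat.of κ)).inv ≫ p.appTop)
    rw [Spec.map_comp, ← Category.assoc, h1, Category.assoc, ← Spec.map_comp, Iso.inv_hom_id,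
      Spec.map_id, Category.comp_id]
  let e2 : pullback p (Spec.map φ) ≅ pullback (Spec.map (CommRingCat.ofHom (algebraMap κ Γ(T, ⊤))))
      (Spec.map (CommRingCat.ofHom (algebraMap κ k))) :=
    asIso (pullback.map _ _ _ _ T.isoSpec.hom (𝟙 _) (𝟙 _) (by rw [Category.comp_id, ← hp])
      (by rw [Category.comp_id, Category.id_comp]; rfl))
  let e := e2 ≪≫ pullbackSymmetry _ _ ≪≫ pullbackSpecIso κ k Γ(T, ⊤)
  refine fdl_iso k e _ _ ?_ n (fdl_Spec k (k ⊗[κ] Γ(T, ⊤)) n ?_)
  · simp only [e, Iso.trans_hom, Category.assoc]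
    rw [← pullbackSpecIso_inv_fst', Iso.hom_inv_id_assoc, pullbackSymmetry_hom_comp_fst]
    simp only [e2, asIso_hom, pullback.map]
    rw [pullback.lift_snd, Category.comp_id]
  · rw [Module.finrank_baseChange]; exact hrk


theorem DegLE_of_fibreDegLE {X Y : Scheme.{u}} (f : X ⟶ Y) (n : ℕ) (hf : FibreDegLE f n) :
    DegLE f n := by
  intro k _ g
  let y := g (IsLocalRing.closedPoint k)
  let φ : Y.residueField y ⟶ CommRingCat.of k :=
    Scheme.descResidueField (Scheme.stalkClosedPointTo g)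
  have hg : Spec.map φ ≫ Y.fromSpecResidueField y = g :=
    Scheme.descResidueField_stalkClosedPointTo_fromSpecResidueField k Y g
  have h1 : FiniteOfDegLE (CommRingCat.of k)
      (pullback.snd (pullback.snd f (Y.fromSpecResidueField y)) (Spec.map φ)) n :=
    fdl_baseChange (Y.residueField y) k φ (f.fiberToSpecResidueField y) n (hf y)
  let e := pullback.congrHom (rfl : f = f) hg.symm ≪≫
    (pullbackLeftPullbackSndIso f (Y.fromSpecResidueField y) (Spec.map φ)).symm
  refine fdl_iso k e _ _ ?_ n h1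
  simp only [e, Iso.trans_hom, Iso.symm_hom, Category.assoc, pullback.congrHom_hom]
  rw [pullbackLeftPullbackSndIso_inv_snd_snd]
  simp only [pullback.map]
  rw [pullback.lift_snd, Category.comp_id]

theorem fibreDegLE_iff_DegLE {X Y : Scheme.{u}} (f : X ⟶ Y) (n : ℕ) :
    FibreDegLE f n ↔ DegLE f n :=
  ⟨DegLE_of_fibreDegLE f n, fibreDegLE_of_DegLE f n⟩


theorem DegLE_of_isPullback {X Y X' Y' : Scheme.{u}} (f : X ⟶ Y) (g : Y' ⟶ Y) (f' : X' ⟶ Y')
    (g' : X' ⟶ X) (h : IsPullback g' f' f g) (n : ℕ) (hf : DegLE f n) : DegLE f' n := by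
  intro k _ g0
  have hp : IsPullback (pullback.fst f' g0 ≫ g') (pullback.snd f' g0) f (g0 ≫ g) :=
    (IsPullback.of_hasPullback f' g0).paste_horiz h
  exact fdl_iso k hp.isoPullback _ _ hp.isoPullback_hom_snd n (hf k (g0 ≫ g))

theorem card_primeSpectrum_le (K : Type*) [Field K] (B : Type*) [CommRing B] [Algebra K B]
    [Module.Finite K B] : ENat.card (PrimeSpectrum B) ≤ Module.finrank K B := by
  have hart : IsArtinianRing B := IsArtinianRing.of_finite K B
  have hfin : Finite (PrimeSpectrum B) := inferInstance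
  have := Fintype.ofFinite (PrimeSpectrum B)
  rw [ENat.card_eq_coe_fintype_card]
  norm_cast
  let I : PrimeSpectrum B → Ideal B := fun p => p.asIdeal
  have hcop : Pairwise (fun p q : PrimeSpectrum B => IsCoprime (I p) (I q)) := by
    intro p q hpq
    have hp : (I p).IsMaximal := IsArtinianRing.isMaximal_of_isPrime (I p)
    have hq : (I q).IsMaximal := IsArtinianRing.isMaximal_of_isPrime (I q)
    rw [Ideal.isCoprime_iff_sup_eq]
    exact Ideal.IsMaximal.coprime_of_ne hp hq (fun h => hpq (PrimeSpectrum.ext h))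
  let φ : B →ₗ[K] (∀ p : PrimeSpectrum B, B ⧸ I p) :=
    LinearMap.pi fun p => (Ideal.Quotient.mkₐ K (I p)).toLinearMap
  have hφ : Function.Surjective φ := by
    intro y
    obtain ⟨x, hx⟩ := Ideal.quotientInfToPiQuotient_surj hcop y
    obtain ⟨b, rfl⟩ := Ideal.Quotient.mk_surjective x
    refine ⟨b, ?_⟩
    rw [← hx]
    rfl
  have h1 := LinearMap.finrank_le_finrank_of_surjective hφ
  rw [Module.finrank_pi_fintype] at h1
  refine le_trans ?_ h1
  calc Fintype.card (PrimeSpectrum B) = ∑ _p : PrimeSpectrum B, 1 := by simp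
    _ ≤ ∑ p : PrimeSpectrum B, Module.finrank K (B ⧸ I p) := by
        apply Finset.sum_le_sum
        intro p _
        have : Nontrivial (B ⧸ I p) := Ideal.Quotient.nontrivial_iff.mpr p.isPrime.ne_top
        exact Module.finrank_pos

theorem card_le_of_fdl (K : Type u) [Field K] {T : Scheme.{u}}
    (p : T ⟶ Spec (CommRingCat.of K)) (n : ℕ) (h : FiniteOfDegLE (CommRingCat.of K) p n) :
    Finite T ∧ Nat.card T ≤ n := by
  have hfin := (finite_discrete_of_fdl K p n h).1
  refine ⟨hfin, ?_⟩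
  rw [fdl_iff] at h
  letI : Algebra K Γ(T, ⊤) := (sm K p).toAlgebra
  obtain ⟨haff, hfinm, hrk⟩ := h
  have h1 := card_primeSpectrum_le K Γ(T, ⊤)
  have h2 : ENat.card T = ENat.card (PrimeSpectrum Γ(T, ⊤)) :=
    ENat.card_congr T.isoSpec.hom.homeomorph.toEquiv
  have h3 : (Nat.card T : ℕ∞) ≤ (n : ℕ∞) := by
    rw [← ENat.card_eq_coe_natCard, h2]
    exact h1.trans (by exact_mod_cast hrk)
  exact_mod_cast h3

theorem DegLE_one_of_isImmersion {X Y : Scheme.{u}} (f : X ⟶ Y) [IsImmersion f] : DegLE f 1 := by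
  intro k _ g
  have himm : IsImmersion (pullback.snd f g) :=
    MorphismProperty.pullback_snd (P := @IsImmersion) f g inferInstance
  have hsub : Subsingleton ↥(Spec (CommRingCat.of k)) :=
    inferInstanceAs (Subsingleton (PrimeSpectrum k))
  have hcl : IsClosed (Set.range (pullback.snd f g)) := by
    have : DiscreteTopology ↥(Spec (CommRingCat.of k)) := inferInstance
    exact isClosed_discrete _
  have hci : IsClosedImmersion (pullback.snd f g) := IsClosedImmersion.of_isPreimmersion _ hcl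
  obtain ⟨haff, hsurj⟩ := IsClosedImmersion.isAffine_surjective_of_isAffine (pullback.snd f g)
  refine fdl_of_surjective k _ 1 k (by simp) (sm k (pullback.snd f g)) ?_ (fun _ => rfl)
  have hiso : Function.Surjective (Scheme.ΓSpecIso (CommRingCat.of k)).inv.hom :=
    (ConcreteCategory.bijective_of_isIso (Scheme.ΓSpecIso (CommRingCat.of k)).inv).2
  exact hsurj.comp hiso

theorem eq_isoSpec_comp (K : Type u) [Field K] {T : Scheme.{u}} (p : T ⟶ Spec (CommRingCat.of K))
    [IsAffine T] :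
    p = T.isoSpec.hom ≫ Spec.map (CommRingCat.ofHom (sm K p)) := by
  have h1 := Scheme.isoSpec_hom_naturality p
  rw [Scheme.isoSpec_Spec_hom] at h1
  show p = T.isoSpec.hom ≫ Spec.map ((Scheme.ΓSpecIso (CommRingCat.of K)).inv ≫ p.appTop)
  rw [Spec.map_comp, ← Category.assoc, h1, Category.assoc, ← Spec.map_comp, Iso.inv_hom_id,
    Spec.map_id, Category.comp_id]

theorem fdl_of_isFinite_flat (K : Type u) [Field K] {T : Scheme.{u}}
    (p : T ⟶ Spec (CommRingCat.of K)) [IsFinite p] [Flat p] (n : ℕ)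
    (hn : p.finrank (IsLocalRing.closedPoint K) ≤ n) : FiniteOfDegLE (CommRingCat.of K) p n := by
  have haff : IsAffine T := isAffine_of_isAffineHom p
  rw [fdl_iff]
  letI : Algebra K Γ(T, ⊤) := (sm K p).toAlgebra
  have hfin : Module.Finite K Γ(T, ⊤) := by
    have h1 : p.appTop.hom.Finite := p.finite_appTop
    have h2 : (Scheme.ΓSpecIso (CommRingCat.of K)).inv.hom.Finite :=
      RingHom.Finite.of_surjective _
        (ConcreteCategory.bijective_of_isIso (Scheme.ΓSpecIso (CommRingCat.of K)).inv).2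
    exact h1.comp h2
  refine ⟨haff, hfin, ?_⟩
  have hp := eq_isoSpec_comp K p
  have hfl : Module.Flat K Γ(T, ⊤) := inferInstance
  have hF : IsFinite (Spec.map (CommRingCat.ofHom (algebraMap K Γ(T, ⊤)))) := by
    rw [IsFinite.SpecMap_iff]
    exact (RingHom.finite_algebraMap).mpr hfin
  have hFl : Flat (Spec.map (CommRingCat.ofHom (algebraMap K Γ(T, ⊤)))) := by
    rw [Flat.SpecMap_iff]
    exact (RingHom.flat_algebraMap_iff).mpr hfl
  have h3 : p.finrank (IsLocalRing.closedPoint K) = Module.finrank K Γ(T, ⊤) := by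
    have : p.finrank = (T.isoSpec.hom ≫
        Spec.map (CommRingCat.ofHom (algebraMap K Γ(T, ⊤)))).finrank := congrArg _ hp
    rw [this, Scheme.Hom.finrank_comp_left_of_isIso, Scheme.Hom.finrank_SpecMap_algebraMap,
      Module.rankAtStalk_eq_finrank_of_free]
    rfl
  rw [← h3]
  exact hn

theorem DegLE_of_isFinLocFreeOfDeg {X Y : Scheme.{u}} (f : X ⟶ Y) (d : ℕ)
    (hf : Mor2.IsFinLocFreeOfDeg d f) : DegLE f d := by
  obtain ⟨⟨h1, h2, h3⟩, hd⟩ := hf
  intro k _ g
  have hF : IsFinite (pullback.snd f g) := MorphismProperty.pullback_snd (P := @IsFinite) f g h1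
  have hFl : Flat (pullback.snd f g) := MorphismProperty.pullback_snd (P := @Flat) f g h2
  refine fdl_of_isFinite_flat k _ d ?_
  rw [Scheme.Hom.finrank_pullback_snd, hd]

/-- converse of `fdl_of_surjective` for a bijective comparison. -/
theorem finite_of_fdl (K : Type u) [Field K] {T : Scheme.{u}}
    (p : T ⟶ Spec (CommRingCat.of K)) (n : ℕ) (h : FiniteOfDegLE (CommRingCat.of K) p n)
    (R : Type u) [CommRing R] [Algebra K R]
    (e : R →+* Γ(T, ⊤)) (hs : Function.Injective e)
    (he : ∀ k : K, e (algebraMap K R k) = sm K p k) :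
    Module.Finite K R ∧ Module.finrank K R ≤ n := by
  rw [fdl_iff] at h
  letI : Algebra K Γ(T, ⊤) := (sm K p).toAlgebra
  obtain ⟨haff, hfin, hrk⟩ := h
  let e' : R →ₗ[K] Γ(T, ⊤) :=
    { toFun := e
      map_add' := map_add e
      map_smul' := fun k r => by
        rw [Algebra.smul_def, map_mul, he, RingHom.id_apply, Algebra.smul_def]
        rfl }
  have hs' : Function.Injective e' := hs
  have hf : Module.Finite K R := Module.Finite.of_injective e' hs'
  exact ⟨hf, (LinearMap.finrank_le_finrank_of_injective hs').trans hrk⟩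

theorem finite_of_fdl_Spec (K : Type u) [Field K] (R : Type u) [CommRing R] [Algebra K R] (n : ℕ)
    (h : FiniteOfDegLE (CommRingCat.of K) (Spec.map (CommRingCat.ofHom (algebraMap K R))) n) :
    Module.Finite K R ∧ Module.finrank K R ≤ n := by
  refine finite_of_fdl K _ n h R (Scheme.ΓSpecIso (CommRingCat.of R)).inv.hom
    (ConcreteCategory.bijective_of_isIso (Scheme.ΓSpecIso (CommRingCat.of R)).inv).1 ?_
  intro k
  have := Scheme.ΓSpecIso_inv_naturality (CommRingCat.ofHom (algebraMap K R))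
  exact congrArg (fun φ => φ.hom k) this

open TensorProduct in
/-- the base change of an affine `κ`-scheme to `k`. -/
theorem exists_baseChangeIso (κ k : Type u) [Field κ] [Field k]
    (φ : CommRingCat.of κ ⟶ CommRingCat.of k)
    {T : Scheme.{u}} (p : T ⟶ Spec (CommRingCat.of κ)) [IsAffine T] :
    letI : Algebra κ Γ(T, ⊤) := (sm κ p).toAlgebra
    letI : Algebra κ k := φ.hom.toAlgebra
    ∃ e : pullback p (Spec.map φ) ≅ Spec (CommRingCat.of (k ⊗[κ] Γ(T, ⊤))),
      e.hom ≫ Spec.map (CommRingCat.ofHom (algebraMap k (k ⊗[κ] Γ(T, ⊤)))) =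
        pullback.snd p (Spec.map φ) := by
  letI : Algebra κ Γ(T, ⊤) := (sm κ p).toAlgebra
  letI : Algebra κ k := φ.hom.toAlgebra
  have hp := eq_isoSpec_comp κ p
  let e2 : pullback p (Spec.map φ) ≅ pullback (Spec.map (CommRingCat.ofHom (algebraMap κ Γ(T, ⊤))))
      (Spec.map (CommRingCat.ofHom (algebraMap κ k))) :=
    asIso (pullback.map _ _ _ _ T.isoSpec.hom (𝟙 _) (𝟙 _) (by rw [Category.comp_id]; exact hp)
      (by rw [Category.comp_id, Category.id_comp]; rfl))
  let e := e2 ≪≫ pullbackSymmetry _ _ ≪≫ pullbackSpecIso κ k Γ(T, ⊤)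
  refine ⟨e, ?_⟩
  simp only [e, Iso.trans_hom, Category.assoc]
  rw [← pullbackSpecIso_inv_fst', Iso.hom_inv_id_assoc, pullbackSymmetry_hom_comp_fst]
  simp only [e2, asIso_hom, pullback.map]
  rw [pullback.lift_snd, Category.comp_id]

open TensorProduct in
theorem fdl_descent_affine (κ k : Type u) [Field κ] [Field k]
    (φ : CommRingCat.of κ ⟶ CommRingCat.of k)
    {T : Scheme.{u}} (p : T ⟶ Spec (CommRingCat.of κ)) [IsAffine T] (n : ℕ)
    (h : FiniteOfDegLE (CommRingCat.of k) (pullback.snd p (Spec.map φ)) n) :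
    FiniteOfDegLE (CommRingCat.of κ) p n := by
  rw [fdl_iff]
  letI : Algebra κ Γ(T, ⊤) := (sm κ p).toAlgebra
  letI : Algebra κ k := φ.hom.toAlgebra
  obtain ⟨e, he⟩ := exists_baseChangeIso κ k φ p
  have h1 := fdl_iso k e.symm _ _ (by rw [Iso.symm_hom, ← he, Iso.inv_hom_id_assoc]) n h
  obtain ⟨hf, hr⟩ := finite_of_fdl_Spec k (k ⊗[κ] Γ(T, ⊤)) n h1
  have hfin : Module.Finite κ Γ(T, ⊤) := by
    rw [← Module.rank_lt_aleph0_iff] at hf ⊢
    rw [Module.rank_baseChange, Cardinal.lift_id] at hf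
    exact hf
  refine ⟨inferInstance, hfin, ?_⟩
  rw [Module.finrank_baseChange] at hr
  exact hr


theorem fdl_of_affine_opens (K : Type u) [Field K] {T : Scheme.{u}}
    (p : T ⟶ Spec (CommRingCat.of K)) [Finite T] (n : ℕ)
    (h : ∀ U : T.Opens, IsAffineOpen U → FiniteOfDegLE (CommRingCat.of K) (U.ι ≫ p) n) :
    FiniteOfDegLE (CommRingCat.of K) p n := by
  have hdisc : DiscreteTopology T := by
    rw [discreteTopology_iff_isOpen_singleton]
    intro x
    obtain ⟨_, ⟨U, hU, rfl⟩, hxU, -⟩ := T.isBasis_affineOpens.exists_subset_of_mem_open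
      (Set.mem_univ x) isOpen_univ
    have hd := (finite_discrete_of_fdl K _ n (h U hU)).2
    have hxr : x ∈ Set.range (Scheme.Opens.ι U) := by
      rw [Scheme.Opens.range_ι]
      exact hxU
    obtain ⟨z, rfl⟩ := hxr
    have hop : IsOpen ((Scheme.Opens.ι U) '' {z}) :=
      (Scheme.Opens.ι U).isOpenEmbedding.isOpenMap _ (isOpen_discrete _)
    rwa [Set.image_singleton] at hop
  have haff : IsAffine T := inferInstance
  have h1 := h ⊤ (isAffineOpen_top T)
  refine fdl_iso K T.topIso.symm _ _ ?_ n h1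
  rw [Iso.symm_hom, ← Category.assoc]
  have : T.topIso.inv ≫ (⊤ : T.Opens).ι = 𝟙 _ := by
    rw [← Scheme.topIso_hom, Iso.inv_hom_id]
  rw [this, Category.id_comp]

theorem fdl_descent (κ k : Type u) [Field κ] [Field k]
    (φ : CommRingCat.of κ ⟶ CommRingCat.of k)
    {T : Scheme.{u}} (p : T ⟶ Spec (CommRingCat.of κ)) (n : ℕ)
    (h : FiniteOfDegLE (CommRingCat.of k) (pullback.snd p (Spec.map φ)) n) :
    FiniteOfDegLE (CommRingCat.of κ) p n := by
  have hsurj : Function.Surjective (pullback.fst p (Spec.map φ)) := by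
    have h1 : Surjective (Spec.map φ) := by
      constructor
      intro x
      have hne : Nonempty ↥(Spec (CommRingCat.of k)) :=
        inferInstanceAs (Nonempty (PrimeSpectrum k))
      obtain ⟨pt⟩ := hne
      have hsub : Subsingleton ↥(Spec (CommRingCat.of κ)) :=
        inferInstanceAs (Subsingleton (PrimeSpectrum κ))
      exact ⟨pt, Subsingleton.elim _ _⟩
    have : Surjective (pullback.fst p (Spec.map φ)) :=
      MorphismProperty.pullback_fst (P := @Surjective) p (Spec.map φ) h1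
    exact (pullback.fst p (Spec.map φ)).surjective
  have hfinP := (finite_discrete_of_fdl k _ n h).1
  have hfinT : Finite T := Finite.of_surjective _ hsurj
  refine fdl_of_affine_opens κ p n (fun U hU => ?_)
  have : IsAffine U := hU
  refine fdl_descent_affine κ k φ (U.ι ≫ p) n ?_
  let m : pullback (U.ι ≫ p) (Spec.map φ) ⟶ pullback p (Spec.map φ) :=
    pullback.map _ _ _ _ U.ι (𝟙 _) (𝟙 _) (by simp) (by simp)
  have hm : m ≫ pullback.snd p (Spec.map φ) = pullback.snd (U.ι ≫ p) (Spec.map φ) := by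
    simp only [m, pullback.map]
    rw [pullback.lift_snd, Category.comp_id]
  rw [← hm]
  exact fdl_openImm k m _ n h


theorem fibreDegLE_of_isPullback_of_surjective {X Y X' Y' : Scheme.{u}} (f : X ⟶ Y) (g : Y' ⟶ Y)
    [Surjective g] (f' : X' ⟶ Y') (g' : X' ⟶ X) (h : IsPullback g' f' f g) (n : ℕ)
    (hf' : FibreDegLE f' n) : FibreDegLE f n := by
  intro y
  obtain ⟨y', rfl⟩ := g.surjective y
  have hpb := isPullback_fiberToSpecResidueField_of_isPullback h y'
  have h1 : FiniteOfDegLE (CommRingCat.of (Y'.residueField y'))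
      (pullback.snd (f.fiberToSpecResidueField (g y')) (Spec.map (g.residueFieldMap y'))) n :=
    fdl_iso _ hpb.isoPullback.symm _ _ hpb.isoPullback_inv_snd n (hf' y')
  exact fdl_descent (Y.residueField (g y')) (Y'.residueField y') (g.residueFieldMap y') _ n h1

theorem appTop_injective_of_flat_surjective {A B : Scheme.{u}} [IsAffine A] [IsAffine B]
    (φ : A ⟶ B) [Flat φ] [Surjective φ] : Function.Injective φ.appTop.hom := by
  have h1 : Spec.map φ.appTop = A.isoSpec.inv ≫ φ ≫ B.isoSpec.hom := by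
    rw [← Scheme.isoSpec_hom_naturality, Iso.inv_hom_id_assoc]
  have hfl : Flat (Spec.map φ.appTop) := by rw [h1]; infer_instance
  have hsj : Surjective (Spec.map φ.appTop) := by rw [h1]; infer_instance
  exact ((flat_and_surjective_SpecMap_iff φ.appTop).mp ⟨hfl, hsj⟩).injective

theorem fdl_of_flat_surjective (K : Type u) [Field K] {T T' : Scheme.{u}} (q : T' ⟶ T) [Flat q]
    [Surjective q] (p : T ⟶ Spec (CommRingCat.of K)) (n : ℕ)
    (h : FiniteOfDegLE (CommRingCat.of K) (q ≫ p) n) : FiniteOfDegLE (CommRingCat.of K) p n := by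
  obtain ⟨hfinT', hdiscT'⟩ := finite_discrete_of_fdl K _ n h
  have hfinT : Finite T := Finite.of_surjective _ q.surjective
  refine fdl_of_affine_opens K p n (fun V hV => ?_)
  have haffV : IsAffine V := hV
  have h1 : FiniteOfDegLE (CommRingCat.of K) ((q ⁻¹ᵁ V).ι ≫ q ≫ p) n := fdl_openImm K _ _ n h
  obtain ⟨hf1, hd1⟩ := finite_discrete_of_fdl K _ n h1
  have haff' : IsAffine (q ⁻¹ᵁ V) := inferInstance
  have hflat : Flat (q ∣_ V) := inferInstance
  have hsurj : Surjective (q ∣_ V) := IsZariskiLocalAtTarget.restrict (P := @Surjective) inferInstance V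
  have hinj := appTop_injective_of_flat_surjective (q ∣_ V)
  have heq : (q ∣_ V) ≫ V.ι ≫ p = (q ⁻¹ᵁ V).ι ≫ q ≫ p := by
    rw [← Category.assoc, morphismRestrict_ι, Category.assoc]
  letI : Algebra K Γ(q ⁻¹ᵁ V, ⊤) := (sm K ((q ⁻¹ᵁ V).ι ≫ q ≫ p)).toAlgebra
  obtain ⟨-, hfin, hrk⟩ := (fdl_iff K _ _).mp h1
  refine fdl_of_injective K (V.ι ≫ p) n Γ(q ⁻¹ᵁ V, ⊤) hrk (q ∣_ V).appTop.hom hinj ?_
  intro k
  rw [← sm_comp]
  exact congrArg (fun m => sm K m k) heq


theorem DegLE_of_flat_surjective_triangle {X Y Z : Scheme.{u}} (f : X ⟶ Y) (h : Y ⟶ Z) [Flat f]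
    [Surjective f] (n : ℕ) (hg : DegLE (f ≫ h) n) : DegLE h n := by
  intro k _ g
  have hq1 : Flat (pullback.snd f (pullback.fst h g)) :=
    MorphismProperty.pullback_snd (P := @Flat) _ _ inferInstance
  have hq2 : Surjective (pullback.snd f (pullback.fst h g)) :=
    MorphismProperty.pullback_snd (P := @Surjective) _ _ inferInstance
  refine fdl_of_flat_surjective k (pullback.snd f (pullback.fst h g)) (pullback.snd h g) n ?_
  exact fdl_iso k (pullbackRightPullbackFstIso h g f) _ _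
    (pullbackRightPullbackFstIso_hom_snd h g f) n (hg k g)

theorem fdl_of_etale_sepClosed (K : Type u) [Field K] [IsSepClosed K] {T : Scheme.{u}}
    (p : T ⟶ Spec (CommRingCat.of K)) [Etale p] [Finite T] (n : ℕ) (hn : Nat.card T ≤ n) :
    FiniteOfDegLE (CommRingCat.of K) p n := by
  refine fdl_of_affine_opens K p n (fun U hU => ?_)
  have haff : IsAffine U := hU
  rw [fdl_iff]
  letI : Algebra K Γ(U, ⊤) := (sm K (U.ι ≫ p)).toAlgebra
  have het : Algebra.Etale K Γ(U, ⊤) := by
    have h1 : (U.ι ≫ p).appTop.hom.Etale :=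
      HasRingHomProperty.appTop (P := @Etale) _ inferInstance
    have h2 : (Scheme.ΓSpecIso (CommRingCat.of K)).inv.hom.Etale :=
      RingHom.Etale.of_bijective
        (ConcreteCategory.bijective_of_isIso (Scheme.ΓSpecIso (CommRingCat.of K)).inv)
    exact RingHom.Etale.stableUnderComposition _ _ h2 h1
  have hfin : Module.Finite K Γ(U, ⊤) := Algebra.FormallyUnramified.finite_of_free K _
  let e := Algebra.FormallyEtale.equivPiOfIsSepClosed K Γ(U, ⊤)
  have hart : IsArtinianRing Γ(U, ⊤) := IsArtinianRing.of_finite K _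
  have : Finite (PrimeSpectrum Γ(U, ⊤)) := inferInstance
  have := Fintype.ofFinite (PrimeSpectrum Γ(U, ⊤))
  refine ⟨haff, hfin, ?_⟩
  rw [e.toLinearEquiv.finrank_eq, Module.finrank_fintype_fun_eq_card]
  have h3 : Nat.card (PrimeSpectrum Γ(U, ⊤)) ≤ Nat.card T := by
    let j : PrimeSpectrum Γ(U, ⊤) → T := fun q => U.ι ((U : Scheme).isoSpec.inv q)
    refine Nat.card_le_card_of_injective j ?_
    exact U.ι.isOpenEmbedding.injective.comp (U : Scheme).isoSpec.inv.homeomorph.injective
  rw [← Nat.card_eq_fintype_card]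
  exact h3.trans hn

theorem fibreDegLE_of_natCard_le_of_etale {X Y : Scheme.{u}} (f : X ⟶ Y) [Etale f] (n : ℕ)
    (h : ∀ (k : Type u) [Field k] (g : Spec (CommRingCat.of k) ⟶ Y),
      Finite ↥(pullback f g) ∧ Nat.card ↥(pullback f g) ≤ n) :
    FibreDegLE f n := by
  intro y
  let K := SeparableClosure (Y.residueField y)
  let φ : CommRingCat.of (Y.residueField y) ⟶ CommRingCat.of K :=
    CommRingCat.ofHom (algebraMap (Y.residueField y) K)
  refine fdl_descent (Y.residueField y) K φ (f.fiberToSpecResidueField y) n ?_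
  let e := pullbackLeftPullbackSndIso f (Y.fromSpecResidueField y) (Spec.map φ)
  obtain ⟨hfin, hcard⟩ := h K (Spec.map φ ≫ Y.fromSpecResidueField y)
  have het : Etale (pullback.snd f (Spec.map φ ≫ Y.fromSpecResidueField y)) :=
    MorphismProperty.pullback_snd (P := @Etale) _ _ inferInstance
  have h1 := fdl_of_etale_sepClosed K (pullback.snd f (Spec.map φ ≫ Y.fromSpecResidueField y)) n
    hcard
  exact fdl_iso K e _ _ (pullbackLeftPullbackSndIso_hom_snd _ _ _) n h1

section Alg
open Module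
variable (k : Type u) [Field k] (B : Type v) [CommRing B] [Algebra k B] [Module.Finite k B]
  (M : Type v) [AddCommGroup M] [Module B M] [Module k M] [IsScalarTower k B M]

/-- `J M` as a `k`-subspace of `M`. -/
abbrev JM (J : Ideal B) : Submodule k M := (J • (⊤ : Submodule B M)).restrictScalars k

/-- `J` as a `k`-subspace of `B`. -/
abbrev Jk (J : Ideal B) : Submodule k B := J.restrictScalars k

variable {k B M}

theorem key_step (n : ℕ)
    (H : ∀ m : Ideal B, m.IsMaximal →
      Module.rank k (M ⧸ JM k B M m) ≤ (n * finrank k (B ⧸ Jk k B m) : ℕ))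
    (J J' : Ideal B) (hlt : J' < J)
    (hmax : ∀ I : Ideal B, J' ≤ I → I < J → I = J')
    (ih : Module.rank k (JM k B M J') ≤ (n * finrank k (Jk k B J') : ℕ)) :
    Module.rank k (JM k B M J) ≤ (n * finrank k (Jk k B J) : ℕ) := by
  obtain ⟨x, hxJ, hxJ'⟩ := SetLike.exists_of_lt hlt
  -- (F1)
  have F1 : ∀ y ∈ J, y ∉ J' → J' ⊔ Ideal.span {y} = J := by
    intro y hy hy'
    by_contra hne
    have hle : J' ⊔ Ideal.span {y} ≤ J := sup_le hlt.le ((Ideal.span_singleton_le_iff_mem _).mpr hy)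
    have := hmax _ le_sup_left (lt_of_le_of_ne hle hne)
    apply hy'
    rw [← this]
    exact Ideal.mem_sup_right (Ideal.mem_span_singleton_self y)
  -- the ideal m
  let m : Ideal B := Submodule.comap (LinearMap.mulLeft B x) J'
  have hm_mem : ∀ b, b ∈ m ↔ x * b ∈ J' := fun b => Iff.rfl
  have hmmax : m.IsMaximal := by
    rw [Ideal.isMaximal_iff]
    refine ⟨fun h1 => hxJ' (by simpa [hm_mem] using h1), fun I b hmI hbm hbI => ?_⟩
    have hxb : x * b ∉ J' := hbm
    have hxbJ : x * b ∈ J := J.mul_mem_right _ hxJ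
    have h2 := F1 (x * b) hxbJ hxb
    have hx2 : x ∈ J' ⊔ Ideal.span {x * b} := h2 ▸ hxJ
    obtain ⟨j, hj, z, hz, hjz⟩ := Submodule.mem_sup.mp hx2
    obtain ⟨c, rfl⟩ := Ideal.mem_span_singleton'.mp hz
    have h3 : (1 - c * b) ∈ m := by
      rw [hm_mem]
      have : x * (1 - c * b) = j := by rw [eq_sub_of_add_eq hjz]; ring
      rw [this]; exact hj
    have h4 : (1 : B) = (1 - c * b) + c * b := by ring
    rw [h4]
    exact I.add_mem (hmI h3) (I.mul_mem_left _ hbI)
  have hJx : J' ⊔ Ideal.span {x} = J := F1 x hxJ hxJ'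
  have hdecomp : ∀ j ∈ J, ∃ j' ∈ J', ∃ c : B, j = j' + c * x := by
    intro j hj
    rw [← hJx] at hj
    obtain ⟨j', hj', z, hz, rfl⟩ := Submodule.mem_sup.mp hj
    obtain ⟨c, rfl⟩ := Ideal.mem_span_singleton'.mp hz
    exact ⟨j', hj', c, rfl⟩
  -- (F4)
  have F4 : finrank k (Jk k B J) = finrank k (B ⧸ Jk k B m) + finrank k (Jk k B J') := by
    let ψ : B →ₗ[k] (B ⧸ Jk k B J') := (Jk k B J').mkQ ∘ₗ (LinearMap.mulLeft k x)
    have hker : LinearMap.ker ψ = Jk k B m := by
      ext b
      simp only [ψ, LinearMap.mem_ker, LinearMap.coe_comp, Function.comp_apply,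
        LinearMap.mulLeft_apply, Submodule.mkQ_apply, Submodule.Quotient.mk_eq_zero]
      rfl
    have hrange : LinearMap.range ψ = (Jk k B J).map (Jk k B J').mkQ := by
      ext y
      constructor
      · rintro ⟨b, rfl⟩
        exact ⟨x * b, J.mul_mem_right _ hxJ, rfl⟩
      · rintro ⟨j, hj, rfl⟩
        obtain ⟨j', hj', c, rfl⟩ := hdecomp j hj
        refine ⟨c, ?_⟩
        simp only [ψ, LinearMap.coe_comp, Function.comp_apply, LinearMap.mulLeft_apply,
          Submodule.mkQ_apply]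
        rw [Submodule.Quotient.eq]
        have : x * c - (j' + c * x) = -j' := by ring
        rw [this]
        exact (Jk k B J').neg_mem hj'
    let g := (Jk k B J').mkQ.domRestrict (Jk k B J)
    have h1 := LinearMap.finrank_range_add_finrank_ker g
    have h2 : LinearMap.range g = (Jk k B J).map (Jk k B J').mkQ := LinearMap.range_domRestrict _ _
    have h3 : finrank k (LinearMap.ker g) = finrank k (Jk k B J') := by
      have : LinearMap.ker g = (Jk k B J').comap (Jk k B J).subtype := by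
        rw [LinearMap.ker_domRestrict, Submodule.ker_mkQ]
      rw [this]
      exact (Submodule.comapSubtypeEquivOfLe (show Jk k B J' ≤ Jk k B J from hlt.le)).finrank_eq
    have h4 : finrank k (B ⧸ Jk k B m) = finrank k (LinearMap.range ψ) := by
      rw [← hker]
      exact (LinearMap.quotKerEquivRange ψ).finrank_eq
    rw [h4, hrange, ← h2, ← h3, h1]
  -- (F5)
  let sx : M →ₗ[k] M := (LinearMap.lsmul B M x).restrictScalars k
  have hsx : ∀ w, sx w = x • w := fun w => rfl
  let Ψ : M →ₗ[k] (M ⧸ JM k B M J') := (JM k B M J').mkQ ∘ₗ sx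
  have hΨ : ∀ w, Ψ w = Submodule.Quotient.mk (x • w) := fun w => rfl
  have hrangeΨ : LinearMap.range Ψ = (JM k B M J).map (JM k B M J').mkQ := by
    ext y
    constructor
    · rintro ⟨w, rfl⟩
      exact ⟨x • w, Submodule.smul_mem_smul hxJ Submodule.mem_top, rfl⟩
    · rintro ⟨y, hy, rfl⟩
      have hy' : y ∈ (J • (⊤ : Submodule B M)) := hy
      refine Submodule.smul_induction_on (p := fun y => (JM k B M J').mkQ y ∈ LinearMap.range Ψ) hy'
        ?_ ?_
      · intro j hj v _
        obtain ⟨j', hj', c, rfl⟩ := hdecomp j hj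
        refine ⟨c • v, ?_⟩
        rw [hΨ, Submodule.mkQ_apply, Submodule.Quotient.eq]
        have : x • c • v - (j' + c * x) • v = -(j' • v) := by
          rw [add_smul, mul_smul, smul_comm x c v]
          abel
        rw [this]
        exact (JM k B M J').neg_mem (Submodule.smul_mem_smul hj' Submodule.mem_top)
      · intro a b iha ihb
        rw [map_add]
        exact (LinearMap.range Ψ).add_mem iha ihb
  have hkerΨ : JM k B M m ≤ LinearMap.ker Ψ := by
    intro y hy
    have hy' : y ∈ (m • (⊤ : Submodule B M)) := hy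
    rw [LinearMap.mem_ker]
    refine Submodule.smul_induction_on (p := fun y => Ψ y = 0) hy' ?_ ?_
    · intro b hb v _
      rw [hΨ, Submodule.Quotient.mk_eq_zero]
      show x • b • v ∈ (J' • (⊤ : Submodule B M))
      rw [← mul_smul]
      exact Submodule.smul_mem_smul ((hm_mem b).mp hb) Submodule.mem_top
    · intro a b iha ihb
      rw [map_add, iha, ihb, add_zero]
  have hle1 : Module.rank k (LinearMap.range Ψ) ≤ Module.rank k (M ⧸ JM k B M m) := by
    have := rank_range_le ((JM k B M m).liftQ Ψ hkerΨ)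
    rwa [Submodule.range_liftQ] at this
  let g' := (JM k B M J').mkQ.domRestrict (JM k B M J)
  have h1 := LinearMap.rank_range_add_rank_ker g'
  have h2 : LinearMap.range g' = (JM k B M J).map (JM k B M J').mkQ :=
    LinearMap.range_domRestrict _ _
  have hJMle : JM k B M J' ≤ JM k B M J := by
    intro y hy
    exact Submodule.smul_mono_left hlt.le hy
  have h3 : Module.rank k (LinearMap.ker g') = Module.rank k (JM k B M J') := by
    have : LinearMap.ker g' = (JM k B M J').comap (JM k B M J).subtype := by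
      rw [LinearMap.ker_domRestrict, Submodule.ker_mkQ]
    rw [this]
    exact (Submodule.comapSubtypeEquivOfLe hJMle).rank_eq
  rw [← h1, h2, ← hrangeΨ, h3, F4]
  calc Module.rank k (LinearMap.range Ψ) + Module.rank k (JM k B M J')
      ≤ ((n * finrank k (B ⧸ Jk k B m) : ℕ) : Cardinal) + ((n * finrank k (Jk k B J') : ℕ) : Cardinal) :=
        add_le_add (hle1.trans (H m hmmax)) ih
    _ = ((n * (finrank k (B ⧸ Jk k B m) + finrank k (Jk k B J')) : ℕ) : Cardinal) := by
        push_cast; ring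


theorem rank_JM_le (n : ℕ)
    (H : ∀ m : Ideal B, m.IsMaximal →
      Module.rank k (M ⧸ JM k B M m) ≤ (n * finrank k (B ⧸ Jk k B m) : ℕ)) (J : Ideal B) :
    Module.rank k (JM k B M J) ≤ (n * finrank k (Jk k B J) : ℕ) := by
  have hart : IsArtinianRing B := IsArtinianRing.of_finite k B
  have hnoe : IsNoetherianRing B := inferInstance
  induction J using WellFoundedLT.induction with
  | ind J ih =>
    by_cases hJ : J = ⊥
    · subst hJ
      have : JM k B M ⊥ = ⊥ := by
        show ((⊥ : Ideal B) • (⊤ : Submodule B M)).restrictScalars k = ⊥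
        rw [Submodule.bot_smul]
        rfl
      rw [this, rank_bot]
      exact zero_le
    · let S : Set (Ideal B) := {I | I < J}
      have hS : S.Nonempty := ⟨⊥, bot_lt_iff_ne_bot.mpr hJ⟩
      obtain ⟨J', hJ'S, hJ'max⟩ := (wellFounded_gt (α := Ideal B)).has_min S hS
      refine key_step n H J J' hJ'S (fun I hle hlt => ?_) (ih J' hJ'S)
      by_contra hne
      exact hJ'max I hlt (lt_of_le_of_ne hle (Ne.symm hne))

theorem rank_le_mul (n : ℕ)
    (H : ∀ m : Ideal B, m.IsMaximal →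
      Module.rank k (M ⧸ JM k B M m) ≤ (n * finrank k (B ⧸ Jk k B m) : ℕ)) :
    Module.rank k M ≤ (n * finrank k B : ℕ) := by
  have h := rank_JM_le n H (⊤ : Ideal B)
  have h1 : JM k B M ⊤ = ⊤ := by
    show ((⊤ : Ideal B) • (⊤ : Submodule B M)).restrictScalars k = ⊤
    rw [Submodule.top_smul]
    rfl
  have h2 : Jk k B (⊤ : Ideal B) = ⊤ := rfl
  rw [h1, h2, rank_top, finrank_top] at h
  exact h

end Alg

theorem finite_discrete_of_DegLE {T T' : Scheme.{u}} (q : T' ⟶ T) (n : ℕ) (hq : DegLE q n)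
    [Finite T] [DiscreteTopology T] : Finite T' ∧ DiscreteTopology T' := by
  have hfib : ∀ t : T, Finite (q.fiber t) ∧ DiscreteTopology (q.fiber t) := fun t =>
    finite_discrete_of_fdl (T.residueField t) _ n (hq (T.residueField t) (T.fromSpecResidueField t))
  constructor
  · rw [← Set.finite_univ_iff]
    have : (Set.univ : Set T') = q ⁻¹' Set.univ := rfl
    rw [this]
    refine Set.Finite.preimage' Set.finite_univ (fun t _ => ?_)
    have := (hfib t).1
    exact (q.fiberHomeo t).finite_iff.mp this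
  · rw [discreteTopology_iff_isOpen_singleton]
    intro x'
    have hU : IsOpen (q ⁻¹' {q x'}) := (isOpen_discrete {q x'}).preimage q.continuous
    have hd : DiscreteTopology ↥(q ⁻¹' {q x'}) :=
      have := (hfib (q x')).2
      (q.fiberHomeo (q x')).discreteTopology_iff.mp this
    have h1 : IsOpen ({⟨x', rfl⟩} : Set ↥(q ⁻¹' {q x'})) := isOpen_discrete _
    have h2 := hU.isOpenMap_subtype_val _ h1
    rwa [Set.image_singleton] at h2

open TensorProduct in
/-- fibre of an affine morphism over a maximal ideal -/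
theorem finite_tensor_of_DegLE {T T' : Scheme.{u}} [IsAffine T] [IsAffine T'] (q : T' ⟶ T) (n : ℕ)
    (hq : DegLE q n) (m : Ideal Γ(T, ⊤)) [hm : m.IsMaximal] :
    letI : Algebra Γ(T, ⊤) Γ(T', ⊤) := q.appTop.hom.toAlgebra
    letI : Field (Γ(T, ⊤) ⧸ m) := Ideal.Quotient.field m
    Module.Finite (Γ(T, ⊤) ⧸ m) ((Γ(T, ⊤) ⧸ m) ⊗[Γ(T, ⊤)] Γ(T', ⊤)) ∧
      Module.finrank (Γ(T, ⊤) ⧸ m) ((Γ(T, ⊤) ⧸ m) ⊗[Γ(T, ⊤)] Γ(T', ⊤)) ≤ n := by
  letI : Algebra Γ(T, ⊤) Γ(T', ⊤) := q.appTop.hom.toAlgebra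
  letI : Field (Γ(T, ⊤) ⧸ m) := Ideal.Quotient.field m
  let κ := Γ(T, ⊤) ⧸ m
  let g : Spec (CommRingCat.of κ) ⟶ T :=
    Spec.map (CommRingCat.ofHom (algebraMap Γ(T, ⊤) κ)) ≫ T.isoSpec.inv
  have h1 := hq κ g
  have hqn : q ≫ T.isoSpec.hom = T'.isoSpec.hom ≫ Spec.map (CommRingCat.ofHom (algebraMap Γ(T, ⊤) Γ(T', ⊤))) :=
    (Scheme.isoSpec_hom_naturality q).symm
  let e1 : pullback q g ≅ pullback (Spec.map (CommRingCat.ofHom (algebraMap Γ(T, ⊤) Γ(T', ⊤))))
      (Spec.map (CommRingCat.ofHom (algebraMap Γ(T, ⊤) κ))) :=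
    asIso (pullback.map _ _ _ _ T'.isoSpec.hom (𝟙 _) T.isoSpec.hom hqn
      (by simp only [g, Category.assoc, Iso.inv_hom_id, Category.comp_id, Category.id_comp]))
  let e := e1 ≪≫ pullbackSymmetry _ _ ≪≫ pullbackSpecIso Γ(T, ⊤) κ Γ(T', ⊤)
  have he : e.hom ≫ Spec.map (CommRingCat.ofHom (algebraMap κ (κ ⊗[Γ(T, ⊤)] Γ(T', ⊤)))) =
      pullback.snd q g := by
    simp only [e, Iso.trans_hom, Category.assoc]
    rw [← pullbackSpecIso_inv_fst', Iso.hom_inv_id_assoc, pullbackSymmetry_hom_comp_fst]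
    simp only [e1, asIso_hom, pullback.map]
    rw [pullback.lift_snd, Category.comp_id]
  have h2 := fdl_iso κ e.symm _ _ (by rw [Iso.symm_hom, ← he, Iso.inv_hom_id_assoc]) n h1
  exact finite_of_fdl_Spec κ (κ ⊗[Γ(T, ⊤)] Γ(T', ⊤)) n h2


open TensorProduct Module in
theorem fdl_comp (k : Type u) [Field k] {T T' : Scheme.{u}} (q : T' ⟶ T) (n : ℕ) (hq : DegLE q n)
    (p : T ⟶ Spec (CommRingCat.of k)) (m0 : ℕ) (hp : FiniteOfDegLE (CommRingCat.of k) p m0) :
    FiniteOfDegLE (CommRingCat.of k) (q ≫ p) (n * m0) := by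
  obtain ⟨hfT, hdT⟩ := finite_discrete_of_fdl k p m0 hp
  obtain ⟨hfT', hdT'⟩ := finite_discrete_of_DegLE q n hq
  have haffT' : IsAffine T' := inferInstance
  rw [fdl_iff] at hp ⊢
  letI : Algebra k Γ(T, ⊤) := (sm k p).toAlgebra
  obtain ⟨haffT, hfinB, hrkB⟩ := hp
  letI : Algebra k Γ(T', ⊤) := (sm k (q ≫ p)).toAlgebra
  letI : Algebra Γ(T, ⊤) Γ(T', ⊤) := q.appTop.hom.toAlgebra
  have htower : IsScalarTower k Γ(T, ⊤) Γ(T', ⊤) :=
    IsScalarTower.of_algebraMap_eq (fun a => sm_comp k q p a)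
  have H : ∀ m : Ideal Γ(T, ⊤), m.IsMaximal →
      Module.rank k (Γ(T', ⊤) ⧸ JM k Γ(T, ⊤) Γ(T', ⊤) m) ≤
        (n * finrank k (Γ(T, ⊤) ⧸ Jk k Γ(T, ⊤) m) : ℕ) := by
    intro m hm
    letI : Field (Γ(T, ⊤) ⧸ m) := Ideal.Quotient.field m
    obtain ⟨hf, hr⟩ := finite_tensor_of_DegLE q n hq m
    let E1 : (Γ(T', ⊤) ⧸ JM k Γ(T, ⊤) Γ(T', ⊤) m) ≃ₗ[k]
        (Γ(T', ⊤) ⧸ (m • ⊤ : Submodule Γ(T, ⊤) Γ(T', ⊤))) :=
      Submodule.Quotient.restrictScalarsEquiv k _
    let E2 : ((Γ(T, ⊤) ⧸ m) ⊗[Γ(T, ⊤)] Γ(T', ⊤)) ≃ₗ[k]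
        (Γ(T', ⊤) ⧸ (m • ⊤ : Submodule Γ(T, ⊤) Γ(T', ⊤))) :=
      (TensorProduct.quotTensorEquivQuotSMul Γ(T', ⊤) m).restrictScalars k
    let E3 : (Γ(T, ⊤) ⧸ Jk k Γ(T, ⊤) m) ≃ₗ[k] (Γ(T, ⊤) ⧸ m) :=
      Submodule.Quotient.restrictScalarsEquiv k m
    have hfk : Module.Finite k (Γ(T, ⊤) ⧸ m) := inferInstance
    have hfk2 : Module.Finite k ((Γ(T, ⊤) ⧸ m) ⊗[Γ(T, ⊤)] Γ(T', ⊤)) :=
      Module.Finite.trans (Γ(T, ⊤) ⧸ m) _
    rw [(E1.trans E2.symm).rank_eq, ← Module.finrank_eq_rank, E3.finrank_eq]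
    rw [← Module.finrank_mul_finrank k (Γ(T, ⊤) ⧸ m) ((Γ(T, ⊤) ⧸ m) ⊗[Γ(T, ⊤)] Γ(T', ⊤))]
    norm_cast
    rw [mul_comm]
    exact Nat.mul_le_mul_right _ hr
  have hrank := rank_le_mul (k := k) (B := Γ(T, ⊤)) (M := Γ(T', ⊤)) n H
  have hlt : Module.rank k Γ(T', ⊤) < Cardinal.aleph0 :=
    lt_of_le_of_lt hrank (Cardinal.natCast_lt_aleph0)
  have hfinC : Module.Finite k Γ(T', ⊤) := Module.rank_lt_aleph0_iff.mp hlt
  refine ⟨haffT', hfinC, ?_⟩
  have := Module.finrank_le_of_rank_le hrank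
  exact this.trans (Nat.mul_le_mul_left n hrkB)


theorem DegLE_comp_mul {X Y Z : Scheme.{u}} (f : X ⟶ Y) (g : Y ⟶ Z) (n m : ℕ) (hf : DegLE f n)
    (hg : DegLE g m) : DegLE (f ≫ g) (n * m) := by
  intro k _ g0
  have hq : DegLE (pullback.snd f (pullback.fst g g0)) n :=
    DegLE_of_isPullback f (pullback.fst g g0) _ _ (IsPullback.of_hasPullback f (pullback.fst g g0))
      n hf
  have h1 := fdl_comp k (pullback.snd f (pullback.fst g g0)) n hq (pullback.snd g g0) m (hg k g0)
  exact fdl_iso k (pullbackRightPullbackFstIso g g0 f).symm _ _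
    (pullbackRightPullbackFstIso_inv_snd_snd g g0 f) (n * m) h1

end Groth.Agent.Lib.Helper2.BddFib
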