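import Mathlib
import Groth.Agent.Lib.Helper2GeomPts

set_option autoImplicit false
universe u

namespace Groth.Agent.Lib.Helper2.Weight

open AlgebraicGeometry CategoryTheory Limits IsLocalRing

/-- sections over `a`. -/
def Secs {U V : Scheme.{u}} (π : U ⟶ V) {Ω : Type u} [Field Ω] (a : Spec (.of Ω) ⟶ V) : Type u :=
  {s : Spec (.of Ω) ⟶ U // s ≫ π = a}

/-- sections of a morphism to the spectrum of an arbitrary field through the same point agree. -/
theorem section_unique' {Ω : Type u} [Field Ω] {P : Scheme.{u}} (q : P ⟶ Spec (.of Ω))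
    (s₁ s₂ : Spec (.of Ω) ⟶ P) (h₁ : s₁ ≫ q = 𝟙 _) (h₂ : s₂ ≫ q = 𝟙 _)
    (h : s₁ (closedPoint Ω) = s₂ (closedPoint Ω)) : s₁ = s₂ := by
  obtain ⟨z, hz⟩ : ∃ z, s₂ (closedPoint Ω) = z := ⟨_, rfl⟩
  obtain ⟨φ₁, rfl⟩ := exists_factor s₁ z (h.trans hz)
  obtain ⟨φ₂, rfl⟩ := exists_factor s₂ z hz
  have e₁ : iota q z ≫ φ₁ = 𝟙 _ := by
    apply Spec.map_injective
    rw [Spec.map_comp, iota_spec, ← Category.assoc, h₁, Spec.map_id]
  have e₂ : iota q z ≫ φ₂ = 𝟙 _ := by
    apply Spec.map_injective
    rw [Spec.map_comp, iota_spec, ← Category.assoc, h₂, Spec.map_id]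
  have : φ₁ = φ₂ := by
    ext t
    have inj1 : Function.Injective φ₁.hom := RingHom.injective _
    have inj2 : Function.Injective φ₂.hom := RingHom.injective _
    have a1 : φ₁.hom ((iota q z).hom (φ₁.hom t)) = φ₁.hom t :=
      congrArg (fun f => f.hom (φ₁.hom t)) e₁
    have a2 : φ₂.hom ((iota q z).hom (φ₂.hom t)) = φ₂.hom t :=
      congrArg (fun f => f.hom (φ₂.hom t)) e₂
    exact (iota q z).hom.injective ((inj1 a1).trans (inj2 a2).symm)
  rw [this]

section S
variable {U V : Scheme.{u}} (π : U ⟶ V) {Ω : Type u} [Field Ω] (a : Spec (.of Ω) ⟶ V)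

/-- the point of the pullback attached to a section. -/
noncomputable def secsToPt (s : Secs π a) : ↥(pullback π a) :=
  (pullback.lift s.1 (𝟙 _) (by rw [s.2, Category.id_comp])) (closedPoint Ω)

theorem secsToPt_injective : Function.Injective (secsToPt π a) := by
  intro s s' h
  have hs := section_unique' (pullback.snd π a) _ _ (pullback.lift_snd _ _ _)
    (pullback.lift_snd _ _ _) h
  have := congrArg (fun s => s ≫ pullback.fst π a) hs
  simp only [pullback.lift_fst] at this
  exact Subtype.ext this

variable [LocallyQuasiFinite π] (hfin : ∀ v : V, (π ⁻¹' {v}).Finite)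

include hfin in
theorem finite_pullback : Finite ↥(pullback π a) := by
  have h := (fibreIntegral_baseChange π hfin (pullback.snd π a) (pullback.fst π a) a
    (IsPullback.of_hasPullback π a) (fun _ => 1) (closedPoint Ω)).2
  exact Set.finite_univ_iff.mp (h.subset (fun z _ => eq_closedPoint _))

include hfin in
theorem finite_secs : Finite (Secs π a) :=
  haveI := finite_pullback π a hfin
  Finite.of_injective _ (secsToPt_injective π a)

include hfin in
theorem card_pullback_le : Nat.card ↥(pullback π a) ≤ ng π (a (closedPoint Ω)) := by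
  classical
  haveI := finite_pullback π a hfin
  haveI hq : LocallyQuasiFinite (pullback.snd π a) :=
    MorphismProperty.pullback_snd (P := @LocallyQuasiFinite) _ _ inferInstance
  have hb := fibreIntegral_baseChange π hfin (pullback.snd π a) (pullback.fst π a) a
    (IsPullback.of_hasPullback π a) (fun _ => 1) (closedPoint Ω)
  have h1 : ((ng (pullback.snd π a) (closedPoint Ω) : ℕ) : ℤ) = (ng π (a (closedPoint Ω)) : ℤ) := by
    rw [← fibreIntegral_one _ _ hb.2, ← fibreIntegral_one _ _ (hfin _)]
    exact hb.1
  have h1' : ng (pullback.snd π a) (closedPoint Ω) = ng π (a (closedPoint Ω)) := by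
    exact_mod_cast h1
  rw [← h1']
  let E : ↥(pullback π a) ≃ {z : ↥(pullback π a) // pullback.snd π a z = closedPoint Ω} :=
    ⟨fun z => ⟨z, eq_closedPoint _⟩, fun z => z.1, fun _ => rfl, fun _ => rfl⟩
  haveI : Finite {z : ↥(pullback π a) // pullback.snd π a z = closedPoint Ω} :=
    Finite.of_equiv _ E
  letI := Fintype.ofFinite {z : ↥(pullback π a) // pullback.snd π a z = closedPoint Ω}
  rw [Nat.card_congr E, Nat.card_eq_fintype_card, ng, finsum_eq_sum_of_fintype,
    ← Finset.card_univ, Finset.card_eq_sum_ones]
  refine Finset.sum_le_sum (fun z _ => ?_)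
  exact Nat.one_le_iff_ne_zero.mpr (sd_ne_zero _ _)

include hfin in
/-- (K): if there are enough sections, the number of points of the base change to a field is
the geometric number of points. -/
theorem card_pullback_of_big (hbig : ng π (a (closedPoint Ω)) ≤ Nat.card (Secs π a)) :
    Nat.card ↥(pullback π a) = ng π (a (closedPoint Ω)) := by
  haveI := finite_pullback π a hfin
  refine le_antisymm (card_pullback_le π a hfin) (hbig.trans ?_)
  exact Nat.card_le_card_of_injective _ (secsToPt_injective π a)

end S

section T
variable {U V : Scheme.{u}} (π : U ⟶ V) [LocallyQuasiFinite π]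
  (hfin : ∀ v : V, (π ⁻¹' {v}).Finite)

omit [LocallyQuasiFinite π] in
/-- precomposition with a morphism of spectra of fields is injective on morphisms. -/
theorem comp_injective_of_field {N Ω : Type u} [Field N] [Field Ω]
    (c : Spec (.of Ω) ⟶ Spec (.of N)) (s₁ s₂ : Spec (.of N) ⟶ U) (h : c ≫ s₁ = c ≫ s₂) :
    s₁ = s₂ := by
  have hpt : s₁ (closedPoint N) = s₂ (closedPoint N) := by
    have h1 : c (closedPoint Ω) = closedPoint N := eq_closedPoint _
    have := congrArg (fun s : Spec (.of Ω) ⟶ U => s (closedPoint Ω)) h
    simp only [Scheme.Hom.comp_apply] at this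
    rw [h1] at this
    exact this
  obtain ⟨z, hz⟩ : ∃ z, s₂ (closedPoint N) = z := ⟨_, rfl⟩
  obtain ⟨φ₁, rfl⟩ := exists_factor s₁ z (hpt.trans hz)
  obtain ⟨φ₂, rfl⟩ := exists_factor s₂ z hz
  obtain ⟨φ, rfl⟩ : ∃ φ, c = Spec.map φ := ⟨Spec.preimage c, (Spec.map_preimage c).symm⟩
  rw [← Category.assoc, ← Category.assoc, cancel_mono, ← Spec.map_comp, ← Spec.map_comp] at h
  have h2 := Spec.map_injective h
  have : φ₁ = φ₂ := by
    ext t
    have := congrArg (fun f => f.hom t) h2
    simp only [CommRingCat.hom_comp, RingHom.comp_apply] at this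
    exact φ.hom.injective this
  rw [this]

include hfin in
theorem card_secs_le_of_comp {N Ω : Type u} [Field N] [Field Ω] (b : Spec (.of N) ⟶ V)
    (c : Spec (.of Ω) ⟶ Spec (.of N)) :
    Nat.card (Secs π b) ≤ Nat.card (Secs π (c ≫ b)) := by
  haveI := finite_secs π (c ≫ b) hfin
  refine Nat.card_le_card_of_injective
    (fun s : Secs π b => (⟨c ≫ s.1, by rw [Category.assoc, s.2]⟩ : Secs π (c ≫ b))) ?_
  intro s s' h
  have := congrArg Subtype.val h
  exact Subtype.ext (comp_injective_of_field c _ _ this)

include hfin in
/-- over an algebraically closed field there are exactly `ng` sections. -/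
theorem card_secs_of_isAlgClosed {Ω : Type u} [Field Ω] [IsAlgClosed Ω] (a : Spec (.of Ω) ⟶ V) :
    Nat.card (Secs π a) = ng π (a (closedPoint Ω)) := by
  classical
  haveI := finite_pullback π a hfin
  haveI hq : LocallyQuasiFinite (pullback.snd π a) :=
    MorphismProperty.pullback_snd (P := @LocallyQuasiFinite) _ _ inferInstance
  have hbij : Function.Bijective (secsToPt π a) := by
    refine ⟨secsToPt_injective π a, fun z => ?_⟩
    obtain ⟨s', hs1, hs2⟩ := exists_section (pullback.snd π a) z
    refine ⟨⟨s' ≫ pullback.fst π a, ?_⟩, ?_⟩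
    · rw [Category.assoc, pullback.condition, ← Category.assoc, hs1, Category.id_comp]
    · have : pullback.lift (s' ≫ pullback.fst π a) (𝟙 _)
          (by rw [Category.assoc, pullback.condition, ← Category.assoc, hs1]) = s' := by
        apply pullback.hom_ext
        · rw [pullback.lift_fst]
        · rw [pullback.lift_snd, hs1]
      change (pullback.lift (s' ≫ pullback.fst π a) (𝟙 _) _) (closedPoint Ω) = z
      rw [this, hs2]
  rw [Nat.card_eq_of_bijective _ hbij]
  have h1 := fibreIntegral_eq_geom π a (fun _ => 1) (hfin _)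
  letI := Fintype.ofFinite ↥(pullback π a)
  rw [fibreIntegral_one π _ (hfin _), finsum_eq_sum_of_fintype, Finset.sum_const, Finset.card_univ,
    nsmul_eq_mul, mul_one] at h1
  rw [Nat.card_eq_fintype_card]
  exact_mod_cast h1.symm

end T

section F
variable {U V : Scheme.{u}} (π : U ⟶ V)

/-- the range of an embedding over the geometric point lies in an intermediate field containing
the images of generators. -/
theorem range_le_of_gens (x : U)
    (φ : U.residueField x ⟶ .of (AlgebraicClosure (V.residueField (π x))))
    (hφ : (Spec.map φ ≫ U.fromSpecResidueField x) ≫ π = geomPt (π x))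
    (T : Set (U.residueField x))
    (hT : letI := (π.residueFieldMap x).hom.toAlgebra
      Algebra.adjoin (V.residueField (π x)) T = ⊤)
    (N : IntermediateField (V.residueField (π x)) (AlgebraicClosure (V.residueField (π x))))
    (hN : ∀ t ∈ T, φ.hom t ∈ N) (t : U.residueField x) : φ.hom t ∈ N := by
  letI := (π.residueFieldMap x).hom.toAlgebra
  have hc : π.residueFieldMap x ≫ φ =
      CommRingCat.ofHom (algebraMap (V.residueField (π x))
        (AlgebraicClosure (V.residueField (π x)))) :=
    compat_conv π (geomPt (π x)) x _ rfl φ hφ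
  have ht : t ∈ Algebra.adjoin (V.residueField (π x)) T := by rw [hT]; trivial
  induction ht using Algebra.adjoin_induction with
  | mem t ht => exact hN t ht
  | algebraMap r =>
    have := congrArg (fun f => f.hom r) hc
    simp only [CommRingCat.hom_comp, RingHom.comp_apply, CommRingCat.hom_ofHom] at this
    rw [RingHom.algebraMap_toAlgebra, this]
    exact N.algebraMap_mem r
  | add a b _ _ ha hb => rw [map_add]; exact N.add_mem ha hb
  | mul a b _ _ ha hb => rw [map_mul]; exact N.mul_mem ha hb

/-- an embedding over the geometric point with range in `N` descends to a section over `N`. -/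
theorem exists_secs_of_range_le (x : U)
    (φ : U.residueField x ⟶ .of (AlgebraicClosure (V.residueField (π x))))
    (hφ : (Spec.map φ ≫ U.fromSpecResidueField x) ≫ π = geomPt (π x))
    (N : IntermediateField (V.residueField (π x)) (AlgebraicClosure (V.residueField (π x))))
    (hN : ∀ t, φ.hom t ∈ N) :
    ∃ s' : Secs π (Spec.map (CommRingCat.ofHom (algebraMap (V.residueField (π x)) N)) ≫
        V.fromSpecResidueField (π x)),
      Spec.map (CommRingCat.ofHom N.val.toRingHom) ≫ s'.1 =
        Spec.map φ ≫ U.fromSpecResidueField x := by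
  have hc : π.residueFieldMap x ≫ φ =
      CommRingCat.ofHom (algebraMap (V.residueField (π x))
        (AlgebraicClosure (V.residueField (π x)))) :=
    compat_conv π (geomPt (π x)) x _ rfl φ hφ
  let φ' : U.residueField x ⟶ .of N := CommRingCat.ofHom (φ.hom.codRestrict N hN)
  have hφ' : π.residueFieldMap x ≫ φ' =
      CommRingCat.ofHom (algebraMap (V.residueField (π x)) N) := by
    ext r
    have := congrArg (fun f => f.hom r) hc
    simp only [CommRingCat.hom_comp, RingHom.comp_apply, CommRingCat.hom_ofHom] at this
    exact this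
  have h1 := compat π (Spec.map (CommRingCat.ofHom (algebraMap (V.residueField (π x)) N)) ≫
        V.fromSpecResidueField (π x)) x _ rfl φ' hφ'
  rw [Category.id_comp] at h1
  refine ⟨⟨Spec.map φ' ≫ U.fromSpecResidueField x, h1⟩, ?_⟩
  change Spec.map _ ≫ Spec.map φ' ≫ U.fromSpecResidueField x = _
  rw [← Category.assoc, ← Spec.map_comp]
  congr 2

theorem range_le_of_gens' (x : U) (y : V) (hx : π x = y)
    (φ : U.residueField x ⟶ .of (AlgebraicClosure (V.residueField y)))
    (hφ : (Spec.map φ ≫ U.fromSpecResidueField x) ≫ π = geomPt y)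
    (T : Set (U.residueField x))
    (hT : letI := (π.residueFieldMap x).hom.toAlgebra
      Algebra.adjoin (V.residueField (π x)) T = ⊤)
    (N : IntermediateField (V.residueField y) (AlgebraicClosure (V.residueField y)))
    (hN : ∀ t ∈ T, φ.hom t ∈ N) (t : U.residueField x) : φ.hom t ∈ N := by
  subst hx
  exact range_le_of_gens π x φ hφ T hT N hN t

theorem exists_secs_of_range_le' (x : U) (y : V) (hx : π x = y)
    (φ : U.residueField x ⟶ .of (AlgebraicClosure (V.residueField y)))
    (hφ : (Spec.map φ ≫ U.fromSpecResidueField x) ≫ π = geomPt y)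
    (N : IntermediateField (V.residueField y) (AlgebraicClosure (V.residueField y)))
    (hN : ∀ t, φ.hom t ∈ N) :
    ∃ s' : Secs π (Spec.map (CommRingCat.ofHom (algebraMap (V.residueField y) N)) ≫
        V.fromSpecResidueField y),
      Spec.map (CommRingCat.ofHom N.val.toRingHom) ≫ s'.1 =
        Spec.map φ ≫ U.fromSpecResidueField x := by
  subst hx
  exact exists_secs_of_range_le π x φ hφ N hN

variable [LocallyQuasiFinite π] (hfin : ∀ v : V, (π ⁻¹' {v}).Finite)

include hfin in
/-- (F): a finite extension of the residue field over which the fibre has `ng` sections. -/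
theorem exists_big (y : V) :
    ∃ (N : Type u) (_ : Field N) (ι : V.residueField y ⟶ .of N), ι.hom.Finite ∧
      ng π y ≤ Nat.card (Secs π (Spec.map ι ≫ V.fromSpecResidueField y)) := by
  classical
  have ha₀ : (geomPt y) (closedPoint (AlgebraicClosure (V.residueField y))) = y :=
    geomPt_apply y _
  haveI := finite_secs π (geomPt y) hfin
  have hcard : Nat.card (Secs π (geomPt y)) = ng π y := by
    rw [card_secs_of_isAlgClosed π hfin (geomPt y), ha₀]
  have hx : ∀ s : Secs π (geomPt y),
      π (s.1 (closedPoint (AlgebraicClosure (V.residueField y)))) = y := fun s => by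
    rw [← Scheme.Hom.comp_apply, s.2, ha₀]
  have hφ : ∀ s : Secs π (geomPt y),
      ∃ φ : U.residueField (s.1 (closedPoint (AlgebraicClosure (V.residueField y)))) ⟶
        .of (AlgebraicClosure (V.residueField y)),
      s.1 = Spec.map φ ≫ U.fromSpecResidueField _ := fun s => exists_factor s.1 _ rfl
  choose φ hφ using hφ
  have hgen : ∀ s : Secs π (geomPt y),
      ∃ T : Finset (U.residueField (s.1 (closedPoint (AlgebraicClosure (V.residueField y))))),
      letI := (π.residueFieldMap
        (s.1 (closedPoint (AlgebraicClosure (V.residueField y))))).hom.toAlgebra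
      Algebra.adjoin (V.residueField
        (π (s.1 (closedPoint (AlgebraicClosure (V.residueField y))))))
        (T : Set (U.residueField (s.1 (closedPoint (AlgebraicClosure (V.residueField y)))))) =
          ⊤ := by
    intro s
    letI := (π.residueFieldMap
      (s.1 (closedPoint (AlgebraicClosure (V.residueField y))))).hom.toAlgebra
    haveI := finite_residue π (s.1 (closedPoint (AlgebraicClosure (V.residueField y))))
    have : Algebra.FiniteType (V.residueField
        (π (s.1 (closedPoint (AlgebraicClosure (V.residueField y))))))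
        (U.residueField (s.1 (closedPoint (AlgebraicClosure (V.residueField y))))) :=
      inferInstance
    exact this.out
  choose T hT using hgen
  let G : Set (AlgebraicClosure (V.residueField y)) :=
    ⋃ s : Secs π (geomPt y), (φ s).hom ''
      (T s : Set (U.residueField (s.1 (closedPoint (AlgebraicClosure (V.residueField y))))))
  have hGfin : G.Finite := Set.finite_iUnion (fun s => (T s).finite_toSet.image _)
  let N : IntermediateField (V.residueField y) (AlgebraicClosure (V.residueField y)) :=
    IntermediateField.adjoin _ G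
  haveI : FiniteDimensional (V.residueField y) N := by
    haveI : Finite G := hGfin.to_subtype
    exact IntermediateField.finiteDimensional_adjoin (fun x _ => Algebra.IsIntegral.isIntegral x)
  have hφ2 : ∀ s : Secs π (geomPt y),
      (Spec.map (φ s) ≫ U.fromSpecResidueField _) ≫ π = geomPt y := fun s => by
    rw [← hφ s]; exact s.2
  have hrange : ∀ s : Secs π (geomPt y), ∀ t, (φ s).hom t ∈ N := fun s t =>
    range_le_of_gens' π _ y (hx s) (φ s) (hφ2 s) (T s) (hT s) N
      (fun t ht => IntermediateField.subset_adjoin _ _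
        (Set.mem_iUnion.mpr ⟨s, Set.mem_image_of_mem _ ht⟩)) t
  have hdesc : ∀ s : Secs π (geomPt y),
      ∃ s' : Secs π (Spec.map (CommRingCat.ofHom (algebraMap (V.residueField y) N)) ≫
        V.fromSpecResidueField y),
      Spec.map (CommRingCat.ofHom N.val.toRingHom) ≫ s'.1 = s.1 := fun s => by
    obtain ⟨s', hs'⟩ := exists_secs_of_range_le' π _ y (hx s) (φ s) (hφ2 s) N (hrange s)
    exact ⟨s', hs'.trans (hφ s).symm⟩
  choose d hd using hdesc
  refine ⟨N, inferInstance, CommRingCat.ofHom (algebraMap (V.residueField y) N), ?_, ?_⟩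
  · exact RingHom.finite_algebraMap.mpr inferInstance
  · rw [← hcard]
    haveI hF := finite_secs π (Spec.map (CommRingCat.ofHom (algebraMap (V.residueField y) N)) ≫
        V.fromSpecResidueField y) hfin
    refine @Nat.card_le_card_of_injective _ _ hF d ?_
    intro s t hst
    apply Subtype.ext
    rw [← hd s, ← hd t, hst]

end F

end Groth.Agent.Lib.Helper2.Weight
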