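import Mathlib
import Groth.Prelude.Def_BlowUp2
import Groth.Prelude.Def_CurvBase
import Groth.Agent.Lib.Helper2BlowFlatBC
import Groth.Agent.Lib.Helper2BlowThick

/-!
# Ideal sheaves supported in the closed fibre descend from the completion of the base (helper2)

Namespace `Groth.Agent.Lib.Helper2.BlowCplDesc`.
* `le_map_comap_of_isPushout` : for `Â = A ⊗_R R̂`, an ideal `J ⊆ Â` containing the image of `m^n`
  is generated by `J ∩ A`.
* `comap_map_eq` : for `Ŷ = Y ×_R R̂`, an ideal sheaf `I` on `Ŷ` supported over the closed point is the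
  inverse image of its direct image `I.map π`.
* `support_map_subset`.
-/

set_option autoImplicit false
set_option linter.style.haveILetI false
universe u
open CategoryTheory CategoryTheory.Limits AlgebraicGeometry TopologicalSpace

namespace Groth.Agent.Lib.Helper2.BlowCplDesc

open Groth.Agent.Lib.Helper2.BlowLocal Groth.Agent.Lib.Helper2.BlowFlatBC
open Groth.Agent.Lib.Helper2.BlowThick Groth.Agent.Lib.Helper20.EffCartier

section alg

variable {R : Type u} [CommRing R] [IsNoetherianRing R] (m : Ideal R)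

theorem le_map_comap_of_isPushout {A Ah : CommRingCat.{u}} (α : CommRingCat.of R ⟶ A)
    (φ : A ⟶ Ah) (ψ : CommRingCat.of (AdicCompletion m R) ⟶ Ah)
    (H : IsPushout α (CommRingCat.ofHom (algebraMap R (AdicCompletion m R))) φ ψ) (J : Ideal Ah)
    (n : ℕ) (hJ : (m ^ n).map (φ.hom.comp α.hom) ≤ J) : J ≤ (J.comap φ.hom).map φ.hom := by
  obtain ⟨K, hK⟩ : ∃ K : Ideal Ah, K = (m ^ n).map (φ.hom.comp α.hom) := ⟨_, rfl⟩
  have hKJ : K ≤ J := hK ▸ hJ
  have hK2 : K ≤ (J.comap φ.hom).map φ.hom := by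
    rw [hK, ← Ideal.map_map]
    apply Ideal.map_mono
    rw [Ideal.map_le_iff_le_comap]
    intro r hr
    exact hJ (Ideal.mem_map_of_mem (φ.hom.comp α.hom) hr)
  have hw : α ≫ φ = CommRingCat.ofHom (algebraMap R (AdicCompletion m R)) ≫ ψ := H.w
  have hψalg : ∀ r : R, ψ.hom (algebraMap R (AdicCompletion m R) r) = φ.hom (α.hom r) := fun r =>
    (congrArg (fun k : CommRingCat.of R ⟶ Ah => k.hom r) hw).symm
  have hψK : (m ^ n).map (algebraMap R (AdicCompletion m R)) ≤ K.comap ψ.hom := by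
    rw [Ideal.map_le_iff_le_comap]
    intro r hr
    show ψ.hom (algebraMap R (AdicCompletion m R) r) ∈ K
    rw [hψalg, hK]
    exact Ideal.mem_map_of_mem (φ.hom.comp α.hom) hr
  let S : Subring Ah :=
    { carrier := {x | ∃ a : A, x - φ.hom a ∈ K}
      zero_mem' := ⟨0, by rw [map_zero, sub_zero]; exact K.zero_mem⟩
      one_mem' := ⟨1, by rw [map_one, sub_self]; exact K.zero_mem⟩
      add_mem' := by
        rintro x y ⟨a, ha⟩ ⟨b, hb⟩
        refine ⟨a + b, ?_⟩
        have h1 : x + y - φ.hom (a + b) = (x - φ.hom a) + (y - φ.hom b) := by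
          rw [map_add]; ring
        rw [h1]
        exact K.add_mem ha hb
      neg_mem' := by
        rintro x ⟨a, ha⟩
        refine ⟨-a, ?_⟩
        have h1 : -x - φ.hom (-a) = -(x - φ.hom a) := by
          rw [map_neg]; ring
        rw [h1]
        exact K.neg_mem ha
      mul_mem' := by
        rintro x y ⟨a, ha⟩ ⟨b, hb⟩
        refine ⟨a * b, ?_⟩
        have h1 : x * y - φ.hom (a * b) = x * (y - φ.hom b) + (x - φ.hom a) * φ.hom b := by
          rw [map_mul]; ring
        rw [h1]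
        exact K.add_mem (K.mul_mem_left _ hb) (K.mul_mem_right _ ha) }
  have hS : S = ⊤ := by
    rw [← top_le_iff, ← CommRingCat.closure_range_union_range_eq_top_of_isPushout H,
      Subring.closure_le]
    rintro x (⟨a, rfl⟩ | ⟨r, rfl⟩)
    · refine ⟨a, ?_⟩
      show φ.hom a - φ.hom a ∈ K
      rw [sub_self]
      exact K.zero_mem
    · obtain ⟨r₀, hr₀⟩ := exists_sub_mem_map_pow m n r
      refine ⟨α.hom r₀, ?_⟩
      have h1 : ψ.hom (r - algebraMap R (AdicCompletion m R) r₀) ∈ K := hψK hr₀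
      rw [map_sub, hψalg] at h1
      exact h1
  intro x hx
  have hxS : x ∈ S := hS ▸ Subring.mem_top x
  obtain ⟨a, ha⟩ := hxS
  have haJ : φ.hom a ∈ J := by
    have h1 := J.sub_mem hx (hKJ ha)
    rwa [sub_sub_cancel] at h1
  have h1 : φ.hom a ∈ (J.comap φ.hom).map φ.hom :=
    Ideal.mem_map_of_mem _ (Ideal.mem_comap.2 haJ)
  have h3 := Ideal.add_mem _ (hK2 ha) h1
  rwa [sub_add_cancel] at h3

end alg

section geom

variable (R : Type u) [CommRing R] [IsDomain R] [IsDiscreteValuationRing R]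

theorem comap_map_eq {Y : Scheme.{u}} (q : Y ⟶ Spec (CommRingCat.of R))
    (c : Spec (CommRingCat.of (AdicCompletion (IsLocalRing.maximalIdeal R) R)) ⟶
      Spec (CommRingCat.of R))
    (hc : c = Spec.map (CommRingCat.ofHom (algebraMap R
        (AdicCompletion (IsLocalRing.maximalIdeal R) R))))
    (I : (pullback q c).IdealSheafData)
    (hI : (I.support : Set ↥(pullback q c)) ⊆
      (pullback.fst q c ≫ q).base ⁻¹' {IsLocalRing.closedPoint R}) :
    (I.map (pullback.fst q c)).comap (pullback.fst q c) = I := by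
  have sq : IsPullback (pullback.fst q c) (pullback.snd q c) q c := IsPullback.of_hasPullback q c
  haveI : IsAffineHom c := by rw [hc]; infer_instance
  haveI : IsAffineHom (pullback.fst q c) :=
    MorphismProperty.pullback_fst (P := @IsAffineHom) q c inferInstance
  apply le_antisymm (Scheme.IdealSheafData.comap_map_le _ _)
  refine Scheme.IdealSheafData.le_of_iSup_eq_top
    (fun U : Y.affineOpens => (⟨pullback.fst q c ⁻¹ᵁ U.1, U.2.preimage (pullback.fst q c)⟩ :
      (pullback q c).affineOpens)) ?_ ?_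
  · rw [eq_top_iff]
    intro x _
    obtain ⟨U, hU⟩ := Opens.mem_iSup.1
      ((iSup_affineOpens_eq_top Y).ge (Set.mem_univ (pullback.fst q c x)))
    exact Opens.mem_iSup.2 ⟨U, hU⟩
  · intro U
    obtain ⟨O, hOdef⟩ : ∃ O : (pullback q c).Opens, O = pullback.fst q c ⁻¹ᵁ U.1 := ⟨_, rfl⟩
    have hO : IsAffineOpen O := hOdef ▸ U.2.preimage (pullback.fst q c)
    have hOU : O ≤ pullback.fst q c ⁻¹ᵁ U.1 := hOdef.le
    have hOtop : O ≤ pullback.snd q c ⁻¹ᵁ ⊤ := fun _ _ => trivial
    have hUtop : U.1 ≤ q ⁻¹ᵁ ⊤ := fun _ _ => trivial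
    have hctop : (⊤ : (Spec (CommRingCat.of
        (AdicCompletion (IsLocalRing.maximalIdeal R) R))).Opens) ≤ c ⁻¹ᵁ ⊤ := fun _ _ => trivial
    have hOdef' : O = pullback.fst q c ⁻¹ᵁ U.1 ⊓ pullback.snd q c ⁻¹ᵁ ⊤ := by
      rw [hOdef]
      exact (inf_of_le_left (fun _ _ => trivial)).symm
    have hpush : IsPushout (q.appLE ⊤ U.1 hUtop) (c.appLE ⊤ ⊤ hctop)
        ((pullback.fst q c).appLE U.1 O hOU) ((pullback.snd q c).appLE ⊤ O hOtop) :=
      (isIso_pushoutSection_iff sq hctop hUtop hOdef').1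
        (isIso_pushoutSection_of_isAffineOpen sq hctop hUtop hOdef' (isAffineOpen_top _)
          (isAffineOpen_top _) U.2)
    -- transport along `ΓSpecIso`
    have hcapp : c.appLE ⊤ ⊤ hctop = c.appTop := Scheme.Hom.appLE_eq_app c (U := ⊤)
    have H : IsPushout ((Scheme.ΓSpecIso (CommRingCat.of R)).inv ≫ q.appLE ⊤ U.1 hUtop)
        (CommRingCat.ofHom (algebraMap R (AdicCompletion (IsLocalRing.maximalIdeal R) R)))
        ((pullback.fst q c).appLE U.1 O hOU)
        ((Scheme.ΓSpecIso (CommRingCat.of (AdicCompletion (IsLocalRing.maximalIdeal R) R))).inv ≫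
          (pullback.snd q c).appLE ⊤ O hOtop) := by
      refine hpush.of_iso (Scheme.ΓSpecIso (CommRingCat.of R)) (Iso.refl _)
        (Scheme.ΓSpecIso (CommRingCat.of (AdicCompletion (IsLocalRing.maximalIdeal R) R)))
        (Iso.refl _) ?_ ?_ ?_ ?_
      · rw [Iso.refl_hom, Category.comp_id, Iso.hom_inv_id_assoc]
      · rw [hcapp, hc, Scheme.ΓSpecIso_naturality]
      · rw [Iso.refl_hom, Iso.refl_hom, Category.comp_id, Category.id_comp]
      · rw [Iso.refl_hom, Category.comp_id, Iso.hom_inv_id_assoc]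
    -- the support condition
    obtain ⟨α, hα⟩ : ∃ α : CommRingCat.of R ⟶ Γ(Y, U.1),
        α = (Scheme.ΓSpecIso (CommRingCat.of R)).inv ≫ q.appLE ⊤ U.1 hUtop := ⟨_, rfl⟩
    rw [← hα] at H
    obtain ⟨φ, hφ⟩ : ∃ φ : Γ(Y, U.1) ⟶ Γ(pullback q c, O),
        φ = (pullback.fst q c).appLE U.1 O hOU := ⟨_, rfl⟩
    rw [← hφ] at H
    have hOpq : O ≤ (pullback.fst q c ≫ q) ⁻¹ᵁ ⊤ := fun _ _ => trivial
    have hfac : hO.fromSpec ≫ pullback.fst q c ≫ q = Spec.map (α ≫ φ) := by
      have e1 := IsAffineOpen.SpecMap_appLE_fromSpec (pullback.fst q c ≫ q)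
        (isAffineOpen_top (Spec (CommRingCat.of R))) hO hOpq
      rw [← e1, IsAffineOpen.fromSpec_top, Scheme.isoSpec_Spec_inv, ← Spec.map_comp, hα, hφ,
        Category.assoc, Scheme.Hom.appLE_comp_appLE]
    have hrad : (IsLocalRing.maximalIdeal R).map (φ.hom.comp α.hom) ≤
        (I.ideal ⟨O, hO⟩).radical := by
      rw [Ideal.radical_eq_sInf]
      refine le_sInf ?_
      rintro P ⟨hP1, hP2⟩
      have h1 : (⟨P, hP2⟩ : PrimeSpectrum Γ(pullback q c, O)) ∈
          ((I.comap hO.fromSpec).support : Set (Spec Γ(pullback q c, O))) := by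
        rw [comap_fromSpec, coe_support_idealSheaf]
        exact hP1
      rw [Scheme.IdealSheafData.support_comap] at h1
      have h2 : hO.fromSpec (⟨P, hP2⟩ : PrimeSpectrum Γ(pullback q c, O)) ∈
          (I.support : Set ↥(pullback q c)) := h1
      have h3 := hI h2
      have h4 : (Spec.map (α ≫ φ)) (⟨P, hP2⟩ : PrimeSpectrum Γ(pullback q c, O)) =
          IsLocalRing.closedPoint R := by
        rw [← hfac]
        exact h3
      rw [Spec.map_apply] at h4
      have h5 := congrArg PrimeSpectrum.asIdeal h4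
      rw [Ideal.map_le_iff_le_comap]
      exact h5.ge
    have hfg : ((IsLocalRing.maximalIdeal R).map (φ.hom.comp α.hom)).FG :=
      Ideal.FG.map (IsNoetherian.noetherian _) _
    obtain ⟨n, hn⟩ := Ideal.exists_pow_le_of_le_radical_of_fg hrad hfg
    rw [← Ideal.map_pow] at hn
    have key := le_map_comap_of_isPushout (IsLocalRing.maximalIdeal R) α φ _ H (I.ideal ⟨O, hO⟩)
      n hn
    -- conclude
    show I.ideal ⟨pullback.fst q c ⁻¹ᵁ U.1, U.2.preimage (pullback.fst q c)⟩ ≤
      ((I.map (pullback.fst q c)).comap (pullback.fst q c)).ideal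
        ⟨pullback.fst q c ⁻¹ᵁ U.1, U.2.preimage (pullback.fst q c)⟩
    rw [ideal_comap_eq_map (pullback.fst q c) (I.map (pullback.fst q c))
      (U.2.preimage (pullback.fst q c)) U.2 le_rfl,
      Scheme.IdealSheafData.ideal_map_of_isAffineHom, Scheme.Hom.appLE_eq_app]
    subst hOdef
    rw [hφ, Scheme.Hom.appLE_eq_app] at key
    exact key

theorem support_map_subset {Y : Scheme.{u}} (q : Y ⟶ Spec (CommRingCat.of R))
    {Z : Scheme.{u}} (π : Z ⟶ Y) [QuasiCompact π] (I : Z.IdealSheafData)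
    (hI : (I.support : Set Z) ⊆ (π ≫ q).base ⁻¹' {IsLocalRing.closedPoint R}) :
    ((I.map π).support : Set Y) ⊆ q.base ⁻¹' {IsLocalRing.closedPoint R} := by
  rw [Scheme.IdealSheafData.support_map, TopologicalSpace.Closeds.coe_closure]
  apply closure_minimal
  · rintro _ ⟨x, hx, rfl⟩
    exact hI hx
  · exact (IsLocalRing.isClosed_singleton_closedPoint R).preimage q.continuous

end geom

end Groth.Agent.Lib.Helper2.BlowCplDesc
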