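import Mathlib
import Groth.Prelude.Def_BlowUp2
import Groth.Prelude.Def_CurvBase
import Groth.Agent.Lib.Helper2BlowThick
import Groth.Agent.Lib.Helper2BlowGlue

/-!
# A finite birational morphism which is an isomorphism off an effective Cartier divisor is a blow-up
(helper2)

Namespace `Groth.Agent.Lib.Helper2.BlowFinBir`.
* `alg_key`, `aff_conditions` : the commutative algebra.
* `isIso_app_of_le`, `local_facts`, `isBlowUp_local`, `isPullback_local`.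
* `main`.
-/

set_option autoImplicit false
set_option linter.style.haveILetI false
universe u
open CategoryTheory CategoryTheory.Limits AlgebraicGeometry TopologicalSpace Opposite

namespace Groth.Agent.Lib.Helper2.BlowFinBir

open Groth.Agent.Lib.Helper2.BlowLocal Groth.Agent.Lib.Helper2.AffBlowUp
open Groth.Agent.Lib.Helper2.BlowThick Groth.Agent.Lib.Helper2.BlowGlue
open Groth.Agent.Lib.Helper20.EffCartier

section algebra

theorem alg_key {A B A' B' : Type*} [CommRing A] [CommRing B] [CommRing A'] [CommRing B']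
    (φ : A →+* B) (ρA : A →+* A') (ρB : B →+* B') (ψ : A' →+* B')
    (hcomm : ∀ a, ψ (ρA a) = ρB (φ a)) (ℓ : A)
    (hℓA : ℓ ∈ nonZeroDivisors A) (hℓB : φ ℓ ∈ nonZeroDivisors B)
    (hsurjA : ∀ a' : A', ∃ (k : ℕ) (a : A), ρA ℓ ^ k * a' = ρA a)
    (hkerA : ∀ a : A, ρA a = 0 → ∃ k : ℕ, ℓ ^ k * a = 0)
    (hkerB : ∀ b : B, ρB b = 0 → ∃ k : ℕ, φ ℓ ^ k * b = 0)
    (hψ : Function.Bijective ψ) (hfin : φ.Finite) :
    Function.Injective φ ∧ ∃ n : ℕ, ∀ m, n ≤ m → ∀ b : B, ∃ a : A, φ ℓ ^ m * b = φ a := by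
  have cancelA : ∀ (k : ℕ) (a : A), ℓ ^ k * a = 0 → a = 0 := fun k a h =>
    (mem_nonZeroDivisors_iff.1 (pow_mem hℓA k)).1 a h
  have cancelB : ∀ (k : ℕ) (b : B), φ ℓ ^ k * b = 0 → b = 0 := fun k b h =>
    (mem_nonZeroDivisors_iff.1 (pow_mem hℓB k)).1 b h
  constructor
  · rw [injective_iff_map_eq_zero]
    intro a ha
    have h1 : ψ (ρA a) = 0 := by rw [hcomm, ha, map_zero]
    have h2 : ρA a = 0 := hψ.1 (h1.trans (map_zero ψ).symm)
    obtain ⟨k, hk⟩ := hkerA a h2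
    exact cancelA k a hk
  · have hone : ∀ b : B, ∃ (k : ℕ) (a : A), φ ℓ ^ k * b = φ a := by
      intro b
      obtain ⟨a', ha'⟩ := hψ.2 (ρB b)
      obtain ⟨k, a, hka⟩ := hsurjA a'
      refine ⟨k, a, ?_⟩
      have e1 : ρB (φ ℓ) = ψ (ρA ℓ) := (hcomm ℓ).symm
      have e2 : ρB (φ a) = ψ (ρA a) := (hcomm a).symm
      have h1 : ρB (φ ℓ ^ k * b - φ a) = 0 := by
        rw [map_sub, map_mul, map_pow, e1, e2, ← ha', ← hka, map_mul, map_pow, sub_self]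
      obtain ⟨j, hj⟩ := hkerB _ h1
      exact sub_eq_zero.1 (cancelB j _ hj)
    choose kf af hkaf using hone
    letI := φ.toAlgebra
    haveI hmf : Module.Finite A B := hfin
    obtain ⟨s, hs⟩ := Module.finite_def.1 hmf
    refine ⟨s.sup kf, fun m hm b => ?_⟩
    have hb : b ∈ Submodule.span A (s : Set B) := by
      rw [hs]
      trivial
    induction hb using Submodule.span_induction with
    | mem x hx =>
      have hle : kf x ≤ m := le_trans (Finset.le_sup hx) hm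
      refine ⟨ℓ ^ (m - kf x) * af x, ?_⟩
      rw [map_mul, map_pow, ← hkaf x, ← mul_assoc, ← pow_add, Nat.sub_add_cancel hle]
    | zero => exact ⟨0, by rw [mul_zero, map_zero]⟩
    | add x y _ _ hx hy =>
      obtain ⟨a₁, h₁⟩ := hx
      obtain ⟨a₂, h₂⟩ := hy
      exact ⟨a₁ + a₂, by rw [mul_add, h₁, h₂, map_add]⟩
    | smul r x _ hx =>
      obtain ⟨a₁, h₁⟩ := hx
      refine ⟨r * a₁, ?_⟩
      rw [map_mul, ← h₁]
      show φ ℓ ^ m * (φ r * x) = φ r * (φ ℓ ^ m * x)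
      ring

theorem aff_conditions {A B : Type*} [CommRing A] [CommRing B] (φ : A →+* B) (ℓ : A) (m : ℕ)
    (hℓB : φ ℓ ∈ nonZeroDivisors B) (hP : ∀ b : B, ∃ a : A, φ ℓ ^ m * b = φ a)
    (I : Ideal A) (hI : I = (Ideal.span {φ ℓ ^ m}).comap φ) :
    ((Ideal.map φ I : Set B) ⊆ φ '' (I : Set A)) ∧ φ ℓ ^ m ∈ nonZeroDivisors B ∧
      Ideal.map φ I = Ideal.span {φ ℓ ^ m} := by
  have hle : Ideal.map φ I ≤ Ideal.span {φ ℓ ^ m} := by
    rw [hI]
    exact Ideal.map_comap_le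
  refine ⟨?_, pow_mem hℓB m, le_antisymm hle ?_⟩
  · intro b hb
    obtain ⟨c, hc⟩ := Ideal.mem_span_singleton'.1 (hle hb)
    obtain ⟨a, ha⟩ := hP c
    have hab : φ a = b := by rw [← ha, mul_comm, hc]
    refine ⟨a, ?_, hab⟩
    rw [SetLike.mem_coe, hI, Ideal.mem_comap, hab]
    exact hle hb
  · rw [Ideal.span_le, Set.singleton_subset_iff, SetLike.mem_coe, ← map_pow]
    apply Ideal.mem_map_of_mem
    rw [hI, Ideal.mem_comap, map_pow]
    exact Ideal.mem_span_singleton_self _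

end algebra

section geom

variable {X Y : Scheme.{u}}

theorem mem_basicOpen_iff_notMem_support (L : Y.IdealSheafData) {V : Y.Opens}
    (hV : IsAffineOpen V) (ℓ : Γ(Y, V)) (hL : L.ideal ⟨V, hV⟩ = Ideal.span {ℓ}) (z : Y)
    (hz : z ∈ V) : z ∈ Y.basicOpen ℓ ↔ z ∉ L.support := by
  rw [Scheme.IdealSheafData.mem_support_iff_of_mem (U := ⟨V, hV⟩) hz, hL, Scheme.zeroLocus_span,
    Scheme.zeroLocus_singleton, Set.mem_compl_iff, not_not]
  rfl

theorem exists_pow_mul_eq_zero_of_res {O W : X.Opens} (hO : IsAffineOpen O)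
    (s : Γ(X, O)) (hW : W = X.basicOpen s) (i : op O ⟶ op W) (b : Γ(X, O))
    (hb : (X.presheaf.map i).hom b = 0) : ∃ k : ℕ, s ^ k * b = 0 := by
  subst hW
  haveI := hO.isLocalization_basicOpen s
  have hi : i = (homOfLE (X.basicOpen_le s)).op := Subsingleton.elim _ _
  rw [hi] at hb
  have h1 : algebraMap Γ(X, O) Γ(X, X.basicOpen s) b = 0 := hb
  obtain ⟨⟨_, k, rfl⟩, hk⟩ := (IsLocalization.map_eq_zero_iff (Submonoid.powers s) _ b).1 h1
  exact ⟨k, hk⟩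

theorem exists_pow_mul_eq_res {V : Y.Opens} (hV : IsAffineOpen V) (ℓ : Γ(Y, V))
    (a' : Γ(Y, Y.basicOpen ℓ)) :
    ∃ (k : ℕ) (a : Γ(Y, V)),
      (Y.presheaf.map (homOfLE (Y.basicOpen_le ℓ)).op).hom ℓ ^ k * a' =
        (Y.presheaf.map (homOfLE (Y.basicOpen_le ℓ)).op).hom a := by
  haveI := hV.isLocalization_basicOpen ℓ
  obtain ⟨⟨a, ⟨_, k, rfl⟩⟩, h⟩ := IsLocalization.surj (Submonoid.powers ℓ) a'
  refine ⟨k, a, ?_⟩
  have h' : a' * algebraMap Γ(Y, V) Γ(Y, Y.basicOpen ℓ) (ℓ ^ k) =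
      algebraMap Γ(Y, V) Γ(Y, Y.basicOpen ℓ) a := h
  rw [map_pow, mul_comm] at h'
  exact h'

theorem exists_preimage_of_isIso_morphismRestrict (f : X ⟶ Y) (U : Y.Opens) [IsIso (f ∣_ U)]
    (w : Y) (hw : w ∈ U) : ∃ x' : ↥(f ⁻¹ᵁ U), ((f ⁻¹ᵁ U).ι ≫ f) x' = w := by
  refine ⟨(inv (f ∣_ U)) ⟨w, hw⟩, ?_⟩
  rw [← morphismRestrict_ι, Scheme.Hom.comp_apply, ← Scheme.Hom.comp_apply (inv (f ∣_ U)),
    IsIso.inv_hom_id]
  rfl

theorem isIso_app_of_le (f : X ⟶ Y) (U : Y.Opens) [IsIso (f ∣_ U)] (W : Y.Opens) (hW : W ≤ U) :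
    IsIso (f.app W) := by
  haveI : IsOpenImmersion ((f ⁻¹ᵁ U).ι ≫ f) := by
    rw [← morphismRestrict_ι]
    infer_instance
  have hle : W ≤ ((f ⁻¹ᵁ U).ι ≫ f).opensRange := by
    intro w hw
    obtain ⟨x', hx'⟩ := exists_preimage_of_isIso_morphismRestrict f U w (hW hw)
    exact ⟨x', hx'⟩
  have h1 : IsIso (((f ⁻¹ᵁ U).ι ≫ f).app W) := Scheme.Hom.isIso_app _ W hle
  haveI h2 : IsIso ((f ⁻¹ᵁ U).ι.app (f ⁻¹ᵁ W)) := Scheme.Hom.isIso_app _ _ (by
    rw [Scheme.Opens.opensRange_ι]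
    exact f.preimage_mono hW)
  rw [Scheme.Hom.comp_app] at h1
  exact @IsIso.of_isIso_comp_right _ _ _ _ _ (f.app W) ((f ⁻¹ᵁ U).ι.app (f ⁻¹ᵁ W)) h2 h1

theorem local_facts [IsReduced X] (f : X ⟶ Y) [IsFinite f] (L : Y.IdealSheafData)
    [IsIso (f ∣_ L.support.compl)] (hdense : Dense (f.base ⁻¹' ((L.support : Set Y)ᶜ)))
    {V : Y.Opens} (hV : IsAffineOpen V) (ℓ : Γ(Y, V)) (hℓ : ℓ ∈ nonZeroDivisors Γ(Y, V))
    (hLV : L.ideal ⟨V, hV⟩ = Ideal.span {ℓ}) :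
    (f.app V).hom ℓ ∈ nonZeroDivisors Γ(X, f ⁻¹ᵁ V) ∧ Function.Injective (f.app V).hom ∧
      ∃ n : ℕ, ∀ m, n ≤ m → ∀ b : Γ(X, f ⁻¹ᵁ V), ∃ a : Γ(Y, V),
        (f.app V).hom ℓ ^ m * b = (f.app V).hom a := by
  have hO : IsAffineOpen (f ⁻¹ᵁ V) := hV.preimage f
  have hpre : f ⁻¹ᵁ Y.basicOpen ℓ = X.basicOpen ((f.app V).hom ℓ) := Scheme.preimage_basicOpen f ℓ
  have hnzd : (f.app V).hom ℓ ∈ nonZeroDivisors Γ(X, f ⁻¹ᵁ V) := by
    rw [mem_nonZeroDivisors_iff_right]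
    intro b hb
    by_contra hb0
    have hne : X.basicOpen b ≠ ⊥ := fun h => hb0 ((basicOpen_eq_bot_iff b).1 h)
    obtain ⟨x, hx⟩ := (Opens.ne_bot_iff_nonempty _).1 hne
    obtain ⟨x', hx'b, hx'U⟩ := hdense.inter_open_nonempty (X.basicOpen b : Set X)
      (X.basicOpen b).isOpen ⟨x, hx⟩
    have hx'V : f x' ∈ V := X.basicOpen_le b hx'b
    have h1 : f x' ∈ Y.basicOpen ℓ :=
      (mem_basicOpen_iff_notMem_support L hV ℓ hLV (f x') hx'V).2 hx'U
    have h2 : x' ∈ X.basicOpen ((f.app V).hom ℓ) := by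
      rw [← hpre]
      exact h1
    have h3 : x' ∈ X.basicOpen (b * (f.app V).hom ℓ) := by
      rw [Scheme.basicOpen_mul]
      exact ⟨hx'b, h2⟩
    rw [hb, Scheme.basicOpen_zero] at h3
    exact h3
  have hDV : Y.basicOpen ℓ ≤ V := Y.basicOpen_le ℓ
  have hDU : Y.basicOpen ℓ ≤ L.support.compl := fun z hz =>
    (mem_basicOpen_iff_notMem_support L hV ℓ hLV z (hDV hz)).1 hz
  haveI hisoD : IsIso (f.app (Y.basicOpen ℓ)) := isIso_app_of_le f L.support.compl _ hDU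
  have hψ : Function.Bijective (f.app (Y.basicOpen ℓ)).hom :=
    (asIso (f.app (Y.basicOpen ℓ))).commRingCatIsoToRingEquiv.bijective
  have hcomm : ∀ a : Γ(Y, V), (f.app (Y.basicOpen ℓ)).hom
      ((Y.presheaf.map (homOfLE hDV).op).hom a) =
      (X.presheaf.map ((Opens.map f.base).map (homOfLE hDV)).op).hom ((f.app V).hom a) := fun a =>
    congrArg (fun k => k.hom a) (f.naturality (homOfLE hDV).op)
  obtain ⟨hinj, n, hn⟩ := alg_key (f.app V).hom (Y.presheaf.map (homOfLE hDV).op).hom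
    (X.presheaf.map ((Opens.map f.base).map (homOfLE hDV)).op).hom (f.app (Y.basicOpen ℓ)).hom
    hcomm ℓ hℓ hnzd (exists_pow_mul_eq_res hV ℓ)
    (fun a ha => exists_pow_mul_eq_zero_of_res hV ℓ rfl (homOfLE hDV).op a ha)
    (fun b hb => exists_pow_mul_eq_zero_of_res hO ((f.app V).hom ℓ) hpre _ b hb)
    hψ (IsFinite.finite_app f V hV)
  exact ⟨hnzd, hinj, n, hn⟩

theorem isBlowUp_local (f : X ⟶ Y) (I : Y.IdealSheafData) {V : Y.Opens} (hV : IsAffineOpen V)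
    (hinj : Function.Injective (f.app V).hom)
    (hIB : ((I.ideal ⟨V, hV⟩).map (f.app V).hom : Set Γ(X, f ⁻¹ᵁ V)) ⊆
      (f.app V).hom '' (I.ideal ⟨V, hV⟩ : Set Γ(Y, V)))
    (c : Γ(X, f ⁻¹ᵁ V)) (hc : c ∈ nonZeroDivisors Γ(X, f ⁻¹ᵁ V))
    (hgen : (I.ideal ⟨V, hV⟩).map (f.app V).hom = Ideal.span {c}) :
    BlowUp.IsBlowUp (Spec.map (f.app V) ≫ hV.isoSpec.inv) (I.comap V.ι) := by
  letI : Algebra Γ(Y, V) Γ(X, f ⁻¹ᵁ V) := (f.app V).hom.toAlgebra
  have hmain := Groth.Agent.Lib.Helper2.AffBlowUp.main Γ(Y, V) Γ(X, f ⁻¹ᵁ V) hinj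
    (I.ideal ⟨V, hV⟩) hIB c hc hgen
  have hmain' : BlowUp.IsBlowUp (Spec.map (f.app V)) (I.comap hV.fromSpec) := by
    rw [comap_fromSpec I hV]
    exact hmain
  have sq : IsPullback (𝟙 (Spec Γ(X, f ⁻¹ᵁ V))) (Spec.map (f.app V) ≫ hV.isoSpec.inv)
      (Spec.map (f.app V)) hV.isoSpec.hom :=
    IsPullback.of_horiz_isIso ⟨by
      rw [Category.id_comp, Category.assoc, Iso.inv_hom_id, Category.comp_id]⟩
  have h2 := isBlowUp_of_isPullback hmain' hV.isoSpec.hom (𝟙 _) _ sq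
  rwa [← Scheme.IdealSheafData.comap_comp, hV.isoSpec_hom_fromSpec] at h2

theorem isPullback_local (f : X ⟶ Y) {V : Y.Opens} (hV : IsAffineOpen V)
    (hO : IsAffineOpen (f ⁻¹ᵁ V)) :
    IsPullback hO.fromSpec (Spec.map (f.app V) ≫ hV.isoSpec.inv) f V.ι := by
  refine (IsOpenImmersion.isPullback (Spec.map (f.app V) ≫ hV.isoSpec.inv) hO.fromSpec V.ι f
    ?_ ?_).flip
  · rw [Category.assoc, IsAffineOpen.isoSpec_inv_ι]
    have h := IsAffineOpen.SpecMap_appLE_fromSpec f hV hO le_rfl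
    rw [Scheme.Hom.appLE_eq_app] at h
    exact h.symm
  · rw [Scheme.Opens.opensRange_ι, hO.opensRange_fromSpec]

theorem ideal_eq (f : X ⟶ Y) [IsAffineHom f] (L : Y.IdealSheafData) (n : ℕ) {V : Y.Opens}
    (hV : IsAffineOpen V) (ℓ : Γ(Y, V)) (hLV : L.ideal ⟨V, hV⟩ = Ideal.span {ℓ}) :
    (((L ^ n).comap f).map f).ideal ⟨V, hV⟩ =
      (Ideal.span {(f.app V).hom ℓ ^ n}).comap (f.app V).hom := by
  have h1 := Scheme.IdealSheafData.ideal_map_of_isAffineHom ((L ^ n).comap f) f ⟨V, hV⟩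
  have h2 : ((L ^ n).comap f).ideal ⟨f ⁻¹ᵁ V, hV.preimage f⟩ =
      Ideal.span {(f.app V).hom ℓ ^ n} := by
    rw [ideal_comap_eq_map f _ (hV.preimage f) hV le_rfl, Scheme.IdealSheafData.ideal_pow,
      Pi.pow_apply, hLV, Ideal.span_singleton_pow, Ideal.map_span, Set.image_singleton,
      Scheme.Hom.appLE_eq_app, map_pow]
  exact h1.trans (congrArg (Ideal.comap (f.app V).hom) h2)

theorem support_eq (f : X ⟶ Y) [IsFinite f] (L : Y.IdealSheafData) (n : ℕ) (hn : n ≠ 0)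
    (hsurj : Function.Surjective f) : (((L ^ n).comap f).map f).support = L.support := by
  rw [Scheme.IdealSheafData.support_map, Scheme.IdealSheafData.support_comap,
    Scheme.IdealSheafData.support_pow _ n hn]
  apply TopologicalSpace.Closeds.ext
  rw [TopologicalSpace.Closeds.coe_closure, TopologicalSpace.Closeds.coe_preimage,
    Set.image_preimage_eq _ hsurj]
  exact L.support.isClosed.closure_eq

theorem surjective_of (f : X ⟶ Y) [IsFinite f] (U : Y.Opens) [IsIso (f ∣_ U)]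
    (hU : Dense (U : Set Y)) : Function.Surjective f := by
  have hclosed : IsClosed (Set.range f) := f.isClosedMap.isClosed_range
  have hsub : (U : Set Y) ⊆ Set.range f := by
    intro w hw
    obtain ⟨x', hx'⟩ := exists_preimage_of_isIso_morphismRestrict f U w hw
    exact ⟨(f ⁻¹ᵁ U).ι x', by rw [← Scheme.Hom.comp_apply]; exact hx'⟩
  have h1 : Set.range f = Set.univ := by
    apply Set.eq_univ_of_univ_subset
    rw [← hU.closure_eq]
    exact closure_minimal hsub hclosed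
  exact Set.range_eq_univ.1 h1

theorem dense_compl_support [IsReduced Y] (L : Y.IdealSheafData)
    (hL : BlowUp.IsEffCartierIdeal L) : Dense ((L.support : Set Y)ᶜ) := by
  rw [dense_iff_inter_open]
  rintro W hW ⟨y, hy⟩
  obtain ⟨⟨V, hV⟩, hyV, ℓ, hℓ, hLV⟩ := hL y
  obtain ⟨T, hT⟩ : ∃ T : Y.Opens, T = ⟨W, hW⟩ ⊓ V := ⟨_, rfl⟩
  have hyT : y ∈ T := by
    rw [hT]
    exact ⟨hy, hyV⟩
  have hTV : T ≤ V := by
    rw [hT]
    exact inf_le_right
  have hTW : (T : Set Y) ⊆ W := by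
    rw [hT]
    exact fun z hz => hz.1
  have hne : Y.basicOpen (rs hTV ℓ) ≠ ⊥ := by
    intro h0
    rw [basicOpen_eq_bot_iff] at h0
    have h1 := germ_mem_nonZeroDivisors hV ℓ hℓ ⟨y, hyV⟩
    have h2 : Y.presheaf.germ V y hyV ℓ = 0 := by
      rw [← germ_rs hTV y hyT ℓ, h0, map_zero]
    rw [h2] at h1
    exact zero_notMem_nonZeroDivisors h1
  obtain ⟨z, hz⟩ := (Opens.ne_bot_iff_nonempty _).1 hne
  have hz' : z ∈ T ⊓ Y.basicOpen ℓ := by
    rw [← Y.basicOpen_res ℓ (homOfLE hTV).op]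
    exact hz
  refine ⟨z, hTW hz'.1, ?_⟩
  exact (mem_basicOpen_iff_notMem_support L hV ℓ hLV z (hTV hz'.1)).1 hz'.2

theorem main [IsNoetherian Y] [IsReduced X] [IsReduced Y] (f : X ⟶ Y) [IsFinite f]
    (L : Y.IdealSheafData) (hL : BlowUp.IsEffCartierIdeal L)
    (hiso : IsIso (f ∣_ L.support.compl))
    (hdense : Dense (f.base ⁻¹' ((L.support : Set Y)ᶜ))) :
    ∃ I : Y.IdealSheafData, I.support = L.support ∧ BlowUp.IsBlowUp f I := by
  haveI := hiso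
  have hloc : ∀ y : Y, ∃ (V : Y.Opens) (hV : IsAffineOpen V) (ℓ : Γ(Y, V)), y ∈ V ∧
      ℓ ∈ nonZeroDivisors Γ(Y, V) ∧ L.ideal ⟨V, hV⟩ = Ideal.span {ℓ} := by
    intro y
    obtain ⟨⟨V, hV⟩, hyV, ℓ, hℓ, hLV⟩ := hL y
    exact ⟨V, hV, ℓ, hyV, hℓ, hLV⟩
  choose V hV ℓ hyV hℓ hLV using hloc
  have hfacts := fun y => local_facts f L hdense (hV y) (ℓ y) (hℓ y) (hLV y)
  choose hnzd hinj N hN using hfacts
  obtain ⟨t, ht⟩ := isCompact_univ.elim_finite_subcover (fun y : Y => (V y : Set Y))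
    (fun y => (V y).isOpen) (fun z _ => Set.mem_iUnion.2 ⟨z, hyV z⟩)
  obtain ⟨n, hn⟩ : ∃ n : ℕ, n = t.sup N + 1 := ⟨_, rfl⟩
  have hcov : ∀ z : Y, ∃ y ∈ t, z ∈ V y := by
    intro z
    have h1 := ht (Set.mem_univ z)
    simp only [Set.mem_iUnion] at h1
    obtain ⟨y, hyt, hzy⟩ := h1
    exact ⟨y, hyt, hzy⟩
  have hU : Dense ((L.support.compl : Y.Opens) : Set Y) := dense_compl_support L hL
  refine ⟨((L ^ n).comap f).map f, support_eq f L n (by omega)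
    (surjective_of f L.support.compl hU), ?_⟩
  choose c hct hzc using hcov
  refine isBlowUp_of_isPullback_cover f _ (fun z : Y => V (c z)) (fun z => ⟨z, hzc z⟩)
    (fun z => Spec Γ(X, f ⁻¹ᵁ V (c z)))
    (fun z => Spec.map (f.app (V (c z))) ≫ (hV (c z)).isoSpec.inv)
    (fun z => ((hV (c z)).preimage f).fromSpec)
    (fun z => isPullback_local f (hV (c z)) _) (fun z => ?_)
  have hle : N (c z) ≤ n := by
    have := Finset.le_sup (f := N) (hct z)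
    omega
  obtain ⟨hIB, hc, hgen⟩ := aff_conditions (f.app (V (c z))).hom (ℓ (c z)) n (hnzd (c z))
    (hN (c z) n hle) _ (ideal_eq f L n (hV (c z)) (ℓ (c z)) (hLV (c z)))
  exact isBlowUp_local f _ (hV (c z)) (hinj (c z)) hIB _ hc hgen

end geom

end Groth.Agent.Lib.Helper2.BlowFinBir
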