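import Mathlib
import Groth.Prelude.Def_BlowUp2
import Groth.Prelude.Def_LCI2
import Groth.Agent.Lib.Helper2BlowQR
import Groth.Agent.Lib.Helper5KzPres
import Groth.Agent.Lib.Helper5KoszulGor
import Groth.Agent.Lib.Helper5LciLocal

/-!
# The affine blow-up algebra of a Koszul-regular sequence is a local complete intersection
(helper2)

Namespace `Groth.Agent.Lib.Helper2.BlowLciAlg`.
* `smul_injective_KH_of_cons`, `isKoszulRegularSeq_of_cons_of_torsion` : if `a :: l` is
  Koszul-regular and the Koszul homology of `l` in negative degrees is `a`-power torsion, then `l`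
  is Koszul-regular (and `a` is injective on `H^0`).
* `exists_pow_smul_KH_eq_zero` : Koszul homology classes of `l` are `a`-power torsion when `l` becomes
  Koszul-regular in the localization away from `a`.
* `hh`, `isKoszulRegularSeq_hh`, `ker_phi` : for a Koszul-regular sequence `f_0, …, f_r` generating
  `I`, the relations `f_0 T_j - f_j` form a Koszul-regular sequence in `A[T_1..T_r]` generating the
  kernel of `A[T] → A[I/f_0]`.
* `isLCI_affineAlgebra_of_index` : `A → A[I/g_i]` is a local complete intersection.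
-/

set_option autoImplicit false
set_option linter.style.haveILetI false
universe u
open CategoryTheory CategoryTheory.Limits MonoidalCategory CochainComplex CohIII
open scoped TensorProduct

namespace Groth.Agent.Lib.Helper2.BlowLciAlg

open Groth.Agent.Helper13Kz Groth.Agent.Helper13KzLift
open Groth.Agent.Lib.Helper5.KzComp Groth.Agent.Lib.Helper5.KzIdeal
open Groth.Agent.Lib.Helper5.KindFlat Groth.Agent.Lib.Helper5.KzPres
open Groth.Agent.Lib.Helper5.LciLocal

section KL

variable {A : Type u} [CommRing A]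

/-- if `a :: l` is Koszul-regular, multiplication by `a` is injective on the Koszul homology of `l`
in degrees `≤ 0`. -/
theorem smul_injective_KH_of_cons (a : A) (l : List A)
    (h : LCI.IsKoszulRegularSeq A (a :: l)) (j : ℤ) (hj : j ≤ 0) (z : KH l A j)
    (hz : a • z = 0) : z = 0 := by
  rw [isKoszulRegularSeq_iff] at h
  obtain ⟨g, δ, -, -, h3⟩ := Groth.Agent.Lib.Helper5.KoszulGor.cone_les'
    (koszulCx (ModuleCat.of A A) l) a (j - 1) j (by ring)
  have hsub : Subsingleton (KH (a :: l) A (j - 1)) := h (j - 1) (by omega)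
  haveI : Subsingleton ((mappingCone (a • 𝟙 (koszulCx (ModuleCat.of A A) l))).homology (j - 1)) :=
    hsub
  have h4 : (a • (LinearMap.id : KH l A j →ₗ[A] KH l A j)) z = 0 := by
    rw [LinearMap.smul_apply, LinearMap.id_apply]
    exact hz
  obtain ⟨y, hy⟩ := (h3 z).mp h4
  have hy0 : y = 0 := Subsingleton.elim _ _
  rw [← hy, hy0, map_zero]

/-- if `a :: l` is Koszul-regular and the Koszul homology of `l` in negative degrees is `a`-power
torsion, then `l` is Koszul-regular. -/
theorem isKoszulRegularSeq_of_cons_of_torsion (a : A) (l : List A)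
    (h : LCI.IsKoszulRegularSeq A (a :: l))
    (ht : ∀ i : ℤ, i < 0 → ∀ z : KH l A i, ∃ n : ℕ, a ^ n • z = 0) :
    LCI.IsKoszulRegularSeq A l := by
  rw [isKoszulRegularSeq_iff]
  intro i hi
  rcases lt_or_gt_of_ne hi with hneg | hpos
  · have key : ∀ (n : ℕ) (z : KH l A i), a ^ n • z = 0 → z = 0 := by
      intro n
      induction n with
      | zero =>
        intro z hn
        rw [pow_zero, one_smul] at hn
        exact hn
      | succ n ih =>
        intro z hn
        apply ih
        apply smul_injective_KH_of_cons a l h i hneg.le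
        rw [← mul_smul, ← pow_succ']
        exact hn
    refine ⟨fun x y => ?_⟩
    obtain ⟨n, hn⟩ := ht i hneg x
    obtain ⟨m, hm⟩ := ht i hneg y
    rw [key n x hn, key m y hm]
  · exact subsingleton_KH_of_pos A l i hpos

end KL

section Tors

variable {B : Type u} [CommRing B]

theorem exists_pow_smul_eq_zero_of_subsingleton_tensor (a : B) (F : Type u) [CommRing F]
    [Algebra B F] [IsLocalization.Away a F] (N : Type u) [AddCommGroup N] [Module B N]
    (hs : Subsingleton (N ⊗[B] F)) (z : N) : ∃ n : ℕ, a ^ n • z = 0 := by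
  haveI : Subsingleton (F ⊗[B] N) := (TensorProduct.comm B F N).toEquiv.subsingleton
  have h1 : TensorProduct.mk B F N 1 z = 0 := Subsingleton.elim _ _
  obtain ⟨s, hs'⟩ := (IsLocalizedModule.eq_zero_iff (Submonoid.powers a)
    (TensorProduct.mk B F N 1)).mp h1
  obtain ⟨n, hn⟩ := (Submonoid.mem_powers_iff _ _).mp s.2
  refine ⟨n, ?_⟩
  rw [hn]
  exact hs'

/-- Koszul homology classes of `l` are `a`-power torsion when `l` becomes Koszul-regular in the
localization away from `a`. -/
theorem exists_pow_smul_KH_eq_zero (a : B) (F : Type u) [CommRing F] [Algebra B F]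
    [IsLocalization.Away a F] (l : List B) (i : ℤ)
    (h : IsZero ((koszulCx (ModuleCat.of F F) (l.map (algebraMap B F))).homology i))
    (z : KH l B i) : ∃ n : ℕ, a ^ n • z = 0 := by
  haveI : Module.Flat B F := IsLocalization.flat F (Submonoid.powers a)
  have h0 : IsZero ((koszulCx ((ModuleCat.restrictScalars (algebraMap B F)).obj
      (ModuleCat.of F F)) l).homology i) := by
    have h1 : ((koszulCx (ModuleCat.of F F) (l.map (algebraMap B F))).sc i).Exact := by
      rw [← HomologicalComplex.exactAt_iff_isZero_homology] at h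
      exact h
    have h2 : (((koszulCx (ModuleCat.of F F) (l.map (algebraMap B F))).sc i).map
        (ModuleCat.restrictScalars (algebraMap B F))).Exact :=
      (ShortComplex.exact_map_iff_of_faithful _
        (ModuleCat.restrictScalars (algebraMap B F))).mpr h1
    have h3 : (((ModuleCat.restrictScalars (algebraMap B F)).mapHomologicalComplex
        (ComplexShape.up ℤ)).obj
          (koszulCx (ModuleCat.of F F) (l.map (algebraMap B F)))).ExactAt i := h2
    rw [HomologicalComplex.exactAt_iff_isZero_homology] at h3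
    exact IsZero.of_iso h3 ((HomologicalComplex.homologyFunctor _ _ i).mapIso
      (restrictIso (algebraMap B F) (ModuleCat.of F F) l)).symm
  let e' : F ≃ₗ[B] ((ModuleCat.restrictScalars (algebraMap B F)).obj (ModuleCat.of F F)) :=
    { toFun := fun t => t
      invFun := fun t => t
      left_inv := fun _ => rfl
      right_inv := fun _ => rfl
      map_add' := fun _ _ => rfl
      map_smul' := fun b t => Algebra.smul_def b t }
  have h1 : Subsingleton (KH l ((ModuleCat.restrictScalars (algebraMap B F)).obj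
      (ModuleCat.of F F)) i) := ModuleCat.subsingleton_of_isZero h0
  have h2 : Subsingleton (KH l (B ⊗[B] F) i) :=
    subsingleton_KH_of_equiv l (e'.symm.trans (TensorProduct.lid B F).symm) i h1
  have h3 : IsZero ((koszulCx (ModuleCat.of B B ⊗ ModuleCat.of B F) l).homology i) :=
    @ModuleCat.isZero_of_subsingleton B _ _ h2
  have h4 : IsZero ((((tensorRight (ModuleCat.of B F)).mapHomologicalComplex
      (ComplexShape.up ℤ)).obj (koszulCx (ModuleCat.of B B) l)).homology i) :=
    IsZero.of_iso h3 ((HomologicalComplex.homologyFunctor _ _ i).mapIso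
      (tensIso (ModuleCat.of B F) (ModuleCat.of B B) l))
  have h5 : IsZero ((tensorRight (ModuleCat.of B F)).obj
      ((koszulCx (ModuleCat.of B B) l).homology i)) :=
    IsZero.of_iso h4 (((koszulCx (ModuleCat.of B B) l).sc i).mapHomologyIso
      (tensorRight (ModuleCat.of B F))).symm
  have h6 : Subsingleton ((KH l B i) ⊗[B] F) := ModuleCat.subsingleton_of_isZero h5
  exact exists_pow_smul_eq_zero_of_subsingleton_tensor a F (KH l B i) h6 z

end Tors

section Poly

open MvPolynomial
open Groth.Agent.Lib.Helper2.BlowQR Groth.Agent.Lib.Helper2.BlowThickAlg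

variable {A : Type u} [CommRing A] {r : ℕ} (f : Fin (r + 1) → A)

/-- the relations `f_0 T_j - f_{j+1}` -/
noncomputable def hh (j : Fin r) : MvPolynomial (Fin r) A := C (f 0) * X j - C (f j.succ)

theorem ofList_cons_hh :
    Ideal.ofList ((C (f 0) : MvPolynomial (Fin r) A) :: List.ofFn (hh f)) =
      Ideal.ofList ((List.ofFn f).map (C : A →+* MvPolynomial (Fin r) A)) := by
  have hC : ∀ k : Fin (r + 1), (C (f k) : MvPolynomial (Fin r) A) ∈
      Ideal.ofList ((List.ofFn f).map (C : A →+* MvPolynomial (Fin r) A)) := fun k =>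
    Ideal.subset_span (List.mem_map.mpr ⟨f k, List.mem_ofFn.mpr ⟨k, rfl⟩, rfl⟩)
  have h0 : (C (f 0) : MvPolynomial (Fin r) A) ∈
      Ideal.ofList ((C (f 0) : MvPolynomial (Fin r) A) :: List.ofFn (hh f)) :=
    Ideal.subset_span List.mem_cons_self
  have hj : ∀ j : Fin r, hh f j ∈
      Ideal.ofList ((C (f 0) : MvPolynomial (Fin r) A) :: List.ofFn (hh f)) := fun j =>
    Ideal.subset_span (List.mem_cons_of_mem _ (List.mem_ofFn.mpr ⟨j, rfl⟩))
  apply le_antisymm
  · unfold Ideal.ofList
    rw [Ideal.span_le]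
    intro x hx
    rcases List.mem_cons.mp hx with rfl | hx
    · exact hC 0
    · obtain ⟨j, rfl⟩ := List.mem_ofFn.mp hx
      exact Ideal.sub_mem _ (Ideal.mul_mem_right _ _ (hC 0)) (hC j.succ)
  · unfold Ideal.ofList
    rw [Ideal.span_le]
    intro x hx
    obtain ⟨y, hy, rfl⟩ := List.mem_map.mp hx
    obtain ⟨k, rfl⟩ := List.mem_ofFn.mp hy
    refine Fin.cases ?_ (fun j => ?_) k
    · exact h0
    · have e : (C (f j.succ) : MvPolynomial (Fin r) A) = C (f 0) * X j - hh f j := by
        unfold hh
        ring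
      show (C (f j.succ) : MvPolynomial (Fin r) A) ∈ _
      rw [e]
      exact Ideal.sub_mem _ (Ideal.mul_mem_right _ _ h0) (hj j)

theorem isKoszulRegularSeq_cons_hh (hK : LCI.IsKoszulRegularSeq A (List.ofFn f)) :
    LCI.IsKoszulRegularSeq (MvPolynomial (Fin r) A)
      ((C (f 0) : MvPolynomial (Fin r) A) :: List.ofFn (hh f)) := by
  have hflat : (C : A →+* MvPolynomial (Fin r) A).Flat := by
    have h1 : (algebraMap A (MvPolynomial (Fin r) A)).Flat :=
      RingHom.flat_algebraMap_iff.mpr inferInstance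
    rwa [MvPolynomial.algebraMap_eq] at h1
  have h1 := isKoszulRegularSeq_map_of_flat (C : A →+* MvPolynomial (Fin r) A) hflat _ hK
  refine Groth.Agent.Lib.Helper5.KzPerm.isKoszulRegularSeq_of_ofList_eq _ _ h1
    (ofList_cons_hh f) ?_
  simp

attribute [local instance] MvPolynomial.algebraMvPolynomial

theorem isLocalization_away_C :
    IsLocalization.Away (C (f 0) : MvPolynomial (Fin r) A)
      (MvPolynomial (Fin r) (Localization.Away (f 0))) := by
  have h := MvPolynomial.isLocalization (σ := Fin r) (Submonoid.powers (f 0))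
    (Localization.Away (f 0))
  rwa [Submonoid.map_powers] at h

theorem isKoszulRegularSeq_map_hh :
    LCI.IsKoszulRegularSeq (MvPolynomial (Fin r) (Localization.Away (f 0)))
      ((List.ofFn (hh f)).map (algebraMap (MvPolynomial (Fin r) A)
        (MvPolynomial (Fin r) (Localization.Away (f 0))))) := by
  obtain ⟨s, hs⟩ : ∃ s : Fin r → Localization.Away (f 0),
      s = fun j => fr (f 0) 1 (f j.succ) := ⟨_, rfl⟩
  have hinv := IsLocalization.Away.mul_invSelf (S := Localization.Away (f 0)) (f 0)
  have h1 := isKoszulRegularSeq_uu s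
  have hu : ∀ j : Fin r, algebraMap (MvPolynomial (Fin r) A)
      (MvPolynomial (Fin r) (Localization.Away (f 0))) (hh f j) =
        C (algebraMap A (Localization.Away (f 0)) (f 0)) * uu s j := by
    intro j
    have e : algebraMap A (Localization.Away (f 0)) (f j.succ) =
        algebraMap A (Localization.Away (f 0)) (f 0) * s j := by
      rw [hs]
      show _ = _ * fr (f 0) 1 (f j.succ)
      rw [fr_apply, pow_one]
      calc algebraMap A (Localization.Away (f 0)) (f j.succ)
          = algebraMap A (Localization.Away (f 0)) (f j.succ) *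
            (algebraMap A (Localization.Away (f 0)) (f 0) *
              IsLocalization.Away.invSelf (f 0)) := by rw [hinv, mul_one]
        _ = _ := by ring
    rw [MvPolynomial.algebraMap_def]
    unfold hh uu
    rw [map_sub, map_mul, map_C, map_C, map_X, e, C_mul]
    ring
  have hv : ∀ j : Fin r, uu s j = C (IsLocalization.Away.invSelf (f 0)) *
      algebraMap (MvPolynomial (Fin r) A)
        (MvPolynomial (Fin r) (Localization.Away (f 0))) (hh f j) := by
    intro j
    rw [hu, ← mul_assoc, ← C_mul, mul_comm (IsLocalization.Away.invSelf (f 0)), hinv, C_1,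
      one_mul]
  refine Groth.Agent.Lib.Helper5.KzPerm.isKoszulRegularSeq_of_ofList_eq _ _ h1 ?_ (by simp)
  rw [List.map_ofFn]
  apply le_antisymm
  · unfold Ideal.ofList
    rw [Ideal.span_le]
    intro x hx
    obtain ⟨j, rfl⟩ := List.mem_ofFn.mp hx
    rw [Function.comp_apply, hu]
    exact Ideal.mul_mem_left _ _ (Ideal.subset_span (List.mem_ofFn.mpr ⟨j, rfl⟩))
  · unfold Ideal.ofList
    rw [Ideal.span_le]
    intro x hx
    obtain ⟨j, rfl⟩ := List.mem_ofFn.mp hx
    rw [hv]
    exact Ideal.mul_mem_left _ _ (Ideal.subset_span (List.mem_ofFn.mpr ⟨j, rfl⟩))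

theorem exists_pow_smul_KH_hh (i : ℤ) (hi : i ≠ 0)
    (z : KH (List.ofFn (hh f)) (MvPolynomial (Fin r) A) i) :
    ∃ n : ℕ, (C (f 0) : MvPolynomial (Fin r) A) ^ n • z = 0 := by
  haveI := isLocalization_away_C f
  have h := (isKoszulRegularSeq_iff _ _).mp (isKoszulRegularSeq_map_hh f) i hi
  exact exists_pow_smul_KH_eq_zero (C (f 0)) (MvPolynomial (Fin r) (Localization.Away (f 0)))
    (List.ofFn (hh f)) i (ModuleCat.isZero_of_subsingleton _) z

theorem isKoszulRegularSeq_hh (hK : LCI.IsKoszulRegularSeq A (List.ofFn f)) :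
    LCI.IsKoszulRegularSeq (MvPolynomial (Fin r) A) (List.ofFn (hh f)) :=
  isKoszulRegularSeq_of_cons_of_torsion (C (f 0)) _ (isKoszulRegularSeq_cons_hh f hK)
    (fun i hi z => exists_pow_smul_KH_hh f i hi.ne z)

theorem mem_ofList_hh_of_mul_mem (hK : LCI.IsKoszulRegularSeq A (List.ofFn f))
    (p : MvPolynomial (Fin r) A)
    (hp : C (f 0) * p ∈ Ideal.ofList (List.ofFn (hh f))) :
    p ∈ Ideal.ofList (List.ofFn (hh f)) := by
  have hinj := smul_injective_KH_of_cons (C (f 0)) _ (isKoszulRegularSeq_cons_hh f hK) 0 le_rfl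
  have h0 : piX (Ideal.ofList (List.ofFn (hh f))) ((C (f 0) : MvPolynomial (Fin r) A) • p) = 0 := by
    rw [← LinearMap.mem_ker, ker_piX]
    exact hp
  have h1 : (C (f 0) : MvPolynomial (Fin r) A) •
      equivH0 (List.ofFn (hh f)) (piX (Ideal.ofList (List.ofFn (hh f))) p) = 0 := by
    rw [← map_smul, ← map_smul, h0, map_zero]
  have h2 := hinj _ h1
  have h3 : piX (Ideal.ofList (List.ofFn (hh f))) p = 0 :=
    (equivH0 (List.ofFn (hh f))).map_eq_zero_iff.mp h2
  have h4 : p ∈ LinearMap.ker (piX (Ideal.ofList (List.ofFn (hh f)))) := LinearMap.mem_ker.mpr h3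
  rw [ker_piX] at h4
  exact h4

theorem mem_of_pow_mul_mem (hK : LCI.IsKoszulRegularSeq A (List.ofFn f)) :
    ∀ (n : ℕ) (p : MvPolynomial (Fin r) A),
      C (f 0) ^ n * p ∈ Ideal.ofList (List.ofFn (hh f)) → p ∈ Ideal.ofList (List.ofFn (hh f))
  | 0, p, h => by simpa using h
  | n + 1, p, h => by
    apply mem_of_pow_mul_mem hK n p
    apply mem_ofList_hh_of_mul_mem f hK
    rw [← mul_assoc, ← pow_succ']
    exact h

theorem exists_pow_mul_sub_C_mem (p : MvPolynomial (Fin r) A) :
    ∃ (n : ℕ) (c : A), C (f 0) ^ n * p - C c ∈ Ideal.ofList (List.ofFn (hh f)) := by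
  induction p using MvPolynomial.induction_on with
  | C x => exact ⟨0, x, by simp⟩
  | add p q hp hq =>
    obtain ⟨n, c, h1⟩ := hp
    obtain ⟨m, d, h2⟩ := hq
    refine ⟨n + m, f 0 ^ m * c + f 0 ^ n * d, ?_⟩
    have e : (C (f 0) : MvPolynomial (Fin r) A) ^ (n + m) * (p + q) -
        C (f 0 ^ m * c + f 0 ^ n * d) =
        C (f 0) ^ m * (C (f 0) ^ n * p - C c) + C (f 0) ^ n * (C (f 0) ^ m * q - C d) := by
      simp only [map_add, map_mul, map_pow]
      ring
    rw [e]
    exact Ideal.add_mem _ (Ideal.mul_mem_left _ _ h1) (Ideal.mul_mem_left _ _ h2)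
  | mul_X p j hp =>
    obtain ⟨n, c, h1⟩ := hp
    refine ⟨n + 1, c * f j.succ, ?_⟩
    have e : (C (f 0) : MvPolynomial (Fin r) A) ^ (n + 1) * (p * X j) - C (c * f j.succ) =
        (C (f 0) * X j) * (C (f 0) ^ n * p - C c) + C c * hh f j := by
      unfold hh
      simp only [map_mul]
      ring
    rw [e]
    exact Ideal.add_mem _ (Ideal.mul_mem_left _ _ h1)
      (Ideal.mul_mem_left _ _ (Ideal.subset_span (List.mem_ofFn.mpr ⟨j, rfl⟩)))

variable (I : Ideal A) (hI : I = Ideal.span (Set.range f))

theorem phi_hh (j : Fin r) : phi f I hI (hh f j) = 0 := by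
  apply Subtype.ext
  unfold hh
  rw [map_sub, map_mul, phi_C, phi_C, phi_X]
  simp only [Subalgebra.coe_sub, Subalgebra.coe_mul, Subalgebra.coe_algebraMap, coe_tB,
    ZeroMemClass.coe_zero]
  rw [fr_apply, pow_one]
  have hinv := IsLocalization.Away.mul_invSelf (S := Localization.Away (f 0)) (f 0)
  linear_combination (algebraMap A (Localization.Away (f 0)) (f j.succ)) * hinv

theorem ofList_hh_le_ker :
    Ideal.ofList (List.ofFn (hh f)) ≤ RingHom.ker (phi f I hI).toRingHom := by
  unfold Ideal.ofList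
  rw [Ideal.span_le]
  intro x hx
  obtain ⟨j, rfl⟩ := List.mem_ofFn.mp hx
  exact phi_hh f I hI j

theorem ker_phi (hK : LCI.IsKoszulRegularSeq A (List.ofFn f)) :
    RingHom.ker (phi f I hI).toRingHom = Ideal.ofList (List.ofFn (hh f)) := by
  apply le_antisymm _ (ofList_hh_le_ker f I hI)
  intro p hp
  have hp0 : phi f I hI p = 0 := hp
  obtain ⟨n, c, h1⟩ := exists_pow_mul_sub_C_mem f p
  have h2 : phi f I hI (C (f 0) ^ n * p - C c) = 0 := ofList_hh_le_ker f I hI h1
  rw [map_sub, map_mul, hp0, mul_zero, zero_sub, neg_eq_zero, phi_C] at h2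
  have h3 : algebraMap A (Localization.Away (f 0)) c = 0 := by
    have h := congrArg Subtype.val h2
    simpa using h
  obtain ⟨s, hs⟩ := (IsLocalization.map_eq_zero_iff (Submonoid.powers (f 0))
    (Localization.Away (f 0)) c).mp h3
  obtain ⟨m, hm⟩ := (Submonoid.mem_powers_iff _ _).mp s.2
  rw [← hm] at hs
  have h4 : C (f 0) ^ (n + m) * p ∈ Ideal.ofList (List.ofFn (hh f)) := by
    have e : (C (f 0) : MvPolynomial (Fin r) A) ^ (n + m) * p =
        C (f 0) ^ m * (C (f 0) ^ n * p - C c) + C (f 0 ^ m * c) := by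
      simp only [map_mul, map_pow]
      ring
    rw [e, hs, map_zero, add_zero]
    exact Ideal.mul_mem_left _ _ h1
  exact mem_of_pow_mul_mem f hK (n + m) p h4

include hI in
/-- `A → A[I/f_0]` is a local complete intersection for a Koszul-regular sequence `f` generating
`I`. -/
theorem isLCI_affineAlgebra (hK : LCI.IsKoszulRegularSeq A (List.ofFn f)) :
    LCI.IsLCI A (BlowUp.affineAlgebra A I (f 0)) := by
  refine ⟨Algebra.FiniteType.of_surjective (phi f I hI) (phi_surjective f I hI), r,
    phi f I hI, phi_surjective f I hI, ?_⟩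
  rw [ker_phi f I hI hK, kr_iff]
  exact kr_ofList _ (isKoszulRegularSeq_hh f hK)

include hI in
theorem isLCI_affineAlgebra' (hK : LCI.IsKoszulRegularSeq A (List.ofFn f)) (a : A)
    (ha : a = f 0) : LCI.IsLCI A (BlowUp.affineAlgebra A I a) := by
  subst ha
  exact isLCI_affineAlgebra f I hI hK

end Poly

section Index

variable {A : Type u} [CommRing A]

/-- `A → A[I/g_i]` is a local complete intersection for a Koszul-regular sequence `g` generating
`I`. -/
theorem isLCI_affineAlgebra_of_index {c : ℕ} (g : Fin c → A)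
    (hK : LCI.IsKoszulRegularSeq A (List.ofFn g)) (I : Ideal A)
    (hI : I = Ideal.span (Set.range g)) (i₀ : Fin c) :
    LCI.IsLCI A (BlowUp.affineAlgebra A I (g i₀)) := by
  obtain ⟨r, rfl⟩ : ∃ r, c = r + 1 := ⟨c - 1, by have := i₀.pos; omega⟩
  have hK' : LCI.IsKoszulRegularSeq A (List.ofFn (g ∘ (Equiv.swap 0 i₀))) :=
    Groth.Agent.Lib.Helper5.KzPerm.isKoszulRegularSeq_of_perm
      ((Equiv.swap 0 i₀).ofFn_comp_perm g).symm hK
  have hI' : I = Ideal.span (Set.range (g ∘ (Equiv.swap 0 i₀))) := by
    rw [(Equiv.swap 0 i₀).surjective.range_comp g]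
    exact hI
  have h0 : g i₀ = (g ∘ (Equiv.swap 0 i₀)) 0 := by
    rw [Function.comp_apply, Equiv.swap_apply_left]
  exact isLCI_affineAlgebra' (g ∘ (Equiv.swap 0 i₀)) I hI' hK' (g i₀) h0

/-- `IsLCIHom` of an algebra map. -/
theorem isLCIHom_algebraMap (A B : Type u) [CommRing A] [CommRing B] [inst : Algebra A B]
    (h : LCI.IsLCI A B) : Groth.Agent.Lib.Helper5.LciComp.IsLCIHom (algebraMap A B) := by
  unfold Groth.Agent.Lib.Helper5.LciComp.IsLCIHom
  have e : (algebraMap A B).toAlgebra = inst := Algebra.algebra_ext _ _ (fun _ => rfl)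
  rw [e]
  exact h

end Index

end Groth.Agent.Lib.Helper2.BlowLciAlg
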