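import Mathlib
import Groth.Agent.Lib.Helper2BlowLciAlg
import Groth.Agent.Lib.Helper2BlowThickAlg

/-!
# Base change of the affine blow-up algebra of a Koszul-regular sequence (helper2)

Namespace `Groth.Agent.Lib.Helper2.BlowKzBCAlg`.
* `exists_presentation_of_index` : a presentation `A[T_1..T_r] → A[I/g_i]` with kernel generated by
  the relations `hh f` for a permutation `f` of the Koszul-regular family `g` with `f 0 = g i`.
* `tmul_mul_eq_zero` : if `B = A[T]/(hh g)` and the image of `g` in `A'` is Koszul-regular, then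
  `1 ⊗ g_0` is a nonzerodivisor of `A' ⊗[A] B`.
* `map_mem_nonZeroDivisors_of_isPushout_of_presentation` : the same for a pushout square of
  commutative rings.
-/

set_option autoImplicit false
set_option linter.style.haveILetI false
universe u
open CategoryTheory CategoryTheory.Limits MvPolynomial
open scoped TensorProduct

namespace Groth.Agent.Lib.Helper2.BlowKzBCAlg

open Groth.Agent.Lib.Helper2.BlowLciAlg Groth.Agent.Lib.Helper2.BlowQR

section pres

variable {A : Type u} [CommRing A]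

theorem exists_presentation' {r : ℕ} (f : Fin (r + 1) → A) (I : Ideal A)
    (hI : I = Ideal.span (Set.range f)) (hK : LCI.IsKoszulRegularSeq A (List.ofFn f)) (a : A)
    (ha : a = f 0) :
    ∃ π : MvPolynomial (Fin r) A →ₐ[A] BlowUp.affineAlgebra A I a, Function.Surjective π ∧
      RingHom.ker π.toRingHom = Ideal.ofList (List.ofFn (hh f)) := by
  subst ha
  exact ⟨phi f I hI, phi_surjective f I hI, ker_phi f I hI hK⟩

/-- a presentation of `A[I/g_i]` by the relations of a permuted family. -/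
theorem exists_presentation_of_index {r : ℕ} (g : Fin (r + 1) → A)
    (hK : LCI.IsKoszulRegularSeq A (List.ofFn g)) (I : Ideal A)
    (hI : I = Ideal.span (Set.range g)) (i₀ : Fin (r + 1)) :
    ∃ σ : Equiv.Perm (Fin (r + 1)), (g ∘ σ) 0 = g i₀ ∧
      ∃ π : MvPolynomial (Fin r) A →ₐ[A] BlowUp.affineAlgebra A I (g i₀), Function.Surjective π ∧
        RingHom.ker π.toRingHom = Ideal.ofList (List.ofFn (hh (g ∘ σ))) := by
  have hK' : LCI.IsKoszulRegularSeq A (List.ofFn (g ∘ (Equiv.swap 0 i₀))) :=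
    Groth.Agent.Lib.Helper5.KzPerm.isKoszulRegularSeq_of_perm
      ((Equiv.swap 0 i₀).ofFn_comp_perm g).symm hK
  have hI' : I = Ideal.span (Set.range (g ∘ (Equiv.swap 0 i₀))) := by
    rw [(Equiv.swap 0 i₀).surjective.range_comp g]
    exact hI
  have h0 : g i₀ = (g ∘ (Equiv.swap 0 i₀)) 0 := by
    rw [Function.comp_apply, Equiv.swap_apply_left]
  exact ⟨Equiv.swap 0 i₀, h0.symm,
    exists_presentation' (g ∘ (Equiv.swap 0 i₀)) I hI' hK' (g i₀) h0⟩

end pres

section tens

variable {A : Type u} (A' : Type u) {B : Type u} [CommRing A] [CommRing A'] [CommRing B]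
  [Algebra A A'] [Algebra A B] {r : ℕ} (g : Fin (r + 1) → A)

theorem map_hh (j : Fin r) :
    MvPolynomial.map (algebraMap A A') (hh g j) = hh (algebraMap A A' ∘ g) j := by
  unfold hh
  simp only [map_sub, map_mul, map_C, map_X, Function.comp_apply]

/-- the ideal of relations over `A'` -/
noncomputable abbrev Jp : Ideal (MvPolynomial (Fin r) A') :=
  Ideal.ofList (List.ofFn (hh (algebraMap A A' ∘ g)))

variable (π : MvPolynomial (Fin r) A →ₐ[A] B)

/-- the comparison map `A'[T] → A' ⊗ B` -/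
noncomputable def Phi : MvPolynomial (Fin r) A' →ₐ[A'] A' ⊗[A] B :=
  aeval (fun j => (1 : A') ⊗ₜ[A] π (X j))

theorem Phi_X (j : Fin r) : Phi A' π (X j) = (1 : A') ⊗ₜ[A] π (X j) := aeval_X _ _

theorem Phi_C (a' : A') : Phi A' π (C a') = a' ⊗ₜ[A] (1 : B) := by
  rw [Phi, aeval_C]
  rfl

theorem algebraMap_tmul_one (a : A) :
    (algebraMap A A' a) ⊗ₜ[A] (1 : B) = (1 : A') ⊗ₜ[A] algebraMap A B a := by
  rw [Algebra.algebraMap_eq_smul_one, Algebra.algebraMap_eq_smul_one, TensorProduct.smul_tmul]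

theorem pi_C (a : A) : π (C a) = algebraMap A B a := by
  rw [← MvPolynomial.algebraMap_eq, AlgHom.commutes]

theorem Phi_map (Q : MvPolynomial (Fin r) A) :
    Phi A' π (MvPolynomial.map (algebraMap A A') Q) = (1 : A') ⊗ₜ[A] π Q := by
  induction Q using MvPolynomial.induction_on with
  | C a => rw [map_C, Phi_C, pi_C, algebraMap_tmul_one]
  | add p q hp hq => rw [map_add, map_add, hp, hq, map_add, TensorProduct.tmul_add]
  | mul_X p j hp =>
    rw [map_mul, map_mul, hp, map_X, Phi_X, map_mul π, Algebra.TensorProduct.tmul_mul_tmul,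
      one_mul]

theorem Phi_surjective (hπ : Function.Surjective π) : Function.Surjective (Phi A' π) := by
  intro z
  induction z using TensorProduct.induction_on with
  | zero => exact ⟨0, map_zero _⟩
  | tmul a' b =>
    obtain ⟨Q, rfl⟩ := hπ b
    refine ⟨C a' * MvPolynomial.map (algebraMap A A') Q, ?_⟩
    rw [map_mul, Phi_map, Phi_C, Algebra.TensorProduct.tmul_mul_tmul, mul_one, one_mul]
  | add x y hx hy =>
    obtain ⟨P, rfl⟩ := hx
    obtain ⟨Q, rfl⟩ := hy
    exact ⟨P + Q, map_add _ _ _⟩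

/-- `A[T] → A'[T]/J'` -/
noncomputable def psi0 : MvPolynomial (Fin r) A →ₐ[A] (MvPolynomial (Fin r) A' ⧸ Jp A' g) :=
  aeval (fun j => Ideal.Quotient.mk (Jp A' g) (X j))

theorem psi0_apply (Q : MvPolynomial (Fin r) A) :
    psi0 A' g Q = Ideal.Quotient.mk (Jp A' g) (MvPolynomial.map (algebraMap A A') Q) := by
  induction Q using MvPolynomial.induction_on with
  | C a =>
    rw [psi0, aeval_C, map_C, IsScalarTower.algebraMap_apply A (MvPolynomial (Fin r) A')
      (MvPolynomial (Fin r) A' ⧸ Jp A' g), MvPolynomial.algebraMap_apply]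
    rfl
  | add p q hp hq => rw [map_add, map_add, hp, hq, map_add]
  | mul_X p j hp =>
    rw [map_mul, hp, map_mul (MvPolynomial.map (algebraMap A A')), map_X, map_mul, psi0, aeval_X]

theorem psi0_hh (j : Fin r) : psi0 A' g (hh g j) = 0 := by
  rw [psi0_apply, map_hh, Ideal.Quotient.eq_zero_iff_mem]
  exact Ideal.subset_span (List.mem_ofFn.mpr ⟨j, rfl⟩)

/-- if `B = A[T]/(g_0 T_j - g_j)` and the image of `g` in `A'` is Koszul-regular, then `1 ⊗ g_0` is
a nonzerodivisor of `A' ⊗[A] B`. -/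
theorem tmul_mul_eq_zero (hπ : Function.Surjective π)
    (hker : RingHom.ker π.toRingHom = Ideal.ofList (List.ofFn (hh g)))
    (hK' : LCI.IsKoszulRegularSeq A' (List.ofFn (algebraMap A A' ∘ g)))
    (z : A' ⊗[A] B) (hz : z * ((1 : A') ⊗ₜ[A] algebraMap A B (g 0)) = 0) : z = 0 := by
  have hle : RingHom.ker π.toRingHom ≤ RingHom.ker (psi0 A' g).toRingHom := by
    rw [hker]
    unfold Ideal.ofList
    rw [Ideal.span_le]
    intro x hx
    obtain ⟨j, rfl⟩ := List.mem_ofFn.mp hx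
    exact psi0_hh A' g j
  obtain ⟨ψ₁, hψ₁⟩ : ∃ ψ₁ : B →ₐ[A] (MvPolynomial (Fin r) A' ⧸ Jp A' g),
      ∀ Q, ψ₁ (π Q) = psi0 A' g Q :=
    ⟨AlgHom.liftOfSurjective π hπ (psi0 A' g) hle,
      fun Q => AlgHom.liftOfSurjective_apply π hπ (psi0 A' g) hle Q⟩
  obtain ⟨Ψ, hΨ⟩ : ∃ Ψ : A' ⊗[A] B →ₐ[A'] (MvPolynomial (Fin r) A' ⧸ Jp A' g),
      ∀ (a' : A') (b : B), Ψ (a' ⊗ₜ b) = algebraMap A' _ a' * ψ₁ b :=
    ⟨Algebra.TensorProduct.lift (Algebra.ofId A' _) ψ₁ (fun _ _ => Commute.all _ _),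
      fun a' b => Algebra.TensorProduct.lift_tmul _ _ _ a' b⟩
  have hΨΦ : ∀ Q' : MvPolynomial (Fin r) A', Ψ (Phi A' π Q') = Ideal.Quotient.mk (Jp A' g) Q' := by
    have h : Ψ.comp (Phi A' π) = Ideal.Quotient.mkₐ A' (Jp A' g) := by
      apply MvPolynomial.algHom_ext
      intro j
      rw [AlgHom.comp_apply, Phi_X, hΨ, map_one, one_mul, hψ₁, psi0, aeval_X]
      rfl
    intro Q'
    exact DFunLike.congr_fun h Q'
  have hJΦ : ∀ Q ∈ Jp A' g, Phi A' π Q = 0 := by
    have h : Jp A' g ≤ RingHom.ker (Phi A' π).toRingHom := by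
      unfold Jp Ideal.ofList
      rw [Ideal.span_le]
      intro x hx
      obtain ⟨j, rfl⟩ := List.mem_ofFn.mp hx
      show Phi A' π (hh (algebraMap A A' ∘ g) j) = 0
      rw [← map_hh, Phi_map]
      have h1 : hh g j ∈ RingHom.ker π.toRingHom := by
        rw [hker]
        exact Ideal.subset_span (List.mem_ofFn.mpr ⟨j, rfl⟩)
      have h2 : π (hh g j) = 0 := h1
      rw [h2, TensorProduct.tmul_zero]
    intro Q hQ
    exact h hQ
  obtain ⟨Q', rfl⟩ := Phi_surjective A' π hπ z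
  have h1 : (1 : A') ⊗ₜ[A] algebraMap A B (g 0) = Phi A' π (C (algebraMap A A' (g 0))) := by
    rw [Phi_C, algebraMap_tmul_one]
  rw [h1, ← map_mul] at hz
  have h2 : C (algebraMap A A' (g 0)) * Q' ∈ Jp A' g := by
    rw [← Ideal.Quotient.eq_zero_iff_mem, mul_comm, ← hΨΦ, hz, map_zero]
  have h3 : Q' ∈ Jp A' g := mem_ofList_hh_of_mul_mem (algebraMap A A' ∘ g) hK' Q' h2
  exact hJΦ Q' h3

end tens

section cat

/-- a pushout of `R[T]/(f_0 T_j - f_j)` along `R → R₁` with Koszul-regular image of `f`: the image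
of `f_0` is a nonzerodivisor. -/
theorem map_mem_nonZeroDivisors_of_isPushout_of_presentation {R B R₁ C' : CommRingCat.{u}}
    (φ : R ⟶ B) (ψ : R ⟶ R₁) (α : B ⟶ C') (β : R₁ ⟶ C') (H : IsPushout φ ψ α β) {r : ℕ}
    (f : Fin (r + 1) → R) (π : MvPolynomial (Fin r) R →+* B) (hπ : Function.Surjective π)
    (hπC : ∀ a, π (C a) = φ.hom a)
    (hker : RingHom.ker π = Ideal.ofList (List.ofFn (hh f)))
    (hK' : LCI.IsKoszulRegularSeq R₁ (List.ofFn (ψ.hom ∘ f))) :
    α.hom (φ.hom (f 0)) ∈ nonZeroDivisors C' := by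
  letI algB : Algebra R B := φ.hom.toAlgebra
  letI algR₁ : Algebra R R₁ := ψ.hom.toAlgebra
  have T := CommRingCat.isPushout_tensorProduct R R₁ B
  have Hf : IsPushout (CommRingCat.ofHom (algebraMap R R₁)) (CommRingCat.ofHom (algebraMap R B))
      β α := H.flip
  let e := T.isoIsPushout _ _ Hf
  have hr0 : CommRingCat.ofHom (S := R₁ ⊗[R] B) Algebra.TensorProduct.includeRight.toRingHom ≫
      e.hom = α := T.inr_isoIsPushout_hom _ _ Hf
  have hr : ∀ b : B, e.hom.hom ((1 : R₁) ⊗ₜ[R] b) = α.hom b := fun b =>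
    congrArg (fun k : B ⟶ C' => k.hom b) hr0
  have h2 : ∀ t, e.inv.hom (e.hom.hom t) = t := fun t =>
    congrArg (fun k : CommRingCat.of (R₁ ⊗[R] B) ⟶ CommRingCat.of (R₁ ⊗[R] B) => k.hom t)
      e.hom_inv_id
  have h3 : ∀ t, e.hom.hom (e.inv.hom t) = t := fun t =>
    congrArg (fun k : C' ⟶ C' => k.hom t) e.inv_hom_id
  let π' : MvPolynomial (Fin r) R →ₐ[R] B :=
    { π with
      commutes' := fun a => by
        show π (algebraMap R (MvPolynomial (Fin r) R) a) = φ.hom a
        rw [MvPolynomial.algebraMap_eq]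
        exact hπC a }
  rw [mem_nonZeroDivisors_iff_right]
  intro c hc
  have hc' : e.inv.hom c * ((1 : R₁) ⊗ₜ[R] algebraMap R B (f 0)) = 0 := by
    have h4 : e.hom.hom (e.inv.hom c * ((1 : R₁) ⊗ₜ[R] algebraMap R B (f 0))) = 0 := by
      rw [map_mul, h3, hr]
      exact hc
    have h5 := congrArg e.inv.hom h4
    rwa [h2, map_zero] at h5
  have h6 := tmul_mul_eq_zero (A' := R₁) f π' hπ hker hK' (e.inv.hom c) hc'
  have h7 := congrArg e.hom.hom h6
  rwa [h3, map_zero] at h7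

end cat

end Groth.Agent.Lib.Helper2.BlowKzBCAlg
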