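import Mathlib
import Groth.Prelude.Def_BlowUp2
import Groth.Prelude.Def_RegImm
import Groth.Agent.Lib.Helper2BlowKzBCAlg
import Groth.Agent.Lib.Helper2BlowQRSm
import Groth.Agent.Lib.Helper5KzLocal

/-!
# Blowing up a Koszul-regular ideal commutes with Tor-independent base change (helper2)

Namespace `Groth.Agent.Lib.Helper2.BlowKzBC`.
* `exists_koszulRegular_nhd` : local Koszul-regular generators of a Koszul-regular ideal sheaf near
  any point.
* `isEffCartierIdeal_comap_fst` : the inverse image of the centre in `B ×_X X'` is effective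
  Cartier.
* `isBlowUp_baseChange` : the base change of the blow-up is the blow-up of the inverse image ideal.
-/

set_option autoImplicit false
set_option linter.style.haveILetI false
universe u
open CategoryTheory CategoryTheory.Limits AlgebraicGeometry TopologicalSpace

namespace Groth.Agent.Lib.Helper2.BlowKzBC

open Groth.Agent.Lib.Helper2.BlowKzBCAlg Groth.Agent.Lib.Helper2.BlowLciAlg
open Groth.Agent.Lib.Helper2.BlowQRSm Groth.Agent.Lib.Helper2.BlowThick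
open Groth.Agent.Lib.Helper2.BlowQRGeo Groth.Agent.Lib.Helper5.KzLocal
open Groth.Agent.Lib.Helper20.EffCartier Groth.Agent.Lib.Helper20.RelCartier

theorem ofList_ofFn' {S : Type*} [CommRing S] {c : ℕ} (g : Fin c → S) :
    Ideal.ofList (List.ofFn g) = Ideal.span (Set.range g) := by
  unfold Ideal.ofList
  congr 1
  ext x
  exact List.mem_ofFn

/-- local Koszul-regular generators of a Koszul-regular ideal sheaf near any point. -/
theorem exists_koszulRegular_nhd {X : Scheme.{u}} (𝓘 : X.IdealSheafData)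
    (h𝓘 : RegImm.IsRegularIdeal .koszul 𝓘) (x : X) :
    ∃ (W : X.Opens) (hW : IsAffineOpen W), x ∈ W ∧ ∃ (c : ℕ) (gs : Fin c → Γ(X, W)),
      LCI.IsKoszulRegularSeq Γ(X, W) (List.ofFn gs) ∧
        𝓘.ideal ⟨W, hW⟩ = Ideal.span (Set.range gs) := by
  by_cases hx : x ∈ 𝓘.support
  · obtain ⟨U, hxU, rs, hrs, hI⟩ := h𝓘 x hx
    have hrs' : LCI.IsKoszulRegularSeq Γ(X, U.1) rs := hrs
    refine ⟨U.1, U.2, hxU, rs.length, rs.get, ?_, ?_⟩
    · rw [List.ofFn_get]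
      exact hrs'
    · rw [← ofList_ofFn', List.ofFn_get]
      exact hI
  · obtain ⟨W, hW, hxW, htop⟩ := exists_unit_nhd_of_notMem_support 𝓘 x hx
    refine ⟨W, hW, hxW, 1, fun _ => 1, ?_, ?_⟩
    · have e : List.ofFn (fun _ : Fin 1 => (1 : Γ(X, W))) = [1] := by simp
      rw [e]
      exact isKoszulRegularSeq_singleton 1 (IsSMulRegular.one _)
    · rw [htop]
      symm
      rw [Ideal.eq_top_iff_one]
      exact Ideal.subset_span ⟨0, rfl⟩

set_option maxHeartbeats 1600000 in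
/-- the inverse image of a Koszul-regular centre in `B ×_X X'` is effective Cartier when `g` is
Tor-independent of the centre. -/
theorem isEffCartierIdeal_comap_fst {X X' B P : Scheme.{u}} (𝓘 : X.IdealSheafData)
    (h𝓘 : RegImm.IsRegularIdeal .koszul 𝓘) (g : X' ⟶ X)
    (hg : ∀ (U : X.affineOpens) (rs : List Γ(X, U.1)), LCI.IsKoszulRegularSeq Γ(X, U.1) rs →
      𝓘.ideal U = Ideal.ofList rs → ∀ (V : X'.affineOpens) (e : V.1 ≤ g ⁻¹ᵁ U.1),
        LCI.IsKoszulRegularSeq Γ(X', V.1) (rs.map fun r => (g.appLE U.1 V.1 e).hom r))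
    (b : B ⟶ X) (hb : BlowUp.IsBlowUp b 𝓘) (p : P ⟶ B) (q : P ⟶ X')
    (sq : IsPullback p q b g) :
    BlowUp.IsEffCartierIdeal ((𝓘.comap b).comap p) := by
  intro z
  obtain ⟨W, hW, hxW, c, gs, hKg, hIg⟩ := exists_koszulRegular_nhd 𝓘 h𝓘 (b (p z))
  obtain ⟨i₀, κ, hκ, ht, hκb⟩ := exists_chart_openImmersion 𝓘 b hb (p z) hW hxW gs hIg
  haveI := hκ
  obtain ⟨r, rfl⟩ : ∃ r, c = r + 1 := ⟨c - 1, by have := i₀.pos; omega⟩
  have hU : IsAffineOpen κ.opensRange := isAffineOpen_opensRange κ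
  have hUW : κ.opensRange ≤ b ⁻¹ᵁ W := by
    rintro _ ⟨y, rfl⟩
    show b (κ y) ∈ W
    rw [← Scheme.Hom.comp_apply, hκb, Scheme.Hom.comp_apply]
    exact fromSpec_mem' hW _
  obtain ⟨θ, hθ, -⟩ := exists_iso_of_chart b hW _ κ hUW
    (CommRingCat.ofHom (algebraMap Γ(X, W)
      (BlowUp.affineAlgebra Γ(X, W) (𝓘.ideal ⟨W, hW⟩) (gs i₀)))) hκb
  -- the affine open `V` of `X'`
  have hqz : q z ∈ g ⁻¹ᵁ W := by
    show g (q z) ∈ W
    rw [← Scheme.Hom.comp_apply, ← sq.w, Scheme.Hom.comp_apply]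
    exact hxW
  obtain ⟨_, ⟨V, hV, rfl⟩, hzV, hVW⟩ := (X'.isBasis_affineOpens).exists_subset_of_mem_open
    (show q z ∈ ((g ⁻¹ᵁ W : X'.Opens) : Set X') from hqz) (g ⁻¹ᵁ W).2
  have hVW' : V ≤ g ⁻¹ᵁ W := hVW
  obtain ⟨O, hOdef⟩ : ∃ O : P.Opens, O = p ⁻¹ᵁ κ.opensRange ⊓ q ⁻¹ᵁ V := ⟨_, rfl⟩
  have hO : IsAffineOpen O := by
    have : IsAffine (W : Scheme.{u}) := hW
    have : IsAffine (V : Scheme.{u}) := hV
    have : IsAffine (κ.opensRange : Scheme.{u}) := hU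
    exact .of_isIso (Scheme.Hom.isPullback_resLE sq hVW' hUW hOdef).isoPullback.hom
  have hOU : O ≤ p ⁻¹ᵁ κ.opensRange := by rw [hOdef]; exact inf_le_left
  have hOV : O ≤ q ⁻¹ᵁ V := by rw [hOdef]; exact inf_le_right
  have hpush : IsPushout (b.appLE W κ.opensRange hUW) (g.appLE W V hVW')
      (p.appLE κ.opensRange O hOU) (q.appLE V O hOV) :=
    (isIso_pushoutSection_iff sq hVW' hUW hOdef).1
      (isIso_pushoutSection_of_isAffineOpen sq hVW' hUW hOdef hW hV hU)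
  have hzO : z ∈ O := by rw [hOdef]; exact ⟨ht, hzV⟩
  -- the presentation of the chart
  obtain ⟨σ, hσ0, π, hπ, hkerπ⟩ :=
    exists_presentation_of_index gs hKg (𝓘.ideal ⟨W, hW⟩) hIg i₀
  have hbθ : b.appLE W κ.opensRange hUW = CommRingCat.ofHom (algebraMap Γ(X, W)
      (BlowUp.affineAlgebra Γ(X, W) (𝓘.ideal ⟨W, hW⟩) (gs i₀))) ≫ θ.inv := by
    rw [← hθ, Category.assoc, θ.hom_inv_id, Category.comp_id]
  have hbθ' : ∀ a : Γ(X, W), (b.appLE W κ.opensRange hUW).hom a = θ.inv.hom (algebraMap Γ(X, W)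
      (BlowUp.affineAlgebra Γ(X, W) (𝓘.ideal ⟨W, hW⟩) (gs i₀)) a) := fun a => by
    rw [hbθ]
    rfl
  have hθinj : Function.Injective θ.inv.hom := by
    intro x y hxy
    have h1 := congrArg θ.hom.hom hxy
    have h2 : ∀ t, θ.hom.hom (θ.inv.hom t) = t := fun t =>
      congrArg (fun k : CommRingCat.of (BlowUp.affineAlgebra Γ(X, W) (𝓘.ideal ⟨W, hW⟩) (gs i₀)) ⟶
        CommRingCat.of (BlowUp.affineAlgebra Γ(X, W) (𝓘.ideal ⟨W, hW⟩) (gs i₀)) => k.hom t)
        θ.inv_hom_id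
    rwa [h2, h2] at h1
  have hθsurj : Function.Surjective θ.inv.hom := by
    intro y
    refine ⟨θ.hom.hom y, ?_⟩
    exact congrArg (fun k : Γ(B, κ.opensRange) ⟶ Γ(B, κ.opensRange) => k.hom y) θ.hom_inv_id
  -- the Koszul-regularity after base change
  have hK' : LCI.IsKoszulRegularSeq Γ(X', V)
      (List.ofFn ((g.appLE W V hVW').hom ∘ (gs ∘ σ))) := by
    have hKσ : LCI.IsKoszulRegularSeq Γ(X, W) (List.ofFn (gs ∘ σ)) :=
      Groth.Agent.Lib.Helper5.KzPerm.isKoszulRegularSeq_of_perm (σ.ofFn_comp_perm gs).symm hKg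
    have hIσ : 𝓘.ideal ⟨W, hW⟩ = Ideal.ofList (List.ofFn (gs ∘ σ)) := by
      rw [ofList_ofFn', σ.surjective.range_comp gs]
      exact hIg
    have h1 := hg ⟨W, hW⟩ (List.ofFn (gs ∘ σ)) hKσ hIσ ⟨V, hV⟩ hVW'
    rw [List.map_ofFn] at h1
    exact h1
  have hnzd := map_mem_nonZeroDivisors_of_isPushout_of_presentation
    (b.appLE W κ.opensRange hUW) (g.appLE W V hVW') (p.appLE κ.opensRange O hOU)
    (q.appLE V O hOV) hpush (gs ∘ σ) (θ.inv.hom.comp π.toRingHom)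
    (hθsurj.comp hπ)
    (fun a => by
      show θ.inv.hom (π (MvPolynomial.C a)) = _
      rw [pi_C, hbθ'])
    (by
      rw [← hkerπ]
      ext Q
      rw [RingHom.mem_ker, RingHom.mem_ker]
      show θ.inv.hom (π Q) = 0 ↔ π Q = 0
      rw [← map_zero θ.inv.hom]
      exact hθinj.eq_iff)
    hK'
  rw [hσ0] at hnzd
  refine ⟨⟨O, hO⟩, hzO, (p.appLE κ.opensRange O hOU).hom
    ((b.appLE W κ.opensRange hUW).hom (gs i₀)), hnzd, ?_⟩
  have hmem : gs i₀ ∈ 𝓘.ideal ⟨W, hW⟩ := by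
    rw [hIg]
    exact Ideal.subset_span ⟨i₀, rfl⟩
  have hE : (𝓘.comap b).ideal ⟨κ.opensRange, hU⟩ =
      Ideal.span {(b.appLE W κ.opensRange hUW).hom (gs i₀)} := by
    rw [ideal_comap_eq_map b 𝓘 hU hW hUW, hbθ, CommRingCat.hom_comp, ← Ideal.map_map]
    show Ideal.map θ.inv.hom (Ideal.map (algebraMap Γ(X, W)
      (BlowUp.affineAlgebra Γ(X, W) (𝓘.ideal ⟨W, hW⟩) (gs i₀))) (𝓘.ideal ⟨W, hW⟩)) = _
    rw [map_eq_span _ _ hmem, Ideal.map_span, Set.image_singleton]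
    rfl
  rw [ideal_comap_eq_map p (𝓘.comap b) hO hU hOU, hE, Ideal.map_span, Set.image_singleton]

/-- **Blowing up a Koszul-regular ideal commutes with Tor-independent base change.** -/
theorem isBlowUp_baseChange {X X' B : Scheme.{u}} (𝓘 : X.IdealSheafData)
    (h𝓘 : RegImm.IsRegularIdeal .koszul 𝓘) (g : X' ⟶ X)
    (hg : ∀ (U : X.affineOpens) (rs : List Γ(X, U.1)), LCI.IsKoszulRegularSeq Γ(X, U.1) rs →
      𝓘.ideal U = Ideal.ofList rs → ∀ (V : X'.affineOpens) (e : V.1 ≤ g ⁻¹ᵁ U.1),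
        LCI.IsKoszulRegularSeq Γ(X', V.1) (rs.map fun r => (g.appLE U.1 V.1 e).hom r))
    (b : B ⟶ X) (hb : BlowUp.IsBlowUp b 𝓘) :
    BlowUp.IsBlowUp (pullback.snd b g) (𝓘.comap g) :=
  isBlowUp_of_isPullback_of_effCartier hb g (pullback.fst b g) (pullback.snd b g)
    (IsPullback.of_hasPullback b g)
    (isEffCartierIdeal_comap_fst 𝓘 h𝓘 g hg b hb _ _ (IsPullback.of_hasPullback b g))

end Groth.Agent.Lib.Helper2.BlowKzBC
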