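import Mathlib
import Groth.Prelude.Def_BlowUp2
import Groth.Prelude.Def_Mor2
import Groth.Agent.Lib.Helper2BlowLciAlg
import Groth.Agent.Lib.Helper2BlowQRSm
import Groth.Agent.Lib.Helper5LciImm

/-!
# The blow-up of a regular closed immersion is a local complete intersection (hence perfect)
morphism (helper2)

Namespace `Groth.Agent.Lib.Helper2.BlowLci`.
* `lciMor_of_isBlowUp` : the blow-up of `X` along a regular closed immersion is affine-locally lci.
* `isPerfectMor_of_isBlowUp` : it is a perfect morphism.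
-/

set_option autoImplicit false
set_option linter.style.haveILetI false
universe u
open CategoryTheory CategoryTheory.Limits AlgebraicGeometry TopologicalSpace

namespace Groth.Agent.Lib.Helper2.BlowLci

open Groth.Agent.Lib.Helper2.BlowLciAlg Groth.Agent.Lib.Helper2.BlowQRSm
open Groth.Agent.Lib.Helper2.BlowThick Groth.Agent.Lib.Helper2.BlowQRGeo
open Groth.Agent.Lib.Helper5.LciComp Groth.Agent.Lib.Helper5.LciLocal
open Groth.Agent.Lib.Helper5.LciImm Groth.Agent.Lib.Helper5.KzLocal

/-- local generators of the centre near any point of the base: a Koszul-regular sequence. -/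
theorem exists_koszulRegular_nhd {Y X : Scheme.{u}} (i : Y ⟶ X)
    (hi : Mor2.IsRegularClosedImmersion i) (x : X) :
    ∃ (U : X.Opens) (hU : IsAffineOpen U), x ∈ U ∧ ∃ (c : ℕ) (g : Fin c → Γ(X, U)),
      LCI.IsKoszulRegularSeq Γ(X, U) (List.ofFn g) ∧
        i.ker.ideal ⟨U, hU⟩ = Ideal.span (Set.range g) := by
  haveI := hi.1
  by_cases hy : x ∈ Set.range i
  · obtain ⟨z, rfl⟩ := hy
    obtain ⟨U, hU, hzU, rs, hreg, hIrs⟩ := hi.2 z
    have hreg' : RingTheory.Sequence.IsRegular Γ(X, U) rs := hreg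
    refine ⟨U, hU, hzU, rs.length, rs.get, ?_, ?_⟩
    · rw [List.ofFn_get]
      exact (Groth.Agent.S15821.result _ rs hreg'.toIsWeaklyRegular).1
    · rw [hIrs]
      show Ideal.span {r | r ∈ rs} = _
      congr 1
      ext r
      show r ∈ rs ↔ r ∈ Set.range rs.get
      rw [Set.mem_range]
      exact List.mem_iff_get
  · have hns : x ∉ i.ker.support := by
      intro hx
      have hx' : x ∈ (i.ker.support : Set X) := hx
      rw [Scheme.Hom.support_ker, (i.isClosedEmbedding.isClosed_range).closure_eq] at hx'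
      exact hy hx'
    obtain ⟨U, hU, hwU, htop⟩ := exists_unit_nhd_of_notMem_support i.ker x hns
    refine ⟨U, hU, hwU, 1, fun _ => 1, ?_, ?_⟩
    · have e : List.ofFn (fun _ : Fin 1 => (1 : Γ(X, U))) = [1] := by simp
      rw [e]
      exact isKoszulRegularSeq_singleton 1 (IsSMulRegular.one _)
    · rw [htop]
      symm
      rw [Ideal.eq_top_iff_one]
      exact Ideal.subset_span ⟨0, rfl⟩

/-- the blow-up of a regular closed immersion is affine-locally a local complete intersection. -/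
theorem lciMor_of_isBlowUp {Y X X' : Scheme.{u}} (i : Y ⟶ X)
    (hi : Mor2.IsRegularClosedImmersion i) (b : X' ⟶ X) (hb : BlowUp.IsBlowUp b i.ker) :
    LciMor b := by
  rw [HasRingHomProperty.iff_exists_appLE (P := LciMor)
    stableUnderCompositionWithLocalizationAwaySource]
  intro x'
  obtain ⟨U, hU, hwU, c, g, hKg, hIg⟩ := exists_koszulRegular_nhd i hi (b x')
  obtain ⟨i₀, κ, hκ, ht, hκb⟩ := exists_chart_openImmersion i.ker b hb x' hU hwU g hIg
  haveI := hκ
  have hκU : κ.opensRange ≤ b ⁻¹ᵁ U := by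
    rintro _ ⟨y, rfl⟩
    show b (κ y) ∈ U
    rw [← Scheme.Hom.comp_apply, hκb, Scheme.Hom.comp_apply]
    exact fromSpec_mem' hU _
  obtain ⟨θ, hθ, -⟩ := exists_iso_of_chart b hU _ κ hκU
    (CommRingCat.ofHom (algebraMap Γ(X, U)
      (BlowUp.affineAlgebra Γ(X, U) (i.ker.ideal ⟨U, hU⟩) (g i₀)))) hκb
  refine ⟨⟨U, hU⟩, ⟨κ.opensRange, isAffineOpen_opensRange κ⟩, ht, hκU, ?_⟩
  have hL := isLCI_affineAlgebra_of_index g hKg (i.ker.ideal ⟨U, hU⟩) hIg i₀
  have hL' := isLCIHom_algebraMap _ _ hL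
  have hL'' := isLCIHom_comp_ringEquiv _ θ.symm.commRingCatIsoToRingEquiv hL'
  have e1 : b.appLE U κ.opensRange hκU = CommRingCat.ofHom (algebraMap Γ(X, U)
      (BlowUp.affineAlgebra Γ(X, U) (i.ker.ideal ⟨U, hU⟩) (g i₀))) ≫ θ.inv := by
    rw [← hθ, Category.assoc, θ.hom_inv_id, Category.comp_id]
  show IsLCIHom (b.appLE U κ.opensRange hκU).hom
  rw [e1]
  exact hL''

/-- **The blow-up of a regular closed immersion is a perfect morphism.** -/
theorem isPerfectMor_of_isBlowUp {Y X X' : Scheme.{u}} (i : Y ⟶ X)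
    (hi : Mor2.IsRegularClosedImmersion i) (b : X' ⟶ X) (hb : BlowUp.IsBlowUp b i.ker) :
    MoreMor.IsPerfectMor b := by
  have h := (lciMor_iff b).mp (lciMor_of_isBlowUp i hi b hb)
  intro U V hU hV hUV
  letI := (b.appLE V U hUV).hom.toAlgebra
  exact Groth.Agent.Lib.Helper5.LciPerf.isPerfectHom_of_isLCI _ _ (h U V hU hV hUV)

end Groth.Agent.Lib.Helper2.BlowLci
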