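import Mathlib
import Groth.Prelude.Def_BlowUp2
import Groth.Prelude.Def_CAlgX
import Groth.Agent.Lib.Helper2BlowQRGeo
import Groth.Agent.Lib.Helper5RLR2
import Groth.Agent.Lib.Helper13Vasc4
import Groth.Agent.Lib.Helper5QuasiRegFlat

/-!
# Blow-ups of regular schemes in regular centres are regular (helper2)

Namespace `Groth.Agent.Lib.Helper2.BlowQRReg`.
* `exists_away_quasiRegular` : for a regular ring `A`, an ideal `J` with `A/J` regular and a prime
  `p ⊇ J`, the ideal `J A_g` is generated by a quasi-regular sequence for some `g ∉ p`.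
* `main_reg` : the blow-up of a locally Noetherian scheme with regular local rings along a closed
  subscheme with regular local rings has regular local rings.
-/

set_option autoImplicit false
set_option linter.style.haveILetI false
universe u
open CategoryTheory CategoryTheory.Limits AlgebraicGeometry TopologicalSpace

namespace Groth.Agent.Lib.Helper2.BlowQRReg

open Groth.Agent.Lib.Helper2.BlowQR Groth.Agent.Lib.Helper2.BlowQRLoc
open Groth.Agent.Lib.Helper2.BlowQRGeo Groth.Agent.Lib.Helper28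
open Groth.Agent.Helper13Vasc IsLocalRing

section alg

variable {A : Type u} [CommRing A]

theorem ofList_eq_span_range_get' (l : List A) : Ideal.ofList l = Ideal.span (Set.range l.get) := by
  show Ideal.span {r | r ∈ l} = _
  congr 1
  ext r
  show r ∈ l ↔ r ∈ Set.range l.get
  rw [Set.mem_range]
  exact List.mem_iff_get

theorem exists_away_quasiRegular_aux [hA : IsRegularRing A] (J : Ideal A)
    (hAJ : IsRegularRing (A ⧸ J)) (qb : Ideal (A ⧸ J)) [qb.IsPrime] :
    ∃ g : A, g ∉ qb.comap (Ideal.Quotient.mk J) ∧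
      ∃ (c : ℕ) (f : Fin c → Localization.Away g), CAlgX.IsQuasiRegular f ∧
        J.map (algebraMap A (Localization.Away g)) = Ideal.span (Set.range f) := by
  haveI : IsNoetherianRing A := inferInstance
  obtain ⟨p, hp⟩ : ∃ p : Ideal A, p = qb.comap (Ideal.Quotient.mk J) := ⟨_, rfl⟩
  haveI hpp : p.IsPrime := by
    rw [hp]
    exact Ideal.comap_isPrime _ _
  have hJp : J ≤ p := by
    intro x hx
    rw [hp, Ideal.mem_comap, Ideal.Quotient.eq_zero_iff_mem.mpr hx]
    exact qb.zero_mem
  haveI hR : IsRegularLocalRing (Localization.AtPrime p) := (isRegularRing_iff.1 hA) p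
  haveI hRq : IsRegularLocalRing (Localization.AtPrime p ⧸
      J.map (algebraMap A (Localization.AtPrime p))) := by
    subst hp
    haveI h0 : IsRegularLocalRing (Localization.AtPrime qb) := (isRegularRing_iff.1 hAJ) qb
    exact IsRegularLocalRing.of_ringEquiv (localizationQuotientEquiv J qb)
  obtain ⟨r, x, hli, hIx⟩ := Groth.Agent.Lib.Helper5.exists_linearIndependent_span_range_eq
    (J.map (algebraMap A (Localization.AtPrime p)))
  have hseq := Groth.Agent.Lib.Helper5.isRegular_ofFn_of_linearIndependent x hli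
  have hsurj : ∀ i : Fin r, ∃ (a : A) (s : A), s ∉ p ∧
      ((x i : maximalIdeal (Localization.AtPrime p)) : Localization.AtPrime p) *
        algebraMap A (Localization.AtPrime p) s = algebraMap A (Localization.AtPrime p) a := by
    intro i
    obtain ⟨⟨a, s⟩, h⟩ := IsLocalization.surj p.primeCompl
      ((x i : maximalIdeal (Localization.AtPrime p)) : Localization.AtPrime p)
    exact ⟨a, s, s.2, h⟩
  choose a s hs hxa using hsurj
  have hu : ∀ i, IsUnit (algebraMap A (Localization.AtPrime p) (s i)) := fun i =>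
    IsLocalization.map_units (Localization.AtPrime p) (⟨s i, hs i⟩ : p.primeCompl)
  choose v hv using hu
  have hmap : (List.ofFn a).map (algebraMap A (Localization.AtPrime p)) =
      List.ofFn (fun i => ((x i : maximalIdeal (Localization.AtPrime p)) :
        Localization.AtPrime p) * (v i : Localization.AtPrime p)) := by
    rw [List.map_ofFn]
    congr 1
    funext i
    rw [Function.comp_apply, hv i, hxa i]
  have hF : List.Forall₂ (fun (t t' : Localization.AtPrime p) =>
      ∃ w : (Localization.AtPrime p)ˣ, t' = t * (w : Localization.AtPrime p))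
      (List.ofFn fun i => ((x i : maximalIdeal (Localization.AtPrime p)) :
        Localization.AtPrime p))
      (List.ofFn (fun i => ((x i : maximalIdeal (Localization.AtPrime p)) :
        Localization.AtPrime p) * (v i : Localization.AtPrime p))) := by
    rw [List.forall₂_iff_get]
    refine ⟨by simp, fun i h₁ h₂ => ?_⟩
    simp only [List.get_eq_getElem, List.getElem_ofFn]
    exact ⟨v ⟨i, by simpa using h₁⟩, rfl⟩
  have H1 : RingTheory.Sequence.IsWeaklyRegular (Localization.AtPrime p)
      ((List.ofFn a).map (algebraMap A (Localization.AtPrime p))) := by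
    rw [hmap]
    exact isWeaklyRegular_of_forall₂_units hF hseq.toIsWeaklyRegular
  have H2 : Ideal.ofList ((List.ofFn a).map (algebraMap A (Localization.AtPrime p))) =
      J.map (algebraMap A (Localization.AtPrime p)) := by
    rw [hmap, ofList_eq_of_forall₂_units hF, hIx,
      Groth.Agent.Lib.Helper5.ofList_ofFn_eq_span_range]
  obtain ⟨g, hg, hreg, hideal⟩ := exists_away_isRegular p J hJp (List.ofFn a) H1 H2
  refine ⟨g, hp ▸ hg, _, ((List.ofFn a).map (algebraMap A (Localization.Away g))).get, ?_, ?_⟩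
  · apply Groth.Agent.S5802.Aux.QR.main
    rw [List.ofFn_get]
    exact hreg.toIsWeaklyRegular
  · rw [← hideal]
    exact ofList_eq_span_range_get' _

theorem exists_away_quasiRegular [hA : IsRegularRing A] (J : Ideal A)
    (hAJ : IsRegularRing (A ⧸ J)) (p : Ideal A) [p.IsPrime] (hJp : J ≤ p) :
    ∃ g : A, g ∉ p ∧ ∃ (c : ℕ) (f : Fin c → Localization.Away g), CAlgX.IsQuasiRegular f ∧
        J.map (algebraMap A (Localization.Away g)) = Ideal.span (Set.range f) := by
  have hqb : (p.map (Ideal.Quotient.mk J)).IsPrime :=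
    Ideal.map_isPrime_of_surjective Ideal.Quotient.mk_surjective (by rwa [Ideal.mk_ker])
  have hcm : (p.map (Ideal.Quotient.mk J)).comap (Ideal.Quotient.mk J) = p := by
    rw [Ideal.comap_map_of_surjective _ Ideal.Quotient.mk_surjective, ← RingHom.ker_eq_comap_bot,
      Ideal.mk_ker]
    exact sup_eq_left.mpr hJp
  obtain ⟨g, hg, h⟩ := exists_away_quasiRegular_aux J hAJ (p.map (Ideal.Quotient.mk J))
  exact ⟨g, hcm ▸ hg, h⟩

end alg

section geom

theorem isRegularRing_sections' {S : Scheme.{u}} [IsLocallyNoetherian S]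
    (hreg : ∀ s : S, IsRegularLocalRing ↑(S.presheaf.stalk s)) {V : S.Opens}
    (hV : IsAffineOpen V) : IsRegularRing Γ(S, V) := by
  haveI : IsNoetherianRing Γ(S, V) := IsLocallyNoetherian.component_noetherian ⟨V, hV⟩
  rw [isRegularRing_iff]
  intro p hp
  have hs : hV.fromSpec ⟨p, hp⟩ ∈ V := fromSpec_mem' hV _
  letI := S.presheaf.algebra_section_stalk (U := V) ⟨hV.fromSpec ⟨p, hp⟩, hs⟩
  haveI : IsLocalization.AtPrime (S.presheaf.stalk (hV.fromSpec ⟨p, hp⟩)) p :=
    hV.isLocalization_stalk' ⟨p, hp⟩ hs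
  let e : Localization.AtPrime p ≃ₐ[Γ(S, V)] S.presheaf.stalk (hV.fromSpec ⟨p, hp⟩) :=
    IsLocalization.algEquiv p.primeCompl _ _
  haveI := hreg (hV.fromSpec ⟨p, hp⟩)
  exact IsRegularLocalRing.of_ringEquiv e.symm.toRingEquiv

theorem isRegularRing_quotient_ker {X Y : Scheme.{u}} [IsLocallyNoetherian Y] (i : Y ⟶ X)
    [IsClosedImmersion i] (hregY : ∀ y : Y, IsRegularLocalRing ↑(Y.presheaf.stalk y))
    {U : X.Opens} (hU : IsAffineOpen U) : IsRegularRing (Γ(X, U) ⧸ i.ker.ideal ⟨U, hU⟩) := by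
  have hker : i.ker.ideal ⟨U, hU⟩ = RingHom.ker (i.app U).hom := Scheme.Hom.ker_apply i ⟨U, hU⟩
  have hsurj : Function.Surjective (i.app U).hom := i.app_surjective U hU
  have hU' : IsAffineOpen (i ⁻¹ᵁ U) := hU.preimage i
  haveI : IsRegularRing Γ(Y, i ⁻¹ᵁ U) := isRegularRing_sections' hregY hU'
  rw [hker]
  exact IsRegularRing.of_ringEquiv (RingHom.quotientKerEquivOfSurjective hsurj).symm

theorem isRegularRing_of_subsingleton (R : Type u) [CommRing R] [Subsingleton R] :
    IsRegularRing R := by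
  haveI : IsNoetherianRing R := inferInstance
  rw [isRegularRing_iff]
  intro p hp
  exact absurd (Subsingleton.elim _ _) hp.ne_top

theorem exists_affine_quasiRegular_reg {X Y : Scheme.{u}} [IsLocallyNoetherian X]
    [IsLocallyNoetherian Y] (hreg : ∀ x : X, IsRegularLocalRing ↑(X.presheaf.stalk x))
    (i : Y ⟶ X) [IsClosedImmersion i]
    (hregY : ∀ y : Y, IsRegularLocalRing ↑(Y.presheaf.stalk y)) (w : X) :
    ∃ (U : X.Opens) (hU : IsAffineOpen U), w ∈ U ∧ ∃ (c : ℕ) (g : Fin c → Γ(X, U)),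
      CAlgX.IsQuasiRegular g ∧ i.ker.ideal ⟨U, hU⟩ = Ideal.span (Set.range g) := by
  by_cases hw : w ∈ i.ker.support
  · obtain ⟨U₀, hU₀, hwU₀, -⟩ := exists_isAffineOpen_mem_and_subset (x := w) (U := ⊤) trivial
    haveI hA : IsRegularRing Γ(X, U₀) := isRegularRing_sections' hreg hU₀
    have hAJ : IsRegularRing (Γ(X, U₀) ⧸ i.ker.ideal ⟨U₀, hU₀⟩) :=
      isRegularRing_quotient_ker i hregY hU₀
    obtain ⟨p, hp⟩ : ∃ p : Ideal Γ(X, U₀),
        p = (maximalIdeal (X.presheaf.stalk w)).comap (X.presheaf.germ U₀ w hwU₀).hom := ⟨_, rfl⟩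
    haveI hpp : p.IsPrime := by
      rw [hp]
      exact Ideal.comap_isPrime _ _
    have hmem : ∀ s : Γ(X, U₀), s ∉ p ↔ w ∈ X.basicOpen s := by
      intro s
      rw [Scheme.mem_basicOpen _ _ _ hwU₀, hp, Ideal.mem_comap, IsLocalRing.mem_maximalIdeal,
        mem_nonunits_iff, not_not]
    have hJp : i.ker.ideal ⟨U₀, hU₀⟩ ≤ p := by
      intro s hs
      by_contra hsp
      have h1 := (Scheme.IdealSheafData.mem_support_iff_of_mem (U := ⟨U₀, hU₀⟩) hwU₀).1 hw
      rw [Scheme.mem_zeroLocus_iff] at h1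
      exact h1 s hs ((hmem s).1 hsp)
    obtain ⟨g, hg, c, f, hq, hJf⟩ := exists_away_quasiRegular _ hAJ p hJp
    haveI inst := hU₀.isLocalization_basicOpen g
    obtain ⟨e, he⟩ : ∃ e : Localization.Away g ≃+* Γ(X, X.basicOpen g),
        ∀ a : Γ(X, U₀), e (algebraMap Γ(X, U₀) (Localization.Away g) a) =
          algebraMap Γ(X, U₀) Γ(X, X.basicOpen g) a :=
      ⟨(IsLocalization.algEquiv (Submonoid.powers g) (Localization.Away g)
        Γ(X, X.basicOpen g)).toRingEquiv, fun a => AlgEquiv.commutes _ a⟩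
    refine ⟨X.basicOpen g, hU₀.basicOpen g, (hmem g).1 hg, c, fun j => e (f j),
      Groth.Agent.Lib.Helper5.QuasiRegFlat.isQuasiRegular_map_ringEquiv e f hq, ?_⟩
    have h2 := i.ker.map_ideal_basicOpen ⟨U₀, hU₀⟩ g
    have h3 : i.ker.ideal ⟨X.basicOpen g, hU₀.basicOpen g⟩ =
        i.ker.ideal (X.affineBasicOpen (U := ⟨U₀, hU₀⟩) g) := rfl
    have h4 : (X.presheaf.map (homOfLE (X.basicOpen_le g)).op).hom =
        (e : Localization.Away g →+* Γ(X, X.basicOpen g)).comp
          (algebraMap Γ(X, U₀) (Localization.Away g)) := by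
      ext a
      exact (he a).symm
    rw [h3, ← h2, h4, ← Ideal.map_map, hJf, Ideal.map_span, ← Set.range_comp]
    rfl
  · obtain ⟨U, hU, hwU, htop⟩ := exists_unit_nhd_of_notMem_support i.ker w hw
    refine ⟨U, hU, hwU, 1, fun _ => 1, isQuasiRegular_one, ?_⟩
    rw [htop, eq_comm, Ideal.eq_top_iff_one]
    exact Ideal.subset_span ⟨0, rfl⟩

theorem main_reg {X Y Xt : Scheme.{u}} [IsLocallyNoetherian X] [IsLocallyNoetherian Y]
    (hreg : ∀ x : X, IsRegularLocalRing ↑(X.presheaf.stalk x))
    (i : Y ⟶ X) [IsClosedImmersion i]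
    (hregY : ∀ y : Y, IsRegularLocalRing ↑(Y.presheaf.stalk y))
    (π : Xt ⟶ X) (hπ : BlowUp.IsBlowUp π i.ker) (z : Xt) :
    IsRegularLocalRing ↑(Xt.presheaf.stalk z) := by
  obtain ⟨U, hU, hwU, c, g, hq, hIg⟩ := exists_affine_quasiRegular_reg hreg i hregY (π z)
  haveI hA : IsRegularRing Γ(X, U) := isRegularRing_sections' hreg hU
  have hquot : IsRegularRing (Γ(X, U) ⧸ i.ker.ideal ⟨U, hU⟩) :=
    isRegularRing_quotient_ker i hregY hU
  obtain ⟨i₀, 𝔮, ⟨e⟩⟩ := exists_chart_stalk_equiv i.ker π hπ z hU hwU g hIg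
  haveI hB := isRegularRing_affineAlgebra' g hq _ hIg hquot i₀
  haveI := Groth.Agent.Lib.Helper5.CMAffSp.isRegularLocalRing_stalk_spec _ 𝔮
  exact IsRegularLocalRing.of_ringEquiv e

end geom

end Groth.Agent.Lib.Helper2.BlowQRReg
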