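import Mathlib
import Groth.Prelude.Def_BlowUp2
import Groth.Agent.Lib.Helper20EffCartier
import Groth.Agent.Lib.Helper2AdmSep

/-!
# Separating closures after blowing up: the local argument (helper2)

Namespace `Groth.Agent.Lib.Helper2.BlowSep`.
* `false_of_mem_closure_of_local` : the local key lemma.  `g : Z' ⟶ X'`, `E` a locally principal
  ideal on `X'`, `K ≤ E`, `N` an ideal on `Z'` with `E 𝒪_{Z'} ≤ K 𝒪_{Z'} + N` near `z'`.
  If `S ⊆ V(K) \ V(E)` and `T ⊆ V(N) \ g⁻¹ V(E)` then `z'` cannot lie both over `closure S` and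
  in `closure T`.
* `disjoint_preimage_closure_closure` : the global version.
-/

set_option autoImplicit false
set_option linter.style.haveILetI false
universe u
open CategoryTheory CategoryTheory.Limits AlgebraicGeometry TopologicalSpace Topology

namespace Groth.Agent.Lib.Helper2.BlowSep

open Groth.Agent.Lib.Helper2.AdmSep Groth.Agent.Lib.Helper20.EffCartier

variable {X' Z' : Scheme.{u}}

theorem false_of_mem_closure_of_local (g : Z' ⟶ X') (E K : X'.IdealSheafData)
    (N : Z'.IdealSheafData) (hE : BlowUp.IsEffCartierIdeal E) (hK : K ≤ E)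
    (S : Set X') (T : Set Z')
    (hSK : S ⊆ (K.support : Set X')) (hSE : Disjoint S (E.support : Set X'))
    (hTN : T ⊆ (N.support : Set Z')) (hTE : ∀ w ∈ T, g w ∉ E.support)
    (z' : Z') (O : Z'.Opens) (hzO : z' ∈ O)
    (hloc : ∀ W : Z'.affineOpens, W.1 ≤ O →
      (E.comap g).ideal W ≤ (K.comap g).ideal W ⊔ N.ideal W)
    (hz1 : g z' ∈ closure S) (hz2 : z' ∈ closure T) : False := by
  obtain ⟨V, hxV, t, -, hVt⟩ := hE (g z')
  obtain ⟨W, hW, hzW, hWsub⟩ :=
    exists_isAffineOpen_mem_and_subset (x := z') (U := O ⊓ g ⁻¹ᵁ V.1) ⟨hzO, hxV⟩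
  have hWO : W ≤ O := hWsub.trans inf_le_left
  have hWV : W ≤ g ⁻¹ᵁ V.1 := hWsub.trans inf_le_right
  have hEW : (E.comap g).ideal ⟨W, hW⟩ = Ideal.span {(g.appLE V.1 W hWV).hom t} := by
    rw [ideal_comap_eq_map g E hW V.2 hWV, hVt, Ideal.map_span, Set.image_singleton]
  have hKW : (K.comap g).ideal ⟨W, hW⟩ = Ideal.map (g.appLE V.1 W hWV).hom (K.ideal V) :=
    ideal_comap_eq_map g K hW V.2 hWV
  have claimA : ∀ k ∈ Ideal.map (g.appLE V.1 W hWV).hom (K.ideal V),
      ∃ b' : Γ(Z', W), k = (g.appLE V.1 W hWV).hom t * b' ∧ z' ∉ Z'.basicOpen b' := by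
    intro k hk
    refine Submodule.span_induction
      (p := fun k _ => ∃ b' : Γ(Z', W), k = (g.appLE V.1 W hWV).hom t * b' ∧
        z' ∉ Z'.basicOpen b') ?_ ?_ ?_ ?_ hk
    · rintro _ ⟨κ, hκ, rfl⟩
      have hκE : κ ∈ Ideal.span {t} := by
        rw [← hVt]
        exact (Scheme.IdealSheafData.le_def.mp hK V) hκ
      obtain ⟨c, rfl⟩ := Ideal.mem_span_singleton'.mp hκE
      refine ⟨(g.appLE V.1 W hWV).hom c, by rw [map_mul, mul_comm], ?_⟩
      intro hzc
      have hzc' : g z' ∈ X'.basicOpen c := by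
        have h := (Scheme.basicOpen_appLE g W V.1 hWV c).le hzc
        exact h.2
      obtain ⟨y, hyc, hyS⟩ := mem_closure_iff.mp hz1 _ (X'.basicOpen c).2 hzc'
      have hyV : y ∈ V.1 := X'.basicOpen_le c hyc
      have hyE : y ∉ E.support := fun h => Set.disjoint_left.mp hSE hyS h
      obtain ⟨e, he, hye⟩ := exists_mem_basicOpen_of_not_mem_support E V y hyV hyE
      rw [hVt] at he
      obtain ⟨e', rfl⟩ := Ideal.mem_span_singleton'.mp he
      rw [Scheme.basicOpen_mul] at hye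
      have hyct : y ∈ X'.basicOpen (c * t) := by
        rw [Scheme.basicOpen_mul]
        exact ⟨hyc, hye.2⟩
      exact not_mem_support_of_mem_basicOpen K V (c * t) hκ y hyct (hSK hyS)
    · refine ⟨0, by rw [mul_zero], ?_⟩
      rw [Scheme.basicOpen_zero]
      exact fun h => h
    · rintro k₁ k₂ _ _ ⟨b₁, rfl, h₁⟩ ⟨b₂, rfl, h₂⟩
      refine ⟨b₁ + b₂, by rw [mul_add], fun h => ?_⟩
      rcases Z'.basicOpen_add_le b₁ b₂ h with h | h
      · exact h₁ h
      · exact h₂ h
    · rintro a k _ ⟨b, rfl, hb⟩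
      refine ⟨a * b, by rw [smul_eq_mul]; ring, fun h => ?_⟩
      rw [Scheme.basicOpen_mul] at h
      exact hb h.2
  have htmem : (g.appLE V.1 W hWV).hom t ∈ (K.comap g).ideal ⟨W, hW⟩ ⊔ N.ideal ⟨W, hW⟩ := by
    apply hloc ⟨W, hW⟩ hWO
    rw [hEW]
    exact Ideal.subset_span rfl
  obtain ⟨k, hk, n, hn, hkn⟩ := Submodule.mem_sup.mp htmem
  rw [hKW] at hk
  obtain ⟨b', rfl, hb'⟩ := claimA k hk
  have hzu : z' ∈ Z'.basicOpen (1 - b') := by
    have h := IsLocalRing.isUnit_or_isUnit_of_add_one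
      (a := Z'.presheaf.germ W z' hzW b') (b := Z'.presheaf.germ W z' hzW (1 - b'))
      (by rw [← map_add, add_sub_cancel, map_one])
    rw [Z'.mem_basicOpen _ z' hzW]
    rcases h with h | h
    · exact absurd ((Z'.mem_basicOpen b' z' hzW).mpr h) hb'
    · exact h
  have hn' : (g.appLE V.1 W hWV).hom t * (1 - b') = n := by
    linear_combination (-1 : Γ(Z', W)) * hkn
  obtain ⟨w, hwu, hwT⟩ := mem_closure_iff.mp hz2 _ (Z'.basicOpen (1 - b')).2 hzu
  have hwW : w ∈ W := Z'.basicOpen_le _ hwu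
  have hwE : w ∉ (E.comap g).support := by
    rw [Scheme.IdealSheafData.support_comap]
    exact hTE w hwT
  obtain ⟨e, he, hwe⟩ := exists_mem_basicOpen_of_not_mem_support (E.comap g) ⟨W, hW⟩ w hwW hwE
  rw [hEW] at he
  obtain ⟨e', rfl⟩ := Ideal.mem_span_singleton'.mp he
  rw [Scheme.basicOpen_mul] at hwe
  have hwn : w ∈ Z'.basicOpen n := by
    rw [← hn', Scheme.basicOpen_mul]
    exact ⟨hwe.2, hwu⟩
  exact not_mem_support_of_mem_basicOpen N ⟨W, hW⟩ n hn w hwn (hTN hwT)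

theorem disjoint_preimage_closure_closure (g : Z' ⟶ X') (E K : X'.IdealSheafData)
    (N : Z'.IdealSheafData) (hE : BlowUp.IsEffCartierIdeal E) (hK : K ≤ E)
    (h : E.comap g ≤ K.comap g ⊔ N) (S : Set X') (T : Set Z')
    (hSK : S ⊆ (K.support : Set X')) (hSE : Disjoint S (E.support : Set X'))
    (hTN : T ⊆ (N.support : Set Z')) (hTE : ∀ w ∈ T, g w ∉ E.support) :
    Disjoint ((fun z => g z) ⁻¹' closure S) (closure T) := by
  rw [Set.disjoint_left]
  intro z' hz1 hz2
  exact false_of_mem_closure_of_local g E K N hE hK S T hSK hSE hTN hTE z' ⊤ trivial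
    (fun W _ => Scheme.IdealSheafData.le_def.mp h W) hz1 hz2

end Groth.Agent.Lib.Helper2.BlowSep
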