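import Mathlib
import Groth.Prelude.Def_BlowUp2
import Groth.Agent.Lib.Helper20EffCartier
import Groth.Agent.Lib.Helper2AdmSep
import Groth.Agent.Lib.Helper2QCoh
import Groth.Agent.Lib.Helper2BlowSep

/-!
# Separating closures after an admissible blow-up: existence of the centre (helper2)

Namespace `Groth.Agent.Lib.Helper2.BlowSep`.
* `mem_radical_of_cover`, `exists_pow_map_le` : local power lemma.
* `exists_admissible_center` : Conrad's lemma (Nagata compactification): for `q : X₂ ⟶ X₁`,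
  `V₁ ⊆ X₁` qc open, `Z₁ ⊆ X₁`, `Z₂ ⊆ X₂` closed with qc complements and `q⁻¹(Z₁ ∩ V₁) ⊆ Z₂`, there
  is a finite type ideal `𝓔` with support in `Z₁ \ V₁` such that after blowing up `𝓔` the
  closure of `c⁻¹(Z₁ ∩ V₁)` pulled back to `X₂'` meets the closure of `c₂⁻¹(U)` only over `Z₂`.
-/

set_option autoImplicit false
set_option linter.style.haveILetI false
universe u
open CategoryTheory CategoryTheory.Limits AlgebraicGeometry TopologicalSpace Topology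

namespace Groth.Agent.Lib.Helper2.BlowSep

open Groth.Agent.Lib.Helper2.AdmSep Groth.Agent.Lib.Helper20.EffCartier

theorem mem_radical_of_cover {X : Scheme.{u}} {U : X.Opens} (hU : IsAffineOpen U) (h : Γ(X, U))
    (I : Ideal Γ(X, U)) (hc : ∀ x ∈ X.basicOpen h, ∃ f ∈ I, x ∈ X.basicOpen f) :
    h ∈ I.radical := by
  rw [Ideal.radical_eq_sInf, Ideal.mem_sInf]
  rintro p ⟨hp, hprime⟩
  by_contra hh
  let q : PrimeSpectrum Γ(X, U) := ⟨p, hprime⟩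
  have hx : hU.fromSpec q ∈ X.basicOpen h :=
    (Groth.Agent.Lib.Helper2.QCoh.mem_basicOpen_fromSpec_iff hU q h).2 hh
  obtain ⟨f, hfS, hf⟩ := hc _ hx
  exact (Groth.Agent.Lib.Helper2.QCoh.mem_basicOpen_fromSpec_iff hU q f).1 hf (hp hfS)

variable {X₁ X₂ : Scheme.{u}}

theorem exists_pow_map_le (q : X₂ ⟶ X₁) (K₀ B₀ : X₁.IdealSheafData)
    (hB₀ : BlowUp.IsFiniteTypeIdeal B₀) (V' : X₁.affineOpens) (W₂ : X₂.affineOpens)
    (h : W₂.1 ≤ q ⁻¹ᵁ V'.1)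
    (hsupp : ∀ y ∈ W₂.1, q y ∈ K₀.support → q y ∈ B₀.support) :
    ∃ n : ℕ, (Ideal.map (q.appLE V'.1 W₂.1 h).hom (B₀.ideal V')) ^ n ≤
      Ideal.map (q.appLE V'.1 W₂.1 h).hom (K₀.ideal V') := by
  apply Ideal.exists_pow_le_of_le_radical_of_fg
  · rw [Ideal.map_le_iff_le_comap]
    intro b hb
    rw [Ideal.mem_comap]
    apply mem_radical_of_cover W₂.2
    intro y hy
    have hyW : y ∈ W₂.1 := X₂.basicOpen_le _ hy
    have hqy : q y ∈ X₁.basicOpen b := ((Scheme.basicOpen_appLE q W₂.1 V'.1 h b).le hy).2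
    have hB : q y ∉ B₀.support := not_mem_support_of_mem_basicOpen B₀ V' b hb (q y) hqy
    have hK : q y ∉ K₀.support := fun hk => hB (hsupp y hyW hk)
    have hK' : y ∉ (K₀.comap q).support := by
      rw [Scheme.IdealSheafData.support_comap]
      exact hK
    obtain ⟨f, hf, hyf⟩ := exists_mem_basicOpen_of_not_mem_support (K₀.comap q) W₂ y hyW hK'
    have hf' : f ∈ Ideal.map (q.appLE V'.1 W₂.1 h).hom (K₀.ideal V') := by
      rw [← ideal_comap_eq_map q K₀ W₂.2 V'.2 h]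
      exact hf
    exact ⟨f, hf', hyf⟩
  · exact (hB₀ V').map _

theorem exists_admissible_center [CompactSpace X₁] [QuasiSeparatedSpace X₁]
    (q : X₂ ⟶ X₁) (V₁ : X₁.Opens) (hV₁ : IsCompact (V₁ : Set X₁))
    (U : X₂.Opens) (hU : U ≤ q ⁻¹ᵁ V₁)
    (Z₁ : Set X₁) (hZ₁ : IsClosed Z₁) (hZ₁c : IsCompact Z₁ᶜ)
    (Z₂ : Set X₂) (hZ₂ : IsClosed Z₂) (hZ₂c : IsCompact Z₂ᶜ)
    (hYZ : (fun x => q x) ⁻¹' (Z₁ ∩ (V₁ : Set X₁)) ⊆ Z₂) :
    ∃ 𝓔 : X₁.IdealSheafData, BlowUp.IsFiniteTypeIdeal 𝓔 ∧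
      (𝓔.support : Set X₁) ⊆ Z₁ \ (V₁ : Set X₁) ∧
      ∀ (X₁' : Scheme.{u}) (c : X₁' ⟶ X₁), BlowUp.IsBlowUp c 𝓔 →
        (fun z => (pullback.snd q c) z) ⁻¹' closure ((fun x => c x) ⁻¹' (Z₁ ∩ (V₁ : Set X₁))) ∩
            closure ((fun z => (pullback.fst q c) z) ⁻¹' (U : Set X₂)) ⊆
          (fun z => (pullback.fst q c) z) ⁻¹' Z₂ := by
  classical
  obtain ⟨K₀, hK₀ft, hK₀s⟩ :=
    exists_ft_support_eq_compl (⟨Z₁ᶜ, hZ₁.isOpen_compl⟩ : X₁.Opens) hZ₁c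
  obtain ⟨B₀, hB₀ft, hB₀s⟩ := exists_ft_support_eq_compl V₁ hV₁
  have hK₀s' : (K₀.support : Set X₁) = Z₁ := hK₀s.trans (compl_compl Z₁)
  have hlocal : ∀ x : X₂, x ∈ Z₂ᶜ → ∃ (V' : X₁.affineOpens) (W₂ : X₂.affineOpens)
      (h : W₂.1 ≤ q ⁻¹ᵁ V'.1) (n : ℕ), x ∈ W₂.1 ∧
        (Ideal.map (q.appLE V'.1 W₂.1 h).hom (B₀.ideal V')) ^ n ≤
          Ideal.map (q.appLE V'.1 W₂.1 h).hom (K₀.ideal V') := by
    intro x hx
    obtain ⟨V', hV', hqxV', -⟩ :=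
      exists_isAffineOpen_mem_and_subset (x := q x) (U := ⊤) trivial
    obtain ⟨W₂, hW₂, hxW₂, hW₂sub⟩ := exists_isAffineOpen_mem_and_subset (x := x)
      (U := (⟨Z₂ᶜ, hZ₂.isOpen_compl⟩ : X₂.Opens) ⊓ q ⁻¹ᵁ V') ⟨hx, hqxV'⟩
    have hle : W₂ ≤ q ⁻¹ᵁ V' := hW₂sub.trans inf_le_right
    obtain ⟨n, hn⟩ := exists_pow_map_le q K₀ B₀ hB₀ft ⟨V', hV'⟩ ⟨W₂, hW₂⟩ hle (by
      intro y hyW hyK
      have hyZ₂ : y ∉ Z₂ := (hW₂sub hyW).1
      have hyZ₁ : q y ∈ Z₁ := by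
        have : q y ∈ (K₀.support : Set X₁) := hyK
        rw [hK₀s'] at this
        exact this
      have : q y ∈ (V₁ : Set X₁)ᶜ := fun hyV => hyZ₂ (hYZ ⟨hyZ₁, hyV⟩)
      rw [← hB₀s] at this
      exact this)
    exact ⟨⟨V', hV'⟩, ⟨W₂, hW₂⟩, hle, n, hxW₂, hn⟩
  choose V' W₂ hle n hxW hpow using hlocal
  obtain ⟨t, ht⟩ := hZ₂c.elim_finite_subcover
    (fun x : {x // x ∈ Z₂ᶜ} => ((W₂ x.1 x.2).1 : Set X₂)) (fun x => (W₂ x.1 x.2).1.2) (by
      intro x hx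
      exact Set.mem_iUnion.mpr ⟨⟨x, hx⟩, hxW x hx⟩)
  let m : ℕ := t.sup (fun x => n x.1 x.2)
  have hsupp𝓔 : ((K₀ ⊔ B₀ ^ (m + 1)).support : Set X₁) ⊆ Z₁ \ (V₁ : Set X₁) := by
    intro y hy
    rw [Scheme.IdealSheafData.support_sup, Scheme.IdealSheafData.support_pow_succ] at hy
    have h1 : y ∈ (K₀.support : Set X₁) := hy.1
    have h2 : y ∈ (B₀.support : Set X₁) := hy.2
    rw [hK₀s'] at h1
    rw [hB₀s] at h2
    exact ⟨h1, h2⟩
  refine ⟨K₀ ⊔ B₀ ^ (m + 1), ?_, hsupp𝓔, ?_⟩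
  · intro W
    have : (K₀ ⊔ B₀ ^ (m + 1)).ideal W = K₀.ideal W ⊔ (B₀.ideal W) ^ (m + 1) := rfl
    rw [this]
    exact Submodule.FG.sup (hK₀ft W) (Ideal.FG.pow (hB₀ft W))
  · intro X₁' c hc z' hz
    obtain ⟨hz1, hz2⟩ := hz
    by_contra hzZ₂
    have hx : pullback.fst q c z' ∈ Z₂ᶜ := hzZ₂
    obtain ⟨x₀, hx₀'⟩ := Set.mem_iUnion.mp (ht hx)
    obtain ⟨hx₀t, hx₀⟩ := Set.mem_iUnion.mp hx₀'
    have hnm : n x₀.1 x₀.2 ≤ m := Finset.le_sup (f := fun x => n x.1 x.2) hx₀t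
    refine false_of_mem_closure_of_local (pullback.snd q c) ((K₀ ⊔ B₀ ^ (m + 1)).comap c)
      (K₀.comap c) ⊥ hc.1 (Scheme.IdealSheafData.comap_mono c le_sup_left)
      ((fun x => c x) ⁻¹' (Z₁ ∩ (V₁ : Set X₁)))
      ((fun z => (pullback.fst q c) z) ⁻¹' (U : Set X₂))
      ?hSK ?hSE ?hTN ?hTE z' ((pullback.fst q c) ⁻¹ᵁ (W₂ x₀.1 x₀.2).1) hx₀ ?hloc hz1 hz2
    case hSK =>
      intro y hy
      rw [Scheme.IdealSheafData.support_comap]
      have : c y ∈ (K₀.support : Set X₁) := by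
        rw [hK₀s']
        exact hy.1
      exact this
    case hSE =>
      rw [Set.disjoint_left]
      intro y hy hyE
      rw [Scheme.IdealSheafData.support_comap] at hyE
      exact (hsupp𝓔 hyE).2 hy.2
    case hTN =>
      intro w _
      rw [Scheme.IdealSheafData.support_bot]
      trivial
    case hTE =>
      intro w hw hwE
      rw [Scheme.IdealSheafData.support_comap] at hwE
      have h1 : c (pullback.snd q c w) = q (pullback.fst q c w) := by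
        rw [← Scheme.Hom.comp_apply, ← Scheme.Hom.comp_apply, pullback.condition]
      have h2 : q (pullback.fst q c w) ∈ V₁ := hU hw
      exact (hsupp𝓔 hwE).2 (h1 ▸ h2)
    case hloc =>
      intro W hW
      have e1 : ((K₀ ⊔ B₀ ^ (m + 1)).comap c).comap (pullback.snd q c) =
          ((K₀ ⊔ B₀ ^ (m + 1)).comap q).comap (pullback.fst q c) := by
        rw [← Scheme.IdealSheafData.comap_comp, ← Scheme.IdealSheafData.comap_comp,
          pullback.condition]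
      have e2 : (K₀.comap c).comap (pullback.snd q c) =
          (K₀.comap q).comap (pullback.fst q c) := by
        rw [← Scheme.IdealSheafData.comap_comp, ← Scheme.IdealSheafData.comap_comp,
          pullback.condition]
      rw [e1, e2]
      refine le_trans ?_ le_sup_left
      rw [ideal_comap_eq_map (pullback.fst q c) _ W.2 (W₂ x₀.1 x₀.2).2 hW,
        ideal_comap_eq_map (pullback.fst q c) _ W.2 (W₂ x₀.1 x₀.2).2 hW,
        ideal_comap_eq_map q _ (W₂ x₀.1 x₀.2).2 (V' x₀.1 x₀.2).2 (hle x₀.1 x₀.2),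
        ideal_comap_eq_map q _ (W₂ x₀.1 x₀.2).2 (V' x₀.1 x₀.2).2 (hle x₀.1 x₀.2)]
      apply Ideal.map_mono
      have : (K₀ ⊔ B₀ ^ (m + 1)).ideal (V' x₀.1 x₀.2) =
          K₀.ideal (V' x₀.1 x₀.2) ⊔ (B₀.ideal (V' x₀.1 x₀.2)) ^ (m + 1) := rfl
      rw [this, Ideal.map_sup, Ideal.map_pow]
      refine sup_le le_rfl ?_
      exact (Ideal.pow_le_pow_right (by omega)).trans (hpow x₀.1 x₀.2)

end Groth.Agent.Lib.Helper2.BlowSep
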