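import Mathlib
import Groth.Agent.Lib.Helper3FlatCxRank
import Groth.Agent.Lib.Helper10RedProjU

/-!
# Helper2: Grauert-type algebra — over a reduced ring, a bounded-above finite projective complex whose
top fibre homology has constant dimension has projective first cokernel.
-/

set_option autoImplicit false
set_option linter.style.haveILetI false
universe u

namespace Groth.Agent.Lib.Helper2.GrauertA

open CategoryTheory CategoryTheory.Limits TensorProduct Groth.Agent.S2380 Groth.Agent.Lib.Helper3

variable {A : Type u} [CommRing A]

/-- the fibre dimension of a finite projective module is its stalk rank -/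
theorem fd_eq_rankAtStalk (M : Type u) [AddCommGroup M] [Module A M] [Module.Finite A M]
    [Module.Projective A M] (x : PrimeSpectrum A) : fd M x = Module.rankAtStalk M x :=
  (Module.rankAtStalk_eq (M := M) x).symm

theorem isLocallyConstant_fd (M : Type u) [AddCommGroup M] [Module A M] [Module.Finite A M]
    [Module.Projective A M] : IsLocallyConstant (fun x : PrimeSpectrum A => fd M x) := by
  haveI : Module.FinitePresentation A M := Module.finitePresentation_of_projective A M
  have h : (fun x : PrimeSpectrum A => fd M x) = Module.rankAtStalk (R := A) M := by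
    funext x
    exact fd_eq_rankAtStalk M x
  rw [h]
  exact Module.isLocallyConstant_rankAtStalk

/-- if `Q_{p+1} = 0` then `opcycles p = Q_p` fibrewise -/
theorem fd_opcycles_of_isZero (Q : ChainComplex (ModuleCat.{u} A) ℤ) (p : ℤ)
    (hz : IsZero (Q.X (p + 1))) (x : PrimeSpectrum A) :
    fd (Q.opcycles p) x = fd (Q.X p) x := by
  have hd : Q.d (p + 1) p = 0 := hz.eq_of_src _ _
  haveI : IsIso (Q.pOpcycles p) := Q.isIso_pOpcycles (p + 1) p (by simp) hd
  exact (fd_congr (asIso (Q.pOpcycles p)).toLinearEquiv x).symm

/-- **Grauert's algebra**: over a reduced ring, if `Q` is a complex of finite projective modules with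
`Q_1 = 0` and `x ↦ dim H_0(Q ⊗ κ(x))` is constant, then the cokernel of `Q_0 → Q_{-1}` is projective. -/
theorem projective_opcycles_of_dRank_const [IsReduced A] (Q : ChainComplex (ModuleCat.{u} A) ℤ)
    (hfin : ∀ i, Module.Finite A (Q.X i)) (hproj : ∀ i, Module.Projective A (Q.X i))
    (hz : IsZero (Q.X 1)) (c : ℕ) (hc : ∀ x : PrimeSpectrum A, CohIII.dRank Q 0 x = c) :
    Module.Projective A (Q.opcycles (-1)) := by
  haveI := hfin 0
  haveI := hfin (-1)
  haveI := hproj 0
  haveI := hproj (-1)
  haveI : Module.Finite A (Q.opcycles (-1)) :=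
    Module.Finite.of_surjective (Q.pOpcycles (-1)).hom
      ((ModuleCat.epi_iff_surjective _).mp inferInstance)
  have key : ∀ x : PrimeSpectrum A,
      c + fd (Q.X (-1)) x = fd (Q.X 0) x + fd (Q.opcycles (-1)) x := by
    intro x
    have h1 := dRank_add_opcycles Q hfin 0 x
    rw [hc x, fd_opcycles_of_isZero Q 0 (by simpa using hz) x] at h1
    simpa using h1
  have hlc : IsLocallyConstant (fun x : PrimeSpectrum A => fd (Q.opcycles (-1)) x) := by
    have h1 := isLocallyConstant_fd (A := A) (Q.X (-1))
    have h0 := isLocallyConstant_fd (A := A) (Q.X 0)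
    have h2 : (fun x : PrimeSpectrum A => fd (Q.opcycles (-1)) x) =
        fun x => (fun (ab : ℕ × ℕ) => c + ab.1 - ab.2)
          ((fun x => (fd (Q.X (-1)) x, fd (Q.X 0) x)) x) := by
      funext x
      have := key x
      simp only
      omega
    rw [h2]
    exact (h1.prodMk h0).comp (fun (ab : ℕ × ℕ) => c + ab.1 - ab.2)
  exact Groth.Agent.Lib.Helper10.RedProjU.projective_of_isLocallyConstant hlc

end Groth.Agent.Lib.Helper2.GrauertA
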