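import Mathlib
import Groth.Agent.Lib.Helper2GrauertA
import Groth.Agent.Lib.Helper21BC0Nhd
import Groth.Agent.S2440

/-!
# Helper2: Grauert's theorem in degree 0 with base change, over a reduced base

`f : X ⟶ S` proper of finite presentation, `F` of finite presentation and flat over `S`, `S` reduced and
`s ↦ h⁰(X_s, F_s)` constant.  Then the degree-0 base change map is an isomorphism for every base change.
-/

set_option autoImplicit false
set_option linter.style.haveILetI false
universe u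
open CategoryTheory CategoryTheory.Limits AlgebraicGeometry TensorProduct Opposite TopologicalSpace

namespace Groth.Agent.Lib.Helper2.GrauertB

open Groth.Agent.Lib.Helper17.StalkBC Groth.Agent.Helper13QcqsBC Groth.Agent.Helper13AffBC
  Groth.Agent.Lib.Helper21.BC0Alg Groth.Agent.Lib.Helper21.BC0Geo Groth.Agent.Lib.Helper21.BC0Cx
  Groth.Agent.Lib.Helper21.BC0Free Groth.Agent.Lib.Helper21.BC0Main Groth.Agent.Lib.Helper21.AlgBC
  Groth.Agent.Lib.Helper21.NNBC Groth.Agent.Lib.Helper21.BC0Epi Groth.Agent.Lib.Helper21.BC0Loc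
  Groth.Agent.Lib.Helper21.BC0Nhd

local instance (X : Scheme.{u}) : EnoughInjectives X.Modules :=
  Groth.Agent.Lib.Helper17.QCPush.enoughInjectives X

variable {X S : Scheme.{u}} (f : X ⟶ S) [IsProper f] [LocallyOfFinitePresentation f]
  (F : X.Modules) (hF : CohB1.IsFP F) (hflat : FlatMod.IsFlatOver f F)

include hF hflat in
/-- the local universal complex over an affine open of a reduced base with constant `h⁰`: the first
cokernel is projective -/
theorem exists_local_complex_reduced [IsReduced S] (c : ℕ)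
    (hc : ∀ s : S, PerfAux.betti f F s 0 = c) {U : S.Opens} (hU : IsAffineOpen U) :
    ∃ (A₀ : CommRingCat.{u}) (_ : IsNoetherianRing A₀) (φ : A₀ ⟶ Γ(S, U))
      (P : ChainComplex (ModuleCat.{u} A₀) ℤ),
      (∀ i, Module.Finite A₀ (P.X i) ∧ Module.Projective A₀ (P.X i)) ∧
      IsZero (P.X 1) ∧
      (∀ p : ℕ, Nonempty (Γ((Coh.Rpush f p).obj F, U) ≃ₗ[Γ(S, U)]
        ↑((CohIII.bcCx φ.hom P).homology (-(p : ℤ))))) ∧
      (∀ {S' X' : Scheme.{u}} (g : S' ⟶ S) (g' : X' ⟶ X) (f' : X' ⟶ S')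
        (h : IsPullback g' f' f g) {U' : S'.Opens} (_ : IsAffineOpen U') (hle : U' ≤ g ⁻¹ᵁ U),
        letI : Algebra Γ(S, U) Γ(S', U') := (g.appLE U U' hle).hom.toAlgebra
        (KerBC Γ(S', U') ((CohIII.bcCx φ.hom P).d 0 (-1)).hom →
            KBij f g g' f' h F hle (f ⁻¹ᵁ U) le_rfl)) ∧
      Module.Projective Γ(S, U) ((CohIII.bcCx φ.hom P).opcycles (-1)) := by
  haveI hq : F.IsQuasicoherent := Groth.Agent.Helper18Strict.isQCoh_of_isFP F hF
  obtain ⟨A₀, hA₀, φ, P, hP, ⟨N, hN⟩, hrk, hH, hK⟩ := exists_local_complex0 f F hF hflat hU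
  refine ⟨A₀, hA₀, φ, P, hP, hN 1 (Or.inl one_pos), hH,
    @fun S' X' g g' f' h U' hU' hle => (hK g g' f' h hU' hle).1, ?_⟩
  letI : Algebra A₀ Γ(S, U) := φ.hom.toAlgebra
  let Q := CohIII.bcCx (algebraMap A₀ Γ(S, U)) P
  have hfin : ∀ i, Module.Finite Γ(S, U) (Q.X i) := fun i => by
    haveI := (hP i).1
    exact finite_bcCx_X P Γ(S, U) i
  have hproj : ∀ i, Module.Projective Γ(S, U) (Q.X i) := fun i => by
    haveI := (hP i).2
    exact projective_bcCx_X P Γ(S, U) i
  have hz : IsZero (Q.X 1) :=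
    Functor.map_isZero (ModuleCat.extendScalars (algebraMap A₀ Γ(S, U))) (hN 1 (Or.inl one_pos))
  have hflatP : ∀ i, Module.Flat A₀ (P.X i) := fun i => by
    haveI := (hP i).2
    infer_instance
  have hconst : ∀ x : PrimeSpectrum Γ(S, U), CohIII.dRank Q 0 x = c := by
    intro x
    have h1 := Groth.Agent.S2440.result (A' := Γ(S, U)) P hflatP 0 x
    have h2 := hrk x 0
    rw [hc] at h2
    have e00 : (-((0 : ℕ) : ℤ)) = 0 := by norm_num
    rw [e00] at h2
    rw [← h2]
    exact h1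
  exact Groth.Agent.Lib.Helper2.GrauertA.projective_opcycles_of_dRank_const Q hfin hproj hz c hconst

include hF hflat in
/-- **Grauert, degree 0, with base change**: over a reduced base with constant `h⁰`, the degree-0 base
change map is an isomorphism for every base change -/
theorem isIso_bcMap [IsReduced S] (c : ℕ) (hc : ∀ s : S, PerfAux.betti f F s 0 = c)
    {S' X' : Scheme.{u}} (g : S' ⟶ S) (g' : X' ⟶ X) (f' : X' ⟶ S') (h : IsPullback g' f' f g) :
    IsIso (bcMap f g g' f' h F) := by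
  haveI hq : F.IsQuasicoherent := Groth.Agent.Helper18Strict.isQCoh_of_isFP F hF
  haveI : Coh.IsQCoh F := hq
  let ι : Type u :=
    {U' : S'.Opens // IsAffineOpen U' ∧ ∃ V : S.Opens, IsAffineOpen V ∧ U' ≤ g ⁻¹ᵁ V}
  refine isIso_of_bijective_on_basis _ (fun i : ι => i.1) ?_ ?_
  · rw [Opens.isBasis_iff_nbhd]
    intro W' z hzW
    obtain ⟨V, hV, hzV, -⟩ := exists_isAffineOpen_mem_and_subset (x := g z) (U := ⊤) trivial
    obtain ⟨U', hU', hzU', hU'W⟩ := exists_isAffineOpen_mem_and_subset (x := z)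
      (U := W' ⊓ g ⁻¹ᵁ V) ⟨hzW, hzV⟩
    exact ⟨U', ⟨⟨U', hU', V, hV, hU'W.trans inf_le_right⟩, rfl⟩, hzU', hU'W.trans inf_le_left⟩
  · rintro ⟨U', hU', V, hV, hle⟩
    obtain ⟨A₀, hA₀, φ, P, hP, hz, hH, hK, hW⟩ :=
      exists_local_complex_reduced f F hF hflat c hc hV
    letI : Algebra A₀ Γ(S, V) := φ.hom.toAlgebra
    let Q := CohIII.bcCx (algebraMap A₀ Γ(S, V)) P
    haveI hfin : ∀ i, Module.Finite Γ(S, V) (Q.X i) := fun i => by
      haveI := (hP i).1
      exact finite_bcCx_X P Γ(S, V) i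
    haveI hproj : ∀ i, Module.Projective Γ(S, V) (Q.X i) := fun i => by
      haveI := (hP i).2
      exact projective_bcCx_X P Γ(S, V) i
    haveI := hfin 0
    haveI := hfin (-1)
    haveI := hproj (-1)
    haveI : Module.FinitePresentation Γ(S, V) (Q.opcycles (-1)) :=
      finitePresentation_opcycles Q 0 (-1) (by simp)
    haveI : Module.Projective Γ(S, V) (Q.opcycles (-1)) := hW
    have huniv : Module.freeLocus Γ(S, V) (Q.opcycles (-1)) = Set.univ :=
      Module.freeLocus_eq_univ_iff.mpr inferInstance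
    letI : Algebra Γ(S, V) Γ(S', U') := (g.appLE V U' hle).hom.toAlgebra
    have hker : KerBC Γ(S', U') (Q.d 0 (-1)).hom :=
      kerBC_of_flat_of_freeLocus Γ(S, V) Q (fun x => by rw [huniv]; trivial) Γ(S', U')
    have hb := hK g g' f' h hU' hle hker
    exact (bcMap_app_iff f g g' f' h F hle hV hU').1.2 hb

end Groth.Agent.Lib.Helper2.GrauertB
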