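import Mathlib
import Groth.Agent.S2128
import Groth.Agent.S0468
import Groth.Agent.S0484
import Groth.Agent.Lib.Helper23AffOpen2

/-!
# Vanishing of cohomology of quasi-coherent modules from the finitely presented case (helper2)

On a quasi-compact quasi-separated scheme, `H^p(W, M) = 0` for a compact open `W` and a
quasi-coherent `M` as soon as this holds for all finitely presented modules (filtered colimits).

Namespace `Groth.Agent.Lib.Helper2.FibVanA`.
-/

set_option autoImplicit false
set_option linter.style.haveILetI false
universe u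
open CategoryTheory CategoryTheory.Limits AlgebraicGeometry TopologicalSpace Opposite

namespace Groth.Agent.Lib.Helper2.FibVanA

open Groth.Agent.Lib.Helper23.AffVanish

/-- the vertex of a colimit cocone on a diagram of zero objects is zero -/
theorem isZero_pt_of_isColimit {J C : Type*} [Category J] [Category C] [HasZeroMorphisms C]
    {D : J ⥤ C} (c : Cocone D) (hc : IsColimit c) (h : ∀ j, IsZero (D.obj j)) : IsZero c.pt := by
  rw [IsZero.iff_id_eq_zero]
  apply hc.hom_ext
  intro j
  exact (h j).eq_of_src _ _

theorem subsingleton_HE_of_fp (X : Scheme.{u}) [CompactSpace X] [QuasiSeparatedSpace X]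
    (M : X.Modules) (hM : Coh.IsQCoh M) (W : X.Opens) (hW : IsCompact (W : Set X)) (p : ℕ)
    (h : ∀ M' : X.Modules, CohB1.IsFP M' → Subsingleton (HE (ab' M') p W)) :
    Subsingleton (HE (ab' M) p W) := by
  obtain ⟨I, _, _, D, c, hc, hfp, rfl⟩ := Groth.Agent.S2128.result X M hM
  obtain ⟨α, _, _, _, F, hF⟩ := IsFiltered.exists_directed I
  have hc' : IsColimit (c.whisker F) := (Functor.Final.isColimitWhiskerEquiv F c).symm hc
  let T := SheafOfModules.toSheaf.{u} X.ringCatSheaf
  haveI hT : PreservesColimitsOfShape α T :=
    Groth.Agent.S0484.preservesColimitsOfShape_toSheaf (Opens.grothendieckTopology X)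
      X.ringCatSheaf α
  let G : CohTop.Ab X.carrier ⥤ AddCommGrpCat.{u} :=
    (Sheaf.cohomologyPresheafFunctor (Opens.grothendieckTopology X.carrier) p).flip.obj (op W)
  haveI hG : PreservesColimitsOfShape α G := Groth.Agent.S0468.result W hW α p
  have h1 : IsColimit (G.mapCocone (T.mapCocone (c.whisker F))) :=
    isColimitOfPreserves G (isColimitOfPreserves T hc')
  have h2 : IsZero (G.mapCocone (T.mapCocone (c.whisker F))).pt := by
    refine isZero_pt_of_isColimit _ h1 (fun a => ?_)
    haveI : Subsingleton (HE (ab' (D.obj (F.obj a))) p W) := h _ (hfp _)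
    exact AddCommGrpCat.isZero_of_subsingleton
      (AddCommGrpCat.of (HE (ab' (D.obj (F.obj a))) p W))
  exact AddCommGrpCat.subsingleton_of_isZero h2

end Groth.Agent.Lib.Helper2.FibVanA
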