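import Mathlib
import Groth.Prelude
import Groth.Agent.Lib.Helper17FFun
import Groth.Agent.Lib.Helper23ZarConnB1
import Groth.Agent.Lib.Helper19GVB
import Groth.Agent.S0458
import Groth.Agent.Lib.Helper27FibreStalk

set_option autoImplicit false
set_option linter.style.haveILetI false
universe u
open CategoryTheory CategoryTheory.Limits AlgebraicGeometry TopologicalSpace Opposite

namespace Groth.Agent.Lib.Helper2.FibDimA

open Groth.Agent.Lib.Helper27FibreStalk Groth.Agent.Lib.Helper19GV Groth.Agent.Lib.Helper16.ClosedEmb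
  Groth.Agent.Lib.Helper23.ZarConnB1

variable {X Y : Scheme.{u}} (f : X ⟶ Y) [IsProper f] [IsLocallyNoetherian Y] (y : Y)

/-- the complement of the closed fibre in the base change to the local ring -/
noncomputable def Wopen : (pullback f (Y.fromSpecStalk y)).Opens :=
  (pullback.snd f (Y.fromSpecStalk y)) ⁻¹ᵁ
    ⟨{IsLocalRing.closedPoint (Y.presheaf.stalk y)}ᶜ,
      (IsLocalRing.isClosed_singleton_closedPoint (Y.presheaf.stalk y)).isOpen_compl⟩

theorem mem_Wopen (x : ↥(pullback f (Y.fromSpecStalk y))) :
    x ∈ Wopen f y ↔ (pullback.snd f (Y.fromSpecStalk y)) x ≠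
      IsLocalRing.closedPoint (Y.presheaf.stalk y) := Iff.rfl

/-- the range of the closed fibre -/
theorem range_jFib : Set.range (jFib f y) = ((Wopen f y : Set _))ᶜ := by
  have h := Scheme.image_preimage_eq_of_isPullback (isPullback_jFib f y).flip Set.univ
  rw [Set.preimage_univ, Set.image_univ, Set.image_univ] at h
  rw [h]
  ext x
  simp only [Set.mem_preimage, Set.mem_range, Set.mem_compl_iff, SetLike.mem_coe, mem_Wopen,
    not_not]
  constructor
  · rintro ⟨z, hz⟩
    rw [← hz]
    exact IsLocalRing.PrimeSpectrum.comap_residue (Y.presheaf.stalk y) z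
  · intro hx
    haveI : Nonempty ↥(Spec (Y.residueField y)) := inferInstance
    obtain ⟨z⟩ := this
    exact ⟨z, (IsLocalRing.PrimeSpectrum.comap_residue (Y.presheaf.stalk y) z).trans hx.symm⟩

instance isClosedImmersion_jFib : IsClosedImmersion (jFib f y) := by
  have h0 : IsClosedImmersion (Spec.map (Y.residue y)) :=
    IsClosedImmersion.spec_of_surjective _ (Y.residue_surjective y)
  exact MorphismProperty.of_isPullback (P := @IsClosedImmersion) (isPullback_jFib f y).flip h0

instance noetherianSpace_localBase : NoetherianSpace ↥(pullback f (Y.fromSpecStalk y)) := by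
  haveI : IsNoetherianRing (Y.presheaf.stalk y) := inferInstance
  haveI : IsLocallyNoetherian (pullback f (Y.fromSpecStalk y)) :=
    LocallyOfFiniteType.isLocallyNoetherian (pullback.snd f (Y.fromSpecStalk y))
  haveI : CompactSpace ↥(pullback f (Y.fromSpecStalk y)) :=
    QuasiCompact.compactSpace_of_compactSpace (pullback.snd f (Y.fromSpecStalk y))
  haveI : IsNoetherian (pullback f (Y.fromSpecStalk y)) := {}
  infer_instance

theorem vanP_closedFibre (d : ℕ) (hd : topologicalKrullDim ↥(f.fiber y) ≤ d) :
    VanP (TopCat.of (((Wopen f y : Set ↥(pullback f (Y.fromSpecStalk y))))ᶜ :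
      Set ↥(pullback f (Y.fromSpecStalk y)))) (d + 1) := by
  intro F p hp
  let h1 : ↥(f.fiber y) ≃ₜ Set.range (jFib f y) :=
    (jFib f y).isClosedEmbedding.isEmbedding.toHomeomorph
  let h2 : ↥(Set.range (jFib f y)) ≃ₜ
      ↥(((Wopen f y : Set ↥(pullback f (Y.fromSpecStalk y))))ᶜ) :=
    Homeomorph.setCongr (range_jFib f y)
  have hdim : topologicalKrullDim ↥(((Wopen f y : Set ↥(pullback f (Y.fromSpecStalk y))))ᶜ) ≤ d :=
    ((h1.trans h2).symm.isInducing.topologicalKrullDim_le).trans hd
  haveI : NoetherianSpace ↥(((Wopen f y : Set ↥(pullback f (Y.fromSpecStalk y))))ᶜ) :=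
    inferInstance
  exact Groth.Agent.S0458.result (X := TopCat.of _) d hdim F p (by omega)

/-- a module on the base change to the local ring killed by a power of the maximal ideal has no
cohomology above the dimension of the closed fibre -/
theorem subsingleton_HH_of_killedBy (d : ℕ) (hd : topologicalKrullDim ↥(f.fiber y) ≤ d)
    (G : (pullback f (Y.fromSpecStalk y)).Modules) (n : ℕ)
    (hG : letI := overLocal f y
      Formal.KilledBy (IsLocalRing.maximalIdeal (Y.presheaf.stalk y) ^ n) G)
    (p : ℕ) (hp : d < p) :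
    Subsingleton (Coh.HH (pullback f (Y.fromSpecStalk y)) G p) := by
  letI := overLocal f y
  have hSZ : SZ (X := (pullback f (Y.fromSpecStalk y)).carrier) (Wopen f y) (Coh.toAb G) := by
    intro V hV
    refine ⟨fun s t => ?_⟩
    have key : ∀ t : Γ(G, V), t = 0 := by
      intro t
      refine section_eq_zero_of_killed G _ hG V (fun x hx => ?_) t
      have hx' := (mem_Wopen f y x).1 (hV hx)
      -- an element of the maximal ideal not in the prime of `π x`
      have hne : ((pullback.snd f (Y.fromSpecStalk y)) x).asIdeal ≠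
          IsLocalRing.maximalIdeal (Y.presheaf.stalk y) := by
        intro h
        apply hx'
        exact PrimeSpectrum.ext h
      have hle : ((pullback.snd f (Y.fromSpecStalk y)) x).asIdeal ≤
          IsLocalRing.maximalIdeal (Y.presheaf.stalk y) :=
        IsLocalRing.le_maximalIdeal ((pullback.snd f (Y.fromSpecStalk y)) x).isPrime.ne_top
      obtain ⟨a, ha, hax⟩ := SetLike.exists_of_lt (lt_of_le_of_ne hle hne)
      refine ⟨a ^ n, Ideal.pow_mem_pow ha n, ?_⟩
      have h1 := Scheme.preimage_basicOpen (pullback.snd f (Y.fromSpecStalk y))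
        ((Scheme.ΓSpecIso (Y.presheaf.stalk y)).inv.hom (a ^ n))
      have h2 : (pullback.snd f (Y.fromSpecStalk y)) x ∈
          ((Spec (Y.presheaf.stalk y)).basicOpen
            ((Scheme.ΓSpecIso (Y.presheaf.stalk y)).inv.hom (a ^ n))) := by
        rw [basicOpen_eq_of_affine]
        change a ^ n ∉ ((pullback.snd f (Y.fromSpecStalk y)) x).asIdeal
        exact fun h => hax (((pullback.snd f (Y.fromSpecStalk y)) x).isPrime.mem_of_pow_mem n h)
      have h3 : x ∈ (pullback.snd f (Y.fromSpecStalk y)) ⁻¹ᵁ
          ((Spec (Y.presheaf.stalk y)).basicOpen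
            ((Scheme.ΓSpecIso (Y.presheaf.stalk y)).inv.hom (a ^ n))) := h2
      rw [h1] at h3
      exact h3
    exact (key s).trans (key t).symm
  exact H_of_SZ (Y := (pullback f (Y.fromSpecStalk y)).carrier) (Wopen f y) (Coh.toAb G) hSZ (d + 1)
    (vanP_closedFibre f y d hd) p (by omega)

end Groth.Agent.Lib.Helper2.FibDimA
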