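import Mathlib
import Groth.Agent.Lib.Helper2FibVanA
import Groth.Agent.Lib.Helper23PushBound
import Groth.Agent.Lib.Helper17LerayTop3
import Groth.Agent.Lib.Helper18Epi1
import Groth.Agent.Lib.Helper18Strict6
import Groth.Agent.S0042
import Groth.Agent.S11319

/-!
# Vanishing of higher direct images above the fibre dimension: the Noetherian case, all
quasi-coherent modules (helper2)

Namespace `Groth.Agent.Lib.Helper2.FibVanB`.
-/

set_option autoImplicit false
set_option linter.style.haveILetI false
universe u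
open CategoryTheory CategoryTheory.Limits AlgebraicGeometry TopologicalSpace Opposite

namespace Groth.Agent.Lib.Helper2.FibVanB

open Groth.Agent.Lib.Helper23.AffVanish

local instance (X : Scheme.{u}) : EnoughInjectives X.Modules :=
  Groth.Agent.Lib.Helper17.QCPush.enoughInjectives X

variable {X S : Scheme.{u}} (f : X ⟶ S) [IsProper f]

/-- coherent case: the higher direct images vanish (as sheaves) above the fibre dimension -/
theorem isZero_RpushAb_coh [IsLocallyNoetherian S] (d : ℕ)
    (hd : ∀ t : S, topologicalKrullDim ↥(f.fiber t) ≤ d) (M : X.Modules) (hM : Coh.IsCoh M)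
    (p : ℕ) (hp : d < p) : IsZero ((Coh.RpushAb f p).obj (Coh.toAb M)) := by
  obtain ⟨θ⟩ := Groth.Agent.S11319.result f M p
  have hz : IsZero ((Coh.Rpush f p).obj M) := by
    refine Groth.Agent.Helper18Epi.isZero_of_subsingleton_stalk _ (fun y => ?_)
    have h1 := Groth.Agent.S0042.result f y d (hd y) M hM p hp
    have h2 : IsZero (TopCat.Presheaf.stalk (C := AddCommGrpCat.{u})
        (Coh.toAb ((Coh.Rpush f p).obj M)).obj y) :=
      h1.of_iso ((TopCat.Presheaf.stalkFunctor AddCommGrpCat.{u} y).mapIso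
        ((sheafToPresheaf _ _).mapIso θ))
    exact AddCommGrpCat.subsingleton_of_isZero h2
  have hz' : IsZero (Coh.toAb ((Coh.Rpush f p).obj M)) :=
    (SheafOfModules.toSheaf.{u} S.ringCatSheaf).map_isZero hz
  exact hz'.of_iso θ.symm

/-- the Noetherian case for all quasi-coherent modules -/
theorem isZero_RpushAb_noeth [IsNoetherian S] (d : ℕ)
    (hd : ∀ t : S, topologicalKrullDim ↥(f.fiber t) ≤ d) (M : X.Modules) (hM : Coh.IsQCoh M)
    (i : ℕ) (hi : d < i) : IsZero ((Coh.RpushAb f i).obj (Coh.toAb M)) := by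
  haveI : CompactSpace X := QuasiCompact.compactSpace_of_compactSpace f
  haveI : QuasiSeparatedSpace X := quasiSeparatedSpace_of_quasiSeparated f
  obtain ⟨n, rfl⟩ : ∃ k, i = k + 1 := ⟨i - 1, by omega⟩
  let B : Set S.Opens := {V | IsAffineOpen V}
  have hB : TopologicalSpace.Opens.IsBasis B := S.isBasis_affineOpens
  refine Groth.Agent.Lib.Helper23.PushBound.isZero_Rpush_of_basis_bound f.base B hB
    (ab' M) d ?_ n (by omega)
  intro V hV k hk
  have hV' : IsAffineOpen V := hV
  refine Groth.Agent.Lib.Helper2.FibVanA.subsingleton_HE_of_fp X M hM (f ⁻¹ᵁ V)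
    (QuasiCompact.isCompact_preimage (f := f) _ V.isOpen hV'.isCompact) (k + 1) ?_
  intro M' hfp
  have hcoh : Coh.IsCoh M' :=
    ⟨Groth.Agent.Helper18Strict.isQCoh_of_isFP _ hfp, Groth.Agent.Helper18Strict.isFT_of_isFP _ hfp⟩
  haveI : Coh.IsQCoh M' := hcoh.1
  exact Groth.Agent.Lib.Helper17.LerayTop.subsingleton_HE_preimage_of_isZero f M' hV' (k + 1)
    (isZero_RpushAb_coh f d hd M' hcoh (k + 1) (by omega))

end Groth.Agent.Lib.Helper2.FibVanB
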