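import Mathlib
import Groth.Agent.Lib.Helper2FibVanB
import Groth.Agent.Lib.Helper22LimBC2
import Groth.Agent.Lib.Helper22LimSep
import Groth.Agent.Lib.Helper3FlatFibDim2
import Groth.Agent.S2074
import Groth.Agent.S7384
import Groth.Agent.S0591
import Groth.Agent.S9215
import Groth.Agent.S7448

/-!
# Vanishing of higher direct images above the fibre dimension: proper morphisms of finite
presentation over a quasi-compact quasi-separated base (helper2)

Namespace `Groth.Agent.Lib.Helper2.FibVanC`.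
-/

set_option autoImplicit false
set_option linter.style.haveILetI false
universe u
open CategoryTheory CategoryTheory.Limits AlgebraicGeometry TopologicalSpace Opposite

namespace Groth.Agent.Lib.Helper2.FibVanC

open Groth.Agent.Lib.Helper22 Groth.Agent.Lib.Helper22.LimBC Groth.Agent.Lib.Helper22.LimSep

/-- fibre dimension bounds pass to base changes -/
theorem fibre_dim_le_of_isPullback {X Y X' Y' : Scheme.{u}} (f : X ⟶ Y) [LocallyOfFiniteType f]
    (g : Y' ⟶ Y) (f' : X' ⟶ Y') (g' : X' ⟶ X) (hc : IsPullback g' f' f g) (d : ℕ)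
    (hd : ∀ y : Y, topologicalKrullDim ↥(f.fiber y) ≤ d) (y' : Y') :
    topologicalKrullDim ↥(f'.fiber y') ≤ d := by
  rw [Groth.Agent.Lib.Helper3.FlatFibDim2.dim_fiber_eq_of_isPullback f g f' g' hc y']
  exact hd _

/-- a quasi-compact scheme locally of finite type over `ℤ` is Noetherian -/
theorem isNoetherian_of_lft_int (T : Scheme.{u}) [CompactSpace T]
    (h : LocallyOfFiniteType (Limits.IsTerminal.from specULiftZIsTerminal T)) :
    IsNoetherian T := by
  haveI : IsLocallyNoetherian T :=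
    LocallyOfFiniteType.isLocallyNoetherian (Limits.IsTerminal.from specULiftZIsTerminal T)
  exact { }

set_option backward.isDefEq.respectTransparency.types false in
/-- a proper finitely presented morphism to a cofiltered limit (affine transition maps, quasi-compact
quasi-separated stages) with fibres of dimension at most `d` is the base change of such a morphism
to a stage -/
theorem exists_stage_model {I : Type u} [SmallCategory I] [IsCofiltered I]
    (D : I ⥤ Scheme.{u}) (c : Limits.Cone D) (hc : Limits.IsLimit c)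
    [∀ (i j : I) (f : i ⟶ j), IsAffineHom (D.map f)] [∀ i, CompactSpace (D.obj i)]
    [∀ i, QuasiSeparatedSpace (D.obj i)]
    {X : Scheme.{u}} (f : X ⟶ c.pt) [IsProper f] [LocallyOfFinitePresentation f] (d : ℕ)
    (hd : ∀ t : c.pt, topologicalKrullDim ↥(f.fiber t) ≤ d) :
    ∃ (k : I) (Xk : Scheme.{u}) (fk : Xk ⟶ D.obj k) (q : X ⟶ Xk),
      IsPullback q f fk (c.π.app k) ∧ IsProper fk ∧ LocallyOfFinitePresentation fk ∧
      ∀ s : D.obj k, topologicalKrullDim ↥(fk.fiber s) ≤ d := by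
  obtain ⟨i₀, X₀, f₀, qX, hf₀1, hf₀2, hf₀3, hX⟩ := Groth.Agent.S0591.result D c hc X f
  let g₀ : D.obj i₀ ⟶ D.obj i₀ := 𝟙 _
  have hY : IsPullback (c.π.app i₀) (𝟙 c.pt) g₀ (c.π.app i₀) := by
    haveI : IsIso (𝟙 c.pt) := IsIso.id _
    haveI : IsIso g₀ := IsIso.id _
    exact IsPullback.of_vert_isIso ⟨by simp [g₀]⟩
  haveI : CompactSpace X₀ := QuasiCompact.compactSpace_of_compactSpace f₀
  haveI : QuasiSeparatedSpace X₀ := quasiSeparatedSpace_of_quasiSeparated f₀
  haveI : LocallyOfFiniteType f₀ := inferInstance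
  obtain ⟨k₁, hk₁⟩ := exists_isSeparated_bcMor D c hc i₀ f₀ g₀ hY hX
  obtain ⟨k₂, hk₂⟩ := Groth.Agent.S2074.exists_universallyClosed_bcMor D c hc i₀ f₀ g₀ hY hX
  -- fibre dimension
  have hlft : ∀ k, LocallyOfFiniteType (bcMor D i₀ f₀ g₀ k) := fun k =>
    MorphismProperty.of_isPullback (P := @LocallyOfFiniteType)
      (isPullback_bcMor D i₀ f₀ g₀ k) inferInstance
  have hqc : ∀ k, QuasiCompact (bcMor D i₀ f₀ g₀ k) := fun k =>
    MorphismProperty.of_isPullback (P := @QuasiCompact)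
      (isPullback_bcMor D i₀ f₀ g₀ k) inferInstance
  obtain ⟨k₃, hk₃⟩ : ∃ k : Over i₀, ∀ s, topologicalKrullDim ↥((bcMor D i₀ f₀ g₀ k).fiber s) ≤ d := by
    haveI : ∀ k, LocallyOfFiniteType ((bcMorNat D i₀ f₀ g₀).app k) := hlft
    haveI : ∀ k, QuasiCompact ((bcMorNat D i₀ f₀ g₀).app k) := hqc
    refine Groth.Agent.S9215.result (bcDiagram D i₀ (f₀ ≫ g₀)) (bcDiagram D i₀ g₀)
      (bcMorNat D i₀ f₀ g₀) (bcCone i₀ (hX.paste_vert hY)) (bcCone i₀ hY)
      (isLimitBcCone i₀ (hX.paste_vert hY) hc) (isLimitBcCone i₀ hY hc) ?_ f ?_ d hd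
    · intro j k a
      have hiso : IsIso (pullback.lift ((bcDiagram D i₀ (f₀ ≫ g₀)).map a)
          ((bcMorNat D i₀ f₀ g₀).app j) ((bcMorNat D i₀ f₀ g₀).naturality a)) := by
        have h1 := isPullback_map_bcMor D i₀ f₀ g₀ a
        have h2 := IsPullback.of_hasPullback ((bcMorNat D i₀ f₀ g₀).app k)
          ((bcDiagram D i₀ g₀).map a)
        have : pullback.lift ((bcDiagram D i₀ (f₀ ≫ g₀)).map a)
          ((bcMorNat D i₀ f₀ g₀).app j) ((bcMorNat D i₀ f₀ g₀).naturality a) =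
            (h1.isoIsPullback _ _ h2).hom := by
          apply pullback.hom_ext
          · rw [pullback.lift_fst]; exact (h1.isoIsPullback_hom_fst _ _ h2).symm
          · rw [pullback.lift_snd]; exact (h1.isoIsPullback_hom_snd _ _ h2).symm
        rw [this]; infer_instance
      infer_instance
    · intro k
      exact (bcπ_bcMor hY hX k).symm
  let k := IsCofiltered.min (IsCofiltered.min k₁ k₂) k₃
  let a₁ : k ⟶ k₁ := IsCofiltered.minToLeft _ _ ≫ IsCofiltered.minToLeft _ _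
  let a₂ : k ⟶ k₂ := IsCofiltered.minToLeft _ _ ≫ IsCofiltered.minToRight _ _
  let a₃ : k ⟶ k₃ := IsCofiltered.minToRight _ _
  have h1 : IsSeparated (bcMor D i₀ f₀ g₀ k) :=
    MorphismProperty.of_isPullback (P := @IsSeparated)
      (isPullback_map_bcMor D i₀ f₀ g₀ a₁) hk₁
  have h2 : UniversallyClosed (bcMor D i₀ f₀ g₀ k) :=
    MorphismProperty.of_isPullback (P := @UniversallyClosed)
      (isPullback_map_bcMor D i₀ f₀ g₀ a₂) hk₂
  have h3 : LocallyOfFiniteType (bcMor D i₀ f₀ g₀ k) := hlft k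
  have h4 : IsProper (bcMor D i₀ f₀ g₀ k) := { }
  haveI := hlft k₃
  have h5 : ∀ s, topologicalKrullDim ↥((bcMor D i₀ f₀ g₀ k).fiber s) ≤ d :=
    fibre_dim_le_of_isPullback (bcMor D i₀ f₀ g₀ k₃) _ _ _ (isPullback_map_bcMor D i₀ f₀ g₀ a₃) d hk₃
  have h6 : LocallyOfFinitePresentation (bcMor D i₀ f₀ g₀ k) :=
    MorphismProperty.of_isPullback (P := @LocallyOfFinitePresentation)
      (isPullback_bcMor D i₀ f₀ g₀ k) hf₀1
  haveI hiso : IsIso (dSnd D i₀ g₀ k) := by
    have := isPullback_d D i₀ g₀ k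
    exact this.isIso_snd_of_isIso
  refine ⟨k.left, _, bcMor D i₀ f₀ g₀ k ≫ dSnd D i₀ g₀ k, bcπ i₀ (hX.paste_vert hY) k, ?_,
    inferInstance, inferInstance, ?_⟩
  · rw [bcMor_snd]
    have := isPullback_bcπ i₀ (hX.paste_vert hY) k
    simpa using this
  · intro s
    haveI : LocallyOfFiniteType (bcMor D i₀ f₀ g₀ k ≫ dSnd D i₀ g₀ k) := inferInstance
    -- fibres of `bcMor k ≫ dSnd` are fibres of `bcMor k`
    have hsq2 : IsPullback (𝟙 _) (bcMor D i₀ f₀ g₀ k ≫ dSnd D i₀ g₀ k) (bcMor D i₀ f₀ g₀ k)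
        (inv (dSnd D i₀ g₀ k)) := by
      haveI : IsIso (𝟙 ((bcDiagram D i₀ (f₀ ≫ g₀)).obj k)) := IsIso.id _
      exact IsPullback.of_horiz_isIso ⟨by simp⟩
    exact fibre_dim_le_of_isPullback (bcMor D i₀ f₀ g₀ k) _ _ _ hsq2 d h5 s

/-- the stage version: over a cofiltered limit of Noetherian schemes -/
theorem isZero_RpushAb_of_stage {I : Type u} [SmallCategory I] [IsCofiltered I]
    (D : I ⥤ Scheme.{u}) (c : Limits.Cone D) (hc : Limits.IsLimit c)
    [∀ (i j : I) (f : i ⟶ j), IsAffineHom (D.map f)] [∀ i, IsNoetherian (D.obj i)]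
    {X : Scheme.{u}} (f : X ⟶ c.pt) [IsProper f] [LocallyOfFinitePresentation f] (d : ℕ)
    (hd : ∀ t : c.pt, topologicalKrullDim ↥(f.fiber t) ≤ d) (M : X.Modules) [Coh.IsQCoh M]
    (p : ℕ) (hp : d < p) : IsZero ((Coh.RpushAb f p).obj (Coh.toAb M)) := by
  obtain ⟨k, Xk, fk, q, hsq, hk1, hk2, hk3⟩ := exists_stage_model D c hc f d hd
  haveI : CompactSpace Xk := QuasiCompact.compactSpace_of_compactSpace fk
  haveI : QuasiSeparatedSpace Xk := quasiSeparatedSpace_of_quasiSeparated fk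
  exact Groth.Agent.S7448.result fk d
    (fun M' i hM' hi => Groth.Agent.Lib.Helper2.FibVanB.isZero_RpushAb_noeth _ d hk3 M' hM' i hi)
    (c.π.app k) f q hsq M p hp

/-- proper morphisms of finite presentation over a quasi-compact quasi-separated base -/
theorem isZero_RpushAb_fp {X S : Scheme.{u}} (f : X ⟶ S) [IsProper f]
    [LocallyOfFinitePresentation f] [CompactSpace S] [QuasiSeparatedSpace S] (d : ℕ)
    (hd : ∀ t : S, topologicalKrullDim ↥(f.fiber t) ≤ d) (M : X.Modules) [Coh.IsQCoh M]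
    (p : ℕ) (hp : d < p) : IsZero ((Coh.RpushAb f p).obj (Coh.toAb M)) := by
  obtain ⟨I, _, _, _, DX, DS, φ, cX, cS, hcX, hcS, eX, eS, haff, hst, hcomm⟩ :=
    Groth.Agent.S7384.result (𝟙 S)
  haveI : ∀ (i j : Iᵒᵖ) (a : i ⟶ j), IsAffineHom (DS.map a) := fun i j a => (haff i j a).2
  haveI : ∀ i, IsNoetherian (DS.obj i) := fun i => by
    haveI := (hst i).2.1
    exact isNoetherian_of_lft_int _ (hst i).2.2.2
  haveI : IsProper (f ≫ eS.inv) := inferInstance
  haveI : LocallyOfFinitePresentation (f ≫ eS.inv) := inferInstance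
  have sq : IsPullback (𝟙 X) f (f ≫ eS.inv) eS.inv := by
    haveI : IsIso (𝟙 X) := IsIso.id _
    exact IsPullback.of_horiz_isIso ⟨by simp⟩
  have hd' : ∀ t : cS.pt, topologicalKrullDim ↥((f ≫ eS.inv).fiber t) ≤ d := by
    intro t
    have sq' : IsPullback (𝟙 X) (f ≫ eS.inv) f eS.hom := by
      haveI : IsIso (𝟙 X) := IsIso.id _
      exact IsPullback.of_horiz_isIso ⟨by simp⟩
    exact fibre_dim_le_of_isPullback f _ _ _ sq' d hd t
  haveI : CompactSpace cS.pt := (Scheme.Hom.homeomorph eS.hom).symm.compactSpace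
  haveI : QuasiSeparatedSpace cS.pt :=
    quasiSeparatedSpace_of_quasiSeparated eS.hom
  haveI : CompactSpace X := QuasiCompact.compactSpace_of_compactSpace f
  haveI : QuasiSeparatedSpace X := quasiSeparatedSpace_of_quasiSeparated f
  exact Groth.Agent.S7448.result (f ≫ eS.inv) d
    (fun M' i hM' hi => by
      haveI := hM'
      exact isZero_RpushAb_of_stage DS cS hcS (f ≫ eS.inv) d hd' M' i hi)
    eS.inv f (𝟙 X) sq M p hp

end Groth.Agent.Lib.Helper2.FibVanC
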