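import Mathlib
import Groth.Agent.Lib.Helper2FibVanC
import Groth.Agent.S2079

/-!
# Approximating a proper morphism with bounded fibre dimension by a closed subscheme of a proper
morphism of finite presentation with the same bound (helper2)

Namespace `Groth.Agent.Lib.Helper2.FibVanD`.
-/

set_option autoImplicit false
set_option linter.style.haveILetI false
universe u
open CategoryTheory CategoryTheory.Limits AlgebraicGeometry TopologicalSpace Opposite

namespace Groth.Agent.Lib.Helper2.FibVanD

open Groth.Agent.Lib.Helper2.FibVanC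

set_option backward.isDefEq.respectTransparency.types false in
theorem exists_closedImmersion_fp_fibre_dim {X S : Scheme.{u}} (f : X ⟶ S) [IsProper f]
    [CompactSpace S] [QuasiSeparatedSpace S] (d : ℕ)
    (hd : ∀ t : S, topologicalKrullDim ↥(f.fiber t) ≤ d) :
    ∃ (X' : Scheme.{u}) (j : X ⟶ X') (f' : X' ⟶ S), IsClosedImmersion j ∧ IsProper f' ∧
      LocallyOfFinitePresentation f' ∧ j ≫ f' = f ∧
      ∀ t : S, topologicalKrullDim ↥(f'.fiber t) ≤ d := by
  obtain ⟨I, _, _, D, c, hc, e, hcl, hst⟩ := Groth.Agent.S2079.result f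
  haveI : IsConnected I := IsCofiltered.isConnected I
  let DX : I ⥤ Scheme.{u} := D ⋙ Over.forget S
  let DS : I ⥤ Scheme.{u} := (Functor.const I).obj S
  let φ : DX ⟶ DS :=
    { app := fun i => (D.obj i).hom
      naturality := fun i j a => by
        change (D.map a).left ≫ (D.obj j).hom = (D.obj i).hom ≫ 𝟙 S
        rw [Category.comp_id, Over.w] }
  let cX : Cone DX := (Over.forget S).mapCone c
  have hcX : IsLimit cX := isLimitOfPreserves (Over.forget S) hc
  have hcS : IsLimit (constCone I S) := isLimitConstCone I S
  haveI : ∀ (i j : I) (a : i ⟶ j), IsAffineHom (DS.map a) := fun i j a =>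
    inferInstanceAs (IsAffineHom (𝟙 S))
  haveI : ∀ i, CompactSpace (DS.obj i) := fun i => inferInstanceAs (CompactSpace S)
  haveI : ∀ i, QuasiSeparatedSpace (DS.obj i) := fun i => inferInstanceAs (QuasiSeparatedSpace S)
  haveI : ∀ i, LocallyOfFiniteType (φ.app i) := fun i => by
    haveI : LocallyOfFinitePresentation (D.obj i).hom := (hst i).2.2
    exact inferInstanceAs (LocallyOfFiniteType (D.obj i).hom)
  haveI : ∀ i, QuasiCompact (φ.app i) := fun i => by
    haveI : IsProper (D.obj i).hom := (hst i).2.1
    exact inferInstanceAs (QuasiCompact (D.obj i).hom)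
  have hd' : ∀ s : S, topologicalKrullDim ↥((c.pt.hom).fiber s) ≤ d := by
    intro s
    have sq : IsPullback e.hom.left c.pt.hom f (𝟙 S) := by
      haveI : IsIso e.hom.left := inferInstance
      haveI : IsIso (𝟙 S) := IsIso.id _
      exact IsPullback.of_horiz_isIso ⟨by simpa using Over.w e.hom⟩
    exact fibre_dim_le_of_isPullback f _ _ _ sq d hd s
  obtain ⟨i, hi⟩ := Groth.Agent.S9215.result DX DS φ cX (constCone I S) hcX hcS
    (fun i j a => by
      have hiso : IsIso (pullback.fst (φ.app j) (DS.map a)) := by
        haveI : IsIso (DS.map a) := inferInstanceAs (IsIso (𝟙 S))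
        infer_instance
      have hcomp : IsClosedImmersion (pullback.lift (DX.map a) (φ.app i) (φ.naturality a) ≫
          pullback.fst (φ.app j) (DS.map a)) := by
        rw [pullback.lift_fst]
        exact hcl i j a
      have : pullback.lift (DX.map a) (φ.app i) (φ.naturality a) =
          (pullback.lift (DX.map a) (φ.app i) (φ.naturality a) ≫
            pullback.fst (φ.app j) (DS.map a)) ≫ inv (pullback.fst (φ.app j) (DS.map a)) := by
        simp
      rw [this]
      infer_instance)
    c.pt.hom
    (fun i => by
      change c.pt.hom ≫ 𝟙 S = (c.π.app i).left ≫ (D.obj i).hom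
      rw [Category.comp_id]
      exact (Over.w (c.π.app i)).symm) d hd'
  refine ⟨(D.obj i).left, e.inv.left ≫ (c.π.app i).left, (D.obj i).hom, ?_, (hst i).2.1,
    (hst i).2.2, ?_, hi⟩
  · haveI : IsClosedImmersion (c.π.app i).left := (hst i).1
    infer_instance
  · rw [Category.assoc, Over.w]
    exact Over.w e.inv

end Groth.Agent.Lib.Helper2.FibVanD
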