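import Mathlib
import Groth.Agent.Lib.Helper2FibVanD
import Groth.Agent.Lib.Helper17BCVan2
import Groth.Agent.Lib.Helper23QCohLocal
import Groth.Agent.S0012

/-!
# Vanishing of cohomology above the fibre dimension for proper morphisms to an affine scheme
(helper2)

Namespace `Groth.Agent.Lib.Helper2.FibVanE`.
-/

set_option autoImplicit false
set_option linter.style.haveILetI false
universe u
open CategoryTheory CategoryTheory.Limits AlgebraicGeometry TopologicalSpace Opposite

namespace Groth.Agent.Lib.Helper2.FibVanE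

open Groth.Agent.Lib.Helper23.AffVanish

/-- `H^i(X, M) = 0` above the fibre dimension, for `X` proper over an affine scheme and `M`
quasi-coherent -/
theorem subsingleton_HH_of_isAffine {X S : Scheme.{u}} (f : X ⟶ S) [IsProper f] [IsAffine S]
    (d : ℕ) (hd : ∀ t : S, topologicalKrullDim ↥(f.fiber t) ≤ d) (M : X.Modules) [Coh.IsQCoh M]
    (i : ℕ) (hi : d < i) : Subsingleton (Coh.HH X M i) := by
  obtain ⟨X', j, f', hj, hf'1, hf'2, hjf, hd'⟩ :=
    Groth.Agent.Lib.Helper2.FibVanD.exists_closedImmersion_fp_fibre_dim f d hd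
  haveI : IsAffineHom j := inferInstance
  obtain ⟨e⟩ := Groth.Agent.S0012.result j M i
  haveI : Coh.IsQCoh ((Coh.push j).obj M) :=
    Groth.Agent.Lib.Helper23.QCohLocal.isQuasicoherent_pushforward j M
  have hz := Groth.Agent.Lib.Helper2.FibVanC.isZero_RpushAb_fp f' d hd' ((Coh.push j).obj M) i hi
  have h1 := Groth.Agent.Lib.Helper17.LerayTop.subsingleton_HE_preimage_of_isZero f'
    ((Coh.push j).obj M) (isAffineOpen_top S) i hz
  have htop : f' ⁻¹ᵁ (⊤ : S.Opens) = ⊤ := rfl
  rw [htop] at h1
  haveI : Subsingleton (Coh.HH X' ((Coh.push j).obj M) i) :=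
    (HETopEquivH X'.carrier (ab' ((Coh.push j).obj M)) i).symm.subsingleton
  exact e.toEquiv.subsingleton

end Groth.Agent.Lib.Helper2.FibVanE
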