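import Mathlib
import Groth.Agent.Lib.Helper27CohFin
import Groth.Agent.Lib.Helper23QCohAbelian
import Groth.Agent.Lib.Helper18PBUnit4
import Groth.Agent.Lib.Helper18OmLS10
import Groth.Agent.Lib.Helper23QCohLocal

/-!
# Top-degree right exactness of cohomology and related generalities (helper2)

Namespace `Groth.Agent.Lib.Helper2.TopDegA`.
-/

set_option autoImplicit false
set_option linter.style.haveILetI false
universe u
open CategoryTheory CategoryTheory.Limits AlgebraicGeometry TopologicalSpace Opposite

namespace Groth.Agent.Lib.Helper2.TopDegA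

section LES

variable (A : Type u) [CommRing A] {X : Scheme.{u}} [X.Over (Spec (CommRingCat.of A))]

/-- an epimorphism whose kernel has no cohomology in degree `d + 1` induces a surjection in
degree `d` -/
theorem surjective_HHlin_of_epi {M N : X.Modules} (φ : M ⟶ N) [Epi φ] (d : ℕ)
    (h : Subsingleton (Coh.HH X (kernel φ) (d + 1))) : Function.Surjective (Canon.HHlin A φ d) := by
  let S : ShortComplex X.Modules := ShortComplex.mk (kernel.ι φ) φ (kernel.condition φ)
  haveI : Mono S.f := inferInstanceAs (Mono (kernel.ι φ))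
  haveI : Epi S.g := inferInstanceAs (Epi φ)
  have hS : S.ShortExact :=
    ShortComplex.ShortExact.mk (ShortComplex.exact_of_f_is_kernel _ (kernelIsKernel φ))
  intro x
  obtain ⟨y, hy⟩ := Groth.Agent.Lib.Helper27CohFin.exact_delta S hS d x
    (Subsingleton.elim (α := Coh.HH X (kernel φ) (d + 1)) _ _)
  exact ⟨y, hy⟩

theorem finite_HH_of_epi {M N : X.Modules} (φ : M ⟶ N) [Epi φ] (d : ℕ)
    (h : Subsingleton (Coh.HH X (kernel φ) (d + 1))) (hM : Module.Finite A (Coh.HH X M d)) :
    Module.Finite A (Coh.HH X N d) :=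
  Module.Finite.of_surjective (Canon.HHlin A φ d) (surjective_HHlin_of_epi A φ d h)

end LES

section Alg

/-- a module satisfying the universal property of a base change is spanned by the image -/
theorem span_range_eq_top_of_lift {R R' : Type u} [CommRing R] [CommRing R'] (ψ : R →+* R')
    {M Q : Type u} [AddCommGroup M] [Module R M] [AddCommGroup Q] [Module R' Q]
    (φ : M →+ Q)
    (huniv : ∀ (N : Type u) [AddCommGroup N] [Module R' N] (l : M →+ N),
      (∀ (r : R) (m : M), l (r • m) = ψ r • l m) → ∃! l' : Q →ₗ[R'] N, ∀ m, l' (φ m) = l m) :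
    Submodule.span R' (Set.range φ) = ⊤ := by
  obtain ⟨l', -, hl'⟩ := huniv (Q ⧸ Submodule.span R' (Set.range φ)) 0
    (fun r m => by simp)
  have h1 : (Submodule.span R' (Set.range φ)).mkQ = l' :=
    hl' _ (fun m => by
      rw [Submodule.mkQ_apply, AddMonoidHom.zero_apply, Submodule.Quotient.mk_eq_zero]
      exact Submodule.subset_span ⟨m, rfl⟩)
  have h2 : (0 : Q →ₗ[R'] Q ⧸ Submodule.span R' (Set.range φ)) = l' :=
    hl' _ (fun m => by simp)
  have h3 : (Submodule.span R' (Set.range φ)).mkQ = 0 := h1.trans h2.symm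
  rw [← Submodule.ker_mkQ (Submodule.span R' (Set.range φ)), h3, LinearMap.ker_zero]

theorem surjective_of_lift_of_surjective {R R' : Type u} [CommRing R] [CommRing R'] (ψ : R →+* R')
    (hψ : Function.Surjective ψ)
    {M Q : Type u} [AddCommGroup M] [Module R M] [AddCommGroup Q] [Module R' Q]
    (φ : M →+ Q) (hφ : ∀ (r : R) (m : M), φ (r • m) = ψ r • φ m)
    (huniv : ∀ (N : Type u) [AddCommGroup N] [Module R' N] (l : M →+ N),
      (∀ (r : R) (m : M), l (r • m) = ψ r • l m) → ∃! l' : Q →ₗ[R'] N, ∀ m, l' (φ m) = l m) :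
    Function.Surjective φ := by
  have h := span_range_eq_top_of_lift ψ φ huniv
  intro q
  have hq : q ∈ Submodule.span R' (Set.range φ) := by rw [h]; trivial
  induction hq using Submodule.span_induction with
  | mem x hx => exact hx
  | zero => exact ⟨0, map_zero _⟩
  | add x y _ _ hx hy =>
    obtain ⟨a, rfl⟩ := hx
    obtain ⟨b, rfl⟩ := hy
    exact ⟨a + b, map_add _ _ _⟩
  | smul r x _ hx =>
    obtain ⟨a, rfl⟩ := hx
    obtain ⟨r₀, rfl⟩ := hψ r
    exact ⟨r₀ • a, hφ r₀ a⟩

/-- finiteness over `A₁` acting through `A₁ → A → R` implies finiteness over `A` -/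
theorem finite_of_compHom {A₁ A R N : Type*} [CommRing A₁] [CommRing A] [Ring R]
    [AddCommGroup N] [Module R N] (g : A →+* R) (ψ : A₁ →+* A)
    (h : @Module.Finite A₁ N _ _ (Module.compHom N (g.comp ψ))) :
    @Module.Finite A N _ _ (Module.compHom N g) := by
  letI m₁ : Module A₁ N := Module.compHom N (g.comp ψ)
  letI m : Module A N := Module.compHom N g
  obtain ⟨s, hs⟩ := h
  refine ⟨s, ?_⟩
  have key : ∀ x : N, x ∈ Submodule.span A₁ (s : Set N) → x ∈ Submodule.span A (s : Set N) := by
    intro x hx
    induction hx using Submodule.span_induction with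
    | mem y hy => exact Submodule.subset_span hy
    | zero => exact Submodule.zero_mem _
    | add y z _ _ hy hz => exact Submodule.add_mem _ hy hz
    | smul r y _ hy =>
      have : r • y = (ψ r) • y := rfl
      rw [this]
      exact Submodule.smul_mem _ _ hy
  rw [eq_top_iff]
  intro x _
  exact key x (by rw [hs]; trivial)

end Alg

section Unit

open Groth.Agent.Helper13PullbackUnit Scheme.Modules

/-- the unit `F ⟶ i_* i^* F` of a closed immersion is an epimorphism, `F` quasi-coherent -/
theorem epi_unit_of_isClosedImmersion {Z X : Scheme.{u}} (i : Z ⟶ X) [IsClosedImmersion i]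
    (F : X.Modules) [F.IsQuasicoherent] :
    Epi ((pullbackPushforwardAdjunction i).unit.app F) := by
  haveI : ((Scheme.Modules.pullback i).obj F).IsQuasicoherent :=
    Groth.Agent.Lib.Helper2.PullbackSec.isQuasicoherent_pullback i F
  haveI : ((Scheme.Modules.pushforward i).obj ((Scheme.Modules.pullback i).obj F)).IsQuasicoherent :=
    Groth.Agent.Lib.Helper23.QCohLocal.isQuasicoherent_pushforward i _
  haveI : ((𝟭 X.Modules).obj F).IsQuasicoherent := inferInstanceAs F.IsQuasicoherent
  haveI : ((pullback i ⋙ pushforward i).obj F).IsQuasicoherent :=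
    inferInstanceAs ((Scheme.Modules.pushforward i).obj
      ((Scheme.Modules.pullback i).obj F)).IsQuasicoherent
  refine Groth.Agent.Helper18OmLS.epi_of_surjective_app_cover _
    (fun V : X.affineOpens => (V : X.Opens)) (iSup_affineOpens_eq_top X) (fun V => V.2)
    (fun V => ?_)
  have hU' : IsAffineOpen (i ⁻¹ᵁ V.1) := V.2.preimage i
  have hle : i ⁻¹ᵁ V.1 ≤ i ⁻¹ᵁ V.1 := le_rfl
  have hsurj : Function.Surjective (unitSec i F hle) := by
    refine surjective_of_lift_of_surjective (i.appLE V.1 (i ⁻¹ᵁ V.1) hle).hom ?_ _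
      (unitSec_smul i F hle)
      (fun N _ _ l hl => existsUnique_lift i F V.2 hU' hle N l hl)
    rw [Scheme.Hom.appLE_eq_app]
    exact i.app_surjective V.1 V.2
  intro z
  obtain ⟨m, hm⟩ := hsurj z
  exact ⟨m, (Groth.Agent.Helper18PBUnit.unit_app_eq_unitSec i F V.1 m).trans hm⟩

end Unit

end Groth.Agent.Lib.Helper2.TopDegA
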