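import Groth.Agent.Lib.Helper6AffPushLin
import Groth.Prelude.Def_Canon

/-!
# The edge map `H^n(X, f_* M) → H^n(Y, M)` of an affine morphism: linear, bijective, natural (helper6)
-/

set_option autoImplicit false
universe u
open CategoryTheory Limits AlgebraicGeometry TopologicalSpace Opposite Abelian

namespace Groth.Agent.Lib.Helper6.AffPushLin

open Groth.Agent.Lib.Helper17.ExtAct Groth.Agent.Lib.Helper21.PushAcyc
  Groth.Agent.Lib.Helper17.LerayTop Groth.Agent.Lib.Helper17.FBC
  Groth.Agent.Lib.Helper23.AffVanish Groth.Agent.Lib.Helper17.FBC3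

section Edge

variable {A : Type u} [CommRing A] {X Y : Scheme.{u}} [X.Over (Spec (CommRingCat.of A))]
  [Y.Over (Spec (CommRingCat.of A))] (f : Y ⟶ X)
  (hf : f ≫ (X ↘ Spec (CommRingCat.of A)) = Y ↘ Spec (CommRingCat.of A))

include hf in
theorem hw_of_hf : f ≫ (X ↘ Spec (CommRingCat.of A)) =
    (Y ↘ Spec (CommRingCat.of A)) ≫ Spec.map (CommRingCat.ofHom (algebraMap A A)) := by
  rw [hf]
  have : CommRingCat.ofHom (algebraMap A A) = 𝟙 (CommRingCat.of A) := rfl
  rw [this, Spec.map_id, Category.comp_id]

/-- the comparison data attached to `f` and `M` -/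
noncomputable abbrev cmpOf (M : Y.Modules) :
    Cmp (pullF f) A A (Coh.toAb ((Scheme.Modules.pushforward f).obj M)) (Coh.toAb M) :=
  cmpPush (X ↘ Spec (CommRingCat.of A)) (Y ↘ Spec (CommRingCat.of A)) f M (hw_of_hf f hf)

/-- the edge map `H^n(X, f_* M) → H^n(Y, M)`, as a function -/
noncomputable def edgeFun (M : Y.Modules) (n : ℕ)
    (x : Coh.HH X ((Scheme.Modules.pushforward f).obj M) n) : Coh.HH Y M n :=
  eeEquivHH A Y M n (pre (cmpOf f hf M).α' (pullZcIso f.base).symm.hom n
    (phi (cmpOf f hf M) (Zc (TopCat.of X)) n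
      ((eeEquivHH A X ((Scheme.Modules.pushforward f).obj M) n).symm x)))

/-- the edge map `H^n(X, f_* M) → H^n(Y, M)`, linearly -/
noncomputable def edge (M : Y.Modules) (n : ℕ) :
    Coh.HH X ((Scheme.Modules.pushforward f).obj M) n →ₗ[A] Coh.HH Y M n where
  toFun := edgeFun f hf M n
  map_add' x y := by
    unfold edgeFun
    have e1 := (eeEquivHH A X ((Scheme.Modules.pushforward f).obj M) n).symm.map_add x y
    have e2 := (phi (cmpOf f hf M) (Zc (TopCat.of X)) n).map_add
      ((eeEquivHH A X ((Scheme.Modules.pushforward f).obj M) n).symm x)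
      ((eeEquivHH A X ((Scheme.Modules.pushforward f).obj M) n).symm y)
    have e3 := (pre (cmpOf f hf M).α' (pullZcIso f.base).symm.hom n).map_add
      (phi (cmpOf f hf M) (Zc (TopCat.of X)) n
        ((eeEquivHH A X ((Scheme.Modules.pushforward f).obj M) n).symm x))
      (phi (cmpOf f hf M) (Zc (TopCat.of X)) n
        ((eeEquivHH A X ((Scheme.Modules.pushforward f).obj M) n).symm y))
    refine (congrArg (fun z => eeEquivHH A Y M n
      (pre (cmpOf f hf M).α' (pullZcIso f.base).symm.hom n
        (phi (cmpOf f hf M) (Zc (TopCat.of X)) n z))) e1).trans ?_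
    refine (congrArg (fun z => eeEquivHH A Y M n
      (pre (cmpOf f hf M).α' (pullZcIso f.base).symm.hom n z)) e2).trans ?_
    refine (congrArg (fun z => eeEquivHH A Y M n z) e3).trans ?_
    exact (eeEquivHH A Y M n).map_add _ _
  map_smul' a x := by
    unfold edgeFun
    have e1 := (eeEquivHH A X ((Scheme.Modules.pushforward f).obj M) n).symm.map_smul a x
    have e2 := (phi (cmpOf f hf M) (Zc (TopCat.of X)) n).map_smul a
      ((eeEquivHH A X ((Scheme.Modules.pushforward f).obj M) n).symm x)
    have e3 := (pre (cmpOf f hf M).α' (pullZcIso f.base).symm.hom n).map_smul a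
      (phi (cmpOf f hf M) (Zc (TopCat.of X)) n
        ((eeEquivHH A X ((Scheme.Modules.pushforward f).obj M) n).symm x))
    refine (congrArg (fun z => eeEquivHH A Y M n
      (pre (cmpOf f hf M).α' (pullZcIso f.base).symm.hom n
        (phi (cmpOf f hf M) (Zc (TopCat.of X)) n z))) e1).trans ?_
    refine (congrArg (fun z => eeEquivHH A Y M n
      (pre (cmpOf f hf M).α' (pullZcIso f.base).symm.hom n z)) e2).trans ?_
    refine (congrArg (fun z => eeEquivHH A Y M n z) e3).trans ?_
    exact (eeEquivHH A Y M n).map_smul _ _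

theorem edge_apply (M : Y.Modules) (n : ℕ)
    (x : Coh.HH X ((Scheme.Modules.pushforward f).obj M) n) :
    edge f hf M n x = edgeFun f hf M n x := rfl

open TensorProduct in
/-- the edge map of an affine morphism is bijective on quasi-coherent modules -/
theorem edge_bijective [IsAffineHom f] [CompactSpace X] [QuasiSeparatedSpace X]
    (M : Y.Modules) [M.IsQuasicoherent] (n : ℕ) : Function.Bijective (edge f hf M n) := by
  have hgood : Function.Bijective (beta (cmpOf f hf M) (Zc (TopCat.of X)) n) :=
    good_Zc f (cmpOf f hf M) (fun U hU => good_ZU_push _ _ f (hw_of_hf f hf) M hU) n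
  have hphi : Function.Bijective (phi (cmpOf f hf M) (Zc (TopCat.of X)) n) := by
    have h1 : (phi (cmpOf f hf M) (Zc (TopCat.of X)) n : _ → _) =
        (beta (cmpOf f hf M) (Zc (TopCat.of X)) n) ∘
          (TensorProduct.lid A (EE (cmpOf f hf M).α (Zc (TopCat.of X)) n)).symm := by
      funext x
      rw [Function.comp_apply, TensorProduct.lid_symm_apply, beta_tmul, one_smul]
    rw [h1]
    exact hgood.comp (TensorProduct.lid A _).symm.bijective
  have hpre : Function.Bijective
      (pre (cmpOf f hf M).α' (pullZcIso f.base).symm.hom n) :=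
    (preEquiv (cmpOf f hf M).α' (pullZcIso f.base).symm n).bijective
  have h : (edge f hf M n : _ → _) = (eeEquivHH A Y M n) ∘
      (pre (cmpOf f hf M).α' (pullZcIso f.base).symm.hom n) ∘
      (phi (cmpOf f hf M) (Zc (TopCat.of X)) n) ∘
      (eeEquivHH A X ((Scheme.Modules.pushforward f).obj M) n).symm := rfl
  rw [h]
  exact (eeEquivHH A Y M n).bijective.comp (hpre.comp (hphi.comp
    (eeEquivHH A X ((Scheme.Modules.pushforward f).obj M) n).symm.bijective))

omit [X.Over (Spec (CommRingCat.of A))] [Y.Over (Spec (CommRingCat.of A))] in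
theorem kap_naturality {M M' : Y.Modules} (ψ : M ⟶ M') :
    (pullF f).map ((SheafOfModules.toSheaf X.ringCatSheaf).map
      ((Scheme.Modules.pushforward f).map ψ)) ≫ kap f M' =
      kap f M ≫ (SheafOfModules.toSheaf Y.ringCatSheaf).map ψ := by
  apply ((adjP (Opens.grothendieckTopology Y) (Opens.grothendieckTopology X)
    (Opens.map f.base)).homEquiv _ _).injective
  rw [Adjunction.homEquiv_naturality_left, Adjunction.homEquiv_naturality_right]
  unfold kap
  rw [Equiv.apply_symm_apply, Equiv.apply_symm_apply]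
  refine (Category.comp_id _).trans (Eq.trans ?_ (Category.id_comp _).symm)
  rfl

/-- the edge map is natural in the module -/
theorem edge_naturality {M M' : Y.Modules} (ψ : M ⟶ M') (n : ℕ)
    (x : Coh.HH X ((Scheme.Modules.pushforward f).obj M) n) :
    edge f hf M' n (Canon.HHlin A ((Scheme.Modules.pushforward f).map ψ) n x) =
      Canon.HHlin A ψ n (edge f hf M n x) := by
  change (Ext.mk₀ (pullZcIso f.base).symm.hom).comp
      ((((show Ext (Zc (TopCat.of X)) (Coh.toAb ((Scheme.Modules.pushforward f).obj M)) n from x).comp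
        (Ext.mk₀ ((SheafOfModules.toSheaf X.ringCatSheaf).map
          ((Scheme.Modules.pushforward f).map ψ))) (add_zero n)).mapExactFunctor (pullF f)).comp
        (Ext.mk₀ (kap f M')) (add_zero n)) (zero_add n) =
    ((Ext.mk₀ (pullZcIso f.base).symm.hom).comp
      (((show Ext (Zc (TopCat.of X)) (Coh.toAb ((Scheme.Modules.pushforward f).obj M)) n from
        x).mapExactFunctor (pullF f)).comp (Ext.mk₀ (kap f M)) (add_zero n)) (zero_add n)).comp
      (Ext.mk₀ ((SheafOfModules.toSheaf Y.ringCatSheaf).map ψ)) (add_zero n)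
  rw [Ext.mapExactFunctor_comp, Ext.mapExactFunctor_mk₀, Ext.comp_assoc_of_third_deg_zero,
    Ext.mk₀_comp_mk₀, kap_naturality, ← Ext.mk₀_comp_mk₀, ← Ext.comp_assoc_of_third_deg_zero,
    ← Ext.comp_assoc_of_third_deg_zero]
  congr 1
  exact Ext.comp_assoc_of_third_deg_zero _ _ _ _

end Edge

end Groth.Agent.Lib.Helper6.AffPushLin
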