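import Mathlib
import Groth.Agent.Lib.Helper2TopDegA
import Groth.Agent.Lib.Helper2FibVanE
import Groth.Agent.Lib.Helper6AffPushNat
import Groth.Agent.Lib.Helper17StalkBC3
import Groth.Agent.S0034

/-!
# Finiteness of top-degree cohomology is preserved by arbitrary affine base change (helper2)

Namespace `Groth.Agent.Lib.Helper2.TopDegB`.
-/

set_option autoImplicit false
set_option linter.style.haveILetI false
universe u
open CategoryTheory CategoryTheory.Limits AlgebraicGeometry TopologicalSpace Opposite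

namespace Groth.Agent.Lib.Helper2.TopDegB

open Groth.Agent.Lib.Helper2.TopDegA

theorem toGlobal_comp_specMap {A₁ A : Type u} [CommRing A₁] [CommRing A] {X : Scheme.{u}}
    (f : X ⟶ Spec (CommRingCat.of A)) (ψ : A₁ →+* A) (a : A₁) :
    Coh.toGlobal (f ≫ Spec.map (CommRingCat.ofHom ψ)) a = Coh.toGlobal f (ψ a) := by
  have h2 := Scheme.ΓSpecIso_inv_naturality (CommRingCat.ofHom ψ)
  have e2 := ConcreteCategory.congr_hom h2 a
  change (f ≫ Spec.map (CommRingCat.ofHom ψ)).appTop.hom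
      ((Scheme.ΓSpecIso (CommRingCat.of A₁)).inv.hom a) =
    f.appTop.hom ((Scheme.ΓSpecIso (CommRingCat.of A)).inv.hom (ψ a))
  rw [Scheme.Hom.comp_appTop]
  exact congrArg f.appTop.hom e2.symm

/-- the module structure over `A₁` through `X ⟶ Spec A ⟶ Spec A₁` is the restriction of scalars of
the module structure over `A` -/
theorem finite_of_finite_comp {A₁ A : Type u} [CommRing A₁] [CommRing A] {X : Scheme.{u}}
    (f : X ⟶ Spec (CommRingCat.of A)) (ψ : A₁ →+* A) (M : X.Modules) (n : ℕ)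
    (h : letI : X.Over (Spec (CommRingCat.of A₁)) := ⟨f ≫ Spec.map (CommRingCat.ofHom ψ)⟩
      Module.Finite A₁ (Coh.HH X M n)) :
    letI : X.Over (Spec (CommRingCat.of A)) := ⟨f⟩
    Module.Finite A (Coh.HH X M n) := by
  have e : Coh.toGlobal (f ≫ Spec.map (CommRingCat.ofHom ψ)) = (Coh.toGlobal f).comp ψ :=
    RingHom.ext (fun a => toGlobal_comp_specMap f ψ a)
  refine finite_of_compHom (N := Coh.HH X M n) (Coh.toGlobal f) ψ ?_
  rw [← e]
  exact h

open TensorProduct in
/-- **finiteness of the top-degree cohomology is preserved by arbitrary base change of rings** -/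
theorem finite_HH_pullback {A₀ A : Type u} [CommRing A₀] [CommRing A] [Algebra A₀ A]
    {X₀ X : Scheme.{u}} (u₀ : X₀ ⟶ Spec (CommRingCat.of A₀)) (u : X ⟶ Spec (CommRingCat.of A))
    (p : X ⟶ X₀) (hsq : IsPullback p u u₀ (Spec.map (CommRingCat.ofHom (algebraMap A₀ A))))
    [IsProper u₀] (d : ℕ) (hd : ∀ t, topologicalKrullDim ↥(u₀.fiber t) ≤ d)
    (F₀ : X₀.Modules) [F₀.IsQuasicoherent]
    (h : letI : X₀.Over (Spec (CommRingCat.of A₀)) := ⟨u₀⟩
      Module.Finite A₀ (Coh.HH X₀ F₀ d)) :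
    letI : X.Over (Spec (CommRingCat.of A)) := ⟨u⟩
    Module.Finite A (Coh.HH X ((Scheme.Modules.pullback p).obj F₀) d) := by
  classical
  letI : X₀.Over (Spec (CommRingCat.of A₀)) := ⟨u₀⟩
  let A₁ := MvPolynomial A A₀
  let ψ : A₁ →ₐ[A₀] A := MvPolynomial.aeval id
  have hψ : Function.Surjective ψ := fun a => ⟨MvPolynomial.X a, by
    change (MvPolynomial.aeval id) (MvPolynomial.X a) = a
    rw [MvPolynomial.aeval_X]; rfl⟩
  let c₁ : Spec (CommRingCat.of A₁) ⟶ Spec (CommRingCat.of A₀) :=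
    Spec.map (CommRingCat.ofHom (algebraMap A₀ A₁))
  let ψs : Spec (CommRingCat.of A) ⟶ Spec (CommRingCat.of A₁) :=
    Spec.map (CommRingCat.ofHom ψ.toRingHom)
  let X₁ := pullback u₀ c₁
  let q₁ : X₁ ⟶ X₀ := pullback.fst u₀ c₁
  let u₁ : X₁ ⟶ Spec (CommRingCat.of A₁) := pullback.snd u₀ c₁
  letI : X₁.Over (Spec (CommRingCat.of A₁)) := ⟨u₁⟩
  have h1 : IsPullback q₁ u₁ u₀ c₁ := IsPullback.of_hasPullback u₀ c₁
  haveI : CompactSpace X₀ := QuasiCompact.compactSpace_of_compactSpace u₀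
  haveI : QuasiSeparatedSpace X₀ := quasiSeparatedSpace_of_quasiSeparated u₀
  -- flat base change to the polynomial ring
  obtain ⟨e1⟩ := Groth.Agent.S0034.result A₀ A₁ X₀ X₁ q₁ h1 F₀ d
  haveI := h
  have hfin1 : Module.Finite A₁ (Coh.HH X₁ ((Scheme.Modules.pullback q₁).obj F₀) d) :=
    Module.Finite.equiv e1
  -- the closed immersion `X ⟶ X₁`
  have hcomp : ψs ≫ c₁ = Spec.map (CommRingCat.ofHom (algebraMap A₀ A)) := by
    rw [← Spec.map_comp, ← CommRingCat.ofHom_comp]
    congr 2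
    exact ψ.comp_algebraMap
  let i : X ⟶ X₁ := pullback.lift p (u ≫ ψs) (by rw [Category.assoc, hcomp, hsq.w])
  have hi1 : i ≫ q₁ = p := pullback.lift_fst _ _ _
  have hi2 : i ≫ u₁ = u ≫ ψs := pullback.lift_snd _ _ _
  have hsqi : IsPullback i u u₁ ψs := by
    refine IsPullback.of_right ?_ hi2 h1
    rw [hi1, hcomp]
    exact hsq
  haveI : IsClosedImmersion ψs := IsClosedImmersion.spec_of_surjective _ hψ
  haveI : IsClosedImmersion i :=
    MorphismProperty.of_isPullback (P := @IsClosedImmersion) hsqi.flip inferInstance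
  haveI : IsProper u₁ := MorphismProperty.of_isPullback (P := @IsProper) h1 inferInstance
  have hd₁ : ∀ t, topologicalKrullDim ↥(u₁.fiber t) ≤ d :=
    Groth.Agent.Lib.Helper2.FibVanC.fibre_dim_le_of_isPullback u₀ c₁ u₁ q₁ h1 d hd
  haveI : CompactSpace X₁ := QuasiCompact.compactSpace_of_compactSpace u₁
  haveI : QuasiSeparatedSpace X₁ := quasiSeparatedSpace_of_quasiSeparated u₁
  let F₁ : X₁.Modules := (Scheme.Modules.pullback q₁).obj F₀
  haveI : F₁.IsQuasicoherent := Groth.Agent.Lib.Helper2.PullbackSec.isQuasicoherent_pullback q₁ F₀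
  let G : X.Modules := (Scheme.Modules.pullback i).obj F₁
  haveI : G.IsQuasicoherent := Groth.Agent.Lib.Helper2.PullbackSec.isQuasicoherent_pullback i F₁
  haveI : ((Scheme.Modules.pushforward i).obj G).IsQuasicoherent :=
    Groth.Agent.Lib.Helper23.QCohLocal.isQuasicoherent_pushforward i G
  let η : F₁ ⟶ (Scheme.Modules.pushforward i).obj G :=
    (Scheme.Modules.pullbackPushforwardAdjunction i).unit.app F₁
  haveI : Epi η := epi_unit_of_isClosedImmersion i F₁
  haveI : (kernel η).IsQuasicoherent :=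
    Groth.Agent.Lib.Helper23.QCohLocal.isQuasicoherent_kernel η
  have hker : Subsingleton (Coh.HH X₁ (kernel η) (d + 1)) :=
    Groth.Agent.Lib.Helper2.FibVanE.subsingleton_HH_of_isAffine u₁ d hd₁ (kernel η) (d + 1)
      (by omega)
  have hfin2 : Module.Finite A₁ (Coh.HH X₁ ((Scheme.Modules.pushforward i).obj G) d) :=
    finite_HH_of_epi A₁ η d hker hfin1
  -- cohomology along the closed immersion
  letI inst₁ : X.Over (Spec (CommRingCat.of A₁)) := ⟨u ≫ ψs⟩
  obtain ⟨e2⟩ := Groth.Agent.Lib.Helper6.AffPushLin.nonempty_linearEquiv (A := A₁) i hi2 G d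
  have hfin3 : Module.Finite A₁ (Coh.HH X G d) := Module.Finite.equiv e2
  have hfin4 := finite_of_finite_comp u ψ.toRingHom G d hfin3
  letI : X.Over (Spec (CommRingCat.of A)) := ⟨u⟩
  let e3 : G ≅ (Scheme.Modules.pullback p).obj F₀ :=
    (Scheme.Modules.pullbackComp i q₁).app F₀ ≪≫ (Scheme.Modules.pullbackCongr hi1).app F₀
  exact Module.Finite.equiv (Groth.Agent.Lib.Helper17.StalkBC.hhEquiv A e3 d)

end Groth.Agent.Lib.Helper2.TopDegB
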