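import Mathlib
import Groth.Agent.Lib.Helper23Serre
import Groth.Agent.Lib.Helper17FBC3
import Groth.Agent.Lib.Helper2RelTildeExact
import Groth.Agent.Lib.Helper2TopDegB

/-!
# The ideal of a closed fibre is generated by the ideal of the base (helper2)

For `f : X ⟶ Spec A`, a surjection `A → B` with kernel `J` and the base change `g' : X' ⟶ X`
(a closed immersion), the sequence `∐_{a ∈ J} O_X ⟶ O_X ⟶ g'_* O_{X'} ⟶ 0` is exact, the first map
having components "multiplication by `a`".

Namespace `Groth.Agent.Lib.Helper2.FibH1A`.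
-/

set_option autoImplicit false
set_option linter.style.haveILetI false
universe u
open CategoryTheory CategoryTheory.Limits AlgebraicGeometry TopologicalSpace Opposite

namespace Groth.Agent.Lib.Helper2.FibH1A

open Groth.Agent.Lib.Helper23.Serre Groth.Agent.Lib.Helper23.GenLocus Groth.Agent.Lib.Helper17.FBC3

/-- in a pushout square of commutative rings along a surjection `α`, the kernel of the opposite map is
generated by the kernel of `α`. -/
theorem ker_le_map_of_isPushout {A B C C' : Type u} [CommRing A] [CommRing B] [CommRing C]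
    [CommRing C'] (α : A →+* B) (ρ : A →+* C) (ρ' : B →+* C') (ψ : C →+* C')
    (hα : Function.Surjective α)
    (hp : IsPushout (CommRingCat.ofHom α) (CommRingCat.ofHom ρ) (CommRingCat.ofHom ρ')
      (CommRingCat.ofHom ψ)) :
    RingHom.ker ψ ≤ Ideal.map ρ (RingHom.ker α) := by
  set I : Ideal C := Ideal.map ρ (RingHom.ker α) with hI
  let q : C →+* C ⧸ I := Ideal.Quotient.mk I
  have hk : RingHom.ker α ≤ RingHom.ker (q.comp ρ) := by
    intro a ha
    rw [RingHom.mem_ker, RingHom.comp_apply]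
    exact Ideal.Quotient.eq_zero_iff_mem.2 (Ideal.mem_map_of_mem ρ ha)
  let β : B →+* C ⧸ I := α.liftOfSurjective hα ⟨q.comp ρ, hk⟩
  have hβ : β.comp α = q.comp ρ := RingHom.liftOfSurjective_comp α hα ⟨q.comp ρ, hk⟩
  have hw : CommRingCat.ofHom α ≫ CommRingCat.ofHom β =
      CommRingCat.ofHom ρ ≫ CommRingCat.ofHom q := by
    rw [← CommRingCat.ofHom_comp, ← CommRingCat.ofHom_comp, hβ]
  have h2 : CommRingCat.ofHom ψ ≫ hp.desc (CommRingCat.ofHom β) (CommRingCat.ofHom q) hw =
      CommRingCat.ofHom q := hp.inr_desc _ _ _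
  intro c hc
  rw [RingHom.mem_ker] at hc
  have h3 := congrArg (fun t => t.hom c) h2
  simp only [CommRingCat.hom_comp, CommRingCat.hom_ofHom, RingHom.comp_apply] at h3
  rw [hc, map_zero] at h3
  exact Ideal.Quotient.eq_zero_iff_mem.1 h3.symm

section

variable {A : Type u} [CommRing A] {X : Scheme.{u}}

/-- multiplication by `a ∈ A` on `O_X`, for `X` over `Spec A` -/
noncomputable def mulA (f : X ⟶ Spec (CommRingCat.of A)) (a : A) :
    Coh.structureModule X ⟶ Coh.structureModule X :=
  mulBy (Coh.toGlobal f a)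

theorem resF_eq_rho (f : X ⟶ Spec (CommRingCat.of A)) (a : A) (W : X.Opens) :
    resF (Coh.toGlobal f a) W = rho f W a := rfl

theorem mulA_app (f : X ⟶ Spec (CommRingCat.of A)) (a : A) (W : X.Opens) (c : Γ(X, W)) :
    (mulA f a).app W (toS W c) = toS W (c * rho f W a) := by
  unfold mulA
  rw [mulBy_app, resF_eq_rho]

end

section

variable {A B : Type u} [CommRing A] [CommRing B] [Algebra A B] {X X' : Scheme.{u}}
  {f : X ⟶ Spec (CommRingCat.of A)} {f' : X' ⟶ Spec (CommRingCat.of B)} {g' : X' ⟶ X}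
  (h : IsPullback g' f' f (Spec.map (CommRingCat.ofHom (algebraMap A B))))

include h in
theorem app_rho (W : X.Opens) (a : A) :
    g'.app W (rho f W a) = rho f' (g' ⁻¹ᵁ W) (algebraMap A B a) := by
  have h1 : g'.appTop.hom (Coh.toGlobal f a) = Coh.toGlobal f' (algebraMap A B a) := by
    have e1 : Coh.toGlobal (g' ≫ f) a = g'.appTop.hom (Coh.toGlobal f a) := by
      change (g' ≫ f).appTop.hom _ = _
      rw [Scheme.Hom.comp_appTop]
      rfl
    rw [← e1, h.w]
    exact Groth.Agent.Lib.Helper2.TopDegB.toGlobal_comp_specMap f' (algebraMap A B) a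
  have h2 := g'.naturality (homOfLE (le_top : W ≤ ⊤)).op
  have h3 := ConcreteCategory.congr_hom h2 (Coh.toGlobal f a)
  change g'.app W (X.presheaf.map (homOfLE (le_top : W ≤ ⊤)).op (Coh.toGlobal f a)) = _
  erw [h3]
  change X'.presheaf.map _ (g'.appTop.hom (Coh.toGlobal f a)) = _
  rw [h1]
  rfl


include h in
theorem mulA_unitPush (a : A) (ha : algebraMap A B a = 0) : mulA f a ≫ unitPush g' = 0 := by
  apply Scheme.Modules.hom_ext
  intro W
  ext x
  obtain ⟨c, rfl⟩ : ∃ c, toS W c = x := ⟨ofS W x, rfl⟩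
  change (unitPush g').app W ((mulA f a).app W (toS W c)) = 0
  rw [mulA_app, unitPush_app, map_mul, app_rho h, ha, map_zero, mul_zero]
  rfl

/-- the kernel of `A → B` as an index type -/
abbrev KerT (A B : Type u) [CommRing A] [CommRing B] [Algebra A B] : Type u :=
  ↥(RingHom.ker (algebraMap A B))

/-- the map `∐_{a ∈ J} O_X ⟶ O_X` with components multiplication by `a` -/
noncomputable def Phi (f : X ⟶ Spec (CommRingCat.of A)) (B : Type u) [CommRing B] [Algebra A B] :
    (∐ fun _ : KerT A B => Coh.structureModule X) ⟶ Coh.structureModule X :=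
  Sigma.desc (fun a : KerT A B => mulA f a.1)

theorem ι_Phi (a : KerT A B) :
    Sigma.ι (fun _ : KerT A B => Coh.structureModule X) a ≫ Phi f B = mulA f a.1 := by
  unfold Phi
  rw [Sigma.ι_desc]

include h in
theorem Phi_unitPush : Phi f B ≫ unitPush g' = 0 := by
  apply Sigma.hom_ext
  intro a
  rw [← Category.assoc, ι_Phi, comp_zero]
  exact mulA_unitPush h a.1 a.2

/-- the complex `∐_{a ∈ J} O_X ⟶ O_X ⟶ g'_* O_{X'}` -/
noncomputable def cplx : ShortComplex X.Modules :=
  ShortComplex.mk (Phi f B) (unitPush g') (Phi_unitPush h)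

include h in
theorem isClosedImmersion_of_surjective (hs : Function.Surjective (algebraMap A B)) :
    IsClosedImmersion g' :=
  MorphismProperty.of_isPullback (P := @IsClosedImmersion) h.flip
    (IsClosedImmersion.spec_of_surjective _ hs)

theorem exact_cplx (hs : Function.Surjective (algebraMap A B)) : (cplx h).Exact := by
  apply Groth.Agent.Lib.Helper2.RelTildeExact.exact_of_locally_exact
  intro V s hs0 x hx
  obtain ⟨_, ⟨W, hW, rfl⟩, hxW, hle0⟩ :=
    X.isBasis_affineOpens.exists_subset_of_mem_open hx V.isOpen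
  have hle : W ≤ V := hle0
  refine ⟨W, hle, hxW, ?_⟩
  obtain ⟨c, rfl⟩ : ∃ c, toS V c = s := ⟨ofS V s, rfl⟩
  set c' : Γ(X, W) := X.presheaf.map (homOfLE hle).op c with hc'
  have e1 : (cplx h).X₂.presheaf.map (homOfLE hle).op (toS V c) = toS W c' := rfl
  rw [e1]
  -- `c'` is killed by `g'`
  have hc0 : g'.app W c' = 0 := by
    have h1 : (unitPush g').app V (toS V c) = 0 := hs0
    rw [unitPush_app] at h1
    have h2 : g'.app V c = 0 := congrArg (ofS (g' ⁻¹ᵁ V)) h1
    have h3 := g'.naturality (homOfLE hle).op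
    have h4 := ConcreteCategory.congr_hom h3 c
    change g'.app W (X.presheaf.map (homOfLE hle).op c) = 0
    erw [h4]
    change X'.presheaf.map _ (g'.app V c) = 0
    rw [h2, map_zero]
  have hker : c' ∈ Ideal.map (rho f W) (RingHom.ker (algebraMap A B)) := by
    refine ker_le_map_of_isPushout (algebraMap A B) (rho f W) (rho f' (g' ⁻¹ᵁ W))
      (g'.appLE W (g' ⁻¹ᵁ W) le_rfl).hom hs (isPushout_sections h hW) ?_
    rw [RingHom.mem_ker]
    have : g'.appLE W (g' ⁻¹ᵁ W) le_rfl = g'.app W := (Scheme.Hom.app_eq_appLE (f := g')).symm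
    rw [this]
    exact hc0
  -- induction over the span
  rw [Ideal.map] at hker
  refine Submodule.span_induction (p := fun c _ => ∃ t : Γ((cplx h).X₁, W),
    (cplx h).f.app W t = toS W c) ?_ ?_ ?_ ?_ hker
  · rintro _ ⟨a, ha, rfl⟩
    refine ⟨(Sigma.ι (fun _ : KerT A B => Coh.structureModule X) ⟨a, ha⟩).app W (toS W 1), ?_⟩
    change ((Sigma.ι (fun _ : KerT A B => Coh.structureModule X) ⟨a, ha⟩) ≫ Phi f B).app W
      (toS W 1) = _
    rw [ι_Phi, mulA_app, one_mul]
  · exact ⟨0, map_zero _⟩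
  · rintro c₁ c₂ - - ⟨t₁, ht₁⟩ ⟨t₂, ht₂⟩
    refine ⟨t₁ + t₂, ?_⟩
    rw [map_add, ht₁, ht₂]
    rfl
  · rintro r c₁ - ⟨t₁, ht₁⟩
    refine ⟨r • t₁, ?_⟩
    rw [Scheme.Modules.Hom.app_smul, ht₁]
    rfl

end

end Groth.Agent.Lib.Helper2.FibH1A
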