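import Mathlib
import Groth.Agent.Lib.Helper2TopDegB
import Groth.Agent.Lib.Helper2FibVanD
import Groth.Agent.Lib.Helper26FGZ
import Groth.Agent.Lib.Helper26ModDescD
import Groth.Agent.Lib.Helper23FPQuot
import Groth.Agent.Lib.Helper2FinPushFP
import Groth.Agent.Lib.Helper18Strict6
import Groth.Agent.S0002

/-!
# Finiteness of the top-degree cohomology of a finite type quasi-coherent module on a scheme proper
over an arbitrary ring, with fibres of dimension at most `d` (helper2)

Namespace `Groth.Agent.Lib.Helper2.TopDegC`.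
-/

set_option autoImplicit false
set_option linter.style.haveILetI false
universe u
open CategoryTheory CategoryTheory.Limits AlgebraicGeometry TopologicalSpace Opposite

namespace Groth.Agent.Lib.Helper2.TopDegC

open Groth.Agent.Lib.Helper2.TopDegA Groth.Agent.Lib.Helper2.TopDegB
open Groth.Agent.Lib.Helper26.FGZ Groth.Agent.Lib.Helper22.LimBC Groth.Agent.Lib.Helper26.ModDesc

set_option backward.isDefEq.respectTransparency.types false in
/-- Noetherian model of a proper finitely presented scheme over a ring with a finitely presented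
module, keeping the bound on the fibre dimension -/
theorem exists_noetherian_model (A : Type u) [CommRing A] {X : Scheme.{u}}
    (f : X ⟶ Spec (CommRingCat.of A)) [IsProper f] [LocallyOfFinitePresentation f] (d : ℕ)
    (hd : ∀ t, topologicalKrullDim ↥(f.fiber t) ≤ d) (F : X.Modules) [F.IsQuasicoherent]
    (hF : CohB1.IsFP F) :
    ∃ (A₀ : Subalgebra ℤ A) (_ : IsNoetherianRing A₀) (X₀ : Scheme.{u})
      (f₀ : X₀ ⟶ Spec (CommRingCat.of A₀)) (p : X ⟶ X₀) (F₀ : X₀.Modules),
      IsProper f₀ ∧ (∀ t, topologicalKrullDim ↥(f₀.fiber t) ≤ d) ∧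
      IsPullback p f f₀ (Spec.map (CommRingCat.ofHom (algebraMap A₀ A))) ∧
      F₀.IsQuasicoherent ∧ CohB1.IsFP F₀ ∧ Nonempty (F ≅ (Scheme.Modules.pullback p).obj F₀) := by
  haveI : ∀ i, CompactSpace ((specDiagram A).obj i) := fun i => inferInstance
  haveI : ∀ i, QuasiSeparatedSpace ((specDiagram A).obj i) := fun i => inferInstance
  let f' : X ⟶ (specCone A).pt := f
  haveI : IsProper f' := inferInstanceAs (IsProper f)
  haveI : LocallyOfFinitePresentation f' := inferInstanceAs (LocallyOfFinitePresentation f)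
  obtain ⟨k, Xk, fk, q, hsq, hk1, hk2, hk3⟩ :=
    Groth.Agent.Lib.Helper2.FibVanC.exists_stage_model (specDiagram A) (specCone A)
      (specIsLimit A) f' d hd
  haveI : CompactSpace Xk := QuasiCompact.compactSpace_of_compactSpace fk
  haveI : QuasiSeparatedSpace Xk := quasiSeparatedSpace_of_quasiSeparated fk
  let F' : (bcCone k hsq).pt.Modules := F
  haveI : F'.IsQuasicoherent := inferInstanceAs F.IsQuasicoherent
  obtain ⟨j, -, Fj, hFj1, hFj2, ⟨e⟩⟩ := exists_module_descend (bcDiagram (specDiagram A) k fk)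
    (bcCone k hsq) (isLimitBcCone k hsq (specIsLimit A)) (Over.mk (𝟙 k)) F' hF
  have hnoeth : IsNoetherianRing j.left.unop.1 := by
    haveI : Algebra.FiniteType ℤ j.left.unop.1 :=
      (Subalgebra.fg_iff_finiteType j.left.unop.1).mp j.left.unop.2
    exact Algebra.FiniteType.isNoetherianRing ℤ _
  have hprop : IsProper (dSnd (specDiagram A) k fk j) :=
    MorphismProperty.of_isPullback (P := @IsProper) (isPullback_d (specDiagram A) k fk j) hk1
  haveI : LocallyOfFiniteType fk := inferInstance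
  refine ⟨j.left.unop.1, hnoeth, (bcDiagram (specDiagram A) k fk).obj j,
    dSnd (specDiagram A) k fk j, bcπ k hsq j, Fj, hprop, ?_, ?_, hFj1, hFj2, ⟨e.symm⟩⟩
  · exact Groth.Agent.Lib.Helper2.FibVanC.fibre_dim_le_of_isPullback fk _ _ _
      (isPullback_d (specDiagram A) k fk j) d hk3
  · exact isPullback_bcπ k hsq j

/-- the finitely presented case -/
theorem finite_HH_fp (A : Type u) [CommRing A] {X : Scheme.{u}}
    (f : X ⟶ Spec (CommRingCat.of A)) [IsProper f] [LocallyOfFinitePresentation f] (d : ℕ)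
    (hd : ∀ t, topologicalKrullDim ↥(f.fiber t) ≤ d) (F : X.Modules) [F.IsQuasicoherent]
    (hF : CohB1.IsFP F) :
    letI : X.Over (Spec (CommRingCat.of A)) := ⟨f⟩
    Module.Finite A (Coh.HH X F d) := by
  obtain ⟨A₀, hA₀, X₀, f₀, p, F₀, hp, hd₀, hsq, hq₀, hfp₀, ⟨e⟩⟩ :=
    exists_noetherian_model A f d hd F hF
  haveI := hA₀
  haveI := hp
  haveI := hq₀
  have h0 : letI : X₀.Over (Spec (CommRingCat.of A₀)) := ⟨f₀⟩
      Module.Finite A₀ (Coh.HH X₀ F₀ d) := by
    letI : X₀.Over (Spec (CommRingCat.of A₀)) := ⟨f₀⟩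
    haveI : IsProper (X₀ ↘ Spec (CommRingCat.of A₀)) := hp
    exact Groth.Agent.S0002.result A₀ X₀ F₀
      ⟨hq₀, Groth.Agent.Helper18Strict.isFT_of_isFP F₀ hfp₀⟩ d
  have h1 := finite_HH_pullback f₀ f p hsq d hd₀ F₀ h0
  letI : X.Over (Spec (CommRingCat.of A)) := ⟨f⟩
  haveI := h1
  exact Module.Finite.equiv (Groth.Agent.Lib.Helper17.StalkBC.hhEquiv A e.symm d)

/-- finite type modules on a proper finitely presented scheme -/
theorem finite_HH_ft_lfp (A : Type u) [CommRing A] {X : Scheme.{u}}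
    (f : X ⟶ Spec (CommRingCat.of A)) [IsProper f] [LocallyOfFinitePresentation f] (d : ℕ)
    (hd : ∀ t, topologicalKrullDim ↥(f.fiber t) ≤ d) (M : X.Modules) [M.IsQuasicoherent]
    [SheafOfModules.IsFiniteType (R := X.ringCatSheaf) M] :
    letI : X.Over (Spec (CommRingCat.of A)) := ⟨f⟩
    Module.Finite A (Coh.HH X M d) := by
  haveI : CompactSpace X := QuasiCompact.compactSpace_of_compactSpace f
  haveI : QuasiSeparatedSpace X := quasiSeparatedSpace_of_quasiSeparated f
  obtain ⟨G, ψ, hGq, hGfp, hψ⟩ := Groth.Agent.Lib.Helper23.FPQuot.exists_fp_epi M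
  haveI := hGq
  haveI := hψ
  haveI : (kernel ψ).IsQuasicoherent :=
    Groth.Agent.Lib.Helper23.QCohLocal.isQuasicoherent_kernel ψ
  have hker : Subsingleton (Coh.HH X (kernel ψ) (d + 1)) :=
    Groth.Agent.Lib.Helper2.FibVanE.subsingleton_HH_of_isAffine f d hd (kernel ψ) (d + 1)
      (by omega)
  have h1 := finite_HH_fp A f d hd G hGfp
  letI : X.Over (Spec (CommRingCat.of A)) := ⟨f⟩
  exact finite_HH_of_epi A ψ d hker h1

/-- **finiteness of the top-degree cohomology**: `X` proper over an arbitrary ring `A` with fibres of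
dimension at most `d`, `M` quasi-coherent of finite type: `H^d(X, M)` is a finite `A`-module -/
theorem finite_HH_top (A : Type u) [CommRing A] {X : Scheme.{u}}
    (f : X ⟶ Spec (CommRingCat.of A)) [IsProper f] (d : ℕ)
    (hd : ∀ t, topologicalKrullDim ↥(f.fiber t) ≤ d) (M : X.Modules) (hM : Coh.IsCoh M) :
    letI : X.Over (Spec (CommRingCat.of A)) := ⟨f⟩
    Module.Finite A (Coh.HH X M d) := by
  obtain ⟨X', j, f', hj, hf'1, hf'2, hjf, hd'⟩ :=
    Groth.Agent.Lib.Helper2.FibVanD.exists_closedImmersion_fp_fibre_dim f d hd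
  haveI := hj
  haveI := hf'1
  haveI := hf'2
  haveI : M.IsQuasicoherent := hM.1
  haveI : SheafOfModules.IsFiniteType (R := X.ringCatSheaf) M := hM.2
  haveI : ((Scheme.Modules.pushforward j).obj M).IsQuasicoherent :=
    Groth.Agent.Lib.Helper23.QCohLocal.isQuasicoherent_pushforward j M
  haveI : SheafOfModules.IsFiniteType (R := X'.ringCatSheaf)
      ((Scheme.Modules.pushforward j).obj M) :=
    (Groth.Agent.Lib.Helper2.FinPushFP.isFiniteType_pushforward_iff j M).1 inferInstance
  have h1 := finite_HH_ft_lfp A f' d hd' ((Scheme.Modules.pushforward j).obj M)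
  letI : X'.Over (Spec (CommRingCat.of A)) := ⟨f'⟩
  letI : X.Over (Spec (CommRingCat.of A)) := ⟨f⟩
  haveI : CompactSpace X' := QuasiCompact.compactSpace_of_compactSpace f'
  haveI : QuasiSeparatedSpace X' := quasiSeparatedSpace_of_quasiSeparated f'
  obtain ⟨e⟩ := Groth.Agent.Lib.Helper6.AffPushLin.nonempty_linearEquiv (A := A) j hjf M d
  haveI := h1
  exact Module.Finite.equiv e

end Groth.Agent.Lib.Helper2.TopDegC
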