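import Mathlib
import Groth.Agent.Lib.Helper2FibH1A
import Groth.Agent.Lib.Helper16CohCoprod
import Groth.Agent.Lib.Helper2TopDegC
import Groth.Agent.Lib.Helper23PB

/-!
# Top-degree cohomology: right exactness, generation by summands, Nakayama (helper2)

Namespace `Groth.Agent.Lib.Helper2.FibH1B`.
-/

set_option autoImplicit false
set_option linter.style.haveILetI false
universe u
open CategoryTheory CategoryTheory.Limits AlgebraicGeometry TopologicalSpace Opposite Abelian

namespace Groth.Agent.Lib.Helper2.FibH1B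

open Groth.Agent.Lib.Helper23.AffVanish Groth.Agent.Lib.Helper23.QCohLocal
open Groth.Agent.Lib.Helper2.FibH1A Groth.Agent.Lib.Helper23.Serre

variable {X : Scheme.{u}}

/-- the map induced on cohomology by a morphism of modules -/
noncomputable abbrev HHmap {M N : X.Modules} (φ : M ⟶ N) (d : ℕ) : Coh.HH X M d →+ Coh.HH X N d :=
  Sheaf.H.map ((SheafOfModules.toSheaf X.ringCatSheaf).map φ) d

theorem HHmap_comp {M N P : X.Modules} (φ : M ⟶ N) (ψ : N ⟶ P) (d : ℕ) (x : Coh.HH X M d) :
    HHmap (φ ≫ ψ) d x = HHmap ψ d (HHmap φ d x) :=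
  (congrArg (fun t => Sheaf.H.map t d x)
    ((SheafOfModules.toSheaf X.ringCatSheaf).map_comp φ ψ)).trans (Sheaf.H.map_comp_apply _ _ _)

theorem HHmap_zero {M N : X.Modules} (d : ℕ) (x : Coh.HH X M d) :
    HHmap (0 : M ⟶ N) d x = 0 := by
  have e : (SheafOfModules.toSheaf X.ringCatSheaf).map (0 : M ⟶ N) = 0 :=
    (SheafOfModules.toSheaf X.ringCatSheaf).map_zero _ _
  refine (congrArg (fun t => Sheaf.H.map t d x) e).trans ?_
  change x.comp (Ext.mk₀ 0) (add_zero d) = 0
  rw [Ext.mk₀_zero, Ext.comp_zero]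

theorem HHmap_add {M N : X.Modules} (φ ψ : M ⟶ N) (d : ℕ) (x : Coh.HH X M d) :
    HHmap (φ + ψ) d x = HHmap φ d x + HHmap ψ d x :=
  (congrArg (fun t => Sheaf.H.map t d x)
    ((SheafOfModules.toSheaf X.ringCatSheaf).map_add (f := φ) (g := ψ))).trans
    (Sheaf.H.map_add_apply _ _ _)

theorem HHmap_sum {M N : X.Modules} {J : Type*} (T : Finset J) (φ : J → (M ⟶ N)) (d : ℕ)
    (x : Coh.HH X M d) : HHmap (∑ j ∈ T, φ j) d x = ∑ j ∈ T, HHmap (φ j) d x := by
  classical
  induction T using Finset.induction_on with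
  | empty => rw [Finset.sum_empty, Finset.sum_empty, HHmap_zero]
  | insert a T ha ih => rw [Finset.sum_insert ha, Finset.sum_insert ha, HHmap_add, ih]

/-- **right exactness in the top degree**: for an exact sequence `S.X₁ ⟶ S.X₂ ⟶ S.X₃ ⟶ 0`, a class
in `H^d(S.X₂)` dying in `H^d(S.X₃)` comes from `H^d(S.X₁)` as soon as `H^{d+1}` of the kernel of
`S.X₁ ⟶ ker (S.X₂ ⟶ S.X₃)` vanishes. -/
theorem exists_preimage_of_exact (S : ShortComplex X.Modules) (hS : S.Exact) [Epi S.g] (d : ℕ)
    (hK : Subsingleton (Coh.HH X (kernel (kernel.lift S.g S.f S.zero)) (d + 1)))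
    (x : Coh.HH X S.X₂ d) (hx : HHmap S.g d x = 0) :
    ∃ z : Coh.HH X S.X₁ d, HHmap S.f d z = x := by
  let T : ShortComplex X.Modules := ShortComplex.mk (kernel.ι S.g) S.g (kernel.condition S.g)
  haveI : Mono T.f := inferInstanceAs (Mono (kernel.ι S.g))
  haveI : Epi T.g := inferInstanceAs (Epi S.g)
  have hT : T.ShortExact :=
    ShortComplex.ShortExact.mk (ShortComplex.exact_of_f_is_kernel _ (kernelIsKernel S.g))
  obtain ⟨y, hy⟩ := Ext.covariant_sequence_exact₂ _ (shortExact_toAbF T hT) x hx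
  let l : S.X₁ ⟶ kernel S.g := kernel.lift S.g S.f S.zero
  haveI : Epi l := S.exact_iff_epi_kernel_lift.1 hS
  let T' : ShortComplex X.Modules := ShortComplex.mk (kernel.ι l) l (kernel.condition l)
  haveI : Mono T'.f := inferInstanceAs (Mono (kernel.ι l))
  haveI : Epi T'.g := inferInstanceAs (Epi l)
  have hT' : T'.ShortExact :=
    ShortComplex.ShortExact.mk (ShortComplex.exact_of_f_is_kernel _ (kernelIsKernel l))
  obtain ⟨z, hz⟩ := Groth.Agent.Lib.Helper27CohFin.exact_delta T' hT' d y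
    (Subsingleton.elim (α := Coh.HH X (kernel l) (d + 1)) _ _)
  refine ⟨z, ?_⟩
  have e : S.f = l ≫ kernel.ι S.g := (kernel.lift_ι _ _ _).symm
  rw [e, HHmap_comp]
  change HHmap (kernel.ι S.g) d (Sheaf.H.map _ d z) = x
  rw [hz]
  exact hy

open Groth.Agent.Lib.Helper16.CohCoprod Groth.Agent.Lib.Helper21.CoprodSec Classical in
/-- **cohomology classes of a coproduct live on finitely many summands** (qcqs scheme) -/
theorem exists_finset_sum [CompactSpace X] [QuasiSeparatedSpace X] {J : Type u}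
    (F : J → X.Modules) (hF : ∀ j, (F j).IsQuasicoherent) (n : ℕ) (z : Coh.HH X (∐ F) n) :
    ∃ (T : Finset J) (w : ∀ j, Coh.HH X (F j) n), z = ∑ j ∈ T, HHmap (Sigma.ι F j) n (w j) := by
  obtain ⟨α, rfl⟩ := (HETopEquivH X.carrier (ab' (∐ F)) n).surjective z
  obtain ⟨T, hT⟩ := FS_of_isCompact F hF ⊤ isCompact_univ n α
  refine ⟨T, fun j => HHmap (Sigma.π F j) n (HETopEquivH X.carrier (ab' (∐ F)) n α), ?_⟩
  have h1 : HHmap (prT F T) n (HETopEquivH X.carrier (ab' (∐ F)) n α) =
      HETopEquivH X.carrier (ab' (∐ F)) n α := by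
    conv_rhs => rw [← hT]
    change ((Ext.mk₀ (wTop X.carrier)).comp α (zero_add n)).comp (Ext.mk₀ _) (add_zero n) =
      (Ext.mk₀ (wTop X.carrier)).comp (α.comp (Ext.mk₀ (eT F T)) (add_zero n)) (zero_add n)
    rw [Ext.comp_assoc _ _ _ (zero_add n) (add_zero n) (by omega)]
    rfl
  refine h1.symm.trans ?_
  refine (HHmap_sum T (fun j => Sigma.π F j ≫ Sigma.ι F j) n _).trans ?_
  exact Finset.sum_congr rfl (fun j _ => HHmap_comp _ _ n _)

open Groth.Agent.Lib.Helper23.GenLocus in
/-- on cohomology, the endomorphism "multiplication by a global function" of `O_X` is the scalar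
action -/
theorem toSheaf_map_mulBy (r : Γ(X, ⊤)) :
    (SheafOfModules.toSheaf X.ringCatSheaf).map (mulBy r) = Coh.smulAb (Coh.structureModule X) r := by
  ext U m
  obtain ⟨c, rfl⟩ : ∃ c, toS U.unop c = m := ⟨ofS U.unop m, rfl⟩
  change (mulBy r).app U.unop (toS U.unop c) = _
  rw [mulBy_app, Coh.smulAb_app]
  change toS U.unop (c * resF r U.unop) = toS U.unop (resF r U.unop * c)
  rw [mul_comm]

theorem coproduct_isQuasicoherent {J : Type u} (F : J → X.Modules)
    (hF : ∀ j, (F j).IsQuasicoherent) : (∐ F).IsQuasicoherent :=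
  isQuasicoherent_colimit (Discrete.functor F) (fun j => hF j.as)

section Main

variable {A B : Type u} [CommRing A] [CommRing B] [Algebra A B] {X' : Scheme.{u}}

theorem HHmap_mulA (f : X ⟶ Spec (CommRingCat.of A)) (a : A) (d : ℕ)
    (w : Coh.HH X (Coh.structureModule X) d) :
    letI : X.Over (Spec (CommRingCat.of A)) := ⟨f⟩
    HHmap (mulA f a) d w = a • w := by
  letI : X.Over (Spec (CommRingCat.of A)) := ⟨f⟩
  unfold mulA
  exact congrArg (fun t => Sheaf.H.map t d w) (toSheaf_map_mulBy (Coh.toGlobal f a))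

/-- **Nakayama input**: if the top cohomology of the structure sheaf of the closed fibre `X'` over
`V(J)` vanishes then `H^d(X, O_X) = J · H^d(X, O_X)`. -/
theorem mem_smul_top (f : X ⟶ Spec (CommRingCat.of A)) (f' : X' ⟶ Spec (CommRingCat.of B))
    (g' : X' ⟶ X)
    (h : IsPullback g' f' f (Spec.map (CommRingCat.ofHom (algebraMap A B))))
    (hs : Function.Surjective (algebraMap A B))
    [IsProper f] (d : ℕ) (hd : ∀ t, topologicalKrullDim ↥(f.fiber t) ≤ d)
    (hX' : Subsingleton (Coh.HH X' (Coh.structureModule X') d))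
    (x : Coh.HH X (Coh.structureModule X) d) :
    letI : X.Over (Spec (CommRingCat.of A)) := ⟨f⟩
    x ∈ (RingHom.ker (algebraMap A B) •
      (⊤ : Submodule A (Coh.HH X (Coh.structureModule X) d))) := by
  letI : X.Over (Spec (CommRingCat.of A)) := ⟨f⟩
  haveI : CompactSpace X := QuasiCompact.compactSpace_of_compactSpace f
  haveI : QuasiSeparatedSpace X := quasiSeparatedSpace_of_quasiSeparated f
  haveI : IsClosedImmersion g' := isClosedImmersion_of_surjective h hs
  haveI hO : (Coh.structureModule X).IsQuasicoherent := isQuasicoherent_structureModule' X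
  haveI hO' : (Coh.structureModule X').IsQuasicoherent := isQuasicoherent_structureModule' X'
  haveI hq3 : ((Scheme.Modules.pushforward g').obj (Coh.structureModule X')).IsQuasicoherent :=
    isQuasicoherent_pushforward g' _
  haveI hq1 : (∐ fun _ : KerT A B => Coh.structureModule X).IsQuasicoherent :=
    coproduct_isQuasicoherent _ (fun _ => hO)
  -- `H^d(g'_* O) = 0`
  letI : X'.Over (Spec (CommRingCat.of A)) := ⟨g' ≫ f⟩
  obtain ⟨e2⟩ := Groth.Agent.Lib.Helper6.AffPushLin.nonempty_linearEquiv (A := A) g' rfl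
    (Coh.structureModule X') d
  haveI h3 : Subsingleton
      (Coh.HH X ((Scheme.Modules.pushforward g').obj (Coh.structureModule X')) d) :=
    e2.toEquiv.subsingleton
  -- right exactness
  let S := cplx h
  haveI : Epi S.g := epi_unitPush g'
  haveI hS1 : S.X₁.IsQuasicoherent := hq1
  haveI hS2 : S.X₂.IsQuasicoherent := hO
  haveI hS3 : S.X₃.IsQuasicoherent := hq3
  haveI hS3' : Subsingleton (Coh.HH X S.X₃ d) := h3
  haveI hk1 : (kernel S.g).IsQuasicoherent := isQuasicoherent_kernel S.g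
  haveI hk2 : (kernel (kernel.lift S.g S.f S.zero)).IsQuasicoherent :=
    isQuasicoherent_kernel _
  have hK : Subsingleton (Coh.HH X (kernel (kernel.lift S.g S.f S.zero)) (d + 1)) :=
    Groth.Agent.Lib.Helper2.FibVanE.subsingleton_HH_of_isAffine f d hd _ (d + 1) (by omega)
  obtain ⟨z, hz⟩ := exists_preimage_of_exact S (exact_cplx h hs) d hK x (Subsingleton.elim _ _)
  obtain ⟨T, w, hT⟩ := exists_finset_sum (fun _ : KerT A B => Coh.structureModule X)
    (fun _ => hO) d z
  have hx : x = ∑ j ∈ T, HHmap S.f d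
      (HHmap (Sigma.ι (fun _ : KerT A B => Coh.structureModule X) j) d (w j)) :=
    hz.symm.trans ((congrArg (HHmap S.f d) hT).trans (map_sum (HHmap S.f d)
      (fun j => HHmap (Sigma.ι (fun _ : KerT A B => Coh.structureModule X) j) d (w j)) T))
  rw [hx]
  refine Submodule.sum_mem _ (fun a _ => ?_)
  have e : Sigma.ι (fun _ : KerT A B => Coh.structureModule X) a ≫ S.f = mulA f a.1 := ι_Phi a
  have e2 : HHmap S.f d (HHmap (Sigma.ι (fun _ : KerT A B => Coh.structureModule X) a) d
        (w a)) = a.1 • (w a) :=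
    (HHmap_comp _ _ d _).symm.trans ((congrArg (fun t => HHmap t d _) e).trans
      (HHmap_mulA f a.1 d _))
  rw [e2]
  exact Submodule.smul_mem_smul a.2 trivial

end Main

end Groth.Agent.Lib.Helper2.FibH1B
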