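import Mathlib
import Groth.Agent.Lib.Helper2FibH1B
import Groth.Agent.S0034

/-!
# Top-degree cohomology of the structure sheaf and base change (helper2)

Namespace `Groth.Agent.Lib.Helper2.FibH1C`.
-/

set_option autoImplicit false
set_option linter.style.haveILetI false
universe u
open CategoryTheory CategoryTheory.Limits AlgebraicGeometry TopologicalSpace Opposite Abelian

namespace Groth.Agent.Lib.Helper2.FibH1C

open Groth.Agent.Lib.Helper23.AffVanish Groth.Agent.Lib.Helper23.QCohLocal
open Groth.Agent.Lib.Helper2.FibH1A Groth.Agent.Lib.Helper2.FibH1B Groth.Agent.Lib.Helper23.Serre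
open Groth.Agent.Lib.Helper2.TopDegA

theorem HHmap_id {X : Scheme.{u}} (M : X.Modules) (d : ℕ) (x : Coh.HH X M d) :
    HHmap (𝟙 M) d x = x :=
  (congrArg (fun t => Sheaf.H.map t d x)
    ((SheafOfModules.toSheaf X.ringCatSheaf).map_id M)).trans (Sheaf.H.map_id_apply _)

theorem subsingleton_HH_of_iso {X : Scheme.{u}} {M N : X.Modules} (e : M ≅ N) (d : ℕ)
    (h : Subsingleton (Coh.HH X M d)) : Subsingleton (Coh.HH X N d) := by
  have key : ∀ a : Coh.HH X N d, a = 0 := by
    intro a
    have ha : a = HHmap e.hom d (HHmap e.inv d a) := by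
      rw [← HHmap_comp, e.inv_hom_id, HHmap_id]
    rw [ha, Subsingleton.elim (HHmap e.inv d a) 0, map_zero]
  exact ⟨fun a b => (key a).trans (key b).symm⟩

open TensorProduct in
theorem subsingleton_tensor_right {R : Type*} [CommRing R] (M N : Type*) [AddCommGroup M]
    [AddCommGroup N] [Module R M] [Module R N] [Subsingleton N] : Subsingleton (M ⊗[R] N) := by
  have key : ∀ z : M ⊗[R] N, z = 0 := by
    intro z
    induction z using TensorProduct.induction_on with
    | zero => rfl
    | tmul m n => rw [Subsingleton.elim n 0, TensorProduct.tmul_zero]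
    | add a b ha hb => rw [ha, hb, add_zero]
  exact ⟨fun a b => (key a).trans (key b).symm⟩

/-- **vanishing of the top-degree cohomology is preserved by arbitrary base change of rings** -/
theorem subsingleton_HH_pullback {A₀ A : Type u} [CommRing A₀] [CommRing A] [Algebra A₀ A]
    {X₀ X : Scheme.{u}} (u₀ : X₀ ⟶ Spec (CommRingCat.of A₀)) (u : X ⟶ Spec (CommRingCat.of A))
    (p : X ⟶ X₀) (hsq : IsPullback p u u₀ (Spec.map (CommRingCat.ofHom (algebraMap A₀ A))))
    [IsProper u₀] (d : ℕ) (hd : ∀ t, topologicalKrullDim ↥(u₀.fiber t) ≤ d)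
    (F₀ : X₀.Modules) [F₀.IsQuasicoherent] (h : Subsingleton (Coh.HH X₀ F₀ d)) :
    Subsingleton (Coh.HH X ((Scheme.Modules.pullback p).obj F₀) d) := by
  classical
  letI : X₀.Over (Spec (CommRingCat.of A₀)) := ⟨u₀⟩
  let A₁ := MvPolynomial A A₀
  let ψ : A₁ →ₐ[A₀] A := MvPolynomial.aeval id
  have hψ : Function.Surjective ψ := fun a => ⟨MvPolynomial.X a, by
    change (MvPolynomial.aeval id) (MvPolynomial.X a) = a
    rw [MvPolynomial.aeval_X]; rfl⟩
  let c₁ : Spec (CommRingCat.of A₁) ⟶ Spec (CommRingCat.of A₀) :=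
    Spec.map (CommRingCat.ofHom (algebraMap A₀ A₁))
  let ψs : Spec (CommRingCat.of A) ⟶ Spec (CommRingCat.of A₁) :=
    Spec.map (CommRingCat.ofHom ψ.toRingHom)
  let X₁ := pullback u₀ c₁
  let q₁ : X₁ ⟶ X₀ := pullback.fst u₀ c₁
  let u₁ : X₁ ⟶ Spec (CommRingCat.of A₁) := pullback.snd u₀ c₁
  letI : X₁.Over (Spec (CommRingCat.of A₁)) := ⟨u₁⟩
  have h1 : IsPullback q₁ u₁ u₀ c₁ := IsPullback.of_hasPullback u₀ c₁
  haveI : CompactSpace X₀ := QuasiCompact.compactSpace_of_compactSpace u₀
  haveI : QuasiSeparatedSpace X₀ := quasiSeparatedSpace_of_quasiSeparated u₀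
  -- flat base change to the polynomial ring
  obtain ⟨e1⟩ := Groth.Agent.S0034.result A₀ A₁ X₀ X₁ q₁ h1 F₀ d
  haveI := h
  haveI hsub1 : Subsingleton (Coh.HH X₁ ((Scheme.Modules.pullback q₁).obj F₀) d) :=
    haveI := subsingleton_tensor_right (R := A₀) A₁ (Coh.HH X₀ F₀ d)
    e1.symm.toEquiv.subsingleton
  -- the closed immersion `X ⟶ X₁`
  have hcomp : ψs ≫ c₁ = Spec.map (CommRingCat.ofHom (algebraMap A₀ A)) := by
    rw [← Spec.map_comp, ← CommRingCat.ofHom_comp]
    congr 2
    exact ψ.comp_algebraMap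
  let i : X ⟶ X₁ := pullback.lift p (u ≫ ψs) (by rw [Category.assoc, hcomp, hsq.w])
  have hi1 : i ≫ q₁ = p := pullback.lift_fst _ _ _
  have hi2 : i ≫ u₁ = u ≫ ψs := pullback.lift_snd _ _ _
  have hsqi : IsPullback i u u₁ ψs := by
    refine IsPullback.of_right ?_ hi2 h1
    rw [hi1, hcomp]
    exact hsq
  haveI : IsClosedImmersion ψs := IsClosedImmersion.spec_of_surjective _ hψ
  haveI : IsClosedImmersion i :=
    MorphismProperty.of_isPullback (P := @IsClosedImmersion) hsqi.flip inferInstance
  haveI : IsProper u₁ := MorphismProperty.of_isPullback (P := @IsProper) h1 inferInstance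
  have hd₁ : ∀ t, topologicalKrullDim ↥(u₁.fiber t) ≤ d :=
    Groth.Agent.Lib.Helper2.FibVanC.fibre_dim_le_of_isPullback u₀ c₁ u₁ q₁ h1 d hd
  haveI : CompactSpace X₁ := QuasiCompact.compactSpace_of_compactSpace u₁
  haveI : QuasiSeparatedSpace X₁ := quasiSeparatedSpace_of_quasiSeparated u₁
  let F₁ : X₁.Modules := (Scheme.Modules.pullback q₁).obj F₀
  haveI : F₁.IsQuasicoherent := Groth.Agent.Lib.Helper2.PullbackSec.isQuasicoherent_pullback q₁ F₀
  let G : X.Modules := (Scheme.Modules.pullback i).obj F₁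
  haveI : G.IsQuasicoherent := Groth.Agent.Lib.Helper2.PullbackSec.isQuasicoherent_pullback i F₁
  haveI : ((Scheme.Modules.pushforward i).obj G).IsQuasicoherent :=
    Groth.Agent.Lib.Helper23.QCohLocal.isQuasicoherent_pushforward i G
  let η : F₁ ⟶ (Scheme.Modules.pushforward i).obj G :=
    (Scheme.Modules.pullbackPushforwardAdjunction i).unit.app F₁
  haveI : Epi η := epi_unit_of_isClosedImmersion i F₁
  haveI : (kernel η).IsQuasicoherent :=
    Groth.Agent.Lib.Helper23.QCohLocal.isQuasicoherent_kernel η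
  have hker : Subsingleton (Coh.HH X₁ (kernel η) (d + 1)) :=
    Groth.Agent.Lib.Helper2.FibVanE.subsingleton_HH_of_isAffine u₁ d hd₁ (kernel η) (d + 1)
      (by omega)
  have hsub2 : Subsingleton (Coh.HH X₁ ((Scheme.Modules.pushforward i).obj G) d) :=
    (surjective_HHlin_of_epi A₁ η d hker).subsingleton
  -- cohomology along the closed immersion
  letI inst₁ : X.Over (Spec (CommRingCat.of A₁)) := ⟨u ≫ ψs⟩
  obtain ⟨e2⟩ := Groth.Agent.Lib.Helper6.AffPushLin.nonempty_linearEquiv (A := A₁) i hi2 G d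
  haveI hsub3 : Subsingleton (Coh.HH X G d) := e2.symm.toEquiv.subsingleton
  let e3 : G ≅ (Scheme.Modules.pullback p).obj F₀ :=
    (Scheme.Modules.pullbackComp i q₁).app F₀ ≪≫ (Scheme.Modules.pullbackCongr hi1).app F₀
  exact subsingleton_HH_of_iso e3 d hsub3

/-- the structure-sheaf case -/
theorem subsingleton_HH_structure_pullback {A₀ A : Type u} [CommRing A₀] [CommRing A] [Algebra A₀ A]
    {X₀ X : Scheme.{u}} (u₀ : X₀ ⟶ Spec (CommRingCat.of A₀)) (u : X ⟶ Spec (CommRingCat.of A))
    (p : X ⟶ X₀) (hsq : IsPullback p u u₀ (Spec.map (CommRingCat.ofHom (algebraMap A₀ A))))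
    [IsProper u₀] (d : ℕ) (hd : ∀ t, topologicalKrullDim ↥(u₀.fiber t) ≤ d)
    (h : Subsingleton (Coh.HH X₀ (Coh.structureModule X₀) d)) :
    Subsingleton (Coh.HH X (Coh.structureModule X) d) := by
  haveI : (Coh.structureModule X₀).IsQuasicoherent := isQuasicoherent_structureModule' X₀
  exact subsingleton_HH_of_iso (Groth.Agent.Lib.Helper23.PB.pullbackUnitIso p) d
    (subsingleton_HH_pullback u₀ u p hsq d hd (Coh.structureModule X₀) h)

theorem isCoh_structureModule (P : Scheme.{u}) : Coh.IsCoh (Coh.structureModule P) := by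
  haveI := isQuasicoherent_structureModule' P
  refine ⟨inferInstance, ?_⟩
  rw [Groth.Agent.Lib.Helper23.FinType.isFiniteType_iff_forall_affine]
  intro U hU
  exact inferInstanceAs (Module.Finite Γ(P, U) Γ(P, U))

/-- the fibre over a closed point `t` of `Spec A` as a base change along `A → κ(t)` (a surjection) -/
theorem isPullback_fiber_spec {A : Type u} [CommRing A] {X : Scheme.{u}}
    (f : X ⟶ Spec (CommRingCat.of A)) (t : Spec (CommRingCat.of A)) :
    IsPullback (f.fiberι t)
      (f.fiberToSpecResidueField t ≫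
        Spec.map (Scheme.Spec.residueFieldIso (CommRingCat.of A) t).inv) f
      (Spec.map (CommRingCat.ofHom (algebraMap A t.asIdeal.ResidueField))) := by
  have h0 : IsPullback (f.fiberι t) (f.fiberToSpecResidueField t) f
      ((Spec (CommRingCat.of A)).fromSpecResidueField t) :=
    IsPullback.of_hasPullback f ((Spec (CommRingCat.of A)).fromSpecResidueField t)
  refine IsPullback.of_iso h0 (Iso.refl _) (Iso.refl _)
    (asIso (Spec.map (Scheme.Spec.residueFieldIso (CommRingCat.of A) t).inv)) (Iso.refl _)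
    ?_ ?_ ?_ ?_
  · simp
  · simp
  · simp
  · rw [Iso.refl_hom, Category.comp_id, asIso_hom]
    exact (Scheme.Spec.map_residueFieldIso_inv_eq_fromSpecResidueField (CommRingCat.of A) t).symm

/-- **vanishing of the top cohomology of the structure sheaf from the closed fibres** -/
theorem subsingleton_HH_structure (A : Type u) [CommRing A] {X : Scheme.{u}}
    (f : X ⟶ Spec (CommRingCat.of A)) [IsProper f] (d : ℕ)
    (hd : ∀ t, topologicalKrullDim ↥(f.fiber t) ≤ d)
    (hfib : ∀ t : Spec (CommRingCat.of A), t.asIdeal.IsMaximal →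
      Subsingleton (Coh.HH (f.fiber t) (Coh.structureModule (f.fiber t)) d)) :
    Subsingleton (Coh.HH X (Coh.structureModule X) d) := by
  letI : X.Over (Spec (CommRingCat.of A)) := ⟨f⟩
  have hfin : Module.Finite A (Coh.HH X (Coh.structureModule X) d) :=
    Groth.Agent.Lib.Helper2.TopDegC.finite_HH_top A f d hd _ (isCoh_structureModule X)
  have key : ∀ 𝔪 : Ideal A, 𝔪.IsMaximal → ∃ r : A, r - 1 ∈ 𝔪 ∧
      ∀ x : Coh.HH X (Coh.structureModule X) d, r • x = 0 := by
    intro 𝔪 h𝔪
    let t : Spec (CommRingCat.of A) := ⟨𝔪, h𝔪.isPrime⟩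
    haveI : t.asIdeal.IsMaximal := h𝔪
    have hs : Function.Surjective (algebraMap A t.asIdeal.ResidueField) :=
      Ideal.algebraMap_residueField_surjective _
    have h1 := mem_smul_top f _ _ (isPullback_fiber_spec f t) hs d hd (hfib t h𝔪)
    have hle : (⊤ : Submodule A (Coh.HH X (Coh.structureModule X) d)) ≤ 𝔪 • ⊤ := by
      intro x _
      have h2 := h1 x
      rwa [Ideal.ker_algebraMap_residueField] at h2
    obtain ⟨r, hr1, hr2⟩ := Submodule.exists_sub_one_mem_and_smul_eq_zero_of_fg_of_le_smul 𝔪 ⊤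
      (Module.finite_def.1 hfin) hle
    exact ⟨r, hr1, fun x => hr2 x trivial⟩
  by_contra hne
  have hI : Module.annihilator A (Coh.HH X (Coh.structureModule X) d) ≠ ⊤ := by
    intro h
    apply hne
    have h1 : (1 : A) ∈ Module.annihilator A (Coh.HH X (Coh.structureModule X) d) := by
      rw [h]; trivial
    rw [Module.mem_annihilator] at h1
    exact ⟨fun a b => by rw [← one_smul A a, ← one_smul A b, h1 a, h1 b]⟩
  obtain ⟨𝔪, h𝔪, hle⟩ := Ideal.exists_le_maximal _ hI
  obtain ⟨r, hr1, hr2⟩ := key 𝔪 h𝔪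
  have hr : r ∈ Module.annihilator A (Coh.HH X (Coh.structureModule X) d) :=
    Module.mem_annihilator.2 hr2
  have h1 : (1 : A) ∈ 𝔪 := by
    have := 𝔪.sub_mem (hle hr) hr1
    simpa using this
  exact h𝔪.ne_top ((Ideal.eq_top_iff_one _).2 h1)

section FibreBC

variable {X Y X' Y' : Scheme.{u}} (f : X ⟶ Y) (g : Y' ⟶ Y) (f' : X' ⟶ Y') (g' : X' ⟶ X)
  (hc : IsPullback g' f' f g) (y' : Y')

include hc in
/-- the fibre of a base change is the base change of the fibre along the residue field extension -/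
theorem exists_isPullback_fiber :
    ∃ q : f'.fiber y' ⟶ f.fiber (g y'),
      IsPullback q (f'.fiberToSpecResidueField y') (f.fiberToSpecResidueField (g y'))
        (Spec.map (g.residueFieldMap y')) := by
  have big : IsPullback (f'.fiberι y' ≫ g') (f'.fiberToSpecResidueField y') f
      (Y'.fromSpecResidueField y' ≫ g) :=
    (IsPullback.of_hasPullback f' (Y'.fromSpecResidueField y')).paste_horiz hc
  rw [← g.SpecMap_residueFieldMap_fromSpecResidueField y'] at big
  have right : IsPullback (f.fiberι (g y')) (f.fiberToSpecResidueField (g y')) f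
      (Y.fromSpecResidueField (g y')) :=
    IsPullback.of_hasPullback f (Y.fromSpecResidueField (g y'))
  let q : f'.fiber y' ⟶ f.fiber (g y') :=
    right.lift (f'.fiberι y' ≫ g')
      (f'.fiberToSpecResidueField y' ≫ Spec.map (g.residueFieldMap y')) big.w
  have hq1 : q ≫ f.fiberι (g y') = f'.fiberι y' ≫ g' := right.lift_fst _ _ _
  have hq2 : q ≫ f.fiberToSpecResidueField (g y') =
      f'.fiberToSpecResidueField y' ≫ Spec.map (g.residueFieldMap y') := right.lift_snd _ _ _
  refine ⟨q, IsPullback.of_right ?_ hq2 right⟩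
  rw [hq1]
  exact big

open TensorProduct in
include hc in
/-- the top cohomology of the structure sheaf of a fibre vanishes iff it does after base change -/
theorem subsingleton_HH_fiber_iff [QuasiCompact f] [QuasiSeparated f] (d : ℕ) :
    Subsingleton (Coh.HH (f'.fiber y') (Coh.structureModule (f'.fiber y')) d) ↔
      Subsingleton (Coh.HH (f.fiber (g y')) (Coh.structureModule (f.fiber (g y'))) d) := by
  obtain ⟨q, hq⟩ := exists_isPullback_fiber f g f' g' hc y'
  letI alg : Algebra (Y.residueField (g y')) (Y'.residueField y') :=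
    (g.residueFieldMap y').hom.toAlgebra
  letI i1 : (f.fiber (g y')).Over (Spec (CommRingCat.of (Y.residueField (g y')))) :=
    ⟨f.fiberToSpecResidueField (g y')⟩
  letI i2 : (f'.fiber y').Over (Spec (CommRingCat.of (Y'.residueField y'))) :=
    ⟨f'.fiberToSpecResidueField y'⟩
  haveI : QuasiSeparated (f.fiberToSpecResidueField (g y')) :=
    MorphismProperty.pullback_snd _ _ inferInstance
  haveI : QuasiSeparatedSpace (f.fiber (g y')) :=
    quasiSeparatedSpace_of_quasiSeparated (f.fiberToSpecResidueField (g y'))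
  haveI hO : (Coh.structureModule (f.fiber (g y'))).IsQuasicoherent :=
    isQuasicoherent_structureModule' _
  obtain ⟨e⟩ := Groth.Agent.S0034.result (Y.residueField (g y')) (Y'.residueField y')
    (f.fiber (g y')) (f'.fiber y') q hq (Coh.structureModule (f.fiber (g y'))) d
  constructor
  · intro h
    haveI h1 : Subsingleton (Coh.HH (f'.fiber y')
        ((Scheme.Modules.pullback q).obj (Coh.structureModule (f.fiber (g y')))) d) :=
      subsingleton_HH_of_iso (Groth.Agent.Lib.Helper23.PB.pullbackUnitIso q).symm d h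
    haveI h2 : Subsingleton ((Y'.residueField y') ⊗[Y.residueField (g y')]
        Coh.HH (f.fiber (g y')) (Coh.structureModule (f.fiber (g y'))) d) :=
      e.toEquiv.subsingleton
    exact Module.FaithfullyFlat.lTensor_reflects_triviality (Y.residueField (g y'))
      (Y'.residueField y') _
  · intro h
    haveI := h
    haveI h2 : Subsingleton ((Y'.residueField y') ⊗[Y.residueField (g y')]
        Coh.HH (f.fiber (g y')) (Coh.structureModule (f.fiber (g y'))) d) :=
      subsingleton_tensor_right _ _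
    haveI h1 : Subsingleton (Coh.HH (f'.fiber y')
        ((Scheme.Modules.pullback q).obj (Coh.structureModule (f.fiber (g y')))) d) :=
      e.symm.toEquiv.subsingleton
    exact subsingleton_HH_of_iso (Groth.Agent.Lib.Helper23.PB.pullbackUnitIso q) d h1

end FibreBC

end Groth.Agent.Lib.Helper2.FibH1C
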