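import Mathlib
import Groth.Agent.Lib.Helper2FibH1C
import Groth.Agent.Lib.Helper26SecBC

/-!
# Nakayama for the top cohomology of a quasi-coherent module (helper2)

For `f : X ⟶ Spec A` proper with fibres of dimension `≤ d`, a surjection `A → B` with kernel `J` and
the base change `g' : X' ⟶ X` (a closed immersion), and a quasi-coherent `M` on `X`:

* `exact_cplxM` : `∐_{a ∈ J} M ⟶ M ⟶ g'_* g'^* M` is exact (first map: `Formal.smulFamily`);
* `mem_smul_topM` : if `H^d(X', g'^* M) = 0` then `H^d(X, M) = J · H^d(X, M)`;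
* `subsingleton_HH_of_fibres` : if `M` is coherent and `H^d(X_t, M|_{X_t}) = 0` for all closed
  points `t` then `H^d(X, M) = 0`.

Namespace `Groth.Agent.Lib.Helper2.FibH1G`.
-/

set_option autoImplicit false
set_option linter.style.haveILetI false
universe u
open CategoryTheory CategoryTheory.Limits AlgebraicGeometry TopologicalSpace Opposite

namespace Groth.Agent.Lib.Helper2.FibH1G

open Groth.Agent.Lib.Helper23.Serre Groth.Agent.Lib.Helper23.GenLocus Groth.Agent.Lib.Helper17.FBC3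
  Groth.Agent.Lib.Helper2.FibH1A Groth.Agent.Lib.Helper2.FibH1B Groth.Agent.Lib.Helper2.FibH1C
  Groth.Agent.Lib.Helper2.TopDegA Groth.Agent.Lib.Helper23.QCohLocal
  Groth.Agent.Helper13PullbackUnit

/-- for a base change along a surjective ring map, the kernel of `n ↦ 1 ⊗ n` is `ker • ⊤` -/
theorem mem_smul_top_of_isBaseChange {R S : Type*} [CommRing R] [CommRing S] [Algebra R S]
    (hs : Function.Surjective (algebraMap R S)) {N P : Type*} [AddCommGroup N] [Module R N]
    [AddCommGroup P] [Module R P] [Module S P] [IsScalarTower R S P] (η : N →ₗ[R] P)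
    (hη : IsBaseChange S η) (n : N) (hn : η n = 0) :
    n ∈ (RingHom.ker (algebraMap R S)) • (⊤ : Submodule R N) := by
  have h1 : (1 : S) ⊗ₜ[R] n = 0 := by
    apply hη.equiv.injective
    rw [hη.equiv_tmul, one_smul, hn, map_zero]
  let e : (R ⧸ RingHom.ker (algebraMap R S)) ≃ₐ[R] S :=
    Ideal.quotientKerAlgEquivOfSurjective (f := Algebra.ofId R S) hs
  have h2 : (1 : R ⧸ RingHom.ker (algebraMap R S)) ⊗ₜ[R] n = 0 := by
    have := congrArg (LinearMap.rTensor N e.symm.toLinearMap) h1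
    rw [LinearMap.rTensor_tmul, map_zero] at this
    rw [← this]
    congr 1
    exact (map_one e.symm).symm
  have h3 : n ∈ LinearMap.ker (TensorProduct.mk R (R ⧸ RingHom.ker (algebraMap R S)) N 1) := h2
  rwa [LinearMap.ker_tensorProductMk] at h3

section

variable {A B : Type u} [CommRing A] [CommRing B] [Algebra A B] {X X' : Scheme.{u}}
  {f : X ⟶ Spec (CommRingCat.of A)} {f' : X' ⟶ Spec (CommRingCat.of B)} {g' : X' ⟶ X}
  (h : IsPullback g' f' f (Spec.map (CommRingCat.ofHom (algebraMap A B))))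

/-- the unit `M ⟶ g'_* g'^* M` -/
noncomputable abbrev unitM (g' : X' ⟶ X) (M : X.Modules) :
    M ⟶ (Scheme.Modules.pushforward g').obj ((Scheme.Modules.pullback g').obj M) :=
  (Scheme.Modules.pullbackPushforwardAdjunction g').unit.app M

include h in
theorem smulModΓ_pushforward_eq_zero (N : X'.Modules) (a : A) (ha : algebraMap A B a = 0) :
    Formal.smulModΓ ((Scheme.Modules.pushforward g').obj N) (Coh.toGlobal f a) = 0 := by
  apply Scheme.Modules.hom_ext
  intro W
  ext x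
  change (Formal.smulModΓ ((Scheme.Modules.pushforward g').obj N) (Coh.toGlobal f a)).app W x = 0
  rw [KLin.smulModΓ_app_apply]
  change rho f W a • x = 0
  rw [pushforward_smul, app_rho h, ha, map_zero, zero_smul]
  rfl

include h in
theorem smulModΓ_unitM (M : X.Modules) (a : A) (ha : algebraMap A B a = 0) :
    Formal.smulModΓ M (Coh.toGlobal f a) ≫ unitM g' M = 0 := by
  rw [← KLin.comp_smulModΓ, smulModΓ_pushforward_eq_zero h _ a ha, comp_zero]

/-- the map `∐_{a ∈ J} M ⟶ M` with components multiplication by `a` -/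
noncomputable def PhiM (f : X ⟶ Spec (CommRingCat.of A)) (B : Type u) [CommRing B] [Algebra A B]
    (M : X.Modules) : (∐ fun _ : KerT A B => M) ⟶ M :=
  Sigma.desc (fun a : KerT A B => Formal.smulModΓ M (Coh.toGlobal f a.1))

theorem ι_PhiM (M : X.Modules) (a : KerT A B) :
    Sigma.ι (fun _ : KerT A B => M) a ≫ PhiM f B M = Formal.smulModΓ M (Coh.toGlobal f a.1) := by
  unfold PhiM
  rw [Sigma.ι_desc]

include h in
theorem PhiM_unitM (M : X.Modules) : PhiM f B M ≫ unitM g' M = 0 := by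
  apply Sigma.hom_ext
  intro a
  rw [← Category.assoc, ι_PhiM, comp_zero]
  exact smulModΓ_unitM h M a.1 a.2

/-- the complex `∐_{a ∈ J} M ⟶ M ⟶ g'_* g'^* M` -/
noncomputable def cplxM (M : X.Modules) : ShortComplex X.Modules :=
  ShortComplex.mk (PhiM f B M) (unitM g' M) (PhiM_unitM h M)

theorem smulModΓ_app (M : X.Modules) (a : A) (W : X.Opens) (m : Γ(M, W)) :
    (Formal.smulModΓ M (Coh.toGlobal f a)).app W m = rho f W a • m := rfl

theorem exact_cplxM (hs : Function.Surjective (algebraMap A B)) (M : X.Modules)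
    [M.IsQuasicoherent] : (cplxM h M).Exact := by
  apply Groth.Agent.Lib.Helper2.RelTildeExact.exact_of_locally_exact
  intro V s hs0 x hx
  obtain ⟨_, ⟨W, hW, rfl⟩, hxW, hle0⟩ :=
    X.isBasis_affineOpens.exists_subset_of_mem_open hx V.isOpen
  have hle : W ≤ V := hle0
  refine ⟨W, hle, hxW, ?_⟩
  set s' : Γ(M, W) := M.presheaf.map (homOfLE hle).op s with hs'
  change ∃ t : Γ((cplxM h M).X₁, W), (cplxM h M).f.app W t = s'
  -- the base change package
  let gS : Spec (CommRingCat.of B) ⟶ Spec (CommRingCat.of A) :=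
    Spec.map (CommRingCat.ofHom (algebraMap A B))
  have eV' : (⊤ : (Spec (CommRingCat.of B)).Opens) ≤ gS ⁻¹ᵁ ⊤ := le_rfl
  have eU : W ≤ f ⁻¹ᵁ ⊤ := le_top
  letI aAA' : Algebra Γ(Spec (CommRingCat.of A), ⊤) Γ(Spec (CommRingCat.of B), ⊤) :=
    (gS.appLE ⊤ ⊤ eV').hom.toAlgebra
  letI mAM : Module Γ(Spec (CommRingCat.of A), ⊤) Γ(M, W) :=
    Module.compHom Γ(M, W) (f.appLE ⊤ W eU).hom
  letI mA'M' : Module Γ(Spec (CommRingCat.of B), ⊤)
      Γ((Scheme.Modules.pullback g').obj M, g' ⁻¹ᵁ W ⊓ f' ⁻¹ᵁ ⊤) :=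
    Module.compHom _ (f'.appLE ⊤ (g' ⁻¹ᵁ W ⊓ f' ⁻¹ᵁ ⊤) inf_le_right).hom
  letI mAM' : Module Γ(Spec (CommRingCat.of A), ⊤)
      Γ((Scheme.Modules.pullback g').obj M, g' ⁻¹ᵁ W ⊓ f' ⁻¹ᵁ ⊤) :=
    Module.compHom _ ((f'.appLE ⊤ (g' ⁻¹ᵁ W ⊓ f' ⁻¹ᵁ ⊤) inf_le_right).hom.comp
      (gS.appLE ⊤ ⊤ eV').hom)
  obtain ⟨tM, η, hη, hηu⟩ := Groth.Agent.Lib.Helper26.SecBC.isBaseChange_sections h M eV' eU
    (isAffineOpen_top _) (isAffineOpen_top _) hW
  haveI := tM
  -- the ring map `Γ(Spec A) → Γ(Spec B)`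
  have happ : gS.appLE ⊤ ⊤ eV' = gS.appTop := by
    rw [Scheme.Hom.appLE]
    exact (congrArg (fun t => gS.app ⊤ ≫ t) ((Spec (CommRingCat.of B)).presheaf.map_id _)).trans
      (Category.comp_id _)
  have hnat : ∀ r : Γ(Spec (CommRingCat.of A), ⊤),
      (Scheme.ΓSpecIso (CommRingCat.of B)).hom.hom (gS.appTop.hom r) =
        algebraMap A B ((Scheme.ΓSpecIso (CommRingCat.of A)).hom.hom r) := by
    intro r
    have := Scheme.ΓSpecIso_naturality (CommRingCat.ofHom (algebraMap A B))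
    exact ConcreteCategory.congr_hom this r
  have hsurj : Function.Surjective
      (algebraMap Γ(Spec (CommRingCat.of A), ⊤) Γ(Spec (CommRingCat.of B), ⊤)) := by
    intro b
    obtain ⟨a, ha⟩ := hs ((Scheme.ΓSpecIso (CommRingCat.of B)).hom.hom b)
    refine ⟨(Scheme.ΓSpecIso (CommRingCat.of A)).inv.hom a, ?_⟩
    change (gS.appLE ⊤ ⊤ eV').hom _ = b
    rw [happ]
    have e1 := hnat ((Scheme.ΓSpecIso (CommRingCat.of A)).inv.hom a)
    have e2 : (Scheme.ΓSpecIso (CommRingCat.of A)).hom.hom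
        ((Scheme.ΓSpecIso (CommRingCat.of A)).inv.hom a) = a := by
      change ((Scheme.ΓSpecIso (CommRingCat.of A)).inv ≫
        (Scheme.ΓSpecIso (CommRingCat.of A)).hom).hom a = a
      rw [Iso.inv_hom_id]; rfl
    rw [e2, ha] at e1
    have hinj : Function.Injective (Scheme.ΓSpecIso (CommRingCat.of B)).hom.hom :=
      (ConcreteCategory.bijective_of_isIso (Scheme.ΓSpecIso (CommRingCat.of B)).hom).1
    exact hinj e1
  -- `η s' = 0`
  have hη0 : η s' = 0 := by
    rw [hηu, unitSec_apply]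
    have h1 : (unitM g' M).app V s = 0 := hs0
    have h2 := Groth.Agent.Lib.Helper2.ModExact.app_map (unitM g' M) (homOfLE hle) s
    have h3 : (unitM g' M).app W s' = 0 := by
      rw [hs', h2, h1, map_zero]
    change ((Scheme.Modules.pullback g').obj M).presheaf.map _ ((unitM g' M).app W s') = 0
    rw [h3]
    exact map_zero _
  have hmem := mem_smul_top_of_isBaseChange hsurj η hη s' hη0
  refine Submodule.smul_induction_on hmem ?_ ?_
  · intro r hr m _
    set a : A := (Scheme.ΓSpecIso (CommRingCat.of A)).hom.hom r with ha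
    have ha0 : algebraMap A B a = 0 := by
      rw [← hnat r]
      have : gS.appTop.hom r = 0 := by
        rw [← happ]
        exact hr
      rw [this, map_zero]
    have hra : (f.appLE ⊤ W eU).hom r = rho f W a := by
      have e2 : (Scheme.ΓSpecIso (CommRingCat.of A)).inv.hom a = r := by
        change ((Scheme.ΓSpecIso (CommRingCat.of A)).hom ≫
          (Scheme.ΓSpecIso (CommRingCat.of A)).inv).hom r = r
        rw [Iso.hom_inv_id]; rfl
      change _ = (Coh.resTop X (op W)) (f.appTop.hom ((Scheme.ΓSpecIso (CommRingCat.of A)).inv.hom a))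
      rw [e2]
      rfl
    refine ⟨(Sigma.ι (fun _ : KerT A B => M) ⟨a, ha0⟩).app W m, ?_⟩
    change ((Sigma.ι (fun _ : KerT A B => M) ⟨a, ha0⟩) ≫ PhiM f B M).app W m = _
    rw [ι_PhiM, smulModΓ_app, ← hra]
    rfl
  · rintro m₁ m₂ ⟨t₁, ht₁⟩ ⟨t₂, ht₂⟩
    exact ⟨t₁ + t₂, by rw [map_add, ht₁, ht₂]; rfl⟩

end

section Coh

variable {A B : Type u} [CommRing A] [CommRing B] [Algebra A B] {X X' : Scheme.{u}}

theorem toSheaf_map_smulModΓ (M : X.Modules) (r : Coh.Γtop X) :
    (SheafOfModules.toSheaf X.ringCatSheaf).map (Formal.smulModΓ M r) = Coh.smulAb M r := rfl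

theorem HHmap_smulModΓ (f : X ⟶ Spec (CommRingCat.of A)) (M : X.Modules) (a : A) (d : ℕ)
    (w : Coh.HH X M d) :
    letI : X.Over (Spec (CommRingCat.of A)) := ⟨f⟩
    HHmap (Formal.smulModΓ M (Coh.toGlobal f a)) d w = a • w := rfl

/-- **Nakayama input**: if the top cohomology of `g'^* M` on the closed subscheme `X'` over
`V(J)` vanishes then `H^d(X, M) = J · H^d(X, M)`. -/
theorem mem_smul_topM (f : X ⟶ Spec (CommRingCat.of A)) (f' : X' ⟶ Spec (CommRingCat.of B))
    (g' : X' ⟶ X)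
    (h : IsPullback g' f' f (Spec.map (CommRingCat.ofHom (algebraMap A B))))
    (hs : Function.Surjective (algebraMap A B))
    [IsProper f] (d : ℕ) (hd : ∀ t, topologicalKrullDim ↥(f.fiber t) ≤ d)
    (M : X.Modules) [M.IsQuasicoherent]
    (hX' : Subsingleton (Coh.HH X' ((Scheme.Modules.pullback g').obj M) d))
    (x : Coh.HH X M d) :
    letI : X.Over (Spec (CommRingCat.of A)) := ⟨f⟩
    x ∈ (RingHom.ker (algebraMap A B) • (⊤ : Submodule A (Coh.HH X M d))) := by
  letI : X.Over (Spec (CommRingCat.of A)) := ⟨f⟩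
  haveI : CompactSpace X := QuasiCompact.compactSpace_of_compactSpace f
  haveI : QuasiSeparatedSpace X := quasiSeparatedSpace_of_quasiSeparated f
  haveI : IsClosedImmersion g' := isClosedImmersion_of_surjective h hs
  haveI hM : M.IsQuasicoherent := inferInstance
  haveI hM' : ((Scheme.Modules.pullback g').obj M).IsQuasicoherent :=
    Groth.Agent.Lib.Helper2.PullbackSec.isQuasicoherent_pullback g' M
  haveI hq3 : ((Scheme.Modules.pushforward g').obj
      ((Scheme.Modules.pullback g').obj M)).IsQuasicoherent :=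
    isQuasicoherent_pushforward g' _
  haveI hq1 : (∐ fun _ : KerT A B => M).IsQuasicoherent :=
    coproduct_isQuasicoherent _ (fun _ => hM)
  -- `H^d(g'_* g'^* M) = 0`
  letI : X'.Over (Spec (CommRingCat.of A)) := ⟨g' ≫ f⟩
  obtain ⟨e2⟩ := Groth.Agent.Lib.Helper6.AffPushLin.nonempty_linearEquiv (A := A) g' rfl
    ((Scheme.Modules.pullback g').obj M) d
  haveI h3 : Subsingleton
      (Coh.HH X ((Scheme.Modules.pushforward g').obj ((Scheme.Modules.pullback g').obj M)) d) :=
    e2.toEquiv.subsingleton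
  -- right exactness
  let S := cplxM h M
  haveI : Epi S.g := epi_unit_of_isClosedImmersion g' M
  haveI hS1 : S.X₁.IsQuasicoherent := hq1
  haveI hS2 : S.X₂.IsQuasicoherent := hM
  haveI hS3 : S.X₃.IsQuasicoherent := hq3
  haveI hS3' : Subsingleton (Coh.HH X S.X₃ d) := h3
  haveI hk1 : (kernel S.g).IsQuasicoherent := isQuasicoherent_kernel S.g
  haveI hk2 : (kernel (kernel.lift S.g S.f S.zero)).IsQuasicoherent :=
    isQuasicoherent_kernel _
  have hK : Subsingleton (Coh.HH X (kernel (kernel.lift S.g S.f S.zero)) (d + 1)) :=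
    Groth.Agent.Lib.Helper2.FibVanE.subsingleton_HH_of_isAffine f d hd _ (d + 1) (by omega)
  obtain ⟨z, hz⟩ := exists_preimage_of_exact S (exact_cplxM h hs M) d hK x (Subsingleton.elim _ _)
  obtain ⟨T, w, hT⟩ := exists_finset_sum (fun _ : KerT A B => M) (fun _ => hM) d z
  have hx : x = ∑ j ∈ T, HHmap S.f d
      (HHmap (Sigma.ι (fun _ : KerT A B => M) j) d (w j)) :=
    hz.symm.trans ((congrArg (HHmap S.f d) hT).trans (map_sum (HHmap S.f d)
      (fun j => HHmap (Sigma.ι (fun _ : KerT A B => M) j) d (w j)) T))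
  rw [hx]
  refine Submodule.sum_mem _ (fun a _ => ?_)
  have e : Sigma.ι (fun _ : KerT A B => M) a ≫ S.f =
      Formal.smulModΓ M (Coh.toGlobal f a.1) := ι_PhiM M a
  have e2 : HHmap S.f d (HHmap (Sigma.ι (fun _ : KerT A B => M) a) d (w a)) = a.1 • (w a) :=
    (HHmap_comp _ _ d _).symm.trans ((congrArg (fun t => HHmap t d _) e).trans
      (HHmap_smulModΓ f M a.1 d _))
  rw [e2]
  exact Submodule.smul_mem_smul a.2 trivial

/-- Nakayama: a finite module `N` with `N = 𝔪 N` for all maximal ideals `𝔪` is zero -/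
theorem subsingleton_of_forall_maximal {R N : Type*} [CommRing R] [AddCommGroup N] [Module R N]
    [Module.Finite R N]
    (hN : ∀ 𝔪 : Ideal R, 𝔪.IsMaximal → (⊤ : Submodule R N) ≤ 𝔪 • ⊤) : Subsingleton N := by
  have key : ∀ 𝔪 : Ideal R, 𝔪.IsMaximal → ∃ r : R, r - 1 ∈ 𝔪 ∧ ∀ x : N, r • x = 0 := by
    intro 𝔪 h𝔪
    obtain ⟨r, hr1, hr2⟩ := Submodule.exists_sub_one_mem_and_smul_eq_zero_of_fg_of_le_smul 𝔪 ⊤
      (Module.finite_def.1 inferInstance) (hN 𝔪 h𝔪)
    exact ⟨r, hr1, fun x => hr2 x trivial⟩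
  by_contra hne
  have hI : Module.annihilator R N ≠ ⊤ := by
    intro h
    apply hne
    have h1 : (1 : R) ∈ Module.annihilator R N := by
      rw [h]; trivial
    rw [Module.mem_annihilator] at h1
    exact ⟨fun a b => by rw [← one_smul R a, ← one_smul R b, h1 a, h1 b]⟩
  obtain ⟨𝔪, h𝔪, hle⟩ := Ideal.exists_le_maximal _ hI
  obtain ⟨r, hr1, hr2⟩ := key 𝔪 h𝔪
  have hr : r ∈ Module.annihilator R N := Module.mem_annihilator.2 hr2
  have h1 : (1 : R) ∈ 𝔪 := by
    have := 𝔪.sub_mem (hle hr) hr1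
    simpa using this
  exact h𝔪.ne_top ((Ideal.eq_top_iff_one _).2 h1)

/-- **vanishing of the top cohomology of a coherent module from the closed fibres** -/
theorem subsingleton_HH_of_fibres (A : Type u) [CommRing A] {X : Scheme.{u}}
    (f : X ⟶ Spec (CommRingCat.of A)) [IsProper f] (d : ℕ)
    (hd : ∀ t, topologicalKrullDim ↥(f.fiber t) ≤ d)
    (M : X.Modules) (hM : Coh.IsCoh M)
    (hfib : ∀ t : Spec (CommRingCat.of A), t.asIdeal.IsMaximal →
      Subsingleton (Coh.HH (f.fiber t) ((Scheme.Modules.pullback (f.fiberι t)).obj M) d)) :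
    Subsingleton (Coh.HH X M d) := by
  letI : X.Over (Spec (CommRingCat.of A)) := ⟨f⟩
  haveI : M.IsQuasicoherent := hM.1
  haveI hfin : Module.Finite A (Coh.HH X M d) :=
    Groth.Agent.Lib.Helper2.TopDegC.finite_HH_top A f d hd M hM
  refine subsingleton_of_forall_maximal (R := A) (fun 𝔪 h𝔪 => ?_)
  let t : Spec (CommRingCat.of A) := ⟨𝔪, h𝔪.isPrime⟩
  haveI : t.asIdeal.IsMaximal := h𝔪
  have hs : Function.Surjective (algebraMap A t.asIdeal.ResidueField) :=
    Ideal.algebraMap_residueField_surjective _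
  have h1 := mem_smul_topM f _ _ (isPullback_fiber_spec f t) hs d hd M (hfib t h𝔪)
  intro x _
  have h2 := h1 x
  rwa [Ideal.ker_algebraMap_residueField] at h2

end Coh

end Groth.Agent.Lib.Helper2.FibH1G
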