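import Mathlib
import Groth.Agent.Lib.Helper2FibH1G
import Groth.Agent.Lib.Helper23QCohExt

/-!
# Lifting sections from a closed fibre (helper2)

For `f : X ⟶ Spec A` proper with fibres of dimension `≤ 1`, a surjection `A → B` and the base change
`g' : X' ⟶ X`, and `M` quasi-coherent on `X` with `H¹(X, M) = 0`: every global section of
`g'^* M` lifts to a global section of `M`.

Namespace `Groth.Agent.Lib.Helper2.FibH1H`.
-/

set_option autoImplicit false
set_option linter.style.haveILetI false
universe u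
open CategoryTheory CategoryTheory.Limits AlgebraicGeometry TopologicalSpace Opposite Abelian

namespace Groth.Agent.Lib.Helper2.FibH1H

open Groth.Agent.Lib.Helper23.Serre Groth.Agent.Lib.Helper23.GenLocus Groth.Agent.Lib.Helper17.FBC3
  Groth.Agent.Lib.Helper2.FibH1A Groth.Agent.Lib.Helper2.FibH1B Groth.Agent.Lib.Helper2.FibH1C
  Groth.Agent.Lib.Helper2.FibH1G
  Groth.Agent.Lib.Helper2.TopDegA Groth.Agent.Lib.Helper23.QCohLocal
  Groth.Agent.Lib.Helper23.AffVanish

variable {A B : Type u} [CommRing A] [CommRing B] [Algebra A B] {X X' : Scheme.{u}}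

/-- **lifting sections**: if `H¹(X, M) = 0` then `Γ(X, M) → Γ(X', g'^* M)` is surjective. -/
theorem surjective_unitM_top (f : X ⟶ Spec (CommRingCat.of A)) (f' : X' ⟶ Spec (CommRingCat.of B))
    (g' : X' ⟶ X)
    (h : IsPullback g' f' f (Spec.map (CommRingCat.ofHom (algebraMap A B))))
    (hs : Function.Surjective (algebraMap A B))
    [IsProper f] (hd : ∀ t, topologicalKrullDim ↥(f.fiber t) ≤ ((1 : ℕ) : WithBot ℕ∞))
    (M : X.Modules) [M.IsQuasicoherent]
    (hM1 : Subsingleton (Coh.HH X M 1)) :
    Function.Surjective ((unitM g' M).app ⊤) := by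
  letI : X.Over (Spec (CommRingCat.of A)) := ⟨f⟩
  haveI : CompactSpace X := QuasiCompact.compactSpace_of_compactSpace f
  haveI : QuasiSeparatedSpace X := quasiSeparatedSpace_of_quasiSeparated f
  haveI : IsClosedImmersion g' := isClosedImmersion_of_surjective h hs
  haveI hM : M.IsQuasicoherent := inferInstance
  haveI hM' : ((Scheme.Modules.pullback g').obj M).IsQuasicoherent :=
    Groth.Agent.Lib.Helper2.PullbackSec.isQuasicoherent_pullback g' M
  haveI hq3 : ((Scheme.Modules.pushforward g').obj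
      ((Scheme.Modules.pullback g').obj M)).IsQuasicoherent :=
    isQuasicoherent_pushforward g' _
  haveI hq1 : (∐ fun _ : KerT A B => M).IsQuasicoherent :=
    coproduct_isQuasicoherent _ (fun _ => hM)
  let S := cplxM h M
  haveI : Epi S.g := epi_unit_of_isClosedImmersion g' M
  haveI hS1 : S.X₁.IsQuasicoherent := hq1
  haveI hS2 : S.X₂.IsQuasicoherent := hM
  haveI hS3 : S.X₃.IsQuasicoherent := hq3
  haveI hk1 : (kernel S.g).IsQuasicoherent := isQuasicoherent_kernel S.g
  let l : S.X₁ ⟶ kernel S.g := kernel.lift S.g S.f S.zero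
  haveI : Epi l := S.exact_iff_epi_kernel_lift.1 (exact_cplxM h hs M)
  haveI hk2 : (kernel l).IsQuasicoherent := isQuasicoherent_kernel _
  have hK2 : Subsingleton (Coh.HH X (kernel l) (1 + 1)) :=
    Groth.Agent.Lib.Helper2.FibVanE.subsingleton_HH_of_isAffine f 1 hd _ (1 + 1) (by omega)
  haveI h1 : Subsingleton (Coh.HH X S.X₁ 1) :=
    Groth.Agent.Lib.Helper16.CohCoprod.subsingleton_HH_coprod_qcqs (F := fun _ : KerT A B => M)
      (fun _ => hM) 1 (fun _ => hM1)
  have hK1 : Subsingleton (Coh.HH X (kernel S.g) 1) :=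
    (surjective_HHlin_of_epi A l 1 hK2).subsingleton
  let T : ShortComplex X.Modules := ShortComplex.mk (kernel.ι S.g) S.g (kernel.condition S.g)
  haveI : Mono T.f := inferInstanceAs (Mono (kernel.ι S.g))
  haveI : Epi T.g := inferInstanceAs (Epi S.g)
  have hT : T.ShortExact :=
    ShortComplex.ShortExact.mk (ShortComplex.exact_of_f_is_kernel _ (kernelIsKernel S.g))
  have hHE : Subsingleton (HE (ab' T.X₁) 1 ⊤) :=
    (HETopEquivH X.carrier (ab' T.X₁) 1).toEquiv.subsingleton_congr.2 hK1
  exact surjective_app_of_subsingleton_HE T hT ⊤ hHE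

end Groth.Agent.Lib.Helper2.FibH1H
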