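import Mathlib
import Groth.Agent.Lib.Helper2FibH1H
import Groth.Agent.Lib.Helper23PB
import Groth.Agent.Lib.Helper23SecTw7
import Groth.Agent.Lib.Helper6DegZero

/-!
# Trivializing an invertible module near a closed fibre (helper2)

For `f : X ⟶ Spec A` proper with fibres of dimension `≤ 1`, `L` invertible on `X` with
`H¹(X, L) = 0` and trivial on the fibre over a closed point `t`: there is an open neighbourhood `U`
of `t` and a section of `L` over `f⁻¹U` generating `L`.

Namespace `Groth.Agent.Lib.Helper2.PicFibA`.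
-/

set_option autoImplicit false
set_option linter.style.haveILetI false
universe u
open CategoryTheory CategoryTheory.Limits AlgebraicGeometry TopologicalSpace Opposite

namespace Groth.Agent.Lib.Helper2.PicFibA

open Groth.Agent.Lib.Helper23.GenLocus Groth.Agent.Lib.Helper23.SecTw
  Groth.Agent.Lib.Helper23.Extend Groth.Agent.Lib.Helper23.PB
  Groth.Agent.Lib.Helper2.FibH1G Groth.Agent.Lib.Helper2.FibH1H Groth.Agent.Lib.Helper2.FibH1C
  Groth.Agent.Lib.Helper6

variable {X : Scheme.{u}}

/-- two maps out of the structure module with the same global value agree -/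
theorem hom_ext_sv {M : X.Modules} (s₁ s₂ : Coh.structureModule X ⟶ M)
    (h : sv s₁ ⊤ = sv s₂ ⊤) : s₁ = s₂ := by
  apply Scheme.Modules.hom_ext
  intro U
  ext t
  have h1 := app_toS s₁ U (ofS U t)
  have h2 := app_toS s₂ U (ofS U t)
  rw [toS_ofS] at h1 h2
  rw [h1, h2, ← res_sv s₁ (le_top : U ≤ ⊤), ← res_sv s₂ (le_top : U ≤ ⊤), h]

/-- if `W` lies in the generating locus of `s` then `s` generates over `W` -/
theorem isGen_of_le_genLocus (L : X.Modules) (s : Coh.structureModule X ⟶ L) (W : X.Opens)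
    (hW : W ≤ CohB1.genLocus L s) : IsGen L W (sv s W) := by
  intro W' hW'
  have hbij : Function.Bijective (s.app W') :=
    bijective_app_of_cover s W' (fun x hx => (mem_genLocus_iff L s x).1 (hW (hW' hx)))
  have h2 : (fun r : Γ(X, W') => r • res L hW' (sv s W)) = fun r => s.app W' (toS W' r) := by
    funext r
    rw [res_sv, app_toS]
  rw [h2]
  exact hbij.comp (Function.bijective_id)

/-- lifting a map `O ⟶ Q` along a map which is surjective on global sections -/
theorem exists_lift_of_surjective_top {M Q : X.Modules} (π : M ⟶ Q)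
    (hπ : Function.Surjective (π.app ⊤)) (ρ : Coh.structureModule X ⟶ Q) :
    ∃ s : Coh.structureModule X ⟶ M, s ≫ π = ρ := by
  obtain ⟨σ, hσ⟩ := hπ (sv ρ ⊤)
  refine ⟨secHom M σ, hom_ext_sv _ _ ?_⟩
  have h1 : sv (secHom M σ ≫ π) ⊤ = π.app ⊤ (sv (secHom M σ) ⊤) := rfl
  rw [h1, sv_secHom]
  have h2 : res M (le_top : (⊤ : X.Opens) ≤ ⊤) σ = σ := by
    change M.presheaf.map (𝟙 _) σ = σ
    rw [M.presheaf.map_id]
    rfl
  rw [h2, hσ]

variable {A : Type u} [CommRing A]

/-- **trivialization near a closed fibre** -/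
theorem exists_isGen_nhd (f : X ⟶ Spec (CommRingCat.of A)) [IsProper f]
    (hd : ∀ t, topologicalKrullDim ↥(f.fiber t) ≤ ((1 : ℕ) : WithBot ℕ∞))
    (L : X.Modules) (hL : PicF.IsInvertible L) (hL1 : Subsingleton (Coh.HH X L 1))
    (t : Spec (CommRingCat.of A)) (ht : t.asIdeal.IsMaximal)
    (τ : Coh.structureModule (f.fiber t) ≅ (Scheme.Modules.pullback (f.fiberι t)).obj L) :
    ∃ (U : (Spec (CommRingCat.of A)).Opens) (e : Γ(L, f ⁻¹ᵁ U)),
      t ∈ U ∧ IsGen L (f ⁻¹ᵁ U) e := by
  haveI : L.IsQuasicoherent := isQuasicoherent_of_isInvertible L hL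
  haveI : t.asIdeal.IsMaximal := ht
  have hs : Function.Surjective (algebraMap A t.asIdeal.ResidueField) :=
    Ideal.algebraMap_residueField_surjective _
  have hsurj := surjective_unitM_top f _ (f.fiberι t) (isPullback_fiber_spec f t) hs hd L hL1
  -- the map to lift
  let adj := Scheme.Modules.pullbackPushforwardAdjunction (f.fiberι t)
  let φ : (Scheme.Modules.pullback (f.fiberι t)).obj (Coh.structureModule X) ⟶
      (Scheme.Modules.pullback (f.fiberι t)).obj L := (pullbackUnitIso (f.fiberι t)).hom ≫ τ.hom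
  let ρ : Coh.structureModule X ⟶
      (Scheme.Modules.pushforward (f.fiberι t)).obj ((Scheme.Modules.pullback (f.fiberι t)).obj L) :=
    adj.homEquiv _ _ φ
  obtain ⟨s, hs'⟩ := exists_lift_of_surjective_top (unitM (f.fiberι t) L) hsurj ρ
  have hmap : (Scheme.Modules.pullback (f.fiberι t)).map s = φ := by
    have h1 : (adj.homEquiv _ _).symm (s ≫ adj.unit.app L) =
        (Scheme.Modules.pullback (f.fiberι t)).map s := by
      rw [Adjunction.homEquiv_naturality_left_symm]
      simp
    rw [← h1]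
    have h2 : s ≫ adj.unit.app L = ρ := hs'
    rw [h2]
    exact (adj.homEquiv _ _).symm_apply_apply φ
  -- the generating locus contains the fibre
  have hgen := genLocus_pullback (f.fiberι t) L hL s (pullbackUnitIso (f.fiberι t)).symm
  have hτ : (pullbackUnitIso (f.fiberι t)).symm.hom ≫
      (Scheme.Modules.pullback (f.fiberι t)).map s = τ.hom := by
    rw [hmap]
    simp [φ]
  rw [hτ] at hgen
  rw [Groth.Agent.Lib.Helper6.DegZero.genLocus_eq_top_of_isIso] at hgen
  -- closedness of `f`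
  have hZ : IsClosed ((CohB1.genLocus L s : Set X)ᶜ) := (CohB1.genLocus L s).isOpen.isClosed_compl
  have hfZ : IsClosed (f '' ((CohB1.genLocus L s : Set X)ᶜ)) := f.isClosedMap _ hZ
  have htZ : t ∉ f '' ((CohB1.genLocus L s : Set X)ᶜ) := by
    rintro ⟨x, hxZ, hxt⟩
    have hx : x ∈ Set.range (f.fiberι t) := by
      rw [Scheme.Hom.range_fiberι]
      exact hxt
    obtain ⟨x₀, rfl⟩ := hx
    have hx₀ : x₀ ∈ (f.fiberι t) ⁻¹ᵁ CohB1.genLocus L s := hgen ▸ trivial
    exact hxZ hx₀
  let U : (Spec (CommRingCat.of A)).Opens :=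
    ⟨(f '' ((CohB1.genLocus L s : Set X)ᶜ))ᶜ, hfZ.isOpen_compl⟩
  have hU : f ⁻¹ᵁ U ≤ CohB1.genLocus L s := by
    intro x hx
    by_contra hxG
    exact hx ⟨x, hxG, rfl⟩
  exact ⟨U, sv s (f ⁻¹ᵁ U), htZ, isGen_of_le_genLocus L s _ hU⟩

end Groth.Agent.Lib.Helper2.PicFibA
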