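import Mathlib
import Groth.Agent.Lib.Helper27ProjFormula
import Groth.Agent.Lib.Helper6CurveDeg
import Groth.Agent.Lib.Helper4CurveAsym
import Groth.Agent.Lib.Helper23TensorUnit
import Groth.Agent.Lib.Helper4DevI
import Groth.Agent.S0002

/-!
# An invertible module `N` on an integral proper scheme over a field with `H⁰(N) ≠ 0` and
`H⁰(N⁻¹) ≠ 0` is trivial (helper2)
-/

set_option autoImplicit false
set_option linter.style.haveILetI false
universe u
open CategoryTheory CategoryTheory.Limits AlgebraicGeometry TopologicalSpace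

namespace Groth.Agent.Lib.Helper2.TrivFibA

open Groth.Agent.Lib.Helper27ProjFormula Groth.Agent.Lib.Helper27ExtTwist1
  Groth.Agent.Lib.Helper21.ModTensor3 Groth.Agent.Lib.Helper21.ModTensor5
  Groth.Agent.Lib.Helper21.ModTensor7

section

variable {Z : Scheme.{u}}

/-- `N ⊗ O ≅ N`. -/
noncomputable def rightUnitIso (N : Z.Modules) :
    CohB1.tensorMod N (Coh.structureModule Z) ≅ N :=
  brdApp Z.sheaf N (Coh.structureModule Z) ≪≫ (tLUnitIso Z.sheaf).app N

/-- `O ⊗ N ≅ N`. -/
noncomputable def leftUnitIso (N : Z.Modules) :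
    CohB1.tensorMod (Coh.structureModule Z) N ≅ N :=
  (tLUnitIso Z.sheaf).app N

theorem TL_map_ne_zero (N N' : Z.Modules)
    (e : CohB1.tensorMod N N' ≅ Coh.structureModule Z)
    (e' : CohB1.tensorMod N' N ≅ Coh.structureModule Z) {A B : Z.Modules} (u : A ⟶ B)
    (hu : u ≠ 0) : (TL Z N).map u ≠ 0 := by
  let E := tLEquiv Z.sheaf N N' e e'
  haveI : (TL Z N).IsEquivalence := E.isEquivalence_functor
  intro h
  apply hu
  apply (TL Z N).map_injective
  rw [h, Functor.map_zero]

/-- from a nonzero section of the inverse, a nonzero map `N ⟶ O`. -/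
theorem exists_hom_ne_zero (N N' : Z.Modules)
    (e : CohB1.tensorMod N N' ≅ Coh.structureModule Z)
    (e' : CohB1.tensorMod N' N ≅ Coh.structureModule Z)
    (u : Coh.structureModule Z ⟶ N') (hu : u ≠ 0) :
    ∃ t : N ⟶ Coh.structureModule Z, t ≠ 0 := by
  let v : CohB1.tensorMod N (Coh.structureModule Z) ⟶ CohB1.tensorMod N N' := (TL Z N).map u
  have hv : v ≠ 0 := TL_map_ne_zero N N' e e' u hu
  refine ⟨(rightUnitIso N).inv ≫ v ≫ e.hom, fun h => hv ?_⟩
  have h2 : v ≫ e.hom = 0 := (cancel_epi (rightUnitIso N).inv).1 (h.trans comp_zero.symm)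
  exact (cancel_mono e.hom).1 (h2.trans zero_comp.symm)

end

section

variable (k : Type u) [Field k] (Z : Scheme.{u}) [Z.Over (Spec (CommRingCat.of k))]
  [IsProper (Z ↘ Spec (CommRingCat.of k))] [IsIntegral Z]

omit [IsIntegral Z] in
theorem finite_hom_structureModule (M : Z.Modules) (hM : Coh.IsCoh M) :
    Module.Finite k (Coh.structureModule Z ⟶ M) := by
  haveI : Module.Finite k (Coh.HH Z M 0) := Groth.Agent.S0002.result k Z M hM 0
  exact Module.Finite.equiv (Groth.Agent.Lib.Helper4.CurveAsym.homH0Equiv k M).symm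

omit [IsIntegral Z] in
include k in
/-- a monomorphic endomorphism of `O` is an isomorphism (finite dimensionality). -/
theorem exists_comp_eq_id (φ : Coh.structureModule Z ⟶ Coh.structureModule Z) [Mono φ] :
    ∃ ψ : Coh.structureModule Z ⟶ Coh.structureModule Z, ψ ≫ φ = 𝟙 _ := by
  haveI : Module.Finite k (Coh.structureModule Z ⟶ Coh.structureModule Z) :=
    finite_hom_structureModule k Z _ (Groth.Agent.Lib.Helper4.Dev.isCoh_structureModule Z)
  let R : (Coh.structureModule Z ⟶ Coh.structureModule Z) →ₗ[k]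
      (Coh.structureModule Z ⟶ Coh.structureModule Z) :=
    Linear.rightComp k (Coh.structureModule Z) φ
  have hinj : Function.Injective R := by
    rw [injective_iff_map_eq_zero]
    intro ψ hψ
    have h1 : ψ ≫ φ = 0 := hψ
    exact (cancel_mono φ).1 (h1.trans zero_comp.symm)
  obtain ⟨ψ, hψ⟩ := (LinearMap.injective_iff_surjective.1 hinj) (𝟙 _)
  exact ⟨ψ, hψ⟩

include k in
theorem nonempty_iso_structureModule (N N' : Z.Modules) (hN : PicF.IsInvertible N)
    (e : CohB1.tensorMod N N' ≅ Coh.structureModule Z)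
    (e' : CohB1.tensorMod N' N ≅ Coh.structureModule Z)
    (s : Coh.structureModule Z ⟶ N) (hs : s ≠ 0)
    (u : Coh.structureModule Z ⟶ N') (hu : u ≠ 0) :
    Nonempty (N ≅ Coh.structureModule Z) := by
  have hO := Groth.Agent.Lib.Helper23.TensorUnit.isInvertible_structureModule Z
  obtain ⟨t, ht⟩ := exists_hom_ne_zero N N' e e' u hu
  haveI : Mono s := Groth.Agent.Lib.Helper6.CurveDeg.mono_of_ne_zero hO hN s hs
  haveI : Mono t := Groth.Agent.Lib.Helper6.CurveDeg.mono_of_ne_zero hN hO t ht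
  haveI : Mono (s ≫ t) := mono_comp s t
  obtain ⟨ψ, hψ⟩ := exists_comp_eq_id k Z (s ≫ t)
  haveI : IsSplitEpi t := ⟨⟨ψ ≫ s, by rw [Category.assoc]; exact hψ⟩⟩
  haveI : IsIso t := isIso_of_mono_of_isSplitEpi t
  exact ⟨asIso t⟩

end

end Groth.Agent.Lib.Helper2.TrivFibA
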