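import Mathlib
import Groth.Agent.Lib.Helper2TrivFibA
import Groth.Agent.Lib.Helper17ProjFormulaD
import Groth.Agent.Lib.Helper23ResProp
import Groth.Agent.Lib.Helper21HZB9
import Groth.Agent.Lib.Helper2LocFree
import Groth.Agent.Lib.Helper2FFComp
import Groth.Agent.S1025

/-!
# The locus where an invertible module is trivial on the fibres of a proper flat morphism with
geometrically integral fibres is closed (helper2)
-/

set_option autoImplicit false
set_option linter.style.haveILetI false
universe u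
open CategoryTheory CategoryTheory.Limits AlgebraicGeometry TopologicalSpace

namespace Groth.Agent.Lib.Helper2.TrivFibB

open Groth.Agent.Lib.Helper2.TrivFibA Groth.Agent.Lib.Helper27ProjFormula

theorem isFlatOver_of_isFlat'' {X S : Scheme.{u}} (f : X ⟶ S) [Flat f] (M : X.Modules)
    (h : FlatMod.IsFlat M) : FlatMod.IsFlatOver f M := by
  intro x
  unfold FlatMod.IsFlatOverAt
  letI := FlatMod.moduleStalkOver f M x
  haveI : Module.Flat (X.presheaf.stalk x) (M.presheaf.stalk x) := h x
  exact Groth.Agent.Lib.Helper2.FFComp.flat_trans_of_compat (A := S.presheaf.stalk (f.base x))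
    (B := X.presheaf.stalk x) (M := M.presheaf.stalk x) (f.stalkMap x).hom (fun a m => rfl)
    (Flat.stalkMap f x)

/-- the identity of the structure module of a nonempty scheme is not zero -/
theorem id_structureModule_ne_zero (Z : Scheme.{u}) [Nonempty Z] :
    𝟙 (Coh.structureModule Z) ≠ 0 := by
  intro h
  have h1 : ∀ φ : Coh.structureModule Z ⟶ Coh.structureModule Z, φ = 0 := fun φ => by
    rw [← Category.id_comp φ, h, zero_comp]
  haveI : Nonempty ↥(⊤ : Z.Opens) := ⟨⟨Classical.arbitrary Z, trivial⟩⟩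
  have hnt : Nontrivial Γ(Z, ⊤) := @Scheme.component_nontrivial Z ⊤ ‹_›
  obtain ⟨a, b, hab⟩ := @exists_pair_ne Γ(Coh.structureModule Z, ⊤) hnt
  apply hab
  have e := Groth.Agent.Lib.Helper4.CurveAsym.homSecEquiv (Coh.structureModule Z)
  rw [← e.apply_symm_apply a, ← e.apply_symm_apply b, h1 (e.symm a), h1 (e.symm b)]

theorem exists_ne_zero_of_not_finrank_lt_one (k : Type u) [Field k] (V : Type u) [AddCommGroup V]
    [Module k V] (h : ¬ Module.finrank k V < 1) : ∃ v : V, v ≠ 0 := by
  by_contra hcon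
  push Not at hcon
  haveI : Subsingleton V := ⟨fun a b => by rw [hcon a, hcon b]⟩
  exact h (by rw [Module.finrank_zero_of_subsingleton]; exact zero_lt_one)

section Fibre

variable (k : Type u) [Field k] (Z : Scheme.{u}) [Z.Over (Spec (CommRingCat.of k))]
  [IsProper (Z ↘ Spec (CommRingCat.of k))] [IsIntegral Z]

theorem trivial_iff (N N' : Z.Modules) (hN : PicF.IsInvertible N) (hN' : PicF.IsInvertible N')
    (e : CohB1.tensorMod N N' ≅ Coh.structureModule Z)
    (e' : CohB1.tensorMod N' N ≅ Coh.structureModule Z) :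
    Nonempty (N ≅ Coh.structureModule Z) ↔
      (¬ Module.finrank k (Coh.HH Z N 0) < 1 ∧ ¬ Module.finrank k (Coh.HH Z N' 0) < 1) := by
  rw [← Groth.Agent.Lib.Helper4.CurveAsym.finrank_hom_eq k N,
    ← Groth.Agent.Lib.Helper4.CurveAsym.finrank_hom_eq k N']
  haveI : Nonempty Z := inferInstance
  have hid := id_structureModule_ne_zero Z
  have hpos : ∀ (P : Z.Modules), PicF.IsInvertible P → Nonempty (P ≅ Coh.structureModule Z) →
      ¬ Module.finrank k (Coh.structureModule Z ⟶ P) < 1 := by
    rintro P hP ⟨i⟩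
    haveI : Module.Finite k (Coh.structureModule Z ⟶ P) :=
      finite_hom_structureModule k Z P (Groth.Agent.Lib.Helper6.CurveDeg.isCoh_of_isInvertible P hP)
    haveI : Nontrivial (Coh.structureModule Z ⟶ P) := ⟨⟨i.inv, 0, fun h => hid (by
      rw [← i.inv_hom_id, h, zero_comp])⟩⟩
    have := Module.finrank_pos (R := k) (M := Coh.structureModule Z ⟶ P)
    omega
  constructor
  · rintro ⟨i⟩
    refine ⟨hpos N hN ⟨i⟩, hpos N' hN' ⟨?_⟩⟩
    let j : CohB1.tensorMod (Coh.structureModule Z) N' ≅ CohB1.tensorMod N N' :=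
      ((DCoh.tensorBi (X := Z)).mapIso i.symm).app N'
    exact (leftUnitIso N').symm ≪≫ j ≪≫ e
  · rintro ⟨h1, h2⟩
    obtain ⟨s, hs⟩ := exists_ne_zero_of_not_finrank_lt_one k _ h1
    obtain ⟨u, hu⟩ := exists_ne_zero_of_not_finrank_lt_one k _ h2
    exact nonempty_iso_structureModule k Z N N' hN e e' s hs u hu

end Fibre

theorem isClosed_trivial_locus {X Y : Scheme.{u}} (f : X ⟶ Y)
    [IsProper f] [Flat f] [IsLocallyNoetherian Y]
    (hgeo : ∀ (K : Type u) [Field K] (x : Spec (CommRingCat.of K) ⟶ Y), IsIntegral (pullback f x))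
    (L : X.Modules) (hL : PicF.IsInvertible L) :
    IsClosed {y : Y | Nonempty (CohIII.fiberMod f L y ≅ Coh.structureModule (f.fiber y))} := by
  haveI : LocallyOfFinitePresentation f :=
    LocallyOfFinitePresentation.iff_locallyOfFiniteType.mpr inferInstance
  obtain ⟨M, hM, ⟨e⟩, ⟨e'⟩⟩ := Groth.Agent.Lib.Helper17.ProjFormulaD.nonempty_inverse L hL
  have hdata : ∀ (P : X.Modules), PicF.IsInvertible P →
      CohB1.IsFP P ∧ FlatMod.IsFlatOver f P := by
    intro P hP
    have hflf : FlatMod.IsFinLocFree P :=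
      Groth.Agent.Lib.Helper23.ResProp.isFinLocFree_of_isInvertible P hP
    haveI : P.IsQuasicoherent :=
      Groth.Agent.Lib.Helper21.HZB.isQuasicoherent_of_isFinLocFree P hflf
    exact ⟨Groth.Agent.Lib.Helper2.LocFree.isFP_of_isFinLocFree P hflf,
      isFlatOver_of_isFlat'' f P (Groth.Agent.Lib.Helper2.LocFree.isFlat_of_isFinLocFree P hflf)⟩
  have key : ∀ y : Y, Nonempty (CohIII.fiberMod f L y ≅ Coh.structureModule (f.fiber y)) ↔
      (¬ PerfAux.betti f L y 0 < 1 ∧ ¬ PerfAux.betti f M y 0 < 1) := by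
    intro y
    letI : (f.fiber y).Over (Spec (CommRingCat.of (Y.residueField y))) :=
      ⟨f.fiberToSpecResidueField y⟩
    haveI : IsProper (f.fiber y ↘ Spec (CommRingCat.of (Y.residueField y))) :=
      MorphismProperty.pullback_snd (P := @IsProper) f (Y.fromSpecResidueField y) inferInstance
    haveI : IsIntegral (f.fiber y) := hgeo (Y.residueField y) (Y.fromSpecResidueField y)
    exact trivial_iff (Y.residueField y) (f.fiber y) _ _
      (Groth.Agent.Lib.Helper23.PB.isInvertible_pullback (f.fiberι y) L hL)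
      (Groth.Agent.Lib.Helper23.PB.isInvertible_pullback (f.fiberι y) M hM)
      (plbInv (f.fiberι y) L M e) (plbInv (f.fiberι y) M L e')
  have hset : {y : Y | Nonempty (CohIII.fiberMod f L y ≅ Coh.structureModule (f.fiber y))} =
      {y : Y | PerfAux.betti f L y 0 < 1}ᶜ ∩ {y : Y | PerfAux.betti f M y 0 < 1}ᶜ := by
    ext y
    exact key y
  rw [hset]
  exact (Groth.Agent.S1025.result f L (hdata L hL).1 (hdata L hL).2 0 1).isClosed_compl.inter
    (Groth.Agent.S1025.result f M (hdata M hM).1 (hdata M hM).2 0 1).isClosed_compl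

end Groth.Agent.Lib.Helper2.TrivFibB
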