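import Mathlib
import Groth.Agent.Lib.Helper21BC0EpiB
import Groth.Agent.Lib.Helper2TrivFibB
import Groth.Agent.Lib.Helper1Fib3
import Groth.Agent.Lib.Helper23Restr
import Groth.Agent.Lib.Helper23ModLocal

/-!
# The degree-0 base change map of the structure sheaf at a fibre with constant global functions is an
epimorphism (helper2)

Namespace `Groth.Agent.Lib.Helper2.R1RankC`.
-/

set_option autoImplicit false
set_option linter.style.haveILetI false
universe u
open CategoryTheory CategoryTheory.Limits AlgebraicGeometry TensorProduct Opposite TopologicalSpace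

namespace Groth.Agent.Lib.Helper2.R1RankC

open Groth.Agent.Helper13QcqsBC Groth.Agent.Helper13AffBC Groth.Agent.Helper13PullbackUnit
  Groth.Agent.Lib.Helper23.GenLocus Scheme.Modules

section unit

variable {X Z : Scheme.{u}} (ι : Z ⟶ X) [Nonempty Z]

/-- the unit `O_X → ι_* ι^* O_X` does not kill the section `1` when the source of `ι` is nonempty -/
theorem unit_app_one_ne_zero :
    ((pullbackPushforwardAdjunction ι).unit.app (Coh.structureModule X)).app ⊤ (toS ⊤ 1) ≠ 0 := by
  intro h0
  have h1 : (pullbackPushforwardAdjunction ι).unit.app (Coh.structureModule X) = 0 := by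
    apply Groth.Agent.Lib.Helper23.SecTw.hom_ext_of_sv
    refine Eq.trans (b := (0 : Γ((pushforward ι).obj
      ((Scheme.Modules.pullback ι).obj (Coh.structureModule X)), ⊤))) h0 ?_
    rfl
  have h2 : 𝟙 ((Scheme.Modules.pullback ι).obj (Coh.structureModule X)) = 0 := by
    have := (pullbackPushforwardAdjunction ι).left_triangle_components (Coh.structureModule X)
    rw [← this, h1]
    haveI : (Scheme.Modules.pullback ι).IsLeftAdjoint := (pullbackPushforwardAdjunction ι).isLeftAdjoint
    rw [Functor.map_zero, zero_comp]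
  let e := Groth.Agent.Lib.Helper1.Fib.pullbackUnitIso' ι
  have h3 : 𝟙 (Coh.structureModule Z) = 0 := by
    rw [← e.inv_hom_id, ← Category.id_comp e.hom, h2, zero_comp, comp_zero]
  exact Groth.Agent.Lib.Helper2.TrivFibB.id_structureModule_ne_zero Z h3

end unit

section main

variable {X S : Scheme.{u}} (f : X ⟶ S) [QuasiCompact f] [QuasiSeparated f] (y : S)

set_option maxHeartbeats 1600000 in
/-- if the global functions on the (nonempty) fibre `X_y` are the constants `κ(y)`, the degree-0 base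
change map of the structure sheaf at the fibre square over `y` is an epimorphism -/
theorem epi_fibreBC_structure [Nonempty ↥(f.fiber y)]
    (hone : ∀ a : Γ(f.fiber y, ⊤), ∃ c : S.residueField y,
      a = (f.fiberToSpecResidueField y).appTop ((Scheme.ΓSpecIso (S.residueField y)).inv c)) :
    Epi (Groth.Agent.Lib.Helper21.BC0Epi.fibreBC f (Coh.structureModule X) y) := by
  let R : CommRingCat.{u} := S.residueField y
  let g : Spec R ⟶ S := S.fromSpecResidueField y
  let ι : f.fiber y ⟶ X := f.fiberι y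
  let fy : f.fiber y ⟶ Spec R := f.fiberToSpecResidueField y
  have sq : IsPullback ι fy f g := IsPullback.of_hasPullback f g
  let O : X.Modules := Coh.structureModule X
  let G : (f.fiber y).Modules := (Scheme.Modules.pullback ι).obj O
  haveI : O.IsQuasicoherent := inferInstance
  haveI : QuasiCompact fy := MorphismProperty.of_isPullback (P := @QuasiCompact) sq inferInstance
  haveI : QuasiSeparated fy :=
    MorphismProperty.of_isPullback (P := @QuasiSeparated) sq inferInstance
  haveI : ((Scheme.Modules.pushforward f).obj O).IsQuasicoherent :=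
    Groth.Agent.Lib.Helper23.QCohLocal.isQuasicoherent_pushforward f O
  haveI : ((Scheme.Modules.pullback g).obj ((Scheme.Modules.pushforward f).obj O)).IsQuasicoherent :=
    Groth.Agent.Lib.Helper2.PullbackSec.isQuasicoherent_pullback _ _
  haveI : G.IsQuasicoherent :=
    Groth.Agent.Lib.Helper2.PullbackSec.isQuasicoherent_pullback _ _
  haveI : ((Scheme.Modules.pushforward fy).obj G).IsQuasicoherent :=
    Groth.Agent.Lib.Helper23.QCohLocal.isQuasicoherent_pushforward fy _
  let ψ := bcMap f g ι fy sq O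
  change Epi ψ
  refine Groth.Agent.Lib.Helper23.ModLocal.epi_of_surjective_Γ R ψ ?_
  have hle : (⊤ : (Spec R).Opens) ≤ g ⁻¹ᵁ ⊤ := le_rfl
  let m : Γ(O, f ⁻¹ᵁ ⊤) := toS ⊤ 1
  let u₀ : Γ((Scheme.Modules.pullback g).obj ((Scheme.Modules.pushforward f).obj O), ⊤) :=
    unitSec g ((pushforward f).obj O) hle m
  let u : Γ(G, ⊤) := unitSec ι O (preimage_le f g ι fy sq hle) m
  have hu : ψ.app ⊤ u₀ = u := bcMap_unitSec f g ι fy sq O hle m
  have hune : u ≠ 0 := by
    intro h0
    have hbij := map_bijective_of_eq G (A := ⊤) (B := ι ⁻¹ᵁ (f ⁻¹ᵁ ⊤)) rfl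
      (homOfLE (preimage_le f g ι fy sq hle))
    have h1 : ((pullbackPushforwardAdjunction ι).unit.app O).app (f ⁻¹ᵁ ⊤) m = 0 := by
      apply hbij.1
      refine Eq.trans (b := (0 : Γ(G, ⊤))) h0 ?_
      exact (map_zero (G.presheaf.map (homOfLE (preimage_le f g ι fy sq hle)).op).hom).symm
    exact unit_app_one_ne_zero ι h1
  let e := Groth.Agent.Lib.Helper1.Fib.pullbackUnitIso' ι
  let θ : (S.residueField y) →+* Γ(f.fiber y, ⊤) := ((Scheme.ΓSpecIso R).inv ≫ fy.appTop).hom
  let ev : Γ(G, ⊤) → Γ(f.fiber y, ⊤) := fun x => ofS ⊤ (e.hom.app ⊤ x)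
  have hev_inj : Function.Injective ev := by
    intro a b hab
    have h1 : e.hom.app ⊤ a = e.hom.app ⊤ b := hab
    have h2 : ∀ t : Γ(G, ⊤), e.inv.app ⊤ (e.hom.app ⊤ t) = t := fun t => by
      have := congrArg (fun φ : G ⟶ G => (Scheme.Modules.Hom.app φ ⊤) t) e.hom_inv_id
      exact this
    rw [← h2 a, ← h2 b, h1]
  have hev_smul : ∀ (r : Γ(f.fiber y, ⊤)) (x : Γ(G, ⊤)), ev (r • x) = r * ev x := by
    intro r x
    change ofS ⊤ (e.hom.app ⊤ (r • x)) = r * ofS ⊤ (e.hom.app ⊤ x)
    rw [Scheme.Modules.Hom.app_smul]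
    rfl
  have hev_zero : ev 0 = 0 := by
    change ofS ⊤ (e.hom.app ⊤ 0) = 0
    rw [map_zero]
    rfl
  have key : ∀ x : Γ(G, ⊤), ∃ c : S.residueField y, x = θ c • u := by
    intro x
    obtain ⟨c₀, hc₀⟩ := hone (ev u)
    obtain ⟨c₁, hc₁⟩ := hone (ev x)
    have hc₀ne : c₀ ≠ 0 := by
      intro h
      apply hune
      apply hev_inj
      rw [hev_zero, hc₀, h, map_zero, map_zero]
    refine ⟨c₁ * c₀⁻¹, ?_⟩
    apply hev_inj
    rw [hev_smul]
    have h3 : ev u = θ c₀ := hc₀
    have h4 : ev x = θ c₁ := hc₁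
    rw [h3, h4, ← map_mul, mul_assoc, inv_mul_cancel₀ hc₀ne, mul_one]
  intro x
  obtain ⟨c, hc⟩ := key x
  let A' := (Groth.Agent.Lib.Helper23.QCohLocal.ΓF R).obj
    ((Scheme.Modules.pullback g).obj ((Scheme.Modules.pushforward f).obj O))
  refine ⟨c • (show A' from u₀), ?_⟩
  rw [LinearMap.map_smul]
  have h5 : ((Groth.Agent.Lib.Helper23.QCohLocal.ΓF R).map ψ).hom (show A' from u₀) = u := hu
  rw [h5]
  refine Eq.trans ?_ hc.symm
  have h6 : ((Spec R).presheaf.map (⊤ : (Spec R).Opens).leTop.op) = 𝟙 _ := by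
    have : (⊤ : (Spec R).Opens).leTop = 𝟙 ⊤ := Subsingleton.elim _ _
    rw [this, op_id, (Spec R).presheaf.map_id]
  change (((Spec R).presheaf.map (⊤ : (Spec R).Opens).leTop.op) ((Scheme.ΓSpecIso R).inv c)) •
    (show Γ((pushforward fy).obj G, ⊤) from u) = _
  rw [h6]
  rfl

end main

end Groth.Agent.Lib.Helper2.R1RankC
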