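import Mathlib
import Groth.Agent.Lib.Helper2R1RankC
import Groth.Agent.Lib.Helper6H0Const
import Groth.Agent.Lib.Helper17StalkBC3

/-!
# Fibres with one-dimensional `H⁰` of the structure sheaf: the degree-0 base change map of `O_X` at the
fibre is an epimorphism (helper2)

Namespace `Groth.Agent.Lib.Helper2.R1RankE`.
-/

set_option autoImplicit false
set_option linter.style.haveILetI false
universe u
open CategoryTheory CategoryTheory.Limits AlgebraicGeometry TopologicalSpace

namespace Groth.Agent.Lib.Helper2.R1RankE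

/-- if the global functions of a `k`-scheme are one-dimensional over `k`, they are constants -/
theorem exists_const_of_finrank (k : Type u) [Field k] {Z : Scheme.{u}}
    (q : Z ⟶ Spec (CommRingCat.of k))
    (h1 : letI : Algebra k Γ(Z, ⊤) := (Groth.Agent.Lib.Helper6.H0Const.gsMap k q).hom.toAlgebra
      Module.finrank k Γ(Z, ⊤) = 1) (a : Γ(Z, ⊤)) :
    ∃ c : k, a = q.appTop ((Scheme.ΓSpecIso (CommRingCat.of k)).inv c) := by
  letI : Algebra k Γ(Z, ⊤) := (Groth.Agent.Lib.Helper6.H0Const.gsMap k q).hom.toAlgebra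
  haveI hnt : Nontrivial Γ(Z, ⊤) := Module.nontrivial_of_finrank_pos (R := k) (by rw [h1]; exact one_pos)
  obtain ⟨c, hc⟩ := (finrank_eq_one_iff_of_nonzero' (1 : Γ(Z, ⊤)) one_ne_zero).1 h1 a
  refine ⟨c, ?_⟩
  rw [← hc, Algebra.smul_def, mul_one]
  rfl

/-- a scheme with nontrivial ring of global functions is nonempty -/
theorem nonempty_of_nontrivial (Z : Scheme.{u}) [Nontrivial Γ(Z, ⊤)] : Nonempty ↥Z := by
  by_contra h
  rw [not_nonempty_iff] at h
  have h1 : (⊤ : Z.Opens) = ⊥ := by
    ext x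
    exact (h.false x).elim
  have h2 : Subsingleton Γ(Z, ⊤) := by
    rw [h1]
    infer_instance
  exact not_subsingleton Γ(Z, ⊤) h2

variable {X S : Scheme.{u}} (f : X ⟶ S) [QuasiCompact f] [QuasiSeparated f]

/-- if `h⁰(X_y, O) = 1`, the degree-0 base change map of `O_X` at the fibre over `y` is an
epimorphism -/
theorem epi_fibreBC_of_betti (y : S) (h0 : PerfAux.betti f (Coh.structureModule X) y 0 = 1) :
    Epi (Groth.Agent.Lib.Helper21.BC0Epi.fibreBC f (Coh.structureModule X) y) := by
  let k : Type u := S.residueField y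
  let q : f.fiber y ⟶ Spec (CommRingCat.of k) := f.fiberToSpecResidueField y
  letI : (f.fiber y).Over (Spec (CommRingCat.of k)) := ⟨q⟩
  have e := Groth.Agent.Lib.Helper17.StalkBC.hhEquiv k
    (Groth.Agent.Lib.Helper1.Fib.pullbackUnitIso' (f.fiberι y)) 0
  have h1 : Module.finrank k (Coh.HH (f.fiber y) (Coh.structureModule (f.fiber y)) 0) = 1 := by
    rw [← LinearEquiv.finrank_eq e]
    exact h0
  letI : Algebra k Γ(f.fiber y, ⊤) := (Groth.Agent.Lib.Helper6.H0Const.gsMap k q).hom.toAlgebra
  have h2 : Module.finrank k Γ(f.fiber y, ⊤) = 1 :=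
    (Groth.Agent.Lib.Helper6.H0Const.finrank_hh0 k (f.fiber y)).symm.trans h1
  haveI hnt : Nontrivial Γ(f.fiber y, ⊤) :=
    Module.nontrivial_of_finrank_pos (R := k) (by rw [h2]; exact one_pos)
  haveI : Nonempty ↥(f.fiber y) := nonempty_of_nontrivial (f.fiber y)
  exact Groth.Agent.Lib.Helper2.R1RankC.epi_fibreBC_structure f y
    (fun a => exists_const_of_finrank k q h2 a)

end Groth.Agent.Lib.Helper2.R1RankE
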