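import Mathlib
import Groth.Agent.Lib.Helper2GrauertB
import Groth.Agent.Lib.Helper2PicFibA
import Groth.Agent.Lib.Helper2R1RankE

/-!
# Helper2: Grauert, degree 0 — lifting a fibrewise generator (affine base)
-/

set_option autoImplicit false
set_option linter.style.haveILetI false
universe u
open CategoryTheory CategoryTheory.Limits AlgebraicGeometry TensorProduct Opposite TopologicalSpace

namespace Groth.Agent.Lib.Helper2.GrauertC

open Groth.Agent.Lib.Helper23.GenLocus Groth.Agent.Lib.Helper23.SecTw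
  Groth.Agent.Lib.Helper23.Extend Groth.Agent.Lib.Helper23.PB
  Groth.Agent.Lib.Helper6 Groth.Agent.Helper13PullbackUnit
  Groth.Agent.Lib.Helper2.PicFibA

section unit
variable {X Y : Scheme.{u}} (f : X ⟶ Y)

set_option backward.isDefEq.respectTransparency.types false in
/-- `f^* O_Y ⟶ O_X` sends the pullback of a function to its pullback -/
theorem pullbackUnitHom_unit (U : Y.Opens) (a : Γ(Y, U)) :
    (pullbackUnitHom f).app (f ⁻¹ᵁ U)
      (((Scheme.Modules.pullbackPushforwardAdjunction f).unit.app (Coh.structureModule Y)).app U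
        (toS U a)) = toS (f ⁻¹ᵁ U) (f.app U a) := by
  have h := SheafOfModules.pullbackPushforwardAdjunction_homEquiv_pullbackObjUnitToUnit.{u}
    f.toRingCatSheafHom
  rw [Adjunction.homEquiv_unit] at h
  have h2 := congrArg (fun φ => Scheme.Modules.Hom.app φ U (toS U a)) h
  exact h2

/-- the value of the pullback of a global map `O_Y ⟶ L` -/
theorem sv_pullback (L : Y.Modules) (s : Coh.structureModule Y ⟶ L) (V : Y.Opens) :
    sv ((pullbackUnitIso f).inv ≫ (Scheme.Modules.pullback f).map s) (f ⁻¹ᵁ V) =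
      unitSec f L le_rfl (sv s V) := by
  rw [sv_comp]
  have h1 : (pullbackUnitIso f).inv.app (f ⁻¹ᵁ V) (toS (f ⁻¹ᵁ V) 1) =
      unitSec f (Coh.structureModule Y) le_rfl (toS V 1) := by
    have h2 := pullbackUnitHom_unit f V 1
    rw [map_one] at h2
    have h3 : unitSec f (Coh.structureModule Y) (le_refl (f ⁻¹ᵁ V)) (toS V 1) =
        ((Scheme.Modules.pullbackPushforwardAdjunction f).unit.app (Coh.structureModule Y)).app V
          (toS V 1) := by
      rw [unitSec_apply]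
      exact res_self _ _
    rw [h3, ← h2]
    have h4 : (pullbackUnitIso f).hom ≫ (pullbackUnitIso f).inv = 𝟙 _ := Iso.hom_inv_id _
    have h6 : ∀ z : Γ((Scheme.Modules.pullback f).obj (Coh.structureModule Y), f ⁻¹ᵁ V),
        (pullbackUnitIso f).inv.app (f ⁻¹ᵁ V) ((pullbackUnitHom f).app (f ⁻¹ᵁ V) z) = z := by
      intro z
      have h5 := congrArg (fun φ => Scheme.Modules.Hom.app φ (f ⁻¹ᵁ V) z) h4
      exact h5
    exact h6 _
  change ((Scheme.Modules.pullback f).map s).app (f ⁻¹ᵁ V)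
    ((pullbackUnitIso f).inv.app (f ⁻¹ᵁ V) (toS (f ⁻¹ᵁ V) 1)) = _
  rw [h1, map_unitSec]
  rfl

end unit

section endo
variable {Z : Scheme.{u}}

/-- an endomorphism of the structure module whose global value is a unit is an isomorphism -/
theorem isIso_of_isUnit_sv (φ : Coh.structureModule Z ⟶ Coh.structureModule Z)
    (h : IsUnit (ofS ⊤ (sv φ ⊤))) : IsIso φ := by
  obtain ⟨b, hb⟩ := h.exists_left_inv
  let ψ : Coh.structureModule Z ⟶ Coh.structureModule Z := secHom _ (toS ⊤ b)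
  have hψ : sv ψ ⊤ = toS ⊤ b := by
    rw [sv_secHom]
    exact res_self _ _
  have hφ : sv φ ⊤ = toS ⊤ (ofS ⊤ (sv φ ⊤)) := rfl
  refine ⟨ψ, hom_ext_sv _ _ ?_, hom_ext_sv _ _ ?_⟩
  · rw [sv_comp, hφ, app_toS, hψ, smul_toS, mul_comm, hb]
    rfl
  · rw [sv_comp, hψ, app_toS, hφ, smul_toS, hb]
    rfl

end endo

section core
variable {A : Type u} [CommRing A] {X : Scheme.{u}}

open Groth.Agent.Helper13QcqsBC Groth.Agent.Helper13AffBC Groth.Agent.Helper13FlatMV
  Groth.Agent.Lib.Helper21.BC0Geo Groth.Agent.Lib.Helper21.BC0Epi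

theorem nontrivial_of_eq_top {Z : Scheme.{u}} (V : Z.Opens) (hV : V = ⊤) [Nontrivial Γ(Z, ⊤)] :
    Nontrivial Γ(Z, V) := by
  subst hV
  infer_instance

/-- **lifting a fibrewise generator**: over a reduced affine base, for `f` proper flat of finite
presentation and `L` invertible with `h⁰(X_s, L_s) = 1` for all `s` and trivial on the fibre over `t`,
some section of `L` generates `L` over the preimage of a neighbourhood of `t`. -/
theorem exists_isGen_nhd (f : X ⟶ Spec (CommRingCat.of A)) [IsProper f]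
    [LocallyOfFinitePresentation f] [IsReduced (Spec (CommRingCat.of A))]
    (L : X.Modules) (hL : PicF.IsInvertible L) (hflat : FlatMod.IsFlatOver f L)
    (hb : ∀ s, PerfAux.betti f L s 0 = 1) (t : Spec (CommRingCat.of A))
    (τ : Coh.structureModule (f.fiber t) ≅ (Scheme.Modules.pullback (f.fiberι t)).obj L) :
    ∃ (U : (Spec (CommRingCat.of A)).Opens) (e : Γ(L, f ⁻¹ᵁ U)),
      t ∈ U ∧ IsGen L (f ⁻¹ᵁ U) e := by
  haveI : L.IsQuasicoherent := isQuasicoherent_of_isInvertible L hL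
  have hflf : FlatMod.IsFinLocFree L :=
    Groth.Agent.Lib.Helper23.ResProp.isFinLocFree_of_isInvertible _ hL
  have hF : CohB1.IsFP L := Groth.Agent.Lib.Helper2.LocFree.isFP_of_isFinLocFree _ hflf
  -- constants on the fibre
  let k : Type u := (Spec (CommRingCat.of A)).residueField t
  let q : f.fiber t ⟶ Spec (CommRingCat.of k) := f.fiberToSpecResidueField t
  letI : (f.fiber t).Over (Spec (CommRingCat.of k)) := ⟨q⟩
  have e := Groth.Agent.Lib.Helper17.StalkBC.hhEquiv k τ.symm 0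
  have h1 : Module.finrank k (Coh.HH (f.fiber t) (Coh.structureModule (f.fiber t)) 0) = 1 := by
    rw [← LinearEquiv.finrank_eq e]
    exact hb t
  letI : Algebra k Γ(f.fiber t, ⊤) := (Groth.Agent.Lib.Helper6.H0Const.gsMap k q).hom.toAlgebra
  have h2 : Module.finrank k Γ(f.fiber t, ⊤) = 1 :=
    (Groth.Agent.Lib.Helper6.H0Const.finrank_hh0 k (f.fiber t)).symm.trans h1
  have hconst := fun a => Groth.Agent.Lib.Helper2.R1RankE.exists_const_of_finrank k q h2 a
  haveI hnt : Nontrivial Γ(f.fiber t, ⊤) :=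
    Module.nontrivial_of_finrank_pos (R := k) (by rw [h2]; exact one_pos)
  -- base change at `t`
  let g : Spec (CommRingCat.of k) ⟶ Spec (CommRingCat.of A) :=
    (Spec (CommRingCat.of A)).fromSpecResidueField t
  let ι : f.fiber t ⟶ X := f.fiberι t
  have hpb : IsPullback ι q f g := IsPullback.of_hasPullback f g
  haveI hiso : IsIso (bcMap f g ι q hpb L) :=
    Groth.Agent.Lib.Helper2.GrauertB.isIso_bcMap f L hF hflat 1 hb g ι q hpb
  have hle : (⊤ : (Spec (CommRingCat.of k)).Opens) ≤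
      g ⁻¹ᵁ (⊤ : (Spec (CommRingCat.of A)).Opens) := fun _ _ => trivial
  have hK : KSurj f g ι q hpb L hle (f ⁻¹ᵁ ⊤) le_rfl :=
    kSurj_of_epi f L g ι q hpb (isAffineOpen_top _) hle inferInstance
  -- the generator on the fibre
  let σ₀ : Γ((Scheme.Modules.pullback ι).obj L, ⊤) := τ.hom.app ⊤ (toS ⊤ 1)
  have hσ₀ : IsGen ((Scheme.Modules.pullback ι).obj L) ⊤ σ₀ := isGen_of_iso τ (isGen_one ⊤)
  have hVp : Vp ι q (⊤ : (Spec (CommRingCat.of k)).Opens) (f ⁻¹ᵁ ⊤) = ⊤ := by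
    ext x
    simp
  haveI : Nontrivial Γ(f.fiber t, Vp ι q (⊤ : (Spec (CommRingCat.of k)).Opens) (f ⁻¹ᵁ ⊤)) :=
    nontrivial_of_eq_top _ hVp
  obtain ⟨m, hm⟩ : ∃ m : Γ(L, f ⁻¹ᵁ ⊤), unitSec ι L
      (inf_le_left : Vp ι q (⊤ : (Spec (CommRingCat.of k)).Opens) (f ⁻¹ᵁ ⊤) ≤ ι ⁻¹ᵁ (f ⁻¹ᵁ ⊤)) m ≠ 0 := by
    by_contra hcon
    push Not at hcon
    letI : Algebra Γ(Spec (CommRingCat.of A), ⊤) Γ(Spec (CommRingCat.of k), ⊤) :=
      (g.appLE ⊤ ⊤ hle).hom.toAlgebra
    have hzero : ∀ x, kap (R := Γ(Spec (CommRingCat.of A), ⊤)) (R' := Γ(Spec (CommRingCat.of k), ⊤))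
        (uW f ι q L (le_refl (f ⁻¹ᵁ ⊤)) (inf_le_left :
          Vp ι q (⊤ : (Spec (CommRingCat.of k)).Opens) (f ⁻¹ᵁ ⊤) ≤ ι ⁻¹ᵁ (f ⁻¹ᵁ ⊤)) inf_le_right)
        (uW_smul f g ι q hpb L hle le_rfl inf_le_left inf_le_right) x = 0 := by
      intro x
      induction x using TensorProduct.induction_on with
      | zero => exact map_zero _
      | tmul c m =>
        rw [kap_tmul]
        have : uW f ι q L (le_refl (f ⁻¹ᵁ ⊤)) (inf_le_left :
          Vp ι q (⊤ : (Spec (CommRingCat.of k)).Opens) (f ⁻¹ᵁ ⊤) ≤ ι ⁻¹ᵁ (f ⁻¹ᵁ ⊤)) inf_le_right m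
            = 0 := hcon m
        rw [this, smul_zero]
      | add x y hx hy => rw [map_add, hx, hy, add_zero]
    obtain ⟨x, hx⟩ := hK (res ((Scheme.Modules.pullback ι).obj L) le_top σ₀)
    rw [hzero x] at hx
    have hb' := hσ₀ _ (le_top : Vp ι q (⊤ : (Spec (CommRingCat.of k)).Opens) (f ⁻¹ᵁ ⊤) ≤ ⊤)
    have h01 := hb'.1 (a₁ := 0) (a₂ := 1) (by
      simp only
      rw [zero_smul, one_smul]
      exact hx)
    exact zero_ne_one h01
  -- the global map
  have hle' : (⊤ : X.Opens) ≤ f ⁻¹ᵁ ⊤ := fun _ _ => trivial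
  let s : Coh.structureModule X ⟶ L := secHom L (res L hle' m)
  have hsv : sv s (f ⁻¹ᵁ ⊤) = m := by
    rw [sv_secHom, res_res]
    exact Groth.Agent.Lib.Helper23.SecTw.res_self L m
  let t₁ : Coh.structureModule (f.fiber t) ⟶ (Scheme.Modules.pullback ι).obj L :=
    (pullbackUnitIso ι).inv ≫ (Scheme.Modules.pullback ι).map s
  have ht₁ : sv t₁ (ι ⁻¹ᵁ (f ⁻¹ᵁ ⊤)) = unitSec ι L le_rfl m := by
    rw [← hsv]
    exact sv_pullback ι L s (f ⁻¹ᵁ ⊤)
  have hsv0 : ∀ (M : (f.fiber t).Modules) (V : (f.fiber t).Opens),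
      sv (0 : Coh.structureModule (f.fiber t) ⟶ M) V = 0 := by
    intro M V
    change (0 : Coh.structureModule (f.fiber t) ⟶ M).app V (toS V 1) = 0
    rfl
  have ht₁ne : t₁ ≠ 0 := by
    intro h0
    apply hm
    have h3 : unitSec ι L (inf_le_left :
        Vp ι q (⊤ : (Spec (CommRingCat.of k)).Opens) (f ⁻¹ᵁ ⊤) ≤ ι ⁻¹ᵁ (f ⁻¹ᵁ ⊤)) m =
        res _ inf_le_left (unitSec ι L le_rfl m) := by
      rw [res_unitSec ι L le_rfl inf_le_left le_rfl inf_le_left m,
        Groth.Agent.Lib.Helper23.SecTw.res_self]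
    rw [h3, ← ht₁, h0, hsv0]
    exact map_zero _
  let φ : Coh.structureModule (f.fiber t) ⟶ Coh.structureModule (f.fiber t) := t₁ ≫ τ.inv
  have ht₁φ : t₁ = φ ≫ τ.hom := by
    simp only [φ, Category.assoc, Iso.inv_hom_id, Category.comp_id]
  have hφne : sv φ ⊤ ≠ 0 := by
    intro h0
    apply ht₁ne
    have h4 : φ = 0 := hom_ext_sv _ _ (by rw [h0, hsv0])
    rw [ht₁φ, h4, zero_comp]
  obtain ⟨c, hc⟩ := hconst (ofS ⊤ (sv φ ⊤))
  have hc0 : c ≠ 0 := by
    rintro rfl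
    apply hφne
    rw [map_zero, map_zero] at hc
    exact hc
  have hunit : IsUnit (ofS ⊤ (sv φ ⊤)) := by
    rw [hc]
    exact ((IsUnit.mk0 c hc0).map (Scheme.ΓSpecIso (CommRingCat.of k)).inv.hom).map q.appTop.hom
  haveI := isIso_of_isUnit_sv φ hunit
  haveI : IsIso t₁ := by
    rw [ht₁φ]
    infer_instance
  -- the generating locus contains the fibre
  have hgen := genLocus_pullback ι L hL s (pullbackUnitIso ι).symm
  have hτ : (pullbackUnitIso ι).symm.hom ≫ (Scheme.Modules.pullback ι).map s = t₁ := rfl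
  rw [hτ, Groth.Agent.Lib.Helper6.DegZero.genLocus_eq_top_of_isIso] at hgen
  -- closedness of `f`
  have hZ : IsClosed ((CohB1.genLocus L s : Set X)ᶜ) := (CohB1.genLocus L s).isOpen.isClosed_compl
  have hfZ : IsClosed (f '' ((CohB1.genLocus L s : Set X)ᶜ)) := f.isClosedMap _ hZ
  have htZ : t ∉ f '' ((CohB1.genLocus L s : Set X)ᶜ) := by
    rintro ⟨x, hxZ, hxt⟩
    have hx : x ∈ Set.range (f.fiberι t) := by
      rw [Scheme.Hom.range_fiberι]
      exact hxt
    obtain ⟨x₀, rfl⟩ := hx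
    have hx₀ : x₀ ∈ (f.fiberι t) ⁻¹ᵁ CohB1.genLocus L s := hgen ▸ trivial
    exact hxZ hx₀
  let U : (Spec (CommRingCat.of A)).Opens :=
    ⟨(f '' ((CohB1.genLocus L s : Set X)ᶜ))ᶜ, hfZ.isOpen_compl⟩
  have hU : f ⁻¹ᵁ U ≤ CohB1.genLocus L s := by
    intro x hx
    by_contra hxG
    exact hx ⟨x, hxG, rfl⟩
  exact ⟨U, sv s (f ⁻¹ᵁ U), htZ, isGen_of_le_genLocus L s _ hU⟩

end core

end Groth.Agent.Lib.Helper2.GrauertC
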