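import Mathlib
import Groth.Agent.Lib.Helper2PicFibA
import Groth.Agent.Lib.Helper23Restr
import Groth.Agent.Lib.Helper23QAffSec
import Groth.Agent.Lib.Helper23SecTw6
import Groth.Agent.Lib.Helper6CurveDeg

/-!
# Direct image of a fibrewise trivial invertible module (helper2)

Namespace `Groth.Agent.Lib.Helper2.PicFibB`.
-/

set_option autoImplicit false
set_option linter.style.haveILetI false
universe u
open CategoryTheory CategoryTheory.Limits AlgebraicGeometry TopologicalSpace Opposite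

namespace Groth.Agent.Lib.Helper2.PicFibB

open Groth.Agent.Lib.Helper23.GenLocus Groth.Agent.Lib.Helper23.SecTw
  Groth.Agent.Lib.Helper23.Extend Groth.Agent.Lib.Helper23.PB
  Groth.Agent.Lib.Helper2.FibH1G Groth.Agent.Lib.Helper2.FibH1H Groth.Agent.Lib.Helper2.FibH1C
  Groth.Agent.Lib.Helper6 Groth.Agent.Lib.Helper2.PicFibA

section FibreBC

variable {X Y X' Y' : Scheme.{u}} (f : X ⟶ Y) (g : Y' ⟶ Y) (f' : X' ⟶ Y') (g' : X' ⟶ X)
  (hc : IsPullback g' f' f g) (y' : Y')

include hc in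
/-- the map between the fibres of a base change -/
theorem exists_fiber_map :
    ∃ q : f'.fiber y' ⟶ f.fiber (g y'), q ≫ f.fiberι (g y') = f'.fiberι y' ≫ g' := by
  have big : IsPullback (f'.fiberι y' ≫ g') (f'.fiberToSpecResidueField y') f
      (Y'.fromSpecResidueField y' ≫ g) :=
    (IsPullback.of_hasPullback f' (Y'.fromSpecResidueField y')).paste_horiz hc
  rw [← g.SpecMap_residueFieldMap_fromSpecResidueField y'] at big
  have right : IsPullback (f.fiberι (g y')) (f.fiberToSpecResidueField (g y')) f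
      (Y.fromSpecResidueField (g y')) :=
    IsPullback.of_hasPullback f (Y.fromSpecResidueField (g y'))
  exact ⟨right.lift (f'.fiberι y' ≫ g')
      (f'.fiberToSpecResidueField y' ≫ Spec.map (g.residueFieldMap y')) big.w,
    right.lift_fst _ _ _⟩

include hc in
/-- triviality on a fibre is inherited by the fibres of a base change -/
theorem nonempty_fiber_trivial (M : X.Modules)
    (h : Nonempty ((Scheme.Modules.pullback (f.fiberι (g y'))).obj M ≅
      Coh.structureModule (f.fiber (g y')))) :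
    Nonempty ((Scheme.Modules.pullback (f'.fiberι y')).obj ((Scheme.Modules.pullback g').obj M) ≅
      Coh.structureModule (f'.fiber y')) := by
  obtain ⟨q, hq⟩ := exists_fiber_map f g f' g' hc y'
  obtain ⟨e⟩ := h
  exact ⟨(Scheme.Modules.pullbackComp (f'.fiberι y') g').app M ≪≫
    (Scheme.Modules.pullbackCongr hq.symm).app M ≪≫
    ((Scheme.Modules.pullbackComp q (f.fiberι (g y'))).app M).symm ≪≫
    (Scheme.Modules.pullback q).mapIso e ≪≫ pullbackUnitIso q⟩

end FibreBC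

/-- a generator of `L` over `f⁻¹W` is a generator of `f_* L` over `W` when `O_Y → f_* O_X` is an
isomorphism -/
theorem isGen_pushforward {X Y : Scheme.{u}} (f : X ⟶ Y) (hO : ∀ U : Y.Opens, IsIso (f.app U))
    (L : X.Modules) (W : Y.Opens) (a : Γ(L, f ⁻¹ᵁ W)) (ha : IsGen L (f ⁻¹ᵁ W) a) :
    IsGen ((Scheme.Modules.pushforward f).obj L) W (show Γ((Scheme.Modules.pushforward f).obj L, W)
      from a) := by
  intro W' hW'
  have h1 := ha (f ⁻¹ᵁ W') (f.preimage_mono hW')
  have h2 : Function.Bijective (f.app W') := by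
    have := hO W'
    exact ConcreteCategory.bijective_of_isIso (f.app W')
  have h3 : (fun r : Γ(Y, W') => r • res ((Scheme.Modules.pushforward f).obj L) hW'
      (show Γ((Scheme.Modules.pushforward f).obj L, W) from a)) =
      (fun c : Γ(X, f ⁻¹ᵁ W') => c • res L (f.preimage_mono hW') a) ∘ (f.app W') := by
    funext r
    rfl
  rw [h3]
  exact h1.comp h2

/-- **the direct image of a fibrewise trivial invertible module is locally generated by one
section** -/
theorem exists_isGen_pushforward {X Y : Scheme.{u}} (f : X ⟶ Y) [IsProper f]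
    (hO : ∀ U : Y.Opens, IsIso (f.app U))
    (hdim : ∀ y : Y, topologicalKrullDim ↥(f.fiber y) ≤ ((1 : ℕ) : WithBot ℕ∞))
    (hH1 : ∀ y : Y, Subsingleton (Coh.HH (f.fiber y) (Coh.structureModule (f.fiber y)) 1))
    (L : X.Modules) (hL : PicF.IsInvertible L)
    (htriv : ∀ y : Y, Nonempty ((Scheme.Modules.pullback (f.fiberι y)).obj L ≅
      Coh.structureModule (f.fiber y))) (y : Y) :
    ∃ (W : Y.Opens) (e : Γ((Scheme.Modules.pushforward f).obj L, W)),
      y ∈ W ∧ IsGen ((Scheme.Modules.pushforward f).obj L) W e := by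
  have hex : ∃ V : Y.Opens, IsAffineOpen V ∧ y ∈ V := by
    obtain ⟨_, ⟨V, hV, rfl⟩, hyV, -⟩ :=
      Y.isBasis_affineOpens.exists_subset_of_mem_open (Set.mem_univ y) isOpen_univ
    exact ⟨V, hV, hyV⟩
  obtain ⟨V, hV', hyV⟩ := hex
  let A : Type u := Γ(Y, V)
  let g : Spec (CommRingCat.of A) ⟶ Y := hV'.fromSpec
  let g' : (f ⁻¹ᵁ V).toScheme ⟶ X := (f ⁻¹ᵁ V).ι
  let f' : (f ⁻¹ᵁ V).toScheme ⟶ Spec (CommRingCat.of A) := (f ∣_ V) ≫ hV'.isoSpec.hom
  have hc : IsPullback g' f' f g := by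
    have h0 : IsPullback (f ⁻¹ᵁ V).ι (f ∣_ V) f V.ι := (isPullback_morphismRestrict f V).flip
    refine IsPullback.of_iso h0 (Iso.refl _) (Iso.refl _) hV'.isoSpec (Iso.refl _) ?_ ?_ ?_ ?_
    · simp [g']
    · simp [f']
    · simp
    · rw [Iso.refl_hom, Category.comp_id]
      change V.ι = hV'.isoSpec.hom ≫ hV'.fromSpec
      rw [← hV'.isoSpec_inv_ι, Iso.hom_inv_id_assoc]
  haveI : IsProper f' := MorphismProperty.of_isPullback (P := @IsProper) hc inferInstance
  have hd' : ∀ t', topologicalKrullDim ↥(f'.fiber t') ≤ ((1 : ℕ) : WithBot ℕ∞) := fun t' =>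
    Groth.Agent.Lib.Helper2.FibVanC.fibre_dim_le_of_isPullback f g f' g' hc 1 hdim t'
  -- the point
  have hyr : y ∈ Set.range g := by
    rw [hV'.range_fromSpec]
    exact hyV
  obtain ⟨t₀, ht₀⟩ := hyr
  obtain ⟨m, hm, hle⟩ := Ideal.exists_le_maximal t₀.asIdeal t₀.isPrime.ne_top
  let t : Spec (CommRingCat.of A) := ⟨m, hm.isPrime⟩
  have hspec : t₀ ⤳ t := (PrimeSpectrum.le_iff_specializes t₀ t).1 hle
  -- the module
  let L' : (f ⁻¹ᵁ V).toScheme.Modules := L.restrict (f ⁻¹ᵁ V).ι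
  have hL' : PicF.IsInvertible L' := isInvertible_restrict L hL (f ⁻¹ᵁ V)
  let eL : L' ≅ (Scheme.Modules.pullback g').obj L :=
    (Scheme.Modules.restrictFunctorIsoPullback g').app L
  have htriv' : ∀ t', Nonempty ((Scheme.Modules.pullback (f'.fiberι t')).obj L' ≅
      Coh.structureModule (f'.fiber t')) := fun t' => by
    obtain ⟨e⟩ := nonempty_fiber_trivial f g f' g' hc t' L (htriv (g t'))
    exact ⟨(Scheme.Modules.pullback (f'.fiberι t')).mapIso eL ≪≫ e⟩
  have hH1' : ∀ t', Subsingleton (Coh.HH (f'.fiber t') (Coh.structureModule (f'.fiber t')) 1) :=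
    fun t' => (subsingleton_HH_fiber_iff f g f' g' hc t' 1).2 (hH1 (g t'))
  have hfib' : ∀ t', Subsingleton (Coh.HH (f'.fiber t')
      ((Scheme.Modules.pullback (f'.fiberι t')).obj L') 1) := fun t' => by
    obtain ⟨e⟩ := htriv' t'
    exact subsingleton_HH_of_iso e.symm 1 (hH1' t')
  have hL1' : Subsingleton (Coh.HH (f ⁻¹ᵁ V).toScheme L' 1) :=
    subsingleton_HH_of_fibres A f' 1 hd' L'
      (Groth.Agent.Lib.Helper6.CurveDeg.isCoh_of_isInvertible L' hL') (fun t' _ => hfib' t')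
  obtain ⟨τ⟩ := htriv' t
  obtain ⟨U, e, htU, he⟩ := exists_isGen_nhd f' hd' L' hL' hL1' t hm τ.symm
  have he2 : IsGen L ((f ⁻¹ᵁ V).ι ''ᵁ (f' ⁻¹ᵁ U)) e :=
    isGen_of_isGen_restrict L (f ⁻¹ᵁ V) (f' ⁻¹ᵁ U) e he
  have heq : (f ⁻¹ᵁ V).ι ''ᵁ (f' ⁻¹ᵁ U) = f ⁻¹ᵁ (g ''ᵁ U) := by
    ext x
    constructor
    · rintro ⟨x', hx', rfl⟩
      refine ⟨f' x', hx', ?_⟩
      have := congrArg (fun φ : (f ⁻¹ᵁ V).toScheme ⟶ Y => φ x') hc.w
      exact this.symm
    · rintro ⟨u, hu, hux⟩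
      have hxV : x ∈ f ⁻¹ᵁ V := by
        change f x ∈ V
        have : f x ∈ Set.range g := ⟨u, hux⟩
        rw [hV'.range_fromSpec] at this
        exact this
      refine ⟨⟨x, hxV⟩, ?_, rfl⟩
      have h1 : g (f' ⟨x, hxV⟩) = f x := by
        have := congrArg (fun φ : (f ⁻¹ᵁ V).toScheme ⟶ Y => φ ⟨x, hxV⟩) hc.w
        exact this.symm
      have h2 : f' ⟨x, hxV⟩ = u := g.isOpenEmbedding.injective (h1.trans hux.symm)
      change f' ⟨x, hxV⟩ ∈ U
      rw [h2]
      exact hu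
  obtain ⟨e', he'⟩ := exists_isGen_of_eq L heq e he2
  refine ⟨g ''ᵁ U, e', ?_, isGen_pushforward f hO L (g ''ᵁ U) e' he'⟩
  exact ⟨t₀, hspec.mem_open U.isOpen htU, ht₀⟩

end Groth.Agent.Lib.Helper2.PicFibB
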