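import Mathlib
import Groth.Agent.Lib.Helper2GrauertC
import Groth.Agent.Lib.Helper2PicFibB
import Groth.Agent.Lib.Helper2TrivFibB
import Groth.Agent.Lib.Helper21UnitFibG
import Groth.Agent.Lib.Helper21SemicontB

/-!
# Helper2: Grauert, degree 0 — local generators of a fibrewise trivial invertible module (general base)
-/

set_option autoImplicit false
set_option linter.style.haveILetI false
universe u
open CategoryTheory CategoryTheory.Limits AlgebraicGeometry TopologicalSpace Opposite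

namespace Groth.Agent.Lib.Helper2.GrauertD

open Groth.Agent.Lib.Helper23.GenLocus Groth.Agent.Lib.Helper23.SecTw
  Groth.Agent.Lib.Helper23.Extend Groth.Agent.Lib.Helper23.PB
  Groth.Agent.Lib.Helper6 Groth.Agent.Lib.Helper2.PicFibA Groth.Agent.Lib.Helper2.PicFibB

/-- **local generators**: `f : X ⟶ Y` proper flat of finite presentation over a reduced base, `L`
invertible, trivial on every fibre, with `h⁰(X_y, L_y) = 1` for all `y`: every point of `Y` has an open
neighbourhood `W` such that `L` has a generator over `f⁻¹W`. -/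
theorem exists_isGen {X Y : Scheme.{u}} (f : X ⟶ Y) [IsProper f] [Flat f]
    [LocallyOfFinitePresentation f] [IsReduced Y]
    (L : X.Modules) (hL : PicF.IsInvertible L)
    (hb : ∀ y : Y, PerfAux.betti f L y 0 = 1)
    (htriv : ∀ y : Y, Nonempty ((Scheme.Modules.pullback (f.fiberι y)).obj L ≅
      Coh.structureModule (f.fiber y))) (y : Y) :
    ∃ (W : Y.Opens) (e : Γ(L, f ⁻¹ᵁ W)), y ∈ W ∧ IsGen L (f ⁻¹ᵁ W) e := by
  haveI : L.IsQuasicoherent := isQuasicoherent_of_isInvertible L hL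
  have hex : ∃ V : Y.Opens, IsAffineOpen V ∧ y ∈ V := by
    obtain ⟨_, ⟨V, hV, rfl⟩, hyV, -⟩ :=
      Y.isBasis_affineOpens.exists_subset_of_mem_open (Set.mem_univ y) isOpen_univ
    exact ⟨V, hV, hyV⟩
  obtain ⟨V, hV', hyV⟩ := hex
  let A : Type u := Γ(Y, V)
  let g : Spec (CommRingCat.of A) ⟶ Y := hV'.fromSpec
  let g' : (f ⁻¹ᵁ V).toScheme ⟶ X := (f ⁻¹ᵁ V).ι
  let f' : (f ⁻¹ᵁ V).toScheme ⟶ Spec (CommRingCat.of A) := (f ∣_ V) ≫ hV'.isoSpec.hom
  have hc : IsPullback g' f' f g := by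
    have h0 : IsPullback (f ⁻¹ᵁ V).ι (f ∣_ V) f V.ι := (isPullback_morphismRestrict f V).flip
    refine IsPullback.of_iso h0 (Iso.refl _) (Iso.refl _) hV'.isoSpec (Iso.refl _) ?_ ?_ ?_ ?_
    · simp [g']
    · simp [f']
    · simp
    · rw [Iso.refl_hom, Category.comp_id]
      change V.ι = hV'.isoSpec.hom ≫ hV'.fromSpec
      rw [← hV'.isoSpec_inv_ι, Iso.hom_inv_id_assoc]
  haveI : IsProper f' := MorphismProperty.of_isPullback (P := @IsProper) hc inferInstance
  haveI : Flat f' := MorphismProperty.of_isPullback (P := @Flat) hc inferInstance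
  haveI : LocallyOfFinitePresentation f' :=
    MorphismProperty.of_isPullback (P := @LocallyOfFinitePresentation) hc inferInstance
  haveI : IsReduced (Spec (CommRingCat.of A)) := isReduced_of_isOpenImmersion g
  -- the point
  have hyr : y ∈ Set.range g := by
    rw [hV'.range_fromSpec]
    exact hyV
  obtain ⟨t₀, ht₀⟩ := hyr
  -- the module
  let L' : (f ⁻¹ᵁ V).toScheme.Modules := L.restrict (f ⁻¹ᵁ V).ι
  have hL' : PicF.IsInvertible L' := isInvertible_restrict L hL (f ⁻¹ᵁ V)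
  haveI : L'.IsQuasicoherent := isQuasicoherent_of_isInvertible L' hL'
  let eL : L' ≅ (Scheme.Modules.pullback g').obj L :=
    (Scheme.Modules.restrictFunctorIsoPullback g').app L
  have htriv' : ∀ t', Nonempty ((Scheme.Modules.pullback (f'.fiberι t')).obj L' ≅
      Coh.structureModule (f'.fiber t')) := fun t' => by
    obtain ⟨e⟩ := nonempty_fiber_trivial f g f' g' hc t' L (htriv (g t'))
    exact ⟨(Scheme.Modules.pullback (f'.fiberι t')).mapIso eL ≪≫ e⟩
  have hflf' : FlatMod.IsFinLocFree L' :=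
    Groth.Agent.Lib.Helper23.ResProp.isFinLocFree_of_isInvertible _ hL'
  have hflat' : FlatMod.IsFlatOver f' L' :=
    Groth.Agent.Lib.Helper2.TrivFibB.isFlatOver_of_isFlat'' f' L'
      (Groth.Agent.Lib.Helper2.LocFree.isFlat_of_isFinLocFree L' hflf')
  have hb' : ∀ t', PerfAux.betti f' L' t' 0 = 1 := fun t' => by
    rw [Groth.Agent.Lib.Helper21.Semicont.betti_congr_iso f' eL t' 0,
      Groth.Agent.Lib.Helper21.TBridge.betti_baseChange f g g' f' hc L t' 0]
    exact hb (g t')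
  obtain ⟨τ⟩ := htriv' t₀
  obtain ⟨U, e, htU, he⟩ :=
    Groth.Agent.Lib.Helper2.GrauertC.exists_isGen_nhd f' L' hL' hflat' hb' t₀ τ.symm
  have he2 : IsGen L ((f ⁻¹ᵁ V).ι ''ᵁ (f' ⁻¹ᵁ U)) e :=
    isGen_of_isGen_restrict L (f ⁻¹ᵁ V) (f' ⁻¹ᵁ U) e he
  have heq : (f ⁻¹ᵁ V).ι ''ᵁ (f' ⁻¹ᵁ U) = f ⁻¹ᵁ (g ''ᵁ U) := by
    ext x
    constructor
    · rintro ⟨x', hx', rfl⟩
      refine ⟨f' x', hx', ?_⟩
      have := congrArg (fun φ : (f ⁻¹ᵁ V).toScheme ⟶ Y => φ x') hc.w
      exact this.symm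
    · rintro ⟨u, hu, hux⟩
      have hxV : x ∈ f ⁻¹ᵁ V := by
        change f x ∈ V
        have : f x ∈ Set.range g := ⟨u, hux⟩
        rw [hV'.range_fromSpec] at this
        exact this
      refine ⟨⟨x, hxV⟩, ?_, rfl⟩
      have h1 : g (f' ⟨x, hxV⟩) = f x := by
        have := congrArg (fun φ : (f ⁻¹ᵁ V).toScheme ⟶ Y => φ ⟨x, hxV⟩) hc.w
        exact this.symm
      have h2 : f' ⟨x, hxV⟩ = u := g.isOpenEmbedding.injective (h1.trans hux.symm)
      change f' ⟨x, hxV⟩ ∈ U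
      rw [h2]
      exact hu
  obtain ⟨e', he'⟩ := exists_isGen_of_eq L heq e he2
  exact ⟨g ''ᵁ U, e', ⟨t₀, htU, ht₀⟩, he'⟩

end Groth.Agent.Lib.Helper2.GrauertD
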