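import Mathlib
import Groth.Agent.Lib.Helper2R1RankA
import Groth.Agent.Lib.Helper2R1RankE
import Groth.Agent.Lib.Helper21BC0EpiB

/-!
# `O_S → f_* O_X` is an isomorphism when `h⁰(X_s, O) = 1` for all `s` (helper2)

Namespace `Groth.Agent.Lib.Helper2.R1RankF`.

`f : X → S` proper, flat, of finite presentation with `h⁰(X_s, O_{X_s}) = 1` for all `s`:
`ClSub.unitToPush f` is an isomorphism. Uses helper21's universal complex (`exists_local_complex0`),
the rank computation of `Helper2R1RankA` and Mathlib's `Module.algebraMap_bijective_of_rankAtStalk`.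
-/

set_option autoImplicit false
set_option linter.style.haveILetI false
universe u
open CategoryTheory CategoryTheory.Limits AlgebraicGeometry TensorProduct Opposite TopologicalSpace

namespace Groth.Agent.Lib.Helper2.R1RankF

open Groth.Agent.Helper13QcqsBC Groth.Agent.Helper13AffBC
  Groth.Agent.Lib.Helper21.BC0Alg Groth.Agent.Lib.Helper21.BC0Geo Groth.Agent.Lib.Helper21.BC0Cx
  Groth.Agent.Lib.Helper21.BC0Free Groth.Agent.Lib.Helper21.BC0Main Groth.Agent.Lib.Helper21.AlgBC
  Groth.Agent.Lib.Helper21.NNBC Groth.Agent.Lib.Helper21.BC0Epi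

local instance (X : Scheme.{u}) : EnoughInjectives X.Modules :=
  Groth.Agent.Lib.Helper17.QCPush.enoughInjectives X

section sections

variable {S : Scheme.{u}}

/-- isomorphic modules have linearly isomorphic sections -/
noncomputable def sectionsEquiv {M N : S.Modules} (θ : M ≅ N) (U : S.Opens) :
    Γ(M, U) ≃ₗ[Γ(S, U)] Γ(N, U) where
  toFun := θ.hom.app U
  map_add' := map_add _
  map_smul' := fun r x => Scheme.Modules.Hom.app_smul θ.hom r x
  invFun := θ.inv.app U
  left_inv := fun x => by
    have := congrArg (fun φ : M ⟶ M => (Scheme.Modules.Hom.app φ U) x) θ.hom_inv_id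
    exact this
  right_inv := fun x => by
    have := congrArg (fun φ : N ⟶ N => (Scheme.Modules.Hom.app φ U) x) θ.inv_hom_id
    exact this

end sections

variable {X S : Scheme.{u}} (f : X ⟶ S) [IsProper f] [LocallyOfFinitePresentation f]
  (F : X.Modules) (hF : CohB1.IsFP F) (hflat : FlatMod.IsFlatOver f F)

include hF hflat in
/-- helper21's `exists_local_complex_epi`, keeping the vanishing of the complex in degree `1` -/
theorem exists_local_complex_epi' {U : S.Opens} (hU : IsAffineOpen U)
    (hepi : ∀ y ∈ U, Epi (fibreBC f F y)) :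
    ∃ (A₀ : CommRingCat.{u}) (_ : IsNoetherianRing A₀) (φ : A₀ ⟶ Γ(S, U))
      (P : ChainComplex (ModuleCat.{u} A₀) ℤ),
      (∀ i, Module.Finite A₀ (P.X i) ∧ Module.Projective A₀ (P.X i)) ∧
      IsZero (P.X 1) ∧
      (∀ (q : Spec Γ(S, U)) (p : ℕ),
        CohIII.dRank P (-(p : ℤ)) (Spec.map φ q) = PerfAux.betti f F (hU.fromSpec q) p) ∧
      (∀ p : ℕ, Nonempty (Γ((Coh.Rpush f p).obj F, U) ≃ₗ[Γ(S, U)]
        ↑((CohIII.bcCx φ.hom P).homology (-(p : ℤ))))) ∧
      Module.Projective Γ(S, U) ((CohIII.bcCx φ.hom P).opcycles (-1)) := by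
  haveI hq : F.IsQuasicoherent := Groth.Agent.Helper18Strict.isQCoh_of_isFP F hF
  obtain ⟨A₀, hA₀, φ, P, hP, ⟨N, hN⟩, hrk, hH, hK⟩ := exists_local_complex0 f F hF hflat hU
  refine ⟨A₀, hA₀, φ, P, hP, hN 1 (Or.inl one_pos), hrk, hH, ?_⟩
  letI : Algebra A₀ Γ(S, U) := φ.hom.toAlgebra
  let Q := CohIII.bcCx (algebraMap A₀ Γ(S, U)) P
  haveI : ∀ i, Module.Finite Γ(S, U) (Q.X i) := fun i => by
    haveI := (hP i).1
    exact finite_bcCx_X P Γ(S, U) i
  haveI : ∀ i, Module.Projective Γ(S, U) (Q.X i) := fun i => by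
    haveI := (hP i).2
    exact projective_bcCx_X P Γ(S, U) i
  haveI : Module.FinitePresentation Γ(S, U) (Q.opcycles (-1)) :=
    finitePresentation_opcycles Q 0 (-1) (by simp)
  have huniv : Module.freeLocus Γ(S, U) (Q.opcycles (-1)) = Set.univ := by
    rw [Set.eq_univ_iff_forall]
    intro q
    have hy : hU.fromSpec q ∈ U := by
      have := Set.mem_range_self (f := hU.fromSpec) q
      rw [hU.range_fromSpec] at this
      exact this
    set y := hU.fromSpec q with hydef
    have hle : (⊤ : (Spec (S.residueField y)).Opens) ≤ (S.fromSpecResidueField y) ⁻¹ᵁ U := by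
      intro x _
      change S.fromSpecResidueField y x ∈ U
      rw [Scheme.fromSpecResidueField_apply]
      exact hy
    obtain ⟨q', hq'1, hq'2⟩ := exists_mem_freeLocus_of_epi f F (S.fromSpecResidueField y)
      (f.fiberι y) (f.fiberToSpecResidueField y)
      (IsPullback.of_hasPullback f (S.fromSpecResidueField y)) hU hle (hepi y hy) Q
      (hK _ _ _ _ (isAffineOpen_top _) hle).2 default
    have h5 : S.fromSpecResidueField y default = y := Scheme.fromSpecResidueField_apply y default
    have : q' = q := hU.fromSpec.isOpenEmbedding.injective (hq'1.trans h5)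
    rw [← this]
    exact hq'2
  exact Module.freeLocus_eq_univ_iff.mp huniv

include hF hflat in
/-- over an affine open all of whose fibre base change maps are epimorphisms and with `h⁰` of the
fibres equal to `r`, the sections of `R⁰ f_* F` are finite projective of rank `r` -/
theorem finite_projective_rank_sections_R0 {U : S.Opens} (hU : IsAffineOpen U)
    (hepi : ∀ y ∈ U, Epi (fibreBC f F y)) (r : ℕ) (h0 : ∀ s ∈ U, PerfAux.betti f F s 0 = r) :
    Module.Finite Γ(S, U) Γ((Coh.Rpush f 0).obj F, U) ∧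
      Module.Projective Γ(S, U) Γ((Coh.Rpush f 0).obj F, U) ∧
      ∀ q : PrimeSpectrum Γ(S, U), Module.rankAtStalk Γ((Coh.Rpush f 0).obj F, U) q = r := by
  obtain ⟨A₀, hA₀, φ, P, hP, hz, hrk, hH, hW⟩ := exists_local_complex_epi' f F hF hflat hU hepi
  letI : Algebra A₀ Γ(S, U) := φ.hom.toAlgebra
  let Q := CohIII.bcCx (algebraMap A₀ Γ(S, U)) P
  haveI : ∀ i, Module.Finite Γ(S, U) (Q.X i) := fun i => by
    haveI := (hP i).1
    exact finite_bcCx_X P Γ(S, U) i
  haveI : ∀ i, Module.Projective Γ(S, U) (Q.X i) := fun i => by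
    haveI := (hP i).2
    exact projective_bcCx_X P Γ(S, U) i
  have hmem : ∀ x : Spec Γ(S, U), hU.fromSpec x ∈ U := fun x => by
    have := Set.mem_range_self (f := hU.fromSpec) x
    rw [hU.range_fromSpec] at this
    exact this
  have hzQ : IsZero (Q.X 1) :=
    Functor.map_isZero (ModuleCat.extendScalars (algebraMap A₀ Γ(S, U))) hz
  have hd : Q.d 1 0 = 0 := hzQ.eq_of_src _ _
  let e0 : Q.X 0 ≅ Q.opcycles 0 := Q.pOpcyclesIso 1 0 (by simp) hd
  haveI : Module.Finite Γ(S, U) (Q.opcycles 0) := Module.Finite.equiv e0.toLinearEquiv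
  haveI : Module.Projective Γ(S, U) (Q.opcycles 0) := Module.Projective.of_equiv e0.toLinearEquiv
  have e1 : (0 : ℤ) - 1 = -1 := by norm_num
  haveI : Module.Projective Γ(S, U) (Q.opcycles (0 - 1)) := by
    rw [e1]
    exact hW
  obtain ⟨hf, hp⟩ := finite_projective_homology Q 0
  have hH0 := hH 0
  have e2 : (-((0 : ℕ) : ℤ)) = 0 := by norm_num
  rw [e2] at hH0
  obtain ⟨e⟩ := hH0
  haveI := hf
  haveI := hp
  refine ⟨Module.Finite.equiv e.symm, Module.Projective.of_equiv e.symm, fun q => ?_⟩
  haveI : Module.Finite Γ(S, U) Γ((Coh.Rpush f 0).obj F, U) := Module.Finite.equiv e.symm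
  haveI : Module.Projective Γ(S, U) Γ((Coh.Rpush f 0).obj F, U) := Module.Projective.of_equiv e.symm
  rw [Module.rankAtStalk_eq_of_equiv e]
  haveI : Module.Flat Γ(S, U) (Q.X (0 - 1)) := inferInstance
  haveI : Module.Flat Γ(S, U) (Q.opcycles (0 - 1)) := inferInstance
  haveI : Module.Flat Γ(S, U) (Q.homology 0) := inferInstance
  have h1 : Module.rankAtStalk (Q.homology 0) q = CohIII.dRank Q 0 q :=
    Groth.Agent.Lib.Helper2.R1RankA.rankAtStalk_homology Q 0 q
  refine h1.trans ?_
  have hflatP : ∀ i, Module.Flat A₀ (P.X i) := fun i => by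
    haveI := (hP i).2
    infer_instance
  have h3 : CohIII.dRank Q 0 q =
      CohIII.dRank P 0 (PrimeSpectrum.comap (algebraMap A₀ Γ(S, U)) q) :=
    Groth.Agent.S2440.result P hflatP 0 q
  rw [h3]
  have h4 := hrk q 0
  rw [e2, h0 _ (hmem q)] at h4
  exact h4

section main

variable (hO : CohB1.IsFP (Coh.structureModule X))
  (hOflat : FlatMod.IsFlatOver f (Coh.structureModule X))

include hO hOflat in
/-- `Γ(S, U) → Γ(X, f⁻¹ U)` is bijective for `U` affine when `h⁰` of the structure sheaf of the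
fibres over `U` is `1` -/
theorem bijective_app_of_affine {U : S.Opens} (hU : IsAffineOpen U)
    (h0 : ∀ s ∈ U, PerfAux.betti f (Coh.structureModule X) s 0 = 1) :
    Function.Bijective (f.app U).hom := by
  obtain ⟨hfin, hproj, hrk⟩ := finite_projective_rank_sections_R0 f _ hO hOflat hU
    (fun y hy => Groth.Agent.Lib.Helper2.R1RankE.epi_fibreBC_of_betti f y (h0 y hy)) 1 h0
  letI alg : Algebra Γ(S, U) Γ(X, f ⁻¹ᵁ U) := (f.app U).hom.toAlgebra
  let θ := (Functor.rightDerivedZeroIsoSelf (Scheme.Modules.pushforward f)).app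
    (Coh.structureModule X)
  let e1 : Γ((Coh.Rpush f 0).obj (Coh.structureModule X), U) ≃ₗ[Γ(S, U)]
      Γ((Scheme.Modules.pushforward f).obj (Coh.structureModule X), U) := sectionsEquiv θ U
  let e2 : Γ((Scheme.Modules.pushforward f).obj (Coh.structureModule X), U) ≃ₗ[Γ(S, U)]
      Γ(X, f ⁻¹ᵁ U) :=
    { toFun := fun x => x
      map_add' := fun _ _ => rfl
      map_smul' := fun _ _ => rfl
      invFun := fun x => x
      left_inv := fun _ => rfl
      right_inv := fun _ => rfl }
  let e := e1.trans e2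
  haveI := hfin
  haveI := hproj
  haveI : Module.Finite Γ(S, U) Γ(X, f ⁻¹ᵁ U) := Module.Finite.equiv e
  haveI : Module.Projective Γ(S, U) Γ(X, f ⁻¹ᵁ U) := Module.Projective.of_equiv e
  have hr : Module.rankAtStalk (R := Γ(S, U)) Γ(X, f ⁻¹ᵁ U) = 1 := by
    funext q
    rw [← Module.rankAtStalk_eq_of_equiv e, hrk q]
    rfl
  exact Module.algebraMap_bijective_of_rankAtStalk hr

include hO hOflat in
/-- **`O_S → f_* O_X` is an isomorphism** for `f` proper flat of finite presentation with
`h⁰(X_s, O_{X_s}) = 1` for all `s`. -/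
theorem isIso_unitToPush (h0 : ∀ s : S, PerfAux.betti f (Coh.structureModule X) s 0 = 1) :
    IsIso (ClSub.unitToPush f) := by
  refine isIso_of_bijective_on_basis _ (fun i : S.affineOpens => i.1) ?_ ?_
  · have : Set.range (fun i : S.affineOpens => i.1) = S.affineOpens := Subtype.range_coe
    rw [this]
    exact S.isBasis_affineOpens
  · intro i
    exact bijective_app_of_affine f hO hOflat i.2 (fun s _ => h0 s)

end main

end Groth.Agent.Lib.Helper2.R1RankF
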