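import Mathlib
import Groth.Agent.Lib.Helper2GrauertD
import Groth.Agent.Lib.Helper2R1RankF
import Groth.Agent.Lib.Helper18PBUnit3

/-!
# Helper2: Grauert, degree 0 — fibrewise trivial invertible modules over a reduced base are pulled back
-/

set_option autoImplicit false
set_option linter.style.haveILetI false
universe u
open CategoryTheory CategoryTheory.Limits AlgebraicGeometry TopologicalSpace Opposite

namespace Groth.Agent.Lib.Helper2.GrauertE

open Groth.Agent.Lib.Helper23.GenLocus Groth.Agent.Lib.Helper23.SecTw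
  Groth.Agent.Lib.Helper23.Extend Groth.Agent.Lib.Helper23.PB
  Groth.Agent.Lib.Helper6 Groth.Agent.Lib.Helper2.PicFibA Groth.Agent.Helper13PullbackUnit

section betti
variable {X Y : Scheme.{u}} (f : X ⟶ Y)

/-- `h⁰(X_y, O) = 1` in terms of `betti` -/
theorem betti_structure_eq_one (y : Y)
    (h0y : Module.finrank (Y.residueField y) Γ(f.fiber y, ⊤) = 1) :
    PerfAux.betti f (Coh.structureModule X) y 0 = 1 := by
  let k : Type u := Y.residueField y
  let q : f.fiber y ⟶ Spec (CommRingCat.of k) := f.fiberToSpecResidueField y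
  letI : (f.fiber y).Over (Spec (CommRingCat.of k)) := ⟨q⟩
  have e := Groth.Agent.Lib.Helper17.StalkBC.hhEquiv k
    (Groth.Agent.Lib.Helper1.Fib.pullbackUnitIso' (f.fiberι y)) 0
  have h1 := Groth.Agent.Lib.Helper6.H0Const.finrank_hh0 k (f.fiber y)
  have h2 : Module.finrank k (Coh.HH (f.fiber y) (Coh.structureModule (f.fiber y)) 0) = 1 :=
    h1.trans h0y
  rw [← LinearEquiv.finrank_eq e] at h2
  exact h2

/-- `h⁰(X_y, L_y) = 1` for `L` trivial on the fibre -/
theorem betti_eq_one_of_trivial (L : X.Modules) (y : Y)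
    (h0y : Module.finrank (Y.residueField y) Γ(f.fiber y, ⊤) = 1)
    (τ : (Scheme.Modules.pullback (f.fiberι y)).obj L ≅ Coh.structureModule (f.fiber y)) :
    PerfAux.betti f L y 0 = 1 := by
  let k : Type u := Y.residueField y
  let q : f.fiber y ⟶ Spec (CommRingCat.of k) := f.fiberToSpecResidueField y
  letI : (f.fiber y).Over (Spec (CommRingCat.of k)) := ⟨q⟩
  have e := Groth.Agent.Lib.Helper17.StalkBC.hhEquiv k τ 0
  have h1 := Groth.Agent.Lib.Helper6.H0Const.finrank_hh0 k (f.fiber y)
  have h2 : Module.finrank k (Coh.HH (f.fiber y) (Coh.structureModule (f.fiber y)) 0) = 1 :=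
    h1.trans h0y
  rw [← LinearEquiv.finrank_eq e] at h2
  exact h2

end betti

section triv
variable {Z : Scheme.{u}}

/-- a module with a generator over the whole scheme is trivial -/
theorem nonempty_iso_of_isGen_top (N : Z.Modules) (V : Z.Opens) (hV : V = ⊤) (e : Γ(N, V))
    (he : IsGen N V e) : Nonempty (N ≅ Coh.structureModule Z) := by
  subst hV
  let s : Coh.structureModule Z ⟶ N := secHom N e
  haveI : IsIso s := by
    rw [Scheme.Modules.Hom.isIso_iff_isIso_app]
    intro W
    rw [ConcreteCategory.isIso_iff_bijective]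
    have h1 := he W le_top
    have h2 : (fun r : Γ(Z, W) => r • res N (le_top : W ≤ ⊤) e) = fun r => s.app W (toS W r) := by
      funext r
      rw [app_toS, sv_secHom]
    rw [h2] at h1
    exact h1
  exact ⟨(asIso s).symm⟩

end triv

section main
variable {X Y : Scheme.{u}} (f : X ⟶ Y)

/-- a pulled back invertible module is trivial on the fibres -/
theorem nonempty_fiber_iso_of_pullback (M : Y.Modules) (hM : PicF.IsInvertible M) (L : X.Modules)
    (e : (Scheme.Modules.pullback f).obj M ≅ L) (y : Y) :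
    Nonempty ((Scheme.Modules.pullback (f.fiberι y)).obj L ≅ Coh.structureModule (f.fiber y)) := by
  haveI : M.IsQuasicoherent := isQuasicoherent_of_isInvertible M hM
  obtain ⟨W, ε, hyW, hW, hε⟩ := exists_affine_gen M hM y
  let h : f.fiber y ⟶ Y := f.fiberι y ≫ f
  have hgen := isGen_unitSec h M hW ε hε
  have htop : h ⁻¹ᵁ W = ⊤ := by
    ext x
    simp only [Scheme.Hom.coe_preimage, Set.mem_preimage, SetLike.mem_coe, Opens.coe_top,
      Set.mem_univ, iff_true]
    have hx : f.fiberι y x ∈ Set.range (f.fiberι y) := ⟨x, rfl⟩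
    rw [Scheme.Hom.range_fiberι] at hx
    have : h x = y := hx
    rw [this]
    exact hyW
  obtain ⟨θ⟩ := nonempty_iso_of_isGen_top _ _ htop _ hgen
  exact ⟨(Scheme.Modules.pullback (f.fiberι y)).mapIso e.symm ≪≫
    (Scheme.Modules.pullbackComp (f.fiberι y) f).app M ≪≫ θ⟩

/-- **Grauert + seesaw over a reduced base**: `f` proper flat, `Y` locally Noetherian and reduced,
`h⁰(X_y, O) = 1` for all `y`, `L` invertible and trivial on all fibres: then `f_* L` is invertible and
the counit `f^* f_* L ⟶ L` is an isomorphism. -/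
theorem main [IsProper f] [Flat f] [IsLocallyNoetherian Y] [IsReduced Y]
    (h0 : ∀ y : Y, Module.finrank (Y.residueField y) Γ(f.fiber y, ⊤) = 1)
    (L : X.Modules) (hL : PicF.IsInvertible L)
    (htriv : ∀ y : Y, Nonempty ((Scheme.Modules.pullback (f.fiberι y)).obj L ≅
      Coh.structureModule (f.fiber y))) :
    PicF.IsInvertible ((Scheme.Modules.pushforward f).obj L) ∧
      IsIso ((Scheme.Modules.pullbackPushforwardAdjunction f).counit.app L) := by
  haveI : LocallyOfFinitePresentation f := inferInstance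
  haveI : L.IsQuasicoherent := isQuasicoherent_of_isInvertible L hL
  have hinv := Groth.Agent.Lib.Helper23.TensorUnit.isInvertible_structureModule X
  haveI : (Coh.structureModule X).IsQuasicoherent :=
    isQuasicoherent_of_isInvertible _ hinv
  have hflfO : FlatMod.IsFinLocFree (Coh.structureModule X) :=
    Groth.Agent.Lib.Helper23.ResProp.isFinLocFree_of_isInvertible _ hinv
  have hfpO : CohB1.IsFP (Coh.structureModule X) :=
    Groth.Agent.Lib.Helper2.LocFree.isFP_of_isFinLocFree _ hflfO
  have hflO : FlatMod.IsFlatOver f (Coh.structureModule X) :=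
    Groth.Agent.Lib.Helper2.TrivFibB.isFlatOver_of_isFlat'' f _
      (Groth.Agent.Lib.Helper2.LocFree.isFlat_of_isFinLocFree _ hflfO)
  have hbO : ∀ s : Y, PerfAux.betti f (Coh.structureModule X) s 0 = 1 :=
    fun s => betti_structure_eq_one f s (h0 s)
  have hunit : IsIso (ClSub.unitToPush f) :=
    Groth.Agent.Lib.Helper2.R1RankF.isIso_unitToPush f hfpO hflO hbO
  have hbij : ∀ U : Y.Opens, Function.Bijective (f.app U) := by
    intro U
    have h1 := (Scheme.Modules.Hom.isIso_iff_isIso_app (φ := ClSub.unitToPush f)).1 hunit U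
    have h2 := (ConcreteCategory.isIso_iff_bijective _).1 h1
    exact h2
  have hb : ∀ y : Y, PerfAux.betti f L y 0 = 1 := fun y => by
    obtain ⟨τ⟩ := htriv y
    exact betti_eq_one_of_trivial f L y (h0 y) τ
  have hgen := Groth.Agent.Lib.Helper2.GrauertD.exists_isGen f L hL hb htriv
  refine ⟨?_, ?_⟩
  · apply isInvertible_of_isGen
    intro y
    obtain ⟨W, e, hy, he⟩ := hgen y
    exact ⟨W, Groth.Agent.Helper18PBUnit.down f e, hy,
      Groth.Agent.Helper18PBUnit.isGen_pushforward f hbij L e he⟩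
  · haveI qc : ((Scheme.Modules.pushforward f).obj L).IsQuasicoherent :=
      Groth.Agent.Lib.Helper23.QCohLocal.isQuasicoherent_pushforward f L
    let ι : Type u := {V' : X.Opens // IsAffineOpen V' ∧ ∃ W : Y.Opens, IsAffineOpen W ∧
      (∃ e : Γ(L, f ⁻¹ᵁ W), IsGen L (f ⁻¹ᵁ W) e) ∧ V' ≤ f ⁻¹ᵁ W}
    refine Groth.Agent.Helper13AffBC.isIso_of_bijective_on_basis _ (fun i : ι => i.1) ?_ ?_
    · rw [Opens.isBasis_iff_nbhd]
      intro O x hxO
      obtain ⟨W, e, hy, he⟩ := hgen (f x)
      obtain ⟨W', hW', hyW', hW'W⟩ := exists_isAffineOpen_mem_and_subset (x := f x) (U := W) hy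
      obtain ⟨V', hV', hxV', hV'le⟩ := exists_isAffineOpen_mem_and_subset (x := x)
        (U := O ⊓ f ⁻¹ᵁ W') ⟨hxO, hyW'⟩
      refine ⟨V', ⟨⟨V', hV', W', hW', ⟨_, he.mono (f.preimage_mono hW'W)⟩,
        hV'le.trans inf_le_right⟩, rfl⟩, hxV', hV'le.trans inf_le_left⟩
    · rintro ⟨V', hV', W, hW, ⟨e, he⟩, hle⟩
      exact Groth.Agent.Helper18PBUnit.counit_app_bijective f hbij L hW e he hV' hle

end main

end Groth.Agent.Lib.Helper2.GrauertE
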