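import Mathlib
import Groth.Agent.Lib.Helper4CurveGrd
import Groth.Agent.Lib.Helper21ExtCartier2

/-!
# Special sheaves on an integral proper curve, without Serre duality (helper4; S1522, S1531, S1532)

For an integral proper curve `X` over a field `k`, a coherent `M` with a monomorphism into an invertible
`P`: if `H¹(M) ≠ 0` then a nonzero functional `λ` on `H¹(M)` gives an injection
`H⁰(M) → H¹(O)^*`, `t ↦ λ ∘ H¹(t)` (each nonzero `t : O → M` has torsion cokernel, so `H¹(t)` is onto).
Hence `h⁰(M) ≤ g` and `χ(M) ≤ g - 1`.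

* `h0_le_genus_of_mono`, `euler_le_of_mono`;
* `deg_le_of_H1_nontrivial` : `H¹(L) ≠ 0 → deg L ≤ 2g - 1 - h⁰(O)` for invertible `L`;
* `euler_idealMod_tensor` : `χ(I_Z ⊗ L) = χ(L) - h⁰(O_Z)` for `dim Z ≤ 0`;
* `deg_le_of_H1_ideal_nontrivial` (S1531), `ideal_twist` (S1532).
-/

set_option autoImplicit false
set_option linter.style.haveILetI false
universe u
open CategoryTheory CategoryTheory.Limits AlgebraicGeometry TopologicalSpace Opposite

namespace Groth.Agent.Lib.Helper4.CurveSpecial

open Groth.Agent.Lib.Helper27PnSections Groth.Agent.Lib.Helper4.CurveDegSec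
  Groth.Agent.Lib.Helper17.HHLes Groth.Agent.Lib.Helper4.Dev Groth.Agent.Lib.Helper27SerreVan
  Groth.Agent.Lib.Helper6.CurveDeg Groth.Agent.Lib.Helper4.CurveAsym Groth.Agent.Lib.Helper4.CurveGrd

variable (k : Type u) [Field k] (X : Scheme.{u}) [X.Over (Spec (CommRingCat.of k))]
  [IsProper (X ↘ (Spec (CommRingCat.of k)))] [IsIntegral X]

omit [X.Over (Spec (CommRingCat.of k))] [IsProper (X ↘ (Spec (CommRingCat.of k)))] in
/-- a nonzero section of a submodule of an invertible module has cokernel with zero-dimensional support -/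
theorem dim_support_cokernel_of_mono (hdim : topologicalKrullDim X = 1) {M P : X.Modules}
    (hP : PicF.IsInvertible P) (ι : M ⟶ P) [Mono ι] (t : Coh.structureModule X ⟶ M) (ht : t ≠ 0) :
    topologicalKrullDim (CohB1.support (cokernel t)) ≤ 0 := by
  have hO := Groth.Agent.Lib.Helper23.TensorUnit.isInvertible_structureModule X
  have hc : t ≫ ι ≠ 0 := fun h => ht ((cancel_mono ι).1 (h.trans zero_comp.symm))
  haveI : Mono (t ≫ ι) := mono_of_ne_zero hO hP _ hc
  refine dim_le_zero_of_subset X ?_ (dim_support_cokernel_le X hdim hO hP (t ≫ ι) hc)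
  intro x hx hx'
  apply hx
  have hs : Function.Surjective (stalkL (t ≫ ι) x) :=
    stalkL_surjective_of_subsingleton_cokernel (t ≫ ι) x hx'
  apply subsingleton_stalk_cokernel_of_surjective t x
  intro m
  obtain ⟨a, ha⟩ := hs (stalkL ι x m)
  rw [stalkL_comp_apply] at ha
  exact ⟨a, stalkL_injective_of_mono ι x ha⟩

/-- **special sheaves have at most `g` sections** -/
theorem h0_le_genus_of_mono (hdim : topologicalKrullDim X = 1) {M P : X.Modules}
    (hM : Coh.IsCoh M) (hP : PicF.IsInvertible P) (ι : M ⟶ P) [Mono ι]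
    (h1 : Nontrivial (Coh.HH X M 1)) :
    Module.finrank k (Coh.HH X M 0) ≤ Curv2.genus k X := by
  haveI : IsLocallyNoetherian X :=
    LocallyOfFiniteType.isLocallyNoetherian (X ↘ (Spec (CommRingCat.of k)))
  have cO := isCoh_structureModule X
  haveI : Module.Finite k (Coh.HH X (Coh.structureModule X) 1) := Groth.Agent.S0002.result k X _ cO 1
  haveI : Module.Finite k (Coh.HH X M 1) := Groth.Agent.S0002.result k X _ hM 1
  obtain ⟨y, hy⟩ := exists_ne (0 : Coh.HH X M 1)
  obtain ⟨lam, hlam⟩ : ∃ lam : Module.Dual k (Coh.HH X M 1), lam y ≠ 0 := by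
    by_contra hcon
    push_neg at hcon
    exact hy ((Module.forall_dual_apply_eq_zero_iff k y).1 hcon)
  let Φ : (Coh.structureModule X ⟶ M) →ₗ[k] Module.Dual k (Coh.HH X (Coh.structureModule X) 1) :=
    (LinearMap.llcomp k _ _ _ lam).comp (hhMapLin k (Coh.structureModule X) M 1)
  have hΦ : ∀ t, Φ t = lam.comp (Canon.HHlin k t 1) := fun t => rfl
  have hinj : Function.Injective Φ := by
    rw [injective_iff_map_eq_zero]
    intro t ht
    by_contra hne
    have hsupp := dim_support_cokernel_of_mono X hdim hP ι t hne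
    have cQ : Coh.IsCoh (cokernel t) := isCoh_cokernel t cO hM
    have hQ : Subsingleton (Coh.HH X (cokernel t) 1) :=
      Groth.Agent.S1526.result k X _ cQ hsupp 1 le_rfl
    have hs := surjective_H1_of_cokernel k X hdim.le t cO hM hQ
    obtain ⟨z, hz⟩ := hs y
    apply hlam
    rw [← hz]
    have := congrArg (fun f => f z) ht
    rw [hΦ] at this
    exact this
  have h := LinearMap.finrank_le_finrank_of_injective hinj
  rw [finrank_hom_eq, Subspace.dual_finrank_eq] at h
  exact h

/-- `χ(M) ≤ g - 1` for a special submodule of an invertible module -/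
theorem euler_le_of_mono (hdim : topologicalKrullDim X = 1) {M P : X.Modules}
    (hM : Coh.IsCoh M) (hP : PicF.IsInvertible P) (ι : M ⟶ P) [Mono ι]
    (h1 : Nontrivial (Coh.HH X M 1)) :
    Curv2.euler k X M ≤ (Curv2.genus k X : ℤ) - 1 := by
  haveI : IsLocallyNoetherian X :=
    LocallyOfFiniteType.isLocallyNoetherian (X ↘ (Spec (CommRingCat.of k)))
  haveI : Module.Finite k (Coh.HH X M 1) := Groth.Agent.S0002.result k X _ hM 1
  have h0 := h0_le_genus_of_mono k X hdim hM hP ι h1
  have hpos : 0 < Module.finrank k (Coh.HH X M 1) := Module.finrank_pos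
  rw [Groth.Agent.Lib.Helper4.CurveRR.euler_eq_h0_sub_h1 k X hdim.le M hM]
  have h0' : (Module.finrank k (Coh.HH X M 0) : ℤ) ≤ (Curv2.genus k X : ℤ) := by exact_mod_cast h0
  have hpos' : (1 : ℤ) ≤ (Module.finrank k (Coh.HH X M 1) : ℤ) := by exact_mod_cast hpos
  linarith

omit [IsIntegral X] in
/-- `χ(O) = h⁰(O) - g` -/
theorem euler_structureModule (hdim : topologicalKrullDim X = 1) :
    Curv2.euler k X (Coh.structureModule X) =
      (Module.finrank k (Coh.HH X (Coh.structureModule X) 0) : ℤ) - (Curv2.genus k X : ℤ) := by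
  rw [Groth.Agent.Lib.Helper4.CurveRR.euler_eq_h0_sub_h1 k X hdim.le _ (isCoh_structureModule X)]
  rfl

/-- a special invertible module has degree at most `2g - 1 - h⁰(O)` -/
theorem deg_le_of_H1_nontrivial (hdim : topologicalKrullDim X = 1) (L : X.Modules)
    (hL : PicF.IsInvertible L) (h1 : Nontrivial (Coh.HH X L 1)) :
    Curv2.deg k X L 1 ≤ 2 * (Curv2.genus k X : ℤ) - 1 -
      (Module.finrank k (Coh.HH X (Coh.structureModule X) 0) : ℤ) := by
  have h := euler_le_of_mono k X hdim (isCoh_of_isInvertible L hL) hL (𝟙 L) h1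
  unfold Curv2.deg
  rw [euler_structureModule k X hdim]
  push_cast
  linarith

omit [IsIntegral X] in
/-- the support of `O_Z` has dimension `≤ 0` if `Z` has -/
theorem dim_support_quotMod_le (Z : X.IdealSheafData)
    (hZ : topologicalKrullDim (Z.support : Set X) ≤ 0) :
    topologicalKrullDim (CohB1.support (ClSub.quotMod Z)) ≤ 0 := by
  refine dim_le_zero_of_subset X ?_ hZ
  have h := support_push_subset Z.subschemeι (Coh.structureModule Z.subscheme)
  rw [Scheme.IdealSheafData.range_subschemeι] at h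
  exact h

omit [IsIntegral X] in
/-- `χ(I_Z ⊗ L) = χ(L) - h⁰(O_Z)` for a closed subscheme `Z` of dimension `≤ 0` -/
theorem euler_idealMod_tensor (L : X.Modules) (hL : PicF.IsInvertible L) (Z : X.IdealSheafData)
    (hZ : topologicalKrullDim (Z.support : Set X) ≤ 0) :
    Curv2.euler k X (CohB1.tensorMod (ClSub.idealMod Z) L) =
      Curv2.euler k X L - (Module.finrank k (Coh.HH X (ClSub.quotMod Z) 0) : ℤ) := by
  have cI := Groth.Agent.Lib.Helper4.CurvePt.isCoh_idealMod k X Z
  have cQ := Groth.Agent.Lib.Helper4.CurvePt.isCoh_quotMod k X Z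
  have cO := isCoh_structureModule X
  have cL := isCoh_of_isInvertible L hL
  have hse := shortExact_tw L hL (Groth.Agent.Lib.Helper21.ExtCartier.idealSES Z)
    (Groth.Agent.Lib.Helper21.ExtCartier.idealSES_shortExact Z)
  have hadd := Groth.Agent.Lib.Helper6.Euler.euler_additive k X _ hse
    (isCoh_tensorMod X _ L cI cL) (isCoh_tensorMod X _ L cO cL) (isCoh_tensorMod X _ L cQ cL)
  change Curv2.euler k X (CohB1.tensorMod (Coh.structureModule X) L) =
    Curv2.euler k X (CohB1.tensorMod (ClSub.idealMod Z) L) +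
      Curv2.euler k X (CohB1.tensorMod (ClSub.quotMod Z) L) at hadd
  have hsupp := dim_support_quotMod_le X Z hZ
  have h1 := Groth.Agent.Lib.Helper4.ZeroDimChi.euler_tensor_locFree k (ClSub.quotMod Z) cQ hsupp 1 L
    (Groth.Agent.Lib.Helper23.SecTw.isFinLocFreeOfRank_one_of_isInvertible L hL)
  have h2 := Groth.Agent.Lib.Helper4.CurvePt.h0_eq_euler_of_dim_le_zero k X (ClSub.quotMod Z) cQ hsupp
  have h3 := Groth.Agent.Lib.Helper4.CurveChi.euler_congr_iso k
    (Groth.Agent.Lib.Helper23.TensorUnit.unitTensorIso L)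
  rw [h3, h1, h2] at hadd
  push_cast at hadd
  linarith

/-- the inclusion `I_Z ⊗ L → O ⊗ L ≅ L` -/
theorem exists_mono_idealMod_tensor (L : X.Modules) (hL : PicF.IsInvertible L) (Z : X.IdealSheafData) :
    ∃ ι : CohB1.tensorMod (ClSub.idealMod Z) L ⟶ L, Mono ι := by
  have hse := shortExact_tw L hL (Groth.Agent.Lib.Helper21.ExtCartier.idealSES Z)
    (Groth.Agent.Lib.Helper21.ExtCartier.idealSES_shortExact Z)
  let a : CohB1.tensorMod (ClSub.idealMod Z) L ⟶ CohB1.tensorMod (Coh.structureModule X) L :=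
    (tw L).map (ClSub.idealModι Z)
  haveI : Mono a := hse.mono_f
  exact ⟨a ≫ (Groth.Agent.Lib.Helper23.TensorUnit.unitTensorIso L).hom, mono_comp _ _⟩

/-- **S1531** -/
theorem deg_le_of_H1_ideal_nontrivial (hdim : topologicalKrullDim X = 1)
    (h0 : Module.finrank k (Coh.HH X (Coh.structureModule X) 0) = 1)
    (L : X.Modules) (hL : PicF.IsInvertible L) (Z : X.IdealSheafData)
    (hZ : topologicalKrullDim (Z.support : Set X) ≤ 0)
    (h1 : Nontrivial (Coh.HH X (CohB1.tensorMod (ClSub.idealMod Z) L) 1)) :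
    Curv2.deg k X L 1 ≤ 2 * (Curv2.genus k X : ℤ) - 2 +
      Module.finrank k (Coh.HH X (ClSub.quotMod Z) 0) := by
  obtain ⟨ι, hι⟩ := exists_mono_idealMod_tensor X L hL Z
  have cI := Groth.Agent.Lib.Helper4.CurvePt.isCoh_idealMod k X Z
  have cL := isCoh_of_isInvertible L hL
  have h := euler_le_of_mono k X hdim (isCoh_tensorMod X _ L cI cL) hL ι h1
  rw [euler_idealMod_tensor k X L hL Z hZ] at h
  unfold Curv2.deg
  rw [euler_structureModule k X hdim, h0]
  push_cast
  linarith

/-- **S1532** -/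
theorem ideal_twist (hdim : topologicalKrullDim X = 1)
    (h0 : Module.finrank k (Coh.HH X (Coh.structureModule X) 0) = 1)
    (L : X.Modules) (hL : PicF.IsInvertible L) (Z : X.IdealSheafData)
    (hZ : topologicalKrullDim (Z.support : Set X) ≤ 0)
    (hdeg : 2 * (Curv2.genus k X : ℤ) - 2 + Module.finrank k (Coh.HH X (ClSub.quotMod Z) 0) <
      Curv2.deg k X L 1) :
    Subsingleton (Coh.HH X (CohB1.tensorMod (ClSub.idealMod Z) L) 1) ∧
      (Subsingleton (Coh.HH X (CohB1.tensorMod (ClSub.idealMod Z) L) 0) →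
        Curv2.genus k X = 0 ∧
          Curv2.deg k X L 1 = Module.finrank k (Coh.HH X (ClSub.quotMod Z) 0) - 1) := by
  have hv : Subsingleton (Coh.HH X (CohB1.tensorMod (ClSub.idealMod Z) L) 1) := by
    by_contra hns
    rw [not_subsingleton_iff_nontrivial] at hns
    have := deg_le_of_H1_ideal_nontrivial k X hdim h0 L hL Z hZ hns
    linarith
  refine ⟨hv, fun hv0 => ?_⟩
  have cI := Groth.Agent.Lib.Helper4.CurvePt.isCoh_idealMod k X Z
  have cL := isCoh_of_isInvertible L hL
  have hχ := Groth.Agent.Lib.Helper4.CurveRR.euler_eq_h0_sub_h1 k X hdim.le _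
    (isCoh_tensorMod X _ L cI cL)
  rw [Module.finrank_zero_of_subsingleton, Module.finrank_zero_of_subsingleton,
    euler_idealMod_tensor k X L hL Z hZ] at hχ
  have hd : Curv2.deg k X L 1 = Curv2.euler k X L - (1 - (Curv2.genus k X : ℤ)) := by
    unfold Curv2.deg
    rw [euler_structureModule k X hdim, h0]
    push_cast
    ring
  have hg : Curv2.genus k X = 0 := by
    have : (Curv2.genus k X : ℤ) < 1 := by
      push_cast at hχ
      linarith
    omega
  refine ⟨hg, ?_⟩
  rw [hd, hg]
  push_cast at hχ ⊢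
  linarith

end Groth.Agent.Lib.Helper4.CurveSpecial
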