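import Mathlib
import Groth.Agent.Lib.Helper4CurveSpecial
import Groth.Agent.Lib.Helper4CurveBun2
import Groth.Agent.Lib.Helper1Fib3
import Groth.Agent.Lib.Helper23PB
import Groth.Agent.Lib.Helper17StalkBC3

/-!
# Fibrewise vanishing of `H¹` for line bundles of large degree on a smooth proper relative curve
(helper2)
-/

set_option autoImplicit false
set_option linter.style.haveILetI false
universe u
open CategoryTheory CategoryTheory.Limits AlgebraicGeometry TopologicalSpace

namespace Groth.Agent.Lib.Helper2.RelCurveA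

theorem subsingleton_fiberH_one {C S : Scheme.{u}} (f : C ⟶ S) [Smooth f] [IsProper f]
    [GeometricallyConnected f] (s : S) (hdim : topologicalKrullDim ↥(f.fiber s) = 1)
    (L : C.Modules) (hL : PicF.IsInvertible L)
    (hdeg : ((CohIII.fiberRank f L 0 s : ℤ) - CohIII.fiberRank f L 1 s) -
        (1 - (CohIII.fiberRank f (Coh.structureModule C) 1 s : ℤ)) >
      2 * (CohIII.fiberRank f (Coh.structureModule C) 1 s : ℤ) - 2) :
    Subsingleton (CohIII.fiberH f L s 1) := by
  by_contra hns
  rw [not_subsingleton_iff_nontrivial] at hns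
  let k : Type u := S.residueField s
  let X : Scheme.{u} := f.fiber s
  letI : X.Over (Spec (CommRingCat.of k)) := CohIII.fiberOver f s
  haveI : IsProper (X ↘ Spec (CommRingCat.of k)) :=
    MorphismProperty.pullback_snd (P := @IsProper) f (S.fromSpecResidueField s) inferInstance
  haveI : Smooth (X ↘ Spec (CommRingCat.of k)) :=
    MorphismProperty.pullback_snd (P := @Smooth) f (S.fromSpecResidueField s) inferInstance
  haveI : GeometricallyConnected (X ↘ Spec (CommRingCat.of k)) :=
    inferInstanceAs (GeometricallyConnected (f.fiberToSpecResidueField s))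
  haveI : IsIntegral X :=
    Groth.Agent.Lib.Helper4.CurveBun.isIntegral_of_smooth_geomConn k X (X ↘ Spec (CommRingCat.of k))
  haveI : IsLocallyNoetherian X :=
    LocallyOfFiniteType.isLocallyNoetherian (X ↘ (Spec (CommRingCat.of k)))
  let Ls : X.Modules := (Scheme.Modules.pullback (f.fiberι s)).obj L
  have hLs : PicF.IsInvertible Ls := Groth.Agent.Lib.Helper23.PB.isInvertible_pullback _ L hL
  have cLs : Coh.IsCoh Ls := Groth.Agent.Lib.Helper6.CurveDeg.isCoh_of_isInvertible Ls hLs
  have h1 : Nontrivial (Coh.HH X Ls 1) := hns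
  have h0 := Groth.Agent.Lib.Helper4.CurveSpecial.h0_le_genus_of_mono k X hdim cLs hLs (𝟙 Ls) h1
  haveI : Module.Finite k (Coh.HH X Ls 1) := Groth.Agent.S0002.result k X _ cLs 1
  have hpos : 0 < Module.finrank k (Coh.HH X Ls 1) := Module.finrank_pos
  have e := Groth.Agent.Lib.Helper17.StalkBC.hhEquiv k
    (Groth.Agent.Lib.Helper1.Fib.pullbackUnitIso' (f.fiberι s)) 1
  have hg : CohIII.fiberRank f (Coh.structureModule C) 1 s = Curv2.genus k X :=
    LinearEquiv.finrank_eq e
  have ha : CohIII.fiberRank f L 0 s = Module.finrank k (Coh.HH X Ls 0) := rfl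
  have hb : CohIII.fiberRank f L 1 s = Module.finrank k (Coh.HH X Ls 1) := rfl
  rw [hg, ha, hb] at hdeg
  have h0' : (Module.finrank k (Coh.HH X Ls 0) : ℤ) ≤ (Curv2.genus k X : ℤ) := by exact_mod_cast h0
  have hpos' : (1 : ℤ) ≤ (Module.finrank k (Coh.HH X Ls 1) : ℤ) := by exact_mod_cast hpos
  linarith

end Groth.Agent.Lib.Helper2.RelCurveA
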