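import Mathlib
import Groth.Agent.Lib.Helper2RelCurveA
import Groth.Agent.Lib.Helper1PC7
import Groth.Agent.Lib.Helper23ResProp
import Groth.Agent.Lib.Helper21HZB9
import Groth.Agent.Lib.Helper2LocFree
import Groth.Agent.Lib.Helper2FFComp
import Groth.Agent.S15985
import Groth.Agent.S7759

/-!
# `R¹ f_* L = 0` and `f_* L` finite locally free for line bundles of large fibre degree on a smooth
proper relative curve (helper2)
-/

set_option autoImplicit false
set_option linter.style.haveILetI false
universe u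
open CategoryTheory CategoryTheory.Limits AlgebraicGeometry TopologicalSpace

namespace Groth.Agent.Lib.Helper2.RelCurveB

open Groth.Agent.Lib.Helper2.RelCurveA

theorem isFlatOver_of_isFlat' {X S : Scheme.{u}} (f : X ⟶ S) [Flat f] (M : X.Modules)
    (h : FlatMod.IsFlat M) : FlatMod.IsFlatOver f M := by
  intro x
  unfold FlatMod.IsFlatOverAt
  letI := FlatMod.moduleStalkOver f M x
  haveI : Module.Flat (X.presheaf.stalk x) (M.presheaf.stalk x) := h x
  exact Groth.Agent.Lib.Helper2.FFComp.flat_trans_of_compat (A := S.presheaf.stalk (f.base x))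
    (B := X.presheaf.stalk x) (M := M.presheaf.stalk x) (f.stalkMap x).hom (fun a m => rfl)
    (Flat.stalkMap f x)

theorem main {C S : Scheme.{u}} (f : C ⟶ S) [Smooth f] [IsProper f] [GeometricallyConnected f]
    (hdim : ∀ s : S, topologicalKrullDim ↥(f.fiber s) = 1) (L : C.Modules)
    (hL : PicF.IsInvertible L)
    (hdeg : ∀ s : S, ((CohIII.fiberRank f L 0 s : ℤ) - CohIII.fiberRank f L 1 s) -
        (1 - (CohIII.fiberRank f (Coh.structureModule C) 1 s : ℤ)) >
      2 * (CohIII.fiberRank f (Coh.structureModule C) 1 s : ℤ) - 2)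
    [HasInjectiveResolutions C.Modules] :
    IsZero ((Coh.Rpush f 1).obj L) ∧ FlatMod.IsFinLocFree ((Coh.push f).obj L) ∧
      ∀ s : S, CohIII.fiberRank f L 1 s = 0 := by
  have key : ∀ s, Subsingleton (CohIII.fiberH f L s 1) := fun s =>
    subsingleton_fiberH_one f s (hdim s) L hL (hdeg s)
  have hflf : FlatMod.IsFinLocFree L :=
    Groth.Agent.Lib.Helper23.ResProp.isFinLocFree_of_isInvertible L hL
  haveI : Coh.IsQCoh L := Groth.Agent.Lib.Helper21.HZB.isQuasicoherent_of_isFinLocFree L hflf
  have hfp : CohB1.IsFP L := Groth.Agent.Lib.Helper2.LocFree.isFP_of_isFinLocFree L hflf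
  haveI : Flat f := inferInstance
  haveI : LocallyOfFinitePresentation f := inferInstance
  have hfl : FlatMod.IsFlatOver f L :=
    isFlatOver_of_isFlat' f L (Groth.Agent.Lib.Helper2.LocFree.isFlat_of_isFinLocFree L hflf)
  refine ⟨Groth.Agent.S15985.result f L hfp hfl 1 key, ?_, ?_⟩
  · refine Groth.Agent.Lib.Helper1.SPL.isFinLocFree_of_local _ fun s => ?_
    obtain ⟨U, hsU, -, hU⟩ := Groth.Agent.S7759.result f L hfp hfl s (key s)
    refine ⟨U, U.ι, inferInstance, ?_, hU⟩
    rw [Scheme.Opens.opensRange_ι]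
    exact hsU
  · intro s
    haveI := key s
    exact Module.finrank_zero_of_subsingleton

end Groth.Agent.Lib.Helper2.RelCurveB
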