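import Mathlib
import Groth.Agent.Lib.Helper3CompDim
import Groth.Agent.Lib.Helper3SmDim
import Groth.Agent.Lib.Helper4FibDimK
import Groth.Agent.Lib.Helper3FlatFibDim2
import Groth.Agent.Lib.Helper6LfpComp

/-!
# Fibres of a flat morphism from a smooth surface to a smooth curve have dimension at most one
(helper2)

Namespace `Groth.Agent.Lib.Helper2.SurfFibA`.
-/

set_option autoImplicit false
set_option linter.style.haveILetI false
universe u
open CategoryTheory CategoryTheory.Limits AlgebraicGeometry TopologicalSpace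

namespace Groth.Agent.Lib.Helper2.SurfFibA

/-- cancellation in `WithBot ℕ∞` -/
theorem natCast_le_of_add_one_eq_two (a : WithBot ℕ∞) (n : ℕ) (h : (2 : WithBot ℕ∞) = a + 1)
    (hn : (n : WithBot ℕ∞) ≤ a) : (n : WithBot ℕ∞) ≤ 1 := by
  induction a using WithBot.recBotCoe with
  | bot => simp at hn
  | coe a =>
    induction a using ENat.recTopCoe with
    | top =>
      exfalso
      have h1 : ((⊤ : ℕ∞) : WithBot ℕ∞) + 1 = ((⊤ : ℕ∞) : WithBot ℕ∞) := by
        rw [show (1 : WithBot ℕ∞) = ((1 : ℕ∞) : WithBot ℕ∞) from rfl, ← WithBot.coe_add, top_add]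
      rw [h1] at h
      have h2 : (2 : WithBot ℕ∞) = ((2 : ℕ∞) : WithBot ℕ∞) := rfl
      rw [h2] at h
      exact absurd (WithBot.coe_injective h) (by simp)
    | coe m =>
      have h2 : (2 : WithBot ℕ∞) = (((2 : ℕ) : ℕ∞) : WithBot ℕ∞) := rfl
      have h3 : (((m : ℕ∞) : WithBot ℕ∞)) + 1 = ((((m + 1 : ℕ)) : ℕ∞) : WithBot ℕ∞) := by
        push_cast
        rfl
      rw [h2, h3] at h
      have h4 : (2 : ℕ) = m + 1 := by exact_mod_cast h
      have h5 : n ≤ m := by exact_mod_cast hn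
      have h6 : n ≤ 1 := by omega
      exact_mod_cast h6

variable {k : Type u} [Field k] {X S : Scheme.{u}}

theorem dim_fiber_le_one (π : X ⟶ S) (g : S ⟶ Spec (CommRingCat.of k))
    [SmoothOfRelativeDimension 1 g] [SmoothOfRelativeDimension 2 (π ≫ g)] [Flat π] (t : S) :
    topologicalKrullDim ↥(π.fiber t) ≤ 1 := by
  haveI : Smooth g := SmoothOfRelativeDimension.smooth 1 g
  haveI : Smooth (π ≫ g) := SmoothOfRelativeDimension.smooth 2 (π ≫ g)
  haveI : LocallyOfFiniteType π := locallyOfFiniteType_of_comp π g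
  apply Groth.Agent.Lib.Helper3.FlatFibDim2.le_of_forall_natCast_le
  intro n hn
  obtain ⟨c, hc, hle⟩ :=
    (Groth.Agent.Lib.Helper4.FibDim.natCast_le_topologicalKrullDim_fiber_iff π t n).1 hn
  have h1 := (Groth.Agent.Lib.Helper3.CompDim.fibreDimAt_comp π g c).2 (Flat.stalkMap π c)
  have h2 := Groth.Agent.Lib.Helper3.SmDim.fibreDimAt_eq_of_smoothOfRelativeDimension 2 (π ≫ g) c
  have h3 := Groth.Agent.Lib.Helper3.SmDim.fibreDimAt_eq_of_smoothOfRelativeDimension 1 g (π c)
  rw [h2, h3] at h1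
  exact natCast_le_of_add_one_eq_two _ n h1 hle

end Groth.Agent.Lib.Helper2.SurfFibA
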