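import Mathlib
import Groth.Agent.Lib.Helper2SurfFibA
import Groth.Agent.Lib.Helper2TopCohB
import Groth.Agent.Lib.Helper2RelCurveB
import Groth.Agent.Lib.Helper2LocFree
import Groth.Agent.Lib.Helper23ResProp
import Groth.Agent.Lib.Helper23TensorUnit
import Groth.Agent.Lib.Helper6H0Const
import Groth.Agent.Lib.Helper17StalkBC3
import Groth.Agent.Lib.Helper1Fib3
import Groth.Agent.Lib.Helper21SemicontB
import Groth.Agent.Lib.Helper21BC0MainD
import Groth.Agent.Lib.Helper10WeilPt
import Groth.Agent.S2431

/-!
# Betti numbers of the structure sheaf on the fibres of a flat proper morphism from a smooth proper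
surface to a smooth curve (helper2)

Namespace `Groth.Agent.Lib.Helper2.SurfFibB`.
-/

set_option autoImplicit false
set_option linter.style.haveILetI false
universe u
open CategoryTheory CategoryTheory.Limits AlgebraicGeometry TopologicalSpace

namespace Groth.Agent.Lib.Helper2.SurfFibB

open Groth.Agent.Lib.Helper6.H0Const

theorem isFP_structureModule (X : Scheme.{u}) : CohB1.IsFP (Coh.structureModule X) := by
  have hinv := Groth.Agent.Lib.Helper23.TensorUnit.isInvertible_structureModule X
  have hflf : FlatMod.IsFinLocFree (Coh.structureModule X) :=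
    Groth.Agent.Lib.Helper23.ResProp.isFinLocFree_of_isInvertible _ hinv
  exact Groth.Agent.Lib.Helper2.LocFree.isFP_of_isFinLocFree _ hflf

theorem isFlatOver_structureModule {X S : Scheme.{u}} (f : X ⟶ S) [Flat f] :
    FlatMod.IsFlatOver f (Coh.structureModule X) := by
  have hinv := Groth.Agent.Lib.Helper23.TensorUnit.isInvertible_structureModule X
  have hflf : FlatMod.IsFinLocFree (Coh.structureModule X) :=
    Groth.Agent.Lib.Helper23.ResProp.isFinLocFree_of_isInvertible _ hinv
  exact Groth.Agent.Lib.Helper2.RelCurveB.isFlatOver_of_isFlat' f _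
    (Groth.Agent.Lib.Helper2.LocFree.isFlat_of_isFinLocFree _ hflf)

section General

variable {X S : Scheme.{u}} (f : X ⟶ S)

/-- `h⁰(X_s, O)` is the dimension of the ring of global functions of the fibre -/
theorem betti_zero_eq_finrank (s : S) :
    letI : Algebra (S.residueField s) Γ(f.fiber s, ⊤) :=
      (gsMap (S.residueField s) (f.fiberToSpecResidueField s)).hom.toAlgebra
    PerfAux.betti f (Coh.structureModule X) s 0 =
      Module.finrank (S.residueField s) Γ(f.fiber s, ⊤) := by
  let k : Type u := S.residueField s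
  let q : f.fiber s ⟶ Spec (CommRingCat.of k) := f.fiberToSpecResidueField s
  letI : (f.fiber s).Over (Spec (CommRingCat.of k)) := ⟨q⟩
  have e := Groth.Agent.Lib.Helper17.StalkBC.hhEquiv k
    (Groth.Agent.Lib.Helper1.Fib.pullbackUnitIso' (f.fiberι s)) 0
  exact (LinearEquiv.finrank_eq e).trans (finrank_hh0 k (f.fiber s))

/-- `h⁰(X_s, O) = 1` for a connected reduced fibre over a point with algebraically closed residue
field -/
theorem betti_zero_eq_one [IsProper f] (s : S) [IsAlgClosed (S.residueField s)]
    [IsReduced (f.fiber s)] [ConnectedSpace ↥(f.fiber s)] :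
    PerfAux.betti f (Coh.structureModule X) s 0 = 1 := by
  rw [betti_zero_eq_finrank]
  let k : Type u := S.residueField s
  let q : f.fiber s ⟶ Spec (CommRingCat.of k) := f.fiberToSpecResidueField s
  haveI : IsProper q :=
    MorphismProperty.pullback_snd (P := @IsProper) f (S.fromSpecResidueField s) inferInstance
  letI alg : Algebra k Γ(f.fiber s, ⊤) := (gsMap k q).hom.toAlgebra
  haveI : Algebra.IsIntegral k Γ(f.fiber s, ⊤) := ⟨gsMap_isIntegral k q⟩
  haveI : Nontrivial Γ(f.fiber s, ⊤) := by
    obtain ⟨y⟩ := (inferInstance : Nonempty ↥(f.fiber s))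
    exact @Scheme.component_nontrivial (f.fiber s) ⊤ ⟨⟨y, trivial⟩⟩
  have hbij : Function.Bijective (algebraMap k Γ(f.fiber s, ⊤)) :=
    bijective_algebraMap_of_isAlgClosed k Γ(f.fiber s, ⊤)
      (eq_zero_or_one_of_isIdempotentElem (Y := f.fiber s))
  change Module.finrank k Γ(f.fiber s, ⊤) = 1
  rw [← (LinearEquiv.ofBijective (Algebra.linearMap k Γ(f.fiber s, ⊤)) hbij).finrank_eq]
  exact Module.finrank_self k

/-- `h⁰(X_s, O) ≠ 0` for a nonempty fibre of a proper morphism -/
theorem betti_zero_ne_zero [IsProper f] (s : S) [Nonempty ↥(f.fiber s)] :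
    PerfAux.betti f (Coh.structureModule X) s 0 ≠ 0 := by
  intro h0
  have hfin := Groth.Agent.Lib.Helper21.BC0Main.finite_fiberH f (Coh.structureModule X)
    (isFP_structureModule X) s 0
  have hsub : Subsingleton (PerfAux.fiberH f (Coh.structureModule X) s 0) :=
    (Groth.Agent.Lib.Helper21.BC0Main.subsingleton_fiberH_iff f (Coh.structureModule X)
      (isFP_structureModule X) s 0).2 h0
  let k : Type u := S.residueField s
  let q : f.fiber s ⟶ Spec (CommRingCat.of k) := f.fiberToSpecResidueField s
  letI : (f.fiber s).Over (Spec (CommRingCat.of k)) := ⟨q⟩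
  have e := Groth.Agent.Lib.Helper17.StalkBC.hhEquiv k
    (Groth.Agent.Lib.Helper1.Fib.pullbackUnitIso' (f.fiberι s)) 0
  haveI : Subsingleton (Coh.HH (f.fiber s) (Coh.structureModule (f.fiber s)) 0) :=
    e.symm.toEquiv.subsingleton
  haveI : Subsingleton Γ(f.fiber s, ⊤) := (hh0Unit (f.fiber s)).symm.toEquiv.subsingleton
  haveI : Nontrivial Γ(f.fiber s, ⊤) := by
    obtain ⟨y⟩ := (inferInstance : Nonempty ↥(f.fiber s))
    exact @Scheme.component_nontrivial (f.fiber s) ⊤ ⟨⟨y, trivial⟩⟩
  exact not_subsingleton Γ(f.fiber s, ⊤) inferInstance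

/-- the Euler characteristic when the higher Betti numbers vanish -/
theorem eulerChar_eq (F : X.Modules) (s : S)
    (hvan : ∀ i : ℕ, 2 ≤ i → PerfAux.betti f F s i = 0) :
    PerfAux.eulerChar f F s = (PerfAux.betti f F s 0 : ℤ) - (PerfAux.betti f F s 1 : ℤ) := by
  unfold PerfAux.eulerChar
  rw [finsum_eq_sum_of_support_subset (s := {0, 1})]
  · rw [Finset.sum_pair (by norm_num)]
    ring
  · intro i hi
    by_contra h
    have h2 : 2 ≤ i := by
      simp only [Finset.coe_insert, Finset.coe_singleton, Set.mem_insert_iff,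
        Set.mem_singleton_iff, not_or] at h
      omega
    apply hi
    show (-1 : ℤ) ^ i * (PerfAux.betti f F s i : ℤ) = 0
    rw [hvan i h2]
    simp

end General

section Main

variable {k : Type u} [Field k] [IsAlgClosed k] {X S : Scheme.{u}}

theorem main (π : X ⟶ S) (g : S ⟶ Spec (CommRingCat.of k))
    [SmoothOfRelativeDimension 1 g] [IrreducibleSpace S]
    [SmoothOfRelativeDimension 2 (π ≫ g)]
    [IsProper π] [Flat π]
    (hO : ∀ U : S.Opens, Function.Bijective (π.app U))
    (s : S) (hs : IsClosed ({s} : Set S)) [AlgebraicGeometry.IsReduced (π.fiber s)] :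
    PerfAux.betti π (Coh.structureModule X) s 0 = 1 ∧
      PerfAux.betti π (Coh.structureModule X) s 1 =
        PerfAux.betti π (Coh.structureModule X) (genericPoint S) 1 := by
  haveI : Smooth g := SmoothOfRelativeDimension.smooth 1 g
  haveI : Smooth (π ≫ g) := SmoothOfRelativeDimension.smooth 2 (π ≫ g)
  haveI : IsLocallyNoetherian S := LocallyOfFiniteType.isLocallyNoetherian g
  haveI : LocallyOfFinitePresentation π :=
    Groth.Agent.Lib.Helper6.locallyOfFinitePresentation_of_comp (g := g) inferInstance inferInstance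
  have hiso : ∀ U : S.Opens, IsIso (π.app U) := fun U =>
    (ConcreteCategory.isIso_iff_bijective (π.app U)).2 (hO U)
  have hconn := (Groth.Agent.S2431.result π hiso).1
  -- the residue field of `s` is algebraically closed
  haveI : IsAlgClosed (S.residueField s) := by
    have hb := Groth.Agent.Lib.Helper10.WeilPt.bijective_resHom g s hs
    exact IsAlgClosed.of_ringEquiv (k := k) (S.residueField s) (RingEquiv.ofBijective _ hb)
  haveI := hconn s
  have h0 : PerfAux.betti π (Coh.structureModule X) s 0 = 1 := betti_zero_eq_one π s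
  refine ⟨h0, ?_⟩
  set η := genericPoint S with hη
  have hfp := isFP_structureModule X
  have hflat := isFlatOver_structureModule π
  -- vanishing of the higher Betti numbers
  have hvan : ∀ (t : S) (i : ℕ), 2 ≤ i → PerfAux.betti π (Coh.structureModule X) t i = 0 := by
    intro t i hi
    haveI := Groth.Agent.Lib.Helper2.TopCohB.subsingleton_fiberH_of_dim_lt π
      (Coh.structureModule X) t 1 (Groth.Agent.Lib.Helper2.SurfFibA.dim_fiber_le_one π g t) i
      (by omega)
    exact Module.finrank_zero_of_subsingleton
  -- the Euler characteristic is constant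
  have hχ : PerfAux.eulerChar π (Coh.structureModule X) s =
      PerfAux.eulerChar π (Coh.structureModule X) η :=
    (Groth.Agent.Lib.Helper21.Semicont.isLocallyConstant_eulerChar π _ hfp
      hflat).apply_eq_of_preconnectedSpace s η
  rw [eulerChar_eq π _ s (hvan s), eulerChar_eq π _ η (hvan η), h0] at hχ
  -- `h⁰` of the generic fibre
  have hle : PerfAux.betti π (Coh.structureModule X) η 0 < 2 := by
    have hopen := Groth.Agent.Lib.Helper21.Semicont.isOpen_betti_lt π _ hfp hflat 0 2
    have hsp : η ⤳ s := genericPoint_specializes s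
    exact hsp.mem_open hopen (by show PerfAux.betti π _ s 0 < 2; rw [h0]; norm_num)
  haveI := hconn η
  have hne := betti_zero_ne_zero π η
  have h1 : PerfAux.betti π (Coh.structureModule X) η 0 = 1 := by omega
  rw [h1] at hχ
  have : (PerfAux.betti π (Coh.structureModule X) s 1 : ℤ) =
      (PerfAux.betti π (Coh.structureModule X) η 1 : ℤ) := by linarith
  exact_mod_cast this

end Main

end Groth.Agent.Lib.Helper2.SurfFibB
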