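import Mathlib
import Groth.Agent.Lib.Helper2GrauertE
import Groth.Agent.Lib.Helper2SurfFibB

/-!
# Helper2: Grauert + seesaw, variants: `h⁰(X_y, O) = 1` in `betti` form; integral fibres over a variety
over an algebraically closed field
-/

set_option autoImplicit false
set_option linter.style.haveILetI false
universe u
open CategoryTheory CategoryTheory.Limits AlgebraicGeometry TopologicalSpace Opposite

namespace Groth.Agent.Lib.Helper2.GrauertF

open Groth.Agent.Lib.Helper23.GenLocus Groth.Agent.Lib.Helper23.SecTw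
  Groth.Agent.Lib.Helper23.Extend Groth.Agent.Lib.Helper23.PB
  Groth.Agent.Lib.Helper6 Groth.Agent.Lib.Helper2.PicFibA Groth.Agent.Helper13PullbackUnit

variable {X Y : Scheme.{u}} (f : X ⟶ Y)

/-- `h⁰(X_y, L_y) = h⁰(X_y, O)` for `L` trivial on the fibre -/
theorem betti_eq_of_trivial (L : X.Modules) (y : Y)
    (τ : (Scheme.Modules.pullback (f.fiberι y)).obj L ≅ Coh.structureModule (f.fiber y)) :
    PerfAux.betti f L y 0 = PerfAux.betti f (Coh.structureModule X) y 0 := by
  let k : Type u := Y.residueField y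
  let q : f.fiber y ⟶ Spec (CommRingCat.of k) := f.fiberToSpecResidueField y
  letI : (f.fiber y).Over (Spec (CommRingCat.of k)) := ⟨q⟩
  have e := Groth.Agent.Lib.Helper17.StalkBC.hhEquiv k τ 0
  have e' := Groth.Agent.Lib.Helper17.StalkBC.hhEquiv k
    (Groth.Agent.Lib.Helper1.Fib.pullbackUnitIso' (f.fiberι y)) 0
  exact (LinearEquiv.finrank_eq e).trans (LinearEquiv.finrank_eq e').symm

/-- **Grauert + seesaw over a reduced base**, with `h⁰(X_y, O) = 1` in `betti` form -/
theorem main' [IsProper f] [Flat f] [LocallyOfFinitePresentation f] [IsReduced Y]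
    (hbO : ∀ s : Y, PerfAux.betti f (Coh.structureModule X) s 0 = 1)
    (L : X.Modules) (hL : PicF.IsInvertible L)
    (htriv : ∀ y : Y, Nonempty ((Scheme.Modules.pullback (f.fiberι y)).obj L ≅
      Coh.structureModule (f.fiber y))) :
    PicF.IsInvertible ((Scheme.Modules.pushforward f).obj L) ∧
      IsIso ((Scheme.Modules.pullbackPushforwardAdjunction f).counit.app L) := by
  haveI : L.IsQuasicoherent := isQuasicoherent_of_isInvertible L hL
  have hfpO := Groth.Agent.Lib.Helper2.SurfFibB.isFP_structureModule X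
  have hflO := Groth.Agent.Lib.Helper2.SurfFibB.isFlatOver_structureModule f
  have hunit : IsIso (ClSub.unitToPush f) :=
    Groth.Agent.Lib.Helper2.R1RankF.isIso_unitToPush f hfpO hflO hbO
  have hbij : ∀ U : Y.Opens, Function.Bijective (f.app U) := by
    intro U
    have h1 := (Scheme.Modules.Hom.isIso_iff_isIso_app (φ := ClSub.unitToPush f)).1 hunit U
    have h2 := (ConcreteCategory.isIso_iff_bijective _).1 h1
    exact h2
  have hb : ∀ y : Y, PerfAux.betti f L y 0 = 1 := fun y => by
    obtain ⟨τ⟩ := htriv y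
    rw [betti_eq_of_trivial f L y τ]
    exact hbO y
  have hgen := Groth.Agent.Lib.Helper2.GrauertD.exists_isGen f L hL hb htriv
  refine ⟨?_, ?_⟩
  · apply isInvertible_of_isGen
    intro y
    obtain ⟨W, e, hy, he⟩ := hgen y
    exact ⟨W, Groth.Agent.Helper18PBUnit.down f e, hy,
      Groth.Agent.Helper18PBUnit.isGen_pushforward f hbij L e he⟩
  · haveI qc : ((Scheme.Modules.pushforward f).obj L).IsQuasicoherent :=
      Groth.Agent.Lib.Helper23.QCohLocal.isQuasicoherent_pushforward f L
    let ι : Type u := {V' : X.Opens // IsAffineOpen V' ∧ ∃ W : Y.Opens, IsAffineOpen W ∧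
      (∃ e : Γ(L, f ⁻¹ᵁ W), IsGen L (f ⁻¹ᵁ W) e) ∧ V' ≤ f ⁻¹ᵁ W}
    refine Groth.Agent.Helper13AffBC.isIso_of_bijective_on_basis _ (fun i : ι => i.1) ?_ ?_
    · rw [Opens.isBasis_iff_nbhd]
      intro O x hxO
      obtain ⟨W, e, hy, he⟩ := hgen (f x)
      obtain ⟨W', hW', hyW', hW'W⟩ := exists_isAffineOpen_mem_and_subset (x := f x) (U := W) hy
      obtain ⟨V', hV', hxV', hV'le⟩ := exists_isAffineOpen_mem_and_subset (x := x)
        (U := O ⊓ f ⁻¹ᵁ W') ⟨hxO, hyW'⟩
      refine ⟨V', ⟨⟨V', hV', W', hW', ⟨_, he.mono (f.preimage_mono hW'W)⟩,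
        hV'le.trans inf_le_right⟩, rfl⟩, hxV', hV'le.trans inf_le_left⟩
    · rintro ⟨V', hV', W, hW, ⟨e, he⟩, hle⟩
      exact Groth.Agent.Helper18PBUnit.counit_app_bijective f hbij L hW e he hV' hle

/-- for a proper flat morphism of finite presentation with integral fibres onto a scheme locally of
finite type over an algebraically closed field, `h⁰(X_y, O) = 1` for every point `y` -/
theorem betti_eq_one_of_integral_fibres (k : Type u) [Field k] [IsAlgClosed k]
    (g : Y ⟶ Spec (CommRingCat.of k)) [LocallyOfFiniteType g]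
    [IsProper f] [Flat f] [LocallyOfFinitePresentation f]
    (hint : ∀ y : Y, IsIntegral (f.fiber y)) (y : Y) :
    PerfAux.betti f (Coh.structureModule X) y 0 = 1 := by
  have hfpO := Groth.Agent.Lib.Helper2.SurfFibB.isFP_structureModule X
  have hflO := Groth.Agent.Lib.Helper2.SurfFibB.isFlatOver_structureModule f
  have hopen := Groth.Agent.Lib.Helper21.Semicont.isOpen_betti_lt f _ hfpO hflO 0 2
  haveI : JacobsonSpace Y := LocallyOfFiniteType.jacobsonSpace g
  have hclosed : ∀ z : Y, IsClosed ({z} : Set Y) →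
      PerfAux.betti f (Coh.structureModule X) z 0 = 1 := by
    intro z hz
    haveI : IsAlgClosed (Y.residueField z) :=
      IsAlgClosed.of_ringEquiv (k := k) (Y.residueField z)
        (residueFieldIsoBase g z hz).symm.commRingCatIsoToRingEquiv
    haveI := hint z
    exact Groth.Agent.Lib.Helper2.SurfFibB.betti_zero_eq_one f z
  have hlt : PerfAux.betti f (Coh.structureModule X) y 0 < 2 := by
    by_contra hy
    let Z : Set Y := {s : Y | PerfAux.betti f (Coh.structureModule X) s 0 < 2}ᶜ
    have hZ : IsClosed Z := hopen.isClosed_compl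
    have hyZ : y ∈ Z := hy
    have hcl := JacobsonSpace.closure_inter_closedPoints hZ
    have hne : (Z ∩ closedPoints Y).Nonempty := by
      by_contra hemp
      rw [Set.not_nonempty_iff_eq_empty] at hemp
      rw [hemp, closure_empty] at hcl
      rw [← hcl] at hyZ
      exact hyZ
    obtain ⟨z, hzZ, hzc⟩ := hne
    have h1 := hclosed z hzc
    apply hzZ
    change PerfAux.betti f (Coh.structureModule X) z 0 < 2
    rw [h1]
    norm_num
  haveI := hint y
  have hne := Groth.Agent.Lib.Helper2.SurfFibB.betti_zero_ne_zero f y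
  omega

end Groth.Agent.Lib.Helper2.GrauertF
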