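import Mathlib
import Groth.Agent.Lib.Helper2GrauertG

/-!
# Helper2: Grauert + seesaw, pointwise `H¹`-variant: a fibrewise trivialisation at one point with
`h⁰ = 1`, `h¹ = 0` there spreads to a neighbourhood
-/

set_option autoImplicit false
set_option linter.style.haveILetI false
universe u
open CategoryTheory CategoryTheory.Limits AlgebraicGeometry TensorProduct Opposite TopologicalSpace

namespace Groth.Agent.Lib.Helper2.GrauertH

open Groth.Agent.Lib.Helper23.GenLocus Groth.Agent.Lib.Helper23.SecTw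
  Groth.Agent.Lib.Helper23.Extend Groth.Agent.Lib.Helper23.PB
  Groth.Agent.Lib.Helper6 Groth.Agent.Helper13PullbackUnit
  Groth.Agent.Lib.Helper2.PicFibA Groth.Agent.Lib.Helper2.PicFibB Groth.Agent.Lib.Helper2.GrauertC

section core
variable {A : Type u} [CommRing A] {X : Scheme.{u}}

open Groth.Agent.Helper13QcqsBC Groth.Agent.Helper13AffBC Groth.Agent.Helper13FlatMV
  Groth.Agent.Lib.Helper21.BC0Geo Groth.Agent.Lib.Helper21.BC0Epi

/-- **lifting a fibrewise generator**, pointwise `H¹`-variant -/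
theorem exists_isGen_nhd_pt (f : X ⟶ Spec (CommRingCat.of A)) [IsProper f]
    [LocallyOfFinitePresentation f]
    (L : X.Modules) (hL : PicF.IsInvertible L) (hflat : FlatMod.IsFlatOver f L)
    (t : Spec (CommRingCat.of A)) (hbt : PerfAux.betti f L t 0 = 1)
    (hb1 : ∀ s, PerfAux.betti f L s 1 = 0)
    (τ : Coh.structureModule (f.fiber t) ≅ (Scheme.Modules.pullback (f.fiberι t)).obj L) :
    ∃ (U : (Spec (CommRingCat.of A)).Opens) (e : Γ(L, f ⁻¹ᵁ U)),
      t ∈ U ∧ IsGen L (f ⁻¹ᵁ U) e := by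
  haveI : L.IsQuasicoherent := isQuasicoherent_of_isInvertible L hL
  have hflf : FlatMod.IsFinLocFree L :=
    Groth.Agent.Lib.Helper23.ResProp.isFinLocFree_of_isInvertible _ hL
  have hF : CohB1.IsFP L := Groth.Agent.Lib.Helper2.LocFree.isFP_of_isFinLocFree _ hflf
  -- constants on the fibre
  let k : Type u := (Spec (CommRingCat.of A)).residueField t
  let q : f.fiber t ⟶ Spec (CommRingCat.of k) := f.fiberToSpecResidueField t
  letI : (f.fiber t).Over (Spec (CommRingCat.of k)) := ⟨q⟩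
  have e := Groth.Agent.Lib.Helper17.StalkBC.hhEquiv k τ.symm 0
  have h1 : Module.finrank k (Coh.HH (f.fiber t) (Coh.structureModule (f.fiber t)) 0) = 1 := by
    rw [← LinearEquiv.finrank_eq e]
    exact hbt
  letI : Algebra k Γ(f.fiber t, ⊤) := (Groth.Agent.Lib.Helper6.H0Const.gsMap k q).hom.toAlgebra
  have h2 : Module.finrank k Γ(f.fiber t, ⊤) = 1 :=
    (Groth.Agent.Lib.Helper6.H0Const.finrank_hh0 k (f.fiber t)).symm.trans h1
  have hconst := fun a => Groth.Agent.Lib.Helper2.R1RankE.exists_const_of_finrank k q h2 a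
  haveI hnt : Nontrivial Γ(f.fiber t, ⊤) :=
    Module.nontrivial_of_finrank_pos (R := k) (by rw [h2]; exact one_pos)
  -- base change at `t`
  let g : Spec (CommRingCat.of k) ⟶ Spec (CommRingCat.of A) :=
    (Spec (CommRingCat.of A)).fromSpecResidueField t
  let ι : f.fiber t ⟶ X := f.fiberι t
  have hpb : IsPullback ι q f g := IsPullback.of_hasPullback f g
  haveI hiso : IsIso (bcMap f g ι q hpb L) :=
    Groth.Agent.Lib.Helper21.BC0Main.isIso_bcMap_of_H1 f L hF hflat ⊤ (fun s _ => hb1 s) g ι q hpb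
      (fun _ => trivial)
  have hle : (⊤ : (Spec (CommRingCat.of k)).Opens) ≤
      g ⁻¹ᵁ (⊤ : (Spec (CommRingCat.of A)).Opens) := fun _ _ => trivial
  have hK : KSurj f g ι q hpb L hle (f ⁻¹ᵁ ⊤) le_rfl :=
    kSurj_of_epi f L g ι q hpb (isAffineOpen_top _) hle inferInstance
  -- the generator on the fibre
  let σ₀ : Γ((Scheme.Modules.pullback ι).obj L, ⊤) := τ.hom.app ⊤ (toS ⊤ 1)
  have hσ₀ : IsGen ((Scheme.Modules.pullback ι).obj L) ⊤ σ₀ := isGen_of_iso τ (isGen_one ⊤)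
  have hVp : Vp ι q (⊤ : (Spec (CommRingCat.of k)).Opens) (f ⁻¹ᵁ ⊤) = ⊤ := by
    ext x
    simp
  haveI : Nontrivial Γ(f.fiber t, Vp ι q (⊤ : (Spec (CommRingCat.of k)).Opens) (f ⁻¹ᵁ ⊤)) :=
    nontrivial_of_eq_top _ hVp
  obtain ⟨m, hm⟩ : ∃ m : Γ(L, f ⁻¹ᵁ ⊤), unitSec ι L
      (inf_le_left : Vp ι q (⊤ : (Spec (CommRingCat.of k)).Opens) (f ⁻¹ᵁ ⊤) ≤ ι ⁻¹ᵁ (f ⁻¹ᵁ ⊤)) m ≠ 0 := by
    by_contra hcon
    push Not at hcon
    letI : Algebra Γ(Spec (CommRingCat.of A), ⊤) Γ(Spec (CommRingCat.of k), ⊤) :=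
      (g.appLE ⊤ ⊤ hle).hom.toAlgebra
    have hzero : ∀ x, kap (R := Γ(Spec (CommRingCat.of A), ⊤)) (R' := Γ(Spec (CommRingCat.of k), ⊤))
        (uW f ι q L (le_refl (f ⁻¹ᵁ ⊤)) (inf_le_left :
          Vp ι q (⊤ : (Spec (CommRingCat.of k)).Opens) (f ⁻¹ᵁ ⊤) ≤ ι ⁻¹ᵁ (f ⁻¹ᵁ ⊤)) inf_le_right)
        (uW_smul f g ι q hpb L hle le_rfl inf_le_left inf_le_right) x = 0 := by
      intro x
      induction x using TensorProduct.induction_on with
      | zero => exact map_zero _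
      | tmul c m =>
        rw [kap_tmul]
        have : uW f ι q L (le_refl (f ⁻¹ᵁ ⊤)) (inf_le_left :
          Vp ι q (⊤ : (Spec (CommRingCat.of k)).Opens) (f ⁻¹ᵁ ⊤) ≤ ι ⁻¹ᵁ (f ⁻¹ᵁ ⊤)) inf_le_right m
            = 0 := hcon m
        rw [this, smul_zero]
      | add x y hx hy => rw [map_add, hx, hy, add_zero]
    obtain ⟨x, hx⟩ := hK (res ((Scheme.Modules.pullback ι).obj L) le_top σ₀)
    rw [hzero x] at hx
    have hb' := hσ₀ _ (le_top : Vp ι q (⊤ : (Spec (CommRingCat.of k)).Opens) (f ⁻¹ᵁ ⊤) ≤ ⊤)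
    have h01 := hb'.1 (a₁ := 0) (a₂ := 1) (by
      simp only
      rw [zero_smul, one_smul]
      exact hx)
    exact zero_ne_one h01
  -- the global map
  have hle' : (⊤ : X.Opens) ≤ f ⁻¹ᵁ ⊤ := fun _ _ => trivial
  let s : Coh.structureModule X ⟶ L := secHom L (res L hle' m)
  have hsv : sv s (f ⁻¹ᵁ ⊤) = m := by
    rw [sv_secHom, res_res]
    exact Groth.Agent.Lib.Helper23.SecTw.res_self L m
  let t₁ : Coh.structureModule (f.fiber t) ⟶ (Scheme.Modules.pullback ι).obj L :=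
    (pullbackUnitIso ι).inv ≫ (Scheme.Modules.pullback ι).map s
  have ht₁ : sv t₁ (ι ⁻¹ᵁ (f ⁻¹ᵁ ⊤)) = unitSec ι L le_rfl m := by
    rw [← hsv]
    exact sv_pullback ι L s (f ⁻¹ᵁ ⊤)
  have hsv0 : ∀ (M : (f.fiber t).Modules) (V : (f.fiber t).Opens),
      sv (0 : Coh.structureModule (f.fiber t) ⟶ M) V = 0 := by
    intro M V
    change (0 : Coh.structureModule (f.fiber t) ⟶ M).app V (toS V 1) = 0
    rfl
  have ht₁ne : t₁ ≠ 0 := by
    intro h0
    apply hm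
    have h3 : unitSec ι L (inf_le_left :
        Vp ι q (⊤ : (Spec (CommRingCat.of k)).Opens) (f ⁻¹ᵁ ⊤) ≤ ι ⁻¹ᵁ (f ⁻¹ᵁ ⊤)) m =
        res _ inf_le_left (unitSec ι L le_rfl m) := by
      rw [res_unitSec ι L le_rfl inf_le_left le_rfl inf_le_left m,
        Groth.Agent.Lib.Helper23.SecTw.res_self]
    rw [h3, ← ht₁, h0, hsv0]
    exact map_zero _
  let φ : Coh.structureModule (f.fiber t) ⟶ Coh.structureModule (f.fiber t) := t₁ ≫ τ.inv
  have ht₁φ : t₁ = φ ≫ τ.hom := by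
    simp only [φ, Category.assoc, Iso.inv_hom_id, Category.comp_id]
  have hφne : sv φ ⊤ ≠ 0 := by
    intro h0
    apply ht₁ne
    have h4 : φ = 0 := hom_ext_sv _ _ (by rw [h0, hsv0])
    rw [ht₁φ, h4, zero_comp]
  obtain ⟨c, hc⟩ := hconst (ofS ⊤ (sv φ ⊤))
  have hc0 : c ≠ 0 := by
    rintro rfl
    apply hφne
    rw [map_zero, map_zero] at hc
    exact hc
  have hunit : IsUnit (ofS ⊤ (sv φ ⊤)) := by
    rw [hc]
    exact ((IsUnit.mk0 c hc0).map (Scheme.ΓSpecIso (CommRingCat.of k)).inv.hom).map q.appTop.hom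
  haveI := isIso_of_isUnit_sv φ hunit
  haveI : IsIso t₁ := by
    rw [ht₁φ]
    infer_instance
  -- the generating locus contains the fibre
  have hgen := genLocus_pullback ι L hL s (pullbackUnitIso ι).symm
  have hτ : (pullbackUnitIso ι).symm.hom ≫ (Scheme.Modules.pullback ι).map s = t₁ := rfl
  rw [hτ, Groth.Agent.Lib.Helper6.DegZero.genLocus_eq_top_of_isIso] at hgen
  -- closedness of `f`
  have hZ : IsClosed ((CohB1.genLocus L s : Set X)ᶜ) := (CohB1.genLocus L s).isOpen.isClosed_compl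
  have hfZ : IsClosed (f '' ((CohB1.genLocus L s : Set X)ᶜ)) := f.isClosedMap _ hZ
  have htZ : t ∉ f '' ((CohB1.genLocus L s : Set X)ᶜ) := by
    rintro ⟨x, hxZ, hxt⟩
    have hx : x ∈ Set.range (f.fiberι t) := by
      rw [Scheme.Hom.range_fiberι]
      exact hxt
    obtain ⟨x₀, rfl⟩ := hx
    have hx₀ : x₀ ∈ (f.fiberι t) ⁻¹ᵁ CohB1.genLocus L s := hgen ▸ trivial
    exact hxZ hx₀
  let U : (Spec (CommRingCat.of A)).Opens :=
    ⟨(f '' ((CohB1.genLocus L s : Set X)ᶜ))ᶜ, hfZ.isOpen_compl⟩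
  have hU : f ⁻¹ᵁ U ≤ CohB1.genLocus L s := by
    intro x hx
    by_contra hxG
    exact hx ⟨x, hxG, rfl⟩
  exact ⟨U, sv s (f ⁻¹ᵁ U), htZ, isGen_of_le_genLocus L s _ hU⟩

end core

/-- **local generators near a point with trivial fibre, `h⁰ = 1`, `h¹ = 0`** -/
theorem exists_isGen_of_trivial_at {X Y : Scheme.{u}} (f : X ⟶ Y) [IsProper f] [Flat f]
    [LocallyOfFinitePresentation f]
    (L : X.Modules) (hL : PicF.IsInvertible L) (y : Y)
    (hby : PerfAux.betti f L y 0 = 1) (hb1y : PerfAux.betti f L y 1 = 0)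
    (htrivy : Nonempty ((Scheme.Modules.pullback (f.fiberι y)).obj L ≅
      Coh.structureModule (f.fiber y))) :
    ∃ (W : Y.Opens) (e : Γ(L, f ⁻¹ᵁ W)), y ∈ W ∧ IsGen L (f ⁻¹ᵁ W) e := by
  haveI : L.IsQuasicoherent := isQuasicoherent_of_isInvertible L hL
  have hflf0 : FlatMod.IsFinLocFree L :=
    Groth.Agent.Lib.Helper23.ResProp.isFinLocFree_of_isInvertible _ hL
  have hF0 : CohB1.IsFP L := Groth.Agent.Lib.Helper2.LocFree.isFP_of_isFinLocFree _ hflf0
  have hflat0 : FlatMod.IsFlatOver f L :=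
    Groth.Agent.Lib.Helper2.TrivFibB.isFlatOver_of_isFlat'' f L
      (Groth.Agent.Lib.Helper2.LocFree.isFlat_of_isFinLocFree L hflf0)
  have hopen : IsOpen {s : Y | PerfAux.betti f L s 1 < 1} :=
    Groth.Agent.Lib.Helper21.Semicont.isOpen_betti_lt f L hF0 hflat0 1 1
  let W₁ : Y.Opens := ⟨{s : Y | PerfAux.betti f L s 1 < 1}, hopen⟩
  have hyW₁ : y ∈ W₁ := by
    change PerfAux.betti f L y 1 < 1
    rw [hb1y]
    exact zero_lt_one
  obtain ⟨V, hV', hyV, hVW₁⟩ := exists_isAffineOpen_mem_and_subset (x := y) (U := W₁) hyW₁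
  let A : Type u := Γ(Y, V)
  let g : Spec (CommRingCat.of A) ⟶ Y := hV'.fromSpec
  let g' : (f ⁻¹ᵁ V).toScheme ⟶ X := (f ⁻¹ᵁ V).ι
  let f' : (f ⁻¹ᵁ V).toScheme ⟶ Spec (CommRingCat.of A) := (f ∣_ V) ≫ hV'.isoSpec.hom
  have hc : IsPullback g' f' f g := by
    have h0 : IsPullback (f ⁻¹ᵁ V).ι (f ∣_ V) f V.ι := (isPullback_morphismRestrict f V).flip
    refine IsPullback.of_iso h0 (Iso.refl _) (Iso.refl _) hV'.isoSpec (Iso.refl _) ?_ ?_ ?_ ?_
    · simp [g']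
    · simp [f']
    · simp
    · rw [Iso.refl_hom, Category.comp_id]
      change V.ι = hV'.isoSpec.hom ≫ hV'.fromSpec
      rw [← hV'.isoSpec_inv_ι, Iso.hom_inv_id_assoc]
  haveI : IsProper f' := MorphismProperty.of_isPullback (P := @IsProper) hc inferInstance
  haveI : Flat f' := MorphismProperty.of_isPullback (P := @Flat) hc inferInstance
  haveI : LocallyOfFinitePresentation f' :=
    MorphismProperty.of_isPullback (P := @LocallyOfFinitePresentation) hc inferInstance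
  -- the point
  have hyr : y ∈ Set.range g := by
    rw [hV'.range_fromSpec]
    exact hyV
  obtain ⟨t₀, ht₀⟩ := hyr
  -- the module
  let L' : (f ⁻¹ᵁ V).toScheme.Modules := L.restrict (f ⁻¹ᵁ V).ι
  have hL' : PicF.IsInvertible L' := isInvertible_restrict L hL (f ⁻¹ᵁ V)
  haveI : L'.IsQuasicoherent := isQuasicoherent_of_isInvertible L' hL'
  let eL : L' ≅ (Scheme.Modules.pullback g').obj L :=
    (Scheme.Modules.restrictFunctorIsoPullback g').app L
  have htriv' : Nonempty ((Scheme.Modules.pullback (f'.fiberι t₀)).obj L' ≅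
      Coh.structureModule (f'.fiber t₀)) := by
    obtain ⟨e⟩ := nonempty_fiber_trivial f g f' g' hc t₀ L (ht₀.symm ▸ htrivy)
    exact ⟨(Scheme.Modules.pullback (f'.fiberι t₀)).mapIso eL ≪≫ e⟩
  have hflf' : FlatMod.IsFinLocFree L' :=
    Groth.Agent.Lib.Helper23.ResProp.isFinLocFree_of_isInvertible _ hL'
  have hflat' : FlatMod.IsFlatOver f' L' :=
    Groth.Agent.Lib.Helper2.TrivFibB.isFlatOver_of_isFlat'' f' L'
      (Groth.Agent.Lib.Helper2.LocFree.isFlat_of_isFinLocFree L' hflf')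
  have hb' : PerfAux.betti f' L' t₀ 0 = 1 := by
    rw [Groth.Agent.Lib.Helper21.Semicont.betti_congr_iso f' eL t₀ 0,
      Groth.Agent.Lib.Helper21.TBridge.betti_baseChange f g g' f' hc L t₀ 0, ht₀]
    exact hby
  have hb1' : ∀ t', PerfAux.betti f' L' t' 1 = 0 := fun t' => by
    rw [Groth.Agent.Lib.Helper21.Semicont.betti_congr_iso f' eL t' 1,
      Groth.Agent.Lib.Helper21.TBridge.betti_baseChange f g g' f' hc L t' 1]
    have hgV : g t' ∈ V := by
      have : g t' ∈ Set.range g := ⟨t', rfl⟩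
      rw [hV'.range_fromSpec] at this
      exact this
    have h1 : PerfAux.betti f L (g t') 1 < 1 := hVW₁ hgV
    omega
  obtain ⟨τ⟩ := htriv'
  obtain ⟨U, e, htU, he⟩ :=
    exists_isGen_nhd_pt f' L' hL' hflat' t₀ hb' hb1' τ.symm
  have he2 : IsGen L ((f ⁻¹ᵁ V).ι ''ᵁ (f' ⁻¹ᵁ U)) e :=
    isGen_of_isGen_restrict L (f ⁻¹ᵁ V) (f' ⁻¹ᵁ U) e he
  have heq : (f ⁻¹ᵁ V).ι ''ᵁ (f' ⁻¹ᵁ U) = f ⁻¹ᵁ (g ''ᵁ U) := by
    ext x
    constructor
    · rintro ⟨x', hx', rfl⟩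
      refine ⟨f' x', hx', ?_⟩
      have := congrArg (fun φ : (f ⁻¹ᵁ V).toScheme ⟶ Y => φ x') hc.w
      exact this.symm
    · rintro ⟨u, hu, hux⟩
      have hxV : x ∈ f ⁻¹ᵁ V := by
        change f x ∈ V
        have : f x ∈ Set.range g := ⟨u, hux⟩
        rw [hV'.range_fromSpec] at this
        exact this
      refine ⟨⟨x, hxV⟩, ?_, rfl⟩
      have h1 : g (f' ⟨x, hxV⟩) = f x := by
        have := congrArg (fun φ : (f ⁻¹ᵁ V).toScheme ⟶ Y => φ ⟨x, hxV⟩) hc.w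
        exact this.symm
      have h2 : f' ⟨x, hxV⟩ = u := g.isOpenEmbedding.injective (h1.trans hux.symm)
      change f' ⟨x, hxV⟩ ∈ U
      rw [h2]
      exact hu
  obtain ⟨e', he'⟩ := exists_isGen_of_eq L heq e he2
  exact ⟨g ''ᵁ U, e', ⟨t₀, htU, ht₀⟩, he'⟩

end Groth.Agent.Lib.Helper2.GrauertH
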