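import Mathlib
import Groth.Agent.Lib.Helper2GrauertH
import Groth.Agent.Lib.Helper2TrivFibB
import Groth.Agent.Lib.Helper23PerfPic

/-!
# Helper2: the locus of trivial fibres of an invertible module is open (if `h⁰(O) = 1`, `h¹(O) = 0` on
fibres) and closed (integral fibres), without Noetherian hypotheses
-/

set_option autoImplicit false
set_option linter.style.haveILetI false
universe u
open CategoryTheory CategoryTheory.Limits AlgebraicGeometry TopologicalSpace Opposite

namespace Groth.Agent.Lib.Helper2.BoxPicA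

open Groth.Agent.Lib.Helper23.GenLocus Groth.Agent.Lib.Helper23.SecTw
  Groth.Agent.Lib.Helper23.Extend Groth.Agent.Lib.Helper23.PB
  Groth.Agent.Lib.Helper6 Groth.Agent.Helper13PullbackUnit
  Groth.Agent.Lib.Helper2.TrivFibA Groth.Agent.Lib.Helper2.TrivFibB Groth.Agent.Lib.Helper27ProjFormula
  Groth.Agent.Lib.Helper23.PerfPic

variable {X Y : Scheme.{u}} (f : X ⟶ Y)

/-- a generator of `L` over `f⁻¹W` trivialises `L` on every fibre over `W` -/
theorem nonempty_fiber_trivial_of_isGen (L : X.Modules) [L.IsQuasicoherent] (W : Y.Opens)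
    (e : Γ(L, f ⁻¹ᵁ W)) (he : IsGen L (f ⁻¹ᵁ W) e) (y : Y) (hy : y ∈ W) :
    Nonempty ((Scheme.Modules.pullback (f.fiberι y)).obj L ≅ Coh.structureModule (f.fiber y)) := by
  let ι := f.fiberι y
  have htop : ι ⁻¹ᵁ (f ⁻¹ᵁ W) = ⊤ := by
    ext x
    simp only [Scheme.Hom.coe_preimage, Set.mem_preimage, SetLike.mem_coe, Opens.coe_top,
      Set.mem_univ, iff_true]
    have hx : ι x ∈ Set.range (f.fiberι y) := ⟨x, rfl⟩
    rw [Scheme.Hom.range_fiberι] at hx
    have : f (ι x) = y := hx
    rw [this]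
    exact hy
  have hle : (⊤ : (f.fiber y).Opens) ≤ ι ⁻¹ᵁ (f ⁻¹ᵁ W) := htop.ge
  let ε : Γ((Scheme.Modules.pullback ι).obj L, ⊤) := unitSec ι L hle e
  have hgen : IsGen ((Scheme.Modules.pullback ι).obj L) ⊤ ε := by
    apply isGen_top_of_cover
    intro x
    have hxW : ι x ∈ f ⁻¹ᵁ W := by
      have : x ∈ ι ⁻¹ᵁ (f ⁻¹ᵁ W) := htop ▸ trivial
      exact this
    obtain ⟨A, hA, hxA, hAW⟩ := exists_isAffineOpen_mem_and_subset (x := ι x) (U := f ⁻¹ᵁ W) hxW
    refine ⟨ι ⁻¹ᵁ A, hxA, ?_⟩
    have h1 := isGen_unitSec ι L hA (res L hAW e) (he.mono hAW)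
    have h2 : res ((Scheme.Modules.pullback ι).obj L) (le_top : ι ⁻¹ᵁ A ≤ ⊤) ε =
        unitSec ι L le_rfl (res L hAW e) :=
      res_unitSec ι L hle le_rfl hAW le_top e
    rw [h2]
    exact h1
  exact nonempty_iso_unit_of_isGen _ ε hgen

/-- **openness of the locus of trivial fibres** when `h⁰(X_y, O) = 1` and `h¹(X_y, O) = 0` -/
theorem isOpen_trivial_locus [IsProper f] [Flat f] [LocallyOfFinitePresentation f]
    (hbO : ∀ s : Y, PerfAux.betti f (Coh.structureModule X) s 0 = 1)
    (hbO1 : ∀ s : Y, PerfAux.betti f (Coh.structureModule X) s 1 = 0)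
    (L : X.Modules) (hL : PicF.IsInvertible L) :
    IsOpen {y : Y | Nonempty ((Scheme.Modules.pullback (f.fiberι y)).obj L ≅
      Coh.structureModule (f.fiber y))} := by
  haveI : L.IsQuasicoherent := isQuasicoherent_of_isInvertible L hL
  rw [isOpen_iff_forall_mem_open]
  rintro y ⟨τ⟩
  have hb0 : PerfAux.betti f L y 0 = 1 := by
    rw [Groth.Agent.Lib.Helper2.GrauertG.betti_eq_of_trivial' f L y τ 0]
    exact hbO y
  have hb1 : PerfAux.betti f L y 1 = 0 := by
    rw [Groth.Agent.Lib.Helper2.GrauertG.betti_eq_of_trivial' f L y τ 1]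
    exact hbO1 y
  obtain ⟨W, e, hyW, he⟩ :=
    Groth.Agent.Lib.Helper2.GrauertH.exists_isGen_of_trivial_at f L hL y hb0 hb1 ⟨τ⟩
  exact ⟨W, fun y' hy' => nonempty_fiber_trivial_of_isGen f L W e he y' hy', W.isOpen, hyW⟩

/-- **closedness of the locus of trivial fibres** for integral fibres (finite presentation instead of
a Noetherian base) -/
theorem isClosed_trivial_locus [IsProper f] [Flat f] [LocallyOfFinitePresentation f]
    (hint : ∀ y : Y, IsIntegral (f.fiber y))
    (L : X.Modules) (hL : PicF.IsInvertible L) :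
    IsClosed {y : Y | Nonempty ((Scheme.Modules.pullback (f.fiberι y)).obj L ≅
      Coh.structureModule (f.fiber y))} := by
  obtain ⟨M, hM, ⟨e⟩, ⟨e'⟩⟩ := Groth.Agent.Lib.Helper17.ProjFormulaD.nonempty_inverse L hL
  have hdata : ∀ (P : X.Modules), PicF.IsInvertible P →
      CohB1.IsFP P ∧ FlatMod.IsFlatOver f P := by
    intro P hP
    have hflf : FlatMod.IsFinLocFree P :=
      Groth.Agent.Lib.Helper23.ResProp.isFinLocFree_of_isInvertible P hP
    haveI : P.IsQuasicoherent :=
      Groth.Agent.Lib.Helper21.HZB.isQuasicoherent_of_isFinLocFree P hflf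
    exact ⟨Groth.Agent.Lib.Helper2.LocFree.isFP_of_isFinLocFree P hflf,
      isFlatOver_of_isFlat'' f P (Groth.Agent.Lib.Helper2.LocFree.isFlat_of_isFinLocFree P hflf)⟩
  have key : ∀ y : Y, Nonempty ((Scheme.Modules.pullback (f.fiberι y)).obj L ≅
      Coh.structureModule (f.fiber y)) ↔
      (¬ PerfAux.betti f L y 0 < 1 ∧ ¬ PerfAux.betti f M y 0 < 1) := by
    intro y
    letI : (f.fiber y).Over (Spec (CommRingCat.of (Y.residueField y))) :=
      ⟨f.fiberToSpecResidueField y⟩
    haveI : IsProper (f.fiber y ↘ Spec (CommRingCat.of (Y.residueField y))) :=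
      MorphismProperty.pullback_snd (P := @IsProper) f (Y.fromSpecResidueField y) inferInstance
    haveI : IsIntegral (f.fiber y) := hint y
    exact trivial_iff (Y.residueField y) (f.fiber y) _ _
      (Groth.Agent.Lib.Helper23.PB.isInvertible_pullback (f.fiberι y) L hL)
      (Groth.Agent.Lib.Helper23.PB.isInvertible_pullback (f.fiberι y) M hM)
      (plbInv (f.fiberι y) L M e) (plbInv (f.fiberι y) M L e')
  have hset : {y : Y | Nonempty ((Scheme.Modules.pullback (f.fiberι y)).obj L ≅
      Coh.structureModule (f.fiber y))} =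
      {y : Y | PerfAux.betti f L y 0 < 1}ᶜ ∩ {y : Y | PerfAux.betti f M y 0 < 1}ᶜ := by
    ext y
    exact key y
  rw [hset]
  exact (Groth.Agent.S1025.result f L (hdata L hL).1 (hdata L hL).2 0 1).isClosed_compl.inter
    (Groth.Agent.S1025.result f M (hdata M hM).1 (hdata M hM).2 0 1).isClosed_compl

/-- **seesaw over a connected base with `h⁰(O) = 1`, `h¹(O) = 0`, integral fibres**: triviality on one
fibre implies triviality on all fibres -/
theorem trivial_on_all_fibres [IsProper f] [Flat f] [LocallyOfFinitePresentation f]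
    [PreconnectedSpace Y]
    (hint : ∀ y : Y, IsIntegral (f.fiber y))
    (hbO : ∀ s : Y, PerfAux.betti f (Coh.structureModule X) s 0 = 1)
    (hbO1 : ∀ s : Y, PerfAux.betti f (Coh.structureModule X) s 1 = 0)
    (L : X.Modules) (hL : PicF.IsInvertible L) (y₀ : Y)
    (h₀ : Nonempty ((Scheme.Modules.pullback (f.fiberι y₀)).obj L ≅
      Coh.structureModule (f.fiber y₀))) (y : Y) :
    Nonempty ((Scheme.Modules.pullback (f.fiberι y)).obj L ≅ Coh.structureModule (f.fiber y)) := by
  have hclopen : IsClopen {y : Y | Nonempty ((Scheme.Modules.pullback (f.fiberι y)).obj L ≅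
      Coh.structureModule (f.fiber y))} :=
    ⟨isClosed_trivial_locus f hint L hL, isOpen_trivial_locus f hbO hbO1 L hL⟩
  have := hclopen.eq_univ ⟨y₀, h₀⟩
  have hy : y ∈ {y : Y | Nonempty ((Scheme.Modules.pullback (f.fiberι y)).obj L ≅
      Coh.structureModule (f.fiber y))} := this ▸ Set.mem_univ y
  exact hy

end Groth.Agent.Lib.Helper2.BoxPicA
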