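import Mathlib
import Groth.Prelude.Def_Curv2
import Groth.Agent.Lib.Helper6H0Const
import Groth.Agent.Lib.Helper6SmGeom
import Groth.Agent.Lib.Helper11SmInt

set_option autoImplicit false
universe u
open CategoryTheory CategoryTheory.Limits AlgebraicGeometry TensorProduct Opposite

namespace Groth.Agent.Lib.Helper6.CurveConn

open Groth.Agent.Lib.Helper6.H0Const

/-- a scheme whose ring of global functions has only trivial idempotents is preconnected -/
theorem preconnectedSpace_of_idempotents (Y : Scheme.{u})
    (h : ∀ e : Γ(Y, ⊤), IsIdempotentElem e → e = 0 ∨ e = 1) : PreconnectedSpace Y := by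
  rw [preconnectedSpace_iff_clopen]
  intro s hs
  let U : Y.Opens := ⟨s, hs.isOpen⟩
  let V : Y.Opens := ⟨sᶜ, hs.compl.isOpen⟩
  have hUV : U ⊓ V = ⊥ := by
    ext y
    simp [U, V]
  have hcov : (⊤ : Y.Opens) ≤ U ⊔ V := by
    intro y _
    by_cases hy : y ∈ s
    · exact Or.inl hy
    · exact Or.inr hy
  haveI : Subsingleton Γ(Y, U ⊓ V) := by
    rw [hUV]; infer_instance
  let x : RingHom.eqLocus
      (RingHom.comp (Y.sheaf.obj.map (homOfLE inf_le_left : U ⊓ V ⟶ U).op).hom
        (RingHom.fst (Y.sheaf.obj.obj <| op U) (Y.sheaf.obj.obj <| op V)))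
      (RingHom.comp (Y.sheaf.obj.map (homOfLE inf_le_right : U ⊓ V ⟶ V).op).hom
        (RingHom.snd (Y.sheaf.obj.obj <| op U) (Y.sheaf.obj.obj <| op V))) :=
    ⟨((1 : Γ(Y, U)), (0 : Γ(Y, V))), Subsingleton.elim (α := Γ(Y, U ⊓ V)) _ _⟩
  have hx : IsIdempotentElem x := by
    apply Subtype.ext
    show ((1 : Γ(Y, U)), (0 : Γ(Y, V))) * ((1 : Γ(Y, U)), (0 : Γ(Y, V))) =
      ((1 : Γ(Y, U)), (0 : Γ(Y, V)))
    simp
  let e0 : Γ(Y, U ⊔ V) := (Y.sheaf.objSupIsoProdEqLocus U V).inv x
  have he0 : IsIdempotentElem e0 := hx.map (Y.sheaf.objSupIsoProdEqLocus U V).inv.hom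
  let e : Γ(Y, ⊤) := Y.presheaf.map (homOfLE hcov).op e0
  have he : IsIdempotentElem e := he0.map (Y.presheaf.map (homOfLE hcov).op).hom
  have h1 : Y.presheaf.map (homOfLE (le_top : U ≤ ⊤)).op e = 1 := by
    have := Y.sheaf.objSupIsoProdEqLocus_inv_fst U V x
    simp only [e]
    rw [← CommRingCat.comp_apply, ← Functor.map_comp]
    exact this
  have h2 : Y.presheaf.map (homOfLE (le_top : V ≤ ⊤)).op e = 0 := by
    have := Y.sheaf.objSupIsoProdEqLocus_inv_snd U V x
    simp only [e]
    rw [← CommRingCat.comp_apply, ← Functor.map_comp]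
    exact this
  rcases h e he with h0 | h0
  · left
    rw [h0, map_zero] at h1
    by_contra hne
    obtain ⟨y, hy⟩ := Set.nonempty_iff_ne_empty.mpr hne
    haveI : Nontrivial Γ(Y, U) := @Scheme.component_nontrivial Y U ⟨⟨y, hy⟩⟩
    exact zero_ne_one h1
  · right
    rw [h0, map_one] at h2
    by_contra hne
    have : (sᶜ : Set Y).Nonempty := by
      rw [Set.nonempty_compl]; exact hne
    obtain ⟨y, hy⟩ := this
    haveI : Nontrivial Γ(Y, V) := @Scheme.component_nontrivial Y V ⟨⟨y, hy⟩⟩
    exact one_ne_zero h2

section BC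

variable (k : Type u) [Field k] {X : Scheme.{u}} (f : X ⟶ Spec (CommRingCat.of k))
variable (L : Type u) [Field L] [Algebra k L]

/-- flat base change for the dimension of the space of global functions -/
theorem finrank_globalSections_baseChange [QuasiCompact f] [QuasiSeparated f] :
    letI : Algebra k Γ(X, ⊤) := (gsMap k f).hom.toAlgebra
    letI : Algebra L Γ(pullback f (Spec.map (CommRingCat.ofHom (algebraMap k L))), ⊤) :=
      (gsMap L (pullback.snd f (Spec.map (CommRingCat.ofHom (algebraMap k L))))).hom.toAlgebra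
    Module.finrank L Γ(pullback f (Spec.map (CommRingCat.ofHom (algebraMap k L))), ⊤) =
      Module.finrank k Γ(X, ⊤) := by
  letI algR : Algebra k Γ(X, ⊤) := (gsMap k f).hom.toAlgebra
  let g := Spec.map (CommRingCat.ofHom (algebraMap k L))
  letI algY : Algebra L Γ(pullback f g, ⊤) := (gsMap L (pullback.snd f g)).hom.toAlgebra
  have hpo := isPushout_gsMap k f L
  have hpo' := CommRingCat.isPushout_tensorProduct k L Γ(X, ⊤)
  let e := hpo'.isoIsPushout _ _ hpo
  have he1 : ∀ ℓ : L, e.hom (ℓ ⊗ₜ[k] (1 : Γ(X, ⊤))) = algebraMap L Γ(pullback f g, ⊤) ℓ := by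
    intro ℓ
    have := IsPushout.inl_isoIsPushout_hom _ _ hpo' hpo
    exact congrArg (fun m => m.hom ℓ) this
  let φ : (L ⊗[k] Γ(X, ⊤)) ≃ₗ[L] Γ(pullback f g, ⊤) :=
    { e.commRingCatIsoToRingEquiv with
      map_smul' := fun ℓ x => by
        change e.hom (ℓ • x) = ℓ • e.hom x
        have h1 : ℓ • x = (ℓ ⊗ₜ[k] (1 : Γ(X, ⊤))) * x := by
          rw [Algebra.smul_def]; rfl
        rw [h1, map_mul, he1, Algebra.smul_def] }
  have h1 : Module.finrank L (L ⊗[k] Γ(X, ⊤)) = Module.finrank k Γ(X, ⊤) :=
    Module.finrank_baseChange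
  rw [← h1, φ.finrank_eq]

/-- if `k` is the ring of global functions of a qcqs `k`-scheme `X`, then `X` is geometrically
connected -/
theorem geometricallyConnected_of_finrank_eq_one [QuasiCompact f] [QuasiSeparated f]
    (h : letI : Algebra k Γ(X, ⊤) := (gsMap k f).hom.toAlgebra
      Module.finrank k Γ(X, ⊤) = 1) :
    GeometricallyConnected f := by
  rw [geometricallyConnected_iff, geometrically_iff_of_commRing_of_isClosedUnderIsomorphisms]
  intro L _ _
  let g := Spec.map (CommRingCat.ofHom (algebraMap k L))
  letI algY : Algebra L Γ(pullback f g, ⊤) := (gsMap L (pullback.snd f g)).hom.toAlgebra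
  have h1 : Module.finrank L Γ(pullback f g, ⊤) = 1 :=
    (finrank_globalSections_baseChange k f L).trans h
  haveI hnt : Nontrivial Γ(pullback f g, ⊤) :=
    Module.nontrivial_of_finrank_pos (R := L) (by omega)
  have hsurj : ∀ w : Γ(pullback f g, ⊤), ∃ c : L, c • (1 : Γ(pullback f g, ⊤)) = w :=
    (finrank_eq_one_iff_of_nonzero' 1 one_ne_zero).mp h1
  haveI : PreconnectedSpace ↥(pullback f g : Scheme.{u}) := by
    apply preconnectedSpace_of_idempotents
    intro e he
    obtain ⟨c, rfl⟩ := hsurj e
    have hc : c * c = c := by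
      apply (algebraMap L Γ(pullback f g, ⊤)).injective
      have he' : (c • (1 : Γ(pullback f g, ⊤))) * (c • (1 : Γ(pullback f g, ⊤))) =
          c • (1 : Γ(pullback f g, ⊤)) := he
      rw [Algebra.smul_def, mul_one] at he'
      rw [map_mul, he']
    have hc' : c = 0 ∨ c = 1 := by
      have : c * (c - 1) = 0 := by rw [mul_sub, hc, mul_one, sub_self]
      rcases mul_eq_zero.mp this with h0 | h0
      · exact Or.inl h0
      · exact Or.inr (sub_eq_zero.mp h0)
    rcases hc' with rfl | rfl
    · left; simp
    · right; simp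
  haveI : Nonempty ↥(pullback f g : Scheme.{u}) := by
    by_contra hempty
    rw [not_nonempty_iff] at hempty
    exact not_subsingleton Γ(pullback f g, ⊤) inferInstance
  exact { toNonempty := inferInstance }

/-- a smooth geometrically connected scheme of finite type over a field is geometrically
integral -/
theorem geometricallyIntegral_of_smooth [Smooth f] [QuasiCompact f] [GeometricallyConnected f]
    [GeometricallyReduced f] :
    GeometricallyIntegral f := by
  haveI : GeometricallyIrreducible f := by
    rw [geometricallyIrreducible_iff, geometrically_iff_of_commRing_of_isClosedUnderIsomorphisms]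
    intro L _ _
    let g := Spec.map (CommRingCat.ofHom (algebraMap k L))
    haveI : ConnectedSpace ↥(pullback f g : Scheme.{u}) :=
      pullback_of_geometrically (GeometricallyConnected.geometrically_connectedSpace (f := f)) L g
    haveI : CompactSpace ↥(pullback f g : Scheme.{u}) :=
      QuasiCompact.compactSpace_of_compactSpace (pullback.snd f g)
    haveI : IsNoetherian (pullback f g) :=
      { __ := LocallyOfFiniteType.isLocallyNoetherian (pullback.snd f g) }
    haveI : IsIntegral (pullback f g) :=
      Groth.Agent.Lib.Helper11SmInt.isIntegral_of_connected_of_isDomain_stalk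
        (fun y => Groth.Agent.Lib.Helper11SmInt.isDomain_stalk_of_smooth L (pullback.snd f g) y)
    infer_instance
  exact GeometricallyIntegral.of_geometricallyReduced_of_geometricallyIrreducible f

/-- geometrically irreducible implies geometrically connected -/
theorem geometricallyConnected_of_geometricallyIrreducible [GeometricallyIrreducible f] :
    GeometricallyConnected f := by
  rw [geometricallyConnected_iff, geometrically_iff_of_commRing_of_isClosedUnderIsomorphisms]
  intro L _ _
  let g := Spec.map (CommRingCat.ofHom (algebraMap k L))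
  haveI : IrreducibleSpace ↥(pullback f g : Scheme.{u}) :=
    pullback_of_geometrically (GeometricallyIrreducible.geometrically_irreducibleSpace (f := f))
      L g
  infer_instance

end BC

section Final

variable (k : Type u) [Field k] (X : Scheme.{u}) [X.Over (Spec (CommRingCat.of k))]

theorem smooth_proper_tfae [IsProper (X ↘ Spec (CommRingCat.of k))]
    [Smooth (X ↘ Spec (CommRingCat.of k))] :
    (Module.finrank k (Coh.HH X (Coh.structureModule X) 0) = 1 ↔
      GeometricallyConnected (X ↘ Spec (CommRingCat.of k))) ∧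
    (GeometricallyConnected (X ↘ Spec (CommRingCat.of k)) ↔
      GeometricallyIntegral (X ↘ Spec (CommRingCat.of k))) := by
  haveI : GeometricallyReduced (X ↘ Spec (CommRingCat.of k)) :=
    (Groth.Agent.Lib.Helper6.SmGeom.main k X).1
  refine ⟨⟨fun h => ?_, fun h => ?_⟩, ⟨fun h => ?_, fun h => ?_⟩⟩
  · rw [finrank_hh0] at h
    exact geometricallyConnected_of_finrank_eq_one k _ h
  · haveI := h
    exact finrank_hh0_eq_one k X
  · haveI := h
    exact geometricallyIntegral_of_smooth k _
  · haveI := h
    exact geometricallyConnected_of_geometricallyIrreducible k _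

end Final

end Groth.Agent.Lib.Helper6.CurveConn
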