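import Mathlib
import Groth.Agent.Lib.Helper2BoxPicA
import Groth.Agent.Lib.Helper6AffPushLin
import Groth.Agent.Lib.Helper18PBUnit2
import Groth.Agent.Lib.Helper6H0Const
import Groth.Agent.Lib.Helper6CurveConn

/-!
# Helper2: fibre cohomology of a product family `S ×_k T ⟶ S` over a field
-/

set_option autoImplicit false
set_option linter.style.haveILetI false
universe u
open CategoryTheory CategoryTheory.Limits AlgebraicGeometry TopologicalSpace Opposite

namespace Groth.Agent.Lib.Helper2.BoxPicB

section field
variable (k : Type u) [Field k]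

/-- the residue field map of the point of the spectrum of a field is an isomorphism -/
theorem isIso_fromSpecResidueField (pt : Spec (CommRingCat.of k)) :
    IsIso ((Spec (CommRingCat.of k)).fromSpecResidueField pt) := by
  rw [← Scheme.Spec.map_residueFieldIso_inv_eq_fromSpecResidueField]
  haveI : IsIso (Spec.map (CommRingCat.ofHom
      (algebraMap (CommRingCat.of k) pt.asIdeal.ResidueField))) := by
    haveI : IsIso (CommRingCat.ofHom (algebraMap (CommRingCat.of k) pt.asIdeal.ResidueField)) := by
      rw [ConcreteCategory.isIso_iff_bijective]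
      haveI : pt.asIdeal.IsMaximal := by
        have h0 : pt.asIdeal = ⊥ := by
          rcases Ideal.eq_bot_or_top pt.asIdeal with h | h
          · exact h
          · exact absurd h pt.2.ne_top
        rw [h0]
        exact Ideal.bot_isMaximal
      have h1 := Ideal.bijective_algebraMap_quotient_residueField pt.asIdeal
      have h2 : Function.Bijective (Ideal.Quotient.mk pt.asIdeal) := by
        have h0 : pt.asIdeal = ⊥ := by
          rcases Ideal.eq_bot_or_top pt.asIdeal with h | h
          · exact h
          · exact absurd h pt.2.ne_top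
        refine ⟨?_, Ideal.Quotient.mk_surjective⟩
        rw [injective_iff_map_eq_zero]
        intro a ha
        rw [Ideal.Quotient.eq_zero_iff_mem, h0] at ha
        exact ha
      have h3 : (algebraMap (CommRingCat.of k) pt.asIdeal.ResidueField : k → _) =
          (algebraMap (k ⧸ pt.asIdeal) pt.asIdeal.ResidueField) ∘ (Ideal.Quotient.mk pt.asIdeal) := by
        ext a
        rfl
      change Function.Bijective (algebraMap (CommRingCat.of k) pt.asIdeal.ResidueField)
      rw [h3]
      exact h1.comp h2
    infer_instance
  infer_instance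

variable {T : Scheme.{u}} (t : T ⟶ Spec (CommRingCat.of k))

/-- `h¹(T_pt, O) = 0` in `betti` form from `H¹(T, O) = 0`, over a field -/
theorem betti_one_eq_zero [IsProper t] (h1 : Subsingleton (Coh.HH T (Coh.structureModule T) 1))
    (pt : Spec (CommRingCat.of k)) :
    PerfAux.betti t (Coh.structureModule T) pt 1 = 0 := by
  apply Groth.Agent.Lib.Helper2.GrauertG.betti_one_eq_zero
  haveI := isIso_fromSpecResidueField k pt
  let ι : t.fiber pt ⟶ T := t.fiberι pt
  haveI : IsIso ι :=
    inferInstanceAs (IsIso (pullback.fst t ((Spec (CommRingCat.of k)).fromSpecResidueField pt)))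
  letI : T.Over (Spec (CommRingCat.of k)) := ⟨t⟩
  letI : (t.fiber pt).Over (Spec (CommRingCat.of k)) := ⟨ι ≫ t⟩
  haveI : CompactSpace T := by
    have : QuasiCompact t := inferInstance
    exact (quasiCompact_iff_compactSpace (f := t)).1 this
  haveI : QuasiSeparatedSpace T := by
    have : QuasiSeparated t := inferInstance
    exact (quasiSeparated_iff_quasiSeparatedSpace (f := t)).1 this
  haveI : (Coh.structureModule (t.fiber pt)).IsQuasicoherent :=
    Groth.Agent.Helper18Strict.isQCoh_of_isFP _
      (Groth.Agent.Lib.Helper2.SurfFibB.isFP_structureModule (t.fiber pt))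
  obtain ⟨e1⟩ := Groth.Agent.Lib.Helper6.AffPushLin.nonempty_linearEquiv (A := k) ι
    (by rfl) (Coh.structureModule (t.fiber pt)) 1
  have hbij : ∀ U : T.Opens, Function.Bijective (ι.app U) := fun U =>
    (ConcreteCategory.isIso_iff_bijective _).1 inferInstance
  haveI := Groth.Agent.Helper18PBUnit.isIso_strToPush ι hbij
  have e2 := Groth.Agent.Lib.Helper17.StalkBC.hhEquiv k
    (asIso (Groth.Agent.Helper18PBUnit.strToPush ι)) 1
  exact (e1.symm.toEquiv.trans e2.symm.toEquiv).subsingleton

end field

section product
variable (k : Type u) [Field k] {S T : Scheme.{u}} (s : S ⟶ Spec (CommRingCat.of k))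
  (t : T ⟶ Spec (CommRingCat.of k)) [IsProper t] [GeometricallyIntegral t]

/-- `h⁰(P_{s'}, O) = 1` for the product family -/
theorem betti_zero_fst (s' : S) :
    PerfAux.betti (pullback.fst s t) (Coh.structureModule (pullback s t)) s' 0 = 1 := by
  rw [Groth.Agent.Lib.Helper2.SurfFibB.betti_zero_eq_finrank]
  let κ : Type u := S.residueField s'
  let q : (pullback.fst s t).fiber s' ⟶ Spec (CommRingCat.of κ) :=
    (pullback.fst s t).fiberToSpecResidueField s'
  haveI : IsProper q :=
    MorphismProperty.pullback_snd (P := @IsProper) (pullback.fst s t) (S.fromSpecResidueField s')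
      inferInstance
  haveI : GeometricallyIntegral q :=
    inferInstanceAs (GeometricallyIntegral ((pullback.fst s t).fiberToSpecResidueField s'))
  haveI : GeometricallyIrreducible q := inferInstance
  haveI : GeometricallyConnected q :=
    Groth.Agent.Lib.Helper6.CurveConn.geometricallyConnected_of_geometricallyIrreducible κ q
  haveI : GeometricallyReduced q := inferInstance
  exact Groth.Agent.Lib.Helper6.H0Const.finrank_globalSections_eq_one κ q

omit [GeometricallyIntegral t] in
/-- `h¹(P_{s'}, O) = 0` for the product family when `H¹(T, O) = 0` -/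
theorem betti_one_fst (h1 : Subsingleton (Coh.HH T (Coh.structureModule T) 1)) (s' : S) :
    PerfAux.betti (pullback.fst s t) (Coh.structureModule (pullback s t)) s' 1 = 0 := by
  haveI : (Coh.structureModule T).IsQuasicoherent :=
    Groth.Agent.Helper18Strict.isQCoh_of_isFP _
      (Groth.Agent.Lib.Helper2.SurfFibB.isFP_structureModule T)
  rw [← Groth.Agent.Lib.Helper21.Semicont.betti_congr_iso (pullback.fst s t)
    (Groth.Agent.Lib.Helper23.PB.pullbackUnitIso (pullback.snd s t)) s' 1,
    Groth.Agent.Lib.Helper21.TBridge.betti_baseChange t s (pullback.snd s t) (pullback.fst s t)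
      (IsPullback.of_hasPullback s t).flip (Coh.structureModule T) s' 1]
  exact betti_one_eq_zero k t h1 (s s')

end product

end Groth.Agent.Lib.Helper2.BoxPicB
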