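import Mathlib
import Groth.Agent.Lib.Helper2BoxPicB
import Groth.Agent.Lib.Helper2GrauertE
import Groth.Agent.Lib.Helper23RestrTensor

/-!
# Helper2: rational points, slices and tensor cancellation for the Picard group of a product
-/

set_option autoImplicit false
set_option linter.style.haveILetI false
universe u
open CategoryTheory CategoryTheory.Limits AlgebraicGeometry TopologicalSpace Opposite

namespace Groth.Agent.Lib.Helper2.BoxPicC

open Groth.Agent.Lib.Helper23.GenLocus Groth.Agent.Lib.Helper23.SecTw
  Groth.Agent.Lib.Helper23.PB Groth.Agent.Lib.Helper23.RestrTensor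
  Groth.Agent.Lib.Helper2.TrivFibA Groth.Agent.Lib.Helper27ProjFormula
  Groth.Agent.Lib.Helper21.ModTensor6

section ratpt
variable (k : Type u) [Field k] {S : Scheme.{u}} (s : S ⟶ Spec (CommRingCat.of k))
  (σ : Spec (CommRingCat.of k) ⟶ S) (hσ : σ ≫ s = 𝟙 _)

include hσ in
/-- the residue field point at a rational point factors through the rational point -/
theorem fromSpecResidueField_comp :
    S.fromSpecResidueField (σ (IsLocalRing.closedPoint k)) ≫ s ≫ σ =
      S.fromSpecResidueField (σ (IsLocalRing.closedPoint k)) := by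
  let x := σ (IsLocalRing.closedPoint k)
  let a : S.residueField x ⟶ CommRingCat.of k :=
    Scheme.descResidueField (Scheme.stalkClosedPointTo σ)
  have hσ' : Spec.map a ≫ S.fromSpecResidueField x = σ :=
    Scheme.descResidueField_stalkClosedPointTo_fromSpecResidueField k S σ
  let b : CommRingCat.of k ⟶ S.residueField x := Spec.preimage (S.fromSpecResidueField x ≫ s)
  have hb : Spec.map b = S.fromSpecResidueField x ≫ s := Spec.map_preimage _
  have hba : b ≫ a = 𝟙 _ := by
    apply Spec.map_injective
    rw [Spec.map_comp, hb, Spec.map_id, ← Category.assoc, hσ', hσ]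
  have hinj : Function.Injective a.hom := RingHom.injective a.hom
  have hsurj : Function.Surjective a.hom := by
    intro c
    refine ⟨b.hom c, ?_⟩
    have := congrArg (fun φ : CommRingCat.of k ⟶ CommRingCat.of k => φ.hom c) hba
    exact this
  haveI : IsIso a := (ConcreteCategory.isIso_iff_bijective a).2 ⟨hinj, hsurj⟩
  have hab : a ≫ b = 𝟙 _ := by
    have h1 : b = inv a := by
      rw [← cancel_mono a, hba, IsIso.inv_hom_id]
    rw [h1, IsIso.hom_inv_id]
  calc S.fromSpecResidueField x ≫ s ≫ σ
      = (S.fromSpecResidueField x ≫ s) ≫ Spec.map a ≫ S.fromSpecResidueField x := by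
        rw [hσ', Category.assoc]
    _ = Spec.map (a ≫ b) ≫ S.fromSpecResidueField x := by
        rw [← hb, ← Category.assoc, ← Spec.map_comp]
    _ = S.fromSpecResidueField x := by rw [hab, Spec.map_id, Category.id_comp]

variable {T : Scheme.{u}} (t : T ⟶ Spec (CommRingCat.of k))
  (j : T ⟶ pullback s t) (hj1 : j ≫ pullback.fst s t = t ≫ σ) (hj2 : j ≫ pullback.snd s t = 𝟙 T)

include hσ hj1 hj2 in
/-- the fibre of `S ×_k T ⟶ S` over a rational point factors through the slice -/
theorem fiberι_eq :
    (pullback.fst s t).fiberι (σ (IsLocalRing.closedPoint k)) =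
      ((pullback.fst s t).fiberι (σ (IsLocalRing.closedPoint k)) ≫ pullback.snd s t) ≫ j := by
  apply pullback.hom_ext
  · rw [Category.assoc, Category.assoc, hj1]
    have h1 : (pullback.fst s t).fiberι (σ (IsLocalRing.closedPoint k)) ≫ pullback.fst s t =
        (pullback.fst s t).fiberToSpecResidueField (σ (IsLocalRing.closedPoint k)) ≫
          S.fromSpecResidueField (σ (IsLocalRing.closedPoint k)) :=
      pullback.condition
    rw [← pullback.condition_assoc, ← Category.assoc, h1, Category.assoc,
      fromSpecResidueField_comp k s σ hσ]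
  · rw [Category.assoc, Category.assoc, hj2, Category.comp_id]

include hσ hj1 hj2 in
/-- a module trivial on the slice is trivial on the fibre over the rational point -/
theorem nonempty_fiber_trivial_of_slice (N : (pullback s t).Modules)
    (h : Nonempty ((Scheme.Modules.pullback j).obj N ≅ Coh.structureModule T)) :
    Nonempty ((Scheme.Modules.pullback
      ((pullback.fst s t).fiberι (σ (IsLocalRing.closedPoint k)))).obj N ≅
      Coh.structureModule ((pullback.fst s t).fiber (σ (IsLocalRing.closedPoint k)))) := by
  obtain ⟨e⟩ := h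
  let θ := (pullback.fst s t).fiberι (σ (IsLocalRing.closedPoint k)) ≫ pullback.snd s t
  exact ⟨(Scheme.Modules.pullbackCongr (fiberι_eq k s σ hσ t j hj1 hj2)).app N ≪≫
    ((Scheme.Modules.pullbackComp θ j).app N).symm ≪≫
    (Scheme.Modules.pullback θ).mapIso e ≪≫ pullbackUnitIso θ⟩

/-- invertible modules on the spectrum of a field are trivial -/
theorem nonempty_iso_of_field (L : (Spec (CommRingCat.of k)).Modules) (hL : PicF.IsInvertible L) :
    Nonempty (L ≅ Coh.structureModule (Spec (CommRingCat.of k))) := by
  obtain ⟨W, e, hxW, he⟩ := exists_gen L hL (IsLocalRing.closedPoint k)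
  have hW : W = ⊤ := by
    rw [eq_top_iff]
    intro y _
    have : y = IsLocalRing.closedPoint k := Subsingleton.elim _ _
    rw [this]
    exact hxW
  exact Groth.Agent.Lib.Helper2.GrauertE.nonempty_iso_of_isGen_top L W hW e he

end ratpt

section tensor
variable {Z : Scheme.{u}}

/-- associativity of the tensor product of modules -/
noncomputable def assocIso' (A B C : Z.Modules) :
    CohB1.tensorMod (CohB1.tensorMod A B) C ≅ CohB1.tensorMod A (CohB1.tensorMod B C) :=
  (tLTensorIso Z.sheaf A B).app C

/-- cancellation of an invertible tensor factor on the right -/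
theorem nonempty_iso_of_tensor_right (A A' B B' : Z.Modules)
    (e : CohB1.tensorMod B B' ≅ Coh.structureModule Z)
    (Φ : CohB1.tensorMod A B ≅ CohB1.tensorMod A' B) : Nonempty (A ≅ A') := by
  have h1 : ∀ C : Z.Modules, CohB1.tensorMod (CohB1.tensorMod C B) B' ≅ C := fun C =>
    assocIso' C B B' ≪≫ PicGrp.tensorModIso (Iso.refl C) e ≪≫ rightUnitIso C
  exact ⟨(h1 A).symm ≪≫ PicGrp.tensorModIso Φ (Iso.refl B') ≪≫ h1 A'⟩

end tensor

end Groth.Agent.Lib.Helper2.BoxPicC
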