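import Mathlib
import Groth.Agent.Lib.Helper2BoxPicC
import Groth.Agent.Lib.Helper23SecTw6
import Groth.Agent.Lib.Helper17ProjFormulaD
import Groth.Agent.Lib.Helper18PBUnit2
import Groth.Agent.Lib.Helper2R1RankF

/-!
# Helper2: `Pic(S ×_k T) = Pic(S) × Pic(T)` for `T` proper geometrically integral with `H¹(T, O) = 0`
and `S` connected with a rational point
-/

set_option autoImplicit false
set_option linter.style.haveILetI false
universe u
open CategoryTheory CategoryTheory.Limits AlgebraicGeometry TopologicalSpace Opposite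

namespace Groth.Agent.Lib.Helper2.BoxPicD

open Groth.Agent.Lib.Helper23.GenLocus Groth.Agent.Lib.Helper23.SecTw
  Groth.Agent.Lib.Helper23.PB Groth.Agent.Lib.Helper23.RestrTensor
  Groth.Agent.Lib.Helper2.TrivFibA Groth.Agent.Lib.Helper27ProjFormula
  Groth.Agent.Lib.Helper2.BoxPicA Groth.Agent.Lib.Helper2.BoxPicB Groth.Agent.Lib.Helper2.BoxPicC

variable (k : Type u) [Field k] {S T : Scheme.{u}}
  (s : S ⟶ Spec (CommRingCat.of k)) (t : T ⟶ Spec (CommRingCat.of k))
  (σ : Spec (CommRingCat.of k) ⟶ S) (hσ : σ ≫ s = 𝟙 _)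
  (j : T ⟶ pullback s t) (hj1 : j ≫ pullback.fst s t = t ≫ σ) (hj2 : j ≫ pullback.snd s t = 𝟙 T)

include hj2 in
/-- `j^* p₂^* M ≅ M` -/
noncomputable def sliceSnd (M : T.Modules) :
    (Scheme.Modules.pullback j).obj ((Scheme.Modules.pullback (pullback.snd s t)).obj M) ≅ M :=
  (Scheme.Modules.pullbackComp j (pullback.snd s t)).app M ≪≫
    (Scheme.Modules.pullbackCongr hj2).app M ≪≫ (Scheme.Modules.pullbackId T).app M

include hj1 in
/-- `j^* p₁^* L ≅ O_T` for `L` invertible on `S` -/
theorem nonempty_sliceFst (L : S.Modules) (hL : PicF.IsInvertible L) :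
    Nonempty ((Scheme.Modules.pullback j).obj ((Scheme.Modules.pullback (pullback.fst s t)).obj L) ≅
      Coh.structureModule T) := by
  obtain ⟨c⟩ := nonempty_iso_of_field k _ (isInvertible_pullback σ L hL)
  exact ⟨(Scheme.Modules.pullbackComp j (pullback.fst s t)).app L ≪≫
    (Scheme.Modules.pullbackCongr hj1).app L ≪≫
    ((Scheme.Modules.pullbackComp t σ).app L).symm ≪≫
    (Scheme.Modules.pullback t).mapIso c ≪≫ pullbackUnitIso t⟩

include hj1 hj2 in
/-- `j^*(p₁^*L ⊗ p₂^*M) ≅ M` -/
theorem nonempty_slice_box (L : S.Modules) (hL : PicF.IsInvertible L) (M : T.Modules) :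
    Nonempty ((Scheme.Modules.pullback j).obj
      (CohB1.tensorMod ((Scheme.Modules.pullback (pullback.fst s t)).obj L)
        ((Scheme.Modules.pullback (pullback.snd s t)).obj M)) ≅ M) := by
  obtain ⟨a⟩ := nonempty_sliceFst k s t σ j hj1 L hL
  exact ⟨pullbackTensorIso _ _ j ≪≫ PicGrp.tensorModIso a (sliceSnd k s t j hj2 M) ≪≫
    leftUnitIso M⟩

variable [IsProper t] [GeometricallyIntegral t]

include hσ hj1 hj2 in
theorem main (h1 : Subsingleton (Coh.HH T (Coh.structureModule T) 1)) [ConnectedSpace S] :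
    (∀ N : (pullback s t).Modules, PicF.IsInvertible N →
      ∃ (L : S.Modules) (M : T.Modules), PicF.IsInvertible L ∧ PicF.IsInvertible M ∧
        Nonempty (N ≅ CohB1.tensorMod ((Scheme.Modules.pullback (pullback.fst s t)).obj L)
          ((Scheme.Modules.pullback (pullback.snd s t)).obj M))) ∧
    (∀ (L L' : S.Modules) (M M' : T.Modules), PicF.IsInvertible L → PicF.IsInvertible L' →
      PicF.IsInvertible M → PicF.IsInvertible M' →
      Nonempty (CohB1.tensorMod ((Scheme.Modules.pullback (pullback.fst s t)).obj L)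
          ((Scheme.Modules.pullback (pullback.snd s t)).obj M) ≅
        CohB1.tensorMod ((Scheme.Modules.pullback (pullback.fst s t)).obj L')
          ((Scheme.Modules.pullback (pullback.snd s t)).obj M')) →
      Nonempty (L ≅ L') ∧ Nonempty (M ≅ M')) := by
  haveI : LocallyOfFinitePresentation t := inferInstance
  haveI : LocallyOfFinitePresentation (pullback.fst s t) := inferInstance
  have hbO := fun s' => betti_zero_fst k s t s'
  have hbO1 := fun s' => betti_one_fst k s t h1 s'
  have hint : ∀ y : S, IsIntegral ((pullback.fst s t).fiber y) := fun y => inferInstance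
  refine ⟨?_, ?_⟩
  · intro N hN
    let M : T.Modules := (Scheme.Modules.pullback j).obj N
    have hM : PicF.IsInvertible M := isInvertible_pullback j N hN
    obtain ⟨M', hM', ⟨e⟩, ⟨e'⟩⟩ := Groth.Agent.Lib.Helper17.ProjFormulaD.nonempty_inverse M hM
    let N' : (pullback s t).Modules :=
      CohB1.tensorMod N ((Scheme.Modules.pullback (pullback.snd s t)).obj M')
    have hN' : PicF.IsInvertible N' :=
      isInvertible_tensorMod hN (isInvertible_pullback (pullback.snd s t) M' hM')
    have hslice : Nonempty ((Scheme.Modules.pullback j).obj N' ≅ Coh.structureModule T) :=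
      ⟨pullbackTensorIso _ _ j ≪≫
        PicGrp.tensorModIso (Iso.refl M) (sliceSnd k s t j hj2 M') ≪≫ e⟩
    have htriv0 := nonempty_fiber_trivial_of_slice k s σ hσ t j hj1 hj2 N' hslice
    have htriv := fun y => trivial_on_all_fibres (pullback.fst s t) hint hbO hbO1 N' hN'
      (σ (IsLocalRing.closedPoint k)) htriv0 y
    obtain ⟨hinv, hiso⟩ := Groth.Agent.Lib.Helper2.GrauertG.main_H1 (pullback.fst s t) hbO hbO1
      N' hN' htriv
    haveI := hiso
    refine ⟨(Scheme.Modules.pushforward (pullback.fst s t)).obj N', M, hinv, hM, ⟨?_⟩⟩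
    exact (rightUnitIso N).symm ≪≫
      PicGrp.tensorModIso (Iso.refl N) ((pullbackUnitIso (pullback.snd s t)).symm ≪≫
        (Scheme.Modules.pullback (pullback.snd s t)).mapIso e'.symm ≪≫
        pullbackTensorIso M' M (pullback.snd s t)) ≪≫
      (assocIso' N _ _).symm ≪≫
      PicGrp.tensorModIso
        (asIso ((Scheme.Modules.pullbackPushforwardAdjunction (pullback.fst s t)).counit.app N')).symm
        (Iso.refl _)
  · intro L L' M M' hL hL' hM hM' ⟨Φ⟩
    obtain ⟨a⟩ := nonempty_slice_box k s t σ j hj1 hj2 L hL M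
    obtain ⟨a'⟩ := nonempty_slice_box k s t σ j hj1 hj2 L' hL' M'
    let eM : M ≅ M' := a.symm ≪≫ (Scheme.Modules.pullback j).mapIso Φ ≪≫ a'
    refine ⟨?_, ⟨eM⟩⟩
    let Φ' : CohB1.tensorMod ((Scheme.Modules.pullback (pullback.fst s t)).obj L)
          ((Scheme.Modules.pullback (pullback.snd s t)).obj M) ≅
        CohB1.tensorMod ((Scheme.Modules.pullback (pullback.fst s t)).obj L')
          ((Scheme.Modules.pullback (pullback.snd s t)).obj M) :=
      Φ ≪≫ PicGrp.tensorModIso (Iso.refl _)
        ((Scheme.Modules.pullback (pullback.snd s t)).mapIso eM.symm)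
    obtain ⟨Mi, -, ⟨e⟩, -⟩ := Groth.Agent.Lib.Helper17.ProjFormulaD.nonempty_inverse M hM
    obtain ⟨ψ⟩ := nonempty_iso_of_tensor_right _ _ _ _ (plbInv (pullback.snd s t) M Mi e) Φ'
    -- descend along `p₁`
    have hfpO := Groth.Agent.Lib.Helper2.SurfFibB.isFP_structureModule (pullback s t)
    have hflO := Groth.Agent.Lib.Helper2.SurfFibB.isFlatOver_structureModule (pullback.fst s t)
    have hunit : IsIso (ClSub.unitToPush (pullback.fst s t)) :=
      Groth.Agent.Lib.Helper2.R1RankF.isIso_unitToPush (pullback.fst s t) hfpO hflO hbO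
    have hbij : ∀ U : S.Opens, Function.Bijective ((pullback.fst s t).app U) := by
      intro U
      have h1 := (Scheme.Modules.Hom.isIso_iff_isIso_app
        (φ := ClSub.unitToPush (pullback.fst s t))).1 hunit U
      have h2 := (ConcreteCategory.isIso_iff_bijective _).1 h1
      exact h2
    haveI := Groth.Agent.Helper18PBUnit.isIso_unit (pullback.fst s t) hbij L
      (Groth.Agent.Helper18PBUnit.isFinLocFree_of_isInvertible hL)
    haveI := Groth.Agent.Helper18PBUnit.isIso_unit (pullback.fst s t) hbij L'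
      (Groth.Agent.Helper18PBUnit.isFinLocFree_of_isInvertible hL')
    exact ⟨asIso (Groth.Agent.Helper18PBUnit.η (pullback.fst s t) L) ≪≫
      (Scheme.Modules.pushforward (pullback.fst s t)).mapIso ψ ≪≫
      (asIso (Groth.Agent.Helper18PBUnit.η (pullback.fst s t) L')).symm⟩

end Groth.Agent.Lib.Helper2.BoxPicD
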