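import Mathlib
import Groth.Agent.Lib.Helper2R1RankA
import Groth.Agent.Lib.Helper21BC0EpiB

/-!
# `R¹ f_* F` is finite locally free of rank `h¹` of the fibres (helper2)

Namespace `Groth.Agent.Lib.Helper2.R1RankB`.

`f : X → S` proper of finite presentation, `F` of finite presentation and flat over `S`, with epimorphic
degree-0 base change maps of the fibre squares, `H²` of the fibres zero and `h¹` of the fibres constant
equal to `g`: then `R¹ f_* F` is finite locally free of rank `g`. Uses helper21's universal complex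
(`Helper21BC0EpiB.exists_local_complex_epi`).
-/

set_option autoImplicit false
set_option linter.style.haveILetI false
universe u
open CategoryTheory CategoryTheory.Limits AlgebraicGeometry TensorProduct Opposite TopologicalSpace

namespace Groth.Agent.Lib.Helper2.R1RankB

open Groth.Agent.Helper13QcqsBC Groth.Agent.Helper13AffBC
  Groth.Agent.Lib.Helper21.BC0Alg Groth.Agent.Lib.Helper21.BC0Geo Groth.Agent.Lib.Helper21.BC0Cx
  Groth.Agent.Lib.Helper21.BC0Free Groth.Agent.Lib.Helper21.BC0Main Groth.Agent.Lib.Helper21.AlgBC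
  Groth.Agent.Lib.Helper21.NNBC Groth.Agent.Lib.Helper21.BC0Epi

local instance (X : Scheme.{u}) : EnoughInjectives X.Modules :=
  Groth.Agent.Lib.Helper17.QCPush.enoughInjectives X

variable {X S : Scheme.{u}} (f : X ⟶ S) [IsProper f] [LocallyOfFinitePresentation f]
  (F : X.Modules) (hF : CohB1.IsFP F) (hflat : FlatMod.IsFlatOver f F)

include hF hflat in
theorem finite_projective_rank_sections_R1 {U : S.Opens} (hU : IsAffineOpen U)
    (hepi : ∀ y ∈ U, Epi (fibreBC f F y)) (h2 : ∀ s ∈ U, PerfAux.betti f F s 2 = 0)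
    (g : ℕ) (h1 : ∀ s ∈ U, PerfAux.betti f F s 1 = g) :
    Module.Finite Γ(S, U) Γ((Coh.Rpush f 1).obj F, U) ∧
      Module.Projective Γ(S, U) Γ((Coh.Rpush f 1).obj F, U) ∧
      ∀ q : PrimeSpectrum Γ(S, U), Module.rankAtStalk Γ((Coh.Rpush f 1).obj F, U) q = g := by
  obtain ⟨A₀, hA₀, φ, P, hP, hrk, hH, hW⟩ := exists_local_complex_epi f F hF hflat hU hepi
  letI : Algebra A₀ Γ(S, U) := φ.hom.toAlgebra
  let Q := CohIII.bcCx (algebraMap A₀ Γ(S, U)) P
  haveI : ∀ i, Module.Finite Γ(S, U) (Q.X i) := fun i => by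
    haveI := (hP i).1
    exact finite_bcCx_X P Γ(S, U) i
  haveI : ∀ i, Module.Projective Γ(S, U) (Q.X i) := fun i => by
    haveI := (hP i).2
    exact projective_bcCx_X P Γ(S, U) i
  have hmem : ∀ x : Spec Γ(S, U), hU.fromSpec x ∈ U := fun x => by
    have := Set.mem_range_self (f := hU.fromSpec) x
    rw [hU.range_fromSpec] at this
    exact this
  have hv := vanishing_bc P hP Γ(S, U) (-((2 : ℕ) : ℤ)) (fun x => by
    have h1 := hrk x 2
    rw [h2 _ (hmem x)] at h1
    exact h1)
  obtain ⟨-, -, ⟨-, hW2p⟩⟩ := hv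
  have e2 : (-((2 : ℕ) : ℤ)) = -1 - 1 := by norm_num
  rw [e2] at hW2p
  haveI : Module.Projective Γ(S, U) (Q.opcycles (-1 - 1)) := hW2p
  haveI : Module.Projective Γ(S, U) (Q.opcycles (-1)) := hW
  obtain ⟨-, hsurj⟩ := exact_d_pOpcycles Q 0 (-1) (by simp)
  haveI : Module.Finite Γ(S, U) (Q.opcycles (-1)) :=
    Module.Finite.of_surjective (Q.pOpcycles (-1)).hom hsurj
  obtain ⟨hf, hp⟩ := finite_projective_homology Q (-1)
  have hH1 := hH 1
  have e1 : (-((1 : ℕ) : ℤ)) = -1 := by norm_num
  rw [e1] at hH1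
  obtain ⟨e⟩ := hH1
  haveI := hf
  haveI := hp
  refine ⟨Module.Finite.equiv e.symm, Module.Projective.of_equiv e.symm, fun q => ?_⟩
  haveI : Module.Finite Γ(S, U) Γ((Coh.Rpush f 1).obj F, U) := Module.Finite.equiv e.symm
  haveI : Module.Projective Γ(S, U) Γ((Coh.Rpush f 1).obj F, U) := Module.Projective.of_equiv e.symm
  rw [Module.rankAtStalk_eq_of_equiv e]
  haveI : Module.Flat Γ(S, U) (Q.X (-1 - 1)) := inferInstance
  haveI : Module.Flat Γ(S, U) (Q.opcycles (-1 - 1)) := inferInstance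
  haveI : Module.Flat Γ(S, U) (Q.homology (-1)) := inferInstance
  have h0 : Module.rankAtStalk (Q.homology (-1)) q = CohIII.dRank Q (-1) q :=
    Groth.Agent.Lib.Helper2.R1RankA.rankAtStalk_homology Q (-1) q
  refine h0.trans ?_
  have hflatP : ∀ i, Module.Flat A₀ (P.X i) := fun i => by
    haveI := (hP i).2
    infer_instance
  have h3 : CohIII.dRank Q (-1) q =
      CohIII.dRank P (-1) (PrimeSpectrum.comap (algebraMap A₀ Γ(S, U)) q) :=
    Groth.Agent.S2440.result P hflatP (-1) q
  rw [h3]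
  have h4 := hrk q 1
  rw [e1, h1 _ (hmem q)] at h4
  exact h4

include hF hflat in
/-- **`R¹ f_* F` is finite locally free of rank `g`** when `H²` of the fibres vanishes, `h¹` of the
fibres is `g` and the degree-0 base change maps of the fibre squares are epimorphisms. -/
theorem isFinLocFreeOfRank_R1 (hepi : ∀ y : S, Epi (fibreBC f F y))
    (h2 : ∀ s : S, PerfAux.betti f F s 2 = 0) (g : ℕ) (h1 : ∀ s : S, PerfAux.betti f F s 1 = g) :
    FlatMod.IsFinLocFreeOfRank g ((Coh.Rpush f 1).obj F) := by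
  haveI hq : F.IsQuasicoherent := Groth.Agent.Helper18Strict.isQCoh_of_isFP F hF
  haveI : Coh.IsQCoh F := hq
  haveI : ((Coh.Rpush f 1).obj F).IsQuasicoherent := Groth.Agent.S0030.result f F 1
  exact Groth.Agent.Lib.Helper2.R1RankA.isFinLocFreeOfRank_of_affine _ g (fun V hV =>
    finite_projective_rank_sections_R1 f F hF hflat hV (fun y _ => hepi y) (fun s _ => h2 s) g
      (fun s _ => h1 s))

end Groth.Agent.Lib.Helper2.R1RankB
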