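import Mathlib
import Groth.Agent.Lib.Helper2R1RankB
import Groth.Agent.Lib.Helper2R1RankC
import Groth.Agent.Lib.Helper2RelCurveB
import Groth.Agent.Lib.Helper2TopCohB
import Groth.Agent.Lib.Helper6H0Const
import Groth.Agent.Lib.Helper6SmGeom
import Groth.Agent.Lib.Helper23TensorUnit

/-!
# `R¹ f_* O_X` is locally free of rank `g` for a smooth proper relative curve of genus `g` with
geometrically connected fibres (helper2)

Namespace `Groth.Agent.Lib.Helper2.R1RankD`.
-/

set_option autoImplicit false
set_option linter.style.haveILetI false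
universe u
open CategoryTheory CategoryTheory.Limits AlgebraicGeometry TopologicalSpace

namespace Groth.Agent.Lib.Helper2.R1RankD

/-- a smooth morphism is geometrically reduced -/
theorem geometricallyReduced_of_smooth {X S : Scheme.{u}} (q : X ⟶ S) [Smooth q] :
    GeometricallyReduced q := by
  constructor
  intro K' _ y Z fst snd h
  haveI : Smooth snd := MorphismProperty.of_isPullback (P := @Smooth) h inferInstance
  exact Groth.Agent.Lib.Helper6.SmGeom.isReduced_of_smooth_over_field K' Z snd

/-- global functions on a proper, geometrically reduced and geometrically connected scheme over a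
field are constants -/
theorem exists_const (k : Type u) [Field k] {Z : Scheme.{u}} (q : Z ⟶ Spec (CommRingCat.of k))
    [IsProper q] [GeometricallyReduced q] [GeometricallyConnected q] (a : Γ(Z, ⊤)) :
    ∃ c : k, a = q.appTop ((Scheme.ΓSpecIso (CommRingCat.of k)).inv c) := by
  letI : Algebra k Γ(Z, ⊤) := (Groth.Agent.Lib.Helper6.H0Const.gsMap k q).hom.toAlgebra
  have h1 : Module.finrank k Γ(Z, ⊤) = 1 :=
    Groth.Agent.Lib.Helper6.H0Const.finrank_globalSections_eq_one k q
  haveI : ConnectedSpace ↥Z := GeometricallyConnected.connectedSpace_of_subsingleton q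
  haveI : Nonempty ↥(⊤ : Z.Opens) := ⟨⟨Classical.arbitrary Z, trivial⟩⟩
  haveI hnt : Nontrivial Γ(Z, ⊤) := @Scheme.component_nontrivial Z ⊤ ‹_›
  obtain ⟨c, hc⟩ := (finrank_eq_one_iff_of_nonzero' (1 : Γ(Z, ⊤)) one_ne_zero).1 h1 a
  refine ⟨c, ?_⟩
  rw [← hc, Algebra.smul_def, mul_one]
  rfl

theorem main {X S : Scheme.{u}} (f : X ⟶ S) [IsProper f] [Smooth f] [GeometricallyConnected f]
    (hdim : ∀ s : S, topologicalKrullDim ↥(f.fiber s) = 1) (g : ℕ)
    (hgen : ∀ s : S,
      letI : (f.fiber s).Over (Spec (S.residueField s)) := ⟨f.fiberToSpecResidueField s⟩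
      Curv2.genus (S.residueField s) (f.fiber s) = g)
    [HasInjectiveResolutions X.Modules] :
    FlatMod.IsFinLocFreeOfRank g ((Coh.Rpush f 1).obj (Coh.structureModule X)) := by
  haveI : Flat f := inferInstance
  haveI : LocallyOfFinitePresentation f := inferInstance
  have hinv := Groth.Agent.Lib.Helper23.TensorUnit.isInvertible_structureModule X
  have hflf : FlatMod.IsFinLocFree (Coh.structureModule X) :=
    Groth.Agent.Lib.Helper23.ResProp.isFinLocFree_of_isInvertible _ hinv
  have hfp : CohB1.IsFP (Coh.structureModule X) :=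
    Groth.Agent.Lib.Helper2.LocFree.isFP_of_isFinLocFree _ hflf
  have hfl : FlatMod.IsFlatOver f (Coh.structureModule X) :=
    Groth.Agent.Lib.Helper2.RelCurveB.isFlatOver_of_isFlat' f _
      (Groth.Agent.Lib.Helper2.LocFree.isFlat_of_isFinLocFree _ hflf)
  refine Groth.Agent.Lib.Helper2.R1RankB.isFinLocFreeOfRank_R1 f _ hfp hfl ?_ ?_ g ?_
  · intro y
    let k : Type u := S.residueField y
    let q : f.fiber y ⟶ Spec (CommRingCat.of k) := f.fiberToSpecResidueField y
    haveI : IsProper q :=
      MorphismProperty.pullback_snd (P := @IsProper) f (S.fromSpecResidueField y) inferInstance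
    haveI : Smooth q :=
      MorphismProperty.pullback_snd (P := @Smooth) f (S.fromSpecResidueField y) inferInstance
    haveI : GeometricallyConnected q :=
      inferInstanceAs (GeometricallyConnected (f.fiberToSpecResidueField y))
    haveI : GeometricallyReduced q := geometricallyReduced_of_smooth q
    haveI : ConnectedSpace ↥(f.fiber y) := GeometricallyConnected.connectedSpace_of_subsingleton q
    haveI : Nonempty ↥(f.fiber y) := inferInstance
    exact Groth.Agent.Lib.Helper2.R1RankC.epi_fibreBC_structure f y (fun a => exists_const k q a)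
  · intro s
    haveI := Groth.Agent.Lib.Helper2.TopCohB.subsingleton_fiberH_of_dim_lt f
      (Coh.structureModule X) s 1 (hdim s).le 2 (by norm_num)
    exact Module.finrank_zero_of_subsingleton
  · intro s
    let k : Type u := S.residueField s
    letI : (f.fiber s).Over (Spec (CommRingCat.of k)) := CohIII.fiberOver f s
    have e := Groth.Agent.Lib.Helper17.StalkBC.hhEquiv k
      (Groth.Agent.Lib.Helper1.Fib.pullbackUnitIso' (f.fiberι s)) 1
    have hg : PerfAux.betti f (Coh.structureModule X) s 1 = Curv2.genus k (f.fiber s) :=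
      LinearEquiv.finrank_eq e
    rw [hg]
    exact hgen s

end Groth.Agent.Lib.Helper2.R1RankD
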