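import Mathlib
import Groth.Agent.Lib.Helper18PBUnit3
import Groth.Agent.Lib.Helper23PB

/-!
# Helper2: restriction of a basis of sections of a quasi-coherent module to a smaller affine open
-/

set_option autoImplicit false
set_option linter.style.haveILetI false
universe u
open CategoryTheory CategoryTheory.Limits AlgebraicGeometry TopologicalSpace Opposite

namespace Groth.Agent.Lib.Helper2.TopDiffA

open Groth.Agent.Lib.Helper6 Groth.Agent.Helper13PullbackUnit Groth.Agent.Helper18PBUnit

variable {X : Scheme.{u}}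

/-- `(𝟙 X)^* E ≅ E` sends the pullback of a section to the section -/
theorem pullbackId_unit (E : X.Modules) (U : X.Opens) (m : Γ(E, U)) :
    ((Scheme.Modules.pullbackId X).hom.app E).app U
      (((Scheme.Modules.pullbackPushforwardAdjunction (𝟙 X)).unit.app E).app U m) = m := by
  have h1 := unit_conjugateEquiv Adjunction.id
    (Scheme.Modules.pullbackPushforwardAdjunction (𝟙 X)) (Scheme.Modules.pullbackId X).hom E
  rw [Scheme.Modules.conjugateEquiv_pullbackId_hom] at h1
  have h2 := congrArg (fun φ => Scheme.Modules.Hom.app φ U m) h1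
  exact h2.symm

/-- **restriction of a basis**: for a quasi-coherent module `E`, affine opens `A ≤ U` and a basis of
`Γ(E, U)` over `Γ(X, U)`, the restricted sections are a basis-like family of `Γ(E, A)` over `Γ(X, A)` -/
theorem isBasisLike_res (E : X.Modules) [E.IsQuasicoherent] {U A : X.Opens} (hU : IsAffineOpen U)
    (hA : IsAffineOpen A) (hle : A ≤ U) {n : ℕ} (b : Module.Basis (Fin n) Γ(X, U) Γ(E, U)) :
    IsBasisLike Γ(X, A) (fun i => res E hle (b i)) := by
  have hle' : A ≤ (𝟙 X) ⁻¹ᵁ U := hle
  have hB : IsBasisLike Γ(X, A) (fun i => unitSec (𝟙 X) E hle' (b i)) :=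
    isBasisLike_of_existsUnique_lift (Scheme.Hom.appLE (𝟙 X) U A hle').hom (unitSec (𝟙 X) E hle')
      (unitSec_smul (𝟙 X) E hle') (fun Q _ _ l hl => existsUnique_lift (𝟙 X) E hU hA hle' Q l hl) b
  let Φ := ((Scheme.Modules.pullbackId X).hom.app E).app A
  have hΦ : ∀ m : Γ(E, U), Φ (unitSec (𝟙 X) E hle' m) = res E hle m := by
    intro m
    rw [unitSec_apply]
    have h1 := Groth.Agent.Lib.Helper23.Extend.app_map ((Scheme.Modules.pullbackId X).hom.app E)
      (homOfLE hle') (((Scheme.Modules.pullbackPushforwardAdjunction (𝟙 X)).unit.app E).app U m)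
    refine h1.trans ?_
    exact congrArg (fun z : Γ(E, U) => res E hle z) (pullbackId_unit E U m)
  have hiso : IsIso ((Scheme.Modules.pullbackId X).hom.app E) := inferInstance
  have hbij : Function.Bijective Φ := by
    have h1 := (Scheme.Modules.Hom.isIso_iff_isIso_app
      (φ := (Scheme.Modules.pullbackId X).hom.app E)).1 hiso A
    exact (ConcreteCategory.isIso_iff_bijective _).1 h1
  have hsum : ∀ c : Fin n → Γ(X, A), Φ (∑ i, c i • unitSec (𝟙 X) E hle' (b i)) =
      ∑ i, c i • res E hle (b i) := by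
    intro c
    rw [map_sum]
    refine Finset.sum_congr rfl (fun i _ => ?_)
    rw [Scheme.Modules.Hom.app_smul, hΦ]
  refine ⟨fun c hc => ?_, fun t => ?_⟩
  · apply hB.1 c
    apply hbij.1
    rw [hsum, hc, map_zero]
  · obtain ⟨t', rfl⟩ := hbij.2 t
    obtain ⟨c, hc⟩ := hB.2 t'
    exact ⟨c, by rw [hc, hsum]⟩

end Groth.Agent.Lib.Helper2.TopDiffA
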