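import Mathlib

/-!
# Helper2: the top exterior power of a free module of rank `n` is free of rank one
-/

set_option autoImplicit false
universe u

namespace Groth.Agent.Lib.Helper2.TopDiffB

open Module

variable {R M : Type*} [CommRing R] [AddCommGroup M] [Module R M]

instance subsingleton_powersetCard (n : ℕ) : Subsingleton (Set.powersetCard (Fin n) n) := by
  have h : Nat.card (Set.powersetCard (Fin n) n) = 1 := by
    rw [Set.powersetCard.card, Nat.card_eq_fintype_card, Fintype.card_fin, Nat.choose_self]
  exact (Nat.card_eq_one_iff_unique.1 h).1

/-- the top wedge of a basis generates the top exterior power freely -/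
theorem bijective_smul_ιMulti_family {n : ℕ} (b : Basis (Fin n) R M)
    (s : Set.powersetCard (Fin n) n) :
    Function.Bijective (fun r : R => r • exteriorPower.ιMulti_family R n b s) := by
  let B := b.exteriorPower n
  have hB : B s = exteriorPower.ιMulti_family R n b s := exteriorPower.basis_apply R n b s
  rw [← hB]
  constructor
  · intro r r' h
    have h1 := congrArg (fun x => B.repr x s) h
    simpa using h1
  · intro x
    refine ⟨B.repr x s, ?_⟩
    apply B.repr.injective
    ext t
    have : t = s := Subsingleton.elim t s
    subst this
    simp

end Groth.Agent.Lib.Helper2.TopDiffB
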