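import Mathlib
import Groth.Prelude.Def_ExtPow2
import Groth.Agent.Lib.Helper2TopDiffA
import Groth.Agent.Lib.Helper2TopDiffB
import Groth.Agent.Lib.Helper23SecTw6

/-!
# Helper2: a top exterior power of a locally free module of rank `n` is invertible
-/

set_option autoImplicit false
set_option linter.style.haveILetI false
universe u
open CategoryTheory CategoryTheory.Limits AlgebraicGeometry TopologicalSpace Opposite

namespace Groth.Agent.Lib.Helper2.TopDiffC

open Groth.Agent.Lib.Helper6 Groth.Agent.Helper13PullbackUnit Groth.Agent.Helper18PBUnit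
  Groth.Agent.Lib.Helper23.SecTw Groth.Agent.Lib.Helper23.PB
  Groth.Agent.Lib.Helper2.TopDiffA Groth.Agent.Lib.Helper2.TopDiffB

variable {X : Scheme.{u}}

/-- a basis-like family is a basis -/
noncomputable def basisOfIsBasisLike {R N : Type*} [CommRing R] [AddCommGroup N] [Module R N] {n : ℕ}
    (s : Fin n → N) (h : IsBasisLike R s) : Module.Basis (Fin n) R N :=
  Module.Basis.mk (v := s)
    (by
      rw [Fintype.linearIndependent_iff]
      intro c hc i
      exact congrFun (h.1 c hc) i)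
    (by
      intro t _
      obtain ⟨c, rfl⟩ := h.2 t
      exact Submodule.sum_mem _ (fun i _ => Submodule.smul_mem _ _ (Submodule.subset_span ⟨i, rfl⟩)))

theorem basisOfIsBasisLike_apply {R N : Type*} [CommRing R] [AddCommGroup N] [Module R N] {n : ℕ}
    (s : Fin n → N) (h : IsBasisLike R s) (i : Fin n) : basisOfIsBasisLike s h i = s i := by
  simp [basisOfIsBasisLike]

/-- **the top exterior power of a locally free module of rank `n` is invertible** -/
theorem isInvertible_of_isExtPow (E L : X.Modules) [E.IsQuasicoherent] (n : ℕ)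
    (hE : ∀ x : X, ∃ U : X.Opens, IsAffineOpen U ∧ x ∈ U ∧
      Nonempty (Module.Basis (Fin n) Γ(X, U) Γ(E, U)))
    (hL : ExtPow.IsExtPow n E L) : PicF.IsInvertible L := by
  obtain ⟨φ, hφ⟩ := hL
  apply isInvertible_of_isGen
  intro x
  obtain ⟨U, hU, hxU, ⟨b⟩⟩ := hE x
  let s₀ : Set.powersetCard (Fin n) n :=
    Set.powersetCard.ofFinEmb n (Fin n) (Function.Embedding.refl (Fin n))
  let σ : Fin n → Fin n := ⇑(Set.powersetCard.ofFinEmbEquiv.symm s₀)
  let e : Fin n → E.val.obj (op U) := fun j => b (σ j)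
  let g : Γ(L, U) := (φ ⟨U, hU⟩).symm (exteriorPower.ιMulti _ n e)
  refine ⟨U, g, hxU, isGen_of_affine L U g (fun A hAU hA => ?_)⟩
  have hBL := isBasisLike_res E hU hA hAU b
  let bA : Module.Basis (Fin n) Γ(X, A) Γ(E, A) := basisOfIsBasisLike _ hBL
  have hres := hφ ⟨U, hU⟩ ⟨A, hA⟩ hAU e
  have hfam : (exteriorPower.ιMulti (↑Γ(X, A)) n (M := E.val.obj (op A))
      fun j => ((ConcreteCategory.hom (E.val.map (homOfLE hAU).op)) (e j) : E.val.obj (op A))) =
      exteriorPower.ιMulti_family Γ(X, A) n bA s₀ := by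
    change _ = exteriorPower.ιMulti Γ(X, A) n (bA ∘ σ)
    congr 1
    funext j
    rw [Function.comp_apply, basisOfIsBasisLike_apply]
    rfl
  have hbij := bijective_smul_ιMulti_family bA s₀
  have hres' : res L hAU g =
      (φ ⟨A, hA⟩).symm (exteriorPower.ιMulti_family Γ(X, A) n bA s₀) :=
    hres.trans (congrArg (φ ⟨A, hA⟩).symm hfam)
  have hfun : ∀ r : Γ(X, A), r • res L hAU g =
      (φ ⟨A, hA⟩).symm (r • exteriorPower.ιMulti_family Γ(X, A) n bA s₀) := by
    intro r
    rw [hres']
    exact ((φ ⟨A, hA⟩).symm.map_smul r _).symm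
  have hfun' : (fun r : Γ(X, A) => r • res L hAU g) =
      (φ ⟨A, hA⟩).symm ∘ (fun r : Γ(X, A) => r • exteriorPower.ιMulti_family Γ(X, A) n bA s₀) :=
    funext hfun
  rw [hfun']
  exact (φ ⟨A, hA⟩).symm.bijective.comp hbij

end Groth.Agent.Lib.Helper2.TopDiffC
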