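import Mathlib
import Groth.Prelude.Def_Canon
import Groth.Agent.Lib.Helper2TopDiffC
import Groth.Agent.Lib.Helper18FittSh6
import Groth.Agent.Lib.Helper20OmegaQCoh

/-!
# Helper2: the relative canonical sheaf of a smooth morphism of relative dimension `n` is invertible
-/

set_option autoImplicit false
set_option linter.style.haveILetI false
universe u
open CategoryTheory CategoryTheory.Limits AlgebraicGeometry TopologicalSpace Opposite

namespace Groth.Agent.Lib.Helper2.TopDiffD

variable {X S : Scheme.{u}} (f : X ⟶ S)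

/-- local bases of the sheaf of relative differentials of a smooth morphism of relative dimension `n` -/
theorem exists_basis_omega (n : ℕ) [SmoothOfRelativeDimension n f] [QuasiSeparated f] (x : X) :
    ∃ U : X.Opens, IsAffineOpen U ∧ x ∈ U ∧
      Nonempty (Module.Basis (Fin n) Γ(X, U) Γ(Omega.sheaf f, U)) := by
  obtain ⟨V, hV, U, hU, hxU, e, hstd⟩ :=
    SmoothOfRelativeDimension.exists_isStandardSmoothOfRelativeDimension (n := n) (f := f) x
  refine ⟨U, hU, hxU, ?_⟩
  letI : Algebra Γ(S, V) Γ(X, U) := (f.appLE V U e).hom.toAlgebra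
  haveI : Algebra.IsStandardSmoothOfRelativeDimension n Γ(S, V) Γ(X, U) := hstd
  haveI : Algebra.IsStandardSmooth Γ(S, V) Γ(X, U) :=
    Algebra.IsStandardSmoothOfRelativeDimension.isStandardSmooth n
  haveI : Nonempty U := ⟨⟨x, hxU⟩⟩
  haveI : Nontrivial Γ(X, U) := inferInstance
  obtain ⟨eq⟩ := Groth.Agent.Helper18FittSh.nonempty_sections_omega_equiv f hU hV e
  have hrank : Module.rank Γ(X, U) Ω[Γ(X, U)⁄Γ(S, V)] = n :=
    Algebra.IsStandardSmoothOfRelativeDimension.rank_kaehlerDifferential n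
  haveI : Module.Finite Γ(X, U) Ω[Γ(X, U)⁄Γ(S, V)] := inferInstance
  have hfr : Module.finrank Γ(X, U) Ω[Γ(X, U)⁄Γ(S, V)] = n :=
    Module.finrank_eq_of_rank_eq hrank
  exact ⟨(Module.finBasisOfFinrankEq Γ(X, U) Ω[Γ(X, U)⁄Γ(S, V)] hfr).map eq.symm⟩

/-- **the relative canonical sheaf of a smooth morphism is invertible** -/
theorem isInvertible_of_isTopDiff (n : ℕ) [SmoothOfRelativeDimension n f] [QuasiSeparated f]
    (ω : X.Modules) (hω : Canon.IsTopDiff f n ω) : PicF.IsInvertible ω := by
  haveI : (Omega.sheaf f).IsQuasicoherent :=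
    Groth.Agent.Lib.Helper20.OmegaQCoh.isQuasicoherent_omega f
  exact Groth.Agent.Lib.Helper2.TopDiffC.isInvertible_of_isExtPow (Omega.sheaf f) ω n
    (exists_basis_omega f n) hω

end Groth.Agent.Lib.Helper2.TopDiffD
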