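import Mathlib
import Groth.Prelude.Def_RedSub
import Groth.Agent.Lib.Helper2GrauertF
import Groth.Agent.Lib.Helper2TopDiffD
import Groth.Agent.Lib.Helper2R1RankD
import Groth.Agent.Lib.Helper27ProjSpaceFibres

/-!
# Helper2: evaluation map of pluricanonical sheaves — common reductions
-/

set_option autoImplicit false
set_option linter.style.haveILetI false
universe u
open CategoryTheory CategoryTheory.Limits AlgebraicGeometry TopologicalSpace Opposite

namespace Groth.Agent.Lib.Helper2.CanonEvA

variable {X S : Scheme.{u}} (f : X ⟶ S)

/-- a locally projective morphism (in the sense of `RedSub.IsLocallyProjective`) is proper -/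
theorem isProper_of_isLocallyProjective (h : RedSub.IsLocallyProjective (Over.mk f)) :
    IsProper f := by
  choose V hV n e he hcomp using h
  have hcov : iSup V = ⊤ := by
    rw [eq_top_iff]
    intro s _
    exact TopologicalSpace.Opens.mem_iSup.2 ⟨s, hV s⟩
  refine IsZariskiLocalAtTarget.of_iSup_eq_top (P := @IsProper) V hcov (fun s => ?_)
  haveI := he s
  haveI : IsProper (CohB1.ProjSpaceOver.toBase (n s) (V s : Scheme.{u})) :=
    Groth.Agent.Lib.Helper27ProjSpaceFibres.isProper_toBase (n s) (V s : Scheme.{u})
  have h1 : IsProper (Red.bc (V s).ι (Over.mk f)).hom := by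
    rw [← hcomp s]
    infer_instance
  have h2 : IsProper (pullback.snd f (V s).ι) := h1
  have h3 : f ∣_ (V s) = (pullbackRestrictIsoRestrict f (V s)).inv ≫ pullback.snd f (V s).ι := by
    rw [← pullbackRestrictIsoRestrict_hom_morphismRestrict, Iso.inv_hom_id_assoc]
  rw [h3]
  infer_instance

/-- `h⁰(X_s, O) = 1` for a proper smooth morphism with geometrically connected fibres -/
theorem betti_zero_eq_one [IsProper f] [Smooth f] [GeometricallyConnected f] (s : S) :
    PerfAux.betti f (Coh.structureModule X) s 0 = 1 := by
  rw [Groth.Agent.Lib.Helper2.SurfFibB.betti_zero_eq_finrank]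
  let k : Type u := S.residueField s
  let q : f.fiber s ⟶ Spec (CommRingCat.of k) := f.fiberToSpecResidueField s
  haveI : IsProper q :=
    MorphismProperty.pullback_snd (P := @IsProper) f (S.fromSpecResidueField s) inferInstance
  haveI : Smooth q :=
    MorphismProperty.pullback_snd (P := @Smooth) f (S.fromSpecResidueField s) inferInstance
  haveI : GeometricallyConnected q :=
    inferInstanceAs (GeometricallyConnected (f.fiberToSpecResidueField s))
  haveI : GeometricallyReduced q := Groth.Agent.Lib.Helper2.R1RankD.geometricallyReduced_of_smooth q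
  exact Groth.Agent.Lib.Helper6.H0Const.finrank_globalSections_eq_one k q

end Groth.Agent.Lib.Helper2.CanonEvA
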