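import Mathlib
import Groth.Agent.Lib.Helper2BoxPicA
import Groth.Agent.Lib.Helper1Fib3
import Groth.Agent.Lib.Helper4CurveBun2
import Groth.Agent.Lib.Helper23QAffSec
import Groth.Agent.Lib.Helper26ModRank

/-!
# Helper2: the descent locus of an invertible module (geometrically integral fibres) is closed
-/

set_option autoImplicit false
set_option linter.style.haveILetI false
universe u
open CategoryTheory CategoryTheory.Limits AlgebraicGeometry TopologicalSpace Opposite

namespace Groth.Agent.Lib.Helper2.DescLocA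

open Groth.Agent.Lib.Helper23.PB

/-- a point in the image of a preimmersion: its residue field point lifts -/
theorem exists_lift_fromSpecResidueField {Z S : Scheme.{u}} (j : Z ⟶ S) [IsPreimmersion j] (z : Z) :
    ∃ g' : Spec (S.residueField (j z)) ⟶ Z, g' ≫ j = S.fromSpecResidueField (j z) := by
  let φ : S.residueField (j z) ⟶ Z.residueField z := j.residueFieldMap z
  have hsurj : Function.Surjective φ.hom := by
    intro c
    obtain ⟨c', rfl⟩ := Z.residue_surjective z c
    obtain ⟨d, rfl⟩ := j.stalkMap_surjective z c'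
    refine ⟨S.residue (j z) d, ?_⟩
    have := congrArg (fun ψ : S.presheaf.stalk (j z) ⟶ Z.residueField z => ψ.hom d)
      (Scheme.residue_residueFieldMap j z)
    exact this
  have hinj : Function.Injective φ.hom := RingHom.injective φ.hom
  haveI : IsIso φ := (ConcreteCategory.isIso_iff_bijective φ).2 ⟨hinj, hsurj⟩
  refine ⟨Spec.map (inv φ) ≫ Z.fromSpecResidueField z, ?_⟩
  rw [Category.assoc, ← Scheme.Hom.SpecMap_residueFieldMap_fromSpecResidueField, ← Category.assoc,
    ← Spec.map_comp, IsIso.hom_inv_id, Spec.map_id, Category.id_comp]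

/-- the free module of rank `n` has rank `n` -/
theorem isFinLocFreeOfRank_freeMod (Y : Scheme.{u}) (n : ℕ) :
    FlatMod.IsFinLocFreeOfRank n (FlatMod.freeMod Y n) := by
  intro x
  exact ⟨⊤, trivial, ⟨(Scheme.Modules.restrictFunctorIsoPullback (⊤ : Y.Opens).ι).app _ ≪≫
    Groth.Agent.Lib.Helper1.Fib.pullbackFreeModIso (⊤ : Y.Opens).ι n⟩⟩

/-- an invertible module isomorphic to a free module on a nonempty scheme is trivial -/
theorem nonempty_iso_structure_of_iso_freeMod {Y : Scheme.{u}} [Nonempty Y] (L : Y.Modules)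
    (hL : PicF.IsInvertible L) (n : ℕ) (e : L ≅ FlatMod.freeMod Y n) :
    Nonempty (L ≅ Coh.structureModule Y) := by
  have h1 := Groth.Agent.Lib.Helper23.SecTw.isFinLocFreeOfRank_one_of_isInvertible L hL
  have h2 := Groth.Agent.Lib.Helper26.ModRank.isFinLocFreeOfRank_of_iso e.symm
    (isFinLocFreeOfRank_freeMod Y n)
  have hn : 1 = n := Groth.Agent.Lib.Helper4.CurveBun.rank_unique L 1 n h1 h2
  subst hn
  exact ⟨e ≪≫ Limits.coproductUniqueIso (fun _ : Fin 1 => Coh.structureModule Y)⟩

/-- the pullback of a finite locally free module on the spectrum of a field is free -/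
theorem exists_iso_freeMod_of_field (κ : Type u) [Field κ] {Y : Scheme.{u}}
    (q : Y ⟶ Spec (CommRingCat.of κ)) (N : (Spec (CommRingCat.of κ)).Modules)
    (hN : FlatMod.IsFinLocFree N) :
    ∃ n : ℕ, Nonempty ((Scheme.Modules.pullback q).obj N ≅ FlatMod.freeMod Y n) := by
  obtain ⟨U, n, hxU, ⟨ε⟩⟩ := hN (IsLocalRing.closedPoint κ)
  have hU : ∀ y : Spec (CommRingCat.of κ), y ∈ U := fun y => by
    have : y = IsLocalRing.closedPoint κ := Subsingleton.elim _ _
    rw [this]
    exact hxU
  have hr : Set.range q ⊆ Set.range U.ι := by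
    rintro _ ⟨y, rfl⟩
    rw [Scheme.Opens.range_ι]
    exact hU (q y)
  let q' : Y ⟶ (U : Scheme.{u}) := IsOpenImmersion.lift U.ι q hr
  have hq' : q' ≫ U.ι = q := IsOpenImmersion.lift_fac U.ι q hr
  refine ⟨n, ⟨(Scheme.Modules.pullbackCongr hq'.symm).app N ≪≫
    ((Scheme.Modules.pullbackComp q' U.ι).app N).symm ≪≫
    (Scheme.Modules.pullback q').mapIso
      (((Scheme.Modules.restrictFunctorIsoPullback U.ι).app N).symm ≪≫ ε) ≪≫
    Groth.Agent.Lib.Helper1.Fib.pullbackFreeModIso q' n⟩⟩

end Groth.Agent.Lib.Helper2.DescLocA
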