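import Mathlib
import Groth.Agent.Lib.Helper2DescLocA
import Groth.Agent.Lib.Helper2FamDesc
import Groth.Agent.Lib.Helper23QCohLocal

/-!
# Helper2: `f_* L` is invertible when the evaluation map `f^* f_* L ⟶ L` is an isomorphism and `f` is
faithfully flat and quasi-compact (fpqc descent of finite local freeness)
-/

set_option autoImplicit false
set_option linter.style.haveILetI false
universe u
open CategoryTheory CategoryTheory.Limits AlgebraicGeometry TopologicalSpace Opposite

namespace Groth.Agent.Lib.Helper2.CanonEvB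

open Groth.Agent.Lib.Helper23.PB

variable {X S : Scheme.{u}} (f : X ⟶ S)

theorem isFinLocFreeOfRank_one_push [QuasiCompact f] [QuasiSeparated f] [Flat f] [Surjective f]
    (L : X.Modules) (hL : PicF.IsInvertible L)
    (hev : IsIso ((Scheme.Modules.pullbackPushforwardAdjunction f).counit.app L)) :
    FlatMod.IsFinLocFreeOfRank 1 ((Scheme.Modules.pushforward f).obj L) := by
  haveI : L.IsQuasicoherent := Groth.Agent.Lib.Helper23.SecTw.isQuasicoherent_of_isInvertible L hL
  haveI qc : ((Scheme.Modules.pushforward f).obj L).IsQuasicoherent :=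
    Groth.Agent.Lib.Helper23.QCohLocal.isQuasicoherent_pushforward f L
  let E := (Scheme.Modules.pushforward f).obj L
  let c : (Scheme.Modules.pullback f).obj E ≅ L :=
    asIso ((Scheme.Modules.pullbackPushforwardAdjunction f).counit.app L)
  have h1 : FlatMod.IsFinLocFree ((Scheme.Modules.pullback f).obj E) :=
    Groth.Agent.Helper18PBUnit.isFinLocFree_of_iso c.symm
      (Groth.Agent.Helper18PBUnit.isFinLocFree_of_isInvertible hL)
  have h2 : FlatMod.IsFinLocFree E :=
    Groth.Agent.Lib.Helper2.FamDesc.isFinLocFree_of_pullback f E h1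
  intro y
  obtain ⟨U, n, hyU, ⟨e⟩⟩ := h2 y
  suffices hn : n = 1 by
    subst hn
    exact ⟨U, hyU, ⟨e⟩⟩
  let V : X.Opens := f ⁻¹ᵁ U
  let fU : (V : Scheme.{u}) ⟶ (U : Scheme.{u}) := f ∣_ U
  haveI : (E.restrict U.ι).IsQuasicoherent :=
    Scheme.Modules.isQuasicoherent_restrictFunctor U.ι E
  have hr1 : FlatMod.IsFinLocFreeOfRank n (E.restrict U.ι) :=
    Groth.Agent.Lib.Helper26.ModRank.isFinLocFreeOfRank_of_iso e.symm
      (Groth.Agent.Lib.Helper2.DescLocA.isFinLocFreeOfRank_freeMod _ n)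
  have hr2 := Groth.Agent.Lib.Helper26.ModRank.isFinLocFreeOfRank_pullback fU _ hr1
  have hsq : fU ≫ U.ι = V.ι ≫ f := morphismRestrict_ι f U
  let φ : (Scheme.Modules.pullback fU).obj (E.restrict U.ι) ≅ (Scheme.Modules.pullback V.ι).obj L :=
    (Scheme.Modules.pullback fU).mapIso ((Scheme.Modules.restrictFunctorIsoPullback U.ι).app E) ≪≫
    (Scheme.Modules.pullbackComp fU U.ι).app E ≪≫
    (Scheme.Modules.pullbackCongr hsq).app E ≪≫
    ((Scheme.Modules.pullbackComp V.ι f).app E).symm ≪≫
    (Scheme.Modules.pullback V.ι).mapIso c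
  have hr3 : FlatMod.IsFinLocFreeOfRank n ((Scheme.Modules.pullback V.ι).obj L) :=
    Groth.Agent.Lib.Helper26.ModRank.isFinLocFreeOfRank_of_iso φ hr2
  have hr4 : FlatMod.IsFinLocFreeOfRank 1 ((Scheme.Modules.pullback V.ι).obj L) :=
    Groth.Agent.Lib.Helper23.SecTw.isFinLocFreeOfRank_one_of_isInvertible _
      (isInvertible_pullback V.ι L hL)
  obtain ⟨x, hx⟩ := f.surjective y
  haveI : Nonempty (V : Scheme.{u}) := ⟨⟨x, by
    change f x ∈ U
    rw [hx]
    exact hyU⟩⟩
  exact Groth.Agent.Lib.Helper4.CurveBun.rank_unique _ n 1 hr3 hr4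

end Groth.Agent.Lib.Helper2.CanonEvB
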