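import Mathlib
import Groth.Prelude.Def_BlowUp2
import Groth.Agent.Lib.Helper20EffCartier
import Groth.Agent.Lib.Helper2QCoh

/-!
# Globalising a relation `m D = n E` between effective Cartier divisors (helper2)

Namespace `Groth.Agent.Lib.Helper2.CartierRel`.
* `rel_restrict` : a relation `D(U)^m = E(U)^n` restricts to smaller affine opens.
* `ideal_eq_top_of_disjoint_support`.
* `mul_eq_mul_of_rel` : at a point of `supp D` the ratio `m : n` of a local relation is unique.
* `exists_global_rel` : on a quasi-compact scheme with `supp D ∪ supp E` preconnected, local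
  relations `m D = n E` (with `(m,n) ≠ 0`) globalise.
-/

set_option autoImplicit false
set_option linter.style.haveILetI false
universe u
open CategoryTheory CategoryTheory.Limits AlgebraicGeometry TopologicalSpace Topology

namespace Groth.Agent.Lib.Helper2.CartierRel

open Groth.Agent.Lib.Helper20.EffCartier

variable {X : Scheme.{u}}

theorem rel_restrict (D E : X.IdealSheafData) {U V : X.affineOpens} (h : V ≤ U) (m n : ℕ)
    (hrel : D.ideal U ^ m = E.ideal U ^ n) : D.ideal V ^ m = E.ideal V ^ n := by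
  rw [← D.map_ideal h, ← E.map_ideal h, ← Ideal.map_pow, ← Ideal.map_pow, hrel]

theorem ideal_eq_top_of_disjoint_support (I : X.IdealSheafData) (U : X.affineOpens)
    (h : ∀ y ∈ U.1, y ∉ I.support) : I.ideal U = ⊤ := by
  by_contra hne
  obtain ⟨P, hP, hle⟩ := Ideal.exists_le_maximal _ hne
  let q : PrimeSpectrum Γ(X, U.1) := ⟨P, hP.isPrime⟩
  have hyU : U.2.fromSpec q ∈ U.1 := Groth.Agent.Lib.Helper2.QCoh.fromSpec_mem U.2 q
  apply h _ hyU
  rw [Scheme.IdealSheafData.mem_support_iff_of_mem (U := U) hyU, Scheme.mem_zeroLocus_iff]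
  intro f hf hyf
  exact (Groth.Agent.Lib.Helper2.QCoh.mem_basicOpen_fromSpec_iff U.2 q f).1 hyf (hle hf)

theorem mul_eq_mul_of_rel (D E : X.IdealSheafData) (hD : BlowUp.IsEffCartierIdeal D) (x : X)
    (hx : x ∈ D.support) (m n m' n' : ℕ) (U U' : X.affineOpens) (hxU : x ∈ U.1)
    (hxU' : x ∈ U'.1) (h1 : D.ideal U ^ m = E.ideal U ^ n)
    (h2 : D.ideal U' ^ m' = E.ideal U' ^ n') : m * n' = m' * n := by
  obtain ⟨W, hW, hxW, hWle, g, hg, hDg⟩ :=
    exists_le_of_isEffCartierIdeal hD x (U.1 ⊓ U'.1) ⟨hxU, hxU'⟩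
  have hWU : (⟨W, hW⟩ : X.affineOpens) ≤ U := hWle.trans inf_le_left
  have hWU' : (⟨W, hW⟩ : X.affineOpens) ≤ U' := hWle.trans inf_le_right
  have r1 := rel_restrict D E hWU m n h1
  have r2 := rel_restrict D E hWU' m' n' h2
  have key : D.ideal ⟨W, hW⟩ ^ (m * n') = D.ideal ⟨W, hW⟩ ^ (m' * n) := by
    rw [pow_mul, r1, ← pow_mul, mul_comm n n', pow_mul, ← r2, ← pow_mul]
  rw [hDg, Ideal.span_singleton_pow, Ideal.span_singleton_pow] at key
  have hgu : ¬ IsUnit g := by
    intro hu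
    have htop : D.ideal ⟨W, hW⟩ = ⊤ := by
      rw [hDg]
      exact Ideal.span_singleton_eq_top.mpr hu
    rw [Scheme.IdealSheafData.mem_support_iff_of_mem (U := ⟨W, hW⟩) hxW,
      Scheme.mem_zeroLocus_iff] at hx
    have h3 := hx 1 (by rw [htop]; trivial)
    rw [Scheme.basicOpen_of_isUnit _ isUnit_one] at h3
    exact h3 hxW
  have aux : ∀ a b : ℕ, a < b → Ideal.span {g ^ a} = Ideal.span {g ^ b} → False := by
    intro a b hab he
    have hmem : g ^ a ∈ Ideal.span {g ^ b} := by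
      rw [← he]
      exact Ideal.subset_span rfl
    obtain ⟨c, hc⟩ := Ideal.mem_span_singleton'.mp hmem
    obtain ⟨d, rfl⟩ : ∃ d, b = a + (d + 1) := ⟨b - a - 1, by omega⟩
    have h3 : c * g ^ d * g = 1 := by
      apply (mul_cancel_right_mem_nonZeroDivisors (pow_mem hg a)).mp
      linear_combination hc
    exact hgu (IsUnit.of_mul_eq_one_right _ h3)
  rcases lt_trichotomy (m * n') (m' * n) with h | h | h
  · exact (aux _ _ h key).elim
  · exact h
  · exact (aux _ _ h key.symm).elim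

theorem exists_global_rel [CompactSpace X] (D E : X.IdealSheafData)
    (hD : BlowUp.IsEffCartierIdeal D) (hE : BlowUp.IsEffCartierIdeal E)
    (hconn : IsPreconnected ((D.support : Set X) ∪ (E.support : Set X)))
    (hloc : ∀ x : X, ∃ U : X.affineOpens, x ∈ U.1 ∧
      ∃ m n : ℕ, (m, n) ≠ (0, 0) ∧ D.ideal U ^ m = E.ideal U ^ n) :
    ∃ m n : ℕ, (m, n) ≠ (0, 0) ∧ ∀ U : X.affineOpens, D.ideal U ^ m = E.ideal U ^ n := by
  classical
  have huniq : ∀ x ∈ (D.support : Set X) ∪ (E.support : Set X),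
      ∀ (m n m' n' : ℕ) (U U' : X.affineOpens), x ∈ U.1 → x ∈ U'.1 →
        D.ideal U ^ m = E.ideal U ^ n → D.ideal U' ^ m' = E.ideal U' ^ n' →
        m * n' = m' * n := by
    intro x hx m n m' n' U U' hxU hxU' h1 h2
    rcases hx with hx | hx
    · exact mul_eq_mul_of_rel D E hD x hx m n m' n' U U' hxU hxU' h1 h2
    · have h3 := mul_eq_mul_of_rel E D hE x hx n m n' m' U U' hxU hxU' h1.symm h2.symm
      rw [mul_comm m n', mul_comm m' n]
      exact h3.symm
  by_cases hS : ((D.support : Set X) ∪ (E.support : Set X)).Nonempty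
  swap
  · refine ⟨1, 1, by simp, fun U => ?_⟩
    have hD' : D.ideal U = ⊤ :=
      ideal_eq_top_of_disjoint_support D U (fun y _ hy => hS ⟨y, Or.inl hy⟩)
    have hE' : E.ideal U = ⊤ :=
      ideal_eq_top_of_disjoint_support E U (fun y _ hy => hS ⟨y, Or.inr hy⟩)
    rw [hD', hE']
  obtain ⟨x₀, hx₀⟩ := hS
  obtain ⟨U₀, hx₀U₀, m₀, n₀, hne₀, hrel₀⟩ := hloc x₀
  have hprop : ∀ x ∈ (D.support : Set X) ∪ (E.support : Set X),
      ∀ (m n : ℕ) (U : X.affineOpens), (m, n) ≠ (0, 0) → x ∈ U.1 →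
        D.ideal U ^ m = E.ideal U ^ n → m * n₀ = m₀ * n := by
    let A : Set X := {x | ∃ (m n : ℕ) (U : X.affineOpens), (m, n) ≠ (0, 0) ∧ x ∈ U.1 ∧
      D.ideal U ^ m = E.ideal U ^ n ∧ m * n₀ = m₀ * n}
    let B : Set X := {x | ∃ (m n : ℕ) (U : X.affineOpens), (m, n) ≠ (0, 0) ∧ x ∈ U.1 ∧
      D.ideal U ^ m = E.ideal U ^ n ∧ m * n₀ ≠ m₀ * n}
    have hA : IsOpen A := by
      rw [isOpen_iff_forall_mem_open]
      rintro x ⟨m, n, U, hne, hxU, hrel, hp⟩
      exact ⟨U.1, fun y hy => ⟨m, n, U, hne, hy, hrel, hp⟩, U.1.2, hxU⟩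
    have hB : IsOpen B := by
      rw [isOpen_iff_forall_mem_open]
      rintro x ⟨m, n, U, hne, hxU, hrel, hp⟩
      exact ⟨U.1, fun y hy => ⟨m, n, U, hne, hy, hrel, hp⟩, U.1.2, hxU⟩
    have hcover : (D.support : Set X) ∪ (E.support : Set X) ⊆ A ∪ B := by
      intro x _
      obtain ⟨U, hxU, m, n, hne, hrel⟩ := hloc x
      by_cases hp : m * n₀ = m₀ * n
      · exact Or.inl ⟨m, n, U, hne, hxU, hrel, hp⟩
      · exact Or.inr ⟨m, n, U, hne, hxU, hrel, hp⟩
    have hAB : ¬ (((D.support : Set X) ∪ (E.support : Set X)) ∩ (A ∩ B)).Nonempty := by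
      rintro ⟨x, hxS, ⟨m, n, U, hne, hxU, hrel, hp⟩, ⟨m', n', U', hne', hxU', hrel', hp'⟩⟩
      have h1 := huniq x hxS m n m' n' U U' hxU hxU' hrel hrel'
      apply hp'
      by_cases hm : m = 0
      · subst hm
        have hn : n ≠ 0 := by
          rintro rfl
          exact hne rfl
        have h2 : m₀ = 0 := by
          rcases Nat.mul_eq_zero.mp (by rw [← hp, zero_mul] : m₀ * n = 0) with h | h
          · exact h
          · exact absurd h hn
        have h3 : m' = 0 := by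
          rcases Nat.mul_eq_zero.mp (by rw [← h1, zero_mul] : m' * n = 0) with h | h
          · exact h
          · exact absurd h hn
        rw [h2, h3, zero_mul, zero_mul]
      · apply Nat.eq_of_mul_eq_mul_left (Nat.pos_of_ne_zero hm)
        calc m * (m' * n₀) = m' * (m * n₀) := by ring
          _ = m' * (m₀ * n) := by rw [hp]
          _ = m₀ * (m' * n) := by ring
          _ = m₀ * (m * n') := by rw [h1]
          _ = m * (m₀ * n') := by ring
    intro x hxS m n U hne hxU hrel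
    by_contra hp
    have hSB : (((D.support : Set X) ∪ (E.support : Set X)) ∩ B).Nonempty :=
      ⟨x, hxS, m, n, U, hne, hxU, hrel, hp⟩
    have hSA : (((D.support : Set X) ∪ (E.support : Set X)) ∩ A).Nonempty :=
      ⟨x₀, hx₀, m₀, n₀, U₀, hne₀, hx₀U₀, hrel₀, rfl⟩
    exact hAB (hconn A B hA hB hcover hSA hSB)
  choose U hxU m n hne hrel using hloc
  obtain ⟨t, ht⟩ := isCompact_univ.elim_finite_subcover (fun x => ((U x).1 : Set X))
    (fun x => (U x).1.2) (fun x _ => Set.mem_iUnion.mpr ⟨x, hxU x⟩)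
  let s : X → ℕ := fun x => m x + n x
  have hs : ∀ x, 0 < s x := by
    intro x
    by_contra h0
    have h3 : m x = 0 ∧ n x = 0 := by
      simp only [s] at h0
      omega
    exact hne x (by rw [h3.1, h3.2])
  have hP : 0 < ∏ x ∈ t, s x := Finset.prod_pos fun x _ => hs x
  refine ⟨m₀ * ∏ x ∈ t, s x, n₀ * ∏ x ∈ t, s x, ?_, ?_⟩
  · intro h
    have h1 : m₀ * ∏ x ∈ t, s x = 0 := (Prod.mk.inj h).1
    have h2 : n₀ * ∏ x ∈ t, s x = 0 := (Prod.mk.inj h).2
    have h1' : m₀ = 0 := by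
      rcases Nat.mul_eq_zero.mp h1 with h | h
      · exact h
      · omega
    have h2' : n₀ = 0 := by
      rcases Nat.mul_eq_zero.mp h2 with h | h
      · exact h
      · omega
    exact hne₀ (by rw [h1', h2'])
  · have hmem : ∀ x ∈ t, D.ideal (U x) ^ (m₀ * ∏ x ∈ t, s x) =
        E.ideal (U x) ^ (n₀ * ∏ x ∈ t, s x) := by
      intro x hxt
      by_cases hmeet : ∃ y ∈ (U x).1, y ∈ (D.support : Set X) ∪ (E.support : Set X)
      · obtain ⟨y, hyU, hyS⟩ := hmeet
        have hp := hprop y hyS (m x) (n x) (U x) (hne x) hyU (hrel x)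
        have hPx : s x * ∏ j ∈ t.erase x, s j = ∏ x ∈ t, s x := Finset.mul_prod_erase t s hxt
        have hc1 : m x * ((m₀ + n₀) * ∏ j ∈ t.erase x, s j) = m₀ * ∏ x ∈ t, s x := by
          rw [← hPx]
          have h3 : m x * (m₀ + n₀) = m₀ * (m x + n x) := by
            rw [mul_add, mul_add, hp]
            ring
          calc m x * ((m₀ + n₀) * ∏ j ∈ t.erase x, s j)
              = (m x * (m₀ + n₀)) * ∏ j ∈ t.erase x, s j := by ring
            _ = (m₀ * (m x + n x)) * ∏ j ∈ t.erase x, s j := by rw [h3]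
            _ = m₀ * (s x * ∏ j ∈ t.erase x, s j) := by ring
        have hc2 : n x * ((m₀ + n₀) * ∏ j ∈ t.erase x, s j) = n₀ * ∏ x ∈ t, s x := by
          rw [← hPx]
          have h3 : n x * (m₀ + n₀) = n₀ * (m x + n x) := by
            rw [mul_add, mul_add, mul_comm (n x) m₀, ← hp]
            ring
          calc n x * ((m₀ + n₀) * ∏ j ∈ t.erase x, s j)
              = (n x * (m₀ + n₀)) * ∏ j ∈ t.erase x, s j := by ring
            _ = (n₀ * (m x + n x)) * ∏ j ∈ t.erase x, s j := by rw [h3]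
            _ = n₀ * (s x * ∏ j ∈ t.erase x, s j) := by ring
        rw [← hc1, ← hc2, pow_mul (D.ideal (U x)) (m x), pow_mul (E.ideal (U x)) (n x), hrel x]
      · push Not at hmeet
        have hD' : D.ideal (U x) = ⊤ :=
          ideal_eq_top_of_disjoint_support D (U x) (fun y hy hyD => hmeet y hy (Or.inl hyD))
        have hE' : E.ideal (U x) = ⊤ :=
          ideal_eq_top_of_disjoint_support E (U x) (fun y hy hyE => hmeet y hy (Or.inr hyE))
        rw [hD', hE', Ideal.top_pow, Ideal.top_pow]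
    have heq : D ^ (m₀ * ∏ x ∈ t, s x) = E ^ (n₀ * ∏ x ∈ t, s x) := by
      apply Scheme.IdealSheafData.ext_of_iSup_eq_top (fun x : t => U x.1)
      · rw [eq_top_iff]
        intro y _
        obtain ⟨x, hx⟩ := Set.mem_iUnion.mp (ht (Set.mem_univ y))
        obtain ⟨hxt, hy⟩ := Set.mem_iUnion.mp hx
        exact TopologicalSpace.Opens.mem_iSup.mpr ⟨⟨x, hxt⟩, hy⟩
      · intro x
        exact hmem x.1 x.2
    intro V
    have h3 := congrArg (fun I : X.IdealSheafData => I.ideal V) heq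
    exact h3

end Groth.Agent.Lib.Helper2.CartierRel
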