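import Mathlib
import Groth.Prelude.Def_W4c2submetdescSubtr
import Groth.Agent.Lib.Helper10SubtrVal2
/-! Helper2ChainVal: valuation rings through chains of primes (composite valuation subrings) and
lifting of chains along universally S-subtrusive morphisms (S19530). -/
set_option autoImplicit false
universe u
open CategoryTheory CategoryTheory.Limits AlgebraicGeometry Opposite IsLocalRing

namespace Groth.Agent.Lib.Helper2.ChainVal

section Comp

variable {K : Type u} [Field K] (V₁ : ValuationSubring K)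
  (V' : ValuationSubring (IsLocalRing.ResidueField V₁))

/-- The underlying subring of the composite of two valuation subrings. -/
def compSubring : Subring K :=
  (V'.toSubring.comap (IsLocalRing.residue V₁)).map V₁.subtype

theorem mem_compSubring {x : K} :
    x ∈ compSubring V₁ V' ↔ ∃ h : x ∈ V₁, IsLocalRing.residue V₁ ⟨x, h⟩ ∈ V' := by
  unfold compSubring
  rw [Subring.mem_map]
  constructor
  · rintro ⟨y, hy, rfl⟩
    exact ⟨y.2, hy⟩
  · rintro ⟨h, hx⟩
    exact ⟨⟨x, h⟩, hx, rfl⟩

/-- The composite valuation subring: elements of `V₁` whose residue lies in `V'`. -/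
def comp : ValuationSubring K where
  toSubring := compSubring V₁ V'
  mem_or_inv_mem' := by
    intro x
    change x ∈ compSubring V₁ V' ∨ x⁻¹ ∈ compSubring V₁ V'
    by_cases hx : x ∈ V₁
    · by_cases hr : IsLocalRing.residue V₁ ⟨x, hx⟩ ∈ V'
      · exact Or.inl ((mem_compSubring V₁ V').mpr ⟨hx, hr⟩)
      · right
        have hne : IsLocalRing.residue V₁ ⟨x, hx⟩ ≠ 0 := fun h0 => hr (h0 ▸ V'.zero_mem)
        have hu : IsUnit (⟨x, hx⟩ : V₁) := by
          by_contra hnu
          exact hne ((IsLocalRing.residue_eq_zero_iff _).mpr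
            ((IsLocalRing.mem_maximalIdeal _).mpr hnu))
        obtain ⟨u, hu'⟩ := hu
        have h3 : ((u : V₁) : K) * (((u⁻¹ : (V₁)ˣ) : V₁) : K) = 1 := by
          have h : ((u : V₁) * ((u⁻¹ : (V₁)ˣ) : V₁) : V₁) = 1 := u.mul_inv
          exact_mod_cast congrArg Subtype.val h
        have h1 : ((u : V₁) : K) = x := congrArg Subtype.val hu'
        rw [h1] at h3
        have hinv : x⁻¹ = (((u⁻¹ : (V₁)ˣ) : V₁) : K) := inv_eq_of_mul_eq_one_right h3
        have hmem : x⁻¹ ∈ V₁ := by rw [hinv]; exact (((u⁻¹ : (V₁)ˣ) : V₁)).2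
        refine (mem_compSubring V₁ V').mpr ⟨hmem, ?_⟩
        have e : (⟨x⁻¹, hmem⟩ : V₁) = ((u⁻¹ : (V₁)ˣ) : V₁) := Subtype.ext hinv
        rw [e, map_units_inv, hu']
        exact (V'.mem_or_inv_mem _).resolve_left hr
    · right
      have hx' : x⁻¹ ∈ V₁ := (V₁.mem_or_inv_mem x).resolve_left hx
      refine (mem_compSubring V₁ V').mpr ⟨hx', ?_⟩
      have : IsLocalRing.residue V₁ ⟨x⁻¹, hx'⟩ = 0 := by
        rw [IsLocalRing.residue_eq_zero_iff, IsLocalRing.mem_maximalIdeal, mem_nonunits_iff]
        rintro ⟨u, hu⟩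
        apply hx
        have h1 : ((u : V₁) : K) = x⁻¹ := congrArg Subtype.val hu
        have h3 : ((u : V₁) : K) * (((u⁻¹ : (V₁)ˣ) : V₁) : K) = 1 := by
          have h : ((u : V₁) * ((u⁻¹ : (V₁)ˣ) : V₁) : V₁) = 1 := u.mul_inv
          exact_mod_cast congrArg Subtype.val h
        rw [h1] at h3
        have h4 := inv_eq_of_mul_eq_one_right h3
        rw [inv_inv] at h4
        rw [h4]
        exact (((u⁻¹ : (V₁)ˣ) : V₁)).2
      rw [this]
      exact V'.zero_mem

theorem mem_comp {x : K} :
    x ∈ comp V₁ V' ↔ ∃ h : x ∈ V₁, IsLocalRing.residue V₁ ⟨x, h⟩ ∈ V' :=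
  mem_compSubring V₁ V'

theorem comp_le : comp V₁ V' ≤ V₁ := fun _ hx => ((mem_comp V₁ V').mp hx).1

/-- The residue map from the composite to the second valuation ring. -/
noncomputable def compHom : comp V₁ V' →+* V' :=
  ((IsLocalRing.residue V₁).comp (ValuationSubring.inclusion _ _ (comp_le V₁ V'))).codRestrict
    V'.toSubring (fun x => by
      obtain ⟨h, hr⟩ := (mem_comp V₁ V').mp x.2
      exact hr)

end Comp

/-- A chain of primes starting at the kernel of a map to a field is dominated by a valuation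
subring of that field. -/
theorem exists_chain (n : ℕ) : ∀ (A : Type u) [CommRing A] (K : Type u) [Field K] (φ : A →+* K)
    (q : ℕ → Ideal A), (∀ i, (q i).IsPrime) → Monotone q → RingHom.ker φ = q 0 →
    ∃ (V : ValuationSubring K) (hV : ∀ a, φ a ∈ V) (p : ℕ → Ideal V),
      (∀ i, (p i).IsPrime) ∧ Monotone p ∧
        ∀ i ≤ n, (p i).comap (φ.codRestrict V.toSubring hV) = q i := by
  induction n with
  | zero =>
    intro A _ K _ φ q hq hmono hker
    refine ⟨⊤, fun a => trivial, fun _ => ⊥, fun _ => Ideal.isPrime_bot, monotone_const, ?_⟩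
    intro i hi
    obtain rfl : i = 0 := Nat.le_zero.mp hi
    rw [← hker]
    ext a
    simp only [Ideal.mem_comap, Ideal.mem_bot, RingHom.mem_ker]
    constructor
    · intro h; exact congrArg Subtype.val h
    · intro h; exact Subtype.ext h
  | succ n ih =>
    intro A _ K _ φ q hq hmono hker
    haveI := hq 1
    let L := Localization.AtPrime (q 1)
    have hunit : ∀ y : (q 1).primeCompl, IsUnit (φ y) := by
      intro y
      apply IsUnit.mk0
      intro h0
      have : (y : A) ∈ q 0 := by rw [← hker]; exact h0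
      exact y.2 (hmono (Nat.zero_le 1) this)
    let ψ₀ : L →+* K := IsLocalization.lift hunit
    obtain ⟨V₁, hV₁, hloc⟩ := IsLocalRing.exists_factor_valuationRing ψ₀
    have hφV₁ : ∀ a, φ a ∈ V₁ := fun a => by
      have := hV₁ (algebraMap A L a)
      rwa [IsLocalization.lift_eq] at this
    let φ₁ : A →+* V₁ := φ.codRestrict V₁.toSubring hφV₁
    let ψ : A →+* IsLocalRing.ResidueField V₁ := (IsLocalRing.residue V₁).comp φ₁
    have hkerψ : RingHom.ker ψ = q 1 := by
      ext a
      rw [RingHom.mem_ker]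
      change IsLocalRing.residue V₁ (φ₁ a) = 0 ↔ _
      rw [IsLocalRing.residue_eq_zero_iff, IsLocalRing.mem_maximalIdeal, mem_nonunits_iff]
      have e : φ₁ a = (ψ₀.codRestrict V₁.toSubring hV₁) (algebraMap A L a) := by
        apply Subtype.ext
        change φ a = ψ₀ (algebraMap A L a)
        rw [IsLocalization.lift_eq]
      rw [e]
      have h1 : IsUnit ((ψ₀.codRestrict V₁.toSubring hV₁) (algebraMap A L a)) ↔
          IsUnit (algebraMap A L a) := ⟨fun h => hloc.map_nonunit _ h, fun h => h.map _⟩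
      rw [h1, IsLocalization.AtPrime.isUnit_to_map_iff L (q 1)]
      exact not_not
    obtain ⟨V', hV', p', hp', hp'mono, hp'c⟩ := ih A (IsLocalRing.ResidueField V₁) ψ
      (fun i => q (i + 1)) (fun i => hq (i + 1)) (fun i j h => hmono (Nat.succ_le_succ h)) hkerψ
    have hV : ∀ a, φ a ∈ comp V₁ V' := fun a => (mem_comp V₁ V').mpr ⟨hφV₁ a, hV' a⟩
    let p : ℕ → Ideal (comp V₁ V') := fun i =>
      Nat.casesOn i ⊥ (fun j => (p' j).comap (compHom V₁ V'))
    refine ⟨comp V₁ V', hV, p, ?_, ?_, ?_⟩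
    · intro i
      cases i with
      | zero => exact Ideal.isPrime_bot
      | succ j =>
        haveI := hp' j
        exact Ideal.comap_isPrime (compHom V₁ V') (p' j)
    · apply monotone_nat_of_le_succ
      intro i
      cases i with
      | zero => exact bot_le
      | succ j => exact Ideal.comap_mono (hp'mono (Nat.le_succ j))
    · intro i hi
      cases i with
      | zero =>
        change (⊥ : Ideal (comp V₁ V')).comap (φ.codRestrict (comp V₁ V').toSubring hV) = q 0
        rw [← hker]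
        ext a
        simp only [Ideal.mem_comap, Ideal.mem_bot, RingHom.mem_ker]
        constructor
        · intro h; exact congrArg Subtype.val h
        · intro h; exact Subtype.ext h
      | succ j =>
        have hj : j ≤ n := Nat.le_of_succ_le_succ hi
        change ((p' j).comap (compHom V₁ V')).comap
          (φ.codRestrict (comp V₁ V').toSubring hV) = q (j + 1)
        rw [Ideal.comap_comap]
        have e : (compHom V₁ V').comp (φ.codRestrict (comp V₁ V').toSubring hV) =
            ψ.codRestrict V'.toSubring hV' := by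
          ext a; rfl
        rw [e]
        exact hp'c j hj

/-- A finite chain of specializations in a scheme is realized by a valuation ring. -/
theorem exists_valRing_of_chain {Y : Scheme.{u}} (n : ℕ) (y : ℕ → Y)
    (hy : ∀ i j, i ≤ j → y i ⤳ y j) :
    ∃ (K : Type u) (_ : Field K) (V : ValuationSubring K)
      (k : Spec (CommRingCat.of V) ⟶ Y) (p : ℕ → Spec (CommRingCat.of V)),
      (∀ i j, i ≤ j → p i ⤳ p j) ∧ ∀ i ≤ n, k (p i) = y i := by
  obtain ⟨_, ⟨U₀, hU, rfl⟩, hyU, -⟩ :=
    Y.isBasis_affineOpens.exists_subset_of_mem_open (Set.mem_univ (y n)) isOpen_univ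
  obtain ⟨U, rfl⟩ : ∃ U : Y.Opens, U = U₀ := ⟨U₀, rfl⟩
  let y' : ℕ → Y := fun i => y (min i n)
  have hy' : ∀ i j, i ≤ j → y' i ⤳ y' j := fun i j h => hy _ _ (min_le_min_right n h)
  have hmem : ∀ i, y' i ∈ U := fun i => (hy _ n (min_le_right i n)).mem_open U.2 hyU
  have hex : ∀ i, ∃ q : Spec Γ(Y, U), hU.fromSpec q = y' i := by
    intro i
    have : y' i ∈ Set.range hU.fromSpec := by rw [hU.range_fromSpec]; exact hmem i
    exact this
  choose q hq using hex
  have hqsp : ∀ i j, i ≤ j → q i ⤳ q j := by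
    intro i j h
    rw [← hU.fromSpec.isOpenEmbedding.isInducing.specializes_iff, hq, hq]
    exact hy' i j h
  let Q : ℕ → Ideal Γ(Y, U) := fun i => (q i : PrimeSpectrum Γ(Y, U)).asIdeal
  have hQmono : Monotone Q := fun i j h =>
    (PrimeSpectrum.le_iff_specializes (q i : PrimeSpectrum Γ(Y, U)) (q j)).mpr (hqsp i j h)
  haveI : (Q 0).IsPrime := (q 0 : PrimeSpectrum Γ(Y, U)).isPrime
  let K := (Q 0).ResidueField
  let φ : Γ(Y, U) →+* K := algebraMap Γ(Y, U) K
  have hker : RingHom.ker φ = Q 0 := Ideal.ker_algebraMap_residueField (Q 0)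
  obtain ⟨V, hV, p, hp, hpmono, hpc⟩ := exists_chain n Γ(Y, U) K φ Q
    (fun i => (q i : PrimeSpectrum Γ(Y, U)).isPrime) hQmono hker
  let φV : Γ(Y, U) →+* V := φ.codRestrict V.toSubring hV
  let k : Spec (CommRingCat.of V) ⟶ Y := Spec.map (CommRingCat.ofHom φV) ≫ hU.fromSpec
  refine ⟨K, inferInstance, V, k, fun i => (⟨p i, hp i⟩ : PrimeSpectrum V), ?_, ?_⟩
  · intro i j h
    exact (PrimeSpectrum.le_iff_specializes (⟨p i, hp i⟩ : PrimeSpectrum V) ⟨p j, hp j⟩).mp
      (hpmono h)
  · intro i hi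
    change hU.fromSpec (Spec.map (CommRingCat.ofHom φV) (⟨p i, hp i⟩ : PrimeSpectrum V)) = y i
    have e : Spec.map (CommRingCat.ofHom φV) (⟨p i, hp i⟩ : PrimeSpectrum V) = q i := by
      apply PrimeSpectrum.ext
      exact hpc i hi
    rw [e, hq]
    change y (min i n) = y i
    rw [min_eq_left hi]

theorem chain_lift {X Y : Scheme.{u}} (f : X ⟶ Y) (hf : Subtr.UnivSSubtrusive f) (n : ℕ)
    (y : Fin (n + 1) → Y) (hy : ∀ i j : Fin (n + 1), i ≤ j → y i ⤳ y j) :
    ∃ x : Fin (n + 1) → X, (∀ i j : Fin (n + 1), i ≤ j → x i ⤳ x j) ∧ ∀ i, f (x i) = y i := by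
  let y' : ℕ → Y := fun i => y ⟨min i n, Nat.lt_succ_of_le (min_le_right i n)⟩
  have hy' : ∀ i j, i ≤ j → y' i ⤳ y' j := fun i j h =>
    hy _ _ (Fin.mk_le_mk.mpr (min_le_min_right n h))
  obtain ⟨K, _, V, k, p, hp, hk⟩ := exists_valRing_of_chain n y' hy'
  obtain ⟨V', _, _, _, a, b, hb, hab⟩ :=
    (Groth.Agent.Lib.Helper10.SubtrVal.main2 f).mp hf V k
  have hbs : Function.Surjective b := hb.surj
  let s := Function.surjInv hbs
  have hs : ∀ t, b (s t) = t := Function.surjInv_eq hbs
  let w : ℕ → Spec (CommRingCat.of V') := fun i => s (p i)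
  have hw : ∀ i j, i ≤ j → w i ⤳ w j := by
    intro i j h
    rcases (ValuationRing.le_total_ideal (A := V')).total
      (w i : PrimeSpectrum V').asIdeal (w j : PrimeSpectrum V').asIdeal with h1 | h1
    · exact (PrimeSpectrum.le_iff_specializes (w i : PrimeSpectrum V') (w j)).mp h1
    · have h2 : w j ⤳ w i := (PrimeSpectrum.le_iff_specializes (w j : PrimeSpectrum V') (w i)).mp h1
      have h3 : p j ⤳ p i := by
        have := h2.map b.continuous
        rwa [hs, hs] at this
      have h4 : p i = p j := ((hp i j h).antisymm h3).eq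
      change s (p i) ⤳ s (p j)
      rw [h4]
  refine ⟨fun i => a (w i), fun i j h => (hw i j h).map a.continuous, fun i => ?_⟩
  have h1 : f (a (w i)) = k (b (w i)) := by
    rw [← Scheme.Hom.comp_apply, hab, Scheme.Hom.comp_apply]
  rw [h1, hs, hk i (Nat.le_of_lt_succ i.2)]
  change y ⟨min (i : ℕ) n, _⟩ = y i
  congr 1
  exact Fin.ext (min_eq_left (Nat.le_of_lt_succ i.2))

end Groth.Agent.Lib.Helper2.ChainVal
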