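import Mathlib
import Groth.Prelude.Def_Hensel

/-!
# Coefficient fields of henselian local rings; strict henselization (helper2)
-/

set_option autoImplicit false
universe u

open Polynomial IntermediateField IsLocalRing

namespace Groth.Agent.Lib.Helper2

lemma exists_poly_pair {k K : Type*} [Field k] [Field K] [Algebra k K] [Algebra.IsSeparable k K]
    (α β : K) : ∃ (γ : K) (a b : k[X]), aeval γ a = α ∧ aeval γ b = β := by
  let E : IntermediateField k K := IntermediateField.adjoin k {α, β}
  have hfd : FiniteDimensional k E := by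
    apply IntermediateField.finiteDimensional_adjoin
    intro x _
    exact (Algebra.IsSeparable.isIntegral k x)
  obtain ⟨γ, hγ⟩ := Field.exists_primitive_element k E
  have h2 := congr_arg IntermediateField.lift hγ
  rw [lift_adjoin_simple, lift_top] at h2
  have halg : IsAlgebraic k (γ : K) := (Algebra.IsSeparable.isIntegral k (γ : K)).isAlgebraic
  have key : ∀ x ∈ E, ∃ a : k[X], aeval (γ : K) a = x := by
    intro x hx
    rw [← h2] at hx
    have hx' : x ∈ (k⟮(γ : K)⟯).toSubalgebra := hx
    rw [IntermediateField.adjoin_simple_toSubalgebra_of_isAlgebraic halg,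
      Algebra.adjoin_singleton_eq_range_aeval] at hx'
    exact hx'
  obtain ⟨a, ha⟩ := key α (IntermediateField.subset_adjoin k _ (by simp))
  obtain ⟨b, hb⟩ := key β (IntermediateField.subset_adjoin k _ (by simp))
  exact ⟨γ, a, b, ha, hb⟩

/-- A henselian local ring `T` containing a field `k` and with residue field `K` separable
algebraic over `k` has a coefficient field: a section `K → T` of the residue map, over `k`. -/
theorem exists_coefficient_ringHom {k K : Type u} [Field k] [Field K] [Algebra k K]
    [Algebra.IsSeparable k K] (T : Type u) [CommRing T] [HenselianLocalRing T] (ι : k →+* T)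
    (ρ : T →+* K) (hρ : Function.Surjective ρ) (hρι : ρ.comp ι = algebraMap k K) :
    ∃ σ : K →+* T, (∀ α, ρ (σ α) = α) ∧ σ.comp (algebraMap k K) = ι := by
  have H := ((HenselianLocalRing.TFAE T).out 0 2).mp (inferInstance : HenselianLocalRing T)
  have hker : RingHom.ker ρ = maximalIdeal T := IsLocalRing.ker_eq_maximalIdeal ρ hρ
  have ev : ∀ (q : k[X]) (x : T), ρ ((q.map ι).eval x) = aeval (ρ x) q := by
    intro q x
    rw [eval_map, hom_eval₂, hρι, aeval_def]
  have hunit : ∀ x : T, ρ x ≠ 0 → IsUnit x := by
    intro x hx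
    by_contra hnu
    have : x ∈ maximalIdeal T := by rwa [mem_maximalIdeal, mem_nonunits_iff]
    rw [← hker, RingHom.mem_ker] at this
    exact hx this
  have hint : ∀ α : K, IsIntegral k α := fun α => Algebra.IsSeparable.isIntegral k α
  have hsep : ∀ α : K, (minpoly k α).Separable := fun α => Algebra.IsSeparable.isSeparable k α
  have hex : ∀ α : K, ∃ x : T, ((minpoly k α).map ι).IsRoot x ∧ ρ x = α := by
    intro α
    apply H ρ hρ _ ((minpoly.monic (hint α)).map ι) α
    · rw [eval₂_map, hρι, ← aeval_def, minpoly.aeval]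
    · rw [derivative_map, eval₂_map, hρι, ← aeval_def]
      exact (hsep α).aeval_derivative_ne_zero (minpoly.aeval k α)
  choose σ hσroot hσρ using hex
  have huniq : ∀ (α : K) (x y : T), ((minpoly k α).map ι).eval x = 0 → ρ x = α →
      ((minpoly k α).map ι).eval y = 0 → ρ y = α → x = y := by
    intro α x y hx hxα hy hyα
    apply IsLocalRing.eq_of_eval_eq_zero_of_not_isUnit_sub hx hy
    · intro hu
      have : ρ (x - y) = 0 := by rw [map_sub, hxα, hyα, sub_self]
      have h2 : x - y ∈ maximalIdeal T := by rw [← hker, RingHom.mem_ker]; exact this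
      rw [mem_maximalIdeal, mem_nonunits_iff] at h2
      exact h2 hu
    · apply hunit
      rw [derivative_map, ev, hxα]
      exact (hsep α).aeval_derivative_ne_zero (minpoly.aeval k α)
  -- key lemma
  have KL : ∀ (γ : K) (a : k[X]), (a.map ι).eval (σ γ) = σ (aeval γ a) := by
    intro γ a
    set δ := aeval γ a with hδ
    apply huniq δ
    · -- root of minpoly δ
      have h1 : minpoly k γ ∣ (minpoly k δ).comp a := by
        apply minpoly.dvd
        rw [aeval_comp, ← hδ, minpoly.aeval]
      obtain ⟨h, hh⟩ := h1
      have h2 : ((minpoly k δ).map ι).eval ((a.map ι).eval (σ γ)) =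
          (((minpoly k δ).comp a).map ι).eval (σ γ) := by
        rw [Polynomial.map_comp, eval_comp]
      rw [h2, hh, Polynomial.map_mul, eval_mul]
      have : ((minpoly k γ).map ι).eval (σ γ) = 0 := hσroot γ
      rw [this, zero_mul]
    · rw [ev, hσρ]
    · exact hσroot δ
    · exact hσρ δ
  have hσadd : ∀ α β, σ (α + β) = σ α + σ β := by
    intro α β
    obtain ⟨γ, a, b, rfl, rfl⟩ := exists_poly_pair (k := k) α β
    rw [← map_add, ← KL, ← KL, ← KL, Polynomial.map_add, eval_add]
  have hσmul : ∀ α β, σ (α * β) = σ α * σ β := by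
    intro α β
    obtain ⟨γ, a, b, rfl, rfl⟩ := exists_poly_pair (k := k) α β
    rw [← map_mul, ← KL, ← KL, ← KL, Polynomial.map_mul, eval_mul]
  have hσC : ∀ t : k, σ (algebraMap k K t) = ι t := by
    intro t
    have := KL 0 (C t)
    rw [aeval_C, Polynomial.map_C, eval_C] at this
    exact this.symm
  have hσone : σ 1 = 1 := by
    have := hσC 1
    rwa [map_one, map_one] at this
  have hσzero : σ 0 = 0 := by
    have := hσC 0
    rwa [map_zero, map_zero] at this
  let σ' : K →+* T :=
    { toFun := σ
      map_one' := hσone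
      map_mul' := hσmul
      map_zero' := hσzero
      map_add' := hσadd }
  exact ⟨σ', hσρ, RingHom.ext hσC⟩


/-- A nontrivial quotient of a henselian local ring is henselian local. -/
theorem henselianLocalRing_of_surjective {S T : Type*} [CommRing S] [CommRing T]
    [HenselianLocalRing S] [Nontrivial T] (π : S →+* T) (hπ : Function.Surjective π) :
    HenselianLocalRing T := by
  have hloc : IsLocalHom π := IsLocalHom.of_surjective π hπ
  have hT : IsLocalRing T := IsLocalRing.of_surjective' π hπ
  refine { hT with is_henselian := ?_ }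
  intro f' hf' a₀' h₁ h₂
  obtain ⟨f, hff', -, hf⟩ := lifts_and_natDegree_eq_and_monic (mem_lifts_of_surjective hπ f') hf'
  obtain ⟨a₀, rfl⟩ := hπ a₀'
  have e1 : f'.eval (π a₀) = π (f.eval a₀) := by rw [← hff', eval_map, eval₂_at_apply]
  have e2 : f'.derivative.eval (π a₀) = π (f.derivative.eval a₀) := by
    rw [← hff', derivative_map, eval_map, eval₂_at_apply]
  have hmem : ∀ x : S, π x ∈ maximalIdeal T ↔ x ∈ maximalIdeal S := by
    intro x
    rw [mem_maximalIdeal, mem_nonunits_iff, mem_maximalIdeal, mem_nonunits_iff]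
    exact not_congr ⟨fun h => isUnit_of_map_unit π x h, fun h => h.map π⟩
  obtain ⟨a, ha, ha'⟩ := HenselianLocalRing.is_henselian f hf a₀
    ((hmem _).mp (e1 ▸ h₁)) (isUnit_of_map_unit π _ (e2 ▸ h₂))
  refine ⟨π a, ?_, ?_⟩
  · show f'.eval (π a) = 0
    have : f'.eval (π a) = π (f.eval a) := by rw [← hff', eval_map, eval₂_at_apply]
    rw [this]
    have h0 : f.eval a = 0 := ha
    rw [h0, map_zero]
  · rw [← map_sub]; exact (hmem _).mpr ha'

section
variable (R : Type u) [CommRing R] [IsLocalRing R] (S : Type u) [CommRing S] [IsLocalRing S]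
    [Algebra R S] [IsLocalHom (algebraMap R S)] [hRS : Hensel.IsStrictHenselization R S]

include hRS in
theorem strictHenselization_map_maximalIdeal :
    Ideal.map (algebraMap R S) (maximalIdeal R) = maximalIdeal S := by
  have hS : HenselianLocalRing S := hRS.henselian
  have hsc : IsSepClosure (ResidueField R) (ResidueField S) := hRS.isSepClosure
  have hsep : Algebra.IsSeparable (ResidueField R) (ResidueField S) := hsc.separable
  set I : Ideal S := Ideal.map (algebraMap R S) (maximalIdeal R) with hI
  have hIle : I ≤ maximalIdeal S := IsLocalRing.map_maximalIdeal_le (algebraMap R S)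
  apply le_antisymm hIle
  have hIne : I ≠ ⊤ := fun h => (maximalIdeal.isMaximal S).ne_top (top_le_iff.mp (h ▸ hIle))
  have hnt : Nontrivial (S ⧸ I) := Ideal.Quotient.nontrivial_iff.mpr hIne
  let π : S →+* S ⧸ I := Ideal.Quotient.mk I
  have hπ : Function.Surjective π := Ideal.Quotient.mk_surjective
  have hT : HenselianLocalRing (S ⧸ I) := henselianLocalRing_of_surjective π hπ
  have hπloc : IsLocalHom π := IsLocalHom.of_surjective π hπ
  -- ι : k → S/I
  let ι : ResidueField R →+* S ⧸ I :=
    Ideal.Quotient.lift (maximalIdeal R) (π.comp (algebraMap R S)) (by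
      intro r hr
      show π (algebraMap R S r) = 0
      exact Ideal.Quotient.eq_zero_iff_mem.mpr (Ideal.mem_map_of_mem _ hr))
  have hι : ∀ r : R, ι (residue R r) = π (algebraMap R S r) := fun r => rfl
  -- ρ̄ : S/I → K
  let ρ : S ⧸ I →+* ResidueField S :=
    Ideal.Quotient.lift I (residue S) (by
      intro s hs
      exact (residue_eq_zero_iff s).mpr (hIle hs))
  have hρ : ∀ s : S, ρ (π s) = residue S s := fun s => rfl
  have hρsurj : Function.Surjective ρ := by
    intro y
    obtain ⟨s, rfl⟩ := residue_surjective y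
    exact ⟨π s, rfl⟩
  have hρι : ρ.comp ι = algebraMap (ResidueField R) (ResidueField S) := by
    ext x
    obtain ⟨r, rfl⟩ := residue_surjective x
    rfl
  obtain ⟨σ, hσρ, hσι⟩ := exists_coefficient_ringHom (S ⧸ I) ι ρ hρsurj hρι
  have hker : RingHom.ker ρ = maximalIdeal (S ⧸ I) := IsLocalRing.ker_eq_maximalIdeal ρ hρsurj
  -- universal property
  let f : R →+* S ⧸ I := π.comp (algebraMap R S)
  have hfloc : IsLocalHom f := RingHom.isLocalHom_comp _ _
  let τ : ResidueField S →+* ResidueField (S ⧸ I) := ResidueField.map π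
  have hτ : τ.comp (ResidueField.map (algebraMap R S)) = ResidueField.map f :=
    (ResidueField.map_comp (algebraMap R S) π).symm
  obtain ⟨g, -, hguniq⟩ := hRS.universal (S ⧸ I) f τ hτ
  have h1 : π = g := by
    apply hguniq
    exact ⟨rfl, fun x => rfl⟩
  have h2 : σ.comp (residue S) = g := by
    apply hguniq
    refine ⟨?_, ?_⟩
    · ext r
      show σ (residue S (algebraMap R S r)) = π (algebraMap R S r)
      have : residue S (algebraMap R S r) =
          algebraMap (ResidueField R) (ResidueField S) (residue R r) := rfl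
      rw [this, ← hι]
      exact RingHom.congr_fun hσι (residue R r)
    · intro x
      show residue (S ⧸ I) (σ (residue S x)) = residue (S ⧸ I) (π x)
      rw [← sub_eq_zero, ← map_sub, residue_eq_zero_iff, ← hker, RingHom.mem_ker, map_sub,
        hσρ, hρ, sub_self]
  intro x hx
  have h3 : π x = σ (residue S x) := by
    rw [h1, ← h2]; rfl
  have h4 : residue S x = 0 := (residue_eq_zero_iff x).mpr hx
  rw [h4, map_zero] at h3
  exact Ideal.Quotient.eq_zero_iff_mem.mp h3
end

end Groth.Agent.Lib.Helper2
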