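import Mathlib
import Groth.Agent.Lib.Helper2CohBCC

/-!
# The Mumford complex over an affine Noetherian base: ranks at all points (helper2)
-/

set_option autoImplicit false
set_option linter.style.haveILetI false
universe u
open CategoryTheory CategoryTheory.Limits AlgebraicGeometry TensorProduct

namespace Groth.Agent.Lib.Helper2.CohBCI

open Groth.Agent.Lib.Helper2.CohBCA Groth.Agent.Lib.Helper2.CohBCC

section Pt
variable (A : Type u) [CommRing A] (s : ↥(Spec (CommRingCat.of A)))

/-- the structure map `A → κ(s)` for a point `s` of `Spec A` -/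
noncomputable def resMapSpec :
    A →+* IsLocalRing.ResidueField ((Spec (CommRingCat.of A)).presheaf.stalk s) :=
  ((Scheme.ΓSpecIso (CommRingCat.of A)).inv ≫
    (Spec (CommRingCat.of A)).presheaf.germ ⊤ s trivial ≫ (Spec (CommRingCat.of A)).residue s).hom

lemma specMap_resMapSpec :
    Spec.map (CommRingCat.ofHom (resMapSpec A s)) =
      (Spec (CommRingCat.of A)).fromSpecResidueField s := by
  have key : Spec.map ((Scheme.ΓSpecIso (CommRingCat.of A)).inv ≫
      (Spec (CommRingCat.of A)).presheaf.germ ⊤ s trivial ≫ (Spec (CommRingCat.of A)).residue s) =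
      (Spec (CommRingCat.of A)).fromSpecResidueField s := by
    rw [← Category.assoc, Spec.map_comp, ← Spec.fromSpecStalk_eq]
    rfl
  exact key

lemma pointOf_resMapSpec :
    letI : Algebra A (IsLocalRing.ResidueField ((Spec (CommRingCat.of A)).presheaf.stalk s)) :=
      (resMapSpec A s).toAlgebra
    pointOf A (IsLocalRing.ResidueField ((Spec (CommRingCat.of A)).presheaf.stalk s)) = s := by
  letI : Algebra A (IsLocalRing.ResidueField ((Spec (CommRingCat.of A)).presheaf.stalk s)) :=
    (resMapSpec A s).toAlgebra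
  let pt : ↥(Spec (CommRingCat.of
      (IsLocalRing.ResidueField ((Spec (CommRingCat.of A)).presheaf.stalk s)))) :=
    (⟨⊥, Ideal.isPrime_bot⟩ :
      PrimeSpectrum (IsLocalRing.ResidueField ((Spec (CommRingCat.of A)).presheaf.stalk s)))
  have h1 : (Spec.map (CommRingCat.ofHom (resMapSpec A s))) pt = s := by
    rw [specMap_resMapSpec]
    exact Scheme.fromSpecResidueField_apply s pt
  exact h1

end Pt

/-- The linear Mumford complex over an affine Noetherian base, with the fibre ranks at all points. -/
theorem exists_complex_affine (A : Type u) [CommRing A] [IsNoetherianRing A] (X : Scheme.{u})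
    [X.Over (Spec (CommRingCat.of A))] [IsProper (X ↘ Spec (CommRingCat.of A))] (F : X.Modules)
    (hF : Coh.IsCoh F) (hfl : FlatMod.IsFlatOver (X ↘ Spec (CommRingCat.of A)) F) :
    ∃ P : ChainComplex (ModuleCat.{u} A) ℤ,
      (∀ i, Module.Finite A (P.X i) ∧ Module.Projective A (P.X i)) ∧
      (∀ i : ℤ, 0 < i → IsZero (P.X i)) ∧ (∃ b : ℤ, ∀ i : ℤ, i < b → IsZero (P.X i)) ∧
      (∀ p : ℕ, Nonempty (Coh.HH X F p ≃ₗ[A] ↑(P.homology (-(p : ℤ))))) ∧
      (∀ (p : ℕ) (s : ↥(Spec (CommRingCat.of A))),
        CohIII.fiberRank (X ↘ Spec (CommRingCat.of A)) F p s = CohIII.dRank P (-(p : ℤ)) s) := by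
  obtain ⟨P, hP, hpos, hbd, hA, hB⟩ := exists_complex A X F hF hfl
  refine ⟨P, hP, hpos, hbd, hA, fun p s => ?_⟩
  letI : Algebra A (IsLocalRing.ResidueField ((Spec (CommRingCat.of A)).presheaf.stalk s)) :=
    (resMapSpec A s).toAlgebra
  letI : ((X ↘ Spec (CommRingCat.of A)).fiber s).Over (Spec (CommRingCat.of
      (IsLocalRing.ResidueField ((Spec (CommRingCat.of A)).presheaf.stalk s)))) :=
    CohIII.fiberOver (X ↘ Spec (CommRingCat.of A)) s
  have hsq : IsPullback ((X ↘ Spec (CommRingCat.of A)).fiberι s)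
      ((X ↘ Spec (CommRingCat.of A)).fiber s ↘ Spec (CommRingCat.of
        (IsLocalRing.ResidueField ((Spec (CommRingCat.of A)).presheaf.stalk s))))
      (X ↘ Spec (CommRingCat.of A))
      (Spec.map (CommRingCat.ofHom (algebraMap A
        (IsLocalRing.ResidueField ((Spec (CommRingCat.of A)).presheaf.stalk s))))) := by
    have e : IsPullback ((X ↘ Spec (CommRingCat.of A)).fiberι s)
        ((X ↘ Spec (CommRingCat.of A)).fiberToSpecResidueField s) (X ↘ Spec (CommRingCat.of A))
        ((Spec (CommRingCat.of A)).fromSpecResidueField s) :=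
      IsPullback.of_hasPullback _ _
    exact (specMap_resMapSpec A s) ▸ e
  obtain ⟨e1⟩ := hB (IsLocalRing.ResidueField ((Spec (CommRingCat.of A)).presheaf.stalk s))
    ((X ↘ Spec (CommRingCat.of A)).fiber s) ((X ↘ Spec (CommRingCat.of A)).fiberι s) hsq p
  have h1 : CohIII.fiberRank (X ↘ Spec (CommRingCat.of A)) F p s =
      Module.finrank (IsLocalRing.ResidueField ((Spec (CommRingCat.of A)).presheaf.stalk s))
        ((CohIII.bcCx (algebraMap A
          (IsLocalRing.ResidueField ((Spec (CommRingCat.of A)).presheaf.stalk s))) P).homology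
            (-(p : ℤ))) :=
    LinearEquiv.finrank_eq
      (R := IsLocalRing.ResidueField ((Spec (CommRingCat.of A)).presheaf.stalk s))
      (M := Coh.HH ((X ↘ Spec (CommRingCat.of A)).fiber s)
        ((Scheme.Modules.pullback ((X ↘ Spec (CommRingCat.of A)).fiberι s)).obj F) p) e1
  rw [h1, finrank_homology_bcCx_eq_dRank P (fun i => by
    have := (hP i).2
    infer_instance) (-(p : ℤ))]
  congr 1
  exact pointOf_resMapSpec A s

end Groth.Agent.Lib.Helper2.CohBCI
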