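import Groth.Agent.Lib.Helper4FibDimK
import Groth.Agent.Lib.Helper4VarDim11
import Groth.Agent.Lib.Helper3LocDimBC

/-!
# Morphisms all of whose fibres have the same dimension `d`

* `isPullback_map_fst`, `isPullback_map_base`: `X' ×_{S'} X' ≅ (X ×_S X) ×_S S'` for `X' = X ×_S S'`.
* `isPullback_diagonal_map`: the diagonal of `X'/S'` is the base change of the diagonal of `X/S`.
* `topologicalKrullDim_fiber_eq_of_isPullback`: constant fibre dimension is stable under base change.
* `topologicalKrullDim_preimage_eq_add`: if all fibres of `h : W' ⟶ W` (schemes locally of finite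
  type over a field) have dimension `d`, then `dim h⁻¹(T) = dim T + d` for `T` locally closed.
* `topologicalKrullDim_preimage_eq_add_of_isPullback`: the same for a base change of such an `h`.
* `preimage_offDiag_eq`: the off-diagonal part of `Y' ×_{S'} Z'` is the preimage of that of `Y ×_S Z`.
-/

set_option autoImplicit false
set_option linter.style.haveILetI false
universe u

open TopologicalSpace Topology AlgebraicGeometry CategoryTheory CategoryTheory.Limits

namespace Groth.Agent.Lib.Helper2.ConstFibDim

open Groth.Agent.Lib.Helper4.VarDim Groth.Agent.Lib.Helper4.FibDim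
open Groth.Agent.Lib.Helper4.WithBotENat

section cat

universe v w

variable {C : Type w} [Category.{v} C] [HasPullbacks C]

/-- For `X' = X ×_S S'`, the square `X' ×_{S'} X' → X ×_S X`, `X' ×_{S'} X' → X'` (first
projection), `X ×_S X → X`, `X' → X` is a pullback. -/
theorem isPullback_map_fst {X S S' : C} (f : X ⟶ S) (g : S' ⟶ S) :
    IsPullback
      (pullback.map (pullback.snd f g) (pullback.snd f g) f f (pullback.fst f g) (pullback.fst f g) g
        pullback.condition.symm pullback.condition.symm)
      (pullback.fst (pullback.snd f g) (pullback.snd f g))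
      (pullback.fst f f) (pullback.fst f g) := by
  have πa : pullback.map (pullback.snd f g) (pullback.snd f g) f f (pullback.fst f g)
      (pullback.fst f g) g pullback.condition.symm pullback.condition.symm ≫ pullback.fst f f =
      pullback.fst (pullback.snd f g) (pullback.snd f g) ≫ pullback.fst f g :=
    pullback.lift_fst _ _ _
  have πb : pullback.map (pullback.snd f g) (pullback.snd f g) f f (pullback.fst f g)
      (pullback.fst f g) g pullback.condition.symm pullback.condition.symm ≫ pullback.snd f f =
      pullback.snd (pullback.snd f g) (pullback.snd f g) ≫ pullback.fst f g :=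
    pullback.lift_snd _ _ _
  refine ⟨⟨πa⟩, ⟨PullbackCone.IsLimit.mk _ ?_ ?_ ?_ ?_⟩⟩
  · intro c
    refine pullback.lift c.snd
      (pullback.lift (c.fst ≫ pullback.snd f f) (c.snd ≫ pullback.snd f g) ?_) ?_
    · rw [Category.assoc, ← pullback.condition, ← Category.assoc, c.condition, Category.assoc,
        pullback.condition, Category.assoc]
    · rw [pullback.lift_snd]
  · intro c
    apply pullback.hom_ext
    · rw [Category.assoc, πa, ← Category.assoc, pullback.lift_fst, c.condition]
    · rw [Category.assoc, πb, ← Category.assoc, pullback.lift_snd, pullback.lift_fst]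
  · intro c
    exact pullback.lift_fst _ _ _
  · intro c m hfst hsnd
    apply pullback.hom_ext
    · rw [hsnd, pullback.lift_fst]
    · rw [pullback.lift_snd]
      apply pullback.hom_ext
      · rw [Category.assoc, ← πb, ← Category.assoc, hfst, pullback.lift_fst]
      · rw [Category.assoc, ← pullback.condition, ← Category.assoc, hsnd, pullback.lift_snd]

/-- For `X' = X ×_S S'`: `X' ×_{S'} X' ≅ (X ×_S X) ×_S S'`. -/
theorem isPullback_map_base {X S S' : C} (f : X ⟶ S) (g : S' ⟶ S) :
    IsPullback
      (pullback.map (pullback.snd f g) (pullback.snd f g) f f (pullback.fst f g) (pullback.fst f g) g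
        pullback.condition.symm pullback.condition.symm)
      (pullback.fst (pullback.snd f g) (pullback.snd f g) ≫ pullback.snd f g)
      (pullback.fst f f ≫ f) g :=
  (isPullback_map_fst f g).paste_vert (IsPullback.of_hasPullback f g)

/-- The diagonal of `X' = X ×_S S'` over `S'` is the base change of the diagonal of `X/S`. -/
theorem isPullback_diagonal_map {X S S' : C} (f : X ⟶ S) (g : S' ⟶ S) :
    IsPullback (pullback.diagonal (pullback.snd f g)) (pullback.fst f g)
      (pullback.map (pullback.snd f g) (pullback.snd f g) f f (pullback.fst f g) (pullback.fst f g) g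
        pullback.condition.symm pullback.condition.symm)
      (pullback.diagonal f) := by
  have πa : pullback.map (pullback.snd f g) (pullback.snd f g) f f (pullback.fst f g)
      (pullback.fst f g) g pullback.condition.symm pullback.condition.symm ≫ pullback.fst f f =
      pullback.fst (pullback.snd f g) (pullback.snd f g) ≫ pullback.fst f g :=
    pullback.lift_fst _ _ _
  have πb : pullback.map (pullback.snd f g) (pullback.snd f g) f f (pullback.fst f g)
      (pullback.fst f g) g pullback.condition.symm pullback.condition.symm ≫ pullback.snd f f =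
      pullback.snd (pullback.snd f g) (pullback.snd f g) ≫ pullback.fst f g :=
    pullback.lift_snd _ _ _
  have hw : pullback.diagonal (pullback.snd f g) ≫
      pullback.map (pullback.snd f g) (pullback.snd f g) f f (pullback.fst f g)
        (pullback.fst f g) g pullback.condition.symm pullback.condition.symm =
      pullback.fst f g ≫ pullback.diagonal f := by
    apply pullback.hom_ext
    · rw [Category.assoc, πa, ← Category.assoc, pullback.diagonal_fst, Category.id_comp,
        Category.assoc, pullback.diagonal_fst, Category.comp_id]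
    · rw [Category.assoc, πb, ← Category.assoc, pullback.diagonal_snd, Category.id_comp,
        Category.assoc, pullback.diagonal_snd, Category.comp_id]
  refine ⟨⟨hw⟩, ⟨PullbackCone.IsLimit.mk _ ?_ ?_ ?_ ?_⟩⟩
  · intro c
    exact c.fst ≫ pullback.fst _ _
  · intro c
    have h1 : c.fst ≫ pullback.fst (pullback.snd f g) (pullback.snd f g) ≫ pullback.fst f g =
        c.snd := by
      rw [← πa, ← Category.assoc, c.condition, Category.assoc, pullback.diagonal_fst,
        Category.comp_id]
    have h2 : c.fst ≫ pullback.snd (pullback.snd f g) (pullback.snd f g) ≫ pullback.fst f g =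
        c.snd := by
      rw [← πb, ← Category.assoc, c.condition, Category.assoc, pullback.diagonal_snd,
        Category.comp_id]
    have key : c.fst ≫ pullback.fst (pullback.snd f g) (pullback.snd f g) =
        c.fst ≫ pullback.snd (pullback.snd f g) (pullback.snd f g) := by
      apply pullback.hom_ext
      · rw [Category.assoc, Category.assoc, h1, h2]
      · rw [Category.assoc, Category.assoc]
        exact congrArg (fun t => c.fst ≫ t) pullback.condition
    apply pullback.hom_ext
    · rw [Category.assoc, pullback.diagonal_fst, Category.comp_id]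
    · rw [Category.assoc, pullback.diagonal_snd, Category.comp_id, key]
  · intro c
    rw [Category.assoc, ← πa, ← Category.assoc, c.condition, Category.assoc, pullback.diagonal_fst,
      Category.comp_id]
  · intro c m hfst _
    rw [← hfst, Category.assoc, pullback.diagonal_fst, Category.comp_id]

end cat

/-- Constant fibre dimension is stable under base change. -/
theorem topologicalKrullDim_fiber_eq_of_isPullback {X S X' S' : Scheme.{u}} (g : S' ⟶ S)
    [LocallyOfFiniteType g] (f : X ⟶ S) (f' : X' ⟶ S') (h : X' ⟶ X) (hsq : IsPullback f' h g f)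
    (d : ℕ) (hd : ∀ s : S, topologicalKrullDim (g.fiber s) = d) (x : X) :
    topologicalKrullDim (h.fiber x) = d := by
  have key : ∀ x' : X', FlatMor.fibreDimAt h x' = FlatMor.fibreDimAt g (f' x') := fun x' =>
    Groth.Agent.Lib.Helper3.LocDimBC.fibreDimAt_eq_of_isPullback g f f' h hsq x'
  apply le_antisymm
  · refine (topologicalKrullDim_fiber_le_iff h x d).mpr fun x' _ => ?_
    rw [key x']
    exact (topologicalKrullDim_fiber_le_iff g (g (f' x')) d).mp (hd _).le (f' x') rfl
  · refine (natCast_le_topologicalKrullDim_fiber_iff h x d).mpr ?_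
    obtain ⟨c, hc, hcd⟩ := (natCast_le_topologicalKrullDim_fiber_iff g (f x) d).mp (hd (f x)).ge
    obtain ⟨x', hx'1, hx'2⟩ := Scheme.exists_preimage_of_isPullback hsq c x hc
    refine ⟨x', hx'2, ?_⟩
    rw [key x']
    have hx'1' : f' x' = c := hx'1
    rw [hx'1']
    exact hcd

/-- If all fibres of `h : W' ⟶ W` have dimension `d` (schemes locally of finite type over a
field), then `dim h⁻¹(T) = dim T + d` for every locally closed `T ⊆ W`. -/
theorem topologicalKrullDim_preimage_eq_add (k : Type u) [Field k] {W' W : Scheme.{u}}
    [W'.Over (Spec (CommRingCat.of k))] [W.Over (Spec (CommRingCat.of k))]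
    [LocallyOfFiniteType (W' ↘ Spec (CommRingCat.of k))]
    [LocallyOfFiniteType (W ↘ Spec (CommRingCat.of k))] (h : W' ⟶ W) [LocallyOfFiniteType h]
    (hh : h ≫ (W ↘ Spec (CommRingCat.of k)) = (W' ↘ Spec (CommRingCat.of k)))
    (d : ℕ) (hd : ∀ w : W, topologicalKrullDim (h.fiber w) = d) (T : Set W)
    (hT : IsLocallyClosed T) :
    topologicalKrullDim ↥(h ⁻¹' T) = topologicalKrullDim ↥T + d := by
  have hT' : IsLocallyClosed (h ⁻¹' T) := hT.preimage h.continuous
  rw [topologicalKrullDim_eq_iSup_trdegNat_of_isLocallyClosed k W' _ hT',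
    topologicalKrullDim_eq_iSup_trdegNat_of_isLocallyClosed k W T hT]
  apply le_antisymm
  · refine iSup_le fun t' => ?_
    letI : (h.fiber (h t'.1)).Over (Spec (CommRingCat.of (W.residueField (h t'.1)))) :=
      ⟨h.fiberToSpecResidueField (h t'.1)⟩
    haveI : LocallyOfFiniteType ((h.fiber (h t'.1)) ↘
        Spec (CommRingCat.of (W.residueField (h t'.1)))) :=
      locallyOfFiniteType_fiberToSpecResidueField h _
    have hadd : trdegNat k W' t'.1 = trdegNat k W (h t'.1) +
        trdegNat (W.residueField (h t'.1)) (h.fiber (h t'.1)) (h.asFiber t'.1) :=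
      trdegNat_eq_add_fiber k h hh (h t'.1) (h.asFiber t'.1) t'.1 (h.fiberι_asFiber t'.1)
    have hfib : ((trdegNat (W.residueField (h t'.1)) (h.fiber (h t'.1)) (h.asFiber t'.1) : ℕ) :
        WithBot ℕ∞) ≤ d :=
      (trdegNat_le_topologicalKrullDim _ _ _).trans (hd _).le
    have hfib' : trdegNat (W.residueField (h t'.1)) (h.fiber (h t'.1)) (h.asFiber t'.1) ≤ d := by
      exact_mod_cast hfib
    have h1 : ((trdegNat k W' t'.1 : ℕ) : WithBot ℕ∞) ≤
        ((trdegNat k W (h t'.1) : ℕ) : WithBot ℕ∞) + d := by
      have : trdegNat k W' t'.1 ≤ trdegNat k W (h t'.1) + d := by omega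
      exact_mod_cast this
    exact h1.trans (add_le_add
      (le_iSup (fun t : T => ((trdegNat k W t.1 : ℕ) : WithBot ℕ∞)) ⟨h t'.1, t'.2⟩) le_rfl)
  · refine add_le_of_forall_nat _ _ _ fun n m hn hm => ?_
    obtain ⟨t, ht⟩ := exists_le_of_natCast_le_iSup _ n hn
    letI : (h.fiber t.1).Over (Spec (CommRingCat.of (W.residueField t.1))) :=
      ⟨h.fiberToSpecResidueField t.1⟩
    obtain ⟨z, hz⟩ := exists_fiber_point_trdegNat_ge h t.1 d (hd t.1).ge
    have hzt : h (h.fiberι t.1 z) = t.1 := (h.fiberHomeo t.1 z).2
    have hadd : trdegNat k W' (h.fiberι t.1 z) = trdegNat k W (h (h.fiberι t.1 z)) +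
        trdegNat (W.residueField t.1) (h.fiber t.1) z :=
      trdegNat_eq_add_fiber k h hh t.1 z (h.fiberι t.1 z) rfl
    rw [hzt] at hadd
    have hmem : h.fiberι t.1 z ∈ h ⁻¹' T := by
      show h (h.fiberι t.1 z) ∈ T
      rw [hzt]; exact t.2
    have hn' : n ≤ trdegNat k W t.1 := by exact_mod_cast ht
    have hm' : m ≤ d := by exact_mod_cast hm
    have h2 : ((n + m : ℕ) : WithBot ℕ∞) ≤
        ((trdegNat k W' (h.fiberι t.1 z) : ℕ) : WithBot ℕ∞) := by
      have : n + m ≤ trdegNat k W' (h.fiberι t.1 z) := by omega
      exact_mod_cast this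
    exact h2.trans
      (le_iSup (fun t' : ↥(h ⁻¹' T) => ((trdegNat k W' t'.1 : ℕ) : WithBot ℕ∞)) ⟨_, hmem⟩)

/-- Base-change form: `S` locally of finite type over a field `k`, `g : S' ⟶ S` with all fibres of
dimension `d`, `W ⟶ S` locally of finite type and `W' = W ×_S S'`; then `dim hW⁻¹(T) = dim T + d`
for `T ⊆ W` locally closed. -/
theorem topologicalKrullDim_preimage_eq_add_of_isPullback (k : Type u) [Field k]
    {S S' W W' : Scheme.{u}} (q : S ⟶ Spec (CommRingCat.of k)) [LocallyOfFiniteType q]
    (g : S' ⟶ S) [LocallyOfFiniteType g] (d : ℕ)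
    (hd : ∀ s : S, topologicalKrullDim (g.fiber s) = d)
    (w : W ⟶ S) [LocallyOfFiniteType w] (w' : W' ⟶ S') (hW : W' ⟶ W)
    (hsq : IsPullback w' hW g w) (T : Set W) (hT : IsLocallyClosed T) :
    topologicalKrullDim ↥(hW ⁻¹' T) = topologicalKrullDim ↥T + d := by
  letI : W.Over (Spec (CommRingCat.of k)) := ⟨w ≫ q⟩
  letI : W'.Over (Spec (CommRingCat.of k)) := ⟨hW ≫ w ≫ q⟩
  haveI : LocallyOfFiniteType hW :=
    MorphismProperty.of_isPullback hsq ‹LocallyOfFiniteType g›
  haveI : LocallyOfFiniteType (W ↘ Spec (CommRingCat.of k)) :=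
    (inferInstance : LocallyOfFiniteType (w ≫ q))
  haveI : LocallyOfFiniteType (W' ↘ Spec (CommRingCat.of k)) :=
    (inferInstance : LocallyOfFiniteType (hW ≫ w ≫ q))
  exact topologicalKrullDim_preimage_eq_add k hW rfl d
    (topologicalKrullDim_fiber_eq_of_isPullback g w w' hW hsq d hd) T hT

/-- The off-diagonal part of `Y' ×_{S'} Z'` is the preimage of the off-diagonal part of
`Y ×_S Z` (for `X' = X ×_S S'`, `Y'`, `Z'` the preimages of `Y`, `Z`). -/
theorem preimage_offDiag_eq {X S S' : Scheme.{u}} (f : X ⟶ S) (g : S' ⟶ S) (Y Z : Set X) :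
    (pullback.map (pullback.snd f g) (pullback.snd f g) f f (pullback.fst f g) (pullback.fst f g) g
        pullback.condition.symm pullback.condition.symm) ⁻¹'
      {p : ↥(pullback f f) | pullback.fst f f p ∈ Y ∧ pullback.snd f f p ∈ Z ∧
        p ∉ Set.range (pullback.diagonal f)} =
      {p : ↥(pullback (pullback.snd f g) (pullback.snd f g)) |
        pullback.fst (pullback.snd f g) (pullback.snd f g) p ∈ ((pullback.fst f g) ⁻¹' Y) ∧
        pullback.snd (pullback.snd f g) (pullback.snd f g) p ∈ ((pullback.fst f g) ⁻¹' Z) ∧
        p ∉ Set.range (pullback.diagonal (pullback.snd f g))} := by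
  have πfst : pullback.map (pullback.snd f g) (pullback.snd f g) f f (pullback.fst f g)
      (pullback.fst f g) g pullback.condition.symm pullback.condition.symm ≫ pullback.fst f f =
      pullback.fst (pullback.snd f g) (pullback.snd f g) ≫ pullback.fst f g :=
    pullback.lift_fst _ _ _
  have πsnd : pullback.map (pullback.snd f g) (pullback.snd f g) f f (pullback.fst f g)
      (pullback.fst f g) g pullback.condition.symm pullback.condition.symm ≫ pullback.snd f f =
      pullback.snd (pullback.snd f g) (pullback.snd f g) ≫ pullback.fst f g :=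
    pullback.lift_snd _ _ _
  have hΔ := isPullback_diagonal_map f g
  have e1 : ∀ p' : ↥(pullback (pullback.snd f g) (pullback.snd f g)),
      pullback.fst f f ((pullback.map (pullback.snd f g) (pullback.snd f g) f f (pullback.fst f g)
        (pullback.fst f g) g pullback.condition.symm pullback.condition.symm) p') =
      pullback.fst f g (pullback.fst (pullback.snd f g) (pullback.snd f g) p') := by
    intro p'
    rw [← Scheme.Hom.comp_apply, ← Scheme.Hom.comp_apply, πfst]
  have e2 : ∀ p' : ↥(pullback (pullback.snd f g) (pullback.snd f g)),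
      pullback.snd f f ((pullback.map (pullback.snd f g) (pullback.snd f g) f f (pullback.fst f g)
        (pullback.fst f g) g pullback.condition.symm pullback.condition.symm) p') =
      pullback.fst f g (pullback.snd (pullback.snd f g) (pullback.snd f g) p') := by
    intro p'
    rw [← Scheme.Hom.comp_apply, ← Scheme.Hom.comp_apply, πsnd]
  have e3 : ∀ p' : ↥(pullback (pullback.snd f g) (pullback.snd f g)),
      (pullback.map (pullback.snd f g) (pullback.snd f g) f f (pullback.fst f g)
        (pullback.fst f g) g pullback.condition.symm pullback.condition.symm) p' ∈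
        Set.range (pullback.diagonal f) ↔
      p' ∈ Set.range (pullback.diagonal (pullback.snd f g)) := by
    intro p'
    constructor
    · rintro ⟨x, hx⟩
      obtain ⟨x', hx'1, -⟩ := Scheme.exists_preimage_of_isPullback hΔ p' x hx.symm
      exact ⟨x', hx'1⟩
    · rintro ⟨x', rfl⟩
      refine ⟨pullback.fst f g x', ?_⟩
      rw [← Scheme.Hom.comp_apply, ← Scheme.Hom.comp_apply, hΔ.w]
  ext p'
  constructor
  · rintro ⟨h1, h2, h3⟩
    refine ⟨?_, ?_, fun hc => h3 ((e3 p').mpr hc)⟩
    · show pullback.fst f g (pullback.fst (pullback.snd f g) (pullback.snd f g) p') ∈ Y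
      rw [← e1]; exact h1
    · show pullback.fst f g (pullback.snd (pullback.snd f g) (pullback.snd f g) p') ∈ Z
      rw [← e2]; exact h2
  · rintro ⟨h1, h2, h3⟩
    refine ⟨?_, ?_, fun hc => h3 ((e3 p').mp hc)⟩
    · show pullback.fst f f ((pullback.map (pullback.snd f g) (pullback.snd f g) f f
        (pullback.fst f g) (pullback.fst f g) g pullback.condition.symm
        pullback.condition.symm) p') ∈ Y
      rw [e1]; exact h1
    · show pullback.snd f f ((pullback.map (pullback.snd f g) (pullback.snd f g) f f
        (pullback.fst f g) (pullback.fst f g) g pullback.condition.symm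
        pullback.condition.symm) p') ∈ Z
      rw [e2]; exact h2

end Groth.Agent.Lib.Helper2.ConstFibDim
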