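import Groth.Agent.Lib.Helper2CycBC
import Groth.Agent.Lib.Helper4FibDimH

/-!
# Fibre-generic points in a cartesian square

* `isGen_of_isPullback`: in a cartesian square `q : X' ⟶ X`, `a' : X' ⟶ S'`, `a : X ⟶ S`,
  `g : S' ⟶ S`, if `x'` is maximal in its `q`-fibre then `a' x'` is maximal in its `g`-fibre.
* `trdeg_eq_of_isPullback_of_maximal`: transcendence degrees of residue field extensions at
  maximal points agree under base change.
-/

set_option autoImplicit false
set_option linter.style.haveILetI false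
universe u

open TopologicalSpace Topology AlgebraicGeometry CategoryTheory CategoryTheory.Limits

namespace Groth.Agent.Lib.Helper2.CycBCGen

open Groth.Agent.Lib.Helper4.VarDim Groth.Agent.Lib.Helper4.FibDim
open Groth.Agent.Lib.Helper24PullFunComp Groth.Agent.Lib.Helper2.CycRelDim

attribute [local instance] sectionsAlgebra Curv2.resAlgebra

theorem isGen_of_isPullback {X S X' S' : Scheme.{u}} (a : X ⟶ S) (g : S' ⟶ S) (q : X' ⟶ X)
    (a' : X' ⟶ S') (hsq : IsPullback q a' a g) (x' : X') (hx' : IsGen q x') :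
    IsGen g (a' x') := by
  intro y hy hys
  have hgs : g (a' x') = a (q x') := by
    rw [← Scheme.Hom.comp_apply, ← Scheme.Hom.comp_apply, hsq.w]
  have hgy : g y = a (q x') := hy.trans hgs
  haveI : Flat (Spec.map (a.residueFieldMap (q x'))) := by
    rw [HasRingHomProperty.Spec_iff (P := @Flat)]
    letI := (a.residueFieldMap (q x')).hom.toAlgebra
    show Module.Flat _ _
    infer_instance
  haveI : Flat (pullback.snd (Spec.map (a.residueFieldMap (q x')))
      (g.fiberToSpecResidueField (a (q x')))) :=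
    MorphismProperty.pullback_snd _ _ inferInstance
  have sq1 : IsPullback
      (pullback.snd (Spec.map (a.residueFieldMap (q x'))) (g.fiberToSpecResidueField (a (q x'))) ≫
        g.fiberι (a (q x')))
      (pullback.fst (Spec.map (a.residueFieldMap (q x'))) (g.fiberToSpecResidueField (a (q x'))))
      g (Spec.map (a.residueFieldMap (q x')) ≫ S.fromSpecResidueField (a (q x'))) :=
    (IsPullback.of_hasPullback (Spec.map (a.residueFieldMap (q x')))
      (g.fiberToSpecResidueField (a (q x')))).flip.paste_horiz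
      (IsPullback.of_hasPullback g (S.fromSpecResidueField (a (q x'))))
  have sq2 : IsPullback (q.fiberι (q x') ≫ a') (q.fiberToSpecResidueField (q x')) g
      (X.fromSpecResidueField (q x') ≫ a) :=
    (IsPullback.of_hasPullback q (X.fromSpecResidueField (q x'))).paste_horiz hsq.flip
  rw [a.SpecMap_residueFieldMap_fromSpecResidueField (q x')] at sq1
  have hinv := sq1.isoIsPullback_inv_fst _ _ sq2
  have hhom := sq1.isoIsPullback_hom_fst _ _ sq2
  -- the point of `P` over `x'`
  have hπz : g.fiberι (a (q x')) (pullback.snd (Spec.map (a.residueFieldMap (q x')))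
      (g.fiberToSpecResidueField (a (q x'))) ((sq1.isoIsPullback _ _ sq2).inv (q.asFiber x'))) =
      a' x' := by
    rw [← Scheme.Hom.comp_apply, ← Scheme.Hom.comp_apply, hinv, Scheme.Hom.comp_apply,
      q.fiberι_asFiber]
  have hy₀ : g.fiberι (a (q x')) ((g.fiberHomeo (a (q x'))).symm ⟨y, hgy⟩) = y :=
    g.fiberι_fiberHomeo_symm _ ⟨y, hgy⟩
  have hemb : Topology.IsInducing (g.fiberι (a (q x'))) :=
    (Scheme.Hom.isEmbedding (g.fiberι (a (q x')))).isInducing
  have hsp : (g.fiberHomeo (a (q x'))).symm ⟨y, hgy⟩ ⤳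
      pullback.snd (Spec.map (a.residueFieldMap (q x'))) (g.fiberToSpecResidueField (a (q x')))
        ((sq1.isoIsPullback _ _ sq2).inv (q.asFiber x')) := by
    rw [← hemb.specializes_iff, hy₀, hπz]
    exact hys
  obtain ⟨z', hz'z, hz'y⟩ := (Flat.generalizingMap (pullback.snd
    (Spec.map (a.residueFieldMap (q x'))) (g.fiberToSpecResidueField (a (q x'))))) hsp
  have hid : (sq1.isoIsPullback _ _ sq2).hom ((sq1.isoIsPullback _ _ sq2).inv (q.asFiber x')) =
      q.asFiber x' := by
    have h := Scheme.Hom.comp_apply (sq1.isoIsPullback _ _ sq2).inv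
      (sq1.isoIsPullback _ _ sq2).hom (q.asFiber x')
    rw [Iso.inv_hom_id] at h
    exact h.symm
  have h1 : (sq1.isoIsPullback _ _ sq2).hom z' ⤳ q.asFiber x' := by
    have := hz'z.map (sq1.isoIsPullback _ _ sq2).hom.continuous
    rwa [hid] at this
  have h2 : q.fiberι (q x') ((sq1.isoIsPullback _ _ sq2).hom z') ⤳ x' := by
    have := h1.map (q.fiberι (q x')).continuous
    rwa [q.fiberι_asFiber] at this
  have h3 : q (q.fiberι (q x') ((sq1.isoIsPullback _ _ sq2).hom z')) = q x' :=
    (q.fiberHomeo (q x') ((sq1.isoIsPullback _ _ sq2).hom z')).2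
  have h4 := hx' _ h3 h2
  have h5 : a' (q.fiberι (q x') ((sq1.isoIsPullback _ _ sq2).hom z')) = y := by
    rw [← Scheme.Hom.comp_apply, ← Scheme.Hom.comp_apply, hhom, Scheme.Hom.comp_apply, hz'y, hy₀]
  rw [← h5, h4]

/-- In a cartesian square with `a` locally of finite type: at a point `x'` maximal in its
`a'`-fibre whose image `q x'` is maximal in its `a`-fibre, the residue field extensions
`κ(x')/κ(a' x')` and `κ(q x')/κ(a (q x'))` have the same transcendence degree. -/
theorem trdeg_eq_of_isPullback_of_maximal {X S X' S' : Scheme.{u}} (a : X ⟶ S)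
    [LocallyOfFiniteType a] (g : S' ⟶ S) (q : X' ⟶ X) (a' : X' ⟶ S')
    (hsq : IsPullback q a' a g) (x' : X') (hx' : IsGen a' x') (hqx' : IsGen a (q x')) (n n' : ℕ)
    (hn : @Algebra.trdeg (S.residueField (a (q x'))) (X.residueField (q x')) _ _
      (a.residueFieldMap (q x')).hom.toAlgebra = (n : Cardinal.{u}))
    (hn' : @Algebra.trdeg (S'.residueField (a' x')) (X'.residueField x') _ _
      (a'.residueFieldMap x').hom.toAlgebra = (n' : Cardinal.{u})) : n' = n := by
  haveI : LocallyOfFiniteType a' := MorphismProperty.of_isPullback hsq ‹LocallyOfFiniteType a›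
  letI i1 : (a'.fiber (a' x')).Over (Spec (CommRingCat.of (S'.residueField (a' x')))) :=
    ⟨a'.fiberToSpecResidueField (a' x')⟩
  letI i2 : (a.fiber (a (q x'))).Over (Spec (CommRingCat.of (S.residueField (a (q x'))))) :=
    ⟨a.fiberToSpecResidueField (a (q x'))⟩
  have e1 := fibreDimAt_eq_trdegNat_of_maximal a' x' hx'
  have e2 := fibreDimAt_eq_trdegNat_of_maximal a (q x') hqx'
  have e3 := Groth.Agent.Lib.Helper3.LocDimBC.fibreDimAt_eq_of_isPullback a g q a' hsq x'
  have t1 := trdeg_residueFieldMap_eq_trdegNat_fiber a' (a' x') (a'.asFiber x') x'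
    (a'.fiberι_asFiber x')
  have t2 := trdeg_residueFieldMap_eq_trdegNat_fiber a (a (q x')) (a.asFiber (q x')) (q x')
    (a.fiberι_asFiber (q x'))
  rw [hn'] at t1
  rw [hn] at t2
  have t1' : n' = trdegNat (S'.residueField (a' x')) (a'.fiber (a' x')) (a'.asFiber x') := by
    exact_mod_cast t1
  have t2' : n = trdegNat (S.residueField (a (q x'))) (a.fiber (a (q x'))) (a.asFiber (q x')) := by
    exact_mod_cast t2
  rw [e1, e2] at e3
  have e4 : trdegNat (S'.residueField (a' x')) (a'.fiber (a' x')) (a'.asFiber x') =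
      trdegNat (S.residueField (a (q x'))) (a.fiber (a (q x'))) (a.asFiber (q x')) := by
    exact_mod_cast e3
  omega

end Groth.Agent.Lib.Helper2.CycBCGen
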