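import Mathlib
import Groth.Agent.Lib.Helper2CycC1Unit
import Groth.Agent.Lib.Helper2CycOrdGen
import Groth.Agent.Lib.Helper26StalkBC
import Groth.Agent.Lib.Helper23PB
import Groth.Agent.Lib.Helper23SecTw3

/-!
# Flat pullback commutes with `c_1(L) ∩ -` (helper2)
-/

set_option autoImplicit false
set_option linter.style.haveILetI false

universe u

open AlgebraicGeometry CategoryTheory IsLocalRing TensorProduct

namespace Groth.Agent.Lib.Helper2.CycC1Pull

open Groth.Agent.Lib.Helper2.CycOrd Groth.Agent.Lib.Helper2.CycOrdSum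
  Groth.Agent.Lib.Helper2.CycOrdGen
  Groth.Agent.Lib.Helper2.CycSecDiv Groth.Agent.Lib.Helper2.CycRat
  Groth.Agent.Lib.Helper2.CycC1 Groth.Agent.Lib.Helper2.CycC1Unit
  Groth.Agent.Lib.Helper20.InvGen Groth.Agent.Lib.Helper2
  Groth.Agent.Helper13PullbackUnit Groth.Agent.Lib.Helper26.StalkBC
  Groth.Agent.Lib.Helper24PullFunComp Groth.Agent.Lib.Helper2.CycBC

section alg

theorem bijective_smul_of_isBaseChange {R S M N : Type u} [CommRing R] [CommRing S] [Algebra R S]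
    [AddCommGroup M] [Module R M] [AddCommGroup N] [Module R N] [Module S N]
    [IsScalarTower R S N] (f : M →ₗ[R] N) (hf : IsBaseChange S f) (m : M)
    (hm : Function.Bijective (fun c : R => c • m)) :
    Function.Bijective (fun c : S => c • f m) := by
  let eM : R ≃ₗ[R] M := LinearEquiv.ofBijective (LinearMap.toSpanSingleton R M m) hm
  let e1 : S ≃ₗ[R] S ⊗[R] R := (TensorProduct.rid R S).symm
  let e2 : S ⊗[R] R ≃ₗ[R] S ⊗[R] M := TensorProduct.congr (LinearEquiv.refl R S) eM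
  have hfun : (fun c : S => c • f m) = (fun z => hf.equiv z) ∘ (fun c => e2 (e1 c)) := by
    funext c
    simp only [Function.comp_apply]
    change _ = hf.equiv (TensorProduct.congr (LinearEquiv.refl R S) eM
      ((TensorProduct.rid R S).symm c))
    rw [TensorProduct.rid_symm_apply, TensorProduct.congr_tmul, LinearEquiv.refl_apply,
      IsBaseChange.equiv_tmul]
    change c • f m = c • f (LinearMap.toSpanSingleton R M m 1)
    rw [LinearMap.toSpanSingleton_apply, one_smul]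
  rw [hfun]
  exact hf.equiv.bijective.comp (e2.bijective.comp e1.bijective)

end alg

variable {X X' : Scheme.{u}}

/-- the pullback of a free local generator is a free local generator. -/
theorem bijective_smul_germ_unitSec (p : X' ⟶ X) (L : X.Modules) [L.IsQuasicoherent]
    (W : X.Opens) (t : Γ(L, W)) (y' : X') (hy' : p y' ∈ W)
    (ht : Function.Bijective
      (fun c : X.presheaf.stalk (p y') => c • L.presheaf.germ W (p y') hy' t)) :
    Function.Bijective (fun c : X'.presheaf.stalk y' =>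
      c • ((Scheme.Modules.pullback p).obj L).presheaf.germ (p ⁻¹ᵁ W) y' hy'
        (unitSec p L (le_refl (p ⁻¹ᵁ W)) t)) := by
  letI : Algebra (X.presheaf.stalk (p y')) (X'.presheaf.stalk y') :=
    (p.stalkMap y').hom.toAlgebra
  letI := FlatMod.moduleStalkOver p ((Scheme.Modules.pullback p).obj L) y'
  obtain ⟨hT, hbc⟩ := isBaseChange_stalkUnit p L y'
  haveI := hT
  have h1 := bijective_smul_of_isBaseChange (stalkUnitₗ p L y') hbc _ ht
  have h2 : stalkUnitₗ p L y' (L.presheaf.germ W (p y') hy' t) =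
      ((Scheme.Modules.pullback p).obj L).presheaf.germ (p ⁻¹ᵁ W) y' hy'
        (unitSec p L (le_refl (p ⁻¹ᵁ W)) t) := by
    rw [stalkUnitₗ_apply]
    exact stalkUnit_germ p L y' (le_refl (p ⁻¹ᵁ W)) hy' hy' t
  rw [h2] at h1
  exact h1

/-- the support of a cycle is locally finite, in the form used by `Cyc.RatEquivZero`. -/
theorem locallyFinite_support (α : AlgebraicCycle X ℤ) (x : X) :
    ∃ U : Set X, IsOpen U ∧ x ∈ U ∧
      {i : {ξ : X // α ξ ≠ 0} | (closure {i.1} ∩ U).Nonempty}.Finite := by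
  obtain ⟨U, hU, hfin⟩ := α.supportLocallyFiniteWithinDomain' x (Set.mem_univ x)
  obtain ⟨V, hVU, hVo, hxV⟩ := mem_nhds_iff.mp hU
  refine ⟨V, hVo, hxV, ?_⟩
  have hsub : {i : {ξ : X // α ξ ≠ 0} | (closure {i.1} ∩ V).Nonempty} ⊆
      (fun i : {ξ : X // α ξ ≠ 0} => i.1) ⁻¹' (U ∩ Function.support α) := by
    rintro i ⟨z, hz1, hz2⟩
    have hiV : i.1 ∈ V := by
      obtain ⟨w, hwV, hw⟩ := mem_closure_iff.mp hz1 V hVo hz2
      rw [Set.mem_singleton_iff] at hw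
      rw [← hw]
      exact hwV
    exact ⟨hVU hiV, i.2⟩
  exact (hfin.preimage (Subtype.val_injective.injOn)).subset hsub

theorem isGen_of_delta_eq [IsLocallyNoetherian X'] (p : X' ⟶ X) (δ : X → ℤ) (δ' : X' → ℤ)
    (hδ' : Cyc.IsDimFun X' δ') (c : ℤ)
    (hc : ∀ x' : X', IsGen p x' → δ' x' = δ (p x') + c) (ζ : X')
    (h : δ' ζ = δ (p ζ) + c) : IsGen p ζ := by
  obtain ⟨ζ₀, hs, hp, hg⟩ := exists_generic_in_fibre p ζ
  by_cases hne : ζ₀ = ζ
  · rw [← hne]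
    exact hg
  · exfalso
    have h1 := (hδ' ζ₀ ζ hs hne).1
    have h2 := hc ζ₀ hg
    rw [hp] at h2
    omega

/-- the flat pullback of a cycle is a cycle. -/
theorem exists_cycle_pullFun (δ : X → ℤ) (δ' : X' → ℤ) (hX' : Cyc.IsSetup X' δ') (p : X' ⟶ X)
    (c : ℤ) (hc : ∀ x' : X', IsGen p x' → δ' x' = δ (p x') + c) (α : AlgebraicCycle X ℤ) :
    ∃ α' : AlgebraicCycle X' ℤ, ⇑α' = Cyc.pullFun p δ' δ c ⇑α := by
  classical
  haveI : IsLocallyNoetherian X' := hX'.1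
  have hgen : ∀ ζ : X', Cyc.pullFun p δ' δ c ⇑α ζ ≠ 0 → IsGen p ζ ∧ α (p ζ) ≠ 0 := by
    intro ζ hζ
    simp only [Cyc.pullFun] at hζ
    by_cases hcond : δ' ζ = δ (p ζ) + c
    · rw [if_pos hcond] at hζ
      exact ⟨isGen_of_delta_eq p δ δ' hX'.2.2 c hc ζ hcond, left_ne_zero_of_mul hζ⟩
    · rw [if_neg hcond] at hζ
      exact absurd rfl hζ
  have hlf' := locallyFinite_gen p (fun i : {ξ : X // α ξ ≠ 0} => i.1) (locallyFinite_support α)
  refine ⟨⟨Cyc.pullFun p δ' δ c ⇑α, fun _ _ => Set.mem_univ _, fun z _ => ?_⟩, rfl⟩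
  obtain ⟨U, hUo, hzU, hfin⟩ := hlf' z
  refine ⟨U, hUo.mem_nhds hzU, ?_⟩
  refine (hfin.image (fun j => j.2.1)).subset ?_
  rintro ζ ⟨hζU, hζ⟩
  obtain ⟨hg, hα⟩ := hgen ζ hζ
  refine ⟨⟨⟨p ζ, hα⟩, ⟨ζ, rfl, hg⟩⟩, ?_, rfl⟩
  exact ⟨ζ, subset_closure rfl, hζU⟩

section main

/-- the rational section of `p^*L` at `ζ` induced by (a lift of) a rational section of `L` at
`p ζ`. -/
noncomputable def pullSec (p : X' ⟶ X) (L : X.Modules) (l : (ξ : X) → L.presheaf.stalk ξ)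
    (ζ : X') : Cyc.secFibre ((Scheme.Modules.pullback p).obj L) ζ :=
  Submodule.Quotient.mk (stalkUnit p L ζ (l (p ζ)))

theorem local_data (p : X' ⟶ X) (L : X.Modules) (hL : PicF.IsInvertible L)
    (l : (ξ : X) → L.presheaf.stalk ξ)
    (hl : ∀ ξ, (Submodule.Quotient.mk (l ξ) : Cyc.secFibre L ξ) ≠ 0) (x' : X') :
    ∃ g : (ξ : X) → X.residueField ξ, (∀ ξ, g ξ ≠ 0) ∧
      (∀ (ξ : X) (h : ξ ⤳ p x'), Cyc.secOrdAt L ξ (p x') h (Submodule.Quotient.mk (l ξ)) =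
        Cyc.ordAt (p x') ξ h (g ξ)) ∧
      (∀ (ζ : X') (h' : ζ ⤳ x'),
        Cyc.secOrdAt ((Scheme.Modules.pullback p).obj L) ζ x' h' (pullSec p L l ζ) =
          Cyc.ordAt x' ζ h' ((p.residueFieldMap ζ).hom (g (p ζ)))) ∧
      pullSec p L l x' ≠ 0 := by
  classical
  haveI : L.IsQuasicoherent :=
    Groth.Agent.Lib.Helper23.SecTw.isQuasicoherent_of_isInvertible L hL
  obtain ⟨W, t, hxW, hW⟩ := exists_local_generator L hL (p x')
  have hex : ∀ (ξ : X) (hξ : ξ ∈ W), ∃ a : X.presheaf.stalk ξ,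
      a • L.presheaf.germ W ξ hξ t = l ξ := fun ξ hξ => (hW ξ hξ).2 (l ξ)
  let a : (ξ : X) → X.presheaf.stalk ξ := fun ξ =>
    if hξ : ξ ∈ W then Classical.choose (hex ξ hξ) else 1
  have ha : ∀ (ξ : X) (hξ : ξ ∈ W), a ξ • L.presheaf.germ W ξ hξ t = l ξ := by
    intro ξ hξ
    simp only [a, dif_pos hξ]
    exact Classical.choose_spec (hex ξ hξ)
  have hane : ∀ ξ, X.residue ξ (a ξ) ≠ 0 := by
    intro ξ
    by_cases hξ : ξ ∈ W
    · intro h0
      apply hl ξ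
      rw [← ha ξ hξ, Submodule.Quotient.mk_eq_zero]
      exact Submodule.smul_mem_smul ((IsLocalRing.residue_eq_zero_iff _).mp h0) Submodule.mem_top
    · have h1 : a ξ = 1 := by simp only [a, dif_neg hξ]
      rw [h1, map_one]
      exact one_ne_zero
  have hfree : ∀ (y' : X') (hy' : p y' ∈ W), Function.Bijective
      (fun c : X'.presheaf.stalk y' =>
        c • ((Scheme.Modules.pullback p).obj L).presheaf.germ (p ⁻¹ᵁ W) y' hy'
          (unitSec p L (le_refl (p ⁻¹ᵁ W)) t)) :=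
    fun y' hy' => bijective_smul_germ_unitSec p L W t y' hy' (hW (p y') hy')
  have hunitS : ∀ (ζ : X') (hζW : p ζ ∈ W), stalkUnit p L ζ (l (p ζ)) =
      (p.stalkMap ζ).hom (a (p ζ)) •
        ((Scheme.Modules.pullback p).obj L).presheaf.germ (p ⁻¹ᵁ W) ζ hζW
          (unitSec p L (le_refl (p ⁻¹ᵁ W)) t) := by
    intro ζ hζW
    rw [← ha (p ζ) hζW, stalkUnit_smul,
      stalkUnit_germ p L ζ (le_refl (p ⁻¹ᵁ W)) hζW hζW t]
  refine ⟨fun ξ => X.residue ξ (a ξ), hane, ?_, ?_, ?_⟩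
  · intro ξ h
    have hξW : ξ ∈ W := h.mem_open W.isOpen hxW
    have hsp : L.presheaf.stalkSpecializes h (L.presheaf.germ W (p x') hxW t) =
        L.presheaf.germ W ξ hξW t :=
      ConcreteCategory.congr_hom (TopCat.Presheaf.germ_stalkSpecializes L.presheaf hxW h) t
    rw [← ha ξ hξW, ← hsp]
    exact secOrdAt_mk L ξ (p x') h _ (hW (p x') hxW) (by rw [hsp]; exact hW ξ hξW) (a ξ)
  · intro ζ h'
    have hζW : p ζ ∈ W := h'.mem_open (p ⁻¹ᵁ W).isOpen hxW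
    have hsp' : ((Scheme.Modules.pullback p).obj L).presheaf.stalkSpecializes h'
        (((Scheme.Modules.pullback p).obj L).presheaf.germ (p ⁻¹ᵁ W) x' hxW
          (unitSec p L (le_refl (p ⁻¹ᵁ W)) t)) =
        ((Scheme.Modules.pullback p).obj L).presheaf.germ (p ⁻¹ᵁ W) ζ hζW
          (unitSec p L (le_refl (p ⁻¹ᵁ W)) t) :=
      ConcreteCategory.congr_hom (TopCat.Presheaf.germ_stalkSpecializes
        ((Scheme.Modules.pullback p).obj L).presheaf (U := p ⁻¹ᵁ W) hxW h')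
        (unitSec p L (le_refl (p ⁻¹ᵁ W)) t)
    unfold pullSec
    rw [hunitS ζ hζW, ← hsp',
      secOrdAt_mk ((Scheme.Modules.pullback p).obj L) ζ x' h' _ (hfree x' hxW)
        (by rw [hsp']; exact hfree ζ hζW)]
    have hres : X'.residue ζ ((p.stalkMap ζ).hom (a (p ζ))) =
        (p.residueFieldMap ζ).hom (X.residue (p ζ) (a (p ζ))) :=
      (ConcreteCategory.congr_hom (Scheme.residue_residueFieldMap p ζ) (a (p ζ))).symm
    rw [hres]
  · unfold pullSec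
    rw [hunitS x' hxW]
    have hu1 : IsUnit (a (p x')) := (IsLocalRing.residue_ne_zero_iff_isUnit _).mp (hane (p x'))
    have hu2 : IsUnit ((p.stalkMap x').hom (a (p x'))) := hu1.map _
    exact mk_ne_zero_of_bijective _ x' _ (bijective_smul_unit _ (hfree x' hxW) _ hu2)


noncomputable def Hfun (p : X' ⟶ X) (δ' : X' → ℤ) (α' : X' → ℤ) (x' : X')
    (g : (ξ : X) → X.residueField ξ) : X' → ℤ := fun ζ =>
  α' ζ * Cyc.divFun δ' ζ ((p.residueFieldMap ζ).hom (g (p ζ))) x'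

theorem Hfun_apply (p : X' ⟶ X) (δ' : X' → ℤ) (α' : X' → ℤ) (x' : X')
    (g : (ξ : X) → X.residueField ξ) (ζ : X') :
    Hfun p δ' α' x' g ζ = α' ζ * Cyc.divFun δ' ζ ((p.residueFieldMap ζ).hom (g (p ζ))) x' := rfl

noncomputable def Tfun (p : X' ⟶ X) (δ' : X' → ℤ) (α : X → ℤ) (x' : X')
    (g : (ξ : X) → X.residueField ξ) : (Σ ξ : X, {ζ : X' // p ζ = ξ ∧ IsGen p ζ}) → ℤ := fun j =>
  α j.1 * (((Module.length (X'.presheaf.stalk j.2.1) (X'.presheaf.stalk j.2.1 ⧸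
    Ideal.map (p.stalkMap j.2.1).hom
      (maximalIdeal (X.presheaf.stalk (p j.2.1))))).toNat : ℤ) *
    Cyc.divFun δ' j.2.1 ((p.residueFieldMap j.2.1).hom (g (p j.2.1))) x')

theorem Tfun_apply (p : X' ⟶ X) (δ' : X' → ℤ) (α : X → ℤ) (x' : X')
    (g : (ξ : X) → X.residueField ξ) (ζ : X') (h : IsGen p ζ) :
    Tfun p δ' α x' g ⟨p ζ, ⟨ζ, rfl, h⟩⟩ = α (p ζ) *
      (((Module.length (X'.presheaf.stalk ζ) (X'.presheaf.stalk ζ ⧸
        Ideal.map (p.stalkMap ζ).hom (maximalIdeal (X.presheaf.stalk (p ζ))))).toNat : ℤ) *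
        Cyc.divFun δ' ζ ((p.residueFieldMap ζ).hom (g (p ζ))) x') := rfl

theorem Tfun_mk (p : X' ⟶ X) (δ' : X' → ℤ) (α : X → ℤ) (x' : X')
    (g : (ξ : X) → X.residueField ξ) (ξ : X) (ζ : {ζ : X' // p ζ = ξ ∧ IsGen p ζ}) :
    Tfun p δ' α x' g ⟨ξ, ζ⟩ = α ξ *
      (((Module.length (X'.presheaf.stalk ζ.1) (X'.presheaf.stalk ζ.1 ⧸
        Ideal.map (p.stalkMap ζ.1).hom (maximalIdeal (X.presheaf.stalk (p ζ.1))))).toNat : ℤ) *
        Cyc.divFun δ' ζ.1 ((p.residueFieldMap ζ.1).hom (g (p ζ.1))) x') := rfl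

/-- **flat pullback commutes with `c_1(L) ∩ -`**, up to rational equivalence. -/
theorem pullFun_c1Cap_ratEquiv (X X' : Scheme.{u}) (δ : X → ℤ) (δ' : X' → ℤ)
    (hX : Cyc.IsSetup X δ) (hX' : Cyc.IsSetup X' δ') (p : X' ⟶ X) [Flat p] (c : ℤ)
    (hc : ∀ x' : X', IsGen p x' → δ' x' = δ (p x') + c) (L : X.Modules)
    (hL : PicF.IsInvertible L) (k : ℤ) (α : AlgebraicCycle X ℤ) (hα : α ∈ Cyc.Zk X δ k)
    (v : (ξ : X) → Cyc.secFibre L ξ) (hv : ∀ ξ, v ξ ≠ 0)
    (u : (ξ : X') → Cyc.secFibre ((Scheme.Modules.pullback p).obj L) ξ) (hu : ∀ ξ, u ξ ≠ 0)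
    (γ₁ γ₂ : AlgebraicCycle X' ℤ)
    (h₁ : ⇑γ₁ = Cyc.pullFun p δ' δ c (Cyc.c1CapFun δ L ⇑α v))
    (h₂ : ⇑γ₂ = Cyc.c1CapFun δ' ((Scheme.Modules.pullback p).obj L)
      (Cyc.pullFun p δ' δ c ⇑α) u) : Cyc.RatEquiv δ' (k + c - 1) γ₁ γ₂ := by
  classical
  haveI : IsLocallyNoetherian X := hX.1
  haveI : IsLocallyNoetherian X' := hX'.1
  obtain ⟨α', hα'⟩ := exists_cycle_pullFun δ δ' hX' p c hc α
  have hα'Z : α' ∈ Cyc.Zk X' δ' (k + c - 1 + 1) := by
    have h1 := Bivar.pullFun_mem_Zk p δ' δ c k hα α' hα'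
    have e : k + c - 1 + 1 = k + c := by ring
    rw [e]
    exact h1
  choose l hl using fun ξ => Submodule.Quotient.mk_surjective _ (v ξ)
  have hl0 : ∀ ξ, (Submodule.Quotient.mk (l ξ) : Cyc.secFibre L ξ) ≠ 0 := fun ξ => by
    rw [hl ξ]
    exact hv ξ
  have hu' : ∀ ζ, pullSec p L l ζ ≠ 0 := fun ζ => by
    obtain ⟨-, -, -, -, h4⟩ := local_data p L hL l hl0 ζ
    exact h4
  have hα'gen : ∀ ζ, IsGen p ζ → α' ζ = α (p ζ) *
      ((Module.length (X'.presheaf.stalk ζ) (X'.presheaf.stalk ζ ⧸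
        Ideal.map (p.stalkMap ζ).hom (maximalIdeal (X.presheaf.stalk (p ζ))))).toNat : ℤ) := by
    intro ζ hζ
    rw [hα']
    simp only [Cyc.pullFun]
    rw [if_pos (hc ζ hζ)]
  have hα'ngen : ∀ ζ, ¬ IsGen p ζ → α' ζ = 0 := by
    intro ζ hζ
    rw [hα']
    simp only [Cyc.pullFun]
    rw [if_neg]
    intro h
    exact hζ (isGen_of_delta_eq p δ δ' hX'.2.2 c hc ζ h)
  have hinj : Function.Injective
      (fun j : Σ ξ : X, {ζ : X' // p ζ = ξ ∧ IsGen p ζ} => j.2.1) := by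
    rintro ⟨ξ, ζ, h1, h2⟩ ⟨ξ', ζ', h1', h2'⟩ h
    simp only at h
    subst h
    subst h1
    subst h1'
    rfl
  have hkey : ⇑γ₁ = Cyc.c1CapFun δ' ((Scheme.Modules.pullback p).obj L) ⇑α' (pullSec p L l) := by
    funext x'
    obtain ⟨g, hg, hA, hB, -⟩ := local_data p L hL l hl0 x'
    rw [h₁]
    have hL1 : Cyc.pullFun p δ' δ c (Cyc.c1CapFun δ L ⇑α v) x' =
        ∑ᶠ ξ, α ξ * Cyc.pullFun p δ' δ c (Cyc.divFun δ ξ (g ξ)) x' := by
      have hval : Cyc.c1CapFun δ L ⇑α v (p x') = ∑ᶠ ξ, α ξ * Cyc.divFun δ ξ (g ξ) (p x') := by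
        simp only [Cyc.c1CapFun]
        refine finsum_congr fun ξ => ?_
        congr 1
        simp only [Cyc.secDivFun, Cyc.divFun]
        by_cases hcnd : ξ ⤳ p x' ∧ δ (p x') + 1 = δ ξ
        · rw [dif_pos hcnd, dif_pos hcnd, ← hl ξ]
          exact hA ξ hcnd.1
        · rw [dif_neg hcnd, dif_neg hcnd]
      simp only [Cyc.pullFun]
      by_cases hcond : δ' x' = δ (p x') + c
      · simp only [if_pos hcond]
        rw [hval, finsum_mul]
        refine finsum_congr fun ξ => ?_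
        ring
      · simp only [if_neg hcond]
        simp
    rw [hL1]
    have hB1 : ∀ ξ, Cyc.pullFun p δ' δ c (Cyc.divFun δ ξ (g ξ)) x' =
        ∑ᶠ ζ : {ζ : X' // p ζ = ξ ∧ IsGen p ζ},
          ((Module.length (X'.presheaf.stalk ζ.1) (X'.presheaf.stalk ζ.1 ⧸
            Ideal.map (p.stalkMap ζ.1).hom
              (maximalIdeal (X.presheaf.stalk (p ζ.1))))).toNat : ℤ) *
            Cyc.divFun δ' ζ.1 ((p.residueFieldMap ζ.1).hom (g (p ζ.1))) x' := by
      intro ξ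
      rw [pullFun_divFun_gen X X' δ δ' hX hX' p c hc ξ (g ξ) (hg ξ) x']
      refine finsum_congr fun ζ => ?_
      obtain ⟨ζ, h1, h2⟩ := ζ
      subst h1
      rfl
    have hR : Cyc.c1CapFun δ' ((Scheme.Modules.pullback p).obj L) ⇑α' (pullSec p L l) x' =
        ∑ᶠ ζ, Hfun p δ' ⇑α' x' g ζ := by
      simp only [Cyc.c1CapFun]
      refine finsum_congr fun ζ => ?_
      rw [Hfun_apply]
      congr 1
      simp only [Cyc.secDivFun, Cyc.divFun]
      by_cases hcnd : ζ ⤳ x' ∧ δ' x' + 1 = δ' ζ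
      · rw [dif_pos hcnd, dif_pos hcnd]
        exact hB ζ hcnd.1
      · rw [dif_neg hcnd, dif_neg hcnd]
    rw [hR]
    have hTH : ∀ j, Tfun p δ' ⇑α x' g j = Hfun p δ' ⇑α' x' g j.2.1 := by
      rintro ⟨ξ, ζ, h1, h2⟩
      subst h1
      rw [Tfun_apply p δ' ⇑α x' g ζ h2, Hfun_apply, hα'gen ζ h2]
      ring
    have hfinT : (Function.support (Tfun p δ' ⇑α x' g)).Finite := by
      have hfin := Bivar.finite_support_specializes α' x'
      refine (hfin.preimage hinj.injOn).subset ?_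
      intro j hj
      rw [Function.mem_support, hTH j, Hfun_apply] at hj
      refine ⟨?_, left_ne_zero_of_mul hj⟩
      by_contra hns
      apply right_ne_zero_of_mul hj
      simp only [Cyc.divFun]
      rw [dif_neg (fun h => hns h.1)]
    calc ∑ᶠ ξ, α ξ * Cyc.pullFun p δ' δ c (Cyc.divFun δ ξ (g ξ)) x'
        = ∑ᶠ ξ, ∑ᶠ ζ : {ζ : X' // p ζ = ξ ∧ IsGen p ζ}, Tfun p δ' ⇑α x' g ⟨ξ, ζ⟩ := by
          refine finsum_congr fun ξ => ?_
          rw [hB1 ξ, mul_finsum]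
          refine finsum_congr fun ζ => ?_
          rw [Tfun_mk]
      _ = ∑ᶠ j, Tfun p δ' ⇑α x' g j := (finsum_sigma_eq (Tfun p δ' ⇑α x' g) hfinT).symm
      _ = ∑ᶠ j, Hfun p δ' ⇑α' x' g
            ((fun j : Σ ξ : X, {ζ : X' // p ζ = ξ ∧ IsGen p ζ} => j.2.1) j) :=
          finsum_congr hTH
      _ = ∑ᶠ ζ ∈ Set.range
            (fun j : Σ ξ : X, {ζ : X' // p ζ = ξ ∧ IsGen p ζ} => j.2.1),
              Hfun p δ' ⇑α' x' g ζ :=
          (finsum_mem_range hinj).symm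
      _ = ∑ᶠ ζ, Hfun p δ' ⇑α' x' g ζ := by
          rw [← finsum_mem_univ (Hfun p δ' ⇑α' x' g)]
          apply finsum_mem_inter_support_eq'
          intro ζ hζ
          have hgen : IsGen p ζ := by
            by_contra hn
            rw [Function.mem_support, Hfun_apply] at hζ
            apply hζ
            rw [hα'ngen ζ hn, zero_mul]
          constructor
          · intro _
            exact Set.mem_univ _
          · intro _
            exact ⟨⟨p ζ, ζ, rfl, hgen⟩, rfl⟩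
  have h₂' : ⇑γ₂ = Cyc.c1CapFun δ' ((Scheme.Modules.pullback p).obj L) ⇑α' u := by
    rw [hα']
    exact h₂
  exact ratEquiv_c1CapFun X' δ' _ (Groth.Agent.Lib.Helper23.PB.isInvertible_pullback p L hL)
    (k + c - 1) α' hα'Z (pullSec p L l) u hu' hu γ₁ γ₂ hkey h₂'

end main

end Groth.Agent.Lib.Helper2.CycC1Pull
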