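import Mathlib
import Groth.Prelude.Def_Cyc
import Groth.Agent.Lib.Helper2CycOrd
import Groth.Agent.Lib.Helper2CycRat
import Groth.Agent.Lib.Helper2CycC1
import Groth.Agent.Lib.Helper2CycClosedImm

/-!
# Locally finite families of principal divisors (helper2)

* `exists_open_divFun_eq_zero`: a principal divisor `div(f)` on the closure of `ξ` vanishes on an
  open neighbourhood of `ξ`.
* `finite_support_divFun_inter`: its support meets every affine open in a finite set.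
* `exists_cycle_finsum_divFun`: a locally finite family of principal divisors sums to an
  `AlgebraicCycle`.
* `finite_support_family`, `finsum_divFun_eq_zero_of_delta_ne`.
* general immersion lemmas (`ordAt_of_surjective`, `divFun_of_inducing`) for morphisms that are
  topologically inducing with surjective stalk maps (closed and open immersions).
* `locallyFinite_of_open`: a locally finite family on an open subscheme of a locally Noetherian
  scheme is locally finite on the whole scheme.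
* `exists_supported_on_complement`: the localization sequence `CH_k(X ∖ U) → CH_k(X) → CH_k(U)`
  is exact in the middle.
-/

set_option autoImplicit false
set_option linter.style.haveILetI false

universe u

open AlgebraicGeometry CategoryTheory IsLocalRing TopologicalSpace

namespace Groth.Agent.Lib.Helper2.CycFamily

open Groth.Agent.Lib.Helper2.CycOrd Groth.Agent.Lib.Helper2.CycRat
  Groth.Agent.Lib.Helper2.CycClosedImm

section single

variable {X : Scheme.{u}}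

theorem exists_open_divFun_eq_zero (δ : X → ℤ) (ξ : X) (f : X.residueField ξ) (hf : f ≠ 0) :
    ∃ W : X.Opens, ξ ∈ W ∧ ∀ x' ∈ W, Cyc.divFun δ ξ f x' = 0 := by
  obtain ⟨φ, rfl⟩ : ∃ φ : X.presheaf.stalk ξ, X.residue ξ φ = f :=
    IsLocalRing.residue_surjective f
  obtain ⟨W₀, hξW₀, a, rfl⟩ := X.presheaf.exists_germ_eq φ
  have hunit : IsUnit (X.presheaf.germ W₀ ξ hξW₀ a) := by
    by_contra hnu
    apply hf
    exact (IsLocalRing.residue_eq_zero_iff _).mpr ((IsLocalRing.mem_maximalIdeal _).mpr hnu)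
  refine ⟨X.basicOpen a, (X.mem_basicOpen a ξ hξW₀).mpr hunit, ?_⟩
  intro x' hx'
  simp only [Cyc.divFun]
  by_cases hc : ξ ⤳ x' ∧ δ x' + 1 = δ ξ
  · rw [dif_pos hc]
    have hx'W₀ : x' ∈ W₀ := X.basicOpen_le a hx'
    have hu' : IsUnit (X.presheaf.germ W₀ x' hx'W₀ a) := (X.mem_basicOpen a x' hx'W₀).mp hx'
    have heq : X.residue ξ (X.presheaf.germ W₀ ξ hξW₀ a) =
        Cyc.specMap x' ξ hc.1 (X.presheaf.germ W₀ x' hx'W₀ a) := by
      change _ = (X.residue ξ).hom ((X.presheaf.stalkSpecializes hc.1).hom _)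
      have h1 : (X.presheaf.stalkSpecializes hc.1).hom (X.presheaf.germ W₀ x' hx'W₀ a) =
          X.presheaf.germ W₀ ξ hξW₀ a :=
        ConcreteCategory.congr_hom (TopCat.Presheaf.germ_stalkSpecializes X.presheaf hx'W₀ hc.1) a
      rw [h1]
    rw [heq]
    exact ordAt_unit x' ξ hc.1 _ hu'
  · rw [dif_neg hc]

theorem finite_support_divFun_inter [IsLocallyNoetherian X] (δ : X → ℤ) (hδ : Cyc.IsDimFun X δ)
    (ξ : X) (f : X.residueField ξ) (hf : f ≠ 0) (U : X.Opens) (hU : IsAffineOpen U) :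
    {x' : X | x' ∈ U ∧ Cyc.divFun δ ξ f x' ≠ 0}.Finite := by
  obtain ⟨W, hξW, hW⟩ := exists_open_divFun_eq_zero δ ξ f hf
  have hZ : IsClosed (closure {ξ} ∩ (W : Set X)ᶜ) :=
    isClosed_closure.inter W.isOpen.isClosed_compl
  refine (finite_maximal_in_closed X U hU _ hZ).subset ?_
  rintro x' ⟨hx'U, hx'⟩
  have hc : ξ ⤳ x' ∧ δ x' + 1 = δ ξ := by
    by_contra hns
    apply hx'
    simp only [Cyc.divFun]
    rw [dif_neg hns]
  have hx'W : x' ∉ W := fun h => hx' (hW x' h)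
  refine ⟨hx'U, ⟨specializes_iff_mem_closure.mp hc.1, hx'W⟩, ?_⟩
  rintro ζ' ⟨hζ'1, hζ'2⟩ hζ'x'
  by_contra hne
  have h1 : ξ ⤳ ζ' := specializes_iff_mem_closure.mpr hζ'1
  have h2 := (hδ ζ' x' hζ'x' hne).1
  by_cases hξζ : ξ = ζ'
  · exact hζ'2 (hξζ ▸ hξW)
  · have h3 := (hδ ξ ζ' h1 hξζ).1
    omega

end single

section family

variable {X : Scheme.{u}}

theorem exists_cycle_finsum_divFun [IsLocallyNoetherian X] (δ : X → ℤ) (hδ : Cyc.IsDimFun X δ)
    {ι : Type*} (ξ : ι → X) (f : (i : ι) → X.residueField (ξ i)) (hf : ∀ i, f i ≠ 0)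
    (hlf : ∀ x : X, ∃ U : Set X, IsOpen U ∧ x ∈ U ∧ {i | (closure {ξ i} ∩ U).Nonempty}.Finite) :
    ∃ Γ : AlgebraicCycle X ℤ, ∀ x, Γ x = ∑ᶠ i, Cyc.divFun δ (ξ i) (f i) x := by
  refine ⟨⟨fun x => ∑ᶠ i, Cyc.divFun δ (ξ i) (f i) x, fun _ _ => Set.mem_univ _, fun z _ => ?_⟩,
    fun x => rfl⟩
  obtain ⟨U₁, hU₁o, hzU₁, hfin⟩ := hlf z
  obtain ⟨U₂, hU₂, hzU₂, -⟩ := exists_isAffineOpen_mem_and_subset (x := z) (U := ⊤) trivial
  refine ⟨U₁ ∩ U₂, (hU₁o.inter U₂.isOpen).mem_nhds ⟨hzU₁, hzU₂⟩, ?_⟩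
  have hbig : (⋃ i ∈ {i | (closure {ξ i} ∩ U₁).Nonempty},
      {x' : X | x' ∈ U₂ ∧ Cyc.divFun δ (ξ i) (f i) x' ≠ 0}).Finite :=
    hfin.biUnion fun i _ => finite_support_divFun_inter δ hδ (ξ i) (f i) (hf i) U₂ hU₂
  refine hbig.subset ?_
  rintro x' ⟨⟨hx'1, hx'2⟩, hx'⟩
  rw [Function.mem_support] at hx'
  obtain ⟨i, hi⟩ : ∃ i, Cyc.divFun δ (ξ i) (f i) x' ≠ 0 := by
    by_contra hcon
    push Not at hcon
    exact hx' (finsum_eq_zero_of_forall_eq_zero hcon)
  have hsp : ξ i ⤳ x' := by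
    by_contra hns
    apply hi
    simp only [Cyc.divFun]
    rw [dif_neg (fun h => hns h.1)]
  rw [Set.mem_iUnion₂]
  exact ⟨i, ⟨x', specializes_iff_mem_closure.mp hsp, hx'1⟩, hx'2, hi⟩

theorem finite_support_family (δ : X → ℤ) {ι : Type*} (ξ : ι → X)
    (f : (i : ι) → X.residueField (ξ i))
    (hlf : ∀ x : X, ∃ U : Set X, IsOpen U ∧ x ∈ U ∧ {i | (closure {ξ i} ∩ U).Nonempty}.Finite)
    (x : X) : (Function.support fun i => Cyc.divFun δ (ξ i) (f i) x).Finite := by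
  obtain ⟨U, -, hxU, hfin⟩ := hlf x
  refine hfin.subset ?_
  intro i hi
  rw [Function.mem_support] at hi
  have hsp : ξ i ⤳ x := by
    by_contra hns
    apply hi
    simp only [Cyc.divFun]
    rw [dif_neg (fun h => hns h.1)]
  exact ⟨x, specializes_iff_mem_closure.mp hsp, hxU⟩

theorem finsum_divFun_eq_zero_of_delta_ne (δ : X → ℤ) (k : ℤ) {ι : Type*} (ξ : ι → X)
    (f : (i : ι) → X.residueField (ξ i)) (hξ : ∀ i, δ (ξ i) = k + 1) (x : X) (hx : δ x ≠ k) :
    ∑ᶠ i, Cyc.divFun δ (ξ i) (f i) x = 0 := by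
  apply finsum_eq_zero_of_forall_eq_zero
  intro j
  simp only [Cyc.divFun]
  rw [dif_neg]
  rintro ⟨-, h1⟩
  apply hx
  have h2 := hξ j
  omega

end family

section imm

variable {X D : Scheme.{u}} (i : D ⟶ X)

theorem ker_specMap_comap' (d e : D) (h : e ⤳ d) (h' : i e ⤳ i d) :
    RingHom.ker (Cyc.specMap (i d) (i e) h') =
      (RingHom.ker (Cyc.specMap d e h)).comap (i.stalkMap d).hom := by
  ext a
  rw [Ideal.mem_comap, RingHom.mem_ker, RingHom.mem_ker, ← specMap_compat i d e h h' a]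
  constructor
  · intro h0
    rw [h0, map_zero]
  · intro h0
    exact (i.residueFieldMap e).hom.injective (by rw [h0, map_zero])

theorem ordAt_of_surjective [IsLocallyNoetherian X] (d e : D) (h : e ⤳ d) (h' : i e ⤳ i d)
    (hs : Function.Surjective (i.stalkMap d).hom)
    (hdX : ringKrullDim (Cyc.LocQuot (i d) (i e) h') ≤ 1) (g : X.residueField (i e))
    (hg : g ≠ 0) :
    Cyc.ordAt d e h ((i.residueFieldMap e).hom g) = Cyc.ordAt (i d) (i e) h' g := by
  haveI := isFractionRing_locQuot d e h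
  haveI := isFractionRing_locQuot (i d) (i e) h'
  unfold Cyc.ordAt
  refine ordFrac_of_surjective (i.stalkMap d).hom hs _ _
    (ker_specMap_comap' i d e h h') hdX _ _ (i.residueFieldMap e).hom ?_ g hg
  intro a
  rw [algebraMap_locQuot_mk, algebraMap_locQuot_mk]
  exact specMap_compat i d e h h' a

theorem bijective_residueFieldMap_of_surjective (e : D)
    (hs : Function.Surjective (i.stalkMap e).hom) :
    Function.Bijective (i.residueFieldMap e).hom := by
  refine ⟨(i.residueFieldMap e).hom.injective, ?_⟩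
  intro z
  obtain ⟨b, rfl⟩ : ∃ b : D.presheaf.stalk e, D.residue e b = z := IsLocalRing.residue_surjective z
  obtain ⟨a, rfl⟩ := hs b
  refine ⟨X.residue (i e) a, ?_⟩
  exact ConcreteCategory.congr_hom (Scheme.residue_residueFieldMap i e) a

/-- principal divisors on `D` and on `X` agree at the points of `D`. -/
theorem divFun_of_inducing [IsLocallyNoetherian X] (hind : Topology.IsInducing ⇑i)
    (hs : ∀ d, Function.Surjective (i.stalkMap d).hom) (δ : X → ℤ) (hδ : Cyc.IsDimFun X δ)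
    (e d : D) (g : X.residueField (i e)) (hg : g ≠ 0) :
    Cyc.divFun (fun d => δ (i d)) e ((i.residueFieldMap e).hom g) d =
      Cyc.divFun δ (i e) g (i d) := by
  simp only [Cyc.divFun]
  by_cases hc : e ⤳ d ∧ δ (i d) + 1 = δ (i e)
  · have hc' : i e ⤳ i d ∧ δ (i d) + 1 = δ (i e) := ⟨hind.specializes_iff.mpr hc.1, hc.2⟩
    rw [dif_pos hc, dif_pos hc']
    exact ordAt_of_surjective i d e hc.1 hc'.1 (hs d)
      (ringKrullDim_locQuot_le_one δ hδ (i d) (i e) hc'.1 hc.2) g hg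
  · have hc' : ¬ (i e ⤳ i d ∧ δ (i d) + 1 = δ (i e)) := fun h =>
      hc ⟨hind.specializes_iff.mp h.1, h.2⟩
    rw [dif_neg hc, dif_neg hc']

end imm

section opens

variable {X : Scheme.{u}}

theorem locallyFinite_of_open [IsLocallyNoetherian X] (U : X.Opens) {ι : Type*} (η : ι → ↥U)
    (hlf : ∀ u : ↥U, ∃ N : Set ↥U, IsOpen N ∧ u ∈ N ∧
      {j | (closure {η j} ∩ N).Nonempty}.Finite) (x : X) :
    ∃ V : Set X, IsOpen V ∧ x ∈ V ∧ {j | (closure {U.ι (η j)} ∩ V).Nonempty}.Finite := by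
  obtain ⟨V, hV, hxV, -⟩ := exists_isAffineOpen_mem_and_subset (x := x) (U := ⊤) trivial
  refine ⟨V, V.isOpen, hxV, ?_⟩
  haveI : IsNoetherianRing Γ(X, V) := IsLocallyNoetherian.component_noetherian ⟨V, hV⟩
  haveI : NoetherianSpace ↥(V : Set X) := noetherianSpace_of_isAffineOpen V hV
  have hK' : IsCompact ((V : Set X) ∩ U) := by
    have h1 : IsCompact {v : ↥(V : Set X) | (v : X) ∈ U} := NoetherianSpace.isCompact _
    have h2 := h1.image continuous_subtype_val
    convert h2 using 1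
    ext y
    constructor
    · rintro ⟨hyV, hyU⟩
      exact ⟨⟨y, hyV⟩, hyU, rfl⟩
    · rintro ⟨v, hv, rfl⟩
      exact ⟨v.2, hv⟩
  have hK : IsCompact ((U.ι : ↥U → X) ⁻¹' ((V : Set X) ∩ U)) :=
    (U.ι.isOpenEmbedding.isInducing.isCompact_preimage_iff
      (by rw [Scheme.Opens.range_ι]; exact Set.inter_subset_right)).mpr hK'
  choose N hNo hNu hNfin using hlf
  obtain ⟨t, -, ht⟩ := hK.elim_nhds_subcover N (fun u _ => (hNo u).mem_nhds (hNu u))
  have hbig : (⋃ u ∈ (t : Set (↑U : Scheme.{u})), {j | (closure {η j} ∩ N u).Nonempty}).Finite :=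
    t.finite_toSet.biUnion fun u _ => hNfin u
  refine hbig.subset ?_
  rintro j ⟨z, hz1, hz2⟩
  have hsp : U.ι (η j) ⤳ z := specializes_iff_mem_closure.mpr hz1
  have hξV : U.ι (η j) ∈ V := hsp.mem_open V.isOpen hz2
  have hmem : η j ∈ (U.ι : ↥U → X) ⁻¹' ((V : Set X) ∩ U) := ⟨hξV, (η j).2⟩
  obtain ⟨u, hut, hu⟩ := Set.mem_iUnion₂.mp (ht hmem)
  rw [Set.mem_iUnion₂]
  exact ⟨u, Finset.mem_coe.mpr hut, η j, subset_closure rfl, hu⟩

/-- Exactness of `CH_k(X ∖ U) → CH_k(X) → CH_k(U)` in the middle. -/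
theorem exists_supported_on_complement (X : Scheme.{u}) (δ : X → ℤ) (hX : Cyc.IsSetup X δ)
    (U : X.Opens) (k : ℤ) (α β : AlgebraicCycle X ℤ) (hα : α ∈ Cyc.Zk X δ k)
    (hβ : β ∈ Cyc.Zk X δ k) (αU βU : AlgebraicCycle (↑U : Scheme.{u}) ℤ)
    (hαU : ∀ u : ↥U, αU u = α (U.ι u)) (hβU : ∀ u : ↥U, βU u = β (U.ι u))
    (h : Cyc.RatEquiv (fun u : ↥U => δ (U.ι u)) k αU βU) :
    ∃ γ : AlgebraicCycle X ℤ, γ ∈ Cyc.Zk X δ k ∧ (∀ x : X, x ∈ U → γ x = 0) ∧
      Cyc.RatEquiv δ k α (β + γ) := by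
  classical
  haveI : IsLocallyNoetherian X := hX.1
  obtain ⟨ι, η, g, hη, hg, hlf, hsum⟩ := h
  have hsurj : ∀ u : ↥U, Function.Surjective (U.ι.stalkMap u).hom := fun u =>
    (ConcreteCategory.bijective_of_isIso (U.ι.stalkMap u)).2
  have hind : Topology.IsInducing ⇑U.ι := U.ι.isOpenEmbedding.isInducing
  choose f hf using fun j =>
    (bijective_residueFieldMap_of_surjective U.ι (η j) (hsurj (η j))).2 (g j)
  have hf0 : ∀ j, f j ≠ 0 := by
    intro j h0
    apply hg j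
    rw [← hf j, h0, map_zero]
  have hηk : ∀ j, δ (U.ι (η j)) = k + 1 := hη
  have hlfX := locallyFinite_of_open U η hlf
  obtain ⟨Γ, hΓ⟩ := exists_cycle_finsum_divFun δ hX.2.2 (fun j => U.ι (η j)) f hf0 hlfX
  have hΓk : ∀ x, δ x ≠ k → Γ x = 0 := by
    intro x hx
    rw [hΓ x]
    exact finsum_divFun_eq_zero_of_delta_ne δ k (fun j => U.ι (η j)) f hηk x hx
  refine ⟨α - β - Γ, ?_, ?_, ?_⟩
  · intro x hx
    rw [Function.locallyFinsuppWithin.coe_sub, Pi.sub_apply,
      Function.locallyFinsuppWithin.coe_sub, Pi.sub_apply, hα x hx, hβ x hx, hΓk x hx]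
    ring
  · intro x hxU
    have hx : U.ι ⟨x, hxU⟩ = x := rfl
    have h1 := hsum ⟨x, hxU⟩
    rw [Function.locallyFinsuppWithin.coe_sub, Pi.sub_apply, hαU, hβU, hx] at h1
    rw [Function.locallyFinsuppWithin.coe_sub, Pi.sub_apply,
      Function.locallyFinsuppWithin.coe_sub, Pi.sub_apply, h1, hΓ x, sub_eq_zero]
    refine finsum_congr fun j => ?_
    rw [← hf j]
    exact divFun_of_inducing U.ι hind hsurj δ hX.2.2 (η j) ⟨x, hxU⟩ (f j) (hf0 j)
  · refine ⟨ι, fun j => U.ι (η j), f, hηk, hf0, hlfX, ?_⟩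
    intro x
    rw [← hΓ x, Function.locallyFinsuppWithin.coe_sub, Pi.sub_apply,
      Function.locallyFinsuppWithin.coe_add, Pi.add_apply,
      Function.locallyFinsuppWithin.coe_sub, Pi.sub_apply,
      Function.locallyFinsuppWithin.coe_sub, Pi.sub_apply]
    ring

end opens

end Groth.Agent.Lib.Helper2.CycFamily
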