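import Mathlib
import Groth.Prelude.Def_RegImm
import Groth.Agent.Lib.Helper5ImmBC
import Groth.Agent.Lib.Helper5StalkSpec

/-!
# Stalk form of a regular immersion (helper5)

For any morphism `i : Z ⟶ X` and affine open `U ⊆ X` over which `i` restricts to a closed immersion,
the kernel of the stalk map at `z` (with `i z ∈ U`) is the extension of the kernel of `i.app U`.
Consequently a regular immersion has stalk kernels generated by regular sequences.
-/

set_option autoImplicit false
set_option linter.style.haveILetI false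
universe u

open AlgebraicGeometry CategoryTheory CategoryTheory.Limits TopologicalSpace
open RingTheory.Sequence

namespace Groth.Agent.Lib.Helper5.ImmStalk

open Groth.Agent.Lib.Helper5.ImmBC

theorem ker_stalkMap_eq_map_ker {Z X : Scheme.{u}} (i : Z ⟶ X) (z : Z) {U : X.Opens}
    (hU : IsAffineOpen U) (hz : i z ∈ U) [IsClosedImmersion (i ∣_ U)] :
    RingHom.ker (i.stalkMap z).hom =
      (RingHom.ker (i.app U).hom).map (X.presheaf.germ U (i z) hz).hom := by
  have hU' : IsAffineOpen (i ⁻¹ᵁ U) := isAffineOpen_preimage_of_isClosedImmersion_restrict i hU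
  have hsq : ∀ a, (Z.presheaf.germ (i ⁻¹ᵁ U) z hz).hom ((i.app U).hom a)
      = (i.stalkMap z).hom ((X.presheaf.germ U (i z) hz).hom a) := fun a =>
    (i.germ_stalkMap_apply U z hz a).symm
  exact Groth.Agent.Lib.Helper5.StalkSpec.ker_eq_map_of_isLocalization
    (X.presheaf.germ U (i z) hz).hom (Z.presheaf.germ (i ⁻¹ᵁ U) z hz).hom (i.app U).hom
    (i.stalkMap z).hom hsq (app_surjective_of_isClosedImmersion_restrict i hU) _
    (hU.isLocalization_stalk ⟨i z, hz⟩) _ (hU'.isLocalization_stalk ⟨z, hz⟩)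

theorem exists_regular_ker_stalkMap {Z X : Scheme.{u}} (i : Z ⟶ X) (z : Z)
    (h : RegImm.IsRegularImmersionAt .regular i z) :
    ∃ rs : List (X.presheaf.stalk (i z)),
      RingTheory.Sequence.IsRegular (X.presheaf.stalk (i z)) rs ∧
        RingHom.ker (i.stalkMap z).hom = Ideal.ofList rs := by
  obtain ⟨⟨U, hU⟩, hz, hcl, rs, hreg, hker⟩ := h
  simp only at hz hcl hker
  haveI := hcl
  have hreg' : RingTheory.Sequence.IsRegular Γ(X, U) rs := hreg
  letI := (X.presheaf.germ U (i z) hz).hom.toAlgebra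
  haveI : IsLocalization.AtPrime (X.presheaf.stalk (i z)) (hU.primeIdealOf ⟨i z, hz⟩).asIdeal :=
    hU.isLocalization_stalk ⟨i z, hz⟩
  haveI : Module.Flat Γ(X, U) (X.presheaf.stalk (i z)) :=
    IsLocalization.flat _ (hU.primeIdealOf ⟨i z, hz⟩).asIdeal.primeCompl
  have hw : IsWeaklyRegular (X.presheaf.stalk (i z))
      (rs.map (X.presheaf.germ U (i z) hz).hom) := hreg'.toIsWeaklyRegular.of_flat
  have hk : RingHom.ker (i.stalkMap z).hom
      = Ideal.ofList (rs.map (X.presheaf.germ U (i z) hz).hom) := by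
    rw [ker_stalkMap_eq_map_ker i z hU hz, hker, Ideal.map_ofList]
  refine ⟨_, ⟨hw, ?_⟩, hk⟩
  rw [smul_eq_mul, Ideal.mul_top, ← hk]
  exact (RingHom.ker_ne_top _).symm

end Groth.Agent.Lib.Helper5.ImmStalk
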