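import Mathlib
import Groth.Prelude.Def_C1
import Groth.Prelude.Def_Pic
import Groth.Agent.Lib.Helper5ImmBC
import Groth.Agent.Lib.Helper5ImmStalk
import Groth.Agent.Lib.Helper2CycC1Pull
import Groth.Agent.Lib.Helper2CycRelCartier
import Groth.Agent.Lib.Helper2CycFamily

/-!
# Gysin maps commute with flat pullback (helper2)

* `exists_unit_mul_of_span_eq`: generators of the same principal ideal of a local ring differ by a
  unit.
* `ker_stalkMap_of_isPullback`: the ideal of a base-changed closed immersion at a stalk.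
* `map_germ_ker_app_eq_span`: the ideal of a zero scheme `Z(s)` at a stalk, in terms of any local
  equation of `s`.
* `exists_unit_germ_eq`: a section `s'` of `f^*L` whose zero scheme is `f⁻¹ Z(s)` differs from
  `f^*s` by a unit at every point of `f⁻¹ Z(s)`.
-/

set_option autoImplicit false
set_option linter.style.haveILetI false

universe u

open AlgebraicGeometry CategoryTheory CategoryTheory.Limits IsLocalRing

namespace Groth.Agent.Lib.Helper2.CycGysinPull

open Groth.Agent.Lib.Helper2.CycOrd Groth.Agent.Lib.Helper2.CycOrdSum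
  Groth.Agent.Lib.Helper2.CycSecDiv Groth.Agent.Lib.Helper2.CycC1
  Groth.Agent.Lib.Helper2.CycC1Pull Groth.Agent.Lib.Helper2.CycClosedImm
  Groth.Agent.Lib.Helper2.CycRelCartier Groth.Agent.Lib.Helper2.CycFamily
  Groth.Agent.Lib.Helper20.InvGen Groth.Agent.Helper13PullbackUnit
  Groth.Agent.Lib.Helper26.StalkBC Groth.Agent.Lib.Helper24PullFunComp

section alg

theorem exists_unit_mul_of_span_eq {R : Type*} [CommRing R] [IsLocalRing R] (x y : R)
    (h : Ideal.span {x} = Ideal.span {y}) : ∃ u : R, IsUnit u ∧ x = u * y := by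
  have hx : x ∈ Ideal.span {y} := h ▸ Ideal.mem_span_singleton_self x
  have hy : y ∈ Ideal.span {x} := h.symm ▸ Ideal.mem_span_singleton_self y
  obtain ⟨r, hr⟩ := Ideal.mem_span_singleton'.mp hx
  obtain ⟨r', hr'⟩ := Ideal.mem_span_singleton'.mp hy
  by_cases hu : IsUnit r
  · exact ⟨r, hu, hr.symm⟩
  · have hm : r * r' ∈ nonunits R := by
      rw [← IsLocalRing.mem_maximalIdeal]
      exact Ideal.mul_mem_right _ _ ((IsLocalRing.mem_maximalIdeal r).mpr hu)
    have h1 : IsUnit (1 - r * r') := IsLocalRing.isUnit_one_sub_self_of_mem_nonunits _ hm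
    have h2 : x * (1 - r * r') = 0 := by
      have h3 : x = r * r' * x := by
        conv_lhs => rw [← hr, ← hr']
        ring
      calc x * (1 - r * r') = x - r * r' * x := by ring
        _ = 0 := by rw [← h3, sub_self]
    have hx0 : x = 0 := (h1.mul_left_eq_zero).mp h2
    have hy0 : y = 0 := by rw [← hr', hx0, mul_zero]
    exact ⟨1, isUnit_one, by rw [hx0, hy0, mul_zero]⟩

end alg

section scheme

theorem ker_stalkMap_of_isPullback {Z X Z' X' : Scheme.{u}} {i : Z ⟶ X} {p : X' ⟶ X}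
    {i' : Z' ⟶ X'} {pZ : Z' ⟶ Z} (H : IsPullback pZ i' i p) [IsClosedImmersion i] (z' : Z')
    {U : X.Opens} (hU : IsAffineOpen U) (hx : p (i' z') ∈ U) :
    RingHom.ker (i'.stalkMap z').hom =
      ((RingHom.ker (i.app U).hom).map (X.presheaf.germ U (p (i' z')) hx).hom).map
        (p.stalkMap (i' z')).hom := by
  have hx' : i' z' ∈ p ⁻¹ᵁ U := hx
  obtain ⟨_, ⟨U' : X'.Opens, hU', rfl⟩, hx'U', hle⟩ :=
    X'.isBasis_affineOpens.exists_subset_of_mem_open hx' (p ⁻¹ᵁ U).2
  haveI hclU : IsClosedImmersion (i ∣_ U) :=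
    IsZariskiLocalAtTarget.restrict (P := @IsClosedImmersion) inferInstance U
  obtain ⟨hcl', hker'⟩ := Groth.Agent.Lib.Helper5.ImmBC.restrict_baseChange H hU hU' hle
  haveI := hcl'
  rw [Groth.Agent.Lib.Helper5.ImmStalk.ker_stalkMap_eq_map_ker i' z' hU' hx'U', hker',
    Ideal.map_map, Ideal.map_map]
  congr 1
  ext a
  simp only [RingHom.comp_apply]
  have e3 : (p.appLE U U' hle).hom a =
      X'.presheaf.map (homOfLE hle).op ((p.app U) a) := by
    rw [Scheme.Hom.appLE]
    rfl
  rw [e3]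
  have e4 : (X'.presheaf.germ U' (i' z') hx'U').hom
      (X'.presheaf.map (homOfLE hle).op ((p.app U) a)) =
      X'.presheaf.germ (p ⁻¹ᵁ U) (i' z') hx' ((p.app U) a) :=
    TopCat.Presheaf.germ_res_apply X'.presheaf (homOfLE hle) _ hx'U' _
  rw [e4]
  exact (p.germ_stalkMap_apply U (i' z') hx a).symm

theorem map_germ_ker_app_eq_span {X D : Scheme.{u}} (i : D ⟶ X) [IsClosedImmersion i]
    (L : X.Modules) (hL : PicF.IsInvertible L) (s : L.presheaf.obj (Opposite.op ⊤))
    (hD : Cyc.IsZeroSchemeOf i L s) (x : X) (d : D) (e : i d = x) (t : L.presheaf.stalk x)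
    (a : X.presheaf.stalk x) (ht : Submodule.span (X.presheaf.stalk x) {t} = ⊤)
    (hs : (L.presheaf.germ ⊤ x trivial) s = a • t) {U : X.Opens} (hU : IsAffineOpen U)
    (hx : x ∈ U) :
    (RingHom.ker (i.app U).hom).map (X.presheaf.germ U x hx).hom = Ideal.span {a} := by
  subst e
  haveI hclU : IsClosedImmersion (i ∣_ U) :=
    IsZariskiLocalAtTarget.restrict (P := @IsClosedImmersion) inferInstance U
  rw [← Groth.Agent.Lib.Helper5.ImmStalk.ker_stalkMap_eq_map_ker i d hU hx]
  obtain ⟨t₀, f₀, ht₀, hs₀, hker⟩ := hD.2 d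
  rw [hker]
  obtain ⟨hbij₀, -⟩ := generator_facts L hL (i d) t₀ ht₀
  obtain ⟨hbij, -⟩ := generator_facts L hL (i d) t ht
  obtain ⟨v, hv⟩ := hbij₀.2 t
  obtain ⟨v', hv'⟩ := hbij.2 t₀
  have hv1 : v • t₀ = t := hv
  have hv2 : v' • t = t₀ := hv'
  have hvv' : v' * v = 1 := by
    apply hbij₀.1
    change (v' * v) • t₀ = (1 : X.presheaf.stalk (i d)) • t₀
    rw [mul_smul, hv1, hv2, one_smul]
  have hvu : IsUnit v := IsUnit.of_mul_eq_one_right v' hvv'
  have hf₀ : f₀ = a * v := by
    apply hbij₀.1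
    change f₀ • t₀ = (a * v) • t₀
    rw [mul_smul, hv1, ← hs₀, hs]
  rw [hf₀]
  exact Ideal.span_singleton_mul_right_unit hvu a

theorem pullback_condition_apply {X X' D : Scheme.{u}} (f : X' ⟶ X) (i : D ⟶ X)
    (z : ↥(pullback f i)) : f (pullback.fst f i z) = i (pullback.snd f i z) := by
  have h0 := congrArg (fun m : pullback f i ⟶ X => (m : _ → _) z)
    (pullback.condition (f := f) (g := i))
  exact h0

/-- a section `s'` of `f^*L` with zero scheme `f⁻¹ Z(s)` is a unit multiple of `f^*s` at every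
point of `f⁻¹ Z(s)`. -/
theorem exists_unit_germ_eq {X X' D : Scheme.{u}} (f : X' ⟶ X) (L : X.Modules)
    (hL : PicF.IsInvertible L) (s : L.presheaf.obj (Opposite.op ⊤)) (i : D ⟶ X)
    [IsClosedImmersion i] (hD : Cyc.IsZeroSchemeOf i L s)
    (s' : ((Scheme.Modules.pullback f).obj L).presheaf.obj (Opposite.op ⊤))
    (hD' : Cyc.IsZeroSchemeOf (pullback.fst f i) ((Scheme.Modules.pullback f).obj L) s')
    (z : ↥(pullback f i)) :
    ∃ u : X'.presheaf.stalk (pullback.fst f i z), IsUnit u ∧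
      (((Scheme.Modules.pullback f).obj L).presheaf.germ ⊤ (pullback.fst f i z) trivial) s' =
        u • stalkUnit f L (pullback.fst f i z)
          ((L.presheaf.germ ⊤ (f (pullback.fst f i z)) trivial) s) := by
  classical
  haveI : L.IsQuasicoherent :=
    Groth.Agent.Lib.Helper23.SecTw.isQuasicoherent_of_isInvertible L hL
  have hcond := pullback_condition_apply f i z
  obtain ⟨W, t, hxW, hW⟩ := exists_local_generator L hL (f (pullback.fst f i z))
  have htx := hW (f (pullback.fst f i z)) hxW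
  obtain ⟨a, ha⟩ := htx.2 ((L.presheaf.germ ⊤ (f (pullback.fst f i z)) trivial) s)
  have ha' : a • L.presheaf.germ W (f (pullback.fst f i z)) hxW t =
      (L.presheaf.germ ⊤ (f (pullback.fst f i z)) trivial) s := ha
  have hspan : Submodule.span (X.presheaf.stalk (f (pullback.fst f i z)))
      {L.presheaf.germ W (f (pullback.fst f i z)) hxW t} = ⊤ := by
    rw [eq_top_iff]
    intro y _
    obtain ⟨c, hc⟩ := htx.2 y
    rw [Submodule.mem_span_singleton]
    exact ⟨c, hc⟩
  obtain ⟨_, ⟨U : X.Opens, hU, rfl⟩, hxU, -⟩ :=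
    X.isBasis_affineOpens.exists_subset_of_mem_open
      (Set.mem_univ (f (pullback.fst f i z))) isOpen_univ
  have hZ1 := map_germ_ker_app_eq_span i L hL s hD (f (pullback.fst f i z))
    (pullback.snd f i z) hcond.symm _ a hspan ha'.symm hU hxU
  have H : IsPullback (pullback.snd f i) (pullback.fst f i) i f :=
    (IsPullback.of_hasPullback f i).flip
  have hZ2 := ker_stalkMap_of_isPullback H z hU hxU
  rw [hZ1, Ideal.map_span, Set.image_singleton] at hZ2
  obtain ⟨t', f', ht', hs', hker'⟩ := hD'.2 z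
  have hfree := bijective_smul_germ_unitSec f L W t (pullback.fst f i z) hxW htx
  obtain ⟨v, hv⟩ := hfree.2 t'
  have hv1 : v • ((Scheme.Modules.pullback f).obj L).presheaf.germ (f ⁻¹ᵁ W) (pullback.fst f i z)
      hxW (unitSec f L (le_refl (f ⁻¹ᵁ W)) t) = t' := hv
  have hmem : ((Scheme.Modules.pullback f).obj L).presheaf.germ (f ⁻¹ᵁ W) (pullback.fst f i z)
      hxW (unitSec f L (le_refl (f ⁻¹ᵁ W)) t) ∈
      Submodule.span (X'.presheaf.stalk (pullback.fst f i z)) {t'} := by
    rw [ht']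
    trivial
  obtain ⟨v', hv'⟩ := Submodule.mem_span_singleton.1 hmem
  have hvv' : v' * v = 1 := by
    apply hfree.1
    change (v' * v) • _ = (1 : X'.presheaf.stalk (pullback.fst f i z)) • _
    rw [mul_smul, hv1, hv', one_smul]
  have hvu : IsUnit v := IsUnit.of_mul_eq_one_right v' hvv'
  have hspan' : Ideal.span {f'} =
      Ideal.span {(f.stalkMap (pullback.fst f i z)).hom a} := by
    rw [← hker', hZ2]
  obtain ⟨u₀, hu₀, hf'⟩ := exists_unit_mul_of_span_eq _ _ hspan'
  refine ⟨u₀ * v, hu₀.mul hvu, ?_⟩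
  rw [hs', hf', ← hv1, ← ha', stalkUnit_smul,
    stalkUnit_germ f L (pullback.fst f i z) (le_refl (f ⁻¹ᵁ W)) hxW hxW t, smul_smul, smul_smul]
  congr 1
  ring

set_option maxHeartbeats 1600000 in
/-- **flat pullback commutes with `c_1(L) ∩ -`** exactly, when the sections upstairs are the
pullbacks of the sections downstairs. -/
theorem pullFun_c1CapFun_eq (X X' : Scheme.{u}) (δ : X → ℤ) (δ' : X' → ℤ)
    (hX : Cyc.IsSetup X δ) (hX' : Cyc.IsSetup X' δ') (p : X' ⟶ X) [Flat p] (c : ℤ)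
    (hc : ∀ x' : X', IsGen p x' → δ' x' = δ (p x') + c) (L : X.Modules)
    (hL : PicF.IsInvertible L) (α : AlgebraicCycle X ℤ)
    (l : (ξ : X) → L.presheaf.stalk ξ)
    (hl0 : ∀ ξ, (Submodule.Quotient.mk (l ξ) : Cyc.secFibre L ξ) ≠ 0) :
    Cyc.pullFun p δ' δ c (Cyc.c1CapFun δ L ⇑α (fun ξ => Submodule.Quotient.mk (l ξ))) =
      Cyc.c1CapFun δ' ((Scheme.Modules.pullback p).obj L) (Cyc.pullFun p δ' δ c ⇑α)
        (pullSec p L l) := by
  classical
  haveI : IsLocallyNoetherian X := hX.1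
  haveI : IsLocallyNoetherian X' := hX'.1
  obtain ⟨α', hα'⟩ := exists_cycle_pullFun δ δ' hX' p c hc α
  have hα'gen : ∀ ζ, IsGen p ζ → α' ζ = α (p ζ) *
      ((Module.length (X'.presheaf.stalk ζ) (X'.presheaf.stalk ζ ⧸
        Ideal.map (p.stalkMap ζ).hom (maximalIdeal (X.presheaf.stalk (p ζ))))).toNat : ℤ) := by
    intro ζ hζ
    rw [hα']
    simp only [Cyc.pullFun]
    rw [if_pos (hc ζ hζ)]
  have hα'ngen : ∀ ζ, ¬ IsGen p ζ → α' ζ = 0 := by
    intro ζ hζ
    rw [hα']
    simp only [Cyc.pullFun]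
    rw [if_neg]
    intro h
    exact hζ (isGen_of_delta_eq p δ δ' hX'.2.2 c hc ζ h)
  have hinj : Function.Injective
      (fun j : Σ ξ : X, {ζ : X' // p ζ = ξ ∧ IsGen p ζ} => j.2.1) := by
    rintro ⟨ξ, ζ, h1, h2⟩ ⟨ξ', ζ', h1', h2'⟩ h
    simp only at h
    subst h
    subst h1
    subst h1'
    rfl
  rw [← hα']
  funext x'
  obtain ⟨g, hg, hA, hB, -⟩ := local_data p L hL l hl0 x'
  have hL1 : Cyc.pullFun p δ' δ c (Cyc.c1CapFun δ L ⇑α
      (fun ξ => Submodule.Quotient.mk (l ξ))) x' =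
      ∑ᶠ ξ, α ξ * Cyc.pullFun p δ' δ c (Cyc.divFun δ ξ (g ξ)) x' := by
    have hval : Cyc.c1CapFun δ L ⇑α (fun ξ => Submodule.Quotient.mk (l ξ)) (p x') =
        ∑ᶠ ξ, α ξ * Cyc.divFun δ ξ (g ξ) (p x') := by
      simp only [Cyc.c1CapFun]
      refine finsum_congr fun ξ => ?_
      congr 1
      simp only [Cyc.secDivFun, Cyc.divFun]
      by_cases hcnd : ξ ⤳ p x' ∧ δ (p x') + 1 = δ ξ
      · rw [dif_pos hcnd, dif_pos hcnd]
        exact hA ξ hcnd.1
      · rw [dif_neg hcnd, dif_neg hcnd]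
    simp only [Cyc.pullFun]
    by_cases hcond : δ' x' = δ (p x') + c
    · simp only [if_pos hcond]
      rw [hval, finsum_mul]
      refine finsum_congr fun ξ => ?_
      ring
    · simp only [if_neg hcond]
      simp
  rw [hL1]
  have hB1 : ∀ ξ, Cyc.pullFun p δ' δ c (Cyc.divFun δ ξ (g ξ)) x' =
      ∑ᶠ ζ : {ζ : X' // p ζ = ξ ∧ IsGen p ζ},
        ((Module.length (X'.presheaf.stalk ζ.1) (X'.presheaf.stalk ζ.1 ⧸
          Ideal.map (p.stalkMap ζ.1).hom
            (maximalIdeal (X.presheaf.stalk (p ζ.1))))).toNat : ℤ) *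
          Cyc.divFun δ' ζ.1 ((p.residueFieldMap ζ.1).hom (g (p ζ.1))) x' := by
    intro ξ
    rw [Groth.Agent.Lib.Helper2.CycOrdGen.pullFun_divFun_gen X X' δ δ' hX hX' p c hc ξ (g ξ)
      (hg ξ) x']
    refine finsum_congr fun ζ => ?_
    obtain ⟨ζ, h1, h2⟩ := ζ
    subst h1
    rfl
  have hR : Cyc.c1CapFun δ' ((Scheme.Modules.pullback p).obj L) ⇑α' (pullSec p L l) x' =
      ∑ᶠ ζ, Hfun p δ' ⇑α' x' g ζ := by
    simp only [Cyc.c1CapFun]
    refine finsum_congr fun ζ => ?_
    rw [Hfun_apply]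
    congr 1
    simp only [Cyc.secDivFun, Cyc.divFun]
    by_cases hcnd : ζ ⤳ x' ∧ δ' x' + 1 = δ' ζ
    · rw [dif_pos hcnd, dif_pos hcnd]
      exact hB ζ hcnd.1
    · rw [dif_neg hcnd, dif_neg hcnd]
  rw [hR]
  have hTH : ∀ j, Tfun p δ' ⇑α x' g j = Hfun p δ' ⇑α' x' g j.2.1 := by
    rintro ⟨ξ, ζ, h1, h2⟩
    subst h1
    rw [Tfun_apply p δ' ⇑α x' g ζ h2, Hfun_apply, hα'gen ζ h2]
    ring
  have hfinT : (Function.support (Tfun p δ' ⇑α x' g)).Finite := by
    have hfin := Bivar.finite_support_specializes α' x'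
    refine (hfin.preimage hinj.injOn).subset ?_
    intro j hj
    rw [Function.mem_support, hTH j, Hfun_apply] at hj
    refine ⟨?_, left_ne_zero_of_mul hj⟩
    by_contra hns
    apply right_ne_zero_of_mul hj
    simp only [Cyc.divFun]
    rw [dif_neg (fun h => hns h.1)]
  calc ∑ᶠ ξ, α ξ * Cyc.pullFun p δ' δ c (Cyc.divFun δ ξ (g ξ)) x'
      = ∑ᶠ ξ, ∑ᶠ ζ : {ζ : X' // p ζ = ξ ∧ IsGen p ζ}, Tfun p δ' ⇑α x' g ⟨ξ, ζ⟩ := by
        refine finsum_congr fun ξ => ?_
        rw [hB1 ξ, mul_finsum]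
        refine finsum_congr fun ζ => ?_
        rw [Tfun_mk]
    _ = ∑ᶠ j, Tfun p δ' ⇑α x' g j :=
        (Groth.Agent.Lib.Helper2.CycRat.finsum_sigma_eq (Tfun p δ' ⇑α x' g) hfinT).symm
    _ = ∑ᶠ j, Hfun p δ' ⇑α' x' g
          ((fun j : Σ ξ : X, {ζ : X' // p ζ = ξ ∧ IsGen p ζ} => j.2.1) j) :=
        finsum_congr hTH
    _ = ∑ᶠ ζ ∈ Set.range
          (fun j : Σ ξ : X, {ζ : X' // p ζ = ξ ∧ IsGen p ζ} => j.2.1),
            Hfun p δ' ⇑α' x' g ζ :=
        (finsum_mem_range hinj).symm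
    _ = ∑ᶠ ζ, Hfun p δ' ⇑α' x' g ζ := by
        rw [← finsum_mem_univ (Hfun p δ' ⇑α' x' g)]
        apply finsum_mem_inter_support_eq'
        intro ζ hζ
        have hgen : IsGen p ζ := by
          by_contra hn
          rw [Function.mem_support, Hfun_apply] at hζ
          apply hζ
          rw [hα'ngen ζ hn, zero_mul]
        constructor
        · intro _
          exact Set.mem_univ _
        · intro _
          exact ⟨⟨p ζ, ζ, rfl, hgen⟩, rfl⟩

set_option maxHeartbeats 1600000 in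
/-- the fibre multiplicities of `D' = X' ×_X D → D` and of `X' → X` agree at the points of `D'`. -/
theorem length_fibre_snd_eq {X X' D : Scheme.{u}} (f : X' ⟶ X) (L : X.Modules)
    (hL : PicF.IsInvertible L) (s : L.presheaf.obj (Opposite.op ⊤)) (i : D ⟶ X)
    [IsClosedImmersion i] (hD : Cyc.IsZeroSchemeOf i L s) (z : ↥(pullback f i)) :
    Module.length ((pullback f i).presheaf.stalk z) ((pullback f i).presheaf.stalk z ⧸
        Ideal.map ((pullback.snd f i).stalkMap z).hom
          (maximalIdeal (D.presheaf.stalk (pullback.snd f i z)))) =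
      Module.length (X'.presheaf.stalk (pullback.fst f i z))
        (X'.presheaf.stalk (pullback.fst f i z) ⧸
          Ideal.map (f.stalkMap (pullback.fst f i z)).hom
            (maximalIdeal (X.presheaf.stalk (f (pullback.fst f i z))))) := by
  classical
  have hcond := pullback_condition_apply f i z
  obtain ⟨W, t, hxW, hW⟩ := exists_local_generator L hL (f (pullback.fst f i z))
  have htx := hW (f (pullback.fst f i z)) hxW
  obtain ⟨a, ha⟩ := htx.2 ((L.presheaf.germ ⊤ (f (pullback.fst f i z)) trivial) s)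
  have ha' : a • L.presheaf.germ W (f (pullback.fst f i z)) hxW t =
      (L.presheaf.germ ⊤ (f (pullback.fst f i z)) trivial) s := ha
  have hspan : Submodule.span (X.presheaf.stalk (f (pullback.fst f i z)))
      {L.presheaf.germ W (f (pullback.fst f i z)) hxW t} = ⊤ := by
    rw [eq_top_iff]
    intro y _
    obtain ⟨c, hc⟩ := htx.2 y
    rw [Submodule.mem_span_singleton]
    exact ⟨c, hc⟩
  obtain ⟨_, ⟨U : X.Opens, hU, rfl⟩, hxU, -⟩ :=
    X.isBasis_affineOpens.exists_subset_of_mem_open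
      (Set.mem_univ (f (pullback.fst f i z))) isOpen_univ
  have hZ1 := map_germ_ker_app_eq_span i L hL s hD (f (pullback.fst f i z))
    (pullback.snd f i z) hcond.symm _ a hspan ha'.symm hU hxU
  have H : IsPullback (pullback.snd f i) (pullback.fst f i) i f :=
    (IsPullback.of_hasPullback f i).flip
  have hZ2 := ker_stalkMap_of_isPullback H z hU hxU
  rw [hZ1, Ideal.map_span, Set.image_singleton] at hZ2
  have ham : a ∈ maximalIdeal (X.presheaf.stalk (f (pullback.fst f i z))) := by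
    by_contra hna
    have hau : IsUnit a := by
      rwa [IsLocalRing.mem_maximalIdeal, mem_nonunits_iff, not_not] at hna
    have hmem : f (pullback.fst f i z) ∈ Set.range ⇑i := ⟨pullback.snd f i z, hcond.symm⟩
    rw [hD.1] at hmem
    have h0 : (Submodule.Quotient.mk ((L.presheaf.germ ⊤ (f (pullback.fst f i z)) trivial) s) :
        Cyc.secFibre L (f (pullback.fst f i z))) = 0 := hmem
    rw [← ha'] at h0
    exact Groth.Agent.Lib.Helper2.CycC1Unit.mk_ne_zero_of_bijective L _ _
      (bijective_smul_unit _ htx a hau) h0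
  have hle : RingHom.ker ((pullback.fst f i).stalkMap z).hom ≤
      Ideal.map (f.stalkMap (pullback.fst f i z)).hom
        (maximalIdeal (X.presheaf.stalk (f (pullback.fst f i z)))) := by
    rw [hZ2, Ideal.span_singleton_le_iff_mem]
    exact Ideal.mem_map_of_mem _ ham
  -- compatibility of the stalk maps
  have h1 := Scheme.Hom.stalkMap_comp (pullback.fst f i) f z
  have h2 := Scheme.Hom.stalkMap_comp (pullback.snd f i) i z
  have h3 := Scheme.Hom.stalkMap_congr_hom _ _ (pullback.condition (f := f) (g := i)) z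
  rw [h1, h2] at h3
  have hΨ : Function.Surjective ((i.stalkMap (pullback.snd f i z)).hom.comp
      (X.presheaf.stalkCongr (.of_eq hcond)).hom.hom) :=
    (i.stalkMap_surjective (pullback.snd f i z)).comp
      (ConcreteCategory.bijective_of_isIso (X.presheaf.stalkCongr (.of_eq hcond)).hom).2
  have hmC := IsLocalRing.map_maximalIdeal_of_surjective _ hΨ
  have hcomp : ((pullback.snd f i).stalkMap z).hom.comp
      ((i.stalkMap (pullback.snd f i z)).hom.comp
        (X.presheaf.stalkCongr (.of_eq hcond)).hom.hom) =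
      ((pullback.fst f i).stalkMap z).hom.comp (f.stalkMap (pullback.fst f i z)).hom := by
    ext b
    exact (ConcreteCategory.congr_hom h3 b).symm
  rw [← hmC, Ideal.map_map, hcomp, ← Ideal.map_map,
    length_quotient_map_of_surjective ((pullback.fst f i).stalkMap z).hom
      ((pullback.fst f i).stalkMap_surjective z), sup_eq_left.mpr hle]

theorem pullFun_snd_eq {X X' D : Scheme.{u}} (f : X' ⟶ X) (L : X.Modules)
    (hL : PicF.IsInvertible L) (s : L.presheaf.obj (Opposite.op ⊤)) (i : D ⟶ X)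
    [IsClosedImmersion i] (hD : Cyc.IsZeroSchemeOf i L s) (δ : X → ℤ) (δ' : X' → ℤ) (r : ℤ)
    (Θ : X → ℤ) (z : ↥(pullback f i)) :
    Cyc.pullFun (pullback.snd f i) (fun z => δ' (pullback.fst f i z)) (fun d => δ (i d)) r
        (fun d => Θ (i d)) z =
      Cyc.pullFun f δ' δ r Θ (pullback.fst f i z) := by
  have hcond := pullback_condition_apply f i z
  simp only [Cyc.pullFun]
  rw [length_fibre_snd_eq f L hL s i hD z]
  by_cases h : δ' (pullback.fst f i z) = δ (f (pullback.fst f i z)) + r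
  · have h' : δ' (pullback.fst f i z) = δ (i (pullback.snd f i z)) + r := by
      rw [← hcond]
      exact h
    rw [if_pos h, if_pos h', congrArg Θ hcond]
  · have h' : ¬ δ' (pullback.fst f i z) = δ (i (pullback.snd f i z)) + r := by
      rw [← hcond]
      exact h
    rw [if_neg h, if_neg h']

end scheme

end Groth.Agent.Lib.Helper2.CycGysinPull
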