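import Mathlib
import Groth.Agent.Lib.Helper2CycGysinPull

/-!
# Gysin maps commute with flat pullback: the main theorem (helper2)
-/

set_option autoImplicit false
set_option linter.style.haveILetI false

universe u

open AlgebraicGeometry CategoryTheory CategoryTheory.Limits IsLocalRing

namespace Groth.Agent.Lib.Helper2.CycGysinPull

open Groth.Agent.Lib.Helper2.CycOrd Groth.Agent.Lib.Helper2.CycOrdSum
  Groth.Agent.Lib.Helper2.CycSecDiv Groth.Agent.Lib.Helper2.CycC1
  Groth.Agent.Lib.Helper2.CycC1Pull Groth.Agent.Lib.Helper2.CycClosedImm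
  Groth.Agent.Lib.Helper2.CycRelCartier Groth.Agent.Lib.Helper2.CycFamily
  Groth.Agent.Lib.Helper2.CycRelDim
  Groth.Agent.Lib.Helper20.InvGen Groth.Agent.Helper13PullbackUnit
  Groth.Agent.Lib.Helper26.StalkBC Groth.Agent.Lib.Helper24PullFunComp

theorem stalkSpecializes_stalkUnit_germ_top {X X' : Scheme.{u}} (f : X' ⟶ X) (L : X.Modules)
    (s : L.presheaf.obj (Opposite.op ⊤)) {x' ξ' : X'} (h : ξ' ⤳ x') :
    ((Scheme.Modules.pullback f).obj L).presheaf.stalkSpecializes h
        (stalkUnit f L x' ((L.presheaf.germ ⊤ (f x') trivial) s)) =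
      stalkUnit f L ξ' ((L.presheaf.germ ⊤ (f ξ') trivial) s) := by
  have hle : f ⁻¹ᵁ (⊤ : X.Opens) ≤ f ⁻¹ᵁ (⊤ : X.Opens) := le_rfl
  have hx' : x' ∈ f ⁻¹ᵁ (⊤ : X.Opens) := Set.mem_univ (f x')
  have hξ' : ξ' ∈ f ⁻¹ᵁ (⊤ : X.Opens) := Set.mem_univ (f ξ')
  rw [stalkUnit_germ f L x' hle hx' trivial s, stalkUnit_germ f L ξ' hle hξ' trivial s]
  exact ConcreteCategory.congr_hom
    (TopCat.Presheaf.germ_stalkSpecializes ((Scheme.Modules.pullback f).obj L).presheaf hx' h) _

theorem gysinChoice_ne_zero {X : Scheme.{u}} (L : X.Modules) (s : L.presheaf.obj (Opposite.op ⊤))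
    (w : (ξ : X) → Cyc.secFibre L ξ) (hw : ∀ ξ, w ξ ≠ 0) (ξ : X) :
    Cyc.gysinChoice L s w ξ ≠ 0 := by
  classical
  unfold Cyc.gysinChoice
  by_cases h0 : (Submodule.Quotient.mk ((L.presheaf.germ ⊤ ξ trivial) s) : Cyc.secFibre L ξ) ≠ 0
  · rw [if_pos h0]
    exact h0
  · rw [if_neg h0]
    exact hw ξ

set_option maxHeartbeats 1600000 in
/-- **Gysin maps commute with flat pullback.** -/
theorem gysin_pullFun (X X' D : Scheme.{u}) (δ : X → ℤ) (δ' : X' → ℤ) (hX : Cyc.IsSetup X δ)
    (hX' : Cyc.IsSetup X' δ') (f : X' ⟶ X) [Flat f] [LocallyOfFiniteType f] (r : ℕ)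
    (hr : Cyc.HasRelDim f r) (hδ : Cyc.DeltaCompat f δ' δ) (L : X.Modules)
    (hL : PicF.IsInvertible L) (s : L.presheaf.obj (Opposite.op ⊤)) (i : D ⟶ X)
    [IsClosedImmersion i] (hD : Cyc.IsZeroSchemeOf i L s)
    (s' : ((Scheme.Modules.pullback f).obj L).presheaf.obj (Opposite.op ⊤))
    (hD' : Cyc.IsZeroSchemeOf (pullback.fst f i) ((Scheme.Modules.pullback f).obj L) s') (k : ℤ)
    (α : AlgebraicCycle X ℤ) (hα : α ∈ Cyc.Zk X δ (k + 1)) (w : (ξ : X) → Cyc.secFibre L ξ)
    (hw : ∀ ξ, w ξ ≠ 0)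
    (w' : (ξ : X') → Cyc.secFibre ((Scheme.Modules.pullback f).obj L) ξ) (hw' : ∀ ξ, w' ξ ≠ 0)
    (ζ₁ ζ₂ : AlgebraicCycle (pullback f i) ℤ)
    (h₁ : ∀ z, ζ₁ z = Cyc.c1CapFun δ' ((Scheme.Modules.pullback f).obj L)
      (Cyc.pullFun f δ' δ r ⇑α) (Cyc.gysinChoice ((Scheme.Modules.pullback f).obj L) s' w')
      (pullback.fst f i z))
    (h₂ : ⇑ζ₂ = Cyc.pullFun (pullback.snd f i) (fun z => δ' (pullback.fst f i z))
      (fun d => δ (i d)) r
      (fun d => Cyc.c1CapFun δ L ⇑α (Cyc.gysinChoice L s w) (i d))) :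
    Cyc.RatEquiv (fun z => δ' (pullback.fst f i z)) (k + r) ζ₁ ζ₂ := by
  classical
  haveI : IsLocallyNoetherian X := hX.1
  haveI : IsLocallyNoetherian X' := hX'.1
  haveI : IsClosedImmersion (pullback.fst f i) := inferInstance
  have hL' : PicF.IsInvertible ((Scheme.Modules.pullback f).obj L) :=
    Groth.Agent.Lib.Helper23.PB.isInvertible_pullback f L hL
  have hc : ∀ x' : X', IsGen f x' → δ' x' = δ (f x') + (r : ℤ) :=
    fun x' hx' => delta_eq_of_isGen f r hr δ' δ hδ x' hx'
  -- lifts of the Gysin sections downstairs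
  have hex : ∀ ξ : X, ∃ m : L.presheaf.stalk ξ,
      (Submodule.Quotient.mk m : Cyc.secFibre L ξ) = Cyc.gysinChoice L s w ξ ∧
      ((Submodule.Quotient.mk ((L.presheaf.germ ⊤ ξ trivial) s) : Cyc.secFibre L ξ) ≠ 0 →
        m = (L.presheaf.germ ⊤ ξ trivial) s) := by
    intro ξ
    by_cases h0 : (Submodule.Quotient.mk ((L.presheaf.germ ⊤ ξ trivial) s) : Cyc.secFibre L ξ) ≠ 0
    · refine ⟨(L.presheaf.germ ⊤ ξ trivial) s, ?_, fun _ => rfl⟩
      unfold Cyc.gysinChoice
      rw [if_pos h0]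
    · obtain ⟨m, hm⟩ := Submodule.Quotient.mk_surjective _ (w ξ)
      refine ⟨m, ?_, fun h => absurd h h0⟩
      unfold Cyc.gysinChoice
      rw [if_neg h0]
      exact hm
  choose l hl hlgerm using hex
  have hgc0 := gysinChoice_ne_zero L s w hw
  have hgc0' := gysinChoice_ne_zero ((Scheme.Modules.pullback f).obj L) s' w' hw'
  have hl0 : ∀ ξ, (Submodule.Quotient.mk (l ξ) : Cyc.secFibre L ξ) ≠ 0 := fun ξ => by
    rw [hl ξ]
    exact hgc0 ξ
  have hlfun : (fun ξ => (Submodule.Quotient.mk (l ξ) : Cyc.secFibre L ξ)) =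
      Cyc.gysinChoice L s w := funext hl
  have hP0 : ∀ ξ', pullSec f L l ξ' ≠ 0 := fun ξ' => by
    obtain ⟨-, -, -, -, h4⟩ := local_data f L hL l hl0 ξ'
    exact h4
  obtain ⟨α', hα'⟩ := exists_cycle_pullFun δ δ' hX' f (r : ℤ) hc α
  have hα'Z : α' ∈ Cyc.Zk X' δ' (k + 1 + r) :=
    Bivar.pullFun_mem_Zk f δ' δ (r : ℤ) (k + 1) hα α' hα'
  have hζ₁ : ∀ z, ζ₁ z = Cyc.c1CapFun δ' ((Scheme.Modules.pullback f).obj L) ⇑α'
      (Cyc.gysinChoice ((Scheme.Modules.pullback f).obj L) s' w') (pullback.fst f i z) := by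
    intro z
    rw [h₁ z, hα']
  have hζ₂ : ∀ z, ζ₂ z = Cyc.c1CapFun δ' ((Scheme.Modules.pullback f).obj L) ⇑α'
      (pullSec f L l) (pullback.fst f i z) := by
    intro z
    rw [h₂, ← hlfun]
    rw [pullFun_snd_eq f L hL s i hD δ δ' (r : ℤ)
      (Cyc.c1CapFun δ L ⇑α (fun ξ => Submodule.Quotient.mk (l ξ))) z]
    rw [pullFun_c1CapFun_eq X X' δ δ' hX hX' f (r : ℤ) hc L hL α l hl0, hα']
  choose φ hφ using fun ξ' => exists_smul_eq ((Scheme.Modules.pullback f).obj L) hL' ξ'
    (Cyc.gysinChoice ((Scheme.Modules.pullback f).obj L) s' w' ξ') (pullSec f L l ξ') (hP0 ξ')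
  have hφne : ∀ ξ', X'.residue ξ' (φ ξ') ≠ 0 := fun ξ' => (hφ ξ').2 (hgc0' ξ')
  have hpt : ∀ ξ' x, Cyc.secDivFun δ' ((Scheme.Modules.pullback f).obj L) ξ'
      (Cyc.gysinChoice ((Scheme.Modules.pullback f).obj L) s' w' ξ') x =
      Cyc.divFun δ' ξ' (X'.residue ξ' (φ ξ')) x +
        Cyc.secDivFun δ' ((Scheme.Modules.pullback f).obj L) ξ' (pullSec f L l ξ') x := by
    intro ξ' x
    simp only [Cyc.secDivFun, Cyc.divFun]
    by_cases hcnd : ξ' ⤳ x ∧ δ' x + 1 = δ' ξ'
    · rw [dif_pos hcnd, dif_pos hcnd, dif_pos hcnd]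
      conv_lhs => rw [(hφ ξ').1]
      exact secOrdAt_smul ((Scheme.Modules.pullback f).obj L) hL' ξ' x hcnd.1 (φ ξ') (hφne ξ')
        (pullSec f L l ξ') (hP0 ξ')
    · rw [dif_neg hcnd, dif_neg hcnd, dif_neg hcnd, add_zero]
  have hrange : Set.range ⇑(pullback.fst f i) = ⇑f ⁻¹' Set.range ⇑i :=
    Scheme.Pullback.range_fst f i
  have hpt2 : ∀ (ξ' : X') (z : ↥(pullback f i)), ξ' ∉ Set.range ⇑(pullback.fst f i) →
      Cyc.secDivFun δ' ((Scheme.Modules.pullback f).obj L) ξ'
        (Cyc.gysinChoice ((Scheme.Modules.pullback f).obj L) s' w' ξ') (pullback.fst f i z) =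
      Cyc.secDivFun δ' ((Scheme.Modules.pullback f).obj L) ξ' (pullSec f L l ξ')
        (pullback.fst f i z) := by
    intro ξ' z hξ'
    have h1 : (Submodule.Quotient.mk
        ((((Scheme.Modules.pullback f).obj L).presheaf.germ ⊤ ξ' trivial) s') :
        Cyc.secFibre ((Scheme.Modules.pullback f).obj L) ξ') ≠ 0 := by
      intro h0
      apply hξ'
      rw [hD'.1]
      exact h0
    have h2 : (Submodule.Quotient.mk ((L.presheaf.germ ⊤ (f ξ') trivial) s) :
        Cyc.secFibre L (f ξ')) ≠ 0 := by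
      intro h0
      apply hξ'
      rw [hrange, Set.mem_preimage, hD.1]
      exact h0
    have hG : Cyc.gysinChoice ((Scheme.Modules.pullback f).obj L) s' w' ξ' =
        Submodule.Quotient.mk
          ((((Scheme.Modules.pullback f).obj L).presheaf.germ ⊤ ξ' trivial) s') := by
      unfold Cyc.gysinChoice
      rw [if_pos h1]
    have hPξ : pullSec f L l ξ' =
        Submodule.Quotient.mk (stalkUnit f L ξ' ((L.presheaf.germ ⊤ (f ξ') trivial) s)) := by
      unfold pullSec
      rw [hlgerm (f ξ') h2]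
    simp only [Cyc.secDivFun]
    by_cases hcnd : ξ' ⤳ pullback.fst f i z ∧ δ' (pullback.fst f i z) + 1 = δ' ξ'
    · rw [dif_pos hcnd, dif_pos hcnd]
      obtain ⟨u, hu, hgerm⟩ := exists_unit_germ_eq f L hL s i hD s' hD' z
      have hsp : ((Scheme.Modules.pullback f).obj L).presheaf.stalkSpecializes hcnd.1
          ((((Scheme.Modules.pullback f).obj L).presheaf.germ ⊤ (pullback.fst f i z) trivial) s') =
          ((Scheme.Modules.pullback f).obj L).presheaf.stalkSpecializes hcnd.1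
            (u • stalkUnit f L (pullback.fst f i z)
              ((L.presheaf.germ ⊤ (f (pullback.fst f i z)) trivial) s)) := by
        rw [hgerm]
      have e1 : ((Scheme.Modules.pullback f).obj L).presheaf.stalkSpecializes hcnd.1
          ((((Scheme.Modules.pullback f).obj L).presheaf.germ ⊤ (pullback.fst f i z) trivial) s') =
          (((Scheme.Modules.pullback f).obj L).presheaf.germ ⊤ ξ' trivial) s' :=
        ConcreteCategory.congr_hom
          (TopCat.Presheaf.germ_stalkSpecializes ((Scheme.Modules.pullback f).obj L).presheaf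
            (show pullback.fst f i z ∈ (⊤ : X'.Opens) from trivial) hcnd.1) s'
      rw [e1, stalkSpecializes_smul, stalkSpecializes_stalkUnit_germ_top] at hsp
      have hGeq : Cyc.gysinChoice ((Scheme.Modules.pullback f).obj L) s' w' ξ' =
          X'.presheaf.stalkSpecializes hcnd.1 u • pullSec f L l ξ' := by
        rw [hG, hPξ, hsp, Submodule.Quotient.mk_smul]
      rw [hGeq]
      have hsu : IsUnit (X'.presheaf.stalkSpecializes hcnd.1 u) :=
        hu.map (X'.presheaf.stalkSpecializes hcnd.1).hom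
      have hres : X'.residue ξ' (X'.presheaf.stalkSpecializes hcnd.1 u) ≠ 0 :=
        (IsLocalRing.residue_ne_zero_iff_isUnit _).mpr hsu
      rw [secOrdAt_smul ((Scheme.Modules.pullback f).obj L) hL' ξ' _ hcnd.1 _ hres _ (hP0 ξ')]
      have h0 : Cyc.ordAt (pullback.fst f i z) ξ' hcnd.1
          (X'.residue ξ' (X'.presheaf.stalkSpecializes hcnd.1 u)) = 0 := by
        have h3 := ordAt_mul_unit (pullback.fst f i z) ξ' hcnd.1 1 u hu
        rw [one_mul] at h3
        have h4 : Cyc.specMap (pullback.fst f i z) ξ' hcnd.1 u =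
            X'.residue ξ' (X'.presheaf.stalkSpecializes hcnd.1 u) := rfl
        rw [← h4, h3]
        unfold Cyc.ordAt
        exact ordFrac_one _ _
      rw [h0, zero_add]
    · rw [dif_neg hcnd, dif_neg hcnd]
  have hinj' : Function.Injective ⇑(pullback.fst f i) :=
    (pullback.fst f i).isEmbedding.injective
  have hc'ne : ∀ e : ↥(pullback f i), ((pullback.fst f i).residueFieldMap e).hom
      (X'.residue (pullback.fst f i e) (φ (pullback.fst f i e))) ≠ 0 := fun e =>
    (map_ne_zero _).mpr (hφne (pullback.fst f i e))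
  unfold Cyc.RatEquiv Cyc.RatEquivZero
  refine ⟨{e : ↥(pullback f i) // α' (pullback.fst f i e) ≠ 0}, fun j => j.1,
    fun j => ((pullback.fst f i).residueFieldMap j.1).hom
      (X'.residue (pullback.fst f i j.1) (φ (pullback.fst f i j.1))) ^
        (α' (pullback.fst f i j.1)), ?_, ?_, ?_, ?_⟩
  · intro j
    show δ' (pullback.fst f i j.1) = k + (r : ℤ) + 1
    by_contra hne
    exact j.2 (hα'Z _ (fun h => hne (by rw [h]; ring)))
  · intro j
    exact zpow_ne_zero _ (hc'ne j.1)
  · intro z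
    obtain ⟨U, hU, hfin⟩ :=
      α'.supportLocallyFiniteWithinDomain' (pullback.fst f i z) (Set.mem_univ _)
    obtain ⟨V, hVU, hVo, hxV⟩ := mem_nhds_iff.mp hU
    refine ⟨⇑(pullback.fst f i) ⁻¹' V, hVo.preimage (pullback.fst f i).continuous, hxV, ?_⟩
    have hinj : Function.Injective
        (fun j : {e : ↥(pullback f i) // α' (pullback.fst f i e) ≠ 0} =>
          pullback.fst f i j.1) := hinj'.comp Subtype.val_injective
    have hsub : {j : {e : ↥(pullback f i) // α' (pullback.fst f i e) ≠ 0} |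
        (closure {j.1} ∩ ⇑(pullback.fst f i) ⁻¹' V).Nonempty} ⊆
        (fun j : {e : ↥(pullback f i) // α' (pullback.fst f i e) ≠ 0} =>
          pullback.fst f i j.1) ⁻¹' (U ∩ Function.support ⇑α') := by
      rintro j ⟨y, hy1, hy2⟩
      have hjV : j.1 ∈ ⇑(pullback.fst f i) ⁻¹' V := by
        obtain ⟨y0, hy0V, hy0⟩ := mem_closure_iff.mp hy1 _
          (hVo.preimage (pullback.fst f i).continuous) hy2
        rw [Set.mem_singleton_iff] at hy0
        rw [← hy0]
        exact hy0V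
      exact ⟨hVU hjV, j.2⟩
    exact (hfin.preimage hinj.injOn).subset hsub
  · intro z
    have hsupp : ∀ t : (ξ : X') → Cyc.secFibre ((Scheme.Modules.pullback f).obj L) ξ,
        (Function.support fun ξ => α' ξ *
          Cyc.secDivFun δ' ((Scheme.Modules.pullback f).obj L) ξ (t ξ) (pullback.fst f i z)) ⊆
          {ξ : X' | ξ ⤳ pullback.fst f i z ∧ α' ξ ≠ 0} := by
      intro t ξ hξ
      rw [Function.mem_support] at hξ
      refine ⟨?_, left_ne_zero_of_mul hξ⟩
      have h2 := right_ne_zero_of_mul hξ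
      by_contra hcn
      apply h2
      simp [Cyc.secDivFun, hcn]
    have hfinx := Bivar.finite_support_specializes α' (pullback.fst f i z)
    have h1 : (ζ₁ - ζ₂) z = ∑ᶠ ξ', (if ξ' ∈ Set.range ⇑(pullback.fst f i) then
        α' ξ' * Cyc.divFun δ' ξ' (X'.residue ξ' (φ ξ')) (pullback.fst f i z) else 0) := by
      rw [Function.locallyFinsuppWithin.coe_sub, Pi.sub_apply, hζ₁ z, hζ₂ z]
      simp only [Cyc.c1CapFun]
      rw [← finsum_sub_distrib
        (hfinx.subset (hsupp (Cyc.gysinChoice ((Scheme.Modules.pullback f).obj L) s' w')))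
        (hfinx.subset (hsupp (pullSec f L l)))]
      refine finsum_congr fun ξ' => ?_
      by_cases hξ' : ξ' ∈ Set.range ⇑(pullback.fst f i)
      · rw [if_pos hξ', hpt ξ' _]
        ring
      · rw [if_neg hξ', hpt2 ξ' z hξ', sub_self]
    have h2 : ∀ j : {e : ↥(pullback f i) // α' (pullback.fst f i e) ≠ 0},
        Cyc.divFun (fun z => δ' (pullback.fst f i z)) j.1
          (((pullback.fst f i).residueFieldMap j.1).hom
            (X'.residue (pullback.fst f i j.1) (φ (pullback.fst f i j.1))) ^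
              (α' (pullback.fst f i j.1))) z =
        α' (pullback.fst f i j.1) * Cyc.divFun δ' (pullback.fst f i j.1)
          (X'.residue (pullback.fst f i j.1) (φ (pullback.fst f i j.1)))
          (pullback.fst f i z) := by
      intro j
      rw [divFun_zpow _ j.1 _ (hc'ne j.1) _ z,
        divFun_closedImm (pullback.fst f i) δ' hX'.2.2 j.1 z _ (hφne _)]
    have h3 : ∑ᶠ j : {e : ↥(pullback f i) // α' (pullback.fst f i e) ≠ 0},
        α' (pullback.fst f i j.1) * Cyc.divFun δ' (pullback.fst f i j.1)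
          (X'.residue (pullback.fst f i j.1) (φ (pullback.fst f i j.1)))
          (pullback.fst f i z) =
        ∑ᶠ e : ↥(pullback f i), α' (pullback.fst f i e) * Cyc.divFun δ' (pullback.fst f i e)
          (X'.residue (pullback.fst f i e) (φ (pullback.fst f i e))) (pullback.fst f i z) := by
      rw [finsum_subtype_eq_finsum_cond
        (f := fun e : ↥(pullback f i) => α' (pullback.fst f i e) *
          Cyc.divFun δ' (pullback.fst f i e)
            (X'.residue (pullback.fst f i e) (φ (pullback.fst f i e))) (pullback.fst f i z))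
        (fun e => α' (pullback.fst f i e) ≠ 0)]
      refine finsum_congr fun e => ?_
      rw [finsum_eq_if]
      by_cases h0 : α' (pullback.fst f i e) = 0
      · rw [if_neg (not_not.mpr h0), h0, zero_mul]
      · rw [if_pos h0]
    calc (ζ₁ - ζ₂) z
        = ∑ᶠ ξ', (if ξ' ∈ Set.range ⇑(pullback.fst f i) then
            α' ξ' * Cyc.divFun δ' ξ' (X'.residue ξ' (φ ξ')) (pullback.fst f i z) else 0) := h1
      _ = ∑ᶠ ξ' ∈ Set.range ⇑(pullback.fst f i),
            α' ξ' * Cyc.divFun δ' ξ' (X'.residue ξ' (φ ξ')) (pullback.fst f i z) := by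
          refine finsum_congr fun ξ' => ?_
          rw [finsum_eq_if]
      _ = ∑ᶠ e : ↥(pullback f i), α' (pullback.fst f i e) * Cyc.divFun δ' (pullback.fst f i e)
            (X'.residue (pullback.fst f i e) (φ (pullback.fst f i e))) (pullback.fst f i z) :=
          finsum_mem_range hinj'
      _ = ∑ᶠ j : {e : ↥(pullback f i) // α' (pullback.fst f i e) ≠ 0},
            α' (pullback.fst f i j.1) * Cyc.divFun δ' (pullback.fst f i j.1)
              (X'.residue (pullback.fst f i j.1) (φ (pullback.fst f i j.1)))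
              (pullback.fst f i z) := h3.symm
      _ = _ := (finsum_congr h2).symm

end Groth.Agent.Lib.Helper2.CycGysinPull
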