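import Mathlib
import Groth.Agent.Lib.Helper2CycClosedImm
import Groth.Agent.Lib.Helper2CycC1Pull

/-!
# The self-intersection formula `i^* i_* α ∼ c_1(i^*L) ∩ α` (helper2)
-/

set_option autoImplicit false
set_option linter.style.haveILetI false

universe u

open AlgebraicGeometry CategoryTheory IsLocalRing

namespace Groth.Agent.Lib.Helper2.CycGysinSelf

open Groth.Agent.Lib.Helper2.CycOrd Groth.Agent.Lib.Helper2.CycClosedImm
  Groth.Agent.Lib.Helper2.CycC1 Groth.Agent.Lib.Helper2.CycC1Pull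

variable {X D : Scheme.{u}} (i : D ⟶ X) [IsClosedImmersion i]

/-- sums against `i_* α` are sums over `D`. -/
theorem finsum_map_closedImm (δ : X → ℤ) (α : AlgebraicCycle D ℤ) (F : X → ℤ) :
    ∑ᶠ ξ, (AlgebraicCycle.map i (fun d => δ (i d)) δ α) ξ * F ξ = ∑ᶠ e, α e * F (i e) := by
  have hinj : Function.Injective (i : D → X) := i.isEmbedding.injective
  calc ∑ᶠ ξ, (AlgebraicCycle.map i (fun d => δ (i d)) δ α) ξ * F ξ
      = ∑ᶠ ξ ∈ Set.range (i : D → X),
          (AlgebraicCycle.map i (fun d => δ (i d)) δ α) ξ * F ξ := by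
        rw [← finsum_mem_univ (fun ξ => (AlgebraicCycle.map i (fun d => δ (i d)) δ α) ξ * F ξ)]
        apply finsum_mem_inter_support_eq'
        intro ξ hξ
        constructor
        · intro _
          by_contra hn
          rw [Function.mem_support] at hξ
          apply hξ
          rw [map_closedImm_apply_of_notMem i δ α ξ hn, zero_mul]
        · intro _
          exact Set.mem_univ _
    _ = ∑ᶠ e, (AlgebraicCycle.map i (fun d => δ (i d)) δ α) (i e) * F (i e) :=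
        finsum_mem_range hinj
    _ = ∑ᶠ e, α e * F (i e) := by
        refine finsum_congr fun e => ?_
        rw [map_closedImm_apply]

/-- comparison of `c_1(L) ∩ i_*α` on `X` with `c_1(i^*L) ∩ α` on `D`, for sections of `i^*L`
induced from `L`. -/
theorem c1CapFun_map_closedImm (δ : X → ℤ) (hX : Cyc.IsSetup X δ) (L : X.Modules)
    (hL : PicF.IsInvertible L) (α : AlgebraicCycle D ℤ)
    (w : (ξ : X) → Cyc.secFibre L ξ) (l : (ξ : X) → L.presheaf.stalk ξ)
    (hl : ∀ ξ, (Submodule.Quotient.mk (l ξ) : Cyc.secFibre L ξ) = w ξ) (hw : ∀ ξ, w ξ ≠ 0)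
    (d : D) :
    Cyc.c1CapFun δ L ⇑(AlgebraicCycle.map i (fun d => δ (i d)) δ α) w (i d) =
      Cyc.c1CapFun (fun d => δ (i d)) ((Scheme.Modules.pullback i).obj L) ⇑α (pullSec i L l) d := by
  haveI : IsLocallyNoetherian X := hX.1
  have hl0 : ∀ ξ, (Submodule.Quotient.mk (l ξ) : Cyc.secFibre L ξ) ≠ 0 := fun ξ => by
    rw [hl ξ]
    exact hw ξ
  obtain ⟨g, hg, hA, hB, -⟩ := local_data i L hL l hl0 d
  simp only [Cyc.c1CapFun]
  rw [finsum_map_closedImm i δ α (fun ξ => Cyc.secDivFun δ L ξ (w ξ) (i d))]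
  refine finsum_congr fun e => ?_
  congr 1
  simp only [Cyc.secDivFun]
  by_cases hc : e ⤳ d ∧ δ (i d) + 1 = δ (i e)
  · have hc' : i e ⤳ i d ∧ δ (i d) + 1 = δ (i e) := ⟨(specializes_iff i d e).mpr hc.1, hc.2⟩
    rw [dif_pos hc, dif_pos hc', hB e hc.1, ← hl (i e), hA (i e) hc'.1]
    exact (ordAt_closedImm i d e hc.1 hc'.1
      (ringKrullDim_locQuot_le_one δ hX.2.2 (i d) (i e) hc'.1 hc.2) (g (i e)) (hg (i e))).symm
  · have hc' : ¬ (i e ⤳ i d ∧ δ (i d) + 1 = δ (i e)) := fun h =>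
      hc ⟨(specializes_iff i d e).mp h.1, h.2⟩
    rw [dif_neg hc, dif_neg hc']

/-- **self-intersection formula**. -/
theorem gysin_map_self (X D : Scheme.{u}) (δ : X → ℤ) (hX : Cyc.IsSetup X δ) (L : X.Modules)
    (hL : PicF.IsInvertible L) (s : L.presheaf.obj (Opposite.op ⊤)) (i : D ⟶ X)
    [IsClosedImmersion i] (hD : Cyc.IsZeroSchemeOf i L s) (k : ℤ) (α : AlgebraicCycle D ℤ)
    (hα : α ∈ Cyc.Zk D (fun d => δ (i d)) k) (w : (ξ : X) → Cyc.secFibre L ξ)
    (hw : ∀ ξ, w ξ ≠ 0) (t : (d : D) → Cyc.secFibre ((Scheme.Modules.pullback i).obj L) d)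
    (ht : ∀ d, t d ≠ 0) (ζ₁ ζ₂ : AlgebraicCycle D ℤ)
    (h₁ : ∀ d, ζ₁ d = Cyc.c1CapFun δ L ⇑(AlgebraicCycle.map i (fun d => δ (i d)) δ α)
      (Cyc.gysinChoice L s w) (i d))
    (h₂ : ⇑ζ₂ = Cyc.c1CapFun (fun d => δ (i d)) ((Scheme.Modules.pullback i).obj L) ⇑α t) :
    Cyc.RatEquiv (fun d => δ (i d)) (k - 1) ζ₁ ζ₂ := by
  classical
  choose l hl using fun ξ => Submodule.Quotient.mk_surjective _ (w ξ)
  have hl0 : ∀ ξ, (Submodule.Quotient.mk (l ξ) : Cyc.secFibre L ξ) ≠ 0 := fun ξ => by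
    rw [hl ξ]
    exact hw ξ
  have hpull : ∀ e, pullSec i L l e ≠ 0 := fun e => by
    obtain ⟨-, -, -, -, h4⟩ := local_data i L hL l hl0 e
    exact h4
  -- on the support of `i_*α` the Gysin choice is the fallback section
  have hchoice : ∀ (d : D),
      Cyc.c1CapFun δ L ⇑(AlgebraicCycle.map i (fun d => δ (i d)) δ α) (Cyc.gysinChoice L s w) (i d) =
      Cyc.c1CapFun δ L ⇑(AlgebraicCycle.map i (fun d => δ (i d)) δ α) w (i d) := by
    intro d
    simp only [Cyc.c1CapFun]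
    refine finsum_congr fun ξ => ?_
    by_cases hξ : ξ ∈ Set.range i
    · have h0 : (Submodule.Quotient.mk ((L.presheaf.germ ⊤ ξ trivial) s) : Cyc.secFibre L ξ) = 0 := by
        rw [hD.1] at hξ
        exact hξ
      have h1 : Cyc.gysinChoice L s w ξ = w ξ := by
        unfold Cyc.gysinChoice
        rw [if_neg (not_not.mpr h0)]
      rw [h1]
    · rw [map_closedImm_apply_of_notMem i δ α ξ hξ, zero_mul, zero_mul]
  have hfun : ⇑ζ₁ = Cyc.c1CapFun (fun d => δ (i d)) ((Scheme.Modules.pullback i).obj L) ⇑α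
      (pullSec i L l) := by
    funext d
    rw [h₁ d, hchoice d]
    exact c1CapFun_map_closedImm i δ hX L hL α w l hl hw d
  have hα' : α ∈ Cyc.Zk D (fun d => δ (i d)) (k - 1 + 1) := by
    have e : k - 1 + 1 = k := by ring
    rw [e]
    exact hα
  exact ratEquiv_c1CapFun D (fun d => δ (i d)) _
    (Groth.Agent.Lib.Helper23.PB.isInvertible_pullback i L hL) (k - 1) α hα' (pullSec i L l) t
    hpull ht ζ₁ ζ₂ hfun h₂

end Groth.Agent.Lib.Helper2.CycGysinSelf
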