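import Mathlib
import Groth.Prelude.Def_Cyc
import Groth.Agent.Lib.Helper2CycFamily

/-!
# Mayer–Vietoris for Chow groups: exactness in the middle (helper2)

* `finsum_split`: splitting a finite-support `finsum` along a predicate.
* `divFun_congr`: transporting a principal divisor along an equality of points.
* `exists_cycle_comp'`: restriction of a cycle along a closed immersion.
* `exists_cycle_on_inter`: if `X = X₁ ∪ X₂` (closed) and `(i₁)_*α₁ ∼ (i₂)_*α₂` on `X`, there is a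
  cycle `β` on `X₁ ×_X X₂` with `α₁ ∼ (pr₁)_*β` and `α₂ ∼ (pr₂)_*β`.
-/

set_option autoImplicit false
set_option linter.style.haveILetI false

universe u

open AlgebraicGeometry CategoryTheory CategoryTheory.Limits IsLocalRing

namespace Groth.Agent.Lib.Helper2.CycMV

open Groth.Agent.Lib.Helper2.CycFamily Groth.Agent.Lib.Helper2.CycClosedImm
  Groth.Agent.Lib.Helper2.CycC1

theorem finsum_split {ι : Type*} (p : ι → Prop) (F : ι → ℤ) (hF : (Function.support F).Finite) :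
    ∑ᶠ j, F j = ∑ᶠ j : {j // p j}, F j.1 + ∑ᶠ j : {j // ¬ p j}, F j.1 := by
  classical
  have h1 : ∑ᶠ j : {j // p j}, F j.1 = ∑ j ∈ hF.toFinset.subtype p, F j.1 :=
    finsum_eq_sum_of_support_subset _ (by
      intro j hj
      rw [Finset.mem_coe, Finset.mem_subtype, Set.Finite.mem_toFinset]
      exact hj)
  have h2 : ∑ᶠ j : {j // ¬ p j}, F j.1 = ∑ j ∈ hF.toFinset.subtype (fun j => ¬ p j), F j.1 :=
    finsum_eq_sum_of_support_subset _ (by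
      intro j hj
      rw [Finset.mem_coe, Finset.mem_subtype, Set.Finite.mem_toFinset]
      exact hj)
  have h3 : ∑ᶠ j, F j = ∑ j ∈ hF.toFinset, F j :=
    finsum_eq_sum_of_support_subset F (by
      intro j hj
      rw [Finset.mem_coe, Set.Finite.mem_toFinset]
      exact hj)
  rw [h1, h2, h3, Finset.sum_subtype_eq_sum_filter, Finset.sum_subtype_eq_sum_filter,
    Finset.sum_filter_add_sum_filter_not]

theorem divFun_congr {X : Scheme.{u}} (δ : X → ℤ) {ξ ξ' : X} (e : ξ = ξ')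
    (f : X.residueField ξ) :
    Cyc.divFun δ ξ f = Cyc.divFun δ ξ' ((X.residueFieldCongr e).hom f) := by
  subst e
  rfl

theorem exists_cycle_comp' {X Y : Scheme.{u}} (ι : Y ⟶ X) [IsClosedImmersion ι]
    (γ : AlgebraicCycle X ℤ) : ∃ ζ' : AlgebraicCycle Y ℤ, ∀ y, ζ' y = γ (ι y) := by
  refine ⟨⟨fun y => γ (ι y), fun _ _ => Set.mem_univ _, fun y _ => ?_⟩, fun y => rfl⟩
  obtain ⟨V, hV, hfin⟩ := γ.supportLocallyFiniteWithinDomain' (ι y) (Set.mem_univ _)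
  refine ⟨(ι : Y → X) ⁻¹' V, ι.continuous.continuousAt.preimage_mem_nhds hV, ?_⟩
  refine (hfin.preimage ι.isEmbedding.injective.injOn).subset ?_
  rintro z ⟨hz1, hz2⟩
  exact ⟨hz1, hz2⟩

set_option maxHeartbeats 1600000 in
theorem exists_cycle_on_inter (X : Scheme.{u}) (δ : X → ℤ) (hX : Cyc.IsSetup X δ)
    (X₁ X₂ : Scheme.{u}) (i₁ : X₁ ⟶ X) (i₂ : X₂ ⟶ X) [IsClosedImmersion i₁]
    [IsClosedImmersion i₂] (hcov : Set.range ⇑i₁ ∪ Set.range ⇑i₂ = Set.univ) (k : ℤ)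
    (α₁ : AlgebraicCycle X₁ ℤ) (α₂ : AlgebraicCycle X₂ ℤ)
    (h₁ : α₁ ∈ Cyc.Zk X₁ (fun x => δ (i₁ x)) k) (h₂ : α₂ ∈ Cyc.Zk X₂ (fun x => δ (i₂ x)) k)
    (h : Cyc.RatEquiv δ k (AlgebraicCycle.map i₁ (fun x => δ (i₁ x)) δ α₁)
      (AlgebraicCycle.map i₂ (fun x => δ (i₂ x)) δ α₂)) :
    ∃ β : AlgebraicCycle (pullback i₁ i₂) ℤ,
      β ∈ Cyc.Zk (pullback i₁ i₂) (fun z => δ (i₁ (pullback.fst i₁ i₂ z))) k ∧
      Cyc.RatEquiv (fun x => δ (i₁ x)) k α₁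
        (AlgebraicCycle.map (pullback.fst i₁ i₂) (fun z => δ (i₁ (pullback.fst i₁ i₂ z)))
          (fun x => δ (i₁ x)) β) ∧
      Cyc.RatEquiv (fun x => δ (i₂ x)) k α₂
        (AlgebraicCycle.map (pullback.snd i₁ i₂) (fun z => δ (i₁ (pullback.fst i₁ i₂ z)))
          (fun x => δ (i₂ x)) β) := by
  classical
  haveI : IsLocallyNoetherian X := hX.1
  obtain ⟨ι, ξ, f, hξ, hf, hlf, hsum⟩ := h
  -- abstract the two pushforwards
  obtain ⟨A₁, hA₁def⟩ : ∃ A₁ : AlgebraicCycle X ℤ,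
      A₁ = AlgebraicCycle.map i₁ (fun x => δ (i₁ x)) δ α₁ := ⟨_, rfl⟩
  obtain ⟨A₂, hA₂def⟩ : ∃ A₂ : AlgebraicCycle X ℤ,
      A₂ = AlgebraicCycle.map i₂ (fun x => δ (i₂ x)) δ α₂ := ⟨_, rfl⟩
  rw [← hA₁def, ← hA₂def] at hsum
  have hA₁ap : ∀ d, A₁ (i₁ d) = α₁ d := fun d => by
    rw [hA₁def]
    exact map_closedImm_apply i₁ δ α₁ d
  have hA₁0 : ∀ x, x ∉ Set.range ⇑i₁ → A₁ x = 0 := fun x hx => by
    rw [hA₁def]
    exact map_closedImm_apply_of_notMem i₁ δ α₁ x hx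
  have hA₂ap : ∀ d, A₂ (i₂ d) = α₂ d := fun d => by
    rw [hA₂def]
    exact map_closedImm_apply i₂ δ α₂ d
  have hA₂0 : ∀ x, x ∉ Set.range ⇑i₂ → A₂ x = 0 := fun x hx => by
    rw [hA₂def]
    exact map_closedImm_apply_of_notMem i₂ δ α₂ x hx
  -- the two subfamilies
  have hJ₂ : ∀ j : {j : ι // ξ j ∉ Set.range ⇑i₁}, ξ j.1 ∈ Set.range ⇑i₂ := by
    intro j
    have hmem : ξ j.1 ∈ Set.range ⇑i₁ ∪ Set.range ⇑i₂ := by
      rw [hcov]
      trivial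
    rcases hmem with h | h
    · exact absurd h j.2
    · exact h
  choose η₁ e₁ using fun j : {j : ι // ξ j ∈ Set.range ⇑i₁} => j.2
  choose η₂ e₂ using hJ₂
  have hex₁ : ∀ j : {j : ι // ξ j ∈ Set.range ⇑i₁}, ∃ f' : X.residueField (i₁ (η₁ j)),
      f' ≠ 0 ∧ Cyc.divFun δ (ξ j.1) (f j.1) = Cyc.divFun δ (i₁ (η₁ j)) f' := fun j =>
    ⟨(X.residueFieldCongr (e₁ j).symm).hom (f j.1), (map_ne_zero _).mpr (hf j.1),
      divFun_congr δ (e₁ j).symm (f j.1)⟩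
  choose f₁ hf₁0 hf₁div using hex₁
  have hex₂ : ∀ j : {j : ι // ξ j ∉ Set.range ⇑i₁}, ∃ f' : X.residueField (i₂ (η₂ j)),
      f' ≠ 0 ∧ Cyc.divFun δ (ξ j.1) (f j.1) = Cyc.divFun δ (i₂ (η₂ j)) f' := fun j =>
    ⟨(X.residueFieldCongr (e₂ j).symm).hom (f j.1), (map_ne_zero _).mpr (hf j.1),
      divFun_congr δ (e₂ j).symm (f j.1)⟩
  choose f₂ hf₂0 hf₂div using hex₂
  have hξ₁ : ∀ j, δ (i₁ (η₁ j)) = k + 1 := fun j => by
    rw [e₁ j]
    exact hξ j.1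
  have hξ₂ : ∀ j, δ (i₂ (η₂ j)) = k + 1 := fun j => by
    rw [e₂ j]
    exact hξ j.1
  have hlf₁ : ∀ x : X, ∃ U : Set X, IsOpen U ∧ x ∈ U ∧
      {j : {j : ι // ξ j ∈ Set.range ⇑i₁} | (closure {i₁ (η₁ j)} ∩ U).Nonempty}.Finite := by
    intro x
    obtain ⟨U, hUo, hxU, hfin⟩ := hlf x
    refine ⟨U, hUo, hxU, ?_⟩
    refine (hfin.preimage Subtype.val_injective.injOn).subset ?_
    intro j hj
    rw [Set.mem_preimage]
    change (closure {ξ j.1} ∩ U).Nonempty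
    rw [← e₁ j]
    exact hj
  have hlf₂ : ∀ x : X, ∃ U : Set X, IsOpen U ∧ x ∈ U ∧
      {j : {j : ι // ξ j ∉ Set.range ⇑i₁} | (closure {i₂ (η₂ j)} ∩ U).Nonempty}.Finite := by
    intro x
    obtain ⟨U, hUo, hxU, hfin⟩ := hlf x
    refine ⟨U, hUo, hxU, ?_⟩
    refine (hfin.preimage Subtype.val_injective.injOn).subset ?_
    intro j hj
    rw [Set.mem_preimage]
    change (closure {ξ j.1} ∩ U).Nonempty
    rw [← e₂ j]
    exact hj
  obtain ⟨Γ₁, hΓ₁⟩ := exists_cycle_finsum_divFun δ hX.2.2 (fun j => i₁ (η₁ j)) f₁ hf₁0 hlf₁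
  obtain ⟨Γ₂, hΓ₂⟩ := exists_cycle_finsum_divFun δ hX.2.2 (fun j => i₂ (η₂ j)) f₂ hf₂0 hlf₂
  have hsplit : ∀ x, A₁ x - A₂ x = Γ₁ x + Γ₂ x := by
    intro x
    have h0 := hsum x
    rw [Function.locallyFinsuppWithin.coe_sub, Pi.sub_apply] at h0
    rw [h0, finsum_split (fun j => ξ j ∈ Set.range ⇑i₁) _ (finite_support_family δ ξ f hlf x),
      hΓ₁ x, hΓ₂ x]
    congr 1
    · exact finsum_congr fun j => congrFun (hf₁div j) x
    · exact finsum_congr fun j => congrFun (hf₂div j) x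
  have hΓ₁k : ∀ x, δ x ≠ k → Γ₁ x = 0 := fun x hx => by
    rw [hΓ₁ x]
    exact finsum_divFun_eq_zero_of_delta_ne δ k (fun j => i₁ (η₁ j)) f₁ hξ₁ x hx
  have hΓ₁0 : ∀ x, x ∉ Set.range ⇑i₁ → Γ₁ x = 0 := fun x hx => by
    rw [hΓ₁ x]
    exact finsum_eq_zero_of_forall_eq_zero fun j =>
      divFun_closedImm_of_notMem i₁ δ (η₁ j) (f₁ j) x hx
  have hΓ₂0 : ∀ x, x ∉ Set.range ⇑i₂ → Γ₂ x = 0 := fun x hx => by
    rw [hΓ₂ x]
    exact finsum_eq_zero_of_forall_eq_zero fun j =>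
      divFun_closedImm_of_notMem i₂ δ (η₂ j) (f₂ j) x hx
  have hΓ₁ap : ∀ d : X₁, Γ₁ (i₁ d) = ∑ᶠ j, Cyc.divFun (fun x => δ (i₁ x)) (η₁ j)
      ((i₁.residueFieldMap (η₁ j)).hom (f₁ j)) d := fun d => by
    rw [hΓ₁]
    exact finsum_congr fun j => (divFun_closedImm i₁ δ hX.2.2 (η₁ j) d (f₁ j) (hf₁0 j)).symm
  have hΓ₂ap : ∀ d : X₂, Γ₂ (i₂ d) = ∑ᶠ j, Cyc.divFun (fun x => δ (i₂ x)) (η₂ j)
      ((i₂.residueFieldMap (η₂ j)).hom (f₂ j)) d := fun d => by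
    rw [hΓ₂]
    exact finsum_congr fun j => (divFun_closedImm i₂ δ hX.2.2 (η₂ j) d (f₂ j) (hf₂0 j)).symm
  -- the common cycle on `X`
  have hB₁ : ∀ x, (A₁ - Γ₁) x = A₁ x - Γ₁ x := fun x => by
    rw [Function.locallyFinsuppWithin.coe_sub, Pi.sub_apply]
  have hB₂ : ∀ x, (A₁ - Γ₁) x = A₂ x + Γ₂ x := fun x => by
    rw [hB₁]
    have := hsplit x
    omega
  -- the pullback
  have hcond : ∀ z : ↥(pullback i₁ i₂), i₁ (pullback.fst i₁ i₂ z) = i₂ (pullback.snd i₁ i₂ z) := by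
    intro z
    have h0 := congrArg (fun m : pullback i₁ i₂ ⟶ X => (m : _ → _) z)
      (pullback.condition (f := i₁) (g := i₂))
    exact h0
  have hrange₁ := AlgebraicGeometry.Scheme.Pullback.range_fst i₁ i₂
  have hrange₂ := AlgebraicGeometry.Scheme.Pullback.range_snd i₁ i₂
  have hr₁ : ∀ d : X₁, d ∉ Set.range ⇑(pullback.fst i₁ i₂) → i₁ d ∉ Set.range ⇑i₂ := by
    intro d hd h
    apply hd
    rw [hrange₁]
    exact h
  have hr₂ : ∀ e : X₂, e ∉ Set.range ⇑(pullback.snd i₁ i₂) → i₂ e ∉ Set.range ⇑i₁ := by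
    intro e he h
    apply he
    rw [hrange₂]
    exact h
  obtain ⟨β, hβ⟩ := exists_cycle_comp' (pullback.fst i₁ i₂ ≫ i₁) (A₁ - Γ₁)
  have hβ' : ∀ z, β z = (A₁ - Γ₁) (i₁ (pullback.fst i₁ i₂ z)) := fun z => hβ z
  have hmap₁ : ∀ d : X₁, (AlgebraicCycle.map (pullback.fst i₁ i₂)
      (fun z => δ (i₁ (pullback.fst i₁ i₂ z))) (fun x => δ (i₁ x)) β) d = (A₁ - Γ₁) (i₁ d) := by
    intro d
    by_cases hd : d ∈ Set.range ⇑(pullback.fst i₁ i₂)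
    · obtain ⟨z, rfl⟩ := hd
      rw [← hβ' z]
      exact map_closedImm_apply (pullback.fst i₁ i₂) (fun x => δ (i₁ x)) β z
    · rw [hB₂, hA₂0 _ (hr₁ d hd), hΓ₂0 _ (hr₁ d hd), add_zero]
      exact map_closedImm_apply_of_notMem (pullback.fst i₁ i₂) (fun x => δ (i₁ x)) β d hd
  have hfun : (fun z : ↥(pullback i₁ i₂) => δ (i₁ (pullback.fst i₁ i₂ z))) =
      fun z => δ (i₂ (pullback.snd i₁ i₂ z)) := funext fun z => congrArg δ (hcond z)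
  have hmap₂ : ∀ e : X₂, (AlgebraicCycle.map (pullback.snd i₁ i₂)
      (fun z => δ (i₁ (pullback.fst i₁ i₂ z))) (fun x => δ (i₂ x)) β) e = (A₁ - Γ₁) (i₂ e) := by
    intro e
    rw [hfun]
    by_cases he : e ∈ Set.range ⇑(pullback.snd i₁ i₂)
    · obtain ⟨z, rfl⟩ := he
      rw [← hcond z, ← hβ' z]
      exact map_closedImm_apply (pullback.snd i₁ i₂) (fun x => δ (i₂ x)) β z
    · rw [hB₁, hA₁0 _ (hr₂ e he), hΓ₁0 _ (hr₂ e he), sub_zero]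
      exact map_closedImm_apply_of_notMem (pullback.snd i₁ i₂) (fun x => δ (i₂ x)) β e he
  have hlfX₁ : ∀ d : X₁, ∃ U : Set X₁, IsOpen U ∧ d ∈ U ∧
      {j | (closure {η₁ j} ∩ U).Nonempty}.Finite := by
    intro d
    obtain ⟨U, hUo, hdU, hfin⟩ := hlf₁ (i₁ d)
    refine ⟨(i₁ : X₁ → X) ⁻¹' U, hUo.preimage i₁.continuous, hdU, hfin.subset ?_⟩
    rintro j ⟨z, hz1, hz2⟩
    have hsp : η₁ j ⤳ z := specializes_iff_mem_closure.mpr hz1
    exact ⟨i₁ z, specializes_iff_mem_closure.mp (hsp.map i₁.continuous), hz2⟩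
  have hlfX₂ : ∀ d : X₂, ∃ U : Set X₂, IsOpen U ∧ d ∈ U ∧
      {j | (closure {η₂ j} ∩ U).Nonempty}.Finite := by
    intro d
    obtain ⟨U, hUo, hdU, hfin⟩ := hlf₂ (i₂ d)
    refine ⟨(i₂ : X₂ → X) ⁻¹' U, hUo.preimage i₂.continuous, hdU, hfin.subset ?_⟩
    rintro j ⟨z, hz1, hz2⟩
    have hsp : η₂ j ⤳ z := specializes_iff_mem_closure.mpr hz1
    exact ⟨i₂ z, specializes_iff_mem_closure.mp (hsp.map i₂.continuous), hz2⟩
  refine ⟨β, ?_, ?_, ?_⟩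
  · intro z hz
    have hz' : δ (i₁ (pullback.fst i₁ i₂ z)) ≠ k := hz
    rw [hβ' z, hB₁, hA₁ap, h₁ _ hz', hΓ₁k _ hz', sub_zero]
  · refine ⟨_, η₁, fun j => (i₁.residueFieldMap (η₁ j)).hom (f₁ j), hξ₁,
      fun j => (map_ne_zero _).mpr (hf₁0 j), hlfX₁, ?_⟩
    intro d
    rw [Function.locallyFinsuppWithin.coe_sub, Pi.sub_apply, hmap₁, hB₁, hA₁ap, hΓ₁ap]
    ring
  · refine ⟨_, η₂, fun j => ((i₂.residueFieldMap (η₂ j)).hom (f₂ j))⁻¹, hξ₂,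
      fun j => inv_ne_zero ((map_ne_zero _).mpr (hf₂0 j)), hlfX₂, ?_⟩
    intro e
    rw [Function.locallyFinsuppWithin.coe_sub, Pi.sub_apply, hmap₂, hB₂, hA₂ap, hΓ₂ap]
    have hinv : ∀ j, Cyc.divFun (fun x => δ (i₂ x)) (η₂ j)
        ((i₂.residueFieldMap (η₂ j)).hom (f₂ j))⁻¹ e =
        - Cyc.divFun (fun x => δ (i₂ x)) (η₂ j) ((i₂.residueFieldMap (η₂ j)).hom (f₂ j)) e := by
      intro j
      have h0 := divFun_zpow (fun x => δ (i₂ x)) (η₂ j) ((i₂.residueFieldMap (η₂ j)).hom (f₂ j))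
        ((map_ne_zero _).mpr (hf₂0 j)) (-1) e
      rw [zpow_neg_one] at h0
      rw [h0]
      ring
    rw [finsum_congr hinv, finsum_neg_distrib]
    ring

end Groth.Agent.Lib.Helper2.CycMV
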