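import Mathlib
import Groth.Prelude.Def_C1
import Groth.Prelude.Def_Pic
import Groth.Agent.Lib.Helper2CycSecDiv
import Groth.Agent.Lib.Helper2CycOrdGen

/-!
# `[Z(s)]_k = c_1(L) ∩ [Y]_{k+1}` for a regular section (helper2)

`zeroSectionFun_eq_c1CapFun`: for an invertible module `L` on `Y` with `δ ≤ k+1` and a global
section `s` which is a nonzerodivisor at the points of `δ`-dimension `k`, the coefficient
function of `[Z(s)]_k` equals `Σ_ξ len(O_ξ) · div_{L|closure ξ}(s)`.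
-/

set_option autoImplicit false
set_option linter.style.haveILetI false

universe u

open AlgebraicGeometry CategoryTheory IsLocalRing

namespace Groth.Agent.Lib.Helper2.CycSecDiv2

open Groth.Agent.Lib.Helper2.CycOrd Groth.Agent.Lib.Helper2.CycOrdSum
  Groth.Agent.Lib.Helper2.CycOrdGen Groth.Agent.Lib.Helper2.CycSecDiv
  Groth.Agent.Lib.Helper20.InvGen Groth.Agent.Lib.Helper2

theorem subschemeFun_id (Y : Scheme.{u}) (δ : Y → ℤ) (k : ℤ) (ξ : Y) :
    Cyc.subschemeFun δ k (𝟙 Y) ξ =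
      if δ ξ = k then ((Module.length (Y.presheaf.stalk ξ) (Y.presheaf.stalk ξ)).toNat : ℤ)
      else 0 := by
  unfold Cyc.subschemeFun
  by_cases h : δ ξ = k
  · rw [if_pos h, if_pos h]
    have : {z : Y | (𝟙 Y : Y ⟶ Y) z = ξ} = {ξ} := by
      ext z
      simp
    rw [this, finsum_mem_singleton]
  · rw [if_neg h, if_neg h]

theorem zeroSectionFun_eq_c1CapFun (Y : Scheme.{u}) (δ : Y → ℤ) (hY : Cyc.IsSetup Y δ)
    (L : Y.Modules) (hL : PicF.IsInvertible L) (k : ℤ) (hdim : ∀ y : Y, δ y ≤ k + 1)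
    (s : L.presheaf.obj (Opposite.op ⊤))
    (hreg : ∀ y : Y, δ y = k → Function.Injective
      (fun a : Y.presheaf.stalk y => a • (L.presheaf.germ ⊤ y trivial) s)) :
    Cyc.zeroSectionFun δ k L s = Cyc.c1CapFun δ L (Cyc.subschemeFun δ (k + 1) (𝟙 Y))
      (fun ξ => Submodule.Quotient.mk ((L.presheaf.germ ⊤ ξ trivial) s)) := by
  classical
  haveI : IsLocallyNoetherian Y := hY.1
  funext x
  simp only [Cyc.zeroSectionFun, Cyc.c1CapFun]
  by_cases hd : δ x = k
  swap
  · rw [if_neg hd]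
    symm
    apply finsum_eq_zero_of_forall_eq_zero
    intro ξ
    rw [subschemeFun_id]
    by_cases hξ : δ ξ = k + 1
    · rw [if_pos hξ]
      simp only [Cyc.secDivFun]
      rw [dif_neg, mul_zero]
      rintro ⟨-, h1⟩
      apply hd
      omega
    · rw [if_neg hξ, zero_mul]
  rw [if_pos hd]
  -- generator
  obtain ⟨W, tW, hxW, hW⟩ := exists_local_generator L hL x
  have ht : ∃ t : L.presheaf.stalk x, Submodule.span (Y.presheaf.stalk x) {t} = ⊤ := by
    refine ⟨L.presheaf.germ W x hxW tW, ?_⟩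
    rw [eq_top_iff]
    intro y _
    obtain ⟨c, hc⟩ := (hW x hxW).2 y
    rw [Submodule.mem_span_singleton]
    exact ⟨c, hc⟩
  rw [dif_pos ht]
  have ht' := Classical.choose_spec ht
  obtain ⟨t', ht'def⟩ : ∃ t', t' = Classical.choose ht := ⟨_, rfl⟩
  rw [← ht'def] at ht' ⊢
  obtain ⟨hbij, hbijξ⟩ := generator_facts L hL x t' ht'
  have hf : ∃ f : Y.presheaf.stalk x, (L.presheaf.germ ⊤ x trivial) s = f • t' := by
    obtain ⟨f, hf⟩ := hbij.2 ((L.presheaf.germ ⊤ x trivial) s)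
    exact ⟨f, hf.symm⟩
  rw [dif_pos hf]
  have hf' := Classical.choose_spec hf
  obtain ⟨f₀, hf₀def⟩ : ∃ f₀, f₀ = Classical.choose hf := ⟨_, rfl⟩
  rw [← hf₀def] at hf' ⊢
  have hf₀nzd : f₀ ∈ nonZeroDivisors (Y.presheaf.stalk x) := by
    rw [mem_nonZeroDivisors_iff_right]
    intro z hz
    apply hreg x hd
    change z • (L.presheaf.germ ⊤ x trivial) s =
      (0 : Y.presheaf.stalk x) • (L.presheaf.germ ⊤ x trivial) s
    rw [hf', smul_smul, hz, zero_smul, zero_smul]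
  have hgerm : ∀ (ξ : Y) (h : ξ ⤳ x), (L.presheaf.germ ⊤ ξ trivial) s =
      Y.presheaf.stalkSpecializes h f₀ • L.presheaf.stalkSpecializes h t' := by
    intro ξ h
    rw [← stalkSpecializes_smul, ← hf']
    exact (ConcreteCategory.congr_hom
      (TopCat.Presheaf.germ_stalkSpecializes L.presheaf (U := ⊤) trivial h) s).symm
  -- facts about primes of the local ring
  have hspq : ∀ q : PrimeSpectrum (Y.presheaf.stalk x), Y.fromSpecStalk x q ⤳ x := fun q =>
    Groth.Agent.Lib.Helper4.DimFormula.fromSpecStalk_specializes x q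
  have hclosed : Y.fromSpecStalk x (IsLocalRing.closedPoint (Y.presheaf.stalk x)) = x :=
    Scheme.fromSpecStalk_closedPoint
  have hne : ∀ q : PrimeSpectrum (Y.presheaf.stalk x),
      q ≠ IsLocalRing.closedPoint (Y.presheaf.stalk x) → Y.fromSpecStalk x q ≠ x := by
    intro q hq h1
    apply hq
    apply (Y.fromSpecStalk x).isEmbedding.injective
    rw [h1, hclosed]
  have hδq : ∀ q : PrimeSpectrum (Y.presheaf.stalk x),
      q ≠ IsLocalRing.closedPoint (Y.presheaf.stalk x) → δ (Y.fromSpecStalk x q) = k + 1 := by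
    intro q hq
    have h1 := (hY.2.2 _ _ (hspq q) (hne q hq)).1
    have h2 := hdim (Y.fromSpecStalk x q)
    omega
  have hminq : ∀ q : PrimeSpectrum (Y.presheaf.stalk x),
      q ≠ IsLocalRing.closedPoint (Y.presheaf.stalk x) →
      q.asIdeal ∈ minimalPrimes (Y.presheaf.stalk x) := by
    intro q hq
    rw [Groth.Agent.Lib.Helper4.DimFormula.mem_minimalPrimes_iff_fromSpecStalk_maximal x q.asIdeal]
    intro x' hx'
    by_contra hne'
    have h1 : δ (Y.fromSpecStalk x q) < δ x' := (hY.2.2 _ _ hx' hne').1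
    have h2 := hdim x'
    have h3 := hδq q hq
    omega
  by_cases hm : maximalIdeal (Y.presheaf.stalk x) ∈ minimalPrimes (Y.presheaf.stalk x)
  · -- dimension zero
    have hall : ∀ q : PrimeSpectrum (Y.presheaf.stalk x),
        q.asIdeal = maximalIdeal (Y.presheaf.stalk x) := by
      intro q
      have hle : q.asIdeal ≤ maximalIdeal (Y.presheaf.stalk x) :=
        IsLocalRing.le_maximalIdeal q.isPrime.ne_top
      exact le_antisymm hle (hm.2 ⟨q.isPrime, bot_le⟩ hle)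
    haveI : Ring.KrullDimLE 0 (Y.presheaf.stalk x) := by
      rw [Ring.krullDimLE_zero_iff]
      intro I hI
      have h1 : I = maximalIdeal (Y.presheaf.stalk x) := hall ⟨I, hI⟩
      rw [h1]
      exact maximalIdeal.isMaximal _
    haveI : IsArtinianRing (Y.presheaf.stalk x) :=
      isArtinianRing_iff_krullDimLE_zero.mpr inferInstance
    have hunit : IsUnit f₀ := IsArtinianRing.isUnit_of_mem_nonZeroDivisors hf₀nzd
    have htop : Ideal.span {f₀} = ⊤ := Ideal.span_singleton_eq_top.mpr hunit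
    haveI : Subsingleton (Y.presheaf.stalk x ⧸ Ideal.span {f₀}) :=
      Ideal.Quotient.subsingleton_iff.mpr htop
    have hlen0 : Module.length (Y.presheaf.stalk x) (Y.presheaf.stalk x ⧸ Ideal.span {f₀}) = 0 :=
      Module.length_eq_zero_iff.mpr inferInstance
    rw [hlen0, ENat.toNat_zero, Nat.cast_zero]
    symm
    apply finsum_eq_zero_of_forall_eq_zero
    intro ξ
    simp only [Cyc.secDivFun]
    rw [dif_neg, mul_zero]
    rintro ⟨hsp, h1⟩
    obtain ⟨𝔭, h𝔭, h𝔭eq⟩ := Groth.Agent.Lib.Helper4.DimFormula.exists_prime_fromSpecStalk_eq hsp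
    have h2 : (⟨𝔭, h𝔭⟩ : PrimeSpectrum (Y.presheaf.stalk x)) =
        IsLocalRing.closedPoint (Y.presheaf.stalk x) := PrimeSpectrum.ext (hall ⟨𝔭, h𝔭⟩)
    rw [h2, hclosed] at h𝔭eq
    rw [← h𝔭eq] at h1
    omega
  -- dimension one
  have hFne : ∀ q : PrimeSpectrum (Y.presheaf.stalk x),
      q.asIdeal ∈ minimalPrimes (Y.presheaf.stalk x) →
      q ≠ IsLocalRing.closedPoint (Y.presheaf.stalk x) := by
    intro q hq h1
    apply hm
    rw [h1] at hq
    exact hq
  have hdimB : ringKrullDim (Y.presheaf.stalk x) = 1 := by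
    obtain ⟨𝔭, h𝔭min, h𝔭dim⟩ :=
      Groth.Agent.Lib.Helper4.DimFormula.exists_minimalPrimes_ringKrullDim_quotient_eq
        (R := Y.presheaf.stalk x)
    haveI : 𝔭.IsPrime := h𝔭min.1.1
    have h𝔭ne : (⟨𝔭, inferInstance⟩ : PrimeSpectrum (Y.presheaf.stalk x)) ≠
        IsLocalRing.closedPoint (Y.presheaf.stalk x) := hFne ⟨𝔭, inferInstance⟩ h𝔭min
    have hδ' := hδq ⟨𝔭, inferInstance⟩ h𝔭ne
    obtain ⟨k', hk', hδk'⟩ := Groth.Agent.Lib.Helper4.DimFormula.isDimFun_eq_add_locQuotDim Y δ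
      hY.2.2 x _ (hspq ⟨𝔭, inferInstance⟩)
    have hk1 : k' = 1 := by omega
    have hker := ker_specMap_fromSpecStalk x 𝔭 (hspq ⟨𝔭, inferInstance⟩)
    change ringKrullDim (Y.presheaf.stalk x ⧸ RingHom.ker _) = _ at hk'
    rw [hker, h𝔭dim, hk1] at hk'
    rw [hk']
    rfl
  obtain ⟨F, hF⟩ : ∃ F : Finset (PrimeSpectrum (Y.presheaf.stalk x)),
      ∀ p, p ∈ F ↔ p.asIdeal ∈ minimalPrimes (Y.presheaf.stalk x) := by
    have hfin : {p : PrimeSpectrum (Y.presheaf.stalk x) |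
        p.asIdeal ∈ minimalPrimes (Y.presheaf.stalk x)}.Finite := by
      refine Set.Finite.preimage ?_ (minimalPrimes.finite_of_isNoetherianRing (Y.presheaf.stalk x))
      intro p _ q _ h
      exact PrimeSpectrum.ext h
    exact ⟨hfin.toFinset, fun p => by simp⟩
  obtain ⟨-, hsum⟩ := length_quot_span_eq_sum hdimB f₀ hf₀nzd F hF
  rw [hsum]
  let e : {q // q ∈ F} → Y := fun q => Y.fromSpecStalk x q.1
  have he_inj : Function.Injective e := by
    intro q q' hqq'
    exact Subtype.ext ((Y.fromSpecStalk x).isEmbedding.injective hqq')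
  have hsupp : (Function.support fun ξ : Y => Cyc.subschemeFun δ (k + 1) (𝟙 Y) ξ *
      Cyc.secDivFun δ L ξ (Submodule.Quotient.mk ((L.presheaf.germ ⊤ ξ trivial) s)) x) ⊆
      ↑(F.attach.image e) := by
    intro ξ hξ
    rw [Function.mem_support] at hξ
    have hc : ξ ⤳ x ∧ δ x + 1 = δ ξ := by
      by_contra hns
      apply hξ
      simp only [Cyc.secDivFun]
      rw [dif_neg hns, mul_zero]
    obtain ⟨𝔭, h𝔭, h𝔭eq⟩ := Groth.Agent.Lib.Helper4.DimFormula.exists_prime_fromSpecStalk_eq hc.1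
    have h𝔭ne : (⟨𝔭, h𝔭⟩ : PrimeSpectrum (Y.presheaf.stalk x)) ≠
        IsLocalRing.closedPoint (Y.presheaf.stalk x) := by
      intro h1
      rw [h1, hclosed] at h𝔭eq
      have h2 := hc.2
      rw [← h𝔭eq] at h2
      omega
    have h𝔭min := hminq ⟨𝔭, h𝔭⟩ h𝔭ne
    rw [Finset.coe_image, Set.mem_image]
    refine ⟨⟨⟨𝔭, h𝔭⟩, (hF _).mpr h𝔭min⟩, Finset.mem_coe.mpr (Finset.mem_attach _ _), ?_⟩
    exact h𝔭eq
  rw [finsum_eq_sum_of_support_subset _ hsupp, Finset.sum_image (fun q _ q' _ h => he_inj h),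
    ← Finset.sum_attach F]
  refine Finset.sum_congr rfl fun q _ => ?_
  have hqmin : q.1.asIdeal ∈ minimalPrimes (Y.presheaf.stalk x) := (hF q.1).mp q.2
  have hqne : q.1 ≠ IsLocalRing.closedPoint (Y.presheaf.stalk x) := hFne q.1 hqmin
  have hδξ : δ (Y.fromSpecStalk x q.1) = k + 1 := hδq q.1 hqne
  have hcond : Y.fromSpecStalk x q.1 ⤳ x ∧ δ x + 1 = δ (Y.fromSpecStalk x q.1) :=
    ⟨hspq q.1, by rw [hδξ, hd]⟩
  have hkerq : RingHom.ker (Cyc.specMap x (Y.fromSpecStalk x q.1) (hspq q.1)) = q.1.asIdeal :=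
    ker_specMap_fromSpecStalk x q.1.asIdeal (hspq q.1)
  have hlen := length_stalk_eq_length_localization x (Y.fromSpecStalk x q.1) (hspq q.1)
    q.1.asIdeal hkerq
  have hdimq := ringKrullDim_locQuot_le_one δ hY.2.2 x (Y.fromSpecStalk x q.1) (hspq q.1) hcond.2
  have hf₀q : Cyc.specMap x (Y.fromSpecStalk x q.1) (hspq q.1) f₀ ≠ 0 := by
    intro h0
    have h1 : f₀ ∈ RingHom.ker (Cyc.specMap x (Y.fromSpecStalk x q.1) (hspq q.1)) :=
      RingHom.mem_ker.mpr h0
    rw [hkerq] at h1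
    exact notMem_nonZeroDivisors_of_mem_mem_minimalPrimes h1 hqmin hf₀nzd
  have hL1 : Module.length (Localization.AtPrime q.1.asIdeal)
      (LocalizedModule q.1.asIdeal.primeCompl (Y.presheaf.stalk x)) =
      Module.length (Y.presheaf.stalk (Y.fromSpecStalk x q.1))
        (Y.presheaf.stalk (Y.fromSpecStalk x q.1)) := by
    rw [hlen, length_localizedModule_self]
  have hL2 : Ring.ord (Y.presheaf.stalk x ⧸ q.1.asIdeal) (Ideal.Quotient.mk q.1.asIdeal f₀) =
      Module.length (Y.presheaf.stalk x) (Y.presheaf.stalk x ⧸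
        (RingHom.ker (Cyc.specMap x (Y.fromSpecStalk x q.1) (hspq q.1)) ⊔ Ideal.span {f₀})) := by
    rw [hkerq]
    exact ord_quotient_mk _ _
  change _ = Cyc.subschemeFun δ (k + 1) (𝟙 Y) (Y.fromSpecStalk x q.1) *
    Cyc.secDivFun δ L (Y.fromSpecStalk x q.1)
      (Submodule.Quotient.mk ((L.presheaf.germ ⊤ (Y.fromSpecStalk x q.1) trivial) s)) x
  rw [subschemeFun_id, if_pos hδξ]
  simp only [Cyc.secDivFun]
  rw [dif_pos hcond, hgerm _ (hspq q.1),
    secOrdAt_eq L _ x (hspq q.1) t' hbij (hbijξ _ (hspq q.1)) f₀,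
    ordAt_specMap x _ (hspq q.1) hdimq f₀ hf₀q, hL1, hL2]

end Groth.Agent.Lib.Helper2.CycSecDiv2
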