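import Mathlib
import Groth.Prelude.Def_Cyc
import Groth.Agent.Lib.Helper2CycOrdSum
import Groth.Agent.Lib.Helper2CycSecDiv
import Groth.Agent.Lib.Helper2QCoh
import Groth.Agent.Lib.Helper2FlatOver

/-!
# Stalks of quasi-coherent modules at generizations are localizations (helper2)

* `spₗ`, `isLocalizedModule_spₗ`: for `ξ ⤳ x` and `F` quasi-coherent, `F_x → F_ξ` is the
  localization of `F_x` at the prime `𝔭_ξ` of `O_{X,x}`.
* `mem_support_iff_nontrivial_stalk`, `length_stalk_eq_length_localizedModule`.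
* `subsingleton_of_injective_smul_of_isFiniteLength`: a finite length module over a local ring on
  which an element of the maximal ideal is injective vanishes.
* `length_of_isBaseChange_quotient`: length of a base change along `A → A/(f)`.
-/

set_option autoImplicit false
set_option linter.style.haveILetI false

universe u

open AlgebraicGeometry CategoryTheory IsLocalRing TensorProduct

open Pointwise

namespace Groth.Agent.Lib.Helper2.CycStalkLoc

open Groth.Agent.Lib.Helper2.CycOrd Groth.Agent.Lib.Helper2.CycOrdSum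
  Groth.Agent.Lib.Helper2.CycSecDiv Groth.Agent.Lib.Helper2

section alg

theorem subsingleton_of_injective_smul_of_isFiniteLength {B N : Type*} [CommRing B] [IsLocalRing B]
    [AddCommGroup N] [Module B N] (hfl : IsFiniteLength B N) (c : B) (hc : c ∈ maximalIdeal B)
    (hinj : Function.Injective (fun n : N => c • n)) : Subsingleton N := by
  rw [isFiniteLength_iff_isNoetherian_isArtinian] at hfl
  obtain ⟨hN, hA⟩ := hfl
  haveI := hN
  haveI := hA
  have hsurj : Function.Surjective (LinearMap.lsmul B N c) :=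
    IsArtinian.surjective_of_injective_endomorphism (LinearMap.lsmul B N c) hinj
  have htop : (⊤ : Submodule B N) ≤ maximalIdeal B • (⊤ : Submodule B N) := by
    intro n _
    obtain ⟨n', rfl⟩ := hsurj n
    exact Submodule.smul_mem_smul hc Submodule.mem_top
  have hbot : (⊤ : Submodule B N) = ⊥ :=
    Submodule.eq_bot_of_le_smul_of_le_jacobson_bot (maximalIdeal B) ⊤ (IsNoetherian.noetherian ⊤)
      htop (IsLocalRing.maximalIdeal_le_jacobson ⊥)
  exact (Submodule.subsingleton_iff B).mp (subsingleton_iff_bot_eq_top.mp hbot.symm)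

theorem length_of_isBaseChange_quotient {A B M N : Type u} [CommRing A] [CommRing B] [Algebra A B]
    [AddCommGroup M] [Module A M] [AddCommGroup N] [Module A N] [Module B N]
    [IsScalarTower A B N] (hsurj : Function.Surjective (algebraMap A B)) (f : A)
    (hker : RingHom.ker (algebraMap A B) = Ideal.span {f}) (g : M →ₗ[A] N)
    (hg : IsBaseChange B g) :
    Module.length B N = Module.length A (M ⧸ f • (⊤ : Submodule A M)) := by
  rw [← Module.length_eq_of_surjective (S := A) (R := B) (M := N) hsurj]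
  have hsurj' : Function.Surjective (Algebra.ofId A B) := hsurj
  have hI : RingHom.ker (Algebra.ofId A B) = Ideal.span {f} := by
    rw [← hker]
    rfl
  let e1 : B ⊗[A] M ≃ₗ[A] N := hg.equiv.restrictScalars A
  let e2 : (A ⧸ RingHom.ker (Algebra.ofId A B)) ≃ₐ[A] B :=
    Ideal.quotientKerAlgEquivOfSurjective hsurj'
  let e3 : (A ⧸ RingHom.ker (Algebra.ofId A B)) ⊗[A] M ≃ₗ[A] B ⊗[A] M :=
    TensorProduct.congr e2.toLinearEquiv (LinearEquiv.refl A M)
  let e4 : (A ⧸ RingHom.ker (Algebra.ofId A B)) ⊗[A] M ≃ₗ[A]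
      M ⧸ (RingHom.ker (Algebra.ofId A B) • (⊤ : Submodule A M)) :=
    TensorProduct.quotTensorEquivQuotSMul M _
  have heq : RingHom.ker (Algebra.ofId A B) • (⊤ : Submodule A M) =
      f • (⊤ : Submodule A M) := by
    rw [hI, Submodule.ideal_span_singleton_smul]
  let e5 : (M ⧸ (RingHom.ker (Algebra.ofId A B) • (⊤ : Submodule A M))) ≃ₗ[A]
      M ⧸ f • (⊤ : Submodule A M) := Submodule.quotEquivOfEq _ _ heq
  exact (e1.symm ≪≫ₗ e3.symm ≪≫ₗ e4 ≪≫ₗ e5).length_eq

end alg

section scheme

variable {X : Scheme.{u}}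

/-- `F_ξ` as a module over `O_{X,x}` for `ξ ⤳ x`. -/
@[reducible] noncomputable def moduleSpec (F : X.Modules) {x ξ : X} (h : ξ ⤳ x) :
    Module (X.presheaf.stalk x) (F.presheaf.stalk ξ) :=
  Module.compHom (F.presheaf.stalk ξ) (X.presheaf.stalkSpecializes h).hom

/-- the specialization map `F_x → F_ξ` as an `O_{X,x}`-linear map. -/
noncomputable def spₗ (F : X.Modules) {x ξ : X} (h : ξ ⤳ x) :
    letI := moduleSpec F h
    F.presheaf.stalk x →ₗ[X.presheaf.stalk x] F.presheaf.stalk ξ :=
  letI := moduleSpec F h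
  { toFun := fun m => F.presheaf.stalkSpecializes h m
    map_add' := fun a b => map_add _ a b
    map_smul' := fun r m => stalkSpecializes_smul F h r m }

theorem spₗ_apply (F : X.Modules) {x ξ : X} (h : ξ ⤳ x) (m : F.presheaf.stalk x) :
    spₗ F h m = F.presheaf.stalkSpecializes h m := rfl

theorem isUnit_stalkSpecializes_of_notMem {x ξ : X} (h : ξ ⤳ x) (a : X.presheaf.stalk x)
    (ha : a ∉ RingHom.ker (Cyc.specMap x ξ h)) : IsUnit (X.presheaf.stalkSpecializes h a) := by
  rw [RingHom.mem_ker] at ha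
  exact (IsLocalRing.residue_ne_zero_iff_isUnit _).mp ha

theorem notMem_of_isUnit_stalkSpecializes {x ξ : X} (h : ξ ⤳ x) (a : X.presheaf.stalk x)
    (ha : IsUnit (X.presheaf.stalkSpecializes h a)) : a ∉ RingHom.ker (Cyc.specMap x ξ h) := by
  intro hmem
  rw [RingHom.mem_ker] at hmem
  exact (IsLocalRing.residue_ne_zero_iff_isUnit _).mpr ha hmem

theorem isLocalizedModule_spₗ (F : X.Modules) [F.IsQuasicoherent] {x ξ : X} (h : ξ ⤳ x) :
    letI := moduleSpec F h
    IsLocalizedModule (RingHom.ker (Cyc.specMap x ξ h)).primeCompl (spₗ F h) := by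
  letI := moduleSpec F h
  obtain ⟨_, ⟨U : X.Opens, hU, rfl⟩, hxU, -⟩ :=
    X.isBasis_affineOpens.exists_subset_of_mem_open (Set.mem_univ x) isOpen_univ
  have hξU : ξ ∈ U := h.mem_open U.isOpen hxU
  have hgermR : ∀ r : Γ(X, U), X.presheaf.stalkSpecializes h (X.presheaf.germ U x hxU r) =
      X.presheaf.germ U ξ hξU r := fun r =>
    ConcreteCategory.congr_hom (TopCat.Presheaf.germ_stalkSpecializes X.presheaf hxU h) r
  have hgermF : ∀ m : Γ(F, U), F.presheaf.stalkSpecializes h (F.presheaf.germ U x hxU m) =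
      F.presheaf.germ U ξ hξU m := fun m =>
    ConcreteCategory.congr_hom (TopCat.Presheaf.germ_stalkSpecializes F.presheaf hxU h) m
  refine ⟨?_, ?_, ?_⟩
  · rintro ⟨a, ha⟩
    obtain ⟨v, hv⟩ := isUnit_stalkSpecializes_of_notMem h a ha
    rw [Module.End.isUnit_iff]
    constructor
    · intro y y' hyy'
      have h' : (v : X.presheaf.stalk ξ) • y = (v : X.presheaf.stalk ξ) • y' := by
        rw [hv]
        exact hyy'
      have := congrArg (fun z => (v⁻¹ : (X.presheaf.stalk ξ)ˣ).1 • z) h'
      simpa [smul_smul] using this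
    · intro y
      refine ⟨(v⁻¹ : (X.presheaf.stalk ξ)ˣ).1 • y, ?_⟩
      change X.presheaf.stalkSpecializes h a • ((v⁻¹ : (X.presheaf.stalk ξ)ˣ).1 • y) = y
      rw [← hv, smul_smul, Units.mul_inv, one_smul]
  · intro y
    obtain ⟨s, m, hs, hsm⟩ := QCoh.exists_smul_eq_germ hU F ξ hξU y
    have hsu : IsUnit (X.presheaf.germ U ξ hξU s) := (Scheme.mem_basicOpen X s ξ hξU).mp hs
    refine ⟨(F.presheaf.germ U x hxU m, ⟨X.presheaf.germ U x hxU s, ?_⟩), ?_⟩
    · apply notMem_of_isUnit_stalkSpecializes h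
      rw [hgermR]
      exact hsu
    · change X.presheaf.stalkSpecializes h (X.presheaf.germ U x hxU s) • y =
        F.presheaf.stalkSpecializes h (F.presheaf.germ U x hxU m)
      rw [hgermR, hgermF]
      exact hsm
  · intro m₁ m₂ hm
    have hm' : F.presheaf.stalkSpecializes h m₁ = F.presheaf.stalkSpecializes h m₂ := hm
    have h0 : F.presheaf.stalkSpecializes h (m₁ - m₂) = 0 := by
      rw [map_sub, sub_eq_zero]
      exact hm'
    obtain ⟨t₀, n₀, ht₀, htn⟩ := QCoh.exists_smul_eq_germ hU F x hxU (m₁ - m₂)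
    have h1 : F.presheaf.germ U ξ hξU n₀ = 0 := by
      rw [← hgermF, ← htn, stalkSpecializes_smul, h0, smul_zero]
    obtain ⟨s₀, hs₀, hs₀n⟩ := QCoh.exists_smul_eq_zero_of_germ_eq_zero hU F ξ hξU n₀ h1
    have h2 : (X.presheaf.germ U x hxU s₀ * X.presheaf.germ U x hxU t₀) • (m₁ - m₂) = 0 := by
      rw [mul_smul, htn, ← QCoh.germ_smul, hs₀n, map_zero]
    have hs₀u : IsUnit (X.presheaf.germ U ξ hξU s₀) := (Scheme.mem_basicOpen X s₀ ξ hξU).mp hs₀
    have ht₀ξ : ξ ∈ X.basicOpen t₀ := h.mem_open (X.basicOpen t₀).isOpen ht₀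
    have ht₀u : IsUnit (X.presheaf.germ U ξ hξU t₀) := (Scheme.mem_basicOpen X t₀ ξ hξU).mp ht₀ξ
    refine ⟨⟨X.presheaf.germ U x hxU s₀ * X.presheaf.germ U x hxU t₀, ?_⟩, ?_⟩
    · apply notMem_of_isUnit_stalkSpecializes h
      rw [map_mul, hgermR, hgermR]
      exact hs₀u.mul ht₀u
    · change (X.presheaf.germ U x hxU s₀ * X.presheaf.germ U x hxU t₀) • m₁ =
        (X.presheaf.germ U x hxU s₀ * X.presheaf.germ U x hxU t₀) • m₂
      rw [← sub_eq_zero, ← smul_sub]
      exact h2

theorem mem_support_iff_nontrivial_stalk (F : X.Modules) [F.IsQuasicoherent] {x ξ : X}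
    (h : ξ ⤳ x) (q : PrimeSpectrum (X.presheaf.stalk x))
    (hq : RingHom.ker (Cyc.specMap x ξ h) = q.asIdeal) :
    q ∈ Module.support (X.presheaf.stalk x) (F.presheaf.stalk x) ↔
      Nontrivial (F.presheaf.stalk ξ) := by
  letI := moduleSpec F h
  haveI := isLocalizedModule_spₗ F h
  obtain ⟨q, hqp⟩ := q
  change RingHom.ker (Cyc.specMap x ξ h) = q at hq
  subst hq
  rw [Module.mem_support_iff]
  exact (IsLocalizedModule.iso (RingHom.ker (Cyc.specMap x ξ h)).primeCompl
    (spₗ F h)).toEquiv.nontrivial_congr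

theorem length_stalk_eq_length_localizedModule (F : X.Modules) [F.IsQuasicoherent] {x ξ : X}
    (h : ξ ⤳ x) (q : Ideal (X.presheaf.stalk x)) [q.IsPrime]
    (hq : RingHom.ker (Cyc.specMap x ξ h) = q) :
    Module.length (Localization.AtPrime q)
        (LocalizedModule q.primeCompl (F.presheaf.stalk x)) =
      Module.length (X.presheaf.stalk ξ) (F.presheaf.stalk ξ) := by
  subst hq
  letI := moduleSpec F h
  letI algB : Algebra (X.presheaf.stalk x) (X.presheaf.stalk ξ) :=
    (X.presheaf.stalkSpecializes h).hom.toAlgebra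
  haveI := isLocalization_atPrime_stalkSpecializes x ξ h
  haveI := isLocalizedModule_spₗ F h
  let e : Localization.AtPrime (RingHom.ker (Cyc.specMap x ξ h)) ≃ₐ[X.presheaf.stalk x]
      X.presheaf.stalk ξ :=
    IsLocalization.algEquiv (RingHom.ker (Cyc.specMap x ξ h)).primeCompl _ _
  letI modN : Module (Localization.AtPrime (RingHom.ker (Cyc.specMap x ξ h)))
      (F.presheaf.stalk ξ) := Module.compHom _ e.toRingEquiv.toRingHom
  haveI : IsScalarTower (X.presheaf.stalk x)
      (Localization.AtPrime (RingHom.ker (Cyc.specMap x ξ h))) (F.presheaf.stalk ξ) :=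
    IsScalarTower.of_algebraMap_smul (fun r n => by
      have h1 : e (algebraMap (X.presheaf.stalk x)
          (Localization.AtPrime (RingHom.ker (Cyc.specMap x ξ h))) r) =
          algebraMap (X.presheaf.stalk x) (X.presheaf.stalk ξ) r := e.commutes r
      exact congrArg (· • n) h1)
  let l : LocalizedModule (RingHom.ker (Cyc.specMap x ξ h)).primeCompl (F.presheaf.stalk x)
      ≃ₗ[X.presheaf.stalk x] F.presheaf.stalk ξ :=
    IsLocalizedModule.iso (RingHom.ker (Cyc.specMap x ξ h)).primeCompl (spₗ F h)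
  have h1 := (LinearEquiv.extendScalarsOfIsLocalization
    (RingHom.ker (Cyc.specMap x ξ h)).primeCompl
    (Localization.AtPrime (RingHom.ker (Cyc.specMap x ξ h))) l).length_eq
  letI algAB : Algebra (Localization.AtPrime (RingHom.ker (Cyc.specMap x ξ h)))
      (X.presheaf.stalk ξ) := e.toRingEquiv.toRingHom.toAlgebra
  haveI : IsScalarTower (Localization.AtPrime (RingHom.ker (Cyc.specMap x ξ h)))
      (X.presheaf.stalk ξ) (F.presheaf.stalk ξ) :=
    IsScalarTower.of_algebraMap_smul (fun r n => rfl)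
  have h2 : Module.length (Localization.AtPrime (RingHom.ker (Cyc.specMap x ξ h)))
      (F.presheaf.stalk ξ) = Module.length (X.presheaf.stalk ξ) (F.presheaf.stalk ξ) :=
    Module.length_eq_of_surjective e.surjective
  rw [h1, h2]

end scheme

end Groth.Agent.Lib.Helper2.CycStalkLoc
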