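import Mathlib
import Groth.Agent.Lib.Helper4DevO
import Groth.Prelude.Def_Cyc

/-!
# Lengths of stalks of coherent modules at maximal points of the support; cycles of modules (helper4)

* `isFiniteLength_stalk_of_generic`: if no proper generization of `y` lies in the support of the coherent module `F`,
  the stalk `F_y` has finite length;
* `sheafFun_add_of_shortExact`: additivity of `Cyc.sheafFun` in short exact sequences of coherent modules whose
  middle term has support of `δ`-dimension `≤ k`.
-/

set_option autoImplicit false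
set_option linter.style.haveILetI false
set_option linter.unusedSectionVars false
universe u
open CategoryTheory Limits AlgebraicGeometry TopologicalSpace Opposite

namespace Groth.Agent.Lib.Helper4.CycLen
open Groth.Agent.Lib.Helper4.Dev Groth.Agent.Lib.Helper23.QCohLocal Groth.Agent.Lib.Helper2
  Groth.Agent.Lib.Helper23.FinType Groth.Agent.Lib.Helper2.FlatOver

variable {X : Scheme.{u}}

theorem isFiniteLength_stalk_of_generic [IsLocallyNoetherian X] (F : X.Modules) (hF : Coh.IsCoh F) (y : X)
    (hgen : ∀ x' : X, x' ⤳ y → x' ∈ CohB1.support F → x' = y) :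
    IsFiniteLength (X.presheaf.stalk y) (F.presheaf.stalk y) := by
  haveI : F.IsQuasicoherent := hF.1
  haveI : SheafOfModules.IsFiniteType (R := X.ringCatSheaf) F := hF.2
  obtain ⟨U, hU0, hy, -⟩ := (Opens.isBasis_iff_nbhd.1 X.isBasis_affineOpens) (Opens.mem_top y)
  have hU : IsAffineOpen U := hU0
  clear hU0
  letI mF := moduleStalkSections F U y hy
  haveI locF : IsLocalizedModule (hU.primeIdealOf ⟨y, hy⟩).asIdeal.primeCompl (germₗ F U y hy) :=
    isLocalizedModule_germ hU F y hy
  haveI : IsNoetherianRing Γ(X, U) := IsLocallyNoetherian.component_noetherian ⟨U, hU⟩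
  haveI : Module.Finite Γ(X, U) Γ(F, U) := finite_of_isFiniteType F hU
  letI alg : Algebra Γ(X, U) (X.presheaf.stalk y) := TopCat.Presheaf.algebra_section_stalk X.presheaf ⟨y, hy⟩
  haveI locR : IsLocalization.AtPrime (X.presheaf.stalk y) (hU.primeIdealOf ⟨y, hy⟩).asIdeal :=
    hU.isLocalization_stalk ⟨y, hy⟩
  haveI : IsScalarTower Γ(X, U) (X.presheaf.stalk y) (F.presheaf.stalk y) :=
    IsScalarTower.of_algebraMap_smul fun r x => rfl
  haveI : Module.Finite (X.presheaf.stalk y) (F.presheaf.stalk y) :=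
    Module.Finite.of_isLocalizedModule (hU.primeIdealOf ⟨y, hy⟩).asIdeal.primeCompl (germₗ F U y hy)
  apply Groth.Agent.Lib.Helper5.isFiniteLength_of_supportDim_le_zero
  apply Groth.Agent.Lib.Helper5.supportDim_le_zero_of_forall_isMaximal
  intro q hq
  rw [Module.mem_support_iff_exists_annihilator] at hq
  obtain ⟨x, hx⟩ := hq
  obtain ⟨s, m, hs, hsm⟩ := QCoh.exists_smul_eq_germ hU F y hy x
  rw [Scheme.mem_basicOpen X s y hy] at hs
  let p : PrimeSpectrum Γ(X, U) := q.comap (algebraMap Γ(X, U) (X.presheaf.stalk y))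
  have hp : QCoh.ann F m ≤ p.asIdeal := by
    intro b hb
    rw [QCoh.mem_ann] at hb
    change algebraMap Γ(X, U) (X.presheaf.stalk y) b ∈ q.asIdeal
    apply hx
    rw [Submodule.mem_annihilator_span_singleton]
    have h3 : X.presheaf.germ U y hy s • (algebraMap Γ(X, U) (X.presheaf.stalk y) b • x) = 0 := by
      rw [smul_comm, hsm]
      change (X.presheaf.germ U y hy b) • _ = 0
      rw [← QCoh.germ_smul, hb, map_zero]
    exact QCoh.germ_smul_eq_zero_of_isUnit hs h3
  have hne := QCoh.germ_fromSpec_ne_zero hU F m p hp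
  have hmem : hU.fromSpec p ∈ CohB1.support F := by
    intro hsub
    exact hne (Subsingleton.elim _ _)
  have hple : p.asIdeal ≤ (hU.primeIdealOf ⟨y, hy⟩).asIdeal := by
    intro b hb
    have hb' : algebraMap Γ(X, U) (X.presheaf.stalk y) b ∈ q.asIdeal := hb
    by_contra hby
    have hu : IsUnit (algebraMap Γ(X, U) (X.presheaf.stalk y) b) :=
      IsLocalization.map_units (X.presheaf.stalk y)
        (⟨b, hby⟩ : (hU.primeIdealOf ⟨y, hy⟩).asIdeal.primeCompl)
    exact q.2.ne_top (Ideal.eq_top_of_isUnit_mem _ hb' hu)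
  have hspec : hU.fromSpec p ⤳ y := by
    have h1 : p ⤳ hU.primeIdealOf ⟨y, hy⟩ := (PrimeSpectrum.le_iff_specializes _ _).1 hple
    have h2 := h1.map hU.fromSpec.continuous
    rwa [hU.fromSpec_primeIdealOf ⟨y, hy⟩] at h2
  have heq := hgen _ hspec hmem
  have hpeq : p = hU.primeIdealOf ⟨y, hy⟩ := by
    rw [← QCoh.primeIdealOf_fromSpec hU p]
    congr 1
    exact Subtype.ext heq
  have hle : IsLocalRing.maximalIdeal (X.presheaf.stalk y) ≤ q.asIdeal := by
    rw [← IsLocalization.AtPrime.map_eq_maximalIdeal (hU.primeIdealOf ⟨y, hy⟩).asIdeal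
      (X.presheaf.stalk y), Ideal.map_le_iff_le_comap]
    intro b hb
    rw [← hpeq] at hb
    exact hb
  have : q.asIdeal = IsLocalRing.maximalIdeal (X.presheaf.stalk y) :=
    ((IsLocalRing.maximalIdeal.isMaximal _).eq_of_le q.2.ne_top hle).symm
  rw [this]
  exact IsLocalRing.maximalIdeal.isMaximal _

theorem sheafFun_add_of_shortExact (δ : X → ℤ) (hX : Cyc.IsSetup X δ) (k : ℤ) (T : ShortComplex X.Modules)
    (hT : T.ShortExact) (h₂ : Coh.IsCoh T.X₂)
    (hdim : ∀ x : X, Nontrivial (T.X₂.presheaf.stalk x) → δ x ≤ k) :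
    Cyc.sheafFun δ k T.X₂ = Cyc.sheafFun δ k T.X₁ + Cyc.sheafFun δ k T.X₃ := by
  haveI : IsLocallyNoetherian X := hX.1
  funext x
  simp only [Cyc.sheafFun, Pi.add_apply]
  split_ifs with hx
  · have hfin : IsFiniteLength (X.presheaf.stalk x) (T.X₂.presheaf.stalk x) := by
      refine isFiniteLength_stalk_of_generic T.X₂ h₂ x ?_
      intro x' hsp hmem
      by_contra hne
      have h1 := (hX.2.2 x' x hsp hne).1
      have h2 := hdim x' (not_subsingleton_iff_nontrivial.1 hmem)
      omega
    rw [← Module.length_ne_top_iff] at hfin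
    have hadd := length_stalk_add T hT x
    rw [hadd] at hfin ⊢
    have h1 : Module.length (X.presheaf.stalk x) (T.X₁.presheaf.stalk x) ≠ ⊤ :=
      fun h => hfin (by rw [h, top_add])
    have h3 : Module.length (X.presheaf.stalk x) (T.X₃.presheaf.stalk x) ≠ ⊤ :=
      fun h => hfin (by rw [h, add_top])
    rw [ENat.toNat_add h1 h3]
    push_cast
    rfl
  · simp

end Groth.Agent.Lib.Helper4.CycLen
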