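import Mathlib
import Groth.Prelude.Def_C1
import Groth.Prelude.Def_Pic
import Groth.Agent.Lib.Helper2CycStalkLoc
import Groth.Agent.Lib.Helper2CycSecDiv2
import Groth.Agent.Lib.Helper2CycC1Unit
import Groth.Agent.Lib.Helper2FibreCrit2
import Groth.Agent.Lib.Helper4CycLen
import Groth.Agent.Lib.Helper26StalkBC

/-!
# `i^*[F]_{k+1} = [i^*F]_k` for the Gysin map of an effective Cartier divisor (helper2)

* `finsum_sheafFun_secDivFun`: at a point `x` with `δ x = k`, the coefficient of
  `c_1(L) ∩ [F]_{k+1}` (computed with `s`) is the length of `F_x / f F_x`, `f` a local equation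
  of `s`.
* `length_stalk_pullback_closedImm`: `length (i^*F)_d = length F_x / f F_x`.
* `c1CapFun_sheafFun_gysin`: the resulting equality of coefficient functions.
-/

set_option autoImplicit false
set_option linter.style.haveILetI false

universe u

open AlgebraicGeometry CategoryTheory IsLocalRing

open Pointwise

namespace Groth.Agent.Lib.Helper2.CycSheafGysin

open Groth.Agent.Lib.Helper2.CycOrd Groth.Agent.Lib.Helper2.CycOrdSum
  Groth.Agent.Lib.Helper2.CycSecDiv Groth.Agent.Lib.Helper2.CycStalkLoc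
  Groth.Agent.Lib.Helper2.CycC1Unit Groth.Agent.Lib.Helper2
  Groth.Agent.Lib.Helper20.InvGen Groth.Agent.Lib.Helper26.StalkBC

set_option maxHeartbeats 3200000 in
theorem finsum_sheafFun_secDivFun (X : Scheme.{u}) (δ : X → ℤ) (hX : Cyc.IsSetup X δ)
    (L : X.Modules) (hL : PicF.IsInvertible L) (s : L.presheaf.obj (Opposite.op ⊤)) (k : ℤ)
    (F : X.Modules) (hF : Coh.IsCoh F)
    (hdim : ∀ x : X, Nontrivial (F.presheaf.stalk x) → δ x ≤ k + 1)
    (hreg : ∀ (x : X) (t : L.presheaf.stalk x) (f : X.presheaf.stalk x),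
      Submodule.span (X.presheaf.stalk x) {t} = ⊤ → (L.presheaf.germ ⊤ x trivial) s = f • t →
        Function.Injective (fun m : F.presheaf.stalk x => f • m))
    (w : (ξ : X) → Cyc.secFibre L ξ) (x : X) (hd : δ x = k)
    (t : L.presheaf.stalk x) (f : X.presheaf.stalk x)
    (ht : Submodule.span (X.presheaf.stalk x) {t} = ⊤)
    (hs : (L.presheaf.germ ⊤ x trivial) s = f • t) :
    ∑ᶠ ξ, Cyc.sheafFun δ (k + 1) F ξ * Cyc.secDivFun δ L ξ (Cyc.gysinChoice L s w ξ) x =
      ((Module.length (X.presheaf.stalk x) (F.presheaf.stalk x ⧸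
        f • (⊤ : Submodule (X.presheaf.stalk x) (F.presheaf.stalk x)))).toNat : ℤ) := by
  classical
  haveI : IsLocallyNoetherian X := hX.1
  haveI : F.IsQuasicoherent := hF.1
  haveI : SheafOfModules.IsFiniteType (R := X.ringCatSheaf) F := hF.2
  haveI : Module.Finite (X.presheaf.stalk x) (F.presheaf.stalk x) :=
    Groth.Agent.Lib.Helper2.FibreCrit.finite_stalk F x
  obtain ⟨hbij, hbijξ⟩ := generator_facts L hL x t ht
  have hgerm : ∀ (ξ : X) (h : ξ ⤳ x), (L.presheaf.germ ⊤ ξ trivial) s =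
      X.presheaf.stalkSpecializes h f • L.presheaf.stalkSpecializes h t := by
    intro ξ h
    rw [← stalkSpecializes_smul, ← hs]
    exact (ConcreteCategory.congr_hom
      (TopCat.Presheaf.germ_stalkSpecializes L.presheaf (U := ⊤) trivial h) s).symm
  have hspq : ∀ q : PrimeSpectrum (X.presheaf.stalk x), X.fromSpecStalk x q ⤳ x := fun q =>
    Groth.Agent.Lib.Helper4.DimFormula.fromSpecStalk_specializes x q
  have hclosed : X.fromSpecStalk x (IsLocalRing.closedPoint (X.presheaf.stalk x)) = x :=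
    Scheme.fromSpecStalk_closedPoint
  have hne : ∀ q : PrimeSpectrum (X.presheaf.stalk x),
      q ≠ IsLocalRing.closedPoint (X.presheaf.stalk x) → X.fromSpecStalk x q ≠ x := by
    intro q hq h1
    apply hq
    apply (X.fromSpecStalk x).isEmbedding.injective
    rw [h1, hclosed]
  have hkerq : ∀ q : PrimeSpectrum (X.presheaf.stalk x),
      RingHom.ker (Cyc.specMap x (X.fromSpecStalk x q) (hspq q)) = q.asIdeal := fun q =>
    ker_specMap_fromSpecStalk x q.asIdeal (hspq q)
  have hsuppq : ∀ q : PrimeSpectrum (X.presheaf.stalk x),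
      q ∈ Module.support (X.presheaf.stalk x) (F.presheaf.stalk x) ↔
        Nontrivial (F.presheaf.stalk (X.fromSpecStalk x q)) := fun q =>
    mem_support_iff_nontrivial_stalk F (hspq q) q (hkerq q)
  have hδq : ∀ q : PrimeSpectrum (X.presheaf.stalk x),
      q ∈ Module.support (X.presheaf.stalk x) (F.presheaf.stalk x) →
      q ≠ IsLocalRing.closedPoint (X.presheaf.stalk x) → δ (X.fromSpecStalk x q) = k + 1 := by
    intro q hq hqc
    have h1 := (hX.2.2 _ _ (hspq q) (hne q hqc)).1
    have h2 := hdim (X.fromSpecStalk x q) ((hsuppq q).mp hq)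
    omega
  have hminq : ∀ q q' : PrimeSpectrum (X.presheaf.stalk x),
      q ∈ Module.support (X.presheaf.stalk x) (F.presheaf.stalk x) →
      q' ∈ Module.support (X.presheaf.stalk x) (F.presheaf.stalk x) →
      q' ≤ q → q ≠ IsLocalRing.closedPoint (X.presheaf.stalk x) → q' = q := by
    intro q q' hq hq' hle hqc
    by_contra hne'
    have hsp : X.fromSpecStalk x q' ⤳ X.fromSpecStalk x q :=
      (Groth.Agent.Lib.Helper4.DimFormula.fromSpecStalk_specializes_iff x q'.asIdeal
        q.asIdeal).mpr hle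
    have hne2 : X.fromSpecStalk x q' ≠ X.fromSpecStalk x q := fun h1 =>
      hne' ((X.fromSpecStalk x).isEmbedding.injective h1)
    have h1 := (hX.2.2 _ _ hsp hne2).1
    have h2 := hdim (X.fromSpecStalk x q') ((hsuppq q').mp hq')
    have h3 := hδq q hq hqc
    omega
  have hfnot : ∀ q : PrimeSpectrum (X.presheaf.stalk x),
      q ∈ Module.support (X.presheaf.stalk x) (F.presheaf.stalk x) →
      q ≠ IsLocalRing.closedPoint (X.presheaf.stalk x) → f ∉ q.asIdeal ∧
        IsFiniteLength (X.presheaf.stalk (X.fromSpecStalk x q))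
          (F.presheaf.stalk (X.fromSpecStalk x q)) := by
    intro q hq hqc
    have hnt : Nontrivial (F.presheaf.stalk (X.fromSpecStalk x q)) := (hsuppq q).mp hq
    have hgen : ∀ x' : X, x' ⤳ X.fromSpecStalk x q → x' ∈ CohB1.support F →
        x' = X.fromSpecStalk x q := by
      intro x' hx' hx'F
      obtain ⟨𝔭, h𝔭, rfl⟩ := Groth.Agent.Lib.Helper4.DimFormula.exists_prime_fromSpecStalk_eq
        (hx'.trans (hspq q))
      have hle : (⟨𝔭, h𝔭⟩ : PrimeSpectrum (X.presheaf.stalk x)) ≤ q :=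
        (Groth.Agent.Lib.Helper4.DimFormula.fromSpecStalk_specializes_iff x 𝔭 q.asIdeal).mp hx'
      have hmem : (⟨𝔭, h𝔭⟩ : PrimeSpectrum (X.presheaf.stalk x)) ∈
          Module.support (X.presheaf.stalk x) (F.presheaf.stalk x) := by
        rw [hsuppq]
        exact not_subsingleton_iff_nontrivial.mp hx'F
      rw [hminq q ⟨𝔭, h𝔭⟩ hq hmem hle hqc]
    have hfl := Groth.Agent.Lib.Helper4.CycLen.isFiniteLength_stalk_of_generic F hF _ hgen
    refine ⟨?_, hfl⟩
    intro hfq
    have hspan : Submodule.span (X.presheaf.stalk (X.fromSpecStalk x q))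
        {L.presheaf.stalkSpecializes (hspq q) t} = ⊤ := by
      rw [eq_top_iff]
      intro y _
      obtain ⟨c, hc⟩ := (hbijξ _ (hspq q)).2 y
      rw [Submodule.mem_span_singleton]
      exact ⟨c, hc⟩
    have hinj := hreg (X.fromSpecStalk x q) (L.presheaf.stalkSpecializes (hspq q) t)
      (X.presheaf.stalkSpecializes (hspq q) f) hspan (hgerm _ (hspq q))
    have hmem : X.presheaf.stalkSpecializes (hspq q) f ∈
        maximalIdeal (X.presheaf.stalk (X.fromSpecStalk x q)) := by
      have h1 : f ∈ RingHom.ker (Cyc.specMap x (X.fromSpecStalk x q) (hspq q)) := by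
        rw [hkerq q]
        exact hfq
      rw [RingHom.mem_ker] at h1
      exact (IsLocalRing.residue_eq_zero_iff _).mp h1
    haveI := subsingleton_of_injective_smul_of_isFiniteLength hfl _ hmem hinj
    exact false_of_nontrivial_of_subsingleton (F.presheaf.stalk (X.fromSpecStalk x q))
  have h1 : Module.supportDim (X.presheaf.stalk x) (F.presheaf.stalk x) ≤ 1 := by
    rw [Module.supportDim, Order.krullDim_le_one_iff]
    rintro ⟨q, hq⟩
    by_cases hqc : q = IsLocalRing.closedPoint (X.presheaf.stalk x)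
    · right
      rintro ⟨q', hq'⟩ _
      show q' ≤ q
      rw [hqc]
      exact IsLocalRing.le_maximalIdeal q'.isPrime.ne_top
    · left
      rintro ⟨q', hq'⟩ hle
      have : q' = q := hminq q q' hq hq' hle hqc
      subst this
      exact le_refl _
  have h0 : Module.supportDim (X.presheaf.stalk x) (F.presheaf.stalk x ⧸
      f • (⊤ : Submodule (X.presheaf.stalk x) (F.presheaf.stalk x))) ≤ 0 := by
    apply Groth.Agent.Lib.Helper5.supportDim_le_zero_of_forall_isMaximal
    intro p hp
    have hp' := (Set.ext_iff.mp (Module.support_quotSMulTop (R := X.presheaf.stalk x)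
      (M := F.presheaf.stalk x) f) p).mp hp
    by_cases hpc : p = IsLocalRing.closedPoint (X.presheaf.stalk x)
    · rw [hpc]
      exact IsLocalRing.maximalIdeal.isMaximal _
    · exfalso
      apply (hfnot p hp'.1 hpc).1
      exact (PrimeSpectrum.mem_zeroLocus _ _).mp hp'.2 (Set.mem_singleton f)
  have res := Groth.Agent.S1833.result (X.presheaf.stalk x) (F.presheaf.stalk x) f h1 h0
  have hinjx := hreg x t f ht hs
  have hker : LinearMap.ker (LinearMap.lsmul (X.presheaf.stalk x) (F.presheaf.stalk x) f) = ⊥ :=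
    LinearMap.ker_eq_bot.mpr hinjx
  rw [hker, Module.length_bot, zero_add] at res
  have hGfin : {q : PrimeSpectrum (X.presheaf.stalk x) |
      q ∈ Module.support (X.presheaf.stalk x) (F.presheaf.stalk x) ∧
        q.asIdeal ≠ IsLocalRing.maximalIdeal (X.presheaf.stalk x)}.Finite := by
    have hfin0 : {q : PrimeSpectrum (X.presheaf.stalk x) | q.asIdeal ∈
        (Module.annihilator (X.presheaf.stalk x) (F.presheaf.stalk x)).minimalPrimes}.Finite := by
      refine Set.Finite.preimage ?_ (Ideal.finite_minimalPrimes_of_isNoetherianRing _ _)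
      intro p _ q _ h
      exact PrimeSpectrum.ext h
    refine hfin0.subset ?_
    rintro q ⟨hq, hqm⟩
    have hqc : q ≠ IsLocalRing.closedPoint (X.presheaf.stalk x) := fun h =>
      hqm (by rw [h]; rfl)
    refine ⟨⟨q.isPrime, Module.annihilator_le_of_mem_support hq⟩, ?_⟩
    rintro q' ⟨hq'p, hq'ann⟩ hle
    have hq'mem : (⟨q', hq'p⟩ : PrimeSpectrum (X.presheaf.stalk x)) ∈
        Module.support (X.presheaf.stalk x) (F.presheaf.stalk x) :=
      Module.mem_support_iff_of_finite.mpr hq'ann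
    have := hminq q ⟨q', hq'p⟩ hq hq'mem hle hqc
    exact le_of_eq (congrArg PrimeSpectrum.asIdeal this).symm
  obtain ⟨G, hG⟩ : ∃ G : Finset (PrimeSpectrum (X.presheaf.stalk x)), ∀ q, q ∈ G ↔
      (q ∈ Module.support (X.presheaf.stalk x) (F.presheaf.stalk x) ∧
        q.asIdeal ≠ IsLocalRing.maximalIdeal (X.presheaf.stalk x)) :=
    ⟨hGfin.toFinset, fun q => by simp⟩
  have hset : {p : PrimeSpectrum (X.presheaf.stalk x) |
      p ∈ Module.support (X.presheaf.stalk x) (F.presheaf.stalk x) ∧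
        p.asIdeal ≠ IsLocalRing.maximalIdeal (X.presheaf.stalk x)} =
      (G : Set (PrimeSpectrum (X.presheaf.stalk x))) := by
    ext p
    rw [Set.mem_ofPred_eq, Finset.mem_coe, hG]
  have hsum : (∑ᶠ (p : PrimeSpectrum (X.presheaf.stalk x))
      (_ : p ∈ Module.support (X.presheaf.stalk x) (F.presheaf.stalk x) ∧
        p.asIdeal ≠ IsLocalRing.maximalIdeal (X.presheaf.stalk x)),
        Ring.ord (X.presheaf.stalk x ⧸ p.asIdeal) (Ideal.Quotient.mk p.asIdeal f) *
          Module.length (Localization.AtPrime p.asIdeal)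
            (LocalizedModule p.asIdeal.primeCompl (F.presheaf.stalk x))) =
      ∑ p ∈ G, Ring.ord (X.presheaf.stalk x ⧸ p.asIdeal) (Ideal.Quotient.mk p.asIdeal f) *
          Module.length (Localization.AtPrime p.asIdeal)
            (LocalizedModule p.asIdeal.primeCompl (F.presheaf.stalk x)) := by
    have h2 : (∑ᶠ (p : PrimeSpectrum (X.presheaf.stalk x))
        (_ : p ∈ Module.support (X.presheaf.stalk x) (F.presheaf.stalk x) ∧
          p.asIdeal ≠ IsLocalRing.maximalIdeal (X.presheaf.stalk x)),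
          Ring.ord (X.presheaf.stalk x ⧸ p.asIdeal) (Ideal.Quotient.mk p.asIdeal f) *
            Module.length (Localization.AtPrime p.asIdeal)
              (LocalizedModule p.asIdeal.primeCompl (F.presheaf.stalk x))) =
        ∑ᶠ p ∈ {p : PrimeSpectrum (X.presheaf.stalk x) |
          p ∈ Module.support (X.presheaf.stalk x) (F.presheaf.stalk x) ∧
            p.asIdeal ≠ IsLocalRing.maximalIdeal (X.presheaf.stalk x)},
            Ring.ord (X.presheaf.stalk x ⧸ p.asIdeal) (Ideal.Quotient.mk p.asIdeal f) *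
              Module.length (Localization.AtPrime p.asIdeal)
                (LocalizedModule p.asIdeal.primeCompl (F.presheaf.stalk x)) := rfl
    rw [h2, hset, finsum_mem_coe_finset]
  rw [hsum] at res
  -- facts for the primes in `G`
  have hGc : ∀ q ∈ G, q ≠ IsLocalRing.closedPoint (X.presheaf.stalk x) := by
    intro q hq h
    apply ((hG q).mp hq).2
    rw [h]
    rfl
  have hcondG : ∀ q ∈ G, X.fromSpecStalk x q ⤳ x ∧ δ x + 1 = δ (X.fromSpecStalk x q) := by
    intro q hq
    refine ⟨hspq q, ?_⟩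
    rw [hδq q ((hG q).mp hq).1 (hGc q hq), hd]
  have hL1 : ∀ q ∈ G, Module.length (Localization.AtPrime q.asIdeal)
      (LocalizedModule q.asIdeal.primeCompl (F.presheaf.stalk x)) =
      Module.length (X.presheaf.stalk (X.fromSpecStalk x q))
        (F.presheaf.stalk (X.fromSpecStalk x q)) := fun q _ =>
    length_stalk_eq_length_localizedModule F (hspq q) q.asIdeal (hkerq q)
  have hL2 : ∀ q ∈ G, Ring.ord (X.presheaf.stalk x ⧸ q.asIdeal)
      (Ideal.Quotient.mk q.asIdeal f) =
      Module.length (X.presheaf.stalk x) (X.presheaf.stalk x ⧸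
        (RingHom.ker (Cyc.specMap x (X.fromSpecStalk x q) (hspq q)) ⊔ Ideal.span {f})) := by
    intro q _
    rw [hkerq q]
    exact ord_quotient_mk _ _
  have hterm : ∀ p ∈ G, Ring.ord (X.presheaf.stalk x ⧸ p.asIdeal)
      (Ideal.Quotient.mk p.asIdeal f) *
      Module.length (Localization.AtPrime p.asIdeal)
        (LocalizedModule p.asIdeal.primeCompl (F.presheaf.stalk x)) ≠ ⊤ := by
    intro p hp
    obtain ⟨hfp, hfl⟩ := hfnot p ((hG p).mp hp).1 (hGc p hp)
    have hdimq := ringKrullDim_locQuot_le_one δ hX.2.2 x (X.fromSpecStalk x p) (hspq p)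
      (hcondG p hp).2
    have hdimq' : ringKrullDim (X.presheaf.stalk x ⧸ p.asIdeal) ≤ 1 := by
      have h3 := hdimq
      change ringKrullDim (X.presheaf.stalk x ⧸ RingHom.ker _) ≤ 1 at h3
      rw [hkerq p] at h3
      exact h3
    haveI : Ring.KrullDimLE 1 (X.presheaf.stalk x ⧸ p.asIdeal) := Ring.krullDimLE_iff.mpr hdimq'
    have ha' : Ideal.Quotient.mk p.asIdeal f ≠ 0 := by
      rw [Ne, Ideal.Quotient.eq_zero_iff_mem]
      exact hfp
    have ho : Ring.ord (X.presheaf.stalk x ⧸ p.asIdeal) (Ideal.Quotient.mk p.asIdeal f) ≠ ⊤ :=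
      Ring.ord_ne_top (mem_nonZeroDivisors_of_ne_zero ha')
    have hl : Module.length (Localization.AtPrime p.asIdeal)
        (LocalizedModule p.asIdeal.primeCompl (F.presheaf.stalk x)) ≠ ⊤ := by
      rw [hL1 p hp]
      exact Module.length_ne_top_iff.mpr hfl
    exact WithTop.mul_ne_top ho hl
  have hres : ((Module.length (X.presheaf.stalk x) (F.presheaf.stalk x ⧸
      f • (⊤ : Submodule (X.presheaf.stalk x) (F.presheaf.stalk x)))).toNat : ℤ) =
      ∑ p ∈ G, ((Ring.ord (X.presheaf.stalk x ⧸ p.asIdeal)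
        (Ideal.Quotient.mk p.asIdeal f)).toNat : ℤ) *
        ((Module.length (Localization.AtPrime p.asIdeal)
          (LocalizedModule p.asIdeal.primeCompl (F.presheaf.stalk x))).toNat : ℤ) := by
    rw [res, ENat.toNat_sum hterm]
    push_cast
    refine Finset.sum_congr rfl fun p _ => ?_
    rw [ENat.toNat_mul]
    push_cast
    rfl
  rw [hres]
  let e : {q // q ∈ G} → X := fun q => X.fromSpecStalk x q.1
  have he_inj : Function.Injective e := by
    intro q q' hqq'
    exact Subtype.ext ((X.fromSpecStalk x).isEmbedding.injective hqq')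
  have hsupp : (Function.support fun ξ : X => Cyc.sheafFun δ (k + 1) F ξ *
      Cyc.secDivFun δ L ξ (Cyc.gysinChoice L s w ξ) x) ⊆ ↑(G.attach.image e) := by
    intro ξ hξ
    rw [Function.mem_support] at hξ
    have h1' : Cyc.sheafFun δ (k + 1) F ξ ≠ 0 := left_ne_zero_of_mul hξ
    have hnt : Nontrivial (F.presheaf.stalk ξ) := by
      by_contra hns
      rw [not_nontrivial_iff_subsingleton] at hns
      apply h1'
      simp only [Cyc.sheafFun]
      have h0' : Module.length (X.presheaf.stalk ξ) (F.presheaf.stalk ξ) = 0 :=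
        Module.length_eq_zero_iff.mpr hns
      rw [h0']
      simp
    have hc : ξ ⤳ x ∧ δ x + 1 = δ ξ := by
      by_contra hns
      apply hξ
      simp only [Cyc.secDivFun]
      rw [dif_neg hns, mul_zero]
    obtain ⟨hcsp, hcδ⟩ := hc
    obtain ⟨𝔭, h𝔭, rfl⟩ := Groth.Agent.Lib.Helper4.DimFormula.exists_prime_fromSpecStalk_eq hcsp
    have hqS : (⟨𝔭, h𝔭⟩ : PrimeSpectrum (X.presheaf.stalk x)) ∈
        Module.support (X.presheaf.stalk x) (F.presheaf.stalk x) := (hsuppq _).mpr hnt
    have hqm : (⟨𝔭, h𝔭⟩ : PrimeSpectrum (X.presheaf.stalk x)).asIdeal ≠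
        IsLocalRing.maximalIdeal (X.presheaf.stalk x) := by
      intro h1
      have h2 : (⟨𝔭, h𝔭⟩ : PrimeSpectrum (X.presheaf.stalk x)) =
          IsLocalRing.closedPoint (X.presheaf.stalk x) := PrimeSpectrum.ext h1
      rw [h2, hclosed] at hcδ
      omega
    rw [Finset.coe_image, Set.mem_image]
    exact ⟨⟨⟨𝔭, h𝔭⟩, (hG _).mpr ⟨hqS, hqm⟩⟩, Finset.mem_coe.mpr (Finset.mem_attach _ _), rfl⟩
  rw [finsum_eq_sum_of_support_subset _ hsupp, Finset.sum_image (fun q _ q' _ h => he_inj h),
    ← Finset.sum_attach G]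
  refine Finset.sum_congr rfl fun q _ => ?_
  obtain ⟨hfq, hfl⟩ := hfnot q.1 ((hG q.1).mp q.2).1 (hGc q.1 q.2)
  have hδξ : δ (X.fromSpecStalk x q.1) = k + 1 := hδq q.1 ((hG q.1).mp q.2).1 (hGc q.1 q.2)
  have hcond := hcondG q.1 q.2
  have hdimq := ringKrullDim_locQuot_le_one δ hX.2.2 x (X.fromSpecStalk x q.1) (hspq q.1) hcond.2
  have hfker : f ∉ RingHom.ker (Cyc.specMap x (X.fromSpecStalk x q.1) (hspq q.1)) := by
    rw [hkerq q.1]
    exact hfq
  have hf₀q : Cyc.specMap x (X.fromSpecStalk x q.1) (hspq q.1) f ≠ 0 := fun h0' =>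
    hfker (RingHom.mem_ker.mpr h0')
  have hu : IsUnit (X.presheaf.stalkSpecializes (hspq q.1) f) :=
    isUnit_stalkSpecializes_of_notMem (hspq q.1) f hfker
  have hmkne : (Submodule.Quotient.mk ((L.presheaf.germ ⊤ (X.fromSpecStalk x q.1) trivial) s) :
      Cyc.secFibre L (X.fromSpecStalk x q.1)) ≠ 0 := by
    rw [hgerm _ (hspq q.1)]
    exact mk_ne_zero_of_bijective L _ _ (bijective_smul_unit _ (hbijξ _ (hspq q.1)) _ hu)
  have hgc : Cyc.gysinChoice L s w (X.fromSpecStalk x q.1) =
      Submodule.Quotient.mk (X.presheaf.stalkSpecializes (hspq q.1) f •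
        L.presheaf.stalkSpecializes (hspq q.1) t) := by
    unfold Cyc.gysinChoice
    rw [if_pos hmkne, hgerm _ (hspq q.1)]
  change Cyc.sheafFun δ (k + 1) F (X.fromSpecStalk x q.1) *
    Cyc.secDivFun δ L (X.fromSpecStalk x q.1)
      (Cyc.gysinChoice L s w (X.fromSpecStalk x q.1)) x = _
  simp only [Cyc.sheafFun, Cyc.secDivFun]
  rw [if_pos hδξ, dif_pos hcond, hgc,
    secOrdAt_eq L _ x (hspq q.1) t hbij (hbijξ _ (hspq q.1)) f,
    ordAt_specMap x _ (hspq q.1) hdimq f hf₀q, hL1 q.1 q.2, hL2 q.1 q.2]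
  ring

theorem length_stalk_pullback_closedImm {X D : Scheme.{u}} (i : D ⟶ X) [IsClosedImmersion i]
    (F : X.Modules) [F.IsQuasicoherent] (d : D) (f : X.presheaf.stalk (i d))
    (hker : RingHom.ker (i.stalkMap d).hom = Ideal.span {f}) :
    Module.length (D.presheaf.stalk d)
        (((Scheme.Modules.pullback i).obj F).presheaf.stalk d) =
      Module.length (X.presheaf.stalk (i d)) (F.presheaf.stalk (i d) ⧸
        f • (⊤ : Submodule (X.presheaf.stalk (i d)) (F.presheaf.stalk (i d)))) := by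
  letI : Algebra (X.presheaf.stalk (i d)) (D.presheaf.stalk d) := (i.stalkMap d).hom.toAlgebra
  letI := FlatMod.moduleStalkOver i ((Scheme.Modules.pullback i).obj F) d
  obtain ⟨hT, hbc⟩ := isBaseChange_stalkUnit i F d
  haveI := hT
  exact length_of_isBaseChange_quotient (i.stalkMap_surjective d) f hker (stalkUnitₗ i F d) hbc

/-- `i^*[F]_{k+1} = [i^*F]_k` as coefficient functions. -/
theorem c1CapFun_sheafFun_gysin (X D : Scheme.{u}) (δ : X → ℤ) (hX : Cyc.IsSetup X δ)
    (L : X.Modules) (hL : PicF.IsInvertible L) (s : L.presheaf.obj (Opposite.op ⊤)) (i : D ⟶ X)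
    [IsClosedImmersion i] (hD : Cyc.IsZeroSchemeOf i L s) (k : ℤ) (F : X.Modules)
    (hF : Coh.IsCoh F) (hdim : ∀ x : X, Nontrivial (F.presheaf.stalk x) → δ x ≤ k + 1)
    (hreg : ∀ (x : X) (t : L.presheaf.stalk x) (f : X.presheaf.stalk x),
      Submodule.span (X.presheaf.stalk x) {t} = ⊤ → (L.presheaf.germ ⊤ x trivial) s = f • t →
        Function.Injective (fun m : F.presheaf.stalk x => f • m))
    (w : (ξ : X) → Cyc.secFibre L ξ) (d : D) :
    Cyc.c1CapFun δ L (Cyc.sheafFun δ (k + 1) F) (Cyc.gysinChoice L s w) (i d) =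
      Cyc.sheafFun (fun d => δ (i d)) k ((Scheme.Modules.pullback i).obj F) d := by
  classical
  haveI : F.IsQuasicoherent := hF.1
  have hunf : Cyc.c1CapFun δ L (Cyc.sheafFun δ (k + 1) F) (Cyc.gysinChoice L s w) (i d) =
      ∑ᶠ ξ, Cyc.sheafFun δ (k + 1) F ξ *
        Cyc.secDivFun δ L ξ (Cyc.gysinChoice L s w ξ) (i d) := rfl
  rw [hunf]
  by_cases hd : δ (i d) = k
  · obtain ⟨t, f, ht, hs, hker⟩ := hD.2 d
    rw [finsum_sheafFun_secDivFun X δ hX L hL s k F hF hdim hreg w (i d) hd t f ht hs]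
    simp only [Cyc.sheafFun]
    rw [if_pos hd, length_stalk_pullback_closedImm i F d f hker]
  · simp only [Cyc.sheafFun]
    rw [if_neg hd]
    apply finsum_eq_zero_of_forall_eq_zero
    intro ξ
    by_cases hξ : δ ξ = k + 1
    · simp only [Cyc.secDivFun]
      rw [dif_neg, mul_zero]
      rintro ⟨-, h1⟩
      apply hd
      omega
    · rw [if_neg hξ, zero_mul]

end Groth.Agent.Lib.Helper2.CycSheafGysin
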