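import Mathlib
import Groth.Agent.Lib.Helper2CycGysinSelf
import Groth.Agent.Lib.Helper2CycSecDiv2

/-!
# `c_1(L) ∩ [Y]_{k+1} ∼ ι_*[Z(s)]_k` for a closed subscheme `ι : Y → X` (helper2)
-/

set_option autoImplicit false
set_option linter.style.haveILetI false

universe u

open AlgebraicGeometry CategoryTheory IsLocalRing

namespace Groth.Agent.Lib.Helper2.CycZeroSec

open Groth.Agent.Lib.Helper2.CycOrd Groth.Agent.Lib.Helper2.CycClosedImm
  Groth.Agent.Lib.Helper2.CycC1 Groth.Agent.Lib.Helper2.CycC1Pull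
  Groth.Agent.Lib.Helper2.CycGysinSelf Groth.Agent.Lib.Helper2.CycSecDiv2
  Groth.Agent.Lib.Helper2.CycRat

variable {X Y : Scheme.{u}}

/-- a function supported on maximal points of a locally Noetherian scheme is a cycle. -/
theorem exists_cycle_of_support_maximal [IsLocallyNoetherian Y] (F : Y → ℤ)
    (hF : ∀ η, F η ≠ 0 → ∀ η', η' ⤳ η → η' = η) : ∃ β : AlgebraicCycle Y ℤ, ⇑β = F := by
  refine ⟨⟨F, fun _ _ => Set.mem_univ _, fun y _ => ?_⟩, rfl⟩
  obtain ⟨U, hU, hyU, -⟩ := exists_isAffineOpen_mem_and_subset (x := y) (U := ⊤) trivial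
  refine ⟨U, U.isOpen.mem_nhds hyU, ?_⟩
  refine (finite_maximal_in_closed Y U hU Set.univ isClosed_univ).subset ?_
  rintro η ⟨hηU, hη⟩
  exact ⟨hηU, Set.mem_univ _, fun η' _ h => hF η hη η' h⟩

/-- restriction of a cycle to a closed subscheme. -/
theorem exists_cycle_comp (ι : Y ⟶ X) [IsClosedImmersion ι] (γ : AlgebraicCycle X ℤ) :
    ∃ ζ' : AlgebraicCycle Y ℤ, ∀ y, ζ' y = γ (ι y) := by
  refine ⟨⟨fun y => γ (ι y), fun _ _ => Set.mem_univ _, fun y _ => ?_⟩, fun y => rfl⟩
  obtain ⟨V, hV, hfin⟩ := γ.supportLocallyFiniteWithinDomain' (ι y) (Set.mem_univ _)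
  refine ⟨(ι : Y → X) ⁻¹' V, ι.continuous.continuousAt.preimage_mem_nhds hV, ?_⟩
  refine (hfin.preimage ι.isEmbedding.injective.injOn).subset ?_
  rintro z ⟨hz1, hz2⟩
  exact ⟨hz1, hz2⟩

theorem c1Cap_subscheme_ratEquiv_zeroSection (X Y : Scheme.{u}) (δ : X → ℤ)
    (hX : Cyc.IsSetup X δ) (L : X.Modules) (hL : PicF.IsInvertible L) (ι : Y ⟶ X)
    [IsClosedImmersion ι] (k : ℤ) (hY : ∀ y : Y, δ (ι y) ≤ k + 1)
    (s : ((Scheme.Modules.pullback ι).obj L).presheaf.obj (Opposite.op ⊤))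
    (hZ : ∀ y : Y, (((Scheme.Modules.pullback ι).obj L).presheaf.germ ⊤ y trivial) s ∈
      IsLocalRing.maximalIdeal (Y.presheaf.stalk y) •
        (⊤ : Submodule (Y.presheaf.stalk y) (((Scheme.Modules.pullback ι).obj L).presheaf.stalk y)) →
      δ (ι y) ≤ k)
    (hreg : ∀ y : Y, δ (ι y) = k → Function.Injective (fun a : Y.presheaf.stalk y =>
      a • (((Scheme.Modules.pullback ι).obj L).presheaf.germ ⊤ y trivial) s))
    (v : (ξ : X) → Cyc.secFibre L ξ) (hv : ∀ ξ, v ξ ≠ 0) (γ : AlgebraicCycle X ℤ)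
    (hγ : ⇑γ = Cyc.c1CapFun δ L (Cyc.subschemeFun δ (k + 1) ι) v) (ζ : AlgebraicCycle Y ℤ)
    (hζ : ⇑ζ = Cyc.zeroSectionFun (fun y => δ (ι y)) k ((Scheme.Modules.pullback ι).obj L) s) :
    Cyc.RatEquiv δ k γ (AlgebraicCycle.map ι (fun y => δ (ι y)) δ ζ) := by
  classical
  haveI : IsLocallyNoetherian X := hX.1
  have hYs := isSetup_closedImm ι δ hX
  haveI : IsLocallyNoetherian Y := hYs.1
  have hLY := Groth.Agent.Lib.Helper23.PB.isInvertible_pullback ι L hL
  -- `[Y]_{k+1}` as a cycle on `Y`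
  obtain ⟨β, hβ⟩ := exists_cycle_of_support_maximal
    (Cyc.subschemeFun (fun y => δ (ι y)) (k + 1) (𝟙 Y)) (by
      intro η hη η' hη'
      by_contra hne
      have hδη : δ (ι η) = k + 1 := by
        by_contra h
        apply hη
        rw [subschemeFun_id, if_neg h]
      have h1 : δ (ι η) < δ (ι η') := (hYs.2.2 η' η hη' hne).1
      have h2 := hY η'
      omega)
  have hβZ : β ∈ Cyc.Zk Y (fun y => δ (ι y)) (k + 1) := by
    intro η hη
    rw [hβ, subschemeFun_id, if_neg hη]
  have hsub : Cyc.subschemeFun δ (k + 1) ι =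
      ⇑(AlgebraicCycle.map ι (fun y => δ (ι y)) δ β) := by
    funext x
    by_cases hx : x ∈ Set.range ι
    · obtain ⟨y, rfl⟩ := hx
      rw [map_closedImm_apply, hβ, subschemeFun_id]
      unfold Cyc.subschemeFun
      have hset : {z : Y | ι z = ι y} = {y} := by
        ext z
        simp only [Set.mem_ofPred_eq, Set.mem_singleton_iff]
        exact ⟨fun h => ι.isEmbedding.injective h, fun h => by rw [h]⟩
      rw [hset, finsum_mem_singleton]
    · rw [map_closedImm_apply_of_notMem ι δ β x hx]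
      unfold Cyc.subschemeFun
      have hset : {z : Y | ι z = x} = ∅ := by
        ext z
        simp only [Set.mem_ofPred_eq, Set.mem_empty_iff_false, iff_false]
        intro h
        exact hx ⟨z, h⟩
      rw [hset, finsum_mem_empty]
      simp
  -- lifts of `v` and the induced sections on `Y`
  choose l hl using fun ξ => Submodule.Quotient.mk_surjective _ (v ξ)
  have hl0 : ∀ ξ, (Submodule.Quotient.mk (l ξ) : Cyc.secFibre L ξ) ≠ 0 := fun ξ => by
    rw [hl ξ]
    exact hv ξ
  have hpull : ∀ e, pullSec ι L l e ≠ 0 := fun e => by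
    obtain ⟨-, -, -, -, h4⟩ := local_data ι L hL l hl0 e
    exact h4
  -- `γ` restricted to `Y`
  obtain ⟨ζ', hζ'⟩ := exists_cycle_comp ι γ
  have hζ'fun : ⇑ζ' = Cyc.c1CapFun (fun y => δ (ι y)) ((Scheme.Modules.pullback ι).obj L) ⇑β
      (pullSec ι L l) := by
    funext y
    rw [hζ' y, hγ, hsub]
    exact c1CapFun_map_closedImm ι δ hX L hL β v l hl hv y
  have hγ0 : ∀ x, x ∉ Set.range ι → γ x = 0 := by
    intro x hx
    rw [hγ, hsub]
    simp only [Cyc.c1CapFun]
    apply finsum_eq_zero_of_forall_eq_zero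
    intro ξ
    by_cases hξ : ξ ∈ Set.range ι
    · obtain ⟨e, rfl⟩ := hξ
      simp only [Cyc.secDivFun]
      rw [dif_neg, mul_zero]
      intro h
      exact hx (mem_range_of_specializes ι h.1)
    · rw [map_closedImm_apply_of_notMem ι δ β ξ hξ, zero_mul]
  -- the sections induced by `s`, made nonzero everywhere
  let s'' : (η : Y) → Cyc.secFibre ((Scheme.Modules.pullback ι).obj L) η := fun η =>
    if (Submodule.Quotient.mk ((((Scheme.Modules.pullback ι).obj L).presheaf.germ ⊤ η trivial) s) :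
        Cyc.secFibre ((Scheme.Modules.pullback ι).obj L) η) ≠ 0 then
      Submodule.Quotient.mk ((((Scheme.Modules.pullback ι).obj L).presheaf.germ ⊤ η trivial) s)
    else pullSec ι L l η
  have hs'' : ∀ η, s'' η ≠ 0 := by
    intro η
    simp only [s'']
    split_ifs with h
    · exact h
    · exact hpull η
  have hζfun : ⇑ζ = Cyc.c1CapFun (fun y => δ (ι y)) ((Scheme.Modules.pullback ι).obj L) ⇑β
      s'' := by
    rw [hζ, zeroSectionFun_eq_c1CapFun Y (fun y => δ (ι y)) hYs _ hLY k hY s hreg, hβ]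
    funext y
    simp only [Cyc.c1CapFun]
    refine finsum_congr fun η => ?_
    by_cases hη : δ (ι η) = k + 1
    · have hne : (Submodule.Quotient.mk
          ((((Scheme.Modules.pullback ι).obj L).presheaf.germ ⊤ η trivial) s) :
          Cyc.secFibre ((Scheme.Modules.pullback ι).obj L) η) ≠ 0 := by
        intro h0
        have h1 := hZ η ((Submodule.Quotient.mk_eq_zero _).mp h0)
        omega
      have h2 : s'' η = Submodule.Quotient.mk
          ((((Scheme.Modules.pullback ι).obj L).presheaf.germ ⊤ η trivial) s) := by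
        simp only [s'']
        rw [if_pos hne]
      rw [h2]
    · rw [subschemeFun_id, if_neg hη, zero_mul, zero_mul]
  have hRE : Cyc.RatEquiv (fun y => δ (ι y)) k ζ' ζ :=
    ratEquiv_c1CapFun Y (fun y => δ (ι y)) _ hLY k β hβZ (pullSec ι L l) s'' hpull hs'' ζ' ζ
      hζ'fun hζfun
  have hpush := ratEquivZero_map_closedImm ι δ hX.2.2 k (ζ' - ζ) hRE
  unfold Cyc.RatEquiv
  have heq : γ - AlgebraicCycle.map ι (fun y => δ (ι y)) δ ζ =
      AlgebraicCycle.map ι (fun y => δ (ι y)) δ (ζ' - ζ) := by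
    ext x
    by_cases hx : x ∈ Set.range ι
    · obtain ⟨y, rfl⟩ := hx
      rw [Function.locallyFinsuppWithin.coe_sub, Pi.sub_apply, map_closedImm_apply,
        map_closedImm_apply, Function.locallyFinsuppWithin.coe_sub, Pi.sub_apply, hζ' y]
    · rw [Function.locallyFinsuppWithin.coe_sub, Pi.sub_apply,
        map_closedImm_apply_of_notMem ι δ ζ x hx, map_closedImm_apply_of_notMem ι δ _ x hx,
        hγ0 x hx, sub_zero]
  rw [heq]
  exact hpush

end Groth.Agent.Lib.Helper2.CycZeroSec
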