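import Groth.Agent.Lib.Helper2Thick
import Groth.Agent.S0400
import Groth.Agent.Lib.Helper5NilSup
set_option autoImplicit false
universe u

/-! Deformation lemmas (Stacks 37.10): properties lifting along finite order thickenings when the
total space is flat over the base. (helper2) -/

namespace Groth.Agent.Lib.Helper2.Deform
open Groth.Agent.Lib.Helper2.Thick

section A
open TensorProduct

/-- nilpotent flatness criterion, surjection form -/
theorem N8alg {R' A' B' A : Type u} [CommRing R'] [CommRing A'] [CommRing B'] [CommRing A]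
    [Algebra R' A'] [Algebra A' B'] [Algebra R' B'] [IsScalarTower R' A' B'] [Algebra A' A]
    (I : Ideal R') (hI : IsNilpotent I) (hsurj : Function.Surjective (algebraMap A' A))
    (hker : RingHom.ker (algebraMap A' A) = I.map (algebraMap R' A'))
    [Module.Flat R' B'] (h : Module.Flat A (A ⊗[A'] B')) : Module.Flat A' B' := by
  let J : Ideal A' := I.map (algebraMap R' A')
  let e0 : (A' ⧸ RingHom.ker (algebraMap A' A)) ≃ₐ[A'] A :=
    Ideal.quotientKerAlgEquivOfSurjective (f := Algebra.ofId A' A) hsurj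
  let e : (A' ⧸ J) ≃ₐ[A'] A := (Ideal.quotientEquivAlgOfEq A' hker.symm).trans e0
  let : Algebra A (A' ⧸ J) := e.symm.toAlgHom.toRingHom.toAlgebra
  have : IsScalarTower A' A (A' ⧸ J) := .of_algebraMap_eq' (by
    ext x
    show _ = e.symm (algebraMap A' A x)
    rw [AlgEquiv.commutes])
  have h1 : Module.Flat (A' ⧸ J) ((A' ⧸ J) ⊗[A] (A ⊗[A'] B')) := inferInstance
  let c := TensorProduct.AlgebraTensorModule.cancelBaseChange A' A (A' ⧸ J) (A' ⧸ J) B'
  have h2 : Module.Flat (A' ⧸ J) ((A' ⧸ J) ⊗[A'] B') := Module.Flat.of_linearEquiv c.symm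
  exact Groth.Agent.S0400.result I hI h2

open CategoryTheory in
theorem po_surj {A' B' A B : CommRingCat.{u}} {φ' : A' ⟶ B'} {π : A' ⟶ A} {ι : B' ⟶ B} {ψ : A ⟶ B}
    (hpo : IsPushout φ' π ι ψ) (hπ : Function.Surjective π.hom) : Function.Surjective ι.hom := by
  algebraize [φ'.hom, π.hom, ι.hom, ψ.hom, ι.hom.comp φ'.hom]
  have : IsScalarTower A' A B := .of_algebraMap_eq' <| congr($(hpo.1.1).hom)
  have hpo' : Algebra.IsPushout A' B' A B := CommRingCat.isPushout_iff_isPushout.mp hpo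
  show Function.Surjective (algebraMap B' B)
  intro b
  refine hpo'.out.inductionOn b (fun b => ∃ b', algebraMap B' B b' = b) ⟨0, map_zero _⟩ ?_ ?_ ?_
  · intro a
    obtain ⟨a', rfl⟩ := hπ a
    refine ⟨algebraMap A' B' a', ?_⟩
    show algebraMap B' B (algebraMap A' B' a') = algebraMap A B (algebraMap A' A a')
    rw [← IsScalarTower.algebraMap_apply, ← IsScalarTower.algebraMap_apply]
  · rintro s _ ⟨b', rfl⟩
    exact ⟨s * b', by rw [map_mul, Algebra.smul_def]⟩
  · rintro _ _ ⟨b1, rfl⟩ ⟨b2, rfl⟩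
    exact ⟨b1 + b2, map_add _ _ _⟩

open CategoryTheory in
theorem N8 {R' R A' A B' B : CommRingCat.{u}} {π : R' ⟶ R} {α' : R' ⟶ A'} {α : R ⟶ A}
    {πA : A' ⟶ A} {β' : R' ⟶ B'} {β : R ⟶ B} {φ' : A' ⟶ B'} {φ : A ⟶ B} {πB : B' ⟶ B}
    (hpoY : IsPushout α' π πA α) (hpoX : IsPushout β' π πB β)
    (hβ' : α' ≫ φ' = β') (hβ : α ≫ φ = β) (w : φ' ≫ πB = πA ≫ φ)
    (hπ : Function.Surjective π.hom) (n : ℕ) (hn : RingHom.ker π.hom ^ n = ⊥)
    (hflat' : β'.hom.Flat) (hflat : φ.hom.Flat) : φ'.hom.Flat := by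
  subst hβ' hβ
  have hpoR : IsPushout φ' πA πB φ := IsPushout.of_left hpoX w hpoY
  have hπA : Function.Surjective πA.hom := po_surj hpoY hπ
  have hkerA : RingHom.ker πA.hom = (RingHom.ker π.hom).map α'.hom := by
    apply le_antisymm (ker_le_map hpoY hπ)
    rw [Ideal.map_le_iff_le_comap]
    intro x hx
    rw [Ideal.mem_comap, RingHom.mem_ker]
    have := congr($(hpoY.w).hom x)
    simp only [CommRingCat.hom_comp, RingHom.comp_apply] at this
    rw [this, (RingHom.mem_ker).mp hx, map_zero]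
  algebraize [α'.hom, φ'.hom, (α' ≫ φ').hom, πA.hom, φ.hom, πB.hom, πB.hom.comp φ'.hom]
  have : IsScalarTower R' A' B' := .of_algebraMap_eq' rfl
  have : IsScalarTower A' A B := .of_algebraMap_eq' <| congr($(hpoR.1.1).hom)
  have hpo' : Algebra.IsPushout A' B' A B := CommRingCat.isPushout_iff_isPushout.mp hpoR
  have hpo'' : Algebra.IsPushout A' A B' B := hpo'.symm
  have hfl : Module.Flat A B := hflat
  have hfl' : Module.Flat R' B' := hflat'
  have h1 : Module.Flat A (A ⊗[A'] B') :=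
    Module.Flat.of_linearEquiv (Algebra.IsPushout.equiv A' A B' B).toLinearEquiv
  exact N8alg (RingHom.ker π.hom) ⟨n, hn⟩ hπA hkerA h1


end A

section B
open AlgebraicGeometry CategoryTheory Limits TopologicalSpace

theorem appLE_congr' {X Y : Scheme.{u}} {h1 h2 : X ⟶ Y} (e : h1 = h2) (U : Y.Opens) (V : X.Opens)
    (le1 : V ≤ h1 ⁻¹ᵁ U) (le2 : V ≤ h2 ⁻¹ᵁ U) : h1.appLE U V le1 = h2.appLE U V le2 := by
  subst e; rfl

theorem deform_gen {P : MorphismProperty Scheme.{u}}
    {Q : ∀ {R S : Type u} [CommRing R] [CommRing S], (R →+* S) → Prop} [HasRingHomProperty P Q]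
    (hQ : RingHom.StableUnderCompositionWithLocalizationAwaySource Q)
    (hring : ∀ {R' R A' A B' B : CommRingCat.{u}} {π : R' ⟶ R} {α' : R' ⟶ A'} {α : R ⟶ A}
      {πA : A' ⟶ A} {β' : R' ⟶ B'} {β : R ⟶ B} {φ' : A' ⟶ B'} {φ : A ⟶ B} {πB : B' ⟶ B},
      IsPushout α' π πA α → IsPushout β' π πB β → α' ≫ φ' = β' → α ≫ φ = β →
      φ' ≫ πB = πA ≫ φ → Function.Surjective π.hom → ∀ n : ℕ, RingHom.ker π.hom ^ n = ⊥ →
      β'.hom.Flat → Q φ.hom → Q φ'.hom)
    {X X' Y Y' S S' : Scheme.{u}} (iX : X ⟶ X') (iY : Y ⟶ Y') (iS : S ⟶ S')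
    (f : X ⟶ Y) (f' : X' ⟶ Y') (g : Y ⟶ S) (g' : Y' ⟶ S')
    (hS : MoreMor.IsFiniteOrderThickening iS) (hcX : IsPullback iX (f ≫ g) (f' ≫ g') iS)
    (hcY : IsPullback iY g g' iS) (w : iX ≫ f' = f ≫ iY) [Flat (f' ≫ g')] (hf : P f) : P f' := by
  rw [HasRingHomProperty.iff_exists_appLE (P := P) hQ]
  intro x'
  obtain ⟨_, ⟨W', hW', rfl⟩, hxW, -⟩ :=
    S'.isBasis_affineOpens.exists_subset_of_mem_open (Set.mem_univ (g' (f' x'))) isOpen_univ
  obtain ⟨_, ⟨U', hU', rfl⟩, hxU, hUW : U' ≤ g' ⁻¹ᵁ W'⟩ :=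
    Y'.isBasis_affineOpens.exists_subset_of_mem_open hxW (g' ⁻¹ᵁ W').isOpen
  obtain ⟨_, ⟨V', hV', rfl⟩, hxV, hVU : V' ≤ f' ⁻¹ᵁ U'⟩ :=
    X'.isBasis_affineOpens.exists_subset_of_mem_open hxU (f' ⁻¹ᵁ U').isOpen
  refine ⟨⟨U', hU'⟩, ⟨V', hV'⟩, hxV, hVU, ?_⟩
  have hVW : V' ≤ (f' ≫ g') ⁻¹ᵁ W' := fun x hx => hUW (hVU hx)
  obtain ⟨hWT, hUY, hπ, ⟨n, hn⟩, hpoY⟩ := fthick_data iY iS g g' hS hcY W' hW' U' hU' hUW
  obtain ⟨-, hVX, -, -, hpoX⟩ := fthick_data iX iS (f ≫ g) (f' ≫ g') hS hcX W' hW' V' hV' hVW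
  have le : iX ⁻¹ᵁ V' ⊓ (f ≫ g) ⁻¹ᵁ (iS ⁻¹ᵁ W') ≤ f ⁻¹ᵁ (iY ⁻¹ᵁ U' ⊓ g ⁻¹ᵁ (iS ⁻¹ᵁ W')) := by
    rintro x ⟨hx1, hx2⟩
    refine ⟨?_, hx2⟩
    show iY (f x) ∈ U'
    have : iY (f x) = f' (iX x) := (congr($(w) x)).symm
    rw [this]; exact hVU hx1
  refine hring hpoY hpoX (φ' := f'.appLE U' V' hVU) (φ := f.appLE _ _ le) ?_ ?_ ?_ hπ n hn ?_ ?_
  · rw [Scheme.Hom.appLE_comp_appLE]
  · rw [Scheme.Hom.appLE_comp_appLE]
  · rw [Scheme.Hom.appLE_comp_appLE, Scheme.Hom.appLE_comp_appLE]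
    exact appLE_congr' w _ _ _ _
  · exact HasRingHomProperty.appLE (P := @Flat) (f' ≫ g') inferInstance ⟨W', hW'⟩ ⟨V', hV'⟩ _
  · exact HasRingHomProperty.appLE (P := P) f hf ⟨_, hUY⟩ ⟨_, hVX⟩ le

theorem flat_of_deform {X X' Y Y' S S' : Scheme.{u}} (iX : X ⟶ X') (iY : Y ⟶ Y') (iS : S ⟶ S')
    (f : X ⟶ Y) (f' : X' ⟶ Y') (g : Y ⟶ S) (g' : Y' ⟶ S')
    (hS : MoreMor.IsFiniteOrderThickening iS) (hcX : IsPullback iX (f ≫ g) (f' ≫ g') iS)
    (hcY : IsPullback iY g g' iS) (w : iX ≫ f' = f ≫ iY) [Flat (f' ≫ g')] [Flat f] : Flat f' :=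
  deform_gen (P := @Flat)
    (RingHom.Flat.stableUnderComposition.stableUnderCompositionWithLocalizationAway
      RingHom.Flat.holdsForLocalizationAway).left
    (fun hpoY hpoX hβ' hβ w hπ n hn hfl hφ => N8 hpoY hpoX hβ' hβ w hπ n hn hfl hφ)
    iX iY iS f f' g g' hS hcX hcY w inferInstance

/-- the square `X → X' / Y → Y'` is a pullback -/
theorem deform_isPullback {X X' Y Y' S S' : Scheme.{u}} (iX : X ⟶ X') (iY : Y ⟶ Y') (iS : S ⟶ S')
    (f : X ⟶ Y) (f' : X' ⟶ Y') (g : Y ⟶ S) (g' : Y' ⟶ S')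
    (hcX : IsPullback iX (f ≫ g) (f' ≫ g') iS)
    (hcY : IsPullback iY g g' iS) (w : iX ≫ f' = f ≫ iY) : IsPullback iX f f' iY :=
  IsPullback.of_bot hcX w hcY


end B

section C
open TensorProduct

/-- finite presentation lifts along nilpotent thickenings when flat over the base -/
theorem N9alg {R' A' B' A B : Type u} [CommRing R'] [CommRing A'] [CommRing B'] [CommRing A]
    [CommRing B]
    [Algebra R' A'] [Algebra A' B'] [Algebra R' B'] [IsScalarTower R' A' B'] [Algebra A' A]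
    [Algebra A B] [Algebra B' B] [Algebra A' B] [IsScalarTower A' A B] [IsScalarTower A' B' B]
    (I : Ideal R') (hI : IsNilpotent I) (hsurj : Function.Surjective (algebraMap A' A))
    (hker : RingHom.ker (algebraMap A' A) = I.map (algebraMap R' A'))
    (hkerB : RingHom.ker (algebraMap B' B) ≤ (RingHom.ker (algebraMap A' A)).map (algebraMap A' B'))
    (hsurjB : Function.Surjective (algebraMap B' B))
    [Module.Flat R' B'] [Algebra.FiniteType A' B'] [Algebra.FinitePresentation A B] :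
    Algebra.FinitePresentation A' B' := by
  classical
  obtain ⟨m, p, hp⟩ := Algebra.FiniteType.iff_quotient_mvPolynomial''.mp
    (inferInstance : Algebra.FiniteType A' B')
  -- the reduction of the presentation
  let q : MvPolynomial (Fin m) A' →+* MvPolynomial (Fin m) A := MvPolynomial.map (algebraMap A' A)
  have hq : Function.Surjective q := MvPolynomial.map_surjective _ hsurj
  let pbar : MvPolynomial (Fin m) A →ₐ[A] B :=
    MvPolynomial.aeval (fun i => algebraMap B' B (p (MvPolynomial.X i)))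
  have hcomp : (pbar : MvPolynomial (Fin m) A →+* B).comp q =
      (algebraMap B' B).comp (p : MvPolynomial (Fin m) A' →+* B') := by
    apply MvPolynomial.ringHom_ext
    · intro a
      simp only [RingHom.comp_apply, q, MvPolynomial.map_C, RingHom.coe_coe, pbar,
        MvPolynomial.algHom_C, AlgHom.commutes, MvPolynomial.aeval_C]
      rw [← IsScalarTower.algebraMap_apply, ← IsScalarTower.algebraMap_apply]
    · intro i
      simp only [RingHom.comp_apply, q, MvPolynomial.map_X, RingHom.coe_coe, pbar,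
        MvPolynomial.aeval_X]
  have hcomp' : ∀ y, pbar (q y) = algebraMap B' B (p y) := fun y => congr($hcomp y)
  have hpbar : Function.Surjective pbar := by
    intro b
    obtain ⟨b', rfl⟩ := hsurjB b
    obtain ⟨y, rfl⟩ := hp b'
    exact ⟨q y, hcomp' y⟩
  have hKfg : (RingHom.ker pbar.toRingHom).FG :=
    Algebra.FinitePresentation.ker_fG_of_surjective pbar hpbar
  -- kernel of `q`
  have hkerq : RingHom.ker q = I.map (algebraMap R' (MvPolynomial (Fin m) A')) := by
    rw [MvPolynomial.ker_map, hker, Ideal.map_map]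
    rfl
  -- `K' → K` is surjective
  have hKK : ∀ k ∈ RingHom.ker pbar.toRingHom, ∃ k' ∈ RingHom.ker p.toRingHom, q k' = k := by
    intro k hk
    obtain ⟨y, rfl⟩ := hq k
    have h1 : p y ∈ RingHom.ker (algebraMap B' B) := by
      rw [RingHom.mem_ker, ← hcomp' y]; exact hk
    have h2 : p y ∈ (RingHom.ker q).map (p : MvPolynomial (Fin m) A' →+* B') := by
      rw [MvPolynomial.ker_map, Ideal.map_map]
      have : (p : MvPolynomial (Fin m) A' →+* B').comp MvPolynomial.C = algebraMap A' B' := by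
        ext a; simp
      rw [this]
      exact hkerB h1
    obtain ⟨z, hz, hzy⟩ := (Ideal.mem_map_iff_of_surjective _ hp).mp h2
    refine ⟨y - z, ?_, ?_⟩
    · rw [RingHom.mem_ker, map_sub, sub_eq_zero]; exact hzy.symm
    · rw [map_sub, (RingHom.mem_ker).mp hz, sub_zero]
  obtain ⟨s, hs⟩ := hKfg
  choose! lift hlift_mem hlift using hKK
  let L : Ideal (MvPolynomial (Fin m) A') := Ideal.span (lift '' (s : Set _))
  have hLfg : L.FG := ⟨s.image lift, by simp [L]⟩
  have hsK : ∀ k ∈ s, k ∈ RingHom.ker pbar.toRingHom := by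
    intro k hk; rw [← hs]; exact Ideal.subset_span hk
  have hLK : L ≤ RingHom.ker p.toRingHom := by
    rw [Ideal.span_le]
    rintro _ ⟨k, hk, rfl⟩
    exact hlift_mem k (hsK k hk)
  suffices hle : RingHom.ker p.toRingHom ≤ L by
    have : RingHom.ker p.toRingHom = L := le_antisymm hle hLK
    exact Algebra.FinitePresentation.of_surjective hp (this ▸ hLfg)
  -- Nakayama
  let ψ : MvPolynomial (Fin m) A' →ₗ[R'] B' := (p.toLinearMap).restrictScalars R'
  have hψ : Function.Surjective ψ := hp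
  have hkerψ : ∀ x, x ∈ LinearMap.ker ψ ↔ x ∈ RingHom.ker p.toRingHom := fun x => Iff.rfl
  have hmain : LinearMap.ker ψ ≤ L.restrictScalars R' := by
    apply Groth.Agent.Lib.Helper5.le_of_le_sup_smul_of_isNilpotent hI
    intro x hx
    have hx' : x ∈ RingHom.ker p.toRingHom := hx
    have hpx : p x = 0 := hx'
    have hqx : q x ∈ Ideal.span (s : Set (MvPolynomial (Fin m) A)) := by
      rw [hs, RingHom.mem_ker]
      show pbar (q x) = 0
      rw [hcomp' x, hpx, map_zero]
    have hclaim : ∀ z ∈ Ideal.span (s : Set (MvPolynomial (Fin m) A)), ∃ y ∈ L, q y = z := by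
      intro z hz
      refine Submodule.span_induction ?_ ?_ ?_ ?_ hz
      · intro k hk
        exact ⟨lift k, Ideal.subset_span ⟨k, hk, rfl⟩, hlift k (hsK k hk)⟩
      · exact ⟨0, L.zero_mem, map_zero _⟩
      · rintro _ _ _ _ ⟨y1, hy1, rfl⟩ ⟨y2, hy2, rfl⟩
        exact ⟨y1 + y2, L.add_mem hy1 hy2, map_add _ _ _⟩
      · rintro c _ _ ⟨y1, hy1, rfl⟩
        obtain ⟨c', rfl⟩ := hq c
        exact ⟨c' * y1, L.mul_mem_left _ hy1, by rw [map_mul, smul_eq_mul]⟩
    obtain ⟨y, hyL, hy⟩ := hclaim _ hqx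
    have hyK : p y = 0 := hLK hyL
    have h3 : x - y ∈ (I • LinearMap.ker ψ : Submodule R' (MvPolynomial (Fin m) A')) := by
      apply Groth.Agent.Lib.Helper5.mem_smul_ker_of_mem_smul_top_of_flat ψ hψ I
      · show p (x - y) = 0
        rw [map_sub, hpx, hyK, sub_zero]
      · rw [Ideal.smul_top_eq_map, Submodule.restrictScalars_mem, ← hkerq, RingHom.mem_ker,
          map_sub, hy, sub_self]
    have hxx : x = y + (x - y) := by abel
    rw [hxx]
    exact Submodule.add_mem_sup (by rw [Submodule.restrictScalars_mem]; exact hyL) h3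
  intro x hx
  exact hmain ((hkerψ x).mpr hx)

open CategoryTheory in
theorem N9 {R' R A' A B' B : CommRingCat.{u}} {π : R' ⟶ R} {α' : R' ⟶ A'} {α : R ⟶ A}
    {πA : A' ⟶ A} {β' : R' ⟶ B'} {β : R ⟶ B} {φ' : A' ⟶ B'} {φ : A ⟶ B} {πB : B' ⟶ B}
    (hpoY : IsPushout α' π πA α) (hpoX : IsPushout β' π πB β)
    (hβ' : α' ≫ φ' = β') (hβ : α ≫ φ = β) (w : φ' ≫ πB = πA ≫ φ)
    (hπ : Function.Surjective π.hom) (n : ℕ) (hn : RingHom.ker π.hom ^ n = ⊥)
    (hflat' : β'.hom.Flat) (hfp : φ.hom.FinitePresentation) : φ'.hom.FinitePresentation := by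
  subst hβ' hβ
  have hpoR : IsPushout φ' πA πB φ := IsPushout.of_left hpoX w hpoY
  have hπA : Function.Surjective πA.hom := po_surj hpoY hπ
  have hkerA : RingHom.ker πA.hom = (RingHom.ker π.hom).map α'.hom := by
    apply le_antisymm (ker_le_map hpoY hπ)
    rw [Ideal.map_le_iff_le_comap]
    intro x hx
    rw [Ideal.mem_comap, RingHom.mem_ker]
    have := congr($(hpoY.w).hom x)
    simp only [CommRingCat.hom_comp, RingHom.comp_apply] at this
    rw [this, (RingHom.mem_ker).mp hx, map_zero]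
  have hnA : RingHom.ker πA.hom ^ n = ⊥ := by
    rw [hkerA, ← Ideal.map_pow, hn, Ideal.map_bot]
  have hft : φ'.hom.FiniteType := N6 hpoR hπA n hnA (RingHom.FiniteType.of_finitePresentation hfp)
  have hπB : Function.Surjective πB.hom := po_surj hpoR hπA
  have hkerB := ker_le_map hpoR hπA
  algebraize [α'.hom, φ'.hom, (α' ≫ φ').hom, πA.hom, φ.hom, πB.hom, πB.hom.comp φ'.hom]
  have : IsScalarTower R' A' B' := .of_algebraMap_eq' rfl
  have : IsScalarTower A' A B := .of_algebraMap_eq' <| congr($(hpoR.1.1).hom)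
  have : IsScalarTower A' B' B := .of_algebraMap_eq' rfl
  have hfl' : Module.Flat R' B' := hflat'
  have hft' : Algebra.FiniteType A' B' := hft
  have hfp' : Algebra.FinitePresentation A B := hfp
  exact N9alg (RingHom.ker π.hom) ⟨n, hn⟩ hπA hkerA hkerB hπB

section
open AlgebraicGeometry CategoryTheory Limits TopologicalSpace

theorem lfp_of_deform {X X' Y Y' S S' : Scheme.{u}} (iX : X ⟶ X') (iY : Y ⟶ Y') (iS : S ⟶ S')
    (f : X ⟶ Y) (f' : X' ⟶ Y') (g : Y ⟶ S) (g' : Y' ⟶ S')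
    (hS : MoreMor.IsFiniteOrderThickening iS) (hcX : IsPullback iX (f ≫ g) (f' ≫ g') iS)
    (hcY : IsPullback iY g g' iS) (w : iX ≫ f' = f ≫ iY) [Flat (f' ≫ g')]
    [LocallyOfFinitePresentation f] : LocallyOfFinitePresentation f' :=
  deform_gen (P := @LocallyOfFinitePresentation)
    (RingHom.finitePresentation_stableUnderComposition.stableUnderCompositionWithLocalizationAway
      RingHom.finitePresentation_holdsForLocalizationAway).left
    (fun hpoY hpoX hβ' hβ w hπ n hn hfl hφ => N9 hpoY hpoX hβ' hβ w hπ n hn hfl hφ)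
    iX iY iS f f' g g' hS hcX hcY w inferInstance
end


end C

section D
open AlgebraicGeometry CategoryTheory Limits TopologicalSpace

theorem isIso_residueFieldMap_of_isClosedImmersion {Y Y' : Scheme.{u}} (i : Y ⟶ Y')
    [IsClosedImmersion i] (y : Y) : IsIso (i.residueFieldMap y) := by
  rw [ConcreteCategory.isIso_iff_bijective]
  refine ⟨(i.residueFieldMap y).hom.injective, ?_⟩
  intro z
  obtain ⟨s, rfl⟩ := IsLocalRing.residue_surjective (R := Y.presheaf.stalk y) z
  obtain ⟨t, rfl⟩ := i.stalkMap_surjective y s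
  exact ⟨IsLocalRing.residue _ t, rfl⟩

theorem smooth_of_sq {A B C D : Scheme.{u}} {t : A ⟶ B} {l : A ⟶ C} {r : B ⟶ D} {b : C ⟶ D}
    (sq : IsPullback t l r b) [IsIso b] [Smooth l] : Smooth r := by
  have := sq.isIso_fst_of_isIso
  have h : Smooth (t ≫ r) := by rw [sq.w]; infer_instance
  exact (MorphismProperty.cancel_left_of_respectsIso @Smooth t r).mp h

section
variable {X X' Y Y' S S' : Scheme.{u}} (iX : X ⟶ X') (iY : Y ⟶ Y') (iS : S ⟶ S')
    (f : X ⟶ Y) (f' : X' ⟶ Y') (g : Y ⟶ S) (g' : Y' ⟶ S')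
    (hS : MoreMor.IsFiniteOrderThickening iS) (hcX : IsPullback iX (f ≫ g) (f' ≫ g') iS)
    (hcY : IsPullback iY g g' iS) (w : iX ≫ f' = f ≫ iY)
include hS hcX hcY w

theorem fu_of_deform [FormallyUnramified f] : FormallyUnramified f' :=
  fu_of_fthick iX iY f f' (fthick_baseChange iY iS g g' hS hcY)
    (deform_isPullback iX iY iS f f' g g' hcX hcY w)

theorem mono_of_deform [Mono f] : Mono f' := by
  have : FormallyUnramified f := inferInstance
  exact mono_of_fthick iX iY f f' (fthick_baseChange iY iS g g' hS hcY)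
    (deform_isPullback iX iY iS f f' g g' hcX hcY w)
    (fu_of_deform iX iY iS f f' g g' hS hcX hcY w)

omit hcX in
theorem surjective_of_deform [Surjective f] : Surjective f' := by
  have hY := fthick_baseChange iY iS g g' hS hcY
  have : Surjective iY := hY.1.2
  have : Surjective (f ≫ iY) := inferInstance
  rw [← w] at this
  exact Surjective.of_comp iX f'

theorem isOpenImmersion_of_deform [Flat (f' ≫ g')] [IsOpenImmersion f] : IsOpenImmersion f' := by
  have : Flat f' := flat_of_deform iX iY iS f f' g g' hS hcX hcY w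
  have : LocallyOfFinitePresentation f' := lfp_of_deform iX iY iS f f' g g' hS hcX hcY w
  have : Mono f' := mono_of_deform iX iY iS f f' g g' hS hcX hcY w
  exact IsOpenImmersion.of_flat_of_mono f'

theorem isIso_of_deform [Flat (f' ≫ g')] [IsIso f] : IsIso f' := by
  rw [isIso_iff_isOpenImmersion_and_surjective]
  exact ⟨isOpenImmersion_of_deform iX iY iS f f' g g' hS hcX hcY w,
    surjective_of_deform iX iY iS f f' g g' hS hcY w⟩

theorem etale_of_deform [Flat (f' ≫ g')] [Etale f] : Etale f' := by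
  rw [Etale.iff_flat_and_formallyUnramified]
  exact ⟨flat_of_deform iX iY iS f f' g g' hS hcX hcY w,
    fu_of_deform iX iY iS f f' g g' hS hcX hcY w,
    lfp_of_deform iX iY iS f f' g g' hS hcX hcY w⟩

theorem smooth_of_deform [Flat (f' ≫ g')] [Smooth f] : Smooth f' := by
  have : Flat f' := flat_of_deform iX iY iS f f' g g' hS hcX hcY w
  have : LocallyOfFinitePresentation f' := lfp_of_deform iX iY iS f f' g g' hS hcX hcY w
  have hY := fthick_baseChange iY iS g g' hS hcY
  have : IsClosedImmersion iY := hY.1.1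
  have : Surjective iY := hY.1.2
  apply Smooth.of_smooth_fiberToSpecResidueField
  intro y'
  obtain ⟨y, rfl⟩ := iY.surjective y'
  have sq := isPullback_fiberToSpecResidueField_of_isPullback
    (deform_isPullback iX iY iS f f' g g' hcX hcY w) y
  have : IsIso (iY.residueFieldMap y) := isIso_residueFieldMap_of_isClosedImmersion iY y
  have : IsIso (Spec.map (iY.residueFieldMap y)) := inferInstance
  have h1 : Smooth (f.fiberToSpecResidueField y) :=
    inferInstanceAs (Smooth (pullback.snd f (Y.fromSpecResidueField y)))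
  exact @smooth_of_sq _ _ _ _ _ _ _ _ sq this h1

end


end D

end Groth.Agent.Lib.Helper2.Deform
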