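import Mathlib
import Groth.Agent.Lib.Helper21ModTensor7
import Groth.Agent.Lib.Helper21ExtCartier2
import Groth.Agent.Lib.Helper23TensorUnit
import Groth.Agent.Lib.Helper23AmpleFam2
import Groth.Agent.Lib.Helper1StalkTensorC

/-!
# The canonical section of `O(D) = I_D⁻¹` (helper2)

Namespace `Groth.Agent.Lib.Helper2.DegOneA`.

For an ideal sheaf `D` on a scheme `X` and an `O_X`-module `L` with `α : L ⊗ I_D ≅ O_X`, the canonical
section `canSec D L α : O_X ⟶ L` (the inclusion `I_D ⊆ O_X` tensored with `L`):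

* `wr_eq` : `L ⊗ (I_D ⊆ O) = α ≫ canSec ≫ (L ⊗ O ≅ L)⁻¹`;
* `mono_canSec` (for flat `L`), `cokernelIso` : `coker (canSec) ≅ L ⊗ O_X/I_D`;
* `exists_factor` : if `canSec D L α = c ≫ canSec D' L α'` for an endomorphism `c` of `O_X`, then the inclusion
  `I_D ⊆ O_X` factors through `I_D' ⊆ O_X`.
-/

set_option autoImplicit false
set_option linter.style.haveILetI false
universe u
open CategoryTheory CategoryTheory.Limits AlgebraicGeometry TopologicalSpace Opposite

namespace Groth.Agent.Lib.Helper2.DegOneA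

open Groth.Agent.Lib.Helper21.ModTensor3 Groth.Agent.Lib.Helper21.ModTensor5
  Groth.Agent.Lib.Helper21.ModTensor6 Groth.Agent.Lib.Helper21.ModTensor7

variable {X : Scheme.{u}}

/-- `L ⊗ -` as an endofunctor of `X.Modules`. -/
noncomputable def tl (L : X.Modules) : X.Modules ⥤ X.Modules := tL X.sheaf L

theorem tl_obj (L F : X.Modules) : (tl L).obj F = CohB1.tensorMod L F := rfl

instance tl_additive (L : X.Modules) : (tl L).Additive := tL_additive X.sheaf L

instance tl_preservesFiniteColimits (L : X.Modules) : PreservesFiniteColimits (tl L) :=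
  tL_preservesFiniteColimits X.sheaf L

/-- `L ⊗ h`. -/
noncomputable def wr (L : X.Modules) {G N : X.Modules} (h : G ⟶ N) :
    CohB1.tensorMod L G ⟶ CohB1.tensorMod L N := (tl L).map h

/-- if `L' ⊗ L ≅ O` then `(L ⊗ -) ⋙ (L' ⊗ -) ≅ 𝟭`. -/
noncomputable def tlInvIso (L L' : X.Modules) (e : CohB1.tensorMod L' L ≅ Coh.structureModule X) :
    tl L ⋙ tl L' ≅ 𝟭 X.Modules :=
  (tLTensorIso X.sheaf L' L).symm ≪≫ (ModSite.tensorBi X.sheaf).mapIso e ≪≫ tLUnitIso X.sheaf

theorem mono_of_eq_iso_comp {C : Type*} [Category C] {A A' B B' : C} (f : A ⟶ B) (g : A' ⟶ B')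
    (i : A ≅ A') (j : B ≅ B') (e : f = i.hom ≫ g ≫ j.inv) [Mono g] : Mono f := by
  subst e
  infer_instance

/-- `- ⊗ L` as an endofunctor of `X.Modules`. -/
noncomputable def tr (L : X.Modules) : X.Modules ⥤ X.Modules := tR X.sheaf L

/-- `L ⊗ -` preserves monomorphisms when `L` is flat. -/
theorem mono_wr (L : X.Modules) (hL : FlatMod.IsFlat L) {G N : X.Modules} (h : G ⟶ N) [Mono h] :
    Mono (wr L h) := by
  have hfl := (Groth.Agent.Lib.Helper1.StalkTensor.modSite_isFlat_iff L).2 hL
  haveI : PreservesFiniteLimits (tr L) := hfl.1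
  let β : tl L ≅ tr L := (brd X.sheaf).app L
  haveI : Mono ((tr L).map h) := inferInstance
  have e : wr L h = (β.app G).hom ≫ (tr L).map h ≫ (β.app N).inv := by
    have := β.hom.naturality h
    change (tl L).map h = _
    rw [← Category.assoc]
    rw [Iso.eq_comp_inv]
    exact this
  exact mono_of_eq_iso_comp (wr L h) ((tr L).map h) (β.app G) (β.app N) e


section canSec

open Groth.Agent.Lib.Helper23.TensorUnit Groth.Agent.Lib.Helper23.AmpleFam2
  Groth.Agent.Lib.Helper21.ExtCartier

variable (D : X.IdealSheafData) (L : X.Modules)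
  (α : CohB1.tensorMod L (ClSub.idealMod D) ≅ Coh.structureModule X)

/-- the canonical section `O ⟶ L` of `L = I_D⁻¹`. -/
noncomputable def canSec : Coh.structureModule X ⟶ L :=
  α.inv ≫ wr L (ClSub.idealModι D) ≫ (tensorUnitIso L).hom

theorem wr_eq :
    wr L (ClSub.idealModι D) = α.hom ≫ canSec D L α ≫ (tensorUnitIso L).inv := by
  unfold canSec
  rw [Category.assoc, Category.assoc, Iso.hom_inv_id, Category.comp_id, Iso.hom_inv_id_assoc]

instance : Mono (ClSub.idealModι D) := inferInstanceAs (Mono (kernel.ι (ClSub.toSubscheme D)))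

theorem mono_canSec (hL : FlatMod.IsFlat L) : Mono (canSec D L α) := by
  haveI := mono_wr L hL (ClSub.idealModι D)
  exact mono_of_eq_iso_comp (canSec D L α) (wr L (ClSub.idealModι D)) α.symm (tensorUnitIso L).symm rfl

/-- the projection `L ⟶ L ⊗ O/I_D`. -/
noncomputable def canProj : L ⟶ CohB1.tensorMod L (ClSub.quotMod D) :=
  (tensorUnitIso L).inv ≫ wr L (ClSub.toSubscheme D)

theorem wr_comp (L : X.Modules) {G N P : X.Modules} (g : G ⟶ N) (h : N ⟶ P) :
    wr L (g ≫ h) = wr L g ≫ wr L h := (tl L).map_comp g h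

theorem wr_zero (L G N : X.Modules) : wr L (0 : G ⟶ N) = 0 := (tl L).map_zero _ _

theorem canSec_canProj : canSec D L α ≫ canProj D L = 0 := by
  have h0 : wr L (ClSub.idealModι D) ≫ wr L (ClSub.toSubscheme D) = 0 := by
    rw [← wr_comp]
    have : ClSub.idealModι D ≫ ClSub.toSubscheme D = 0 := kernel.condition _
    rw [this, wr_zero]
  unfold canSec canProj
  rw [Category.assoc, Category.assoc, Iso.hom_inv_id_assoc, h0, comp_zero]

/-- the complex `O ⟶ L ⟶ L ⊗ O/I_D`. -/
noncomputable def canSC : ShortComplex X.Modules :=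
  ShortComplex.mk (canSec D L α) (canProj D L) (canSec_canProj D L α)

instance epi_canProj : Epi (canProj D L) := by
  haveI : Epi (ClSub.toSubscheme D) := (idealSES_shortExact D).epi_g
  haveI : Epi ((tl L).map (ClSub.toSubscheme D)) := inferInstance
  haveI : Epi (wr L (ClSub.toSubscheme D)) := ‹Epi ((tl L).map (ClSub.toSubscheme D))›
  unfold canProj
  infer_instance

theorem canSC_exact : (canSC D L α).Exact := by
  have h1 : ((idealSES D).map (tl L)).Exact :=
    (idealSES_shortExact D).exact.map_of_epi_of_preservesCokernel (tl L)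
      (idealSES_shortExact D).epi_g inferInstance
  let e : canSC D L α ≅ (idealSES D).map (tl L) :=
    ShortComplex.isoMk α.symm (tensorUnitIso L).symm (Iso.refl _)
      (by
        change α.inv ≫ (tl L).map (ClSub.idealModι D) = canSec D L α ≫ (tensorUnitIso L).inv
        unfold canSec
        rw [Category.assoc, Category.assoc, Iso.hom_inv_id, Category.comp_id]
        rfl)
      (by
        change (tensorUnitIso L).inv ≫ (tl L).map (ClSub.toSubscheme D) = canProj D L ≫ 𝟙 _
        rw [Category.comp_id]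
        rfl)
  exact ShortComplex.exact_of_iso e.symm h1

theorem canSC_shortExact (hL : FlatMod.IsFlat L) : (canSC D L α).ShortExact := by
  haveI : Mono (canSC D L α).f := mono_canSec D L α hL
  haveI : Epi (canSC D L α).g := epi_canProj D L
  exact ShortComplex.ShortExact.mk (canSC_exact D L α)

end canSec

section factor

open Groth.Agent.Lib.Helper23.TensorUnit Groth.Agent.Lib.Helper23.AmpleFam2

/-- if the canonical sections of `L = I_D⁻¹ = I_D'⁻¹` differ by an endomorphism of `O`, the inclusion of `I_D` factors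
through that of `I_D'`. -/
theorem exists_factor (D D' : X.IdealSheafData) (L : X.Modules)
    (α : CohB1.tensorMod L (ClSub.idealMod D) ≅ Coh.structureModule X)
    (α' : CohB1.tensorMod L (ClSub.idealMod D') ≅ Coh.structureModule X)
    (c : Coh.structureModule X ⟶ Coh.structureModule X)
    (h : canSec D L α = c ≫ canSec D' L α') :
    ∃ γ : ClSub.idealMod D ⟶ ClSub.idealMod D', ClSub.idealModι D = γ ≫ ClSub.idealModι D' := by
  let I := ClSub.idealMod D
  let I' := ClSub.idealMod D'
  let e : CohB1.tensorMod I L ≅ Coh.structureModule X := tensorBraid I L ≪≫ α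
  let i1 : tl L ⋙ tl I ≅ 𝟭 X.Modules := tlInvIso L I e
  let β : (tl L).obj I ⟶ (tl L).obj I' := α.hom ≫ c ≫ α'.inv
  have hβ : wr L (ClSub.idealModι D) = (α.hom ≫ c ≫ α'.inv) ≫ wr L (ClSub.idealModι D') := by
    rw [wr_eq D L α, h, wr_eq D' L α']
    simp only [Category.assoc, Iso.inv_hom_id_assoc]
  refine ⟨i1.inv.app I ≫ (tl I).map β ≫ i1.hom.app I', ?_⟩
  have n1 : (tl I).map ((tl L).map (ClSub.idealModι D)) ≫ i1.hom.app (Coh.structureModule X) =
      i1.hom.app I ≫ ClSub.idealModι D := i1.hom.naturality (ClSub.idealModι D)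
  have n2 : (tl I).map ((tl L).map (ClSub.idealModι D')) ≫ i1.hom.app (Coh.structureModule X) =
      i1.hom.app I' ≫ ClSub.idealModι D' := i1.hom.naturality (ClSub.idealModι D')
  have hβ' : (tl L).map (ClSub.idealModι D) = β ≫ (tl L).map (ClSub.idealModι D') := hβ
  have h1 : ClSub.idealModι D = i1.inv.app I ≫
      (tl I).map ((tl L).map (ClSub.idealModι D)) ≫ i1.hom.app (Coh.structureModule X) := by
    rw [n1, Iso.inv_hom_id_app_assoc]
  have h2 : (tl I).map ((tl L).map (ClSub.idealModι D)) =
      (tl I).map β ≫ (tl I).map ((tl L).map (ClSub.idealModι D')) := by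
    rw [hβ']
    exact (tl I).map_comp β ((tl L).map (ClSub.idealModι D'))
  rw [h1, h2, Category.assoc, n2, Category.assoc, Category.assoc]

end factor

end Groth.Agent.Lib.Helper2.DegOneA
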