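import Mathlib
import Groth.Agent.Lib.Helper4CurveGrd
import Groth.Agent.Lib.Helper6CurveDeg

/-!
# `h⁰(O(p)) = 1` on a curve of positive genus (helper2)

Namespace `Groth.Agent.Lib.Helper2.DegOneB`.

`finrank_h0_eq_one`: on an integral proper curve `Z` over a field `k` with `h⁰(O) = 1` and `h¹(O) ≥ 1`, an invertible
module `N` with a nonzero section `ψ : O ⟶ N` whose cokernel has `h⁰ = 1` (i.e. `deg N = 1`) has `h⁰(N) = 1`.
-/

set_option autoImplicit false
set_option linter.style.haveILetI false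
universe u
open CategoryTheory CategoryTheory.Limits AlgebraicGeometry TopologicalSpace Opposite

namespace Groth.Agent.Lib.Helper2.DegOneB

variable (k : Type u) [Field k] (Z : Scheme.{u}) [Z.Over (Spec (CommRingCat.of k))]
  [IsIntegral Z] [IsProper (Z ↘ (Spec (CommRingCat.of k)))]

theorem finrank_h0_eq_one (hdim : topologicalKrullDim Z = 1)
    (h0 : Module.finrank k (Coh.HH Z (Coh.structureModule Z) 0) = 1)
    (hg : 1 ≤ Curv2.genus k Z)
    (N : Z.Modules) (hN : PicF.IsInvertible N) (ψ : Coh.structureModule Z ⟶ N) (hψ : ψ ≠ 0)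
    (hc : Module.finrank k (Coh.HH Z (cokernel ψ) 0) = 1) :
    Module.finrank k (Coh.HH Z N 0) = 1 := by
  have hO := Groth.Agent.Lib.Helper23.TensorUnit.isInvertible_structureModule Z
  obtain ⟨he, -⟩ := Groth.Agent.Lib.Helper6.CurveDeg.main k Z hdim _ N hO hN ψ hψ
  have hdeg : Curv2.deg k Z N 1 = 1 := by
    unfold Curv2.deg
    rw [he, hc]
    push_cast
    ring
  have hne : Groth.Agent.Lib.Helper4.CurveAsym.homH0Equiv k N ψ ≠ 0 := by
    intro h
    apply hψ
    apply (Groth.Agent.Lib.Helper4.CurveAsym.homH0Equiv k N).injective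
    rw [h, map_zero]
  have hs : Nontrivial (Coh.HH Z N 0) := ⟨⟨_, 0, hne⟩⟩
  obtain ⟨hle, heq⟩ := Groth.Agent.Lib.Helper4.CurveGrd.main k Z hdim h0 N hN hs
  rw [hdeg] at hle heq
  haveI : IsLocallyNoetherian Z :=
    LocallyOfFiniteType.isLocallyNoetherian (Z ↘ (Spec (CommRingCat.of k)))
  haveI : Module.Finite k (Coh.HH Z N 0) :=
    Groth.Agent.S0002.result k Z N (Groth.Agent.Lib.Helper6.CurveDeg.isCoh_of_isInvertible N hN) 0
  have hpos : 0 < Module.finrank k (Coh.HH Z N 0) := Module.finrank_pos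
  by_contra hne1
  have h2 : (Module.finrank k (Coh.HH Z N 0) : ℤ) = 1 + 1 := by omega
  have := heq h2 (by norm_num)
  omega

end Groth.Agent.Lib.Helper2.DegOneB
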