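import Mathlib
import Groth.Agent.Lib.Helper13AffBC
import Groth.Agent.Lib.Helper4CurvePt
import Groth.Agent.Lib.Helper2GrauertE
import Groth.Agent.Lib.Helper6H0Const

/-!
# A section of `f : C ⟶ S` meets each fibre in a rational point (helper2)

Namespace `Groth.Agent.Lib.Helper2.DegOneC`.

For `f : C ⟶ S` separated with a section `x`, `i : Z' ⟶ C` the closed subscheme `x(S)` and `ι : C_y ⟶ C` a fibre,
`W = Z' ×_C C_y`:
* `isIso_snd_comp` : `W ⟶ C_y ⟶ Spec κ(y)` is an isomorphism;
* `bcIso` : `ι^* i_* N' ≅ i'_* ι'^* N'` for quasi-coherent `N'` (affine base change, helper13);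
* `finrank_hh0_push_eq_one` : `h⁰(C_y, i'_* O_W) = 1`;
* `nonempty_iso_of_subsingleton` : invertible modules on a one-point scheme are trivial.
-/

set_option autoImplicit false
set_option linter.style.haveILetI false
universe u
open CategoryTheory CategoryTheory.Limits AlgebraicGeometry TopologicalSpace Opposite

namespace Groth.Agent.Lib.Helper2.DegOneC

open Groth.Agent.Helper13AffBC

section triv

/-- invertible modules on a one-point scheme are trivial -/
theorem nonempty_iso_of_subsingleton (W : Scheme.{u}) [Subsingleton ↥W] [Nonempty ↥W]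
    (L : W.Modules) (hL : PicF.IsInvertible L) : Nonempty (L ≅ Coh.structureModule W) := by
  obtain ⟨w⟩ := (inferInstance : Nonempty ↥W)
  obtain ⟨W₀, e, hxW, he⟩ := Groth.Agent.Lib.Helper23.SecTw.exists_gen L hL w
  have hW : W₀ = ⊤ := by
    rw [eq_top_iff]
    intro y _
    have : y = w := Subsingleton.elim _ _
    rw [this]
    exact hxW
  exact Groth.Agent.Lib.Helper2.GrauertE.nonempty_iso_of_isGen_top L W₀ hW e he

end triv

section geom

variable {C S : Scheme.{u}} (f : C ⟶ S) (x : S ⟶ C) (hx : x ≫ f = 𝟙 S)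

include hx in
theorem isClosedImmersion_section [IsSeparated f] : IsClosedImmersion x := by
  haveI : IsClosedImmersion (x ≫ f) := by rw [hx]; infer_instance
  exact IsClosedImmersion.of_comp x f

include hx in
theorem isIso_subschemeι_comp [IsSeparated f] : IsIso (x.ker.subschemeι ≫ f) := by
  haveI := isClosedImmersion_section f x hx
  haveI : IsIso x.toImage := inferInstance
  have h : x.toImage ≫ (x.ker.subschemeι ≫ f) = 𝟙 S := by
    rw [← Category.assoc]
    have := x.toImage_imageι
    rw [this, hx]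
  haveI : IsIso (x.toImage ≫ (x.ker.subschemeι ≫ f)) := by rw [h]; infer_instance
  exact IsIso.of_isIso_comp_left x.toImage _

variable (y : S)

include hx in
/-- `x(S) ×_C C_y ⟶ C_y ⟶ Spec κ(y)` is an isomorphism -/
theorem isIso_snd_comp [IsSeparated f] :
    IsIso (pullback.snd x.ker.subschemeι (f.fiberι y) ≫ f.fiberToSpecResidueField y) := by
  haveI := isIso_subschemeι_comp f x hx
  have h1 : IsPullback (pullback.snd x.ker.subschemeι (f.fiberι y))
      (pullback.fst x.ker.subschemeι (f.fiberι y)) (f.fiberι y) x.ker.subschemeι :=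
    (IsPullback.of_hasPullback x.ker.subschemeι (f.fiberι y)).flip
  have h2 : IsPullback (f.fiberToSpecResidueField y) (f.fiberι y) (S.fromSpecResidueField y) f :=
    (IsPullback.of_hasPullback f (S.fromSpecResidueField y)).flip
  have h3 := (h1.paste_horiz h2).flip
  have h4 := h3.isoPullback_hom_snd
  rw [← h4]
  infer_instance

end geom


section push

open Groth.Agent.Lib.Helper6.H0Const

/-- `h⁰(Z, j_* O_W) = 1` when `W ⟶ Z ⟶ Spec k` is an isomorphism -/
theorem finrank_hh0_push_eq_one (k : Type u) [Field k] {Z W : Scheme.{u}}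
    [Z.Over (Spec (CommRingCat.of k))] (j : W ⟶ Z)
    [IsIso (j ≫ (Z ↘ Spec (CommRingCat.of k)))] :
    Module.finrank k
      (Coh.HH Z ((Scheme.Modules.pushforward j).obj (Coh.structureModule W)) 0) = 1 := by
  letI alg : Algebra k Γ(W, ⊤) := (gsMap k (j ≫ (Z ↘ Spec (CommRingCat.of k)))).hom.toAlgebra
  have h := Groth.Agent.Lib.Helper4.CurvePt.finrank_hh0_push j k
  rw [h]
  haveI : IsIso (gsMap k (j ≫ (Z ↘ Spec (CommRingCat.of k)))) := by
    unfold gsMap
    haveI : IsIso (Scheme.Hom.appTop (j ≫ (Z ↘ Spec (CommRingCat.of k)))) :=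
      inferInstanceAs (IsIso ((j ≫ (Z ↘ Spec (CommRingCat.of k))).app ⊤))
    infer_instance
  have hbij : Function.Bijective (algebraMap k Γ(W, ⊤)) :=
    ConcreteCategory.bijective_of_isIso (gsMap k (j ≫ (Z ↘ Spec (CommRingCat.of k))))
  rw [← (LinearEquiv.ofBijective (Algebra.linearMap k Γ(W, ⊤)) hbij).finrank_eq]
  exact Module.finrank_self k

/-- a scheme isomorphic to the spectrum of a field has exactly one point -/
theorem subsingleton_nonempty_of_isIso (k : Type u) [Field k] {W : Scheme.{u}}
    (w : W ⟶ Spec (CommRingCat.of k)) [IsIso w] : Subsingleton ↥W ∧ Nonempty ↥W := by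
  have hb : Function.Bijective w := (asIso w).schemeIsoToHomeo.bijective
  haveI : Subsingleton ↥(Spec (CommRingCat.of k)) :=
    inferInstanceAs (Subsingleton (PrimeSpectrum k))
  refine ⟨hb.1.subsingleton, ?_⟩
  obtain ⟨z, -⟩ := hb.2 (IsLocalRing.closedPoint k)
  exact ⟨z⟩

end push

section bc

variable {C Z' Z : Scheme.{u}} (i : Z' ⟶ C) [IsAffineHom i] (ι : Z ⟶ C)

/-- affine base change `ι^* i_* N' ≅ i'_* ι'^* N'` -/
noncomputable def bcIso (N' : Z'.Modules) [N'.IsQuasicoherent] :
    (Scheme.Modules.pullback ι).obj ((Scheme.Modules.pushforward i).obj N') ≅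
      (Scheme.Modules.pushforward (pullback.snd i ι)).obj
        ((Scheme.Modules.pullback (pullback.fst i ι)).obj N') :=
  haveI := isIso_bcMap i ι (pullback.fst i ι) (pullback.snd i ι) (IsPullback.of_hasPullback i ι) N'
  asIso (bcMap i ι (pullback.fst i ι) (pullback.snd i ι) (IsPullback.of_hasPullback i ι) N')

end bc

end Groth.Agent.Lib.Helper2.DegOneC
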