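import Mathlib
import Groth.Agent.Lib.Helper2DegOneA
import Groth.Agent.Lib.Helper2DegOneC
import Groth.Agent.Lib.Helper27ProjFormula
import Groth.Agent.Lib.Helper23PB
import Groth.Agent.Lib.Helper4CIPull
import Groth.Agent.Lib.Helper4CurveGrd
import Groth.Agent.Lib.Helper4DevI
import Groth.Agent.Lib.Helper17StalkBC3

/-!
# The canonical section of `O(x)` on a fibre (helper2)

Namespace `Groth.Agent.Lib.Helper2.DegOneD`.

`f : C ⟶ S` separated with a section `x`, `L ⊗ I(x) ≅ O_C`, `ι : C_y ⟶ C` a fibre: the pulled back canonical section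
`ψ : O_{C_y} ⟶ ι^*L` has cokernel `≅ i'_* O_W`, `W = x(S) ×_C C_y` (a `κ(y)`-rational point).
-/

set_option autoImplicit false
set_option linter.style.haveILetI false
universe u
open CategoryTheory CategoryTheory.Limits AlgebraicGeometry TopologicalSpace Opposite

namespace Groth.Agent.Lib.Helper2.DegOneD

open Groth.Agent.Lib.Helper2.DegOneA Groth.Agent.Lib.Helper2.DegOneC
  Groth.Agent.Lib.Helper23.TensorUnit Groth.Agent.Lib.Helper23.AmpleFam2
  Groth.Agent.Lib.Helper23.PB Groth.Agent.Helper13PullbackUnit Groth.Agent.Lib.Helper23.SecTw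

variable {C S : Scheme.{u}} (f : C ⟶ S) [IsSeparated f] (x : S ⟶ C) (hx : x ≫ f = 𝟙 S)
  (L : C.Modules) (hL : PicF.IsInvertible L)
  (α : CohB1.tensorMod L (ClSub.idealMod x.ker) ≅ Coh.structureModule C) (y : S)

/-- the pulled back canonical section on the fibre -/
noncomputable def fibSec :
    Coh.structureModule (f.fiber y) ⟶ (Scheme.Modules.pullback (f.fiberι y)).obj L :=
  (pullbackUnitIso (f.fiberι y)).inv ≫ (Scheme.Modules.pullback (f.fiberι y)).map (canSec x.ker L α)

include hx hL in
theorem nonempty_cokernel_fibSec_iso :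
    Nonempty (cokernel (fibSec f x L α y) ≅
      (Scheme.Modules.pushforward (pullback.snd x.ker.subschemeι (f.fiberι y))).obj
        (Coh.structureModule (pullback x.ker.subschemeι (f.fiberι y)))) := by
  let D := x.ker
  let i := D.subschemeι
  let ι := f.fiberι y
  let I := ClSub.idealMod D
  let P := Scheme.Modules.pullback ι
  haveI : P.IsLeftAdjoint := (Scheme.Modules.pullbackPushforwardAdjunction ι).isLeftAdjoint
  let T := canSC D L α
  have hT : T.Exact := canSC_exact D L α
  haveI : Epi T.g := epi_canProj D L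
  have hT' : (T.map P).Exact := hT.map_of_epi_of_preservesCokernel P inferInstance inferInstance
  haveI : Epi (T.map P).g := inferInstanceAs (Epi (P.map T.g))
  -- step 1: cokernel of the pulled back section
  let e1 : cokernel (fibSec f x L α y) ≅ cokernel (P.map T.f) :=
    cokernelEpiComp (pullbackUnitIso ι).inv (P.map T.f)
  let e2 : cokernel (P.map T.f) ≅ P.obj T.X₃ :=
    (cokernelIsCokernel (P.map T.f)).coconePointUniqueUpToIso hT'.gIsCokernel
  -- step 2: projection formula
  let α' : CohB1.tensorMod I L ≅ Coh.structureModule C := tensorBraid I L ≪≫ α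
  let N' : D.subscheme.Modules := (Scheme.Modules.pullback i).obj L
  have hN' : PicF.IsInvertible N' := isInvertible_pullback i L hL
  haveI : N'.IsQuasicoherent := isQuasicoherent_of_isInvertible N' hN'
  let e3 : T.X₃ ≅ (Scheme.Modules.pushforward i).obj N' :=
    Groth.Agent.Lib.Helper27ProjFormula.projIsoLApp i L I α α' (Coh.structureModule D.subscheme) ≪≫
      (Scheme.Modules.pushforward i).mapIso (tensorUnitIso N')
  -- step 3: affine base change
  haveI : IsClosedImmersion i := inferInstance
  let e4 := bcIso i ι N'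
  -- step 4: triviality on the one-point scheme `W`
  haveI := isIso_snd_comp f x hx y
  obtain ⟨hsub, hne⟩ := subsingleton_nonempty_of_isIso (S.residueField y)
    (pullback.snd i ι ≫ f.fiberToSpecResidueField y)
  have hN'' : PicF.IsInvertible ((Scheme.Modules.pullback (pullback.fst i ι)).obj N') :=
    isInvertible_pullback _ N' hN'
  obtain ⟨e5⟩ := nonempty_iso_of_subsingleton _ _ hN''
  exact ⟨e1 ≪≫ e2 ≪≫ P.mapIso e3 ≪≫ e4 ≪≫ (Scheme.Modules.pushforward (pullback.snd i ι)).mapIso e5⟩


theorem top_le_preimage {A B : Scheme.{u}} (g : A ⟶ B) : (⊤ : A.Opens) ≤ g ⁻¹ᵁ ⊤ := fun _ _ => trivial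

/-- the value of the pulled back canonical section is the pull back of the value -/
theorem sv_fibSec :
    sv (fibSec f x L α y) ⊤ =
      unitSec (f.fiberι y) L (top_le_preimage (f.fiberι y)) (sv (canSec x.ker L α) ⊤) := by
  let ι := f.fiberι y
  have hle := top_le_preimage ι
  have h1 := Groth.Agent.Lib.Helper4.CIPull.pullbackUnitHom_unitSec ι (⊤ : C.Opens) 1
  have h2 : (pullbackUnitIso ι).inv.app ⊤ (Groth.Agent.Lib.Helper23.GenLocus.toS ⊤ 1) =
      unitSec ι (Coh.structureModule C) hle (Groth.Agent.Lib.Helper23.GenLocus.toS ⊤ 1) := by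
    have h3 : (pullbackUnitIso ι).hom.app ⊤
        (unitSec ι (Coh.structureModule C) hle (Groth.Agent.Lib.Helper23.GenLocus.toS ⊤ 1)) =
        Groth.Agent.Lib.Helper23.GenLocus.toS ⊤ 1 := by
      have h4 : (ι.app ⊤).hom 1 = 1 := map_one _
      rw [h4] at h1
      exact h1
    rw [← h3]
    have := congrArg (fun φ : (Scheme.Modules.pullback ι).obj (Coh.structureModule C) ⟶
        (Scheme.Modules.pullback ι).obj (Coh.structureModule C) =>
      (Scheme.Modules.Hom.app φ ⊤) (unitSec ι (Coh.structureModule C) hle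
        (Groth.Agent.Lib.Helper23.GenLocus.toS ⊤ 1))) (pullbackUnitIso ι).hom_inv_id
    exact this
  rw [val_eq_app, val_eq_app]
  change ((Scheme.Modules.pullback ι).map (canSec x.ker L α)).app ⊤
    ((pullbackUnitIso ι).inv.app ⊤ (Groth.Agent.Lib.Helper23.GenLocus.toS ⊤ 1)) = _
  rw [h2]
  exact map_unitSec ι (canSec x.ker L α) hle _

include hx hL in
/-- the pulled back canonical section does not vanish on a fibre with more than one point -/
theorem fibSec_ne_zero (hns : ¬ Subsingleton ↥(f.fiber y)) : fibSec f x L α y ≠ 0 := by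
  intro h0
  obtain ⟨e⟩ := nonempty_cokernel_fibSec_iso f x hx L hL α y
  let i' := pullback.snd x.ker.subschemeι (f.fiberι y)
  haveI : IsIso (cokernel.π (fibSec f x L α y)) := by
    rw [h0]
    exact cokernel.π_zero_isIso
  let e0 : (Scheme.Modules.pullback (f.fiberι y)).obj L ≅
      (Scheme.Modules.pushforward i').obj (Coh.structureModule _) :=
    asIso (cokernel.π (fibSec f x L α y)) ≪≫ e
  have hN : PicF.IsInvertible ((Scheme.Modules.pullback (f.fiberι y)).obj L) :=
    isInvertible_pullback _ L hL
  have hsupp := Groth.Agent.Lib.Helper4.CurveGrd.support_eq_of_iso e0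
  haveI := isIso_snd_comp f x hx y
  obtain ⟨hsub, -⟩ := subsingleton_nonempty_of_isIso (S.residueField y)
    (i' ≫ f.fiberToSpecResidueField y)
  apply hns
  constructor
  intro a b
  have ha : a ∈ CohB1.support ((Scheme.Modules.pullback (f.fiberι y)).obj L) :=
    Groth.Agent.Lib.Helper4.CurvePt.mem_support_of_rank_pos _ 1 one_pos
      (isFinLocFreeOfRank_one_of_isInvertible _ hN) a
  have hb : b ∈ CohB1.support ((Scheme.Modules.pullback (f.fiberι y)).obj L) :=
    Groth.Agent.Lib.Helper4.CurvePt.mem_support_of_rank_pos _ 1 one_pos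
      (isFinLocFreeOfRank_one_of_isInvertible _ hN) b
  rw [hsupp] at ha hb
  obtain ⟨a', rfl⟩ := Groth.Agent.Lib.Helper4.Dev.support_push_subset i' _ ha
  obtain ⟨b', rfl⟩ := Groth.Agent.Lib.Helper4.Dev.support_push_subset i' _ hb
  rw [Subsingleton.elim a' b']

include hx hL in
/-- `h⁰` of the cokernel of the pulled back canonical section is `1` -/
theorem finrank_cokernel_fibSec :
    letI : (f.fiber y).Over (Spec (CommRingCat.of (S.residueField y))) :=
      ⟨f.fiberToSpecResidueField y⟩
    Module.finrank (S.residueField y) (Coh.HH (f.fiber y) (cokernel (fibSec f x L α y)) 0) = 1 := by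
  letI : (f.fiber y).Over (Spec (CommRingCat.of (S.residueField y))) :=
    ⟨f.fiberToSpecResidueField y⟩
  obtain ⟨e⟩ := nonempty_cokernel_fibSec_iso f x hx L hL α y
  have h1 := (Groth.Agent.Lib.Helper17.StalkBC.hhEquiv (S.residueField y) e 0).finrank_eq
  rw [h1]
  haveI : IsIso (pullback.snd x.ker.subschemeι (f.fiberι y) ≫
      ((f.fiber y) ↘ Spec (CommRingCat.of (S.residueField y)))) := isIso_snd_comp f x hx y
  exact finrank_hh0_push_eq_one (S.residueField y) (pullback.snd x.ker.subschemeι (f.fiberι y))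

end Groth.Agent.Lib.Helper2.DegOneD
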