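import Mathlib
import Groth.Agent.Lib.Helper2R1RankF
import Groth.Agent.Lib.Helper2R1RankD
import Groth.Agent.Lib.Helper21UnitFibG
import Groth.Agent.Lib.Helper21SemicontB

/-!
# `O_{S'} → f'_* O_{X'}` is an isomorphism universally when `h⁰(X_s, O) = 1` (helper2)

Namespace `Groth.Agent.Lib.Helper2.R1RankG`.
-/

set_option autoImplicit false
set_option linter.style.haveILetI false
universe u
open CategoryTheory CategoryTheory.Limits AlgebraicGeometry TopologicalSpace

namespace Groth.Agent.Lib.Helper2.R1RankG

theorem isFP_structureModule (X : Scheme.{u}) : CohB1.IsFP (Coh.structureModule X) := by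
  have hinv := Groth.Agent.Lib.Helper23.TensorUnit.isInvertible_structureModule X
  have hflf : FlatMod.IsFinLocFree (Coh.structureModule X) :=
    Groth.Agent.Lib.Helper23.ResProp.isFinLocFree_of_isInvertible _ hinv
  exact Groth.Agent.Lib.Helper2.LocFree.isFP_of_isFinLocFree _ hflf

theorem isFlatOver_structureModule {X S : Scheme.{u}} (f : X ⟶ S) [Flat f] :
    FlatMod.IsFlatOver f (Coh.structureModule X) := by
  have hinv := Groth.Agent.Lib.Helper23.TensorUnit.isInvertible_structureModule X
  have hflf : FlatMod.IsFinLocFree (Coh.structureModule X) :=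
    Groth.Agent.Lib.Helper23.ResProp.isFinLocFree_of_isInvertible _ hinv
  exact Groth.Agent.Lib.Helper2.RelCurveB.isFlatOver_of_isFlat' f _
    (Groth.Agent.Lib.Helper2.LocFree.isFlat_of_isFinLocFree _ hflf)

variable {X S : Scheme.{u}} (f : X ⟶ S) [IsProper f] [LocallyOfFinitePresentation f] [Flat f]

/-- `O_S → f_* O_X` is an isomorphism when `h⁰(X_s, O_{X_s}) = 1` for all `s` -/
theorem isIso_unitToPush (h0 : ∀ s : S, PerfAux.betti f (Coh.structureModule X) s 0 = 1) :
    IsIso (ClSub.unitToPush f) :=
  Groth.Agent.Lib.Helper2.R1RankF.isIso_unitToPush f (isFP_structureModule X)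
    (isFlatOver_structureModule f) h0

/-- the same after any base change -/
theorem isIso_unitToPush_baseChange (h0 : ∀ s : S, PerfAux.betti f (Coh.structureModule X) s 0 = 1)
    {S' : Scheme.{u}} (g : S' ⟶ S) : IsIso (ClSub.unitToPush (pullback.snd f g)) := by
  haveI : (Coh.structureModule X).IsQuasicoherent := inferInstance
  refine isIso_unitToPush (pullback.snd f g) (fun s' => ?_)
  have h1 := Groth.Agent.Lib.Helper21.TBridge.betti_baseChange f g (pullback.fst f g)
    (pullback.snd f g) (IsPullback.of_hasPullback f g) (Coh.structureModule X) s' 0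
  have h2 := Groth.Agent.Lib.Helper21.Semicont.betti_congr_iso (pullback.snd f g)
    (Groth.Agent.Lib.Helper1.Fib.pullbackUnitIso' (pullback.fst f g)) s' 0
  rw [← h2, h1]
  exact h0 (g s')

end Groth.Agent.Lib.Helper2.R1RankG
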