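import Mathlib
import Groth.Agent.Lib.Helper2R1RankG

/-!
# Applications: conic bundles (`S18902`) and families of curves with `h⁰ = 1` (`S16751`) (helper2)

Namespace `Groth.Agent.Lib.Helper2.R1RankH`.
-/

set_option autoImplicit false
set_option linter.style.haveILetI false
universe u
open CategoryTheory CategoryTheory.Limits AlgebraicGeometry TopologicalSpace

namespace Groth.Agent.Lib.Helper2.R1RankH

/-- `h⁰(X_s, O) = 1` for the fibres of a smooth proper morphism with geometrically connected
fibres -/
theorem betti_zero_eq_one_of_smooth {X S : Scheme.{u}} (f : X ⟶ S) [IsProper f] [Smooth f]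
    [GeometricallyConnected f] (s : S) : PerfAux.betti f (Coh.structureModule X) s 0 = 1 := by
  let k : Type u := S.residueField s
  let q : f.fiber s ⟶ Spec (CommRingCat.of k) := f.fiberToSpecResidueField s
  letI : (f.fiber s).Over (Spec (CommRingCat.of k)) := ⟨q⟩
  haveI : IsProper ((f.fiber s) ↘ Spec (CommRingCat.of k)) :=
    MorphismProperty.pullback_snd (P := @IsProper) f (S.fromSpecResidueField s) inferInstance
  haveI : Smooth ((f.fiber s) ↘ Spec (CommRingCat.of k)) :=
    MorphismProperty.pullback_snd (P := @Smooth) f (S.fromSpecResidueField s) inferInstance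
  haveI : GeometricallyConnected ((f.fiber s) ↘ Spec (CommRingCat.of k)) :=
    inferInstanceAs (GeometricallyConnected (f.fiberToSpecResidueField s))
  haveI : GeometricallyReduced ((f.fiber s) ↘ Spec (CommRingCat.of k)) :=
    Groth.Agent.Lib.Helper2.R1RankD.geometricallyReduced_of_smooth _
  have h1 := Groth.Agent.Lib.Helper6.H0Const.finrank_hh0_eq_one k (f.fiber s)
  have e := Groth.Agent.Lib.Helper17.StalkBC.hhEquiv k
    (Groth.Agent.Lib.Helper1.Fib.pullbackUnitIso' (f.fiberι s)) 0
  exact (LinearEquiv.finrank_eq e).trans h1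

/-- `O_S → q_* O_P` is an isomorphism for a smooth proper morphism with geometrically connected
fibres -/
theorem main_conic {P S : Scheme.{u}} (q : P ⟶ S) [IsProper q] [Smooth q]
    [GeometricallyConnected q] : IsIso (ClSub.unitToPush q) := by
  haveI : Flat q := inferInstance
  haveI : LocallyOfFinitePresentation q := inferInstance
  exact Groth.Agent.Lib.Helper2.R1RankG.isIso_unitToPush q
    (fun s => betti_zero_eq_one_of_smooth q s)

local instance (X : Scheme.{u}) : EnoughInjectives X.Modules :=
  Groth.Agent.Lib.Helper17.QCPush.enoughInjectives X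

theorem main_h0 (X S : Scheme.{u}) (f : X ⟶ S)
    [Flat f] [IsProper f] [LocallyOfFinitePresentation f]
    (hdim : ∀ s : S, topologicalKrullDim ↥(f.fiber s) ≤ 1)
    (h0 : ∀ s : S, Models.hRank ↥(S.residueField s) (f.fiber s) (f.fiberToSpecResidueField s)
      (Coh.structureModule (f.fiber s)) 0 = 1) :
    (∀ (S' : Scheme.{u}) (g : S' ⟶ S), IsIso (ClSub.unitToPush (pullback.snd f g))) ∧
      FlatMod.IsFinLocFree ((Coh.Rpush f 1).obj (Coh.structureModule X)) := by
  have hb0 : ∀ s : S, PerfAux.betti f (Coh.structureModule X) s 0 = 1 := by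
    intro s
    let k : Type u := S.residueField s
    letI : (f.fiber s).Over (Spec (CommRingCat.of k)) := ⟨f.fiberToSpecResidueField s⟩
    have e := Groth.Agent.Lib.Helper17.StalkBC.hhEquiv k
      (Groth.Agent.Lib.Helper1.Fib.pullbackUnitIso' (f.fiberι s)) 0
    exact (LinearEquiv.finrank_eq e).trans (h0 s)
  refine ⟨fun S' g => Groth.Agent.Lib.Helper2.R1RankG.isIso_unitToPush_baseChange f hb0 g, ?_⟩
  refine Groth.Agent.Lib.Helper21.BC0Epi.isFinLocFree_R1 f _
    (Groth.Agent.Lib.Helper2.R1RankG.isFP_structureModule X)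
    (Groth.Agent.Lib.Helper2.R1RankG.isFlatOver_structureModule f)
    (fun y => Groth.Agent.Lib.Helper2.R1RankE.epi_fibreBC_of_betti f y (hb0 y)) (fun s => ?_)
  haveI := Groth.Agent.Lib.Helper2.TopCohB.subsingleton_fiberH_of_dim_lt f
    (Coh.structureModule X) s 1 (hdim s) 2 (by norm_num)
  exact Module.finrank_zero_of_subsingleton

end Groth.Agent.Lib.Helper2.R1RankH
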