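import Mathlib
import Groth.Agent.Lib.Helper2DegOneB
import Groth.Agent.Lib.Helper2DegOneD
import Groth.Agent.Lib.Helper2R1RankH
import Groth.Agent.Lib.Helper11SmInt
import Groth.Agent.Lib.Helper23Restr

/-!
# `h⁰(C_y, O(x)|_{C_y}) = 1` for a family of curves of positive genus (helper2)

Namespace `Groth.Agent.Lib.Helper2.DegOneE`.
-/

set_option autoImplicit false
set_option linter.style.haveILetI false
universe u
open CategoryTheory CategoryTheory.Limits AlgebraicGeometry TopologicalSpace Opposite

namespace Groth.Agent.Lib.Helper2.DegOneE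

open Groth.Agent.Lib.Helper2.DegOneA Groth.Agent.Lib.Helper2.DegOneD
  Groth.Agent.Helper13PullbackUnit Groth.Agent.Lib.Helper23.SecTw Groth.Agent.Lib.Helper23.PB

theorem not_subsingleton_of_dim {T : Type*} [TopologicalSpace T] (h : topologicalKrullDim T = 1) :
    ¬ Subsingleton T := by
  intro hs
  have := topologicalKrullDim_zero_of_discreteTopology T
  rw [h] at this
  exact absurd this (by decide)

variable {C S : Scheme.{u}} (f : C ⟶ S) [IsProper f] [Smooth f] [GeometricallyConnected f]
  (x : S ⟶ C) (hx : x ≫ f = 𝟙 S)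
  (L : C.Modules) (hL : PicF.IsInvertible L)
  (α : CohB1.tensorMod L (ClSub.idealMod x.ker) ≅ Coh.structureModule C) (y : S)

include hx hL in
theorem betti_eq_one (hdim : topologicalKrullDim ↥(f.fiber y) = 1)
    (hg : 1 ≤ PerfAux.betti f (Coh.structureModule C) y 1) :
    PerfAux.betti f L y 0 = 1 ∧
      unitSec (f.fiberι y) L (top_le_preimage (f.fiberι y)) (sv (canSec x.ker L α) ⊤) ≠ 0 := by
  let k : Type u := S.residueField y
  let q : f.fiber y ⟶ Spec (CommRingCat.of k) := f.fiberToSpecResidueField y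
  letI : (f.fiber y).Over (Spec (CommRingCat.of k)) := ⟨q⟩
  haveI : IsProper ((f.fiber y) ↘ Spec (CommRingCat.of k)) :=
    MorphismProperty.pullback_snd (P := @IsProper) f (S.fromSpecResidueField y) inferInstance
  haveI : Smooth ((f.fiber y) ↘ Spec (CommRingCat.of k)) :=
    MorphismProperty.pullback_snd (P := @Smooth) f (S.fromSpecResidueField y) inferInstance
  haveI : GeometricallyConnected ((f.fiber y) ↘ Spec (CommRingCat.of k)) :=
    inferInstanceAs (GeometricallyConnected (f.fiberToSpecResidueField y))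
  haveI : GeometricallyReduced ((f.fiber y) ↘ Spec (CommRingCat.of k)) :=
    Groth.Agent.Lib.Helper2.R1RankD.geometricallyReduced_of_smooth _
  haveI : IsLocallyNoetherian (f.fiber y) :=
    LocallyOfFiniteType.isLocallyNoetherian ((f.fiber y) ↘ (Spec (CommRingCat.of k)))
  haveI : CompactSpace ↥(f.fiber y) :=
    QuasiCompact.compactSpace_of_compactSpace ((f.fiber y) ↘ (Spec (CommRingCat.of k)))
  haveI : IsNoetherian (f.fiber y) := {}
  haveI : IsIntegral (f.fiber y) :=
    Groth.Agent.Lib.Helper11SmInt.isIntegral_of_connected_of_isDomain_stalk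
      (fun z => Groth.Agent.Lib.Helper11SmInt.isDomain_stalk_of_smooth k
        ((f.fiber y) ↘ (Spec (CommRingCat.of k))) z)
  have h0 := Groth.Agent.Lib.Helper6.H0Const.finrank_hh0_eq_one k (f.fiber y)
  have hgen : 1 ≤ Curv2.genus k (f.fiber y) := by
    have e := Groth.Agent.Lib.Helper17.StalkBC.hhEquiv k
      (Groth.Agent.Lib.Helper1.Fib.pullbackUnitIso' (f.fiberι y)) 1
    have h1 : PerfAux.betti f (Coh.structureModule C) y 1 = Curv2.genus k (f.fiber y) :=
      LinearEquiv.finrank_eq e
    rw [← h1]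
    exact hg
  have hns := not_subsingleton_of_dim hdim
  have hψ := fibSec_ne_zero f x hx L hL α y hns
  have hc := finrank_cokernel_fibSec f x hx L hL α y
  have hN : PicF.IsInvertible ((Scheme.Modules.pullback (f.fiberι y)).obj L) :=
    isInvertible_pullback _ L hL
  have h1 := Groth.Agent.Lib.Helper2.DegOneB.finrank_h0_eq_one k (f.fiber y) hdim h0 hgen _ hN
    (fibSec f x L α y) hψ hc
  refine ⟨h1, fun hu => hψ ?_⟩
  apply hom_ext_of_sv
  rw [sv_fibSec, hu]
  rfl

end Groth.Agent.Lib.Helper2.DegOneE
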