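import Mathlib
import Groth.Agent.Lib.Helper2R1RankC
import Groth.Agent.Lib.Helper27PnSections
import Groth.Agent.Lib.Helper4CurveDegSec

/-!
# The degree-0 base change map at a fibre where `h⁰ = 1` and a global section does not vanish is an
epimorphism (helper2)

Namespace `Groth.Agent.Lib.Helper2.DegOneF`.
-/

set_option autoImplicit false
set_option linter.style.haveILetI false
universe u
open CategoryTheory CategoryTheory.Limits AlgebraicGeometry TensorProduct Opposite TopologicalSpace

namespace Groth.Agent.Lib.Helper2.DegOneF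

open Groth.Agent.Helper13QcqsBC Groth.Agent.Helper13AffBC Groth.Agent.Helper13PullbackUnit
  Groth.Agent.Lib.Helper23.GenLocus Scheme.Modules

variable {X S : Scheme.{u}} (f : X ⟶ S) [QuasiCompact f] [QuasiSeparated f] (y : S)

theorem top_le_preimage' {A B : Scheme.{u}} (g : A ⟶ B) : (⊤ : A.Opens) ≤ g ⁻¹ᵁ ⊤ :=
  fun _ _ => trivial

set_option maxHeartbeats 1600000 in
/-- if `h⁰(X_y, F_y) = 1` and a global section `m` of `F` does not vanish on the fibre, the degree-0
base change map of `F` at the fibre square over `y` is an epimorphism -/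
theorem epi_fibreBC_of_betti_one (F : X.Modules) [F.IsQuasicoherent]
    (m : Γ(F, f ⁻¹ᵁ ⊤))
    (hb : PerfAux.betti f F y 0 = 1)
    (hune : unitSec (f.fiberι y) F (top_le_preimage' (f.fiberι y)) m ≠ 0) :
    Epi (Groth.Agent.Lib.Helper21.BC0Epi.fibreBC f F y) := by
  let R : CommRingCat.{u} := S.residueField y
  let g : Spec R ⟶ S := S.fromSpecResidueField y
  let ι : f.fiber y ⟶ X := f.fiberι y
  let fy : f.fiber y ⟶ Spec R := f.fiberToSpecResidueField y
  have sq : IsPullback ι fy f g := IsPullback.of_hasPullback f g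
  let G : (f.fiber y).Modules := (Scheme.Modules.pullback ι).obj F
  haveI : QuasiCompact fy := MorphismProperty.of_isPullback (P := @QuasiCompact) sq inferInstance
  haveI : QuasiSeparated fy :=
    MorphismProperty.of_isPullback (P := @QuasiSeparated) sq inferInstance
  haveI : ((Scheme.Modules.pushforward f).obj F).IsQuasicoherent :=
    Groth.Agent.Lib.Helper23.QCohLocal.isQuasicoherent_pushforward f F
  haveI : ((Scheme.Modules.pullback g).obj ((Scheme.Modules.pushforward f).obj F)).IsQuasicoherent :=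
    Groth.Agent.Lib.Helper2.PullbackSec.isQuasicoherent_pullback _ _
  haveI : G.IsQuasicoherent :=
    Groth.Agent.Lib.Helper2.PullbackSec.isQuasicoherent_pullback _ _
  haveI : ((Scheme.Modules.pushforward fy).obj G).IsQuasicoherent :=
    Groth.Agent.Lib.Helper23.QCohLocal.isQuasicoherent_pushforward fy _
  let ψ := bcMap f g ι fy sq F
  change Epi ψ
  refine Groth.Agent.Lib.Helper23.ModLocal.epi_of_surjective_Γ R ψ ?_
  have hle : (⊤ : (Spec R).Opens) ≤ g ⁻¹ᵁ ⊤ := le_rfl
  let u₀ : Γ((Scheme.Modules.pullback g).obj ((Scheme.Modules.pushforward f).obj F), ⊤) :=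
    unitSec g ((pushforward f).obj F) hle m
  let u : Γ(G, ⊤) := unitSec ι F (preimage_le f g ι fy sq hle) m
  have hu : ψ.app ⊤ u₀ = u := bcMap_unitSec f g ι fy sq F hle m
  have hune' : u ≠ 0 := hune
  let θ : (S.residueField y) →+* Γ(f.fiber y, ⊤) := ((Scheme.ΓSpecIso R).inv ≫ fy.appTop).hom
  letI : (f.fiber y).Over (Spec (CommRingCat.of (S.residueField y))) := ⟨fy⟩
  let E := Groth.Agent.Lib.Helper27PnSections.hh0Equiv (f.fiber y) G
  have key : ∀ x : Γ(G, ⊤), ∃ c : S.residueField y, x = θ c • u := by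
    intro x
    let u' : PerfAux.fiberH f F y 0 := E.symm u
    have hu' : u' ≠ 0 := by
      intro h
      apply hune'
      have : E u' = u := E.apply_symm_apply u
      rw [← this, h, map_zero]
      rfl
    have h1 := (finrank_eq_one_iff_of_nonzero' (K := S.residueField y) u' hu').1 hb
    obtain ⟨c, hc⟩ := h1 (E.symm x)
    refine ⟨c, ?_⟩
    have h2 : c • u' = (Coh.toGlobal fy c) • u' := rfl
    have h3 : E (c • u') = x := by rw [hc]; exact E.apply_symm_apply x
    rw [h2, Groth.Agent.Lib.Helper4.CurveDegSec.hh0Equiv_smul'] at h3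
    rw [← h3]
    have : E u' = u := E.apply_symm_apply u
    rw [this]
    rfl
  intro x
  obtain ⟨c, hc⟩ := key x
  let A' := (Groth.Agent.Lib.Helper23.QCohLocal.ΓF R).obj
    ((Scheme.Modules.pullback g).obj ((Scheme.Modules.pushforward f).obj F))
  refine ⟨c • (show A' from u₀), ?_⟩
  rw [LinearMap.map_smul]
  have h5 : ((Groth.Agent.Lib.Helper23.QCohLocal.ΓF R).map ψ).hom (show A' from u₀) = u := hu
  rw [h5]
  refine Eq.trans ?_ hc.symm
  have h6 : ((Spec R).presheaf.map (⊤ : (Spec R).Opens).leTop.op) = 𝟙 _ := by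
    have : (⊤ : (Spec R).Opens).leTop = 𝟙 ⊤ := Subsingleton.elim _ _
    rw [this, op_id, (Spec R).presheaf.map_id]
  change (((Spec R).presheaf.map (⊤ : (Spec R).Opens).leTop.op) ((Scheme.ΓSpecIso R).inv c)) •
    (show Γ((pushforward fy).obj G, ⊤) from u) = _
  rw [h6]
  rfl

end Groth.Agent.Lib.Helper2.DegOneF
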