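import Mathlib

/-!
# A nowhere vanishing element of a finite projective module of rank one is a basis (helper2)

Namespace `Groth.Agent.Lib.Helper2.DegOneG`.
-/

set_option autoImplicit false
set_option linter.style.haveILetI false
universe u v
open TensorProduct

namespace Groth.Agent.Lib.Helper2.DegOneG

variable {A : Type u} [CommRing A] {M : Type v} [AddCommGroup M] [Module A M]

open scoped Pointwise in
/-- a submodule that spans modulo every maximal ideal is everything (finite module) -/
theorem eq_top_of_forall_maximal [Module.Finite A M] (N : Submodule A M)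
    (h : ∀ q : Ideal A, q.IsMaximal → (⊤ : Submodule A M) ≤ N ⊔ q • (⊤ : Submodule A M)) :
    N = ⊤ := by
  by_contra hN
  have hJ : N.colon (⊤ : Submodule A M) ≠ ⊤ := by
    intro hJ
    apply hN
    rw [eq_top_iff]
    intro w _
    have h1 : (1 : A) ∈ N.colon (⊤ : Submodule A M) := by rw [hJ]; trivial
    have := (Submodule.mem_colon.1 h1) w trivial
    rwa [one_smul] at this
  obtain ⟨q, hq, hle⟩ := Ideal.exists_le_maximal _ hJ
  obtain ⟨r, hr1, hr2⟩ := Submodule.exists_sub_one_mem_and_smul_le_of_fg_of_le_sup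
    (I := q) (N := N) (N' := ⊤) (P := ⊤) (Module.Finite.fg_top) le_rfl (h q hq)
  have hr3 : r ∈ q := hle (Submodule.mem_colon_iff_le.2 hr2)
  apply hq.ne_top
  rw [Ideal.eq_top_iff_one]
  have : (1 : A) = r - (r - 1) := by ring
  rw [this]
  exact q.sub_mem hr3 hr1

/-- the fibre of a rank one module at a maximal ideal is spanned by any nonzero element -/
theorem le_span_sup_of_rank_one [Module.Finite A M] [Module.Flat A M]
    (hr : ∀ q : PrimeSpectrum A, Module.rankAtStalk M q = 1) (m : M)
    (q : Ideal A) (hq : q.IsMaximal) (hm : m ∉ q • (⊤ : Submodule A M)) :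
    (⊤ : Submodule A M) ≤ Submodule.span A {m} ⊔ q • (⊤ : Submodule A M) := by
  letI : Field (A ⧸ q) := Ideal.Quotient.field q
  let K := A ⧸ q
  let V := K ⊗[A] M
  let e := TensorProduct.quotTensorEquivQuotSMul M q
  have hfr : Module.finrank K V = 1 := by
    let p : PrimeSpectrum K := ⟨⊥, Ideal.isPrime_bot⟩
    have h1 := Module.rankAtStalk_baseChange (R := A) (M := M) (S := K) p
    rw [hr] at h1
    have h2 := congrFun (Module.rankAtStalk_eq_finrank_of_free (R := K) (M := V)) p
    rw [h1] at h2
    exact h2.symm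
  let v : V := (1 : K) ⊗ₜ[A] m
  have hev : e v = Submodule.Quotient.mk m := by
    change e ((Ideal.Quotient.mk q 1) ⊗ₜ[A] m) = _
    rw [TensorProduct.quotTensorEquivQuotSMul_mk_tmul, one_smul]
  have hv : v ≠ 0 := by
    intro h0
    apply hm
    have : e v = 0 := by rw [h0, map_zero]
    rw [hev] at this
    exact (Submodule.Quotient.mk_eq_zero _).1 this
  have hall := (finrank_eq_one_iff_of_nonzero' v hv).1 hfr
  intro w _
  obtain ⟨c, hc⟩ := hall ((1 : K) ⊗ₜ[A] w)
  obtain ⟨a, rfl⟩ := Ideal.Quotient.mk_surjective c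
  have h3 : (Ideal.Quotient.mk q a) • v = (Ideal.Quotient.mk q a) ⊗ₜ[A] m := by
    change (Ideal.Quotient.mk q a) • ((1 : K) ⊗ₜ[A] m) = _
    rw [TensorProduct.smul_tmul', smul_eq_mul, mul_one]
  rw [h3] at hc
  have h4 := congrArg e hc
  have h5 : e ((1 : K) ⊗ₜ[A] w) = Submodule.Quotient.mk w := by
    change e ((Ideal.Quotient.mk q 1) ⊗ₜ[A] w) = _
    rw [TensorProduct.quotTensorEquivQuotSMul_mk_tmul, one_smul]
  rw [TensorProduct.quotTensorEquivQuotSMul_mk_tmul, h5] at h4
  have h6 : w - a • m ∈ q • (⊤ : Submodule A M) := by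
    rw [← Submodule.Quotient.mk_eq_zero, Submodule.Quotient.mk_sub, ← h4, sub_self]
  have : w = a • m + (w - a • m) := by abel
  rw [this]
  exact Submodule.add_mem_sup (Submodule.smul_mem _ a (Submodule.mem_span_singleton_self m)) h6

/-- a nowhere vanishing element of a finite projective module of rank one is a basis -/
theorem bijective_smul_of_rank_one [Module.Finite A M] [Module.Projective A M]
    (hr : ∀ q : PrimeSpectrum A, Module.rankAtStalk M q = 1) (m : M)
    (hm : ∀ q : Ideal A, q.IsMaximal → m ∉ q • (⊤ : Submodule A M)) :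
    Function.Bijective (fun a : A => a • m) := by
  rcases subsingleton_or_nontrivial A with hA | hA
  · haveI : Subsingleton M := Module.subsingleton A M
    exact ⟨fun a b _ => Subsingleton.elim a b, fun w => ⟨0, Subsingleton.elim _ _⟩⟩
  have hspan : Submodule.span A {m} = ⊤ :=
    eq_top_of_forall_maximal _ (fun q hq => le_span_sup_of_rank_one hr m q hq (hm q hq))
  let φ : A →ₗ[A] M := LinearMap.toSpanSingleton A M m
  have hφ : ∀ a, φ a = a • m := fun a => rfl
  have hsurj : Function.Surjective φ := by
    intro w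
    have hw : w ∈ Submodule.span A {m} := by rw [hspan]; trivial
    obtain ⟨a, ha⟩ := Submodule.mem_span_singleton.1 hw
    exact ⟨a, ha⟩
  refine ⟨?_, hsurj⟩
  obtain ⟨σ, hσ⟩ := Module.projective_lifting_property φ LinearMap.id hsurj
  have hex : Function.Exact (LinearMap.ker φ).subtype φ := LinearMap.exact_subtype_ker_map φ
  let E := (hex.splitSurjectiveEquiv (Submodule.injective_subtype _) ⟨σ, hσ⟩).1
  haveI : Module.Finite A (LinearMap.ker φ) :=
    Module.Finite.of_surjective ((LinearMap.fst A _ _).comp E.toLinearMap)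
      (Prod.fst_surjective.comp E.surjective)
  haveI : Module.Projective A (LinearMap.ker φ) :=
    Module.Projective.of_split (E.symm.toLinearMap.comp (LinearMap.inl A _ _))
      ((LinearMap.fst A _ _).comp E.toLinearMap) (by
        ext x
        simp)
  have h1 : Module.rankAtStalk (R := A) A = Module.rankAtStalk (LinearMap.ker φ × M) :=
    Module.rankAtStalk_eq_of_equiv E
  rw [Module.rankAtStalk_prod, Module.rankAtStalk_self] at h1
  have h2 : Module.rankAtStalk (R := A) (LinearMap.ker φ) = 0 := by
    funext q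
    have := congrFun h1 q
    rw [Pi.add_apply, hr q, Pi.one_apply] at this
    rw [Pi.zero_apply]
    omega
  have h3 : Subsingleton (LinearMap.ker φ) := Module.rankAtStalk_eq_zero_iff_subsingleton.1 h2
  intro a b hab
  have h4 : a - b ∈ LinearMap.ker φ := by
    rw [LinearMap.mem_ker, map_sub, sub_eq_zero]
    exact hab
  have h5 : (⟨a - b, h4⟩ : LinearMap.ker φ) = 0 := Subsingleton.elim _ _
  have h6 : a - b = 0 := congrArg Subtype.val h5
  exact sub_eq_zero.1 h6

end Groth.Agent.Lib.Helper2.DegOneG
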