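import Mathlib
import Groth.Agent.Lib.Helper2DegOneF
import Groth.Agent.Lib.Helper2DegOneG
import Groth.Agent.Lib.Helper2R1RankF
import Groth.Agent.Lib.Helper23PB

/-!
# A global section of `F` not vanishing on any fibre, with `h⁰ = 1` on all fibres, generates `f_* F`
(helper2)

Namespace `Groth.Agent.Lib.Helper2.DegOneH`.
-/

set_option autoImplicit false
set_option linter.style.haveILetI false
universe u
open CategoryTheory CategoryTheory.Limits AlgebraicGeometry TensorProduct Opposite TopologicalSpace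

namespace Groth.Agent.Lib.Helper2.DegOneH

open Groth.Agent.Helper13QcqsBC Groth.Agent.Helper13AffBC Groth.Agent.Helper13PullbackUnit
  Groth.Agent.Lib.Helper23.GenLocus Scheme.Modules Groth.Agent.Lib.Helper23.SecTw
  Groth.Agent.Lib.Helper23.PB Groth.Agent.Lib.Helper2.DegOneF Groth.Agent.Lib.Helper23.Extend
  Groth.Agent.Lib.Helper6

local instance (X : Scheme.{u}) : EnoughInjectives X.Modules :=
  Groth.Agent.Lib.Helper17.QCPush.enoughInjectives X

section kill

variable {C S : Scheme.{u}} (f : C ⟶ S)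

theorem fiber_le_preimage {A : S.Opens} (y : S) (hy : y ∈ A) :
    (⊤ : (f.fiber y).Opens) ≤ (f.fiberι y) ⁻¹ᵁ (f ⁻¹ᵁ A) := by
  intro z _
  have h1 : (f.fiberι y) z ∈ f ⁻¹' {y} := by
    rw [← f.range_fiberι y]
    exact Set.mem_range_self z
  change f ((f.fiberι y) z) ∈ A
  have h2 : f ((f.fiberι y) z) = y := h1
  rw [h2]
  exact hy

/-- a function on an open of `S` vanishing at `y` pulls back to `0` on the fibre over `y` -/
theorem appLE_fiber_eq_zero {A : S.Opens} (y : S) (hy : y ∈ A) (a : Γ(S, A))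
    (ha : y ∉ S.basicOpen a) :
    (f.fiberι y).appLE (f ⁻¹ᵁ A) ⊤ (fiber_le_preimage f y hy) (f.app A a) = 0 := by
  let R : CommRingCat.{u} := S.residueField y
  let g : Spec R ⟶ S := S.fromSpecResidueField y
  have h1 : g ⁻¹ᵁ S.basicOpen a = ⊥ := by
    ext z
    simp only [Opens.coe_bot, Set.mem_empty_iff_false, iff_false]
    intro hz
    have h2 : g z ∈ Set.range g := Set.mem_range_self z
    rw [Scheme.range_fromSpecResidueField] at h2
    have h3 : g z = y := h2
    have h4 : g z ∈ S.basicOpen a := hz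
    rw [h3] at h4
    exact ha h4
  rw [Scheme.preimage_basicOpen] at h1
  have h5 : g.app A a = 0 := (basicOpen_eq_bot_iff _).1 h1
  have hle2 : (⊤ : (f.fiber y).Opens) ≤ (f.fiberToSpecResidueField y) ⁻¹ᵁ (g ⁻¹ᵁ A) := by
    intro z _
    change g ((f.fiberToSpecResidueField y) z) ∈ A
    have h2 : g ((f.fiberToSpecResidueField y) z) ∈ Set.range g := Set.mem_range_self _
    rw [Scheme.range_fromSpecResidueField] at h2
    have h3 : g ((f.fiberToSpecResidueField y) z) = y := h2
    rw [h3]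
    exact hy
  have h6 : (f.fiberι y ≫ f).appLE A ⊤ (fiber_le_preimage f y hy) a =
      (f.fiberToSpecResidueField y ≫ g).appLE A ⊤ hle2 a := by
    have key : ∀ (φ ψ : f.fiber y ⟶ S) (hφψ : φ = ψ) (h1 : (⊤ : (f.fiber y).Opens) ≤ φ ⁻¹ᵁ A)
        (h2 : (⊤ : (f.fiber y).Opens) ≤ ψ ⁻¹ᵁ A), φ.appLE A ⊤ h1 a = ψ.appLE A ⊤ h2 a := by
      intro φ ψ hφψ h1 h2
      subst hφψ
      rfl
    exact key _ _ (f.fiber_fac y) _ _
  rw [Scheme.Hom.comp_appLE, Scheme.Hom.comp_appLE] at h6
  change (f.fiberι y).appLE (f ⁻¹ᵁ A) ⊤ _ (f.app A a) =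
    (f.fiberToSpecResidueField y).appLE (g ⁻¹ᵁ A) ⊤ _ (g.app A a) at h6
  rw [h6, h5, map_zero]

end kill

section gen

variable {C S : Scheme.{u}} (f : C ⟶ S) [IsProper f] [LocallyOfFinitePresentation f]
  (F : C.Modules) [F.IsQuasicoherent] (hF : CohB1.IsFP F) (hflat : FlatMod.IsFlatOver f F)
  (m : Γ(F, f ⁻¹ᵁ ⊤))
  (h0 : ∀ y : S, PerfAux.betti f F y 0 = 1)
  (hne : ∀ y : S, unitSec (f.fiberι y) F (top_le_preimage' (f.fiberι y)) m ≠ 0)

include hF hflat h0 hne in
/-- over an affine open of the base, the restriction of `m` is a basis of the sections of `f_* F` -/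
theorem bijective_smul_res {A : S.Opens} (hA : IsAffineOpen A) :
    Function.Bijective (fun r : Γ(S, A) =>
      r • res ((Scheme.Modules.pushforward f).obj F) (le_top : A ≤ ⊤) m) := by
  obtain ⟨hfin, hproj, hrk⟩ :=
    Groth.Agent.Lib.Helper2.R1RankF.finite_projective_rank_sections_R0 f F hF hflat hA
      (fun y _ => epi_fibreBC_of_betti_one f y F m (h0 y) (hne y)) 1 (fun s _ => h0 s)
  let θ := (Functor.rightDerivedZeroIsoSelf (Scheme.Modules.pushforward f)).app F
  let e : Γ((Coh.Rpush f 0).obj F, A) ≃ₗ[Γ(S, A)] Γ((Scheme.Modules.pushforward f).obj F, A) :=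
    Groth.Agent.Lib.Helper2.R1RankF.sectionsEquiv θ A
  haveI := hfin
  haveI := hproj
  haveI : Module.Finite Γ(S, A) Γ((Scheme.Modules.pushforward f).obj F, A) := Module.Finite.equiv e
  haveI : Module.Projective Γ(S, A) Γ((Scheme.Modules.pushforward f).obj F, A) :=
    Module.Projective.of_equiv e
  have hr : ∀ q : PrimeSpectrum Γ(S, A),
      Module.rankAtStalk Γ((Scheme.Modules.pushforward f).obj F, A) q = 1 := by
    intro q
    rw [← Module.rankAtStalk_eq_of_equiv e, hrk q]
  refine Groth.Agent.Lib.Helper2.DegOneG.bijective_smul_of_rank_one hr _ ?_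
  intro q hq hmem
  let y : S := hA.fromSpec ⟨q, hq.isPrime⟩
  have hy : y ∈ A := by
    have := Set.mem_range_self (f := hA.fromSpec) ⟨q, hq.isPrime⟩
    rw [hA.range_fromSpec] at this
    exact this
  have hkill : ∀ a ∈ q, y ∉ S.basicOpen a := by
    intro a ha hya
    have h1 : (⟨q, hq.isPrime⟩ : PrimeSpectrum Γ(S, A)) ∈ hA.fromSpec ⁻¹ᵁ S.basicOpen a := hya
    rw [hA.fromSpec_preimage_basicOpen] at h1
    exact h1 ha
  apply hne y
  have hle := fiber_le_preimage f y hy
  have h2 : unitSec (f.fiberι y) F hle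
      (res ((Scheme.Modules.pushforward f).obj F) (le_top : A ≤ ⊤) m) = 0 := by
    have key : ∀ n : Γ((Scheme.Modules.pushforward f).obj F, A),
        n ∈ q • (⊤ : Submodule Γ(S, A) Γ((Scheme.Modules.pushforward f).obj F, A)) →
        unitSec (f.fiberι y) F hle (show Γ(F, f ⁻¹ᵁ A) from n) = 0 := by
      intro n hn
      refine Submodule.smul_induction_on hn ?_ ?_
      · intro a ha n _
        have h3 : a • n = ((f.app A a) • (show Γ(F, f ⁻¹ᵁ A) from n) : Γ(F, f ⁻¹ᵁ A)) := rfl
        rw [h3, unitSec_smul, appLE_fiber_eq_zero f y hy a (hkill a ha), zero_smul]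
      · intro n n' hn hn'
        change unitSec (f.fiberι y) F hle
          ((show Γ(F, f ⁻¹ᵁ A) from n) + (show Γ(F, f ⁻¹ᵁ A) from n')) = 0
        rw [map_add, hn, hn', add_zero]
    exact key _ hmem
  have h4 := res_unitSec (f.fiberι y) F (top_le_preimage' (f.fiberι y)) hle
    (f.preimage_mono (le_top : A ≤ ⊤)) le_rfl m
  rw [Groth.Agent.Lib.Helper23.SecTw.res_self] at h4
  rw [h4]
  exact h2

include hF hflat h0 hne in
/-- **`m` generates `f_* F`** -/
theorem isGen_push : IsGen ((Scheme.Modules.pushforward f).obj F) ⊤ m :=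
  isGen_of_affine ((Scheme.Modules.pushforward f).obj F) (⊤ : S.Opens) m
    (fun A _ hA => bijective_smul_res f F hF hflat m h0 hne (A := A) hA)

end gen

end Groth.Agent.Lib.Helper2.DegOneH
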