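import Mathlib
import Groth.Agent.Lib.Helper2DegOneE
import Groth.Agent.Lib.Helper2DegOneH
import Groth.Agent.Lib.Helper2GrauertE
import Groth.Agent.Lib.Helper2LocFree
import Groth.Agent.Lib.Helper2TrivFibB
import Groth.Agent.Lib.Helper20IdealModSec
import Groth.Agent.Lib.Helper23AmpleIso
import Groth.Agent.Lib.Helper23TensorMap
import Groth.Agent.Lib.Helper23ResProp

/-!
# `f_* O(x)` is invertible and determines the section `x` on a family of curves of positive genus
(helper2)

Namespace `Groth.Agent.Lib.Helper2.DegOneI`.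
-/

set_option autoImplicit false
set_option linter.style.haveILetI false
universe u
open CategoryTheory CategoryTheory.Limits AlgebraicGeometry TopologicalSpace Opposite

namespace Groth.Agent.Lib.Helper2.DegOneI

open Groth.Agent.Lib.Helper2.DegOneA Groth.Agent.Lib.Helper2.DegOneE
  Groth.Agent.Lib.Helper2.DegOneH Groth.Agent.Lib.Helper2.DegOneF
  Groth.Agent.Helper13PullbackUnit Groth.Agent.Lib.Helper23.SecTw Groth.Agent.Lib.Helper23.PB
  Groth.Agent.Lib.Helper23.GenLocus Groth.Agent.Lib.Helper20.IdealModSec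

section ideal

variable {X : Scheme.{u}}

/-- if the inclusion of `I` factors through that of `I'`, then `I ≤ I'` -/
theorem le_of_factor (I I' : X.IdealSheafData) (γ : ClSub.idealMod I ⟶ ClSub.idealMod I')
    (h : ClSub.idealModι I = γ ≫ ClSub.idealModι I') : I ≤ I' := by
  intro U a ha
  rw [← I.ker_subschemeι_app U] at ha
  rw [← I'.ker_subschemeι_app U]
  obtain ⟨j, hj⟩ := exists_eq_ι I U.1 a (by rw [toSubscheme_app]; exact ha)
  rw [RingHom.mem_ker, ← toSubscheme_app, ← hj, h]
  exact ι_toSubscheme I' U.1 (γ.app U.1 j)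

end ideal

variable {C S : Scheme.{u}} (f : C ⟶ S) [IsProper f] [Smooth f] [GeometricallyConnected f]
  (hdim : ∀ s : S, topologicalKrullDim ↥(f.fiber s) = 1)
  (hg : ∀ s : S, 1 ≤ PerfAux.betti f (Coh.structureModule C) s 1)
  (x : S ⟶ C) (hx : x ≫ f = 𝟙 S)
  (L : C.Modules) (hL : PicF.IsInvertible L)
  (α : CohB1.tensorMod L (ClSub.idealMod x.ker) ≅ Coh.structureModule C)

include hdim hg hx hL in
/-- the canonical section of `L = O(x)` generates `f_* L` -/
theorem isGen_canSec :
    IsGen ((Scheme.Modules.pushforward f).obj L) ⊤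
      (show Γ(L, f ⁻¹ᵁ ⊤) from sv (canSec x.ker L α) ⊤) := by
  have hflf := Groth.Agent.Lib.Helper23.ResProp.isFinLocFree_of_isInvertible L hL
  haveI : L.IsQuasicoherent := Groth.Agent.Lib.Helper21.HZB.isQuasicoherent_of_isFinLocFree L hflf
  have hFP := Groth.Agent.Lib.Helper2.LocFree.isFP_of_isFinLocFree L hflf
  have hflat := Groth.Agent.Lib.Helper2.TrivFibB.isFlatOver_of_isFlat'' f L
    (Groth.Agent.Lib.Helper2.LocFree.isFlat_of_isFinLocFree L hflf)
  have hb := fun y => betti_eq_one f x hx L hL α y (hdim y) (hg y)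
  exact isGen_push f L hFP hflat _ (fun y => (hb y).1) (fun y => (hb y).2)

include hdim hg hx hL α in
theorem isInvertible_push : PicF.IsInvertible ((Scheme.Modules.pushforward f).obj L) := by
  have hgen := isGen_canSec f hdim hg x hx L hL α
  obtain ⟨e⟩ := Groth.Agent.Lib.Helper2.GrauertE.nonempty_iso_of_isGen_top _ ⊤ rfl _ hgen
  exact Groth.Agent.Lib.Helper23.AmpleIso.isInvertible_of_iso e.symm
    (Groth.Agent.Lib.Helper23.TensorUnit.isInvertible_structureModule S)

include hdim hg hx hL α in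
theorem section_unique (x' : S ⟶ C) (hx' : x' ≫ f = 𝟙 S)
    (α' : CohB1.tensorMod L (ClSub.idealMod x'.ker) ≅ Coh.structureModule C) : x' = x := by
  have hgen := isGen_canSec f hdim hg x hx L hL α
  have hgen' := isGen_canSec f hdim hg x' hx' L hL α'
  let m : Γ(L, f ⁻¹ᵁ ⊤) := sv (canSec x.ker L α) ⊤
  let m' : Γ(L, f ⁻¹ᵁ ⊤) := sv (canSec x'.ker L α') ⊤
  let c : Γ(S, ⊤) := coef hgen' le_rfl (show Γ((Scheme.Modules.pushforward f).obj L, ⊤) from m)
  have hc : c • (show Γ((Scheme.Modules.pushforward f).obj L, ⊤) from m') = m := by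
    have := coef_spec hgen' le_rfl (show Γ((Scheme.Modules.pushforward f).obj L, ⊤) from m)
    rw [res_self] at this
    exact this
  let c' : Γ(C, f ⁻¹ᵁ ⊤) := f.app ⊤ c
  have hc' : c' • m' = m := hc
  let cHom : Coh.structureModule C ⟶ Coh.structureModule C :=
    secHom (Coh.structureModule C) (toS ⊤ c')
  have h1 : canSec x.ker L α = cHom ≫ canSec x'.ker L α' := by
    apply hom_ext_of_sv
    rw [sv_comp, sv_secHom, res_self, Groth.Agent.Lib.Helper23.TensorMap.app_eq_smul_sv, ofS_toS]
    exact hc'.symm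
  obtain ⟨γ, hγ⟩ := exists_factor x.ker x'.ker L α α' cHom h1
  have hle : x.ker ≤ x'.ker := le_of_factor _ _ γ hγ
  haveI : IsClosedImmersion x := Groth.Agent.Lib.Helper2.DegOneC.isClosedImmersion_section f x hx
  let t : S ⟶ S := IsClosedImmersion.lift x x' hle
  have ht : t ≫ x = x' := IsClosedImmersion.lift_fac x x' hle
  have ht1 : t = 𝟙 S := by
    have h2 : t ≫ x ≫ f = x' ≫ f := by rw [← Category.assoc, ht]
    rw [hx, hx', Category.comp_id] at h2
    exact h2
  rw [← ht, ht1, Category.id_comp]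

end Groth.Agent.Lib.Helper2.DegOneI
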