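import Mathlib
import Groth.Agent.Lib.Helper17StalkBC3
import Groth.Agent.Lib.Helper23AffVanish7
import Groth.Agent.Lib.Helper18Epi1
import Groth.Agent.Lib.Helper2PullbackSec
import Groth.Agent.S0458

/-!
# Higher direct images of a quasi-compact open immersion into a scheme with local rings of
dimension `≤ 1` vanish (helper2)
-/

set_option autoImplicit false
set_option linter.style.haveILetI false
universe u
open CategoryTheory CategoryTheory.Limits AlgebraicGeometry TopologicalSpace

namespace Groth.Agent.Lib.Helper2.DimOneA

/-- An open subspace of the punctured spectrum of a local ring of dimension `≤ 1` has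
dimension `≤ 0`. -/
theorem topologicalKrullDim_le_zero_of_punctured (R : Type u) [CommRing R] [IsLocalRing R]
    (hR : ringKrullDim R ≤ 1) {T : Type u} [TopologicalSpace T] (h : T → PrimeSpectrum R)
    (hh : Topology.IsInducing h) (hcl : IsLocalRing.closedPoint R ∉ Set.range h) :
    topologicalKrullDim T ≤ 0 := by
  have hS : topologicalKrullDim (PrimeSpectrum R) ≤ 1 := by
    rw [PrimeSpectrum.topologicalKrullDim_eq_ringKrullDim]; exact hR
  unfold topologicalKrullDim at hS ⊢
  rw [Order.krullDim_le_one_iff] at hS
  rw [Order.krullDim_nonpos_iff_forall_isMax]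
  intro Z0 Z1 h01
  by_contra hne
  have hlt : Z0 < Z1 := lt_of_le_of_ne h01 (fun e => hne (e ▸ le_rfl))
  have hlt' := IrreducibleCloseds.map_strictMono_of_isInducing hh hlt
  set W0 := IrreducibleCloseds.map h hh.continuous Z0 with hW0
  set W1 := IrreducibleCloseds.map h hh.continuous Z1 with hW1
  let P : IrreducibleCloseds (PrimeSpectrum R) :=
    ⟨{IsLocalRing.closedPoint R}, isIrreducible_singleton,
      IsLocalRing.isClosed_singleton_closedPoint R⟩
  obtain ⟨z, hz⟩ := Z0.2.nonempty
  have hz0 : h z ∈ (W0 : Set (PrimeSpectrum R)) := by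
    change h z ∈ closure (h '' (Z0 : Set T))
    exact subset_closure ⟨z, hz, rfl⟩
  have hP0 : P < W0 := by
    refine lt_of_le_of_ne ?_ ?_
    · intro y hy
      have hy' : y = IsLocalRing.closedPoint R := hy
      rw [hy']
      exact (IsLocalRing.specializes_closedPoint (h z)).mem_closed W0.3 hz0
    · intro e
      have : h z ∈ (P : Set (PrimeSpectrum R)) := by rw [e]; exact hz0
      have hz' : h z = IsLocalRing.closedPoint R := this
      exact hcl ⟨z, hz'⟩
  rcases hS W0 with h1 | h1
  · exact (h1.not_lt hP0)
  · exact (h1.not_lt hlt')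

end Groth.Agent.Lib.Helper2.DimOneA
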