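import Mathlib
import Groth.Agent.Lib.Helper2DimOneA

/-!
# Higher direct images of a quasi-compact open immersion into a scheme with local rings of
dimension `≤ 1` vanish (helper2)
-/

set_option autoImplicit false
set_option linter.style.haveILetI false
universe u
open CategoryTheory CategoryTheory.Limits AlgebraicGeometry TopologicalSpace

namespace Groth.Agent.Lib.Helper2.DimOneB

open Groth.Agent.Lib.Helper2.DimOneA

theorem isZero_Rpush_open (X : Scheme.{u})
    (hX : ∀ x : X, IsNoetherianRing (X.presheaf.stalk x) ∧ ringKrullDim (X.presheaf.stalk x) ≤ 1)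
    (U : X.Opens) [QuasiCompact U.ι] [HasInjectiveResolutions (U : Scheme.{u}).Modules]
    (F : (U : Scheme.{u}).Modules) (hF : Coh.IsQCoh F) (p : ℕ) (hp : 0 < p) :
    IsZero ((Coh.Rpush U.ι p).obj F) := by
  haveI := hF
  refine Groth.Agent.Helper18Epi.isZero_of_subsingleton_stalk _ fun x => ?_
  obtain ⟨hN, hd⟩ := hX x
  let X₁ : Scheme.{u} := Limits.pullback U.ι (X.fromSpecStalk x)
  let g : X₁ ⟶ (U : Scheme.{u}) := Limits.pullback.fst U.ι (X.fromSpecStalk x)
  let h : X₁ ⟶ Spec (CommRingCat.of (X.presheaf.stalk x)) :=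
    Limits.pullback.snd U.ι (X.fromSpecStalk x)
  letI : X₁.Over (Spec (CommRingCat.of (X.presheaf.stalk x))) := ⟨h⟩
  have hsq : IsPullback g (X₁ ↘ Spec (CommRingCat.of (X.presheaf.stalk x))) U.ι
      (X.fromSpecStalk x) := IsPullback.of_hasPullback U.ι (X.fromSpecStalk x)
  obtain ⟨e⟩ := Groth.Agent.Lib.Helper17.StalkBC.nonempty_stalk_Rpush_linearEquiv U.ι F x p X₁ g hsq
  haveI : ((Scheme.Modules.pullback g).obj F).IsQuasicoherent :=
    Groth.Agent.Lib.Helper2.PullbackSec.isQuasicoherent_pullback g F
  haveI : IsOpenImmersion h := inferInstanceAs (IsOpenImmersion (Limits.pullback.snd _ _))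
  have hrange : Set.range h = (X.fromSpecStalk x) ⁻¹' (U : Set X) := by
    have := Scheme.Pullback.range_snd U.ι (X.fromSpecStalk x)
    rw [Scheme.Opens.range_ι] at this
    exact this
  suffices hs : Subsingleton (Coh.HH X₁ ((Scheme.Modules.pullback g).obj F) p) from
    e.toEquiv.subsingleton
  by_cases hx : x ∈ U
  · -- `h` is an isomorphism
    have hcl : IsLocalRing.closedPoint (X.presheaf.stalk x) ∈ Set.range h := by
      rw [hrange]
      change X.fromSpecStalk x (IsLocalRing.closedPoint (X.presheaf.stalk x)) ∈ (U : Set X)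
      rw [Scheme.fromSpecStalk_closedPoint]
      exact hx
    have hopen : IsOpen (Set.range h) := h.isOpenEmbedding.isOpen_range
    have htop : (⟨Set.range h, hopen⟩ : Opens (PrimeSpectrum (X.presheaf.stalk x))) = ⊤ :=
      (IsLocalRing.closedPoint_mem_iff (R := X.presheaf.stalk x)
        (U := ⟨Set.range h, hopen⟩)).1 hcl
    have hsurj : Function.Surjective h := by
      intro y
      have : y ∈ (⟨Set.range h, hopen⟩ : Opens (PrimeSpectrum (X.presheaf.stalk x))) := by
        rw [htop]; trivial
      exact this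
    haveI : Surjective h := ⟨hsurj⟩
    haveI : IsIso h := (isIso_iff_isOpenImmersion_and_surjective h).2 ⟨inferInstance, inferInstance⟩
    haveI : IsAffine X₁ := IsAffine.of_isIso h
    exact Groth.Agent.Lib.Helper23.AffVanish.subsingleton_HH _ p hp
  · have hcl : IsLocalRing.closedPoint (X.presheaf.stalk x) ∉ Set.range h := by
      rw [hrange]
      change ¬ (X.fromSpecStalk x (IsLocalRing.closedPoint (X.presheaf.stalk x)) ∈ (U : Set X))
      rw [Scheme.fromSpecStalk_closedPoint]
      exact hx
    have hdim : topologicalKrullDim X₁ ≤ 0 :=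
      topologicalKrullDim_le_zero_of_punctured (X.presheaf.stalk x) hd h
        h.isOpenEmbedding.isInducing hcl
    haveI : NoetherianSpace (PrimeSpectrum (X.presheaf.stalk x)) := inferInstance
    haveI : NoetherianSpace X₁ := h.isOpenEmbedding.isInducing.noetherianSpace
    exact Groth.Agent.S0458.result (X := X₁.carrier) 0 hdim
      (Coh.toAb ((Scheme.Modules.pullback g).obj F)) p hp

end Groth.Agent.Lib.Helper2.DimOneB
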