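import Mathlib
import Groth.Agent.Lib.Helper4DVRDom

set_option autoImplicit false
universe u

namespace Groth.Agent.Lib.Helper2.DvrBig

open IsLocalRing TensorProduct

theorem exists_dvr_of_domain {D₀ D₁ N' : Type u} [CommRing D₀] [CommRing D₁] [IsDomain D₁]
    [IsLocalRing D₁] [IsNoetherianRing D₁] (hD₁ : ¬ IsField D₁) [Algebra D₀ D₁]
    (hinj01 : Function.Injective (algebraMap D₀ D₁)) [Field N'] [Algebra D₀ N']
    (hinjN' : Function.Injective (algebraMap D₀ N')) [Algebra.EssFiniteType D₀ N'] :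
    ∃ (A : Type u) (_ : CommRing A) (_ : IsDomain A) (_ : IsDiscreteValuationRing A)
      (ψ₁ : D₁ →+* A) (ρ' : N' →+* (⊥ : Ideal A).ResidueField),
      (∀ x ∈ maximalIdeal D₁, ψ₁ x ∈ maximalIdeal A) ∧
      ((algebraMap A (⊥ : Ideal A).ResidueField).comp ψ₁).comp (algebraMap D₀ D₁) =
        ρ'.comp (algebraMap D₀ N') := by
  classical
  have hinjK₁ : Function.Injective (algebraMap D₀ (FractionRing D₁)) := by
    rw [IsScalarTower.algebraMap_eq D₀ D₁ (FractionRing D₁)]
    exact (IsFractionRing.injective D₁ (FractionRing D₁)).comp hinj01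
  haveI : Nontrivial (FractionRing D₁ ⊗[D₀] N') :=
    Algebra.TensorProduct.nontrivial_of_algebraMap_injective_of_isDomain D₀ (FractionRing D₁) N'
      hinjK₁ hinjN'
  obtain ⟨𝔓, h𝔓⟩ := Ideal.exists_maximal (FractionRing D₁ ⊗[D₀] N')
  letI : Field ((FractionRing D₁ ⊗[D₀] N') ⧸ 𝔓) := Ideal.Quotient.field 𝔓
  haveI : Algebra.EssFiniteType D₁ (FractionRing D₁) := .of_isLocalization _ (nonZeroDivisors D₁)
  haveI : Algebra.EssFiniteType (FractionRing D₁) ((FractionRing D₁ ⊗[D₀] N') ⧸ 𝔓) := inferInstance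
  haveI : IsScalarTower D₁ (FractionRing D₁) ((FractionRing D₁ ⊗[D₀] N') ⧸ 𝔓) := inferInstance
  haveI : Algebra.EssFiniteType D₁ ((FractionRing D₁ ⊗[D₀] N') ⧸ 𝔓) :=
    .comp D₁ (FractionRing D₁) _
  haveI : FaithfulSMul D₁ ((FractionRing D₁ ⊗[D₀] N') ⧸ 𝔓) := by
    rw [faithfulSMul_iff_algebraMap_injective,
      IsScalarTower.algebraMap_eq D₁ (FractionRing D₁) ((FractionRing D₁ ⊗[D₀] N') ⧸ 𝔓)]
    exact (algebraMap (FractionRing D₁) ((FractionRing D₁ ⊗[D₀] N') ⧸ 𝔓)).injective.comp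
      (IsFractionRing.injective D₁ (FractionRing D₁))
  obtain ⟨V, hV, hVmem, hVnon⟩ :=
    Groth.Agent.Lib.Helper4.DVRDom.exists_dvr_dominating' (R := D₁)
      (L := (FractionRing D₁ ⊗[D₀] N') ⧸ 𝔓) hD₁
  let ψ₁ : D₁ →+* V :=
    (algebraMap D₁ ((FractionRing D₁ ⊗[D₀] N') ⧸ 𝔓)).codRestrict V.toSubring hVmem
  have hker : Function.Injective (algebraMap V (⊥ : Ideal V).ResidueField) := by
    rw [injective_iff_map_eq_zero]
    intro a ha
    rw [Ideal.algebraMap_residueField_eq_zero] at ha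
    exact ha
  let j : ((FractionRing D₁ ⊗[D₀] N') ⧸ 𝔓) →+* (⊥ : Ideal V).ResidueField :=
    IsFractionRing.lift (A := V) (K := (FractionRing D₁ ⊗[D₀] N') ⧸ 𝔓) hker
  let inc : N' →+* ((FractionRing D₁ ⊗[D₀] N') ⧸ 𝔓) :=
    (Ideal.Quotient.mk 𝔓).comp
      (Algebra.TensorProduct.includeRight : N' →ₐ[D₀] FractionRing D₁ ⊗[D₀] N').toRingHom
  refine ⟨V, inferInstance, inferInstance, hV, ψ₁, j.comp inc, ?_, ?_⟩
  · intro x hx
    have h1 := hVnon x hx
    obtain ⟨h2, h3⟩ := V.mem_nonunits_iff_exists_mem_maximalIdeal.mp h1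
    exact h3
  · ext a
    simp only [RingHom.comp_apply]
    have h1 : algebraMap V (⊥ : Ideal V).ResidueField (ψ₁ (algebraMap D₀ D₁ a)) =
        j (algebraMap V _ (ψ₁ (algebraMap D₀ D₁ a))) := (IsFractionRing.lift_algebraMap hker _).symm
    rw [h1]
    congr 1
    change algebraMap D₁ ((FractionRing D₁ ⊗[D₀] N') ⧸ 𝔓) (algebraMap D₀ D₁ a) =
      Ideal.Quotient.mk 𝔓 ((1 : FractionRing D₁) ⊗ₜ[D₀] algebraMap D₀ N' a)
    rw [IsScalarTower.algebraMap_apply D₁ (FractionRing D₁) ((FractionRing D₁ ⊗[D₀] N') ⧸ 𝔓),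
      ← IsScalarTower.algebraMap_apply D₀ D₁ (FractionRing D₁)]
    change Ideal.Quotient.mk 𝔓 (algebraMap D₀ (FractionRing D₁) a ⊗ₜ[D₀] (1 : N')) = _
    rw [Algebra.algebraMap_eq_smul_one, Algebra.algebraMap_eq_smul_one, TensorProduct.smul_tmul]

theorem exists_dvr_big {R₀ : Type u} [CommRing R₀] [IsLocalRing R₀] [IsNoetherianRing R₀]
    {K' N N' : Type u} [Field K'] [Field N] [Field N'] (χ : R₀ →+* K') (hχ : χ.EssFiniteType)
    (hker : RingHom.ker χ ≠ maximalIdeal R₀)
    (ι : ResidueField R₀ →+* N) (hι : ι.Finite) (ι' : K' →+* N') (hι' : ι'.Finite) :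
    ∃ (A : Type u) (_ : CommRing A) (_ : IsDomain A) (_ : IsDiscreteValuationRing A) (ψ : R₀ →+* A)
      (ρ : N →+* (maximalIdeal A).ResidueField) (ρ' : N' →+* (⊥ : Ideal A).ResidueField),
      (algebraMap A (maximalIdeal A).ResidueField).comp ψ = ρ.comp (ι.comp (residue R₀)) ∧
      (algebraMap A (⊥ : Ideal A).ResidueField).comp ψ = ρ'.comp (ι'.comp χ) := by
  classical
  -- D₀
  let P := RingHom.ker χ
  haveI hPprime : P.IsPrime := RingHom.ker_isPrime χ
  let D₀ := R₀ ⧸ P
  haveI : IsLocalRing D₀ :=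
    IsLocalRing.of_surjective' (Ideal.Quotient.mk P) Ideal.Quotient.mk_surjective
  let χb : D₀ →+* K' := Ideal.Quotient.lift P χ (fun a ha => ha)
  have hχbinj : Function.Injective χb := RingHom.kerLift_injective χ
  have hPm : P ≤ maximalIdeal R₀ := le_maximalIdeal (RingHom.ker_ne_top χ)
  let κ₀ : D₀ →+* ResidueField R₀ := Ideal.Quotient.lift P (residue R₀)
    (fun a ha => (residue_eq_zero_iff a).mpr (hPm ha))
  have hκ₀surj : Function.Surjective κ₀ := by
    intro t
    obtain ⟨a, rfl⟩ := residue_surjective t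
    exact ⟨Ideal.Quotient.mk P a, rfl⟩
  letI algN : Algebra D₀ N := (ι.comp κ₀).toAlgebra
  haveI : Module.Finite D₀ N := by
    have : (ι.comp κ₀).Finite := hι.comp (RingHom.Finite.of_surjective _ hκ₀surj)
    exact this
  haveI : Algebra.FiniteType D₀ N := inferInstance
  obtain ⟨r, e, he⟩ := Algebra.FiniteType.iff_quotient_mvPolynomial''.mp
    (inferInstance : Algebra.FiniteType D₀ N)
  let M := RingHom.ker e.toRingHom
  haveI hMmax : M.IsMaximal := RingHom.ker_isMaximal_of_surjective e.toRingHom he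
  let D₁ := Localization.AtPrime M
  haveI : IsDomain D₁ := inferInstance
  haveI : IsNoetherianRing D₁ := inferInstance
  -- injectivity of D₀ → D₁
  have hinj01 : Function.Injective (algebraMap D₀ D₁) := by
    rw [IsScalarTower.algebraMap_eq D₀ (MvPolynomial (Fin r) D₀) D₁]
    exact (IsLocalization.injective D₁ M.primeCompl_le_nonZeroDivisors).comp
      (MvPolynomial.C_injective _ _)
  -- D₁ is not a field
  have hD₁ : ¬ IsField D₁ := by
    intro hF
    obtain ⟨t, htm, htP⟩ : ∃ t ∈ maximalIdeal R₀, t ∉ P := by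
      by_contra hcon
      push Not at hcon
      exact hker (le_antisymm hPm (fun t ht => hcon t ht))
    let tb : D₀ := Ideal.Quotient.mk P t
    have htb0 : tb ≠ 0 := fun h => htP (Ideal.Quotient.eq_zero_iff_mem.mp h)
    have hCM : (MvPolynomial.C tb : MvPolynomial (Fin r) D₀) ∈ M := by
      change e.toRingHom (MvPolynomial.C tb) = 0
      have : e.toRingHom (MvPolynomial.C tb) = algebraMap D₀ N tb := by
        have := e.commutes tb
        rw [MvPolynomial.algebraMap_eq] at this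
        exact this
      rw [this, RingHom.algebraMap_toAlgebra]
      change ι (residue R₀ t) = 0
      rw [(residue_eq_zero_iff t).mpr htm, map_zero]
    have hmem : algebraMap D₀ D₁ tb ∈ maximalIdeal D₁ := by
      rw [IsScalarTower.algebraMap_eq D₀ (MvPolynomial (Fin r) D₀) D₁]
      change algebraMap (MvPolynomial (Fin r) D₀) D₁ (MvPolynomial.C tb) ∈ maximalIdeal D₁
      have h1 := IsLocalization.AtPrime.under_maximalIdeal D₁ M
      have h2 : MvPolynomial.C tb ∈ Ideal.under (MvPolynomial (Fin r) D₀) (maximalIdeal D₁) := by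
        rw [h1]; exact hCM
      exact h2
    have hne : algebraMap D₀ D₁ tb ≠ 0 := fun h => htb0 (hinj01 (h.trans (map_zero _).symm))
    obtain ⟨b, hb⟩ := hF.mul_inv_cancel hne
    have hu : IsUnit (algebraMap D₀ D₁ tb) := IsUnit.of_mul_eq_one _ hb
    exact (mem_maximalIdeal _).mp hmem hu
  -- essential finiteness of N' over D₀
  letI algN' : Algebra D₀ N' := (ι'.comp χb).toAlgebra
  have hinjN' : Function.Injective (algebraMap D₀ N') := ι'.injective.comp hχbinj
  haveI : Algebra.EssFiniteType D₀ N' := by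
    letI a1 : Algebra R₀ K' := χ.toAlgebra
    haveI : Algebra.EssFiniteType R₀ K' := hχ
    letI a2 : Algebra K' N' := ι'.toAlgebra
    haveI : Module.Finite K' N' := hι'
    letI a3 : Algebra R₀ N' := (ι'.comp χ).toAlgebra
    haveI : IsScalarTower R₀ K' N' := .of_algebraMap_eq' rfl
    haveI : Algebra.EssFiniteType R₀ N' := .comp R₀ K' N'
    haveI : IsScalarTower R₀ D₀ N' := .of_algebraMap_eq' (by ext; rfl)
    exact .of_comp R₀ D₀ N'
  obtain ⟨A, iA, iD, iV, ψ₁, ρ', hloc, hsq⟩ :=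
    exists_dvr_of_domain (D₀ := D₀) (D₁ := Localization.AtPrime M) (N' := N') hD₁ hinj01 hinjN'
  -- the residue field map
  let eb : MvPolynomial (Fin r) D₀ →+* (maximalIdeal A).ResidueField :=
    (algebraMap A (maximalIdeal A).ResidueField).comp
      (ψ₁.comp (algebraMap (MvPolynomial (Fin r) D₀) (Localization.AtPrime M)))
  have hle : RingHom.ker e.toRingHom ≤ RingHom.ker eb := by
    intro p hp
    rw [RingHom.mem_ker]
    change algebraMap A (maximalIdeal A).ResidueField
      (ψ₁ (algebraMap (MvPolynomial (Fin r) D₀) (Localization.AtPrime M) p)) = 0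
    rw [Ideal.algebraMap_residueField_eq_zero]
    apply hloc
    have h1 := IsLocalization.AtPrime.under_maximalIdeal (Localization.AtPrime M) M
    have h2 : p ∈ Ideal.under (MvPolynomial (Fin r) D₀)
        (maximalIdeal (Localization.AtPrime M)) := by
      rw [h1]; exact hp
    exact h2
  let ρ : N →+* (maximalIdeal A).ResidueField := RingHom.liftOfSurjective e.toRingHom he ⟨eb, hle⟩
  have hρ : ∀ p, ρ (e p) = eb p := fun p =>
    RingHom.liftOfRightInverse_comp_apply e.toRingHom _ _ ⟨eb, hle⟩ p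
  refine ⟨A, iA, iD, iV, (ψ₁.comp (algebraMap D₀ (Localization.AtPrime M))).comp
    (Ideal.Quotient.mk P), ρ, ρ', ?_, ?_⟩
  · ext a
    simp only [RingHom.comp_apply]
    have h1 : ι (residue R₀ a) = e (MvPolynomial.C (Ideal.Quotient.mk P a)) := by
      have := e.commutes (Ideal.Quotient.mk P a)
      rw [MvPolynomial.algebraMap_eq] at this
      rw [this, RingHom.algebraMap_toAlgebra]
      rfl
    rw [h1, hρ]
    change _ = algebraMap A (maximalIdeal A).ResidueField
      (ψ₁ (algebraMap (MvPolynomial (Fin r) D₀) (Localization.AtPrime M)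
        (MvPolynomial.C (Ideal.Quotient.mk P a))))
    rw [← MvPolynomial.algebraMap_eq,
      ← IsScalarTower.algebraMap_apply D₀ (MvPolynomial (Fin r) D₀) (Localization.AtPrime M)]
  · ext a
    have := congrArg (fun f => f (Ideal.Quotient.mk P a)) hsq
    simp only [RingHom.comp_apply] at this ⊢
    rw [this, RingHom.algebraMap_toAlgebra]
    rfl

end Groth.Agent.Lib.Helper2.DvrBig
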