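import Mathlib
import Groth.Agent.Lib.Helper2BigField
import Groth.Agent.Lib.Helper2DvrBig
import Groth.Agent.Lib.Helper4DVRSch

set_option autoImplicit false
universe u

namespace Groth.Agent.Lib.Helper2.Weight

open AlgebraicGeometry CategoryTheory Limits IsLocalRing

/-- (S): the fibre of a base change over a point whose residue field receives a big field. -/
theorem card_fiber_of_big {X Y : Scheme.{u}} (f : X ⟶ Y) [LocallyQuasiFinite f]
    (hfin : ∀ v : Y, (f ⁻¹' {v}).Finite) {S : Scheme.{u}} (g : S ⟶ Y) (v : S)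
    {N : Type u} [Field N] (b : Spec (.of N) ⟶ Y)
    (c : Spec (.of (S.residueField v)) ⟶ Spec (.of N))
    (hc : S.fromSpecResidueField v ≫ g = c ≫ b)
    (hbig : ng f (b (closedPoint N)) ≤ Nat.card (Secs f b)) :
    g v = b (closedPoint N) ∧
      ENat.card ↥((pullback.snd f g).fiber v) = (ng f (b (closedPoint N)) : ℕ∞) := by
  have hpt : (c ≫ b) (closedPoint (S.residueField v)) = b (closedPoint N) := by
    rw [Scheme.Hom.comp_apply]
    congr 1
    exact eq_closedPoint _
  have hgv : g v = b (closedPoint N) := by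
    rw [← hpt, ← hc, Scheme.Hom.comp_apply, Scheme.fromSpecResidueField_apply]
  refine ⟨hgv, ?_⟩
  let e : (pullback.snd f g).fiber v ≅ pullback f (S.fromSpecResidueField v ≫ g) :=
    pullbackLeftPullbackSndIso f g (S.fromSpecResidueField v)
  rw [ENat.card_congr e.hom.homeomorph.toEquiv]
  have hbig' : ng f ((c ≫ b) (closedPoint (S.residueField v))) ≤ Nat.card (Secs f (c ≫ b)) := by
    rw [hpt]
    exact hbig.trans (card_secs_le_of_comp f hfin b c)
  have h1 := card_pullback_of_big f (c ≫ b) hfin hbig'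
  rw [hpt] at h1
  haveI := finite_pullback f (c ≫ b) hfin
  have h2 : ENat.card ↥(pullback f (c ≫ b)) = (ng f (b (closedPoint N)) : ℕ∞) := by
    rw [ENat.card_eq_coe_natCard, h1]
  rw [← h2]
  exact ENat.card_congr (pullback.congrHom rfl hc).hom.homeomorph.toEquiv

/-- the composite `O_{Y,y} → O_{Y,y'} → κ(y')` for a generization `y'` of `y`. -/
noncomputable def chi {Y : Scheme.{u}} {y y' : Y} (h : y' ⤳ y) :
    Y.presheaf.stalk y →+* Y.residueField y' :=
  (Y.presheaf.stalkSpecializes h ≫ Y.residue y').hom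

theorem chi_essFiniteType {Y : Scheme.{u}} {y y' : Y} (h : y' ⤳ y) :
    (chi h).EssFiniteType := by
  have h1 := Groth.Agent.Lib.Helper4.DVRSch.essFiniteType_stalkSpecializes h
  have h2 : (Y.residue y').hom.EssFiniteType :=
    RingHom.FiniteType.essFiniteType
      (RingHom.FiniteType.of_surjective _ (Y.residue_surjective y'))
  unfold chi
  rw [CommRingCat.hom_comp]
  algebraize [(Y.presheaf.stalkSpecializes h).hom, (Y.residue y').hom,
    (Y.residue y').hom.comp (Y.presheaf.stalkSpecializes h).hom]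
  exact Algebra.EssFiniteType.comp _ (Y.presheaf.stalk y') _

theorem SpecMap_chi {Y : Scheme.{u}} {y y' : Y} (h : y' ⤳ y) :
    Spec.map (CommRingCat.ofHom (chi h)) ≫ Y.fromSpecStalk y = Y.fromSpecResidueField y' := by
  unfold chi Scheme.fromSpecResidueField
  rw [CommRingCat.ofHom_hom, Spec.map_comp, Category.assoc,
    Scheme.SpecMap_stalkSpecializes_fromSpecStalk]

theorem ker_chi_ne {Y : Scheme.{u}} {y y' : Y} (h : y' ⤳ y) (hne : y' ≠ y) :
    RingHom.ker (chi h) ≠ maximalIdeal (Y.presheaf.stalk y) := by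
  intro hk
  apply hne
  have h1 : (Spec.map (CommRingCat.ofHom (chi h)) ≫ Y.fromSpecStalk y)
      (closedPoint (Y.residueField y')) = y' := by
    rw [SpecMap_chi, Scheme.fromSpecResidueField_apply]
  rw [← h1, Scheme.Hom.comp_apply]
  have h2 : Spec.map (CommRingCat.ofHom (chi h)) (closedPoint (Y.residueField y')) =
      closedPoint (Y.presheaf.stalk y) := by
    apply PrimeSpectrum.ext
    change Ideal.comap (chi h) (maximalIdeal (Y.residueField y')) = maximalIdeal _
    rw [← hk, IsLocalRing.maximalIdeal_eq_bot]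
    rfl
  rw [h2, Scheme.fromSpecStalk_closedPoint]


/-- the square at a point `p` of `Spec A`. -/
theorem square_at {Y : Scheme.{u}} {y : Y} {A : Type u} [CommRing A]
    (ψ : Y.presheaf.stalk y →+* A) (p : Spec (.of A)) {K N : Type u} [Field K] [Field N]
    (χ : Y.presheaf.stalk y →+* K) (bK : Spec (.of K) ⟶ Y)
    (hχ : Spec.map (CommRingCat.ofHom χ) ≫ Y.fromSpecStalk y = bK)
    (ι : K →+* N) (ρ : N →+* p.asIdeal.ResidueField)
    (h : (algebraMap A p.asIdeal.ResidueField).comp ψ = ρ.comp (ι.comp χ)) :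
    (Spec (.of A)).fromSpecResidueField p ≫ (Spec.map (CommRingCat.ofHom ψ) ≫ Y.fromSpecStalk y) =
      Spec.map (CommRingCat.ofHom ρ ≫ (Scheme.Spec.residueFieldIso (.of A) p).inv) ≫
        (Spec.map (CommRingCat.ofHom ι) ≫ bK) := by
  rw [← Scheme.Spec.map_residueFieldIso_inv_eq_fromSpecResidueField, ← hχ]
  simp only [Category.assoc, ← Spec.map_comp_assoc]
  congr 2
  ext a
  have := congrArg (fun f => f a) h
  simp only [RingHom.comp_apply] at this
  simp only [CommRingCat.hom_comp, CommRingCat.hom_ofHom, RingHom.comp_apply]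
  rw [this]


end Groth.Agent.Lib.Helper2.Weight
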