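import Mathlib
import Groth.Agent.Lib.Helper2FibH1C

/-!
# Vanishing of the top cohomology of globally generated modules from the fibres (helper2)

Namespace `Groth.Agent.Lib.Helper2.FibH1D`.
-/

set_option autoImplicit false
set_option linter.style.haveILetI false
universe u
open CategoryTheory CategoryTheory.Limits AlgebraicGeometry TopologicalSpace Opposite Abelian

namespace Groth.Agent.Lib.Helper2.FibH1D

open Groth.Agent.Lib.Helper23.AffVanish Groth.Agent.Lib.Helper23.QCohLocal
open Groth.Agent.Lib.Helper2.FibH1A Groth.Agent.Lib.Helper2.FibH1B Groth.Agent.Lib.Helper23.Serre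
open Groth.Agent.Lib.Helper2.FibH1C

/-- the top cohomology of `O_X` vanishes if it does on all fibres, over an affine base -/
theorem subsingleton_HH_structure_of_isAffine {X Y : Scheme.{u}} (f : X ⟶ Y) [IsProper f]
    [IsAffine Y] (d : ℕ) (hd : ∀ y, topologicalKrullDim ↥(f.fiber y) ≤ d)
    (hfib : ∀ y, Subsingleton (Coh.HH (f.fiber y) (Coh.structureModule (f.fiber y)) d)) :
    Subsingleton (Coh.HH X (Coh.structureModule X) d) := by
  let φ : X ⟶ Spec (CommRingCat.of Γ(Y, ⊤)) := f ≫ Y.isoSpec.hom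
  haveI : IsProper φ := inferInstanceAs (IsProper (f ≫ Y.isoSpec.hom))
  have hc : IsPullback (𝟙 X) φ f Y.isoSpec.inv :=
    IsPullback.of_horiz_isIso ⟨by simp [φ]⟩
  have hd' : ∀ t, topologicalKrullDim ↥(φ.fiber t) ≤ d :=
    Groth.Agent.Lib.Helper2.FibVanC.fibre_dim_le_of_isPullback f Y.isoSpec.inv φ (𝟙 X) hc d hd
  refine subsingleton_HH_structure Γ(Y, ⊤) φ d hd' (fun t _ => ?_)
  exact (subsingleton_HH_fiber_iff f Y.isoSpec.inv φ (𝟙 X) hc t d).2 (hfib _)

/-- **`H^d` of a globally generated quasi-coherent module vanishes** when the fibres have dimension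
at most `d` and `H^d` of the structure sheaf of every fibre vanishes (affine base) -/
theorem subsingleton_HH_of_epi_coprod {X Y : Scheme.{u}} (f : X ⟶ Y) [IsProper f] [IsAffine Y]
    (d : ℕ) (hd : ∀ y, topologicalKrullDim ↥(f.fiber y) ≤ d)
    (hfib : ∀ y, Subsingleton (Coh.HH (f.fiber y) (Coh.structureModule (f.fiber y)) d))
    (F : X.Modules) (hF : Coh.IsQCoh F) (ι : Type u)
    (e : (∐ fun _ : ι => Coh.structureModule X) ⟶ F) [Epi e] :
    Subsingleton (Coh.HH X F d) := by
  haveI : CompactSpace X := QuasiCompact.compactSpace_of_compactSpace f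
  haveI : QuasiSeparatedSpace X := quasiSeparatedSpace_of_quasiSeparated f
  haveI hO : (Coh.structureModule X).IsQuasicoherent := isQuasicoherent_structureModule' X
  haveI : F.IsQuasicoherent := hF
  haveI hq1 : (∐ fun _ : ι => Coh.structureModule X).IsQuasicoherent :=
    coproduct_isQuasicoherent _ (fun _ => hO)
  have h0 := subsingleton_HH_structure_of_isAffine f d hd hfib
  haveI h1 : Subsingleton (Coh.HH X (∐ fun _ : ι => Coh.structureModule X) d) :=
    Groth.Agent.Lib.Helper16.CohCoprod.subsingleton_HH_coprod_qcqs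
      (fun _ : ι => Coh.structureModule X) (fun _ => hO) d (fun _ => h0)
  haveI : (kernel e).IsQuasicoherent := isQuasicoherent_kernel e
  have hK : Subsingleton (Coh.HH X (kernel e) (d + 1)) :=
    Groth.Agent.Lib.Helper2.FibVanE.subsingleton_HH_of_isAffine f d hd (kernel e) (d + 1)
      (by omega)
  let T : ShortComplex X.Modules := ShortComplex.mk (kernel.ι e) e (kernel.condition e)
  haveI : Mono T.f := inferInstanceAs (Mono (kernel.ι e))
  haveI : Epi T.g := inferInstanceAs (Epi e)
  have hT : T.ShortExact :=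
    ShortComplex.ShortExact.mk (ShortComplex.exact_of_f_is_kernel _ (kernelIsKernel e))
  have key : ∀ y : Coh.HH X F d, y = 0 := by
    intro y
    obtain ⟨z, hz⟩ := Groth.Agent.Lib.Helper27CohFin.exact_delta T hT d y
      (Subsingleton.elim (α := Coh.HH X (kernel e) (d + 1)) _ _)
    rw [← hz, Subsingleton.elim z 0, map_zero]
  exact ⟨fun a b => (key a).trans (key b).symm⟩

/-- vanishing of the top cohomology of `O_X` passes to the fibres, over `Spec A` -/
theorem subsingleton_HH_fiber_spec (A : Type u) [CommRing A] {X : Scheme.{u}}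
    (f : X ⟶ Spec (CommRingCat.of A)) [IsProper f] (d : ℕ)
    (hd : ∀ t, topologicalKrullDim ↥(f.fiber t) ≤ d)
    (h : Subsingleton (Coh.HH X (Coh.structureModule X) d)) (t : Spec (CommRingCat.of A)) :
    Subsingleton (Coh.HH (f.fiber t) (Coh.structureModule (f.fiber t)) d) :=
  subsingleton_HH_structure_pullback f _ (f.fiberι t) (isPullback_fiber_spec f t) d hd h

/-- vanishing of the top cohomology of `O_X` passes to the fibres, over an affine base -/
theorem subsingleton_HH_fiber_of_isAffine {X Y : Scheme.{u}} (f : X ⟶ Y) [IsProper f]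
    [IsAffine Y] (d : ℕ) (hd : ∀ y, topologicalKrullDim ↥(f.fiber y) ≤ d)
    (h : Subsingleton (Coh.HH X (Coh.structureModule X) d)) (y : Y) :
    Subsingleton (Coh.HH (f.fiber y) (Coh.structureModule (f.fiber y)) d) := by
  let φ : X ⟶ Spec (CommRingCat.of Γ(Y, ⊤)) := f ≫ Y.isoSpec.hom
  haveI : IsProper φ := inferInstanceAs (IsProper (f ≫ Y.isoSpec.hom))
  have hc : IsPullback (𝟙 X) φ f Y.isoSpec.inv :=
    IsPullback.of_horiz_isIso ⟨by simp [φ]⟩
  have hd' : ∀ t, topologicalKrullDim ↥(φ.fiber t) ≤ d :=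
    Groth.Agent.Lib.Helper2.FibVanC.fibre_dim_le_of_isPullback f Y.isoSpec.inv φ (𝟙 X) hc d hd
  have h1 := subsingleton_HH_fiber_spec Γ(Y, ⊤) φ d hd' h (Y.isoSpec.hom y)
  have h2 := (subsingleton_HH_fiber_iff f Y.isoSpec.inv φ (𝟙 X) hc (Y.isoSpec.hom y) d).1 h1
  have e : Y.isoSpec.inv (Y.isoSpec.hom y) = y := by
    rw [← Scheme.Hom.comp_apply, Iso.hom_inv_id]
    rfl
  rw [e] at h2
  exact h2

end Groth.Agent.Lib.Helper2.FibH1D
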