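import Mathlib
import Groth.Agent.Lib.Helper2FibH1D
import Groth.Agent.S0403

/-!
# Openness of the locus where the top cohomology of the fibres vanishes (helper2)

Namespace `Groth.Agent.Lib.Helper2.FibH1E`.
-/

set_option autoImplicit false
set_option linter.style.haveILetI false
universe u
open CategoryTheory CategoryTheory.Limits AlgebraicGeometry TopologicalSpace Opposite Abelian

namespace Groth.Agent.Lib.Helper2.FibH1E

open Groth.Agent.Lib.Helper23.AffVanish Groth.Agent.Lib.Helper23.QCohLocal
open Groth.Agent.Lib.Helper2.FibH1A Groth.Agent.Lib.Helper2.FibH1B Groth.Agent.Lib.Helper23.Serre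
open Groth.Agent.Lib.Helper2.FibH1C Groth.Agent.Lib.Helper2.FibH1D

open TensorProduct in
/-- flat base change for the structure sheaf, in the form of a vanishing criterion -/
theorem subsingleton_HH_flat_pullback_iff (A B : Type u) [CommRing A] [CommRing B] [Algebra A B]
    [Module.Flat A B] {X : Scheme.{u}} (φ : X ⟶ Spec (CommRingCat.of A)) [CompactSpace X]
    [QuasiSeparatedSpace X] (d : ℕ) :
    letI : X.Over (Spec (CommRingCat.of A)) := ⟨φ⟩
    Subsingleton (B ⊗[A] Coh.HH X (Coh.structureModule X) d) ↔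
      Subsingleton (Coh.HH (pullback φ (Spec.map (CommRingCat.ofHom (algebraMap A B))))
        (Coh.structureModule (pullback φ (Spec.map (CommRingCat.ofHom (algebraMap A B))))) d) := by
  letI : X.Over (Spec (CommRingCat.of A)) := ⟨φ⟩
  letI : (pullback φ (Spec.map (CommRingCat.ofHom (algebraMap A B)))).Over
      (Spec (CommRingCat.of B)) := ⟨pullback.snd _ _⟩
  haveI hO : (Coh.structureModule X).IsQuasicoherent := isQuasicoherent_structureModule' X
  obtain ⟨e⟩ := Groth.Agent.S0034.result A B X
    (pullback φ (Spec.map (CommRingCat.ofHom (algebraMap A B)))) (pullback.fst _ _)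
    (IsPullback.of_hasPullback φ (Spec.map (CommRingCat.ofHom (algebraMap A B))))
    (Coh.structureModule X) d
  constructor
  · intro h
    haveI := h
    haveI h1 : Subsingleton (Coh.HH (pullback φ (Spec.map (CommRingCat.ofHom (algebraMap A B))))
        ((Scheme.Modules.pullback (pullback.fst φ
          (Spec.map (CommRingCat.ofHom (algebraMap A B))))).obj (Coh.structureModule X)) d) :=
      e.symm.toEquiv.subsingleton
    exact subsingleton_HH_of_iso (Groth.Agent.Lib.Helper23.PB.pullbackUnitIso _) d h1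
  · intro h
    haveI h1 : Subsingleton (Coh.HH (pullback φ (Spec.map (CommRingCat.ofHom (algebraMap A B))))
        ((Scheme.Modules.pullback (pullback.fst φ
          (Spec.map (CommRingCat.ofHom (algebraMap A B))))).obj (Coh.structureModule X)) d) :=
      subsingleton_HH_of_iso (Groth.Agent.Lib.Helper23.PB.pullbackUnitIso _).symm d h
    exact e.toEquiv.subsingleton

open TensorProduct in
theorem subsingleton_away_tensor {A : Type u} [CommRing A] (s : A) (P : Type u) [AddCommGroup P]
    [Module A P] (hs : ∀ p : P, s • p = 0) :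
    Subsingleton (Localization.Away s ⊗[A] P) := by
  obtain ⟨u, hu⟩ := IsLocalization.Away.algebraMap_isUnit (S := Localization.Away s) s
  have key : ∀ z : Localization.Away s ⊗[A] P, z = 0 := by
    intro z
    induction z using TensorProduct.induction_on with
    | zero => rfl
    | tmul a p =>
      have e : a = s • (a * ↑u⁻¹) := by
        rw [Algebra.smul_def, ← hu, mul_comm a, ← mul_assoc, Units.mul_inv, one_mul]
      rw [e, TensorProduct.smul_tmul, hs, TensorProduct.tmul_zero]
    | add a b ha hb => rw [ha, hb, add_zero]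
  exact ⟨fun a b => (key a).trans (key b).symm⟩

open TensorProduct in
/-- **openness**: if the top cohomology of the structure sheaf of the fibre at `t₀` vanishes, then it
vanishes for all fibres over a basic open neighbourhood of `t₀` -/
theorem exists_basicOpen_vanishing (A : Type u) [CommRing A] {X : Scheme.{u}}
    (φ : X ⟶ Spec (CommRingCat.of A)) [IsProper φ] (d : ℕ)
    (hd : ∀ t, topologicalKrullDim ↥(φ.fiber t) ≤ d)
    (t₀ : Spec (CommRingCat.of A))
    (h₀ : Subsingleton (Coh.HH (φ.fiber t₀) (Coh.structureModule (φ.fiber t₀)) d)) :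
    ∃ s : A, s ∉ t₀.asIdeal ∧ ∀ t : Spec (CommRingCat.of A), s ∉ t.asIdeal →
      Subsingleton (Coh.HH (φ.fiber t) (Coh.structureModule (φ.fiber t)) d) := by
  letI : X.Over (Spec (CommRingCat.of A)) := ⟨φ⟩
  haveI : CompactSpace X := QuasiCompact.compactSpace_of_compactSpace φ
  haveI : QuasiSeparatedSpace X := quasiSeparatedSpace_of_quasiSeparated φ
  have hfin : Module.Finite A (Coh.HH X (Coh.structureModule X) d) :=
    Groth.Agent.Lib.Helper2.TopDegC.finite_HH_top A φ d hd _ (isCoh_structureModule X)
  haveI h𝔭 : t₀.asIdeal.IsPrime := t₀.isPrime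
  -- localisation at the prime
  let c : Spec (CommRingCat.of (Localization.AtPrime t₀.asIdeal)) ⟶ Spec (CommRingCat.of A) :=
    Spec.map (CommRingCat.ofHom (algebraMap A (Localization.AtPrime t₀.asIdeal)))
  have hcB : IsPullback (pullback.fst φ c) (pullback.snd φ c) φ c := IsPullback.of_hasPullback _ _
  haveI : IsProper (pullback.snd φ c) := MorphismProperty.pullback_snd _ _ inferInstance
  have hdB : ∀ t, topologicalKrullDim ↥((pullback.snd φ c).fiber t) ≤ d :=
    Groth.Agent.Lib.Helper2.FibVanC.fibre_dim_le_of_isPullback φ c _ _ hcB d hd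
  have hB : Subsingleton (Coh.HH (pullback φ c) (Coh.structureModule (pullback φ c)) d) := by
    refine subsingleton_HH_structure (Localization.AtPrime t₀.asIdeal) (pullback.snd φ c) d hdB
      (fun t ht => ?_)
    rw [subsingleton_HH_fiber_iff φ c _ _ hcB t d]
    have e : c t = t₀ := by
      apply PrimeSpectrum.ext
      change Ideal.comap (algebraMap A (Localization.AtPrime t₀.asIdeal)) t.asIdeal = t₀.asIdeal
      rw [IsLocalRing.eq_maximalIdeal ht]
      exact Localization.AtPrime.under_maximalIdeal
    rw [e]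
    exact h₀
  have h1 : Subsingleton ((Localization.AtPrime t₀.asIdeal) ⊗[A]
      Coh.HH X (Coh.structureModule X) d) :=
    (subsingleton_HH_flat_pullback_iff A (Localization.AtPrime t₀.asIdeal) φ d).2 hB
  have h2 : Subsingleton (LocalizedModule t₀.asIdeal.primeCompl
      (Coh.HH X (Coh.structureModule X) d)) :=
    ((IsLocalizedModule.isBaseChange t₀.asIdeal.primeCompl (Localization.AtPrime t₀.asIdeal)
      (LocalizedModule.mkLinearMap t₀.asIdeal.primeCompl
        (Coh.HH X (Coh.structureModule X) d))).equiv).symm.toEquiv.subsingleton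
  have h3 : t₀ ∉ Module.support A (Coh.HH X (Coh.structureModule X) d) :=
    Module.notMem_support_iff.2 h2
  have h3' : ¬ (Module.annihilator A (Coh.HH X (Coh.structureModule X) d) ≤ t₀.asIdeal) :=
    fun hle => h3 ((Module.mem_support_iff_of_finite (p := (t₀ : PrimeSpectrum A))).2 hle)
  obtain ⟨s, hsAnn, hs𝔭⟩ := SetLike.not_le_iff_exists.1 h3'
  refine ⟨s, hs𝔭, fun t ht => ?_⟩
  -- localisation away from `s`
  let c' : Spec (CommRingCat.of (Localization.Away s)) ⟶ Spec (CommRingCat.of A) :=
    Spec.map (CommRingCat.ofHom (algebraMap A (Localization.Away s)))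
  have hcC : IsPullback (pullback.fst φ c') (pullback.snd φ c') φ c' :=
    IsPullback.of_hasPullback _ _
  haveI : IsProper (pullback.snd φ c') := MorphismProperty.pullback_snd _ _ inferInstance
  have hdC : ∀ t, topologicalKrullDim ↥((pullback.snd φ c').fiber t) ≤ d :=
    Groth.Agent.Lib.Helper2.FibVanC.fibre_dim_le_of_isPullback φ c' _ _ hcC d hd
  have h4 : Subsingleton ((Localization.Away s) ⊗[A] Coh.HH X (Coh.structureModule X) d) :=
    subsingleton_away_tensor s _ (Module.mem_annihilator.1 hsAnn)
  have hC : Subsingleton (Coh.HH (pullback φ c') (Coh.structureModule (pullback φ c')) d) :=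
    (subsingleton_HH_flat_pullback_iff A (Localization.Away s) φ d).1 h4
  obtain ⟨t', ht'⟩ : ∃ t', c' t' = t := by
    have hr := PrimeSpectrum.localization_away_comap_range (Localization.Away s) s
    have ht2 : t ∈ (PrimeSpectrum.basicOpen s : Set (PrimeSpectrum A)) := ht
    rw [← hr] at ht2
    exact ht2
  have h5 := subsingleton_HH_fiber_spec (Localization.Away s) (pullback.snd φ c') d hdC hC t'
  have h6 := (subsingleton_HH_fiber_iff φ c' _ _ hcC t' d).1 h5
  rw [ht'] at h6
  exact h6

/-- **universal vanishing**: if all the fibres of `f` over the image of `g` have dimension at most `d`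
and vanishing `H^d` of the structure sheaf, then `H^d` of the structure sheaf of the base change
vanishes over the preimage of every affine open -/
theorem subsingleton_HHon_of_fibres {X Y Y' : Scheme.{u}} (f : X ⟶ Y) [IsProper f] (g : Y' ⟶ Y)
    (d : ℕ) (U : Y'.Opens) (hU : IsAffineOpen U)
    (hfib : ∀ y' ∈ U, topologicalKrullDim ↥(f.fiber (g y')) ≤ d ∧
      Subsingleton (Coh.HH (f.fiber (g y')) (Coh.structureModule (f.fiber (g y'))) d)) :
    Subsingleton (Coh.HHon (pullback f g) (Coh.structureModule (pullback f g))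
      (pullback.snd f g ⁻¹ᵁ U) d) := by
  have hc : IsPullback (pullback.fst f g) (pullback.snd f g) f g := IsPullback.of_hasPullback f g
  haveI : IsProper (pullback.snd f g) := MorphismProperty.pullback_snd _ _ inferInstance
  have hc2 : IsPullback ((pullback.snd f g) ⁻¹ᵁ U).ι ((pullback.snd f g) ∣_ U)
      (pullback.snd f g) U.ι :=
    (isPullback_morphismRestrict (pullback.snd f g) U).flip
  haveI : IsProper ((pullback.snd f g) ∣_ U) :=
    MorphismProperty.of_isPullback (P := @IsProper) hc2 inferInstance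
  haveI : IsAffine (↑U : Scheme.{u}) := hU
  have hdh : ∀ w : (↑U : Scheme.{u}),
      topologicalKrullDim ↥(((pullback.snd f g) ∣_ U).fiber w) ≤ d := by
    intro w
    rw [Groth.Agent.Lib.Helper3.FlatFibDim2.dim_fiber_eq_of_isPullback (pullback.snd f g) U.ι
      ((pullback.snd f g) ∣_ U) _ hc2 w,
      Groth.Agent.Lib.Helper3.FlatFibDim2.dim_fiber_eq_of_isPullback f g (pullback.snd f g)
      (pullback.fst f g) hc (U.ι w)]
    exact (hfib _ w.2).1
  have hfh : ∀ w : (↑U : Scheme.{u}), Subsingleton (Coh.HH (((pullback.snd f g) ∣_ U).fiber w)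
      (Coh.structureModule (((pullback.snd f g) ∣_ U).fiber w)) d) := by
    intro w
    rw [subsingleton_HH_fiber_iff (pullback.snd f g) U.ι ((pullback.snd f g) ∣_ U) _ hc2 w d,
      subsingleton_HH_fiber_iff f g (pullback.snd f g) (pullback.fst f g) hc (U.ι w) d]
    exact (hfib _ w.2).2
  have h1 := subsingleton_HH_structure_of_isAffine ((pullback.snd f g) ∣_ U) d hdh hfh
  exact subsingleton_HH_of_iso
    (Scheme.Modules.restrictUnitIso ((pullback.snd f g) ⁻¹ᵁ U).ι).symm d h1

/-- **openness on the base**: the locus where the fibre has dimension at most `d` and vanishing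
`H^d` of the structure sheaf is a neighbourhood of each of its points -/
theorem exists_open_fibres {X Y : Scheme.{u}} (f : X ⟶ Y) [IsProper f] (d : ℕ) (y : Y)
    (hdim : topologicalKrullDim ↥(f.fiber y) ≤ d)
    (hH : Subsingleton (Coh.HH (f.fiber y) (Coh.structureModule (f.fiber y)) d)) :
    ∃ V : Y.Opens, y ∈ V ∧ ∀ v ∈ V, topologicalKrullDim ↥(f.fiber v) ≤ d ∧
      Subsingleton (Coh.HH (f.fiber v) (Coh.structureModule (f.fiber v)) d) := by
  have hopen := Groth.Agent.S0403.result f (d : WithBot ℕ∞)
  have main : ∀ V₀ : Y.Opens, IsAffineOpen V₀ → y ∈ V₀ →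
      (∀ w ∈ V₀, topologicalKrullDim ↥(f.fiber w) ≤ d) →
      ∃ V : Y.Opens, y ∈ V ∧ ∀ v ∈ V, topologicalKrullDim ↥(f.fiber v) ≤ d ∧
        Subsingleton (Coh.HH (f.fiber v) (Coh.structureModule (f.fiber v)) d) := by
    intro V₀ hV₀ hyV₀ hdV₀
    have hc : IsPullback (pullback.fst f hV₀.fromSpec) (pullback.snd f hV₀.fromSpec) f
        hV₀.fromSpec := IsPullback.of_hasPullback _ _
    haveI : IsProper (pullback.snd f hV₀.fromSpec) :=
      MorphismProperty.pullback_snd _ _ inferInstance
    have hmem : ∀ t, hV₀.fromSpec t ∈ V₀ := by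
      intro t
      have : hV₀.fromSpec t ∈ Set.range hV₀.fromSpec := ⟨t, rfl⟩
      rw [hV₀.range_fromSpec] at this
      exact this
    have hdφ : ∀ t, topologicalKrullDim ↥((pullback.snd f hV₀.fromSpec).fiber t) ≤ d := by
      intro t
      rw [Groth.Agent.Lib.Helper3.FlatFibDim2.dim_fiber_eq_of_isPullback f hV₀.fromSpec _ _ hc t]
      exact hdV₀ _ (hmem t)
    obtain ⟨t₀, ht₀⟩ : ∃ t₀, hV₀.fromSpec t₀ = y := by
      have : y ∈ Set.range hV₀.fromSpec := by rw [hV₀.range_fromSpec]; exact hyV₀
      exact this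
    have h₀ : Subsingleton (Coh.HH ((pullback.snd f hV₀.fromSpec).fiber t₀)
        (Coh.structureModule ((pullback.snd f hV₀.fromSpec).fiber t₀)) d) := by
      rw [subsingleton_HH_fiber_iff f hV₀.fromSpec _ _ hc t₀ d, ht₀]
      exact hH
    obtain ⟨s, hs₀, hs⟩ := exists_basicOpen_vanishing Γ(Y, V₀) (pullback.snd f hV₀.fromSpec) d hdφ
      t₀ h₀
    refine ⟨hV₀.fromSpec ''ᵁ (PrimeSpectrum.basicOpen s), ⟨t₀, hs₀, ht₀⟩, ?_⟩
    rintro _ ⟨t, ht, rfl⟩
    refine ⟨hdV₀ _ (hmem t), ?_⟩
    exact (subsingleton_HH_fiber_iff f hV₀.fromSpec _ _ hc t d).1 (hs t ht)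
  obtain ⟨_, ⟨V₀, hV₀, rfl⟩, hyV₀, hV₀W⟩ := Y.isBasis_affineOpens.exists_subset_of_mem_open
    (show y ∈ {s : Y | topologicalKrullDim ↥(f.fiber s) ≤ d} from hdim) hopen
  exact main V₀ hV₀ hyV₀ (fun w hw => hV₀W hw)

end Groth.Agent.Lib.Helper2.FibH1E
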