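import Mathlib
import Groth.Agent.Lib.Helper2FibH1E

/-!
# Surjectivity of `O_Y → f_* O_X` is stable under base change (helper2)

for proper `f` with fibres of dimension at most one and vanishing `H¹` of the structure sheaves of
the fibres.

Namespace `Groth.Agent.Lib.Helper2.FibH1F`.
-/

set_option autoImplicit false
set_option linter.style.haveILetI false
universe u
open CategoryTheory CategoryTheory.Limits AlgebraicGeometry TopologicalSpace Opposite Abelian

namespace Groth.Agent.Lib.Helper2.FibH1F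

open Groth.Agent.Lib.Helper23.AffVanish Groth.Agent.Lib.Helper23.QCohLocal
open Groth.Agent.Lib.Helper2.FibH1A Groth.Agent.Lib.Helper2.FibH1B Groth.Agent.Lib.Helper23.Serre
open Groth.Agent.Lib.Helper2.FibH1C Groth.Agent.Lib.Helper2.FibH1D Groth.Agent.Lib.Helper2.FibH1E
open Groth.Agent.Lib.Helper23.GenLocus

/-- in a pushout square of commutative rings, the map opposite to a surjection is a surjection -/
theorem surjective_of_isPushout {Z P Q W : CommRingCat.{u}} (a : Z ⟶ P) (b : Z ⟶ Q) (c : P ⟶ W)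
    (d : Q ⟶ W) (hp : IsPushout a b c d) (ha : Function.Surjective a) : Function.Surjective d := by
  let D : Subring W := d.hom.range
  let d' : Q ⟶ CommRingCat.of D := CommRingCat.ofHom d.hom.rangeRestrict
  have hc : ∀ x : P, c x ∈ D := by
    intro x
    obtain ⟨z, rfl⟩ := ha x
    refine ⟨b z, ?_⟩
    have := ConcreteCategory.congr_hom hp.w z
    exact this.symm
  let c' : P ⟶ CommRingCat.of D := CommRingCat.ofHom (c.hom.codRestrict D hc)
  let j : CommRingCat.of D ⟶ W := CommRingCat.ofHom D.subtype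
  have hc'j : c' ≫ j = c := by ext x; rfl
  have hd'j : d' ≫ j = d := by ext x; rfl
  have hw : a ≫ c' = b ≫ d' := by
    ext z
    exact ConcreteCategory.congr_hom hp.w z
  let r : W ⟶ CommRingCat.of D := hp.desc c' d' hw
  have hrj : r ≫ j = 𝟙 W := by
    apply hp.hom_ext
    · rw [← Category.assoc, hp.inl_desc, hc'j, Category.comp_id]
    · rw [← Category.assoc, hp.inr_desc, hd'j, Category.comp_id]
  intro w
  have h1 : j (r w) = w := ConcreteCategory.congr_hom hrj w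
  obtain ⟨q, hq⟩ := (r w).2
  exact ⟨q, hq.trans h1⟩

theorem appLE_top_eq {X Y : Scheme.{u}} (f : X ⟶ Y) (e : (⊤ : X.Opens) ≤ f ⁻¹ᵁ ⊤) :
    f.appLE ⊤ ⊤ e = f.appTop := by
  rw [Scheme.Hom.appLE]
  exact (congrArg (fun t => f.app ⊤ ≫ t) (X.presheaf.map_id _)).trans (Category.comp_id _)

/-- **core case**: over `Spec A`, base change to `Spec B` -/
theorem surjective_appTop_pullback {A B : Type u} [CommRing A] [CommRing B] [Algebra A B]
    {X X' : Scheme.{u}} (φ : X ⟶ Spec (CommRingCat.of A)) (φ' : X' ⟶ Spec (CommRingCat.of B))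
    (p : X' ⟶ X) (hsq : IsPullback p φ' φ (Spec.map (CommRingCat.ofHom (algebraMap A B))))
    [IsProper φ] (hd : ∀ t, topologicalKrullDim ↥(φ.fiber t) ≤ ((1 : ℕ) : WithBot ℕ∞))
    (hfib : ∀ t, Subsingleton (Coh.HH (φ.fiber t) (Coh.structureModule (φ.fiber t)) 1))
    (hsurj : Function.Surjective φ.appTop) : Function.Surjective φ'.appTop := by
  classical
  let R := MvPolynomial B A
  let ψ : R →ₐ[A] B := MvPolynomial.aeval id
  have hψ : Function.Surjective ψ := fun a => ⟨MvPolynomial.X a, by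
    change (MvPolynomial.aeval id) (MvPolynomial.X a) = a
    rw [MvPolynomial.aeval_X]; rfl⟩
  letI algRB : Algebra R B := ψ.toRingHom.toAlgebra
  let c₁ : Spec (CommRingCat.of R) ⟶ Spec (CommRingCat.of A) :=
    Spec.map (CommRingCat.ofHom (algebraMap A R))
  let ψs : Spec (CommRingCat.of B) ⟶ Spec (CommRingCat.of R) :=
    Spec.map (CommRingCat.ofHom (algebraMap R B))
  let X₁ := pullback φ c₁
  let q₁ : X₁ ⟶ X := pullback.fst φ c₁
  let u₁ : X₁ ⟶ Spec (CommRingCat.of R) := pullback.snd φ c₁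
  have h1 : IsPullback q₁ u₁ φ c₁ := IsPullback.of_hasPullback φ c₁
  haveI : CompactSpace X := QuasiCompact.compactSpace_of_compactSpace φ
  haveI : QuasiSeparatedSpace X := quasiSeparatedSpace_of_quasiSeparated φ
  have hcomp : ψs ≫ c₁ = Spec.map (CommRingCat.ofHom (algebraMap A B)) := by
    rw [← Spec.map_comp, ← CommRingCat.ofHom_comp]
    congr 2
    exact ψ.comp_algebraMap
  let i : X' ⟶ X₁ := pullback.lift p (φ' ≫ ψs) (by rw [Category.assoc, hcomp, hsq.w])
  have hi1 : i ≫ q₁ = p := pullback.lift_fst _ _ _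
  have hi2 : i ≫ u₁ = φ' ≫ ψs := pullback.lift_snd _ _ _
  have hsqi : IsPullback i φ' u₁ ψs := by
    refine IsPullback.of_right ?_ hi2 h1
    rw [hi1, hcomp]
    exact hsq
  have hψ' : Function.Surjective (algebraMap R B) := hψ
  haveI : IsClosedImmersion i := isClosedImmersion_of_surjective hsqi hψ'
  haveI : IsProper u₁ := MorphismProperty.of_isPullback (P := @IsProper) h1 inferInstance
  have hd₁ : ∀ t, topologicalKrullDim ↥(u₁.fiber t) ≤ ((1 : ℕ) : WithBot ℕ∞) :=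
    Groth.Agent.Lib.Helper2.FibVanC.fibre_dim_le_of_isPullback φ c₁ u₁ q₁ h1 1 hd
  have hfib₁ : ∀ t, Subsingleton (Coh.HH (u₁.fiber t) (Coh.structureModule (u₁.fiber t)) 1) :=
    fun t => (subsingleton_HH_fiber_iff φ c₁ u₁ q₁ h1 t 1).2 (hfib _)
  haveI : CompactSpace X₁ := QuasiCompact.compactSpace_of_compactSpace u₁
  haveI : QuasiSeparatedSpace X₁ := quasiSeparatedSpace_of_quasiSeparated u₁
  -- (i) `R → Γ(X₁)` is surjective
  haveI : Flat c₁ := by
    rw [HasRingHomProperty.Spec_iff (P := @Flat)]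
    show (algebraMap A R).Flat
    rw [RingHom.flat_algebraMap_iff]
    infer_instance
  have hu₁ : Function.Surjective u₁.appTop := by
    have hUY : (⊤ : X₁.Opens) = q₁ ⁻¹ᵁ ⊤ ⊓ u₁ ⁻¹ᵁ ⊤ := by simp
    haveI := isIso_pushoutSection_of_isQuasiSeparated_of_flat_right h1 (US := ⊤) (UT := ⊤)
      (UX := ⊤) le_top le_top hUY (isAffineOpen_top _) (isAffineOpen_top _)
      (isCompact_univ) (isQuasiSeparated_univ)
    have hpo := (isIso_pushoutSection_iff h1 (US := ⊤) (UT := ⊤) (UX := ⊤) le_top le_top hUY).1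
      inferInstance
    have h2 := surjective_of_isPushout _ _ _ _ hpo (by rw [appLE_top_eq]; exact hsurj)
    rwa [appLE_top_eq] at h2
  -- (ii) `Γ(X₁) → Γ(X')` is surjective
  haveI hO₁ : (Coh.structureModule X₁).IsQuasicoherent := isQuasicoherent_structureModule' X₁
  haveI hO' : (Coh.structureModule X').IsQuasicoherent := isQuasicoherent_structureModule' X'
  haveI hq3 : ((Scheme.Modules.pushforward i).obj (Coh.structureModule X')).IsQuasicoherent :=
    isQuasicoherent_pushforward i _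
  let S := cplx hsqi
  have hS : S.Exact := exact_cplx hsqi hψ'
  haveI : Epi S.g := epi_unitPush i
  haveI hS2 : S.X₂.IsQuasicoherent := hO₁
  haveI hS3 : S.X₃.IsQuasicoherent := hq3
  haveI hk1 : (kernel S.g).IsQuasicoherent := isQuasicoherent_kernel S.g
  let l : (∐ fun _ : KerT R B => Coh.structureModule X₁) ⟶ kernel S.g :=
    kernel.lift S.g S.f S.zero
  haveI : Epi l := S.exact_iff_epi_kernel_lift.1 hS
  have hK : Subsingleton (Coh.HH X₁ (kernel S.g) 1) :=
    subsingleton_HH_of_epi_coprod u₁ 1 hd₁ hfib₁ (kernel S.g) hk1 (KerT R B) l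
  let T : ShortComplex X₁.Modules := ShortComplex.mk (kernel.ι S.g) S.g (kernel.condition S.g)
  have hT : T.ShortExact :=
    { exact := ShortComplex.exact_kernel S.g
      mono_f := inferInstanceAs (Mono (kernel.ι S.g))
      epi_g := inferInstanceAs (Epi S.g) }
  have hKE : Subsingleton (HE (ab' (kernel S.g)) 1 ⊤) :=
    haveI := hK
    (HETopEquivH X₁.carrier (ab' (kernel S.g)) 1).toEquiv.subsingleton
  have hsec : Function.Surjective ((unitPush i).app ⊤) :=
    surjective_app_of_subsingleton_HE T hT ⊤ hKE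
  have hi : Function.Surjective i.appTop := by
    intro b
    obtain ⟨a, ha⟩ := hsec (toS (i ⁻¹ᵁ ⊤) b)
    refine ⟨ofS ⊤ a, ?_⟩
    have h3 := unitPush_app i ⊤ (ofS ⊤ a)
    rw [toS_ofS, ha] at h3
    exact (congrArg (ofS (i ⁻¹ᵁ ⊤)) h3).symm
  -- (iii) conclusion
  have h4 : ψs.appTop ≫ φ'.appTop = u₁.appTop ≫ i.appTop := by
    rw [← Scheme.Hom.comp_appTop, ← Scheme.Hom.comp_appTop, hi2]
  intro b
  obtain ⟨a, ha⟩ := hi b
  obtain ⟨r, hr⟩ := hu₁ a
  refine ⟨ψs.appTop r, ?_⟩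
  have h5 := ConcreteCategory.congr_hom h4 r
  rw [CommRingCat.comp_apply, CommRingCat.comp_apply] at h5
  rw [h5, hr, ha]

/-- **affine case**: base change between affine schemes -/
theorem surjective_appTop_of_isPullback {X Y X' Y' : Scheme.{u}} (f : X ⟶ Y) [IsProper f]
    [IsAffine Y] [IsAffine Y']
    (hd : ∀ y, topologicalKrullDim ↥(f.fiber y) ≤ ((1 : ℕ) : WithBot ℕ∞))
    (hfib : ∀ y, Subsingleton (Coh.HH (f.fiber y) (Coh.structureModule (f.fiber y)) 1))
    (f' : X' ⟶ Y') (g' : X' ⟶ X) (g : Y' ⟶ Y) (hc : IsPullback g' f' f g)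
    (hsurj : Function.Surjective f.appTop) : Function.Surjective f'.appTop := by
  letI alg : Algebra Γ(Y, ⊤) Γ(Y', ⊤) := g.appTop.hom.toAlgebra
  let φ : X ⟶ Spec (CommRingCat.of Γ(Y, ⊤)) := f ≫ Y.isoSpec.hom
  let φ' : X' ⟶ Spec (CommRingCat.of Γ(Y', ⊤)) := f' ≫ Y'.isoSpec.hom
  haveI : IsProper φ := inferInstanceAs (IsProper (f ≫ Y.isoSpec.hom))
  have hc0 : IsPullback (𝟙 X) φ f Y.isoSpec.inv :=
    IsPullback.of_horiz_isIso ⟨by simp [φ]⟩
  have hdφ : ∀ t, topologicalKrullDim ↥(φ.fiber t) ≤ ((1 : ℕ) : WithBot ℕ∞) :=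
    Groth.Agent.Lib.Helper2.FibVanC.fibre_dim_le_of_isPullback f Y.isoSpec.inv φ (𝟙 X) hc0 1 hd
  have hfibφ : ∀ t, Subsingleton (Coh.HH (φ.fiber t) (Coh.structureModule (φ.fiber t)) 1) :=
    fun t => (subsingleton_HH_fiber_iff f Y.isoSpec.inv φ (𝟙 X) hc0 t 1).2 (hfib _)
  have hsq : IsPullback g' φ' φ
      (Spec.map (CommRingCat.ofHom (algebraMap Γ(Y, ⊤) Γ(Y', ⊤)))) := by
    refine IsPullback.of_iso hc (Iso.refl _) (Iso.refl _) Y'.isoSpec Y.isoSpec ?_ ?_ ?_ ?_
    · simp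
    · simp [φ']
    · simp [φ]
    · exact (Scheme.isoSpec_hom_naturality g).symm
  have hφ : Function.Surjective φ.appTop := by
    have e : φ.appTop = Y.isoSpec.hom.appTop ≫ f.appTop := Scheme.Hom.comp_appTop _ _
    rw [e]
    intro b
    obtain ⟨a, ha⟩ := hsurj b
    refine ⟨Y.isoSpec.inv.appTop a, ?_⟩
    have h2 : Y.isoSpec.inv.appTop ≫ Y.isoSpec.hom.appTop = 𝟙 _ := by
      rw [← Scheme.Hom.comp_appTop, Iso.hom_inv_id]
      rfl
    have h3 := ConcreteCategory.congr_hom h2 a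
    rw [CommRingCat.comp_apply] at h3
    rw [CommRingCat.comp_apply, h3]
    exact ha
  have h1 := surjective_appTop_pullback φ φ' g' hsq hdφ hfibφ hφ
  have e' : φ'.appTop = Y'.isoSpec.hom.appTop ≫ f'.appTop := Scheme.Hom.comp_appTop _ _
  rw [e'] at h1
  intro b
  obtain ⟨a, ha⟩ := h1 b
  exact ⟨Y'.isoSpec.hom.appTop a, ha⟩

theorem surjective_iff_of_eq_comp {P Q P' Q' : CommRingCat.{u}} (m : P ⟶ Q) (n : P' ⟶ Q')
    (i₁ : P ≅ P') (i₂ : Q' ≅ Q) (e : m = i₁.hom ≫ n ≫ i₂.hom) :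
    Function.Surjective m ↔ Function.Surjective n := by
  subst e
  constructor
  · intro h b
    obtain ⟨a, ha⟩ := h (i₂.hom b)
    refine ⟨i₁.hom a, ?_⟩
    rw [CommRingCat.comp_apply, CommRingCat.comp_apply] at ha
    have h2 := congrArg i₂.inv ha
    rw [← CommRingCat.comp_apply, ← CommRingCat.comp_apply i₂.hom, Iso.hom_inv_id,
      CommRingCat.id_apply, CommRingCat.id_apply] at h2
    exact h2
  · intro h b
    obtain ⟨a, ha⟩ := h (i₂.inv b)
    refine ⟨i₁.inv a, ?_⟩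
    rw [CommRingCat.comp_apply, CommRingCat.comp_apply, ← CommRingCat.comp_apply i₁.inv,
      Iso.inv_hom_id, CommRingCat.id_apply, ha, ← CommRingCat.comp_apply, Iso.inv_hom_id,
      CommRingCat.id_apply]

section General

variable {X Y X' Y' : Scheme.{u}} (f : X ⟶ Y) [IsProper f]
  (hd : ∀ y, topologicalKrullDim ↥(f.fiber y) ≤ ((1 : ℕ) : WithBot ℕ∞))
  (hfib : ∀ y, Subsingleton (Coh.HH (f.fiber y) (Coh.structureModule (f.fiber y)) 1))
  (hsurj : ∀ U : Y.Opens, IsAffineOpen U → Function.Surjective (f.app U))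
  (f' : X' ⟶ Y') (g' : X' ⟶ X) (g : Y' ⟶ Y) (hc : IsPullback g' f' f g)

include hd hfib hsurj hc in
/-- over an affine open of `Y'` mapping into an affine open of `Y` -/
theorem surjective_app_of_le {U : Y.Opens} (hU : IsAffineOpen U) {W' : Y'.Opens}
    (hW' : IsAffineOpen W') (hle : W' ≤ g ⁻¹ᵁ U) : Function.Surjective (f'.app W') := by
  have hUY : f' ⁻¹ᵁ W' = g' ⁻¹ᵁ (f ⁻¹ᵁ U) ⊓ f' ⁻¹ᵁ W' := by
    refine (inf_eq_right.2 ?_).symm
    intro x hx
    have h1 : g (f' x) ∈ U := hle hx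
    have h2 : f (g' x) = g (f' x) := by
      rw [← Scheme.Hom.comp_apply, ← Scheme.Hom.comp_apply, hc.w]
    show f (g' x) ∈ U
    rw [h2]
    exact h1
  have hpb := Scheme.Hom.isPullback_resLE hc (US := U) (UT := W') (UX := f ⁻¹ᵁ U) hle le_rfl hUY
  haveI : IsAffine (↑U : Scheme.{u}) := hU
  haveI : IsAffine (↑W' : Scheme.{u}) := hW'
  have hc2 : IsPullback (f ⁻¹ᵁ U).ι (f.resLE U (f ⁻¹ᵁ U) le_rfl) f U.ι := by
    rw [Scheme.Hom.resLE_eq_morphismRestrict]
    exact (isPullback_morphismRestrict f U).flip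
  haveI : IsProper (f.resLE U (f ⁻¹ᵁ U) le_rfl) :=
    MorphismProperty.of_isPullback (P := @IsProper) hc2 inferInstance
  have hd2 : ∀ w, topologicalKrullDim ↥((f.resLE U (f ⁻¹ᵁ U) le_rfl).fiber w) ≤
      ((1 : ℕ) : WithBot ℕ∞) :=
    Groth.Agent.Lib.Helper2.FibVanC.fibre_dim_le_of_isPullback f U.ι _ _ hc2 1 hd
  have hfib2 : ∀ w, Subsingleton (Coh.HH ((f.resLE U (f ⁻¹ᵁ U) le_rfl).fiber w)
      (Coh.structureModule ((f.resLE U (f ⁻¹ᵁ U) le_rfl).fiber w)) 1) :=
    fun w => (subsingleton_HH_fiber_iff f U.ι _ _ hc2 w 1).2 (hfib _)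
  have hs2 : Function.Surjective (f.resLE U (f ⁻¹ᵁ U) le_rfl).appTop := by
    have e := Scheme.Hom.resLE_app_top (f := f) (U := U) (V := f ⁻¹ᵁ U) le_rfl
    have e2 : f.appLE U (f ⁻¹ᵁ U) le_rfl = f.app U := (Scheme.Hom.app_eq_appLE (f := f)).symm
    rw [e2] at e
    exact (surjective_iff_of_eq_comp ((f.resLE U (f ⁻¹ᵁ U) le_rfl).app ⊤) (f.app U)
      U.topIso (f ⁻¹ᵁ U).topIso.symm e).2 (hsurj U hU)
  have h1 := surjective_appTop_of_isPullback (f.resLE U (f ⁻¹ᵁ U) le_rfl) hd2 hfib2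
    (f'.resLE W' (f' ⁻¹ᵁ W') _) (g'.resLE (f ⁻¹ᵁ U) (f' ⁻¹ᵁ W') _) (g.resLE U W' hle) hpb hs2
  have e' := Scheme.Hom.resLE_app_top (f := f') (U := W') (V := f' ⁻¹ᵁ W') le_rfl
  have e2 : f'.appLE W' (f' ⁻¹ᵁ W') le_rfl = f'.app W' := (Scheme.Hom.app_eq_appLE (f := f')).symm
  rw [e2] at e'
  exact (surjective_iff_of_eq_comp ((f'.resLE W' (f' ⁻¹ᵁ W') le_rfl).app ⊤) (f'.app W')
    W'.topIso (f' ⁻¹ᵁ W').topIso.symm e').1 h1

include hd hfib hsurj hc in
/-- **stability of the surjectivity of `O_Y → f_* O_X` under base change** -/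
theorem surjective_app_of_isPullback {U' : Y'.Opens} (hU' : IsAffineOpen U') :
    Function.Surjective (f'.app U') := by
  haveI : IsProper f' := MorphismProperty.of_isPullback (P := @IsProper) hc inferInstance
  haveI hO : (Coh.structureModule Y').IsQuasicoherent := isQuasicoherent_structureModule' Y'
  haveI hO' : (Coh.structureModule X').IsQuasicoherent := isQuasicoherent_structureModule' X'
  haveI hq : ((Scheme.Modules.pushforward f').obj (Coh.structureModule X')).IsQuasicoherent :=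
    isQuasicoherent_pushforward f' _
  haveI : Epi (unitPush f') := by
    apply epi_of_locally_surjective
    intro V t x hx
    obtain ⟨_, ⟨U, hU, rfl⟩, hgxU, -⟩ := Y.isBasis_affineOpens.exists_subset_of_mem_open
      (Set.mem_univ (g x)) isOpen_univ
    have hxVU : x ∈ ((V ⊓ g ⁻¹ᵁ U : Y'.Opens) : Set Y') := ⟨hx, hgxU⟩
    obtain ⟨_, ⟨W', hW', rfl⟩, hxW', hW'le⟩ := Y'.isBasis_affineOpens.exists_subset_of_mem_open
      hxVU (V ⊓ g ⁻¹ᵁ U).isOpen
    have hW'V : W' ≤ V := fun z hz => (hW'le hz).1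
    have hW'U : W' ≤ g ⁻¹ᵁ U := fun z hz => (hW'le hz).2
    refine ⟨W', hW'V, hxW', ?_⟩
    obtain ⟨a, ha⟩ := surjective_app_of_le f hd hfib hsurj f' g' g hc hU hW' hW'U
      (ofS (f' ⁻¹ᵁ W') (((Scheme.Modules.pushforward f').obj
        (Coh.structureModule X')).presheaf.map (homOfLE hW'V).op t))
    exact ⟨toS W' a, (unitPush_app f' W' a).trans (congrArg (toS (f' ⁻¹ᵁ W')) ha)⟩
  have hsec := Groth.Agent.Lib.Helper23.FinType.surjective_app_of_epi (unitPush f') hU'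
  intro b
  obtain ⟨a, ha⟩ := hsec (toS (f' ⁻¹ᵁ U') b)
  refine ⟨ofS U' a, ?_⟩
  have h3 := unitPush_app f' U' (ofS U' a)
  rw [toS_ofS, ha] at h3
  exact (congrArg (ofS (f' ⁻¹ᵁ U')) h3).symm

end General

end Groth.Agent.Lib.Helper2.FibH1F
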