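import Mathlib
import Groth.Agent.Lib.Helper2FibVanE
import Groth.Agent.S0403

/-!
# Vanishing of higher direct images above the fibre dimension for proper morphisms, all
quasi-coherent modules, no Noetherian hypotheses (helper2)

Namespace `Groth.Agent.Lib.Helper2.FibVanF`.
-/

set_option autoImplicit false
set_option linter.style.haveILetI false
universe u
open CategoryTheory CategoryTheory.Limits AlgebraicGeometry TopologicalSpace Opposite

namespace Groth.Agent.Lib.Helper2.FibVanF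

open Groth.Agent.Lib.Helper23.AffVanish

/-- `H^n(g⁻¹W, M) = 0` above the fibre dimension over the affine open `W` -/
theorem subsingleton_HE_preimage {X S : Scheme.{u}} (g : X ⟶ S) [IsProper g] (W : S.Opens)
    (hW : IsAffineOpen W) (d : ℕ) (hd : ∀ t ∈ W, topologicalKrullDim ↥(g.fiber t) ≤ d)
    (M : X.Modules) [Coh.IsQCoh M] (n : ℕ) (hn : d < n) :
    Subsingleton (HE (ab' M) n (g ⁻¹ᵁ W)) := by
  obtain ⟨a⟩ := Groth.Agent.Lib.Helper17.BCVan.nonempty_HE_equiv_HHon M (g ⁻¹ᵁ W) n
  haveI : IsAffine ↑W := hW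
  haveI : IsProper (g ∣_ W) := inferInstance
  haveI : Coh.IsQCoh (M.restrict (g ⁻¹ᵁ W).ι) :=
    Scheme.Modules.isQuasicoherent_restrictFunctor (g ⁻¹ᵁ W).ι M
  have hd' : ∀ w : ↑W, topologicalKrullDim ↥((g ∣_ W).fiber w) ≤ d := fun w => by
    rw [Groth.Agent.Lib.Helper3.FlatFibDim2.dim_fiber_eq_of_isPullback g W.ι (g ∣_ W)
      (g ⁻¹ᵁ W).ι (isPullback_morphismRestrict g W).flip w]
    exact hd _ w.2
  haveI := Groth.Agent.Lib.Helper2.FibVanE.subsingleton_HH_of_isAffine (g ∣_ W) d hd'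
    (M.restrict (g ⁻¹ᵁ W).ι) n hn
  exact a.toEquiv.subsingleton

/-- the global form: all fibres of dimension at most `d` -/
theorem isZero_RpushAb {X S : Scheme.{u}} (g : X ⟶ S) [IsProper g] (d : ℕ)
    (hd : ∀ t : S, topologicalKrullDim ↥(g.fiber t) ≤ d) (M : X.Modules) [Coh.IsQCoh M] (i : ℕ)
    (hi : d < i) : IsZero ((Coh.RpushAb g i).obj (Coh.toAb M)) := by
  obtain ⟨n, rfl⟩ : ∃ k, i = k + 1 := ⟨i - 1, by omega⟩
  let B : Set S.Opens := {V | IsAffineOpen V}
  have hB : TopologicalSpace.Opens.IsBasis B := S.isBasis_affineOpens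
  refine Groth.Agent.Lib.Helper23.PushBound.isZero_Rpush_of_basis_bound g.base B hB
    (ab' M) d ?_ n (by omega)
  intro V hV k hk
  exact subsingleton_HE_preimage g V hV d (fun t _ => hd t) M (k + 1) (by omega)

/-- sections of `R^i g_* M` over an affine open above whose points the fibres have dimension at
most `d < i` vanish -/
theorem subsingleton_sections {X S : Scheme.{u}} (g : X ⟶ S) [IsProper g] (W : S.Opens)
    (hW : IsAffineOpen W) (d : ℕ) (hd : ∀ t ∈ W, topologicalKrullDim ↥(g.fiber t) ≤ d)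
    (M : X.Modules) [Coh.IsQCoh M] (i : ℕ) (hi : d < i) :
    Subsingleton (((Coh.RpushAb g i).obj (Coh.toAb M)).obj.obj (op W)) := by
  obtain ⟨e⟩ := Groth.Agent.Lib.Helper17.LerayTop.nonempty_HE_preimage_iso g M hW i
  haveI := subsingleton_HE_preimage g W hW d hd M i hi
  haveI : Subsingleton (HE ((Coh.RpushAb g i).obj (Coh.toAb M)) 0 W) :=
    e.symm.addCommGroupIsoToAddEquiv.toEquiv.subsingleton
  exact (h0Equiv ((Coh.RpushAb g i).obj (Coh.toAb M)) W).symm.toEquiv.subsingleton

end Groth.Agent.Lib.Helper2.FibVanF
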