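/-
Helper2FrobTwist: iterated absolute Frobenius of a scheme of characteristic `p`, inverse image
ideals under it are generated by `p^m`-th powers, and the geometric Frobenius of `C₀ ×_{k₀} Spec K`
factors as an iterated absolute Frobenius followed by an endomorphism.
-/
import Mathlib
import Groth.Prelude.Def_Frob
import Groth.Agent.Lib.Helper20EffCartier

set_option autoImplicit false
set_option linter.style.haveILetI false
universe u

open AlgebraicGeometry CategoryTheory

namespace Groth.Agent.Lib.Helper2.FrobTwist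

theorem appLE_congr_hom {X Y : Scheme.{u}} {f g : X ⟶ Y} (e : f = g) (U : Y.Opens) (V : X.Opens)
    (h : V ≤ f ⁻¹ᵁ U) : f.appLE U V h = g.appLE U V (e ▸ h) := by
  subst e; rfl

section

variable (X : Scheme.{u}) (p : ℕ) [Fact p.Prime] [FrobSch.IsCharP X p]

/-- The `m`-fold absolute Frobenius in the form used by the statements. -/
noncomputable abbrev frobPow (m : ℕ) : X ⟶ X := End.asHom (End.of (FrobSch.frob X p) ^ m)

theorem frobPow_zero : frobPow X p 0 = 𝟙 X := by
  change End.asHom (End.of (FrobSch.frob X p) ^ 0) = _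
  rw [pow_zero]; rfl

theorem frobPow_succ (m : ℕ) : frobPow X p (m + 1) = FrobSch.frob X p ≫ frobPow X p m := by
  change End.asHom (End.of (FrobSch.frob X p) ^ (m + 1)) = _
  rw [pow_succ]; rfl

theorem frobPow_apply (m : ℕ) (x : X) : (frobPow X p m) x = x := by
  induction m with
  | zero => rw [frobPow_zero]; rfl
  | succ m ih =>
    rw [frobPow_succ]
    change (frobPow X p m) ((FrobSch.frob X p) x) = x
    rw [FrobSch.frob_apply, ih]

theorem frobPow_preimage (m : ℕ) (U : X.Opens) : (frobPow X p m) ⁻¹ᵁ U = U := by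
  ext x
  change (frobPow X p m) x ∈ U ↔ x ∈ U
  rw [frobPow_apply]

theorem frob_appLE (U : X.Opens) (h : U ≤ (FrobSch.frob X p) ⁻¹ᵁ U) (t : Γ(X, U)) :
    ((FrobSch.frob X p).appLE U U h).hom t = t ^ p := by
  have h1 : (FrobSch.frob X p).appLE U U h = (FrobSch.frob X p).app U :=
    Scheme.Hom.appLE_eq_app _
  rw [h1]
  exact FrobSch.frob_app X p U t

theorem frobPow_appLE (m : ℕ) (U : X.Opens) :
    ∀ (h : U ≤ (frobPow X p m) ⁻¹ᵁ U) (s : Γ(X, U)),
      ((frobPow X p m).appLE U U h).hom s = s ^ (p ^ m) := by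
  induction m with
  | zero =>
    intro h s
    rw [appLE_congr_hom (frobPow_zero X p) U U h]
    have h0 : (𝟙 X : X ⟶ X).appLE U U ((frobPow_zero X p) ▸ h) = (𝟙 X : X ⟶ X).app U :=
      Scheme.Hom.appLE_eq_app _
    rw [h0, Scheme.Hom.id_app, pow_zero, pow_one]
    rfl
  | succ m ih =>
    intro h s
    have h1 : U ≤ (frobPow X p m) ⁻¹ᵁ U := (frobPow_preimage X p m U).ge
    have h2 : U ≤ (FrobSch.frob X p) ⁻¹ᵁ U := le_rfl
    rw [appLE_congr_hom (frobPow_succ X p m) U U h,
      ← Scheme.Hom.appLE_comp_appLE _ _ U U U h1 h2]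
    change ((FrobSch.frob X p).appLE U U h2).hom (((frobPow X p m).appLE U U h1).hom s) = _
    rw [ih h1 s, frob_appLE, ← pow_mul, ← pow_succ]

end

theorem frobPow_comp {X Y : Scheme.{u}} (p : ℕ) [Fact p.Prime] [FrobSch.IsCharP X p]
    [FrobSch.IsCharP Y p] (f : X ⟶ Y) (m : ℕ) :
    frobPow X p m ≫ f = f ≫ frobPow Y p m := by
  induction m with
  | zero => rw [frobPow_zero, frobPow_zero, Category.id_comp, Category.comp_id]
  | succ m ih =>
    rw [frobPow_succ, frobPow_succ, Category.assoc, ih, ← Category.assoc, FrobSch.frob_comp,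
      Category.assoc]

/-- The inverse image of an ideal sheaf under the `m`-fold Frobenius is generated by `p^m`-th
powers, hence lies in the `p^m`-th power of any radical ideal containing it. -/
theorem comap_frobPow_le_pow (X : Scheme.{u}) (p : ℕ) [Fact p.Prime] [FrobSch.IsCharP X p]
    (m : ℕ) (M R : X.IdealSheafData) (h : M.comap (frobPow X p m) ≤ R.radical) :
    M.comap (frobPow X p m) ≤ R.radical ^ (p ^ m) := by
  rintro ⟨U, hU⟩
  have hU' : U ≤ (frobPow X p m) ⁻¹ᵁ U := (frobPow_preimage X p m U).ge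
  have key := Helper20.EffCartier.ideal_comap_eq_map (frobPow X p m) M hU hU hU'
  rw [key, Ideal.map_le_iff_le_comap]
  intro s hs
  rw [Ideal.mem_comap]
  have h1 : ((frobPow X p m).appLE U U hU').hom s ∈ (R.radical).ideal ⟨U, hU⟩ := by
    apply h ⟨U, hU⟩
    rw [key]
    exact Ideal.mem_map_of_mem _ hs
  rw [frobPow_appLE] at h1 ⊢
  have h2 : s ∈ (R.ideal ⟨U, hU⟩).radical := Ideal.mem_radical_of_pow_mem h1
  exact Ideal.pow_mem_pow h2 _

open Scheme.IdealSheafData in
/-- Contraction criterion: if `F^m ≫ g` maps `h⁻¹(Z)` into `Z`, and `d < p^m` bounds the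
ramification of `h` along `Z`, then `(F^m ≫ g, h)` is contracting near `Z`. -/
theorem contracting_of_frobPow {W X : Scheme.{u}} (p : ℕ) [Fact p.Prime] [FrobSch.IsCharP W p]
    (m : ℕ) (g h : W ⟶ X) (I : X.IdealSheafData) (d : ℕ)
    (hd : (I.comap h).radical ^ d ≤ I.comap h) (hn : d < p ^ m)
    (hinv : ∀ y : W, h y ∈ I.support → g y ∈ I.support) :
    I.comap (frobPow W p m ≫ g) ≤ I.comap h ∧
      I.comap (frobPow W p m ≫ g) ^ d ≤ I.comap h ^ (d + 1) := by
  set L := I.comap (frobPow W p m ≫ g) with hL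
  set J := I.comap h with hJ
  have hsupp : J.support ≤ L.support := by
    intro y hy
    rw [hJ, support_comap] at hy
    rw [hL, support_comap]
    change (frobPow W p m ≫ g) y ∈ I.support
    change h y ∈ I.support at hy
    have : (frobPow W p m ≫ g) y = g y := by
      change g ((frobPow W p m) y) = g y
      rw [frobPow_apply]
    rw [this]
    exact hinv y hy
  have hLR : L ≤ J.radical := by
    calc L ≤ L.radical := le_radical _
      _ = vanishingIdeal L.support := vanishingIdeal_support.symm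
      _ ≤ vanishingIdeal J.support := vanishingIdeal_antimono hsupp
      _ = J.radical := vanishingIdeal_support
  have hLc : L = (I.comap g).comap (frobPow W p m) := comap_comp _ _ _
  have hLpow : L ≤ J.radical ^ (p ^ m) := by
    rw [hLc] at hLR ⊢
    exact comap_frobPow_le_pow W p m _ J hLR
  have key : ∀ U, L.ideal U ≤ J.ideal U * (J.radical).ideal U := by
    intro U
    have h1 : L.ideal U ≤ ((J.radical).ideal U) ^ (p ^ m) := hLpow U
    have h2 : ((J.radical).ideal U) ^ (p ^ m) ≤ ((J.radical).ideal U) ^ (d + 1) :=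
      Ideal.pow_le_pow_right (Nat.succ_le_of_lt hn)
    have h3 : ((J.radical).ideal U) ^ (d + 1) = ((J.radical).ideal U) ^ d * (J.radical).ideal U :=
      pow_succ _ _
    have h4 : ((J.radical).ideal U) ^ d ≤ J.ideal U := hd U
    exact h1.trans (h2.trans (h3 ▸ Ideal.mul_mono_left h4))
  refine ⟨fun U => (key U).trans Ideal.mul_le_left, fun U => ?_⟩
  change (L.ideal U) ^ d ≤ (J.ideal U) ^ (d + 1)
  calc (L.ideal U) ^ d ≤ (J.ideal U * J.radical.ideal U) ^ d := Ideal.pow_right_mono (key U) d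
    _ = (J.ideal U) ^ d * (J.radical.ideal U) ^ d := mul_pow _ _ _
    _ ≤ (J.ideal U) ^ d * J.ideal U := Ideal.mul_mono_right (hd U)
    _ = (J.ideal U) ^ (d + 1) := (pow_succ _ _).symm

/-! ### Frobenius of an affine scheme -/

theorem frob_Spec (p : ℕ) [Fact p.Prime] (R : Type u) [CommRing R] [CharP R p] :
    FrobSch.frob (Spec (CommRingCat.of R)) p = Spec.map (CommRingCat.ofHom (frobenius R p)) := by
  apply ext_of_isAffine
  rw [← cancel_mono (Scheme.ΓSpecIso (CommRingCat.of R)).hom, Scheme.ΓSpecIso_naturality]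
  ext s
  change (Scheme.ΓSpecIso (CommRingCat.of R)).hom.hom
      ((FrobSch.frob (Spec (CommRingCat.of R)) p).appTop.hom s) =
    frobenius R p ((Scheme.ΓSpecIso (CommRingCat.of R)).hom.hom s)
  rw [frobenius_def, ← map_pow]
  rfl

theorem frobPow_Spec (p : ℕ) [Fact p.Prime] (R : Type u) [CommRing R] [CharP R p] (N : ℕ) :
    frobPow (Spec (CommRingCat.of R)) p N =
      Spec.map (CommRingCat.ofHom (iterateFrobenius R p N)) := by
  induction N with
  | zero =>
    rw [frobPow_zero]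
    have : iterateFrobenius R p 0 = RingHom.id R := by
      ext x; simp
    rw [this]
    exact (Spec.map_id _).symm
  | succ N ih =>
    rw [frobPow_succ, ih, frob_Spec, ← Spec.map_comp, ← CommRingCat.ofHom_comp]
    congr 2
    ext x
    simp [iterateFrobenius_def, frobenius_def, pow_succ, pow_mul]

/-- The geometric Frobenius of `C = C₀ ×_{k₀} Spec K` (`K` perfect) is the iterated absolute
Frobenius of `C` followed by an endomorphism of `C`. -/
theorem exists_frobPow_comp {C C₀ : Scheme.{u}} (p : ℕ) [Fact p.Prime]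
    (k₀ : Type u) [Field k₀] [Fintype k₀] [CharP k₀ p] (e : ℕ) (hq : Fintype.card k₀ = p ^ e)
    (K : Type u) [Field K] [Algebra k₀ K] [IsAlgClosure k₀ K]
    (f₀ : C₀ ⟶ Spec (CommRingCat.of k₀)) [FrobSch.IsCharP C₀ p] [FrobSch.IsCharP C p]
    (πC₀ : C ⟶ C₀) (πK : C ⟶ Spec (CommRingCat.of K))
    (hC : IsPullback πC₀ πK f₀ (Spec.map (CommRingCat.ofHom (algebraMap k₀ K))))
    (n : ℕ) (Fr : C ⟶ C)
    (hFr₀ : Fr ≫ πC₀ = πC₀ ≫ frobPow C₀ p (e * n))
    (hFrK : Fr ≫ πK = πK) :
    ∃ Ψ : C ⟶ C, Fr = frobPow C p (e * n) ≫ Ψ := by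
  haveI : IsAlgClosed K := IsAlgClosure.isAlgClosed k₀
  haveI : CharP K p := charP_of_injective_algebraMap (algebraMap k₀ K).injective p
  haveI : PerfectRing K p := inferInstance
  set N := e * n with hN
  let E : K ≃+* K := iterateFrobeniusEquiv K p N
  let τ : Spec (CommRingCat.of K) ⟶ Spec (CommRingCat.of K) :=
    Spec.map (CommRingCat.ofHom (E.symm : K →+* K))
  have hfix : ∀ x : k₀, E (algebraMap k₀ K x) = algebraMap k₀ K x := by
    intro x
    rw [iterateFrobeniusEquiv_def, ← map_pow, hN, pow_mul, ← hq, FiniteField.pow_card_pow]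
  have hτa : τ ≫ Spec.map (CommRingCat.ofHom (algebraMap k₀ K)) =
      Spec.map (CommRingCat.ofHom (algebraMap k₀ K)) := by
    rw [← Spec.map_comp, ← CommRingCat.ofHom_comp]
    congr 2
    ext x
    change E.symm (algebraMap k₀ K x) = algebraMap k₀ K x
    rw [RingEquiv.symm_apply_eq, hfix]
  have hστ : frobPow (Spec (CommRingCat.of K)) p N ≫ τ = 𝟙 _ := by
    rw [frobPow_Spec, ← Spec.map_comp, ← CommRingCat.ofHom_comp]
    have : (iterateFrobenius K p N).comp (E.symm : K →+* K) = RingHom.id K := by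
      ext x
      change E (E.symm x) = x
      exact E.apply_symm_apply x
    rw [this]
    exact Spec.map_id _
  have hw : πC₀ ≫ f₀ = (πK ≫ τ) ≫ Spec.map (CommRingCat.ofHom (algebraMap k₀ K)) := by
    rw [Category.assoc, hτa, hC.w]
  refine ⟨hC.lift πC₀ (πK ≫ τ) hw, ?_⟩
  apply hC.hom_ext
  · rw [Category.assoc, hC.lift_fst, hFr₀, frobPow_comp]
  · rw [Category.assoc, hC.lift_snd, hFrK, ← Category.assoc, frobPow_comp, Category.assoc, hστ,
      Category.comp_id]

/-- The twisted correspondence is contracting near an invariant closed subscheme. -/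
theorem main {C C₀ X : Scheme.{u}} (p : ℕ) [Fact p.Prime]
    (k₀ : Type u) [Field k₀] [Fintype k₀] [CharP k₀ p] (e : ℕ) (hq : Fintype.card k₀ = p ^ e)
    (K : Type u) [Field K] [Algebra k₀ K] [IsAlgClosure k₀ K]
    (f₀ : C₀ ⟶ Spec (CommRingCat.of k₀)) [FrobSch.IsCharP C₀ p]
    (πC₀ : C ⟶ C₀) (πK : C ⟶ Spec (CommRingCat.of K))
    (hC : IsPullback πC₀ πK f₀ (Spec.map (CommRingCat.ofHom (algebraMap k₀ K))))
    (n : ℕ) (Fr : C ⟶ C)
    (hFr₀ : Fr ≫ πC₀ = πC₀ ≫ End.asHom (End.of (FrobSch.frob C₀ p) ^ (e * n)))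
    (hFrK : Fr ≫ πK = πK)
    (c₁ c₂ : C ⟶ X) (I : X.IdealSheafData) (d : ℕ)
    (hd : (I.comap c₂).radical ^ d ≤ I.comap c₂) (hn : d < p ^ (e * n))
    (hinv : ∀ y : C, c₂ y ∈ I.support → (Fr ≫ c₁) y ∈ I.support) :
    I.comap (Fr ≫ c₁) ≤ I.comap c₂ ∧ I.comap (Fr ≫ c₁) ^ d ≤ I.comap c₂ ^ (d + 1) := by
  haveI : FrobSch.IsCharP C p := FrobSch.IsCharP.of_hom πC₀ p
  obtain ⟨Ψ, hΨ⟩ := exists_frobPow_comp p k₀ e hq K f₀ πC₀ πK hC n Fr hFr₀ hFrK
  have hmain := contracting_of_frobPow p (e * n) (Ψ ≫ c₁) c₂ I d hd hn (by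
    intro y hy
    have h1 := hinv y hy
    rw [hΨ] at h1
    change c₁ (Ψ ((frobPow C p (e * n)) y)) ∈ I.support at h1
    rw [frobPow_apply] at h1
    exact h1)
  rwa [← Category.assoc, ← hΨ] at hmain

end Groth.Agent.Lib.Helper2.FrobTwist
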