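/-
Helper2FrobTwist2: inverse image ideals commute with powers; radicals commute with restriction to
opens; the Frobenius-twisted correspondence is contracting near closed points in a neighbourhood of
its fixed points (quasi-finite `c₂`).
-/
import Mathlib
import Groth.Prelude.Def_Frob
import Groth.Agent.Lib.Helper20EffCartier
import Groth.Agent.Lib.Helper2FrobTwist

set_option autoImplicit false
set_option linter.style.haveILetI false
universe u

open AlgebraicGeometry CategoryTheory CategoryTheory.Limits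

namespace Groth.Agent.Lib.Helper2.FrobTwist2

open Groth.Agent.Lib.Helper2.FrobTwist

/-- Inverse image ideals commute with powers. -/
theorem comap_pow {X Y : Scheme.{u}} (f : X ⟶ Y) (A : Y.IdealSheafData) (n : ℕ) :
    (A ^ n).comap f = (A.comap f) ^ n := by
  refine Scheme.IdealSheafData.ext_of_iSup_eq_top
    (ι := {U : X.affineOpens // ∃ V : Y.affineOpens, U.1 ≤ f ⁻¹ᵁ V.1}) (fun U => U.1) ?_ ?_
  · rw [eq_top_iff]
    intro x _
    obtain ⟨_, ⟨V, hV, rfl⟩, hxV, -⟩ :=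
      Y.isBasis_affineOpens.exists_subset_of_mem_open (Set.mem_univ (f x)) isOpen_univ
    obtain ⟨_, ⟨U, hU, rfl⟩, hxU, hUV⟩ :=
      X.isBasis_affineOpens.exists_subset_of_mem_open (show x ∈ (f ⁻¹ᵁ V : Set X) from hxV)
        (f ⁻¹ᵁ V).isOpen
    exact TopologicalSpace.Opens.mem_iSup.mpr ⟨⟨⟨U, hU⟩, ⟨V, hV⟩, hUV⟩, hxU⟩
  · rintro ⟨⟨U, hU⟩, ⟨V, hV⟩, hUV⟩
    change ((A ^ n).comap f).ideal ⟨U, hU⟩ = ((A.comap f).ideal ⟨U, hU⟩) ^ n
    rw [Helper20.EffCartier.ideal_comap_eq_map f _ hU hV hUV,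
      Helper20.EffCartier.ideal_comap_eq_map f _ hU hV hUV, ← Ideal.map_pow]
    rfl

/-- Radicals commute with restriction along open immersions. -/
theorem radical_comap_of_isOpenImmersion {X Y : Scheme.{u}} (f : X ⟶ Y) [IsOpenImmersion f]
    (A : Y.IdealSheafData) : (A.comap f).radical = (A.radical).comap f := by
  refine Scheme.IdealSheafData.ext (funext fun U => ?_)
  change ((A.comap f).ideal U).radical = (A.radical.comap f).ideal U
  rw [Scheme.IdealSheafData.ideal_comap_of_isOpenImmersion,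
    Scheme.IdealSheafData.ideal_comap_of_isOpenImmersion]
  exact (Ideal.comap_radical _ _).symm

theorem main97 {C C₀ X : Scheme.{u}}
    (p : ℕ) [Fact p.Prime] (k₀ : Type u) [Field k₀] [Fintype k₀] [CharP k₀ p] (e : ℕ)
    (hq : Fintype.card k₀ = p ^ e) (K : Type u) [Field K] [Algebra k₀ K] [IsAlgClosure k₀ K]
    (f₀ : C₀ ⟶ Spec (CommRingCat.of k₀)) [FrobSch.IsCharP C₀ p]
    (πC₀ : C ⟶ C₀) (πK : C ⟶ Spec (CommRingCat.of K))
    (hC : IsPullback πC₀ πK f₀ (Spec.map (CommRingCat.ofHom (algebraMap k₀ K))))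
    (n : ℕ) (Fr : C ⟶ C)
    (hFr₀ : Fr ≫ πC₀ = πC₀ ≫ End.asHom (End.of (FrobSch.frob C₀ p) ^ (e * n)))
    (hFrK : Fr ≫ πK = πK)
    (pX : X ⟶ Spec (CommRingCat.of K))
    (c₁ c₂ : C ⟶ X)
    [LocallyQuasiFinite c₂]
    (hcomm : (Fr ≫ c₁) ≫ pX = c₂ ≫ pX) (d : ℕ) (hn : d < p ^ (e * n))
    (hd : ∀ (x : X) (hx : IsClosed ({x} : Set X)),
      ((Scheme.IdealSheafData.vanishingIdeal ⟨{x}, hx⟩).comap c₂).radical ^ d ≤
        (Scheme.IdealSheafData.vanishingIdeal ⟨{x}, hx⟩).comap c₂)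
    (x : X) (hx : IsClosed ({x} : Set X)) :
    ∃ W : C.Opens,
      (pullback.lift (Fr ≫ c₁) c₂ hcomm).base ⁻¹' Set.range (pullback.diagonal pX).base ⊆ (W : Set C) ∧
      (Scheme.IdealSheafData.vanishingIdeal ⟨{x}, hx⟩).comap (W.ι ≫ Fr ≫ c₁) ≤
        (Scheme.IdealSheafData.vanishingIdeal ⟨{x}, hx⟩).comap (W.ι ≫ c₂) ∧
      ∃ k : ℕ, (Scheme.IdealSheafData.vanishingIdeal ⟨{x}, hx⟩).comap (W.ι ≫ Fr ≫ c₁) ^ k ≤
        (Scheme.IdealSheafData.vanishingIdeal ⟨{x}, hx⟩).comap (W.ι ≫ c₂) ^ (k + 1) := by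
  haveI : FrobSch.IsCharP C p := FrobSch.IsCharP.of_hom πC₀ p
  obtain ⟨Ψ, hΨ⟩ := exists_frobPow_comp p k₀ e hq K f₀ πC₀ πK hC n Fr hFr₀ hFrK
  set 𝔪 := Scheme.IdealSheafData.vanishingIdeal ⟨{x}, hx⟩ with h𝔪
  have hsupp : ∀ z : X, z ∈ 𝔪.support ↔ z = x := by
    intro z
    have h0 : (𝔪.support : Set X) = {x} :=
      Scheme.IdealSheafData.coe_support_vanishingIdeal (⟨{x}, hx⟩ : TopologicalSpace.Closeds X)
    constructor
    · intro hz
      have hz' : z ∈ (𝔪.support : Set X) := hz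
      rw [h0] at hz'
      exact hz'
    · rintro rfl
      change z ∈ (𝔪.support : Set X)
      rw [h0]
      rfl
  let T : Set C := {y | c₂ y = x ∧ (Fr ≫ c₁) y ≠ x}
  have hTsub : T ⊆ c₂ ⁻¹' {x} := fun y hy => hy.1
  have hdisc : _root_.IsDiscrete (c₂ ⁻¹' {x}) := c₂.isDiscrete_preimage_singleton x
  have hclF : IsClosed (c₂ ⁻¹' {x} : Set C) := hx.preimage c₂.continuous
  have hTcl : IsClosed T := by
    haveI : DiscreteTopology (c₂ ⁻¹' {x} : Set C) := hdisc.to_subtype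
    have hT : T = Subtype.val '' ((Subtype.val : (c₂ ⁻¹' {x} : Set C) → C) ⁻¹' T) := by
      rw [Subtype.image_preimage_coe]
      exact (Set.inter_eq_right.mpr hTsub).symm
    rw [hT]
    exact hclF.isClosedEmbedding_subtypeVal.isClosedMap _ (isClosed_discrete _)
  let W : C.Opens := ⟨Tᶜ, hTcl.isOpen_compl⟩
  refine ⟨W, ?_, ?_⟩
  · rintro y ⟨z, hz⟩ hyT
    have e1 : (Fr ≫ c₁) y = z := by
      have h1 : (pullback.lift (Fr ≫ c₁) c₂ hcomm ≫ pullback.fst pX pX) y =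
          (pullback.diagonal pX ≫ pullback.fst pX pX) z := by
        change (pullback.fst pX pX) ((pullback.lift (Fr ≫ c₁) c₂ hcomm) y) =
          (pullback.fst pX pX) ((pullback.diagonal pX) z)
        exact congrArg _ hz.symm
      rw [pullback.lift_fst, pullback.diagonal_fst] at h1
      exact h1
    have e2 : c₂ y = z := by
      have h1 : (pullback.lift (Fr ≫ c₁) c₂ hcomm ≫ pullback.snd pX pX) y =
          (pullback.diagonal pX ≫ pullback.snd pX pX) z := by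
        change (pullback.snd pX pX) ((pullback.lift (Fr ≫ c₁) c₂ hcomm) y) =
          (pullback.snd pX pX) ((pullback.diagonal pX) z)
        exact congrArg _ hz.symm
      rw [pullback.lift_snd, pullback.diagonal_snd] at h1
      exact h1
    exact hyT.2 (by rw [e1, ← e2]; exact hyT.1)
  · haveI : FrobSch.IsCharP W p := FrobSch.IsCharP.of_hom (W.ι ≫ πC₀) p
    have hcomp1 : W.ι ≫ Fr ≫ c₁ = frobPow W p (e * n) ≫ (W.ι ≫ Ψ ≫ c₁) := by
      rw [hΨ, Category.assoc, ← Category.assoc W.ι, ← frobPow_comp, Category.assoc]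
    have hdW : (𝔪.comap (W.ι ≫ c₂)).radical ^ d ≤ 𝔪.comap (W.ι ≫ c₂) := by
      rw [Scheme.IdealSheafData.comap_comp, radical_comap_of_isOpenImmersion, ← comap_pow]
      exact Scheme.IdealSheafData.comap_mono W.ι (hd x hx)
    have hmain := contracting_of_frobPow p (e * n) (W.ι ≫ Ψ ≫ c₁) (W.ι ≫ c₂) 𝔪 d hdW hn (by
      intro y hy
      rw [hsupp] at hy ⊢
      have hyW : (W.ι y) ∈ (W : Set C) := by
        have : W.ι y ∈ Set.range W.ι := ⟨y, rfl⟩
        rwa [Scheme.Opens.range_ι] at this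
      by_contra hne
      apply hyW
      refine ⟨hy, ?_⟩
      have h2 : (Fr ≫ c₁) (W.ι y) = (W.ι ≫ Ψ ≫ c₁) y := by
        rw [hΨ]
        change c₁ (Ψ ((frobPow C p (e * n)) (W.ι y))) = _
        rw [frobPow_apply]
        rfl
      rw [h2]
      exact hne)
    rw [← hcomp1] at hmain
    exact ⟨hmain.1, d, hmain.2⟩

end Groth.Agent.Lib.Helper2.FrobTwist2
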