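/-
Helper2FixContract: for a correspondence contracting near `Z` in a neighbourhood of its fixed
points, `δ⁻¹(Z)` is open and closed in the scheme of fixed points (Nakayama).
-/
import Mathlib
import Groth.Agent.Lib.Helper2FrobTwist2

set_option autoImplicit false
set_option linter.style.haveILetI false
universe u

open AlgebraicGeometry CategoryTheory CategoryTheory.Limits

namespace Groth.Agent.Lib.Helper2.FixContract

open Groth.Agent.Lib.Helper2.FrobTwist2 Scheme.IdealSheafData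

/-- On a locally noetherian scheme, the support of an ideal sheaf `A` with `A^k ≤ A^(k+1)` is
open. -/
theorem isOpen_support_of_pow_le {F : Scheme.{u}} [IsLocallyNoetherian F] (A : F.IdealSheafData)
    (k : ℕ) (h : A ^ k ≤ A ^ (k + 1)) : IsOpen (A.support : Set F) := by
  rw [isOpen_iff_forall_mem_open]
  intro y hy
  obtain ⟨_, ⟨U, hU, rfl⟩, hyU, -⟩ :=
    F.isBasis_affineOpens.exists_subset_of_mem_open (Set.mem_univ y) isOpen_univ
  haveI : IsNoetherianRing Γ(F, U) := IsLocallyNoetherian.component_noetherian ⟨U, hU⟩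
  set a := A.ideal ⟨U, hU⟩ with ha
  have hk : a ^ k ≤ a • a ^ k := by
    have h0 := h ⟨U, hU⟩
    change a ^ k ≤ a ^ (k + 1) at h0
    rwa [pow_succ', ← smul_eq_mul] at h0
  obtain ⟨r, hr1, hr2⟩ := Submodule.exists_sub_one_mem_and_smul_eq_zero_of_fg_of_le_smul a (a ^ k)
    (IsNoetherian.noetherian _) hk
  refine ⟨(F.basicOpen r : Set F), ?_, (F.basicOpen r).isOpen, ?_⟩
  · intro z hz
    have hzU : z ∈ U := F.basicOpen_le r hz
    rw [SetLike.mem_coe, mem_support_iff_of_mem (U := ⟨U, hU⟩) hzU, Scheme.mem_zeroLocus_iff]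
    intro f hf hzf
    have h0 : r * f ^ k = 0 := hr2 _ (Ideal.pow_mem_pow hf k)
    have hzk : z ∈ F.basicOpen (f ^ k) := by
      rcases Nat.eq_zero_or_pos k with hk0 | hk0
      · rw [hk0, pow_zero, Scheme.basicOpen_one]; exact hzU
      · rw [Scheme.basicOpen_pow _ f hk0]; exact hzf
    have hz' : z ∈ F.basicOpen (r * f ^ k) := by
      rw [Scheme.basicOpen_mul]
      exact ⟨hz, hzk⟩
    rw [h0, Scheme.basicOpen_zero] at hz'
    exact hz'
  · have hy' : y ∈ F.zeroLocus (U := U) (a : Set Γ(F, U)) :=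
      (mem_support_iff_of_mem (U := ⟨U, hU⟩) hyU).mp hy
    rw [Scheme.mem_zeroLocus_iff] at hy'
    have h1r : 1 - r ∈ a := by
      have := a.neg_mem hr1
      rwa [neg_sub] at this
    have hy1 : y ∈ F.basicOpen (r + (1 - r)) := by
      rw [add_sub_cancel, Scheme.basicOpen_one]; exact hyU
    have hy2 := F.basicOpen_add_le r (1 - r) hy1
    rcases hy2 with hy2 | hy2
    · exact hy2
    · exact absurd hy2 (hy' _ h1r)

theorem main78 {C X Fx : Scheme.{u}} (k : Type u) [Field k]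
    (pC : C ⟶ Spec (CommRingCat.of k)) [LocallyOfFiniteType pC]
    (pX : X ⟶ Spec (CommRingCat.of k)) (c₁ c₂ : C ⟶ X) (hc : c₁ ≫ pX = c₂ ≫ pX)
    (i : Fx ⟶ C) (δ : Fx ⟶ X) (hF : IsPullback i δ (pullback.lift c₁ c₂ hc) (pullback.diagonal pX))
    (I : X.IdealSheafData) (W : C.Opens) (hW : Set.range i.base ⊆ (W : Set C))
    (k₀ : ℕ) (hpow : I.comap (W.ι ≫ c₁) ^ k₀ ≤ I.comap (W.ι ≫ c₂) ^ (k₀ + 1))
    (β : Fx.Opens) (hβ : _root_.IsConnected (β : Set Fx))
    (hβZ : (δ.base '' (β : Set Fx) ∩ (I.support : Set X)).Nonempty) :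
    (β : Set Fx) ⊆ δ.base ⁻¹' (I.support : Set X) := by
  haveI : IsImmersion i := MorphismProperty.of_isPullback (P := @IsImmersion) hF.flip inferInstance
  haveI : IsLocallyNoetherian C := LocallyOfFiniteType.isLocallyNoetherian pC
  haveI : IsLocallyNoetherian Fx := LocallyOfFiniteType.isLocallyNoetherian i
  have h1 : i ≫ c₁ = δ := by
    calc i ≫ c₁ = i ≫ (pullback.lift c₁ c₂ hc ≫ pullback.fst pX pX) := by rw [pullback.lift_fst]
      _ = (i ≫ pullback.lift c₁ c₂ hc) ≫ pullback.fst pX pX := (Category.assoc _ _ _).symm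
      _ = (δ ≫ pullback.diagonal pX) ≫ pullback.fst pX pX := by rw [hF.w]
      _ = δ := by rw [Category.assoc, pullback.diagonal_fst, Category.comp_id]
  have h2 : i ≫ c₂ = δ := by
    calc i ≫ c₂ = i ≫ (pullback.lift c₁ c₂ hc ≫ pullback.snd pX pX) := by rw [pullback.lift_snd]
      _ = (i ≫ pullback.lift c₁ c₂ hc) ≫ pullback.snd pX pX := (Category.assoc _ _ _).symm
      _ = (δ ≫ pullback.diagonal pX) ≫ pullback.snd pX pX := by rw [hF.w]
      _ = δ := by rw [Category.assoc, pullback.diagonal_snd, Category.comp_id]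
  let i' : Fx ⟶ W := IsOpenImmersion.lift W.ι i (by rw [Scheme.Opens.range_ι]; exact hW)
  have hi' : i' ≫ W.ι = i := IsOpenImmersion.lift_fac _ _ _
  set IF := I.comap δ with hIF
  have e1 : (I.comap (W.ι ≫ c₁)).comap i' = IF := by
    rw [← comap_comp, ← Category.assoc, hi', h1]
  have e2 : (I.comap (W.ι ≫ c₂)).comap i' = IF := by
    rw [← comap_comp, ← Category.assoc, hi', h2]
  have hIFpow : IF ^ k₀ ≤ IF ^ (k₀ + 1) := by
    have : (I.comap (W.ι ≫ c₁) ^ k₀).comap i' ≤ (I.comap (W.ι ≫ c₂) ^ (k₀ + 1)).comap i' :=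
      comap_mono i' hpow
    rwa [comap_pow, comap_pow, e1, e2] at this
  have hsuppIF : (IF.support : Set Fx) = δ.base ⁻¹' (I.support : Set X) := by
    rw [hIF, support_comap]; rfl
  have hclopen : IsClopen (IF.support : Set Fx) :=
    ⟨IF.support.isClosed, isOpen_support_of_pow_le IF k₀ hIFpow⟩
  rw [← hsuppIF]
  refine hβ.isPreconnected.subset_isClopen hclopen ?_
  obtain ⟨_, ⟨y, hyβ, rfl⟩, hyZ⟩ := hβZ
  exact ⟨y, hyβ, by rw [hsuppIF]; exact hyZ⟩

end Groth.Agent.Lib.Helper2.FixContract
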