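/-
Helper2FixFinite: the scheme of fixed points of a sufficiently Frobenius-twisted correspondence with
quasi-finite second component is finite and discrete.
-/
import Mathlib
import Groth.Agent.Lib.Helper2FixContract

set_option autoImplicit false
set_option linter.style.haveILetI false
universe u

open AlgebraicGeometry CategoryTheory CategoryTheory.Limits

namespace Groth.Agent.Lib.Helper2.FixFinite

open Groth.Agent.Lib.Helper2.FrobTwist2 Groth.Agent.Lib.Helper2.FixContract Scheme.IdealSheafData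

theorem isClopen_preimage_support {C X Fx : Scheme.{u}} (k : Type u) [Field k]
    (pC : C ⟶ Spec (CommRingCat.of k)) [LocallyOfFiniteType pC]
    (pX : X ⟶ Spec (CommRingCat.of k)) (c₁ c₂ : C ⟶ X) (hc : c₁ ≫ pX = c₂ ≫ pX)
    (i : Fx ⟶ C) (δ : Fx ⟶ X) (hF : IsPullback i δ (pullback.lift c₁ c₂ hc) (pullback.diagonal pX))
    (I : X.IdealSheafData) (W : C.Opens) (hW : Set.range i.base ⊆ (W : Set C))
    (k₀ : ℕ) (hpow : I.comap (W.ι ≫ c₁) ^ k₀ ≤ I.comap (W.ι ≫ c₂) ^ (k₀ + 1)) :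
    IsClopen (δ.base ⁻¹' (I.support : Set X)) := by
  haveI : IsImmersion i := MorphismProperty.of_isPullback (P := @IsImmersion) hF.flip inferInstance
  haveI : IsLocallyNoetherian C := LocallyOfFiniteType.isLocallyNoetherian pC
  haveI : IsLocallyNoetherian Fx := LocallyOfFiniteType.isLocallyNoetherian i
  have h1 : i ≫ c₁ = δ := by
    calc i ≫ c₁ = i ≫ (pullback.lift c₁ c₂ hc ≫ pullback.fst pX pX) := by rw [pullback.lift_fst]
      _ = (i ≫ pullback.lift c₁ c₂ hc) ≫ pullback.fst pX pX := (Category.assoc _ _ _).symm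
      _ = (δ ≫ pullback.diagonal pX) ≫ pullback.fst pX pX := by rw [hF.w]
      _ = δ := by rw [Category.assoc, pullback.diagonal_fst, Category.comp_id]
  have h2 : i ≫ c₂ = δ := by
    calc i ≫ c₂ = i ≫ (pullback.lift c₁ c₂ hc ≫ pullback.snd pX pX) := by rw [pullback.lift_snd]
      _ = (i ≫ pullback.lift c₁ c₂ hc) ≫ pullback.snd pX pX := (Category.assoc _ _ _).symm
      _ = (δ ≫ pullback.diagonal pX) ≫ pullback.snd pX pX := by rw [hF.w]
      _ = δ := by rw [Category.assoc, pullback.diagonal_snd, Category.comp_id]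
  let i' : Fx ⟶ W := IsOpenImmersion.lift W.ι i (by rw [Scheme.Opens.range_ι]; exact hW)
  have hi' : i' ≫ W.ι = i := IsOpenImmersion.lift_fac _ _ _
  set IF := I.comap δ with hIF
  have e1 : (I.comap (W.ι ≫ c₁)).comap i' = IF := by
    rw [← comap_comp, ← Category.assoc, hi', h1]
  have e2 : (I.comap (W.ι ≫ c₂)).comap i' = IF := by
    rw [← comap_comp, ← Category.assoc, hi', h2]
  have hIFpow : IF ^ k₀ ≤ IF ^ (k₀ + 1) := by
    have : (I.comap (W.ι ≫ c₁) ^ k₀).comap i' ≤ (I.comap (W.ι ≫ c₂) ^ (k₀ + 1)).comap i' :=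
      comap_mono i' hpow
    rwa [comap_pow, comap_pow, e1, e2] at this
  have hsuppIF : (IF.support : Set Fx) = δ.base ⁻¹' (I.support : Set X) := by
    rw [hIF, support_comap]; rfl
  rw [← hsuppIF]
  exact ⟨IF.support.isClosed, isOpen_support_of_pow_le IF k₀ hIFpow⟩

theorem main79 {C C₀ X Fx : Scheme.{u}}
    (p : ℕ) [Fact p.Prime] (k₀ : Type u) [Field k₀] [Fintype k₀] [CharP k₀ p] (e : ℕ)
    (hq : Fintype.card k₀ = p ^ e) (K : Type u) [Field K] [Algebra k₀ K] [IsAlgClosure k₀ K]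
    (f₀ : C₀ ⟶ Spec (CommRingCat.of k₀)) [LocallyOfFiniteType f₀] [QuasiCompact f₀]
    [FrobSch.IsCharP C₀ p]
    (πC₀ : C ⟶ C₀) (πK : C ⟶ Spec (CommRingCat.of K))
    (hC : IsPullback πC₀ πK f₀ (Spec.map (CommRingCat.ofHom (algebraMap k₀ K))))
    (n : ℕ) (Fr : C ⟶ C)
    (hFr₀ : Fr ≫ πC₀ = πC₀ ≫ End.asHom (End.of (FrobSch.frob C₀ p) ^ (e * n)))
    (hFrK : Fr ≫ πK = πK)
    (pX : X ⟶ Spec (CommRingCat.of K)) [LocallyOfFiniteType pX]
    (c₁ c₂ : C ⟶ X)
    [LocallyQuasiFinite c₂] [LocallyOfFiniteType c₂]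
    (hcomm : (Fr ≫ c₁) ≫ pX = c₂ ≫ pX) (d : ℕ) (hn : d < p ^ (e * n))
    (hd : ∀ (x : X) (hx : IsClosed ({x} : Set X)),
      ((Scheme.IdealSheafData.vanishingIdeal ⟨{x}, hx⟩).comap c₂).radical ^ d ≤
        (Scheme.IdealSheafData.vanishingIdeal ⟨{x}, hx⟩).comap c₂)
    (i : Fx ⟶ C) (δ : Fx ⟶ X)
    (hF : IsPullback i δ (pullback.lift (Fr ≫ c₁) c₂ hcomm) (pullback.diagonal pX)) :
    Finite Fx ∧ DiscreteTopology Fx := by
  haveI : LocallyOfFiniteType πK :=
    MorphismProperty.of_isPullback (P := @LocallyOfFiniteType) hC inferInstance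
  haveI : QuasiCompact πK := MorphismProperty.of_isPullback (P := @QuasiCompact) hC inferInstance
  haveI : IsLocallyNoetherian C := LocallyOfFiniteType.isLocallyNoetherian πK
  haveI : CompactSpace C := QuasiCompact.compactSpace_of_compactSpace πK
  haveI : IsNoetherian C := {}
  haveI : IsImmersion i := MorphismProperty.of_isPullback (P := @IsImmersion) hF.flip inferInstance
  haveI : TopologicalSpace.NoetherianSpace Fx := i.isEmbedding.toIsInducing.noetherianSpace
  haveI : CompactSpace Fx := TopologicalSpace.NoetherianSpace.compactSpace Fx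
  have h2 : i ≫ c₂ = δ := by
    calc i ≫ c₂ = i ≫ (pullback.lift (Fr ≫ c₁) c₂ hcomm ≫ pullback.snd pX pX) := by
          rw [pullback.lift_snd]
      _ = (i ≫ pullback.lift (Fr ≫ c₁) c₂ hcomm) ≫ pullback.snd pX pX :=
          (Category.assoc _ _ _).symm
      _ = (δ ≫ pullback.diagonal pX) ≫ pullback.snd pX pX := by rw [hF.w]
      _ = δ := by rw [Category.assoc, pullback.diagonal_snd, Category.comp_id]
  haveI : LocallyOfFiniteType δ := by rw [← h2]; infer_instance
  haveI : LocallyQuasiFinite δ := by rw [← h2]; infer_instance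
  haveI : JacobsonSpace X := LocallyOfFiniteType.jacobsonSpace pX
  have hrange : Set.range i.base ⊆
      (pullback.lift (Fr ≫ c₁) c₂ hcomm).base ⁻¹' Set.range (pullback.diagonal pX).base := by
    rintro _ ⟨y, rfl⟩
    refine ⟨δ y, ?_⟩
    change (δ ≫ pullback.diagonal pX) y = (i ≫ pullback.lift (Fr ≫ c₁) c₂ hcomm) y
    rw [hF.w]
  have hkey : ∀ y : Fx, IsClosed ({y} : Set Fx) → IsOpen ({y} : Set Fx) := by
    intro y hy
    have hx : IsClosed ({δ y} : Set X) := δ.closePoints_subset_preimage_closedPoints hy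
    obtain ⟨W, hW1, -, k, hW3⟩ := main97 p k₀ e hq K f₀ πC₀ πK hC n Fr hFr₀ hFrK pX c₁ c₂ hcomm d
      hn hd (δ y) hx
    have hclopen := isClopen_preimage_support K πK pX (Fr ≫ c₁) c₂ hcomm i δ hF
      (vanishingIdeal ⟨{δ y}, hx⟩) W (hrange.trans hW1) k hW3
    have hs : ((vanishingIdeal ⟨{δ y}, hx⟩).support : Set X) = {δ y} :=
      coe_support_vanishingIdeal _
    rw [hs] at hclopen
    have hdisc : _root_.IsDiscrete (δ ⁻¹' {δ y}) := δ.isDiscrete_preimage_singleton (δ y)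
    haveI : DiscreteTopology (δ ⁻¹' {δ y} : Set Fx) := hdisc.to_subtype
    have hy' : ({y} : Set Fx) = Subtype.val '' ({⟨y, rfl⟩} : Set (δ ⁻¹' {δ y} : Set Fx)) := by
      simp
    rw [hy']
    exact hclopen.isOpen.isOpenEmbedding_subtypeVal.isOpenMap _ (isOpen_discrete _)
  have hall : ∀ y : Fx, IsOpen ({y} : Set Fx) := by
    intro y
    obtain ⟨y₀, hy₀, hcl⟩ := (isClosed_closure (s := ({y} : Set Fx))).exists_closed_singleton
      ⟨y, subset_closure rfl⟩
    have ho := hkey y₀ hcl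
    obtain ⟨z, hz1, hz2⟩ := mem_closure_iff.mp hy₀ {y₀} ho rfl
    have hyy : y₀ = y := by rw [← (hz1 : z = y₀), (hz2 : z = y)]
    rw [← hyy]
    exact ho
  haveI : DiscreteTopology Fx := discreteTopology_iff_isOpen_singleton.mpr hall
  exact ⟨finite_of_compact_of_discrete, inferInstance⟩

end Groth.Agent.Lib.Helper2.FixFinite
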