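import Mathlib
import Groth.Prelude.Def_HTop
/-! Helper2ValSpec: valuation rings realizing specializations over a valuation ring (S7467, S7476). -/
set_option autoImplicit false
universe w u
open CategoryTheory CategoryTheory.Limits AlgebraicGeometry Opposite IsLocalRing

namespace Groth.Agent.Lib.Helper2.ValSpec

/-- A specialization `z' ⤳ z` in a scheme is realized by a valuation ring of `κ(z')`. -/
theorem exists_valRing_of_specializes {Z : Scheme.{u}} (z' z : Z) (hsp : z' ⤳ z) :
    ∃ (W : CommRingCat.{u}) (_ : IsDomain W) (_ : ValuationRing W) (h : Spec W ⟶ Z),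
      h (closedPoint W) = z ∧ h (⟨⊥, Ideal.isPrime_bot⟩ : PrimeSpectrum W) = z' := by
  let ρ : Z.presheaf.stalk z ⟶ Z.residueField z' := Z.presheaf.stalkSpecializes hsp ≫ Z.residue z'
  obtain ⟨A, hA, hloc⟩ := exists_factor_valuationRing ρ.hom
  let α : Z.presheaf.stalk z ⟶ CommRingCat.of A := CommRingCat.ofHom (ρ.hom.codRestrict _ hA)
  let h : Spec (CommRingCat.of A) ⟶ Z := Spec.map α ≫ Z.fromSpecStalk z
  have w : Z.fromSpecResidueField z' =
      Spec.map (CommRingCat.ofHom (algebraMap A (Z.residueField z'))) ≫ h := by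
    rw [Scheme.fromSpecResidueField, ← Scheme.SpecMap_stalkSpecializes_fromSpecStalk hsp]
    simp only [h]
    simp_rw [← Spec.map_comp_assoc]
    rfl
  refine ⟨CommRingCat.of A, inferInstance, inferInstance, h, ?_, ?_⟩
  · have : Spec.map α (closedPoint A) = closedPoint (Z.presheaf.stalk z) :=
      comap_closedPoint (S := A) (ρ.hom.codRestrict A.toSubring hA)
    rw [Scheme.Hom.comp_apply, this, Z.fromSpecStalk_closedPoint]
  · have e : (⟨⊥, Ideal.isPrime_bot⟩ : PrimeSpectrum A) =
        Spec.map (CommRingCat.ofHom (algebraMap A (Z.residueField z')))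
          (closedPoint (Z.residueField z')) := by
      apply PrimeSpectrum.ext
      change ⊥ = Ideal.comap (algebraMap A (Z.residueField z')) (maximalIdeal _)
      rw [IsLocalRing.maximalIdeal_eq_bot, ← RingHom.ker_eq_comap_bot]
      exact ((RingHom.injective_iff_ker_eq_bot _).mp (FaithfulSMul.algebraMap_injective _ _)).symm
    rw [e, ← Scheme.Hom.comp_apply, ← w, Scheme.fromSpecResidueField_apply]

/-- Lemma C: a specialization over (generic ⤳ closed) of a valuation ring gives an extension. -/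
theorem exists_ext_of_specializes {V : CommRingCat.{u}} [IsDomain V] [ValuationRing V]
    {Z : Scheme.{u}} (pr : Z ⟶ Spec V) (z' z : Z) (hsp : z' ⤳ z)
    (hz : pr z = closedPoint V)
    (hz' : pr z' = (⟨⊥, Ideal.isPrime_bot⟩ : PrimeSpectrum V)) :
    ∃ (W : CommRingCat.{u}) (_ : IsDomain W) (_ : ValuationRing W) (φ : V ⟶ W),
      HTop.IsExtVal V W φ ∧ ∃ h : Spec W ⟶ Z, h ≫ pr = Spec.map φ := by
  obtain ⟨W, hW1, hW2, h, hc, hg⟩ := exists_valRing_of_specializes z' z hsp
  let φ : V ⟶ W := Spec.preimage (h ≫ pr)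
  have hφ : Spec.map φ = h ≫ pr := Spec.map_preimage _
  refine ⟨W, hW1, hW2, φ, ⟨?_, ?_⟩, h, hφ.symm⟩
  · rw [RingHom.injective_iff_ker_eq_bot, RingHom.ker_eq_comap_bot]
    have e : Spec.map φ (⟨⊥, Ideal.isPrime_bot⟩ : PrimeSpectrum W) =
        (⟨⊥, Ideal.isPrime_bot⟩ : PrimeSpectrum V) := by
      rw [hφ, Scheme.Hom.comp_apply, hg, hz']
    exact congrArg PrimeSpectrum.asIdeal e
  · rw [isLocalHom_iff_comap_closedPoint]
    have e : Spec.map φ (closedPoint W) = closedPoint V := by
      rw [hφ, Scheme.Hom.comp_apply, hc, hz]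
    exact e

theorem isStandardV_of_standard_fpqc {T : Scheme.{u}} [IsAffine T] (E : PreZeroHypercover.{w} T)
    (hfin : Finite E.I₀) (haff : ∀ j, IsAffine (E.X j)) (hflat : ∀ j, Flat (E.f j))
    (hsurj : ∀ t : T, ∃ (j : E.I₀) (x : E.X j), E.f j x = t) : HTop.IsStandardV E := by
  refine ⟨inferInstance, hfin, haff, ?_⟩
  intro V _ _ g
  obtain ⟨j, x, hx⟩ := hsurj (g (closedPoint V))
  haveI := hflat j
  obtain ⟨z, hz1, hz2⟩ := Scheme.Pullback.exists_preimage_pullback (f := g) (g := E.f j)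
    (closedPoint V) x hx.symm
  have hgen : GeneralizingMap (pullback.fst g (E.f j)) := Flat.generalizingMap _
  have hsp0 : (⟨⊥, Ideal.isPrime_bot⟩ : PrimeSpectrum V) ⤳ pullback.fst g (E.f j) z := by
    rw [hz1]; exact specializes_closedPoint _
  obtain ⟨z', hz's, hz'e⟩ := hgen hsp0
  obtain ⟨W, hW1, hW2, φ, hext, h, hh⟩ :=
    exists_ext_of_specializes (pullback.fst g (E.f j)) z' z hz's hz1 hz'e
  exact ⟨W, hW1, hW2, φ, hext, j, h ≫ pullback.snd g (E.f j), by
    rw [Category.assoc, ← pullback.condition, ← Category.assoc, hh]⟩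

end Groth.Agent.Lib.Helper2.ValSpec
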