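import Mathlib
import Groth.Prelude.Def_HTop
import Groth.Agent.Lib.Helper2ValSpec
/-! Helper2FpqcV: fpqc coverings are V coverings (S7473). -/
set_option autoImplicit false
universe w u
open CategoryTheory CategoryTheory.Limits AlgebraicGeometry Opposite IsLocalRing

namespace Groth.Agent.Lib.Helper2.FpqcV

open Groth.Agent.Lib.Helper2.ValSpec

theorem main {T : Scheme.{u}} (𝒰 : Scheme.Cover.{w} Scheme.fpqcPrecoverage T) :
    HTop.IsVCover 𝒰.toPreZeroHypercover := by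
  intro U
  haveI : IsAffine ((U : T.Opens) : Scheme.{u}) := U.2
  have hcov : IsCompactOpenCovered (fun i => (𝒰.f i : 𝒰.X i → T)) ((U : T.Opens) : Set T) :=
    QuasiCompactCover.isCompactOpenCovered_of_isAffineOpen (𝒰 := 𝒰.toPreZeroHypercover) U.2
  obtain ⟨n, a, V₀, hV₀, hun₀⟩ := hcov.exists_mem_of_isBasis
    (B := fun i => (𝒰.X i).affineOpens) (fun i => (𝒰.X i).isBasis_affineOpens)
    (fun i W hW => IsAffineOpen.isCompact hW)
  obtain ⟨V, hVe⟩ : ∃ V : ∀ k : Fin n, (𝒰.X (a k)).Opens, V = V₀ := ⟨V₀, rfl⟩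
  have hV : ∀ k, IsAffineOpen (V k) := by subst hVe; exact hV₀
  have hun : ⋃ k, (𝒰.f (a k)) '' ((V k : (𝒰.X (a k)).Opens) : Set (𝒰.X (a k))) =
      ((U : T.Opens) : Set T) := by subst hVe; exact hun₀
  clear hV₀ hun₀ hVe V₀
  have hflat : ∀ i, Flat (𝒰.f i) := fun i => 𝒰.forgetQc.map_prop i
  have hrange : ∀ k : Fin n, Set.range ((V k).ι ≫ 𝒰.f (a k)) ⊆ Set.range (U : T.Opens).ι := by
    intro k
    rintro _ ⟨x, rfl⟩
    rw [Scheme.Opens.range_ι, ← hun]
    simp only [Set.mem_iUnion]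
    exact ⟨k, x.1, x.2, rfl⟩
  let F : PreZeroHypercover.{0} ((U : T.Opens) : Scheme.{u}) :=
    { I₀ := Fin n
      X := fun k => ((V k : (𝒰.X (a k)).Opens) : Scheme.{u})
      f := fun k => IsOpenImmersion.lift (U : T.Opens).ι ((V k).ι ≫ 𝒰.f (a k)) (hrange k) }
  have hfac : ∀ k, F.f k ≫ (U : T.Opens).ι = (V k).ι ≫ 𝒰.f (a k) :=
    fun k => IsOpenImmersion.lift_fac _ _ _
  refine ⟨F, ?_, ?_⟩
  · refine isStandardV_of_standard_fpqc F (by change Finite (Fin n); infer_instance)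
      (fun k => hV k) (fun k => ?_) (fun t => ?_)
    · haveI := hflat (a k)
      have hc : Flat (F.f k ≫ (U : T.Opens).ι) := by rw [hfac k]; infer_instance
      exact MorphismProperty.of_postcomp (W := @Flat) (W' := @IsOpenImmersion) (F.f k)
        (U : T.Opens).ι inferInstance hc
    · have ht : t.1 ∈ ((U : T.Opens) : Set T) := t.2
      rw [← hun] at ht
      simp only [Set.mem_iUnion] at ht
      obtain ⟨k, v, hv, hvt⟩ := ht
      refine ⟨k, ⟨v, hv⟩, ?_⟩
      apply (U : T.Opens).ι.injective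
      rw [← Scheme.Hom.comp_apply, hfac k]
      exact hvt
  · intro k
    exact ⟨a k, (V k).ι, (hfac k).symm⟩

end Groth.Agent.Lib.Helper2.FpqcV
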