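import Mathlib
import Groth.Prelude.Def_FlatMod2
import Groth.Agent.Lib.Helper23FinTypeLocal
import Groth.Agent.Lib.Helper20LocFree
import Groth.Agent.Lib.Helper20PullbackAff

/-!
# Number of generators from an open cover (helper2)

Namespace `Groth.Agent.Lib.Helper2.GenCover`.

* `exists_lifts_of_span_localized`: generators of a localization `M_a` lift to elements of `M` generating up to
  powers of `a`.
* `span_eq_top_of_local`: if `(a_i) = 1` and each `x` has `a_i^N x ∈ span μ_i`, then the `μ_i` together span.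
* `exists_fun_of_epi_freeMod`: an epi `O^n → G` of quasi-coherent modules gives `n` generators over every affine open.
* `main`: `Spec R` covered by `m` opens over each of which `M~` is a quotient of `O^n` ⇒ `M` has `n * m` generators.
-/

set_option autoImplicit false
set_option linter.style.haveILetI false
universe u
open CategoryTheory Limits AlgebraicGeometry TopologicalSpace Opposite

namespace Groth.Agent.Lib.Helper2.GenCover

section algebra

theorem exists_lifts_of_span_localized {A B M P : Type*} [CommRing A] [CommRing B] [Algebra A B]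
    (a : A) [IsLocalization.Away a B] [AddCommGroup M] [Module A M] [AddCommGroup P] [Module A P]
    [Module B P] [IsScalarTower A B P] (ℓ : M →ₗ[A] P) [IsLocalizedModule (Submonoid.powers a) ℓ]
    {n : ℕ} (τ : Fin n → P) (hτ : ∀ g : P, ∃ c : Fin n → B, g = ∑ k, c k • τ k) :
    ∃ μ : Fin n → M, ∀ x : M, ∃ N : ℕ, a ^ N • x ∈ Submodule.span A (Set.range μ) := by
  classical
  -- lift the generators with a common exponent
  have h1 : ∀ k, ∃ (m : M) (e : ℕ), a ^ e • τ k = ℓ m := by
    intro k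
    obtain ⟨⟨m, s⟩, hs⟩ := IsLocalizedModule.surj (Submonoid.powers a) ℓ (τ k)
    obtain ⟨e, he⟩ := s.2
    refine ⟨m, e, ?_⟩
    rw [← hs, Submonoid.smul_def, ← he]
  choose m₀ e he using h1
  let E := Finset.univ.sup e
  have hE : ∀ k, a ^ E • τ k = ℓ (a ^ (E - e k) • m₀ k) := by
    intro k
    have hk : e k ≤ E := Finset.le_sup (Finset.mem_univ k)
    rw [map_smul, ← he k, smul_smul, pow_sub_mul_pow a hk]
  refine ⟨fun k => a ^ (E - e k) • m₀ k, fun x => ?_⟩
  obtain ⟨c, hc⟩ := hτ (ℓ x)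
  obtain ⟨⟨D, d, hd⟩, hD⟩ := IsLocalization.exist_integer_multiples_of_finite (Submonoid.powers a) c
  choose β hβ using hD
  -- hβ k : algebraMap A B (β k) = D • c k
  have h2 : ℓ (a ^ E • D • x) = ℓ (∑ k, β k • (a ^ (E - e k) • m₀ k)) := by
    rw [map_smul, map_smul, hc, map_sum, Finset.smul_sum, Finset.smul_sum]
    refine Finset.sum_congr rfl fun k _ => ?_
    rw [map_smul, ← hE k, ← algebraMap_smul B (β k) (a ^ E • τ k), hβ k, smul_comm (a ^ E) D,
      smul_comm (a ^ E), smul_assoc]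
  obtain ⟨⟨s, t, ht⟩, hs⟩ := IsLocalizedModule.exists_of_eq (S := Submonoid.powers a) h2
  refine ⟨t + (E + d), ?_⟩
  have ht' : a ^ t = s := ht
  have hd' : a ^ d = D := hd
  have h3 : a ^ (t + (E + d)) • x = s • (a ^ E • D • x) := by
    rw [← ht', ← hd', smul_smul, smul_smul, ← pow_add, ← pow_add, add_assoc]
  have hs' : s • (a ^ E • D • x) = s • ∑ k, β k • (a ^ (E - e k) • m₀ k) := hs
  rw [h3, hs']
  exact Submodule.smul_mem _ _ (Submodule.sum_mem _ fun k _ =>
    Submodule.smul_mem _ _ (Submodule.subset_span ⟨k, rfl⟩))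

theorem span_eq_top_of_local {A M : Type*} [CommRing A] [AddCommGroup M] [Module A M] {m n : ℕ}
    (a : Fin m → A) (ha : Ideal.span (Set.range a) = ⊤) (μ : Fin m → Fin n → M)
    (h : ∀ i x, ∃ N : ℕ, a i ^ N • x ∈ Submodule.span A (Set.range (μ i))) :
    Submodule.span A (Set.range fun p : Fin n × Fin m => μ p.2 p.1) = ⊤ := by
  classical
  rw [eq_top_iff]
  intro x _
  choose N hN using fun i => h i x
  let E := Finset.univ.sup N
  have hle : ∀ i, Submodule.span A (Set.range (μ i)) ≤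
      Submodule.span A (Set.range fun p : Fin n × Fin m => μ p.2 p.1) := by
    intro i
    apply Submodule.span_mono
    rintro _ ⟨k, rfl⟩
    exact ⟨(k, i), rfl⟩
  have hmem : ∀ i, a i ^ E • x ∈ Submodule.span A (Set.range fun p : Fin n × Fin m => μ p.2 p.1) := by
    intro i
    have hk : N i ≤ E := Finset.le_sup (Finset.mem_univ i)
    have : a i ^ E • x = a i ^ (E - N i) • (a i ^ N i • x) := by
      rw [smul_smul, pow_sub_mul_pow _ hk]
    rw [this]
    exact Submodule.smul_mem _ _ (hle i (hN i))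
  have h1 := Ideal.span_pow_eq_top _ ha E
  rw [← Set.range_comp, Ideal.eq_top_iff_one, Ideal.mem_span_range_iff_exists_fun] at h1
  obtain ⟨c, hc⟩ := h1
  have hc' : ∑ i, c i * a i ^ E = 1 := hc
  have : x = ∑ i, c i • (a i ^ E • x) := by
    calc x = (∑ i, c i * a i ^ E) • x := by rw [hc', one_smul]
      _ = ∑ i, c i • (a i ^ E • x) := by
        rw [Finset.sum_smul]
        exact Finset.sum_congr rfl fun i _ => mul_smul _ _ _
  rw [this]
  exact Submodule.sum_mem _ fun i _ => Submodule.smul_mem _ _ (hmem i)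

end algebra

section scheme

open Groth.Agent.Lib.Helper20.LocFree Groth.Agent.Lib.Helper20.PullbackAff
  Groth.Agent.Lib.Helper20.Thickening

/-- an epi `O^n → G` onto a quasi-coherent module gives `n` generators of the sections over any affine open -/
theorem exists_fun_of_epi_freeMod {Y : Scheme.{u}} {G : Y.Modules} [G.IsQuasicoherent] {n : ℕ}
    (φ : FlatMod.freeMod Y n ⟶ G) [Epi φ] {V : Y.Opens} (hV : IsAffineOpen V) :
    ∃ t : Fin n → Γ(G, V), ∀ g : Γ(G, V), ∃ c : Fin n → Γ(Y, V), g = ∑ k, c k • t k := by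
  classical
  have hsurj := Groth.Agent.Lib.Helper23.FinType.surjective_app_of_epi φ hV
  let e1 : Γ(FlatMod.freeMod Y n, V) ≃ₗ[Γ(Y, V)] (ΓUF hV).obj (FlatMod.freeMod Y n) :=
    ΓUEquiv hV (FlatMod.freeMod Y n)
  let e3 : (ΓUF hV).obj (FlatMod.freeMod Y n) ≃ₗ[Γ(Y, V)] (Fin n →₀ Γ(Y, V)) :=
    (ΓUFFreeModIso n hV).toLinearEquiv
  let e := e1.trans e3
  refine ⟨fun k => Scheme.Modules.Hom.app φ V (e.symm (Finsupp.single k 1)), fun g => ?_⟩
  obtain ⟨y, rfl⟩ := hsurj g
  refine ⟨fun k => e y k, ?_⟩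
  have hy : y = ∑ k, (e y k) • e.symm (Finsupp.single k 1) := by
    apply e.injective
    rw [map_sum]
    simp only [map_smul, LinearEquiv.apply_symm_apply]
    ext j
    simp
  conv_lhs => rw [hy]
  rw [map_sum]
  refine Finset.sum_congr rfl fun k _ => ?_
  exact Scheme.Modules.Hom.app_smul φ _ _

theorem exists_lifts_tilde (R : CommRingCat.{u}) (M : ModuleCat.{u} R) (a : R)
    (W' : (Spec R).Opens) (h : W' = PrimeSpectrum.basicOpen a) {n : ℕ} (τ : Fin n → Γ(tilde M, W'))
    (hτ : ∀ g : Γ(tilde M, W'), ∃ c : Fin n → Γ(Spec R, W'), g = ∑ k, c k • τ k) :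
    ∃ μ : Fin n → M, ∀ x : M, ∃ N : ℕ, a ^ N • x ∈ Submodule.span R (Set.range μ) := by
  subst h
  let ℓ : M →ₗ[R] Γ(tilde M, PrimeSpectrum.basicOpen a) :=
    (tilde.toOpen M (PrimeSpectrum.basicOpen a)).hom
  haveI : IsLocalizedModule (Submonoid.powers a) ℓ :=
    inferInstanceAs (IsLocalizedModule.Away a (tilde.toOpen M (PrimeSpectrum.basicOpen a)).hom)
  exact exists_lifts_of_span_localized (A := R) (B := Γ(Spec R, PrimeSpectrum.basicOpen a))
    (P := Γ(tilde M, PrimeSpectrum.basicOpen a)) a ℓ τ hτ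

end scheme

section main

theorem exists_lifts_of_epi (R : CommRingCat.{u}) (M : ModuleCat.{u} R) {n : ℕ} (U : (Spec R).Opens)
    (a : R) (hle : PrimeSpectrum.basicOpen a ≤ U)
    (φ : FlatMod.freeMod (↑U) n ⟶ (tilde M).restrict U.ι) [Epi φ] :
    ∃ μ : Fin n → M, ∀ x : M, ∃ N : ℕ, a ^ N • x ∈ Submodule.span R (Set.range μ) := by
  let W : (Spec R).Opens := PrimeSpectrum.basicOpen a
  have hW : IsAffineOpen W := by
    have := (isAffineOpen_top (Spec R)).basicOpen ((Scheme.ΓSpecIso R).inv a)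
    rwa [basicOpen_eq_of_affine] at this
  have hV : IsAffineOpen (U.ι ⁻¹ᵁ W) :=
    hW.preimage_of_isOpenImmersion U.ι (by rw [Scheme.Opens.opensRange_ι]; exact hle)
  have himg : U.ι ''ᵁ (U.ι ⁻¹ᵁ W) = W := by
    rw [Scheme.Hom.image_preimage_eq_opensRange_inf, Scheme.Opens.opensRange_ι]
    exact inf_eq_right.mpr hle
  obtain ⟨t, ht⟩ := exists_fun_of_epi_freeMod φ hV
  refine exists_lifts_tilde R M a (U.ι ''ᵁ (U.ι ⁻¹ᵁ W)) himg t (fun g => ?_)
  obtain ⟨c, hc⟩ := ht g
  exact ⟨fun k => (U.ι.appIso (U.ι ⁻¹ᵁ W)).inv (c k), hc⟩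

theorem exists_cover_elements {R : Type*} [CommRing R] {m : ℕ}
    (U : Fin m → Opens (PrimeSpectrum R)) (hU : ⨆ i, U i = ⊤) :
    ∃ a : Fin m → R, Ideal.span (Set.range a) = ⊤ ∧ ∀ i, PrimeSpectrum.basicOpen (a i) ≤ U i := by
  classical
  let I : Fin m → Ideal R := fun i => PrimeSpectrum.vanishingIdeal ((U i : Set (PrimeSpectrum R))ᶜ)
  have hI : ⨆ i, I i = ⊤ := by
    rw [← PrimeSpectrum.zeroLocus_empty_iff_eq_top, PrimeSpectrum.zeroLocus_iSup]
    have hcl : ∀ i, PrimeSpectrum.zeroLocus (I i : Set R) = (U i : Set (PrimeSpectrum R))ᶜ := fun i => by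
      rw [PrimeSpectrum.zeroLocus_vanishingIdeal_eq_closure]
      exact (U i).isOpen.isClosed_compl.closure_eq
    simp only [hcl]
    rw [← Set.compl_iUnion, Set.compl_empty_iff]
    have := congrArg (fun W : Opens (PrimeSpectrum R) => (W : Set (PrimeSpectrum R))) hU
    simpa using this
  have h1 : (1 : R) ∈ ⨆ i, I i := by rw [hI]; trivial
  obtain ⟨f, hf, hsum⟩ := (Submodule.mem_iSup_iff_exists_finsupp _ _).mp h1
  refine ⟨fun i => f i, ?_, ?_⟩
  · rw [Ideal.eq_top_iff_one, ← hsum, Finsupp.sum_fintype _ _ (fun _ => rfl)]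
    exact Ideal.sum_mem _ fun i _ => Ideal.subset_span ⟨i, rfl⟩
  · intro i p hp
    by_contra hpU
    have : f i ∈ p.asIdeal := (PrimeSpectrum.mem_vanishingIdeal _ _).mp (hf i) p hpU
    exact (PrimeSpectrum.mem_basicOpen _ _).mp hp this

theorem main (R : CommRingCat.{u}) (M : ModuleCat.{u} R) (n m : ℕ) (U : Fin m → (Spec R).Opens)
    (hU : ⨆ i, U i = ⊤)
    (hgen : ∀ i, ∃ φ : FlatMod.freeMod (↑(U i)) n ⟶ (tilde M).restrict (U i).ι, Epi φ) :
    ∃ s : Fin (n * m) → M, Submodule.span R (Set.range s) = ⊤ := by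
  classical
  obtain ⟨a, ha, hle⟩ := exists_cover_elements (R := R) U hU
  choose φ hφ using hgen
  have key : ∀ i, ∃ μ : Fin n → M, ∀ x : M, ∃ N : ℕ,
      a i ^ N • x ∈ Submodule.span R (Set.range μ) := fun i => by
    haveI := hφ i
    exact exists_lifts_of_epi R M (U i) (a i) (hle i) (φ i)
  choose μ hμ using key
  have hspan := span_eq_top_of_local a ha μ hμ
  refine ⟨fun q => μ (finProdFinEquiv.symm q).2 (finProdFinEquiv.symm q).1, ?_⟩
  rw [← hspan]
  congr 1
  have : (fun q : Fin (n * m) => μ (finProdFinEquiv.symm q).2 (finProdFinEquiv.symm q).1) =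
      (fun p : Fin n × Fin m => μ p.2 p.1) ∘ finProdFinEquiv.symm := rfl
  rw [this, Set.range_comp, Set.range_eq_univ.mpr finProdFinEquiv.symm.surjective, Set.image_univ]

end main

end Groth.Agent.Lib.Helper2.GenCover
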