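import Mathlib
import Groth.Agent.Lib.Helper22SteinD
import Groth.Agent.Lib.Helper11BlanchardE
import Groth.Agent.Lib.Helper4NormIso

/-!
# Proper morphisms to a normal base with trivial generic `H⁰` (helper2)

Namespace `Groth.Agent.Lib.Helper2.GenH0A`.
-/

set_option autoImplicit false
set_option linter.style.haveILetI false
universe u
open CategoryTheory CategoryTheory.Limits AlgebraicGeometry TopologicalSpace Opposite

namespace Groth.Agent.Lib.Helper2.GenH0A

/-- a section of a reduced scheme all of whose generic points lie over `ξ` vanishes as soon as it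
vanishes on the fibre over `ξ` -/
theorem eq_zero_of_fiber {X S : Scheme.{u}} (f : X ⟶ S) [IsReduced X] (ξ : S)
    (hgen : ∀ Z ∈ irreducibleComponents ↑X, ∀ x : X, IsGenericPoint x Z → f x = ξ)
    (V : X.Opens) (r : Γ(X, V)) (hr : (f.fiberι ξ).app V r = 0) : r = 0 := by
  rw [← basicOpen_eq_bot_iff]
  rw [eq_bot_iff]
  intro x hx
  exfalso
  -- the irreducible component through `x` and its generic point
  have hZ : irreducibleComponent x ∈ irreducibleComponents (↑X : Type u) :=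
    irreducibleComponent_mem_irreducibleComponents x
  obtain ⟨η, hη⟩ := QuasiSober.sober (isIrreducible_irreducibleComponent (x := x))
    (isClosed_irreducibleComponent (x := x))
  have hspec : η ⤳ x := by
    rw [specializes_iff_mem_closure, hη.def]
    exact mem_irreducibleComponent
  have hηV : η ∈ X.basicOpen r := hspec.mem_open (X.basicOpen r).isOpen hx
  have hfη : f η = ξ := hgen _ hZ η hη
  have hrange : η ∈ Set.range (f.fiberι ξ) := by
    rw [Scheme.Hom.range_fiberι]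
    exact hfη
  obtain ⟨η', rfl⟩ := hrange
  have h1 : η' ∈ (f.fiberι ξ) ⁻¹ᵁ (X.basicOpen r) := hηV
  rw [Scheme.preimage_basicOpen, hr] at h1
  rw [Scheme.basicOpen_zero] at h1
  exact h1

theorem isIntegral_appLE_aux {X S : Scheme.{u}} (f : X ⟶ S) (U U' : S.Opens) (V' : X.Opens)
    (hU' : U' = U) (hV' : V' = f ⁻¹ᵁ U) (e : V' ≤ f ⁻¹ᵁ U')
    (h : (f.appLE U' V' e).hom.IsIntegral) : (f.app U).hom.IsIntegral := by
  subst hU'
  subst hV'
  rwa [Scheme.Hom.appLE_eq_app] at h

/-- for a universally closed morphism, sections over the preimage of an affine open are integral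
over the sections of the base -/
theorem isIntegral_app {X S : Scheme.{u}} (f : X ⟶ S) [UniversallyClosed f] (U : S.Opens)
    (hU : IsAffineOpen U) : (f.app U).hom.IsIntegral := by
  haveI : IsAffine U.toScheme := hU
  haveI : UniversallyClosed (f ∣_ U) :=
    IsZariskiLocalAtTarget.restrict (P := @UniversallyClosed) ‹_› U
  have h1 := isIntegral_appTop_of_universallyClosed (f ∣_ U)
  have h2 : (f ∣_ U).appTop = (f ∣_ U).appLE ⊤ ⊤ le_rfl :=
    (Scheme.Hom.appLE_eq_app (f := f ∣_ U) (U := ⊤)).symm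
  rw [h2, morphismRestrict_appLE] at h1
  exact isIntegral_appLE_aux f U _ _ U.ι_image_top (f ⁻¹ᵁ U).ι_image_top _ h1

open Groth.Agent.Lib.Helper4.NormCurve in
/-- **the main step**: over a nonempty affine open of a normal integral base, `O_S → f_* O_X` is
bijective -/
theorem bijective_app {X S : Scheme.{u}} (f : X ⟶ S) [IsProper f] [IsIntegral S]
    (hS : Pi1.IsNormalScheme S) [IsReduced X]
    (hgen : ∀ Z ∈ irreducibleComponents ↑X, ∀ x : X, IsGenericPoint x Z → f x = genericPoint ↑S)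
    (h0 : Function.Bijective ((f.fiberToSpecResidueField (genericPoint ↑S)).appTop))
    (U : S.Opens) (hU : IsAffineOpen U) [hne : Nonempty U] :
    Function.Bijective (f.app U) := by
  set ξ : S := genericPoint ↑S with hξ
  let K : Type u := S.residueField ξ
  let φ : S.functionField →+* K := (S.residue ξ).hom
  let j : Spec (CommRingCat.of K) ⟶ S := gen S K φ
  have hj : S.fromSpecResidueField ξ = j := rfl
  let ι := f.fiberι ξ
  let q : f.fiber ξ ⟶ Spec (CommRingCat.of K) := f.fiberToSpecResidueField ξ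
  have hcond : ι ≫ f = q ≫ j := f.fiber_fac ξ
  have hjU : j ⁻¹ᵁ U = ⊤ := gen_preimage K φ U
  have hιU : ι ⁻¹ᵁ (f ⁻¹ᵁ U) = ⊤ := by
    have h1 : ι ⁻¹ᵁ (f ⁻¹ᵁ U) = (ι ≫ f) ⁻¹ᵁ U := rfl
    rw [h1, hcond]
    change q ⁻¹ᵁ (j ⁻¹ᵁ U) = ⊤
    rw [hjU]
    rfl
  have e1 : (⊤ : (f.fiber ξ).Opens) ≤ ι ⁻¹ᵁ (f ⁻¹ᵁ U) := by rw [hιU]
  have e2 : (⊤ : (Spec (CommRingCat.of K)).Opens) ≤ j ⁻¹ᵁ U := by rw [hjU]
  let ψ := ι.appLE (f ⁻¹ᵁ U) ⊤ e1
  let θ := j.appLE U ⊤ e2
  -- the commutative square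
  have hsq : f.app U ≫ ψ = θ ≫ q.appTop := by
    have h1 : f.appLE U (f ⁻¹ᵁ U) le_rfl ≫ ι.appLE (f ⁻¹ᵁ U) ⊤ e1 =
        (ι ≫ f).appLE U ⊤ (e1.trans le_rfl) := Scheme.Hom.appLE_comp_appLE ι f U (f ⁻¹ᵁ U) ⊤ le_rfl e1
    have h2 : j.appLE U ⊤ e2 ≫ q.appLE ⊤ ⊤ le_rfl = (q ≫ j).appLE U ⊤ (by
        change (⊤ : (f.fiber ξ).Opens) ≤ q ⁻¹ᵁ (j ⁻¹ᵁ U)
        rw [hjU]; exact le_rfl) :=
      Scheme.Hom.appLE_comp_appLE q j U ⊤ ⊤ e2 le_rfl
    have h3 : q.appLE ⊤ ⊤ le_rfl = q.appTop := Scheme.Hom.appLE_eq_app (f := q) (U := ⊤)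
    have h4 : f.appLE U (f ⁻¹ᵁ U) le_rfl = f.app U := Scheme.Hom.appLE_eq_app (f := f) (U := U)
    rw [h4] at h1
    rw [h3] at h2
    rw [h1, h2]
    exact Groth.Agent.Lib.Helper4.NormIso.appLE_congr_hom hcond U ⊤ _
  -- injectivity of `ψ`
  have hψ : Function.Injective ψ.hom := by
    rw [injective_iff_map_eq_zero]
    intro r hr
    apply eq_zero_of_fiber f ξ hgen (f ⁻¹ᵁ U) r
    have h1 : ψ.hom r = ((f.fiber ξ).presheaf.map (homOfLE e1).op).hom ((ι.app (f ⁻¹ᵁ U)).hom r) := rfl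
    rw [h1] at hr
    have hiso : IsIso ((f.fiber ξ).presheaf.map (homOfLE e1).op) := by
      have : IsIso (homOfLE e1) := ⟨⟨homOfLE le_top, Subsingleton.elim _ _, Subsingleton.elim _ _⟩⟩
      infer_instance
    have hinj : Function.Injective ((f.fiber ξ).presheaf.map (homOfLE e1).op).hom :=
      (ConcreteCategory.bijective_of_isIso _).1
    exact hinj (hr.trans (map_zero _).symm)
  -- the fraction field
  haveI : IsDomain Γ(S, U) := IsIntegral.component_integral U
  have hφ : Function.Bijective φ :=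
    ⟨φ.injective, S.residue_surjective ξ⟩
  have hθ : θ = S.germToFunctionField U ≫ CommRingCat.ofHom φ ≫
      (Scheme.ΓSpecIso (CommRingCat.of K)).inv := gen_appLE K φ U
  letI algK' : Algebra Γ(S, U) Γ(Spec (CommRingCat.of K), ⊤) := θ.hom.toAlgebra
  haveI hfr0 : IsFractionRing Γ(S, U) S.functionField :=
    functionField_isFractionRing_of_isAffineOpen S U hU
  let σ0 : S.functionField ≃+* Γ(Spec (CommRingCat.of K), ⊤) :=
    (RingEquiv.ofBijective φ hφ).trans
      (Scheme.ΓSpecIso (CommRingCat.of K)).symm.commRingCatIsoToRingEquiv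
  let σ : S.functionField ≃ₐ[Γ(S, U)] Γ(Spec (CommRingCat.of K), ⊤) :=
    AlgEquiv.ofRingEquiv (f := σ0) (fun a => by
      change _ = θ.hom a
      rw [hθ]
      rfl)
  haveI hfr : IsFractionRing Γ(S, U) Γ(Spec (CommRingCat.of K), ⊤) :=
    IsLocalization.isLocalization_of_algEquiv (nonZeroDivisors Γ(S, U)) σ
  haveI hic : IsIntegrallyClosed Γ(S, U) :=
    Groth.Agent.Lib.Helper4.NormIso.isIntegrallyClosed_sections hS U hU
  have hθinj : Function.Injective θ.hom := IsFractionRing.injective Γ(S, U) _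
  have hsq' : ∀ a : Γ(S, U), ψ.hom ((f.app U).hom a) = q.appTop.hom (θ.hom a) := fun a =>
    congrArg (fun t => t.hom a) hsq
  have hq : Function.Bijective q.appTop.hom := h0
  refine ⟨?_, ?_⟩
  · -- injective
    intro a b hab
    apply hθinj
    apply hq.1
    rw [← hsq', ← hsq']
    exact congrArg ψ.hom hab
  · -- surjective
    intro r
    obtain ⟨p, hp, hpr⟩ := isIntegral_app f U hU r
    obtain ⟨k, hk⟩ := hq.2 (ψ.hom r)
    have h1 : Polynomial.eval₂ (ψ.hom.comp (f.app U).hom) (ψ.hom r) p = 0 := by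
      rw [← Polynomial.hom_eval₂, hpr, map_zero]
    have hcomp : ψ.hom.comp (f.app U).hom = q.appTop.hom.comp θ.hom := RingHom.ext hsq'
    rw [hcomp, ← hk, ← Polynomial.hom_eval₂] at h1
    have h2 : Polynomial.eval₂ θ.hom k p = 0 := hq.1 (h1.trans (map_zero _).symm)
    have hint : IsIntegral Γ(S, U) k := ⟨p, hp, h2⟩
    obtain ⟨a, ha⟩ := (IsIntegrallyClosed.isIntegral_iff (R := Γ(S, U))
      (K := Γ(Spec (CommRingCat.of K), ⊤))).mp hint
    refine ⟨a, hψ ?_⟩
    have ha' : θ.hom a = k := ha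
    change ψ.hom ((f.app U).hom a) = ψ.hom r
    rw [hsq', ha', hk]

end Groth.Agent.Lib.Helper2.GenH0A
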