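import Mathlib

/-!
# Geometric properties and change of base field (helper2)

`geometrically_of_baseChange`: for an object property `P` of schemes which passes to images under
surjective morphisms (irreducible, connected, ...), if `X_{k'}` is geometrically `P` over `k'`
then `X` is geometrically `P` over `k`.
-/

set_option autoImplicit false
universe u

open CategoryTheory Limits AlgebraicGeometry TensorProduct

namespace Groth.Agent.Lib.Helper2

/-- Two field extensions of `k` admit a common extension. -/
lemma exists_compositum (k L k' : Type u) [Field k] [Field L] [Field k'] [Algebra k L]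
    [Algebra k k'] :
    ∃ (Ω : Type u) (_ : Field Ω) (a : L →+* Ω) (b : k' →+* Ω),
      a.comp (algebraMap k L) = b.comp (algebraMap k k') := by
  obtain ⟨m, hm⟩ := Ideal.exists_maximal (L ⊗[k] k')
  let _ : Field ((L ⊗[k] k') ⧸ m) := Ideal.Quotient.field m
  refine ⟨(L ⊗[k] k') ⧸ m, inferInstance,
    (Ideal.Quotient.mk m).comp Algebra.TensorProduct.includeLeftRingHom,
    (Ideal.Quotient.mk m).comp Algebra.TensorProduct.includeRight.toRingHom, ?_⟩
  ext x
  simp only [RingHom.comp_apply]
  congr 1
  simp only [Algebra.TensorProduct.includeLeftRingHom_apply, AlgHom.toRingHom_eq_coe,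
    RingHom.coe_coe, Algebra.TensorProduct.includeRight_apply]
  rw [Algebra.algebraMap_eq_smul_one, Algebra.algebraMap_eq_smul_one, TensorProduct.smul_tmul]

lemma surjective_SpecMap_of_field {L Ω : Type u} [Field L] [Field Ω] (a : L →+* Ω) :
    Surjective (Spec.map (CommRingCat.ofHom a)) := by
  constructor
  intro x
  refine ⟨⟨⊥, Ideal.isPrime_bot⟩, ?_⟩
  exact Subsingleton.elim (α := PrimeSpectrum L) _ _

/-- If `X_{k'}` is geometrically `P` over `k'`, then `X` is geometrically `P` over `k`, provided
`P` passes to images of surjective morphisms. -/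
theorem geometrically_of_baseChange {P : ObjectProperty Scheme.{u}}
    (hP : ∀ {A B : Scheme.{u}} (h : A ⟶ B), Surjective h → P A → P B)
    (k : Type u) [Field k] {X : Scheme.{u}} (f : X ⟶ Spec (CommRingCat.of k))
    (k' : Type u) [Field k'] [Algebra k k']
    (H : geometrically P (pullback.snd f (Spec.map (CommRingCat.ofHom (algebraMap k k'))))) :
    geometrically P f := by
  rw [geometrically_iff_of_commRing]
  intro L _ _ Z fst snd h
  obtain ⟨Ω, _, a, b, hab⟩ := exists_compositum k L k'
  have hcomp : Spec.map (CommRingCat.ofHom a) ≫ Spec.map (CommRingCat.ofHom (algebraMap k L)) =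
      Spec.map (CommRingCat.ofHom b) ≫ Spec.map (CommRingCat.ofHom (algebraMap k k')) := by
    rw [← Spec.map_comp, ← Spec.map_comp, ← CommRingCat.ofHom_comp, ← CommRingCat.ofHom_comp, hab]
  have hW := IsPullback.of_hasPullback snd (Spec.map (CommRingCat.ofHom a))
  have hbig := hW.paste_horiz h
  rw [hcomp] at hbig
  have hsurj : Surjective (pullback.fst snd (Spec.map (CommRingCat.ofHom a))) := by
    have := surjective_SpecMap_of_field a
    infer_instance
  refine hP (pullback.fst snd (Spec.map (CommRingCat.ofHom a))) hsurj ?_
  set g := Spec.map (CommRingCat.ofHom (algebraMap k k')) with hg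
  let q : pullback snd (Spec.map (CommRingCat.ofHom a)) ⟶ pullback f g :=
    pullback.lift (pullback.fst snd (Spec.map (CommRingCat.ofHom a)) ≫ fst)
      (pullback.snd snd (Spec.map (CommRingCat.ofHom a)) ≫ Spec.map (CommRingCat.ofHom b))
      (by rw [Category.assoc, Category.assoc]; exact hbig.w)
  have hq1 : q ≫ pullback.fst f g = pullback.fst snd (Spec.map (CommRingCat.ofHom a)) ≫ fst :=
    pullback.lift_fst _ _ _
  have hq2 : q ≫ pullback.snd f g =
      pullback.snd snd (Spec.map (CommRingCat.ofHom a)) ≫ Spec.map (CommRingCat.ofHom b) :=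
    pullback.lift_snd _ _ _
  rw [← hq1] at hbig
  exact H (Spec.map (CommRingCat.ofHom b)) q _
    (IsPullback.of_right hbig hq2 (IsPullback.of_hasPullback f g))

end Groth.Agent.Lib.Helper2
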