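import Groth.Agent.Lib.Helper2GrModZero

/-!
# Stalks of `M(n)~` on `Proj` (helper2 port of helper27)
-/

set_option autoImplicit false
universe u

open CategoryTheory CategoryTheory.Limits AlgebraicGeometry TopologicalSpace Opposite

namespace Groth.Agent.Lib.Helper2GrModSect

variable {A σ : Type u} [CommRing A] [SetLike σ A] [AddSubgroupClass σ A] (𝒜 : ℕ → σ)
  [GradedRing 𝒜]
variable {M τ : Type u} [AddCommGroup M] [Module A M] [SetLike τ M] [AddSubgroupClass τ M]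
  (ℳ : ℕ → τ) [DirectSum.Decomposition ℳ] [SetLike.GradedSMul 𝒜 ℳ]

omit [DirectSum.Decomposition ℳ] in
/-- every element of the module of degree-`n` fractions at `p` is a single fraction. -/
theorem exists_frac_of_mem (n : ℤ) (p : ProjectiveSpectrum 𝒜) (t : GrMod.LocMod 𝒜 (M := M) p)
    (ht : t ∈ GrMod.tildeAt 𝒜 ℳ n p) :
    ∃ (i j : ℕ) (m : M) (s : A) (_ : m ∈ ℳ i) (_ : s ∈ 𝒜 j) (hs : s ∉ p.asHomogeneousIdeal),
      (i : ℤ) = j + n ∧ t = LocalizedModule.mk m ⟨s, hs⟩ := by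
  unfold GrMod.tildeAt at ht
  induction ht using Submodule.span_induction with
  | mem x hx =>
    obtain ⟨i, j, m, s, hs, hij, rfl⟩ := hx
    exact ⟨i, j, m.1, s.1, m.2, s.2, hs, hij, rfl⟩
  | zero =>
    obtain ⟨d, f, hd, hf, hfp⟩ := exists_homogeneous_pos_not_mem 𝒜 p
    have hnn : (0 : ℤ) ≤ ((n.natAbs * d : ℕ) : ℤ) + n := by
      have h1 : n.natAbs ≤ n.natAbs * d := Nat.le_mul_of_pos_right _ hd
      generalize n.natAbs * d = T at h1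
      omega
    obtain ⟨i, hi⟩ := Int.eq_ofNat_of_zero_le hnn
    refine ⟨i, n.natAbs * d, 0, f ^ n.natAbs, zero_mem _, ?_,
      fun h => hfp (p.isPrime.mem_of_pow_mem _ h), hi.symm, (LocalizedModule.zero_mk _).symm⟩
    have := SetLike.pow_mem_graded n.natAbs hf
    simpa [smul_eq_mul] using this
  | add x y _ _ hx hy =>
    obtain ⟨i, j, m, s, hm, hs, hsp, hij, rfl⟩ := hx
    obtain ⟨i', j', m', s', hm', hs', hsp', hij', rfl⟩ := hy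
    have hdeg : j' + i = j + i' := by omega
    refine ⟨j' + i, j + j', s' • m + s • m', s * s',
      add_mem (SetLike.GradedSMul.smul_mem hs' hm) (hdeg ▸ SetLike.GradedSMul.smul_mem hs hm'),
      SetLike.mul_mem_graded hs hs',
      fun h => (p.isPrime.mem_or_mem h).elim hsp hsp', by push_cast; omega, ?_⟩
    rw [LocalizedModule.mk_add_mk]
    rfl
  | smul c x _ hx =>
    obtain ⟨i, j, m, s, hm, hs, hsp, hij, rfl⟩ := hx
    obtain ⟨⟨k, a, b, hb⟩, rfl⟩ := HomogeneousLocalization.mk_surjective c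
    refine ⟨k + i, k + j, a.1 • m, b.1 * s, SetLike.GradedSMul.smul_mem a.2 hm,
      SetLike.mul_mem_graded b.2 hs, fun h => (p.isPrime.mem_or_mem h).elim hb hsp,
      by push_cast; omega, ?_⟩
    rw [GrMod.a0_smul_def, HomogeneousLocalization.val_mk, LocalizedModule.mk_smul_mk]
    rfl

/-- the section `m / s` of `M(n)~` over `D₊(s)`. -/
def fracSectionN (n : ℤ) {i j : ℕ} {m : M} {s : A} (hm : m ∈ ℳ i) (hs : s ∈ 𝒜 j)
    (hij : (i : ℤ) = j + n) :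
    GrMod.sect 𝒜 ℳ n (op (ProjectiveSpectrum.basicOpen 𝒜 s)) :=
  have hnin : ∀ y : ProjectiveSpectrum.basicOpen 𝒜 s, s ∉ y.1.asHomogeneousIdeal :=
    fun y => (ProjectiveSpectrum.mem_basicOpen 𝒜 s y.1).mp y.2
  ⟨fun y => ⟨LocalizedModule.mk m ⟨s, hnin y⟩, mk_mem_tildeAt 𝒜 ℳ n y.1 hm hs (hnin y) hij⟩,
   fun y => ⟨ProjectiveSpectrum.basicOpen 𝒜 s, y.2, 𝟙 _, i, j, ⟨m, hm⟩, ⟨s, hs⟩,
    hnin, Or.inl hij, fun _ => rfl⟩⟩

theorem stalkToFiber_surjective (n : ℤ) (p : ProjectiveSpectrum 𝒜) :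
    Function.Surjective (TopCat.stalkToFiber (GrMod.isLocFrac 𝒜 ℳ n) p) := by
  apply TopCat.stalkToFiber_surjective
  intro t
  obtain ⟨i, j, m, s, hm, hs, hsp, hij, ht⟩ := exists_frac_of_mem 𝒜 ℳ n p t.1 t.2
  refine ⟨⟨ProjectiveSpectrum.basicOpen 𝒜 s, (ProjectiveSpectrum.mem_basicOpen 𝒜 s p).mpr hsp⟩,
    (fracSectionN 𝒜 ℳ n hm hs hij).1, (fracSectionN 𝒜 ℳ n hm hs hij).2, ?_⟩
  exact Subtype.ext ht.symm

theorem stalkToFiber_injective (n : ℤ) (p : ProjectiveSpectrum 𝒜) :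
    Function.Injective (TopCat.stalkToFiber (GrMod.isLocFrac 𝒜 ℳ n) p) := by
  apply TopCat.stalkToFiber_injective
  intro U V fU hU fV hV e
  rcases hU ⟨p, U.2⟩ with ⟨U', mU, iU, i, j, ⟨m, hm⟩, ⟨s, hs⟩, ninU, cU, wU⟩
  rcases hV ⟨p, V.2⟩ with ⟨V', mV, iV, i', j', ⟨m', hm'⟩, ⟨s', hs'⟩, ninV, cV, wV⟩
  have wUx := wU ⟨p, mU⟩
  have wVx := wV ⟨p, mV⟩
  have e' := congrArg Subtype.val e
  have e2 : (LocalizedModule.mk m ⟨s, ninU ⟨p, mU⟩⟩ : GrMod.LocMod 𝒜 (M := M) p) =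
      LocalizedModule.mk m' ⟨s', ninV ⟨p, mV⟩⟩ := wUx.symm.trans (e'.trans wVx)
  rw [LocalizedModule.mk_eq] at e2
  obtain ⟨u, hu⟩ := e2
  have hu' : u.1 • s' • m = u.1 • s • m' := hu
  let B : Opens (ProjectiveSpectrum.top 𝒜) := ProjectiveSpectrum.basicOpen 𝒜 u.1
  refine ⟨⟨B ⊓ (U' ⊓ V'),
    ⟨(ProjectiveSpectrum.mem_basicOpen 𝒜 u.1 p).mpr u.2, mU, mV⟩⟩, ?_, ?_, ?_⟩
  · change B ⊓ (U' ⊓ V') ⟶ U.val
    exact Opens.infLERight _ _ ≫ Opens.infLELeft _ _ ≫ iU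
  · change B ⊓ (U' ⊓ V') ⟶ V.val
    exact Opens.infLERight _ _ ≫ Opens.infLERight _ _ ≫ iV
  · intro w
    have h1 := wU ⟨w.1, w.2.2.1⟩
    have h2 := wV ⟨w.1, w.2.2.2⟩
    apply Subtype.ext
    refine h1.trans (Eq.trans ?_ h2.symm)
    rw [LocalizedModule.mk_eq]
    exact ⟨⟨u.1, (ProjectiveSpectrum.mem_basicOpen 𝒜 u.1 w.1).mp w.2.1⟩, hu'⟩

end Groth.Agent.Lib.Helper2GrModSect
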