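import Groth.Agent.Lib.Helper2GrModSect4
import Groth.Agent.Lib.Helper2GrModStalk

/-!
# Bridge between `(Proj 𝒜).Modules`-level sections of `M(n)~` and dependent functions (helper2 port of helper27)
-/

set_option autoImplicit false
universe u

open CategoryTheory CategoryTheory.Limits AlgebraicGeometry TopologicalSpace Opposite

namespace Groth.Agent.Lib.Helper2GrModSect

variable {A σ : Type u} [CommRing A] [SetLike σ A] [AddSubgroupClass σ A] (𝒜 : ℕ → σ)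
  [GradedRing 𝒜]
variable {M τ : Type u} [AddCommGroup M] [Module A M] [SetLike τ M] [AddSubgroupClass τ M]
  (ℳ : ℕ → τ) [DirectSum.Decomposition ℳ] [SetLike.GradedSMul 𝒜 ℳ] (n : ℤ)

/-- a section of `M(n)~` over `W`, seen as a dependent function. -/
def toSect (W : (Proj 𝒜).Opens) (s : Γ(GrMod.tilde 𝒜 ℳ n, W)) : GrMod.sect 𝒜 ℳ n (op W) := s

/-- a dependent function, seen as a section of `M(n)~` over `W`. -/
def ofSect (W : (Proj 𝒜).Opens) (s : GrMod.sect 𝒜 ℳ n (op W)) : Γ(GrMod.tilde 𝒜 ℳ n, W) := s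

/-- the value of a section at a point. -/
def secVal (W : (Proj 𝒜).Opens) (s : Γ(GrMod.tilde 𝒜 ℳ n, W)) (y : ProjectiveSpectrum 𝒜)
    (hy : y ∈ W) : GrMod.LocMod 𝒜 (M := M) y :=
  ((toSect 𝒜 ℳ n W s).1 ⟨y, hy⟩).1

/-- a function on `W`, seen as a dependent function. -/
def toFun (W : (Proj 𝒜).Opens) (c : Γ(Proj 𝒜, W)) : GrTwist.O (𝒜 := 𝒜) (op W) := c

/-- the value of a function at a point. -/
def funVal (W : (Proj 𝒜).Opens) (c : Γ(Proj 𝒜, W)) (y : ProjectiveSpectrum 𝒜) (hy : y ∈ W) :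
    GrTwist.A0 𝒜 y :=
  (toFun 𝒜 W c).1 ⟨y, hy⟩

theorem secVal_ofSect (W : (Proj 𝒜).Opens) (s : GrMod.sect 𝒜 ℳ n (op W))
    (y : ProjectiveSpectrum 𝒜) (hy : y ∈ W) :
    secVal 𝒜 ℳ n W (ofSect 𝒜 ℳ n W s) y hy = (s.1 ⟨y, hy⟩).1 := rfl

theorem secVal_map {V W : (Proj 𝒜).Opens} (h : V ≤ W) (s : Γ(GrMod.tilde 𝒜 ℳ n, W))
    (y : ProjectiveSpectrum 𝒜) (hy : y ∈ V) :
    secVal 𝒜 ℳ n V ((GrMod.tilde 𝒜 ℳ n).presheaf.map (homOfLE h).op s) y hy =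
      secVal 𝒜 ℳ n W s y (h hy) := rfl

theorem funVal_map {V W : (Proj 𝒜).Opens} (h : V ≤ W) (c : Γ(Proj 𝒜, W))
    (y : ProjectiveSpectrum 𝒜) (hy : y ∈ V) :
    funVal 𝒜 V ((Proj 𝒜).presheaf.map (homOfLE h).op c) y hy = funVal 𝒜 W c y (h hy) := rfl

theorem funVal_pow (W : (Proj 𝒜).Opens) (c : Γ(Proj 𝒜, W)) (N : ℕ)
    (y : ProjectiveSpectrum 𝒜) (hy : y ∈ W) :
    funVal 𝒜 W (c ^ N) y hy = (funVal 𝒜 W c y hy) ^ N := rfl

theorem secVal_smul (W : (Proj 𝒜).Opens) (c : Γ(Proj 𝒜, W)) (s : Γ(GrMod.tilde 𝒜 ℳ n, W))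
    (y : ProjectiveSpectrum 𝒜) (hy : y ∈ W) :
    secVal 𝒜 ℳ n W (c • s) y hy = (funVal 𝒜 W c y hy).val • secVal 𝒜 ℳ n W s y hy := rfl

theorem secVal_zero (W : (Proj 𝒜).Opens) (y : ProjectiveSpectrum 𝒜) (hy : y ∈ W) :
    secVal 𝒜 ℳ n W 0 y hy = 0 := rfl

theorem sec_ext (W : (Proj 𝒜).Opens) (s s' : Γ(GrMod.tilde 𝒜 ℳ n, W))
    (h : ∀ (y : ProjectiveSpectrum 𝒜) (hy : y ∈ W),
      secVal 𝒜 ℳ n W s y hy = secVal 𝒜 ℳ n W s' y hy) : s = s' := by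
  have h1 : toSect 𝒜 ℳ n W s = toSect 𝒜 ℳ n W s' :=
    Subtype.ext (funext fun y => Subtype.ext (h y.1 y.2))
  exact h1

end Groth.Agent.Lib.Helper2GrModSect
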