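import Groth.Agent.Lib.Helper2TwistGen2
import Groth.Agent.Lib.Helper2GrModSect4

/-!
# (TF) ⇒ finitely generated sections of `M~` over `D₊(t)`, `deg t = 1` (helper2; `SetLike` gradings)

* `mfrac ht k hm` : the section `m / t^k` of `M~ = GrMod.tilde 𝒜 ℳ 0` over `D₊(t)`;
* `cfrac ht j ha` : the function `a / t^j` on `D₊(t)`;
* `finite_sections_basicOpen_degOne` : under (TF), `Γ(M~, D₊(t))` is a finite `Γ(Proj, D₊(t))`-module.
-/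

set_option autoImplicit false
universe u

open CategoryTheory CategoryTheory.Limits AlgebraicGeometry TopologicalSpace Opposite
  HomogeneousLocalization

namespace Groth.Agent.Lib.Helper2GrModSect.FT

open Groth.Agent.Lib.Helper2GrModSect

variable {A σ : Type u} [CommRing A] [SetLike σ A] [AddSubgroupClass σ A] (𝒜 : ℕ → σ)
  [GradedRing 𝒜]
variable {M τ : Type u} [AddCommGroup M] [Module A M] [SetLike τ M] [AddSubgroupClass τ M]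
  (ℳ : ℕ → τ) [DirectSum.Decomposition ℳ] [SetLike.GradedSMul 𝒜 ℳ]

/-- the section `m / t^k` of `M~` over `D₊(t)`. -/
noncomputable def mfrac {t : A} (ht : t ∈ 𝒜 1) (k : ℕ) {m : M} (hm : m ∈ ℳ k) :
    Γ(GrMod.tilde 𝒜 ℳ 0, Proj.basicOpen 𝒜 t) :=
  ofSect 𝒜 ℳ 0 _ (fracOn 𝒜 ℳ 0 (Proj.basicOpen 𝒜 t) hm (pow_mem_one ht k) (by simp)
    (pow_not_mem k))

theorem secVal_mfrac {t : A} (ht : t ∈ 𝒜 1) (k : ℕ) {m : M} (hm : m ∈ ℳ k)
    (y : ProjectiveSpectrum 𝒜) (hy : y ∈ Proj.basicOpen 𝒜 t) :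
    secVal 𝒜 ℳ 0 _ (mfrac 𝒜 ℳ ht k hm) y hy =
      (LocalizedModule.mk m (⟨t ^ k, pow_not_mem k ⟨y, hy⟩⟩ :
        y.asHomogeneousIdeal.toIdeal.primeCompl) : GrMod.LocMod 𝒜 (M := M) y) := rfl

/-- the function `a / t^j` on `D₊(t)`. -/
noncomputable def cfrac {t : A} (ht : t ∈ 𝒜 1) (j : ℕ) {a : A} (ha : a ∈ 𝒜 j) :
    Γ(Proj 𝒜, Proj.basicOpen 𝒜 t) :=
  ofFun 𝒜 (Proj.basicOpen 𝒜 t)
    ⟨fun y => HomogeneousLocalization.mk ⟨j, ⟨a, ha⟩, ⟨t ^ j, pow_mem_one ht j⟩, pow_not_mem j y⟩,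
      fun y => ⟨Proj.basicOpen 𝒜 t, y.2, 𝟙 _, j, ⟨a, ha⟩, ⟨t ^ j, pow_mem_one ht j⟩,
        fun z => pow_not_mem j z, fun _ => rfl⟩⟩

theorem funVal_cfrac {t : A} (ht : t ∈ 𝒜 1) (j : ℕ) {a : A} (ha : a ∈ 𝒜 j)
    (y : ProjectiveSpectrum 𝒜) (hy : y ∈ Proj.basicOpen 𝒜 t) :
    (funVal 𝒜 _ (cfrac 𝒜 ht j ha) y hy).val =
      (Localization.mk a (⟨t ^ j, pow_not_mem j ⟨y, hy⟩⟩ :
        y.asHomogeneousIdeal.toIdeal.primeCompl) : GrTwist.Loc 𝒜 y) := rfl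

theorem secVal_add (W : (Proj 𝒜).Opens) (s s' : Γ(GrMod.tilde 𝒜 ℳ 0, W))
    (y : ProjectiveSpectrum 𝒜) (hy : y ∈ W) :
    secVal 𝒜 ℳ 0 W (s + s') y hy = secVal 𝒜 ℳ 0 W s y hy + secVal 𝒜 ℳ 0 W s' y hy := rfl

theorem mfrac_add {t : A} (ht : t ∈ 𝒜 1) (k : ℕ) {m m' : M} (hm : m ∈ ℳ k) (hm' : m' ∈ ℳ k)
    (hmm : m + m' ∈ ℳ k) :
    mfrac 𝒜 ℳ ht k hmm = mfrac 𝒜 ℳ ht k hm + mfrac 𝒜 ℳ ht k hm' := by
  apply sec_ext
  intro y hy
  rw [secVal_add, secVal_mfrac, secVal_mfrac, secVal_mfrac]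
  rw [LocalizedModule.mk_add_mk, LocalizedModule.mk_eq]
  refine ⟨1, ?_⟩
  simp only [one_smul, smul_add, Submonoid.smul_def, mul_smul]

theorem mfrac_zero {t : A} (ht : t ∈ 𝒜 1) (k : ℕ) (h0 : (0 : M) ∈ ℳ k) :
    mfrac 𝒜 ℳ ht k h0 = 0 := by
  apply sec_ext
  intro y hy
  rw [secVal_zero, secVal_mfrac, LocalizedModule.zero_mk]

theorem mfrac_congr {t : A} (ht : t ∈ 𝒜 1) {k k' : ℕ} (hk : k = k') {m m' : M} (hm : m ∈ ℳ k)
    (hm' : m' ∈ ℳ k') (h : m = m') : mfrac 𝒜 ℳ ht k hm = mfrac 𝒜 ℳ ht k' hm' := by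
  subst hk; subst h; rfl

theorem mfrac_cancel {t : A} (ht : t ∈ 𝒜 1) (k r : ℕ) {m : M} (hm : m ∈ ℳ k)
    (htm : t ^ r • m ∈ ℳ (r + k)) :
    mfrac 𝒜 ℳ ht (r + k) htm = mfrac 𝒜 ℳ ht k hm := by
  apply sec_ext
  intro y hy
  rw [secVal_mfrac, secVal_mfrac, LocalizedModule.mk_eq]
  refine ⟨1, ?_⟩
  simp only [one_smul, Submonoid.smul_def]
  rw [smul_smul, pow_add, mul_comm]

theorem cfrac_smul_mfrac {t : A} (ht : t ∈ 𝒜 1) (j k : ℕ) {a : A} (ha : a ∈ 𝒜 j) {m : M}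
    (hm : m ∈ ℳ k) (ham : a • m ∈ ℳ (j + k)) :
    cfrac 𝒜 ht j ha • mfrac 𝒜 ℳ ht k hm = mfrac 𝒜 ℳ ht (j + k) ham := by
  apply sec_ext
  intro y hy
  rw [secVal_smul, funVal_cfrac, secVal_mfrac, secVal_mfrac]
  change (Localization.mk a _ : Localization _) • LocalizedModule.mk m _ = _
  rw [LocalizedModule.mk_smul_mk, LocalizedModule.mk_eq]
  refine ⟨1, ?_⟩
  simp only [one_smul, Submonoid.smul_def, Submonoid.coe_mul]
  rw [pow_add]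

theorem exists_mfrac {t : A} (ht : t ∈ 𝒜 1) (s : Γ(GrMod.tilde 𝒜 ℳ 0, Proj.basicOpen 𝒜 t)) :
    ∃ (k : ℕ) (m : M) (hm : m ∈ ℳ k), s = mfrac 𝒜 ℳ ht k hm := by
  obtain ⟨k, i, ⟨m, hm⟩, hi, hval⟩ := exists_global (toSect 𝒜 ℳ 0 _ s) one_pos ht
  have hi' : i = k := by
    have : (i : ℤ) = (k : ℤ) := by rw [hi]; push_cast; ring
    exact_mod_cast this
  subst hi'
  refine ⟨i, m, hm, ?_⟩
  apply sec_ext
  intro y hy
  rw [secVal_mfrac]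
  exact hval ⟨y, hy⟩

/-- **(TF) ⇒ finite sections over `D₊(t)`, `deg t = 1`.** -/
theorem finite_sections_basicOpen_degOne {t : A} (ht : t ∈ 𝒜 1)
    (hTF : ∃ n : ℕ, (Submodule.span A (⋃ k ∈ Set.Ici n, (ℳ k : Set M))).FG) :
    Module.Finite Γ(Proj 𝒜, Proj.basicOpen 𝒜 t) Γ(GrMod.tilde 𝒜 ℳ 0, Proj.basicOpen 𝒜 t) := by
  classical
  obtain ⟨n, hn⟩ := hTF
  obtain ⟨S', hS', hspan⟩ := (Submodule.fg_span_iff_fg_span_finset_subset _).mp hn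
  have hdeg : ∀ s : S', ∃ k, (s : M) ∈ ℳ k := by
    intro s
    have := hS' s.2
    simp only [Set.mem_iUnion] at this
    obtain ⟨k, -, hk⟩ := this
    exact ⟨k, hk⟩
  choose deg hdegm using hdeg
  let K : ℕ := n + ∑ s : S', deg s
  have hK : ∀ s : S', deg s ≤ K := fun s =>
    le_add_left (Finset.single_le_sum (fun _ _ => Nat.zero_le _) (Finset.mem_univ s))
  let gen : S' → Γ(GrMod.tilde 𝒜 ℳ 0, Proj.basicOpen 𝒜 t) :=
    fun s => mfrac 𝒜 ℳ ht (deg s) (hdegm s)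
  let Q : Submodule Γ(Proj 𝒜, Proj.basicOpen 𝒜 t) Γ(GrMod.tilde 𝒜 ℳ 0, Proj.basicOpen 𝒜 t) :=
    Submodule.span _ (Set.range gen)
  have hQfg : Q.FG := Submodule.fg_span (Set.finite_range gen)
  have h1 : ∀ k, K ≤ k → ∀ (m : M) (hm : m ∈ ℳ k), mfrac 𝒜 ℳ ht k hm ∈ Q := by
    intro k hk m hm
    have hnk : n ≤ k := le_trans (Nat.le_add_right _ _) hk
    have hmN : m ∈ Submodule.span A (S' : Set M) := by
      rw [← hspan]
      exact Submodule.subset_span (Set.mem_iUnion₂.mpr ⟨k, hnk, hm⟩)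
    obtain ⟨c, hc⟩ := Submodule.mem_span_finset'.mp hmN
    have hm_eq : m = ∑ s : S', (DirectSum.decompose 𝒜 (c s) (k - deg s) : A) • (s : M) := by
      have h2 : (DirectSum.decompose ℳ m k : M) = m := DirectSum.decompose_of_mem_same ℳ hm
      rw [← h2, ← hc, DirectSum.decompose_sum, DFinsupp.finsetSum_apply,
        AddSubmonoidClass.coe_finsetSum]
      refine Finset.sum_congr rfl fun s _ => ?_
      have hks : k = (k - deg s) + deg s := (Nat.sub_add_cancel ((hK s).trans hk)).symm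
      conv_lhs => rw [hks]
      exact decompose_smul 𝒜 ℳ (hdegm s) (c s) (k - deg s)
    have key : (∑ s : S', (DirectSum.decompose 𝒜 (c s) (k - deg s) : A) • (s : M)) ∈ ℳ k ∧
        ∀ hx : (∑ s : S', (DirectSum.decompose 𝒜 (c s) (k - deg s) : A) • (s : M)) ∈ ℳ k,
          mfrac 𝒜 ℳ ht k hx ∈ Q := by
      refine Finset.sum_induction _ (fun x => x ∈ ℳ k ∧ ∀ hx : x ∈ ℳ k, mfrac 𝒜 ℳ ht k hx ∈ Q)
        ?_ ?_ ?_
      · rintro x x' ⟨hx, hQx⟩ ⟨hx', hQx'⟩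
        refine ⟨add_mem hx hx', fun hxx => ?_⟩
        rw [mfrac_add 𝒜 ℳ ht k hx hx' hxx]
        exact Q.add_mem (hQx hx) (hQx' hx')
      · exact ⟨zero_mem _, fun h0 => by rw [mfrac_zero]; exact Q.zero_mem⟩
      · intro s _
        have hks : (k - deg s) + deg s = k := Nat.sub_add_cancel ((hK s).trans hk)
        have hmem : (DirectSum.decompose 𝒜 (c s) (k - deg s) : A) • (s : M) ∈
            ℳ ((k - deg s) + deg s) :=
          SetLike.GradedSMul.smul_mem (i := k - deg s) (j := deg s) (SetLike.coe_mem _) (hdegm s)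
        refine ⟨by have h' := hmem; rwa [hks] at h', fun hx => ?_⟩
        rw [mfrac_congr 𝒜 ℳ ht hks.symm hx hmem rfl,
          ← cfrac_smul_mfrac 𝒜 ℳ ht _ _ (SetLike.coe_mem _) (hdegm s) hmem]
        exact Q.smul_mem _ (Submodule.subset_span ⟨s, rfl⟩)
    have := key.2 (hm_eq ▸ hm)
    rw [mfrac_congr 𝒜 ℳ ht rfl hm (hm_eq ▸ hm) hm_eq]
    exact this
  have htop : Q = ⊤ := by
    rw [eq_top_iff]
    intro s _
    obtain ⟨k, m, hm, rfl⟩ := exists_mfrac 𝒜 ℳ ht s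
    have htm : t ^ K • m ∈ ℳ (K + k) := SetLike.GradedSMul.smul_mem (pow_mem_one ht K) hm
    rw [← mfrac_cancel 𝒜 ℳ ht k K hm htm]
    exact h1 (K + k) (Nat.le_add_right _ _) _ htm
  exact ⟨htop ▸ hQfg⟩

end Groth.Agent.Lib.Helper2GrModSect.FT
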