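import Groth.Agent.Lib.Helper2GrModSect

/-!
# Sections of `M(n)~` over `D₊(f)` are single fractions: local data (helper2 port of helper27)
-/

set_option autoImplicit false
universe u

open CategoryTheory AlgebraicGeometry TopologicalSpace Opposite

namespace Groth.Agent.Lib.Helper2GrModSect

variable {A σ : Type u} [CommRing A] [SetLike σ A] [AddSubgroupClass σ A] (𝒜 : ℕ → σ)
  [GradedRing 𝒜]
variable {M τ : Type u} [AddCommGroup M] [Module A M] [SetLike τ M] [AddSubgroupClass τ M]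
  (ℳ : ℕ → τ) [DirectSum.Decomposition ℳ] [SetLike.GradedSMul 𝒜 ℳ]
variable (n : ℤ) {f : A}
  (s : GrMod.sect 𝒜 ℳ n (op (ProjectiveSpectrum.basicOpen 𝒜 f)))

/-- local description of `s` by the fraction `m / h` on `D₊(h) ⊆ D₊(f)`. -/
structure Datum where
  e : ℕ
  h : A
  i : ℕ
  m : M
  he : 0 < e
  hh : h ∈ 𝒜 e
  hm : m ∈ ℳ i
  hdeg : (i : ℤ) = e + n
  hf : ∀ y : ProjectiveSpectrum 𝒜, h ∉ y.asHomogeneousIdeal → f ∉ y.asHomogeneousIdeal
  heq : ∀ (y : ProjectiveSpectrum.basicOpen 𝒜 f) (hy : h ∉ y.1.asHomogeneousIdeal),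
    ((s.1 y : GrMod.tildeAt 𝒜 ℳ n y.1) : GrMod.LocMod 𝒜 (M := M) y.1) =
      LocalizedModule.mk m ⟨h, hy⟩

variable {𝒜 ℳ n s}

/-- replace `m / h` by `h^L m / h^(L+1)`. -/
def Datum.pow (D : Datum 𝒜 ℳ n s) (L : ℕ) : Datum 𝒜 ℳ n s where
  e := (L + 1) * D.e
  h := D.h ^ (L + 1)
  i := L * D.e + D.i
  m := D.h ^ L • D.m
  he := Nat.mul_pos (Nat.succ_pos L) D.he
  hh := by
    have := SetLike.pow_mem_graded (L + 1) D.hh
    simpa [smul_eq_mul] using this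
  hm := by
    have h1 : D.h ^ L ∈ 𝒜 (L * D.e) := by
      have := SetLike.pow_mem_graded L D.hh
      simpa [smul_eq_mul] using this
    exact SetLike.GradedSMul.smul_mem h1 D.hm
  hdeg := by
    have := D.hdeg
    push_cast
    linarith
  hf := fun y hy => D.hf y (fun h => hy (Ideal.pow_mem_of_mem _ h _ (Nat.succ_pos L)))
  heq := fun y hy => by
    have hy' : D.h ∉ y.1.asHomogeneousIdeal :=
      fun h => hy (Ideal.pow_mem_of_mem _ h _ (Nat.succ_pos L))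
    rw [D.heq y hy', LocalizedModule.mk_eq]
    refine ⟨1, ?_⟩
    rw [one_smul, one_smul]
    change D.h ^ (L + 1) • D.m = D.h • D.h ^ L • D.m
    rw [smul_smul, pow_succ']

theorem Datum.pow_h (D : Datum 𝒜 ℳ n s) (L : ℕ) : (D.pow L).h = D.h ^ (L + 1) := rfl

theorem Datum.pow_m (D : Datum 𝒜 ℳ n s) (L : ℕ) : (D.pow L).m = D.h ^ L • D.m := rfl

theorem Datum.pow_e (D : Datum 𝒜 ℳ n s) (L : ℕ) : (D.pow L).e = (L + 1) * D.e := rfl

theorem exists_compat (D D' : Datum 𝒜 ℳ n s) :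
    ∃ N : ℕ, ∀ K : ℕ, N ≤ K → (D.h * D'.h) ^ K • (D'.h • D.m - D.h • D'.m) = 0 := by
  have hdeg : D'.e + D.i = D.e + D'.i := by
    have := D.hdeg
    have := D'.hdeg
    omega
  have hμ : D'.h • D.m - D.h • D'.m ∈ ℳ (D'.e + D.i) :=
    sub_mem (SetLike.GradedSMul.smul_mem D'.hh D.hm)
      (hdeg ▸ SetLike.GradedSMul.smul_mem D.hh D'.hm)
  refine exists_pow_smul_eq_zero 𝒜 ℳ (e := D.e + D'.e) (by have := D.he; omega)
    (SetLike.mul_mem_graded D.hh D'.hh) hμ ?_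
  intro y hy
  have hy1 : D.h ∉ y.asHomogeneousIdeal := fun h => hy (Ideal.mul_mem_right _ _ h)
  have hy2 : D'.h ∉ y.asHomogeneousIdeal := fun h => hy (Ideal.mul_mem_left _ _ h)
  have hyf : f ∉ y.asHomogeneousIdeal := D.hf y hy1
  have hyD : y ∈ ProjectiveSpectrum.basicOpen 𝒜 f := (ProjectiveSpectrum.mem_basicOpen 𝒜 f y).mpr hyf
  have e1 := D.heq ⟨y, hyD⟩ hy1
  have e2 := D'.heq ⟨y, hyD⟩ hy2
  rw [e1, LocalizedModule.mk_eq] at e2
  obtain ⟨u, hu⟩ := e2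
  refine ⟨u.1, u.2, ?_⟩
  have hu' : u.1 • D'.h • D.m = u.1 • D.h • D'.m := hu
  rw [smul_sub]
  exact sub_eq_zero.mpr hu'

/-- after raising to powers the data become strictly compatible. -/
theorem pow_compat (D D' : Datum 𝒜 ℳ n s) (L : ℕ)
    (h : (D.h * D'.h) ^ L • (D'.h • D.m - D.h • D'.m) = 0) :
    (D'.pow L).h • (D.pow L).m = (D.pow L).h • (D'.pow L).m := by
  rw [Datum.pow_h, Datum.pow_h, Datum.pow_m, Datum.pow_m]
  rw [smul_sub, sub_eq_zero] at h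
  have h1 : D'.h ^ (L + 1) • D.h ^ L • D.m = (D.h * D'.h) ^ L • D'.h • D.m := by
    simp only [smul_smul]
    congr 1
    ring
  have h2 : D.h ^ (L + 1) • D'.h ^ L • D'.m = (D.h * D'.h) ^ L • D.h • D'.m := by
    simp only [smul_smul]
    congr 1
    ring
  rw [h1, h2, h]

end Groth.Agent.Lib.Helper2GrModSect
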