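import Groth.Agent.Lib.Helper2GrModSect2

/-!
# Sections of `M(n)~` over `D₊(f)` are single fractions: existence of local data (helper2 port of helper27)
-/

set_option autoImplicit false
universe u

open CategoryTheory AlgebraicGeometry TopologicalSpace Opposite

namespace Groth.Agent.Lib.Helper2GrModSect

variable {A σ : Type u} [CommRing A] [SetLike σ A] [AddSubgroupClass σ A] {𝒜 : ℕ → σ}
  [GradedRing 𝒜]
variable {M τ : Type u} [AddCommGroup M] [Module A M] [SetLike τ M] [AddSubgroupClass τ M]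
  {ℳ : ℕ → τ} [DirectSum.Decomposition ℳ] [SetLike.GradedSMul 𝒜 ℳ]
variable {n : ℤ} {f : A}
  (s : GrMod.sect 𝒜 ℳ n (op (ProjectiveSpectrum.basicOpen 𝒜 f)))

theorem exists_datum {d : ℕ} (hd : 0 < d) (hf : f ∈ 𝒜 d)
    (x : ProjectiveSpectrum.basicOpen 𝒜 f) :
    ∃ D : Datum 𝒜 ℳ n s, D.h ∉ x.1.asHomogeneousIdeal := by
  obtain ⟨V, hxV, iV, i, j, ⟨m, hm⟩, ⟨t, ht⟩, t_nin, hij, hs⟩ :=
    (s.2 : (GrMod.isLocFrac 𝒜 ℳ n).pred s.1) x
  replace hij : (i : ℤ) = j + n ∨ m = 0 := hij
  obtain ⟨_, ⟨a, rfl⟩, hxa, haV⟩ :=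
    (ProjectiveSpectrum.isTopologicalBasis_basic_opens 𝒜).exists_subset_of_mem_open hxV V.isOpen
  have hxa' : x.1 ∈ ProjectiveSpectrum.basicOpen 𝒜 a := hxa
  rw [ProjectiveSpectrum.basicOpen_eq_union_of_projection, Opens.mem_iSup] at hxa'
  obtain ⟨r, hxr⟩ := hxa'
  have har_mem : GradedRing.proj 𝒜 r a ∈ 𝒜 r := (DirectSum.decompose 𝒜 a r).2
  have hsub : ∀ y : ProjectiveSpectrum 𝒜, GradedRing.proj 𝒜 r a ∉ y.asHomogeneousIdeal → y ∈ V := by
    intro y hy
    apply haV
    change y ∈ ProjectiveSpectrum.basicOpen 𝒜 a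
    rw [ProjectiveSpectrum.basicOpen_eq_union_of_projection, Opens.mem_iSup]
    exact ⟨r, hy⟩
  have hfx : f ∉ x.1.asHomogeneousIdeal := (ProjectiveSpectrum.mem_basicOpen 𝒜 f x.1).mp x.2
  have hxr' : GradedRing.proj 𝒜 r a ∉ x.1.asHomogeneousIdeal := hxr
  have htx : t ∉ x.1.asHomogeneousIdeal := t_nin ⟨x.1, hxV⟩
  have hsy : ∀ (y : ProjectiveSpectrum.basicOpen 𝒜 f) (hyV : y.1 ∈ V),
      ((s.1 y : GrMod.tildeAt 𝒜 ℳ n y.1) : GrMod.LocMod 𝒜 (M := M) y.1) =
        LocalizedModule.mk m ⟨t, t_nin ⟨y.1, hyV⟩⟩ := fun y hyV => hs ⟨y.1, hyV⟩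
  rcases hij with hij | hm0
  · refine ⟨{ e := d + r + j
              h := f * GradedRing.proj 𝒜 r a * t
              i := d + r + i
              m := (f * GradedRing.proj 𝒜 r a) • m
              he := by omega
              hh := SetLike.mul_mem_graded (SetLike.mul_mem_graded hf har_mem) ht
              hm := SetLike.GradedSMul.smul_mem (SetLike.mul_mem_graded hf har_mem) hm
              hdeg := by push_cast; linarith
              hf := fun y hy h => hy (Ideal.mul_mem_right _ _ (Ideal.mul_mem_right _ _ h))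
              heq := ?_ }, ?_⟩
    · intro y hy
      have hyr : GradedRing.proj 𝒜 r a ∉ y.1.asHomogeneousIdeal :=
        fun h => hy (Ideal.mul_mem_right _ _ (Ideal.mul_mem_left _ _ h))
      rw [hsy y (hsub y.1 hyr), LocalizedModule.mk_eq]
      refine ⟨1, ?_⟩
      rw [one_smul, one_smul]
      change (f * GradedRing.proj 𝒜 r a * t) • m = t • (f * GradedRing.proj 𝒜 r a) • m
      rw [smul_smul, mul_comm]
    · intro h
      rcases x.1.isPrime.mem_or_mem h with h | h
      · rcases x.1.isPrime.mem_or_mem h with h | h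
        · exact hfx h
        · exact hxr' h
      · exact htx h
  · obtain ⟨i', hi'⟩ := Int.eq_ofNat_of_zero_le
      (show (0 : ℤ) ≤ ((n.natAbs + 1) * (d + r) : ℕ) + n by
        have h1 : n.natAbs + 1 ≤ (n.natAbs + 1) * (d + r) :=
          Nat.le_mul_of_pos_right _ (by omega)
        generalize (n.natAbs + 1) * (d + r) = T at h1
        omega)
    refine ⟨{ e := (n.natAbs + 1) * (d + r)
              h := (f * GradedRing.proj 𝒜 r a) ^ (n.natAbs + 1)
              i := i'
              m := 0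
              he := Nat.mul_pos (Nat.succ_pos _) (by omega)
              hh := by
                have := SetLike.pow_mem_graded (n.natAbs + 1)
                  (SetLike.mul_mem_graded hf har_mem)
                simpa [smul_eq_mul] using this
              hm := zero_mem _
              hdeg := hi'.symm
              hf := fun y hy h => hy (Ideal.pow_mem_of_mem _ (Ideal.mul_mem_right _ _ h) _
                (Nat.succ_pos _))
              heq := ?_ }, ?_⟩
    · intro y hy
      have hyr : GradedRing.proj 𝒜 r a ∉ y.1.asHomogeneousIdeal :=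
        fun h => hy (Ideal.pow_mem_of_mem _ (Ideal.mul_mem_left _ _ h) _ (Nat.succ_pos _))
      rw [hsy y (hsub y.1 hyr), hm0, LocalizedModule.zero_mk, LocalizedModule.zero_mk]
    · intro h
      have h' := x.1.isPrime.mem_of_pow_mem _ h
      rcases x.1.isPrime.mem_or_mem h' with h | h
      · exact hfx h
      · exact hxr' h

end Groth.Agent.Lib.Helper2GrModSect
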