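import Mathlib
import Groth.Prelude.Def_Grpd

/-!
# A group scheme over `S` as a groupoid scheme (helper2)

`toGrpd G : Grpd.GroupoidScheme S` with `U = S`, `R = G.left`, `s = t = G.hom`, `c = μ.left`, and
`toGrpdHom ψ` for a homomorphism `ψ : H ⟶ G` of group objects of `Over S`.
-/

set_option autoImplicit false
set_option linter.unusedSectionVars false
universe u

open CategoryTheory CategoryTheory.Limits MonoidalCategory CartesianMonoidalCategory MonObj GrpObj AlgebraicGeometry

namespace Groth.Agent.Lib.Helper2.GrpToGrpd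

variable {S : Scheme.{u}} (G : Over S) [GrpObj G]

/-- a `T`-point of `G.left` as a morphism in `Over S` -/
abbrev pt {T : Scheme.{u}} (π : T ⟶ S) (α : T ⟶ G.left) (h : α ≫ G.hom = π) : Over.mk π ⟶ G :=
  Over.homMk α h

theorem mul_left {T : Scheme.{u}} (π : T ⟶ S) (α β : T ⟶ G.left) (hα : α ≫ G.hom = π)
    (hβ : β ≫ G.hom = π) :
    (pt G π α hα * pt G π β hβ).left =
      pullback.lift α β (hα.trans hβ.symm) ≫ (μ[G] : G ⊗ G ⟶ G).left := by
  rw [Hom.mul_def]
  rfl

theorem one_left {T : Scheme.{u}} (π : T ⟶ S) :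
    (1 : Over.mk π ⟶ G).left = π ≫ (η[G] : 𝟙_ (Over S) ⟶ G).left := by
  rw [Hom.one_def]
  rfl

theorem inv_left {T : Scheme.{u}} (π : T ⟶ S) (α : T ⟶ G.left) (hα : α ≫ G.hom = π) :
    ((pt G π α hα)⁻¹).left = α ≫ (ι[G] : G ⟶ G).left := by
  rw [Hom.inv_def]
  rfl

theorem pt_left_eq {T : Scheme.{u}} (π : T ⟶ S) (x : Over.mk π ⟶ G) :
    x = pt G π x.left (Over.w x) := by
  ext
  rfl


theorem mul_left' {T' : Over S} (x y : T' ⟶ G) :
    (x * y).left = pullback.lift x.left y.left ((Over.w x).trans (Over.w y).symm) ≫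
      (μ[G] : G ⊗ G ⟶ G).left := by
  rw [Hom.mul_def]
  rfl

theorem one_left' {T' : Over S} : (1 : T' ⟶ G).left = T'.hom ≫ (η[G] : 𝟙_ (Over S) ⟶ G).left := by
  rw [Hom.one_def]
  rfl

theorem inv_left' {T' : Over S} (x : T' ⟶ G) : (x⁻¹).left = x.left ≫ (ι[G] : G ⟶ G).left := by
  rw [Hom.inv_def]
  rfl

theorem mu_hom : (μ[G] : G ⊗ G ⟶ G).left ≫ G.hom = pullback.fst G.hom G.hom ≫ G.hom :=
  Over.w (μ[G] : G ⊗ G ⟶ G)

theorem eta_hom : (η[G] : 𝟙_ (Over S) ⟶ G).left ≫ G.hom = 𝟙 S :=
  Over.w (η[G] : 𝟙_ (Over S) ⟶ G)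

theorem iota_hom : (ι[G] : G ⟶ G).left ≫ G.hom = G.hom :=
  Over.w (ι[G] : G ⟶ G)

/-- the groupoid scheme `(S, G, G.hom, G.hom, μ)` of a group scheme over `S`. -/
noncomputable def toGrpd : Grpd.GroupoidScheme S where
  U := S
  R := G.left
  pU := 𝟙 S
  pR := G.hom
  s := G.hom
  t := G.hom
  e := (η[G] : 𝟙_ (Over S) ⟶ G).left
  i := (ι[G] : G ⟶ G).left
  c := (μ[G] : G ⊗ G ⟶ G).left
  s_over := Category.comp_id _
  t_over := Category.comp_id _
  comp_s := by
    intro T α β h
    rw [Category.assoc, mu_hom, ← Category.assoc, pullback.lift_fst, h]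
  comp_t := by
    intro T α β h
    rw [Category.assoc, mu_hom, ← Category.assoc, pullback.lift_fst]
  assoc := by
    intro T α β g3 h₁ h₂
    have := congrArg (fun x => x.left) (mul_assoc (pt G (α ≫ G.hom) α rfl)
      (pt G (α ≫ G.hom) β h₁.symm) (pt G (α ≫ G.hom) g3 (h₂.symm.trans h₁.symm)))
    simp only [mul_left'] at this
    exact this
  e_s := eta_hom G
  e_t := eta_hom G
  comp_e := by
    intro T α
    have := congrArg (fun x => x.left) (_root_.mul_one (pt G (α ≫ G.hom) α rfl))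
    simp only [mul_left', one_left'] at this
    exact this
  e_comp := by
    intro T α
    have := congrArg (fun x => x.left) (_root_.one_mul (pt G (α ≫ G.hom) α rfl))
    simp only [mul_left', one_left'] at this
    exact this
  i_s := iota_hom G
  i_t := iota_hom G
  comp_i := by
    intro T α
    have := congrArg (fun x => x.left) (mul_inv_cancel (pt G (α ≫ G.hom) α rfl))
    simp only [mul_left', one_left', inv_left'] at this
    exact this
  i_comp := by
    intro T α
    have := congrArg (fun x => x.left) (inv_mul_cancel (pt G (α ≫ G.hom) α rfl))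
    simp only [mul_left', one_left', inv_left'] at this
    exact this


noncomputable def toGrpdHom (H G : Over S) [GrpObj H] [GrpObj G] (ψ : H ⟶ G) [IsMonHom ψ] :
    Grpd.GroupoidScheme.Hom (toGrpd H) (toGrpd G) where
  fU := 𝟙 S
  fR := ψ.left
  fU_over := Category.id_comp _
  comm_s := by
    show ψ.left ≫ G.hom = H.hom ≫ 𝟙 S
    rw [Over.w ψ, Category.comp_id]
  comm_t := by
    show ψ.left ≫ G.hom = H.hom ≫ 𝟙 S
    rw [Over.w ψ, Category.comp_id]
  comm_c := by
    intro T α β h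
    have := congrArg (fun x => x.left) (MonObj.mul_comp (pt H (α ≫ H.hom) α rfl)
      (pt H (α ≫ H.hom) β h.symm) ψ)
    simp only [mul_left', Over.comp_left] at this
    exact this

end Groth.Agent.Lib.Helper2.GrpToGrpd
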