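import Mathlib
import Groth.Prelude.Def_Grpd
/-! Helper2GrpdFib: translation isomorphisms between fibres of the source map of a groupoid scheme (S7498). -/
set_option autoImplicit false
universe u
open CategoryTheory CategoryTheory.Limits AlgebraicGeometry

namespace Groth.Agent.Lib.Helper2.GrpdFib

variable {S : Scheme.{u}} (G : Grpd.GroupoidScheme S)

/-- composition on T-points -/
noncomputable def cmp {T : Scheme.{u}} (α β : T ⟶ G.R) (h : α ≫ G.s = β ≫ G.t) : T ⟶ G.R :=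
  pullback.lift α β h ≫ G.c

theorem cmp_s {T : Scheme.{u}} (α β : T ⟶ G.R) (h : α ≫ G.s = β ≫ G.t) :
    cmp G α β h ≫ G.s = β ≫ G.s := G.comp_s α β h

theorem cmp_t {T : Scheme.{u}} (α β : T ⟶ G.R) (h : α ≫ G.s = β ≫ G.t) :
    cmp G α β h ≫ G.t = α ≫ G.t := G.comp_t α β h

theorem cmp_assoc {T : Scheme.{u}} (α β γ : T ⟶ G.R) (h₁ : α ≫ G.s = β ≫ G.t)
    (h₂ : β ≫ G.s = γ ≫ G.t) :
    cmp G (cmp G α β h₁) γ ((cmp_s G α β h₁).trans h₂) =
      cmp G α (cmp G β γ h₂) (h₁.trans (cmp_t G β γ h₂).symm) := G.assoc α β γ h₁ h₂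

theorem cmp_congr {T : Scheme.{u}} {α α' β β' : T ⟶ G.R} (h : α ≫ G.s = β ≫ G.t)
    (h' : α' ≫ G.s = β' ≫ G.t) (e1 : α = α') (e2 : β = β') : cmp G α β h = cmp G α' β' h' := by
  subst e1 e2; rfl

theorem pre_cmp {T T' : Scheme.{u}} (y : T' ⟶ T) (α β : T ⟶ G.R) (h : α ≫ G.s = β ≫ G.t) :
    y ≫ cmp G α β h = cmp G (y ≫ α) (y ≫ β) (by rw [Category.assoc, Category.assoc, h]) := by
  unfold cmp
  rw [← Category.assoc]
  congr 1
  apply pullback.hom_ext
  · rw [Category.assoc, pullback.lift_fst, pullback.lift_fst]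
  · rw [Category.assoc, pullback.lift_snd, pullback.lift_snd]

theorem cmp_e {T : Scheme.{u}} (α β : T ⟶ G.R) (h : α ≫ G.s = β ≫ G.t)
    (hβ : β = α ≫ G.s ≫ G.e) : cmp G α β h = α := by
  subst hβ; exact G.comp_e α

theorem e_cmp {T : Scheme.{u}} (α β : T ⟶ G.R) (h : α ≫ G.s = β ≫ G.t)
    (hα : α = β ≫ G.t ≫ G.e) : cmp G α β h = β := by
  subst hα; exact G.e_comp β

theorem cmp_i {T : Scheme.{u}} (α β : T ⟶ G.R) (h : α ≫ G.s = β ≫ G.t)
    (hβ : β = α ≫ G.i) : cmp G α β h = α ≫ G.t ≫ G.e := by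
  subst hβ; exact G.comp_i α

theorem i_cmp {T : Scheme.{u}} (α β : T ⟶ G.R) (h : α ≫ G.s = β ≫ G.t)
    (hα : α = β ≫ G.i) : cmp G α β h = β ≫ G.s ≫ G.e := by
  subst hα; exact G.i_comp β

section transl
variable {T : Scheme.{u}} (a b : T ⟶ G.U) (σ : T ⟶ G.R) (hs : σ ≫ G.s = b) (ht : σ ≫ G.t = a)

/-- right translation by an arrow `σ : b → a`, from the fibre of `s` over `a` to that over `b` -/
noncomputable def transl : pullback G.s a ⟶ pullback G.s b :=
  pullback.lift (cmp G (pullback.fst G.s a) (pullback.snd G.s a ≫ σ)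
      (by rw [Category.assoc, ht, pullback.condition]))
    (pullback.snd G.s a) (by rw [cmp_s, Category.assoc, hs])

theorem transl_snd : transl G a b σ hs ht ≫ pullback.snd G.s b = pullback.snd G.s a :=
  pullback.lift_snd _ _ _

theorem transl_fst : transl G a b σ hs ht ≫ pullback.fst G.s b =
    cmp G (pullback.fst G.s a) (pullback.snd G.s a ≫ σ)
      (by rw [Category.assoc, ht, pullback.condition]) :=
  pullback.lift_fst _ _ _

theorem transl_transl (σ' : T ⟶ G.R) (hs' : σ' ≫ G.s = a) (ht' : σ' ≫ G.t = b)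
    (hc : cmp G σ σ' (hs.trans ht'.symm) = a ≫ G.e) :
    transl G a b σ hs ht ≫ transl G b a σ' hs' ht' = 𝟙 _ := by
  apply pullback.hom_ext
  · rw [Category.assoc, transl_fst, pre_cmp, Category.id_comp]
    have e1 : cmp G (transl G a b σ hs ht ≫ pullback.fst G.s b)
        (transl G a b σ hs ht ≫ pullback.snd G.s b ≫ σ')
        (by rw [Category.assoc, Category.assoc, Category.assoc, ht', pullback.condition]) =
        cmp G (cmp G (pullback.fst G.s a) (pullback.snd G.s a ≫ σ)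
          (by rw [Category.assoc, ht, pullback.condition])) (pullback.snd G.s a ≫ σ')
          (by rw [cmp_s, Category.assoc, Category.assoc, hs, ht']) :=
      cmp_congr G _ _ (transl_fst G a b σ hs ht)
        (by rw [← Category.assoc, transl_snd])
    rw [e1, cmp_assoc G _ _ _ _ (by rw [Category.assoc, Category.assoc, hs, ht'])]
    refine cmp_e G _ _ _ ?_
    have e2 : cmp G (pullback.snd G.s a ≫ σ) (pullback.snd G.s a ≫ σ')
        (by rw [Category.assoc, Category.assoc, hs, ht']) = pullback.snd G.s a ≫ a ≫ G.e := by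
      rw [← hc, pre_cmp]
    rw [e2, ← Category.assoc, ← pullback.condition, Category.assoc]
  · rw [Category.assoc, transl_snd, transl_snd, Category.id_comp]

end transl

theorem main (r r' : G.R) (h : G.t r = G.t r') :
    ∃ (k : Type u) (_ : Field k) (a b : Spec (CommRingCat.of k) ⟶ G.U)
      (φ : pullback G.s a ≅ pullback G.s b) (p : ↑(pullback G.s a)),
      a (IsLocalRing.closedPoint k) = G.s r ∧ b (IsLocalRing.closedPoint k) = G.s r' ∧
      φ.hom ≫ pullback.snd G.s b = pullback.snd G.s a ∧ pullback.fst G.s a p = r ∧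
      pullback.fst G.s b (φ.hom p) = r' := by
  obtain ⟨z, hz1, hz2⟩ := Scheme.Pullback.exists_preimage_pullback (f := G.t) (g := G.t) r r' h
  let P := pullback G.t G.t
  let k := P.residueField z
  let zt : Spec (CommRingCat.of k) ⟶ P := P.fromSpecResidueField z
  have hzt : zt (IsLocalRing.closedPoint k) = z := Scheme.fromSpecResidueField_apply _ _
  let ρ : Spec (CommRingCat.of k) ⟶ G.R := zt ≫ pullback.fst G.t G.t
  let ρ' : Spec (CommRingCat.of k) ⟶ G.R := zt ≫ pullback.snd G.t G.t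
  have hρ : ρ ≫ G.t = ρ' ≫ G.t := by
    simp only [ρ, ρ', Category.assoc, pullback.condition]
  have hρr : ρ (IsLocalRing.closedPoint k) = r := by
    simp only [ρ, Scheme.Hom.comp_apply, hzt, hz1]
  have hρr' : ρ' (IsLocalRing.closedPoint k) = r' := by
    simp only [ρ', Scheme.Hom.comp_apply, hzt, hz2]
  clear_value ρ ρ'
  have hσ0 : (ρ ≫ G.i) ≫ G.s = ρ' ≫ G.t := by rw [Category.assoc, G.i_s]; exact hρ
  obtain ⟨σ, hσ⟩ : ∃ σ : Spec (CommRingCat.of k) ⟶ G.R, σ = cmp G (ρ ≫ G.i) ρ' hσ0 := ⟨_, rfl⟩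
  have hs : σ ≫ G.s = ρ' ≫ G.s := by rw [hσ]; exact cmp_s G _ _ _
  have ht : σ ≫ G.t = ρ ≫ G.s := by rw [hσ, cmp_t, Category.assoc, G.i_t]
  have hs' : (σ ≫ G.i) ≫ G.s = ρ ≫ G.s := by rw [Category.assoc, G.i_s, ht]
  have ht' : (σ ≫ G.i) ≫ G.t = ρ' ≫ G.s := by rw [Category.assoc, G.i_t, hs]
  refine ⟨k, inferInstance, ρ ≫ G.s, ρ' ≫ G.s,
    ⟨transl G _ _ σ hs ht, transl G _ _ (σ ≫ G.i) hs' ht', ?_, ?_⟩,
    (pullback.lift ρ (𝟙 _) (by rw [Category.id_comp]) : Spec (CommRingCat.of k) ⟶ pullback G.s (ρ ≫ G.s))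
      (IsLocalRing.closedPoint k), ?_, ?_, ?_, ?_, ?_⟩
  · refine transl_transl G _ _ σ hs ht (σ ≫ G.i) hs' ht' ?_
    rw [cmp_i G σ (σ ≫ G.i) _ rfl, ← Category.assoc, ht]
  · refine transl_transl G _ _ (σ ≫ G.i) hs' ht' σ hs ht ?_
    rw [i_cmp G (σ ≫ G.i) σ _ rfl, ← Category.assoc, hs]
  · rw [Scheme.Hom.comp_apply, hρr]
  · rw [Scheme.Hom.comp_apply, hρr']
  · exact transl_snd G _ _ σ hs ht
  · rw [← Scheme.Hom.comp_apply, pullback.lift_fst, hρr]
  · have key : (pullback.lift ρ (𝟙 _) (by rw [Category.id_comp]) :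
        Spec (CommRingCat.of k) ⟶ pullback G.s (ρ ≫ G.s)) ≫ transl G _ _ σ hs ht ≫
          pullback.fst G.s (ρ' ≫ G.s) = ρ' := by
      rw [transl_fst, pre_cmp]
      have e1 : cmp G ((pullback.lift ρ (𝟙 _) (by rw [Category.id_comp]) :
          Spec (CommRingCat.of k) ⟶ pullback G.s (ρ ≫ G.s)) ≫ pullback.fst G.s (ρ ≫ G.s))
          ((pullback.lift ρ (𝟙 _) (by rw [Category.id_comp]) :
          Spec (CommRingCat.of k) ⟶ pullback G.s (ρ ≫ G.s)) ≫ pullback.snd G.s (ρ ≫ G.s) ≫ σ)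
          (by rw [pullback.lift_fst, pullback.lift_snd_assoc, Category.id_comp, ht]) =
          cmp G ρ σ ht.symm :=
        cmp_congr G _ _ (pullback.lift_fst _ _ _)
          (by rw [pullback.lift_snd_assoc, Category.id_comp])
      rw [e1]
      have e2 : cmp G ρ σ ht.symm = cmp G (cmp G ρ (ρ ≫ G.i) (by rw [Category.assoc, G.i_t])) ρ'
          (by rw [cmp_s]; exact hσ0) := by
        subst hσ
        exact (cmp_assoc G ρ (ρ ≫ G.i) ρ' (by rw [Category.assoc, G.i_t]) hσ0).symm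
      rw [e2]
      refine e_cmp G _ _ _ ?_
      rw [cmp_i G ρ (ρ ≫ G.i) _ rfl, ← Category.assoc, hρ, Category.assoc]
    rw [← Scheme.Hom.comp_apply, ← Scheme.Hom.comp_apply]
    erw [key]
    exact hρr'

end Groth.Agent.Lib.Helper2.GrpdFib
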