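import Mathlib
import Groth.Prelude.Def_HTop
import Groth.Agent.Lib.Helper10VCover
import Groth.Agent.Lib.Helper2FpqcV
/-! Helper2HSigma: a family is an h covering iff the coproduct morphism is (S8980). -/
set_option autoImplicit false
universe w u
open CategoryTheory CategoryTheory.Limits AlgebraicGeometry Opposite

namespace Groth.Agent.Lib.Helper2.HSigma

open HTop

theorem isVCover_iff_singleton {T : Scheme.{u}} (E : PreZeroHypercover.{u} T) :
    IsVCover E ↔ IsVCover (PreZeroHypercover.singleton.{w} (Sigma.desc E.f)) := by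
  constructor
  · intro hV U
    obtain ⟨F, hF, href⟩ := hV U
    refine ⟨F, hF, fun j => ?_⟩
    obtain ⟨i, h, hh⟩ := href j
    refine ⟨PUnit.unit, h ≫ Sigma.ι E.X i, ?_⟩
    change (h ≫ Sigma.ι E.X i) ≫ Sigma.desc E.f = _
    rw [Category.assoc, Sigma.ι_desc, hh]
  · intro hV
    let 𝒰 := AlgebraicGeometry.sigmaOpenCover E.X
    have h𝒰 : IsVCover 𝒰.toPreZeroHypercover :=
      Groth.Agent.Lib.Helper2.FpqcV.main
        (⟨𝒰.toPreZeroHypercover, Scheme.zariskiPrecoverage_le_fpqcPrecoverage _ 𝒰.mem₀⟩ :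
          Scheme.Cover Scheme.fpqcPrecoverage (∐ E.X))
    have hb := Groth.Agent.Lib.Helper10.isVCover_bind
      (PreZeroHypercover.singleton.{w} (Sigma.desc E.f)) hV
      (fun _ => 𝒰.toPreZeroHypercover) (fun _ => h𝒰)
    intro U
    obtain ⟨F, hF, href⟩ := hb U
    refine ⟨F, hF, fun j => ?_⟩
    obtain ⟨⟨_, i₀⟩, h₀, hh₀⟩ := href j
    obtain ⟨i, h, hh⟩ : ∃ (i : E.I₀) (h : F.X j ⟶ E.X i),
        h ≫ (Sigma.ι E.X i ≫ Sigma.desc E.f) = F.f j ≫ (U : T.Opens).ι := ⟨i₀, h₀, hh₀⟩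
    refine ⟨i, h, ?_⟩
    rw [← hh, Sigma.ι_desc]

theorem main {T : Scheme.{u}} (E : PreZeroHypercover.{u} T)
    (hE : ∀ i, LocallyOfFinitePresentation (E.f i)) :
    IsHCover E ↔ IsHCover (PreZeroHypercover.singleton.{w} (Sigma.desc E.f)) := by
  have hlfp : LocallyOfFinitePresentation (Sigma.desc E.f) :=
    IsZariskiLocalAtSource.sigmaDesc (P := @LocallyOfFinitePresentation) hE
  constructor
  · rintro ⟨_, hV⟩
    exact ⟨fun _ => hlfp, (isVCover_iff_singleton E).mp hV⟩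
  · rintro ⟨_, hV⟩
    exact ⟨hE, (isVCover_iff_singleton E).mpr hV⟩

end Groth.Agent.Lib.Helper2.HSigma
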