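import Mathlib
import Groth.Prelude.Def_HTop
import Groth.Prelude.Def_MoreMor
/-! Helper2HThick: a thickening of finite presentation is an h covering; h sheaves take the same sections (S8988). -/
set_option autoImplicit false
universe u
open CategoryTheory CategoryTheory.Limits AlgebraicGeometry Opposite

namespace Groth.Agent.Lib.Helper2.HThick

theorem hasValLift_singleton {X X' : Scheme.{u}} (f : X ⟶ X') [IsClosedImmersion f] [Surjective f] :
    HTop.HasValLift (PreZeroHypercover.singleton.{0} f) := by
  intro V _ _ g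
  refine ⟨V, inferInstance, inferInstance, 𝟙 V, ⟨fun a b h => h, ?_⟩, PUnit.unit, ?_⟩
  · exact ⟨fun a h => h⟩
  · haveI : IsReduced (Spec V) := inferInstance
    haveI : IsIso (pullback.fst g f) := isIso_of_isClosedImmersion_of_surjective _
    refine ⟨inv (pullback.fst g f) ≫ pullback.snd g f, ?_⟩
    change (inv (pullback.fst g f) ≫ pullback.snd g f) ≫ f = Spec.map (𝟙 V) ≫ g
    rw [Category.assoc, ← pullback.condition, IsIso.inv_hom_id_assoc, Spec.map_id, Category.id_comp]

theorem isHCover_singleton {X X' : Scheme.{u}} (f : X ⟶ X') [IsClosedImmersion f] [Surjective f]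
    [LocallyOfFinitePresentation f] :
    HTop.IsHCover (PreZeroHypercover.singleton.{0} f) := by
  refine ⟨fun _ => ?_, fun U => ?_⟩
  · change LocallyOfFinitePresentation f; infer_instance
  · haveI : IsAffine ((U : X'.Opens) : Scheme.{u}) := U.2
    haveI : IsAffine ((f ⁻¹ᵁ (U : X'.Opens) : X.Opens) : Scheme.{u}) := by
      have : IsAffineOpen (f ⁻¹ᵁ (U : X'.Opens)) := U.2.preimage f
      exact this
    haveI hs : Surjective (f ∣_ (U : X'.Opens)) :=
      IsZariskiLocalAtTarget.restrict (P := @Surjective) inferInstance _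
    refine ⟨PreZeroHypercover.singleton.{0} (f ∣_ (U : X'.Opens)),
      ⟨inferInstance, ?_, fun _ => ?_, hasValLift_singleton _⟩, ?_⟩
    · change Finite PUnit; infer_instance
    · change IsAffine ((f ⁻¹ᵁ (U : X'.Opens) : X.Opens) : Scheme.{u}); infer_instance
    · intro j
      exact ⟨PUnit.unit, (f ⁻¹ᵁ (U : X'.Opens)).ι, (morphismRestrict_ι f _).symm⟩

theorem singleton_mem_Jh (S : Scheme.{u}) {X X' : Over S} (f : X ⟶ X')
    [IsClosedImmersion f.left] [Surjective f.left] [LocallyOfFinitePresentation f.left] :
    Sieve.generate (Presieve.singleton f) ∈ HTop.Jh S X' := by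
  rw [GrothendieckTopology.mem_over_iff]
  have h1 : Presieve.singleton f.left ∈ HTop.hPrecoverage X'.left := by
    have := (HTop.presieve₀_mem_hPrecoverage_iff (PreZeroHypercover.singleton.{0} f.left)).mpr
      (isHCover_singleton f.left)
    rwa [PreZeroHypercover.presieve₀_singleton] at this
  have h2 := Precoverage.generate_mem_toGrothendieck h1
  refine GrothendieckTopology.superset_covering _ ?_ h2
  rw [Sieve.generate_le_iff]
  rintro Z g ⟨⟩
  rw [Sieve.overEquiv_iff]
  refine ⟨X, (Over.homMk (𝟙 X.left) (by simp) : Over.mk (f.left ≫ X'.hom) ⟶ X), f, ⟨⟩, ?_⟩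
  apply Over.OverMorphism.ext
  simp

theorem main (S : Scheme.{u}) (F : HTop.ShH S) {X X' : Over S} (f : X ⟶ X')
    (hf : MoreMor.IsThickening f.left) [LocallyOfFinitePresentation f.left] :
    Function.Bijective (F.obj.map f.op) := by
  haveI := hf.1
  haveI := hf.2
  have hm : Mono f := by
    haveI : Mono f.left := inferInstance
    exact (Over.forget S).mono_of_mono_map (by exact this)
  have hS : Presieve.IsSheafFor F.obj (Presieve.singleton f) := by
    rw [Presieve.isSheafFor_iff_generate]
    exact (isSheaf_iff_isSheaf_of_type _ _).mp F.property _ (singleton_mem_Jh S f)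
  rw [Presieve.isSheafFor_singleton] at hS
  have key : ∀ x : F.obj.obj (op X), ∃! y, F.obj.map f.op y = x := fun x =>
    hS x (fun p₁ p₂ e => by rw [(cancel_mono f).mp e])
  exact ⟨fun a b e => (key (F.obj.map f.op a)).unique rfl e.symm,
    fun x => (key x).exists⟩

end Groth.Agent.Lib.Helper2.HThick
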