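import Mathlib
import Groth.Agent.Lib.Helper2Hensel2

/-!
# Henselian pairs: subrings `f(A) + J` (helper2)
-/

set_option autoImplicit false
universe u

open Polynomial IsLocalRing

namespace Groth.Agent.Lib.Helper2

/-- The subring `f(A) + J` of `C`. -/
def pairSubring {A C : Type*} [CommRing A] [CommRing C] (f : A →+* C) (J : Ideal C) : Subring C where
  carrier := {c | ∃ a : A, c - f a ∈ J}
  mul_mem' := by
    rintro c c' ⟨a, ha⟩ ⟨a', ha'⟩
    refine ⟨a * a', ?_⟩
    have : c * c' - f (a * a') = c * (c' - f a') + f a' * (c - f a) := by rw [map_mul]; ring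
    rw [this]
    exact J.add_mem (J.mul_mem_left _ ha') (J.mul_mem_left _ ha)
  one_mem' := ⟨1, by rw [map_one, sub_self]; exact J.zero_mem⟩
  add_mem' := by
    rintro c c' ⟨a, ha⟩ ⟨a', ha'⟩
    refine ⟨a + a', ?_⟩
    have : c + c' - f (a + a') = (c - f a) + (c' - f a') := by rw [map_add]; ring
    rw [this]
    exact J.add_mem ha ha'
  zero_mem' := ⟨0, by rw [map_zero, sub_self]; exact J.zero_mem⟩
  neg_mem' := by
    rintro c ⟨a, ha⟩
    refine ⟨-a, ?_⟩
    have : -c - f (-a) = -(c - f a) := by rw [map_neg]; ring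
    rw [this]
    exact J.neg_mem ha

lemma mem_pairSubring {A C : Type*} [CommRing A] [CommRing C] (f : A →+* C) (J : Ideal C) (c : C) :
    c ∈ pairSubring f J ↔ ∃ a : A, c - f a ∈ J := Iff.rfl

lemma ideal_le_pairSubring {A C : Type*} [CommRing A] [CommRing C] (f : A →+* C) (J : Ideal C)
    (c : C) (hc : c ∈ J) : c ∈ pairSubring f J :=
  ⟨0, by rw [map_zero, sub_zero]; exact hc⟩

lemma map_mem_pairSubring {A C : Type*} [CommRing A] [CommRing C] (f : A →+* C) (J : Ideal C)
    (a : A) : f a ∈ pairSubring f J :=
  ⟨a, by rw [sub_self]; exact J.zero_mem⟩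

/-- A subring containing a henselian ideal is henselian along that ideal. -/
theorem henselianRing_subring {C : Type*} [CommRing C] (J : Ideal C) [hJ : HenselianRing C J]
    (T : Subring C) (hT : ∀ c ∈ J, c ∈ T) : HenselianRing T (J.comap T.subtype) where
  jac := by
    intro x hx
    rw [Ideal.mem_jacobson_bot]
    intro y
    have hx' : (x : C) ∈ J := hx
    have h1 : IsUnit ((x : C) * (y : C) + 1) := (Ideal.mem_jacobson_bot.mp (hJ.jac hx')) y
    obtain ⟨u, hu⟩ := h1.exists_right_inv
    have hu_mem : u ∈ T := by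
      have : u = 1 - (x : C) * ((y : C) * u) := by
        have : ((x : C) * (y : C) + 1) * u = (x : C) * ((y : C) * u) + u := by ring
        rw [this] at hu
        rw [← hu]; ring
      rw [this]
      exact T.sub_mem T.one_mem (hT _ (J.mul_mem_right _ hx'))
    refine IsUnit.of_mul_eq_one ⟨u, hu_mem⟩ ?_
    apply Subtype.ext
    exact hu
  is_henselian := by
    intro f hf a₀ h₁ h₂
    have e1 : (f.map T.subtype).eval (T.subtype a₀) = T.subtype (f.eval a₀) := by
      rw [eval_map, eval₂_at_apply]
    have e2 : (f.map T.subtype).derivative.eval (T.subtype a₀) =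
        T.subtype (f.derivative.eval a₀) := by
      rw [derivative_map, eval_map, eval₂_at_apply]
    have h₂' : IsUnit (Ideal.Quotient.mk J ((f.map T.subtype).derivative.eval (T.subtype a₀))) := by
      rw [e2]
      have := h₂.map (Ideal.quotientMap J T.subtype (le_refl _))
      rwa [Ideal.quotientMap_mk] at this
    obtain ⟨a, ha, ha'⟩ := hJ.is_henselian (f.map T.subtype) (hf.map _) (T.subtype a₀)
      (by rw [e1]; exact h₁) h₂'
    have ha_mem : a ∈ T := by
      have : a = (a - T.subtype a₀) + T.subtype a₀ := by ring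
      rw [this]
      exact T.add_mem (hT _ ha') a₀.2
    refine ⟨⟨a, ha_mem⟩, ?_, ?_⟩
    · show f.eval (⟨a, ha_mem⟩ : T) = 0
      apply Subtype.ext
      have : T.subtype (f.eval (⟨a, ha_mem⟩ : T)) = (f.map T.subtype).eval a := by
        rw [eval_map, ← eval₂_at_apply]; rfl
      exact this.trans ha
    · exact ha'

/-- For a local ring `A` mapping its maximal ideal into a henselian ideal `J` of a nontrivial ring
`C`, the subring `f(A) + J` is a henselian local ring. -/
theorem henselianLocalRing_pairSubring {A C : Type*} [CommRing A] [IsLocalRing A] [CommRing C]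
    [Nontrivial C] (f : A →+* C) (J : Ideal C) [hJ : HenselianRing C J]
    (hf : (maximalIdeal A).map f ≤ J) : HenselianLocalRing (pairSubring f J) := by
  set T := pairSubring f J with hTdef
  have hJT : ∀ c ∈ J, c ∈ T := ideal_le_pairSubring f J
  have hJne : (1 : C) ∉ J := by
    intro h1
    have : J = ⊤ := (Ideal.eq_top_iff_one J).mpr h1
    have h2 : Ideal.jacobson (⊥ : Ideal C) = ⊤ := top_le_iff.mp (this ▸ hJ.jac)
    exact bot_ne_top (Ideal.jacobson_eq_top_iff.mp h2)
  have hdich : ∀ t : T, (t : C) ∈ J ∨ IsUnit t := by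
    rintro ⟨c, a, ha⟩
    by_cases hau : IsUnit a
    · right
      obtain ⟨b, hb⟩ := hau.exists_right_inv
      -- c = f a + j, unit in C
      have hcu : IsUnit c := by
        have h3 : IsUnit ((c - f a) * f b + 1) := (Ideal.mem_jacobson_bot.mp (hJ.jac ha)) (f b)
        have h4 : (c - f a) * f b + 1 = c * f b := by
          have : f a * f b = 1 := by rw [← map_mul, hb, map_one]
          calc (c - f a) * f b + 1 = c * f b - f a * f b + 1 := by ring
            _ = c * f b := by rw [this]; ring
        rw [h4] at h3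
        exact isUnit_of_mul_isUnit_left h3
      obtain ⟨u, hu⟩ := hcu.exists_right_inv
      have hu_mem : u ∈ T := by
        refine ⟨b, ?_⟩
        have hab : f a * f b = 1 := by rw [← map_mul, hb, map_one]
        have : u - f b = -(f b * u * (c - f a)) := by
          have h5 : f b * u * (c - f a) = f b * (c * u) - (f a * f b) * u := by ring
          rw [h5, hu, hab]; ring
        rw [this]
        exact J.neg_mem (J.mul_mem_left _ ha)
      refine IsUnit.of_mul_eq_one ⟨u, hu_mem⟩ ?_
      apply Subtype.ext
      exact hu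
    · left
      have ham : a ∈ maximalIdeal A := by rwa [mem_maximalIdeal, mem_nonunits_iff]
      have : f a ∈ J := hf (Ideal.mem_map_of_mem f ham)
      have h6 : c = (c - f a) + f a := by ring
      show c ∈ J
      rw [h6]
      exact J.add_mem ha this
  have hnonunit : ∀ t : T, (t : C) ∈ J → ¬ IsUnit t := by
    intro t ht hu
    obtain ⟨v, hv⟩ := hu.exists_right_inv
    apply hJne
    have : (t : C) * (v : C) = 1 := congrArg Subtype.val hv
    rw [← this]
    exact J.mul_mem_right _ ht
  have hnt : Nontrivial T := inferInstance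
  have hloc : IsLocalRing T := by
    refine IsLocalRing.of_nonunits_add ?_
    intro a b ha hb
    rw [mem_nonunits_iff] at ha hb ⊢
    have ha' : (a : C) ∈ J := (hdich a).resolve_right ha
    have hb' : (b : C) ∈ J := (hdich b).resolve_right hb
    exact hnonunit _ (J.add_mem ha' hb')
  have hmax : ∀ t : T, t ∈ maximalIdeal T ↔ (t : C) ∈ J := by
    intro t
    rw [mem_maximalIdeal, mem_nonunits_iff]
    exact ⟨fun h => (hdich t).resolve_right h, hnonunit t⟩
  have hHT : HenselianRing T (J.comap T.subtype) := henselianRing_subring J T hJT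
  refine { hloc with is_henselian := ?_ }
  intro g hg a₀ h₁ h₂
  obtain ⟨a, ha, ha'⟩ := hHT.is_henselian g hg a₀ ((hmax _).mp h₁) (h₂.map _)
  exact ⟨a, ha, (hmax _).mpr ha'⟩

end Groth.Agent.Lib.Helper2
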