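import Groth.Agent.Lib.Helper2KrullCut
import Groth.Agent.Lib.Helper10GenImage
import Groth.Agent.Lib.Helper4FibDimH
import Groth.Agent.Lib.Helper4VarDim5

/-!
# Dimension of images and generizations realising the dimension of a local ring (helper2)

* `trdegNat_le_topologicalKrullDim_range`: for `f : S ⟶ X` locally of finite type with `X` locally
  of finite type over a field, `trdeg κ(f η) ≤ dim (range f)` for every `η : S` (the image of
  `closure {η}` contains a nonempty open of `closure {f η}`).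
* `exists_maximal_specializes_stalk_dim_le`: on a Noetherian scheme of finite type over a field,
  every point `s` has a maximal generization `η` with `trdeg κ(s) + dim O_{S,s} ≤ trdeg κ(η)`.
-/

set_option autoImplicit false
set_option linter.style.haveILetI false
universe u

open AlgebraicGeometry CategoryTheory TopologicalSpace Topology

namespace Groth.Agent.Lib.Helper2.ImageDim

open Groth.Agent.Lib.Helper4.VarDim Groth.Agent.Lib.Helper4.FibDim
  Groth.Agent.Lib.Helper2.KrullCut

theorem trdegNat_le_topologicalKrullDim_range (k : Type u) [Field k] {S X : Scheme.{u}}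
    [X.Over (Spec (CommRingCat.of k))] [LocallyOfFiniteType (X ↘ Spec (CommRingCat.of k))]
    (f : S ⟶ X) [LocallyOfFiniteType f] (η : S) :
    ((trdegNat k X (f η) : ℕ) : WithBot ℕ∞) ≤ topologicalKrullDim ↥(Set.range f) := by
  classical
  obtain ⟨U, hU, hyU, -⟩ := exists_isAffineOpen_mem_and_subset (x := f η) (U := ⊤) trivial
  have hηU : η ∈ f ⁻¹ᵁ U := hyU
  obtain ⟨V, hV, hηV, hVU⟩ := exists_isAffineOpen_mem_and_subset (x := η) (U := f ⁻¹ᵁ U) hηU
  have hVU' : V ≤ f ⁻¹ᵁ U := hVU
  set ψ : Γ(X, U) →+* Γ(S, V) := (f.appLE U V hVU').hom with hψ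
  letI algψ : Algebra Γ(X, U) Γ(S, V) := ψ.toAlgebra
  haveI : Algebra.FiniteType Γ(X, U) Γ(S, V) := f.finiteType_appLE hU hV hVU'
  set q : Ideal Γ(S, V) := (hV.primeIdealOf ⟨η, hηV⟩).asIdeal with hq
  have h1 : (1 : Γ(S, V)) ∉ q := (Ideal.ne_top_iff_one _).mp (Ideal.IsPrime.ne_top inferInstance)
  obtain ⟨a, ha, hlift⟩ :=
    Groth.Agent.Lib.Helper10.GenImage.exists_forall_exists_comap_eq (R := Γ(X, U)) q 1 h1
  have hcomap : ∀ (v : S) (hv : v ∈ V),
      (hV.primeIdealOf ⟨v, hv⟩).asIdeal.comap (algebraMap Γ(X, U) Γ(S, V)) =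
        (hU.primeIdealOf ⟨f v, hVU' hv⟩).asIdeal := by
    intro v hv
    ext r
    rw [Ideal.mem_comap]
    show ψ r ∈ _ ↔ _
    rw [hψ, appLE_mem_primeIdealOf_iff f hV hVU' v hv r,
      mem_primeIdealOf_iff_notMem_basicOpen hU (f v) (hVU' hv) r]
  have hyT : f η ∈ closure ({f η} : Set X) ∩ ((U : Set X) ∩ (X.basicOpen a : Set X)) := by
    refine ⟨subset_closure rfl, hyU, ?_⟩
    by_contra hcon
    apply ha
    rw [hq, hcomap η hηV, mem_primeIdealOf_iff_notMem_basicOpen hU (f η) hyU a]
    exact hcon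
  have hTlc : IsLocallyClosed
      (closure ({f η} : Set X) ∩ ((U : Set X) ∩ (X.basicOpen a : Set X))) :=
    isClosed_closure.isLocallyClosed.inter
      (U.isOpen.inter (X.basicOpen a).isOpen).isLocallyClosed
  have hTsub : closure ({f η} : Set X) ∩ ((U : Set X) ∩ (X.basicOpen a : Set X)) ⊆
      Set.range f := by
    rintro t ⟨ht1, ht2, ht3⟩
    have hsp : f η ⤳ t := specializes_iff_mem_closure.mpr ht1
    have hle : q.comap (algebraMap Γ(X, U) Γ(S, V)) ≤ (hU.primeIdealOf ⟨t, ht2⟩).asIdeal := by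
      rw [hq, hcomap η hηV]
      exact (primeIdealOf_le_iff hU (f η) t hyU ht2).mpr hsp
    have hap' : a ∉ (hU.primeIdealOf ⟨t, ht2⟩).asIdeal := by
      rw [mem_primeIdealOf_iff_notMem_basicOpen hU t ht2 a]
      exact not_not.mpr ht3
    obtain ⟨q', -, -, hq'⟩ := hlift (hU.primeIdealOf ⟨t, ht2⟩) hle hap'
    have hvV : hV.fromSpec q' ∈ V := fromSpec_mem hV q'
    have hq'eq : hV.primeIdealOf ⟨hV.fromSpec q', hvV⟩ = q' := primeIdealOf_fromSpec hV q' hvV
    refine ⟨hV.fromSpec q', ?_⟩
    apply primeIdealOf_injective hU (f (hV.fromSpec q')) t (hVU' hvV) ht2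
    apply PrimeSpectrum.ext
    rw [← hcomap (hV.fromSpec q') hvV, hq'eq]
    exact congrArg PrimeSpectrum.asIdeal hq'
  exact (trdegNat_le_topologicalKrullDim_of_isLocallyClosed k X _ hTlc (f η) hyT).trans
    (topologicalKrullDim_mono_set hTsub)

theorem exists_maximal_specializes_stalk_dim_le (k : Type u) [Field k] (S : Scheme.{u})
    [S.Over (Spec (CommRingCat.of k))] [LocallyOfFiniteType (S ↘ Spec (CommRingCat.of k))]
    [CompactSpace S] (s : S) (b : ℕ) (hb : ringKrullDim (S.presheaf.stalk s) = b) :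
    ∃ η : S, (∀ y : S, y ⤳ η → y = η) ∧ η ⤳ s ∧ trdegNat k S s + b ≤ trdegNat k S η := by
  classical
  haveI : IsLocallyNoetherian (Spec (CommRingCat.of k)) := inferInstance
  haveI : IsLocallyNoetherian S :=
    LocallyOfFiniteType.isLocallyNoetherian (S ↘ Spec (CommRingCat.of k))
  haveI : IsNoetherian S := {}
  have hfin : (irreducibleComponents S).Finite :=
    TopologicalSpace.NoetherianSpace.finite_irreducibleComponents
  by_contra hcon
  push Not at hcon
  obtain ⟨η₀, hη₀max, hη₀s⟩ := exists_maximal_specializes S s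
  have hL : 1 ≤ trdegNat k S s + b := by
    have h1 := hcon η₀ hη₀max hη₀s
    have h2 := trdegNat_le_of_specializes k S η₀ s hη₀s
    omega
  have hFfin : {P : Set S | P ∈ irreducibleComponents S ∧ s ∉ P}.Finite :=
    hfin.subset (fun P hP => hP.1)
  have hclosed : IsClosed (⋃ P ∈ {P : Set S | P ∈ irreducibleComponents S ∧ s ∉ P}, (P : Set S)) :=
    hFfin.isClosed_biUnion fun P hP => isClosed_of_mem_irreducibleComponents P hP.1
  have hsU : s ∈ (⋃ P ∈ {P : Set S | P ∈ irreducibleComponents S ∧ s ∉ P}, (P : Set S))ᶜ := by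
    intro hmem
    simp only [Set.mem_iUnion] at hmem
    obtain ⟨P, hP, hsP⟩ := hmem
    exact hP.2 hsP
  have h1 : FlatMor.localDim S s ≤ topologicalKrullDim
      ↥((⋃ P ∈ {P : Set S | P ∈ irreducibleComponents S ∧ s ∉ P}, (P : Set S))ᶜ : Set S) := by
    unfold FlatMor.localDim
    exact iInf_le (fun U : {U : Opens S // s ∈ U} => topologicalKrullDim ↥(U.1 : Set S))
      ⟨⟨_, hclosed.isOpen_compl⟩, hsU⟩
  have h2 : topologicalKrullDim
      ↥((⋃ P ∈ {P : Set S | P ∈ irreducibleComponents S ∧ s ∉ P}, (P : Set S))ᶜ : Set S) ≤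
      ((trdegNat k S s + b - 1 : ℕ) : WithBot ℕ∞) := by
    haveI := quasiSober_of_isLocallyClosed _ hclosed.isOpen_compl.isLocallyClosed
    refine topologicalKrullDim_le_of_forall_trdegNat_le k S _ _ fun u hu => ?_
    obtain ⟨η, hη, hηu⟩ := exists_generic_specializes u
    have hs_mem : s ∈ closure ({η} : Set S) := by
      by_contra hns
      apply hu
      simp only [Set.mem_iUnion]
      exact ⟨closure {η}, ⟨hη, hns⟩, specializes_iff_mem_closure.mp hηu⟩
    have h3 := hcon η (fun y hy => eq_of_specializes_generic η y hη hy)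
      (specializes_iff_mem_closure.mpr hs_mem)
    have h4 := trdegNat_le_of_specializes k S η u hηu
    exact_mod_cast (by omega : trdegNat k S u ≤ trdegNat k S s + b - 1)
  have h3 := localDim_eq_add k S s _ b (trdeg_eq_trdegNat k S s) hb
  rw [h3] at h1
  have h5 : ((trdegNat k S s + b : ℕ) : WithBot ℕ∞) ≤ ((trdegNat k S s + b - 1 : ℕ) : WithBot ℕ∞) :=
    h1.trans h2
  have h6 : trdegNat k S s + b ≤ trdegNat k S s + b - 1 := by exact_mod_cast h5
  omega

end Groth.Agent.Lib.Helper2.ImageDim
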