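import Mathlib
import Groth.Agent.Lib.Helper5LocalFlat3

set_option autoImplicit false
universe u

namespace Groth.Agent.Lib.Helper2.InfSmooth

open TensorProduct IsLocalRing

local notation "𝓀[" R "]" => ResidueField R

/-- Variant of `Algebra.IsSmoothAt.of_formallySmooth_fiber` assuming only that the localization
`S_q` is flat over `R`. -/
theorem isSmoothAt_of_flat_localization {R S : Type*} [CommRing R] [CommRing S] [Algebra R S]
    [Algebra.FinitePresentation R S] (p : Ideal R) (q : Ideal S)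
    [p.IsPrime] [q.IsPrime] [q.LiesOver p]
    [Algebra.FormallySmooth p.ResidueField (p.Fiber S)]
    (hflat : Module.Flat R (Localization.AtPrime q)) :
    Algebra.IsSmoothAt R q := by
  let Rp := Localization.AtPrime p
  let Sp := Localization (Algebra.algebraMapSubmonoid S p.primeCompl)
  let Sq := Localization.AtPrime q
  let := Localization.AtPrime.algebraOfLiesOver p q
  let f : Sp →ₐ[S] Sq := IsLocalization.liftAlgHom (M := Algebra.algebraMapSubmonoid S p.primeCompl)
        (f := Algebra.ofId _ _) (by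
      rintro ⟨_, x, hx, rfl⟩
      simpa using! IsLocalization.map_units (M := q.primeCompl) Sq ⟨algebraMap _ _ x,
        by simp_all [q.over_def p]⟩)
  algebraize [f.toRingHom]
  have : IsScalarTower R Sp Sq := .to₁₃₄ _ S _ _
  have : IsScalarTower Rp Sp Sq := .of_algebraMap_eq' <| by
    apply IsLocalization.ringHom_ext p.primeCompl
    simp only [RingHom.comp_assoc, ← IsScalarTower.algebraMap_eq]
  have : IsLocalization (Algebra.algebraMapSubmonoid Sp q.primeCompl) Sq :=
    .isLocalization_of_submonoid_le _ _ (Algebra.algebraMapSubmonoid S p.primeCompl) _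
    (by rintro _ ⟨x, hx, rfl⟩; simp_all [q.over_def p])
  have : Algebra.FinitePresentation Rp Sp := by
    have : Algebra.IsPushout R Rp S Sp :=
      .symm <| Algebra.isPushout_of_isLocalization p.primeCompl _ _ _
    exact .equiv (Algebra.IsPushout.equiv R Rp S Sp)
  have : Algebra.FormallySmooth 𝓀[Rp] (𝓀[Rp] ⊗[Rp] Sq) := by
    let : Algebra S (𝓀[Rp] ⊗[R] S) := Algebra.TensorProduct.rightAlgebra
    have : Algebra.FormallySmooth 𝓀[Rp] ((𝓀[Rp] ⊗[R] S) ⊗[S] Sq) :=
      .comp _ (𝓀[Rp] ⊗[R] S) _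
    let e : 𝓀[Rp] ⊗[R] S ≃ₐ[S] S ⊗[R] 𝓀[Rp] :=
      { __ := Algebra.TensorProduct.comm _ _ _, commutes' _ := rfl }
    let e' : (𝓀[Rp] ⊗[R] S) ⊗[S] Sq ≃ₐ[R] 𝓀[Rp] ⊗[Rp] Sq :=
      ((Algebra.TensorProduct.comm _ _ _).restrictScalars R).trans <|
      ((Algebra.TensorProduct.congr (.refl (R := S)) e).restrictScalars R).trans <|
      ((Algebra.TensorProduct.cancelBaseChange _ _ S _ _).restrictScalars R).trans <|
      (Algebra.TensorProduct.comm _ _ _).trans (Algebra.TensorProduct.equivOfCompatibleSMul ..)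
    have : e'.toAlgHom.comp (IsScalarTower.toAlgHom R p.ResidueField _) =
        IsScalarTower.toAlgHom _ _ _ := by ext
    let e'' : (𝓀[Rp] ⊗[R] S) ⊗[S] Sq ≃ₐ[𝓀[Rp]] 𝓀[Rp] ⊗[Rp] Sq :=
      { __ := e', commutes' r := congr($this r) }
    exact .of_equiv e''
  have : Module.Flat Rp Sq := by
    rw [Module.flat_iff_of_isLocalization Rp p.primeCompl]
    exact hflat
  have := Algebra.FormallySmooth.of_formallySmooth_residueField_tensor
    (R := Rp) (S := Sq) (P := Sp) (Algebra.algebraMapSubmonoid _ q.primeCompl)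
  exact .comp R Rp Sq

theorem flat_localization_of_flat_pow {A B : Type u} [CommRing A] [CommRing B] [Algebra A B]
    [IsNoetherianRing A] [IsNoetherianRing B] (J : Ideal A)
    (h : ∀ n : ℕ, Module.Flat (A ⧸ J ^ (n + 1)) ((A ⧸ J ^ (n + 1)) ⊗[A] B))
    (q : Ideal B) [q.IsPrime] (hq : J.map (algebraMap A B) ≤ q) :
    Module.Flat A (Localization.AtPrime q) := by
  have hfl : Module.Flat A (LocalizedModule q.primeCompl B) :=
    Groth.Agent.Lib.Helper5.flat_localizedModule_of_flat_baseChange_pow (A := A) (B := B) B J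
      (fun n hn => by
        obtain ⟨m, rfl⟩ := Nat.exists_eq_succ_of_ne_zero hn.ne'
        exact h m) q hq
  let e : LocalizedModule q.primeCompl B ≃ₗ[B] Localization.AtPrime q :=
    IsLocalizedModule.linearEquiv q.primeCompl (LocalizedModule.mkLinearMap q.primeCompl B)
      (Algebra.linearMap B (Localization.AtPrime q))
  exact Module.Flat.of_linearEquiv (e.restrictScalars A).symm

theorem isSmoothAt_of_smooth_pow {A B : Type u} [CommRing A] [CommRing B] [Algebra A B]
    [IsNoetherianRing A] [Algebra.FinitePresentation A B] (J : Ideal A)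
    (h : ∀ n : ℕ, Algebra.Smooth (A ⧸ J ^ (n + 1)) ((A ⧸ J ^ (n + 1)) ⊗[A] B))
    (q : Ideal B) [q.IsPrime] (hq : J.map (algebraMap A B) ≤ q) : Algebra.IsSmoothAt A q := by
  have : IsNoetherianRing B := Algebra.FiniteType.isNoetherianRing A B
  have hflat : Module.Flat A (Localization.AtPrime q) :=
    flat_localization_of_flat_pow J (fun n => by
      have := h n
      exact Algebra.Smooth.flat_of_isNoetherianRing _ _) q hq
  let p : Ideal A := q.under A
  have hJp : J ^ (0 + 1) ≤ p := by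
    intro a ha
    rw [zero_add, pow_one] at ha
    exact hq (Ideal.mem_map_of_mem _ ha)
  let φ : A ⧸ J ^ (0 + 1) →+* p.ResidueField :=
    Ideal.Quotient.lift (J ^ (0 + 1)) (algebraMap A p.ResidueField) (fun a ha => by
      rw [Ideal.algebraMap_residueField_eq_zero]
      exact hJp ha)
  letI : Algebra (A ⧸ J ^ (0 + 1)) p.ResidueField := φ.toAlgebra
  haveI : IsScalarTower A (A ⧸ J ^ (0 + 1)) p.ResidueField :=
    IsScalarTower.of_algebraMap_eq' (RingHom.ext fun a => rfl)
  have := h 0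
  have : Algebra.FormallySmooth p.ResidueField
      (p.ResidueField ⊗[A ⧸ J ^ (0 + 1)] ((A ⧸ J ^ (0 + 1)) ⊗[A] B)) := inferInstance
  have : Algebra.FormallySmooth p.ResidueField (p.Fiber B) :=
    .of_equiv (Algebra.TensorProduct.cancelBaseChange A (A ⧸ J ^ (0 + 1)) p.ResidueField
      p.ResidueField B)
  exact isSmoothAt_of_flat_localization p q hflat

attribute [local instance] Algebra.TensorProduct.rightAlgebra in
theorem isUnramifiedAt_of_unramified_quotient {A B : Type u} [CommRing A] [CommRing B] [Algebra A B]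
    [Algebra.FiniteType A B] (J : Ideal A)
    (h : Algebra.FormallyUnramified (A ⧸ J) ((A ⧸ J) ⊗[A] B))
    (q : Ideal B) [q.IsPrime] (hq : J.map (algebraMap A B) ≤ q) : Algebra.IsUnramifiedAt A q := by
  have hsub : Subsingleton ((A ⧸ J) ⊗[A] Ω[B⁄A]) :=
    (KaehlerDifferential.tensorKaehlerEquivBase A (A ⧸ J) B ((A ⧸ J) ⊗[A] B)).subsingleton
  have hsub2 : Subsingleton (Ω[B⁄A] ⧸ (J • ⊤ : Submodule A Ω[B⁄A])) :=
    (TensorProduct.quotTensorEquivQuotSMul Ω[B⁄A] J).symm.subsingleton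
  rw [Submodule.Quotient.subsingleton_iff] at hsub2
  have htop : (⊤ : Submodule B Ω[B⁄A]) ≤ (J.map (algebraMap A B)) • (⊤ : Submodule B Ω[B⁄A]) := by
    intro ω _
    have hω : ω ∈ (J • ⊤ : Submodule A Ω[B⁄A]) := by rw [hsub2]; exact Submodule.mem_top
    refine Submodule.smul_induction_on (p := fun y => y ∈ (J.map (algebraMap A B)) • (⊤ : Submodule B Ω[B⁄A])) hω ?_ ?_
    · intro a ha n _
      rw [← algebraMap_smul B a n]
      exact Submodule.smul_mem_smul (Ideal.mem_map_of_mem _ ha) Submodule.mem_top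
    · intro x y hx hy
      exact add_mem hx hy
  obtain ⟨r, hr1, hr⟩ := Submodule.exists_sub_one_mem_and_smul_eq_zero_of_fg_of_le_smul
    (J.map (algebraMap A B)) (⊤ : Submodule B Ω[B⁄A]) Module.Finite.fg_top htop
  have hrq : r ∉ q := by
    intro hmem
    have h1 : (1 : B) ∈ q := by
      have := q.sub_mem hmem (hq hr1)
      rwa [sub_sub_cancel] at this
    exact Ideal.IsPrime.ne_top' ((Ideal.eq_top_iff_one q).mpr h1)
  change (⟨q, inferInstance⟩ : PrimeSpectrum B) ∈ Algebra.unramifiedLocus A B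
  rw [Algebra.unramifiedLocus_eq_compl_support, Set.mem_compl_iff, Module.notMem_support_iff']
  intro m
  exact ⟨r, hrq, hr m Submodule.mem_top⟩

theorem isEtaleAt_of_etale_pow {A B : Type u} [CommRing A] [CommRing B] [Algebra A B]
    [IsNoetherianRing A] [Algebra.FinitePresentation A B] (J : Ideal A)
    (h : ∀ n : ℕ, Algebra.Etale (A ⧸ J ^ (n + 1)) ((A ⧸ J ^ (n + 1)) ⊗[A] B))
    (q : Ideal B) [q.IsPrime] (hq : J.map (algebraMap A B) ≤ q) : Algebra.IsEtaleAt A q := by
  have hsm : Algebra.IsSmoothAt A q :=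
    isSmoothAt_of_smooth_pow J (fun n => by have := h n; infer_instance) q hq
  have hun : Algebra.IsUnramifiedAt A q := by
    have h0 := h 0
    refine isUnramifiedAt_of_unramified_quotient (J ^ (0 + 1)) inferInstance q ?_
    rw [zero_add, pow_one]
    exact hq
  exact Algebra.FormallyEtale.iff_formallyUnramified_and_formallySmooth.mpr ⟨hun, hsm⟩

open AlgebraicGeometry CategoryTheory Limits

lemma mem_primeIdealOf_iff {X : Scheme.{u}} {U : X.Opens} (hU : IsAffineOpen U) (x : U)
    (g : Γ(X, U)) : g ∈ (hU.primeIdealOf x).asIdeal ↔ (x : X) ∉ X.basicOpen g := by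
  rw [← hU.fromSpec_primeIdealOf x, ← Scheme.Hom.mem_preimage, hU.fromSpec_preimage_basicOpen]
  change g ∈ _ ↔ ¬ (g ∉ (hU.primeIdealOf x).asIdeal)
  exact not_not.symm

/-- Affine-local form of a property of the base change of `f` to a closed subscheme. -/
theorem P_quotient_tensor (P : MorphismProperty Scheme.{u}) [P.IsStableUnderBaseChange]
    [P.IsStableUnderComposition]
    (hP : ∀ {X Y : Scheme.{u}} (g : X ⟶ Y) [IsOpenImmersion g], P g)
    {X S : Scheme.{u}} (f : X ⟶ S) (I : S.IdealSheafData) (h : P (pullback.snd f I.subschemeι))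
    (U : S.affineOpens) (V : X.affineOpens) (e : V.1 ≤ f ⁻¹ᵁ U.1) :
    letI := (f.appLE U.1 V.1 e).hom.toAlgebra
    P (Spec.map (CommRingCat.ofHom (algebraMap (Γ(S, U.1) ⧸ I.ideal U)
      ((Γ(S, U.1) ⧸ I.ideal U) ⊗[Γ(S, U.1)] Γ(X, V.1))))) := by
  letI := (f.appLE U.1 V.1 e).hom.toAlgebra
  have h' : P (pullback.fst I.subschemeι f) := by
    rw [← pullbackSymmetry_hom_comp_snd, P.cancel_left_of_respectsIso]
    exact h
  let c := I.subschemeCover.f U
  have e₁ : Spec.map (CommRingCat.ofHom (algebraMap Γ(S, U.1) (Γ(S, U.1) ⧸ I.ideal U))) ≫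
      U.2.fromSpec = c ≫ I.subschemeι := by
    rw [I.subschemeCover_map_subschemeι U, I.glueDataObjι_ι U]
  have e₂ : Spec.map (CommRingCat.ofHom (algebraMap Γ(S, U.1) Γ(X, V.1))) ≫ U.2.fromSpec =
      V.2.fromSpec ≫ f := by
    rw [← IsAffineOpen.SpecMap_appLE_fromSpec f U.2 V.2 e]
    rfl
  let m := pullback.map _ _ I.subschemeι f c V.2.fromSpec U.2.fromSpec e₁ e₂
  have hm : m ≫ pullback.fst I.subschemeι f = pullback.fst _ _ ≫ c := by
    simp only [m, pullback.map]
    rw [pullback.lift_fst]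
  have h2 := P.comp_mem _ _ (hP m) h'
  rw [hm] at h2
  have h3 := MorphismProperty.of_postcomp (W := P) (W' := @IsOpenImmersion) _ c inferInstance h2
  have h4 : P ((pullbackSpecIso Γ(S, U.1) (Γ(S, U.1) ⧸ I.ideal U) Γ(X, V.1)).inv ≫ pullback.fst _ _) :=
    (P.cancel_left_of_respectsIso _ _).mpr h3
  rw [pullbackSpecIso_inv_fst] at h4
  exact h4

lemma ideal_map_le_primeIdealOf {X S : Scheme.{u}} (f : X ⟶ S) (I : S.IdealSheafData) (x : X)
    (hx : f x ∈ I.support) {U : S.Opens} (hU : IsAffineOpen U) {V : X.Opens} (hV : IsAffineOpen V)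
    (hVU : V ≤ f ⁻¹ᵁ U) (hxV : x ∈ V) :
    (I.ideal ⟨U, hU⟩).map (f.appLE U V hVU).hom ≤ (hV.primeIdealOf ⟨x, hxV⟩).asIdeal := by
  rw [Ideal.map_le_iff_le_comap]
  have h1 := IsAffineOpen.comap_primeIdealOf_appLE U hU V hV hVU hxV
  intro a ha
  have h2 : a ∈ (hU.primeIdealOf ⟨f x, hVU hxV⟩).asIdeal := by
    rw [mem_primeIdealOf_iff]
    have h3 := (Scheme.IdealSheafData.mem_support_iff_of_mem (I := I) (U := ⟨U, hU⟩) (hVU hxV)).mp hx
    rw [Scheme.mem_zeroLocus_iff] at h3
    exact h3 a ha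
  rw [← h1] at h2
  exact h2

theorem mem_smoothLocus_of_smooth_pow {X S : Scheme.{u}} (f : X ⟶ S) [IsLocallyNoetherian S]
    [LocallyOfFinitePresentation f] (I : S.IdealSheafData)
    (h : ∀ n : ℕ, Smooth (pullback.snd f (I ^ (n + 1)).subschemeι)) (x : X)
    (hx : f x ∈ I.support) : x ∈ f.smoothLocus := by
  obtain ⟨_, ⟨U, hU, rfl⟩, hxU, -⟩ :=
    S.isBasis_affineOpens.exists_subset_of_mem_open (Set.mem_univ (f x)) isOpen_univ
  obtain ⟨_, ⟨V, hV, rfl⟩, hxV, hVU⟩ :=
    X.isBasis_affineOpens.exists_subset_of_mem_open hxU (U.2.preimage f.continuous)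
  have hfp := f.finitePresentation_appLE hU hV hVU
  have hle := ideal_map_le_primeIdealOf f I x hx hU hV hVU hxV
  algebraize [(f.appLE U V hVU).hom]
  rw [Scheme.Hom.mem_smoothLocus, formallySmooth_stalkMap_iff U hU V hV hVU hxV]
  have : IsNoetherianRing Γ(S, U) := IsLocallyNoetherian.component_noetherian ⟨U, hU⟩
  refine isSmoothAt_of_smooth_pow (I.ideal ⟨U, hU⟩) (fun n => ?_) _ hle
  have h1 := P_quotient_tensor @Smooth (fun g _ => inferInstance) f (I ^ (n + 1)) (h n)
    ⟨U, hU⟩ ⟨V, hV⟩ hVU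
  rw [HasRingHomProperty.Spec_iff (P := @Smooth)] at h1
  exact RingHom.smooth_algebraMap.mp h1

theorem exists_etale_nhd_of_etale_pow {X S : Scheme.{u}} (f : X ⟶ S) [IsLocallyNoetherian S]
    [LocallyOfFinitePresentation f] (I : S.IdealSheafData)
    (h : ∀ n : ℕ, Etale (pullback.snd f (I ^ (n + 1)).subschemeι)) (x : X)
    (hx : f x ∈ I.support) : ∃ W : X.Opens, x ∈ W ∧ Etale (W.ι ≫ f) := by
  obtain ⟨_, ⟨U, hU, rfl⟩, hxU, -⟩ :=
    S.isBasis_affineOpens.exists_subset_of_mem_open (Set.mem_univ (f x)) isOpen_univ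
  obtain ⟨_, ⟨V, hV, rfl⟩, hxV, hVU⟩ :=
    X.isBasis_affineOpens.exists_subset_of_mem_open hxU (U.2.preimage f.continuous)
  have hfp := f.finitePresentation_appLE hU hV hVU
  have hle := ideal_map_le_primeIdealOf f I x hx hU hV hVU hxV
  algebraize [(f.appLE U V hVU).hom]
  have : IsNoetherianRing Γ(S, U) := IsLocallyNoetherian.component_noetherian ⟨U, hU⟩
  have het : Algebra.IsEtaleAt Γ(S, U) (hV.primeIdealOf ⟨x, hxV⟩).asIdeal := by
    refine isEtaleAt_of_etale_pow (I.ideal ⟨U, hU⟩) (fun n => ?_) _ hle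
    have h1 := P_quotient_tensor @Etale (fun g _ => inferInstance) f (I ^ (n + 1)) (h n)
      ⟨U, hU⟩ ⟨V, hV⟩ hVU
    rw [HasRingHomProperty.Spec_iff (P := @Etale)] at h1
    exact RingHom.etale_algebraMap.mp h1
  obtain ⟨r, hrx, hr⟩ := Algebra.exists_etale_of_isEtaleAt (R := Γ(S, U))
    (hV.primeIdealOf ⟨x, hxV⟩).asIdeal
  have hW : IsAffineOpen (X.basicOpen r) := hV.basicOpen r
  have hWU : X.basicOpen r ≤ f ⁻¹ᵁ U := (X.basicOpen_le r).trans hVU
  refine ⟨X.basicOpen r, ?_, ?_⟩
  · by_contra hcon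
    exact hrx ((mem_primeIdealOf_iff hV ⟨x, hxV⟩ r).mpr hcon)
  · have hE : (f.appLE U (X.basicOpen r) hWU).hom.Etale := by
      have := hV.isLocalization_basicOpen r
      rw [← RingHom.etale_algebraMap] at hr
      convert!
        RingHom.Etale.propertyIsLocal.respectsIso.1 _
          (IsLocalization.algEquiv (.powers r) _ Γ(X, X.basicOpen r)).toRingEquiv hr
      ext a
      dsimp
      simp only [IsScalarTower.algebraMap_apply Γ(S, U) Γ(X, V) (Localization _)]
      rw [AlgEquiv.commutes]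
      simp only [RingHom.algebraMap_toAlgebra, ← ConcreteCategory.comp_apply,
        Scheme.Hom.appLE_map]
    have h2 : (X.basicOpen r).ι ≫ f = f.resLE U (X.basicOpen r) hWU ≫ Scheme.Opens.ι U := by
      simp
    rw [h2]
    have : IsAffine (Scheme.Opens.toScheme U) := hU
    have : IsAffine (X.basicOpen r).toScheme := hW
    have h3 : Etale (f.resLE U (X.basicOpen r) hWU) := by
      rw [HasRingHomProperty.iff_of_isAffine (P := @Etale)]
      exact (RingHom.Etale.propertyIsLocal.respectsIso.arrow_mk_iso_iff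
        (arrowResLEAppIso f U (X.basicOpen r) hWU)).mpr hE
    infer_instance

end Groth.Agent.Lib.Helper2.InfSmooth
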