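import Groth.Agent.S6473
import Groth.Agent.Lib.Helper4VarDim12

/-!
# Cutting down by `c` equations drops the dimension by at most `c` (helper2)

* `ringKrullDim_quotient_le_add_of_mem_minimalPrimes`: for primes `p ≤ q` of a finite type algebra
  over a field with `q` minimal over `p + (s)`: `dim A/p ≤ dim A/q + #s`.
* `le_trdegNat_add_of_generic`: scheme form: `ι : W → X` locally cut out by `c` equations (on affine
  opens where it is a closed immersion), `π : C → X` with `C` locally of finite type over a field,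
  `η ⤳ ξ` in `C`, `ξ` a maximal point of `closure {η} ∩ π⁻¹(ι W)`: `trdeg κ(η) ≤ trdeg κ(ξ) + c`.
* `exists_generic_of_mem_irreducibleComponents`: generic points of irreducible components of a
  locally closed subset, with the dimension of the component.
-/

set_option autoImplicit false
set_option linter.style.haveILetI false
universe u

open AlgebraicGeometry CategoryTheory TopologicalSpace Topology

namespace Groth.Agent.Lib.Helper2.KrullCut

open Groth.Agent.Lib.Helper4.VarDim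

/-- Krull's height theorem in catenary form for finite type algebras over a field. -/
theorem ringKrullDim_quotient_le_add_of_mem_minimalPrimes {k A : Type u} [Field k] [CommRing A]
    [Algebra k A] [Algebra.FiniteType k A] (p q : Ideal A) [p.IsPrime] [q.IsPrime] (s : Finset A)
    (hq : q ∈ (p ⊔ Ideal.span (s : Set A)).minimalPrimes) :
    ringKrullDim (A ⧸ p) ≤ ringKrullDim (A ⧸ q) + (s.card : WithBot ℕ∞) := by
  classical
  haveI : IsNoetherianRing A := Algebra.FiniteType.isNoetherianRing k A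
  have hpq : p ≤ q := le_sup_left.trans hq.1.2
  obtain ⟨m, c', hc'm, hm, hc', hquot⟩ := exists_height_quotient (k := k) p q hpq
  have hsurj : Function.Surjective (Ideal.Quotient.mk p) := Ideal.Quotient.mk_surjective
  have hcomap : (Ideal.map (Ideal.Quotient.mk p) (Ideal.span (s : Set A))).comap
      (Ideal.Quotient.mk p) = p ⊔ Ideal.span (s : Set A) := by
    rw [Ideal.comap_map_of_surjective _ hsurj, ← RingHom.ker_eq_comap_bot, Ideal.mk_ker, sup_comm]
  have hq' : q ∈ ((Ideal.map (Ideal.Quotient.mk p) (Ideal.span (s : Set A))).comap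
      (Ideal.Quotient.mk p)).minimalPrimes := by rw [hcomap]; exact hq
  rw [Ideal.comap_minimalPrimes_eq_of_surjective hsurj] at hq'
  obtain ⟨qbar, hqbar, hqbareq⟩ := hq'
  have hmapq : q.map (Ideal.Quotient.mk p) = qbar := by
    rw [← hqbareq, Ideal.map_comap_of_surjective _ hsurj]
  have hspan : Ideal.map (Ideal.Quotient.mk p) (Ideal.span (s : Set A)) =
      Ideal.span ((s.image (Ideal.Quotient.mk p) : Finset (A ⧸ p)) : Set (A ⧸ p)) := by
    rw [Ideal.map_span, Finset.coe_image]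
  rw [hspan, ← hmapq] at hqbar
  have hht : (q.map (Ideal.Quotient.mk p)).height ≤ (s.card : ℕ∞) := by
    refine (Ideal.height_le_card_of_mem_minimalPrimes_span_finset hqbar).trans ?_
    exact_mod_cast Finset.card_image_le
  rw [hc'] at hht
  have hc's : c' ≤ s.card := by exact_mod_cast hht
  rw [hm, hquot]
  have : m ≤ (m - c') + s.card := by omega
  exact_mod_cast this

theorem notMem_basicOpen_of_mem_ker {W X : Scheme.{u}} (ι : W ⟶ X) (U : X.Opens) (w : W)
    (r : Γ(X, U)) (hr : r ∈ RingHom.ker (ι.app U).hom) : ι w ∉ X.basicOpen r := by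
  intro hmem
  have h2 : w ∈ ι ⁻¹ᵁ X.basicOpen r := hmem
  rw [Scheme.preimage_basicOpen] at h2
  have h3 : (ι.app U) r = 0 := RingHom.mem_ker.mp hr
  rw [h3, Scheme.basicOpen_zero] at h2
  exact h2

theorem appLE_mem_primeIdealOf_iff {X Y : Scheme.{u}} (f : X ⟶ Y) {V : Y.Opens} {U : X.Opens}
    (hU : IsAffineOpen U) (e : U ≤ f ⁻¹ᵁ V) (x : X) (hx : x ∈ U) (a : Γ(Y, V)) :
    (f.appLE V U e).hom a ∈ (hU.primeIdealOf ⟨x, hx⟩).asIdeal ↔ f x ∉ Y.basicOpen a := by
  rw [mem_primeIdealOf_iff_notMem_basicOpen hU x hx,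
    ← Scheme.evaluation_eq_zero_iff_notMem_basicOpen X x hx,
    ← Scheme.evaluation_eq_zero_iff_notMem_basicOpen Y (f x) (e hx) a]
  have h := appLE_evaluation f e x hx a
  constructor
  · intro h0
    have h1 : (f.residueFieldMap x).hom ((Y.evaluation V (f x) (e hx)).hom a) = 0 := by
      rw [← h]; exact h0
    exact (map_eq_zero_iff _ (f.residueFieldMap x).hom.injective).mp h1
  · intro h0
    have h1 : (X.evaluation U x hx).hom ((f.appLE V U e).hom a) = 0 := by
      rw [h]
      have h0' : (Y.evaluation V (f x) (e hx)).hom a = 0 := h0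
      rw [h0', map_zero]
    exact h1

/-- Generic points of irreducible components of a locally closed subset. -/
theorem exists_generic_of_mem_irreducibleComponents (k : Type u) [Field k] (C : Scheme.{u})
    [C.Over (Spec (CommRingCat.of k))] [LocallyOfFiniteType (C ↘ Spec (CommRingCat.of k))]
    (T : Set C) (hT : IsLocallyClosed T) (Q : Set ↥T) (hQ : Q ∈ irreducibleComponents ↥T) :
    ∃ (ξ : C) (hξ : ξ ∈ T), (⟨ξ, hξ⟩ : ↥T) ∈ Q ∧
      topologicalKrullDim ↥Q = ((trdegNat k C ξ : ℕ) : WithBot ℕ∞) ∧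
      (∀ y ∈ T, y ⤳ ξ → y = ξ) ∧ ∀ t : ↥T, t ∈ Q → trdegNat k C t.1 ≤ trdegNat k C ξ := by
  haveI := quasiSober_of_isLocallyClosed T hT
  have hQc : IsClosed Q := isClosed_of_mem_irreducibleComponents Q hQ
  obtain ⟨ξ', hξ'⟩ := QuasiSober.sober hQ.1 hQc
  refine ⟨ξ'.1, ξ'.2, hξ'.mem, ?_, ?_, ?_⟩
  · have hQ'lc : IsLocallyClosed (Subtype.val '' Q : Set C) := by
      obtain ⟨Z, hZ, hZQ⟩ := isClosed_induced_iff.mp hQc
      rw [← hZQ, Subtype.image_preimage_coe]
      exact hT.inter hZ.isLocallyClosed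
    have e : topologicalKrullDim ↥Q = topologicalKrullDim ↥(Subtype.val '' Q : Set C) :=
      IsHomeomorph.topologicalKrullDim_eq _
        (Topology.IsEmbedding.subtypeVal.homeomorphImage Q).isHomeomorph
    rw [e]
    apply le_antisymm
    · haveI := quasiSober_of_isLocallyClosed (Subtype.val '' Q : Set C) hQ'lc
      refine topologicalKrullDim_le_of_forall_trdegNat_le k C _ _ fun t ht => ?_
      obtain ⟨t', ht'Q, rfl⟩ := ht
      exact_mod_cast trdegNat_le_of_specializes k C ξ'.1 t'.1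
        ((hξ'.specializes ht'Q).map continuous_subtype_val)
    · exact trdegNat_le_topologicalKrullDim_of_isLocallyClosed k C _ hQ'lc ξ'.1
        ⟨ξ', hξ'.mem, rfl⟩
  · intro y hyT hy
    have h1 : (⟨y, hyT⟩ : ↥T) ⤳ ξ' := Topology.IsInducing.subtypeVal.specializes_iff.mp hy
    have h2 := eq_of_specializes_generic ξ' ⟨y, hyT⟩ (by rw [hξ'.def]; exact hQ) h1
    exact congrArg Subtype.val h2
  · intro t ht
    exact trdegNat_le_of_specializes k C ξ'.1 t.1
      ((hξ'.specializes ht).map continuous_subtype_val)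

/-- The key inequality: cutting `closure {η}` by the preimage of a subscheme locally defined by `c`
equations drops the transcendence degree of generic points by at most `c`. -/
theorem le_trdegNat_add_of_generic (k : Type u) [Field k] (C X W : Scheme.{u})
    [C.Over (Spec (CommRingCat.of k))] [LocallyOfFiniteType (C ↘ Spec (CommRingCat.of k))]
    (π : C ⟶ X) (ι : W ⟶ X) [QuasiCompact ι] (c : ℕ)
    (hloc : ∀ w : W, ∃ U : X.affineOpens, ι w ∈ U.1 ∧ IsClosedImmersion (ι ∣_ U.1) ∧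
      ∃ rs : List Γ(X, U.1), rs.length = c ∧ RingHom.ker (ι.app U.1).hom = Ideal.ofList rs)
    (η ξ : C) (hηξ : η ⤳ ξ) (hξS : π ξ ∈ Set.range ι)
    (hgen : ∀ y : C, η ⤳ y → π y ∈ Set.range ι → y ⤳ ξ → y = ξ) :
    trdegNat k C η ≤ trdegNat k C ξ + c := by
  classical
  obtain ⟨w, hw⟩ := hξS
  obtain ⟨U, hwU, hclU, rs, hlen, hker⟩ := hloc w
  have hξU : ξ ∈ π ⁻¹ᵁ U.1 := by
    show π ξ ∈ U.1
    rw [← hw]
    exact hwU
  obtain ⟨V, hV, hξV, hVU⟩ := exists_isAffineOpen_mem_and_subset (x := ξ) (U := π ⁻¹ᵁ U.1) hξU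
  have hVU' : V ≤ π ⁻¹ᵁ U.1 := hVU
  have hηV : η ∈ V := hηξ.mem_open V.isOpen hξV
  letI algA : Algebra k Γ(C, V) := sectionsAlgebra k C V
  haveI : Algebra.FiniteType k Γ(C, V) := finiteType_sections k C hV
  set ψ : Γ(X, U.1) →+* Γ(C, V) := (π.appLE U.1 V hVU').hom with hψ
  set p : Ideal Γ(C, V) := (hV.primeIdealOf ⟨η, hηV⟩).asIdeal with hp
  set q : Ideal Γ(C, V) := (hV.primeIdealOf ⟨ξ, hξV⟩).asIdeal with hq
  set s : Finset Γ(C, V) := (rs.map ψ).toFinset with hs
  have hpq : p ≤ q := (primeIdealOf_le_iff hV η ξ hηV hξV).mpr hηξ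
  have hcrit1 : ∀ (y : C) (hy : y ∈ V), π y ∈ Set.range ι →
      ∀ r ∈ rs, ψ r ∈ (hV.primeIdealOf ⟨y, hy⟩).asIdeal := by
    rintro y hy ⟨w', hw'⟩ r hr
    rw [hψ, appLE_mem_primeIdealOf_iff π hV hVU' y hy r, ← hw']
    exact notMem_basicOpen_of_mem_ker ι U.1 w' r (by rw [hker]; exact Ideal.subset_span hr)
  have hcrit2 : ∀ (y : C) (hy : y ∈ V), (∀ r ∈ rs, ψ r ∈ (hV.primeIdealOf ⟨y, hy⟩).asIdeal) →
      π y ∈ Set.range ι := by
    intro y hy h
    apply Groth.Agent.S6473.mem_range_of_forall_notMem_basicOpen ι U hclU (π y) (hVU' hy)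
    intro r hr
    rw [hker] at hr
    rw [← appLE_mem_primeIdealOf_iff π hV hVU' y hy r]
    have hle : Ideal.ofList rs ≤ (hV.primeIdealOf ⟨y, hy⟩).asIdeal.comap ψ :=
      Ideal.span_le.mpr (fun a ha => h a ha)
    exact hle hr
  have hmemS : ∀ r ∈ rs, ψ r ∈ Ideal.span (s : Set Γ(C, V)) := fun r hr =>
    Ideal.subset_span (by
      rw [hs, List.coe_toFinset]
      exact List.mem_map.mpr ⟨r, hr, rfl⟩)
  have hmin : q ∈ (p ⊔ Ideal.span (s : Set Γ(C, V))).minimalPrimes := by
    refine ⟨⟨inferInstance, sup_le hpq (Ideal.span_le.mpr ?_)⟩, ?_⟩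
    · intro a ha
      rw [hs, List.coe_toFinset] at ha
      obtain ⟨r, hr, rfl⟩ := List.mem_map.mp ha
      exact hcrit1 ξ hξV ⟨w, hw⟩ r hr
    · rintro Q ⟨hQp, hQle⟩ hQq
      set y : C := hV.fromSpec ⟨Q, hQp⟩ with hy
      have hyV : y ∈ V := fromSpec_mem hV _
      have hQeq : hV.primeIdealOf ⟨y, hyV⟩ = ⟨Q, hQp⟩ := primeIdealOf_fromSpec hV _ hyV
      have hQ' : (hV.primeIdealOf ⟨y, hyV⟩).asIdeal = Q := by rw [hQeq]
      have h1 : η ⤳ y := (primeIdealOf_le_iff hV η y hηV hyV).mp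
        (by rw [hQ']; exact le_sup_left.trans hQle)
      have h3 : y ⤳ ξ := (primeIdealOf_le_iff hV y ξ hyV hξV).mp (by rw [hQ']; exact hQq)
      have h2 : π y ∈ Set.range ι := by
        apply hcrit2 y hyV
        intro r hr
        rw [hQ']
        exact hQle (Ideal.mem_sup_right (hmemS r hr))
      have hyξ : y = ξ := hgen y h1 h2 h3
      show q ≤ Q
      rw [← hQ']
      exact (primeIdealOf_le_iff hV ξ y hξV hyV).mpr (hyξ ▸ specializes_rfl)
  have key := ringKrullDim_quotient_le_add_of_mem_minimalPrimes (k := k) p q s hmin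
  obtain ⟨m₁, hm₁, hm₁'⟩ := exists_trdeg_eq_dim k C hV η hηV
  obtain ⟨m₂, hm₂, hm₂'⟩ := exists_trdeg_eq_dim k C hV ξ hξV
  rw [hm₁', hm₂'] at key
  have e1 := trdegNat_eq_of_trdeg_eq k C η m₁ hm₁
  have e2 := trdegNat_eq_of_trdeg_eq k C ξ m₂ hm₂
  have hcard : s.card ≤ c := by
    rw [hs, ← hlen]
    exact (List.toFinset_card_le _).trans (by rw [List.length_map])
  rw [e1, e2]
  have h4 : m₁ ≤ m₂ + s.card := by exact_mod_cast key
  omega

end Groth.Agent.Lib.Helper2.KrullCut
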