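import Mathlib
import Groth.Agent.Lib.Helper2LimLoc

/-!
# Pointwise ("on a neighbourhood of a point") descent along limits

`nhd_iff_eventually`: in the situation of `Helper2LimLoc` (no compactness at all), `f` has `P` on
a neighbourhood of `x` iff for some stage `j`, `f_j` has `P` on a neighbourhood of the image of `x`.
-/

universe u

namespace Groth.Agent.Lib.Helper2.LimLoc

open CategoryTheory CategoryTheory.Limits AlgebraicGeometry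
open Groth.Agent.Lib.Helper22.LimBC Groth.Agent.Lib.Helper26.LimDescend

variable {I : Type u} [SmallCategory I] [IsCofiltered I] (D : I ⥤ Scheme.{u}) (c : Cone D)
  (hc : IsLimit c) [∀ (i j : I) (f : i ⟶ j), IsAffineHom (D.map f)]

include hc in
theorem nhd_eventually {P : MorphismProperty Scheme.{u}} [P.IsStableUnderBaseChange]
    [P.IsStableUnderComposition] [IsZariskiLocalAtSource P] [IsZariskiLocalAtTarget P]
    (hOI : ∀ {A B : Scheme.{u}} (j : A ⟶ B) [IsOpenImmersion j], P j)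
    (H : QcqsDescent P) (i₀ : I) {X₀ Y₀ : Scheme.{u}} (f₀ : X₀ ⟶ Y₀) (g₀ : Y₀ ⟶ D.obj i₀)
    [LocallyOfFinitePresentation g₀] [LocallyOfFinitePresentation (f₀ ≫ g₀)]
    {X Y : Scheme.{u}} (f : X ⟶ Y) (g : Y ⟶ c.pt) (qY : Y ⟶ Y₀) (qX : X ⟶ X₀)
    (hY : IsPullback qY g g₀ (c.π.app i₀)) (hX : IsPullback qX f f₀ qY) (x : X)
    (U : X.Opens) (hxU : x ∈ U) (hU : P (U.ι ≫ f)) :
    ∃ (m : Over i₀) (V : ((bcDiagram D i₀ (f₀ ≫ g₀)).obj m).Opens),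
      (bcπ i₀ (hX.paste_vert hY) m) x ∈ V ∧ P (V.ι ≫ bcMor D i₀ f₀ g₀ m) := by
  have inst : ∀ {i j : I} (f : i ⟶ j), IsAffineHom (D.map f) := fun f => inferInstance
  have hXY := hX.paste_vert hY
  have hB := isBasis_preimage_isAffineOpen (bcDiagram D i₀ (f₀ ≫ g₀)) (bcCone i₀ hXY)
    (isLimitBcCone i₀ hXY hc)
  obtain ⟨_, ⟨k, Vk, hVk, rfl⟩, hxV, hVU⟩ := TopologicalSpace.Opens.isBasis_iff_nbhd.mp hB hxU
  let πk := bcπ i₀ hXY k
  have hVU' : πk ⁻¹ᵁ Vk ≤ U := hVU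
  have hxV' : x ∈ πk ⁻¹ᵁ Vk := hxV
  have : IsAffine ((Vk : ((bcDiagram D i₀ (f₀ ≫ g₀)).obj k).Opens) : Scheme.{u}) := hVk
  have h1 : LocallyOfFinitePresentation (dSnd D i₀ g₀ k) :=
    MorphismProperty.of_isPullback (P := @LocallyOfFinitePresentation) (isPullback_d D i₀ g₀ k)
      inferInstance
  have h2 : LocallyOfFinitePresentation (dSnd D i₀ (f₀ ≫ g₀) k) :=
    MorphismProperty.of_isPullback (P := @LocallyOfFinitePresentation)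
      (isPullback_d D i₀ (f₀ ≫ g₀) k) inferInstance
  have h3 : LocallyOfFinitePresentation ((Vk.ι ≫ bcMor D i₀ f₀ g₀ k) ≫ dSnd D i₀ g₀ k) := by
    rw [Category.assoc, bcMor_snd]
    infer_instance
  have hY' := isPullback_bcπ i₀ hY k
  have hX' : IsPullback (πk ∣_ Vk) ((πk ⁻¹ᵁ Vk).ι ≫ f) (Vk.ι ≫ bcMor D i₀ f₀ g₀ k)
      (bcπ i₀ hY k) :=
    (isPullback_morphismRestrict πk Vk).paste_vert (isPullback_bcπ_bcMor hY hX k)
  have hPf' : P ((πk ⁻¹ᵁ Vk).ι ≫ f) := by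
    have := IsZariskiLocalAtSource.comp (P := P) hU (X.homOfLE hVU')
    rwa [← Category.assoc, Scheme.homOfLE_ι] at this
  obtain ⟨j', hj'⟩ := exists_bcMor_of_compact D c hc hOI H k.left
    (Vk.ι ≫ bcMor D i₀ f₀ g₀ k) (dSnd D i₀ g₀ k) ((πk ⁻¹ᵁ Vk).ι ≫ f) g (bcπ i₀ hY k)
    (πk ∣_ Vk) hY' hX' hPf'
  let m : Over i₀ := Over.mk (j'.hom ≫ k.hom)
  let a : m ⟶ k := Over.homMk j'.hom rfl
  let t := (bcDiagram D i₀ (f₀ ≫ g₀)).map a
  let h := (bcDiagram D i₀ g₀).map a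
  refine ⟨m, t ⁻¹ᵁ Vk, ?_, ?_⟩
  · show t ((bcπ i₀ hXY m) x) ∈ Vk
    rw [← Scheme.Hom.comp_apply, bcπ_map]
    exact hxV'
  · have S2 : IsPullback (t ∣_ Vk) ((t ⁻¹ᵁ Vk).ι ≫ bcMor D i₀ f₀ g₀ m)
        (Vk.ι ≫ bcMor D i₀ f₀ g₀ k) h :=
      (isPullback_morphismRestrict t Vk).paste_vert (isPullback_map_bcMor D i₀ f₀ g₀ a)
    have S1 := isPullback_bcMor D k.left (Vk.ι ≫ bcMor D i₀ f₀ g₀ k) (dSnd D i₀ g₀ k) j'
    refine of_two_pullbacks P S2 S1 (dLift j' h (dSnd D i₀ g₀ m) ?_) ?_ hj'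
    · exact map_dSnd D i₀ g₀ a
    · rw [dLift_fst]

include hc in
/-- `f` has `P` near `x` iff some `f_j` has `P` near the image of `x`. -/
theorem nhd_iff_eventually {P : MorphismProperty Scheme.{u}} [P.IsStableUnderBaseChange]
    [P.IsStableUnderComposition] [IsZariskiLocalAtSource P] [IsZariskiLocalAtTarget P]
    (hOI : ∀ {A B : Scheme.{u}} (j : A ⟶ B) [IsOpenImmersion j], P j)
    (H : QcqsDescent P) (i₀ : I) {X₀ Y₀ : Scheme.{u}} (f₀ : X₀ ⟶ Y₀) (g₀ : Y₀ ⟶ D.obj i₀)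
    [LocallyOfFinitePresentation g₀] [LocallyOfFinitePresentation (f₀ ≫ g₀)]
    {X Y : Scheme.{u}} (f : X ⟶ Y) (g : Y ⟶ c.pt) (qY : Y ⟶ Y₀) (qX : X ⟶ X₀)
    (hY : IsPullback qY g g₀ (c.π.app i₀)) (hX : IsPullback qX f f₀ qY) (x : X) :
    (∃ U : X.Opens, x ∈ U ∧ P (U.ι ≫ f)) ↔
      ∃ (j : I) (φ : j ⟶ i₀) (Xj Yj : Scheme.{u}) (fj : Xj ⟶ Yj) (gj : Yj ⟶ D.obj j)
        (pY : Yj ⟶ Y₀) (pX : Xj ⟶ X₀) (rX : X ⟶ Xj),
        IsPullback pY gj g₀ (D.map φ) ∧ IsPullback pX fj f₀ pY ∧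
          rX ≫ pX = qX ∧ rX ≫ fj ≫ gj = f ≫ g ≫ c.π.app j ∧
            ∃ V : Xj.Opens, rX.base x ∈ V ∧ P (V.ι ≫ fj) := by
  constructor
  · rintro ⟨U, hxU, hU⟩
    obtain ⟨m, V, hxV, hV⟩ := nhd_eventually D c hc hOI H i₀ f₀ g₀ f g qY qX hY hX x U hxU hU
    refine ⟨m.left, m.hom, _, _, bcMor D i₀ f₀ g₀ m, dSnd D i₀ g₀ m, dFst D i₀ g₀ m,
      dFst D i₀ (f₀ ≫ g₀) m, bcπ i₀ (hX.paste_vert hY) m, isPullback_d D i₀ g₀ m,
      isPullback_bcMor D i₀ f₀ g₀ m, bcπ_fst _ _ _, ?_, V, hxV, hV⟩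
    rw [bcMor_snd, bcπ_snd, Category.assoc]
  · rintro ⟨j, φ, Xj, Yj, fj, gj, pY, pX, rX, hYj, hXj, h1, h2, V, hxV, hV⟩
    have hw : qY ≫ g₀ = (g ≫ c.π.app j) ≫ D.map φ := by
      rw [Category.assoc, c.w, hY.w]
    let u : Y ⟶ Yj := hYj.lift qY (g ≫ c.π.app j) hw
    have hu : u ≫ pY = qY := hYj.lift_fst _ _ _
    have hu' : u ≫ gj = g ≫ c.π.app j := hYj.lift_snd _ _ _
    have hv' : rX ≫ fj = f ≫ u := by
      apply hYj.hom_ext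
      · rw [Category.assoc, Category.assoc, hu, ← hXj.w, reassoc_of% h1, hX.w]
      · rw [Category.assoc, Category.assoc, hu', h2]
    have s : IsPullback (rX ≫ pX) f f₀ (u ≫ pY) := by
      rw [h1, hu]; exact hX
    have hpb : IsPullback rX f fj u := IsPullback.of_right s hv' hXj
    refine ⟨rX ⁻¹ᵁ V, hxV, ?_⟩
    exact P.of_isPullback ((isPullback_morphismRestrict rX V).paste_vert hpb) hV

end Groth.Agent.Lib.Helper2.LimLoc
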