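import Mathlib
import Groth.Prelude.Def_HTop
import Groth.Prelude.Def_SGA1
import Groth.Agent.Lib.Helper2ValSpec
/-! Helper2VSubm: a V covering is universally submersive (S7477). -/
set_option autoImplicit false
universe w u
open CategoryTheory CategoryTheory.Limits AlgebraicGeometry Opposite IsLocalRing

namespace Groth.Agent.Lib.Helper2.VSubm

open Groth.Agent.Lib.Helper2.ValSpec

/-- A V covering family has the valuative lifting property. -/
theorem hasValLift_of_isVCover {T : Scheme.{u}} (E : PreZeroHypercover.{w} T)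
    (h : HTop.IsVCover E) : HTop.HasValLift E := by
  intro V _ _ g
  obtain ⟨_, ⟨U₀, hU, rfl⟩, hyU, -⟩ :=
    T.isBasis_affineOpens.exists_subset_of_mem_open (Set.mem_univ (g (closedPoint V))) isOpen_univ
  obtain ⟨U, rfl⟩ : ∃ U : T.Opens, U = U₀ := ⟨U₀, rfl⟩
  have hrange : Set.range g ⊆ Set.range (U.ι) := by
    rintro _ ⟨p, rfl⟩
    rw [Scheme.Opens.range_ι]
    exact ((specializes_closedPoint p).map g.continuous).mem_open U.2 hyU
  let gU : Spec V ⟶ (U : Scheme.{u}) := IsOpenImmersion.lift U.ι g hrange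
  have hgU : gU ≫ U.ι = g := IsOpenImmersion.lift_fac _ _ _
  obtain ⟨F, hF, href⟩ := h ⟨U, hU⟩
  obtain ⟨W, hW1, hW2, φ, hext, j, g'', hg''⟩ := hF.lift V gU
  obtain ⟨i, k, hk⟩ := href j
  refine ⟨W, hW1, hW2, φ, hext, i, g'' ≫ k, ?_⟩
  rw [Category.assoc, hk, ← Category.assoc, hg'', Category.assoc]
  congr 1

/-- Points in the closure of the image of a closed set under a ring map are specializations
of points of the image. -/
theorem spec_exists_specializes {R S : CommRingCat.{u}} (φ : R ⟶ S) (C : Set (Spec S))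
    (hC : IsClosed C) (y : Spec R) (hy : y ∈ closure (Spec.map φ '' C)) :
    ∃ c ∈ C, Spec.map φ c ⤳ y := by
  obtain ⟨I, rfl⟩ := (PrimeSpectrum.isClosed_iff_zeroLocus_ideal (R := S) C).mp hC
  have hy' : y ∈ closure (PrimeSpectrum.comap φ.hom '' PrimeSpectrum.zeroLocus (I : Set S)) := hy
  rw [PrimeSpectrum.closure_image_comap_zeroLocus] at hy'
  have hle : I.comap φ.hom ≤ (y : PrimeSpectrum R).asIdeal := hy'
  obtain ⟨q, hqI, hq, hqle⟩ := Ideal.exists_ideal_comap_le_prime (y : PrimeSpectrum R).asIdeal I hle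
  refine ⟨(⟨q, hq⟩ : PrimeSpectrum S), hqI, ?_⟩
  exact (PrimeSpectrum.le_iff_specializes (⟨q.comap φ.hom, inferInstance⟩ : PrimeSpectrum R) y).mp hqle

theorem affine_exists_specializes {A U : Scheme.{u}} [IsAffine A] [IsAffine U] (h : A ⟶ U)
    (C : Set A) (hC : IsClosed C) (y : U) (hy : y ∈ closure (h '' C)) :
    ∃ c ∈ C, h c ⤳ y := by
  have hnat : A.isoSpec.hom ≫ Spec.map h.appTop = h ≫ U.isoSpec.hom :=
    Scheme.isoSpec_hom_naturality h
  have hnat' : ∀ a : A, Spec.map h.appTop (A.isoSpec.hom a) = U.isoSpec.hom (h a) := fun a =>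
    congrArg (fun m : A ⟶ Spec Γ(U, ⊤) => m a) hnat
  have hC' : IsClosed (A.isoSpec.hom '' C) :=
    (Scheme.Hom.homeomorph A.isoSpec.hom).isClosedMap C hC
  have hy' : U.isoSpec.hom y ∈ closure (Spec.map h.appTop '' (A.isoSpec.hom '' C)) := by
    have h1 : U.isoSpec.hom y ∈ U.isoSpec.hom '' closure (h '' C) := ⟨y, hy, rfl⟩
    have h2 := image_closure_subset_closure_image U.isoSpec.hom.continuous h1
    have h3 : U.isoSpec.hom '' (h '' C) = Spec.map h.appTop '' (A.isoSpec.hom '' C) := by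
      ext p
      constructor
      · rintro ⟨_, ⟨a, ha, rfl⟩, rfl⟩
        exact ⟨_, ⟨a, ha, rfl⟩, hnat' a⟩
      · rintro ⟨_, ⟨a, ha, rfl⟩, rfl⟩
        exact ⟨_, ⟨a, ha, rfl⟩, (hnat' a).symm⟩
    rw [h3] at h2
    exact h2
  obtain ⟨_, ⟨c, hc, rfl⟩, hsp⟩ := spec_exists_specializes h.appTop _ hC' _ hy'
  refine ⟨c, hc, ?_⟩
  rw [hnat'] at hsp
  have := hsp.map U.isoSpec.inv.continuous
  have e1 : ∀ u : U, U.isoSpec.inv (U.isoSpec.hom u) = u := fun u => by
    rw [← Scheme.Hom.comp_apply, Iso.hom_inv_id]; rfl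
  rw [e1, e1] at this
  exact this

theorem univSubmersive_of_isVCover {X : Scheme.{u}} (E : PreZeroHypercover.{u} X)
    (hE : HTop.IsVCover E) : SGA1.UnivSubmersive (Sigma.desc E.f) := by
  have hval := hasValLift_of_isVCover E hE
  intro P Y' i₁ i₂ f' hpb
  have lift : ∀ (V : CommRingCat.{u}) [IsDomain V] [ValuationRing V] (s : Spec V ⟶ Y'),
      ∃ (W : CommRingCat.{u}) (_ : IsDomain W) (_ : ValuationRing W) (φ : V ⟶ W),
        HTop.IsExtVal V W φ ∧ ∃ l : Spec W ⟶ P, l ≫ f' = Spec.map φ ≫ s := by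
    intro V _ _ s
    obtain ⟨W, hW1, hW2, φ, hext, j, g'', hg''⟩ := hval V (s ≫ i₂)
    refine ⟨W, hW1, hW2, φ, hext,
      hpb.lift (Spec.map φ ≫ s) (g'' ≫ Sigma.ι E.X j) ?_, hpb.lift_fst _ _ _⟩
    rw [Category.assoc, Category.assoc, Sigma.ι_desc, hg'']
  have hsurj : Function.Surjective f' := by
    intro y
    haveI : ValuationRing (Y'.residueField y) := ValuationRing.of_field _
    obtain ⟨W, hW1, hW2, φ, hext, l, hl⟩ := lift (Y'.residueField y) (Y'.fromSpecResidueField y)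
    refine ⟨l (closedPoint W), ?_⟩
    rw [← Scheme.Hom.comp_apply, hl, Scheme.Hom.comp_apply, Scheme.fromSpecResidueField_apply]
  have hspec : ∀ (Z : Set Y'), IsClosed (f' ⁻¹' Z) → ∀ z y : Y', z ⤳ y → z ∈ Z → y ∈ Z := by
    intro Z hZ z y hsp hz
    obtain ⟨V₀, hV1, hV2, k, hc, hg⟩ := exists_valRing_of_specializes z y hsp
    obtain ⟨W, hW1, hW2, φ, ⟨hinj, hloc⟩, l, hl⟩ := lift V₀ k
    have e : Spec.map φ (⟨⊥, Ideal.isPrime_bot⟩ : PrimeSpectrum W) =
        (⟨⊥, Ideal.isPrime_bot⟩ : PrimeSpectrum V₀) := by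
      apply PrimeSpectrum.ext
      change Ideal.comap φ.hom ⊥ = ⊥
      rw [← RingHom.ker_eq_comap_bot]
      exact (RingHom.injective_iff_ker_eq_bot _).mp hinj
    have e' : Spec.map φ (closedPoint W) = closedPoint V₀ :=
      (isLocalHom_iff_comap_closedPoint φ.hom).mp hloc
    have h1 : l (⟨⊥, Ideal.isPrime_bot⟩ : PrimeSpectrum W) ∈ f' ⁻¹' Z := by
      change f' (l _) ∈ Z
      rw [← Scheme.Hom.comp_apply, hl, Scheme.Hom.comp_apply, e, hg]
      exact hz
    have h2 : l (closedPoint W) ∈ f' ⁻¹' Z :=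
      hZ.stableUnderSpecialization ((specializes_closedPoint _).map l.continuous) h1
    change f' (l _) ∈ Z at h2
    rw [← Scheme.Hom.comp_apply, hl, Scheme.Hom.comp_apply, e', hc] at h2
    exact h2
  change Topology.IsQuotientMap f'
  rw [Topology.isQuotientMap_iff_isClosed]
  refine ⟨hsurj, fun Z => ⟨fun hZ => hZ.preimage f'.continuous, fun hZ => ?_⟩⟩
  rw [← closure_subset_iff_isClosed]
  intro y hy
  obtain ⟨_, ⟨UX₀, hUX, rfl⟩, hyUX, -⟩ :=
    X.isBasis_affineOpens.exists_subset_of_mem_open (Set.mem_univ (i₂ y)) isOpen_univ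
  obtain ⟨UX, rfl⟩ : ∃ U : X.Opens, U = UX₀ := ⟨UX₀, rfl⟩
  obtain ⟨_, ⟨U₀, hU, rfl⟩, hyU, hUle⟩ :=
    Y'.isBasis_affineOpens.exists_subset_of_mem_open
      (show y ∈ ((i₂ ⁻¹ᵁ UX : Y'.Opens) : Set Y') from hyUX) (i₂ ⁻¹ᵁ UX).2
  obtain ⟨U, rfl⟩ : ∃ U : Y'.Opens, U = U₀ := ⟨U₀, rfl⟩
  obtain ⟨F, hF, href⟩ := hE ⟨UX, hUX⟩
  have hrange : Set.range (U.ι ≫ i₂) ⊆ Set.range UX.ι := by
    rintro _ ⟨p, rfl⟩
    rw [Scheme.Opens.range_ι]
    have hp : U.ι p ∈ (U : Set Y') := by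
      have : U.ι p ∈ Set.range U.ι := ⟨p, rfl⟩
      rwa [Scheme.Opens.range_ι] at this
    exact hUle hp
  let gU : (U : Scheme.{u}) ⟶ (UX : Scheme.{u}) := IsOpenImmersion.lift UX.ι (U.ι ≫ i₂) hrange
  have hgU : gU ≫ UX.ι = U.ι ≫ i₂ := IsOpenImmersion.lift_fac _ _ _
  haveI : IsAffine (U : Scheme.{u}) := hU
  haveI : IsAffine (UX : Scheme.{u}) := hUX
  haveI := hF.finite_index
  haveI := hF.isAffine_obj
  choose idx r hr using href
  let A : F.I₀ → Scheme.{u} := fun j => pullback (F.f j) gU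
  let h : ∀ j, A j ⟶ (U : Scheme.{u}) := fun j => pullback.snd (F.f j) gU
  let C : ∀ j, Set (A j) := fun j => (h j ≫ U.ι) ⁻¹' Z
  have hCcl : ∀ j, IsClosed (C j) := by
    intro j
    let m : A j ⟶ P := hpb.lift (h j ≫ U.ι)
      (pullback.fst (F.f j) gU ≫ r j ≫ Sigma.ι E.X (idx j)) (by
        rw [Category.assoc, Category.assoc, Category.assoc, Sigma.ι_desc, hr, ← hgU]
        exact (pullback.condition_assoc _).symm)
    have hm : m ≫ f' = h j ≫ U.ι := hpb.lift_fst _ _ _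
    have : C j = m ⁻¹' (f' ⁻¹' Z) := by
      ext a
      change (h j ≫ U.ι) a ∈ Z ↔ f' (m a) ∈ Z
      rw [← hm, Scheme.Hom.comp_apply]
    rw [this]
    exact hZ.preimage m.continuous
  have hcover : Z ∩ (U : Set Y') ⊆ ⋃ j, (h j ≫ U.ι) '' C j := by
    rintro z ⟨hzZ, hzU⟩
    obtain ⟨zU, rfl⟩ : ∃ zU : (U : Scheme.{u}), U.ι zU = z := by
      have : z ∈ Set.range U.ι := by rw [Scheme.Opens.range_ι]; exact hzU
      exact this
    haveI : ValuationRing ((U : Scheme.{u}).residueField zU) := ValuationRing.of_field _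
    obtain ⟨W, hW1, hW2, φ, hext, j, g'', hg''⟩ :=
      hF.lift ((U : Scheme.{u}).residueField zU) ((U : Scheme.{u}).fromSpecResidueField zU ≫ gU)
    let a : Spec W ⟶ A j := pullback.lift g''
      (Spec.map φ ≫ (U : Scheme.{u}).fromSpecResidueField zU) (by rw [hg'', Category.assoc])
    have ha : a ≫ h j = Spec.map φ ≫ (U : Scheme.{u}).fromSpecResidueField zU :=
      pullback.lift_snd _ _ _
    have hpt : h j (a (closedPoint W)) = zU := by
      rw [← Scheme.Hom.comp_apply, ha, Scheme.Hom.comp_apply, Scheme.fromSpecResidueField_apply]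
    refine Set.mem_iUnion.mpr ⟨j, a (closedPoint W), ?_, ?_⟩
    · change (h j ≫ U.ι) (a (closedPoint W)) ∈ Z
      rw [Scheme.Hom.comp_apply, hpt]; exact hzZ
    · rw [Scheme.Hom.comp_apply, hpt]
  have hy2 : y ∈ closure (Z ∩ (U : Set Y')) := by
    have := U.2.inter_closure (t := Z) ⟨hyU, hy⟩
    rwa [Set.inter_comm] at this
  have hy3 := closure_mono hcover hy2
  rw [closure_iUnion_of_finite] at hy3
  obtain ⟨j, hyj⟩ := Set.mem_iUnion.mp hy3
  obtain ⟨yU, rfl⟩ : ∃ yU : (U : Scheme.{u}), U.ι yU = y := by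
    have : y ∈ Set.range U.ι := by rw [Scheme.Opens.range_ι]; exact hyU
    exact this
  have hyj' : yU ∈ closure (h j '' C j) := by
    rw [U.ι.isOpenEmbedding.isInducing.closure_eq_preimage_closure_image]
    change U.ι yU ∈ closure (U.ι '' (h j '' C j))
    have e : U.ι '' (h j '' C j) = (h j ≫ U.ι) '' C j := by
      ext p
      constructor
      · rintro ⟨_, ⟨c, hc, rfl⟩, rfl⟩
        exact ⟨c, hc, Scheme.Hom.comp_apply _ _ _⟩
      · rintro ⟨c, hc, rfl⟩
        exact ⟨_, ⟨c, hc, rfl⟩, (Scheme.Hom.comp_apply _ _ _).symm⟩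
    rw [e]
    exact hyj
  obtain ⟨c, hc, hsp⟩ := affine_exists_specializes (h j) (C j) (hCcl j) yU hyj'
  refine hspec Z hZ (U.ι (h j c)) (U.ι yU) (hsp.map U.ι.continuous) ?_
  have hc' : (h j ≫ U.ι) c ∈ Z := hc
  rwa [Scheme.Hom.comp_apply] at hc'

end Groth.Agent.Lib.Helper2.VSubm
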