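import Mathlib
import Groth.Prelude.Def_W4c2submetdescSubtr
import Groth.Agent.Lib.Helper2ChainVal
import Groth.Agent.Lib.Helper2VSubm
import Groth.Agent.Lib.Helper10QCClosed
/-! Helper2LocClosed: locally closed retrocompact subsets descend along quasi-compact universally
S-subtrusive morphisms (S14783). -/
set_option autoImplicit false
universe u
open CategoryTheory CategoryTheory.Limits AlgebraicGeometry Opposite Topology

namespace Groth.Agent.Lib.Helper2.LocClosed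

/-- A compact piece of a locally closed set inside an affine open is a finite union of closed
subsets of affine opens. -/
theorem dec {X : Scheme.{u}} (A : X.Opens) (O C : Set X) (hO : IsOpen O)
    (hK : IsCompact ((O ∩ C) ∩ (A : Set X))) :
    ∃ (ι : Type u) (_ : Finite ι) (B : ι → X.Opens), (∀ k, IsAffineOpen (B k)) ∧
      (∀ k, (B k : Set X) ⊆ O ∩ (A : Set X)) ∧
        (O ∩ C) ∩ (A : Set X) = ⋃ k, C ∩ (B k : Set X) := by
  have hbasis : ∀ x ∈ (O ∩ C) ∩ (A : Set X), ∃ B : X.Opens, IsAffineOpen B ∧ x ∈ B ∧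
      (B : Set X) ⊆ O ∩ (A : Set X) := by
    intro x hx
    obtain ⟨_, ⟨B, hB, rfl⟩, hxB, hBsub⟩ := X.isBasis_affineOpens.exists_subset_of_mem_open
      (show x ∈ O ∩ (A : Set X) from ⟨hx.1.1, hx.2⟩) (hO.inter A.2)
    exact ⟨B, hB, hxB, hBsub⟩
  choose! Bf hBaff hxB hBsub using hbasis
  obtain ⟨t, htK, ht⟩ := hK.elim_nhds_subcover (fun x => (Bf x : Set X))
    (fun x hx => (Bf x).2.mem_nhds (hxB x hx))
  refine ⟨t, inferInstance, fun k => Bf k.1, fun k => hBaff _ (htK _ k.2),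
    fun k => hBsub _ (htK _ k.2), ?_⟩
  apply Set.Subset.antisymm
  · intro x hx
    obtain ⟨k, hk, hxk⟩ := Set.mem_iUnion₂.mp (ht hx)
    exact Set.mem_iUnion.mpr ⟨⟨k, hk⟩, hx.1.2, hxk⟩
  · intro x hx
    obtain ⟨k, hxC, hxk⟩ := Set.mem_iUnion.mp hx
    have := hBsub _ (htK _ k.2) hxk
    exact ⟨⟨this.1, hxC⟩, this.2⟩

theorem isCompact_inter_preimage {X Y : Scheme.{u}} (f : X ⟶ Y) (A : X.Opens)
    (hA : IsAffineOpen A) (W : Y.Opens) (hW : IsAffineOpen W) (hAW : A ≤ f ⁻¹ᵁ W) (B : Y.Opens)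
    (hB : IsAffineOpen B) (hBW : (B : Set Y) ⊆ W) :
    IsCompact ((A : Set X) ∩ f ⁻¹' (B : Set Y)) := by
  haveI : IsAffine (A : Scheme.{u}) := hA
  haveI : IsAffine (W : Scheme.{u}) := hW
  let g : (A : Scheme.{u}) ⟶ (W : Scheme.{u}) := f.resLE W A hAW
  have hg : g ≫ W.ι = A.ι ≫ f := Scheme.Hom.resLE_comp_ι f hAW
  haveI : QuasiCompact g := HasAffineProperty.iff_of_isAffine.mpr (by infer_instance)
  have hBc : IsCompact (W.ι ⁻¹' (B : Set Y)) := by
    rw [W.ι.isOpenEmbedding.isInducing.isCompact_preimage_iff]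
    · exact hB.isCompact
    · rw [Scheme.Opens.range_ι]; exact hBW
  have h1 : IsCompact (g ⁻¹' (W.ι ⁻¹' (B : Set Y))) :=
    QuasiCompact.isCompact_preimage (f := g) _ (B.2.preimage W.ι.continuous) hBc
  have h2 : (A : Set X) ∩ f ⁻¹' (B : Set Y) = A.ι '' (g ⁻¹' (W.ι ⁻¹' (B : Set Y))) := by
    ext x
    constructor
    · rintro ⟨hxA, hxB⟩
      obtain ⟨a, rfl⟩ : ∃ a : (A : Scheme.{u}), A.ι a = x := by
        have : x ∈ Set.range A.ι := by rw [Scheme.Opens.range_ι]; exact hxA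
        exact this
      refine ⟨a, ?_, rfl⟩
      change W.ι (g a) ∈ (B : Set Y)
      rw [← Scheme.Hom.comp_apply, hg, Scheme.Hom.comp_apply]
      exact hxB
    · rintro ⟨a, ha, rfl⟩
      refine ⟨?_, ?_⟩
      · have : A.ι a ∈ Set.range A.ι := ⟨a, rfl⟩
        rwa [Scheme.Opens.range_ι] at this
      · change W.ι (g a) ∈ (B : Set Y) at ha
        rw [← Scheme.Hom.comp_apply, hg, Scheme.Hom.comp_apply] at ha
        exact ha
  rw [h2]
  exact h1.image A.ι.continuous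

theorem isRetrocompact_preimage {S' S : Scheme.{u}} (f : S' ⟶ S) (E : Set S)
    (hlc : IsLocallyClosed E) (hret : IsRetrocompact E) : IsRetrocompact (f ⁻¹' E) := by
  obtain ⟨O, C, hO, hC, rfl⟩ := hlc
  intro W' hW'c hW'o
  have hcov : ∀ x ∈ W', ∃ A : S'.Opens, IsAffineOpen A ∧ x ∈ A ∧ (A : Set S') ⊆ W' ∧
      ∃ W : S.Opens, IsAffineOpen W ∧ A ≤ f ⁻¹ᵁ W := by
    intro x hx
    obtain ⟨_, ⟨W, hW, rfl⟩, hfxW, -⟩ := S.isBasis_affineOpens.exists_subset_of_mem_open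
      (Set.mem_univ (f x)) isOpen_univ
    obtain ⟨_, ⟨A, hA, rfl⟩, hxA, hAsub⟩ := S'.isBasis_affineOpens.exists_subset_of_mem_open
      (show x ∈ W' ∩ ((f ⁻¹ᵁ W : S'.Opens) : Set S') from ⟨hx, hfxW⟩)
      (hW'o.inter (f ⁻¹ᵁ W).2)
    exact ⟨A, hA, hxA, fun z hz => (hAsub hz).1, W, hW, fun z hz => (hAsub hz).2⟩
  choose! Af hAaff hxA hAsub Wf hWaff hAW using hcov
  obtain ⟨t, htW, ht⟩ := hW'c.elim_nhds_subcover (fun x => (Af x : Set S'))
    (fun x hx => (Af x).2.mem_nhds (hxA x hx))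
  have heq : f ⁻¹' (O ∩ C) ∩ W' = ⋃ x ∈ t, f ⁻¹' (O ∩ C) ∩ (Af x : Set S') := by
    ext z
    constructor
    · rintro ⟨hz1, hz2⟩
      obtain ⟨x, hx, hzx⟩ := Set.mem_iUnion₂.mp (ht hz2)
      exact Set.mem_iUnion₂.mpr ⟨x, hx, hz1, hzx⟩
    · intro hz
      obtain ⟨x, hx, hz1, hzx⟩ := Set.mem_iUnion₂.mp hz
      exact ⟨hz1, hAsub x (htW x hx) hzx⟩
  rw [heq]
  apply t.isCompact_biUnion
  intro x hx
  have hxW' := htW x hx
  have hK : IsCompact ((O ∩ C) ∩ (Wf x : Set S)) := hret (hWaff x hxW').isCompact (Wf x).2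
  obtain ⟨ι, hι, B, hBaff, hBsub, hBeq⟩ := dec (Wf x) O C hO hK
  have h3 : f ⁻¹' (O ∩ C) ∩ (Af x : Set S') =
      ⋃ k, f ⁻¹' C ∩ ((Af x : Set S') ∩ f ⁻¹' (B k : Set S)) := by
    ext z
    constructor
    · rintro ⟨hz1, hz2⟩
      have h4 : f z ∈ (O ∩ C) ∩ (Wf x : Set S) := ⟨hz1, hAW x hxW' hz2⟩
      rw [hBeq] at h4
      obtain ⟨k, hk1, hk2⟩ := Set.mem_iUnion.mp h4
      exact Set.mem_iUnion.mpr ⟨k, hk1, hz2, hk2⟩
    · intro hz
      obtain ⟨k, hk1, hk2, hk3⟩ := Set.mem_iUnion.mp hz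
      exact ⟨⟨(hBsub k hk3).1, hk1⟩, hk2⟩
  rw [h3]
  apply isCompact_iUnion
  intro k
  exact (isCompact_inter_preimage f (Af x) (hAaff x hxW') (Wf x) (hWaff x hxW') (hAW x hxW')
    (B k) (hBaff k) (fun z hz => (hBsub k hz).2)).inter_left (hC.preimage f.continuous)

/-- Closure points of the image of a retrocompact locally closed set under a quasi-compact
morphism are specializations of points of the image. -/
theorem exists_specializes_of_mem_closure_image {S' S : Scheme.{u}} (f : S' ⟶ S) [QuasiCompact f]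
    (O' C' : Set S') (hO' : IsOpen O') (hC' : IsClosed C') (hret : IsRetrocompact (O' ∩ C'))
    (y : S) (hy : y ∈ closure (f '' (O' ∩ C'))) : ∃ e ∈ f '' (O' ∩ C'), e ⤳ y := by
  obtain ⟨_, ⟨W₀, hW, rfl⟩, hyW, -⟩ := S.isBasis_affineOpens.exists_subset_of_mem_open
    (Set.mem_univ y) isOpen_univ
  obtain ⟨W, rfl⟩ : ∃ W : S.Opens, W = W₀ := ⟨W₀, rfl⟩
  have hcpt : IsCompact ((f ⁻¹ᵁ W : S'.Opens) : Set S') :=
    QuasiCompact.isCompact_preimage (f := f) _ W.2 hW.isCompact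
  obtain ⟨s, hs, e⟩ := isCompact_iff_finite_and_eq_biUnion_affineOpens.mp hcpt
  haveI : Finite s := hs.to_subtype
  have hle : ∀ A : s, ((A : S'.affineOpens) : S'.Opens) ≤ f ⁻¹ᵁ W := by
    intro A
    rw [e]
    exact le_iSup₂ (f := fun i (_ : i ∈ s) => (i : S'.Opens)) _ A.2
  have hK : ∀ A : s, IsCompact ((O' ∩ C') ∩ (((A : S'.affineOpens) : S'.Opens) : Set S')) :=
    fun A => hret (A : S'.affineOpens).2.isCompact ((A : S'.affineOpens) : S'.Opens).2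
  choose ι hι B hBaff hBsub hBeq using fun A : s =>
    dec ((A : S'.affineOpens) : S'.Opens) O' C' hO' (hK A)
  haveI : ∀ A, Finite (ι A) := hι
  have hcover : f '' (O' ∩ C') ∩ (W : Set S) ⊆
      ⋃ p : Σ A : s, ι A, f '' (C' ∩ (B p.1 p.2 : Set S')) := by
    rintro _ ⟨⟨x, hx, rfl⟩, hfxW⟩
    have hxpre : x ∈ ((f ⁻¹ᵁ W : S'.Opens) : Set S') := hfxW
    rw [e] at hxpre
    simp only [TopologicalSpace.Opens.coe_iSup, Set.mem_iUnion] at hxpre
    obtain ⟨A, hA, hxA⟩ := hxpre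
    have h1 : x ∈ (O' ∩ C') ∩ ((A : S'.Opens) : Set S') := ⟨hx, hxA⟩
    rw [hBeq ⟨A, hA⟩] at h1
    obtain ⟨k, hk1, hk2⟩ := Set.mem_iUnion.mp h1
    exact Set.mem_iUnion.mpr ⟨⟨⟨A, hA⟩, k⟩, x, ⟨hk1, hk2⟩, rfl⟩
  have hy2 : y ∈ closure (f '' (O' ∩ C') ∩ (W : Set S)) := by
    have := W.2.inter_closure (t := f '' (O' ∩ C')) ⟨hyW, hy⟩
    rwa [Set.inter_comm] at this
  have hy3 := closure_mono hcover hy2
  rw [closure_iUnion_of_finite] at hy3
  obtain ⟨⟨A, k⟩, hyk⟩ := Set.mem_iUnion.mp hy3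
  have hBW : B A k ≤ f ⁻¹ᵁ W := fun z hz => hle A ((hBsub A k hz).2)
  haveI : IsAffine ((B A k : S'.Opens) : Scheme.{u}) := hBaff A k
  haveI : IsAffine ((W : S.Opens) : Scheme.{u}) := hW
  let h : ((B A k : S'.Opens) : Scheme.{u}) ⟶ ((W : S.Opens) : Scheme.{u}) :=
    f.resLE W (B A k) hBW
  have hh : h ≫ W.ι = (B A k).ι ≫ f := Scheme.Hom.resLE_comp_ι f hBW
  let Z : Set ((B A k : S'.Opens) : Scheme.{u}) := (B A k).ι ⁻¹' C'
  have hZ : IsClosed Z := hC'.preimage (B A k).ι.continuous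
  obtain ⟨yW, rfl⟩ : ∃ yW : ((W : S.Opens) : Scheme.{u}), W.ι yW = y := by
    have : y ∈ Set.range W.ι := by rw [Scheme.Opens.range_ι]; exact hyW
    exact this
  have himg : W.ι '' (h '' Z) = f '' (C' ∩ (B A k : Set S')) := by
    ext p
    constructor
    · rintro ⟨_, ⟨b, hb, rfl⟩, rfl⟩
      refine ⟨(B A k).ι b, ⟨hb, ?_⟩, ?_⟩
      · have : (B A k).ι b ∈ Set.range (B A k).ι := ⟨b, rfl⟩
        rwa [Scheme.Opens.range_ι] at this
      · rw [← Scheme.Hom.comp_apply, ← hh, Scheme.Hom.comp_apply]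
    · rintro ⟨x, ⟨hxC, hxB⟩, rfl⟩
      obtain ⟨b, rfl⟩ : ∃ b : ((B A k : S'.Opens) : Scheme.{u}), (B A k).ι b = x := by
        have : x ∈ Set.range (B A k).ι := by rw [Scheme.Opens.range_ι]; exact hxB
        exact this
      refine ⟨h b, ⟨b, hxC, rfl⟩, ?_⟩
      rw [← Scheme.Hom.comp_apply, hh, Scheme.Hom.comp_apply]
  have hyW' : yW ∈ closure (h '' Z) := by
    rw [W.ι.isOpenEmbedding.isInducing.closure_eq_preimage_closure_image]
    change W.ι yW ∈ closure (W.ι '' (h '' Z))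
    rw [himg]
    exact hyk
  obtain ⟨c, hc, hsp⟩ :=
    Groth.Agent.Lib.Helper2.VSubm.affine_exists_specializes h Z hZ yW hyW'
  refine ⟨f ((B A k).ι c), ⟨(B A k).ι c, ⟨?_, hc⟩, rfl⟩, ?_⟩
  · have : (B A k).ι c ∈ Set.range (B A k).ι := ⟨c, rfl⟩
    rw [Scheme.Opens.range_ι] at this
    exact (hBsub A k this).1
  · have := hsp.map W.ι.continuous
    rwa [← Scheme.Hom.comp_apply, hh, Scheme.Hom.comp_apply] at this

theorem chain3 {X Y : Scheme.{u}} (f : X ⟶ Y) (hf : Subtr.UnivSSubtrusive f) (e d y : Y)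
    (h1 : e ⤳ d) (h2 : d ⤳ y) :
    ∃ x0 x1 x2 : X, x0 ⤳ x1 ∧ x1 ⤳ x2 ∧ f x0 = e ∧ f x1 = d ∧ f x2 = y := by
  let c : Fin (2 + 1) → Y := ![e, d, y]
  have hc : ∀ i j : Fin (2 + 1), i ≤ j → c i ⤳ c j := by
    intro i j hij
    fin_cases i <;> fin_cases j
    all_goals first
      | exact specializes_rfl
      | exact h1
      | exact h2
      | exact h1.trans h2
      | (exfalso; revert hij; decide)
  obtain ⟨x, hx, hfx⟩ := Groth.Agent.Lib.Helper2.ChainVal.chain_lift f hf 2 c hc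
  exact ⟨x 0, x 1, x 2, hx 0 1 (by decide), hx 1 2 (by decide), hfx 0, hfx 1, hfx 2⟩

theorem isLocallyClosed_of_preimage {S' S : Scheme.{u}} (f : S' ⟶ S) [QuasiCompact f]
    (hf : Subtr.UnivSSubtrusive f) (E : Set S)
    (hlc : IsLocallyClosed (f ⁻¹' E)) (hret : IsRetrocompact (f ⁻¹' E)) : IsLocallyClosed E := by
  have hsub : Subtr.IsSSubtrusive f := hf (𝟙 _) (𝟙 _) f IsPullback.of_id_snd
  have hsurj : Function.Surjective f := by
    intro y
    obtain ⟨x, _, _, hx, _⟩ := hsub (specializes_refl y)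
    exact ⟨x, hx⟩
  have hfE : f '' (f ⁻¹' E) = E := Set.image_preimage_eq E hsurj
  obtain ⟨O', C₀, hO', hC₀, hE'⟩ := hlc
  have hclos : closure (f ⁻¹' E) ⊆ C₀ := by
    apply closure_minimal _ hC₀
    rw [hE']
    exact Set.inter_subset_right
  have hE'2 : f ⁻¹' E = O' ∩ closure (f ⁻¹' E) := by
    apply Set.Subset.antisymm
    · intro x hx
      have hx' : x ∈ O' ∩ C₀ := hE' ▸ hx
      exact ⟨hx'.1, subset_closure hx⟩
    · rintro x ⟨hx1, hx2⟩
      have hx' : x ∈ O' ∩ C₀ := ⟨hx1, hclos hx2⟩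
      rw [← hE'] at hx'
      exact hx'
  have hmemE' : ∀ x, x ∈ O' → x ∈ closure (f ⁻¹' E) → f x ∈ E := by
    intro x hx1 hx2
    have : x ∈ f ⁻¹' E := by rw [hE'2]; exact ⟨hx1, hx2⟩
    exact this
  have hE'O : ∀ x, f x ∈ E → x ∈ O' := by
    intro x hx
    have hx' : x ∈ O' ∩ C₀ := hE' ▸ (show x ∈ f ⁻¹' E from hx)
    exact hx'.1
  -- (b′)
  have hb : ∀ y ∈ closure E, ∃ e ∈ E, e ⤳ y := by
    intro y hy
    have hret' : IsRetrocompact (O' ∩ closure (f ⁻¹' E)) := hE'2 ▸ hret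
    have hy' : y ∈ closure (f '' (O' ∩ closure (f ⁻¹' E))) := by
      rw [← hE'2, hfE]
      exact hy
    obtain ⟨e, he, hey⟩ := exists_specializes_of_mem_closure_image f O' (closure (f ⁻¹' E)) hO'
      isClosed_closure hret' y hy'
    rw [← hE'2, hfE] at he
    exact ⟨e, he, hey⟩
  let Z : Set S' := closure (f ⁻¹' E) ∩ O'ᶜ
  have hZ : IsClosed Z := isClosed_closure.inter hO'.isClosed_compl
  have hD : closure E \ E = f '' Z := by
    apply Set.Subset.antisymm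
    · rintro y ⟨hy1, hy2⟩
      obtain ⟨e, he, hey⟩ := hb y hy1
      obtain ⟨x, x', hxx, hx, hx'⟩ := hsub hey
      have hx'E : x' ∈ f ⁻¹' E := by
        change f x' ∈ E
        rw [hx']
        exact he
      have hxC : x ∈ closure (f ⁻¹' E) :=
        hxx.mem_closed isClosed_closure (subset_closure hx'E)
      refine ⟨x, ⟨hxC, fun hxO => hy2 ?_⟩, hx⟩
      rw [← hx]
      exact hmemE' x hxO hxC
    · rintro _ ⟨x, ⟨hx1, hx2⟩, rfl⟩
      refine ⟨?_, fun h => hx2 (hE'O x h)⟩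
      have := image_closure_subset_closure_image f.continuous (Set.mem_image_of_mem f hx1)
      rwa [hfE] at this
  have hstab : StableUnderSpecialization (f '' Z) := by
    intro d y hdy hd
    rw [← hD] at hd ⊢
    refine ⟨hdy.mem_closed isClosed_closure hd.1, fun hyE => hd.2 ?_⟩
    obtain ⟨e, he, hed⟩ := hb d hd.1
    obtain ⟨x0, x1, x2, h01, h12, hx0, hx1, hx2⟩ := chain3 f hf e d y hed hdy
    have hx0E : x0 ∈ f ⁻¹' E := by
      change f x0 ∈ E
      rw [hx0]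
      exact he
    have hx1C : x1 ∈ closure (f ⁻¹' E) :=
      h01.mem_closed isClosed_closure (subset_closure hx0E)
    have hx2O : x2 ∈ O' := hE'O x2 (by rw [hx2]; exact hyE)
    have hx1O : x1 ∈ O' := h12.mem_open hO' hx2O
    rw [← hx1]
    exact hmemE' x1 hx1O hx1C
  have hDc : IsClosed (closure E \ E) := by
    rw [hD]
    exact Groth.Agent.Lib.Helper10.QCClosed.isClosed_image_of_stableUnderSpecialization f Z hZ hstab
  exact isLocallyClosed_iff_isOpen_coborder.mpr hDc.isOpen_compl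

theorem isRetrocompact_of_preimage {S' S : Scheme.{u}} (f : S' ⟶ S) [QuasiCompact f]
    (hf : Subtr.UnivSSubtrusive f) (E : Set S) (hret : IsRetrocompact (f ⁻¹' E)) :
    IsRetrocompact E := by
  have hsub : Subtr.IsSSubtrusive f := hf (𝟙 _) (𝟙 _) f IsPullback.of_id_snd
  have hsurj : Function.Surjective f := by
    intro y
    obtain ⟨x, _, _, hx, _⟩ := hsub (specializes_refl y)
    exact ⟨x, hx⟩
  intro W hWc hWo
  have h1 : IsCompact (f ⁻¹' E ∩ f ⁻¹' W) :=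
    hret (QuasiCompact.isCompact_preimage (f := f) W hWo hWc) (hWo.preimage f.continuous)
  have h2 : E ∩ W = f '' (f ⁻¹' E ∩ f ⁻¹' W) := by
    ext y
    constructor
    · rintro ⟨hy1, hy2⟩
      obtain ⟨x, rfl⟩ := hsurj y
      exact ⟨x, ⟨hy1, hy2⟩, rfl⟩
    · rintro ⟨x, ⟨hx1, hx2⟩, rfl⟩
      exact ⟨hx1, hx2⟩
  rw [h2]
  exact h1.image f.continuous

theorem main {S' S : Scheme.{u}} (f : S' ⟶ S) [QuasiCompact f] (hf : Subtr.UnivSSubtrusive f)
    (E : Set S) : (IsLocallyClosed E ∧ IsRetrocompact E) ↔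
      (IsLocallyClosed (f ⁻¹' E) ∧ IsRetrocompact (f ⁻¹' E)) := by
  constructor
  · rintro ⟨h1, h2⟩
    exact ⟨h1.preimage f.continuous, isRetrocompact_preimage f E h1 h2⟩
  · rintro ⟨h1, h2⟩
    exact ⟨isLocallyClosed_of_preimage f hf E h1 h2, isRetrocompact_of_preimage f hf E h2⟩

end Groth.Agent.Lib.Helper2.LocClosed
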