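import Mathlib

/-!
# Additivity of length along a two-step filtration of a cokernel (helper2)

`length_eq_add_of_chain`: given `u : V → W_B`, an injection `ι : W_B → W` with cokernel `π : W → T`,
a cokernel `δQ : W_B → Q` of `u` and a cokernel `δP : W → P` of `ι ∘ u`, one has
`length P = length Q + length T`.
-/

set_option autoImplicit false
universe u

namespace Groth.Agent.Lib.Helper2.LowDegA

variable {A : Type*} [CommRing A] {V WB W T Q P : Type*}
  [AddCommGroup V] [Module A V] [AddCommGroup WB] [Module A WB] [AddCommGroup W] [Module A W]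
  [AddCommGroup T] [Module A T] [AddCommGroup Q] [Module A Q] [AddCommGroup P] [Module A P]

/-- the induced map `Q → P` with its properties. -/
theorem exists_exact_of_chain (u : V →ₗ[A] WB) (ι : WB →ₗ[A] W) (π : W →ₗ[A] T)
    (δQ : WB →ₗ[A] Q) (δP : W →ₗ[A] P)
    (hι : Function.Injective ι) (hπ : Function.Surjective π)
    (hιπ : ∀ w, π w = 0 ↔ ∃ b, ι b = w)
    (hδQ : Function.Surjective δQ) (hQ : ∀ b, δQ b = 0 ↔ ∃ v, u v = b)
    (hδP : Function.Surjective δP) (hP : ∀ w, δP w = 0 ↔ ∃ v, ι (u v) = w) :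
    ∃ (f : Q →ₗ[A] P) (g : P →ₗ[A] T), Function.Injective f ∧ Function.Surjective g ∧
      Function.Exact f g ∧ (∀ b, f (δQ b) = δP (ι b)) ∧ (∀ w, g (δP w) = π w) := by
  have h1 : LinearMap.ker δQ ≤ LinearMap.ker (δP ∘ₗ ι) := by
    intro b hb
    obtain ⟨v, rfl⟩ := (hQ b).1 hb
    exact (hP _).2 ⟨v, rfl⟩
  have h2 : LinearMap.ker δP ≤ LinearMap.ker π := by
    intro w hw
    obtain ⟨v, rfl⟩ := (hP w).1 hw
    exact (hιπ _).2 ⟨u v, rfl⟩
  let f : Q →ₗ[A] P := ((LinearMap.ker δQ).liftQ (δP ∘ₗ ι) h1) ∘ₗ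
    (δQ.quotKerEquivOfSurjective hδQ).symm.toLinearMap
  let g : P →ₗ[A] T := ((LinearMap.ker δP).liftQ π h2) ∘ₗ
    (δP.quotKerEquivOfSurjective hδP).symm.toLinearMap
  have hf : ∀ b, f (δQ b) = δP (ι b) := by
    intro b
    have : (δQ.quotKerEquivOfSurjective hδQ).symm (δQ b) = Submodule.Quotient.mk b := by
      rw [LinearEquiv.symm_apply_eq]
      rfl
    change (LinearMap.ker δQ).liftQ (δP ∘ₗ ι) h1 ((δQ.quotKerEquivOfSurjective hδQ).symm (δQ b)) = _
    rw [this]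
    rfl
  have hg : ∀ w, g (δP w) = π w := by
    intro w
    have : (δP.quotKerEquivOfSurjective hδP).symm (δP w) = Submodule.Quotient.mk w := by
      rw [LinearEquiv.symm_apply_eq]
      rfl
    change (LinearMap.ker δP).liftQ π h2 ((δP.quotKerEquivOfSurjective hδP).symm (δP w)) = _
    rw [this]
    rfl
  refine ⟨f, g, ?_, ?_, ?_, hf, hg⟩
  · rw [injective_iff_map_eq_zero]
    intro q hq
    obtain ⟨b, rfl⟩ := hδQ q
    rw [hf] at hq
    obtain ⟨v, hv⟩ := (hP _).1 hq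
    have : u v = b := hι hv
    exact (hQ b).2 ⟨v, this⟩
  · intro t
    obtain ⟨w, rfl⟩ := hπ t
    exact ⟨δP w, hg w⟩
  · intro p
    constructor
    · intro hp
      obtain ⟨w, rfl⟩ := hδP p
      rw [hg] at hp
      obtain ⟨b, rfl⟩ := (hιπ w).1 hp
      exact ⟨δQ b, hf b⟩
    · rintro ⟨q, rfl⟩
      obtain ⟨b, rfl⟩ := hδQ q
      rw [hf, hg]
      exact (hιπ _).2 ⟨b, rfl⟩

theorem length_eq_add_of_chain (u : V →ₗ[A] WB) (ι : WB →ₗ[A] W) (π : W →ₗ[A] T)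
    (δQ : WB →ₗ[A] Q) (δP : W →ₗ[A] P)
    (hι : Function.Injective ι) (hπ : Function.Surjective π)
    (hιπ : ∀ w, π w = 0 ↔ ∃ b, ι b = w)
    (hδQ : Function.Surjective δQ) (hQ : ∀ b, δQ b = 0 ↔ ∃ v, u v = b)
    (hδP : Function.Surjective δP) (hP : ∀ w, δP w = 0 ↔ ∃ v, ι (u v) = w) :
    Module.length A P = Module.length A Q + Module.length A T := by
  obtain ⟨f, g, hf, hg, hex, -, -⟩ :=
    exists_exact_of_chain u ι π δQ δP hι hπ hιπ hδQ hQ hδP hP
  exact Module.length_eq_add_of_exact f g hf hg hex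

/-- the induced injection `Q → P` (no hypothesis on the cokernel of `ι`). -/
theorem exists_injective_of_chain (u : V →ₗ[A] WB) (ι : WB →ₗ[A] W)
    (δQ : WB →ₗ[A] Q) (δP : W →ₗ[A] P)
    (hι : Function.Injective ι)
    (hδQ : Function.Surjective δQ) (hQ : ∀ b, δQ b = 0 ↔ ∃ v, u v = b)
    (hP : ∀ w, δP w = 0 ↔ ∃ v, ι (u v) = w) :
    ∃ f : Q →ₗ[A] P, Function.Injective f ∧ ∀ b, f (δQ b) = δP (ι b) := by
  have h1 : LinearMap.ker δQ ≤ LinearMap.ker (δP ∘ₗ ι) := by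
    intro b hb
    obtain ⟨v, rfl⟩ := (hQ b).1 hb
    exact (hP _).2 ⟨v, rfl⟩
  let f : Q →ₗ[A] P := ((LinearMap.ker δQ).liftQ (δP ∘ₗ ι) h1) ∘ₗ
    (δQ.quotKerEquivOfSurjective hδQ).symm.toLinearMap
  have hf : ∀ b, f (δQ b) = δP (ι b) := by
    intro b
    have : (δQ.quotKerEquivOfSurjective hδQ).symm (δQ b) = Submodule.Quotient.mk b := by
      rw [LinearEquiv.symm_apply_eq]
      rfl
    change (LinearMap.ker δQ).liftQ (δP ∘ₗ ι) h1 ((δQ.quotKerEquivOfSurjective hδQ).symm (δQ b)) = _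
    rw [this]
    rfl
  refine ⟨f, ?_, hf⟩
  rw [injective_iff_map_eq_zero]
  intro q hq
  obtain ⟨b, rfl⟩ := hδQ q
  rw [hf] at hq
  obtain ⟨v, hv⟩ := (hP _).1 hq
  have : u v = b := hι hv
  exact (hQ b).2 ⟨v, this⟩

end Groth.Agent.Lib.Helper2.LowDegA
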