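import Mathlib
import Groth.Agent.Lib.Helper16DimShiftNat
import Groth.Agent.Lib.Helper17HHLes
import Groth.Agent.Lib.Helper17FormLoc
import Groth.Agent.Lib.Helper23LerayOut
import Groth.Agent.Lib.Helper16Flasque
import Groth.Agent.Lib.Helper2Push
import Groth.Agent.Lib.Helper2LowDegA

/-!
# `H^0` and direct images; acyclicity of direct images of injective modules (helper2)

* `subsingleton_HH_injective`, `subsingleton_HH_push_injective`: `H^{n+1}(X, I) = 0 = H^{n+1}(Y, f_* I)` for an
  injective `O_X`-module `I`.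
* `cEquiv f N : H^0(X, N) ≃+ H^0(Y, f_* N)`, natural in `N` (`cEquiv_Hm`) and compatible with the actions of
  global functions (`cEquiv_smul`), hence `A`-linear for `f` a morphism over `Spec A` (`cLin`).
* `injective_Hm_zero`: a monomorphism of modules is injective on `H^0`.
-/

set_option autoImplicit false
set_option linter.style.haveILetI false
universe u
open CategoryTheory CategoryTheory.Limits AlgebraicGeometry TopologicalSpace Opposite

namespace Groth.Agent.Lib.Helper2.LowDegB

open Groth.Agent.Lib.Helper17.HHLes Groth.Agent.Lib.Helper17.FormLoc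

variable {X Y : Scheme.{u}} (f : X ⟶ Y)

theorem subsingleton_HH_injective (I : X.Modules) [hI : Injective I] (n : ℕ) :
    Subsingleton (Coh.HH X I (n + 1)) := by
  haveI := Groth.Agent.Lib.Helper23.LerayOut.isFlasque_toAb_of_injective I hI
  exact Groth.Agent.Lib.Helper16.Flasque.H_subsingleton (Coh.toAb I) n

theorem subsingleton_HH_push_injective (I : X.Modules) [hI : Injective I] (n : ℕ) :
    Subsingleton (Coh.HH Y ((Scheme.Modules.pushforward f).obj I) (n + 1)) := by
  haveI := Groth.Agent.Lib.Helper23.LerayOut.isFlasque_toAb_of_injective I hI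
  haveI : TopCat.Sheaf.IsFlasque ((TopCat.Sheaf.pushforward AddCommGrpCat.{u} f.base).obj (Coh.toAb I)) :=
    TopCat.Sheaf.IsFlasque.pushforward_isFlasque (Coh.toAb I) f.base
  exact Groth.Agent.Lib.Helper16.Flasque.H_subsingleton
    ((TopCat.Sheaf.pushforward AddCommGrpCat.{u} f.base).obj (Coh.toAb I)) n

/-- the identification of global sections of `N` and `f_* N`. -/
noncomputable def secEquiv (N : X.Modules) :
    (Coh.toAb N).obj.obj (op (⊤ : Opens X)) ≃+
      (Coh.toAb ((Scheme.Modules.pushforward f).obj N)).obj.obj (op (⊤ : Opens Y)) :=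
  AddEquiv.refl _

/-- `H^0(X, N) ≃ H^0(Y, f_* N)`. -/
noncomputable def cEquiv (N : X.Modules) :
    Coh.HH X N 0 ≃+ Coh.HH Y ((Scheme.Modules.pushforward f).obj N) 0 :=
  ((hh0Equiv X N).trans (secEquiv f N)).trans
    (hh0Equiv Y ((Scheme.Modules.pushforward f).obj N)).symm

theorem hh0Equiv_cEquiv (N : X.Modules) (x : Coh.HH X N 0) :
    hh0Equiv Y ((Scheme.Modules.pushforward f).obj N) (cEquiv f N x) = secEquiv f N (hh0Equiv X N x) := by
  unfold cEquiv
  simp

theorem hh0Equiv_Hm {M N : X.Modules} (φ : M ⟶ N) (x : Coh.HH X M 0) :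
    hh0Equiv X N (Hm φ 0 x) =
      ((SheafOfModules.toSheaf X.ringCatSheaf).map φ).hom.app (op ⊤) (hh0Equiv X M x) :=
  (Sheaf.H.equiv₀_naturality Limits.isTerminalTop ((SheafOfModules.toSheaf X.ringCatSheaf).map φ) x).symm

/-- naturality of `cEquiv`. -/
theorem cEquiv_Hm {M N : X.Modules} (φ : M ⟶ N) (x : Coh.HH X M 0) :
    cEquiv f N (Hm φ 0 x) = Hm ((Scheme.Modules.pushforward f).map φ) 0 (cEquiv f M x) := by
  apply (hh0Equiv Y ((Scheme.Modules.pushforward f).obj N)).injective
  rw [hh0Equiv_cEquiv, hh0Equiv_Hm, hh0Equiv_Hm, hh0Equiv_cEquiv]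
  rfl

/-- compatibility of `cEquiv` with the actions of global functions. -/
theorem cEquiv_smul (N : X.Modules) (r : Coh.Γtop Y) (x : Coh.HH X N 0) :
    cEquiv f N ((show Coh.Γtop X from f.appTop.hom r) • x) = r • cEquiv f N x := by
  apply (hh0Equiv Y ((Scheme.Modules.pushforward f).obj N)).injective
  rw [hh0Equiv_cEquiv, hh0Equiv_smul, hh0Equiv_smul, hh0Equiv_cEquiv, Coh.smulAb_app, Coh.smulAb_app,
    resTop_top, resTop_top]
  rfl

section Linear

variable (A : Type u) [CommRing A] [X.Over (Spec (CommRingCat.of A))] [Y.Over (Spec (CommRingCat.of A))]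

theorem toGlobal_comp (hf : f ≫ (Y ↘ Spec (CommRingCat.of A)) = X ↘ Spec (CommRingCat.of A)) (a : A) :
    Coh.toGlobal (X ↘ Spec (CommRingCat.of A)) a =
      (show Coh.Γtop X from f.appTop.hom (Coh.toGlobal (Y ↘ Spec (CommRingCat.of A)) a)) := by
  unfold Coh.toGlobal
  rw [← hf, Scheme.Hom.comp_appTop]
  rfl

/-- `cEquiv` as an `A`-linear equivalence, for `f` a morphism over `Spec A`. -/
noncomputable def cLin (hf : f ≫ (Y ↘ Spec (CommRingCat.of A)) = X ↘ Spec (CommRingCat.of A))
    (N : X.Modules) : Coh.HH X N 0 ≃ₗ[A] Coh.HH Y ((Scheme.Modules.pushforward f).obj N) 0 :=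
  { cEquiv f N with
    map_smul' := fun a x => by
      change cEquiv f N (Coh.toGlobal (X ↘ Spec (CommRingCat.of A)) a • x) =
        Coh.toGlobal (Y ↘ Spec (CommRingCat.of A)) a • cEquiv f N x
      rw [toGlobal_comp f A hf a]
      exact cEquiv_smul f N _ x }

theorem cLin_apply (hf : f ≫ (Y ↘ Spec (CommRingCat.of A)) = X ↘ Spec (CommRingCat.of A))
    (N : X.Modules) (x : Coh.HH X N 0) : cLin f A hf N x = cEquiv f N x := rfl

end Linear

end Groth.Agent.Lib.Helper2.LowDegB
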