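import Mathlib
import Groth.Agent.Lib.Helper2LowDegB

/-!
# The low degree exact sequence of `f_*`, `A`-linearly (helper2)
-/

set_option autoImplicit false
set_option linter.style.haveILetI false
universe u
open CategoryTheory CategoryTheory.Limits AlgebraicGeometry TopologicalSpace Opposite

namespace Groth.Agent.Lib.Helper2.LowDegC

open Groth.Agent.Lib.Helper17.HHLes Groth.Agent.Lib.Helper17.FormLoc Groth.Agent.Lib.Helper2.LowDegB
  Groth.Agent.Lib.Helper16.DimShift Groth.Agent.Lib.Helper27CohFin Groth.Agent.Lib.Helper23.QCohLocal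

variable {X Y : Scheme.{u}} (f : X ⟶ Y) [HasInjectiveResolutions X.Modules] (M : X.Modules)

instance : PreservesFiniteLimits (Scheme.Modules.pushforward f) := by
  haveI : PreservesLimitsOfSize.{0, 0} (Scheme.Modules.pushforward f) :=
    (Scheme.Modules.pullbackPushforwardAdjunction f).rightAdjoint_preservesLimits
  exact PreservesLimitsOfSize.preservesFiniteLimits _

/-- the chosen injective resolution -/
noncomputable abbrev IR : InjectiveResolution M := injectiveResolution M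

/-- `0 → M → I⁰ → Z¹ → 0` -/
noncomputable abbrev S0 : ShortComplex X.Modules :=
  ShortComplex.mk (ff (IR M) 0) (gg (IR M) 0) (ff_gg (IR M) 0)

theorem hS0 : (S0 M).ShortExact := shortExact_ofResolution (IR M) 0

/-- `π : f_* Z¹ → R¹ f_* M` -/
noncomputable abbrev pR : (Scheme.Modules.pushforward f).obj (ZZ (IR M) 1) ⟶ (Coh.Rpush f 1).obj M :=
  πR (Scheme.Modules.pushforward f) (IR M) 0

/-- `B = im(f_* I⁰ → f_* Z¹) = ker(f_* Z¹ → R¹ f_* M)` -/
noncomputable abbrev BB : Y.Modules := kernel (pR f M)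

noncomputable abbrev iB : BB f M ⟶ (Scheme.Modules.pushforward f).obj (ZZ (IR M) 1) := kernel.ι (pR f M)

/-- `f_* I⁰ → B` -/
noncomputable abbrev eB : (Scheme.Modules.pushforward f).obj ((IR M).cocomplex.X 0) ⟶ BB f M :=
  kernel.lift (pR f M) ((Scheme.Modules.pushforward f).map (gg (IR M) 0))
    (map_gg_πR (Scheme.Modules.pushforward f) (IR M) 0)

theorem eB_iB : eB f M ≫ iB f M = (Scheme.Modules.pushforward f).map (gg (IR M) 0) :=
  kernel.lift_ι _ _ _

/-- `0 → B → f_* Z¹ → R¹ f_* M → 0` -/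
noncomputable abbrev Sb : ShortComplex Y.Modules :=
  ShortComplex.mk (iB f M) (pR f M) (kernel.condition _)

theorem hSb : (Sb f M).ShortExact where
  exact := ShortComplex.exact_of_f_is_kernel _ (kernelIsKernel _)
  mono_f := inferInstanceAs (Mono (kernel.ι (pR f M)))
  epi_g := inferInstanceAs (Epi (πR (Scheme.Modules.pushforward f) (IR M) 0))

theorem map_ff_eB : (Scheme.Modules.pushforward f).map (ff (IR M) 0) ≫ eB f M = 0 := by
  apply (cancel_mono (iB f M)).1
  rw [Category.assoc, eB_iB, zero_comp, ← Functor.map_comp, ff_gg, Functor.map_zero]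

/-- `0 → f_* M → f_* I⁰ → B → 0` -/
noncomputable abbrev Sa : ShortComplex Y.Modules :=
  ShortComplex.mk ((Scheme.Modules.pushforward f).map (ff (IR M) 0)) (eB f M) (map_ff_eB f M)

theorem epi_eB : Epi (eB f M) := by
  have h : (ShortComplex.mk ((Scheme.Modules.pushforward f).map (gg (IR M) 0)) (pR f M)
      (map_gg_πR (Scheme.Modules.pushforward f) (IR M) 0)).Exact :=
    ShortComplex.exact_of_g_is_cokernel _ (πRIsColimit (Scheme.Modules.pushforward f) (IR M) 0)
  rw [ShortComplex.exact_iff_epi_kernel_lift] at h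
  exact h

theorem hSa : (Sa f M).ShortExact where
  exact := by
    have h0 : ((S0 M).map (Scheme.Modules.pushforward f)).Exact :=
      (hS0 M).exact.map_of_mono_of_preservesKernel (Scheme.Modules.pushforward f) (hS0 M).mono_f
        inferInstance
    let φ : Sa f M ⟶ (S0 M).map (Scheme.Modules.pushforward f) :=
      { τ₁ := 𝟙 _
        τ₂ := 𝟙 _
        τ₃ := iB f M
        comm₁₂ := by
          change 𝟙 _ ≫ (Scheme.Modules.pushforward f).map (ff (IR M) 0) =
            (Scheme.Modules.pushforward f).map (ff (IR M) 0) ≫ 𝟙 _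
          rw [Category.id_comp, Category.comp_id]
        comm₂₃ := by
          change 𝟙 _ ≫ (Scheme.Modules.pushforward f).map (gg (IR M) 0) = eB f M ≫ iB f M
          rw [eB_iB, Category.id_comp] }
    haveI : Epi φ.τ₁ := inferInstanceAs (Epi (𝟙 _))
    haveI : IsIso φ.τ₂ := inferInstanceAs (IsIso (𝟙 _))
    haveI : Mono φ.τ₃ := inferInstanceAs (Mono (kernel.ι (pR f M)))
    exact (ShortComplex.exact_iff_of_epi_of_isIso_of_mono φ).2 h0
  mono_f := by
    haveI := (hS0 M).mono_f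
    exact inferInstanceAs (Mono ((Scheme.Modules.pushforward f).map (ff (IR M) 0)))
  epi_g := epi_eB f M

section Cohomology

/-- `δ : H^0(X, Z¹) → H^1(X, M)` is surjective. -/
theorem surjective_delta0 : Function.Surjective (delta (S0 M) (hS0 M) 0) := by
  intro x
  haveI : Injective ((IR M).cocomplex.X 0) := (IR M).injective 0
  haveI := subsingleton_HH_injective ((IR M).cocomplex.X 0) 0
  exact exact₁ (S0 M) (hS0 M) 0 x (Subsingleton.elim _ _)

theorem delta0_eq_zero_iff (z : Coh.HH X (ZZ (IR M) 1) 0) :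
    delta (S0 M) (hS0 M) 0 z = 0 ↔ ∃ y : Coh.HH X ((IR M).cocomplex.X 0) 0, Hm (gg (IR M) 0) 0 y = z := by
  constructor
  · intro h
    exact exact₃ (S0 M) (hS0 M) 0 z h
  · rintro ⟨y, rfl⟩
    exact delta_Hm_g (S0 M) (hS0 M) 0 y

/-- `δ : H^0(Y, B) → H^1(Y, f_* M)` is surjective. -/
theorem surjective_deltaA : Function.Surjective (delta (Sa f M) (hSa f M) 0) := by
  intro x
  haveI : Injective ((IR M).cocomplex.X 0) := (IR M).injective 0
  haveI := subsingleton_HH_push_injective f ((IR M).cocomplex.X 0) 0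
  exact exact₁ (Sa f M) (hSa f M) 0 x (Subsingleton.elim _ _)

theorem deltaA_eq_zero_iff (b : Coh.HH Y (BB f M) 0) :
    delta (Sa f M) (hSa f M) 0 b = 0 ↔
      ∃ v : Coh.HH Y ((Scheme.Modules.pushforward f).obj ((IR M).cocomplex.X 0)) 0, Hm (eB f M) 0 v = b := by
  constructor
  · intro h
    exact exact₃ (Sa f M) (hSa f M) 0 b h
  · rintro ⟨y, rfl⟩
    exact delta_Hm_g (Sa f M) (hSa f M) 0 y

/-- `H^1(Y, B) = 0` when `H^2(Y, f_* M) = 0`. -/
theorem subsingleton_HH_BB (h2 : Subsingleton (Coh.HH Y ((Scheme.Modules.pushforward f).obj M) 2)) :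
    Subsingleton (Coh.HH Y (BB f M) 1) := by
  haveI : Injective ((IR M).cocomplex.X 0) := (IR M).injective 0
  haveI := subsingleton_HH_push_injective f ((IR M).cocomplex.X 0) 0
  refine subsingleton_of_forall_eq 0 (fun x => ?_)
  have hx : delta (Sa f M) (hSa f M) 1 x = 0 := @Subsingleton.elim _ h2 _ _
  obtain ⟨y, rfl⟩ := exact₃ (Sa f M) (hSa f M) 1 x hx
  rw [Subsingleton.elim y 0, map_zero]

theorem injective_Hm_iB : Function.Injective (Hm (iB f M) 0) := by
  intro x y hxy
  apply (hh0Equiv Y (BB f M)).injective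
  haveI : Mono (iB f M) := inferInstanceAs (Mono (kernel.ι (pR f M)))
  haveI hm : Mono ((toAbF Y).map (iB f M)) := (toAbF Y).map_mono (iB f M)
  apply @Groth.Agent.Lib.Helper16.ClosedEmb.injective_of_mono _ _ _
    ((SheafOfModules.toSheaf Y.ringCatSheaf).map (iB f M)) hm ⊤
  have := congrArg (hh0Equiv Y _) hxy
  rw [hh0Equiv_Hm, hh0Equiv_Hm] at this
  exact this

theorem Hm_pR_eq_zero_iff (w : Coh.HH Y ((Scheme.Modules.pushforward f).obj (ZZ (IR M) 1)) 0) :
    Hm (pR f M) 0 w = 0 ↔ ∃ b : Coh.HH Y (BB f M) 0, Hm (iB f M) 0 b = w := by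
  constructor
  · intro h
    exact exact₂ (Sb f M) (hSb f M) 0 w h
  · rintro ⟨b, rfl⟩
    exact Hm_g_f (Sb f M) 0 b

theorem surjective_Hm_pR (h2 : Subsingleton (Coh.HH Y ((Scheme.Modules.pushforward f).obj M) 2)) :
    Function.Surjective (Hm (pR f M) 0) := by
  intro t
  haveI := subsingleton_HH_BB f M h2
  exact exact₃ (Sb f M) (hSb f M) 0 t (Subsingleton.elim _ _)

end Cohomology

section Main

variable (A : Type u) [CommRing A] [X.Over (Spec (CommRingCat.of A))] [Y.Over (Spec (CommRingCat.of A))]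
  (hf : f ≫ (Y ↘ Spec (CommRingCat.of A)) = X ↘ Spec (CommRingCat.of A))

theorem Hm_iB_eB (v : Coh.HH Y ((Scheme.Modules.pushforward f).obj ((IR M).cocomplex.X 0)) 0) :
    Hm (iB f M) 0 (Hm (eB f M) 0 v) = Hm ((Scheme.Modules.pushforward f).map (gg (IR M) 0)) 0 v := by
  rw [Hm_comp, eB_iB]

include hf in
theorem deltaP_eq_zero_iff (w : Coh.HH Y ((Scheme.Modules.pushforward f).obj (ZZ (IR M) 1)) 0) :
    delta (S0 M) (hS0 M) 0 ((cLin f A hf (ZZ (IR M) 1)).symm w) = 0 ↔
      ∃ v : Coh.HH Y ((Scheme.Modules.pushforward f).obj ((IR M).cocomplex.X 0)) 0,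
        Hm (iB f M) 0 (Hm (eB f M) 0 v) = w := by
  rw [delta0_eq_zero_iff]
  constructor
  · rintro ⟨y, hy⟩
    refine ⟨cEquiv f _ y, ?_⟩
    rw [Hm_iB_eB, ← cEquiv_Hm, hy]
    exact (cLin f A hf (ZZ (IR M) 1)).apply_symm_apply w
  · rintro ⟨v, hv⟩
    refine ⟨(cEquiv f _).symm v, ?_⟩
    apply (cLin f A hf (ZZ (IR M) 1)).injective
    rw [LinearEquiv.apply_symm_apply, cLin_apply, cEquiv_Hm, AddEquiv.apply_symm_apply, ← Hm_iB_eB, hv]

include hf in
/-- **additivity of lengths in the low degree exact sequence**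
`0 → H^1(Y, f_* M) → H^1(X, M) → H^0(Y, R^1 f_* M) → H^2(Y, f_* M) = 0`. -/
theorem length_eq (h2 : Subsingleton (Coh.HH Y ((Scheme.Modules.pushforward f).obj M) 2)) :
    Module.length A (Coh.HH X M 1) =
      Module.length A (Coh.HH Y ((Scheme.Modules.pushforward f).obj M) 1) +
        Module.length A (Coh.HH Y ((Coh.Rpush f 1).obj M) 0) := by
  let u := Canon.HHlin A (eB f M) 0
  let ι := Canon.HHlin A (iB f M) 0
  let π := Canon.HHlin A (pR f M) 0
  let δQ := deltaLin A (Sa f M) (hSa f M) 0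
  let c := cLin f A hf (ZZ (IR M) 1)
  let δP := (deltaLin A (S0 M) (hS0 M) 0) ∘ₗ c.symm.toLinearMap
  refine Groth.Agent.Lib.Helper2.LowDegA.length_eq_add_of_chain u ι π δQ δP (injective_Hm_iB f M)
    (surjective_Hm_pR f M h2) (Hm_pR_eq_zero_iff f M) (surjective_deltaA f M)
    (deltaA_eq_zero_iff f M) ?_ (deltaP_eq_zero_iff f M A hf)
  intro x
  obtain ⟨z, rfl⟩ := surjective_delta0 M x
  exact ⟨c z, congrArg (delta (S0 M) (hS0 M) 0) (c.symm_apply_apply z)⟩

include hf in
/-- the edge map `H^1(Y, f_* M) → H^1(X, M)` is injective (and `A`-linear). -/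
theorem exists_injective :
    ∃ θ : Coh.HH Y ((Scheme.Modules.pushforward f).obj M) 1 →ₗ[A] Coh.HH X M 1,
      Function.Injective θ := by
  let u := Canon.HHlin A (eB f M) 0
  let ι := Canon.HHlin A (iB f M) 0
  let δQ := deltaLin A (Sa f M) (hSa f M) 0
  let c := cLin f A hf (ZZ (IR M) 1)
  let δP := (deltaLin A (S0 M) (hS0 M) 0) ∘ₗ c.symm.toLinearMap
  obtain ⟨θ, hθ, -⟩ := Groth.Agent.Lib.Helper2.LowDegA.exists_injective_of_chain u ι δQ δP
    (injective_Hm_iB f M) (surjective_deltaA f M) (deltaA_eq_zero_iff f M)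
    (deltaP_eq_zero_iff f M A hf)
  exact ⟨θ, hθ⟩

end Main

end Groth.Agent.Lib.Helper2.LowDegC
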