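import Mathlib
import Groth.Agent.Lib.Helper4DimFormulaT
import Groth.Agent.Lib.Helper2FibH1D
import Groth.Agent.Lib.Helper2FibVanE

/-!
# Fibre dimension of a modification of a two-dimensional local ring (helper2)

* `bijective_residueFieldMap_of_isIso_restrict`
* `one_le_ringKrullDim_stalk`
* `fiber_dim_le_one`: `f : X ⟶ Spec A` locally of finite type, `X` integral, `A` Noetherian domain
  of dimension `≤ 2`, `f` an isomorphism over a nonempty open: all fibres have dimension `≤ 1`.
-/

set_option autoImplicit false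
set_option linter.style.haveILetI false

universe u

open AlgebraicGeometry CategoryTheory TopologicalSpace

namespace Groth.Agent.Lib.Helper2.ModifDimA

open Groth.Agent.Lib.Helper4.VarDim Groth.Agent.Lib.Helper4.FibDim
  Groth.Agent.Lib.Helper4.DimFormula

theorem isIso_stalkMap_of_isIso_restrict {X Y : Scheme.{u}} (f : X ⟶ Y) (U : Y.Opens)
    [IsIso (f ∣_ U)] (x : X) (hx : f x ∈ U) : IsIso (f.stalkMap x) := by
  have e := morphismRestrictStalkMap f U ⟨x, hx⟩
  exact ((MorphismProperty.isomorphisms _).arrow_mk_iso_iff e).1 inferInstance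

theorem bijective_residueFieldMap_of_isIso_restrict {X Y : Scheme.{u}} (f : X ⟶ Y) (U : Y.Opens)
    [IsIso (f ∣_ U)] (x : X) (hx : f x ∈ U) : Function.Bijective (f.residueFieldMap x).hom := by
  haveI := isIso_stalkMap_of_isIso_restrict f U x hx
  exact (IsLocalRing.ResidueField.mapEquiv
    (asIso (f.stalkMap x)).commRingCatIsoToRingEquiv).bijective

theorem one_le_ringKrullDim_stalk {X : Scheme.{u}} [IsIntegral X] (x : X)
    (hx : x ≠ genericPoint X) : 1 ≤ ringKrullDim (X.presheaf.stalk x) := by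
  unfold ringKrullDim
  rw [Order.one_le_krullDim_iff]
  have hgen : genericPoint X ∈ Set.range (X.fromSpecStalk x) := by
    rw [Scheme.range_fromSpecStalk]
    exact genericPoint_specializes x
  obtain ⟨q, hq⟩ := hgen
  let q' : PrimeSpectrum (X.presheaf.stalk x) := q
  refine ⟨q', IsLocalRing.closedPoint (X.presheaf.stalk x), ?_⟩
  have hle : q' ≤ IsLocalRing.closedPoint (X.presheaf.stalk x) :=
    (PrimeSpectrum.asIdeal_le_asIdeal _ _).1 (IsLocalRing.le_maximalIdeal q'.2.ne_top)
  refine lt_of_le_of_ne hle ?_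
  intro h
  apply hx
  have h2 : q = IsLocalRing.closedPoint (X.presheaf.stalk x) := h
  rw [← hq, h2]
  exact Scheme.fromSpecStalk_closedPoint.symm

theorem genericPoint_mem_preimage {X Y : Scheme.{u}} [IsIntegral X] (f : X ⟶ Y) (U : Y.Opens)
    (hU : (U : Set Y).Nonempty) [IsIso (f ∣_ U)] : f (genericPoint X) ∈ U := by
  obtain ⟨u, hu⟩ := hU
  obtain ⟨x', hx'⟩ := (ConcreteCategory.bijective_of_isIso (f ∣_ U).base).2 ⟨u, hu⟩
  have hmem : genericPoint X ∈ ((f ⁻¹ᵁ U : X.Opens) : Set X) :=
    ((genericPoint_spec X).mem_open_set_iff (f ⁻¹ᵁ U).isOpen).mpr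
      ⟨x'.1, Set.mem_univ _, x'.2⟩
  exact hmem

theorem trdeg_eq_zero_of_bijective {K L : Type u} [Field K] [Field L] (φ : K →+* L)
    (hφ : Function.Bijective φ) :
    letI := φ.toAlgebra
    Algebra.trdeg K L = 0 := by
  letI := φ.toAlgebra
  haveI : Algebra.IsIntegral K L := Algebra.isIntegral_of_surjective hφ.2
  exact trdeg_eq_zero

attribute [local instance] Curv2.resAlgebra in
/-- All fibres of a modification of a Noetherian domain of dimension `≤ 2` have dimension
`≤ 1`. -/
theorem fiber_dim_le_one (A : Type u) [CommRing A] [IsDomain A] [IsNoetherianRing A]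
    (hdim : ringKrullDim A ≤ 2) {X : Scheme.{u}} (f : X ⟶ Spec (CommRingCat.of A))
    [LocallyOfFiniteType f] [IsIntegral X]
    (hbir : ∃ U : (Spec (CommRingCat.of A)).Opens,
      (U : Set (Spec (CommRingCat.of A))).Nonempty ∧ IsIso (f ∣_ U))
    (y : Spec (CommRingCat.of A)) : topologicalKrullDim ↥(f.fiber y) ≤ 1 := by
  obtain ⟨U, hUne, hUiso⟩ := hbir
  haveI := hUiso
  letI : (f.fiber y).Over (Spec (CommRingCat.of ((Spec (CommRingCat.of A)).residueField y))) :=
    ⟨f.fiberToSpecResidueField y⟩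
  haveI : LocallyOfFiniteType ((f.fiber y) ↘
      Spec (CommRingCat.of ((Spec (CommRingCat.of A)).residueField y))) :=
    locallyOfFiniteType_fiberToSpecResidueField f _
  rw [topologicalKrullDim_eq_iSup_trdegNat ((Spec (CommRingCat.of A)).residueField y)]
  refine iSup_le fun z => ?_
  rw [trdegNat_eq_ptTrdeg f y z]
  generalize f.fiberι y z = x
  have hgenU := genericPoint_mem_preimage f U hUne
  have hgen0 : letI := (f.residueFieldMap (genericPoint X)).hom.toAlgebra
      Algebra.trdeg ((Spec (CommRingCat.of A)).residueField (f.base (genericPoint X)))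
        (X.residueField (genericPoint X)) = 0 :=
    trdeg_eq_zero_of_bijective _
      (bijective_residueFieldMap_of_isIso_restrict f U (genericPoint X) hgenU)
  have hE : ∀ ξ : X, closure {ξ} ∈ irreducibleComponents ↥X → ξ ⤳ x →
      letI := (f.residueFieldMap ξ).hom.toAlgebra
      Algebra.trdeg ((Spec (CommRingCat.of A)).residueField (f.base ξ)) (X.residueField ξ)
        ≤ ((0 : ℕ) : Cardinal.{u}) := by
    intro ξ hξ _
    rw [irreducibleComponents_eq_singleton, Set.mem_singleton_iff] at hξ
    have h1 : IsGenericPoint ξ (Set.univ : Set X) := hξ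
    have h2 : ξ = genericPoint X := h1.eq (genericPoint_spec X)
    subst h2
    rw [hgen0]
    simp
  have h1 := ringKrullDim_stalk_add_le f x (ptTrdeg f x) 0 (trdeg_eq_ptTrdeg f x) hE
  have h2 : ringKrullDim ((Spec (CommRingCat.of A)).presheaf.stalk (f.base x)) ≤ 2 := by
    refine (ringKrullDim_stalk_le_topologicalKrullDim _ _).trans ?_
    change topologicalKrullDim (PrimeSpectrum A) ≤ 2
    rw [PrimeSpectrum.topologicalKrullDim_eq_ringKrullDim]
    exact hdim
  by_cases hx : x = genericPoint X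
  · subst hx
    have h3 := trdeg_eq_ptTrdeg f (genericPoint X)
    rw [hgen0] at h3
    have h4 : ptTrdeg f (genericPoint X) = 0 := by exact_mod_cast h3.symm
    rw [h4]
    exact_mod_cast zero_le_one
  · have h3 := one_le_ringKrullDim_stalk x hx
    have h4 : (1 : WithBot ℕ∞) + (ptTrdeg f x : WithBot ℕ∞) ≤ 2 := by
      calc (1 : WithBot ℕ∞) + (ptTrdeg f x : WithBot ℕ∞)
          ≤ ringKrullDim (X.presheaf.stalk x) + (ptTrdeg f x : WithBot ℕ∞) :=
            add_le_add h3 le_rfl
        _ ≤ ringKrullDim ((Spec (CommRingCat.of A)).presheaf.stalk (f.base x)) + (0 : ℕ) := h1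
        _ ≤ 2 := by simpa using h2
    have h5 : ((1 + ptTrdeg f x : ℕ) : WithBot ℕ∞) ≤ ((2 : ℕ) : WithBot ℕ∞) := by
      push_cast
      exact h4
    have h6 : 1 + ptTrdeg f x ≤ 2 := by exact_mod_cast h5
    have h7 : ptTrdeg f x ≤ 1 := by omega
    exact_mod_cast h7

end Groth.Agent.Lib.Helper2.ModifDimA
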