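import Mathlib
import Groth.Agent.Lib.Helper2ModifDimA
import Groth.Agent.Lib.Helper2GenH0A
import Groth.Agent.Lib.Helper13AffBC
import Groth.Agent.Lib.Helper23Serre
import Groth.Agent.Lib.Helper4DimFormulaAE

/-!
# Morphisms between modifications (helper2)

`g : X' ⟶ X` a morphism over `S` between integral schemes that are isomorphic to `S` over nonempty opens.
-/

set_option autoImplicit false
set_option linter.style.haveILetI false
universe u
open AlgebraicGeometry CategoryTheory CategoryTheory.Limits TopologicalSpace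

namespace Groth.Agent.Lib.Helper2.ModifDimB

open Groth.Agent.Lib.Helper2.ModifDimA

/-- restricting to a smaller open preserves `IsIso (f ∣_ U)`. -/
theorem isIso_restrict_of_le {X Y : Scheme.{u}} (f : X ⟶ Y) {U₁ U : Y.Opens} (h : U ≤ U₁)
    [IsIso (f ∣_ U₁)] : IsIso (f ∣_ U) := by
  have e := morphismRestrictRestrict f U₁ (U₁.ι ⁻¹ᵁ U)
  have h1 : IsIso (f ∣_ U₁ ∣_ (U₁.ι ⁻¹ᵁ U)) := inferInstance
  have h2 : IsIso (f ∣_ U₁.ι ''ᵁ (U₁.ι ⁻¹ᵁ U)) :=
    ((MorphismProperty.isomorphisms _).arrow_mk_iso_iff e).1 h1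
  have h3 : U₁.ι ''ᵁ (U₁.ι ⁻¹ᵁ U) = U := by
    rw [Scheme.Hom.image_preimage_eq_opensRange_inf, Scheme.Opens.opensRange_ι]
    exact inf_eq_right.2 h
  rw [h3] at h2
  exact h2

variable {X X' S : Scheme.{u}} (p : X ⟶ S) (p' : X' ⟶ S) (g : X' ⟶ X) (hg : g ≫ p = p')

include hg in
/-- `g` is an isomorphism over `p⁻¹(U)` when `p` and `p'` are isomorphisms over `U`. -/
theorem isIso_restrict_preimage (U : S.Opens) (hp : IsIso (p ∣_ U)) (hp' : IsIso (p' ∣_ U)) :
    IsIso (g ∣_ (p ⁻¹ᵁ U)) := by
  subst hg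
  have h1 : (g ≫ p) ∣_ U = g ∣_ (p ⁻¹ᵁ U) ≫ p ∣_ U := morphismRestrict_comp g p U
  have h2 : IsIso (g ∣_ (p ⁻¹ᵁ U) ≫ p ∣_ U) := by
    rw [← h1]
    exact hp'
  exact IsIso.of_isIso_comp_right (g ∣_ (p ⁻¹ᵁ U)) (p ∣_ U)

include hg in
/-- a morphism between modifications is an isomorphism over an open containing the generic point. -/
theorem exists_isIso_restrict [IsIntegral X] [IrreducibleSpace S]
    (hX : ∃ U : S.Opens, (U : Set S).Nonempty ∧ IsIso (p ∣_ U))
    (hX' : ∃ U : S.Opens, (U : Set S).Nonempty ∧ IsIso (p' ∣_ U)) :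
    ∃ W : X.Opens, genericPoint X ∈ W ∧ IsIso (g ∣_ W) := by
  obtain ⟨U₁, hU₁, h₁⟩ := hX
  obtain ⟨U₂, hU₂, h₂⟩ := hX'
  have hne : ((U₁ ⊓ U₂ : S.Opens) : Set S).Nonempty := by
    exact nonempty_preirreducible_inter U₁.isOpen U₂.isOpen hU₁ hU₂
  haveI hp : IsIso (p ∣_ (U₁ ⊓ U₂)) := isIso_restrict_of_le p (inf_le_left : U₁ ⊓ U₂ ≤ U₁)
  have hp' : IsIso (p' ∣_ (U₁ ⊓ U₂)) := isIso_restrict_of_le p' (inf_le_right : U₁ ⊓ U₂ ≤ U₂)
  exact ⟨p ⁻¹ᵁ (U₁ ⊓ U₂), genericPoint_mem_preimage p (U₁ ⊓ U₂) hne,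
    isIso_restrict_preimage p p' g hg _ hp hp'⟩

/-- the generic point maps to the generic point. -/
theorem map_genericPoint [IsIntegral X] [IsIntegral X'] (W : X.Opens) (hW : genericPoint X ∈ W)
    [IsIso (g ∣_ W)] : g (genericPoint X') = genericPoint X := by
  obtain ⟨x', hx'⟩ := (ConcreteCategory.bijective_of_isIso (g ∣_ W).base).2 ⟨genericPoint X, hW⟩
  have h1 : g x'.1 = genericPoint X := by
    have := congrArg Subtype.val hx'
    rwa [morphismRestrict_base_coe] at this
  have h2 : g (genericPoint X') ⤳ g x'.1 :=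
    (genericPoint_specializes x'.1).map g.continuous
  rw [h1] at h2
  exact (h2.antisymm (genericPoint_specializes _)).eq

/-- the fibre of `g` over a point of an open over which `g` is an isomorphism. -/
theorem isIso_fiberToSpecResidueField (W : X.Opens) [IsIso (g ∣_ W)] (x : X) (hx : x ∈ W) :
    IsIso (g.fiberToSpecResidueField x) := by
  let j := X.fromSpecResidueField x
  have hj : Set.range j ⊆ Set.range W.ι := by
    rw [Scheme.range_fromSpecResidueField, Scheme.Opens.range_ι]
    exact Set.singleton_subset_iff.2 hx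
  let j' : Spec (X.residueField x) ⟶ W := IsOpenImmersion.lift W.ι j hj
  have hj' : j' ≫ W.ι = j := IsOpenImmersion.lift_fac W.ι j hj
  have hsnd : IsIso (pullback.snd g W.ι) := by
    have h1 : g ∣_ W = (pullbackRestrictIsoRestrict g W).inv ≫ pullback.snd g W.ι := rfl
    have h2 : pullback.snd g W.ι = (pullbackRestrictIsoRestrict g W).hom ≫ g ∣_ W := by
      rw [h1, Iso.hom_inv_id_assoc]
    rw [h2]
    infer_instance
  let l : pullback g j ⟶ pullback g W.ι :=
    pullback.lift (pullback.fst g j) (pullback.snd g j ≫ j') (by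
      rw [Category.assoc, hj', pullback.condition])
  have hl1 : l ≫ pullback.fst g W.ι = pullback.fst g j := pullback.lift_fst _ _ _
  have hl2 : l ≫ pullback.snd g W.ι = pullback.snd g j ≫ j' := pullback.lift_snd _ _ _
  have H : IsPullback l (pullback.snd g j) (pullback.snd g W.ι) j' := by
    refine IsPullback.of_right ?_ hl2 (IsPullback.of_hasPullback g W.ι)
    rw [hl1, hj']
    exact IsPullback.of_hasPullback g j
  have : (MorphismProperty.isomorphisms Scheme.{u}) (pullback.snd g j) :=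
    MorphismProperty.of_isPullback H hsnd
  exact this

theorem bijective_fiber_appTop (W : X.Opens) [IsIso (g ∣_ W)] (x : X) (hx : x ∈ W) :
    Function.Bijective (g.fiberToSpecResidueField x).appTop := by
  haveI := isIso_fiberToSpecResidueField g W x hx
  haveI : IsIso (g.fiberToSpecResidueField x).appTop :=
    inferInstanceAs (IsIso ((g.fiberToSpecResidueField x).app ⊤))
  exact ConcreteCategory.bijective_of_isIso (g.fiberToSpecResidueField x).appTop

open Groth.Agent.Lib.Helper23.Serre Groth.Agent.Lib.Helper23.GenLocus in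
/-- `O_X → g_* O_{X'}` is an isomorphism for `g` proper birational onto a normal integral scheme. -/
theorem isIso_unitPush [IsProper g] [IsIntegral X] [IsIntegral X'] (hS : Pi1.IsNormalScheme X)
    (W : X.Opens) (hW : genericPoint X ∈ W) [IsIso (g ∣_ W)] : IsIso (unitPush g) := by
  have hgen : ∀ Z ∈ irreducibleComponents ↑X', ∀ x : X', IsGenericPoint x Z →
      g x = genericPoint ↑X := by
    intro Z hZ x hx
    rw [irreducibleComponents_eq_singleton, Set.mem_singleton_iff] at hZ
    subst hZ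
    have h2 : x = genericPoint X' := hx.eq (genericPoint_spec X')
    rw [h2]
    exact map_genericPoint g W hW
  have h0 := bijective_fiber_appTop g W (genericPoint X) hW
  let ι : Type u := {U : X.Opens // IsAffineOpen U ∧ Nonempty U}
  let B : ι → X.Opens := Subtype.val
  have hB : Opens.IsBasis (Set.range B) := by
    rw [Opens.isBasis_iff_nbhd]
    intro U x hx
    obtain ⟨U', hU', hxU', hle⟩ := (Opens.isBasis_iff_nbhd.1 X.isBasis_affineOpens) hx
    exact ⟨U', ⟨⟨U', hU', ⟨⟨x, hxU'⟩⟩⟩, rfl⟩, hxU', hle⟩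
  refine Groth.Agent.Helper13AffBC.isIso_of_bijective_on_basis (unitPush g) B hB ?_
  rintro ⟨U, hU, hne⟩
  have hb : Function.Bijective (g.app U) :=
    Groth.Agent.Lib.Helper2.GenH0A.bijective_app g hS hgen h0 U hU
  constructor
  · intro a b hab
    obtain ⟨a', rfl⟩ : ∃ a', toS U a' = a := ⟨ofS U a, rfl⟩
    obtain ⟨b', rfl⟩ : ∃ b', toS U b' = b := ⟨ofS U b, rfl⟩
    rw [unitPush_app, unitPush_app] at hab
    have : g.app U a' = g.app U b' := hab
    rw [hb.1 this]
  · intro c
    obtain ⟨a, ha⟩ := hb.2 (ofS (g ⁻¹ᵁ U) c)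
    refine ⟨toS U a, ?_⟩
    rw [unitPush_app, ha]
    rfl

section Dim

open Groth.Agent.Lib.Helper4.VarDim Groth.Agent.Lib.Helper4.FibDim Groth.Agent.Lib.Helper4.DimFormula

attribute [local instance] Curv2.resAlgebra in
/-- local rings of a modification of a Noetherian domain of dimension `≤ 2` have dimension `≤ 2`. -/
theorem ringKrullDim_stalk_le_two (A : Type u) [CommRing A] [IsDomain A] [IsNoetherianRing A]
    (hdim : ringKrullDim A ≤ 2) {X : Scheme.{u}} (f : X ⟶ Spec (CommRingCat.of A))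
    [LocallyOfFiniteType f] [IsIntegral X]
    (hbir : ∃ U : (Spec (CommRingCat.of A)).Opens,
      (U : Set (Spec (CommRingCat.of A))).Nonempty ∧ IsIso (f ∣_ U))
    (x : X) : ringKrullDim (X.presheaf.stalk x) ≤ 2 := by
  obtain ⟨U, hUne, hUiso⟩ := hbir
  haveI := hUiso
  have hgenU := genericPoint_mem_preimage f U hUne
  have hgen0 : letI := (f.residueFieldMap (genericPoint X)).hom.toAlgebra
      Algebra.trdeg ((Spec (CommRingCat.of A)).residueField (f.base (genericPoint X)))
        (X.residueField (genericPoint X)) = 0 :=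
    trdeg_eq_zero_of_bijective _
      (bijective_residueFieldMap_of_isIso_restrict f U (genericPoint X) hgenU)
  have hE : ∀ ξ : X, closure {ξ} ∈ irreducibleComponents ↥X → ξ ⤳ x →
      letI := (f.residueFieldMap ξ).hom.toAlgebra
      Algebra.trdeg ((Spec (CommRingCat.of A)).residueField (f.base ξ)) (X.residueField ξ)
        ≤ ((0 : ℕ) : Cardinal.{u}) := by
    intro ξ hξ _
    rw [irreducibleComponents_eq_singleton, Set.mem_singleton_iff] at hξ
    have h1 : IsGenericPoint ξ (Set.univ : Set X) := hξ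
    have h2 : ξ = genericPoint X := h1.eq (genericPoint_spec X)
    subst h2
    rw [hgen0]
    simp
  have h1 := ringKrullDim_stalk_add_le f x (ptTrdeg f x) 0 (trdeg_eq_ptTrdeg f x) hE
  have h2 : ringKrullDim ((Spec (CommRingCat.of A)).presheaf.stalk (f.base x)) ≤ 2 := by
    refine (ringKrullDim_stalk_le_topologicalKrullDim _ _).trans ?_
    change topologicalKrullDim (PrimeSpectrum A) ≤ 2
    rw [PrimeSpectrum.topologicalKrullDim_eq_ringKrullDim]
    exact hdim
  calc ringKrullDim (X.presheaf.stalk x)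
      ≤ ringKrullDim (X.presheaf.stalk x) + (ptTrdeg f x : WithBot ℕ∞) :=
        le_add_of_nonneg_right (by exact_mod_cast Nat.zero_le _)
    _ ≤ ringKrullDim ((Spec (CommRingCat.of A)).presheaf.stalk (f.base x)) + (0 : ℕ) := h1
    _ ≤ 2 := by simpa using h2

/-- a non-closed point of a scheme whose local rings have dimension `≤ 2` has a local ring of
dimension `≤ 1`. -/
theorem ringKrullDim_stalk_le_one_of_not_isClosed {X : Scheme.{u}}
    (h2 : ∀ y : X, ringKrullDim (X.presheaf.stalk y) ≤ 2) (x : X) (hx : ¬ IsClosed ({x} : Set X)) :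
    ringKrullDim (X.presheaf.stalk x) ≤ 1 := by
  obtain ⟨y, hy, hyx⟩ : ∃ y ∈ closure ({x} : Set X), y ≠ x := by
    by_contra hcon
    push Not at hcon
    apply hx
    rw [← closure_subset_iff_isClosed]
    intro y hy
    exact hcon y hy
  have hsp : x ⤳ y := specializes_iff_mem_closure.2 hy
  have hmem : x ∈ Set.range (X.fromSpecStalk y) := by
    rw [Scheme.range_fromSpecStalk]
    exact hsp
  obtain ⟨q, hq⟩ := hmem
  let q' : PrimeSpectrum (X.presheaf.stalk y) := q
  haveI : q'.asIdeal.IsPrime := q'.2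
  have hht := height_eq_ringKrullDim_stalk_fromSpecStalk y q'.asIdeal
  have hq' : X.fromSpecStalk y ⟨q'.asIdeal, q'.2⟩ = x := hq
  rw [hq'] at hht
  have hlt : q'.asIdeal < IsLocalRing.maximalIdeal (X.presheaf.stalk y) := by
    refine lt_of_le_of_ne (IsLocalRing.le_maximalIdeal q'.2.ne_top) ?_
    intro h
    apply hyx
    have h3 : q' = IsLocalRing.closedPoint (X.presheaf.stalk y) := PrimeSpectrum.ext h
    have h4 : q = IsLocalRing.closedPoint (X.presheaf.stalk y) := h3
    rw [← hq, h4]
    exact Scheme.fromSpecStalk_closedPoint.symm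
  have h5 := Ideal.height_add_one_le_of_lt_of_isPrime hlt
  have h6 : ((IsLocalRing.maximalIdeal (X.presheaf.stalk y)).height : WithBot ℕ∞) ≤ 2 := by
    rw [IsLocalRing.maximalIdeal_height_eq_ringKrullDim]
    exact h2 y
  have h7 : (IsLocalRing.maximalIdeal (X.presheaf.stalk y)).height ≤ 2 := by
    have h6' : ((IsLocalRing.maximalIdeal (X.presheaf.stalk y)).height : WithBot ℕ∞) ≤
        ((2 : ℕ∞) : WithBot ℕ∞) := h6
    exact WithBot.coe_le_coe.1 h6'
  have h8 : q'.asIdeal.height + 1 ≤ 2 := h5.trans h7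
  have h9 : q'.asIdeal.height ≤ 1 := by
    by_cases h : q'.asIdeal.height = ⊤
    · rw [h] at h8
      exact absurd h8 (by decide)
    · obtain ⟨n, hn⟩ := ENat.ne_top_iff_exists.1 h
      rw [← hn] at h8 ⊢
      have h10 : n + 1 ≤ 2 := by exact_mod_cast h8
      have : n ≤ 1 := by omega
      exact_mod_cast this
  rw [← hht]
  have h11 : ((q'.asIdeal.height : ℕ∞) : WithBot ℕ∞) ≤ ((1 : ℕ∞) : WithBot ℕ∞) :=
    WithBot.coe_le_coe.2 h9
  exact h11

attribute [local instance] Curv2.resAlgebra in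
/-- the fibres of a birational morphism of integral schemes over points whose local ring has
dimension `≤ 1` have dimension `≤ 0`. -/
theorem fiber_dim_le_zero {X X' : Scheme.{u}} (g : X' ⟶ X) [IsLocallyNoetherian X]
    [LocallyOfFiniteType g] [IsIntegral X] [IsIntegral X'] (W : X.Opens) (hW : genericPoint X ∈ W)
    [IsIso (g ∣_ W)] (x : X) (hx : ringKrullDim (X.presheaf.stalk x) ≤ 1) :
    topologicalKrullDim ↥(g.fiber x) ≤ 0 := by
  letI : (g.fiber x).Over (Spec (CommRingCat.of (X.residueField x))) :=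
    ⟨g.fiberToSpecResidueField x⟩
  haveI : LocallyOfFiniteType ((g.fiber x) ↘ Spec (CommRingCat.of (X.residueField x))) :=
    locallyOfFiniteType_fiberToSpecResidueField g _
  rw [topologicalKrullDim_eq_iSup_trdegNat (X.residueField x)]
  refine iSup_le fun z => ?_
  rw [trdegNat_eq_ptTrdeg g x z]
  have hz : g.base (g.fiberι x z) = x := by
    have : g.fiberι x z ∈ Set.range (g.fiberι x) := ⟨z, rfl⟩
    rw [Scheme.Hom.range_fiberι] at this
    exact this
  generalize g.fiberι x z = x' at hz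
  have hη : g.base (genericPoint X') = genericPoint X := map_genericPoint g W hW
  have hgenW : g.base (genericPoint X') ∈ W := by rw [hη]; exact hW
  have hgen0 : letI := (g.residueFieldMap (genericPoint X')).hom.toAlgebra
      Algebra.trdeg (X.residueField (g.base (genericPoint X')))
        (X'.residueField (genericPoint X')) = 0 :=
    trdeg_eq_zero_of_bijective _
      (bijective_residueFieldMap_of_isIso_restrict g W (genericPoint X') hgenW)
  have hE : ∀ ξ : X', closure {ξ} ∈ irreducibleComponents ↥X' → ξ ⤳ x' →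
      letI := (g.residueFieldMap ξ).hom.toAlgebra
      Algebra.trdeg (X.residueField (g.base ξ)) (X'.residueField ξ)
        ≤ ((0 : ℕ) : Cardinal.{u}) := by
    intro ξ hξ _
    rw [irreducibleComponents_eq_singleton, Set.mem_singleton_iff] at hξ
    have h1 : IsGenericPoint ξ (Set.univ : Set X') := hξ
    have h2 : ξ = genericPoint X' := h1.eq (genericPoint_spec X')
    subst h2
    rw [hgen0]
    simp
  have h1 := ringKrullDim_stalk_add_le g x' (ptTrdeg g x') 0 (trdeg_eq_ptTrdeg g x') hE
  rw [hz] at h1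
  by_cases hx' : x' = genericPoint X'
  · subst hx'
    have h3 := trdeg_eq_ptTrdeg g (genericPoint X')
    rw [hgen0] at h3
    have h4 : ptTrdeg g (genericPoint X') = 0 := by exact_mod_cast h3.symm
    rw [h4]
    exact_mod_cast le_rfl
  · have h3 := one_le_ringKrullDim_stalk x' hx'
    have h4 : (1 : WithBot ℕ∞) + (ptTrdeg g x' : WithBot ℕ∞) ≤ 1 := by
      calc (1 : WithBot ℕ∞) + (ptTrdeg g x' : WithBot ℕ∞)
          ≤ ringKrullDim (X'.presheaf.stalk x') + (ptTrdeg g x' : WithBot ℕ∞) :=
            add_le_add h3 le_rfl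
        _ ≤ ringKrullDim (X.presheaf.stalk x) + (0 : ℕ) := h1
        _ ≤ 1 := by simpa using hx
    have h5 : ((1 + ptTrdeg g x' : ℕ) : WithBot ℕ∞) ≤ ((1 : ℕ) : WithBot ℕ∞) := by
      push_cast
      exact h4
    have h6 : 1 + ptTrdeg g x' ≤ 1 := by exact_mod_cast h5
    have h7 : ptTrdeg g x' ≤ 0 := by omega
    exact_mod_cast h7

end Dim

end Groth.Agent.Lib.Helper2.ModifDimB
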