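import Mathlib
import Groth.Agent.Lib.Helper4TotalFrac
import Groth.Agent.Lib.Helper4TotalFracFin

set_option autoImplicit false
set_option linter.style.haveILetI false

namespace Groth.Agent.Lib.Helper3.MCNorm

section Abstract

variable {W P : Type*} [CommRing W] [CommRing P] [Algebra W P]

theorem mem_nonZeroDivisors_of_map (hinj : Function.Injective (algebraMap W P)) {w : W}
    (hw : algebraMap W P w ∈ nonZeroDivisors P) : w ∈ nonZeroDivisors W := by
  rw [mem_nonZeroDivisors_iff_right]
  intro x hx
  apply hinj
  rw [map_zero]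
  apply (mem_nonZeroDivisors_iff_right.mp hw)
  rw [← map_mul, hx, map_zero]

theorem map_mem_nonZeroDivisors_of_conductor (hinj : Function.Injective (algebraMap W P)) (s : W)
    (hs : algebraMap W P s ∈ nonZeroDivisors P)
    (hsP : ∀ p : P, ∃ w : W, algebraMap W P w = algebraMap W P s * p) {w : W}
    (hw : w ∈ nonZeroDivisors W) : algebraMap W P w ∈ nonZeroDivisors P := by
  rw [mem_nonZeroDivisors_iff_right]
  intro p hp
  obtain ⟨w', hw'⟩ := hsP p
  have h1 : w' * w = 0 := by
    apply hinj
    rw [map_mul, hw', mul_assoc, hp, mul_zero, map_zero]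
  have h2 : w' = 0 := (mem_nonZeroDivisors_iff_right.mp hw) w' h1
  rw [h2, map_zero] at hw'
  apply (mem_nonZeroDivisors_iff_right.mp hs)
  rw [mul_comm]
  exact hw'.symm

theorem isFractionRing_of_conductor (hinj : Function.Injective (algebraMap W P)) (s : W)
    (hs : algebraMap W P s ∈ nonZeroDivisors P)
    (hsP : ∀ p : P, ∃ w : W, algebraMap W P w = algebraMap W P s * p) :
    IsFractionRing W (FractionRing P) := by
  have hinj' : Function.Injective (algebraMap W (FractionRing P)) := by
    rw [IsScalarTower.algebraMap_eq W P (FractionRing P)]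
    exact (IsFractionRing.injective P (FractionRing P)).comp hinj
  refine ⟨⟨?_, ?_, ?_⟩⟩
  · rintro ⟨y, hy⟩
    rw [IsScalarTower.algebraMap_apply W P (FractionRing P)]
    exact IsLocalization.map_units (FractionRing P)
      (⟨_, map_mem_nonZeroDivisors_of_conductor hinj s hs hsP hy⟩ : nonZeroDivisors P)
  · intro z
    obtain ⟨a, b, rfl⟩ := IsLocalization.exists_mk'_eq (nonZeroDivisors P) z
    obtain ⟨wa, hwa⟩ := hsP a
    obtain ⟨wb, hwb⟩ := hsP (b : P)
    have hwb' : wb ∈ nonZeroDivisors W := by
      apply mem_nonZeroDivisors_of_map hinj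
      rw [hwb]
      exact mul_mem hs b.2
    refine ⟨(wa, ⟨wb, hwb'⟩), ?_⟩
    show IsLocalization.mk' (FractionRing P) a b * algebraMap W (FractionRing P) wb =
      algebraMap W (FractionRing P) wa
    rw [IsScalarTower.algebraMap_apply W P (FractionRing P),
      IsScalarTower.algebraMap_apply W P (FractionRing P), hwa, hwb, map_mul, map_mul,
      mul_comm (algebraMap P (FractionRing P) (algebraMap W P s)), ← mul_assoc,
      IsLocalization.mk'_spec, mul_comm]
  · intro x y hxy
    exact ⟨1, by rw [hinj' hxy]⟩

/-- A ring `P` that is integral over `W`, integrally closed in its total ring of fractions, and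
contained in the total ring of fractions of `W` (via a conductor element), is the normalization
of `W`. -/
theorem exists_algEquiv_normalization (hinj : Function.Injective (algebraMap W P))
    [Algebra.IsIntegral W P] (s : W)
    (hs : algebraMap W P s ∈ nonZeroDivisors P)
    (hsP : ∀ p : P, ∃ w : W, algebraMap W P w = algebraMap W P s * p)
    (hP : IsIntegrallyClosedIn P (FractionRing P)) :
    Nonempty (P ≃ₐ[W] integralClosure W (FractionRing W)) := by
  haveI := isFractionRing_of_conductor hinj s hs hsP
  let E : FractionRing W ≃ₐ[W] FractionRing P := FractionRing.algEquiv W (FractionRing P)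
  have h1 : integralClosure W (FractionRing P) =
      (IsScalarTower.toAlgHom W P (FractionRing P)).range := by
    ext z
    constructor
    · intro hz
      have hz' : IsIntegral P z := (hz : IsIntegral W z).tower_top
      obtain ⟨p, hp⟩ := (isIntegrallyClosedIn_iff.mp hP).2 hz'
      exact ⟨p, hp⟩
    · rintro ⟨p, rfl⟩
      exact (Algebra.IsIntegral.isIntegral (R := W) p).map (IsScalarTower.toAlgHom W P (FractionRing P))
  have hinjP : Function.Injective (IsScalarTower.toAlgHom W P (FractionRing P)) :=
    IsFractionRing.injective P (FractionRing P)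
  exact ⟨(AlgEquiv.ofInjective _ hinjP).trans
    ((Subalgebra.equivOfEq _ _ h1.symm).trans E.mapIntegralClosure.symm)⟩

end Abstract


section MC

open PowerSeries

variable {k : Type*} [Field k] {n : ℕ} {B : Type*} [CommRing B]

/-- the multicross condition on a ring map to `(k[[t]])^n` -/
def IsMC (φ : B →+* (Fin n → PowerSeries k)) : Prop :=
  Function.Injective φ ∧ Set.range φ = {g : Fin n → PowerSeries k |
    ∀ i j : Fin n, constantCoeff (g i) = constantCoeff (g j)}

variable {φ : B →+* (Fin n → PowerSeries k)}

theorem IsMC.exists_eq (hφ : IsMC φ) (g : Fin n → PowerSeries k)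
    (hg : ∀ i j : Fin n, constantCoeff (g i) = constantCoeff (g j)) : ∃ b, φ b = g := by
  have : g ∈ Set.range φ := by rw [hφ.2]; exact hg
  exact this

theorem IsMC.constantCoeff_eq (hφ : IsMC φ) (b : B) (i j : Fin n) :
    constantCoeff (φ b i) = constantCoeff (φ b j) := by
  have : φ b ∈ Set.range φ := ⟨b, rfl⟩
  rw [hφ.2] at this
  exact this i j

theorem X_mem_nonZeroDivisors :
    (fun _ => X : Fin n → PowerSeries k) ∈ nonZeroDivisors (Fin n → PowerSeries k) := by
  rw [mem_nonZeroDivisors_iff_right]
  intro p hp
  funext i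
  have := congrFun hp i
  simp only [Pi.mul_apply, Pi.zero_apply] at this
  rcases mul_eq_zero.mp this with h | h
  · exact h
  · exact absurd h PowerSeries.X_ne_zero

theorem isIntegral_single (i : Fin n) :
    letI := φ.toAlgebra
    IsIntegral B (Pi.single i 1 : Fin n → PowerSeries k) := by
  letI := φ.toAlgebra
  refine ⟨Polynomial.X ^ 2 - Polynomial.X, Polynomial.monic_X_pow_sub ?_, ?_⟩
  · exact Polynomial.degree_X_le.trans_lt (by norm_num)
  · rw [Polynomial.eval₂_sub, Polynomial.eval₂_pow, Polynomial.eval₂_X, pow_two,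
      ← Pi.single_mul, mul_one, sub_self]

theorem IsMC.isIntegral (hφ : IsMC φ) :
    letI := φ.toAlgebra
    Algebra.IsIntegral B (Fin n → PowerSeries k) := by
  letI := φ.toAlgebra
  classical
  refine ⟨fun p => ?_⟩
  have hb : ∀ i : Fin n, ∃ b : B, φ b = fun j => if j = i then p i else C (constantCoeff (p i)) := by
    intro i
    apply hφ.exists_eq
    intro j j'
    by_cases hj : j = i <;> by_cases hj' : j' = i <;> simp [hj, hj']
  choose b hb using hb
  have hp : p = ∑ i, (Pi.single i 1 : Fin n → PowerSeries k) * algebraMap B _ (b i) := by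
    funext j
    rw [Finset.sum_apply, Finset.sum_eq_single j]
    · show p j = (Pi.single j 1 : Fin n → PowerSeries k) j * φ (b j) j
      rw [hb, Pi.single_eq_same, one_mul]
      simp only [if_true]
    · intro i _ hij
      rw [Pi.mul_apply, Pi.single_eq_of_ne (Ne.symm hij), zero_mul]
    · intro h; exact absurd (Finset.mem_univ j) h
  rw [hp]
  refine IsIntegral.sum _ fun i _ => ?_
  exact (isIntegral_single i).mul isIntegral_algebraMap

theorem isIntegrallyClosedIn_pi :
    IsIntegrallyClosedIn (Fin n → PowerSeries k) (FractionRing (Fin n → PowerSeries k)) :=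
  Groth.Agent.Lib.Helper4.TotalFracFin.isIntegrallyClosedIn_of_forall_localization _
    (fun m _ => Groth.Agent.Lib.Helper4.TotalFrac.isDomain_isIntegrallyClosed_localization_pi _ m)

/-- the normalization of a multicross ring is `(k[[t]])^n` -/
theorem IsMC.exists_algEquiv (hφ : IsMC φ) :
    letI := φ.toAlgebra
    Nonempty ((Fin n → PowerSeries k) ≃ₐ[B] integralClosure B (FractionRing B)) := by
  letI := φ.toAlgebra
  haveI := hφ.isIntegral
  obtain ⟨s, hs⟩ := hφ.exists_eq (fun _ => X) (fun _ _ => rfl)
  refine exists_algEquiv_normalization hφ.1 s ?_ ?_ isIntegrallyClosedIn_pi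
  · show φ s ∈ _
    rw [hs]; exact X_mem_nonZeroDivisors
  · intro p
    show ∃ w, φ w = φ s * p
    rw [hs]
    apply hφ.exists_eq
    intro i j
    simp

theorem IsMC.card_maximalSpectrum (hφ : IsMC φ) :
    ENat.card (MaximalSpectrum (integralClosure B (FractionRing B))) = n := by
  letI := φ.toAlgebra
  obtain ⟨θ⟩ := hφ.exists_algEquiv
  rw [← ENat.card_congr (Groth.Agent.Lib.Helper4.TotalFracFin.maxSpecEquiv θ.toRingEquiv),
    Groth.Agent.Lib.Helper4.TotalFracFin.enat_card_maxSpec_pi]
  simp

/-- the residue map of a multicross ring -/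
noncomputable def resid (φ : B →+* (Fin n → PowerSeries k)) (i₀ : Fin n) : B →+* k :=
  (constantCoeff (R := k)).comp ((Pi.evalRingHom (fun _ : Fin n => PowerSeries k) i₀).comp φ)

theorem resid_apply (i₀ : Fin n) (b : B) : resid φ i₀ b = constantCoeff (φ b i₀) := rfl

theorem IsMC.resid_surjective (hφ : IsMC φ) (i₀ : Fin n) : Function.Surjective (resid φ i₀) := by
  intro c
  obtain ⟨b, hb⟩ := hφ.exists_eq (fun _ => C c) (fun _ _ => rfl)
  exact ⟨b, by rw [resid_apply, hb]; simp⟩

/-- `k` as a `B`-module via the residue map -/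
def Res (_φ : B →+* (Fin n → PowerSeries k)) (_i₀ : Fin n) : Type _ := k

noncomputable instance (i₀ : Fin n) : AddCommGroup (Res φ i₀) := inferInstanceAs (AddCommGroup k)

noncomputable instance (i₀ : Fin n) : Module B (Res φ i₀) := Module.compHom k (resid φ i₀)

/-- the underlying element -/
def Res.val {i₀ : Fin n} (x : Res φ i₀) : k := x

/-- the element of `Res` given by a scalar -/
def Res.mk (φ : B →+* (Fin n → PowerSeries k)) (i₀ : Fin n) (x : k) : Res φ i₀ := x

theorem Res.smul_def (i₀ : Fin n) (b : B) (x : Res φ i₀) :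
    b • x = Res.mk φ i₀ (resid φ i₀ b * x.val) := rfl

theorem IsMC.length_resid (hφ : IsMC φ) (i₀ : Fin n) :
    Module.length B (Res φ i₀) = 1 := by
  letI := (resid φ i₀).toAlgebra
  letI : Module k (Res φ i₀) := inferInstanceAs (Module k k)
  haveI : IsScalarTower B k (Res φ i₀) := ⟨fun b c x => by
    show Res.mk φ i₀ ((resid φ i₀ (b) * c) * x.val) = Res.mk φ i₀ (resid φ i₀ b * (c * x.val))
    rw [mul_assoc]⟩
  haveI : Module.Finite k (Res φ i₀) := inferInstanceAs (Module.Finite k k)
  rw [Module.length_eq_of_surjective (S := B) (R := k) (M := Res φ i₀) (hφ.resid_surjective i₀),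
    Module.length_eq_finrank]
  have : Module.finrank k (Res φ i₀) = 1 := Module.finrank_self k
  rw [this, Nat.cast_one]

theorem IsMC.length_quotient_pi (hφ : IsMC φ) (i₀ : Fin n) :
    letI := φ.toAlgebra
    Module.length B ((Fin n → PowerSeries k) ⧸
      LinearMap.range (Algebra.linearMap B (Fin n → PowerSeries k))) + 1 = n := by
  letI := φ.toAlgebra
  classical
  let Φ : (Fin n → PowerSeries k) →ₗ[B] ({i : Fin n // i ≠ i₀} → Res φ i₀) :=
    { toFun := fun p i => Res.mk φ i₀ (constantCoeff (p i.1) - constantCoeff (p i₀))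
      map_add' := fun p q => by
        funext i
        show (constantCoeff ((p + q) i.1) - constantCoeff ((p + q) i₀) : k) =
          ((constantCoeff (p i.1) - constantCoeff (p i₀)) +
          (constantCoeff (q i.1) - constantCoeff (q i₀)) : k)
        simp only [Pi.add_apply, map_add]
        ring
      map_smul' := fun b p => by
        funext i
        have h1 : (b • p) = φ b * p := Algebra.smul_def b p
        show (constantCoeff ((b • p) i.1) - constantCoeff ((b • p) i₀) : k) =
          (resid φ i₀ b * (constantCoeff (p i.1) - constantCoeff (p i₀)) : k)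
        rw [h1]
        simp only [Pi.mul_apply, map_mul, resid_apply, hφ.constantCoeff_eq b i.1 i₀]
        ring }
  have hsurj : Function.Surjective Φ := by
    intro c
    refine ⟨fun i => if h : i ≠ i₀ then C (c ⟨i, h⟩).val else 0, ?_⟩
    funext i
    show (constantCoeff (if h : i.1 ≠ i₀ then C (c ⟨i.1, h⟩).val else 0) -
      constantCoeff (if h : i₀ ≠ i₀ then C (c ⟨i₀, h⟩).val else (0 : PowerSeries k)) : k) =
      (c i).val
    rw [dif_pos i.2, dif_neg (fun h => h rfl), map_zero, sub_zero]
    simp
  have hker : LinearMap.ker Φ = LinearMap.range (Algebra.linearMap B (Fin n → PowerSeries k)) := by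
    ext p
    rw [LinearMap.mem_ker, LinearMap.mem_range]
    constructor
    · intro hp
      have h1 : ∀ i : Fin n, constantCoeff (p i) = constantCoeff (p i₀) := by
        intro i
        by_cases hi : i = i₀
        · rw [hi]
        · have := congrFun hp ⟨i, hi⟩
          exact sub_eq_zero.mp this
      obtain ⟨b, hb⟩ := hφ.exists_eq p (fun i j => by rw [h1 i, h1 j])
      exact ⟨b, hb⟩
    · rintro ⟨b, rfl⟩
      funext i
      show (constantCoeff (φ b i.1) - constantCoeff (φ b i₀) : k) = 0
      rw [hφ.constantCoeff_eq b i.1 i₀, sub_self]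
  have e1 := (Submodule.quotEquivOfEq _ _ hker).symm.trans (Φ.quotKerEquivOfSurjective hsurj)
  rw [e1.length_eq, Module.length_pi, hφ.length_resid i₀, mul_one,
    ENat.card_eq_coe_fintype_card, Fintype.card_subtype_compl, Fintype.card_subtype_eq,
    Fintype.card_fin]
  have hn : 1 ≤ n := Nat.one_le_iff_ne_zero.mpr (fun h => by subst h; exact i₀.elim0)
  exact_mod_cast Nat.sub_add_cancel hn

/-- the delta invariant of a multicross ring -/
theorem IsMC.length_quotient (hφ : IsMC φ) (i₀ : Fin n) :
    Module.length B (integralClosure B (FractionRing B) ⧸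
      LinearMap.range (Algebra.linearMap B (integralClosure B (FractionRing B)))) + 1 = n := by
  letI := φ.toAlgebra
  obtain ⟨θ⟩ := hφ.exists_algEquiv
  have hmap : (LinearMap.range (Algebra.linearMap B (Fin n → PowerSeries k))).map
      θ.toLinearEquiv.toLinearMap =
      LinearMap.range (Algebra.linearMap B (integralClosure B (FractionRing B))) := by
    ext y
    simp only [Submodule.mem_map, LinearMap.mem_range, Algebra.linearMap_apply]
    constructor
    · rintro ⟨_, ⟨a, rfl⟩, rfl⟩
      exact ⟨a, (θ.commutes a).symm⟩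
    · rintro ⟨a, rfl⟩
      exact ⟨_, ⟨a, rfl⟩, θ.commutes a⟩
  rw [← (Submodule.Quotient.equiv _ _ θ.toLinearEquiv hmap).length_eq]
  exact hφ.length_quotient_pi i₀

theorem IsMC.maximalIdeal_eq [IsLocalRing B] (hφ : IsMC φ) (i₀ : Fin n) :
    IsLocalRing.maximalIdeal B = RingHom.ker (resid φ i₀) := by
  haveI : (RingHom.ker (resid φ i₀)).IsMaximal :=
    RingHom.ker_isMaximal_of_surjective _ (hφ.resid_surjective i₀)
  exact (IsLocalRing.eq_maximalIdeal ‹_›).symm

theorem IsMC.constantCoeff_of_mem [IsLocalRing B] (hφ : IsMC φ) {x : B}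
    (hx : x ∈ IsLocalRing.maximalIdeal B) (i : Fin n) : constantCoeff (φ x i) = 0 := by
  rw [hφ.maximalIdeal_eq i, RingHom.mem_ker, resid_apply] at hx
  exact hx

theorem coeff_one_mul_of_constantCoeff (f g : PowerSeries k) (hg : constantCoeff g = 0) :
    coeff 1 (f * g) = constantCoeff f * coeff 1 g := by
  rw [PowerSeries.coeff_mul]
  simp [Finset.Nat.antidiagonal_succ, hg]

/-- the cotangent space of a multicross ring has dimension `n` -/
theorem IsMC.finrank_cotangentSpace [IsLocalRing B] [IsNoetherianRing B] (hφ : IsMC φ)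
    (i₀ : Fin n) :
    Module.finrank (IsLocalRing.ResidueField B) (IsLocalRing.CotangentSpace B) = n := by
  classical
  let D : IsLocalRing.maximalIdeal B →ₗ[B] (Fin n → Res φ i₀) :=
    { toFun := fun x i => Res.mk φ i₀ (coeff 1 (φ x.1 i))
      map_add' := fun x y => by
        funext i
        show (coeff 1 (φ (x.1 + y.1) i) : k) = (coeff 1 (φ x.1 i) + coeff 1 (φ y.1 i) : k)
        rw [map_add, Pi.add_apply, map_add]
      map_smul' := fun b x => by
        funext i
        show (coeff 1 (φ (b * x.1) i) : k) = (resid φ i₀ b * coeff 1 (φ x.1 i) : k)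
        rw [map_mul, Pi.mul_apply, coeff_one_mul_of_constantCoeff _ _
          (hφ.constantCoeff_of_mem x.2 i), resid_apply, hφ.constantCoeff_eq b i i₀] }
  have hsurj : Function.Surjective D := by
    intro c
    obtain ⟨b, hb⟩ := hφ.exists_eq (fun i => C (c i).val * X) (fun i j => by simp)
    have hbm : b ∈ IsLocalRing.maximalIdeal B := by
      rw [hφ.maximalIdeal_eq i₀, RingHom.mem_ker, resid_apply, hb]
      simp
    refine ⟨⟨b, hbm⟩, ?_⟩
    funext i
    show (coeff 1 (φ b i) : k) = (c i).val
    rw [hb]
    simp
  have hker : LinearMap.ker D = LinearMap.ker (IsLocalRing.maximalIdeal B).toCotangent := by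
    ext x
    rw [LinearMap.mem_ker, Ideal.mem_toCotangent_ker]
    constructor
    · intro hx
      have h1 : ∀ i, X ^ 2 ∣ φ x.1 i := by
        intro i
        rw [PowerSeries.X_pow_dvd_iff]
        intro m hm
        interval_cases m
        · rw [PowerSeries.coeff_zero_eq_constantCoeff_apply]
          exact hφ.constantCoeff_of_mem x.2 i
        · exact congrFun hx i
      choose q hq using h1
      obtain ⟨s, hs⟩ := hφ.exists_eq (fun _ => X) (fun _ _ => rfl)
      obtain ⟨y, hy⟩ := hφ.exists_eq (fun i => X * q i) (fun i j => by simp)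
      have hsm : s ∈ IsLocalRing.maximalIdeal B := by
        rw [hφ.maximalIdeal_eq i₀, RingHom.mem_ker, resid_apply, hs]
        simp
      have hym : y ∈ IsLocalRing.maximalIdeal B := by
        rw [hφ.maximalIdeal_eq i₀, RingHom.mem_ker, resid_apply, hy]
        simp
      have hxy : x.1 = s * y := by
        apply hφ.1
        rw [map_mul, hs, hy]
        funext i
        rw [hq i, Pi.mul_apply]
        ring
      rw [hxy, pow_two]
      exact Ideal.mul_mem_mul hsm hym
    · intro hx
      rw [pow_two] at hx
      have key : ∀ z ∈ IsLocalRing.maximalIdeal B * IsLocalRing.maximalIdeal B,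
          ∀ i, coeff 1 (φ z i) = 0 := by
        intro z hz
        refine Submodule.mul_induction_on hz ?_ ?_
        · intro a ha b hb i
          rw [map_mul, Pi.mul_apply, coeff_one_mul_of_constantCoeff _ _
            (hφ.constantCoeff_of_mem hb i), hφ.constantCoeff_of_mem ha i, zero_mul]
        · intro a b ha hb i
          rw [map_add, Pi.add_apply, map_add, ha i, hb i, add_zero]
      funext i
      exact key x.1 hx i
  have e1 : IsLocalRing.CotangentSpace B ≃ₗ[B] (Fin n → Res φ i₀) :=
    ((LinearMap.quotKerEquivOfSurjective _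
      (IsLocalRing.maximalIdeal B).toCotangent_surjective).symm.trans
      (Submodule.quotEquivOfEq _ _ hker.symm)).trans (D.quotKerEquivOfSurjective hsurj)
  have h1 : Module.length B (IsLocalRing.CotangentSpace B) = n := by
    rw [e1.length_eq, Module.length_pi, hφ.length_resid i₀, mul_one,
      ENat.card_eq_coe_fintype_card, Fintype.card_fin]
  rw [Module.length_eq_of_surjective (S := B) (R := IsLocalRing.ResidueField B)
    (M := IsLocalRing.CotangentSpace B) IsLocalRing.residue_surjective,
    Module.length_eq_finrank] at h1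
  exact_mod_cast h1

end MC

end Groth.Agent.Lib.Helper3.MCNorm
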