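import Mathlib

set_option autoImplicit false
set_option linter.style.haveILetI false

namespace Groth.Agent.Lib.Helper3.MCQuot

open Finsupp

variable (k : Type*) [CommRing k] (n : ℕ)

/-- restriction of a multivariate power series to the `i`-th coordinate axis -/
noncomputable def axis (i : Fin n) : MvPowerSeries (Fin n) k →+* PowerSeries k where
  toFun f := PowerSeries.mk fun d => MvPowerSeries.coeff (Finsupp.single i d) f
  map_one' := by
    ext d
    rw [PowerSeries.coeff_mk, PowerSeries.coeff_one, MvPowerSeries.coeff_one]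
    simp only [Finsupp.single_eq_zero]
  map_mul' f g := by
    ext d
    rw [PowerSeries.coeff_mk, PowerSeries.coeff_mul, MvPowerSeries.coeff_mul,
      Finsupp.antidiagonal_single, Finset.sum_map]
    refine Finset.sum_congr rfl fun p _ => ?_
    rw [PowerSeries.coeff_mk, PowerSeries.coeff_mk]
    rfl
  map_zero' := by
    ext d
    rw [PowerSeries.coeff_mk, map_zero, map_zero]
  map_add' f g := by
    ext d
    rw [PowerSeries.coeff_mk, map_add, map_add, PowerSeries.coeff_mk, PowerSeries.coeff_mk]

variable {k n}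

theorem coeff_axis (i : Fin n) (f : MvPowerSeries (Fin n) k) (d : ℕ) :
    PowerSeries.coeff d (axis k n i f) = MvPowerSeries.coeff (Finsupp.single i d) f := by
  show PowerSeries.coeff d (PowerSeries.mk
    fun d => MvPowerSeries.coeff (Finsupp.single i d) f) = _
  rw [PowerSeries.coeff_mk]

theorem axis_C (i : Fin n) (c : k) : axis k n i (MvPowerSeries.C c) = PowerSeries.C c := by
  ext d
  rw [coeff_axis, MvPowerSeries.coeff_C, PowerSeries.coeff_C]
  simp only [Finsupp.single_eq_zero]

theorem axis_X_same (i : Fin n) : axis k n i (MvPowerSeries.X i) = PowerSeries.X := by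
  ext d
  rw [coeff_axis, MvPowerSeries.coeff_X, PowerSeries.coeff_X]
  by_cases h : d = 1
  · subst h; simp
  · rw [if_neg h, if_neg]
    intro h'
    exact h (Finsupp.single_injective i h')

theorem axis_X_ne {i j : Fin n} (h : j ≠ i) : axis k n i (MvPowerSeries.X j) = 0 := by
  ext d
  rw [coeff_axis, MvPowerSeries.coeff_X, map_zero, if_neg]
  intro h'
  have := DFunLike.congr_fun h' j
  rw [Finsupp.single_eq_same, Finsupp.single_eq_of_ne h] at this
  exact one_ne_zero this.symm


/-- embedding of a univariate power series along the `i`-th coordinate axis (additive) -/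
noncomputable def emb (i : Fin n) : PowerSeries k →+ MvPowerSeries (Fin n) k where
  toFun f := fun d => if d = Finsupp.single i (d i) then PowerSeries.coeff (d i) f else 0
  map_zero' := by
    funext d
    show (if d = Finsupp.single i (d i) then PowerSeries.coeff (d i) (0 : PowerSeries k) else 0) = 0
    rw [map_zero, ite_self]
  map_add' f g := by
    funext d
    show (if d = Finsupp.single i (d i) then PowerSeries.coeff (d i) (f + g) else 0) =
      (if d = Finsupp.single i (d i) then PowerSeries.coeff (d i) f else 0) +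
      (if d = Finsupp.single i (d i) then PowerSeries.coeff (d i) g else 0)
    split_ifs
    · rw [map_add]
    · rw [add_zero]

theorem coeff_emb (i : Fin n) (f : PowerSeries k) (d : Fin n →₀ ℕ) :
    MvPowerSeries.coeff d (emb i f) =
      if d = Finsupp.single i (d i) then PowerSeries.coeff (d i) f else 0 := rfl

theorem axis_emb_same (i : Fin n) (f : PowerSeries k) : axis k n i (emb i f) = f := by
  ext a
  rw [coeff_axis, coeff_emb, Finsupp.single_eq_same, if_pos rfl]

theorem axis_emb_ne {i j : Fin n} (h : i ≠ j) (f : PowerSeries k) :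
    axis k n j (emb i f) = PowerSeries.C (PowerSeries.coeff 0 f) := by
  ext a
  rw [coeff_axis, coeff_emb, Finsupp.single_eq_of_ne h, Finsupp.single_zero,
    PowerSeries.coeff_C]
  simp only [Finsupp.single_eq_zero]

/-- the restriction to all coordinate axes -/
noncomputable def axes (k : Type*) [CommRing k] (n : ℕ) :
    MvPowerSeries (Fin n) k →+* (Fin n → PowerSeries k) :=
  RingHom.pi (axis k n)

theorem axes_apply (f : MvPowerSeries (Fin n) k) (i : Fin n) : axes k n f i = axis k n i f := rfl

theorem axes_C (c : k) : axes k n (MvPowerSeries.C c) = fun _ => PowerSeries.C c := by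
  funext i
  rw [axes_apply, axis_C]

theorem range_axes : Set.range (axes k n) = {g : Fin n → PowerSeries k |
    ∀ i j : Fin n, PowerSeries.constantCoeff (g i) = PowerSeries.constantCoeff (g j)} := by
  ext g
  simp only [Set.mem_range, Set.mem_ofPred_eq]
  constructor
  · rintro ⟨f, rfl⟩ i j
    rw [axes_apply, axes_apply, ← PowerSeries.coeff_zero_eq_constantCoeff_apply,
      ← PowerSeries.coeff_zero_eq_constantCoeff_apply, coeff_axis, coeff_axis,
      Finsupp.single_zero, Finsupp.single_zero]
  · intro hg
    obtain ⟨c, hc⟩ : ∃ c : k, ∀ i, PowerSeries.constantCoeff (g i) = c := by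
      rcases isEmpty_or_nonempty (Fin n) with h | ⟨⟨i₀⟩⟩
      · exact ⟨0, fun i => h.elim i⟩
      · exact ⟨_, fun i => hg i i₀⟩
    refine ⟨MvPowerSeries.C c + ∑ i, emb i (g i - PowerSeries.C c), ?_⟩
    funext j
    rw [axes_apply, map_add, axis_C, map_sum, Finset.sum_eq_single j]
    · rw [axis_emb_same]; ring
    · intro i _ hij
      rw [axis_emb_ne hij, map_sub, PowerSeries.coeff_zero_eq_constantCoeff_apply, hc,
        PowerSeries.coeff_zero_C, sub_self, map_zero]
    · intro h; exact absurd (Finset.mem_univ j) h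


/-- the ideal `(X_i X_j)_{i ≠ j}` -/
noncomputable def crossIdeal (k : Type*) [CommRing k] (n : ℕ) : Ideal (MvPowerSeries (Fin n) k) :=
  Ideal.span {f : MvPowerSeries (Fin n) k |
    ∃ i j : Fin n, i ≠ j ∧ f = MvPowerSeries.X i * MvPowerSeries.X j}

theorem crossIdeal_le_ker : crossIdeal k n ≤ RingHom.ker (axes k n) := by
  unfold crossIdeal
  rw [Ideal.span_le]
  rintro _ ⟨i, j, hij, rfl⟩
  rw [SetLike.mem_coe, RingHom.mem_ker]
  funext l
  rw [axes_apply, map_mul]
  by_cases h : i = l
  · subst h
    rw [axis_X_ne (Ne.symm hij), mul_zero]; rfl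
  · rw [axis_X_ne h, zero_mul]; rfl

open Classical in
/-- a choice of two distinct variables occurring in a monomial -/
noncomputable def pick (d : Fin n →₀ ℕ) : Option (Fin n × Fin n) :=
  if h : ∃ p : Fin n × Fin n, p.1 ≠ p.2 ∧ p.1 ∈ d.support ∧ p.2 ∈ d.support then
    some (Classical.choose h) else none

theorem pick_spec {d : Fin n →₀ ℕ} {p : Fin n × Fin n} (h : pick d = some p) :
    p.1 ≠ p.2 ∧ p.1 ∈ d.support ∧ p.2 ∈ d.support := by
  unfold pick at h
  split_ifs at h with h'
  · rw [Option.some.injEq] at h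
    rw [← h]
    exact Classical.choose_spec h'

theorem pick_none {d : Fin n →₀ ℕ} (h : pick d = none) (i j : Fin n) (hij : i ≠ j)
    (hi : i ∈ d.support) (hj : j ∈ d.support) : False := by
  unfold pick at h
  split_ifs at h with h'
  exact h' ⟨(i, j), hij, hi, hj⟩

theorem single_add_single_le {d : Fin n →₀ ℕ} {p : Fin n × Fin n}
    (h : p.1 ≠ p.2 ∧ p.1 ∈ d.support ∧ p.2 ∈ d.support) :
    Finsupp.single p.1 1 + Finsupp.single p.2 1 ≤ d := by
  obtain ⟨h1, h2, h3⟩ := h
  rw [Finsupp.mem_support_iff] at h2 h3
  intro x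
  rw [Finsupp.add_apply]
  by_cases hx1 : p.1 = x
  · subst hx1
    rw [Finsupp.single_eq_same, Finsupp.single_eq_of_ne h1]
    omega
  · by_cases hx2 : p.2 = x
    · subst hx2
      rw [Finsupp.single_eq_same, Finsupp.single_eq_of_ne h1.symm]
      omega
    · rw [Finsupp.single_eq_of_ne (Ne.symm hx1), Finsupp.single_eq_of_ne (Ne.symm hx2)]
      omega

open Classical in
/-- the cofactor of `X_a X_b` -/
noncomputable def cof (f : MvPowerSeries (Fin n) k) (p : Fin n × Fin n) :
    MvPowerSeries (Fin n) k :=
  fun e => if pick (e + (Finsupp.single p.1 1 + Finsupp.single p.2 1)) = some p then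
    MvPowerSeries.coeff (e + (Finsupp.single p.1 1 + Finsupp.single p.2 1)) f else 0

theorem cof_eq_zero (f : MvPowerSeries (Fin n) k) (p : Fin n × Fin n) (h : p.1 = p.2) :
    cof f p = 0 := by
  funext e
  unfold cof
  rw [if_neg]
  · rfl
  · intro h'
    exact (pick_spec h').1 h

open Classical in
theorem coeff_X_mul_X_mul_cof (f : MvPowerSeries (Fin n) k) (p : Fin n × Fin n)
    (d : Fin n →₀ ℕ) :
    MvPowerSeries.coeff d (MvPowerSeries.X p.1 * MvPowerSeries.X p.2 * cof f p) =
      if pick d = some p then MvPowerSeries.coeff d f else 0 := by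
  rw [MvPowerSeries.X_def, MvPowerSeries.X_def, MvPowerSeries.monomial_mul_monomial, mul_one,
    MvPowerSeries.coeff_monomial_mul, one_mul]
  by_cases hp : pick d = some p
  · have hle := single_add_single_le (pick_spec hp)
    rw [if_pos hle, if_pos hp]
    show (if pick (d - (Finsupp.single p.1 1 + Finsupp.single p.2 1) +
      (Finsupp.single p.1 1 + Finsupp.single p.2 1)) = some p then
      MvPowerSeries.coeff (d - (Finsupp.single p.1 1 + Finsupp.single p.2 1) +
      (Finsupp.single p.1 1 + Finsupp.single p.2 1)) f else 0) = _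
    rw [tsub_add_cancel_of_le hle, if_pos hp]
  · rw [if_neg hp]
    split_ifs with hle
    · show (if pick (d - (Finsupp.single p.1 1 + Finsupp.single p.2 1) +
        (Finsupp.single p.1 1 + Finsupp.single p.2 1)) = some p then
        MvPowerSeries.coeff (d - (Finsupp.single p.1 1 + Finsupp.single p.2 1) +
        (Finsupp.single p.1 1 + Finsupp.single p.2 1)) f else 0) = _
      rw [tsub_add_cancel_of_le hle, if_neg hp]
    · rfl

theorem eq_single_of_pick_none [Nonempty (Fin n)] {d : Fin n →₀ ℕ} (h : pick d = none) :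
    ∃ i : Fin n, d = Finsupp.single i (d i) := by
  by_cases hd : d = 0
  · obtain ⟨i⟩ := ‹Nonempty (Fin n)›
    exact ⟨i, by rw [hd]; simp⟩
  · obtain ⟨i, hi⟩ := Finsupp.support_nonempty_iff.mpr hd
    refine ⟨i, ?_⟩
    ext x
    by_cases hx : i = x
    · subst hx; rw [Finsupp.single_eq_same]
    · rw [Finsupp.single_eq_of_ne (Ne.symm hx)]
      by_contra hne
      exact pick_none h i x hx hi (Finsupp.mem_support_iff.mpr hne)

theorem ker_axes [Nonempty (Fin n)] : RingHom.ker (axes k n) = crossIdeal k n := by
  classical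
  apply le_antisymm _ crossIdeal_le_ker
  intro f hf
  rw [RingHom.mem_ker] at hf
  have hax : ∀ i, axis k n i f = 0 := fun i => by
    rw [← axes_apply, hf]; rfl
  have key : f = ∑ p : Fin n × Fin n, MvPowerSeries.X p.1 * MvPowerSeries.X p.2 * cof f p := by
    ext d
    rw [map_sum]
    simp only [coeff_X_mul_X_mul_cof]
    rcases hp : pick d with _ | p₀
    · simp only [reduceCtorEq, if_false, Finset.sum_const_zero]
      obtain ⟨i, hi⟩ := eq_single_of_pick_none hp
      rw [hi, ← coeff_axis, hax, map_zero]
    · rw [Finset.sum_eq_single p₀]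
      · rw [if_pos rfl]
      · intro p _ hne
        rw [if_neg]
        intro h'
        exact hne (Option.some.inj h').symm
      · intro h; exact absurd (Finset.mem_univ p₀) h
  rw [key]
  refine Ideal.sum_mem _ fun p _ => ?_
  by_cases hp : p.1 = p.2
  · rw [cof_eq_zero f p hp, mul_zero]
    exact Ideal.zero_mem _
  · exact Ideal.mul_mem_right _ _ (Ideal.subset_span ⟨p.1, p.2, hp, rfl⟩)


/-- the multicross quotient ring `k[[T_1..T_n]]/(T_i T_j)` -/
abbrev Q (k : Type*) [CommRing k] (n : ℕ) : Type _ :=
  MvPowerSeries (Fin n) k ⧸ Ideal.span {f : MvPowerSeries (Fin n) k |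
    ∃ i j : Fin n, i ≠ j ∧ f = MvPowerSeries.X i * MvPowerSeries.X j}

/-- the induced map on the quotient -/
noncomputable def quotAxes (k : Type*) [CommRing k] (n : ℕ) : Q k n →+* (Fin n → PowerSeries k) :=
  Ideal.Quotient.lift _ (axes k n) (fun _ hf => crossIdeal_le_ker hf)

theorem quotAxes_mk (f : MvPowerSeries (Fin n) k) :
    quotAxes k n (Ideal.Quotient.mk _ f) = axes k n f := rfl

theorem quotAxes_injective [Nonempty (Fin n)] : Function.Injective (quotAxes k n) := by
  rw [injective_iff_map_eq_zero]
  intro q hq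
  obtain ⟨f, rfl⟩ := Ideal.Quotient.mk_surjective q
  rw [quotAxes_mk, ← RingHom.mem_ker, ker_axes] at hq
  exact Ideal.Quotient.eq_zero_iff_mem.mpr hq

theorem range_quotAxes : Set.range (quotAxes k n) = {g : Fin n → PowerSeries k |
    ∀ i j : Fin n, PowerSeries.constantCoeff (g i) = PowerSeries.constantCoeff (g j)} := by
  rw [← range_axes]
  ext g
  constructor
  · rintro ⟨q, rfl⟩
    obtain ⟨f, rfl⟩ := Ideal.Quotient.mk_surjective q
    exact ⟨f, rfl⟩
  · rintro ⟨f, rfl⟩
    exact ⟨Ideal.Quotient.mk _ f, rfl⟩

/-- a ring embedded in `(k[[t]])^n` with image the multicross subring is isomorphic to the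
multicross quotient ring -/
theorem exists_ringEquiv_of_range_eq [Nonempty (Fin n)] {B : Type*} [CommRing B]
    (φ : B →+* (Fin n → PowerSeries k)) (hinj : Function.Injective φ)
    (hrange : Set.range φ = {g : Fin n → PowerSeries k |
      ∀ i j : Fin n, PowerSeries.constantCoeff (g i) = PowerSeries.constantCoeff (g j)}) :
    ∃ e : B ≃+* Q k n, ∀ b, quotAxes k n (e b) = φ b := by
  have h : φ.range = (quotAxes k n).range := by
    apply SetLike.coe_injective
    rw [RingHom.coe_range, RingHom.coe_range, hrange, range_quotAxes]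
  let e₁ : B ≃+* φ.range := RingEquiv.ofBijective φ.rangeRestrict
    ⟨fun x y hxy => hinj (congrArg Subtype.val hxy), φ.rangeRestrict_surjective⟩
  let e₂ : Q k n ≃+* (quotAxes k n).range := RingEquiv.ofBijective (quotAxes k n).rangeRestrict
    ⟨fun x y hxy => quotAxes_injective (congrArg Subtype.val hxy),
      (quotAxes k n).rangeRestrict_surjective⟩
  refine ⟨e₁.trans ((RingEquiv.subringCongr h).trans e₂.symm), fun b => ?_⟩
  have h1 : e₂ ((e₁.trans ((RingEquiv.subringCongr h).trans e₂.symm)) b) =
      RingEquiv.subringCongr h (e₁ b) := by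
    simp only [RingEquiv.trans_apply, RingEquiv.apply_symm_apply]
  have h2 := congrArg Subtype.val h1
  exact h2

theorem eq_mk_C_of_quotAxes [Nonempty (Fin n)] (q : Q k n) (c : k)
    (h : quotAxes k n q = fun _ => PowerSeries.C c) :
    q = Ideal.Quotient.mk _ (MvPowerSeries.C c) := by
  apply quotAxes_injective
  rw [h, quotAxes_mk, axes_C]

end Groth.Agent.Lib.Helper3.MCQuot
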