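import Mathlib
import Groth.Prelude
import Groth.Agent.Lib.Helper3HzP
import Groth.Agent.Lib.Helper3ShQuot
import Groth.Agent.Lib.Helper3HzRed
import Groth.Agent.Lib.Helper3Branch
import Groth.Agent.Lib.Helper3SmPrime
import Groth.Agent.Lib.Helper3FibBrB

set_option autoImplicit false
set_option linter.style.haveILetI false

namespace Groth.Agent.Lib.Helper3.BrEq

universe u

-- counting: a family of nonempty types over a finite type has the same cardinality as the base
-- iff all the fibres are subsingletons
theorem card_sigma_eq_iff {α : Type u} [Finite α] (β : α → Type u) (hne : ∀ a, Nonempty (β a)) :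
    ENat.card (Σ a, β a) = ENat.card α ↔ ∀ a, Subsingleton (β a) := by
  constructor
  · intro h
    have hfin : Finite (Σ a, β a) := by
      rw [← ENat.card_lt_top, h, ENat.card_lt_top]
      infer_instance
    have hsurj : Function.Surjective (Sigma.fst : (Σ a, β a) → α) := by
      intro a
      obtain ⟨b⟩ := hne a
      exact ⟨⟨a, b⟩, rfl⟩
    have hcard : Nat.card (Σ a, β a) = Nat.card α := by
      have := congrArg ENat.toNat h
      simpa [ENat.card_eq_coe_natCard] using this
    have hinj : Function.Injective (Sigma.fst : (Σ a, β a) → α) := by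
      haveI := Fintype.ofFinite (Σ a, β a)
      haveI := Fintype.ofFinite α
      rw [Nat.card_eq_fintype_card, Nat.card_eq_fintype_card] at hcard
      exact ((Fintype.bijective_iff_surjective_and_card _).mpr ⟨hsurj, hcard⟩).1
    intro a
    refine ⟨fun b₁ b₂ => ?_⟩
    have := hinj (a₁ := ⟨a, b₁⟩) (a₂ := ⟨a, b₂⟩) rfl
    exact eq_of_heq (Sigma.mk.inj this).2
  · intro h
    have : ∀ a, Unique (β a) := fun a => by
      haveI := h a
      exact Classical.choice (by obtain ⟨b⟩ := hne a; exact ⟨⟨⟨b⟩, fun _ => Subsingleton.elim _ _⟩⟩)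
    exact ENat.card_congr (Equiv.sigmaUnique α β)

open IsLocalRing

-- a strict henselization of `A` is a strict henselization of a henselization of `A`
theorem isStrictHenselization_of_hz (A Ah Ash : Type u) [CommRing A] [IsLocalRing A]
    [CommRing Ah] [IsLocalRing Ah] [Algebra A Ah] [IsLocalHom (algebraMap A Ah)]
    [hH : Hensel.IsHenselization A Ah]
    [CommRing Ash] [IsLocalRing Ash] [Algebra A Ash] [IsLocalHom (algebraMap A Ash)]
    [hS : Hensel.IsStrictHenselization A Ash]
    [Algebra Ah Ash] [IsScalarTower A Ah Ash] :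
    ∃ _ : IsLocalHom (algebraMap Ah Ash), Hensel.IsStrictHenselization Ah Ash := by
  haveI hloc : IsLocalHom (algebraMap Ah Ash) := by
    refine ((IsLocalRing.local_hom_TFAE (algebraMap Ah Ash)).out 2 0).mp ?_
    rw [← HzP.hz_map_maximalIdeal A Ah, Ideal.map_map, ← IsScalarTower.algebraMap_eq]
    exact ((IsLocalRing.local_hom_TFAE (algebraMap A Ash)).out 0 2).mp ‹_›
  refine ⟨hloc, ?_⟩
  have hκ : ResidueField.map (algebraMap A Ash) =
      (ResidueField.map (algebraMap Ah Ash)).comp (ResidueField.map (algebraMap A Ah)) := by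
    rw [← ResidueField.map_comp]
    congr 1
    exact IsScalarTower.algebraMap_eq A Ah Ash
  refine ⟨hS.henselian, ?_, ?_⟩
  · have h1 := hS.isSepClosure
    refine ⟨h1.sep_closed, ?_⟩
    letI : Algebra (ResidueField A) (ResidueField Ah) :=
      (ResidueField.map (algebraMap A Ah)).toAlgebra
    haveI : IsScalarTower (ResidueField A) (ResidueField Ah) (ResidueField Ash) :=
      IsScalarTower.of_algebraMap_eq (fun x => RingHom.congr_fun hκ x)
    haveI : Algebra.IsSeparable (ResidueField A) (ResidueField Ash) := h1.separable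
    exact Algebra.isSeparable_tower_top_of_isSeparable (ResidueField A) (ResidueField Ah)
      (ResidueField Ash)
  · intro T _ _ f hf τ hτ
    haveI : IsLocalHom (f.comp (algebraMap A Ah)) := RingHom.isLocalHom_comp _ _
    have hτ' : τ.comp (ResidueField.map (algebraMap A Ash)) =
        ResidueField.map (f.comp (algebraMap A Ah)) := by
      rw [hκ, ← RingHom.comp_assoc, hτ, ← ResidueField.map_comp]
    obtain ⟨g, ⟨hg1, hg2⟩, huniq⟩ := hS.universal T (f.comp (algebraMap A Ah)) τ hτ'
    obtain ⟨h, -, hhuniq⟩ := hH.universal T (f.comp (algebraMap A Ah)) inferInstance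
    have hgf : g.comp (algebraMap Ah Ash) = f := by
      rw [hhuniq (g.comp (algebraMap Ah Ash)) (by
        show (g.comp (algebraMap Ah Ash)).comp (algebraMap A Ah) = _
        rw [RingHom.comp_assoc, ← IsScalarTower.algebraMap_eq, hg1]), hhuniq f rfl]
    refine ⟨g, ⟨hgf, hg2⟩, ?_⟩
    rintro g' ⟨hg'1, hg'2⟩
    apply huniq
    refine ⟨?_, hg'2⟩
    rw [IsScalarTower.algebraMap_eq A Ah Ash, ← RingHom.comp_assoc, hg'1]

set_option maxHeartbeats 1600000 in
-- every minimal prime of the strict henselization is extended from the base iff the numbers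
-- of minimal primes agree (Noetherian case)
theorem forall_minimalPrimes_eq_map_iff (H S : Type u) [CommRing H] [IsLocalRing H]
    [IsNoetherianRing H]
    [CommRing S] [IsLocalRing S] [Algebra H S] [IsLocalHom (algebraMap H S)]
    [Hensel.IsStrictHenselization H S] :
    (∀ Q ∈ minimalPrimes S, Q = Ideal.map (algebraMap H S) (Q.comap (algebraMap H S))) ↔
      ENat.card (minimalPrimes S) = ENat.card (minimalPrimes H) := by
  haveI : Module.FaithfullyFlat H S := HzP.sh_faithfullyFlat H S
  haveI : IsNoetherianRing S := HzP.sh_isNoetherianRing H S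
  haveI : Finite (minimalPrimes S) := (minimalPrimes.finite_of_isNoetherianRing S).to_subtype
  haveI : Finite (minimalPrimes H) := (minimalPrimes.finite_of_isNoetherianRing H).to_subtype
  let c : minimalPrimes S → minimalPrimes H := fun P =>
    ⟨P.1.comap (algebraMap H S), Branch.mapsTo_comap_minimalPrimes_of_flat H S P.2⟩
  have hc : Function.Surjective c := by
    rintro ⟨q, hq⟩
    obtain ⟨Q, hQ, hQq⟩ := Branch.exists_minimalPrimes_comap_eq (S := S) q hq
    exact ⟨⟨Q, hQ⟩, Subtype.ext hQq⟩
  constructor
  · intro h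
    have hi : Function.Injective c := by
      intro P₁ P₂ e
      apply Subtype.ext
      rw [h P₁.1 P₁.2, h P₂.1 P₂.2]
      exact congrArg (Ideal.map (algebraMap H S)) (congrArg Subtype.val e)
    exact ENat.card_congr (Equiv.ofBijective c ⟨hi, hc⟩)
  · intro h
    have hcard : Nat.card (minimalPrimes S) = Nat.card (minimalPrimes H) := by
      rw [ENat.card_eq_coe_natCard, ENat.card_eq_coe_natCard] at h
      exact_mod_cast h
    have hi : Function.Injective c := by
      haveI := Fintype.ofFinite (minimalPrimes S)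
      haveI := Fintype.ofFinite (minimalPrimes H)
      rw [Nat.card_eq_fintype_card, Nat.card_eq_fintype_card] at hcard
      exact ((Fintype.bijective_iff_surjective_and_card _).mpr ⟨hc, hcard⟩).1
    intro Q hQ
    obtain ⟨P, hP⟩ : ∃ P : Ideal H, P = Q.comap (algebraMap H S) := ⟨_, rfl⟩
    rw [← hP]
    have hPmin : P ∈ minimalPrimes H := by
      rw [hP]; exact Branch.mapsTo_comap_minimalPrimes_of_flat H S hQ
    haveI hPprime : P.IsPrime := hPmin.1.1
    have hmin : (P.map (algebraMap H S)).minimalPrimes = {Q} := by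
      rw [Branch.minimalPrimes_map_eq H S P hPmin]
      ext Q'
      simp only [Set.mem_ofPred_eq, Set.mem_singleton_iff]
      constructor
      · rintro ⟨hQ', hQ'P⟩
        have := hi (a₁ := ⟨Q', hQ'⟩) (a₂ := ⟨Q, hQ⟩) (Subtype.ext (hQ'P.trans hP))
        exact congrArg Subtype.val this
      · rintro rfl
        exact ⟨hQ, hP.symm⟩
    have hrad : (P.map (algebraMap H S)).radical = Q := by
      rw [← Ideal.sInf_minimalPrimes, hmin, sInf_singleton]
    have hPtop : P ≠ ⊤ := hPprime.ne_top
    haveI : IsLocalRing (H ⧸ P) :=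
      IsLocalRing.of_surjective' (Ideal.Quotient.mk P) Ideal.Quotient.mk_surjective
    haveI : IsLocalRing (S ⧸ P.map (algebraMap H S)) := FibBr.isLocalRing_quot_map P hPtop
    haveI : IsLocalHom (algebraMap (H ⧸ P) (S ⧸ P.map (algebraMap H S))) :=
      FibBr.isLocalHom_quot_map P
    haveI : Hensel.IsStrictHenselization (H ⧸ P) (S ⧸ P.map (algebraMap H S)) :=
      ShQuot.isStrictHenselization_quotient P
    haveI : IsDomain (H ⧸ P) := Ideal.Quotient.isDomain P
    haveI : IsReduced (S ⧸ P.map (algebraMap H S)) :=
      (HzP.sh_isReduced_iff (H ⧸ P) (S ⧸ P.map (algebraMap H S))).mp inferInstance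
    have hisrad : (P.map (algebraMap H S)).IsRadical :=
      (Ideal.isRadical_iff_quotient_reduced _).mpr inferInstance
    rw [← hrad, hisrad.radical]

end Groth.Agent.Lib.Helper3.BrEq
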