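import Mathlib
import Groth.Prelude
import Groth.Agent.Lib.Helper3BrEq
import Groth.Agent.Lib.Helper4BranchCount
import Groth.Agent.Lib.Helper4BranchSum

set_option autoImplicit false
set_option linter.style.haveILetI false

namespace Groth.Agent.Lib.Helper3.BrEq

universe u
open IsLocalRing Groth.Agent.Lib.Helper4.Unibranch Groth.Agent.Lib.Helper4.Branches

attribute [local instance] fieldQuotMax

variable (A : Type u) [CommRing A] [IsLocalRing A]

set_option maxHeartbeats 1600000 in
-- the residue field of a maximal ideal of the normalization is purely inseparable over the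
-- residue field of `A` iff it has only one embedding into the algebraic closure
theorem powMem_at_iff_subsingleton_emb (m' : MaximalSpectrum (CAlg2.normRed A)) :
    (∀ x : CAlg2.normRed A ⧸ m'.asIdeal,
      ∃ n : ℕ, x ^ (ringExpChar (CAlg2.normRed A ⧸ m'.asIdeal)) ^ n ∈
        ((Ideal.Quotient.mk m'.asIdeal).comp (canNorm A)).range) ↔
      Subsingleton (Brnch.Emb A m') := by
  haveI hmax : m'.asIdeal.IsMaximal := m'.isMaximal
  letI : Field (CAlg2.normRed A ⧸ m'.asIdeal) := Ideal.Quotient.field _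
  constructor
  · intro hP
    refine ⟨fun σ₁ σ₂ => ?_⟩
    apply Subtype.ext
    obtain ⟨q, hq⟩ : ∃ q, q = ringExpChar (CAlg2.normRed A ⧸ m'.asIdeal) := ⟨_, rfl⟩
    haveI : ExpChar (CAlg2.normRed A ⧸ m'.asIdeal) q := hq ▸ ringExpChar.expChar _
    haveI : ExpChar (AlgebraicClosure (ResidueField A)) q :=
      expChar_of_injective_ringHom σ₁.1.injective q
    refine RingHom.ext fun x => ?_
    obtain ⟨n, a, ha⟩ := hP x
    rw [← hq] at ha
    have e₁ : σ₁.1 x ^ q ^ n = Brnch.toClosure A a := by
      rw [← map_pow, ← ha]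
      exact RingHom.congr_fun σ₁.2 a
    have e₂ : σ₂.1 x ^ q ^ n = Brnch.toClosure A a := by
      rw [← map_pow, ← ha]
      exact RingHom.congr_fun σ₂.2 a
    apply iterateFrobenius_inj (AlgebraicClosure (ResidueField A)) q n
    rw [iterateFrobenius_def, iterateFrobenius_def, e₁, e₂]
  · intro hsub x
    letI : Algebra A (CAlg2.normRed A) := (canNorm A).toAlgebra
    haveI : Algebra.IsIntegral A (CAlg2.normRed A) := ⟨canNorm_isIntegral A⟩
    haveI := liesOver_of_isMaximal (R := A) m'.asIdeal
    haveI : IsPurelyInseparable (A ⧸ maximalIdeal A) (CAlg2.normRed A ⧸ m'.asIdeal) := by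
      rw [isPurelyInseparable_iff_subsingleton_emb]
      refine (Field.embEquivOfIsAlgClosed (A ⧸ maximalIdeal A) (CAlg2.normRed A ⧸ m'.asIdeal)
        (AlgebraicClosure (A ⧸ maximalIdeal A))).subsingleton_congr.mpr ?_
      refine ⟨fun σ₁ σ₂ => ?_⟩
      have hσ : ∀ σ : (CAlg2.normRed A ⧸ m'.asIdeal) →ₐ[A ⧸ maximalIdeal A]
          AlgebraicClosure (A ⧸ maximalIdeal A),
          σ.toRingHom.comp (Brnch.toResidue A m') = Brnch.toClosure A := by
        intro σ
        ext b
        show σ (Ideal.Quotient.mk m'.asIdeal (algebraMap A (CAlg2.normRed A) b)) = _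
        rw [← Ideal.Quotient.algebraMap_mk_of_liesOver m'.asIdeal (maximalIdeal A)]
        exact σ.commutes _
      have := hsub.elim ⟨σ₁.toRingHom, hσ σ₁⟩ ⟨σ₂.toRingHom, hσ σ₂⟩
      apply AlgHom.ext
      intro y
      exact congrArg (fun f : Brnch.Emb A m' => f.1 y) this
    let q := ringExpChar (A ⧸ maximalIdeal A)
    haveI : ExpChar (CAlg2.normRed A ⧸ m'.asIdeal) q :=
      expChar_of_injective_ringHom
        (algebraMap (A ⧸ maximalIdeal A) (CAlg2.normRed A ⧸ m'.asIdeal)).injective q
    have hq : ringExpChar (CAlg2.normRed A ⧸ m'.asIdeal) = q := ringExpChar.eq _ q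
    obtain ⟨n, y, hy⟩ := IsPurelyInseparable.pow_mem (A ⧸ maximalIdeal A) q x
    obtain ⟨b, rfl⟩ := Ideal.Quotient.mk_surjective y
    refine ⟨n, b, ?_⟩
    rw [hq, ← hy, RingHom.comp_apply,
      Ideal.Quotient.algebraMap_mk_of_liesOver m'.asIdeal (maximalIdeal A)]
    rfl

theorem nonempty_emb (m' : MaximalSpectrum (CAlg2.normRed A)) : Nonempty (Brnch.Emb A m') := by
  letI : Algebra A (CAlg2.normRed A) := (canNorm A).toAlgebra
  haveI : Algebra.IsIntegral A (CAlg2.normRed A) := ⟨canNorm_isIntegral A⟩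
  haveI := m'.isMaximal
  obtain ⟨τ, hτ, hk⟩ := exists_ringHom_ker_eq (R := A) m'.asIdeal
  refine ⟨⟨Ideal.Quotient.lift m'.asIdeal τ (fun a ha => by rw [← hk] at ha; exact ha), ?_⟩⟩
  have : Brnch.toClosure A = toAlgClosure A := rfl
  rw [this, ← hτ]
  ext a
  rfl

-- all residue fields of the normalization purely inseparable iff the numbers of branches and of
-- geometric branches agree (finite case)
theorem powMem_canNorm_iff (hfin : (minimalPrimes A).Finite)
    [Finite (MaximalSpectrum (CAlg2.normRed A))] :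
    PowMem (canNorm A) ↔ Brnch.numGeomBranches A = Brnch.numBranches A := by
  unfold Brnch.numGeomBranches Brnch.numBranches
  rw [if_pos hfin, if_pos hfin, card_sigma_eq_iff _ (nonempty_emb A)]
  constructor
  · intro h m'
    exact (powMem_at_iff_subsingleton_emb A m').mp (fun x => @h m'.asIdeal m'.isMaximal x)
  · intro h M hM x
    exact (powMem_at_iff_subsingleton_emb A ⟨M, hM⟩).mpr (h ⟨M, hM⟩) x

end Groth.Agent.Lib.Helper3.BrEq
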