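import Mathlib
import Groth.Agent.Lib.Helper19ComplDVR
import Groth.Agent.Lib.Helper19PsSection

/-!
# Power series expansion in a DVR with a coefficient field (helper3)
-/

set_option autoImplicit false
set_option linter.style.haveILetI false
universe u

open IsLocalRing

namespace Groth.Agent.Lib.Helper3.Multi

-- membership in powers of the maximal ideal of the completion
theorem mem_maximalIdeal_pow_iff (V : Type u) [CommRing V] [IsLocalRing V] [IsNoetherianRing V]
    (x : AdicCompletion (maximalIdeal V) V) (j : ℕ) :
    x ∈ maximalIdeal (AdicCompletion (maximalIdeal V) V) ^ j ↔ x.val j = 0 := by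
  have fg : (maximalIdeal V).FG := (maximalIdeal V).fg_of_isNoetherianRing
  have h1 : (AdicCompletion.eval (maximalIdeal V) V j).ker =
      (maximalIdeal V ^ j) • (⊤ : Submodule V (AdicCompletion (maximalIdeal V) V)) :=
    (AdicCompletion.pow_smul_top_eq_ker_eval fg).symm
  rw [AdicCompletion.maximalIdeal_eq_map, ← Ideal.map_pow, ← Submodule.restrictScalars_mem V,
    ← Ideal.smul_top_eq_map, ← h1, LinearMap.mem_ker, AdicCompletion.eval_apply]

theorem algebraMap_mem_maximalIdeal_pow_iff (V : Type u) [CommRing V] [IsLocalRing V]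
    [IsNoetherianRing V] (v : V) (j : ℕ) :
    algebraMap V (AdicCompletion (maximalIdeal V) V) v ∈
      maximalIdeal (AdicCompletion (maximalIdeal V) V) ^ j ↔ v ∈ maximalIdeal V ^ j := by
  rw [mem_maximalIdeal_pow_iff, AdicCompletion.algebraMap_apply, AdicCompletion.of_apply,
    Submodule.mkQ_apply, Submodule.Quotient.mk_eq_zero, smul_eq_mul, Ideal.mul_top]
  simp only [Algebra.algebraMap_self, RingHom.id_apply]

theorem exists_expansion (k : Type u) (V : Type u) [Field k] [CommRing V] [IsDomain V]
    [IsDiscreteValuationRing V] [Algebra k V]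
    (hres : Function.Bijective (algebraMap k (ResidueField V))) :
    ∃ E : V →ₐ[k] PowerSeries k,
      (∀ (v : V) (j : ℕ), E v ∈ Ideal.span {(PowerSeries.X : PowerSeries k) ^ j} ↔
        v ∈ maximalIdeal V ^ j) ∧
      (∀ (g : PowerSeries k) (j : ℕ), ∃ v : V,
        E v - g ∈ Ideal.span {(PowerSeries.X : PowerSeries k) ^ j}) := by
  haveI : IsNoetherianRing V := inferInstance
  obtain ⟨hD, hDVR⟩ := (Groth.Agent.Lib.Helper19.isDiscreteValuationRing_iff_adicCompletion V).mp
    ⟨inferInstance, inferInstance⟩
  haveI := hD
  haveI := hDVR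
  -- the residue field
  have hK : Function.Bijective
      (algebraMap k (ResidueField (AdicCompletion (maximalIdeal V) V))) := by
    have h1 := AdicCompletion.residueField_map_bijective V
    have h2 : (algebraMap k (ResidueField (AdicCompletion (maximalIdeal V) V)) : k → _) =
        (IsLocalRing.ResidueField.map (algebraMap V (AdicCompletion (maximalIdeal V) V))) ∘
          (algebraMap k (ResidueField V)) := by
      funext c
      rw [Function.comp_apply, IsScalarTower.algebraMap_apply k V (ResidueField V),
        IsLocalRing.ResidueField.algebraMap_eq, IsLocalRing.ResidueField.map_residue,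
        ← IsScalarTower.algebraMap_apply k V (AdicCompletion (maximalIdeal V) V),
        IsScalarTower.algebraMap_apply k (AdicCompletion (maximalIdeal V) V)
          (ResidueField (AdicCompletion (maximalIdeal V) V)),
        IsLocalRing.ResidueField.algebraMap_eq]
    rw [h2]
    exact h1.comp hres
  -- the uniformizer
  obtain ⟨π, hπ⟩ := IsDiscreteValuationRing.exists_irreducible V
  have hπm : maximalIdeal V = Ideal.span {π} := hπ.maximalIdeal_eq
  have hπh : maximalIdeal (AdicCompletion (maximalIdeal V) V) =
      Ideal.span {algebraMap V (AdicCompletion (maximalIdeal V) V) π} := by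
    rw [AdicCompletion.maximalIdeal_eq_map, hπm, Ideal.map_span, Set.image_singleton]
  obtain ⟨e, he⟩ := Groth.Agent.Lib.Helper19.exists_powerSeries_algEquiv_of_dvr k
    (AdicCompletion (maximalIdeal V) V) hK _ hπh
  -- membership of `e.symm y` in `(X^j)`
  have hmem : ∀ (y : AdicCompletion (maximalIdeal V) V) (j : ℕ),
      e.symm y ∈ Ideal.span {(PowerSeries.X : PowerSeries k) ^ j} ↔
        y ∈ maximalIdeal (AdicCompletion (maximalIdeal V) V) ^ j := by
    intro y j
    rw [hπh, Ideal.span_singleton_pow, Ideal.mem_span_singleton, Ideal.mem_span_singleton, ← he,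
      ← map_pow]
    constructor
    · rintro ⟨w, hw⟩
      refine ⟨e w, ?_⟩
      rw [← map_mul, ← hw, AlgEquiv.apply_symm_apply]
    · rintro ⟨w, hw⟩
      refine ⟨e.symm w, ?_⟩
      rw [hw, map_mul, AlgEquiv.symm_apply_apply]
  refine ⟨e.symm.toAlgHom.comp (IsScalarTower.toAlgHom k V (AdicCompletion (maximalIdeal V) V)),
    ?_, ?_⟩
  · intro v j
    change e.symm (algebraMap V _ v) ∈ _ ↔ _
    rw [hmem, algebraMap_mem_maximalIdeal_pow_iff]
  · intro g j
    obtain ⟨v, hv⟩ := Submodule.Quotient.mk_surjective _ ((e g).val j)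
    refine ⟨v, ?_⟩
    change e.symm (algebraMap V _ v) - g ∈ _
    have h1 : e.symm (algebraMap V _ v) - g = e.symm (algebraMap V _ v - e g) := by
      rw [map_sub, AlgEquiv.symm_apply_apply]
    rw [h1, hmem, mem_maximalIdeal_pow_iff]
    change (algebraMap V (AdicCompletion (maximalIdeal V) V) v - e g).val j = 0
    rw [AdicCompletion.val_sub_apply, AdicCompletion.algebraMap_apply, AdicCompletion.of_apply,
      Submodule.mkQ_apply]
    simp only [Algebra.algebraMap_self, RingHom.id_apply]
    rw [hv, sub_self]

end Groth.Agent.Lib.Helper3.Multi
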