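import Mathlib
import Groth.Agent.Lib.Helper3MultiA

/-!
# Lifting ring maps to the adic completion and the abstract multicross theorem (helper3)
-/

set_option autoImplicit false
set_option linter.style.haveILetI false
universe u

open IsLocalRing Function

namespace Groth.Agent.Lib.Helper3.Multi

section Lift

variable {A S : Type*} [CommRing A] [CommRing S] (I : Ideal A) (J : Ideal S)

theorem factorPow_evalₐ {m n : ℕ} (hle : m ≤ n) (x : AdicCompletion I A) :
    Ideal.Quotient.factorPow I hle (AdicCompletion.evalₐ I n x) = AdicCompletion.evalₐ I m x := by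
  induction x using AdicCompletion.induction_on with
  | h f =>
    rw [AdicCompletion.evalₐ_mk, AdicCompletion.evalₐ_mk, Ideal.Quotient.factor_mk,
      Ideal.Quotient.eq]
    have h := f.2 hle
    rw [SModEq.sub_mem, smul_eq_mul, Ideal.mul_top] at h
    rw [← neg_sub]
    exact neg_mem h

theorem exists_lift [IsAdicComplete J S] (ψ : A →+* S) (hψ : I ≤ J.comap ψ) :
    ∃ φ : AdicCompletion I A →+* S,
      (∀ a : A, φ (algebraMap A (AdicCompletion I A) a) = ψ a) ∧
      (∀ (x : AdicCompletion I A) (j : ℕ) (a : A),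
        AdicCompletion.evalₐ I j x = Ideal.Quotient.mk (I ^ j) a → φ x - ψ a ∈ J ^ j) := by
  have hj : ∀ j : ℕ, I ^ j ≤ (J ^ j).comap ψ := fun j =>
    (Ideal.pow_right_mono hψ j).trans (Ideal.le_comap_pow ψ j)
  let f : (n : ℕ) → AdicCompletion I A →+* S ⧸ J ^ n := fun n =>
    (Ideal.quotientMap (J ^ n) ψ (hj n)).comp (AdicCompletion.evalₐ I n).toRingHom
  have hfapp : ∀ (n : ℕ) (x : AdicCompletion I A) (a : A),
      AdicCompletion.evalₐ I n x = Ideal.Quotient.mk (I ^ n) a →
      f n x = Ideal.Quotient.mk (J ^ n) (ψ a) := by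
    intro n x a hx
    change Ideal.quotientMap (J ^ n) ψ (hj n) (AdicCompletion.evalₐ I n x) = _
    rw [hx, Ideal.quotientMap_mk]
  have hf : ∀ {m n : ℕ} (hle : m ≤ n), (Ideal.Quotient.factorPow J hle).comp (f n) = f m := by
    intro m n hle
    ext x
    obtain ⟨a, ha⟩ := Ideal.Quotient.mk_surjective (AdicCompletion.evalₐ I n x)
    have h1 : AdicCompletion.evalₐ I m x = Ideal.Quotient.mk (I ^ m) a := by
      rw [← factorPow_evalₐ I hle, ← ha, Ideal.Quotient.factor_mk]
    rw [RingHom.comp_apply, hfapp n x a ha.symm, hfapp m x a h1, Ideal.Quotient.factor_mk]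
  refine ⟨IsAdicComplete.liftRingHom J f hf, ?_, ?_⟩
  · intro a
    have h0 : ∀ n, IsAdicComplete.liftRingHom J f hf (algebraMap A (AdicCompletion I A) a) - ψ a ∈
        J ^ n := by
      intro n
      rw [← Ideal.Quotient.eq, IsAdicComplete.mk_liftRingHom]
      apply hfapp
      rw [AdicCompletion.algebraMap_apply]
      simp
    rw [← sub_eq_zero]
    apply IsHausdorff.haus' (I := J)
    intro n
    rw [SModEq.zero, smul_eq_mul, Ideal.mul_top]
    exact h0 n
  · intro x j a hx
    rw [← Ideal.Quotient.eq, IsAdicComplete.mk_liftRingHom]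
    exact hfapp j x a hx

end Lift

section Branch

variable {k : Type u} [Field k] {B : Type u} [CommRing B] [Algebra k B]

-- lifting elements of the localization modulo powers of the maximal ideal
theorem exists_sub_mem_pow (M : Ideal B) [hM : M.IsMaximal] (v : Localization.AtPrime M) (j : ℕ) :
    ∃ b : B, algebraMap B (Localization.AtPrime M) b - v ∈
      (M ^ j).map (algebraMap B (Localization.AtPrime M)) := by
  obtain ⟨⟨b, s⟩, h⟩ := IsLocalization.surj M.primeCompl v
  dsimp only at h
  have hs : (s : B) ∉ M := s.2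
  obtain ⟨y, r, hr, hyr⟩ := Ideal.IsMaximal.exists_inv_pow M hs j
  refine ⟨y * b, ?_⟩
  have h1 : algebraMap B (Localization.AtPrime M) (y * b) - v =
      - (v * algebraMap B (Localization.AtPrime M) r) := by
    have h2 : algebraMap B (Localization.AtPrime M) (y * (s : B) + r) = 1 := by
      rw [hyr, map_one]
    rw [map_add, map_mul] at h2
    rw [map_mul, ← h]
    linear_combination v * h2
  rw [h1]
  exact neg_mem (Ideal.mul_mem_left _ _ (Ideal.mem_map_of_mem _ hr))

theorem algebraMap_mem_map_pow_iff (M : Ideal B) [hM : M.IsMaximal] (b : B) (j : ℕ) :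
    algebraMap B (Localization.AtPrime M) b ∈
      (M ^ j).map (algebraMap B (Localization.AtPrime M)) ↔ b ∈ M ^ j := by
  constructor
  · intro h
    rw [IsLocalization.algebraMap_mem_map_algebraMap_iff M.primeCompl] at h
    obtain ⟨s, hs, hsb⟩ := h
    exact (Ideal.IsMaximal.mul_mem_pow M hsb).resolve_left hs
  · intro h
    exact Ideal.mem_map_of_mem _ h

theorem exists_branch_expansion (M : Ideal B) [hM : M.IsMaximal]
    [IsDomain (Localization.AtPrime M)] [IsDiscreteValuationRing (Localization.AtPrime M)]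
    (hk : ∀ b : B, ∃ c : k, b - algebraMap k B c ∈ M) :
    ∃ Φ : B →ₐ[k] PowerSeries k,
      (∀ (b : B) (j : ℕ), Φ b ∈ Ideal.span {(PowerSeries.X : PowerSeries k) ^ j} ↔ b ∈ M ^ j) ∧
      (∀ (g : PowerSeries k) (j : ℕ), ∃ b : B,
        Φ b - g ∈ Ideal.span {(PowerSeries.X : PowerSeries k) ^ j}) := by
  have hres : Function.Bijective (algebraMap k (ResidueField (Localization.AtPrime M))) := by
    refine ⟨RingHom.injective _, fun y => ?_⟩
    obtain ⟨b, hb⟩ := Ideal.algebraMap_residueField_surjective M y
    obtain ⟨c, hc⟩ := hk b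
    refine ⟨c, ?_⟩
    rw [← hb]
    have h1 : algebraMap B M.ResidueField (b - algebraMap k B c) = 0 := by
      rw [Ideal.algebraMap_residueField_eq_zero]
      exact hc
    rw [map_sub, sub_eq_zero] at h1
    rw [h1, ← IsScalarTower.algebraMap_apply]
  obtain ⟨E, hE1, hE2⟩ := exists_expansion k (Localization.AtPrime M) hres
  have hmax : maximalIdeal (Localization.AtPrime M) =
      M.map (algebraMap B (Localization.AtPrime M)) :=
    (Localization.AtPrime.map_eq_maximalIdeal).symm
  refine ⟨E.comp (IsScalarTower.toAlgHom k B (Localization.AtPrime M)), ?_, ?_⟩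
  · intro b j
    change E (algebraMap B _ b) ∈ _ ↔ _
    rw [hE1, hmax, ← Ideal.map_pow, algebraMap_mem_map_pow_iff]
  · intro g j
    obtain ⟨v, hv⟩ := hE2 g j
    obtain ⟨b, hb⟩ := exists_sub_mem_pow M v j
    refine ⟨b, ?_⟩
    change E (algebraMap B _ b) - g ∈ _
    have h1 : E (algebraMap B _ b) - g = E (algebraMap B _ b - v) + (E v - g) := by
      rw [map_sub]; ring
    rw [h1]
    refine Ideal.add_mem _ ?_ hv
    rw [hE1, hmax, ← Ideal.map_pow]
    exact hb

end Branch

section Main

variable {k : Type u} [Field k] {A : Type u} [CommRing A] [IsLocalRing A] [Algebra k A]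
  {B : Type u} [CommRing B] [Algebra A B] [Algebra k B] [IsScalarTower k A B]
  {ι : Type} [Finite ι] [Nonempty ι]

-- the image of `m_A` is the Jacobson radical and its powers
theorem exists_mem_pow_of_mem_iInf_pow (N : ι → Ideal B)
    (hNmax : ∀ i, (N i).IsMaximal) (hNinj : Function.Injective N)
    (hcomap : ∀ i, (N i).comap (algebraMap A B) = maximalIdeal A)
    (hW2 : ∀ b : B, (∀ i, b ∈ N i) → b ∈ (algebraMap A B).range)
    (j : ℕ) (hj : 1 ≤ j) (b : B) (hb : ∀ i, b ∈ N i ^ j) :
    ∃ a ∈ maximalIdeal A ^ j, algebraMap A B a = b := by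
  classical
  haveI := Fintype.ofFinite ι
  have hcop : Pairwise (IsCoprime on N) := by
    intro i i' hne
    exact Ideal.isCoprime_iff_sup_eq.mpr
      (Ideal.IsMaximal.coprime_of_ne (hNmax i) (hNmax i') (fun h => hne (hNinj h)))
  have hcopj : Pairwise (IsCoprime on fun i => N i ^ j) := by
    intro i i' hne
    exact (hcop hne).pow
  -- `b` lies in the `j`-th power of the intersection
  have h1 : b ∈ (⨅ i, N i) ^ j := by
    have e1 : ∏ i ∈ (Finset.univ : Finset ι), N i ^ j = ⨅ i ∈ (Finset.univ : Finset ι), N i ^ j :=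
      Ideal.prod_eq_iInf_of_pairwise_isCoprime (fun i _ i' _ hne => hcopj hne)
    have e2 : ∏ i ∈ (Finset.univ : Finset ι), N i = ⨅ i ∈ (Finset.univ : Finset ι), N i :=
      Ideal.prod_eq_iInf_of_pairwise_isCoprime (fun i _ i' _ hne => hcop hne)
    have e3 : (⨅ i, N i) = ∏ i ∈ (Finset.univ : Finset ι), N i := by
      rw [e2]; simp
    rw [e3, ← Finset.prod_pow, e1]
    simp only [Finset.mem_univ, iInf_pos, Ideal.mem_iInf]
    exact hb
  -- powers of the intersection come from powers of the maximal ideal
  have key : ∀ j' : ℕ, ∀ b' ∈ (⨅ i, N i) ^ (j' + 1),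
      ∃ a ∈ maximalIdeal A ^ (j' + 1), algebraMap A B a = b' := by
    intro j'
    induction j' with
    | zero =>
      intro b' hb'
      rw [zero_add, pow_one, Ideal.mem_iInf] at hb'
      obtain ⟨a, ha⟩ := hW2 b' hb'
      refine ⟨a, ?_, ha⟩
      rw [zero_add, pow_one]
      obtain ⟨i0⟩ := (inferInstance : Nonempty ι)
      rw [← hcomap i0, Ideal.mem_comap]
      change algebraMap A B a ∈ N i0
      rw [ha]
      exact hb' i0
    | succ j' ih =>
      intro b' hb'
      rw [pow_succ] at hb'
      refine Submodule.mul_induction_on hb' ?_ ?_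
      · intro r hr s hs
        obtain ⟨a1, ha1, rfl⟩ := ih r hr
        rw [Ideal.mem_iInf] at hs
        obtain ⟨a2, ha2⟩ := hW2 s hs
        have ha2m : a2 ∈ maximalIdeal A := by
          obtain ⟨i0⟩ := (inferInstance : Nonempty ι)
          rw [← hcomap i0, Ideal.mem_comap]
          change algebraMap A B a2 ∈ N i0
          rw [ha2]
          exact hs i0
        refine ⟨a1 * a2, ?_, ?_⟩
        · rw [pow_succ]
          exact Ideal.mul_mem_mul ha1 ha2m
        · rw [map_mul]
          change _ * algebraMap A B a2 = _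
          rw [ha2]
      · rintro x y ⟨a1, ha1, rfl⟩ ⟨a2, ha2, rfl⟩
        exact ⟨a1 + a2, Ideal.add_mem _ ha1 ha2, map_add _ _ _⟩
  obtain ⟨j', rfl⟩ : ∃ j', j = j' + 1 := ⟨j - 1, by omega⟩
  exact key j' b h1

theorem constantCoeff_eq_of_sub_mem {f g : PowerSeries k} {j : ℕ} (hj : 1 ≤ j)
    (h : f - g ∈ Ideal.span {(PowerSeries.X : PowerSeries k) ^ j}) :
    PowerSeries.constantCoeff f = PowerSeries.constantCoeff g := by
  rw [Ideal.mem_span_singleton] at h
  have h1 : (PowerSeries.X : PowerSeries k) ∣ f - g := dvd_trans (dvd_pow_self _ (by omega)) h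
  rw [PowerSeries.X_dvd_iff, map_sub, sub_eq_zero] at h1
  exact h1

theorem mem_span_X_pow_one_iff (f : PowerSeries k) :
    f ∈ Ideal.span {(PowerSeries.X : PowerSeries k) ^ 1} ↔ PowerSeries.constantCoeff f = 0 := by
  rw [pow_one, Ideal.mem_span_singleton, PowerSeries.X_dvd_iff]

theorem span_X_pow_le {j j' : ℕ} (h : j ≤ j') :
    Ideal.span {(PowerSeries.X : PowerSeries k) ^ j'} ≤
      Ideal.span {(PowerSeries.X : PowerSeries k) ^ j} := by
  rw [Ideal.span_singleton_le_span_singleton]
  exact pow_dvd_pow _ h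

/-- The abstract multicross theorem. -/
theorem exists_multicross
    (hres : Function.Bijective (algebraMap k (ResidueField A)))
    (hinj : Function.Injective (algebraMap A B))
    (N : ι → Ideal B) (hNmax : ∀ i, (N i).IsMaximal) (hNinj : Function.Injective N)
    (hcomap : ∀ i, (N i).comap (algebraMap A B) = maximalIdeal A)
    (hW2 : ∀ b : B, (∀ i, b ∈ N i) → b ∈ (algebraMap A B).range)
    (Φ : ι → (B →ₐ[k] PowerSeries k))
    (hΦ1 : ∀ (i : ι) (b : B) (j : ℕ),
      Φ i b ∈ Ideal.span {(PowerSeries.X : PowerSeries k) ^ j} ↔ b ∈ N i ^ j)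
    (hΦ2 : ∀ (i : ι) (g : PowerSeries k) (j : ℕ), ∃ b : B,
      Φ i b - g ∈ Ideal.span {(PowerSeries.X : PowerSeries k) ^ j}) :
    ∃ φ : AdicCompletion (maximalIdeal A) A →+* (ι → PowerSeries k),
      Function.Injective φ ∧
      (∀ c : k, φ (algebraMap A (AdicCompletion (maximalIdeal A) A) (algebraMap k A c)) =
        fun _ => algebraMap k (PowerSeries k) c) ∧
      Set.range φ = {f : ι → PowerSeries k | ∀ i i' : ι,
        PowerSeries.constantCoeff (f i) = PowerSeries.constantCoeff (f i')} := by
  classical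
  haveI := Fintype.ofFinite ι
  obtain ⟨i0⟩ := (inferInstance : Nonempty ι)
  have hcop : Pairwise (IsCoprime on N) := by
    intro i i' hne
    exact Ideal.isCoprime_iff_sup_eq.mpr
      (Ideal.IsMaximal.coprime_of_ne (hNmax i) (hNmax i') (fun h => hne (hNinj h)))
  -- the maps `ψ i : A → k[[X]]`
  obtain ⟨ψ, hψdef⟩ : ∃ ψ : ι → (A →+* PowerSeries k),
      ∀ i a, ψ i a = Φ i (algebraMap A B a) :=
    ⟨fun i => (Φ i : B →+* PowerSeries k).comp (algebraMap A B), fun _ _ => rfl⟩
  have hψk : ∀ i (c : k), ψ i (algebraMap k A c) = algebraMap k (PowerSeries k) c := by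
    intro i c
    rw [hψdef, ← IsScalarTower.algebraMap_apply k A B, AlgHom.commutes]
  have hψ1 : ∀ (i : ι) (a : A) (j : ℕ),
      ψ i a ∈ Ideal.span {(PowerSeries.X : PowerSeries k) ^ j} ↔ algebraMap A B a ∈ N i ^ j := by
    intro i a j
    rw [hψdef, hΦ1]
  have hmN : ∀ i (a : A), a ∈ maximalIdeal A → algebraMap A B a ∈ N i := by
    intro i a ha
    rw [← hcomap i] at ha
    exact ha
  have hψm : ∀ i, maximalIdeal A ≤ (Ideal.span {(PowerSeries.X : PowerSeries k)}).comap (ψ i) := by
    intro i a ha
    rw [Ideal.mem_comap]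
    have := (hψ1 i a 1).mpr (by rw [pow_one]; exact hmN i a ha)
    rwa [pow_one] at this
  -- key: the topology
  have hK : ∀ (a : A) (j : ℕ),
      (∀ i, ψ i a ∈ Ideal.span {(PowerSeries.X : PowerSeries k) ^ j}) → a ∈ maximalIdeal A ^ j := by
    intro a j h
    rcases Nat.eq_zero_or_pos j with rfl | hj
    · rw [pow_zero, Ideal.one_eq_top]; trivial
    · obtain ⟨a', ha', hab⟩ := exists_mem_pow_of_mem_iInf_pow N hNmax hNinj hcomap hW2 j hj
        (algebraMap A B a) (fun i => (hψ1 i a j).mp (h i))
      rw [← hinj hab]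
      exact ha'
  -- the lifts
  choose φ hφ1 hφ2 using fun i => exists_lift (maximalIdeal A)
    (Ideal.span {(PowerSeries.X : PowerSeries k)}) (ψ i) (hψm i)
  have hφ2' : ∀ (i : ι) (x : AdicCompletion (maximalIdeal A) A) (j : ℕ) (a : A),
      AdicCompletion.evalₐ (maximalIdeal A) j x = Ideal.Quotient.mk (maximalIdeal A ^ j) a →
      φ i x - ψ i a ∈ Ideal.span {(PowerSeries.X : PowerSeries k) ^ j} := by
    intro i x j a hx
    have := hφ2 i x j a hx
    rwa [Ideal.span_singleton_pow] at this
  -- residues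
  have hkres : ∀ a : A, ∃ c : k, a - algebraMap k A c ∈ maximalIdeal A := by
    intro a
    obtain ⟨c, hc⟩ := hres.2 (residue A a)
    refine ⟨c, ?_⟩
    rw [← Ideal.Quotient.eq_zero_iff_mem, map_sub, sub_eq_zero]
    change residue A a = residue A (algebraMap k A c)
    rw [← hc, IsScalarTower.algebraMap_apply k A (ResidueField A), ResidueField.algebraMap_eq]
  have hcc : ∀ (i : ι) (a : A) (c : k), a - algebraMap k A c ∈ maximalIdeal A →
      PowerSeries.constantCoeff (ψ i a) = c := by
    intro i a c hac
    have h1 : ψ i (a - algebraMap k A c) ∈ Ideal.span {(PowerSeries.X : PowerSeries k) ^ 1} := by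
      rw [hψ1, pow_one]
      exact hmN i _ hac
    rw [mem_span_X_pow_one_iff, map_sub, map_sub, sub_eq_zero, hψk] at h1
    rw [h1]
    change PowerSeries.constantCoeff (PowerSeries.C c) = c
    exact PowerSeries.constantCoeff_C c
  refine ⟨RingHom.pi φ, ?_, ?_, ?_⟩
  · -- injectivity
    rw [injective_iff_map_eq_zero]
    intro x hx
    apply AdicCompletion.ext_evalₐ
    intro j
    obtain ⟨a, ha⟩ := Ideal.Quotient.mk_surjective (AdicCompletion.evalₐ (maximalIdeal A) j x)
    rw [map_zero, ← ha, Ideal.Quotient.eq_zero_iff_mem]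
    apply hK
    intro i
    have h1 := hφ2' i x j a ha.symm
    have h2 : φ i x = 0 := congrFun hx i
    rw [h2, zero_sub] at h1
    have := neg_mem h1
    rwa [neg_neg] at this
  · intro c
    funext i
    change φ i _ = _
    rw [hφ1, hψk]
  · ext f
    simp only [Set.mem_range, Set.mem_setOf_eq]
    constructor
    · rintro ⟨x, rfl⟩ i i'
      obtain ⟨a, ha⟩ := Ideal.Quotient.mk_surjective (AdicCompletion.evalₐ (maximalIdeal A) 1 x)
      obtain ⟨c, hc⟩ := hkres a
      change PowerSeries.constantCoeff (φ i x) = PowerSeries.constantCoeff (φ i' x)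
      rw [constantCoeff_eq_of_sub_mem le_rfl (hφ2' i x 1 a ha.symm),
        constantCoeff_eq_of_sub_mem le_rfl (hφ2' i' x 1 a ha.symm), hcc i a c hc, hcc i' a c hc]
    · intro hf
      obtain ⟨c, hc⟩ : ∃ c : k, ∀ i, PowerSeries.constantCoeff (f i) = c :=
        ⟨PowerSeries.constantCoeff (f i0), fun i => hf i i0⟩
      -- approximations
      have happ : ∀ j : ℕ, ∃ a : A, ∀ i,
          ψ i a - f i ∈ Ideal.span {(PowerSeries.X : PowerSeries k) ^ j} := by
        intro j
        rcases Nat.eq_zero_or_pos j with rfl | hj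
        · refine ⟨0, fun i => ?_⟩
          rw [pow_zero, Ideal.span_singleton_one]; trivial
        · choose b' hb' using fun i => hΦ2 i (f i) j
          have hcopj : Pairwise (IsCoprime on fun i => N i ^ j) := by
            intro i i' hne
            exact (hcop hne).pow
          obtain ⟨b, hb⟩ := Ideal.exists_forall_sub_mem_ideal hcopj b'
          have hbf : ∀ i, Φ i b - f i ∈ Ideal.span {(PowerSeries.X : PowerSeries k) ^ j} := by
            intro i
            have h1 : Φ i b - f i = Φ i (b - b' i) + (Φ i (b' i) - f i) := by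
              rw [map_sub]; ring
            rw [h1]
            exact Ideal.add_mem _ ((hΦ1 i _ j).mpr (hb i)) (hb' i)
          have hbc : ∀ i, b - algebraMap k B c ∈ N i := by
            intro i
            have h1 : Φ i (b - algebraMap k B c) ∈
                Ideal.span {(PowerSeries.X : PowerSeries k) ^ 1} := by
              rw [mem_span_X_pow_one_iff, map_sub, map_sub, AlgHom.commutes,
                constantCoeff_eq_of_sub_mem hj (hbf i), hc i]
              change c - PowerSeries.constantCoeff (PowerSeries.C c) = 0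
              rw [PowerSeries.constantCoeff_C, sub_self]
            rw [hΦ1, pow_one] at h1
            exact h1
          obtain ⟨a', ha'⟩ := hW2 _ hbc
          refine ⟨a' + algebraMap k A c, fun i => ?_⟩
          have h2 : algebraMap A B (a' + algebraMap k A c) = b := by
            rw [map_add]
            change algebraMap A B a' + _ = _
            rw [ha', ← IsScalarTower.algebraMap_apply k A B]
            ring
          rw [hψdef, h2]
          exact hbf i
      choose a ha using happ
      have hcauchy : ∀ n, a n ≡ a (n + 1)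
          [SMOD (maximalIdeal A ^ n • ⊤ : Submodule A A)] := by
        intro n
        rw [SModEq.sub_mem, smul_eq_mul, Ideal.mul_top]
        apply hK
        intro i
        have h1 : ψ i (a n - a (n + 1)) = (ψ i (a n) - f i) - (ψ i (a (n + 1)) - f i) := by
          rw [map_sub]; ring
        rw [h1]
        exact Ideal.sub_mem _ (ha n i) (span_X_pow_le (Nat.le_succ n) (ha (n + 1) i))
      refine ⟨AdicCompletion.mk (maximalIdeal A) A
        (AdicCompletion.AdicCauchySequence.mk (maximalIdeal A) A a hcauchy), ?_⟩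
      funext i
      change φ i _ = f i
      rw [← sub_eq_zero]
      apply IsHausdorff.haus' (I := Ideal.span {(PowerSeries.X : PowerSeries k)})
      intro n
      rw [SModEq.zero, smul_eq_mul, Ideal.mul_top, Ideal.span_singleton_pow]
      have h1 := hφ2' i (AdicCompletion.mk (maximalIdeal A) A
        (AdicCompletion.AdicCauchySequence.mk (maximalIdeal A) A a hcauchy)) n (a n)
        (by rw [AdicCompletion.evalₐ_mk]; rfl)
      have h2 : φ i (AdicCompletion.mk (maximalIdeal A) A
          (AdicCompletion.AdicCauchySequence.mk (maximalIdeal A) A a hcauchy)) - f i =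
          (φ i (AdicCompletion.mk (maximalIdeal A) A
          (AdicCompletion.AdicCauchySequence.mk (maximalIdeal A) A a hcauchy)) - ψ i (a n)) +
          (ψ i (a n) - f i) := by ring
      rw [h2]
      exact Ideal.add_mem _ h1 (ha n i)

end Main

end Groth.Agent.Lib.Helper3.Multi
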