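import Mathlib
import Groth.Agent.Lib.Helper4TotalFrac
import Groth.Agent.Lib.Helper4TotalFracFin

set_option autoImplicit false
set_option linter.style.haveILetI false

namespace Groth.Agent.Lib.Helper3.Delta

universe u
open IsLocalRing TensorProduct Polynomial

section Transport

-- transport of "normal localization" along a ring isomorphism, one prime at a time
theorem normal_localization_of_ringEquiv {R R' : Type*} [CommRing R]
    [CommRing R'] (ψ : R ≃+* R') (p : Ideal R) [hp : p.IsPrime]
    (h : ∀ (P : Ideal R') [P.IsPrime], P = p.map ψ →
      IsDomain (Localization.AtPrime P) ∧ IsIntegrallyClosed (Localization.AtPrime P)) :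
    IsDomain (Localization.AtPrime p) ∧ IsIntegrallyClosed (Localization.AtPrime p) := by
  obtain ⟨P, hPdef⟩ : ∃ P : Ideal R', P = p.map ψ := ⟨_, rfl⟩
  haveI hP : P.IsPrime := hPdef ▸ Ideal.map_isPrime_of_equiv ψ
  obtain ⟨h1, h2⟩ := h P hPdef
  have hmap : p.primeCompl.map ψ.toMonoidHom = P.primeCompl := by
    ext y
    simp only [Submonoid.mem_map, Ideal.mem_primeCompl_iff]
    constructor
    · rintro ⟨x, hx, rfl⟩ hy
      apply hx
      rw [hPdef] at hy
      have := (Ideal.mem_map_of_equiv ψ (ψ x)).mp hy
      obtain ⟨z, hz, hzx⟩ := this
      rwa [← ψ.injective hzx]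
    · intro hy
      refine ⟨ψ.symm y, fun h => hy ?_, ψ.apply_symm_apply y⟩
      have := Ideal.mem_map_of_mem ψ h
      rw [hPdef]
      simpa using this
  let e : Localization.AtPrime p ≃+* Localization.AtPrime P :=
    IsLocalization.ringEquivOfRingEquiv (Localization.AtPrime p) (Localization.AtPrime P) ψ hmap
  haveI := h1
  haveI := h2
  exact ⟨e.toMulEquiv.isDomain (Localization.AtPrime P), IsIntegrallyClosed.of_equiv e.symm⟩

end Transport

section Main

variable (A : Type u) [CommRing A] (B : Type u) [CommRing B] [Algebra A B] [Module.Flat A B]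

theorem nonZeroDivisors_le_comap :
    nonZeroDivisors A ≤ (nonZeroDivisors B).comap (algebraMap A B) := by
  intro a ha
  rw [Submonoid.mem_comap, mem_nonZeroDivisors_iff_right]
  intro b hb
  have h1 : IsSMulRegular B a := Module.Flat.isSMulRegular_of_nonZeroDivisors ha
  apply h1
  show a • b = a • 0
  rw [smul_zero, Algebra.smul_def, mul_comm]
  exact hb

-- the map of total fraction rings
noncomputable def fracMap : FractionRing A →+* FractionRing B :=
  IsLocalization.map (FractionRing B) (algebraMap A B) (nonZeroDivisors_le_comap A B)

theorem fracMap_algebraMap (a : A) :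
    fracMap A B (algebraMap A (FractionRing A) a) =
      algebraMap B (FractionRing B) (algebraMap A B a) :=
  IsLocalization.map_eq _ a

noncomputable def fracMapAlg : FractionRing A →ₐ[A] FractionRing B :=
  { fracMap A B with
    commutes' := fun a => by
      show fracMap A B (algebraMap A (FractionRing A) a) = _
      rw [fracMap_algebraMap, ← IsScalarTower.algebraMap_apply] }

theorem fracMapAlg_apply (x : FractionRing A) : fracMapAlg A B x = fracMap A B x := rfl

-- the normalization of `A` maps to the total fraction ring of `B`
noncomputable def normMap : integralClosure A (FractionRing A) →ₐ[A] FractionRing B :=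
  (fracMapAlg A B).comp (integralClosure A (FractionRing A)).val

theorem normMap_apply (x : integralClosure A (FractionRing A)) :
    normMap A B x = fracMap A B (x : FractionRing A) := rfl

-- the comparison maps
noncomputable def psi : B ⊗[A] integralClosure A (FractionRing A) →ₐ[B] FractionRing B :=
  Algebra.TensorProduct.lift (Algebra.ofId B (FractionRing B)) (normMap A B)
    (fun _ _ => Commute.all _ _)

theorem psi_tmul (b : B) (x : integralClosure A (FractionRing A)) :
    psi A B (b ⊗ₜ x) = algebraMap B (FractionRing B) b * fracMap A B (x : FractionRing A) := by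
  simp [psi, normMap_apply, Algebra.ofId_apply]

noncomputable def psi' : B ⊗[A] FractionRing A →ₐ[B] FractionRing B :=
  Algebra.TensorProduct.lift (Algebra.ofId B (FractionRing B)) (fracMapAlg A B)
    (fun _ _ => Commute.all _ _)

theorem psi'_tmul (b : B) (x : FractionRing A) :
    psi' A B (b ⊗ₜ x) = algebraMap B (FractionRing B) b * fracMap A B x := by
  simp [psi', fracMapAlg_apply, Algebra.ofId_apply]

attribute [local instance] Algebra.TensorProduct.rightAlgebra in
theorem psi'_injective : Function.Injective (psi' A B) := by
  haveI : IsLocalization (Algebra.algebraMapSubmonoid B (nonZeroDivisors A))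
      (B ⊗[A] FractionRing A) := by
    rw [Algebra.isLocalization_iff_isPushout (nonZeroDivisors A) (FractionRing A)]
    infer_instance
  rw [injective_iff_map_eq_zero]
  intro z hz
  obtain ⟨b, s, rfl⟩ := IsLocalization.exists_mk'_eq
    (Algebra.algebraMapSubmonoid B (nonZeroDivisors A)) z
  have h1 : psi' A B (IsLocalization.mk' (B ⊗[A] FractionRing A) b s) *
      psi' A B (algebraMap B _ (s : B)) = psi' A B (algebraMap B _ b) := by
    rw [← map_mul, IsLocalization.mk'_spec]
  rw [hz, zero_mul] at h1
  have h2 : algebraMap B (FractionRing B) b = 0 := by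
    rw [← AlgHom.commutes (psi' A B) b]; exact h1.symm
  have hb : b = 0 := IsFractionRing.injective B (FractionRing B) (by rw [h2, map_zero])
  rw [hb, IsLocalization.mk'_zero]

theorem psi_eq (z : B ⊗[A] integralClosure A (FractionRing A)) :
    psi A B z = psi' A B (LinearMap.lTensor B
      ((integralClosure A (FractionRing A)).val.toLinearMap) z) := by
  induction z using TensorProduct.induction_on with
  | zero => simp
  | tmul b x => simp [psi_tmul, psi'_tmul]
  | add x y hx hy => rw [map_add, map_add, map_add, hx, hy]

theorem psi_injective : Function.Injective (psi A B) := by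
  have h1 : Function.Injective (LinearMap.lTensor B
      ((integralClosure A (FractionRing A)).val.toLinearMap)) :=
    Module.Flat.lTensor_preserves_injective_linearMap _ Subtype.val_injective
  intro x y hxy
  rw [psi_eq, psi_eq] at hxy
  exact h1 (psi'_injective A B hxy)

-- the range of psi is the normalization of B, if all local rings of the tensor product are normal
theorem range_psi_eq
    (hloc : ∀ (M : Ideal (B ⊗[A] integralClosure A (FractionRing A))) [M.IsMaximal],
      IsDomain (Localization.AtPrime M) ∧ IsIntegrallyClosed (Localization.AtPrime M)) :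
    (psi A B).range = integralClosure B (FractionRing B) := by
  obtain ⟨D, hD⟩ : ∃ D : Subalgebra B (FractionRing B), D = (psi A B).range := ⟨_, rfl⟩
  rw [← hD]
  let e : (B ⊗[A] integralClosure A (FractionRing A)) ≃ₐ[B] D :=
    (AlgEquiv.ofInjective (psi A B) (psi_injective A B)).trans
      (Subalgebra.equivOfEq _ _ hD.symm)
  haveI : IsFractionRing D (FractionRing B) :=
    Groth.Agent.Lib.Helper4.TotalFracFin.isFractionRing_subalgebra D
  have hnormal : ∀ (m : Ideal D) [m.IsMaximal],
      IsDomain (Localization.AtPrime m) ∧ IsIntegrallyClosed (Localization.AtPrime m) := by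
    intro m hm
    refine normal_localization_of_ringEquiv e.symm.toRingEquiv m ?_
    intro P _ hP
    haveI : P.IsMaximal := by
      rw [hP]
      exact Ideal.map_isMaximal_of_equiv e.symm.toRingEquiv
    exact hloc P
  have hic : IsIntegrallyClosedIn D (FractionRing B) :=
    Groth.Agent.Lib.Helper4.TotalFracFin.isIntegrallyClosedIn_of_forall_localization
      (FractionRing B) hnormal
  apply le_antisymm
  · intro x hx
    rw [hD] at hx
    obtain ⟨z, rfl⟩ := hx
    have hz : IsIntegral B z := Algebra.IsIntegral.isIntegral z
    exact hz.map (psi A B)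
  · intro x hx
    have hx' : IsIntegral D x := (hx : IsIntegral B x).tower_top
    obtain ⟨d, hd⟩ := (isIntegrallyClosedIn_iff.mp hic).2 hx'
    rw [← hd]
    exact d.2

theorem exists_algEquiv
    (hloc : ∀ (M : Ideal (B ⊗[A] integralClosure A (FractionRing A))) [M.IsMaximal],
      IsDomain (Localization.AtPrime M) ∧ IsIntegrallyClosed (Localization.AtPrime M)) :
    Nonempty ((B ⊗[A] integralClosure A (FractionRing A)) ≃ₐ[B]
      integralClosure B (FractionRing B)) :=
  ⟨(AlgEquiv.ofInjective (psi A B) (psi_injective A B)).trans
      (Subalgebra.equivOfEq _ _ (range_psi_eq A B hloc))⟩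

end Main

end Groth.Agent.Lib.Helper3.Delta
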