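import Mathlib
import Groth.Agent.Lib.Helper3DeltaA

set_option autoImplicit false
set_option linter.style.haveILetI false

namespace Groth.Agent.Lib.Helper3.Delta

universe u
open IsLocalRing TensorProduct Polynomial

section Len

variable (A : Type u) [CommRing A] (B : Type u) [CommRing B] [Algebra A B]

-- the cokernel of `B → B ⊗ A'` is the base change of the cokernel of `A → A'`
theorem range_eq_ker_baseChange (A' : Type u) [CommRing A'] [Algebra A A'] :
    LinearMap.range (Algebra.linearMap B (B ⊗[A] A')) =
      LinearMap.ker ((LinearMap.range (Algebra.linearMap A A')).mkQ.baseChange B) := by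
  ext z
  constructor
  · rintro ⟨b, rfl⟩
    rw [LinearMap.mem_ker]
    show (LinearMap.range (Algebra.linearMap A A')).mkQ.baseChange B (algebraMap B _ b) = 0
    rw [Algebra.TensorProduct.algebraMap_apply, Algebra.algebraMap_self, RingHom.id_apply,
      LinearMap.baseChange_tmul]
    have : (LinearMap.range (Algebra.linearMap A A')).mkQ (1 : A') = 0 := by
      rw [Submodule.mkQ_apply, Submodule.Quotient.mk_eq_zero]
      exact ⟨1, by simp⟩
    rw [this, tmul_zero]
  · intro hz
    rw [LinearMap.mem_ker] at hz
    have hex : Function.Exact (LinearMap.lTensor B (Algebra.linearMap A A'))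
        (LinearMap.lTensor B (LinearMap.range (Algebra.linearMap A A')).mkQ) :=
      lTensor_exact B (LinearMap.exact_map_mkQ_range _) (Submodule.mkQ_surjective _)
    have hz' : LinearMap.lTensor B (LinearMap.range (Algebra.linearMap A A')).mkQ z = 0 := hz
    obtain ⟨y, rfl⟩ := (hex z).mp hz'
    have hy : y = (TensorProduct.rid A B y) ⊗ₜ (1 : A) := by
      rw [← TensorProduct.rid_symm_apply, LinearEquiv.symm_apply_apply]
    refine ⟨TensorProduct.rid A B y, ?_⟩
    conv_rhs => rw [hy]
    rw [LinearMap.lTensor_tmul, Algebra.linearMap_apply, Algebra.linearMap_apply, map_one,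
      Algebra.TensorProduct.algebraMap_apply, Algebra.algebraMap_self, RingHom.id_apply]

theorem length_quot_eq (A' : Type u) [CommRing A'] [Algebra A A'] :
    Module.length B ((B ⊗[A] A') ⧸ LinearMap.range (Algebra.linearMap B (B ⊗[A] A'))) =
      Module.length B (B ⊗[A] (A' ⧸ LinearMap.range (Algebra.linearMap A A'))) := by
  have hsurj : Function.Surjective ((LinearMap.range (Algebra.linearMap A A')).mkQ.baseChange B) :=
    LinearMap.lTensor_surjective B (Submodule.mkQ_surjective _)
  exact (((Submodule.quotEquivOfEq _ _ (range_eq_ker_baseChange A B A')).trans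
    (LinearMap.quotKerEquivOfSurjective _ hsurj))).length_eq

end Len

section Main

variable (A : Type u) [CommRing A] [IsLocalRing A] (B : Type u) [CommRing B] [IsLocalRing B]
  [Algebra A B] [IsLocalHom (algebraMap A B)] [Module.Flat A B]

theorem length_eq_of_normal
    (hm : (maximalIdeal A).map (algebraMap A B) = maximalIdeal B)
    (hloc : ∀ (M : Ideal (B ⊗[A] integralClosure A (FractionRing A))) [M.IsMaximal],
      IsDomain (Localization.AtPrime M) ∧ IsIntegrallyClosed (Localization.AtPrime M)) :
    Module.length B (↥(integralClosure B (FractionRing B)) ⧸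
      LinearMap.range (Algebra.linearMap B ↥(integralClosure B (FractionRing B)))) =
    Module.length A (↥(integralClosure A (FractionRing A)) ⧸
      LinearMap.range (Algebra.linearMap A ↥(integralClosure A (FractionRing A)))) := by
  obtain ⟨e⟩ := exists_algEquiv A B hloc
  have h1 : (LinearMap.range (Algebra.linearMap B
      (B ⊗[A] integralClosure A (FractionRing A)))).map e.toLinearEquiv.toLinearMap =
      LinearMap.range (Algebra.linearMap B ↥(integralClosure B (FractionRing B))) := by
    rw [← LinearMap.range_comp]
    congr 1
    ext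
    simp [Algebra.TensorProduct.one_def]
  haveI : IsSimpleModule B (B ⧸ maximalIdeal B) :=
    isSimpleModule_iff_quot_maximal.mpr ⟨maximalIdeal B, inferInstance, ⟨LinearEquiv.refl _ _⟩⟩
  have h2 : Module.length B (B ⧸ maximalIdeal B) = 1 := Module.length_eq_one _ _
  rw [← (Submodule.Quotient.equiv _ _ e.toLinearEquiv h1).length_eq, length_quot_eq,
    IsLocalRing.length_baseChange, hm, h2, mul_one]

end Main

end Groth.Agent.Lib.Helper3.Delta
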