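import Mathlib
import Groth.Agent.Lib.Helper14WEFlat
import Groth.Agent.Lib.Helper14WEField

set_option autoImplicit false
set_option linter.style.haveILetI false

universe u

namespace Groth.Agent.Lib.Helper3.ValEt

open TensorProduct

/-- ideals of a weakly etale algebra over a valuation ring are flat modules -/
theorem flat_ideal (A : Type u) [CommRing A] [IsDomain A] [ValuationRing A]
    (R : Type u) [CommRing R] [Algebra A R] [Algebra.WeaklyEtale A R] (I : Ideal R) :
    Module.Flat R I := by
  haveI : Module.Flat A R := inferInstance
  haveI : Module.Flat A I := by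
    rw [Module.Flat.flat_iff_torsion_eq_bot_of_isBezout]
    rw [eq_bot_iff]
    intro x hx
    rw [Submodule.mem_torsion_iff] at hx
    obtain ⟨a, ha⟩ := hx
    have h1 : (x : R) ∈ Submodule.torsion A R := by
      rw [Submodule.mem_torsion_iff]
      refine ⟨a, ?_⟩
      have := congrArg (Subtype.val) ha
      simpa using this
    rw [Module.Flat.torsion_eq_bot] at h1
    rw [Submodule.mem_bot] at h1 ⊢
    exact Subtype.ext h1
  exact Groth.Agent.Lib.Helper14.WEFlat.flat_of_flat_of_weaklyEtale A R I

/-- a free ideal is principal -/
theorem isPrincipal_of_free {R : Type*} [CommRing R] [Nontrivial R] (I : Ideal R)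
    [Module.Free R I] : I.IsPrincipal := by
  classical
  obtain ⟨ι, b⟩ := Module.Free.exists_basis (R := R) (M := I)
  have hsub : Subsingleton ι := by
    constructor
    intro i j
    by_contra hij
    have hrel : ((b j : I) : R) • b i - ((b i : I) : R) • b j = 0 := by
      apply Subtype.ext
      simp [mul_comm]
    have hli := b.linearIndependent
    rw [linearIndependent_iff'] at hli
    have := hli {i, j} (fun k => if k = i then ((b j : I) : R) else - ((b i : I) : R)) (by
      rw [Finset.sum_pair hij]
      simp only [if_true, if_neg (Ne.symm hij)]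
      rw [neg_smul, ← sub_eq_add_neg]
      exact hrel) i (by simp)
    simp only [if_true] at this
    have hbj : b j = 0 := Subtype.ext this
    exact b.ne_zero j hbj
  by_cases hne : Nonempty ι
  · obtain ⟨i⟩ := hne
    refine ⟨⟨(b i : R), ?_⟩⟩
    apply le_antisymm
    · intro x hx
      have hx' : (⟨x, hx⟩ : I) ∈ Submodule.span R (Set.range b) := by
        rw [b.span_eq]; trivial
      have hr : Set.range b = {b i} := by
        ext z
        constructor
        · rintro ⟨j, rfl⟩
          rw [Subsingleton.elim j i]; rfl
        · rintro rfl; exact ⟨i, rfl⟩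
      rw [hr, Submodule.mem_span_singleton] at hx'
      obtain ⟨c, hc⟩ := hx'
      rw [Submodule.mem_span_singleton]
      refine ⟨c, ?_⟩
      have := congrArg Subtype.val hc
      simpa using this
    · rw [Submodule.span_singleton_le_iff_mem]
      exact (b i).2
  · rw [not_nonempty_iff] at hne
    refine ⟨⟨0, ?_⟩⟩
    have hbot : (⊤ : Submodule R I) = ⊥ := by
      rw [← b.span_eq]
      have : Set.range b = ∅ := Set.range_eq_empty _
      rw [this, Submodule.span_empty]
    rw [Submodule.span_zero_singleton, eq_bot_iff]
    intro x hx
    have : (⟨x, hx⟩ : I) ∈ (⊤ : Submodule R I) := trivial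
    rw [hbot, Submodule.mem_bot] at this
    rw [Submodule.mem_bot]
    exact congrArg Subtype.val this

/-- a local ring which is weakly etale over a valuation ring is a domain -/
theorem isDomain_of_local (A : Type u) [CommRing A] [IsDomain A] [ValuationRing A]
    (R : Type u) [CommRing R] [IsLocalRing R] [Algebra A R] [Algebra.WeaklyEtale A R] :
    IsDomain R := by
  haveI : NoZeroDivisors R := by
    constructor
    intro y x hyx
    by_contra hcon
    push Not at hcon
    obtain ⟨hy, hx⟩ := hcon
    haveI : Module.Flat R (Ideal.span {x}) := flat_ideal A R _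
    haveI : Module.Finite R (Ideal.span {x}) :=
      Module.Finite.iff_fg.mpr ⟨{x}, by simp⟩
    haveI : Module.Free R (Ideal.span {x}) := Module.free_of_flat_of_isLocalRing
    obtain ⟨ι, b⟩ := Module.Free.exists_basis (R := R) (M := (Ideal.span {x} : Ideal R))
    have hne : Nonempty ι := by
      by_contra hemp
      rw [not_nonempty_iff] at hemp
      have hbot : (⊤ : Submodule R (Ideal.span {x} : Ideal R)) = ⊥ := by
        rw [← b.span_eq]
        have : Set.range b = ∅ := Set.range_eq_empty _
        rw [this, Submodule.span_empty]
      have hxm : x ∈ (Ideal.span {x} : Ideal R) := Ideal.subset_span rfl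
      have : (⟨x, hxm⟩ : (Ideal.span {x} : Ideal R)) ∈
          (⊤ : Submodule R (Ideal.span {x} : Ideal R)) := trivial
      rw [hbot, Submodule.mem_bot] at this
      exact hx (congrArg Subtype.val this)
    obtain ⟨i⟩ := hne
    obtain ⟨c, hc⟩ := Ideal.mem_span_singleton'.mp (b i).2
    have h0 : y • b i = 0 := by
      apply Subtype.ext
      show y * ((b i : (Ideal.span {x} : Ideal R)) : R) = 0
      rw [← hc, mul_comm c x, ← mul_assoc, hyx, zero_mul]
    have h1 := congrArg (fun z => b.repr z i) h0
    simp only [map_smul, Module.Basis.repr_self, Finsupp.smul_apply, Finsupp.single_eq_same,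
      smul_eq_mul, mul_one, map_zero, Finsupp.coe_zero, Pi.zero_apply] at h1
    exact hy h1
  exact NoZeroDivisors.to_isDomain R

/-- a local domain which is weakly etale over a valuation ring is a valuation ring -/
theorem valuationRing_of_local (A : Type u) [CommRing A] [IsDomain A] [ValuationRing A]
    (R : Type u) [CommRing R] [IsLocalRing R] [IsDomain R] [Algebra A R]
    [Algebra.WeaklyEtale A R] : ValuationRing R := by
  haveI : IsBezout R := by
    rw [IsBezout.iff_span_pair_isPrincipal]
    intro x y
    haveI : Module.Flat R (Ideal.span {x, y}) := flat_ideal A R _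
    haveI : Module.Finite R (Ideal.span {x, y}) :=
      Module.Finite.iff_fg.mpr (Submodule.fg_span (Set.toFinite {x, y}))
    haveI : Module.Free R (Ideal.span {x, y}) := Module.free_of_flat_of_isLocalRing
    exact isPrincipal_of_free _
  infer_instance

end Groth.Agent.Lib.Helper3.ValEt
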