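import Mathlib
import Groth.Agent.Lib.Helper3DeltaB
import Groth.Agent.Lib.Helper3ValEt
import Groth.Agent.Lib.Helper14WEField
import Groth.Agent.Lib.Helper4BirDimOne

set_option autoImplicit false
set_option linter.style.haveILetI false

namespace Groth.Agent.Lib.Helper3.Delta

universe u
open IsLocalRing TensorProduct Polynomial

section WE

-- weakly etale transports along algebra isomorphisms
theorem weaklyEtale_of_algEquiv {R S T : Type*} [CommRing R] [CommRing S] [CommRing T]
    [Algebra R S] [Algebra R T] (e : S ≃ₐ[R] T) [Algebra.WeaklyEtale R S] :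
    Algebra.WeaklyEtale R T := by
  letI : Algebra S T := e.toAlgHom.toRingHom.toAlgebra
  haveI : IsScalarTower R S T := IsScalarTower.of_algebraMap_eq (fun r => (e.commutes r).symm)
  haveI : IsLocalization (⊥ : Submonoid S) T := by
    apply IsLocalization.of_le_isUnit_of_bijective
    · rintro x ⟨y, hy, rfl⟩
      have hy1 : y = 1 := hy
      rw [hy1, map_one]
      exact isUnit_one
    · exact e.bijective
  haveI : Algebra.WeaklyEtale S T :=
    Groth.Agent.Lib.Helper14.WEField.weaklyEtale_of_isLocalization ⊥ T
  exact Algebra.WeaklyEtale.trans R S T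

-- cancellation of a localization
theorem weaklyEtale_of_isLocalization_tower {R : Type*} [CommRing R] (S : Submonoid R)
    (Rs : Type*) [CommRing Rs] [Algebra R Rs] [IsLocalization S Rs] (T : Type*) [CommRing T]
    [Algebra R T] [Algebra Rs T] [IsScalarTower R Rs T] [Algebra.WeaklyEtale R T] :
    Algebra.WeaklyEtale Rs T :=
  weaklyEtale_of_algEquiv (IsLocalization.algebraLid S Rs T)

end WE

section LocalVal

-- a weakly etale algebra over a ring whose local rings are valuation domains has normal local rings
theorem normal_localization_of_weaklyEtale (R₀ : Type u) [CommRing R₀] (T₀ : Type u) [CommRing T₀]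
    [Algebra R₀ T₀] [Algebra.WeaklyEtale R₀ T₀] (M : Ideal T₀) [M.IsPrime]
    (P : Ideal R₀) [P.IsPrime] (hP : P = M.comap (algebraMap R₀ T₀))
    [IsDomain (Localization.AtPrime P)] [ValuationRing (Localization.AtPrime P)] :
    IsDomain (Localization.AtPrime M) ∧ IsIntegrallyClosed (Localization.AtPrime M) := by
  letI : Algebra (Localization.AtPrime P) (Localization.AtPrime M) :=
    (Localization.localRingHom P M (algebraMap R₀ T₀) hP).toAlgebra
  haveI : IsScalarTower R₀ (Localization.AtPrime P) (Localization.AtPrime M) :=
    IsScalarTower.of_algebraMap_eq (fun x => by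
      rw [RingHom.algebraMap_toAlgebra, Localization.localRingHom_to_map,
        ← IsScalarTower.algebraMap_apply])
  haveI : Algebra.WeaklyEtale T₀ (Localization.AtPrime M) :=
    Groth.Agent.Lib.Helper14.WEField.weaklyEtale_of_isLocalization M.primeCompl _
  haveI : Algebra.WeaklyEtale R₀ (Localization.AtPrime M) :=
    Algebra.WeaklyEtale.trans R₀ T₀ (Localization.AtPrime M)
  haveI : Algebra.WeaklyEtale (Localization.AtPrime P) (Localization.AtPrime M) :=
    weaklyEtale_of_isLocalization_tower P.primeCompl (Localization.AtPrime P)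
      (Localization.AtPrime M)
  haveI hD : IsDomain (Localization.AtPrime M) :=
    Groth.Agent.Lib.Helper3.ValEt.isDomain_of_local (Localization.AtPrime P)
      (Localization.AtPrime M)
  haveI : ValuationRing (Localization.AtPrime M) :=
    Groth.Agent.Lib.Helper3.ValEt.valuationRing_of_local (Localization.AtPrime P)
      (Localization.AtPrime M)
  exact ⟨hD, inferInstance⟩

end LocalVal

section Dim

-- local rings of an integral extension of a ring of dimension ≤ 1 have dimension ≤ 1
theorem ringKrullDim_localization_le_one (A : Type*) [CommRing A] [Ring.KrullDimLE 1 A]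
    (A' : Type*) [CommRing A'] [Algebra A A'] [Algebra.IsIntegral A A'] (P : Ideal A')
    [P.IsPrime] : ringKrullDim (Localization.AtPrime P) ≤ 1 := by
  rw [IsLocalization.AtPrime.ringKrullDim_eq_height P (Localization.AtPrime P)]
  have h1 : P.height ≤ (1 : ℕ) := by
    rw [Ideal.height_le_iff]
    intro Q hQ hQP
    rw [Nat.cast_one, Order.lt_one_iff_nonpos, nonpos_iff_eq_zero]  
    haveI := hQ
    have h0 : Q.height ≤ (0 : ℕ) := by
      rw [Ideal.height_le_iff]
      intro Q' hQ' hQ'Q
      exfalso
      haveI := hQ'
      have c1 := Ideal.IsIntegral.comap_lt_comap (R := A) hQ'Q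
      have c2 := Ideal.IsIntegral.comap_lt_comap (R := A) hQP
      haveI : (Q.comap (algebraMap A A')).IsPrime := Ideal.comap_isPrime _ _
      haveI : (P.comap (algebraMap A A')).IsPrime := Ideal.comap_isPrime _ _
      haveI : (Q'.comap (algebraMap A A')).IsPrime := Ideal.comap_isPrime _ _
      rcases Ring.krullDimLE_one_iff.mp ‹_› (Q.comap (algebraMap A A')) inferInstance with h | h
      · exact absurd (h.2 ⟨inferInstance, bot_le⟩ c1.le) (not_le_of_gt c1)
      · exact absurd (h.eq_of_le (Ideal.IsPrime.ne_top inferInstance) c2.le) (ne_of_lt c2)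
    simpa using h0
  exact_mod_cast h1

end Dim

end Groth.Agent.Lib.Helper3.Delta
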