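import Mathlib
import Groth.Agent.Lib.Helper3DeltaC
import Groth.Agent.Lib.Helper3IndEtHz
import Groth.Agent.Lib.Helper3HzP
import Groth.Agent.S0736

set_option autoImplicit false
set_option linter.style.haveILetI false

namespace Groth.Agent.Lib.Helper3.Delta

universe u
open IsLocalRing TensorProduct Polynomial

section WEt

variable (A : Type u) [CommRing A] [IsNoetherianRing A] [IsReduced A]

-- local rings of the normalization of a one-dimensional reduced Nagata ring are valuation rings
theorem valuationRing_localization_normalization (hN : CAlg.IsNagata A) [Ring.KrullDimLE 1 A]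
    (P : Ideal (integralClosure A (FractionRing A))) [P.IsPrime] :
    ∃ _ : IsDomain (Localization.AtPrime P), ValuationRing (Localization.AtPrime P) := by
  obtain ⟨hD, hIC⟩ :=
    Groth.Agent.Lib.Helper4.TotalFrac.isDomain_isIntegrallyClosed_localization_normalization P
  haveI := hD
  haveI := hIC
  haveI : Module.Finite A (integralClosure A (FractionRing A)) :=
    Groth.Agent.Lib.Helper4.TotalFrac.finite_normalization hN
  haveI : IsNoetherianRing (integralClosure A (FractionRing A)) :=
    isNoetherian_of_tower A (isNoetherian_of_isNoetherianRing_of_finite A _)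
  haveI : IsNoetherianRing (Localization.AtPrime P) :=
    IsLocalization.isNoetherianRing P.primeCompl _ inferInstance
  exact ⟨hD, Groth.Agent.Lib.Helper4.BirLocalIso.valuationRing_of_normal_dim_le_one _
    (ringKrullDim_localization_le_one A _ P)⟩

theorem normal_of_weaklyEtale (hN : CAlg.IsNagata A) [Ring.KrullDimLE 1 A]
    (B : Type u) [CommRing B] [Algebra A B] [Algebra.WeaklyEtale A B]
    (M : Ideal (B ⊗[A] integralClosure A (FractionRing A))) [M.IsPrime] :
    IsDomain (Localization.AtPrime M) ∧ IsIntegrallyClosed (Localization.AtPrime M) := by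
  refine normal_localization_of_ringEquiv (R' := integralClosure A (FractionRing A) ⊗[A] B)
    (Algebra.TensorProduct.comm A B (integralClosure A (FractionRing A))).toRingEquiv M ?_
  intro M' _ _
  obtain ⟨P, hP⟩ : ∃ P : Ideal (integralClosure A (FractionRing A)),
    P = M'.comap (algebraMap _ _) := ⟨_, rfl⟩
  haveI : P.IsPrime := hP ▸ Ideal.comap_isPrime _ _
  obtain ⟨hD, hV⟩ := valuationRing_localization_normalization A hN P
  haveI := hD
  haveI := hV
  exact normal_localization_of_weaklyEtale (integralClosure A (FractionRing A))
    (integralClosure A (FractionRing A) ⊗[A] B) M' P hP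

end WEt

section HzSh

variable (A : Type u) [CommRing A] [IsLocalRing A] [IsReduced A]

theorem length_eq_of_isHenselization (hN : CAlg.IsNagata A) (hdim : ringKrullDim A = 1)
    (B : Type u) [CommRing B] [IsLocalRing B] [Algebra A B] [IsLocalHom (algebraMap A B)]
    (h : Hensel.IsHenselization A B) :
    Module.length B (↥(integralClosure B (FractionRing B)) ⧸
      LinearMap.range (Algebra.linearMap B ↥(integralClosure B (FractionRing B)))) =
    Module.length A (↥(integralClosure A (FractionRing A)) ⧸
      LinearMap.range (Algebra.linearMap A ↥(integralClosure A (FractionRing A)))) := by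
  haveI := h
  haveI : IsNoetherianRing A := hN.1
  haveI : Ring.KrullDimLE 1 A := by
    rw [Ring.KrullDimLE, Order.krullDimLE_iff]
    exact hdim.le
  haveI : Algebra.WeaklyEtale A B :=
    Groth.Agent.S0736.result A B (IndEt.isIndEtale_of_isHenselization A B)
  exact length_eq_of_normal A B (HzP.hz_map_maximalIdeal A B)
    (fun M _ => normal_of_weaklyEtale A hN B M)

theorem length_eq_of_isStrictHenselization (hN : CAlg.IsNagata A) (hdim : ringKrullDim A = 1)
    (B : Type u) [CommRing B] [IsLocalRing B] [Algebra A B] [IsLocalHom (algebraMap A B)]
    (h : Hensel.IsStrictHenselization A B) :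
    Module.length B (↥(integralClosure B (FractionRing B)) ⧸
      LinearMap.range (Algebra.linearMap B ↥(integralClosure B (FractionRing B)))) =
    Module.length A (↥(integralClosure A (FractionRing A)) ⧸
      LinearMap.range (Algebra.linearMap A ↥(integralClosure A (FractionRing A)))) := by
  haveI := h
  haveI : IsNoetherianRing A := hN.1
  haveI : Ring.KrullDimLE 1 A := by
    rw [Ring.KrullDimLE, Order.krullDimLE_iff]
    exact hdim.le
  haveI : Algebra.WeaklyEtale A B :=
    Groth.Agent.S0736.result A B (IndEt.isIndEtale_of_isStrictHenselization A B)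
  exact length_eq_of_normal A B (HzP.sh_map_maximalIdeal A B)
    (fun M _ => normal_of_weaklyEtale A hN B M)

end HzSh

end Groth.Agent.Lib.Helper3.Delta
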