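import Mathlib
import Groth.Agent.Lib.Helper4Branches

set_option autoImplicit false
set_option linter.style.haveILetI false

namespace Groth.Agent.Lib.Helper3.Wedge

open IsLocalRing Groth.Agent.Lib.Helper4.Branches

section Gen

-- a surjection whose source has finite length at most that of the target is injective
theorem injective_of_surjective_of_length_le {R M N : Type*} [Ring R] [AddCommGroup M] [Module R M]
    [AddCommGroup N] [Module R N] (f : M →ₗ[R] N) (hf : Function.Surjective f)
    (hle : Module.length R M ≤ Module.length R N) (hfin : Module.length R M < ⊤) :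
    Function.Injective f := by
  have h1 := Module.length_eq_add_of_exact (LinearMap.ker f).subtype f
    (Submodule.subtype_injective _) hf (LinearMap.exact_subtype_ker_map f)
  have h2 : Module.length R N < ⊤ := (Module.length_le_of_surjective f hf).trans_lt hfin
  rw [h1] at hle
  have h3 : Module.length R (LinearMap.ker f) = 0 := by
    by_contra hne
    have h5 : 1 ≤ Module.length R (LinearMap.ker f) := Order.one_le_iff_ne_zero.mpr hne
    have h6 : 1 + Module.length R N ≤ Module.length R N := (add_le_add_left h5 _).trans hle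
    lift Module.length R N to ℕ using h2.ne with b
    have h7 : ((1 + b : ℕ) : ℕ∞) ≤ (b : ℕ∞) := by exact_mod_cast h6
    have h8 : 1 + b ≤ b := by exact_mod_cast h7
    omega
  rw [Module.length_eq_zero_iff] at h3
  rw [← LinearMap.ker_eq_bot]
  exact Submodule.eq_bot_of_subsingleton

end Gen

section Chain

variable {A : Type*} [CommRing A] [IsLocalRing A] {B : Type*} [CommRing B] [Algebra A B]
  [Module.Finite A B]

omit [IsLocalRing A] [Module.Finite A B] in
theorem one_le_length_quotient (n : Ideal B) [hn : n.IsMaximal] :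
    1 ≤ Module.length A (B ⧸ n) := by
  rw [Order.one_le_iff_ne_zero, Ne, Module.length_eq_zero_iff]
  haveI : Nontrivial (B ⧸ n) := Ideal.Quotient.nontrivial_iff.mpr hn.ne_top
  exact not_subsingleton _

theorem finite_maximalSpectrum
    (hL : Module.length A (B ⧸ (maximalIdeal A • ⊤ : Submodule A B)) < ⊤) :
    Finite (MaximalSpectrum B) := by
  by_contra hinf
  rw [not_finite_iff_infinite] at hinf
  obtain ⟨L, hLdef⟩ : ∃ L : ℕ, Module.length A (B ⧸ (maximalIdeal A • ⊤ : Submodule A B)) = L :=
    ⟨_, (ENat.coe_toNat hL.ne).symm⟩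
  obtain ⟨F, hF⟩ := Infinite.exists_subset_card_eq (MaximalSpectrum B) (L + 1)
  have h1 := sum_length_le (A := A) F
  have h2 : (F.card : ℕ∞) ≤ ∑ n ∈ F, Module.length A (B ⧸ n.asIdeal) := by
    calc (F.card : ℕ∞) = ∑ n ∈ F, (1 : ℕ∞) := by simp
      _ ≤ _ := Finset.sum_le_sum (fun n _ => by
        haveI := n.isMaximal
        exact one_le_length_quotient n.asIdeal)
  rw [hLdef, hF] at *
  have h3 : ((L + 1 : ℕ) : ℕ∞) ≤ (L : ℕ∞) := h2.trans h1
  have h4 : L + 1 ≤ L := by exact_mod_cast h3
  omega

-- the three equalities in the chain `Σ|Emb| ≤ Σ length(B/n) ≤ length(B/mB) ≤ length(B/A) + 1`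
theorem eq_of_card_sigma_emb_ge {Ω : Type*} [Field Ω] [Algebra (ResidueField A) Ω]
    (hfin : Module.length A (B ⧸ LinearMap.range (Algebra.linearMap A B)) < ⊤)
    (hge : Module.length A (B ⧸ LinearMap.range (Algebra.linearMap A B)) + 1 ≤
      ENat.card (Σ n : MaximalSpectrum B, {σ : B ⧸ n.asIdeal →+* Ω //
        σ.comp ((Ideal.Quotient.mk n.asIdeal).comp (algebraMap A B)) =
          (algebraMap (ResidueField A) Ω).comp (residue A)})) :
    (∀ n : MaximalSpectrum B, ENat.card {σ : B ⧸ n.asIdeal →+* Ω //
        σ.comp ((Ideal.Quotient.mk n.asIdeal).comp (algebraMap A B)) =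
          (algebraMap (ResidueField A) Ω).comp (residue A)} = Module.length A (B ⧸ n.asIdeal)) ∧
    (∀ b : B, (∀ n : MaximalSpectrum B, b ∈ n.asIdeal) →
      b ∈ (maximalIdeal A • ⊤ : Submodule A B)) ∧
    ((maximalIdeal A • ⊤ : Submodule A B) ≤ LinearMap.range (Algebra.linearMap A B)) := by
  classical
  obtain ⟨δ, hδ⟩ : ∃ δ : ℕ, Module.length A (B ⧸ LinearMap.range (Algebra.linearMap A B)) = δ :=
    ⟨_, (ENat.coe_toNat hfin.ne).symm⟩
  have hLle := length_quotient_smul_le (A := A) (B := B)
  have hLfin : Module.length A (B ⧸ (maximalIdeal A • ⊤ : Submodule A B)) < ⊤ := by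
    refine hLle.trans_lt ?_
    rw [hδ]
    exact ENat.coe_lt_top (δ + 1)
  obtain ⟨L, hL⟩ : ∃ L : ℕ, Module.length A (B ⧸ (maximalIdeal A • ⊤ : Submodule A B)) = L :=
    ⟨_, (ENat.coe_toNat hLfin.ne).symm⟩
  haveI := finite_maximalSpectrum (A := A) (B := B) hLfin
  letI := Fintype.ofFinite (MaximalSpectrum B)
  let E : MaximalSpectrum B → Type _ := fun n => {σ : B ⧸ n.asIdeal →+* Ω //
      σ.comp ((Ideal.Quotient.mk n.asIdeal).comp (algebraMap A B)) =
        (algebraMap (ResidueField A) Ω).comp (residue A)}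
  have hE : ∀ n : MaximalSpectrum B, ENat.card (E n) ≤ Module.length A (B ⧸ n.asIdeal) :=
    fun n => by haveI := n.isMaximal; exact card_emb_le_length n.asIdeal
  have hlenfin : ∀ n : MaximalSpectrum B, Module.length A (B ⧸ n.asIdeal) < ⊤ :=
    fun n => by haveI := n.isMaximal; exact length_quotient_lt_top n.asIdeal
  haveI hfinE : ∀ n, Finite (E n) := fun n => ENat.card_lt_top.mp ((hE n).trans_lt (hlenfin n))
  -- natural number versions
  choose ℓ hℓ using fun n : MaximalSpectrum B =>
    (⟨_, (ENat.coe_toNat (hlenfin n).ne).symm⟩ : ∃ l : ℕ, Module.length A (B ⧸ n.asIdeal) = l)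
  have hcardE : ∀ n, ENat.card (E n) = (Nat.card (E n) : ℕ∞) := fun n => ENat.card_eq_coe_natCard _
  have hEℓ : ∀ n, Nat.card (E n) ≤ ℓ n := fun n => by
    have := hE n
    rw [hcardE, hℓ] at this
    exact_mod_cast this
  have hS1 : ENat.card (Σ n, E n) = ((∑ n, Nat.card (E n) : ℕ) : ℕ∞) := by
    rw [ENat.card_eq_coe_natCard, Nat.card_sigma]
  have hS2 : ∑ n : MaximalSpectrum B, Module.length A (B ⧸ n.asIdeal) = ((∑ n, ℓ n : ℕ) : ℕ∞) := by
    rw [Nat.cast_sum]
    exact Finset.sum_congr rfl (fun n _ => hℓ n)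
  have h23 := sum_length_le (A := A) (B := B) Finset.univ
  rw [hS2, hL] at h23
  have h23' : ∑ n, ℓ n ≤ L := by exact_mod_cast h23
  have h34' : L ≤ δ + 1 := by
    rw [hL, hδ] at hLle
    exact_mod_cast hLle
  have h41' : δ + 1 ≤ ∑ n, Nat.card (E n) := by
    change _ ≤ ENat.card (Σ n, E n) at hge
    rw [hδ, hS1] at hge
    exact_mod_cast hge
  have h12' : ∑ n, Nat.card (E n) ≤ ∑ n, ℓ n := Finset.sum_le_sum (fun n _ => hEℓ n)
  have e12 : ∑ n, Nat.card (E n) = ∑ n, ℓ n := by omega
  have e23 : ∑ n, ℓ n = L := by omega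
  have e34 : L = δ + 1 := by omega
  refine ⟨?_, ?_, ?_⟩
  · -- termwise equality
    intro n
    have h := (Finset.sum_eq_sum_iff_of_le (fun n _ => hEℓ n)).mp e12 n (Finset.mem_univ n)
    show ENat.card (E n) = _
    rw [hcardE, hℓ, h]
  · -- the Jacobson radical is `mB`
    intro b hb
    let g : B →ₗ[A] (∀ n : MaximalSpectrum B, B ⧸ n.asIdeal) :=
      LinearMap.pi (fun n => (Ideal.Quotient.mkₐ A n.asIdeal).toLinearMap)
    have hg : Function.Surjective g := by
      intro x
      have hcop : Pairwise (Function.onFun IsCoprime (fun n : MaximalSpectrum B => n.asIdeal)) := by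
        intro n₁ n₂ hne
        haveI := n₁.isMaximal
        haveI := n₂.isMaximal
        exact Ideal.isCoprime_of_isMaximal (fun h => hne (MaximalSpectrum.ext h))
      obtain ⟨r, hr⟩ := Ideal.pi_quotient_surjective hcop x
      exact ⟨r, funext fun n => hr n⟩
    have hker : (maximalIdeal A • ⊤ : Submodule A B) ≤ LinearMap.ker g := by
      rw [Submodule.smul_le]
      intro a ha b' _
      rw [LinearMap.mem_ker]
      funext n
      haveI := n.isMaximal
      show Ideal.Quotient.mk n.asIdeal (a • b') = 0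
      rw [Ideal.Quotient.eq_zero_iff_mem, Algebra.smul_def]
      refine Ideal.mul_mem_right _ _ ?_
      have : a ∈ n.asIdeal.comap (algebraMap A B) := by
        rw [comap_eq_maximalIdeal]; exact ha
      exact this
    let g' : (B ⧸ (maximalIdeal A • ⊤ : Submodule A B)) →ₗ[A]
        (∀ n : MaximalSpectrum B, B ⧸ n.asIdeal) := Submodule.liftQ _ g hker
    have hg' : Function.Surjective g' := by
      intro x
      obtain ⟨b', rfl⟩ := hg x
      exact ⟨Submodule.Quotient.mk b', rfl⟩
    have hlen : Module.length A (B ⧸ (maximalIdeal A • ⊤ : Submodule A B)) ≤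
        Module.length A (∀ n : MaximalSpectrum B, B ⧸ n.asIdeal) := by
      rw [Module.length_pi_of_fintype, hS2, hL, e23]
    have hinj := injective_of_surjective_of_length_le g' hg' hlen hLfin
    have h0 : g' (Submodule.Quotient.mk b) = 0 := by
      funext n
      show Ideal.Quotient.mk n.asIdeal b = 0
      rw [Ideal.Quotient.eq_zero_iff_mem]
      exact hb n
    have h1 : (Submodule.Quotient.mk b : B ⧸ (maximalIdeal A • ⊤ : Submodule A B)) = 0 :=
      hinj (h0.trans (map_zero g').symm)
    exact (Submodule.Quotient.mk_eq_zero _).mp h1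
  · -- `mB ⊆ A`
    set P : Submodule A B := maximalIdeal A • ⊤ with hP
    let g : A →ₗ[A] B ⧸ P := P.mkQ.comp (Algebra.linearMap A B)
    have hker : (maximalIdeal A : Submodule A A) ≤ LinearMap.ker g := by
      intro a ha
      rw [LinearMap.mem_ker]
      show P.mkQ (algebraMap A B a) = 0
      rw [Submodule.mkQ_apply, Submodule.Quotient.mk_eq_zero, Algebra.algebraMap_eq_smul_one]
      exact Submodule.smul_mem_smul ha Submodule.mem_top
    let g₁ : (A ⧸ maximalIdeal A) →ₗ[A] LinearMap.range g :=
      Submodule.liftQ _ (LinearMap.rangeRestrict g) (by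
        intro a ha
        rw [LinearMap.mem_ker]
        apply Subtype.ext
        exact LinearMap.mem_ker.mp (hker ha))
    have hg₁ : Function.Surjective g₁ := by
      rintro ⟨_, a, rfl⟩
      exact ⟨Submodule.Quotient.mk a, rfl⟩
    have hlen1 : Module.length A (LinearMap.range g) ≤ 1 := by
      refine (Module.length_le_of_surjective g₁ hg₁).trans ?_
      haveI : IsSimpleModule A (A ⧸ maximalIdeal A) := by
        rw [isSimpleModule_iff_isCoatom]
        exact (maximalIdeal.isMaximal A).out
      rw [Module.length_eq_one_iff.mpr inferInstance]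
    let h : (B ⧸ LinearMap.range (Algebra.linearMap A B)) →ₗ[A] (B ⧸ P) ⧸ LinearMap.range g :=
      Submodule.liftQ _ ((LinearMap.range g).mkQ.comp P.mkQ) (by
        rintro _ ⟨a, rfl⟩
        rw [LinearMap.mem_ker, LinearMap.comp_apply, Submodule.mkQ_apply,
          Submodule.Quotient.mk_eq_zero]
        exact ⟨a, rfl⟩)
    have hh : Function.Surjective h := by
      intro x
      obtain ⟨y, rfl⟩ := Submodule.Quotient.mk_surjective _ x
      obtain ⟨b, rfl⟩ := Submodule.Quotient.mk_surjective _ y
      exact ⟨Submodule.Quotient.mk b, rfl⟩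
    have hadd := Module.length_eq_add_of_exact (LinearMap.range g).subtype (LinearMap.range g).mkQ
      (Submodule.subtype_injective _) (Submodule.mkQ_surjective _)
      (LinearMap.exact_subtype_mkQ _)
    -- the cokernel has length at least `δ`
    have hcok : Module.length A (B ⧸ LinearMap.range (Algebra.linearMap A B)) ≤
        Module.length A ((B ⧸ P) ⧸ LinearMap.range g) := by
      have hcfin : Module.length A ((B ⧸ P) ⧸ LinearMap.range g) < ⊤ :=
        (Module.length_le_of_surjective _ (Submodule.mkQ_surjective _)).trans_lt hLfin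
      obtain ⟨c, hc⟩ : ∃ c : ℕ, Module.length A ((B ⧸ P) ⧸ LinearMap.range g) = c :=
        ⟨_, (ENat.coe_toNat hcfin.ne).symm⟩
      have hrfin : Module.length A (LinearMap.range g) < ⊤ :=
        hlen1.trans_lt (by exact ENat.coe_lt_top 1)
      obtain ⟨r, hr⟩ : ∃ r : ℕ, Module.length A (LinearMap.range g) = r :=
        ⟨_, (ENat.coe_toNat hrfin.ne).symm⟩
      rw [hL, hr, hc] at hadd
      rw [hr] at hlen1
      have h1 : r ≤ 1 := by exact_mod_cast hlen1
      have h2 : L = r + c := by exact_mod_cast hadd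
      rw [hδ, hc]
      have : δ ≤ c := by omega
      exact_mod_cast this
    have hinj := injective_of_surjective_of_length_le h hh hcok hfin
    intro p hp
    have h0 : h (Submodule.Quotient.mk p) = 0 := by
      show (LinearMap.range g).mkQ (P.mkQ p) = 0
      have h2 : P.mkQ p = 0 := by
        rw [Submodule.mkQ_apply]
        exact (Submodule.Quotient.mk_eq_zero P).mpr hp
      rw [h2, map_zero]
    have h1 : (Submodule.Quotient.mk p : B ⧸ LinearMap.range (Algebra.linearMap A B)) = 0 :=
      hinj (h0.trans (map_zero h).symm)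
    exact (Submodule.Quotient.mk_eq_zero _).mp h1

end Chain

end Groth.Agent.Lib.Helper3.Wedge
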