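import Mathlib
import Groth.Agent.Lib.Helper3WedgeA

set_option autoImplicit false
set_option linter.style.haveILetI false

namespace Groth.Agent.Lib.Helper3.Wedge

open IsLocalRing Groth.Agent.Lib.Helper4.Branches

section Sep

variable {A : Type*} [CommRing A] [IsLocalRing A] {B : Type*} [CommRing B] [Algebra A B]
  [Module.Finite A B]

-- over a separably closed residue field there is at most one embedding of `B/n`
theorem subsingleton_emb [IsSepClosed (ResidueField A)] (n : Ideal B) [hn : n.IsMaximal]
    {Ω : Type*} [Field Ω] [Algebra (ResidueField A) Ω] :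
    Subsingleton {σ : B ⧸ n →+* Ω //
        σ.comp ((Ideal.Quotient.mk n).comp (algebraMap A B)) =
          (algebraMap (ResidueField A) Ω).comp (residue A)} := by
  letI : Field (B ⧸ n) := Ideal.Quotient.field n
  obtain ⟨f, hf⟩ : ∃ f : A →+* B ⧸ n, f = (Ideal.Quotient.mk n).comp (algebraMap A B) := ⟨_, rfl⟩
  haveI hloc : IsLocalHom f := by
    refine ⟨fun a ha => ?_⟩
    by_contra hna
    have hmem : a ∈ maximalIdeal A := (IsLocalRing.mem_maximalIdeal a).mpr hna
    have h2 : a ∈ n.comap (algebraMap A B) := by rw [comap_eq_maximalIdeal]; exact hmem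
    have h3 : f a = 0 := by
      rw [hf]
      exact Ideal.Quotient.eq_zero_iff_mem.mpr h2
    rw [h3] at ha
    exact not_isUnit_zero ha
  letI algK : Algebra (ResidueField A) (B ⧸ n) := (ResidueField.lift f).toAlgebra
  haveI : IsScalarTower A (ResidueField A) (B ⧸ n) := IsScalarTower.of_algebraMap_eq (fun a => by
    show _ = ResidueField.lift f (residue A a)
    rw [ResidueField.lift_residue_apply, hf]
    rfl)
  haveI : Module.Finite A (B ⧸ n) :=
    Module.Finite.of_surjective (Ideal.Quotient.mkₐ A n).toLinearMap Ideal.Quotient.mk_surjective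
  haveI : Algebra.IsIntegral A (B ⧸ n) := Algebra.IsIntegral.of_finite A _
  haveI : Algebra.IsIntegral (ResidueField A) (B ⧸ n) := Algebra.IsIntegral.tower_top (R := A)
  haveI : Algebra.IsAlgebraic (ResidueField A) (B ⧸ n) := Algebra.IsIntegral.isAlgebraic
  haveI : IsPurelyInseparable (ResidueField A) (B ⧸ n) := inferInstance
  refine ⟨fun σ₁ σ₂ => Subtype.ext ?_⟩
  apply IsPurelyInseparable.injective_comp_algebraMap (ResidueField A) (B ⧸ n) Ω
  show σ₁.1.comp (algebraMap (ResidueField A) (B ⧸ n)) = σ₂.1.comp (algebraMap _ _)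
  have key : ∀ σ : {σ : B ⧸ n →+* Ω //
        σ.comp ((Ideal.Quotient.mk n).comp (algebraMap A B)) =
          (algebraMap (ResidueField A) Ω).comp (residue A)},
      σ.1.comp (algebraMap (ResidueField A) (B ⧸ n)) = algebraMap (ResidueField A) Ω := by
    intro σ
    apply RingHom.ext
    intro k
    obtain ⟨a, rfl⟩ := residue_surjective k
    have h1 : σ.1 (f a) = (algebraMap (ResidueField A) Ω) (residue A a) := by
      rw [hf]
      exact RingHom.congr_fun σ.2 a
    show σ.1 (ResidueField.lift f (residue A a)) = _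
    rw [ResidueField.lift_residue_apply]
    exact h1
  rw [key σ₁, key σ₂]

-- the wedge description when the number of geometric branches is `δ + 1`
theorem wedge_of_card_ge [IsSepClosed (ResidueField A)]
    {Ω : Type*} [Field Ω] [Algebra (ResidueField A) Ω]
    (hfin : Module.length A (B ⧸ LinearMap.range (Algebra.linearMap A B)) < ⊤)
    (hge : Module.length A (B ⧸ LinearMap.range (Algebra.linearMap A B)) + 1 ≤
      ENat.card (Σ n : MaximalSpectrum B, {σ : B ⧸ n.asIdeal →+* Ω //
        σ.comp ((Ideal.Quotient.mk n.asIdeal).comp (algebraMap A B)) =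
          (algebraMap (ResidueField A) Ω).comp (residue A)})) :
    (∀ n : MaximalSpectrum B, ∀ b : B, ∃ a : A, b - algebraMap A B a ∈ n.asIdeal) ∧
    (∀ b : B, (∀ n : MaximalSpectrum B, b ∈ n.asIdeal) → b ∈ (algebraMap A B).range) := by
  obtain ⟨h1, h2, h3⟩ := eq_of_card_sigma_emb_ge (A := A) (B := B) (Ω := Ω) hfin hge
  refine ⟨?_, ?_⟩
  · intro n b
    haveI := n.isMaximal
    haveI := subsingleton_emb (A := A) n.asIdeal (Ω := Ω)
    have hle : Module.length A (B ⧸ n.asIdeal) ≤ 1 := by
      rw [← h1 n]
      exact ENat.card_le_one_iff_subsingleton _ |>.mpr inferInstance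
    have hone : Module.length A (B ⧸ n.asIdeal) = 1 :=
      le_antisymm hle (one_le_length_quotient n.asIdeal)
    haveI hsimple : IsSimpleModule A (B ⧸ n.asIdeal) := Module.length_eq_one_iff.mp hone
    let g : A →ₗ[A] B ⧸ n.asIdeal :=
      (Ideal.Quotient.mkₐ A n.asIdeal).toLinearMap.comp (Algebra.linearMap A B)
    have hr : LinearMap.range g = ⊤ := by
      rcases eq_bot_or_eq_top (LinearMap.range g) with h | h
      · exfalso
        have h1' : g 1 ∈ LinearMap.range g := ⟨1, rfl⟩
        rw [h, Submodule.mem_bot] at h1'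
        have h2' : (Ideal.Quotient.mk n.asIdeal) 1 = 0 := by
          have : g 1 = Ideal.Quotient.mk n.asIdeal (algebraMap A B 1) := rfl
          rw [this, map_one] at h1'
          exact h1'
        rw [Ideal.Quotient.eq_zero_iff_mem] at h2'
        exact n.isMaximal.ne_top ((Ideal.eq_top_iff_one _).mpr h2')
      · exact h
    have hb : Ideal.Quotient.mk n.asIdeal b ∈ LinearMap.range g := by rw [hr]; trivial
    obtain ⟨a, ha⟩ := hb
    refine ⟨a, ?_⟩
    rw [← Ideal.Quotient.eq]
    exact ha.symm
  · intro b hb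
    obtain ⟨a, ha⟩ := h3 (h2 b hb)
    exact ⟨a, ha⟩

end Sep

section NZD

-- a reduced Noetherian local ring which is not a field has a nonzerodivisor in its maximal ideal
theorem exists_nonZeroDivisor_mem_maximalIdeal (A : Type*) [CommRing A] [IsLocalRing A]
    [IsNoetherianRing A] [IsReduced A] (hA : ¬ IsField A) :
    ∃ a ∈ maximalIdeal A, a ∈ nonZeroDivisors A := by
  by_contra hcon
  push_neg at hcon
  have hdis : Disjoint (maximalIdeal A : Set A) (nonZeroDivisors A) :=
    Set.disjoint_left.mpr (fun a ha => hcon a ha)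
  have hlt := Ideal.bot_lt_annihilator_of_disjoint_nonZeroDivisors hdis
  obtain ⟨x, hx, hx0⟩ := SetLike.exists_of_lt hlt
  have hx0' : x ≠ 0 := fun h => hx0 (by rw [h]; exact Submodule.zero_mem _)
  rw [Module.mem_annihilator] at hx
  by_cases hxu : IsUnit x
  · -- then the maximal ideal is zero and `A` is a field
    apply hA
    rw [IsLocalRing.isField_iff_maximalIdeal_eq]
    rw [eq_bot_iff]
    intro a ha
    have h1 := hx ⟨a, ha⟩
    have h2 : x * a = 0 := by
      have := congrArg Subtype.val h1
      simpa using this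
    rw [Submodule.mem_bot]
    exact (hxu.mul_right_eq_zero).mp h2
  · have hxm : x ∈ maximalIdeal A := (IsLocalRing.mem_maximalIdeal x).mpr hxu
    have h1 := hx ⟨x, hxm⟩
    have h2 : x * x = 0 := by
      have := congrArg Subtype.val h1
      simpa using this
    exact hx0' (by
      have : IsNilpotent x := ⟨2, by rw [pow_two]; exact h2⟩
      exact this.eq_zero)

end NZD

end Groth.Agent.Lib.Helper3.Wedge
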