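import Mathlib

set_option autoImplicit false
set_option linter.style.haveILetI false

namespace Groth.Agent.Lib.Helper3.Delta

universe u
open IsLocalRing TensorProduct Polynomial

section PrincipalMax

variable {T : Type*} [CommRing T] [IsLocalRing T] [IsNoetherianRing T]

-- in a Noetherian local ring with principal maximal ideal every nonzero element is a unit times
-- a power of the generator
theorem exists_eq_pow_mul_unit (ϖ : T) (hϖ : maximalIdeal T = Ideal.span {ϖ}) (t : T)
    (ht : t ≠ 0) : ∃ (n : ℕ) (u : T), IsUnit u ∧ t = ϖ ^ n * u := by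
  classical
  have hK : ⨅ i : ℕ, maximalIdeal T ^ i = ⊥ :=
    Ideal.iInf_pow_eq_bot_of_isLocalRing _ (Ideal.IsPrime.ne_top inferInstance)
  have hex : ∃ i : ℕ, t ∉ maximalIdeal T ^ i := by
    by_contra hcon
    push_neg at hcon
    apply ht
    have : t ∈ ⨅ i : ℕ, maximalIdeal T ^ i := by
      rw [Ideal.mem_iInf]
      exact hcon
    rw [hK] at this
    exact this
  obtain ⟨i, hi, hmin⟩ : ∃ i : ℕ, t ∉ maximalIdeal T ^ i ∧ ∀ j < i, t ∈ maximalIdeal T ^ j :=
    ⟨Nat.find hex, Nat.find_spec hex, fun j hj => by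
      have := Nat.find_min hex hj
      push_neg at this
      exact this⟩
  cases i with
  | zero =>
    exfalso
    apply hi
    rw [pow_zero, Ideal.one_eq_top]
    trivial
  | succ n =>
    have h1 : t ∈ maximalIdeal T ^ n := hmin n (Nat.lt_succ_self n)
    rw [hϖ, Ideal.span_singleton_pow, Ideal.mem_span_singleton'] at h1
    obtain ⟨u, hu⟩ := h1
    refine ⟨n, u, ?_, by rw [← hu, mul_comm]⟩
    by_contra hnu
    apply hi
    have hum : u ∈ maximalIdeal T := hnu
    rw [hϖ, Ideal.mem_span_singleton'] at hum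
    obtain ⟨v, hv⟩ := hum
    rw [hϖ, Ideal.span_singleton_pow, Ideal.mem_span_singleton']
    refine ⟨v, ?_⟩
    rw [← hu, ← hv, pow_succ]
    ring

theorem isDomain_isIntegrallyClosed_of_principal_maximalIdeal (ϖ : T)
    (hϖ : maximalIdeal T = Ideal.span {ϖ}) (hreg : ϖ = 0 ∨ ϖ ∈ nonZeroDivisors T) :
    IsDomain T ∧ IsIntegrallyClosed T := by
  have hpow : ∀ (n : ℕ) (u : T), IsUnit u → ϖ ^ n * u ≠ 0 → ∀ (k : ℕ) (v : T), IsUnit v →
      ϖ ^ k * v ≠ 0 → ϖ ^ n * u * (ϖ ^ k * v) ≠ 0 := by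
    intro n u hu h1 k v hv h2
    rcases hreg with h0 | hnz
    · have hn : n = 0 := by
        by_contra hn
        apply h1
        rw [h0, zero_pow hn, zero_mul]
      have hk : k = 0 := by
        by_contra hk
        apply h2
        rw [h0, zero_pow hk, zero_mul]
      rw [hn, hk, pow_zero, one_mul, one_mul]
      exact (hu.mul hv).ne_zero
    · have h3 : ϖ ^ n * u * (ϖ ^ k * v) ∈ nonZeroDivisors T :=
        mul_mem (mul_mem (pow_mem hnz n) hu.mem_nonZeroDivisors)
          (mul_mem (pow_mem hnz k) hv.mem_nonZeroDivisors)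
      exact nonZeroDivisors.ne_zero h3
  haveI hD : IsDomain T := by
    haveI : NoZeroDivisors T := by
      constructor
      intro a b hab
      by_contra hcon
      push_neg at hcon
      obtain ⟨n, u, hu, rfl⟩ := exists_eq_pow_mul_unit ϖ hϖ a hcon.1
      obtain ⟨k, v, hv, rfl⟩ := exists_eq_pow_mul_unit ϖ hϖ b hcon.2
      exact hpow n u hu hcon.1 k v hv hcon.2 hab
    exact NoZeroDivisors.to_isDomain T
  haveI : ValuationRing T := by
    rw [ValuationRing.iff_dvd_total]
    constructor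
    intro a b
    by_cases ha : a = 0
    · right
      rw [ha]
      exact dvd_zero b
    by_cases hb : b = 0
    · left
      rw [hb]
      exact dvd_zero a
    obtain ⟨n, u, hu, rfl⟩ := exists_eq_pow_mul_unit ϖ hϖ a ha
    obtain ⟨k, v, hv, rfl⟩ := exists_eq_pow_mul_unit ϖ hϖ b hb
    obtain ⟨u', hu'⟩ := hu.exists_right_inv
    obtain ⟨v', hv'⟩ := hv.exists_right_inv
    rcases le_total n k with h | h
    · left
      refine ⟨u' * ϖ ^ (k - n) * v, ?_⟩
      calc ϖ ^ k * v = ϖ ^ (n + (k - n)) * v := by rw [Nat.add_sub_cancel' h]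
        _ = ϖ ^ n * (u * u') * ϖ ^ (k - n) * v := by rw [hu', pow_add]; ring
        _ = ϖ ^ n * u * (u' * ϖ ^ (k - n) * v) := by ring
    · right
      refine ⟨v' * ϖ ^ (n - k) * u, ?_⟩
      calc ϖ ^ n * u = ϖ ^ (k + (n - k)) * u := by rw [Nat.add_sub_cancel' h]
        _ = ϖ ^ k * (v * v') * ϖ ^ (n - k) * u := by rw [hv', pow_add]; ring
        _ = ϖ ^ k * v * (v' * ϖ ^ (n - k) * u) := by ring
  exact ⟨hD, inferInstance⟩

end PrincipalMax

end Groth.Agent.Lib.Helper3.Delta
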