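import Mathlib
import Groth.Agent.Lib.Helper3DeltaE
import Groth.Agent.Lib.Helper3TensorLocal

set_option autoImplicit false
set_option linter.style.haveILetI false

namespace Groth.Agent.Lib.Helper3.Delta

universe u
open IsLocalRing TensorProduct Polynomial Algebra.TensorProduct

section Unram

variable (A : Type u) [CommRing A] [IsLocalRing A] (A' : Type u) [CommRing A'] [Algebra A A']
  [Algebra.IsIntegral A A'] (B : Type u) [CommRing B] [IsLocalRing B] [Algebra A B]

-- the maximal ideals of the tensor product are extended from `A'`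
theorem maximal_eq_map (hm : (maximalIdeal A).map (algebraMap A B) = maximalIdeal B)
    (hres : ∀ s : B, ∃ a : A, s - algebraMap A B a ∈ maximalIdeal B)
    (M : Ideal (A' ⊗[A] B)) [M.IsMaximal] (P : Ideal A')
    (hP : P = M.comap (algebraMap A' (A' ⊗[A] B))) :
    M = P.map (algebraMap A' (A' ⊗[A] B)) := by
  have hK : TensorLocal.K A A' B ≤ M := TensorLocal.K_le_of_isMaximal M
  have hcomp : ((includeRight : B →ₐ[A] A' ⊗[A] B).toRingHom).comp (algebraMap A B) =
      (algebraMap A' (A' ⊗[A] B)).comp (algebraMap A A') := by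
    ext a
    simp only [AlgHom.toRingHom_eq_coe, RingHom.coe_comp, RingHom.coe_coe, Function.comp_apply,
      AlgHom.commutes, Algebra.TensorProduct.algebraMap_apply]
    rw [← IsScalarTower.algebraMap_apply]
  have hKP : TensorLocal.K A A' B ≤ P.map (algebraMap A' (A' ⊗[A] B)) := by
    rw [TensorLocal.K, ← hm, Ideal.map_map, hcomp, ← Ideal.map_map]
    apply Ideal.map_mono
    rw [Ideal.map_le_iff_le_comap]
    intro a ha
    rw [Ideal.mem_comap, hP, Ideal.mem_comap]
    apply hK
    have h1 : algebraMap A' (A' ⊗[A] B) (algebraMap A A' a) =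
        (includeRight : B →ₐ[A] A' ⊗[A] B).toRingHom (algebraMap A B a) :=
      (RingHom.congr_fun hcomp a).symm
    rw [h1]
    apply Ideal.mem_map_of_mem
    rw [← hm]
    exact Ideal.mem_map_of_mem _ ha
  apply le_antisymm
  · intro c hc
    obtain ⟨x, hx⟩ := TensorLocal.exists_sub_mem_K hres c
    have hx' : x ⊗ₜ[A] (1 : B) ∈ M := by
      have := M.sub_mem hc (hK hx)
      simpa using this
    have hxP : x ∈ P := by
      rw [hP, Ideal.mem_comap, Algebra.TensorProduct.algebraMap_apply]
      exact hx'
    have hc' : c = (c - x ⊗ₜ[A] (1 : B)) + algebraMap A' (A' ⊗[A] B) x := by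
      rw [Algebra.TensorProduct.algebraMap_apply]
      simp
    rw [hc']
    exact add_mem (hKP hx) (Ideal.mem_map_of_mem _ hxP)
  · rw [Ideal.map_le_iff_le_comap, hP]

variable [Module.Flat A B] [IsNoetherianRing (A' ⊗[A] B)] [IsNoetherianRing A']

theorem normal_localization_of_unramified
    (hm : (maximalIdeal A).map (algebraMap A B) = maximalIdeal B)
    (hres : ∀ s : B, ∃ a : A, s - algebraMap A B a ∈ maximalIdeal B)
    (M : Ideal (A' ⊗[A] B)) [M.IsMaximal] (P : Ideal A') [P.IsPrime]
    (hP : P = M.comap (algebraMap A' (A' ⊗[A] B)))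
    [IsDomain (Localization.AtPrime P)] [ValuationRing (Localization.AtPrime P)] :
    IsDomain (Localization.AtPrime M) ∧ IsIntegrallyClosed (Localization.AtPrime M) := by
  have hMP := maximal_eq_map A A' B hm hres M P hP
  letI : Algebra (Localization.AtPrime P) (Localization.AtPrime M) :=
    (Localization.localRingHom P M (algebraMap A' (A' ⊗[A] B)) hP).toAlgebra
  haveI : IsScalarTower A' (Localization.AtPrime P) (Localization.AtPrime M) :=
    IsScalarTower.of_algebraMap_eq (fun x => by
      rw [RingHom.algebraMap_toAlgebra, Localization.localRingHom_to_map,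
        ← IsScalarTower.algebraMap_apply])
  have hmax : maximalIdeal (Localization.AtPrime M) =
      (maximalIdeal (Localization.AtPrime P)).map
        (algebraMap (Localization.AtPrime P) (Localization.AtPrime M)) := by
    rw [← Localization.AtPrime.map_eq_maximalIdeal, ← Localization.AtPrime.map_eq_maximalIdeal,
      Ideal.map_map, ← IsScalarTower.algebraMap_eq,
      IsScalarTower.algebraMap_eq A' (A' ⊗[A] B) (Localization.AtPrime M), ← Ideal.map_map,
      ← hMP]
  haveI : IsNoetherianRing (Localization.AtPrime P) :=
    IsLocalization.isNoetherianRing P.primeCompl _ inferInstance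
  haveI : IsNoetherianRing (Localization.AtPrime M) :=
    IsLocalization.isNoetherianRing M.primeCompl _ inferInstance
  obtain ⟨π, hπ⟩ := (IsBezout.isPrincipal_of_FG (maximalIdeal (Localization.AtPrime P))
    (IsNoetherian.noetherian _)).principal
  obtain ⟨ϖ, hϖdef⟩ : ∃ ϖ : Localization.AtPrime M,
    ϖ = algebraMap (Localization.AtPrime P) (Localization.AtPrime M) π := ⟨_, rfl⟩
  have hϖ : maximalIdeal (Localization.AtPrime M) = Ideal.span {ϖ} := by
    rw [hmax, hπ, hϖdef]
    show Ideal.map _ (Ideal.span {π}) = _
    rw [Ideal.map_span, Set.image_singleton]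
  haveI : Module.Flat A' (Localization.AtPrime M) :=
    Module.Flat.trans A' (A' ⊗[A] B) (Localization.AtPrime M)
  haveI : Module.Flat (Localization.AtPrime P) (Localization.AtPrime M) :=
    (Module.flat_iff_of_isLocalization (Localization.AtPrime P) P.primeCompl
      (Localization.AtPrime M)).mpr inferInstance
  have hreg : ϖ = 0 ∨ ϖ ∈ nonZeroDivisors (Localization.AtPrime M) := by
    by_cases h0 : π = 0
    · left
      rw [hϖdef, h0, map_zero]
    · right
      have h1 : π ∈ nonZeroDivisors (Localization.AtPrime P) := mem_nonZeroDivisors_of_ne_zero h0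
      have h2 := Module.Flat.isSMulRegular_of_nonZeroDivisors (M := Localization.AtPrime M) h1
      rw [mem_nonZeroDivisors_iff_right]
      intro t ht
      apply h2
      show π • t = π • 0
      rw [smul_zero, Algebra.smul_def, mul_comm, ← hϖdef]
      exact ht
  exact isDomain_isIntegrallyClosed_of_principal_maximalIdeal ϖ hϖ hreg

end Unram

end Groth.Agent.Lib.Helper3.Delta
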