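import Mathlib
import Groth.Agent.Lib.Helper3DeltaD
import Groth.Agent.Lib.Helper3DeltaF
import Groth.Agent.Lib.Helper19ComplDim2

set_option autoImplicit false
set_option linter.style.haveILetI false

namespace Groth.Agent.Lib.Helper3.Delta

universe u
open IsLocalRing TensorProduct Polynomial

section Compl

variable (A : Type u) [CommRing A] [IsLocalRing A] [IsReduced A]

theorem length_eq_of_completion (hN : CAlg.IsNagata A) (hdim : ringKrullDim A = 1) :
    Module.length (AdicCompletion (maximalIdeal A) A)
      (↥(integralClosure (AdicCompletion (maximalIdeal A) A)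
        (FractionRing (AdicCompletion (maximalIdeal A) A))) ⧸
      LinearMap.range (Algebra.linearMap (AdicCompletion (maximalIdeal A) A)
        ↥(integralClosure (AdicCompletion (maximalIdeal A) A)
          (FractionRing (AdicCompletion (maximalIdeal A) A))))) =
    Module.length A (↥(integralClosure A (FractionRing A)) ⧸
      LinearMap.range (Algebra.linearMap A ↥(integralClosure A (FractionRing A)))) := by
  haveI : IsNoetherianRing A := hN.1
  haveI : Ring.KrullDimLE 1 A := by
    rw [Ring.KrullDimLE, Order.krullDimLE_iff]
    exact hdim.le
  have hm : (maximalIdeal A).map (algebraMap A (AdicCompletion (maximalIdeal A) A)) =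
      maximalIdeal (AdicCompletion (maximalIdeal A) A) :=
    AdicCompletion.maximalIdeal_eq_map.symm
  have hres : ∀ s : AdicCompletion (maximalIdeal A) A, ∃ a : A,
      s - algebraMap A (AdicCompletion (maximalIdeal A) A) a ∈
        maximalIdeal (AdicCompletion (maximalIdeal A) A) := by
    intro s
    obtain ⟨a, ha⟩ := Groth.Agent.Lib.Helper19.exists_sub_algebraMap_mem_map A (maximalIdeal A) s
    exact ⟨a, hm ▸ ha⟩
  haveI : Module.Finite A (integralClosure A (FractionRing A)) :=
    Groth.Agent.Lib.Helper4.TotalFrac.finite_normalization hN
  haveI : IsNoetherianRing (integralClosure A (FractionRing A)) :=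
    isNoetherian_of_tower A (isNoetherian_of_isNoetherianRing_of_finite A _)
  haveI : IsNoetherianRing (AdicCompletion (maximalIdeal A) A) :=
    Groth.Agent.Lib.Helper19.isNoetherianRing_adicCompletion_maximalIdeal A
  haveI : IsNoetherianRing
      (AdicCompletion (maximalIdeal A) A ⊗[A] integralClosure A (FractionRing A)) :=
    isNoetherian_of_tower (AdicCompletion (maximalIdeal A) A)
      (isNoetherian_of_isNoetherianRing_of_finite (AdicCompletion (maximalIdeal A) A) _)
  haveI : IsNoetherianRing
      (integralClosure A (FractionRing A) ⊗[A] AdicCompletion (maximalIdeal A) A) :=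
    isNoetherianRing_of_ringEquiv _ (Algebra.TensorProduct.comm A
      (AdicCompletion (maximalIdeal A) A) (integralClosure A (FractionRing A))).toRingEquiv
  refine length_eq_of_normal A (AdicCompletion (maximalIdeal A) A) hm ?_
  intro M hM
  refine normal_localization_of_ringEquiv
    (R' := integralClosure A (FractionRing A) ⊗[A] AdicCompletion (maximalIdeal A) A)
    (Algebra.TensorProduct.comm A (AdicCompletion (maximalIdeal A) A)
      (integralClosure A (FractionRing A))).toRingEquiv M ?_
  intro M' _ hM'
  haveI : M'.IsMaximal := by
    rw [hM']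
    exact Ideal.map_isMaximal_of_equiv _
  obtain ⟨P, hP⟩ : ∃ P : Ideal (integralClosure A (FractionRing A)),
    P = M'.comap (algebraMap _ _) := ⟨_, rfl⟩
  haveI : P.IsPrime := hP ▸ Ideal.comap_isPrime _ _
  obtain ⟨hD, hV⟩ := valuationRing_localization_normalization A hN P
  haveI := hD
  haveI := hV
  exact normal_localization_of_unramified A (integralClosure A (FractionRing A))
    (AdicCompletion (maximalIdeal A) A) hm hres M' P hP

end Compl

end Groth.Agent.Lib.Helper3.Delta
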