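import Mathlib
import Groth.Agent.Lib.Helper3DeltaF
import Groth.Agent.Lib.Helper3DeltaD

set_option autoImplicit false
set_option linter.style.haveILetI false

namespace Groth.Agent.Lib.Helper3.Delta

universe u
open IsLocalRing TensorProduct Polynomial Algebra.TensorProduct

section LemY

-- in a local ring of dimension ≤ 1, a proper radical ideal containing a nonzerodivisor is maximal
theorem eq_maximalIdeal_of_isRadical {E : Type*} [CommRing E] [IsLocalRing E]
    (hdim : ringKrullDim E ≤ 1) (J : Ideal E) (hJ : J ≠ ⊤) (hrad : J.IsRadical) (a : E)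
    (haJ : a ∈ J) (ha : a ∈ nonZeroDivisors E) : J = maximalIdeal E := by
  haveI : Ring.KrullDimLE 1 E := Ring.krullDimLE_iff.mpr hdim
  refine le_antisymm (le_maximalIdeal hJ) ?_
  rw [← hrad.radical, Ideal.radical_eq_sInf]
  refine le_sInf ?_
  rintro q ⟨hJq, hq⟩
  haveI := hq
  rcases Ring.krullDimLE_one_iff.mp ‹_› q hq with h | h
  · exfalso
    exact Set.disjoint_left.mp (Ideal.disjoint_nonZeroDivisors_of_mem_minimalPrimes h) (hJq haJ) ha
  · rw [IsLocalRing.eq_maximalIdeal h]

end LemY

section NZD

-- the image of a nonzero element of a domain is a nonzerodivisor of a flat algebra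
theorem algebraMap_mem_nonZeroDivisors_of_flat (R : Type*) [CommRing R] [IsDomain R]
    (C : Type*) [CommRing C] [Algebra R C]
    [Module.Flat R C] (a : R) (ha : a ≠ 0) : algebraMap R C a ∈ nonZeroDivisors C := by
  have h1 : a ∈ nonZeroDivisors R := mem_nonZeroDivisors_of_ne_zero ha
  have h2 := Module.Flat.isSMulRegular_of_nonZeroDivisors (M := C) h1
  rw [mem_nonZeroDivisors_iff_right]
  intro t ht
  apply h2
  show a • t = a • 0
  rw [smul_zero, Algebra.smul_def, mul_comm]
  exact ht

end NZD

section LemX

variable (A' : Type u) [CommRing A'] [IsNoetherianRing A'] (C : Type u) [CommRing C] [Algebra A' C]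
  [Module.Flat A' C] [IsNoetherianRing C]

theorem normal_localization_of_maximalIdeal_eq_map
    (M : Ideal C) [M.IsPrime] (P : Ideal A') [P.IsPrime]
    (hP : P = M.comap (algebraMap A' C))
    [IsDomain (Localization.AtPrime P)] [ValuationRing (Localization.AtPrime P)]
    (hMP : maximalIdeal (Localization.AtPrime M) =
      P.map (algebraMap A' (Localization.AtPrime M))) :
    IsDomain (Localization.AtPrime M) ∧ IsIntegrallyClosed (Localization.AtPrime M) := by
  letI : Algebra (Localization.AtPrime P) (Localization.AtPrime M) :=
    (Localization.localRingHom P M (algebraMap A' C) hP).toAlgebra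
  haveI : IsScalarTower A' (Localization.AtPrime P) (Localization.AtPrime M) :=
    IsScalarTower.of_algebraMap_eq (fun x => by
      rw [RingHom.algebraMap_toAlgebra, Localization.localRingHom_to_map,
        ← IsScalarTower.algebraMap_apply])
  have hmax : maximalIdeal (Localization.AtPrime M) =
      (maximalIdeal (Localization.AtPrime P)).map
        (algebraMap (Localization.AtPrime P) (Localization.AtPrime M)) := by
    rw [← Localization.AtPrime.map_eq_maximalIdeal (I := P), Ideal.map_map,
      ← IsScalarTower.algebraMap_eq, hMP]
  haveI : IsNoetherianRing (Localization.AtPrime P) :=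
    IsLocalization.isNoetherianRing P.primeCompl _ inferInstance
  haveI : IsNoetherianRing (Localization.AtPrime M) :=
    IsLocalization.isNoetherianRing M.primeCompl _ inferInstance
  obtain ⟨π, hπ⟩ := (IsBezout.isPrincipal_of_FG (maximalIdeal (Localization.AtPrime P))
    (IsNoetherian.noetherian _)).principal
  obtain ⟨ϖ, hϖdef⟩ : ∃ ϖ : Localization.AtPrime M,
    ϖ = algebraMap (Localization.AtPrime P) (Localization.AtPrime M) π := ⟨_, rfl⟩
  have hϖ : maximalIdeal (Localization.AtPrime M) = Ideal.span {ϖ} := by
    rw [hmax, hπ, hϖdef]
    show Ideal.map _ (Ideal.span {π}) = _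
    rw [Ideal.map_span, Set.image_singleton]
  haveI : Module.Flat A' (Localization.AtPrime M) :=
    Module.Flat.trans A' C (Localization.AtPrime M)
  haveI : Module.Flat (Localization.AtPrime P) (Localization.AtPrime M) :=
    (Module.flat_iff_of_isLocalization (Localization.AtPrime P) P.primeCompl
      (Localization.AtPrime M)).mpr inferInstance
  have hreg : ϖ = 0 ∨ ϖ ∈ nonZeroDivisors (Localization.AtPrime M) := by
    by_cases h0 : π = 0
    · left
      rw [hϖdef, h0, map_zero]
    · right
      have h1 : π ∈ nonZeroDivisors (Localization.AtPrime P) := mem_nonZeroDivisors_of_ne_zero h0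
      have h2 := Module.Flat.isSMulRegular_of_nonZeroDivisors (M := Localization.AtPrime M) h1
      rw [mem_nonZeroDivisors_iff_right]
      intro t ht
      apply h2
      show π • t = π • 0
      rw [smul_zero, Algebra.smul_def, mul_comm, ← hϖdef]
      exact ht
  exact isDomain_isIntegrallyClosed_of_principal_maximalIdeal ϖ hϖ hreg

-- radical fibre + dimension ≤ 1 + a nonzero element: the localization is normal
theorem normal_localization_of_radical_fibre [IsDomain A']
    (M : Ideal C) [M.IsPrime] (P : Ideal A') [P.IsPrime]
    (hP : P = M.comap (algebraMap A' C))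
    [IsDomain (Localization.AtPrime P)] [ValuationRing (Localization.AtPrime P)]
    (hdim : ringKrullDim (Localization.AtPrime M) ≤ 1)
    (hI : (P.map (algebraMap A' C)).IsRadical) (a' : A') (ha'P : a' ∈ P) (ha' : a' ≠ 0) :
    IsDomain (Localization.AtPrime M) ∧ IsIntegrallyClosed (Localization.AtPrime M) := by
  apply normal_localization_of_maximalIdeal_eq_map A' C M P hP
  symm
  haveI : Module.Flat A' (Localization.AtPrime M) :=
    Module.Flat.trans A' C (Localization.AtPrime M)
  have hJ : P.map (algebraMap A' (Localization.AtPrime M)) =
      (P.map (algebraMap A' C)).map (algebraMap C (Localization.AtPrime M)) := by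
    rw [Ideal.map_map, ← IsScalarTower.algebraMap_eq]
  refine eq_maximalIdeal_of_isRadical hdim _ ?_ ?_
    (algebraMap A' (Localization.AtPrime M) a') ?_ ?_
  · -- proper
    rw [hJ]
    intro htop
    have h3 : (P.map (algebraMap A' C)).map (algebraMap C (Localization.AtPrime M)) ≤
        maximalIdeal (Localization.AtPrime M) := by
      have h4 := Localization.AtPrime.under_maximalIdeal (I := M)
      rw [Ideal.under_def] at h4
      rw [Ideal.map_le_iff_le_comap, h4, Ideal.map_le_iff_le_comap, hP]
    rw [htop, top_le_iff] at h3
    exact (IsLocalRing.maximalIdeal.isMaximal _).ne_top h3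
  · -- radical
    rw [hJ]
    have := IsLocalization.map_radical M.primeCompl (Localization.AtPrime M)
      (P.map (algebraMap A' C))
    rw [hI.radical] at this
    intro x hx
    rw [this]
    exact hx
  · exact Ideal.mem_map_of_mem _ ha'P
  · exact algebraMap_mem_nonZeroDivisors_of_flat A' (Localization.AtPrime M) _ ha'

end LemX

section Val

variable (A : Type u) [CommRing A] [IsNoetherianRing A] [IsReduced A]

-- local rings of a finite normalization of a one-dimensional reduced ring are valuation rings
theorem valuationRing_localization_normalization_of_finite [Ring.KrullDimLE 1 A]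
    [Module.Finite A (integralClosure A (FractionRing A))]
    (P : Ideal (integralClosure A (FractionRing A))) [P.IsPrime] :
    ∃ _ : IsDomain (Localization.AtPrime P), ValuationRing (Localization.AtPrime P) := by
  obtain ⟨hD, hIC⟩ :=
    Groth.Agent.Lib.Helper4.TotalFrac.isDomain_isIntegrallyClosed_localization_normalization P
  haveI := hD
  haveI := hIC
  haveI : IsNoetherianRing (integralClosure A (FractionRing A)) :=
    isNoetherian_of_tower A (isNoetherian_of_isNoetherianRing_of_finite A _)
  haveI : IsNoetherianRing (Localization.AtPrime P) :=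
    IsLocalization.isNoetherianRing P.primeCompl _ inferInstance
  exact ⟨hD, Groth.Agent.Lib.Helper4.BirLocalIso.valuationRing_of_normal_dim_le_one _
    (ringKrullDim_localization_le_one A _ P)⟩

end Val

end Groth.Agent.Lib.Helper3.Delta
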