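import Mathlib
import Groth.Agent.Lib.Helper3DeltaF
import Groth.Agent.Lib.Helper3DeltaH
import Groth.Agent.Lib.Helper3TensorLocal

set_option autoImplicit false
set_option linter.style.haveILetI false

namespace Groth.Agent.Lib.Helper3.UniMin

universe u
open IsLocalRing TensorProduct Algebra.TensorProduct

section Principal

variable {C : Type*} [CommRing C] [IsLocalRing C]

-- in a local ring whose maximal ideal is generated by a nonzerodivisor `ϖ`, the ideal
-- `N = ⋂ (ϖ^n)` is prime, does not contain `ϖ`, and contains every prime not containing `ϖ`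
theorem iInf_span_pow (ϖ : C) (hϖ : maximalIdeal C = Ideal.span {ϖ})
    (hreg : ϖ ∈ nonZeroDivisors C) :
    (⨅ n : ℕ, Ideal.span {ϖ ^ n} : Ideal C).IsPrime ∧
    ϖ ∉ (⨅ n : ℕ, Ideal.span {ϖ ^ n} : Ideal C) ∧
    ∀ Q : Ideal C, Q.IsPrime → ϖ ∉ Q → Q ≤ ⨅ n : ℕ, Ideal.span {ϖ ^ n} := by
  have hnu : ¬ IsUnit ϖ := by
    intro hu
    have : ϖ ∈ maximalIdeal C := by rw [hϖ]; exact Ideal.mem_span_singleton_self ϖ
    exact (IsLocalRing.mem_maximalIdeal ϖ).mp this hu
  have hcancel : ∀ (k : ℕ) (x y : C), ϖ ^ k * x = ϖ ^ k * y → x = y := by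
    intro k x y h
    have hk : ϖ ^ k ∈ nonZeroDivisors C := pow_mem hreg k
    exact (mul_cancel_left_mem_nonZeroDivisors hk).mp h
  have hnot : ϖ ∉ (⨅ n : ℕ, Ideal.span {ϖ ^ n} : Ideal C) := by
    intro h
    rw [Ideal.mem_iInf] at h
    have h2 := h 2
    rw [Ideal.mem_span_singleton'] at h2
    obtain ⟨w, hw⟩ := h2
    have h3 : ϖ ^ 1 * (w * ϖ) = ϖ ^ 1 * 1 := by
      calc ϖ ^ 1 * (w * ϖ) = w * ϖ ^ 2 := by ring
        _ = ϖ := hw
        _ = ϖ ^ 1 * 1 := by ring
    have h4 := hcancel 1 _ _ h3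
    exact hnu (IsUnit.of_mul_eq_one _ (by rw [mul_comm]; exact h4))
  refine ⟨?_, hnot, ?_⟩
  · refine ⟨fun htop => hnot (htop ▸ Submodule.mem_top), ?_⟩
    intro x y hxy
    by_contra hcon
    push Not at hcon
    obtain ⟨hx, hy⟩ := hcon
    -- write x = ϖ^k u with u a unit
    have hxex : ∃ i : ℕ, x ∉ Ideal.span {ϖ ^ i} := by
      by_contra h
      push Not at h
      exact hx ((Ideal.mem_iInf).mpr h)
    classical
    obtain ⟨i, hi, hmin⟩ : ∃ i : ℕ, x ∉ Ideal.span {ϖ ^ i} ∧ ∀ j < i, x ∈ Ideal.span {ϖ ^ j} :=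
      ⟨Nat.find hxex, Nat.find_spec hxex, fun j hj => by
        have := Nat.find_min hxex hj
        push Not at this
        exact this⟩
    cases i with
    | zero =>
      apply hi
      rw [pow_zero, Ideal.span_singleton_one]
      trivial
    | succ k =>
      have h1 : x ∈ Ideal.span {ϖ ^ k} := hmin k (Nat.lt_succ_self k)
      rw [Ideal.mem_span_singleton'] at h1
      obtain ⟨u, hu⟩ := h1
      have huu : IsUnit u := by
        by_contra hnu'
        have hum : u ∈ maximalIdeal C := hnu'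
        rw [hϖ, Ideal.mem_span_singleton'] at hum
        obtain ⟨v, hv⟩ := hum
        apply hi
        rw [Ideal.mem_span_singleton']
        refine ⟨v, ?_⟩
        rw [← hu, ← hv, pow_succ]
        ring
      apply hy
      rw [Ideal.mem_iInf]
      intro n
      have h2 : x * y ∈ Ideal.span {ϖ ^ (k + n)} := (Ideal.mem_iInf.mp hxy) (k + n)
      rw [Ideal.mem_span_singleton'] at h2
      obtain ⟨w, hw⟩ := h2
      have h3 : ϖ ^ k * (u * y) = ϖ ^ k * (w * ϖ ^ n) := by
        rw [← mul_assoc, mul_comm (ϖ ^ k) u, hu, ← hw, pow_add]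
        ring
      have h4 := hcancel k _ _ h3
      obtain ⟨u', hu'⟩ := huu.exists_left_inv
      rw [Ideal.mem_span_singleton']
      refine ⟨u' * w, ?_⟩
      calc u' * w * ϖ ^ n = u' * (w * ϖ ^ n) := by ring
        _ = u' * (u * y) := by rw [h4]
        _ = (u' * u) * y := by ring
        _ = y := by rw [hu', one_mul]
  · intro Q hQ hϖQ x hx
    rw [Ideal.mem_iInf]
    intro n
    have key : ∀ n : ℕ, ∃ y ∈ Q, x = ϖ ^ n * y := by
      intro n
      induction n with
      | zero => exact ⟨x, hx, by rw [pow_zero, one_mul]⟩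
      | succ n ih =>
        obtain ⟨y, hyQ, hy⟩ := ih
        have hym : y ∈ maximalIdeal C := IsLocalRing.le_maximalIdeal hQ.ne_top hyQ
        rw [hϖ, Ideal.mem_span_singleton'] at hym
        obtain ⟨z, hz⟩ := hym
        have hzQ : z ∈ Q := by
          have : z * ϖ ∈ Q := hz ▸ hyQ
          rcases hQ.mem_or_mem this with h | h
          · exact h
          · exact absurd h hϖQ
        refine ⟨z, hzQ, ?_⟩
        rw [hy, ← hz, pow_succ]
        ring
    obtain ⟨y, -, hy⟩ := key n
    rw [Ideal.mem_span_singleton']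
    exact ⟨y, by rw [hy]; ring⟩

end Principal

section Ker

variable {S D T : Type*} [CommRing S] [CommRing D] [CommRing T] [Algebra S D] [Algebra S T]

-- for flat `T`, the kernel of `T → D ⊗ T` is the extension of the kernel of `S → D`
theorem ker_includeRight_le [Module.Flat S T] :
    RingHom.ker (includeRight : T →ₐ[S] D ⊗[S] T).toRingHom ≤
      (RingHom.ker (algebraMap S D)).map (algebraMap S T) := by
  intro x hx
  rw [RingHom.mem_ker] at hx
  have hx' : (1 : D) ⊗ₜ[S] x = 0 := hx
  let K : Submodule S S := (RingHom.ker (algebraMap S D)).restrictScalars S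
  let f : K →ₗ[S] S := K.subtype
  let g : S →ₗ[S] D := Algebra.linearMap S D
  have hex : Function.Exact f g := by
    intro s
    constructor
    · intro hs
      exact ⟨⟨s, hs⟩, rfl⟩
    · rintro ⟨⟨s', hs'⟩, rfl⟩
      exact hs'
  have hex' := Module.Flat.rTensor_exact T hex
  have h1 : g.rTensor T ((1 : S) ⊗ₜ[S] x) = 0 := by
    rw [LinearMap.rTensor_tmul]
    show (algebraMap S D 1) ⊗ₜ[S] x = 0
    rw [map_one]
    exact hx'
  obtain ⟨z, hz⟩ := (hex' _).mp h1
  have h2 : x = TensorProduct.lid S T (f.rTensor T z) := by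
    rw [hz, TensorProduct.lid_tmul, one_smul]
  rw [h2]
  clear hz h2 h1
  induction z with
  | zero => simp
  | tmul k t =>
    rw [LinearMap.rTensor_tmul, TensorProduct.lid_tmul, Algebra.smul_def]
    exact Ideal.mul_mem_right _ _ (Ideal.mem_map_of_mem _ k.2)
  | add a b ha hb =>
    rw [map_add, map_add]
    exact Ideal.add_mem _ ha hb

end Ker

end Groth.Agent.Lib.Helper3.UniMin
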