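import Mathlib
import Groth.Agent.Lib.Helper3UniMinA

set_option autoImplicit false
set_option linter.style.haveILetI false

namespace Groth.Agent.Lib.Helper3.UniMin

universe u
open IsLocalRing TensorProduct Algebra.TensorProduct

section Main

variable (S : Type u) [CommRing S] [IsLocalRing S]
  (D' : Type u) [CommRing D'] [IsDomain D'] [IsDiscreteValuationRing D'] [Algebra S D']
  [Algebra.IsIntegral S D']
  (T : Type u) [CommRing T] [IsLocalRing T] [Algebra S T] [Module.Flat S T]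
  [IsLocalHom (algebraMap S T)] [Ring.KrullDimLE 1 T]

theorem radical_map_ker_isPrime
    (hm : (maximalIdeal S).map (algebraMap S T) = maximalIdeal T)
    (hres : ∀ t : T, ∃ s : S, t - algebraMap S T s ∈ maximalIdeal T)
    (a : S) (ham : a ∈ maximalIdeal S) (ha : algebraMap S D' a ≠ 0) :
    ((RingHom.ker (algebraMap S D')).map (algebraMap S T)).radical.IsPrime := by
  haveI : Module.FaithfullyFlat S T := Module.FaithfullyFlat.of_flat_of_isLocalHom
  obtain ⟨π, hπ⟩ := IsDiscreteValuationRing.exists_irreducible D'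
  have hmaxD : maximalIdeal D' = Ideal.span {π} :=
    (IsDiscreteValuationRing.irreducible_iff_uniformizer _).mp hπ
  have hπ0 : π ≠ 0 := hπ.ne_zero
  obtain ⟨φ, hφ⟩ : ∃ φ : T →+* D' ⊗[S] T,
    φ = (includeRight : T →ₐ[S] D' ⊗[S] T).toRingHom := ⟨_, rfl⟩
  have hφint : φ.IsIntegral := hφ ▸ TensorLocal.includeRight_isIntegral
  have hφalg : ∀ s : S, algebraMap D' (D' ⊗[S] T) (algebraMap S D' s) = φ (algebraMap S T s) := by
    intro s
    rw [hφ]
    show (algebraMap S D' s) ⊗ₜ[S] (1 : T) = (1 : D') ⊗ₜ[S] (algebraMap S T s)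
    rw [Algebra.algebraMap_eq_smul_one, Algebra.algebraMap_eq_smul_one, TensorProduct.smul_tmul]
  obtain ⟨ϖ, hϖdef⟩ : ∃ ϖ : D' ⊗[S] T, ϖ = algebraMap D' (D' ⊗[S] T) π := ⟨_, rfl⟩
  have hϖreg : ϖ ∈ nonZeroDivisors (D' ⊗[S] T) :=
    hϖdef ▸ Delta.algebraMap_mem_nonZeroDivisors_of_flat D' (D' ⊗[S] T) π hπ0
  haveI : Nontrivial (D' ⊗[S] T) :=
    (FaithfulSMul.algebraMap_injective D' (D' ⊗[S] T)).nontrivial
  have hcomapφ : ∀ M : Ideal (D' ⊗[S] T), M.IsMaximal → M.comap φ = maximalIdeal T := by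
    intro M hM
    exact IsLocalRing.eq_maximalIdeal
      (Ideal.isMaximal_comap_of_isIntegral_of_isMaximal' φ hφint M)
  have hmaxC : ∀ M : Ideal (D' ⊗[S] T), M.IsMaximal → M = Ideal.span {ϖ} := by
    intro M hM
    obtain ⟨P, hP⟩ : ∃ P : Ideal D', P = M.comap (algebraMap D' (D' ⊗[S] T)) := ⟨_, rfl⟩
    have h1 := Delta.maximal_eq_map S D' T hm hres M P hP
    haveI : P.IsPrime := hP ▸ Ideal.comap_isPrime _ _
    have hPne : P ≠ ⊥ := by
      intro hbot
      have hmem : algebraMap S D' a ∈ P := by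
        rw [hP, Ideal.mem_comap, hφalg]
        have : algebraMap S T a ∈ M.comap φ := by
          rw [hcomapφ M hM, ← hm]
          exact Ideal.mem_map_of_mem _ ham
        exact this
      rw [hbot] at hmem
      exact ha hmem
    have hPmax : P = maximalIdeal D' :=
      IsLocalRing.eq_maximalIdeal (Ideal.IsPrime.isMaximal inferInstance hPne)
    rw [h1, hPmax, hmaxD, Ideal.map_span, Set.image_singleton, hϖdef]
  haveI : IsLocalRing (D' ⊗[S] T) := by
    obtain ⟨M, hM⟩ := Ideal.exists_maximal (D' ⊗[S] T)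
    refine IsLocalRing.of_unique_max_ideal ⟨Ideal.span {ϖ}, ?_, fun M' hM' => hmaxC M' hM'⟩
    rw [← hmaxC M hM]
    exact hM
  have hmC : maximalIdeal (D' ⊗[S] T) = Ideal.span {ϖ} := hmaxC _ (maximalIdeal.isMaximal _)
  obtain ⟨hNprime, hϖN, hQN⟩ := iInf_span_pow ϖ hmC hϖreg
  obtain ⟨N, hN⟩ : ∃ N : Ideal (D' ⊗[S] T), N = ⨅ n : ℕ, Ideal.span {ϖ ^ n} := ⟨_, rfl⟩
  rw [← hN] at hNprime hϖN hQN
  obtain ⟨I, hI⟩ : ∃ I : Ideal T, I = (RingHom.ker (algebraMap S D')).map (algebraMap S T) :=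
    ⟨_, rfl⟩
  rw [← hI]
  have hkerle : RingHom.ker φ ≤ I := by
    rw [hφ, hI]
    exact ker_includeRight_le
  have hIker : I ≤ RingHom.ker φ := by
    rw [hI, Ideal.map_le_iff_le_comap]
    intro s hs
    rw [Ideal.mem_comap, RingHom.mem_ker, ← hφalg, (RingHom.mem_ker).mp hs, map_zero]
  obtain ⟨p₀, hp₀⟩ : ∃ p₀ : Ideal T, p₀ = N.comap φ := ⟨_, rfl⟩
  haveI hp₀prime : p₀.IsPrime := hp₀ ▸ Ideal.comap_isPrime _ _
  have hIp₀ : I ≤ p₀ := by
    intro x hx
    rw [hp₀, Ideal.mem_comap, (RingHom.mem_ker).mp (hIker hx)]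
    exact Ideal.zero_mem _
  -- the image of `a` is not in `p₀`
  have hap₀ : algebraMap S T a ∉ p₀ := by
    intro hmem
    rw [hp₀, Ideal.mem_comap, ← hφalg] at hmem
    obtain ⟨e, u, hu⟩ := IsDiscreteValuationRing.eq_unit_mul_pow_irreducible ha hπ
    rw [hu, map_mul, map_pow, ← hϖdef] at hmem
    rcases hNprime.mem_or_mem hmem with h | h
    · have hunit : IsUnit (algebraMap D' (D' ⊗[S] T) (u : D')) := u.isUnit.map _
      exact hNprime.ne_top (Ideal.eq_top_of_isUnit_mem _ h hunit)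
    · exact hϖN (hNprime.mem_of_pow_mem _ h)
  have hp₀min : p₀ ∈ minimalPrimes T := by
    rcases Ring.krullDimLE_one_iff.mp ‹_› p₀ hp₀prime with h | h
    · exact h
    · exfalso
      apply hap₀
      rw [IsLocalRing.eq_maximalIdeal h, ← hm]
      exact Ideal.mem_map_of_mem _ ham
  have hrad : I.radical = p₀ := by
    apply le_antisymm
    · exact (Ideal.IsPrime.radical_le_iff hp₀prime).mpr hIp₀
    · rw [Ideal.radical_eq_sInf]
      refine le_sInf ?_
      rintro P ⟨hIP, hP⟩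
      haveI := hP
      -- lying over
      obtain ⟨Q, hQprime, hQP⟩ : ∃ Q : Ideal (D' ⊗[S] T), Q.IsPrime ∧ Q.comap φ = P := by
        letI : Algebra T (D' ⊗[S] T) := φ.toAlgebra
        haveI : Algebra.IsIntegral T (D' ⊗[S] T) := ⟨hφint⟩
        obtain ⟨Q, hQ1, hQ2⟩ := Ideal.exists_ideal_over_prime_of_isIntegral P
          (⊥ : Ideal (D' ⊗[S] T)) (by
            rw [← RingHom.ker_eq_comap_bot]
            exact (hkerle.trans hIP))
        exact ⟨Q, hQ2.1, hQ2.2⟩
      by_cases hϖQ : ϖ ∈ Q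
      · have hQmax : Q = maximalIdeal (D' ⊗[S] T) := by
          apply le_antisymm (IsLocalRing.le_maximalIdeal hQprime.ne_top)
          rw [hmC, Ideal.span_singleton_le_iff_mem]
          exact hϖQ
        have hPmax : P = maximalIdeal T := by
          rw [← hQP, hQmax]
          exact hcomapφ _ (maximalIdeal.isMaximal _)
        rw [hPmax]
        exact IsLocalRing.le_maximalIdeal hp₀prime.ne_top
      · have hQN' : Q ≤ N := hQN Q hQprime hϖQ
        have hPle : P ≤ p₀ := by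
          rw [← hQP, hp₀]
          exact Ideal.comap_mono hQN'
        exact hp₀min.2 ⟨hP, bot_le⟩ hPle
  rw [hrad]
  exact hp₀prime

end Main

end Groth.Agent.Lib.Helper3.UniMin
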