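import Mathlib
import Groth.Agent.Lib.Helper3UniMinB
import Groth.Agent.Lib.Helper4KrullAkizuki
import Groth.Agent.Lib.Helper4TotalFrac
import Groth.Agent.S1964

set_option autoImplicit false
set_option linter.style.haveILetI false

namespace Groth.Agent.Lib.Helper3.UniMin

universe u
open IsLocalRing TensorProduct Algebra.TensorProduct

section Hens

variable (S : Type u) [CommRing S] [HenselianLocalRing S] [IsNoetherianRing S]
  [Ring.KrullDimLE 1 S]
  (T : Type u) [CommRing T] [IsLocalRing T] [Algebra S T] [Module.Flat S T]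
  [IsLocalHom (algebraMap S T)] [Ring.KrullDimLE 1 T]

-- over a one-dimensional henselian Noetherian local ring, extensions of primes along a flat local
-- map with trivial residue extension and `m_S T = m_T` have prime radical
theorem radical_map_isPrime_of_henselian
    (hm : (maximalIdeal S).map (algebraMap S T) = maximalIdeal T)
    (hres : ∀ t : T, ∃ s : S, t - algebraMap S T s ∈ maximalIdeal T)
    (q : Ideal S) [hq : q.IsPrime] :
    (q.map (algebraMap S T)).radical.IsPrime := by
  by_cases hqm : q = maximalIdeal S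
  · rw [hqm, hm]
    rw [(Ideal.IsPrime.isRadical inferInstance).radical]
    infer_instance
  have hlt : q < maximalIdeal S := lt_of_le_of_ne (IsLocalRing.le_maximalIdeal hq.ne_top) hqm
  obtain ⟨a, ham, haq⟩ := SetLike.exists_of_lt hlt
  haveI : Ring.KrullDimLE 1 (S ⧸ q) := by
    rw [Ring.krullDimLE_iff]
    exact (ringKrullDim_quotient_le q).trans (Ring.krullDimLE_iff.mp ‹_›)
  have hdimD : ringKrullDim (S ⧸ q) ≤ 1 := Ring.krullDimLE_iff.mp ‹_›
  haveI : Ring.DimensionLEOne (S ⧸ q) :=
    ⟨fun hp0 hp => Ideal.IsPrime.isMaximal_of_ne_bot hp hp0⟩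
  letI algSD : Algebra S (integralClosure (S ⧸ q) (FractionRing (S ⧸ q))) :=
    ((algebraMap (S ⧸ q) (integralClosure (S ⧸ q) (FractionRing (S ⧸ q)))).comp
      (Ideal.Quotient.mk q)).toAlgebra
  haveI : IsScalarTower S (S ⧸ q) (integralClosure (S ⧸ q) (FractionRing (S ⧸ q))) :=
    IsScalarTower.of_algebraMap_eq (fun _ => rfl)
  haveI : Algebra.IsIntegral S (S ⧸ q) := inferInstance
  haveI : Algebra.IsIntegral S (integralClosure (S ⧸ q) (FractionRing (S ⧸ q))) :=
    Algebra.IsIntegral.trans (S ⧸ q)
  obtain ⟨hH, hloc, -⟩ := Groth.Agent.S1964.result S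
    (integralClosure (S ⧸ q) (FractionRing (S ⧸ q)))
  haveI := hH
  haveI := hloc
  haveI : IsNoetherianRing (integralClosure (S ⧸ q) (FractionRing (S ⧸ q))) :=
    Groth.Agent.Lib.Helper4.KrullAkizuki.isNoetherianRing_subalgebra
      (fun b hb => Groth.Agent.Lib.Helper4.KrullAkizuki.isArtinian_quotient_of_ringKrullDim_le_one
        hdimD hb) _
  haveI : IsIntegrallyClosed (integralClosure (S ⧸ q) (FractionRing (S ⧸ q))) :=
    Groth.Agent.Lib.Helper4.TotalFrac.isIntegrallyClosed_integralClosure_field _ _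
  have hinj : Function.Injective
      (algebraMap (S ⧸ q) (integralClosure (S ⧸ q) (FractionRing (S ⧸ q)))) := by
    intro x y hxy
    have := congrArg Subtype.val hxy
    exact IsFractionRing.injective (S ⧸ q) (FractionRing (S ⧸ q)) this
  have hker : RingHom.ker (algebraMap S (integralClosure (S ⧸ q) (FractionRing (S ⧸ q)))) = q := by
    ext s
    rw [RingHom.mem_ker]
    show algebraMap (S ⧸ q) _ (Ideal.Quotient.mk q s) = 0 ↔ _
    rw [map_eq_zero_iff _ hinj, Ideal.Quotient.eq_zero_iff_mem]
  have ha0 : algebraMap S (integralClosure (S ⧸ q) (FractionRing (S ⧸ q))) a ≠ 0 := by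
    intro h0
    apply haq
    rw [← hker]
    exact h0
  have hnf : ¬ IsField (integralClosure (S ⧸ q) (FractionRing (S ⧸ q))) := by
    intro hF
    have hu : IsUnit (algebraMap S (integralClosure (S ⧸ q) (FractionRing (S ⧸ q))) a) := by
      obtain ⟨b, hb⟩ := hF.mul_inv_cancel ha0
      exact IsUnit.of_mul_eq_one _ hb
    have := (isUnit_map_iff (algebraMap S _) a).mp hu
    exact (IsLocalRing.mem_maximalIdeal a).mp ham this
  haveI : IsDiscreteValuationRing (integralClosure (S ⧸ q) (FractionRing (S ⧸ q))) := by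
    have h03 := (IsDiscreteValuationRing.TFAE
      (integralClosure (S ⧸ q) (FractionRing (S ⧸ q))) hnf).out 0 3
    apply h03.mpr
    refine ⟨inferInstance, maximalIdeal _,
      ⟨fun h => hnf (IsLocalRing.isField_iff_maximalIdeal_eq.mpr h), inferInstance⟩, ?_⟩
    rintro P ⟨hP0, hP⟩
    exact IsLocalRing.eq_maximalIdeal (Ideal.IsPrime.isMaximal hP hP0)
  have key := radical_map_ker_isPrime S (integralClosure (S ⧸ q) (FractionRing (S ⧸ q))) T
    hm hres a ham ha0
  rw [hker] at key
  exact key

end Hens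

end Groth.Agent.Lib.Helper3.UniMin
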