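import Mathlib
import Groth.Agent.Lib.Helper3MCQuot
import Groth.Agent.Lib.Helper3MCNorm
import Groth.Agent.Lib.Helper19ComplDim2
import Groth.Agent.Lib.Helper19ComplNoeth
import Groth.Agent.Lib.Helper4Branches
import Groth.Agent.S12218
import Groth.Agent.S7654
import Groth.Agent.S9241

set_option autoImplicit false
set_option linter.style.haveILetI false

namespace Groth.Agent.Lib.Helper3.MCRing

universe u
open IsLocalRing Groth.Agent.Lib.Helper3.MCQuot Groth.Agent.Lib.Helper3.MCNorm

/-- `k[[]]` (no variables) is `k` -/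
theorem ringKrullDim_Q_zero (k : Type u) [Field k] : ringKrullDim (Q k 0) = 0 := by
  let g : Q k 0 →+* k := Ideal.Quotient.lift _ (MvPowerSeries.constantCoeff (σ := Fin 0) (R := k))
    (by
      intro f hf
      have : Ideal.span {f : MvPowerSeries (Fin 0) k |
          ∃ i j : Fin 0, i ≠ j ∧ f = MvPowerSeries.X i * MvPowerSeries.X j} = ⊥ := by
        rw [Ideal.span_eq_bot]
        rintro _ ⟨i, -⟩
        exact i.elim0
      rw [this, Ideal.mem_bot] at hf
      rw [hf, map_zero])
  have hbij : Function.Bijective g := by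
    constructor
    · rw [injective_iff_map_eq_zero]
      intro q hq
      obtain ⟨f, rfl⟩ := Ideal.Quotient.mk_surjective q
      have hf : MvPowerSeries.constantCoeff f = 0 := hq
      have : f = 0 := by
        ext d
        rw [Subsingleton.elim d 0, MvPowerSeries.coeff_zero_eq_constantCoeff_apply, hf, map_zero]
      rw [this, map_zero]
    · intro c
      refine ⟨Ideal.Quotient.mk _ (MvPowerSeries.C c), ?_⟩
      have : g (Ideal.Quotient.mk _ (MvPowerSeries.C c)) =
          MvPowerSeries.constantCoeff (MvPowerSeries.C c : MvPowerSeries (Fin 0) k) :=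
        Ideal.Quotient.lift_mk _ _ _
      rw [this]
      simp
  rw [ringKrullDim_eq_of_ringEquiv (RingEquiv.ofBijective g hbij)]
  exact ringKrullDim_eq_zero_of_field k

section Main

variable (A : Type u) [CommRing A] [IsLocalRing A] [IsReduced A]

/-- from a multicross embedding of the completion: branches and delta -/
theorem numBranches_and_deltaInv_of_isMC {k : Type u} [Field k] (hdim : ringKrullDim A = 1)
    (hN : CAlg.IsNagata A) {n : ℕ} [Nonempty (Fin n)]
    (φ : AdicCompletion (maximalIdeal A) A →+* (Fin n → PowerSeries k)) (hφ : IsMC φ) :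
    Brnch.numBranches A = n ∧ Curv2.deltaInv A + 1 = n := by
  haveI : IsNoetherianRing A := hN.1
  haveI : IsNoetherianRing (AdicCompletion (maximalIdeal A) A) :=
    Groth.Agent.Lib.Helper19.isNoetherianRing_adicCompletion (maximalIdeal A)
  haveI : IsLocalRing (AdicCompletion (maximalIdeal A) A) :=
    Groth.Agent.Lib.Helper19.isLocalRing_adicCompletion A
      (IsLocalRing.maximalIdeal.isMaximal A).ne_top
  obtain ⟨i₀⟩ := ‹Nonempty (Fin n)›
  constructor
  · rw [← (Groth.Agent.S9241.result A hdim).1]
    have hmin : (minimalPrimes (AdicCompletion (maximalIdeal A) A)).Finite :=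
      minimalPrimes.finite_of_isNoetherianRing _
    haveI : IsReduced (AdicCompletion (maximalIdeal A) A) := by
      refine ⟨fun x hx => ?_⟩
      apply hφ.1
      rw [map_zero]
      exact (hx.map φ).eq_zero
    have hbij : Function.Bijective
        (Ideal.Quotient.mk (nilradical (AdicCompletion (maximalIdeal A) A))) := by
      refine ⟨?_, Ideal.Quotient.mk_surjective⟩
      rw [injective_iff_map_eq_zero]
      intro a ha
      rw [Ideal.Quotient.eq_zero_iff_mem, nilradical_eq_zero] at ha
      exact ha
    let ρ : AdicCompletion (maximalIdeal A) A ≃+* CAlg2.red (AdicCompletion (maximalIdeal A) A) :=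
      RingEquiv.ofBijective _ hbij
    unfold Brnch.numBranches
    rw [if_pos hmin, ← hφ.card_maximalSpectrum]
    exact (ENat.card_congr (Groth.Agent.Lib.Helper4.TotalFracFin.maxSpecEquiv
      (Groth.Agent.Lib.Helper4.Branches.normalizationEquiv ρ))).symm
  · have h1 := (Groth.Agent.S7654.result A hN hdim).2.2
    unfold Curv2.cpl at h1
    rw [← h1]
    exact hφ.length_quotient i₀

/-- from an isomorphism of the completion with the multicross quotient ring -/
theorem numBranches_and_deltaInv_of_ringEquiv {k : Type u} [Field k] (hdim : ringKrullDim A = 1)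
    (hN : CAlg.IsNagata A) (n : ℕ)
    (e : AdicCompletion (maximalIdeal A) A ≃+* Q k n) :
    Brnch.numBranches A = n ∧ Curv2.deltaInv A + 1 = n := by
  haveI : IsNoetherianRing A := hN.1
  have hn : n ≠ 0 := by
    rintro rfl
    have h1 := (Groth.Agent.Lib.Helper19.adicCompletion_dim_and_regular A
      (I := maximalIdeal A) (IsLocalRing.maximalIdeal.isMaximal A).ne_top).1
    rw [ringKrullDim_eq_of_ringEquiv e, ringKrullDim_Q_zero, hdim] at h1
    exact zero_ne_one h1
  haveI : Nonempty (Fin n) := ⟨⟨0, Nat.pos_of_ne_zero hn⟩⟩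
  refine numBranches_and_deltaInv_of_isMC A hdim hN ((quotAxes k n).comp e.toRingHom) ⟨?_, ?_⟩
  · exact quotAxes_injective.comp e.injective
  · rw [← range_quotAxes]
    ext g
    constructor
    · rintro ⟨b, rfl⟩; exact ⟨e b, rfl⟩
    · rintro ⟨q, rfl⟩; exact ⟨e.symm q, by simp⟩

omit [IsReduced A] in
/-- the cotangent space of a local ring with a multicross completion -/
theorem finrank_cotangentSpace_of_isMC {k : Type u} [Field k] [IsNoetherianRing A] {n : ℕ}
    [Nonempty (Fin n)]
    (φ : AdicCompletion (maximalIdeal A) A →+* (Fin n → PowerSeries k)) (hφ : IsMC φ) :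
    Module.finrank (ResidueField A) (CotangentSpace A) = n := by
  haveI : IsNoetherianRing (AdicCompletion (maximalIdeal A) A) :=
    Groth.Agent.Lib.Helper19.isNoetherianRing_adicCompletion (maximalIdeal A)
  have hI : maximalIdeal A ≠ ⊤ := (IsLocalRing.maximalIdeal.isMaximal A).ne_top
  haveI : IsLocalRing (AdicCompletion (maximalIdeal A) A) :=
    Groth.Agent.Lib.Helper19.isLocalRing_adicCompletion A hI
  obtain ⟨i₀⟩ := ‹Nonempty (Fin n)›
  have fg : (maximalIdeal A).FG := IsNoetherian.noetherian _
  have hmax := AdicCompletion.isMaximal_map_of_le (maximalIdeal A) (maximalIdeal A) le_rfl fg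
  have hmap : maximalIdeal (AdicCompletion (maximalIdeal A) A) =
      (maximalIdeal A).map (algebraMap A (AdicCompletion (maximalIdeal A) A)) :=
    (IsLocalRing.eq_maximalIdeal hmax).symm
  have hres : ∀ b : AdicCompletion (maximalIdeal A) A, ∃ a : A,
      b - algebraMap A (AdicCompletion (maximalIdeal A) A) a ∈
        maximalIdeal (AdicCompletion (maximalIdeal A) A) := by
    intro b
    obtain ⟨a, ha⟩ := Groth.Agent.Lib.Helper19.exists_sub_algebraMap_mem_map A (maximalIdeal A) b
    exact ⟨a, by rw [hmap]; exact ha⟩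
  have h1 := Groth.Agent.Lib.Helper19.spanFinrank_maximalIdeal_eq_of_flat_of_map_eq hmap hres
  rw [IsLocalRing.spanFinrank_maximalIdeal_eq_finrank_cotangentSpace,
    IsLocalRing.spanFinrank_maximalIdeal_eq_finrank_cotangentSpace] at h1
  rw [← h1]
  exact hφ.finrank_cotangentSpace i₀

/-- the forward direction: `δ = n - 1` gives the multicross quotient ring -/
theorem exists_ringEquiv_of_deltaInv (k : Type u) [Field k] [IsSepClosed k] [Algebra k A]
    (hdim : ringKrullDim A = 1) (hN : CAlg.IsNagata A)
    (hres : Function.Bijective (algebraMap k (IsLocalRing.ResidueField A)))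
    (n : ℕ) (hn : Brnch.numBranches A = n) (hδ : Curv2.deltaInv A + 1 = n) :
    (∃ e : AdicCompletion (maximalIdeal A) A ≃+* Q k n,
      ∀ c : k, e (algebraMap A (AdicCompletion (maximalIdeal A) A) (algebraMap k A c)) =
        Ideal.Quotient.mk _ (MvPowerSeries.C c)) ∧
    Module.finrank (ResidueField A) (CotangentSpace A) = n := by
  haveI : IsNoetherianRing A := hN.1
  obtain ⟨φ, hinj, hc, hrange⟩ := Groth.Agent.S12218.result k A hdim hN hres n hn hδ
  have hn0 : n ≠ 0 := by
    rintro rfl
    simp at hδ
  haveI : Nonempty (Fin n) := ⟨⟨0, Nat.pos_of_ne_zero hn0⟩⟩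
  refine ⟨?_, finrank_cotangentSpace_of_isMC A φ ⟨hinj, hrange⟩⟩
  obtain ⟨e, he⟩ := exists_ringEquiv_of_range_eq φ hinj hrange
  refine ⟨e, fun c => ?_⟩
  apply eq_mk_C_of_quotAxes
  rw [he, hc]
  rfl

end Main

end Groth.Agent.Lib.Helper3.MCRing
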