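import Mathlib
import Groth.Prelude.Def_CurvBase
import Groth.Agent.Lib.Helper3MCRing
import Groth.Agent.Lib.Helper19PsDim

set_option autoImplicit false
set_option linter.style.haveILetI false

namespace Groth.Agent.Lib.Helper3.NodeA

universe u
open IsLocalRing Groth.Agent.Lib.Helper3.MCQuot Groth.Agent.Lib.Helper3.MCNorm

section Q2

variable (K : Type u) [Field K]

/-- for two variables the cross ideal is generated by `X 0 * X 1` -/
theorem span_pair_eq :
    Ideal.span {(MvPowerSeries.X 0 * MvPowerSeries.X 1 : MvPowerSeries (Fin 2) K)} =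
      Ideal.span {f : MvPowerSeries (Fin 2) K |
        ∃ i j : Fin 2, i ≠ j ∧ f = MvPowerSeries.X i * MvPowerSeries.X j} := by
  apply le_antisymm
  · rw [Ideal.span_le]
    rintro _ rfl
    exact Ideal.subset_span ⟨0, 1, by decide, rfl⟩
  · rw [Ideal.span_le]
    rintro _ ⟨i, j, hij, rfl⟩
    fin_cases i <;> fin_cases j
    · exact absurd rfl hij
    · exact Ideal.subset_span rfl
    · rw [mul_comm]; exact Ideal.subset_span rfl
    · exact absurd rfl hij

/-- the ordinary double point ring as the multicross ring with two branches -/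
noncomputable def odpEquiv :
    (MvPowerSeries (Fin 2) K ⧸
      Ideal.span {(MvPowerSeries.X 0 * MvPowerSeries.X 1 : MvPowerSeries (Fin 2) K)}) ≃+* Q K 2 :=
  Ideal.quotEquivOfEq (span_pair_eq K)

theorem odpEquiv_mk (f : MvPowerSeries (Fin 2) K) :
    odpEquiv K (Ideal.Quotient.mk _ f) = Ideal.Quotient.mk _ f := rfl

theorem odpEquiv_symm_mk (f : MvPowerSeries (Fin 2) K) :
    (odpEquiv K).symm (Ideal.Quotient.mk _ f) = Ideal.Quotient.mk _ f := rfl

theorem ringKrullDim_odp :
    ringKrullDim (MvPowerSeries (Fin 2) K ⧸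
      Ideal.span {(MvPowerSeries.X 0 * MvPowerSeries.X 1 : MvPowerSeries (Fin 2) K)}) = 1 := by
  haveI : IsNoetherianRing (MvPowerSeries (Fin 2) K) := inferInstance
  have hreg : IsSMulRegular (MvPowerSeries (Fin 2) K)
      (MvPowerSeries.X 0 * MvPowerSeries.X 1 : MvPowerSeries (Fin 2) K) := by
    apply IsLeftRegular.isSMulRegular
    apply IsRegular.left
    apply IsRegular.of_ne_zero
    have hX : ∀ i : Fin 2, (MvPowerSeries.X i : MvPowerSeries (Fin 2) K) ≠ 0 := by
      intro i h
      have := congrArg (MvPowerSeries.coeff (Finsupp.single i 1)) h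
      simp [MvPowerSeries.coeff_X] at this
    exact mul_ne_zero (hX _) (hX _)
  have hmem : (MvPowerSeries.X 0 * MvPowerSeries.X 1 : MvPowerSeries (Fin 2) K) ∈
      Ring.jacobson (MvPowerSeries (Fin 2) K) := by
    rw [IsLocalRing.ringJacobson_eq_maximalIdeal]
    apply Ideal.mul_mem_right
    rw [IsLocalRing.mem_maximalIdeal, mem_nonunits_iff, MvPowerSeries.isUnit_iff_constantCoeff]
    simp
  have h := ringKrullDim_quotient_span_singleton_succ_eq_ringKrullDim_of_mem_jacobson hreg hmem
  rw [Groth.Agent.Lib.Helper19.ringKrullDim_mvPowerSeries] at h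
  generalize ringKrullDim (MvPowerSeries (Fin 2) K ⧸
      Ideal.span {(MvPowerSeries.X 0 * MvPowerSeries.X 1 : MvPowerSeries (Fin 2) K)}) = d at h ⊢
  cases d with
  | bot => simp at h
  | coe d =>
    cases d with
    | top => exact absurd h (by decide)
    | coe d =>
      have h' : d + 1 = 2 := by
        have h2 : ((d + 1 : ℕ) : WithBot ℕ∞) = ((2 : ℕ) : WithBot ℕ∞) := by
          push_cast; exact h
        exact_mod_cast h2
      have : d = 1 := by omega
      rw [this]; rfl

theorem ringKrullDim_Q_two : ringKrullDim (Q K 2) = 1 := by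
  rw [← ringKrullDim_eq_of_ringEquiv (odpEquiv K)]
  exact ringKrullDim_odp K

theorem isReduced_Q (n : ℕ) [Nonempty (Fin n)] : IsReduced (Q K n) :=
  isReduced_of_injective (quotAxes K n) quotAxes_injective

end Q2

section Main

variable (K : Type u) [Field K] (A : Type u) [CommRing A] [Algebra K A] [IsLocalRing A]

/-- an ordinary double point over `K` gives a ring isomorphism of the completion with `Q K 2`,
compatibly with the maps from `K` -/
theorem exists_equiv_Q_of_isOrdDoublePt (h : Curv2.IsOrdDoublePt K A) :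
    ∃ e : AdicCompletion (maximalIdeal A) A ≃+* Q K 2,
      ∀ c : K, e (algebraMap A (AdicCompletion (maximalIdeal A) A) (algebraMap K A c)) =
        Ideal.Quotient.mk _ (MvPowerSeries.C c) := by
  obtain ⟨e, he⟩ := h
  refine ⟨e.trans (odpEquiv K), fun c => ?_⟩
  rw [RingEquiv.trans_apply, he c, odpEquiv_mk]

theorem isOrdDoublePt_of_equiv_Q
    (e : AdicCompletion (maximalIdeal A) A ≃+* Q K 2)
    (he : ∀ c : K, e (algebraMap A (AdicCompletion (maximalIdeal A) A) (algebraMap K A c)) =
        Ideal.Quotient.mk _ (MvPowerSeries.C c)) : Curv2.IsOrdDoublePt K A := by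
  refine ⟨e.trans (odpEquiv K).symm, fun c => ?_⟩
  rw [RingEquiv.trans_apply, he c, odpEquiv_symm_mk]

/-- a Noetherian local ring whose completion is `Q K 2` is reduced of dimension one -/
theorem isReduced_and_dim_of_equiv_Q [IsNoetherianRing A]
    (e : AdicCompletion (maximalIdeal A) A ≃+* Q K 2) :
    IsReduced A ∧ ringKrullDim A = 1 := by
  have hI : maximalIdeal A ≠ ⊤ := (IsLocalRing.maximalIdeal.isMaximal A).ne_top
  constructor
  · haveI : IsReduced (Q K 2) := isReduced_Q K 2
    haveI : IsReduced (AdicCompletion (maximalIdeal A) A) :=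
      isReduced_of_injective e.toRingHom e.injective
    have hinj : Function.Injective (algebraMap A (AdicCompletion (maximalIdeal A) A)) :=
      AdicCompletion.of_injective (maximalIdeal A) A
    exact isReduced_of_injective _ hinj
  · have h1 := (Groth.Agent.Lib.Helper19.adicCompletion_dim_and_regular A
      (I := maximalIdeal A) hI).1
    rw [← h1, ringKrullDim_eq_of_ringEquiv e, ringKrullDim_Q_two]

/-- an ordinary double point has two branches and `δ = 1` -/
theorem numBranches_and_deltaInv_of_isOrdDoublePt (hN : CAlg.IsNagata A)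
    (h : Curv2.IsOrdDoublePt K A) :
    IsReduced A ∧ ringKrullDim A = 1 ∧ Brnch.numBranches A = 2 ∧ Curv2.deltaInv A = 1 := by
  haveI : IsNoetherianRing A := hN.1
  obtain ⟨e, -⟩ := exists_equiv_Q_of_isOrdDoublePt K A h
  obtain ⟨hred, hdim⟩ := isReduced_and_dim_of_equiv_Q K A e
  haveI := hred
  obtain ⟨h1, h2⟩ := Groth.Agent.Lib.Helper3.MCRing.numBranches_and_deltaInv_of_ringEquiv A hdim hN 2 e
  refine ⟨hred, hdim, by exact_mod_cast h1, ?_⟩
  have h3 : Curv2.deltaInv A + 1 = 1 + 1 := by rw [h2]; rfl
  exact ENat.add_left_injective_of_ne_top ENat.one_ne_top h3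

/-- conversely, over a separably closed field: two branches and `δ = 1` give an ordinary
double point -/
theorem isOrdDoublePt_of_numBranches_deltaInv [IsSepClosed K] [IsReduced A]
    (hdim : ringKrullDim A = 1) (hN : CAlg.IsNagata A)
    (hres : Function.Bijective (algebraMap K (IsLocalRing.ResidueField A)))
    (hn : Brnch.numBranches A = 2) (hδ : Curv2.deltaInv A = 1) : Curv2.IsOrdDoublePt K A := by
  obtain ⟨⟨e, he⟩, -⟩ := Groth.Agent.Lib.Helper3.MCRing.exists_ringEquiv_of_deltaInv A K hdim hN hres 2
    (by exact_mod_cast hn) (by rw [hδ]; rfl)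
  exact isOrdDoublePt_of_equiv_Q K A e he

end Main

end Groth.Agent.Lib.Helper3.NodeA
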