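import Mathlib
import Groth.Prelude.Def_CurvBase
import Groth.Prelude.Def_FSch3
import Groth.Agent.Lib.Helper14ComplEquiv
import Groth.Agent.Lib.Helper28StalkRing

/-!
# Ordinary double points and essentially étale local maps (helper3)

Ring-level core of "node is an étale-local notion".
-/

set_option autoImplicit false
set_option linter.style.haveILetI false
universe u

open IsLocalRing

namespace Groth.Agent.Lib.Helper3.NodeEtA

section compl

variable {A B : Type u} [CommRing A] [CommRing B] [IsLocalRing A] [IsLocalRing B]
  (φ : A →+* B)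

theorem map_pow_eq (hm : (maximalIdeal A).map φ = maximalIdeal B) (n : ℕ) :
    (maximalIdeal A ^ n).map φ = maximalIdeal B ^ n := by
  rw [Ideal.map_pow, hm]

/-- flat local map with `m_A B = m_B`: the completion map is injective. -/
theorem complMap_injective [IsLocalHom φ] (hflat : φ.Flat)
    (hm : (maximalIdeal A).map φ = maximalIdeal B) :
    Function.Injective (FSch.complMap (maximalIdeal A) (maximalIdeal B) φ hm.le) := by
  apply Groth.Agent.Lib.Helper14.ComplEquiv.complMap_injective
  intro n s hs
  letI := φ.toAlgebra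
  haveI : Module.Flat A B := hflat
  haveI : IsLocalHom (algebraMap A B) := ‹IsLocalHom φ›
  haveI : Module.FaithfullyFlat A B := Module.FaithfullyFlat.of_flat_of_isLocalHom
  rw [← map_pow_eq φ hm n] at hs
  have h1 : s ∈ ((maximalIdeal A ^ n).map (algebraMap A B)).comap (algebraMap A B) := hs
  rwa [Ideal.comap_map_eq_self_of_faithfullyFlat] at h1

/-- `B = φ(A) + m_B^n` when `m_A B = m_B` and `A → B/m_B` is surjective. -/
theorem exists_sub_mem_pow (hm : (maximalIdeal A).map φ = maximalIdeal B)
    (hres : ∀ b : B, ∃ a : A, b - φ a ∈ maximalIdeal B) (n : ℕ) (t : B) :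
    ∃ s : A, t - φ s ∈ maximalIdeal B ^ n := by
  induction n generalizing t with
  | zero => exact ⟨0, by simp⟩
  | succ n ih =>
    obtain ⟨s, hs⟩ := ih t
    letI := φ.toAlgebra
    have key : ∀ z ∈ (maximalIdeal A ^ n) • (⊤ : Submodule A B),
        ∃ s' : A, z - φ s' ∈ maximalIdeal B ^ (n + 1) := by
      intro z hz
      refine Submodule.smul_induction_on hz ?_ ?_
      · intro r hr b _
        obtain ⟨a, ha⟩ := hres b
        refine ⟨r * a, ?_⟩
        have e : r • b - φ (r * a) = φ r * (b - φ a) := by
          rw [Algebra.smul_def, map_mul]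
          change φ r * b - φ r * φ a = _
          ring
        rw [e, pow_succ]
        refine Ideal.mul_mem_mul ?_ ha
        rw [← map_pow_eq φ hm n]
        exact Ideal.mem_map_of_mem φ hr
      · rintro x y ⟨a, ha⟩ ⟨b, hb⟩
        refine ⟨a + b, ?_⟩
        have e : x + y - φ (a + b) = (x - φ a) + (y - φ b) := by rw [map_add]; ring
        rw [e]
        exact Ideal.add_mem _ ha hb
    have hz : t - φ s ∈ (maximalIdeal A ^ n) • (⊤ : Submodule A B) := by
      rw [Ideal.smul_top_eq_map]
      change t - φ s ∈ (maximalIdeal A ^ n).map φ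
      rw [map_pow_eq φ hm n]
      exact hs
    obtain ⟨s', hs'⟩ := key _ hz
    refine ⟨s + s', ?_⟩
    have e : t - φ (s + s') = (t - φ s) - φ s' := by rw [map_add]; ring
    rw [e]
    exact hs'

theorem complMap_bijective [IsLocalHom φ] (hflat : φ.Flat)
    (hm : (maximalIdeal A).map φ = maximalIdeal B)
    (hres : ∀ b : B, ∃ a : A, b - φ a ∈ maximalIdeal B) :
    Function.Bijective (FSch.complMap (maximalIdeal A) (maximalIdeal B) φ hm.le) := by
  refine ⟨complMap_injective φ hflat hm, ?_⟩
  apply Groth.Agent.Lib.Helper14.ComplEquiv.complMap_surjective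
  · intro n s hs
    letI := φ.toAlgebra
    haveI : Module.Flat A B := hflat
    haveI : IsLocalHom (algebraMap A B) := ‹IsLocalHom φ›
    haveI : Module.FaithfullyFlat A B := Module.FaithfullyFlat.of_flat_of_isLocalHom
    rw [← map_pow_eq φ hm n] at hs
    have h1 : s ∈ ((maximalIdeal A ^ n).map (algebraMap A B)).comap (algebraMap A B) := hs
    rwa [Ideal.comap_map_eq_self_of_faithfullyFlat] at h1
  · intro n t
    exact exists_sub_mem_pow φ hm hres n t

end compl

section odp

variable (K : Type u) [Field K]

/-- An ordinary double point over `K` has residue field `K`. -/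
theorem exists_sub_mem_of_isOrdDoublePt (A : Type u) [CommRing A] [Algebra K A] [IsLocalRing A]
    (h : Curv2.IsOrdDoublePt K A) (a : A) :
    ∃ c : K, a - algebraMap K A c ∈ maximalIdeal A := by
  obtain ⟨e, he⟩ := h
  have hle : maximalIdeal A ^ 1 ≤ maximalIdeal A := by rw [pow_one]
  let ψ : MvPowerSeries (Fin 2) K →+* ResidueField A :=
    (Ideal.Quotient.factor hle).comp ((AdicCompletion.evalₐ (maximalIdeal A) 1).toRingHom.comp
      (e.symm.toRingHom.comp (Ideal.Quotient.mk _)))
  have hψsurj : Function.Surjective ψ := by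
    refine (Ideal.Quotient.factor_surjective hle).comp ?_
    refine (AdicCompletion.surjective_evalₐ (maximalIdeal A) 1).comp ?_
    exact e.symm.surjective.comp Ideal.Quotient.mk_surjective
  haveI : (RingHom.ker ψ).IsMaximal := RingHom.ker_isMaximal_of_surjective ψ hψsurj
  have hker : RingHom.ker ψ = maximalIdeal (MvPowerSeries (Fin 2) K) :=
    IsLocalRing.eq_maximalIdeal inferInstance
  have hψC : ∀ c : K, ψ (MvPowerSeries.C c) = residue A (algebraMap K A c) := by
    intro c
    have h1 : e.symm (Ideal.Quotient.mk _ (MvPowerSeries.C c)) =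
        algebraMap A (AdicCompletion (maximalIdeal A) A) (algebraMap K A c) := by
      rw [RingEquiv.symm_apply_eq]
      exact (he c).symm
    change Ideal.Quotient.factor hle (AdicCompletion.evalₐ (maximalIdeal A) 1
      (e.symm (Ideal.Quotient.mk _ (MvPowerSeries.C c)))) = _
    rw [h1, AlgHom.commutes]
    exact Ideal.Quotient.factor_mk hle _
  obtain ⟨p, hp⟩ := hψsurj (residue A a)
  refine ⟨MvPowerSeries.constantCoeff p, ?_⟩
  have hmem : p - MvPowerSeries.C (MvPowerSeries.constantCoeff p) ∈
      maximalIdeal (MvPowerSeries (Fin 2) K) := by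
    rw [mem_maximalIdeal, mem_nonunits_iff, MvPowerSeries.isUnit_iff_constantCoeff]
    simp
  rw [← hker, RingHom.mem_ker, map_sub, hp, hψC, ← map_sub, residue_eq_zero_iff] at hmem
  exact hmem

variable [IsAlgClosed K] {A B : Type u} [CommRing A] [CommRing B] [Algebra K A] [Algebra K B]
  [IsLocalRing A] [IsLocalRing B] (φ : A →+* B) [IsLocalHom φ]

/-- Ordinary double points are preserved and detected by flat unramified local maps with
algebraic residue field extension (e.g. essentially étale maps), over an algebraically closed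
field. -/
theorem isOrdDoublePt_iff (hK : ∀ c : K, φ (algebraMap K A c) = algebraMap K B c)
    (hflat : φ.Flat) (hm : (maximalIdeal A).map φ = maximalIdeal B)
    (halg : (ResidueField.map φ).IsIntegral) :
    Curv2.IsOrdDoublePt K A ↔ Curv2.IsOrdDoublePt K B := by
  have main : ∀ (hres : ∀ b : B, ∃ a : A, b - φ a ∈ maximalIdeal B),
      (Curv2.IsOrdDoublePt K A ↔ Curv2.IsOrdDoublePt K B) := by
    intro hres
    have hbij := complMap_bijective φ hflat hm hres
    let E : AdicCompletion (maximalIdeal A) A ≃+* AdicCompletion (maximalIdeal B) B :=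
      RingEquiv.ofBijective _ hbij
    have hE : ∀ a : A, E (algebraMap A _ a) = algebraMap B _ (φ a) := fun a =>
      Groth.Agent.Lib.Helper28.StalkRing.complMap_of _ _ φ hm.le a
    constructor
    · rintro ⟨e, he⟩
      refine ⟨E.symm.trans e, fun c => ?_⟩
      rw [← hK c, ← hE, RingEquiv.trans_apply, RingEquiv.symm_apply_apply]
      exact he c
    · rintro ⟨e, he⟩
      refine ⟨E.trans e, fun c => ?_⟩
      rw [RingEquiv.trans_apply, hE, hK]
      exact he c
  by_cases hA : Curv2.IsOrdDoublePt K A
  · apply main
    -- K → κ(B) is surjective since K → κ(A) is and κ(B)/κ(A) is algebraic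
    have hKA := exists_sub_mem_of_isOrdDoublePt K A hA
    let fA : K →+* ResidueField A := (residue A).comp (algebraMap K A)
    let fB : K →+* ResidueField B := (residue B).comp (algebraMap K B)
    have hfA : Function.Surjective fA := by
      intro z
      obtain ⟨a, rfl⟩ := residue_surjective z
      obtain ⟨c, hc⟩ := hKA a
      refine ⟨c, ?_⟩
      rw [← residue_eq_zero_iff, map_sub, sub_eq_zero] at hc
      exact hc.symm
    have hcomp : fB = (ResidueField.map φ).comp fA := by
      refine RingHom.ext fun c => ?_
      change residue B (algebraMap K B c) = ResidueField.map φ (residue A (algebraMap K A c))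
      rw [ResidueField.map_residue, hK]
    have hint : fB.IsIntegral := by
      rw [hcomp]
      exact RingHom.IsIntegral.trans _ _ (RingHom.isIntegral_of_surjective _ hfA) halg
    have hfB := (IsAlgClosed.ringHom_bijective_of_isIntegral fB hint).2
    intro b
    obtain ⟨c, hc⟩ := hfB (residue B b)
    refine ⟨algebraMap K A c, ?_⟩
    rw [hK, ← residue_eq_zero_iff, map_sub, sub_eq_zero]
    exact hc.symm
  · by_cases hB : Curv2.IsOrdDoublePt K B
    · apply main
      have hKB := exists_sub_mem_of_isOrdDoublePt K B hB
      intro b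
      obtain ⟨c, hc⟩ := hKB b
      exact ⟨algebraMap K A c, by rw [hK]; exact hc⟩
    · exact iff_of_false hA hB

end odp

end Groth.Agent.Lib.Helper3.NodeEtA
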