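import Mathlib
import Groth.Prelude.Def_CurvBase
import Groth.Agent.Lib.Helper3NodeEtA
import Groth.Agent.Lib.Helper12Jacobson

/-!
# Nodes are étale-local (helper3)

For an étale morphism `π : Y ⟶ X` of schemes over a field `k` (with `X` locally of finite type),
`π y` is a node of `X` iff `y` is a node of `Y`.
-/

set_option autoImplicit false
set_option linter.style.haveILetI false
universe u

open CategoryTheory CategoryTheory.Limits AlgebraicGeometry IsLocalRing

namespace Groth.Agent.Lib.Helper3.NodeEtB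

section stalk

variable (K : Type u) [Field K] {X' Y' : Scheme.{u}} (sX : X' ⟶ Spec (CommRingCat.of K))
  (sY : Y' ⟶ Spec (CommRingCat.of K)) (h : Y' ⟶ X') (hh : h ≫ sX = sY)

include hh in
/-- stalk maps of morphisms over `Spec K` are compatible with the maps from `K`. -/
theorem stalkMap_stalkMap (y : Y') (c : K) :
    (h.stalkMap y).hom (@Curv2.stalkMap K _ X' ⟨sX⟩ (h y) c) =
      @Curv2.stalkMap K _ Y' ⟨sY⟩ y c := by
  letI iX : X'.Over (Spec (CommRingCat.of K)) := ⟨sX⟩
  letI iY : Y'.Over (Spec (CommRingCat.of K)) := ⟨sY⟩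
  have hsX : (X' ↘ Spec (CommRingCat.of K)) = sX := rfl
  have hsY : (Y' ↘ Spec (CommRingCat.of K)) = sY := rfl
  unfold Curv2.stalkMap Coh.toGlobal
  rw [hsX, hsY]
  simp only [RingHom.coe_comp, Function.comp_apply]
  have h1 := Scheme.Hom.germ_stalkMap_apply h ⊤ y trivial
    (sX.appTop.hom ((Scheme.ΓSpecIso (CommRingCat.of K)).inv.hom c))
  refine h1.trans ?_
  congr 1
  have h2 : sX.appTop ≫ h.appTop = sY.appTop := by
    rw [← Scheme.Hom.comp_appTop, hh]
  exact congr($h2 ((Scheme.ΓSpecIso (CommRingCat.of K)).inv.hom c))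

variable [IsAlgClosed K] [Etale h]

include hh in
/-- ordinary double points are étale-local. -/
theorem isOrdDoublePt_iff (y : Y') :
    @Curv2.IsOrdDoublePt K _ (X'.presheaf.stalk (h y)) _
        (@Curv2.stalkAlgebra K _ X' ⟨sX⟩ (h y)) _ ↔
      @Curv2.IsOrdDoublePt K _ (Y'.presheaf.stalk y) _
        (@Curv2.stalkAlgebra K _ Y' ⟨sY⟩ y) _ := by
  letI aX := @Curv2.stalkAlgebra K _ X' ⟨sX⟩ (h y)
  letI aY := @Curv2.stalkAlgebra K _ Y' ⟨sY⟩ y
  refine Groth.Agent.Lib.Helper3.NodeEtA.isOrdDoublePt_iff K (h.stalkMap y).hom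
    (fun c => stalkMap_stalkMap K sX sY h hh y c) (Flat.stalkMap h y) ?_ ?_
  · algebraize [(h.stalkMap y).hom]
    have : IsLocalHom (algebraMap (X'.presheaf.stalk (h y)) (Y'.presheaf.stalk y)) :=
      inferInstanceAs <| IsLocalHom (h.stalkMap y).hom
    have : Algebra.EssFiniteType (X'.presheaf.stalk (h y)) (Y'.presheaf.stalk y) := by
      rw [← RingHom.essFiniteType_algebraMap, RingHom.algebraMap_toAlgebra]
      exact LocallyOfFiniteType.stalkMap h y
    have : Algebra.FormallyUnramified (X'.presheaf.stalk (h y)) (Y'.presheaf.stalk y) := by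
      rw [← RingHom.formallyUnramified_algebraMap, RingHom.algebraMap_toAlgebra]
      exact FormallyUnramified.stalkMap h y
    exact Algebra.FormallyUnramified.map_maximalIdeal
  · algebraize [(h.stalkMap y).hom]
    have : IsLocalHom (algebraMap (X'.presheaf.stalk (h y)) (Y'.presheaf.stalk y)) :=
      inferInstanceAs <| IsLocalHom (h.stalkMap y).hom
    have : Algebra.EssFiniteType (X'.presheaf.stalk (h y)) (Y'.presheaf.stalk y) := by
      rw [← RingHom.essFiniteType_algebraMap, RingHom.algebraMap_toAlgebra]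
      exact LocallyOfFiniteType.stalkMap h y
    have : Algebra.FormallyUnramified (X'.presheaf.stalk (h y)) (Y'.presheaf.stalk y) := by
      rw [← RingHom.formallyUnramified_algebraMap, RingHom.algebraMap_toAlgebra]
      exact FormallyUnramified.stalkMap h y
    have hfin : Module.Finite (ResidueField (X'.presheaf.stalk (h y)))
        (ResidueField (Y'.presheaf.stalk y)) := inferInstance
    have hint : (algebraMap (ResidueField (X'.presheaf.stalk (h y)))
        (ResidueField (Y'.presheaf.stalk y))).IsIntegral :=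
      (Algebra.IsIntegral.of_finite _ _).isIntegral
    have e : ResidueField.map (h.stalkMap y).hom = algebraMap (ResidueField (X'.presheaf.stalk (h y)))
        (ResidueField (Y'.presheaf.stalk y)) := by
      refine RingHom.ext fun x => ?_
      obtain ⟨x, rfl⟩ := residue_surjective x
      rfl
    rw [e]
    exact hint

end stalk

section bc

variable (k : Type u) [Field k] {X Y : Scheme.{u}} (sX : X ⟶ Spec (CommRingCat.of k))
  (sY : Y ⟶ Spec (CommRingCat.of k)) (π : Y ⟶ X) (hπ : π ≫ sX = sY)
  (K : Type u) [Field K] [Algebra k K]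

/-- the base change of a `k`-morphism to a field extension. -/
noncomputable def bcMap :
    pullback sY (Spec.map (CommRingCat.ofHom (algebraMap k K))) ⟶
      pullback sX (Spec.map (CommRingCat.ofHom (algebraMap k K))) :=
  pullback.lift (pullback.fst _ _ ≫ π) (pullback.snd _ _)
    (by rw [Category.assoc, hπ, pullback.condition])

@[reassoc]
theorem bcMap_fst : bcMap k sX sY π hπ K ≫ pullback.fst _ _ = pullback.fst _ _ ≫ π :=
  pullback.lift_fst _ _ _

@[reassoc]
theorem bcMap_snd : bcMap k sX sY π hπ K ≫ pullback.snd _ _ = pullback.snd _ _ :=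
  pullback.lift_snd _ _ _

theorem isPullback_bcMap :
    IsPullback (bcMap k sX sY π hπ K) (pullback.fst sY _) (pullback.fst sX _) π := by
  refine IsPullback.of_right ?_ (bcMap_fst k sX sY π hπ K)
    (IsPullback.of_hasPullback sX (Spec.map (CommRingCat.ofHom (algebraMap k K)))).flip
  rw [bcMap_snd, hπ]
  exact (IsPullback.of_hasPullback sY (Spec.map (CommRingCat.ofHom (algebraMap k K)))).flip

instance [Etale π] : Etale (bcMap k sX sY π hπ K) :=
  MorphismProperty.of_isPullback (isPullback_bcMap k sX sY π hπ K).flip inferInstance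

end bc

section node

variable (k : Type u) [Field k] {X Y : Scheme.{u}} (sX : X ⟶ Spec (CommRingCat.of k))
  (sY : Y ⟶ Spec (CommRingCat.of k)) (π : Y ⟶ X) (hπ : π ≫ sX = sY)

include hπ in
/-- **Nodes are étale-local.** -/
theorem isNode_iff [LocallyOfFiniteType sX] [Etale π] (y : Y) :
    @Curv2.IsNode k _ X ⟨sX⟩ (π y) ↔ @Curv2.IsNode k _ Y ⟨sY⟩ y := by
  letI iX : X.Over (Spec (CommRingCat.of k)) := ⟨sX⟩
  letI iY : Y.Over (Spec (CommRingCat.of k)) := ⟨sY⟩
  let πK := bcMap k sX sY π hπ (AlgebraicClosure k)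
  have hfst : ∀ yb, (pullback.fst sX (Spec.map (CommRingCat.ofHom (algebraMap k (AlgebraicClosure k)))))
      (πK yb) = π ((pullback.fst sY _) yb) := by
    intro yb
    rw [← Scheme.Hom.comp_apply, ← Scheme.Hom.comp_apply, bcMap_fst]
  have hcl : IsClosed ({π y} : Set X) ↔ IsClosed ({y} : Set Y) := by
    constructor
    · exact Groth.Agent.Lib.Helper12.Jac.isClosed_singleton_of_etale π y
    · intro hy
      haveI : JacobsonSpace X := LocallyOfFiniteType.jacobsonSpace sX
      exact π.closePoints_subset_preimage_closedPoints hy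
  constructor
  · rintro ⟨hx, xb, hxb, hodp⟩
    refine ⟨hcl.mp hx, ?_⟩
    obtain ⟨yb, hyb1, hyb2⟩ := Scheme.exists_preimage_of_isPullback
      (isPullback_bcMap k sX sY π hπ (AlgebraicClosure k)) xb y hxb
    refine ⟨yb, hyb2, ?_⟩
    have hyb1' : πK yb = xb := hyb1
    subst hyb1'
    exact (isOrdDoublePt_iff (AlgebraicClosure k) (pullback.snd sX _) (pullback.snd sY _) πK
      (bcMap_snd k sX sY π hπ (AlgebraicClosure k)) yb).mp hodp
  · rintro ⟨hy, yb, hyb, hodp⟩
    refine ⟨hcl.mpr hy, πK yb, ?_, ?_⟩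
    · change (pullback.fst sX _) (πK yb) = π y
      rw [hfst yb]
      exact congrArg π hyb
    · exact (isOrdDoublePt_iff (AlgebraicClosure k) (pullback.snd sX _) (pullback.snd sY _) πK
        (bcMap_snd k sX sY π hπ (AlgebraicClosure k)) yb).mpr hodp

end node

end Groth.Agent.Lib.Helper3.NodeEtB
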