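import Mathlib
import Groth.Prelude.Def_CurvBase
import Groth.Agent.Lib.Helper3NodeEtB
import Groth.Agent.Lib.Helper3NodeSemi
import Groth.Agent.S1586

/-!
# Nodes and change of base field along a separable algebraic extension (helper3)
-/

set_option autoImplicit false
set_option linter.style.haveILetI false
universe u

open CategoryTheory CategoryTheory.Limits AlgebraicGeometry IsLocalRing

namespace Groth.Agent.Lib.Helper3.NodeEtE

section twist

variable {K K' : Type u} [Field K] [Field K']

/-- coefficientwise isomorphism of power series rings induced by a field isomorphism. -/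
noncomputable def psEquiv (τ : K ≃+* K') :
    MvPowerSeries (Fin 2) K ≃+* MvPowerSeries (Fin 2) K' :=
  RingEquiv.ofRingHom (MvPowerSeries.map (τ : K →+* K')) (MvPowerSeries.map (τ.symm : K' →+* K))
    (by
      rw [← MvPowerSeries.map_comp]
      have : (τ : K →+* K').comp (τ.symm : K' →+* K) = RingHom.id K' := by ext; simp
      rw [this, MvPowerSeries.map_id])
    (by
      rw [← MvPowerSeries.map_comp]
      have : (τ.symm : K' →+* K).comp (τ : K →+* K') = RingHom.id K := by ext; simp
      rw [this, MvPowerSeries.map_id])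

theorem psEquiv_apply (τ : K ≃+* K') (f : MvPowerSeries (Fin 2) K) :
    psEquiv τ f = MvPowerSeries.map (τ : K →+* K') f := rfl

noncomputable def twist (τ : K ≃+* K') :
    (MvPowerSeries (Fin 2) K ⧸
      Ideal.span {(MvPowerSeries.X 0 * MvPowerSeries.X 1 : MvPowerSeries (Fin 2) K)}) ≃+*
    (MvPowerSeries (Fin 2) K' ⧸
      Ideal.span {(MvPowerSeries.X 0 * MvPowerSeries.X 1 : MvPowerSeries (Fin 2) K')}) :=
  Ideal.quotientEquiv _ _ (psEquiv τ) (by
    rw [Ideal.map_span, Set.image_singleton]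
    congr 2
    change _ = psEquiv τ _
    rw [psEquiv_apply, map_mul, MvPowerSeries.map_X, MvPowerSeries.map_X])

theorem twist_mk_C (τ : K ≃+* K') (c : K) :
    twist τ (Ideal.Quotient.mk _ (MvPowerSeries.C c)) =
      Ideal.Quotient.mk _ (MvPowerSeries.C (τ c)) := by
  unfold twist
  rw [Ideal.quotientEquiv_mk]
  congr 1
  change psEquiv τ _ = _
  rw [psEquiv_apply, MvPowerSeries.map_C]
  rfl

/-- being an ordinary double point does not depend on the coefficient field up to isomorphism. -/
theorem isOrdDoublePt_of_fieldEquiv (τ : K ≃+* K') (A : Type u) [CommRing A] [IsLocalRing A]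
    [Algebra K A] [Algebra K' A] (h : ∀ c : K, algebraMap K A c = algebraMap K' A (τ c))
    (hA : Curv2.IsOrdDoublePt K' A) : Curv2.IsOrdDoublePt K A := by
  obtain ⟨e, he⟩ := hA
  refine ⟨e.trans (twist τ.symm), fun c => ?_⟩
  rw [RingEquiv.trans_apply, h, he, twist_mk_C]
  simp

theorem isOrdDoublePt_iff_of_fieldEquiv (τ : K ≃+* K') (A : Type u) [CommRing A] [IsLocalRing A]
    [Algebra K A] [Algebra K' A] (h : ∀ c : K, algebraMap K A c = algebraMap K' A (τ c)) :
    Curv2.IsOrdDoublePt K A ↔ Curv2.IsOrdDoublePt K' A := by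
  refine ⟨fun hA => isOrdDoublePt_of_fieldEquiv τ.symm A (fun c => ?_) hA,
    isOrdDoublePt_of_fieldEquiv τ A h⟩
  rw [h, RingEquiv.apply_symm_apply]

end twist

section allpts

open Groth.Agent.Lib.Helper6.GalAct

/-- at a node, every point of the geometric fibre is an ordinary double point
(no finiteness hypotheses). -/
theorem isOrdDoublePt_of_isNode (k : Type u) [Field k] (X : Scheme.{u})
    [X.Over (Spec (CommRingCat.of k))] (x : X) (hx : Curv2.IsNode k X x)
    (xb : Curv2.bc k X (AlgebraicClosure k)) (hxb : Curv2.bcFst k X (AlgebraicClosure k) xb = x) :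
    @Curv2.IsOrdDoublePt (AlgebraicClosure k) _
      ((Curv2.bc k X (AlgebraicClosure k)).presheaf.stalk xb) _
      (@Curv2.stalkAlgebra (AlgebraicClosure k) _ (Curv2.bc k X (AlgebraicClosure k))
        ⟨Curv2.bcSnd k X (AlgebraicClosure k)⟩ xb) _ := by
  obtain ⟨-, xb₀, hxb₀, hodp⟩ := hx
  obtain ⟨σ, hσ⟩ := exists_galAct_eq k X (AlgebraicClosure k) xb₀ xb (hxb₀.trans hxb.symm)
  subst hσ
  letI : (Curv2.bc k X (AlgebraicClosure k)).Over (Spec (CommRingCat.of (AlgebraicClosure k))) :=
    ⟨Curv2.bcSnd k X (AlgebraicClosure k)⟩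
  letI a₀ := Curv2.stalkAlgebra (AlgebraicClosure k) (Curv2.bc k X (AlgebraicClosure k)) xb₀
  letI a₁ := Curv2.stalkAlgebra (AlgebraicClosure k) (Curv2.bc k X (AlgebraicClosure k))
    (Curv2.galAct k X (AlgebraicClosure k) σ xb₀)
  haveI := Groth.Agent.S1586.isIso_galAct k X (AlgebraicClosure k) σ
  haveI : IsIso ((Curv2.galAct k X (AlgebraicClosure k) σ).stalkMap xb₀) := inferInstance
  let ψ : (Curv2.bc k X (AlgebraicClosure k)).presheaf.stalk
        (Curv2.galAct k X (AlgebraicClosure k) σ xb₀) ≃+*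
      (Curv2.bc k X (AlgebraicClosure k)).presheaf.stalk xb₀ :=
    (asIso ((Curv2.galAct k X (AlgebraicClosure k) σ).stalkMap xb₀)).commRingCatIsoToRingEquiv
  exact Groth.Agent.Lib.Helper3.NodeSemi.isOrdDoublePt_of_semilinear ψ
    (σ : AlgebraicClosure k ≃+* AlgebraicClosure k)
    (fun c => Groth.Agent.S1586.stalkMap_galAct k X (AlgebraicClosure k) σ xb₀ c) hodp

end allpts

section subfield

variable (k k' : Type u) [Field k] [Field k'] [Algebra k k']
  (K K' : Type u) [Field K] [Field K'] [Algebra k K] [Algebra k' K']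
  (ρ : K →+* K')
  (hρ : ρ.comp (algebraMap k K) = (algebraMap k' K').comp (algebraMap k k'))
  {X : Scheme.{u}} (sX : X ⟶ Spec (CommRingCat.of k'))

/-- the comparison map `X ×_{k'} K' ⟶ X ×_k K` induced by `ρ : K → K'`. -/
noncomputable def cmp :
    pullback sX (Spec.map (CommRingCat.ofHom (algebraMap k' K'))) ⟶
      pullback (sX ≫ Spec.map (CommRingCat.ofHom (algebraMap k k')))
        (Spec.map (CommRingCat.ofHom (algebraMap k K))) :=
  pullback.lift (pullback.fst _ _) (pullback.snd _ _ ≫ Spec.map (CommRingCat.ofHom ρ)) (by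
    rw [← Category.assoc, pullback.condition, Category.assoc, Category.assoc, ← Spec.map_comp,
      ← Spec.map_comp, ← CommRingCat.ofHom_comp, ← CommRingCat.ofHom_comp, hρ])

theorem cmp_fst : cmp k k' K K' ρ hρ sX ≫ pullback.fst _ _ = pullback.fst _ _ :=
  pullback.lift_fst _ _ _

theorem cmp_snd : cmp k k' K K' ρ hρ sX ≫ pullback.snd _ _ =
    pullback.snd _ _ ≫ Spec.map (CommRingCat.ofHom ρ) :=
  pullback.lift_snd _ _ _

/-- the map `Spec K' ⟶ Spec k' ×_k Spec K`. -/
noncomputable def tmap : Spec (CommRingCat.of K') ⟶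
    pullback (Spec.map (CommRingCat.ofHom (algebraMap k k')))
      (Spec.map (CommRingCat.ofHom (algebraMap k K))) :=
  pullback.lift (Spec.map (CommRingCat.ofHom (algebraMap k' K'))) (Spec.map (CommRingCat.ofHom ρ))
    (by rw [← Spec.map_comp, ← Spec.map_comp, ← CommRingCat.ofHom_comp, ← CommRingCat.ofHom_comp,
      hρ])

/-- the map `X ×_k K ⟶ Spec k' ×_k Spec K`. -/
noncomputable def pT :
    pullback (sX ≫ Spec.map (CommRingCat.ofHom (algebraMap k k')))
        (Spec.map (CommRingCat.ofHom (algebraMap k K))) ⟶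
    pullback (Spec.map (CommRingCat.ofHom (algebraMap k k')))
      (Spec.map (CommRingCat.ofHom (algebraMap k K))) :=
  pullback.lift (pullback.fst _ _ ≫ sX) (pullback.snd _ _)
    (by rw [Category.assoc]; exact pullback.condition)

theorem isPullback_pT :
    IsPullback (pT k k' K sX) (pullback.fst _ _) (pullback.fst _ _) sX := by
  refine IsPullback.of_right ?_ (pullback.lift_fst _ _ _)
    (IsPullback.of_hasPullback (Spec.map (CommRingCat.ofHom (algebraMap k k')))
      (Spec.map (CommRingCat.ofHom (algebraMap k K)))).flip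
  have : pT k k' K sX ≫ pullback.snd _ _ = pullback.snd _ _ := pullback.lift_snd _ _ _
  rw [this]
  exact (IsPullback.of_hasPullback (sX ≫ Spec.map (CommRingCat.ofHom (algebraMap k k')))
      (Spec.map (CommRingCat.ofHom (algebraMap k K)))).flip

theorem isPullback_cmp :
    IsPullback (cmp k k' K K' ρ hρ sX) (pullback.snd _ _) (pT k k' K sX) (tmap k k' K K' ρ hρ) := by
  have hcomm : cmp k k' K K' ρ hρ sX ≫ pT k k' K sX =
      pullback.snd _ _ ≫ tmap k k' K K' ρ hρ := by
    apply pullback.hom_ext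
    · rw [Category.assoc, Category.assoc]
      unfold pT tmap
      rw [pullback.lift_fst, pullback.lift_fst, ← Category.assoc, cmp_fst, pullback.condition]
    · rw [Category.assoc, Category.assoc]
      unfold pT tmap
      rw [pullback.lift_snd, pullback.lift_snd, cmp_snd]
  refine IsPullback.of_right ?_ hcomm (isPullback_pT k k' K sX).flip
  have h1 : cmp k k' K K' ρ hρ sX ≫ pullback.fst _ _ = pullback.fst _ _ := cmp_fst _ _ _ _ _ _ _
  have h2 : tmap k k' K K' ρ hρ ≫ pullback.fst _ _ =
      Spec.map (CommRingCat.ofHom (algebraMap k' K')) := pullback.lift_fst _ _ _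
  rw [h1, h2]
  exact IsPullback.of_hasPullback sX (Spec.map (CommRingCat.ofHom (algebraMap k' K')))

theorem etale_cmp (hρbij : Function.Bijective ρ)
    [Etale (Spec.map (CommRingCat.ofHom (algebraMap k k')))] :
    Etale (cmp k k' K K' ρ hρ sX) := by
  haveI : IsIso (CommRingCat.ofHom ρ) :=
    (RingEquiv.ofBijective ρ hρbij).toCommRingCatIso.isIso_hom
  have h2 : tmap k k' K K' ρ hρ ≫ pullback.snd _ _ = Spec.map (CommRingCat.ofHom ρ) :=
    pullback.lift_snd _ _ _
  haveI : Etale (tmap k k' K K' ρ hρ ≫ pullback.snd _ _) := by rw [h2]; infer_instance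
  haveI : Etale (tmap k k' K K' ρ hρ) :=
    MorphismProperty.of_postcomp (W := @Etale) (W' := @Etale) _
      (pullback.snd (Spec.map (CommRingCat.ofHom (algebraMap k k')))
        (Spec.map (CommRingCat.ofHom (algebraMap k K)))) inferInstance inferInstance
  exact MorphismProperty.of_isPullback (isPullback_cmp k k' K K' ρ hρ sX).flip inferInstance

end subfield

section main

/-- change of coefficient field for the canonical map to a stalk. -/
theorem stalkMap_comp_specMap (K K' : Type u) [Field K] [Field K'] (ρ : K →+* K')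
    {Y : Scheme.{u}} (sY : Y ⟶ Spec (CommRingCat.of K')) (y : Y) (c : K) :
    @Curv2.stalkMap K _ Y ⟨sY ≫ Spec.map (CommRingCat.ofHom ρ)⟩ y c =
      @Curv2.stalkMap K' _ Y ⟨sY⟩ y (ρ c) := by
  letI i1 : Y.Over (Spec (CommRingCat.of K)) := ⟨sY ≫ Spec.map (CommRingCat.ofHom ρ)⟩
  have hs1 : (Y ↘ Spec (CommRingCat.of K)) = sY ≫ Spec.map (CommRingCat.ofHom ρ) := rfl
  unfold Curv2.stalkMap Coh.toGlobal
  rw [hs1]
  letI i2 : Y.Over (Spec (CommRingCat.of K')) := ⟨sY⟩
  have hs2 : (Y ↘ Spec (CommRingCat.of K')) = sY := rfl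
  rw [hs2]
  simp only [RingHom.coe_comp, Function.comp_apply]
  congr 1
  have h3 := Scheme.ΓSpecIso_inv_naturality (CommRingCat.ofHom ρ)
  have h5 : (Spec.map (CommRingCat.ofHom ρ)).appTop.hom
      ((Scheme.ΓSpecIso (CommRingCat.of K)).inv.hom c) =
      (Scheme.ΓSpecIso (CommRingCat.of K')).inv.hom (ρ c) :=
    (congr($h3 c)).symm
  rw [Scheme.Hom.comp_appTop]
  change sY.appTop.hom ((Spec.map (CommRingCat.ofHom ρ)).appTop.hom _) = _
  rw [h5]

variable (k k' : Type u) [Field k] [Field k'] [Algebra k k']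
  (K K' : Type u) [Field K] [Field K'] [Algebra k K] [Algebra k' K'] [IsAlgClosed K]
  (ρ : K →+* K')
  (hρ : ρ.comp (algebraMap k K) = (algebraMap k' K').comp (algebraMap k k'))
  (hρbij : Function.Bijective ρ)
  [Etale (Spec.map (CommRingCat.ofHom (algebraMap k k')))]
  {X : Scheme.{u}} (sX : X ⟶ Spec (CommRingCat.of k'))

include hρbij in
theorem isOrdDoublePt_cmp_iff
    (y : ↥(pullback sX (Spec.map (CommRingCat.ofHom (algebraMap k' K'))))) :
    @Curv2.IsOrdDoublePt K _
        ((pullback (sX ≫ Spec.map (CommRingCat.ofHom (algebraMap k k')))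
          (Spec.map (CommRingCat.ofHom (algebraMap k K)))).presheaf.stalk
            (cmp k k' K K' ρ hρ sX y)) _
        (@Curv2.stalkAlgebra K _ _ ⟨pullback.snd _ _⟩ (cmp k k' K K' ρ hρ sX y)) _ ↔
      @Curv2.IsOrdDoublePt K' _
        ((pullback sX (Spec.map (CommRingCat.ofHom (algebraMap k' K')))).presheaf.stalk y) _
        (@Curv2.stalkAlgebra K' _ _ ⟨pullback.snd _ _⟩ y) _ := by
  haveI := etale_cmp k k' K K' ρ hρ sX hρbij
  refine (Groth.Agent.Lib.Helper3.NodeEtB.isOrdDoublePt_iff K (pullback.snd _ _)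
    (pullback.snd sX (Spec.map (CommRingCat.ofHom (algebraMap k' K'))) ≫
      Spec.map (CommRingCat.ofHom ρ)) (cmp k k' K K' ρ hρ sX)
    (cmp_snd k k' K K' ρ hρ sX) y).trans ?_
  letI a1 := @Curv2.stalkAlgebra K _ (pullback sX (Spec.map (CommRingCat.ofHom (algebraMap k' K'))))
    ⟨pullback.snd sX (Spec.map (CommRingCat.ofHom (algebraMap k' K'))) ≫
      Spec.map (CommRingCat.ofHom ρ)⟩ y
  letI a2 := @Curv2.stalkAlgebra K' _ (pullback sX (Spec.map (CommRingCat.ofHom (algebraMap k' K'))))
    ⟨pullback.snd sX (Spec.map (CommRingCat.ofHom (algebraMap k' K')))⟩ y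
  exact isOrdDoublePt_iff_of_fieldEquiv (RingEquiv.ofBijective ρ hρbij) _
    (fun c => stalkMap_comp_specMap K K' ρ _ y c)

end main

section final

variable (k k' : Type u) [Field k] [Field k'] [Algebra k k'] [Algebra.IsAlgebraic k k']
  [Etale (Spec.map (CommRingCat.ofHom (algebraMap k k')))]
  {X : Scheme.{u}} (sX : X ⟶ Spec (CommRingCat.of k'))

/-- **A node over `k'` is the same as a node over a subfield `k`** with `k'/k` algebraic and
`Spec k' → Spec k` étale (i.e. finite separable). -/
theorem isNode_iff_subfield (x : X) :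
    @Curv2.IsNode k' _ X ⟨sX⟩ x ↔
      @Curv2.IsNode k _ X ⟨sX ≫ Spec.map (CommRingCat.ofHom (algebraMap k k'))⟩ x := by
  let σ : k' →ₐ[k] AlgebraicClosure k := IsAlgClosed.lift
  letI algk'K : Algebra k' (AlgebraicClosure k) := σ.toRingHom.toAlgebra
  haveI : IsScalarTower k k' (AlgebraicClosure k) :=
    IsScalarTower.of_algebraMap_eq (fun c => (σ.commutes c).symm)
  haveI : Algebra.IsAlgebraic k' (AlgebraicClosure k) :=
    Algebra.IsAlgebraic.tower_top (K := k) k'
  haveI : IsAlgClosure k' (AlgebraicClosure k) := ⟨inferInstance, inferInstance⟩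
  let τ : AlgebraicClosure k' ≃ₐ[k'] AlgebraicClosure k :=
    IsAlgClosure.equiv k' (AlgebraicClosure k') (AlgebraicClosure k)
  let ρ : AlgebraicClosure k →+* AlgebraicClosure k' := (τ.symm : _ →ₐ[k'] _).toRingHom
  have hρ : ρ.comp (algebraMap k (AlgebraicClosure k)) =
      (algebraMap k' (AlgebraicClosure k')).comp (algebraMap k k') := by
    refine RingHom.ext fun c => ?_
    change τ.symm (algebraMap k (AlgebraicClosure k) c) = _
    rw [IsScalarTower.algebraMap_apply k k' (AlgebraicClosure k), τ.symm.commutes]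
    rfl
  have hρbij : Function.Bijective ρ := τ.symm.bijective
  letI iX' : X.Over (Spec (CommRingCat.of k')) := ⟨sX⟩
  have key := isOrdDoublePt_cmp_iff k k' (AlgebraicClosure k) (AlgebraicClosure k') ρ hρ hρbij sX
  have hfst : ∀ y, (pullback.fst (sX ≫ Spec.map (CommRingCat.ofHom (algebraMap k k')))
      (Spec.map (CommRingCat.ofHom (algebraMap k (AlgebraicClosure k)))))
      (cmp k k' (AlgebraicClosure k) (AlgebraicClosure k') ρ hρ sX y) =
      (pullback.fst sX (Spec.map (CommRingCat.ofHom (algebraMap k' (AlgebraicClosure k'))))) y := by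
    intro y
    rw [← Scheme.Hom.comp_apply, cmp_fst]
  constructor
  · rintro ⟨hx, xb', hxb', hodp⟩
    refine ⟨hx, cmp k k' (AlgebraicClosure k) (AlgebraicClosure k') ρ hρ sX xb', ?_, ?_⟩
    · exact (hfst xb').trans hxb'
    · exact (key xb').mpr hodp
  · intro hnode
    refine ⟨hnode.1, ?_⟩
    obtain ⟨xb', hxb', -⟩ := Scheme.Pullback.exists_preimage_pullback (f := sX)
      (g := Spec.map (CommRingCat.ofHom (algebraMap k' (AlgebraicClosure k')))) x default
      (Subsingleton.elim _ _)
    refine ⟨xb', hxb', ?_⟩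
    refine (key xb').mp ?_
    exact @isOrdDoublePt_of_isNode k _ X
      ⟨sX ≫ Spec.map (CommRingCat.ofHom (algebraMap k k'))⟩ x hnode
      (cmp k k' (AlgebraicClosure k) (AlgebraicClosure k') ρ hρ sX xb') ((hfst xb').trans hxb')

end final

end Groth.Agent.Lib.Helper3.NodeEtE
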