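import Mathlib
import Groth.Agent.Lib.Helper3NodeEtE
import Groth.Agent.Lib.Helper3NodeA
import Groth.Agent.Lib.Helper6SmGeom

/-!
# The geometric fibre of an at-worst-nodal scheme over a field is reduced (helper2)

Namespace `Groth.Agent.Lib.Helper2.NodalRedA`.

`X` locally of finite type over a field `k` with at-worst-nodal singularities: the base change of `X`
to an algebraic closure of `k` is reduced. Uses helper3's `isOrdDoublePt_of_isNode` (every point over a
node is an ordinary double point) and `isReduced_and_dim_of_equiv_Q`.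
-/

set_option autoImplicit false
set_option linter.style.haveILetI false
universe u
open CategoryTheory CategoryTheory.Limits AlgebraicGeometry TopologicalSpace

namespace Groth.Agent.Lib.Helper2.NodalRedA

section general

variable {Y : Scheme.{u}}

/-- a Jacobson scheme whose local rings at the closed points are reduced is reduced -/
theorem isReduced_of_closedPoints [JacobsonSpace ↥Y]
    (h : ∀ z : Y, IsClosed ({z} : Set Y) → _root_.IsReduced (Y.presheaf.stalk z)) : IsReduced Y := by
  have haff : ∀ W : Y.Opens, IsAffineOpen W → _root_.IsReduced Γ(Y, W) := by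
    intro W hW
    refine isReduced_ofLocalizationMaximal _ (fun J hJ => ?_)
    let p : Spec Γ(Y, W) := ⟨J, hJ.isPrime⟩
    have hpc : IsClosed ({p} : Set (Spec Γ(Y, W))) :=
      (PrimeSpectrum.isClosed_singleton_iff_isMaximal p).2 hJ
    have hz : hW.fromSpec p ∈ W := by
      have := Set.mem_range_self (f := hW.fromSpec) p
      rw [hW.range_fromSpec] at this
      exact this
    have hzc : IsClosed ({hW.fromSpec p} : Set Y) := by
      have h1 := hW.fromSpec.isOpenEmbedding.preimage_closedPoints
      have h2 : p ∈ closedPoints ↥(Spec Γ(Y, W)) := hpc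
      rw [← h1] at h2
      exact h2
    haveI := h _ hzc
    letI := Y.presheaf.algebra_section_stalk (U := W) ⟨hW.fromSpec p, hz⟩
    have := hW.isLocalization_stalk ⟨hW.fromSpec p, hz⟩
    have hp : hW.primeIdealOf ⟨hW.fromSpec p, hz⟩ = p := by
      apply hW.fromSpec.isOpenEmbedding.injective
      exact hW.fromSpec_primeIdealOf ⟨hW.fromSpec p, hz⟩
    rw [hp] at this
    haveI : IsLocalization.AtPrime (Y.presheaf.stalk (hW.fromSpec p)) J := this
    let e := IsLocalization.algEquiv J.primeCompl (Localization.AtPrime J)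
      (Y.presheaf.stalk (hW.fromSpec p))
    exact isReduced_of_injective e.toRingEquiv.toRingHom e.injective
  haveI : ∀ y : Y, _root_.IsReduced (Y.presheaf.stalk y) := by
    intro y
    obtain ⟨W, hW, hyW, -⟩ := (Opens.isBasis_iff_nbhd.mp Y.isBasis_affineOpens)
      (show y ∈ (⊤ : Y.Opens) from trivial)
    haveI := haff W hW
    letI := Y.presheaf.algebra_section_stalk (U := W) ⟨y, hyW⟩
    haveI := hW.isLocalization_stalk ⟨y, hyW⟩
    exact isReduced_localizationPreserves (hW.primeIdealOf ⟨y, hyW⟩).asIdeal.primeCompl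
      (Y.presheaf.stalk y) inferInstance
  exact isReduced_of_isReduced_stalk Y

end general

section nodal

variable (k : Type u) [Field k] (X : Scheme.{u}) [X.Over (Spec (CommRingCat.of k))]
  [LocallyOfFiniteType (X ↘ Spec (CommRingCat.of k))]

/-- the base change to an algebraic closure of an at-worst-nodal scheme locally of finite type over a
field is reduced -/
theorem isReduced_bc_of_atWorstNodal (hnod : Curv2.AtWorstNodal k X) :
    IsReduced (Curv2.bc k X (AlgebraicClosure k)) := by
  let K := AlgebraicClosure k
  let f : X ⟶ Spec (CommRingCat.of k) := X ↘ Spec (CommRingCat.of k)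
  let g : Spec (CommRingCat.of K) ⟶ Spec (CommRingCat.of k) :=
    Spec.map (CommRingCat.ofHom (algebraMap k K))
  let Y : Scheme.{u} := Curv2.bc k X K
  let π : Y ⟶ X := Curv2.bcFst k X K
  let q : Y ⟶ Spec (CommRingCat.of K) := Curv2.bcSnd k X K
  haveI : LocallyOfFiniteType q :=
    MorphismProperty.pullback_snd (P := @LocallyOfFiniteType) f g inferInstance
  haveI : JacobsonSpace ↥Y := LocallyOfFiniteType.jacobsonSpace q
  haveI : IsLocallyNoetherian Y := LocallyOfFiniteType.isLocallyNoetherian q
  haveI : IsIntegralHom g := by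
    rw [IsIntegralHom.SpecMap_iff]
    exact algebraMap_isIntegral_iff.mpr inferInstance
  haveI : IsIntegralHom π := inferInstanceAs (IsIntegralHom (pullback.fst f g))
  refine isReduced_of_closedPoints (Y := Y) (fun z hz => ?_)
  have hx : IsClosed ({π z} : Set X) := by
    have := π.isClosedMap _ hz
    rwa [Set.image_singleton] at this
  rcases hnod (π z) hx with ⟨U, hxU, hsm⟩ | hnode
  · let V : Y.Opens := π ⁻¹ᵁ U
    have hzV : z ∈ V := hxU
    have h1 : IsPullback (π ∣_ U) V.ι U.ι π := isPullback_morphismRestrict π U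
    have h2 : IsPullback π q f g := IsPullback.of_hasPullback f g
    have h3 : IsPullback (π ∣_ U) (V.ι ≫ q) (U.ι ≫ f) g := h1.paste_vert h2
    haveI : Smooth (U.ι ≫ f) := hsm
    haveI : Smooth (V.ι ≫ q) := MorphismProperty.of_isPullback (P := @Smooth) h3 inferInstance
    haveI : IsReduced (V : Scheme.{u}) :=
      Groth.Agent.Lib.Helper6.SmGeom.isReduced_of_smooth_over_field K V (V.ι ≫ q)
    let e := V.stalkIso ⟨z, hzV⟩
    haveI : _root_.IsReduced ((V : Scheme.{u}).presheaf.stalk ⟨z, hzV⟩) := inferInstance
    exact isReduced_of_injective e.inv.hom e.commRingCatIsoToRingEquiv.symm.injective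
  · letI : Y.Over (Spec (CommRingCat.of K)) := ⟨q⟩
    letI := Curv2.stalkAlgebra K Y z
    have hodp := Groth.Agent.Lib.Helper3.NodeEtE.isOrdDoublePt_of_isNode k X (π z) hnode z rfl
    obtain ⟨e, -⟩ := Groth.Agent.Lib.Helper3.NodeA.exists_equiv_Q_of_isOrdDoublePt K _ hodp
    haveI : IsNoetherianRing (Y.presheaf.stalk z) := inferInstance
    exact (Groth.Agent.Lib.Helper3.NodeA.isReduced_and_dim_of_equiv_Q K _ e).1

end nodal

end Groth.Agent.Lib.Helper2.NodalRedA
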