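import Mathlib
import Groth.Agent.Lib.Helper2NodalRedA
import Groth.Agent.Lib.Helper6H0Const
import Groth.Agent.Lib.Helper17StalkBC3
import Groth.Agent.Lib.Helper1Fib3

/-!
# `h⁰(O) = 1` for the fibres of a proper at-worst-nodal family with geometrically connected fibres
(helper2)

Namespace `Groth.Agent.Lib.Helper2.NodalRedB`.
-/

set_option autoImplicit false
set_option linter.style.haveILetI false
universe u
open CategoryTheory CategoryTheory.Limits AlgebraicGeometry TopologicalSpace TensorProduct

namespace Groth.Agent.Lib.Helper2.NodalRedB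

open Groth.Agent.Lib.Helper6.H0Const

section Main

variable (k : Type u) [Field k] {X : Scheme.{u}} (f : X ⟶ Spec (CommRingCat.of k))

/-- global functions on a proper scheme over a field whose base change to an algebraic closure is
reduced and connected are constant (helper6's `finrank_globalSections_eq_one`, with the two geometric
hypotheses only on the algebraic closure) -/
theorem finrank_globalSections_eq_one' [IsProper f]
    (hred : IsReduced (pullback f (Spec.map (CommRingCat.ofHom (algebraMap k (AlgebraicClosure k))))))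
    (hconn : ConnectedSpace
      ↥(pullback f (Spec.map (CommRingCat.ofHom (algebraMap k (AlgebraicClosure k)))) : Scheme.{u})) :
    letI : Algebra k Γ(X, ⊤) := (gsMap k f).hom.toAlgebra
    Module.finrank k Γ(X, ⊤) = 1 := by
  letI algR : Algebra k Γ(X, ⊤) := (gsMap k f).hom.toAlgebra
  let L := AlgebraicClosure k
  let g := Spec.map (CommRingCat.ofHom (algebraMap k L))
  haveI hred' : IsReduced (pullback f g) := hred
  haveI hconn' : ConnectedSpace ↥(pullback f g : Scheme.{u}) := hconn
  letI algY : Algebra L Γ(pullback f g, ⊤) := (gsMap L (pullback.snd f g)).hom.toAlgebra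
  haveI : Algebra.IsIntegral L Γ(pullback f g, ⊤) := by
    have := gsMap_isIntegral L (pullback.snd f g)
    exact ⟨this⟩
  haveI : Nonempty ↥(pullback f g : Scheme.{u}) := hconn'.toNonempty
  haveI : Nontrivial Γ(pullback f g, ⊤) := by
    obtain ⟨y⟩ := (inferInstance : Nonempty ↥(pullback f g : Scheme.{u}))
    exact @Scheme.component_nontrivial (pullback f g) ⊤ ⟨⟨y, trivial⟩⟩
  have hbij : Function.Bijective (algebraMap L Γ(pullback f g, ⊤)) :=
    bijective_algebraMap_of_isAlgClosed L Γ(pullback f g, ⊤)
      (eq_zero_or_one_of_isIdempotentElem (Y := pullback f g))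
  have hpo := isPushout_gsMap k f L
  have hpo' := CommRingCat.isPushout_tensorProduct k L Γ(X, ⊤)
  let e := hpo'.isoIsPushout _ _ hpo
  have he1 : ∀ ℓ : L, e.hom (ℓ ⊗ₜ[k] (1 : Γ(X, ⊤))) = algebraMap L Γ(pullback f g, ⊤) ℓ := by
    intro ℓ
    have := IsPushout.inl_isoIsPushout_hom _ _ hpo' hpo
    exact congrArg (fun m => m.hom ℓ) this
  let φ : (L ⊗[k] Γ(X, ⊤)) ≃ₗ[L] Γ(pullback f g, ⊤) :=
    { e.commRingCatIsoToRingEquiv with
      map_smul' := fun ℓ x => by
        change e.hom (ℓ • x) = ℓ • e.hom x
        have h1 : ℓ • x = (ℓ ⊗ₜ[k] (1 : Γ(X, ⊤))) * x := by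
          rw [Algebra.smul_def]; rfl
        rw [h1, map_mul, he1, Algebra.smul_def] }
  have h1 : Module.finrank L (L ⊗[k] Γ(X, ⊤)) = Module.finrank k Γ(X, ⊤) :=
    Module.finrank_baseChange
  have h2 : Module.finrank L Γ(pullback f g, ⊤) = 1 := by
    rw [← (LinearEquiv.ofBijective (Algebra.linearMap L Γ(pullback f g, ⊤)) hbij).finrank_eq]
    exact Module.finrank_self L
  rw [← h1, φ.finrank_eq, h2]

end Main

/-- `h⁰(X_s, O) = 1` for the fibres of a proper at-worst-nodal family with geometrically connected
fibres -/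
theorem betti_zero_eq_one_of_nodal {X S : Scheme.{u}} (f : X ⟶ S) [IsProper f]
    (hf : Curv2.IsNodalFamily f) [GeometricallyConnected f] (s : S) :
    PerfAux.betti f (Coh.structureModule X) s 0 = 1 := by
  obtain ⟨hflat, hlfp, hfib⟩ := hf
  haveI := hflat
  haveI := hlfp
  let k : Type u := S.residueField s
  let q : f.fiber s ⟶ Spec (CommRingCat.of k) := f.fiberToSpecResidueField s
  letI : (f.fiber s).Over (Spec (CommRingCat.of k)) := ⟨q⟩
  haveI : IsProper q :=
    MorphismProperty.pullback_snd (P := @IsProper) f (S.fromSpecResidueField s) inferInstance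
  haveI : LocallyOfFiniteType ((f.fiber s) ↘ Spec (CommRingCat.of k)) :=
    MorphismProperty.pullback_snd (P := @LocallyOfFiniteType) f (S.fromSpecResidueField s)
      inferInstance
  haveI : GeometricallyConnected q :=
    inferInstanceAs (GeometricallyConnected (f.fiberToSpecResidueField s))
  have hred : IsReduced (Curv2.bc k (f.fiber s) (AlgebraicClosure k)) :=
    Groth.Agent.Lib.Helper2.NodalRedA.isReduced_bc_of_atWorstNodal k (f.fiber s) (hfib s).2
  have hconn : ConnectedSpace ↥(pullback q
      (Spec.map (CommRingCat.ofHom (algebraMap k (AlgebraicClosure k)))) : Scheme.{u}) :=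
    pullback_of_geometrically (GeometricallyConnected.geometrically_connectedSpace (f := q))
      (AlgebraicClosure k) _
  have h2 := finrank_globalSections_eq_one' k q hred hconn
  have h1 : Module.finrank k (Coh.HH (f.fiber s) (Coh.structureModule (f.fiber s)) 0) = 1 :=
    (Groth.Agent.Lib.Helper6.H0Const.finrank_hh0 k (f.fiber s)).trans h2
  have e := Groth.Agent.Lib.Helper17.StalkBC.hhEquiv k
    (Groth.Agent.Lib.Helper1.Fib.pullbackUnitIso' (f.fiberι s)) 0
  exact (LinearEquiv.finrank_eq e).trans h1

end Groth.Agent.Lib.Helper2.NodalRedB
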