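import Mathlib
import Groth.Agent.Lib.Helper3CompDim
import Groth.Agent.Lib.Helper6OpenDimD
import Groth.Agent.Lib.Helper4FibDimH
import Groth.Agent.Lib.Helper4DimFormulaG

set_option autoImplicit false
set_option linter.style.haveILetI false
universe u
open CategoryTheory CategoryTheory.Limits AlgebraicGeometry Topology TopologicalSpace

namespace Groth.Agent.Lib.Helper3.EquiDim

open Groth.Agent.Lib.Helper4.VarDim Groth.Agent.Lib.Helper4.FibDim
  Groth.Agent.Lib.Helper4.DimFormula Groth.Agent.Lib.Helper7.TopDim

theorem localDim_le_of_specializes {α : Type*} [TopologicalSpace α] {η z : α} (h : η ⤳ z) :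
    FlatMor.localDim α η ≤ FlatMor.localDim α z := by
  rw [le_localDim_iff]
  intro U hU
  exact localDim_le η U (h.mem_open U.isOpen hU)

section Field

attribute [local instance] sectionsAlgebra Curv2.resAlgebra

/-- a scheme locally of finite type over a field is equidimensional of dimension `e` iff its local
dimension is `e` at every point. -/
theorem forall_dim_irreducibleComponents_eq_iff (k : Type u) [Field k] (F : Scheme.{u})
    [F.Over (Spec (CommRingCat.of k))] [LocallyOfFiniteType (F ↘ Spec (CommRingCat.of k))] (e : ℕ) :
    (∀ Z ∈ irreducibleComponents F, topologicalKrullDim Z = (e : WithBot ℕ∞)) ↔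
      ∀ z : F, FlatMor.localDim F z = (e : WithBot ℕ∞) := by
  constructor
  · intro h z
    have hmax : ∀ ζ : F, (∀ w : F, w ⤳ ζ → w = ζ) → trdegNat k F ζ = e := by
      intro ζ hζ
      have hc : closure ({ζ} : Set F) ∈ irreducibleComponents F :=
        mem_irreducibleComponents_of_forall_specializes ζ hζ
      have := h _ hc
      rw [topologicalKrullDim_closure_singleton k F ζ] at this
      exact_mod_cast this
    apply le_antisymm
    · exact Groth.Agent.Lib.Helper6.OpenDim.localDim_le_of_forall_maximal k F z e
        (fun ζ _ hζ => (hmax ζ hζ).le)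
    · obtain ⟨η, hη, hηz⟩ := exists_maximal_specializes F z
      have h1 := localDim_eq_trdegNat_of_maximal k F η hη
      rw [hmax η hη] at h1
      rw [← h1]
      exact localDim_le_of_specializes hηz
  · intro h Z hZ
    obtain ⟨z, hz⟩ := QuasiSober.sober hZ.1 (isClosed_of_mem_irreducibleComponents _ hZ)
    have hzcl : closure ({z} : Set F) = Z := hz.def
    have hzmax : ∀ w : F, w ⤳ z → w = z := fun w hw =>
      eq_of_specializes_generic z w (by rw [hzcl]; exact hZ) hw
    rw [← hzcl, topologicalKrullDim_closure_singleton k F z,
      ← localDim_eq_trdegNat_of_maximal k F z hzmax, h]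

end Field

end Groth.Agent.Lib.Helper3.EquiDim
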