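import Mathlib
import Groth.Agent.Lib.Helper2NodalRedB
import Groth.Agent.Lib.Helper2R1RankG
import Groth.Agent.Lib.Helper3EquiDim
import Groth.Agent.Lib.Helper7TopDim
import Groth.Agent.S15985

/-!
# Higher direct images of the structure sheaf of a proper at-worst-nodal family of curves with
geometrically connected fibres (helper2)

Namespace `Groth.Agent.Lib.Helper2.NodalRedC`.
-/

set_option autoImplicit false
set_option linter.style.haveILetI false
universe u
open CategoryTheory CategoryTheory.Limits AlgebraicGeometry TopologicalSpace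

namespace Groth.Agent.Lib.Helper2.NodalRedC

/-- the fibres of an at-worst-nodal family have dimension at most one -/
theorem dim_fiber_le_one {X S : Scheme.{u}} (f : X ⟶ S) (hf : Curv2.IsNodalFamily f) (s : S) :
    topologicalKrullDim ↥(f.fiber s) ≤ 1 := by
  obtain ⟨hflat, hlfp, hfib⟩ := hf
  haveI := hlfp
  let k : Type u := S.residueField s
  letI : (f.fiber s).Over (Spec (CommRingCat.of k)) := ⟨f.fiberToSpecResidueField s⟩
  haveI : LocallyOfFiniteType ((f.fiber s) ↘ Spec (CommRingCat.of k)) :=
    MorphismProperty.pullback_snd (P := @LocallyOfFiniteType) f (S.fromSpecResidueField s)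
      inferInstance
  have h1 : ∀ Z ∈ irreducibleComponents ↥(f.fiber s),
      topologicalKrullDim Z = ((1 : ℕ) : WithBot ℕ∞) := by
    intro Z hZ
    rw [(hfib s).1 Z hZ]
    rfl
  have h2 := (Groth.Agent.Lib.Helper3.EquiDim.forall_dim_irreducibleComponents_eq_iff k
    (f.fiber s) 1).1 h1
  rw [Groth.Agent.Lib.Helper7.TopDim.topologicalKrullDim_eq_iSup_localDim]
  refine iSup_le (fun z => ?_)
  rw [h2 z]
  rfl

local instance (X : Scheme.{u}) : EnoughInjectives X.Modules :=
  Groth.Agent.Lib.Helper17.QCPush.enoughInjectives X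

theorem main {X S : Scheme.{u}} (f : X ⟶ S) [IsProper f] (hf : Curv2.IsNodalFamily f)
    [GeometricallyConnected f] :
    FlatMod.IsFinLocFree ((Coh.Rpush f 1).obj (Coh.structureModule X)) ∧
      ∀ q : ℕ, 2 ≤ q → IsZero ((Coh.Rpush f q).obj (Coh.structureModule X)) := by
  have hf' := hf
  obtain ⟨hflat, hlfp, hfib⟩ := hf'
  haveI := hflat
  haveI := hlfp
  have hO := Groth.Agent.Lib.Helper2.R1RankG.isFP_structureModule X
  have hOflat := Groth.Agent.Lib.Helper2.R1RankG.isFlatOver_structureModule f
  have hb0 : ∀ s : S, PerfAux.betti f (Coh.structureModule X) s 0 = 1 := fun s =>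
    Groth.Agent.Lib.Helper2.NodalRedB.betti_zero_eq_one_of_nodal f hf s
  have hvan : ∀ (q : ℕ), 2 ≤ q → ∀ s : S,
      Subsingleton (CohIII.fiberH f (Coh.structureModule X) s q) := fun q hq s =>
    Groth.Agent.Lib.Helper2.TopCohB.subsingleton_fiberH_of_dim_lt f
      (Coh.structureModule X) s 1 (dim_fiber_le_one f hf s) q (by omega)
  haveI : Coh.IsQCoh (Coh.structureModule X) :=
    (inferInstance : (Coh.structureModule X).IsQuasicoherent)
  refine ⟨?_, fun q hq => Groth.Agent.S15985.result f _ hO hOflat q (hvan q hq)⟩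
  refine Groth.Agent.Lib.Helper21.BC0Epi.isFinLocFree_R1 f _ hO hOflat
    (fun y => Groth.Agent.Lib.Helper2.R1RankE.epi_fibreBC_of_betti f y (hb0 y)) (fun s => ?_)
  haveI := hvan 2 le_rfl s
  exact Module.finrank_zero_of_subsingleton

end Groth.Agent.Lib.Helper2.NodalRedC
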