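import Mathlib
import Groth.Agent.Lib.Helper5KrullAkizuki

/-!
# Krull–Akizuki: primes over the maximal ideal in a finite-rank extension of a one-dimensional
Noetherian local domain
-/

universe u
open Pointwise

namespace Groth.Agent.Lib.Helper5.KrullAkizuki2

open Groth.Agent.Lib.Helper5

variable (R S K L : Type u) [CommRing R] [IsDomain R] [IsNoetherianRing R]
    [CommRing S] [IsDomain S] [Algebra R S] [Field K] [Field L] [Algebra R K] [IsFractionRing R K]
    [Algebra S L] [IsFractionRing S L] [Algebra K L] [Algebra R L] [IsScalarTower R K L]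
    [IsScalarTower R S L] [FiniteDimensional K L]

include K L

theorem length_quot_ne_top (x : R) (hx : x ≠ 0)
    (hfin : Module.length R (R ⧸ Ideal.span ({x} : Set R)) ≠ ⊤) :
    Module.length R (S ⧸ (Ideal.span ({x} : Set R) ^ 1 • (⊤ : Submodule R S))) ≠ ⊤ := by
  obtain ⟨φ, hφ⟩ : ∃ φ : S →ₗ[R] (Fin (Module.finrank K L) → K), Function.Injective φ := by
    refine ⟨((Module.finBasis K L).equivFun.restrictScalars R).toLinearMap.comp
      (IsScalarTower.toAlgHom R S L).toLinearMap, ?_⟩
    intro a b hab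
    apply IsFractionRing.injective S L
    exact ((Module.finBasis K L).equivFun.restrictScalars R).injective hab
  rw [AssocFormula.length_quot_congr (LinearEquiv.ofInjective φ hφ) (Ideal.span ({x} : Set R)) 1,
    pow_one]
  refine ne_top_of_le_ne_top ?_ (KrullAkizuki.main K _ (LinearMap.range φ) x hx hfin)
  obtain ⟨l, hl⟩ := ENat.ne_top_iff_exists.1 hfin
  rw [← hl]
  exact_mod_cast ENat.natCast_ne_top (Module.finrank K L * l)

theorem length_quot_ideal_ne_top (x : R) (hx : x ≠ 0)
    (hfin : Module.length R (R ⧸ Ideal.span ({x} : Set R)) ≠ ⊤) (I : Ideal S)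
    (hxI : algebraMap R S x ∈ I) : Module.length R (S ⧸ I) ≠ ⊤ := by
  have h := length_quot_ne_top R S K L x hx hfin
  refine ne_top_of_le_ne_top h ?_
  have hle : Ideal.span ({x} : Set R) ^ 1 • (⊤ : Submodule R S) ≤
      LinearMap.ker ((Ideal.Quotient.mkₐ R I).toLinearMap) := by
    rw [pow_one, Submodule.smul_le]
    intro a ha s _
    rw [LinearMap.mem_ker]
    obtain ⟨c, rfl⟩ := Ideal.mem_span_singleton'.1 ha
    change (Ideal.Quotient.mkₐ R I) ((c * x) • s) = 0
    rw [Ideal.Quotient.mkₐ_eq_mk, Ideal.Quotient.eq_zero_iff_mem, Algebra.smul_def, map_mul]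
    exact I.mul_mem_right _ (I.mul_mem_left _ hxI)
  refine Module.length_le_of_surjective (Submodule.liftQ _ _ hle) ?_
  intro q
  obtain ⟨s, rfl⟩ := Ideal.Quotient.mk_surjective q
  exact ⟨Submodule.Quotient.mk s, rfl⟩

theorem isArtinianRing_quot (x : R) (hx : x ≠ 0)
    (hfin : Module.length R (R ⧸ Ideal.span ({x} : Set R)) ≠ ⊤) (I : Ideal S)
    (hxI : algebraMap R S x ∈ I) : IsArtinianRing (S ⧸ I) := by
  have h1 : IsFiniteLength R (S ⧸ I) :=
    Module.length_ne_top_iff.1 (length_quot_ideal_ne_top R S K L x hx hfin I hxI)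
  have h2 : IsArtinian R (S ⧸ I) := (isFiniteLength_iff_isNoetherian_isArtinian.1 h1).2
  exact isArtinian_of_tower R h2

theorem finite_quot (x : R) (hx : x ≠ 0)
    (hfin : Module.length R (R ⧸ Ideal.span ({x} : Set R)) ≠ ⊤) (I : Ideal S)
    (hxI : algebraMap R S x ∈ I) : Module.Finite R (S ⧸ I) := by
  have h1 : IsFiniteLength R (S ⧸ I) :=
    Module.length_ne_top_iff.1 (length_quot_ideal_ne_top R S K L x hx hfin I hxI)
  have h2 : IsNoetherian R (S ⧸ I) := (isFiniteLength_iff_isNoetherian_isArtinian.1 h1).1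
  infer_instance

theorem main [IsLocalRing R] (hdim : ringKrullDim R = 1) :
    (∀ n ∈ (IsLocalRing.maximalIdeal R).primesOver S, n.IsMaximal) ∧
      ((IsLocalRing.maximalIdeal R).primesOver S).Finite ∧
      ∀ n ∈ (IsLocalRing.maximalIdeal R).primesOver S, Module.Finite R (S ⧸ n) := by
  have hm : IsLocalRing.maximalIdeal R ≠ ⊥ := by
    intro h
    have hf : IsField R := IsLocalRing.isField_iff_maximalIdeal_eq.2 h
    have h0 := ringKrullDim_eq_zero_of_isField hf
    rw [hdim] at h0
    exact absurd h0 (by decide)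
  obtain ⟨x, hxm, hx⟩ := Submodule.exists_mem_ne_zero_of_ne_bot hm
  have hfin := KrullAkizuki.length_quot_ne_top (le_of_eq hdim) x hx
  have hmem : ∀ n ∈ (IsLocalRing.maximalIdeal R).primesOver S, algebraMap R S x ∈ n := by
    intro n hn
    have hover : IsLocalRing.maximalIdeal R = n.under R := hn.2.over
    have hx' : x ∈ n.under R := hover ▸ hxm
    exact hx'
  refine ⟨fun n hn => ?_, ?_, fun n hn => finite_quot R S K L x hx hfin n (hmem n hn)⟩
  · have hp : n.IsPrime := hn.1
    have hart := isArtinianRing_quot R S K L x hx hfin n (hmem n hn)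
    have hdom : IsDomain (S ⧸ n) := Ideal.Quotient.isDomain n
    exact Ideal.Quotient.maximal_of_isField n (IsArtinianRing.isField_of_isDomain (S ⧸ n))
  · have hart := isArtinianRing_quot R S K L x hx hfin (Ideal.span {algebraMap R S x})
      (Ideal.mem_span_singleton_self _)
    have hfinP := IsArtinianRing.setOfPred_isPrime_finite (S ⧸ Ideal.span {algebraMap R S x})
    refine (hfinP.image
      (Ideal.comap (Ideal.Quotient.mk (Ideal.span {algebraMap R S x})))).subset ?_
    intro n hn
    have hp : n.IsPrime := hn.1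
    have hJn : Ideal.span {algebraMap R S x} ≤ n :=
      (Ideal.span_singleton_le_iff_mem n).2 (hmem n hn)
    refine ⟨n.map (Ideal.Quotient.mk _), ?_, ?_⟩
    · exact Ideal.map_isPrime_of_surjective Ideal.Quotient.mk_surjective (by rwa [Ideal.mk_ker])
    · rw [Ideal.comap_map_of_surjective _ Ideal.Quotient.mk_surjective,
        ← RingHom.ker_eq_comap_bot, Ideal.mk_ker, sup_eq_left.2 hJn]

end Groth.Agent.Lib.Helper5.KrullAkizuki2
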