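import Mathlib
import Groth.Agent.Lib.Helper5DetLattice
import Groth.Agent.Lib.Helper5KrullAkizuki
import Groth.Agent.Lib.Helper5KrullAkizuki2
import Groth.Agent.Lib.Helper5Lattice
import Groth.Agent.Lib.Helper5LatticeDist
import Groth.Agent.S6320

/-!
# Degree formula over a one-dimensional Noetherian domain

For `A` a one-dimensional Noetherian domain with fraction field `K`, a finite-dimensional
`K`-vector space `V`, a spanning `A`-submodule `𝔅` of `V` and a nonzero `x : A`:
`length (𝔅 / x 𝔅) ≤ dim V * ord x`, with equality iff `𝔅` is finitely generated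
(under a radical hypothesis automatic for local `A` and `x` in the maximal ideal).
-/

set_option autoImplicit false
universe u

namespace Groth.Agent.Lib.Helper5.KADegree

open Groth.Agent.Lib.Helper5

section defs

variable {A : Type u} [CommRing A] {V : Type u} [AddCommGroup V] [Module A V]

/-- `x N` as a submodule of `N` -/
def sm (x : A) (N : Submodule A V) : Submodule A N :=
  (N.map (LinearMap.lsmul A V x)).submoduleOf N

theorem mem_sm {x : A} {N : Submodule A V} (z : N) :
    z ∈ sm x N ↔ ∃ n ∈ N, x • n = (z : V) := by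
  change (z : V) ∈ N.map (LinearMap.lsmul A V x) ↔ _
  rw [Submodule.mem_map]
  rfl

/-- the map on quotients induced by an inclusion -/
noncomputable def qmap (x : A) {L 𝔅 : Submodule A V} (h : L ≤ 𝔅) :
    (L ⧸ sm x L) →ₗ[A] (𝔅 ⧸ sm x 𝔅) :=
  Submodule.mapQ _ _ (Submodule.inclusion h) (by
    intro z hz
    rw [mem_sm] at hz
    obtain ⟨n, hn, hnz⟩ := hz
    rw [Submodule.mem_comap, mem_sm]
    exact ⟨n, h hn, hnz⟩)

end defs

section lattice

variable (A : Type u) [CommRing A] [IsDomain A] [IsNoetherianRing A] (K : Type u) [Field K]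
  [Algebra A K] [IsFractionRing A K] {V : Type u} [AddCommGroup V] [Module K V] [Module A V]
  [IsScalarTower A K V] [FiniteDimensional K V]

omit [IsNoetherianRing A] [FiniteDimensional K V] in
include K in
theorem smul_injective' {x : A} (hx : x ≠ 0) {v w : V} (h : x • v = x • w) : v = w := by
  rw [← algebraMap_smul K x v, ← algebraMap_smul K x w] at h
  exact smul_right_injective V (Lattice.map_ne_zero' K hx) h

theorem length_quot_smul_lattice (hdim : ringKrullDim A ≤ 1) (M : Submodule A V)
    [hM : Submodule.IsLattice K M] (x : A) (hx : x ≠ 0) :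
    Module.length A (M ⧸ sm x M) = (Module.finrank K V : ℕ∞) * Ring.ord A x := by
  classical
  have : Ring.KrullDimLE 1 A := Ring.krullDimLE_iff.mpr hdim
  have hxK : algebraMap A K x ≠ 0 := Lattice.map_ne_zero' K hx
  obtain ⟨φ, hφ⟩ : ∃ φ : V ≃ₗ[K] V, φ = LinearEquiv.smulOfNeZero K V (algebraMap A K x) hxK :=
    ⟨_, rfl⟩
  have hφ_apply : ∀ v, φ v = x • v := fun v => by
    rw [hφ]
    exact algebraMap_smul K x v
  have hmap : φ.toLinearMap.restrictScalars A = LinearMap.lsmul A V x :=
    LinearMap.ext fun v => hφ_apply v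
  obtain ⟨f1, f2, heq⟩ := DetLattice.main A K hdim M φ
  rw [hmap] at f1 f2 heq
  have hle : M.map (LinearMap.lsmul A V x) ≤ M := by
    rintro _ ⟨m, hm, rfl⟩
    exact M.smul_mem x hm
  rw [inf_eq_right.mpr hle] at f1 f2 heq
  have e2 : Module.length A (↥(M.map (LinearMap.lsmul A V x)) ⧸
      (M.map (LinearMap.lsmul A V x)).submoduleOf (M.map (LinearMap.lsmul A V x))) = 0 := by
    rw [Submodule.submoduleOf_self, Module.length_eq_zero_iff]
    infer_instance
  rw [e2] at heq
  have hdet : LinearMap.det φ.toLinearMap =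
      algebraMap A K (x ^ Module.finrank K V) / algebraMap A K 1 := by
    have h1 : φ.toLinearMap = (algebraMap A K x) • LinearMap.id := by
      ext v
      rw [hφ]
      rfl
    rw [h1, LinearMap.det_smul, LinearMap.det_id, mul_one, map_one, div_one, map_pow]
  rw [hdet, DetLattice.ordFrac_div A hdim K (pow_ne_zero _ hx) one_ne_zero, Ring.ord_one,
    Ring.ord_pow (mem_nonZeroDivisors_of_ne_zero hx)] at heq
  have hordx : Ring.ord A x ≠ ⊤ := Ring.ord_ne_top (mem_nonZeroDivisors_of_ne_zero hx)
  have hne : Module.finrank K V • Ring.ord A x ≠ ⊤ := by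
    rw [nsmul_eq_mul]
    exact WithTop.mul_ne_top (ENat.natCast_ne_top _) hordx
  simp only [ENat.toNat_zero, Nat.cast_zero, sub_zero, Nat.cast_inj] at heq
  change Module.length A (M ⧸ (M.map (LinearMap.lsmul A V x)).submoduleOf M) = _
  rw [← ENat.natCast_toNat f1.ne, heq, ENat.natCast_toNat hne, nsmul_eq_mul]

omit [IsNoetherianRing A] in
/-- a lattice inside a spanning submodule -/
theorem exists_lattice_le (𝔅 : Submodule A V) (hspan : Submodule.span K (𝔅 : Set V) = ⊤) :
    ∃ M0 : Submodule A V, M0 ≤ 𝔅 ∧ M0.FG ∧ Submodule.span K (M0 : Set V) = ⊤ := by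
  classical
  have hb := Module.finBasis K V
  choose dd hdd hdd' using fun v : V => Lattice.exists_smul_mem K 𝔅 v (by rw [hspan]; trivial)
  refine ⟨Submodule.span A (Set.range fun i => dd (hb i) • hb i), ?_, ?_, ?_⟩
  · rw [Submodule.span_le]
    rintro _ ⟨i, rfl⟩
    exact hdd' _
  · exact Submodule.fg_span (Set.finite_range _)
  · rw [eq_top_iff, ← hb.span_eq, Submodule.span_le]
    rintro _ ⟨i, rfl⟩
    have hd0 : algebraMap A K (dd (hb i)) ≠ 0 := Lattice.map_ne_zero' K (hdd _)
    have hv' : hb i = (algebraMap A K (dd (hb i)))⁻¹ • (dd (hb i) • hb i) := by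
      rw [← algebraMap_smul K (dd (hb i)) (hb i), smul_smul, inv_mul_cancel₀ hd0, one_smul]
    rw [hv']
    exact Submodule.smul_mem _ _ (Submodule.subset_span (Submodule.subset_span ⟨i, rfl⟩))

omit [IsNoetherianRing A] in
theorem exists_lattice_range (𝔅 : Submodule A V) (hspan : Submodule.span K (𝔅 : Set V) = ⊤)
    (x : A) (P : Submodule A (𝔅 ⧸ sm x 𝔅)) (hP : P.FG) :
    ∃ (L : Submodule A V) (hL : L ≤ 𝔅), Submodule.IsLattice K L ∧
      P ≤ LinearMap.range (qmap x hL) := by
  classical
  obtain ⟨M0, hM0le, hM0fg, hM0span⟩ := exists_lattice_le A K 𝔅 hspan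
  obtain ⟨s, hs⟩ := hP
  choose pre hpre using fun q : (𝔅 ⧸ sm x 𝔅) => Submodule.mkQ_surjective (sm x 𝔅) q
  obtain ⟨L, hLdef⟩ : ∃ L : Submodule A V,
      L = Submodule.span A ((fun q => (pre q : V)) '' (s : Set (𝔅 ⧸ sm x 𝔅))) ⊔ M0 := ⟨_, rfl⟩
  have hLle : L ≤ 𝔅 := by
    rw [hLdef]
    refine sup_le (Submodule.span_le.2 ?_) hM0le
    rintro _ ⟨q, _, rfl⟩
    exact (pre q).2
  refine ⟨L, hLle, ⟨?_, ?_⟩, ?_⟩
  · rw [hLdef]
    exact (Submodule.fg_span (s.finite_toSet.image _)).sup hM0fg
  · rw [eq_top_iff, ← hM0span]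
    apply Submodule.span_mono
    rw [hLdef]
    exact (le_sup_right : M0 ≤ _)
  · rw [← hs, Submodule.span_le]
    intro q hq
    have hmem : (pre q : V) ∈ L := by
      rw [hLdef]
      exact Submodule.mem_sup_left (Submodule.subset_span ⟨q, hq, rfl⟩)
    exact ⟨Submodule.Quotient.mk ⟨(pre q : V), hmem⟩, hpre q⟩

theorem length_quot_smul_le (hdim : ringKrullDim A ≤ 1) (𝔅 : Submodule A V)
    (hspan : Submodule.span K (𝔅 : Set V) = ⊤) (x : A) (hx : x ≠ 0) :
    Module.length A (𝔅 ⧸ sm x 𝔅) ≤ (Module.finrank K V : ℕ∞) * Ring.ord A x := by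
  classical
  have : Ring.KrullDimLE 1 A := Ring.krullDimLE_iff.mpr hdim
  have hordx : Ring.ord A x ≠ ⊤ := Ring.ord_ne_top (mem_nonZeroDivisors_of_ne_zero hx)
  obtain ⟨k, hk⟩ := ENat.ne_top_iff_exists.mp hordx
  rw [← hk, ← Nat.cast_mul]
  refine KrullAkizuki.length_le_of_forall_fg (Module.finrank K V * k) fun P hP => ?_
  obtain ⟨L, hLle, hLlat, hPL⟩ := exists_lattice_range A K 𝔅 hspan x P hP
  have h1 : Module.length A P ≤ Module.length A (LinearMap.range (qmap x hLle)) :=
    Module.length_le_of_injective (Submodule.inclusion hPL) (Submodule.inclusion_injective hPL)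
  have h2 : Module.length A (LinearMap.range (qmap x hLle)) ≤ Module.length A (L ⧸ sm x L) :=
    Module.length_le_of_surjective (qmap x hLle).rangeRestrict
      (LinearMap.surjective_rangeRestrict _)
  have h3 := length_quot_smul_lattice A K hdim L x hx
  rw [Nat.cast_mul, hk]
  exact h1.trans (h2.trans (le_of_eq h3))

theorem fg_of_length_quot_smul_eq (hdim : ringKrullDim A ≤ 1) (𝔅 : Submodule A V)
    (hspan : Submodule.span K (𝔅 : Set V) = ⊤) (x : A) (hx : x ≠ 0)
    (hrad : ∀ a : A, a ≠ 0 → ∃ k : ℕ, x ^ k ∈ Ideal.span {a})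
    (heq : Module.length A (𝔅 ⧸ sm x 𝔅) = (Module.finrank K V : ℕ∞) * Ring.ord A x) :
    𝔅.FG := by
  classical
  have : Ring.KrullDimLE 1 A := Ring.krullDimLE_iff.mpr hdim
  have hordx : Ring.ord A x ≠ ⊤ := Ring.ord_ne_top (mem_nonZeroDivisors_of_ne_zero hx)
  have hfin : Module.length A (𝔅 ⧸ sm x 𝔅) ≠ ⊤ := by
    rw [heq]
    exact WithTop.mul_ne_top (ENat.natCast_ne_top _) hordx
  have hfl : IsFiniteLength A (𝔅 ⧸ sm x 𝔅) := Module.length_ne_top_iff.mp hfin
  have hnoeth : IsNoetherian A (𝔅 ⧸ sm x 𝔅) :=
    (isFiniteLength_iff_isNoetherian_isArtinian.1 hfl).1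
  have htopfg : (⊤ : Submodule A (𝔅 ⧸ sm x 𝔅)).FG := IsNoetherian.noetherian ⊤
  obtain ⟨L, hLle, hLlat, hPL⟩ := exists_lattice_range A K 𝔅 hspan x ⊤ htopfg
  have hsurj : Function.Surjective (qmap x hLle) :=
    LinearMap.range_eq_top.mp (top_le_iff.mp hPL)
  have hlen : Module.length A (L ⧸ sm x L) = Module.length A (𝔅 ⧸ sm x 𝔅) := by
    rw [heq]
    exact length_quot_smul_lattice A K hdim L x hx
  have hinj : Function.Injective (qmap x hLle) := by
    have key := Module.length_eq_add_of_exact (LinearMap.ker (qmap x hLle)).subtype (qmap x hLle)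
      (Submodule.injective_subtype _) hsurj (LinearMap.exact_subtype_ker_map _)
    rw [hlen] at key
    have h0 : Module.length A (LinearMap.ker (qmap x hLle)) = 0 := by
      have h' : Module.length A (𝔅 ⧸ sm x 𝔅) + Module.length A (LinearMap.ker (qmap x hLle)) =
          Module.length A (𝔅 ⧸ sm x 𝔅) + 0 := by
        rw [add_zero, add_comm]
        exact key.symm
      exact ENat.add_right_injective_of_ne_top hfin h'
    rw [Module.length_eq_zero_iff] at h0
    rw [← LinearMap.ker_eq_bot]
    exact Submodule.eq_bot_of_subsingleton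
  have hstar : ∀ b ∈ 𝔅, x • b ∈ L → b ∈ L := by
    intro b hb hxb
    have hz : qmap x hLle (Submodule.Quotient.mk ⟨x • b, hxb⟩) = 0 := by
      change Submodule.Quotient.mk (Submodule.inclusion hLle ⟨x • b, hxb⟩) = 0
      rw [Submodule.Quotient.mk_eq_zero, mem_sm]
      exact ⟨b, hb, rfl⟩
    have hz0 := hinj (hz.trans (map_zero _).symm)
    rw [Submodule.Quotient.mk_eq_zero, mem_sm] at hz0
    obtain ⟨n, hn, hnb⟩ := hz0
    have hnb' : n = b := smul_injective' A K hx hnb
    exact hnb' ▸ hn
  have hpow : ∀ k : ℕ, ∀ b ∈ 𝔅, x ^ k • b ∈ L → b ∈ L := by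
    intro k
    induction k with
    | zero =>
      intro b _ h
      rwa [pow_zero, one_smul] at h
    | succ k ih =>
      intro b hb h
      rw [pow_succ', mul_smul] at h
      exact ih b hb (hstar _ (𝔅.smul_mem _ hb) h)
  have hle : 𝔅 ≤ L := by
    intro b hb
    obtain ⟨a, ha, hab⟩ := Lattice.exists_smul_mem K L b (by rw [hLlat.span_eq_top]; trivial)
    obtain ⟨k, hk⟩ := hrad a ha
    obtain ⟨c, hc⟩ := Ideal.mem_span_singleton'.mp hk
    refine hpow k b hb ?_
    rw [← hc, mul_smul]
    exact L.smul_mem c hab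
  rw [le_antisymm hle hLle]
  exact hLlat.fg

theorem length_quot_smul_eq_iff (hdim : ringKrullDim A ≤ 1) (𝔅 : Submodule A V)
    (hspan : Submodule.span K (𝔅 : Set V) = ⊤) (x : A) (hx : x ≠ 0)
    (hrad : ∀ a : A, a ≠ 0 → ∃ k : ℕ, x ^ k ∈ Ideal.span {a}) :
    Module.length A (𝔅 ⧸ sm x 𝔅) = (Module.finrank K V : ℕ∞) * Ring.ord A x ↔ 𝔅.FG := by
  constructor
  · exact fg_of_length_quot_smul_eq A K hdim 𝔅 hspan x hx hrad
  · intro hfg
    have : Submodule.IsLattice K 𝔅 := ⟨hfg, hspan⟩
    exact length_quot_smul_lattice A K hdim 𝔅 x hx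

end lattice

section rad

theorem exists_pow_mem_span {A : Type u} [CommRing A] [IsDomain A] [IsLocalRing A]
    (hdim : ringKrullDim A ≤ 1) (x : A) (hx : x ∈ IsLocalRing.maximalIdeal A) (a : A)
    (ha : a ≠ 0) : ∃ k : ℕ, x ^ k ∈ Ideal.span {a} := by
  have hmem : x ∈ (Ideal.span {a}).radical := by
    rw [Ideal.radical_eq_sInf, Ideal.mem_sInf]
    rintro p ⟨hap, hp⟩
    have hpbot : p ≠ ⊥ := by
      rintro rfl
      exact ha (by simpa using hap (Ideal.subset_span rfl))
    have h1 : Ring.KrullDimLE 1 A := Ring.krullDimLE_iff.mpr hdim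
    have hpmax : p.IsMaximal := (Ring.krullDimLE_one_iff_of_noZeroDivisors.mp h1) p hpbot hp
    rw [IsLocalRing.eq_maximalIdeal hpmax]
    exact hx
  exact hmem

end rad

section ring

variable (A B K L : Type u) [CommRing A] [IsDomain A] [IsNoetherianRing A]
    [CommRing B] [IsDomain B] [Algebra A B] [Field K] [Field L] [Algebra A K] [IsFractionRing A K]
    [Algebra B L] [IsFractionRing B L] [Algebra K L] [Algebra A L] [IsScalarTower A K L]
    [IsScalarTower A B L] [FiniteDimensional K L]

/-- the inclusion of `B` in its fraction field as an `A`-linear map -/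
noncomputable def incl : B →ₗ[A] L := (IsScalarTower.toAlgHom A B L).toLinearMap

omit [IsDomain A] [IsNoetherianRing A] [IsDomain B] [IsFractionRing B L] in
theorem incl_apply (b : B) : incl A B L b = algebraMap B L b := rfl

omit [IsDomain A] [IsNoetherianRing A] [IsDomain B] in
theorem incl_injective : Function.Injective (incl A B L) := fun x y h =>
  IsFractionRing.injective B L (by rw [← incl_apply A, ← incl_apply A, h])

include K L in
omit [IsNoetherianRing A] [IsDomain B] [IsFractionRing B L] [FiniteDimensional K L] in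
theorem algebraMap_injective : Function.Injective (algebraMap A B) := by
  intro a b h
  have h1 : algebraMap A L a = algebraMap A L b := by
    rw [IsScalarTower.algebraMap_apply A B L, h, ← IsScalarTower.algebraMap_apply A B L]
  rw [IsScalarTower.algebraMap_apply A K L, IsScalarTower.algebraMap_apply A K L] at h1
  exact IsFractionRing.injective A K ((algebraMap K L).injective h1)

include K L in
omit [IsNoetherianRing A] [IsDomain B] in
theorem isAlgebraic_of_finiteDimensional (s : B) : IsAlgebraic A s := by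
  have h1 : IsAlgebraic K (algebraMap B L s) := Algebra.IsAlgebraic.isAlgebraic _
  have h2 : IsAlgebraic A (algebraMap B L s) := (IsFractionRing.isAlgebraic_iff A K L).mpr h1
  exact (isAlgebraic_algebraMap_iff (IsFractionRing.injective B L)).mp h2

omit [IsNoetherianRing A] in
theorem span_range_incl :
    Submodule.span K ((LinearMap.range (incl A B L) : Submodule A L) : Set L) = ⊤ := by
  have hBL : Function.Injective (algebraMap B L) := IsFractionRing.injective B L
  have hAK : Function.Injective (algebraMap A K) := IsFractionRing.injective A K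
  rw [eq_top_iff]
  intro y _
  obtain ⟨b, s, hs, rfl⟩ := IsFractionRing.div_surjective (A := B) y
  have halg : IsAlgebraic A s := isAlgebraic_of_finiteDimensional A B K L s
  obtain ⟨a, ha, t, hat⟩ := halg.exists_nonzero_dvd hs
  have haK : algebraMap A K a ≠ 0 := (map_ne_zero_iff _ hAK).mpr ha
  have hsL : algebraMap B L s ≠ 0 := (map_ne_zero_iff _ hBL).mpr (nonZeroDivisors.ne_zero hs)
  have haL : algebraMap B L (algebraMap A B a) ≠ 0 := by
    rw [← IsScalarTower.algebraMap_apply A B L, IsScalarTower.algebraMap_apply A K L]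
    exact (map_ne_zero_iff _ (algebraMap K L).injective).mpr haK
  have htL : algebraMap B L t ≠ 0 := by
    intro h0
    apply haL
    rw [hat, map_mul, h0, mul_zero]
  have heq : algebraMap B L b / algebraMap B L s = (algebraMap A K a)⁻¹ • incl A B L (b * t) := by
    rw [incl_apply, Algebra.smul_def, map_inv₀, ← IsScalarTower.algebraMap_apply A K L,
      IsScalarTower.algebraMap_apply A B L, hat, map_mul, map_mul]
    field_simp
  rw [heq]
  exact Submodule.smul_mem _ _ (Submodule.subset_span ⟨b * t, rfl⟩)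

omit [IsDomain A] [IsNoetherianRing A] [IsDomain B] [IsFractionRing B L] in
theorem map_lsmul_range (x : A) :
    (LinearMap.range (incl A B L)).map (LinearMap.lsmul A L x) =
      ((Ideal.span {algebraMap A B x} : Ideal B).restrictScalars A).map (incl A B L) := by
  ext y
  constructor
  · rintro ⟨_, ⟨b, rfl⟩, rfl⟩
    refine ⟨algebraMap A B x * b, ?_, ?_⟩
    · exact Ideal.mul_mem_right _ _ (Ideal.subset_span rfl)
    · change incl A B L (algebraMap A B x * b) = x • incl A B L b
      rw [← Algebra.smul_def, map_smul]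
  · rintro ⟨z, hz, rfl⟩
    have hz' : z ∈ Ideal.span {algebraMap A B x} := hz
    obtain ⟨b, rfl⟩ := Ideal.mem_span_singleton'.mp hz'
    refine ⟨incl A B L b, ⟨b, rfl⟩, ?_⟩
    change x • incl A B L b = incl A B L (b * algebraMap A B x)
    rw [mul_comm, ← Algebra.smul_def, map_smul]

omit [IsDomain A] [IsNoetherianRing A] in
theorem length_quot_span_eq (x : A) :
    Module.length A (B ⧸ Ideal.span {algebraMap A B x}) =
      Module.length A (LinearMap.range (incl A B L) ⧸ sm x (LinearMap.range (incl A B L))) := by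
  unfold sm
  rw [map_lsmul_range, DetLattice.length_range_quot (incl A B L) (incl_injective A B L)]
  exact ((Submodule.Quotient.restrictScalarsEquiv A
    (Ideal.span {algebraMap A B x} : Ideal B)).length_eq).symm

omit [IsDomain A] [IsNoetherianRing A] in
theorem finite_iff_fg : Module.Finite A B ↔ (LinearMap.range (incl A B L)).FG := by
  rw [Module.finite_def, LinearMap.range_eq_map]
  exact ⟨fun h => h.map _, fun h => Submodule.fg_of_fg_map_injective _ (incl_injective A B L) h⟩

theorem length_le (hdim : ringKrullDim A ≤ 1) (x : A) (hx0 : x ≠ 0) :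
    Module.length A (B ⧸ Ideal.span {algebraMap A B x}) ≤
      (Module.finrank K L : ℕ∞) * Module.length A (A ⧸ Ideal.span ({x} : Set A)) := by
  rw [length_quot_span_eq A B L x]
  exact length_quot_smul_le A K hdim _ (span_range_incl A B K L) x hx0

theorem length_eq_iff [IsLocalRing A] (hdim : ringKrullDim A ≤ 1) (x : A)
    (hx : x ∈ IsLocalRing.maximalIdeal A) (hx0 : x ≠ 0) :
    Module.length A (B ⧸ Ideal.span {algebraMap A B x}) =
      (Module.finrank K L : ℕ∞) * Module.length A (A ⧸ Ideal.span ({x} : Set A)) ↔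
        Module.Finite A B := by
  rw [length_quot_span_eq A B L x, finite_iff_fg A B L]
  exact length_quot_smul_eq_iff A K hdim _ (span_range_incl A B K L) x hx0
    (exists_pow_mem_span hdim x hx)

include K L in
omit [IsNoetherianRing A] in
theorem eq_bot_of_comap_eq_bot (n : Ideal B) (hn : n.comap (algebraMap A B) = ⊥) : n = ⊥ := by
  rw [eq_bot_iff]
  intro s hs
  by_contra hs0
  have hs0' : s ≠ 0 := fun h => hs0 (by rw [h]; exact Submodule.zero_mem _)
  have halg := isAlgebraic_of_finiteDimensional A B K L s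
  obtain ⟨a, ha, t, hat⟩ := halg.exists_nonzero_dvd (mem_nonZeroDivisors_of_ne_zero hs0')
  have hmem : a ∈ n.comap (algebraMap A B) := by
    rw [Ideal.mem_comap, hat]
    exact n.mul_mem_right _ hs
  rw [hn] at hmem
  exact ha (by simpa using hmem)

include K L in
omit [IsNoetherianRing A] in
theorem comap_eq_maximalIdeal [IsLocalRing A] (hdim : ringKrullDim A ≤ 1) (n : Ideal B)
    [hn : n.IsPrime] (hbot : n ≠ ⊥) :
    n.comap (algebraMap A B) = IsLocalRing.maximalIdeal A := by
  have h1 : Ring.KrullDimLE 1 A := Ring.krullDimLE_iff.mpr hdim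
  have hp : (n.comap (algebraMap A B)).IsPrime := Ideal.comap_isPrime _ _
  have hne : n.comap (algebraMap A B) ≠ ⊥ := fun h => hbot (eq_bot_of_comap_eq_bot A B K L n h)
  exact IsLocalRing.eq_maximalIdeal
    ((Ring.krullDimLE_one_iff_of_noZeroDivisors.mp h1) _ hne hp)

include K L in
theorem finite_maximalSpectrum [IsLocalRing A] (hdim : ringKrullDim A = 1) :
    Finite (MaximalSpectrum B) := by
  classical
  obtain ⟨_, hfin, _⟩ := KrullAkizuki2.main A B K L hdim
  have hfin' : (insert ⊥ ((IsLocalRing.maximalIdeal A).primesOver B)).Finite := hfin.insert ⊥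
  have hF : Finite ↥(insert ⊥ ((IsLocalRing.maximalIdeal A).primesOver B)) := hfin'.to_subtype
  have hmem : ∀ m : MaximalSpectrum B,
      m.asIdeal ∈ insert ⊥ ((IsLocalRing.maximalIdeal A).primesOver B) := by
    intro m
    by_cases hm : m.asIdeal = ⊥
    · exact Set.mem_insert_iff.mpr (Or.inl hm)
    · have hp : m.asIdeal.IsPrime := m.isMaximal.isPrime
      exact Set.mem_insert_iff.mpr (Or.inr
        ⟨hp, ⟨(comap_eq_maximalIdeal A B K L (le_of_eq hdim) m.asIdeal hm).symm⟩⟩)
  exact Finite.of_injective
    (fun m : MaximalSpectrum B =>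
      (⟨m.asIdeal, hmem m⟩ : ↥(insert ⊥ ((IsLocalRing.maximalIdeal A).primesOver B))))
    (fun m m' h => MaximalSpectrum.ext (congrArg Subtype.val h))

omit [IsDomain A] [IsNoetherianRing A] [IsDomain B] in
/-- localising the quotient by a principal ideal -/
theorem length_localizedModule_quot (n : Ideal B) [n.IsPrime] (x : A) :
    Module.length (Localization.AtPrime n)
        (LocalizedModule n.primeCompl (B ⧸ Ideal.span {algebraMap A B x})) =
      Module.length (Localization.AtPrime n) (Localization.AtPrime n ⧸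
        Ideal.span ({algebraMap A (Localization.AtPrime n) x} : Set _)) := by
  have hloc : IsLocalizedModule n.primeCompl (Algebra.linearMap B (Localization.AtPrime n)) :=
    (isLocalizedModule_iff_isLocalization).mpr inferInstance
  have hsub : (Ideal.span {algebraMap A B x} : Ideal B).localized'
      (Localization.AtPrime n) n.primeCompl (Algebra.linearMap B (Localization.AtPrime n)) =
      Ideal.span ({algebraMap A (Localization.AtPrime n) x} : Set _) := by
    rw [Ideal.span, Submodule.localized'_span, Set.image_singleton, Algebra.linearMap_apply,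
      ← IsScalarTower.algebraMap_apply]
  have e1 := (IsLocalizedModule.iso n.primeCompl
    ((Ideal.span {algebraMap A B x} : Ideal B).toLocalizedQuotient'
      (Localization.AtPrime n) n.primeCompl
      (Algebra.linearMap B (Localization.AtPrime n)))).extendScalarsOfIsLocalization
        n.primeCompl (Localization.AtPrime n)
  rw [e1.length_eq]
  exact (Submodule.quotEquivOfEq _ _ hsub).length_eq

include K L in
theorem sum_formula [IsLocalRing A] (hdim : ringKrullDim A = 1) (x : A) (hx0 : x ≠ 0) :
    ∑ᶠ m : MaximalSpectrum B, Module.length A (B ⧸ m.asIdeal) *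
        Module.length (Localization.AtPrime m.asIdeal) (Localization.AtPrime m.asIdeal ⧸
          Ideal.span ({algebraMap A (Localization.AtPrime m.asIdeal) x} : Set _)) =
      Module.length A (B ⧸ Ideal.span {algebraMap A B x}) := by
  classical
  by_cases hu : IsUnit (algebraMap A B x)
  · have hr : Module.length A (B ⧸ Ideal.span {algebraMap A B x}) = 0 := by
      rw [Module.length_eq_zero_iff, Ideal.span_singleton_eq_top.mpr hu]
      infer_instance
    rw [hr]
    have hterm : ∀ m : MaximalSpectrum B, Module.length A (B ⧸ m.asIdeal) *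
        Module.length (Localization.AtPrime m.asIdeal) (Localization.AtPrime m.asIdeal ⧸
          Ideal.span ({algebraMap A (Localization.AtPrime m.asIdeal) x} : Set _)) = 0 := by
      intro m
      have hu' : IsUnit (algebraMap A (Localization.AtPrime m.asIdeal) x) := by
        rw [IsScalarTower.algebraMap_apply A B (Localization.AtPrime m.asIdeal)]
        exact hu.map _
      have h0 : Module.length (Localization.AtPrime m.asIdeal) (Localization.AtPrime m.asIdeal ⧸
          Ideal.span ({algebraMap A (Localization.AtPrime m.asIdeal) x} : Set _)) = 0 := by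
        rw [Module.length_eq_zero_iff, Ideal.span_singleton_eq_top.mpr hu']
        infer_instance
      rw [h0, mul_zero]
    rw [finsum_congr hterm, finsum_zero]
  · have hfinMS : Finite (MaximalSpectrum B) := finite_maximalSpectrum A B K L hdim
    have hne : ∀ n : MaximalSpectrum B, n.asIdeal ≠ ⊥ := by
      intro n hn
      have hmax : (⊥ : Ideal B).IsMaximal := hn ▸ n.isMaximal
      have hxB : algebraMap A B x ∉ (⊥ : Ideal B) := by
        intro h
        exact hx0 (algebraMap_injective A B K L (by simpa using h))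
      obtain ⟨y, i, hi, hyi⟩ := hmax.exists_inv hxB
      rw [Ideal.mem_bot.mp hi, add_zero] at hyi
      exact hu (IsUnit.of_mul_eq_one _ (by rw [mul_comm]; exact hyi))
    have hover : ∀ n : MaximalSpectrum B,
        n.asIdeal.comap (algebraMap A B) = IsLocalRing.maximalIdeal A := fun n =>
      haveI := n.isMaximal.isPrime
      comap_eq_maximalIdeal A B K L (le_of_eq hdim) n.asIdeal (hne n)
    obtain ⟨_, _, hfinq⟩ := KrullAkizuki2.main A B K L hdim
    have hfin : ∀ n : MaximalSpectrum B,
        Module.Finite (A ⧸ n.asIdeal.comap (algebraMap A B)) (B ⧸ n.asIdeal) := by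
      intro n
      have h1 : Module.Finite A (B ⧸ n.asIdeal) :=
        hfinq n.asIdeal ⟨n.isMaximal.isPrime, ⟨(hover n).symm⟩⟩
      exact Module.Finite.of_restrictScalars_finite A _ _
    have hlenA : Module.length A (B ⧸ Ideal.span {algebraMap A B x}) ≠ ⊤ := by
      have h1 : Ring.KrullDimLE 1 A := Ring.krullDimLE_iff.mpr (le_of_eq hdim)
      have hordx : Ring.ord A x ≠ ⊤ := Ring.ord_ne_top (mem_nonZeroDivisors_of_ne_zero hx0)
      exact ne_top_of_le_ne_top (WithTop.mul_ne_top (ENat.natCast_ne_top _) hordx)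
        (length_le A B K L (le_of_eq hdim) x hx0)
    have hflA : IsFiniteLength A (B ⧸ Ideal.span {algebraMap A B x}) :=
      Module.length_ne_top_iff.mp hlenA
    have hflB : IsFiniteLength B (B ⧸ Ideal.span {algebraMap A B x}) := by
      rw [isFiniteLength_iff_isNoetherian_isArtinian] at hflA ⊢
      obtain ⟨h1, h2⟩ := hflA
      exact ⟨isNoetherian_of_tower A h1, isArtinian_of_tower A h2⟩
    rw [Groth.Agent.S6320.result hover hfin (B ⧸ Ideal.span {algebraMap A B x}) hflB]
    refine finsum_congr fun n => ?_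
    haveI := n.isMaximal.isPrime
    rw [length_localizedModule_quot A B n.asIdeal x]
    congr 1
    have hmaxA : (n.asIdeal.comap (algebraMap A B)).IsMaximal := by
      rw [hover n]
      infer_instance
    letI := Ideal.Quotient.field (n.asIdeal.comap (algebraMap A B))
    haveI := hfin n
    rw [Module.length_eq_of_surjective (S := A) (R := A ⧸ n.asIdeal.comap (algebraMap A B))
      (M := B ⧸ n.asIdeal) Ideal.Quotient.mk_surjective]
    exact Module.length_eq_finrank _ _

end ring

end Groth.Agent.Lib.Helper5.KADegree
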