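import Mathlib
import Groth.Prelude.Def_Tame
import Groth.Agent.Lib.Helper5KADegree
import Groth.Agent.Lib.Helper2CycClosedImm
import Groth.Agent.Lib.Helper2CycC1

/-!
# Order of the norm (helper2)

For a one-dimensional Noetherian local domain `A` with fraction field `K`, a finite extension `L/K`
and a finite `A`-algebra `B ⊆ L` with fraction field `L`:
`ord_A (Nm_{L/K} b) = Σ_m [κ(m):κ(A)] ord_{B_m}(b)`.
-/

set_option autoImplicit false
set_option linter.style.haveILetI false

universe u

namespace Groth.Agent.Lib.Helper2.NormOrd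

open Groth.Agent.Lib.Helper5 Groth.Agent.Lib.Helper5.KADegree

section local_

variable (A B K L : Type u) [CommRing A] [IsDomain A] [IsNoetherianRing A]
    [CommRing B] [IsDomain B] [Algebra A B] [Field K] [Field L] [Algebra A K] [IsFractionRing A K]
    [Algebra B L] [IsFractionRing B L] [Algebra K L] [Algebra A L] [IsScalarTower A K L]
    [IsScalarTower A B L] [FiniteDimensional K L]

omit [IsDomain A] [IsNoetherianRing A] [IsDomain B] [IsFractionRing B L] in
theorem map_mul_range (b : B) (φA : L →ₗ[A] L) (hφA : ∀ x, φA x = algebraMap B L b * x) :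
    (LinearMap.range (incl A B L)).map φA =
      ((Ideal.span {b} : Ideal B).restrictScalars A).map (incl A B L) := by
  ext y
  constructor
  · rintro ⟨_, ⟨c, rfl⟩, rfl⟩
    refine ⟨b * c, ?_, ?_⟩
    · exact Ideal.mul_mem_right _ _ (Ideal.subset_span rfl)
    · rw [hφA, incl_apply, incl_apply, map_mul]
  · rintro ⟨z, hz, rfl⟩
    have hz' : z ∈ Ideal.span {b} := hz
    obtain ⟨c, rfl⟩ := Ideal.mem_span_singleton'.mp hz'
    refine ⟨incl A B L c, ⟨c, rfl⟩, ?_⟩
    rw [hφA, incl_apply, incl_apply, map_mul, mul_comm]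

/-- `length_A (B/bB) = ord_A (Nm b)`. -/
theorem length_quot_span_eq_ordFrac_norm [Module.Finite A B] (hdim : ringKrullDim A ≤ 1) (b : B)
    (hb : b ≠ 0) :
    Module.length A (B ⧸ Ideal.span {b}) ≠ ⊤ ∧
      ((Module.length A (B ⧸ Ideal.span {b})).toNat : ℤ) =
        CycAlg.ordFrac A K (Algebra.norm K (algebraMap B L b)) := by
  classical
  have hβ : algebraMap B L b ≠ 0 :=
    (map_ne_zero_iff _ (IsFractionRing.injective B L)).mpr hb
  obtain ⟨φ, hφ⟩ : ∃ φ : L ≃ₗ[K] L, ∀ x, φ x = algebraMap B L b * x :=
    ⟨LinearEquiv.ofBijective (LinearMap.mulLeft K (algebraMap B L b))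
      ⟨mul_right_injective₀ hβ, fun y => ⟨(algebraMap B L b)⁻¹ * y, by
        simp [mul_inv_cancel_left₀ hβ]⟩⟩, fun x => rfl⟩
  have hfg : (LinearMap.range (incl A B L)).FG := (finite_iff_fg A B L).mp inferInstance
  haveI hM : Submodule.IsLattice K (LinearMap.range (incl A B L)) :=
    ⟨hfg, span_range_incl A B K L⟩
  obtain ⟨f1, f2, heq⟩ := DetLattice.main A K hdim (LinearMap.range (incl A B L)) φ
  have hmap := map_mul_range A B L b (φ.toLinearMap.restrictScalars A) (fun x => hφ x)
  rw [hmap] at f1 f2 heq
  have hle : ((Ideal.span {b} : Ideal B).restrictScalars A).map (incl A B L) ≤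
      LinearMap.range (incl A B L) := LinearMap.map_le_range
  rw [inf_eq_right.mpr hle] at f1 f2 heq
  have e2 : Module.length A (↥(((Ideal.span {b} : Ideal B).restrictScalars A).map (incl A B L)) ⧸
      (((Ideal.span {b} : Ideal B).restrictScalars A).map (incl A B L)).submoduleOf
        (((Ideal.span {b} : Ideal B).restrictScalars A).map (incl A B L))) = 0 := by
    rw [Submodule.submoduleOf_self, Module.length_eq_zero_iff]
    infer_instance
  rw [e2] at heq
  have e1 : Module.length A (↥(LinearMap.range (incl A B L)) ⧸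
      (((Ideal.span {b} : Ideal B).restrictScalars A).map (incl A B L)).submoduleOf
        (LinearMap.range (incl A B L))) = Module.length A (B ⧸ Ideal.span {b}) := by
    rw [DetLattice.length_range_quot (incl A B L) (incl_injective A B L)]
    exact (Submodule.Quotient.restrictScalarsEquiv A (Ideal.span {b} : Ideal B)).length_eq
  rw [e1] at f1 heq
  have hdet : LinearMap.det φ.toLinearMap = Algebra.norm K (algebraMap B L b) := by
    rw [Algebra.norm_apply]
    congr 1
    ext x
    exact hφ x
  rw [hdet] at heq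
  refine ⟨f1.ne, ?_⟩
  rw [← heq]
  simp

omit [IsDomain A] [IsNoetherianRing A] [IsDomain B] [Algebra A B] [IsScalarTower A B L] in
/-- localising the quotient by a principal ideal -/
theorem length_localizedModule_quot' (n : Ideal B) [n.IsPrime] (b : B) :
    Module.length (Localization.AtPrime n)
        (LocalizedModule n.primeCompl (B ⧸ Ideal.span {b})) =
      Ring.ord (Localization.AtPrime n) (algebraMap B (Localization.AtPrime n) b) := by
  have hloc : IsLocalizedModule n.primeCompl (Algebra.linearMap B (Localization.AtPrime n)) :=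
    (isLocalizedModule_iff_isLocalization).mpr inferInstance
  have hsub : (Ideal.span {b} : Ideal B).localized'
      (Localization.AtPrime n) n.primeCompl (Algebra.linearMap B (Localization.AtPrime n)) =
      Ideal.span ({algebraMap B (Localization.AtPrime n) b} : Set _) := by
    rw [Ideal.span, Submodule.localized'_span, Set.image_singleton, Algebra.linearMap_apply]
  have e1 := (IsLocalizedModule.iso n.primeCompl
    ((Ideal.span {b} : Ideal B).toLocalizedQuotient'
      (Localization.AtPrime n) n.primeCompl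
      (Algebra.linearMap B (Localization.AtPrime n)))).extendScalarsOfIsLocalization
        n.primeCompl (Localization.AtPrime n)
  rw [e1.length_eq]
  exact (Submodule.quotEquivOfEq _ _ hsub).length_eq

/-- `ord_A (Nm b) = Σ_m [κ(m):κ(A)] ord_{B_m} b`. -/
theorem ordFrac_norm_eq_finsum [IsLocalRing A] [Module.Finite A B] (hdim : ringKrullDim A = 1)
    (b : B) (hb : b ≠ 0) :
    CycAlg.ordFrac A K (Algebra.norm K (algebraMap B L b)) =
      ∑ᶠ m : MaximalSpectrum B,
        (Module.finrank (A ⧸ m.asIdeal.comap (algebraMap A B)) (B ⧸ m.asIdeal) : ℤ) *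
          ((Ring.ord (Localization.AtPrime m.asIdeal)
            (algebraMap B (Localization.AtPrime m.asIdeal) b)).toNat : ℤ) := by
  classical
  obtain ⟨hne, heq⟩ := length_quot_span_eq_ordFrac_norm A B K L (le_of_eq hdim) b hb
  haveI hfinMS : Finite (MaximalSpectrum B) := finite_maximalSpectrum A B K L hdim
  haveI : Algebra.IsIntegral A B := Algebra.IsIntegral.of_finite A B
  have hover : ∀ n : MaximalSpectrum B,
      n.asIdeal.comap (algebraMap A B) = IsLocalRing.maximalIdeal A := fun n =>
    haveI := n.isMaximal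
    IsLocalRing.eq_maximalIdeal (Ideal.isMaximal_comap_of_isIntegral_of_isMaximal n.asIdeal)
  have hfin : ∀ n : MaximalSpectrum B,
      Module.Finite (A ⧸ n.asIdeal.comap (algebraMap A B)) (B ⧸ n.asIdeal) := fun n =>
    Module.Finite.of_restrictScalars_finite A _ _
  have hflA : IsFiniteLength A (B ⧸ Ideal.span {b}) := Module.length_ne_top_iff.mp hne
  have hflB : IsFiniteLength B (B ⧸ Ideal.span {b}) := by
    rw [isFiniteLength_iff_isNoetherian_isArtinian] at hflA ⊢
    obtain ⟨h1, h2⟩ := hflA
    exact ⟨isNoetherian_of_tower A h1, isArtinian_of_tower A h2⟩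
  have hS := Groth.Agent.S6320.result hover hfin (B ⧸ Ideal.span {b}) hflB
  haveI := Fintype.ofFinite (MaximalSpectrum B)
  rw [finsum_eq_sum_of_fintype] at hS
  have hterm : ∀ n ∈ (Finset.univ : Finset (MaximalSpectrum B)),
      (Module.finrank (A ⧸ n.asIdeal.comap (algebraMap A B)) (B ⧸ n.asIdeal) : ℕ∞) *
        Module.length (Localization.AtPrime n.asIdeal)
          (LocalizedModule n.asIdeal.primeCompl (B ⧸ Ideal.span {b})) ≠ ⊤ := by
    rw [← ENat.sum_ne_top, ← hS]
    exact hne
  rw [← heq, hS, ENat.toNat_sum hterm, Nat.cast_sum, finsum_eq_sum_of_fintype]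
  refine Finset.sum_congr rfl fun n _ => ?_
  haveI := n.isMaximal.isPrime
  rw [ENat.toNat_mul, ENat.toNat_natCast, length_localizedModule_quot' B n.asIdeal b]
  push_cast
  rfl

end local_

section ord

theorem ord_localization_eq {S B : Type u} [CommRing S] [CommRing B] [Algebra S B]
    (M : Submonoid S) [IsLocalization M B] (m : Ideal B) [m.IsPrime] (s : S) :
    Ring.ord (Localization.AtPrime m)
        (algebraMap B (Localization.AtPrime m) (algebraMap S B s)) =
      Ring.ord (Localization.AtPrime (m.comap (algebraMap S B)))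
        (algebraMap S (Localization.AtPrime (m.comap (algebraMap S B))) s) := by
  haveI : IsLocalization.AtPrime (Localization.AtPrime m) (m.comap (algebraMap S B)) :=
    IsLocalization.isLocalization_isLocalization_atPrime_isLocalization
      M (Localization.AtPrime m) m
  let e := IsLocalization.algEquiv (m.comap (algebraMap S B)).primeCompl
    (Localization.AtPrime (m.comap (algebraMap S B))) (Localization.AtPrime m)
  rw [Groth.Agent.Lib.Helper2.CycClosedImm.ord_ringEquiv e.toRingEquiv]
  congr 1
  symm
  change e (algebraMap S _ s) = _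
  rw [e.commutes, IsScalarTower.algebraMap_apply S B (Localization.AtPrime m)]

end ord

section quot

theorem isFractionRing_quot_comap {S T : Type u} [CommRing S] [CommRing T] [Algebra S T]
    (M : Submonoid S) [IsLocalization M T] (I : Ideal T) [I.IsMaximal] :
    letI := Ideal.Quotient.field I
    IsFractionRing (S ⧸ I.comap (algebraMap S T)) (T ⧸ I) := by
  letI := Ideal.Quotient.field I
  haveI : FaithfulSMul (S ⧸ I.comap (algebraMap S T)) (T ⧸ I) :=
    (faithfulSMul_iff_algebraMap_injective _ _).mpr Ideal.algebraMap_quotient_injective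
  refine IsFractionRing.of_field _ _ ?_
  intro z
  obtain ⟨t, rfl⟩ := Ideal.Quotient.mk_surjective z
  obtain ⟨⟨s, u⟩, hsu⟩ := IsLocalization.surj M t
  refine ⟨Ideal.Quotient.mk _ s, Ideal.Quotient.mk _ (u : S), ?_⟩
  have hu : IsUnit (algebraMap S T u) := IsLocalization.map_units T u
  have hu' : (Ideal.Quotient.mk I) (algebraMap S T u) ≠ 0 := (hu.map _).ne_zero
  have e1 : algebraMap (S ⧸ I.comap (algebraMap S T)) (T ⧸ I) (Ideal.Quotient.mk _ (u : S)) =
      Ideal.Quotient.mk I (algebraMap S T u) := rfl
  have e2 : algebraMap (S ⧸ I.comap (algebraMap S T)) (T ⧸ I) (Ideal.Quotient.mk _ s) =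
      Ideal.Quotient.mk I (algebraMap S T s) := rfl
  rw [e1, e2, eq_div_iff hu', ← map_mul]
  exact congrArg _ hsu

theorem finrank_quot_eq_inertiaDeg {R S : Type u} [CommRing R] [CommRing S] [Algebra R S]
    (M₀ : Submonoid R) (A : Type u) [CommRing A] [Algebra R A] [IsLocalization M₀ A]
    (B : Type u) [CommRing B] [Algebra S B] [IsLocalization (Algebra.algebraMapSubmonoid S M₀) B]
    [Algebra A B] [Algebra R B] [IsScalarTower R S B] [IsScalarTower R A B]
    [Algebra.IsIntegral A B] (m : Ideal B) [m.IsMaximal] :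
    Module.finrank (A ⧸ m.comap (algebraMap A B)) (B ⧸ m) =
      (m.comap (algebraMap S B)).inertiaDeg R := by
  haveI hm'max : (m.comap (algebraMap A B)).IsMaximal :=
    Ideal.isMaximal_comap_of_isIntegral_of_isMaximal m
  haveI : (m.comap (algebraMap S B)).IsPrime := Ideal.comap_isPrime _ _
  haveI : ((m.comap (algebraMap A B)).comap (algebraMap R A)).IsPrime := Ideal.comap_isPrime _ _
  haveI : (m.comap (algebraMap S B)).LiesOver ((m.comap (algebraMap A B)).comap (algebraMap R A)) := by
    constructor
    change _ = (m.comap (algebraMap S B)).comap (algebraMap R S)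
    rw [Ideal.comap_comap, Ideal.comap_comap, ← IsScalarTower.algebraMap_eq,
      ← IsScalarTower.algebraMap_eq]
  letI : Field (A ⧸ m.comap (algebraMap A B)) := Ideal.Quotient.field _
  letI : Field (B ⧸ m) := Ideal.Quotient.field m
  haveI : IsScalarTower R (R ⧸ (m.comap (algebraMap A B)).comap (algebraMap R A))
      (A ⧸ m.comap (algebraMap A B)) := IsScalarTower.of_algebraMap_eq (fun r => rfl)
  haveI : IsScalarTower S (S ⧸ m.comap (algebraMap S B)) (B ⧸ m) :=
    IsScalarTower.of_algebraMap_eq (fun r => rfl)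
  haveI : IsScalarTower R (A ⧸ m.comap (algebraMap A B)) (B ⧸ m) := by
    refine IsScalarTower.of_algebraMap_eq (fun r => ?_)
    change Ideal.Quotient.mk m (algebraMap R B r) =
      Ideal.Quotient.mk m (algebraMap A B (algebraMap R A r))
    rw [← IsScalarTower.algebraMap_apply R A B]
  haveI : IsFractionRing (R ⧸ (m.comap (algebraMap A B)).comap (algebraMap R A))
      (A ⧸ m.comap (algebraMap A B)) :=
    isFractionRing_quot_comap M₀ (m.comap (algebraMap A B))
  haveI : IsFractionRing (S ⧸ m.comap (algebraMap S B)) (B ⧸ m) :=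
    isFractionRing_quot_comap (Algebra.algebraMapSubmonoid S M₀) m
  exact (Ideal.inertiaDeg_eq_of_isFractionRing ((m.comap (algebraMap A B)).comap (algebraMap R A))
    (m.comap (algebraMap S B)) (A ⧸ m.comap (algebraMap A B)) (B ⧸ m)).symm


end quot

section global

variable {R S : Type u} [CommRing R] [CommRing S] [Algebra R S]
  (𝔭 : Ideal R) [𝔭.IsPrime]
  (A : Type u) [CommRing A] [Algebra R A] [IsLocalization.AtPrime A 𝔭]
  (B : Type u) [CommRing B] [Algebra S B]
  [IsLocalization (Algebra.algebraMapSubmonoid S 𝔭.primeCompl) B]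
  [Algebra A B] [Algebra R B] [IsScalarTower R S B] [IsScalarTower R A B]

omit [IsLocalization (Algebra.algebraMapSubmonoid S 𝔭.primeCompl) B] in
theorem comap_mem_primesOver [Algebra.IsIntegral A B] (m : Ideal B) [m.IsMaximal] :
    m.comap (algebraMap S B) ∈ 𝔭.primesOver S := by
  haveI := IsLocalization.AtPrime.isLocalRing A 𝔭
  have h1 := IsLocalization.AtPrime.mem_primesOver_of_isPrime A B (Q := m)
  haveI : m.LiesOver (IsLocalRing.maximalIdeal A) := h1.2
  exact ⟨Ideal.comap_isPrime _ _, IsLocalization.AtPrime.liesOver_comap_of_liesOver 𝔭 A m⟩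

theorem map_isMaximal_of_mem_primesOver [Algebra.IsIntegral A B] (𝔮 : Ideal S)
    (h𝔮 : 𝔮 ∈ 𝔭.primesOver S) :
    (𝔮.map (algebraMap S B)).IsMaximal ∧ (𝔮.map (algebraMap S B)).comap (algebraMap S B) = 𝔮 := by
  haveI := IsLocalization.AtPrime.isLocalRing A 𝔭
  haveI := h𝔮.1
  haveI := h𝔮.2
  haveI hprime := IsLocalization.AtPrime.isPrime_map_of_liesOver S 𝔭 B 𝔮
  have hlies := IsLocalization.AtPrime.liesOver_map_of_liesOver 𝔭 A B 𝔮
  refine ⟨?_, ?_⟩
  · apply Ideal.isMaximal_of_isIntegral_of_isMaximal_comap (R := A)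
    have h2 : (𝔮.map (algebraMap S B)).comap (algebraMap A B) = IsLocalRing.maximalIdeal A :=
      hlies.over.symm
    rw [h2]
    infer_instance
  · exact IsLocalization.under_map_of_isPrime_disjoint
      (Algebra.algebraMapSubmonoid S 𝔭.primeCompl) B h𝔮.1
      (Ideal.disjoint_primeCompl_of_liesOver 𝔮 𝔭)

/-- the bijection between maximal ideals of `B = S_𝔭` and primes of `S` over `𝔭`. -/
theorem bijective_comap [Algebra.IsIntegral A B] :
    Function.Bijective (fun m : MaximalSpectrum B =>
      (⟨m.asIdeal.comap (algebraMap S B),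
        haveI := m.isMaximal
        comap_mem_primesOver 𝔭 A B m.asIdeal⟩ : 𝔭.primesOver S)) := by
  constructor
  · intro m m' h
    have h1 : m.asIdeal.comap (algebraMap S B) = m'.asIdeal.comap (algebraMap S B) :=
      congrArg Subtype.val h
    apply MaximalSpectrum.ext
    rw [← IsLocalization.map_under (Algebra.algebraMapSubmonoid S 𝔭.primeCompl) B m.asIdeal,
      ← IsLocalization.map_under (Algebra.algebraMapSubmonoid S 𝔭.primeCompl) B m'.asIdeal]
    exact congrArg (Ideal.map (algebraMap S B)) h1
  · rintro ⟨𝔮, h𝔮⟩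
    obtain ⟨hmax, hcomap⟩ := map_isMaximal_of_mem_primesOver 𝔭 A B 𝔮 h𝔮
    exact ⟨⟨𝔮.map (algebraMap S B), hmax⟩, Subtype.ext hcomap⟩

end global

section main

variable {R S : Type u} [CommRing R] [CommRing S] [IsDomain R] [IsDomain S] [IsNoetherianRing R]
  [Algebra R S] [Module.Finite R S] (𝔭 : Ideal R) [𝔭.IsPrime]
  (A : Type u) [CommRing A] [Algebra R A] [IsLocalization.AtPrime A 𝔭]
  (K L : Type u) [Field K] [Field L] [Algebra R K] [IsFractionRing R K] [Algebra S L]
  [IsFractionRing S L] [Algebra K L] [Algebra R L] [IsScalarTower R K L] [IsScalarTower R S L]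
  [FiniteDimensional K L] [Algebra A K] [IsScalarTower R A K]

include K L in
omit [IsDomain R] [IsDomain S] [IsNoetherianRing R] [Module.Finite R S] [IsFractionRing S L]
  [FiniteDimensional K L] in
theorem algebraMap_injective_of_tower : Function.Injective (algebraMap R S) := by
  intro a b h
  have h1 : algebraMap R L a = algebraMap R L b := by
    rw [IsScalarTower.algebraMap_apply R S L, h, ← IsScalarTower.algebraMap_apply R S L]
  rw [IsScalarTower.algebraMap_apply R K L, IsScalarTower.algebraMap_apply R K L] at h1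
  exact IsFractionRing.injective R K ((algebraMap K L).injective h1)

theorem ordFrac_norm_eq_finsum_primesOver (hdim : ringKrullDim A = 1) (s : S) (hs : s ≠ 0) :
    CycAlg.ordFrac A K (Algebra.norm K (algebraMap S L s)) =
      ∑ᶠ 𝔮 : 𝔭.primesOver S, (𝔮.1.inertiaDeg R : ℤ) *
        ((Ring.ord (Localization.AtPrime 𝔮.1)
          (algebraMap S (Localization.AtPrime 𝔮.1) s)).toNat : ℤ) := by
  classical
  have hinjRS : Function.Injective (algebraMap R S) := algebraMap_injective_of_tower K L
  have hM : Algebra.algebraMapSubmonoid S 𝔭.primeCompl ≤ nonZeroDivisors S := by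
    rintro _ ⟨r, hr, rfl⟩
    apply mem_nonZeroDivisors_of_ne_zero
    intro h0
    have hr0 : r = 0 := hinjRS (by rw [h0, map_zero])
    exact hr (hr0 ▸ 𝔭.zero_mem)
  haveI : IsDomain (Localization (Algebra.algebraMapSubmonoid S 𝔭.primeCompl)) :=
    IsLocalization.isDomain_localization hM
  letI : Algebra A (Localization (Algebra.algebraMapSubmonoid S 𝔭.primeCompl)) :=
    localizationAlgebra 𝔭.primeCompl S
  haveI : IsScalarTower R A (Localization (Algebra.algebraMapSubmonoid S 𝔭.primeCompl)) :=
    isScalarTower_localizationAlgebra 𝔭.primeCompl S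
  have hunits : ∀ y : Algebra.algebraMapSubmonoid S 𝔭.primeCompl, IsUnit (algebraMap S L y) :=
    fun y => isUnit_iff_ne_zero.mpr
      ((map_ne_zero_iff _ (IsFractionRing.injective S L)).mpr (nonZeroDivisors.ne_zero (hM y.2)))
  letI : Algebra (Localization (Algebra.algebraMapSubmonoid S 𝔭.primeCompl)) L :=
    (IsLocalization.lift (M := Algebra.algebraMapSubmonoid S 𝔭.primeCompl) hunits).toAlgebra
  haveI : IsScalarTower S (Localization (Algebra.algebraMapSubmonoid S 𝔭.primeCompl)) L :=
    IsScalarTower.of_algebraMap_eq (fun x => (IsLocalization.lift_eq hunits x).symm)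
  haveI : IsFractionRing (Localization (Algebra.algebraMapSubmonoid S 𝔭.primeCompl)) L :=
    IsFractionRing.isFractionRing_of_isDomain_of_isLocalization
      (Algebra.algebraMapSubmonoid S 𝔭.primeCompl) _ L
  haveI : IsLocalRing A := IsLocalization.AtPrime.isLocalRing A 𝔭
  haveI : IsDomain A :=
    IsLocalization.isDomain_of_le_nonZeroDivisors A (M := 𝔭.primeCompl)
      𝔭.primeCompl_le_nonZeroDivisors
  haveI : IsNoetherianRing A := IsLocalization.isNoetherianRing 𝔭.primeCompl A inferInstance
  haveI : IsFractionRing A K :=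
    IsFractionRing.isFractionRing_of_isDomain_of_isLocalization 𝔭.primeCompl A K
  letI : Algebra A L := ((algebraMap K L).comp (algebraMap A K)).toAlgebra
  haveI : IsScalarTower A K L := IsScalarTower.of_algebraMap_eq (fun _ => rfl)
  haveI : IsScalarTower A (Localization (Algebra.algebraMapSubmonoid S 𝔭.primeCompl)) L := by
    refine IsScalarTower.of_algebraMap_eq' ?_
    apply IsLocalization.ringHom_ext 𝔭.primeCompl
    ext r
    change algebraMap K L (algebraMap A K (algebraMap R A r)) =
      algebraMap (Localization (Algebra.algebraMapSubmonoid S 𝔭.primeCompl)) L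
        (algebraMap A (Localization (Algebra.algebraMapSubmonoid S 𝔭.primeCompl))
          (algebraMap R A r))
    rw [← IsScalarTower.algebraMap_apply R A K, ← IsScalarTower.algebraMap_apply R K L,
      ← IsScalarTower.algebraMap_apply R A (Localization (Algebra.algebraMapSubmonoid S 𝔭.primeCompl)),
      IsScalarTower.algebraMap_apply R S (Localization (Algebra.algebraMapSubmonoid S 𝔭.primeCompl)),
      ← IsScalarTower.algebraMap_apply S (Localization (Algebra.algebraMapSubmonoid S 𝔭.primeCompl)) L,
      ← IsScalarTower.algebraMap_apply R S L]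
  haveI : Module.Finite A (Localization (Algebra.algebraMapSubmonoid S 𝔭.primeCompl)) :=
    Module.Finite.of_isLocalization R S 𝔭.primeCompl
  have hsB : algebraMap S (Localization (Algebra.algebraMapSubmonoid S 𝔭.primeCompl)) s ≠ 0 :=
    (map_ne_zero_iff _ (IsLocalization.injective _ hM)).mpr hs
  have key := ordFrac_norm_eq_finsum A (Localization (Algebra.algebraMapSubmonoid S 𝔭.primeCompl))
    K L hdim _ hsB
  rw [← IsScalarTower.algebraMap_apply S
    (Localization (Algebra.algebraMapSubmonoid S 𝔭.primeCompl)) L] at key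
  rw [key]
  haveI : Algebra.IsIntegral A (Localization (Algebra.algebraMapSubmonoid S 𝔭.primeCompl)) :=
    Algebra.IsIntegral.of_finite A _
  refine finsum_eq_of_bijective _
    (bijective_comap 𝔭 A (Localization (Algebra.algebraMapSubmonoid S 𝔭.primeCompl)))
    (fun m => ?_)
  haveI := m.isMaximal
  haveI := m.isMaximal.isPrime
  have e1 := finrank_quot_eq_inertiaDeg (R := R) (S := S) 𝔭.primeCompl A
    (Localization (Algebra.algebraMapSubmonoid S 𝔭.primeCompl)) m.asIdeal
  have e2 := ord_localization_eq (S := S) (B := Localization (Algebra.algebraMapSubmonoid S 𝔭.primeCompl))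
    (Algebra.algebraMapSubmonoid S 𝔭.primeCompl) m.asIdeal s
  rw [e1, e2]

theorem ordFrac_norm_div_eq_finsum (hdim : ringKrullDim A = 1) (s t : S) (hs : s ≠ 0)
    (ht : t ≠ 0) :
    CycAlg.ordFrac A K (Algebra.norm K (algebraMap S L s / algebraMap S L t)) =
      ∑ᶠ 𝔮 : 𝔭.primesOver S, (𝔮.1.inertiaDeg R : ℤ) *
        (((Ring.ord (Localization.AtPrime 𝔮.1)
            (algebraMap S (Localization.AtPrime 𝔮.1) s)).toNat : ℤ) -
          ((Ring.ord (Localization.AtPrime 𝔮.1)
            (algebraMap S (Localization.AtPrime 𝔮.1) t)).toNat : ℤ)) := by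
  classical
  have hsL : algebraMap S L s ≠ 0 := (map_ne_zero_iff _ (IsFractionRing.injective S L)).mpr hs
  have htL : algebraMap S L t ≠ 0 := (map_ne_zero_iff _ (IsFractionRing.injective S L)).mpr ht
  have hns : Algebra.norm K (algebraMap S L s) ≠ 0 := Algebra.norm_ne_zero_iff.mpr hsL
  have hnt : Algebra.norm K (algebraMap S L t) ≠ 0 := Algebra.norm_ne_zero_iff.mpr htL
  have hinv : Algebra.norm K (algebraMap S L t)⁻¹ = (Algebra.norm K (algebraMap S L t))⁻¹ := by
    apply eq_inv_of_mul_eq_one_right
    rw [← map_mul, mul_inv_cancel₀ htL, map_one]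
  rw [div_eq_mul_inv, map_mul, hinv,
    Groth.Agent.Lib.Helper2.CycC1.ordFrac_mul A K _ _ hns (inv_ne_zero hnt),
    Groth.Agent.Lib.Helper2.CycC1.ordFrac_inv A K _ hnt,
    ordFrac_norm_eq_finsum_primesOver 𝔭 A K L hdim s hs,
    ordFrac_norm_eq_finsum_primesOver 𝔭 A K L hdim t ht]
  haveI : Fintype (𝔭.primesOver S) := (Algebra.QuasiFinite.finite_primesOver _).fintype
  rw [finsum_eq_sum_of_fintype, finsum_eq_sum_of_fintype, finsum_eq_sum_of_fintype,
    ← sub_eq_add_neg, ← Finset.sum_sub_distrib]
  refine Finset.sum_congr rfl fun 𝔮 _ => ?_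
  rw [mul_sub]

end main

end Groth.Agent.Lib.Helper2.NormOrd

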