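import Groth.Agent.Lib.Helper2NormOrdA
import Groth.Agent.Lib.Helper2CycOrd
import Groth.Agent.Lib.Helper2CycFinFlat
import Groth.Agent.Lib.Helper3QFinDim
import Groth.Agent.Lib.Helper4VarDim10

/-!
# Proper pushforward of a principal divisor: scheme-side glue (helper2)

* `isLocalization_locQuot`, `isFractionRing_residueField`, `ordAt_eq_sub`: on an integral scheme,
  `O_{X,x}/𝔭_η` is the localisation of `Γ(X, W)` at the prime of `x`, `κ(η)` is the fraction field
  of `Γ(X, W)`, and `ord_x(s/t) = ord_{Γ_𝔮}(s) - ord_{Γ_𝔮}(t)`.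
* `quasiFiniteAt_of_trdeg_eq_zero`: if all residue field extensions over the fibre are algebraic,
  then `p` is quasi-finite at the points of the fibre.
* `exists_finite_chart`: a proper morphism quasi-finite over `y` is finite over an affine
  neighbourhood of `y`.
* `bijOn_primeIdealOf'`: the fibre over `y` corresponds to the primes over `𝔭_y` in a chart.
-/

set_option autoImplicit false
set_option linter.style.haveILetI false

universe u

open AlgebraicGeometry CategoryTheory IsLocalRing TopologicalSpace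

namespace Groth.Agent.Lib.Helper2.NormOrdB

open Groth.Agent.Lib.Helper2.CycOrd Groth.Agent.Lib.Helper4.VarDim
  Groth.Agent.Lib.Helper2.CycFinFlat

section single

variable {X : Scheme.{u}} [IsIntegral X]

theorem ker_specMap_eq_bot (x ξ : X) (hξ : ξ = genericPoint X) (h : ξ ⤳ x) :
    RingHom.ker (Cyc.specMap x ξ h) = ⊥ := by
  subst hξ
  exact ker_specMap_genericPoint x h

theorem specializes_of_eq_genericPoint (ξ : X) (hξ : ξ = genericPoint X) (x : X) : ξ ⤳ x := by
  subst hξ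
  exact (genericPoint_spec X).specializes (Set.mem_univ x)

/-- the algebra structure `Γ(X, W) → O_{X,x}/𝔭_ξ`. -/
noncomputable abbrev sectionLocQuotAlgebra {W : X.Opens} (x : X) (hx : x ∈ W) (ξ : X) (h : ξ ⤳ x) :
    Algebra Γ(X, W) (Cyc.LocQuot x ξ h) :=
  ((Ideal.Quotient.mk (RingHom.ker (Cyc.specMap x ξ h))).comp
    (X.presheaf.germ W x hx).hom).toAlgebra

/-- the algebra structure `Γ(X, W) → κ(ξ)`. -/
noncomputable abbrev sectionResidueAlgebra {W : X.Opens} (ξ : X) (hξW : ξ ∈ W) :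
    Algebra Γ(X, W) (X.residueField ξ) :=
  (X.presheaf.germ W ξ hξW ≫ X.residue ξ).hom.toAlgebra

theorem isLocalization_locQuot {W : X.Opens} (hW : IsAffineOpen W) (x : X) (hx : x ∈ W) (ξ : X)
    (hξ : ξ = genericPoint X) (h : ξ ⤳ x) :
    letI := sectionLocQuotAlgebra x hx ξ h
    IsLocalization.AtPrime (Cyc.LocQuot x ξ h) (hW.primeIdealOf ⟨x, hx⟩).asIdeal := by
  letI := sectionLocQuotAlgebra x hx ξ h
  letI : Algebra Γ(X, W) (X.presheaf.stalk x) := (X.presheaf.germ W x hx).hom.toAlgebra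
  haveI h1 : IsLocalization.AtPrime (X.presheaf.stalk x) (hW.primeIdealOf ⟨x, hx⟩).asIdeal :=
    hW.isLocalization_stalk ⟨x, hx⟩
  have hker := ker_specMap_eq_bot x ξ hξ h
  have hbij : Function.Bijective (Ideal.Quotient.mk (RingHom.ker (Cyc.specMap x ξ h))) := by
    refine ⟨?_, Ideal.Quotient.mk_surjective⟩
    rw [RingHom.injective_iff_ker_eq_bot, Ideal.mk_ker, hker]
  let e : X.presheaf.stalk x ≃ₐ[Γ(X, W)] Cyc.LocQuot x ξ h :=
    AlgEquiv.ofRingEquiv (f := RingEquiv.ofBijective _ hbij) (fun r => rfl)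
  exact IsLocalization.isLocalization_of_algEquiv _ e

omit [IsIntegral X] in
theorem isScalarTower_locQuot {W : X.Opens} (x : X) (hx : x ∈ W) (ξ : X) (h : ξ ⤳ x)
    (hξW : ξ ∈ W) :
    letI := sectionLocQuotAlgebra x hx ξ h
    letI := sectionResidueAlgebra ξ hξW
    IsScalarTower Γ(X, W) (Cyc.LocQuot x ξ h) (X.residueField ξ) := by
  letI := sectionLocQuotAlgebra x hx ξ h
  letI := sectionResidueAlgebra ξ hξW
  refine IsScalarTower.of_algebraMap_eq (fun r => ?_)
  change (X.residue ξ).hom ((X.presheaf.germ W ξ hξW).hom r) =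
    algebraMap (Cyc.LocQuot x ξ h) (X.residueField ξ)
      (Ideal.Quotient.mk _ ((X.presheaf.germ W x hx).hom r))
  rw [algebraMap_locQuot_mk]
  change _ = (X.residue ξ).hom ((X.presheaf.stalkSpecializes h).hom ((X.presheaf.germ W x hx).hom r))
  congr 1
  exact (ConcreteCategory.congr_hom (X.presheaf.germ_stalkSpecializes hx h) r).symm

theorem isFractionRing_residueField {W : X.Opens} (hW : IsAffineOpen W) (ξ : X)
    (hξ : ξ = genericPoint X) (hξW : ξ ∈ W) :
    letI := sectionResidueAlgebra ξ hξW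
    IsFractionRing Γ(X, W) (X.residueField ξ) := by
  subst hξ
  letI := sectionResidueAlgebra (genericPoint X) hξW
  haveI : Nonempty W := ⟨⟨genericPoint X, hξW⟩⟩
  haveI h1 : IsFractionRing Γ(X, W) X.functionField :=
    functionField_isFractionRing_of_isAffineOpen X W hW
  have hbij : Function.Bijective (X.residue (genericPoint X)).hom := by
    refine ⟨?_, IsLocalRing.residue_surjective⟩
    rw [RingHom.injective_iff_ker_eq_bot]
    change RingHom.ker (IsLocalRing.residue _) = ⊥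
    rw [IsLocalRing.ker_residue]
    exact IsLocalRing.maximalIdeal_eq_bot (R := X.functionField)
  let e : X.functionField ≃ₐ[Γ(X, W)] X.residueField (genericPoint X) :=
    AlgEquiv.ofRingEquiv (f := RingEquiv.ofBijective _ hbij) (fun r => rfl)
  exact IsLocalization.isLocalization_of_algEquiv _ e

theorem ordAt_eq_sub [IsLocallyNoetherian X] {W : X.Opens} (hW : IsAffineOpen W) (x : X)
    (hx : x ∈ W) (ξ : X) (hξ : ξ = genericPoint X) (h : ξ ⤳ x) (hξW : ξ ∈ W)
    (hdim : ringKrullDim (Cyc.LocQuot x ξ h) ≤ 1) (s t : Γ(X, W)) (hs : s ≠ 0) (ht : t ≠ 0) :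
    letI := sectionResidueAlgebra ξ hξW
    Cyc.ordAt x ξ h (algebraMap Γ(X, W) (X.residueField ξ) s /
        algebraMap Γ(X, W) (X.residueField ξ) t) =
      ((Ring.ord (Localization.AtPrime (hW.primeIdealOf ⟨x, hx⟩).asIdeal)
          (algebraMap Γ(X, W) _ s)).toNat : ℤ) -
        ((Ring.ord (Localization.AtPrime (hW.primeIdealOf ⟨x, hx⟩).asIdeal)
          (algebraMap Γ(X, W) _ t)).toNat : ℤ) := by
  letI := sectionResidueAlgebra ξ hξW
  letI := sectionLocQuotAlgebra x hx ξ h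
  haveI := isLocalization_locQuot hW x hx ξ hξ h
  haveI := isScalarTower_locQuot x hx ξ h hξW
  haveI := isFractionRing_locQuot x ξ h
  haveI := isFractionRing_residueField hW ξ hξ hξW
  have hinj : Function.Injective (algebraMap Γ(X, W) (X.residueField ξ)) :=
    IsFractionRing.injective _ _
  have hne : ∀ r : Γ(X, W), r ≠ 0 → algebraMap Γ(X, W) (Cyc.LocQuot x ξ h) r ≠ 0 := by
    intro r hr h0
    apply hr
    apply hinj
    rw [IsScalarTower.algebraMap_apply Γ(X, W) (Cyc.LocQuot x ξ h) (X.residueField ξ), h0,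
      map_zero, map_zero]
  unfold Cyc.ordAt
  rw [IsScalarTower.algebraMap_apply Γ(X, W) (Cyc.LocQuot x ξ h) (X.residueField ξ) s,
    IsScalarTower.algebraMap_apply Γ(X, W) (Cyc.LocQuot x ξ h) (X.residueField ξ) t,
    Groth.Agent.Lib.Helper5.DetLattice.ordFrac_div (Cyc.LocQuot x ξ h) hdim (X.residueField ξ)
      (hne s hs) (hne t ht)]
  let e := IsLocalization.algEquiv (hW.primeIdealOf ⟨x, hx⟩).asIdeal.primeCompl
    (Localization.AtPrime (hW.primeIdealOf ⟨x, hx⟩).asIdeal) (Cyc.LocQuot x ξ h)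
  have he : ∀ r : Γ(X, W), Ring.ord (Localization.AtPrime (hW.primeIdealOf ⟨x, hx⟩).asIdeal)
      (algebraMap Γ(X, W) _ r) =
      Ring.ord (Cyc.LocQuot x ξ h) (algebraMap Γ(X, W) (Cyc.LocQuot x ξ h) r) := by
    intro r
    rw [Groth.Agent.Lib.Helper2.CycClosedImm.ord_ringEquiv e.toRingEquiv]
    congr 1
    exact e.commutes r
  rw [he s, he t]

end single

section chart

variable {X Y : Scheme.{u}} (p : X ⟶ Y)

theorem quasiFiniteAt_of_trdeg_eq_zero [LocallyOfFiniteType p] [QuasiCompact p] (x : X)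
    (h0 : ∀ x' : X, p x' = p x →
      @Algebra.trdeg (Y.residueField (p x')) (X.residueField x') _ _
        (p.residueFieldMap x').hom.toAlgebra = 0) :
    p.QuasiFiniteAt x := by
  rw [Groth.Agent.Lib.Helper3.QFinDim.quasiFiniteAt_iff_fibreDimAt_le_zero]
  letI : (p.fiber (p x)).Over (Spec (CommRingCat.of (Y.residueField (p x)))) :=
    ⟨p.fiberToSpecResidueField (p x)⟩
  haveI : LocallyOfFiniteType ((p.fiber (p x)) ↘ Spec (CommRingCat.of (Y.residueField (p x)))) :=
    locallyOfFiniteType_fiberToSpecResidueField p (p x)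
  unfold FlatMor.fibreDimAt FlatMor.localDim
  refine iInf_le_of_le ⟨⊤, trivial⟩ ?_
  rw [Opens.coe_top]
  haveI : QuasiSober (Set.univ : Set (p.fiber (p x))) :=
    quasiSober_of_isLocallyClosed _ isClosed_univ.isLocallyClosed
  refine topologicalKrullDim_le_of_forall_trdegNat_le (Y.residueField (p x)) (p.fiber (p x))
    Set.univ 0 ?_
  intro z _
  have hz : p (p.fiberι (p x) z) = p x := (p.fiberHomeo (p x) z).2
  have h1 := trdeg_residueFieldMap_eq_trdegNat_fiber p (p x) z (p.fiberι (p x) z) rfl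
  rw [h0 _ hz] at h1
  have h2 : trdegNat (Y.residueField (p x)) (p.fiber (p x)) z = 0 := by
    exact_mod_cast h1.symm
  rw [h2]
  rfl

theorem exists_finite_chart [IsProper p] (y : Y) (hqf : ∀ x, p x = y → p.QuasiFiniteAt x) :
    ∃ U : Y.Opens, IsAffineOpen U ∧ y ∈ U ∧ IsAffineOpen (p ⁻¹ᵁ U) ∧
      (p.appLE U (p ⁻¹ᵁ U) le_rfl).hom.Finite := by
  let V : Y.Opens := ⟨_, (p.isClosedMap _ p.quasiFiniteLocus.isOpen.isClosed_compl).isOpen_compl⟩
  have hyV : y ∈ V := by
    suffices ∀ x, p x = y → p.QuasiFiniteAt x by simpa [V, not_imp_not]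
    exact hqf
  haveI hfin : IsFinite (p ∣_ V) := by
    suffices LocallyQuasiFinite (p ∣_ V) from .of_isProper_of_locallyQuasiFinite _
    rw [← Scheme.Hom.quasiFiniteLocus_eq_top_iff]
    ext x
    have : p.QuasiFiniteAt ((p ⁻¹ᵁ V).ι x) := by by_contra H; exact x.2 ⟨_, H, by simp⟩
    rw [← Scheme.Hom.quasiFiniteAt_comp_iff_of_isOpenImmersion, ← morphismRestrict_ι,
      Scheme.Hom.quasiFiniteAt_comp_iff] at this
    simpa
  obtain ⟨_, ⟨U', hU', rfl⟩, hyU', -⟩ :=
    V.toScheme.isBasis_affineOpens.exists_subset_of_mem_open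
      (Set.mem_univ (⟨y, hyV⟩ : V.toScheme)) isOpen_univ
  have hW' : IsAffineOpen ((p ∣_ V) ⁻¹ᵁ U') := hU'.preimage (p ∣_ V)
  have hW : IsAffineOpen (p ⁻¹ᵁ (V.ι ''ᵁ U')) := by
    rw [← image_morphismRestrict_preimage]
    exact hW'.image_of_isOpenImmersion _
  refine ⟨V.ι ''ᵁ U', hU'.image_of_isOpenImmersion V.ι, ⟨⟨y, hyV⟩, hyU', rfl⟩, hW, ?_⟩
  rw [← Scheme.Hom.app_eq_appLE]
  have h1 : ((p ∣_ V).app U').hom.Finite := (p ∣_ V).finite_app U' hU'
  rw [morphismRestrict_app] at h1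
  exact (RingHom.finite_respectsIso.cancel_right_isIso _ _).mp h1

end chart

section bij

open Classical

variable {X Y : Scheme.{u}} (f : X ⟶ Y)

theorem bijOn_primeIdealOf' {U : Y.Opens} (hU : IsAffineOpen U) (hV : IsAffineOpen (f ⁻¹ᵁ U))
    (y : Y) (hyU : y ∈ U) :
    letI := (f.appLE U (f ⁻¹ᵁ U) le_rfl).hom.toAlgebra
    Set.BijOn (fun x : X => if h : x ∈ f ⁻¹ᵁ U then
        (hV.primeIdealOf ⟨x, h⟩).asIdeal else ⊥)
      (f ⁻¹' {y}) ((hU.primeIdealOf ⟨y, hyU⟩).asIdeal.primesOver Γ(X, f ⁻¹ᵁ U)) := by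
  letI := (f.appLE U (f ⁻¹ᵁ U) le_rfl).hom.toAlgebra
  refine ⟨?_, ?_, ?_⟩
  · intro x hx
    have hx' : f x = y := hx
    have hxV : x ∈ f ⁻¹ᵁ U := by
      change f x ∈ U
      rw [hx']
      exact hyU
    simp only [dif_pos hxV]
    have h1 := chart_liesOver f hU hV le_rfl x hxV
    have h2 : hU.primeIdealOf ⟨y, hyU⟩ = hU.primeIdealOf ⟨f x, hxV⟩ := by
      congr 1
      exact Subtype.ext hx'.symm
    rw [h2]
    exact ⟨(hV.primeIdealOf ⟨x, hxV⟩).isPrime, h1⟩
  · intro x hx x' hx' hee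
    have hxV : x ∈ f ⁻¹ᵁ U := by
      change f x ∈ U
      rw [show f x = y from hx]
      exact hyU
    have hxV' : x' ∈ f ⁻¹ᵁ U := by
      change f x' ∈ U
      rw [show f x' = y from hx']
      exact hyU
    simp only [dif_pos hxV, dif_pos hxV'] at hee
    have h1 : hV.primeIdealOf ⟨x, hxV⟩ = hV.primeIdealOf ⟨x', hxV'⟩ := PrimeSpectrum.ext hee
    have h2 := congrArg (fun q => hV.fromSpec q) h1
    simp only [hV.fromSpec_primeIdealOf] at h2
    exact h2
  · rintro q ⟨hqprime, hqlies⟩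
    let Q : PrimeSpectrum Γ(X, f ⁻¹ᵁ U) := ⟨q, hqprime⟩
    have hxV : hV.fromSpec Q ∈ f ⁻¹ᵁ U := by
      have h3 : hV.fromSpec Q ∈ Set.range hV.fromSpec := Set.mem_range_self Q
      rw [hV.range_fromSpec] at h3
      exact h3
    have hprime : hV.primeIdealOf ⟨hV.fromSpec Q, hxV⟩ = Q := by
      apply hV.fromSpec.isOpenEmbedding.injective
      rw [hV.fromSpec_primeIdealOf]
    have hfx : f (hV.fromSpec Q) = y := by
      have h4 := congrArg (fun g : Spec Γ(X, f ⁻¹ᵁ U) ⟶ Y => g Q)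
        (IsAffineOpen.SpecMap_appLE_fromSpec f hU hV le_rfl)
      simp only [Scheme.Hom.comp_apply] at h4
      rw [← h4]
      have h5 : Spec.map (f.appLE U (f ⁻¹ᵁ U) le_rfl) Q = hU.primeIdealOf ⟨y, hyU⟩ := by
        apply PrimeSpectrum.ext
        exact (hqlies.over).symm
      rw [h5, hU.fromSpec_primeIdealOf]
    refine ⟨hV.fromSpec Q, hfx, ?_⟩
    simp only [dif_pos hxV]
    rw [hprime]

end bij

end Groth.Agent.Lib.Helper2.NormOrdB
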