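import Groth.Agent.Lib.Helper2NormOrdB
import Groth.Prelude.Def_ChowOps

/-!
# `p_* div f = div Nm f` for a proper dominant generically finite morphism of integral schemes
(helper2): `map_divFun_eq`.
-/

set_option autoImplicit false
set_option linter.style.haveILetI false

universe u

open AlgebraicGeometry CategoryTheory IsLocalRing TopologicalSpace

namespace Groth.Agent.Lib.Helper2.NormOrdB

open Groth.Agent.Lib.Helper2.CycOrd Groth.Agent.Lib.Helper4.VarDim
  Groth.Agent.Lib.Helper2.CycFinFlat Groth.Agent.Lib.Helper2.NormOrd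

section main

open Classical

theorem map_divFun_eq (X Y : Scheme.{u}) [IsIntegral X] [IsIntegral Y] (δX : X → ℤ) (δY : Y → ℤ)
    (hX : Cyc.IsSetup X δX) (hY : Cyc.IsSetup Y δY) (p : X ⟶ Y) [IsProper p]
    (hδ : Cyc.DeltaCompat p δX δY) (hdom : p (genericPoint X) = genericPoint Y)
    (hn : δX (genericPoint X) = δY (genericPoint Y)) (f : X.residueField (genericPoint X))
    (hf : f ≠ 0) (α : AlgebraicCycle X ℤ) (hα : ⇑α = Cyc.divFun δX (genericPoint X) f) :
    ⇑(AlgebraicCycle.map p δX δY α) =
      Cyc.divFun δY (p (genericPoint X)) (Cyc.normGen p (genericPoint X) f) := by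
  funext y
  haveI : IsLocallyNoetherian X := hX.1
  haveI : IsLocallyNoetherian Y := hY.1
  have hηspec : ∀ x : X, genericPoint X ⤳ x :=
    fun x => specializes_of_eq_genericPoint (genericPoint X) rfl x
  have hξspec : ∀ y : Y, p (genericPoint X) ⤳ y :=
    fun y => specializes_of_eq_genericPoint (p (genericPoint X)) hdom y
  have hnξ : δX (genericPoint X) = δY (p (genericPoint X)) := by rw [hn, ← hdom]
  simp only [AlgebraicCycle.map, Function.locallyFinsupp.map_apply]
  by_cases hy : δY y + 1 = δY (p (genericPoint X))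
  · -- every point of the fibre has the same dimension as `y` and algebraic residue field
    have hfib : ∀ x : X, p x = y → δX x = δY y ∧
        @Algebra.trdeg (Y.residueField (p x)) (X.residueField x) _ _
          (p.residueFieldMap x).hom.toAlgebra = 0 := by
      intro x hxy
      obtain ⟨n, hn', hδn⟩ := hδ x
      have hne : genericPoint X ≠ x := by
        intro h
        rw [← h] at hxy
        rw [hxy] at hy
        omega
      have hlt := (hX.2.2 (genericPoint X) x (hηspec x) hne).1
      rw [hxy] at hδn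
      have hn0 : n = 0 := by omega
      subst hn0
      refine ⟨by simpa using hδn, ?_⟩
      rw [hn']
      simp
    have hqf : ∀ x, p x = y → p.QuasiFiniteAt x := by
      intro x hxy
      apply quasiFiniteAt_of_trdeg_eq_zero p x
      intro x' hx'
      exact (hfib x' (hx'.trans hxy)).2
    obtain ⟨U, hU, hyU, hW, hfin⟩ := exists_finite_chart p y hqf
    have hξU : p (genericPoint X) ∈ U := (hξspec y).mem_open U.2 hyU
    have hηW : genericPoint X ∈ p ⁻¹ᵁ U := hξU
    letI algRS : Algebra Γ(Y, U) Γ(X, p ⁻¹ᵁ U) := (p.appLE U (p ⁻¹ᵁ U) le_rfl).hom.toAlgebra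
    haveI : Module.Finite Γ(Y, U) Γ(X, p ⁻¹ᵁ U) := hfin
    haveI : Nonempty U := ⟨⟨y, hyU⟩⟩
    haveI : Nonempty (p ⁻¹ᵁ U) := ⟨⟨genericPoint X, hηW⟩⟩
    haveI : IsNoetherianRing Γ(Y, U) := IsLocallyNoetherian.component_noetherian ⟨U, hU⟩
    letI algRK := sectionResidueAlgebra (X := Y) (W := U) (p (genericPoint X)) hξU
    letI algSL := sectionResidueAlgebra (X := X) (W := p ⁻¹ᵁ U) (genericPoint X) hηW
    letI algKL : Algebra (Y.residueField (p (genericPoint X))) (X.residueField (genericPoint X)) :=
      (p.residueFieldMap (genericPoint X)).hom.toAlgebra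
    letI algRL : Algebra Γ(Y, U) (X.residueField (genericPoint X)) :=
      ((algebraMap (Y.residueField (p (genericPoint X))) (X.residueField (genericPoint X))).comp
        (algebraMap Γ(Y, U) (Y.residueField (p (genericPoint X))))).toAlgebra
    haveI : IsScalarTower Γ(Y, U) (Y.residueField (p (genericPoint X)))
        (X.residueField (genericPoint X)) := IsScalarTower.of_algebraMap_eq (fun _ => rfl)
    haveI : IsScalarTower Γ(Y, U) Γ(X, p ⁻¹ᵁ U) (X.residueField (genericPoint X)) := by
      refine IsScalarTower.of_algebraMap_eq (fun r => ?_)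
      change (p.residueFieldMap (genericPoint X)).hom ((Y.residue (p (genericPoint X))).hom
          ((Y.presheaf.germ U (p (genericPoint X)) hξU).hom r)) =
        (X.residue (genericPoint X)).hom ((X.presheaf.germ (p ⁻¹ᵁ U) (genericPoint X) hηW).hom
          ((p.appLE U (p ⁻¹ᵁ U) le_rfl).hom r))
      have e1 := ConcreteCategory.congr_hom (Scheme.residue_residueFieldMap p (genericPoint X))
        ((Y.presheaf.germ U (p (genericPoint X)) hξU).hom r)
      have e2 := ConcreteCategory.congr_hom
        (Scheme.Hom.germ_stalkMap p U (genericPoint X) hξU) r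
      rw [← Scheme.Hom.app_eq_appLE]
      exact e1.trans (congrArg (X.residue (genericPoint X)).hom e2)
    haveI : IsFractionRing Γ(Y, U) (Y.residueField (p (genericPoint X))) :=
      isFractionRing_residueField hU (p (genericPoint X)) hdom hξU
    haveI : IsFractionRing Γ(X, p ⁻¹ᵁ U) (X.residueField (genericPoint X)) :=
      isFractionRing_residueField hW (genericPoint X) rfl hηW
    letI algRA := sectionLocQuotAlgebra (X := Y) (W := U) y hyU (p (genericPoint X)) (hξspec y)
    haveI : IsLocalization.AtPrime (Cyc.LocQuot y (p (genericPoint X)) (hξspec y))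
        (hU.primeIdealOf ⟨y, hyU⟩).asIdeal :=
      isLocalization_locQuot hU y hyU (p (genericPoint X)) hdom (hξspec y)
    haveI : IsScalarTower Γ(Y, U) (Cyc.LocQuot y (p (genericPoint X)) (hξspec y))
        (Y.residueField (p (genericPoint X))) :=
      isScalarTower_locQuot y hyU (p (genericPoint X)) (hξspec y) hξU
    have hdimA : ringKrullDim (Cyc.LocQuot y (p (genericPoint X)) (hξspec y)) = 1 := by
      obtain ⟨k, hk, hδk⟩ := Groth.Agent.Lib.Helper4.DimFormula.isDimFun_eq_add_locQuotDim Y δY
        hY.2.2 y (p (genericPoint X)) (hξspec y)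
      have hk1 : k = 1 := by omega
      rw [hk, hk1]
      rfl
    haveI : FiniteDimensional (Y.residueField (p (genericPoint X)))
        (X.residueField (genericPoint X)) := by
      have h1 := chart_inertiaDeg p hU hW le_rfl (genericPoint X) hηW
      unfold Scheme.Hom.residueDegree at h1
      haveI := (hW.primeIdealOf ⟨genericPoint X, hηW⟩).isPrime
      have hpos : 0 < Module.finrank (Y.residueField (p (genericPoint X)))
          (X.residueField (genericPoint X)) := by
        rw [h1]
        exact Ideal.inertiaDeg_pos _ _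
      exact Module.finite_of_finrank_pos hpos
    obtain ⟨s, t, ht, hst⟩ := IsFractionRing.div_surjective (A := Γ(X, p ⁻¹ᵁ U)) f
    have ht0 : (t : Γ(X, p ⁻¹ᵁ U)) ≠ 0 := nonZeroDivisors.ne_zero ht
    have hs0 : s ≠ 0 := by
      intro h0
      apply hf
      rw [← hst, h0, map_zero, zero_div]
    -- the right-hand side
    have hR : Cyc.divFun δY (p (genericPoint X)) (Cyc.normGen p (genericPoint X) f) y =
        CycAlg.ordFrac (Cyc.LocQuot y (p (genericPoint X)) (hξspec y))
          (Y.residueField (p (genericPoint X)))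
          (Algebra.norm (Y.residueField (p (genericPoint X))) f) := by
      unfold Cyc.divFun
      rw [dif_pos ⟨hξspec y, hy⟩]
      rfl
    rw [hR, ← hst, ordFrac_norm_div_eq_finsum (hU.primeIdealOf ⟨y, hyU⟩).asIdeal
      (Cyc.LocQuot y (p (genericPoint X)) (hξspec y)) (Y.residueField (p (genericPoint X)))
      (X.residueField (genericPoint X)) hdimA s t hs0 ht0]
    let G : Ideal Γ(X, p ⁻¹ᵁ U) → ℤ := fun 𝔮 =>
      if h : 𝔮.IsPrime then
        (𝔮.inertiaDeg Γ(Y, U) : ℤ) *
          (((Ring.ord (Localization.AtPrime 𝔮) (algebraMap Γ(X, p ⁻¹ᵁ U) _ s)).toNat : ℤ) -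
            ((Ring.ord (Localization.AtPrime 𝔮) (algebraMap Γ(X, p ⁻¹ᵁ U) _ (t : Γ(X, p ⁻¹ᵁ U)))).toNat : ℤ))
      else 0
    have hbij := bijOn_primeIdealOf' p hU hW y hyU
    have hterm : ∀ x ∈ p ⁻¹' {y}, α x * ((AlgebraicCycle.mapCoeff p δX δY x : ℕ) : ℤ) =
        G ((fun x : X => if h : x ∈ p ⁻¹ᵁ U then (hW.primeIdealOf ⟨x, h⟩).asIdeal else ⊥) x) := by
      intro x hx
      have hxy : p x = y := hx
      have hxW : x ∈ p ⁻¹ᵁ U := by
        change p x ∈ U
        rw [hxy]
        exact hyU
      obtain ⟨hδx, -⟩ := hfib x hxy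
      have hδx1 : δX x + 1 = δX (genericPoint X) := by rw [hδx, hy, hnξ]
      have hdimx : ringKrullDim (Cyc.LocQuot x (genericPoint X) (hηspec x)) ≤ 1 :=
        ringKrullDim_locQuot_le_one δX hX.2.2 x (genericPoint X) (hηspec x) hδx1
      simp only [dif_pos hxW]
      haveI := (hW.primeIdealOf ⟨x, hxW⟩).isPrime
      simp only [G]
      rw [dif_pos (hW.primeIdealOf ⟨x, hxW⟩).isPrime]
      have h1 : α x = Cyc.ordAt x (genericPoint X) (hηspec x) f := by
        rw [hα]
        unfold Cyc.divFun
        rw [dif_pos ⟨hηspec x, hδx1⟩]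
      have h2 : AlgebraicCycle.mapCoeff p δX δY x = p.residueDegree x := by
        unfold AlgebraicCycle.mapCoeff
        rw [if_pos (by rw [hδx, hxy])]
      rw [h1, h2, ← hst, ordAt_eq_sub hW x hxW (genericPoint X) rfl (hηspec x) hηW hdimx s t hs0 ht0,
        chart_inertiaDeg p hU hW le_rfl x hxW, mul_comm]
    rw [finsum_mem_eq_of_bijOn (g := G) _ hbij hterm, ← finsum_set_coe_eq_finsum_mem]
    refine finsum_congr (fun 𝔮 => ?_)
    simp only [G]
    rw [dif_pos 𝔮.2.1]
  · have hR : Cyc.divFun δY (p (genericPoint X)) (Cyc.normGen p (genericPoint X) f) y = 0 := by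
      unfold Cyc.divFun
      rw [dif_neg (fun h => hy h.2)]
    rw [hR]
    apply finsum_mem_eq_zero_of_forall_eq_zero
    intro x hx
    have hxy : p x = y := hx
    unfold AlgebraicCycle.mapCoeff
    split_ifs with h1
    · have h2 : α x = 0 := by
        rw [hα]
        unfold Cyc.divFun
        rw [dif_neg]
        rintro ⟨-, h2⟩
        apply hy
        rw [← hxy, ← h1, h2, hnξ]
      rw [h2, zero_mul]
    · simp

end main

end Groth.Agent.Lib.Helper2.NormOrdB
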