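import Mathlib
import Groth.Agent.Lib.Helper20RelCartier

set_option autoImplicit false
universe u
open TensorProduct

namespace Groth.Agent.Lib.Helper2.NzdFlat

open Groth.Agent.Lib.Helper20 in
/-- `B` Noetherian local `A`-algebra, `a ∈ 𝔪_B` a nonzerodivisor with `B/aB` flat over `A`. Then `B`
is flat over `A`. -/
theorem flat_of_flat_quotient_nzd {A B : Type u} [CommRing A] [CommRing B] [Algebra A B]
    [IsNoetherianRing B] [IsLocalRing B] (a : B) (ha : a ∈ IsLocalRing.maximalIdeal B)
    (hreg : a ∈ nonZeroDivisors B) [hfl : Module.Flat A (B ⧸ Ideal.span {a})] : Module.Flat A B := by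
  have h1 : ∀ n : ℕ, Module.Flat A (B ⧸ Ideal.span {a ^ (n + 1)}) := by
    intro n
    induction n with
    | zero =>
      have e : a ^ (0 + 1) = a := by simp
      rw [e]
      exact hfl
    | succ n ih =>
      have e : a ^ (n + 1 + 1) = a ^ (n + 1) * a := pow_succ _ _
      rw [e]
      haveI := ih
      exact RelCartier.flat_of_exact (RelCartier.mulQ (A := A) (a ^ (n + 1)) a)
        (RelCartier.facQ (A := A) (a ^ (n + 1)) a)
        (RelCartier.mulQ_injective _ _ (pow_mem hreg _)) (RelCartier.facQ_surjective _ _)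
        (RelCartier.exact_mulQ_facQ _ _)
  rw [Module.Flat.iff_lTensor_injective]
  intro I hI
  haveI : Module.Finite A I := Module.Finite.iff_fg.2 hI
  haveI : Module.Finite B (B ⊗[A] I) := inferInstance
  rw [injective_iff_map_eq_zero]
  intro z hz
  have key : ∀ n : ℕ, z ∈ ((Ideal.span {a}) ^ (n + 1) • ⊤ : Submodule B (B ⊗[A] I)) := by
    intro n
    let π : B →ₗ[A] (B ⧸ Ideal.span {a ^ (n + 1)}) :=
      (Ideal.Quotient.mkₐ A (Ideal.span {a ^ (n + 1)})).toLinearMap
    have hπs : Function.Surjective π := Ideal.Quotient.mk_surjective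
    have hex : Function.Exact (LinearMap.mulLeft A (a ^ (n + 1))) π := by
      intro y
      change Ideal.Quotient.mk _ y = 0 ↔ _
      rw [Ideal.Quotient.eq_zero_iff_mem, Ideal.mem_span_singleton']
      constructor
      · rintro ⟨c, rfl⟩; exact ⟨c, by simp [mul_comm]⟩
      · rintro ⟨c, rfl⟩; exact ⟨c, by simp [mul_comm]⟩
    have hex2 := rTensor_exact I hex hπs
    have hz2 : (π.rTensor I) z = 0 := by
      haveI := h1 n
      have hinj : Function.Injective (I.subtype.lTensor (B ⧸ Ideal.span {a ^ (n + 1)})) :=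
        Module.Flat.lTensor_preserves_injective_linearMap _ Subtype.val_injective
      apply hinj
      rw [map_zero, ← LinearMap.comp_apply, LinearMap.lTensor_comp_rTensor,
        ← LinearMap.rTensor_comp_lTensor, LinearMap.comp_apply, hz, map_zero]
    obtain ⟨w, rfl⟩ := (hex2 z).1 hz2
    have hw : ∀ w : B ⊗[A] I, (LinearMap.mulLeft A (a ^ (n + 1))).rTensor I w = (a ^ (n + 1)) • w := by
      intro w
      induction w using TensorProduct.induction_on with
      | zero => simp
      | tmul b i => simp [TensorProduct.smul_tmul']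
      | add x y hx hy => rw [map_add, hx, hy, smul_add]
    rw [hw]
    exact Submodule.smul_mem_smul (Ideal.pow_mem_pow (Ideal.mem_span_singleton_self a) _)
      Submodule.mem_top
  have hne : Ideal.span {a} ≠ ⊤ := by
    rw [Ne, Ideal.span_singleton_eq_top]
    exact ha
  have hk := Ideal.iInf_pow_smul_eq_bot_of_isLocalRing (M := B ⊗[A] I) (Ideal.span {a}) hne
  have hz3 : z ∈ (⨅ i : ℕ, (Ideal.span {a}) ^ i • ⊤ : Submodule B (B ⊗[A] I)) := by
    rw [Submodule.mem_iInf]
    intro i
    cases i with
    | zero => simp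
    | succ n => exact key n
  rw [hk] at hz3
  simpa using hz3

end Groth.Agent.Lib.Helper2.NzdFlat
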