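import Mathlib

set_option autoImplicit false
universe u
open TensorProduct

namespace Groth.Agent.Lib.Helper2.NzdFlat2

/-- `a ∈ B` a nonzerodivisor with `B/aB` and `B_a` flat over `A`. Then `B` is flat over `A`. -/
theorem flat_of_flat_quotient_of_flat_away {A B : Type u} [CommRing A] [CommRing B] [Algebra A B]
    (a : B) (hreg : a ∈ nonZeroDivisors B) [Module.Flat A (B ⧸ Ideal.span {a})]
    (Ba : Type u) [CommRing Ba] [Algebra B Ba] [Algebra A Ba] [IsScalarTower A B Ba]
    [IsLocalization.Away a Ba] [Module.Flat A Ba] : Module.Flat A B := by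
  rw [Module.Flat.iff_lTensor_injective]
  intro I hI
  rw [injective_iff_map_eq_zero]
  intro z hz
  -- multiplication by `a` is injective on `B ⊗ I`
  let π : B →ₗ[A] (B ⧸ Ideal.span {a}) := (Ideal.Quotient.mkₐ A (Ideal.span {a})).toLinearMap
  have hπs : Function.Surjective π := Ideal.Quotient.mk_surjective
  have hmi : Function.Injective (LinearMap.mulLeft A a) := by
    intro x y hxy
    simp only [LinearMap.mulLeft_apply] at hxy
    exact (mul_cancel_left_mem_nonZeroDivisors hreg).mp hxy
  have hex : Function.Exact (LinearMap.mulLeft A a) π := by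
    intro y
    change Ideal.Quotient.mk _ y = 0 ↔ _
    rw [Ideal.Quotient.eq_zero_iff_mem, Ideal.mem_span_singleton']
    constructor
    · rintro ⟨c, rfl⟩; exact ⟨c, by simp [mul_comm]⟩
    · rintro ⟨c, rfl⟩; exact ⟨c, by simp [mul_comm]⟩
  have hinj0 := LinearMap.lTensor_injective_of_exact_of_flat π hπs (LinearMap.mulLeft A a) hmi hex I
  have hinj : Function.Injective ((LinearMap.mulLeft A a).rTensor I) :=
    (LinearMap.lTensor_inj_iff_rTensor_inj _ _).1 hinj0
  have hw : ∀ w : B ⊗[A] I, (LinearMap.mulLeft A a).rTensor I w = a • w := by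
    intro w
    induction w using TensorProduct.induction_on with
    | zero => simp
    | tmul b i => simp [TensorProduct.smul_tmul']
    | add x y hx hy => rw [map_add, hx, hy, smul_add]
  have hsm : ∀ n : ℕ, ∀ w : B ⊗[A] I, a ^ n • w = 0 → w = 0 := by
    intro n
    induction n with
    | zero => intro w hw0; simpa using hw0
    | succ n ih =>
      intro w hw0
      apply ih
      apply hinj
      rw [map_zero, hw, smul_smul, ← pow_succ']
      exact hw0
  -- the image of `z` in the localization vanishes
  let g : B →ₗ[B] Ba := Algebra.linearMap B (Ba)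
  have hz' : (AlgebraTensorModule.rTensor A I g) z = 0 := by
    have hfl : Function.Injective (I.subtype.lTensor (Ba)) :=
      Module.Flat.lTensor_preserves_injective_linearMap _ Subtype.val_injective
    apply hfl
    rw [map_zero]
    have : (I.subtype.lTensor (Ba)) ((AlgebraTensorModule.rTensor A I g) z) =
        ((g.restrictScalars A).rTensor A) ((I.subtype.lTensor B) z) := by
      change (I.subtype.lTensor (Ba)) (((g.restrictScalars A).rTensor I) z) = _
      rw [← LinearMap.comp_apply, ← LinearMap.comp_apply, LinearMap.lTensor_comp_rTensor,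
        LinearMap.rTensor_comp_lTensor]
    rw [this, hz, map_zero]
  obtain ⟨⟨s, n, rfl⟩, hs⟩ := (IsLocalizedModule.eq_zero_iff (Submonoid.powers a)
    (AlgebraTensorModule.rTensor A I g)).1 hz'
  exact hsm n z hs

end Groth.Agent.Lib.Helper2.NzdFlat2
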