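import Mathlib
import Groth.Prelude.Def_W4ega4s0809p4Pair

/-!
# Relations "geometrically there is a morphism with property `Q`" between two algebraic schemes

`PairProp Q` is the relation `P(X, Y, k)`: after some field extension `k'/k` there is a
`k'`-morphism `X_{k'} ⟶ Y_{k'}` with property `Q`.  We prove that it is invariant under extension of
the base field (`isFieldStablePair_pairProp`) and that it holds at every point of the image of
`Z ⟶ S` as soon as there is a morphism with `Q` between the base changes to `Z`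
(`mem_locusPair_of_model`).  (helper2)
-/

set_option autoImplicit false
universe u
open CategoryTheory CategoryTheory.Limits AlgebraicGeometry

namespace Groth.Agent.Lib.Helper2.PairCons

/-- After some field extension there is a morphism with `Q` between the base changes. -/
def PairProp (Q : MorphismProperty Scheme.{u}) :
    ∀ ⦃X Y T : Scheme.{u}⦄, (X ⟶ T) → (Y ⟶ T) → Prop :=
  fun X Y T gX gY => ∃ (T' X' Y' : Scheme.{u}) (h : T' ⟶ T) (gX' : X' ⟶ T') (gY' : Y' ⟶ T')
    (eX : X' ⟶ X) (eY : Y' ⟶ Y), IsIntegral T' ∧ Subsingleton ↥T' ∧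
      IsPullback eX gX' gX h ∧ IsPullback eY gY' gY h ∧
        ∃ g : X' ⟶ Y', g ≫ gY' = gX' ∧ Q g

/-- Base change of a morphism over `T'` along `a : T'' ⟶ T'`. -/
theorem exists_baseChange (Q : MorphismProperty Scheme.{u}) [Q.IsStableUnderBaseChange]
    {T' X' Y' T'' : Scheme.{u}} (gX' : X' ⟶ T') (gY' : Y' ⟶ T') (g : X' ⟶ Y')
    (hg : g ≫ gY' = gX') (hQ : Q g) (a : T'' ⟶ T') :
    ∃ g'' : pullback gX' a ⟶ pullback gY' a,
      g'' ≫ pullback.snd gY' a = pullback.snd gX' a ∧ Q g'' := by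
  let g'' : pullback gX' a ⟶ pullback gY' a :=
    pullback.lift (pullback.fst gX' a ≫ g) (pullback.snd gX' a)
      (by rw [Category.assoc, hg, pullback.condition])
  have h1 : g'' ≫ pullback.snd gY' a = pullback.snd gX' a := pullback.lift_snd _ _ _
  have h2 : g'' ≫ pullback.fst gY' a = pullback.fst gX' a ≫ g := pullback.lift_fst _ _ _
  refine ⟨g'', h1, ?_⟩
  have hsq : IsPullback (pullback.fst gX' a) g'' g (pullback.fst gY' a) := by
    refine IsPullback.of_bot ?_ h2.symm (IsPullback.of_hasPullback gY' a)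
    rw [h1, hg]
    exact IsPullback.of_hasPullback gX' a
  exact MorphismProperty.of_isPullback hsq hQ

/-- A base change of `X` to `T''` is also a base change of `X₁ = X ×_T T₁` when `T'' ⟶ T` factors
through `T₁`. -/
theorem exists_isPullback_of_comp {X X₁ X'' T T₁ T'' : Scheme.{u}} {gX : X ⟶ T} {h₁ : T₁ ⟶ T}
    {eX₁ : X₁ ⟶ X} {gX₁ : X₁ ⟶ T₁} (hX₁ : IsPullback eX₁ gX₁ gX h₁)
    {p : X'' ⟶ X} {gX'' : X'' ⟶ T''} {c : T'' ⟶ T} (hp : IsPullback p gX'' gX c)
    (b : T'' ⟶ T₁) (hb : b ≫ h₁ = c) :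
    ∃ e : X'' ⟶ X₁, IsPullback e gX'' gX₁ b := by
  refine ⟨hX₁.lift p (gX'' ≫ b) (by rw [hp.w, Category.assoc, hb]), ?_⟩
  refine IsPullback.of_right ?_ (hX₁.lift_snd _ _ _) hX₁
  rw [hX₁.lift_fst, hb]
  exact hp

theorem isFieldStablePair_pairProp (Q : MorphismProperty Scheme.{u}) [Q.IsStableUnderBaseChange] :
    ConsPropPair.IsFieldStablePair (PairProp Q) := by
  intro X X₁ Y Y₁ T T₁ gX gY gX₁ gY₁ eX₁ eY₁ h₁ _ _ _ _ _ _ _ _ hX₁ hY₁
  constructor
  · rintro ⟨T', X', Y', h, gX', gY', eX, eY, hint, hsub, hX, hY, g, hg, hQ⟩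
    haveI := hint
    obtain ⟨t'⟩ : Nonempty T' := inferInstance
    obtain ⟨t₁⟩ : Nonempty T₁ := inferInstance
    obtain ⟨z, -, -⟩ := Scheme.Pullback.exists_preimage_pullback (f := h) (g := h₁) t' t₁
      (Subsingleton.elim _ _)
    let T'' : Scheme.{u} := Spec ((pullback h h₁).residueField z)
    let a : T'' ⟶ T' := (pullback h h₁).fromSpecResidueField z ≫ pullback.fst h h₁
    let b : T'' ⟶ T₁ := (pullback h h₁).fromSpecResidueField z ≫ pullback.snd h h₁
    have hab : b ≫ h₁ = a ≫ h := by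
      simp only [a, b, Category.assoc, pullback.condition]
    obtain ⟨g'', hg'', hQ''⟩ := exists_baseChange Q gX' gY' g hg hQ a
    obtain ⟨eX'', hX''⟩ := exists_isPullback_of_comp hX₁
      ((IsPullback.of_hasPullback gX' a).paste_horiz hX) b hab
    obtain ⟨eY'', hY''⟩ := exists_isPullback_of_comp hY₁
      ((IsPullback.of_hasPullback gY' a).paste_horiz hY) b hab
    exact ⟨T'', pullback gX' a, pullback gY' a, b, pullback.snd gX' a, pullback.snd gY' a,
      eX'', eY'', inferInstance,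
      inferInstanceAs (Subsingleton (PrimeSpectrum ((pullback h h₁).residueField z))),
      hX'', hY'', g'', hg'', hQ''⟩
  · rintro ⟨T'', X'', Y'', h'', gX'', gY'', eX'', eY'', hint, hsub, hX'', hY'', g, hg, hQ⟩
    exact ⟨T'', X'', Y'', h'' ≫ h₁, gX'', gY'', eX'' ≫ eX₁, eY'' ≫ eY₁, hint, hsub,
      hX''.paste_horiz hX₁, hY''.paste_horiz hY₁, g, hg, hQ⟩

/-- If there is a morphism with `Q` between the base changes of `X` and `Y` to `Z`, then the relation
`PairProp Q` holds at every point of the image of `Z ⟶ S`. -/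
theorem mem_locusPair_of_model (Q : MorphismProperty Scheme.{u}) [Q.IsStableUnderBaseChange]
    {X Y S Z XZ YZ : Scheme.{u}} (u : X ⟶ S) (v : Y ⟶ S) (τ : Z ⟶ S)
    (xZ : XZ ⟶ Z) (yZ : YZ ⟶ Z) (pX : XZ ⟶ X) (pY : YZ ⟶ Y)
    (hX : IsPullback pX xZ u τ) (hY : IsPullback pY yZ v τ)
    (g : XZ ⟶ YZ) (hg : g ≫ yZ = xZ) (hQ : Q g) (z : Z) :
    τ z ∈ ConsPropPair.locusPair (PairProp Q) u v := by
  change PairProp Q (u.fiberToSpecResidueField (τ z)) (v.fiberToSpecResidueField (τ z))
  obtain ⟨g'', hg'', hQ''⟩ := exists_baseChange Q xZ yZ g hg hQ (Z.fromSpecResidueField z)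
  exact ⟨Spec (Z.residueField z), _, _, Spec.map (τ.residueFieldMap z), _, _, _, _,
    inferInstance, inferInstanceAs (Subsingleton (PrimeSpectrum (Z.residueField z))),
    isPullback_fiberToSpecResidueField_of_isPullback hX z,
    isPullback_fiberToSpecResidueField_of_isPullback hY z, g'', hg'', hQ''⟩

end Groth.Agent.Lib.Helper2.PairCons
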