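import Mathlib

/-!
An `R`-algebra `K` is the filtered colimit of its finitely generated `R`-subalgebras; dually
`Spec K` is the cofiltered limit of the `Spec A` (relative version of helper26's `Helper26FGZ`).
(helper2)
-/

set_option autoImplicit false
universe u
open CategoryTheory Limits AlgebraicGeometry

namespace Groth.Agent.Lib.Helper2.PairCons2

variable (R K : Type u) [CommRing R] [CommRing K] [Algebra R K]

/-- Index category: finitely generated `R`-subalgebras of `K`. -/
abbrev FGSub := {A : Subalgebra R K // A.FG}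

instance : Nonempty (FGSub R K) := ⟨⟨⊥, Subalgebra.fg_bot⟩⟩

instance : IsDirected (FGSub R K) (· ≤ ·) :=
  ⟨fun S T => ⟨⟨S.1 ⊔ T.1, S.2.sup T.2⟩,
    (le_sup_left : S.1 ≤ S.1 ⊔ T.1), (le_sup_right : T.1 ≤ S.1 ⊔ T.1)⟩⟩

instance : IsFiltered (FGSub R K) := isFiltered_of_directed_le_nonempty _

/-- The diagram of finitely generated subalgebras. -/
noncomputable def ringDiagram : FGSub R K ⥤ CommRingCat.{u} where
  obj j := CommRingCat.of j.1
  map {j k} f := CommRingCat.ofHom (Subalgebra.inclusion (leOfHom f)).toRingHom
  map_id j := by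
    ext x
    rfl
  map_comp f g := by
    ext x
    rfl

/-- The cocone with point `K`. -/
noncomputable def ringCocone : Cocone (ringDiagram R K) where
  pt := CommRingCat.of K
  ι :=
    { app := fun j => CommRingCat.ofHom (algebraMap j.1 K)
      naturality := by
        intro j k f
        ext x
        rfl }

/-- `K` is the colimit of its finitely generated `R`-subalgebras. -/
noncomputable def ringIsColimit : IsColimit (ringCocone R K) := by
  have : ReflectsColimitsOfShape (FGSub R K) (forget CommRingCat.{u}) :=
    reflectsColimitsOfShape_of_reflectsIsomorphisms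
  refine isColimitOfReflects (forget CommRingCat.{u}) ?_
  refine Types.FilteredColimit.isColimitOf' _ _ ?_ ?_
  · intro a
    change K at a
    have hfg : (Algebra.adjoin R ({a} : Set K)).FG := by
      have := Subalgebra.fg_adjoin_finset (R := R) ({a} : Finset K)
      rwa [Finset.coe_singleton] at this
    exact ⟨⟨Algebra.adjoin R {a}, hfg⟩, ⟨a, Algebra.subset_adjoin rfl⟩, rfl⟩
  · intro i x y h
    exact ⟨i, 𝟙 i, congrArg _ (Subtype.ext h)⟩

/-- The diagram `A ↦ Spec A`. -/
noncomputable def specDiagram : (FGSub R K)ᵒᵖ ⥤ Scheme.{u} := (ringDiagram R K).op ⋙ Scheme.Spec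

/-- The cone with point `Spec K`. -/
noncomputable def specCone : Cone (specDiagram R K) := Scheme.Spec.mapCone (ringCocone R K).op

/-- `Spec K` is the limit of the `Spec A`. -/
noncomputable def specIsLimit : IsLimit (specCone R K) :=
  isLimitOfPreserves Scheme.Spec (ringIsColimit R K).op

instance (i j : (FGSub R K)ᵒᵖ) (f : i ⟶ j) : IsAffineHom ((specDiagram R K).map f) := by
  show IsAffineHom (Spec.map _)
  infer_instance

instance (i : (FGSub R K)ᵒᵖ) : IsAffine ((specDiagram R K).obj i) := by
  show IsAffine (Spec _)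
  infer_instance

lemma specCone_π_app (S : FGSub R K) :
    (specCone R K).π.app (Opposite.op S) = Spec.map (CommRingCat.ofHom (algebraMap S.1 K)) := rfl

/-- The structure morphism `Spec A ⟶ Spec R`. -/
noncomputable def toBase (j : (FGSub R K)ᵒᵖ) : (specDiagram R K).obj j ⟶ Spec (CommRingCat.of R) :=
  Spec.map (CommRingCat.ofHom (algebraMap R j.unop.1))

lemma map_toBase {i j : (FGSub R K)ᵒᵖ} (f : i ⟶ j) :
    (specDiagram R K).map f ≫ toBase R K j = toBase R K i := by
  change Spec.map _ ≫ Spec.map _ = Spec.map _
  rw [← Spec.map_comp]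
  rfl

lemma π_toBase (j : (FGSub R K)ᵒᵖ) :
    (specCone R K).π.app j ≫ toBase R K j = Spec.map (CommRingCat.ofHom (algebraMap R K)) := by
  change Spec.map _ ≫ Spec.map _ = Spec.map _
  rw [← Spec.map_comp]
  rfl

instance (j : (FGSub R K)ᵒᵖ) : LocallyOfFiniteType (toBase R K j) := by
  change LocallyOfFiniteType (Spec.map _)
  rw [HasRingHomProperty.Spec_iff (P := @LocallyOfFiniteType)]
  change (algebraMap R j.unop.1).FiniteType
  rw [RingHom.finiteType_algebraMap]
  exact (Subalgebra.fg_iff_finiteType _).mp j.unop.2

end Groth.Agent.Lib.Helper2.PairCons2
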