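import Mathlib
import Groth.Agent.Lib.Helper3IndCons
import Groth.Agent.S9218

/-!
Descent to a finite stage of a morphism (not given at the base stage) together with a property.
(helper2)
-/

set_option autoImplicit false
universe u
open CategoryTheory CategoryTheory.Limits AlgebraicGeometry

namespace Groth.Agent.Lib.Helper2.PairCons3

open Groth.Agent.Lib.Helper3.IndCons Groth.Agent.Lib.Helper3.BaseMap

/-- A morphism over the limit between base changes of two schemes of finite presentation over a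
stage, having a property that descends, comes from a morphism over a stage with the property. -/
theorem exists_stage_hom (Q : MorphismProperty Scheme.{u}) (hQ : LimDescends Q)
    {I : Type u} [SmallCategory I] [IsCofiltered I] (D : I ⥤ Scheme.{u}) (c : Cone D)
    (hc : IsLimit c) [∀ (i j : I) (f : i ⟶ j), IsAffineHom (D.map f)] (i₀ : I)
    [CompactSpace (D.obj i₀)] [QuasiSeparatedSpace (D.obj i₀)]
    {X₀ Y₀ : Scheme.{u}} (x₀ : X₀ ⟶ D.obj i₀) (y₀ : Y₀ ⟶ D.obj i₀)
    [LocallyOfFinitePresentation x₀] [QuasiCompact x₀] [QuasiSeparated x₀]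
    [LocallyOfFinitePresentation y₀] [QuasiCompact y₀] [QuasiSeparated y₀]
    {X' Y' : Scheme.{u}} (qX : X' ⟶ X₀) (gX' : X' ⟶ c.pt) (hX : IsPullback qX gX' x₀ (c.π.app i₀))
    (qY : Y' ⟶ Y₀) (gY' : Y' ⟶ c.pt) (hY : IsPullback qY gY' y₀ (c.π.app i₀))
    (g : X' ⟶ Y') (hg : g ≫ gY' = gX') (hQg : Q g) :
    ∃ (i : I) (φ : i ⟶ i₀) (Xi Yi : Scheme.{u}) (xi : Xi ⟶ D.obj i) (yi : Yi ⟶ D.obj i)
      (pX : Xi ⟶ X₀) (pY : Yi ⟶ Y₀), IsPullback pX xi x₀ (D.map φ) ∧ IsPullback pY yi y₀ (D.map φ) ∧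
        ∃ gi : Xi ⟶ Yi, gi ≫ yi = xi ∧ Q gi := by
  haveI : CompactSpace X₀ := QuasiCompact.compactSpace_of_compactSpace x₀
  haveI : QuasiSeparatedSpace X₀ := quasiSeparatedSpace_of_quasiSeparated x₀
  haveI : CompactSpace Y₀ := QuasiCompact.compactSpace_of_compactSpace y₀
  haveI : QuasiSeparatedSpace Y₀ := quasiSeparatedSpace_of_quasiSeparated y₀
  obtain ⟨j, φ, fj, sX, sY, h1, h2, h3, h4, h5, h6⟩ :=
    Groth.Agent.S9218.result D c hc i₀ x₀ y₀ qX gX' hX qY gY' hY g hg
  haveI : CompactSpace (D.obj j) := QuasiCompact.compactSpace_of_compactSpace (D.map φ)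
  haveI : QuasiSeparatedSpace (D.obj j) := quasiSeparatedSpace_of_quasiSeparated (D.map φ)
  haveI : LocallyOfFinitePresentation (fj ≫ pullback.snd y₀ (D.map φ)) := by
    rw [h1]; infer_instance
  haveI : QuasiCompact (fj ≫ pullback.snd y₀ (D.map φ)) := by
    rw [h1]; infer_instance
  haveI : QuasiSeparated (fj ≫ pullback.snd y₀ (D.map φ)) := by
    rw [h1]; infer_instance
  have hYj : IsPullback sY gY' (pullback.snd y₀ (D.map φ)) (c.π.app j) := by
    refine IsPullback.of_right ?_ h5 (IsPullback.of_hasPullback y₀ (D.map φ))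
    rw [h4, c.w]
    exact hY
  have hXj : IsPullback sX gX' (pullback.snd x₀ (D.map φ)) (c.π.app j) := by
    refine IsPullback.of_right ?_ h3 (IsPullback.of_hasPullback x₀ (D.map φ))
    rw [h2, c.w]
    exact hX
  have hXY : IsPullback sX g fj sY := by
    refine IsPullback.of_bot ?_ h6 hYj
    rw [hg, h1]
    exact hXj
  obtain ⟨k, ψ, Xk, Yk, fk, gk, pY, pX, hk1, hk2, hk3⟩ :=
    hQ D c hc j fj (pullback.snd y₀ (D.map φ)) g gY' sY sX hYj hXY hQg
  refine ⟨k, ψ ≫ φ, Xk, Yk, fk ≫ gk, gk, pX ≫ pullback.fst x₀ (D.map φ),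
    pY ≫ pullback.fst y₀ (D.map φ), ?_, ?_, fk, rfl, hk3⟩
  · rw [D.map_comp]
    have := hk2.paste_vert hk1
    rw [h1] at this
    exact this.paste_horiz (IsPullback.of_hasPullback x₀ (D.map φ))
  · rw [D.map_comp]
    exact hk1.paste_horiz (IsPullback.of_hasPullback y₀ (D.map φ))

end Groth.Agent.Lib.Helper2.PairCons3
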