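import Mathlib
import Groth.Agent.Lib.Helper2PairCons
import Groth.Agent.Lib.Helper2PairCons2
import Groth.Agent.Lib.Helper2PairCons3
import Groth.Agent.S3402
import Groth.Agent.S3403

/-!
The family clause for the relations `PairProp Q`, and the resulting ind-constructibility.
(helper2)
-/

set_option autoImplicit false
universe u
open CategoryTheory CategoryTheory.Limits AlgebraicGeometry

namespace Groth.Agent.Lib.Helper2.PairCons4

open Groth.Agent.Lib.Helper3.IndCons Groth.Agent.Lib.Helper2.PairCons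
  Groth.Agent.Lib.Helper2.PairCons2 Groth.Agent.Lib.Helper2.PairCons3

/-- A locally constructible subset containing the generic point of an integral scheme is a
neighbourhood of it. -/
theorem genericPoint_mem_interior {S : Scheme.{u}} [IsIntegral S] (E : Set S)
    (hE : Topology.IsLocallyConstructible E) (hη : genericPoint S ∈ E) :
    genericPoint S ∈ interior E := by
  rw [Groth.Agent.S3403.result S E ((Groth.Agent.S3402.result S E).mp hE).1]
  intro x' hx'
  have h1 : genericPoint S ⤳ x' := (genericPoint_spec S).specializes (by simp)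
  rw [(hx'.antisymm h1).eq]
  exact hη

set_option maxHeartbeats 1600000 in
theorem family (Q : MorphismProperty Scheme.{u}) [Q.IsStableUnderBaseChange] (hQ : LimDescends Q)
    {X Y S : Scheme.{u}} (u : X ⟶ S) (v : Y ⟶ S) [IsIntegral S] [IsNoetherian S]
    [LocallyOfFiniteType u] [QuasiCompact u] [LocallyOfFiniteType v] [QuasiCompact v]
    (hη : genericPoint S ∈ ConsPropPair.locusPair (PairProp Q) u v) :
    (interior (ConsPropPair.locusPair (PairProp Q) u v)).Nonempty := by
  obtain ⟨T', X', Y', h, gX', gY', eX, eY, hint, hsub, hX, hY, g, hg, hQg⟩ := hη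
  haveI := hint
  haveI := hsub
  let η := genericPoint S
  let t : T' ⟶ S := h ≫ S.fromSpecResidueField η
  have hXS : IsPullback (eX ≫ pullback.fst u (S.fromSpecResidueField η)) gX' u t :=
    hX.paste_horiz (IsPullback.of_hasPullback u (S.fromSpecResidueField η))
  have hYS : IsPullback (eY ≫ pullback.fst v (S.fromSpecResidueField η)) gY' v t :=
    hY.paste_horiz (IsPullback.of_hasPullback v (S.fromSpecResidueField η))
  obtain ⟨_, ⟨U, hU, rfl⟩, hηU, -⟩ := S.isBasis_affineOpens.exists_subset_of_mem_open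
    (Set.mem_univ η) isOpen_univ
  have ht : ∀ x : T', t x = η := by
    intro x
    change S.fromSpecResidueField η (h x) = η
    exact Scheme.fromSpecResidueField_apply _ _
  have htU : (⊤ : T'.Opens) ≤ t ⁻¹ᵁ U := by
    intro x _
    change t x ∈ U
    rw [ht x]
    exact hηU
  let φ : Γ(S, U) ⟶ Γ(T', ⊤) := t.appLE U ⊤ htU
  letI : Algebra Γ(S, U) Γ(T', ⊤) := φ.hom.toAlgebra
  let D := specDiagram Γ(S, U) Γ(T', ⊤)
  let c : Cone D := (specCone Γ(S, U) Γ(T', ⊤)).extend T'.isoSpec.hom
  have hc : IsLimit c := IsLimit.extendIso _ (specIsLimit Γ(S, U) Γ(T', ⊤))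
  let τ : ∀ j, D.obj j ⟶ S := fun j => toBase Γ(S, U) Γ(T', ⊤) j ≫ hU.fromSpec
  have hτmap : ∀ {i j} (f : i ⟶ j), D.map f ≫ τ j = τ i := by
    intro i j f
    change D.map f ≫ toBase _ _ j ≫ hU.fromSpec = toBase _ _ i ≫ hU.fromSpec
    rw [← Category.assoc, map_toBase]
  have hτ : ∀ j, c.π.app j ≫ τ j = t := by
    intro j
    have h1 : Spec.map (CommRingCat.ofHom (algebraMap Γ(S, U) Γ(T', ⊤))) ≫ hU.fromSpec =
        (isAffineOpen_top T').fromSpec ≫ t :=
      IsAffineOpen.SpecMap_appLE_fromSpec t hU (isAffineOpen_top T') htU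
    have h2 : (specCone Γ(S, U) Γ(T', ⊤)).π.app j ≫ toBase _ _ j ≫ hU.fromSpec =
        Spec.map (CommRingCat.ofHom (algebraMap Γ(S, U) Γ(T', ⊤))) ≫ hU.fromSpec :=
      (Category.assoc _ _ _).symm.trans (congrArg (· ≫ hU.fromSpec) (π_toBase _ _ j))
    calc c.π.app j ≫ τ j
        = T'.isoSpec.hom ≫ ((specCone Γ(S, U) Γ(T', ⊤)).π.app j ≫ toBase _ _ j ≫ hU.fromSpec) :=
          Category.assoc _ _ _
      _ = T'.isoSpec.hom ≫ ((isAffineOpen_top T').fromSpec ≫ t) :=
          congrArg (T'.isoSpec.hom ≫ ·) (h2.trans h1)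
      _ = t := by rw [IsAffineOpen.fromSpec_top, Iso.hom_inv_id_assoc]
  haveI : IsLocallyNoetherian X := LocallyOfFiniteType.isLocallyNoetherian u
  haveI : IsLocallyNoetherian Y := LocallyOfFiniteType.isLocallyNoetherian v
  let i₀ : (FGSub Γ(S, U) Γ(T', ⊤))ᵒᵖ := Opposite.op ⟨⊥, Subalgebra.fg_bot⟩
  obtain ⟨qX, hX0⟩ := exists_isPullback_of_comp (IsPullback.of_hasPullback u (τ i₀)) hXS
    (c.π.app i₀) (hτ i₀)
  obtain ⟨qY, hY0⟩ := exists_isPullback_of_comp (IsPullback.of_hasPullback v (τ i₀)) hYS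
    (c.π.app i₀) (hτ i₀)
  obtain ⟨i, φ', Xi, Yi, xi, yi, pX, pY, hXi, hYi, gi, hgi, hQgi⟩ :=
    exists_stage_hom Q hQ D c hc i₀ (pullback.snd u (τ i₀)) (pullback.snd v (τ i₀))
      qX gX' hX0 qY gY' hY0 g hg hQg
  have hXi' : IsPullback (pX ≫ pullback.fst u (τ i₀)) xi u (τ i) := by
    have := hXi.paste_horiz (IsPullback.of_hasPullback u (τ i₀))
    rwa [hτmap] at this
  have hYi' : IsPullback (pY ≫ pullback.fst v (τ i₀)) yi v (τ i) := by
    have := hYi.paste_horiz (IsPullback.of_hasPullback v (τ i₀))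
    rwa [hτmap] at this
  have hsub : Set.range (τ i) ⊆ ConsPropPair.locusPair (PairProp Q) u v := by
    rintro _ ⟨z, rfl⟩
    exact mem_locusPair_of_model Q u v (τ i) xi yi _ _ hXi' hYi' gi hgi hQgi z
  have hmem : η ∈ Set.range (τ i) := by
    obtain ⟨x⟩ : Nonempty T' := inferInstance
    refine ⟨c.π.app i x, ?_⟩
    rw [← ht x, ← hτ i]
    rfl
  haveI : LocallyOfFiniteType (τ i) := by
    change LocallyOfFiniteType (toBase _ _ i ≫ hU.fromSpec)
    infer_instance
  have hcons : Topology.IsLocallyConstructible (Set.range (τ i)) := by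
    rw [← Set.image_univ]
    exact (τ i).isLocallyConstructible_image Topology.IsLocallyConstructible.univ
  exact ⟨η, interior_mono hsub (genericPoint_mem_interior _ hcons hmem)⟩

theorem isIndConsPair_pairProp (Q : MorphismProperty Scheme.{u}) [Q.IsStableUnderBaseChange]
    (hQ : LimDescends Q) : ConsPropPair.IsIndConsPair (PairProp Q) :=
  ⟨isFieldStablePair_pairProp Q, fun _ _ _ u v _ _ _ _ _ _ hη => family Q hQ u v hη⟩

end Groth.Agent.Lib.Helper2.PairCons4
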