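import Mathlib
import Groth.Prelude.Def_HTop
/-! Helper2PhSheaf: Zariski sheaf + sheaf for proper surjective singletons implies ph sheaf (S7501). -/
set_option autoImplicit false
universe w u
open CategoryTheory CategoryTheory.Limits AlgebraicGeometry Opposite

namespace Groth.Agent.Lib.Helper2.PhSheaf

theorem main (F : Scheme.{u}ᵒᵖ ⥤ Type w) (h₁ : Presieve.IsSheaf Scheme.zariskiTopology F)
    (h₂ : ∀ (U V : Scheme.{u}) (f : V ⟶ U), IsProper f → Surjective f →
      Presieve.IsSheafFor F (Presieve.singleton f)) :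
    HTop.IsPhSheaf F := by
  intro X R hR
  let J := Sheaf.finestTopologySingle F
  have hzar : Scheme.zariskiTopology ≤ J := fun X S hS Y f =>
    h₁ _ (Scheme.zariskiTopology.pullback_stable f hS)
  have hprop : ∀ {U V : Scheme.{u}} (f : V ⟶ U), IsProper f → Surjective f →
      Sieve.generate (Presieve.singleton f) ∈ J U := by
    intro U V f hp hs Y g
    rw [← Sieve.pullbackArrows_comm, Presieve.pullback_singleton,
      ← Presieve.isSheafFor_iff_generate]
    exact h₂ _ _ _ inferInstance inferInstance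
  obtain ⟨E, hE, rfl⟩ := PreZeroHypercoverFamily.mem_precoverage_iff.mp hR
  change HTop.IsPhCover E at hE
  suffices h : Sieve.generate E.presieve₀ ∈ J X by
    have := h X (𝟙 X)
    rw [Sieve.pullback_id] at this
    exact (Presieve.isSheafFor_iff_generate _).mpr this
  -- Zariski cover by affine opens
  let 𝒰 : X.OpenCover := X.openCoverOfIsOpenCover (fun U : X.affineOpens => (U : X.Opens))
    (iSup_affineOpens_eq_top X)
  have h𝒰 : Sieve.ofArrows 𝒰.X 𝒰.f ∈ J X := hzar _ 𝒰.mem_grothendieckTopology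
  refine J.transitive h𝒰 _ ?_
  rintro Y g ⟨Z, a, b, ⟨U₀⟩, rfl⟩
  rw [Sieve.pullback_comp]
  apply J.pullback_stable
  obtain ⟨U, hU⟩ : ∃ U : X.affineOpens, U = U₀ := ⟨U₀, rfl⟩
  subst hU
  change (Sieve.generate E.presieve₀).pullback (U : X.Opens).ι ∈ J _
  obtain ⟨G, hG, href⟩ := hE.2 U
  obtain ⟨P, p, ι, hp, hs, hι, hpf, hc⟩ := hG.exists_proper
  refine J.transitive (hprop p hp hs) _ ?_
  rintro Y' g' ⟨Z', a', _, ⟨⟩, rfl⟩
  rw [Sieve.pullback_comp]
  apply J.pullback_stable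
  let 𝒱 : P.OpenCover := Scheme.Cover.mkOfCovers G.I₀ G.X ι
    (fun x => by obtain ⟨j, y, hy⟩ := hc x; exact ⟨j, y, hy⟩) hι
  refine J.transitive (hzar _ 𝒱.mem_grothendieckTopology) _ ?_
  rintro Y'' g'' ⟨Z'', a'', _, ⟨j₀⟩, rfl⟩
  rw [Sieve.pullback_comp]
  apply J.pullback_stable
  obtain ⟨j, hj⟩ : ∃ j : G.I₀, j = j₀ := ⟨j₀, rfl⟩
  subst hj
  change (((Sieve.generate E.presieve₀).pullback (U : X.Opens).ι).pullback p).pullback (ι j) ∈ J _
  obtain ⟨i, h, hh⟩ := href j
  rw [← Sieve.pullback_comp, ← Sieve.pullback_comp]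
  have e : (ι j ≫ p) ≫ (U : X.Opens).ι = h ≫ E.f i := by
    rw [hpf j]; exact hh.symm
  rw [e, Sieve.pullback_comp]
  have hm : (Sieve.generate E.presieve₀).arrows (E.f i) :=
    Sieve.le_generate _ _ _ (Presieve.ofArrows.mk i)
  rw [Sieve.pullback_eq_top_of_mem _ hm, Sieve.pullback_top]
  exact J.top_mem _

end Groth.Agent.Lib.Helper2.PhSheaf
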