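import Mathlib
import Groth.Prelude.Def_HTop
import Groth.Prelude.Def_MoreMor
/-! Helper2PhThick: a thickening is a ph covering; sheaves take the same sections (S8991). -/
set_option autoImplicit false
universe u
open CategoryTheory CategoryTheory.Limits AlgebraicGeometry Opposite

namespace Groth.Agent.Lib.Helper2.PhThick

theorem isPhCover_singleton {X X' : Scheme.{u}} (f : X ⟶ X') [IsClosedImmersion f] [Surjective f] :
    HTop.IsPhCover (PreZeroHypercover.singleton.{0} f) := by
  refine ⟨fun _ => ?_, fun U => ?_⟩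
  · change LocallyOfFiniteType f; infer_instance
  · haveI : IsAffine ((U : X'.Opens) : Scheme.{u}) := U.2
    haveI : IsAffine ((f ⁻¹ᵁ (U : X'.Opens) : X.Opens) : Scheme.{u}) := by
      have : IsAffineOpen (f ⁻¹ᵁ (U : X'.Opens)) := U.2.preimage f
      exact this
    refine ⟨PreZeroHypercover.singleton.{0} (f ∣_ (U : X'.Opens)),
      ⟨inferInstance, ?_, fun _ => ?_, ?_⟩, ?_⟩
    · change Finite PUnit; infer_instance
    · change IsAffine ((f ⁻¹ᵁ (U : X'.Opens) : X.Opens) : Scheme.{u}); infer_instance
    · have hs : Surjective (f ∣_ (U : X'.Opens)) :=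
        IsZariskiLocalAtTarget.restrict (P := @Surjective) inferInstance _
      refine ⟨_, f ∣_ (U : X'.Opens), fun _ => 𝟙 _, inferInstance, hs,
        fun _ => ?_, fun _ => Category.id_comp _, fun x => ⟨PUnit.unit, x, rfl⟩⟩
      change IsOpenImmersion (𝟙 _); infer_instance
    · intro j
      exact ⟨PUnit.unit, (f ⁻¹ᵁ (U : X'.Opens)).ι, (morphismRestrict_ι f _).symm⟩

theorem singleton_mem_Jph (S : Scheme.{u}) {X X' : Over S} (f : X ⟶ X')
    [IsClosedImmersion f.left] [Surjective f.left] :
    Sieve.generate (Presieve.singleton f) ∈ HTop.Jph S X' := by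
  rw [GrothendieckTopology.mem_over_iff]
  have h1 : Presieve.singleton f.left ∈ HTop.phPrecoverage X'.left := by
    have := (HTop.presieve₀_mem_phPrecoverage_iff (PreZeroHypercover.singleton.{0} f.left)).mpr
      (isPhCover_singleton f.left)
    rwa [PreZeroHypercover.presieve₀_singleton] at this
  have h2 := Precoverage.generate_mem_toGrothendieck h1
  refine GrothendieckTopology.superset_covering _ ?_ h2
  rw [Sieve.generate_le_iff]
  rintro Z g ⟨⟩
  rw [Sieve.overEquiv_iff]
  refine ⟨X, (Over.homMk (𝟙 X.left) (by simp) : Over.mk (f.left ≫ X'.hom) ⟶ X), f, ⟨⟩, ?_⟩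
  apply Over.OverMorphism.ext
  simp

theorem main (S : Scheme.{u}) (F : HTop.ShPh S) {X X' : Over S} (f : X ⟶ X')
    (hf : MoreMor.IsThickening f.left) : Function.Bijective (F.obj.map f.op) := by
  haveI := hf.1
  haveI := hf.2
  have hm : Mono f := by
    haveI : Mono f.left := inferInstance
    exact (Over.forget S).mono_of_mono_map (by exact this)
  have hS : Presieve.IsSheafFor F.obj (Presieve.singleton f) := by
    rw [Presieve.isSheafFor_iff_generate]
    exact (isSheaf_iff_isSheaf_of_type _ _).mp F.property _ (singleton_mem_Jph S f)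
  rw [Presieve.isSheafFor_singleton] at hS
  have key : ∀ x : F.obj.obj (op X), ∃! y, F.obj.map f.op y = x := fun x =>
    hS x (fun p₁ p₂ e => by rw [(cancel_mono f).mp e])
  exact ⟨fun a b e => (key (F.obj.map f.op a)).unique rfl e.symm,
    fun x => (key x).exists⟩

end Groth.Agent.Lib.Helper2.PhThick
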