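import Mathlib

/-!
# `X(∏ Aᵢ) = ∏ X(Aᵢ)` for qcqs schemes: helper lemmas

* `powSubmonoid R a`: the submonoid of `Π i, R i` of families of (variable) powers of `a i`.
* `isLocalization_pi`: `Π i, B i` is the localization of `Π i, R i` at `powSubmonoid R a`
  when `B i = (R i)[1/a i]`.
-/

set_option autoImplicit false

universe u v w

namespace Groth.Agent.Lib.Helper2.PiPts

section Algebra

variable {ι : Type w} (R : ι → Type u) [∀ i, CommRing (R i)] (a : ∀ i, R i)

/-- families `s` with `s i` a power of `a i` (the exponent depending on `i`). -/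
def powSubmonoid : Submonoid (∀ i, R i) where
  carrier := {s | ∀ i, ∃ n : ℕ, s i = a i ^ n}
  one_mem' := fun i => ⟨0, by simp⟩
  mul_mem' := fun {s t} hs ht i => by
    obtain ⟨n, hn⟩ := hs i
    obtain ⟨m, hm⟩ := ht i
    exact ⟨n + m, by simp [hn, hm, pow_add]⟩

lemma mem_powSubmonoid {s : ∀ i, R i} : s ∈ powSubmonoid R a ↔ ∀ i, ∃ n : ℕ, s i = a i ^ n :=
  Iff.rfl

/-- the componentwise ring hom `Π R i → Π B i`. -/
def piMap (B : ι → Type v) [∀ i, CommRing (B i)] (f : ∀ i, R i →+* B i) :
    (∀ i, R i) →+* (∀ i, B i) :=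
  RingHom.pi fun i => (f i).comp (Pi.evalRingHom R i)

@[simp] lemma piMap_apply (B : ι → Type v) [∀ i, CommRing (B i)] (f : ∀ i, R i →+* B i)
    (x : ∀ i, R i) (i : ι) : piMap R B f x i = f i (x i) := rfl

variable (B : ι → Type v) [∀ i, CommRing (B i)] [∀ i, Algebra (R i) (B i)]

theorem isLocalization_pi [∀ i, IsLocalization.Away (a i) (B i)] :
    letI : Algebra (∀ i, R i) (∀ i, B i) :=
      (piMap R B fun i => algebraMap (R i) (B i)).toAlgebra
    IsLocalization (powSubmonoid R a) (∀ i, B i) := by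
  letI : Algebra (∀ i, R i) (∀ i, B i) :=
    (piMap R B fun i => algebraMap (R i) (B i)).toAlgebra
  have halg : ∀ (x : ∀ i, R i) (i : ι), algebraMap (∀ i, R i) (∀ i, B i) x i =
      algebraMap (R i) (B i) (x i) := fun x i => rfl
  refine ⟨?_, ?_, ?_⟩
  · rintro ⟨s, hs⟩
    rw [Pi.isUnit_iff]
    intro i
    obtain ⟨n, hn⟩ := hs i
    rw [halg]
    change IsUnit (algebraMap (R i) (B i) (s i))
    rw [hn, map_pow]
    exact IsLocalization.Away.algebraMap_pow_isUnit (a i) n
  · intro z
    have := fun i => IsLocalization.Away.surj (a i) (z i)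
    choose n r hr using this
    refine ⟨⟨r, ⟨fun i => a i ^ n i, fun i => ⟨n i, rfl⟩⟩⟩, ?_⟩
    funext i
    simp only [Pi.mul_apply, halg, map_pow]
    exact hr i
  · intro x y hxy
    have := fun i => IsLocalization.Away.exists_of_eq (S := B i) (a i)
      (a := x i) (b := y i) (by rw [← halg, ← halg, hxy])
    choose n hn using this
    refine ⟨⟨fun i => a i ^ n i, fun i => ⟨n i, rfl⟩⟩, ?_⟩
    funext i
    exact hn i

/-- image of `powSubmonoid` under a componentwise ring hom. -/
theorem map_powSubmonoid (R' : ι → Type v) [∀ i, CommRing (R' i)] (f : ∀ i, R i →+* R' i) :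
    (powSubmonoid R a).map (piMap R R' f) = powSubmonoid R' (fun i => f i (a i)) := by
  ext t
  constructor
  · rintro ⟨s, hs, rfl⟩ i
    obtain ⟨n, hn⟩ := hs i
    exact ⟨n, by simp [hn]⟩
  · intro ht
    choose n hn using ht
    refine ⟨fun i => a i ^ n i, fun i => ⟨n i, rfl⟩, ?_⟩
    funext i
    simp [hn]

end Algebra

section Cover

open PrimeSpectrum

/-- Partition of unity subordinate to a finite open cover of `Spec R`. -/
theorem exists_partition {R : Type u} [CommRing R] {J : Type v} [Finite J]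
    (W : J → TopologicalSpace.Opens (PrimeSpectrum R)) (hW : ∀ x, ∃ j, x ∈ W j) :
    ∃ a : J → R, Ideal.span (Set.range a) = ⊤ ∧
      ∀ j, (basicOpen (a j) : Set (PrimeSpectrum R)) ⊆ W j := by
  classical
  cases nonempty_fintype J
  let L : J → Ideal R := fun j => vanishingIdeal ((W j : Set (PrimeSpectrum R))ᶜ)
  have hL : ⨆ j, L j = ⊤ := by
    by_contra hne
    obtain ⟨m, hm, hle⟩ := Ideal.exists_le_maximal _ hne
    let x : PrimeSpectrum R := ⟨m, hm.isPrime⟩
    obtain ⟨j, hj⟩ := hW x
    obtain ⟨_, ⟨f, rfl⟩, hxf, hfW⟩ :=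
      (isTopologicalBasis_basic_opens (R := R)).exists_subset_of_mem_open hj (W j).2
    have hfL : f ∈ L j := by
      rw [mem_vanishingIdeal]
      intro y hy
      by_contra hfy
      exact hy (hfW hfy)
    exact hxf (hle (le_iSup L j hfL))
  have h1 : (1 : R) ∈ ⨆ j ∈ (Finset.univ : Finset J), L j := by
    simp only [Finset.mem_univ, iSup_pos]
    rw [hL]; trivial
  rw [Submodule.mem_iSup_finset_iff_exists_sum] at h1
  obtain ⟨μ, hμ⟩ := h1
  refine ⟨fun j => (μ j : R), ?_, ?_⟩
  · rw [Ideal.eq_top_iff_one, ← hμ]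
    exact Ideal.sum_mem _ fun j _ => Ideal.subset_span ⟨j, rfl⟩
  · intro j y hy
    by_contra hyW
    have := (mem_vanishingIdeal _ _).mp (μ j).2 y hyW
    exact hy this

/-- Given `aᵢⱼ` with `(aᵢⱼ)ⱼ` generating the unit ideal of each `R i`, every prime of `Π R i`
misses one of the "variable powers" submonoids. -/
theorem exists_disjoint {ι : Type w} (R : ι → Type u) [∀ i, CommRing (R i)] {J : Type v} [Finite J]
    (a : ∀ i, J → R i) (ha : ∀ i, Ideal.span (Set.range (a i)) = ⊤)
    (p : Ideal (∀ i, R i)) [p.IsPrime] :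
    ∃ j, Disjoint (powSubmonoid R (fun i => a i j) : Set (∀ i, R i)) p := by
  classical
  cases nonempty_fintype J
  by_contra hcon
  push Not at hcon
  have : ∀ j, ∃ s ∈ powSubmonoid R (fun i => a i j), s ∈ p := by
    intro j
    have := hcon j
    rw [Set.not_disjoint_iff] at this
    obtain ⟨s, hs, hsp⟩ := this
    exact ⟨s, hs, hsp⟩
  choose s hs hsp using this
  choose n hn using hs
  -- the finite set `{s j}` spans the unit ideal
  have hspan : Ideal.span (Set.range s) = ⊤ := by
    apply AlgebraicGeometry.Ideal.span_eq_top_of_span_image_evalRingHom _ (Set.finite_range s)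
    intro i
    rw [← Set.range_comp]
    -- `(a i j ^ n j i)_j` spans the unit ideal
    let N : ℕ := Finset.univ.sup fun j => n j i
    have hpow := Ideal.span_pow_eq_top _ (ha i) N
    rw [← Set.range_comp] at hpow
    rw [eq_top_iff, ← hpow, Ideal.span_le]
    rintro _ ⟨j, rfl⟩
    have hle : n j i ≤ N := Finset.le_sup (f := fun j => n j i) (Finset.mem_univ j)
    have : (a i j) ^ N = (a i j) ^ (N - n j i) * (a i j) ^ (n j i) := by
      rw [← pow_add, Nat.sub_add_cancel hle]
    simp only [Function.comp_apply, SetLike.mem_coe]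
    rw [this]
    apply Ideal.mul_mem_left
    apply Ideal.subset_span
    refine ⟨j, ?_⟩
    simp only [Function.comp_apply, Pi.evalRingHom_apply]
    exact hn j i
  have : (1 : ∀ i, R i) ∈ p := by
    have h1 : (1 : ∀ i, R i) ∈ Ideal.span (Set.range s) := by rw [hspan]; trivial
    refine (Ideal.span_le.mpr ?_) h1
    rintro _ ⟨j, rfl⟩
    exact hsp j
  exact (Ideal.IsPrime.ne_top ‹_›) ((Ideal.eq_top_iff_one _).mpr this)

end Cover

end Groth.Agent.Lib.Helper2.PiPts
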