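import Groth.Agent.Lib.Helper2PiPts

set_option autoImplicit false
universe u
open AlgebraicGeometry CategoryTheory Limits

namespace Groth.Agent.Lib.Helper2.PiPts

variable {ι : Type u} (A : ι → CommRingCat.{u})

/-- the family of localizations. -/
abbrev Loc (a : ∀ i, A i) (i : ι) : CommRingCat.{u} := CommRingCat.of (Localization.Away (a i))

/-- the ring map `Π A i → Π (A i)[1/a i]`. -/
noncomputable def locHom (a : ∀ i, A i) : (∀ i, A i) →+* (∀ i, Loc A a i) :=
  piMap (fun i => A i) (fun i => Loc A a i) fun i => algebraMap (A i) (Localization.Away (a i))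

/-- double localization -/
abbrev Loc₂ (a b : ∀ i, A i) (i : ι) : CommRingCat.{u} :=
  CommRingCat.of (Localization.Away (algebraMap (A i) (Localization.Away (b i)) (a i)))

noncomputable def loc₂Right (a b : ∀ i, A i) : (∀ i, Loc A b i) →+* (∀ i, Loc₂ A a b i) :=
  piMap (fun i => Loc A b i) (fun i => Loc₂ A a b i) fun i =>
    algebraMap (Localization.Away (b i)) (Localization.Away (algebraMap (A i) (Localization.Away (b i)) (a i)))

noncomputable def loc₂LeftAux (a b : ∀ i, A i) (i : ι) :
    Localization.Away (a i) →+* Localization.Away (algebraMap (A i) (Localization.Away (b i)) (a i)) :=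
  IsLocalization.Away.lift (S := Localization.Away (a i)) (a i)
    (g := (algebraMap (Localization.Away (b i))
      (Localization.Away (algebraMap (A i) (Localization.Away (b i)) (a i)))).comp
        (algebraMap (A i) (Localization.Away (b i))))
    (by
      rw [RingHom.comp_apply]
      exact IsLocalization.Away.algebraMap_isUnit
        (algebraMap (A i) (Localization.Away (b i)) (a i)))

noncomputable def loc₂Left (a b : ∀ i, A i) : (∀ i, Loc A a i) →+* (∀ i, Loc₂ A a b i) :=
  piMap (fun i => Loc A a i) (fun i => Loc₂ A a b i) fun i => loc₂LeftAux A a b i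

lemma loc₂_comm (a b : ∀ i, A i) :
    (loc₂Left A a b).comp (locHom A a) = (loc₂Right A a b).comp (locHom A b) := by
  ext x i
  simp only [loc₂Left, loc₂Right, locHom, RingHom.comp_apply, piMap_apply, loc₂LeftAux]
  exact IsLocalization.Away.lift_eq _ _ _

theorem isPullback_loc₂ (a b : ∀ i, A i) :
    IsPullback (Spec.map (CommRingCat.ofHom (loc₂Left A a b)))
      (Spec.map (CommRingCat.ofHom (loc₂Right A a b)))
      (Spec.map (CommRingCat.ofHom (locHom A a)))
      (Spec.map (CommRingCat.ofHom (locHom A b))) := by
  letI alg₁ : Algebra (∀ i, A i) (∀ i, Loc A a i) := (locHom A a).toAlgebra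
  letI alg₂ : Algebra (∀ i, Loc A b i) (∀ i, Loc₂ A a b i) := (loc₂Right A a b).toAlgebra
  haveI h₁ : IsLocalization (powSubmonoid (fun i => A i) a) (∀ i, Loc A a i) :=
    isLocalization_pi (fun i => A i) a (fun i => Localization.Away (a i))
  haveI h₂ : IsLocalization ((powSubmonoid (fun i => A i) a).map (locHom A b)) (∀ i, Loc₂ A a b i) := by
    rw [locHom, map_powSubmonoid]
    exact isLocalization_pi (fun i => Localization.Away (b i))
      (fun i => algebraMap (A i) (Localization.Away (b i)) (a i))
      (fun i => Localization.Away (algebraMap (A i) (Localization.Away (b i)) (a i)))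
  have := CommRingCat.isPushout_of_isLocalization (R := ∀ i, A i) (S := ∀ i, Loc A b i)
    (Rₘ := ∀ i, Loc A a i) (Sₘ := ∀ i, Loc₂ A a b i) (locHom A b) (loc₂Left A a b)
    (loc₂_comm A a b) (powSubmonoid (fun i => A i) a)
  exact (isPullback_SpecMap_of_isPushout _ _ _ _ this).flip

end Groth.Agent.Lib.Helper2.PiPts
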