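import Groth.Agent.Lib.Helper2PiPts2

set_option autoImplicit false
universe u
open AlgebraicGeometry CategoryTheory Limits

namespace Groth.Agent.Lib.Helper2.PiPts

variable {ι : Type u} (A : ι → CommRingCat.{u})

theorem flat_locHom (a : ∀ i, A i) : Flat (Spec.map (CommRingCat.ofHom (locHom A a))) := by
  rw [HasRingHomProperty.Spec_iff (P := @Flat)]
  letI : Algebra (∀ i, A i) (∀ i, Loc A a i) := (locHom A a).toAlgebra
  haveI h₁ : IsLocalization (powSubmonoid (fun i => A i) a) (∀ i, Loc A a i) :=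
    isLocalization_pi (fun i => A i) a (fun i => Localization.Away (a i))
  exact IsLocalization.flat _ (powSubmonoid (fun i => A i) a)

theorem range_locHom (a : ∀ i, A i) :
    Set.range (Spec.map (CommRingCat.ofHom (locHom A a))) =
      {p | Disjoint (powSubmonoid (fun i => A i) a : Set (∀ i, A i)) p.asIdeal} := by
  letI : Algebra (∀ i, A i) (∀ i, Loc A a i) := (locHom A a).toAlgebra
  haveI h₁ : IsLocalization (powSubmonoid (fun i => A i) a) (∀ i, Loc A a i) :=
    isLocalization_pi (fun i => A i) a (fun i => Localization.Away (a i))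
  exact PrimeSpectrum.localization_comap_range (∀ i, Loc A a i) (powSubmonoid (fun i => A i) a)

/-- Key consequence of the pullback square and injectivity of `pointsPi`. -/
theorem overlap_eq {X : Scheme.{u}} [QuasiSeparatedSpace X] (h : ∀ i, Spec (A i) ⟶ X)
    (a b : ∀ i, A i)
    (α : Spec (.of (∀ i, Loc A a i)) ⟶ X) (β : Spec (.of (∀ i, Loc A b i)) ⟶ X)
    (hα : ∀ i, Spec.map (CommRingCat.ofHom (Pi.evalRingHom (fun i => Loc A a i) i)) ≫ α =
      Spec.map (CommRingCat.ofHom (algebraMap (A i) (Localization.Away (a i)))) ≫ h i)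
    (hβ : ∀ i, Spec.map (CommRingCat.ofHom (Pi.evalRingHom (fun i => Loc A b i) i)) ≫ β =
      Spec.map (CommRingCat.ofHom (algebraMap (A i) (Localization.Away (b i)))) ≫ h i)
    {T : Scheme.{u}} (t₁ : T ⟶ Spec (.of (∀ i, Loc A a i))) (t₂ : T ⟶ Spec (.of (∀ i, Loc A b i)))
    (ht : t₁ ≫ Spec.map (CommRingCat.ofHom (locHom A a)) =
      t₂ ≫ Spec.map (CommRingCat.ofHom (locHom A b))) :
    t₁ ≫ α = t₂ ≫ β := by
  have hpb := isPullback_loc₂ A a b
  obtain ⟨t, ht₁, ht₂⟩ : ∃ t, t ≫ Spec.map (CommRingCat.ofHom (loc₂Left A a b)) = t₁ ∧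
      t ≫ Spec.map (CommRingCat.ofHom (loc₂Right A a b)) = t₂ :=
    ⟨hpb.lift t₁ t₂ ht, hpb.lift_fst _ _ _, hpb.lift_snd _ _ _⟩
  rw [← ht₁, ← ht₂, Category.assoc, Category.assoc]
  congr 1
  apply pointsPi_injective (fun i => Loc₂ A a b i) X
  funext i
  simp only [pointsPi]
  rw [← Spec.map_comp_assoc, ← Spec.map_comp_assoc]
  have e₁ : CommRingCat.ofHom (loc₂Left A a b) ≫
      CommRingCat.ofHom (Pi.evalRingHom (fun i => Loc₂ A a b i) i) =
      CommRingCat.ofHom (Pi.evalRingHom (fun i => Loc A a i) i) ≫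
        CommRingCat.ofHom (loc₂LeftAux A a b i) := rfl
  have e₂ : CommRingCat.ofHom (loc₂Right A a b) ≫
      CommRingCat.ofHom (Pi.evalRingHom (fun i => Loc₂ A a b i) i) =
      CommRingCat.ofHom (Pi.evalRingHom (fun i => Loc A b i) i) ≫
        CommRingCat.ofHom (algebraMap (Localization.Away (b i))
          (Localization.Away (algebraMap (A i) (Localization.Away (b i)) (a i)))) := rfl
  rw [e₁, e₂, Spec.map_comp_assoc, Spec.map_comp_assoc, hα, hβ, ← Spec.map_comp_assoc,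
    ← Spec.map_comp_assoc]
  congr 2
  ext x
  simp only [CommRingCat.hom_comp, CommRingCat.hom_ofHom, RingHom.comp_apply, loc₂LeftAux]
  exact IsLocalization.Away.lift_eq _ _ _


/-- kernel pair condition for a map out of a coproduct, checked piecewise. -/
theorem sigma_kernel_pair {J : Type u} (Yj : J → Scheme.{u}) {S X : Scheme.{u}}
    (π : (∐ Yj) ⟶ S) (G : (∐ Yj) ⟶ X)
    (H : ∀ (j j' : J) (T : Scheme.{u}) (t₁ : T ⟶ Yj j) (t₂ : T ⟶ Yj j'),
      t₁ ≫ Sigma.ι Yj j ≫ π = t₂ ≫ Sigma.ι Yj j' ≫ π →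
      t₁ ≫ Sigma.ι Yj j ≫ G = t₂ ≫ Sigma.ι Yj j' ≫ G) :
    pullback.fst π π ≫ G = pullback.snd π π ≫ G := by
  apply Scheme.Cover.hom_ext
    (Scheme.Pullback.openCoverOfLeftRight (sigmaOpenCover Yj) (sigmaOpenCover Yj) π π)
  rintro ⟨j, j'⟩
  have e₁ : (Scheme.Pullback.openCoverOfLeftRight (sigmaOpenCover Yj) (sigmaOpenCover Yj) π π).f
      (j, j') ≫ pullback.fst π π = pullback.fst (Sigma.ι Yj j ≫ π) (Sigma.ι Yj j' ≫ π) ≫ Sigma.ι Yj j :=
    pullback.lift_fst _ _ _
  have e₂ : (Scheme.Pullback.openCoverOfLeftRight (sigmaOpenCover Yj) (sigmaOpenCover Yj) π π).f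
      (j, j') ≫ pullback.snd π π = pullback.snd (Sigma.ι Yj j ≫ π) (Sigma.ι Yj j' ≫ π) ≫ Sigma.ι Yj j' :=
    pullback.lift_snd _ _ _
  have key := H j j' _ (pullback.fst (Sigma.ι Yj j ≫ π) (Sigma.ι Yj j' ≫ π))
    (pullback.snd (Sigma.ι Yj j ≫ π) (Sigma.ι Yj j' ≫ π)) pullback.condition
  exact ((Category.assoc _ _ _).symm.trans (congrArg (fun t => t ≫ G) e₁)).trans
    ((Category.assoc _ _ _).trans (key.trans ((Category.assoc _ _ _).symm.trans
      ((congrArg (fun t => t ≫ G) e₂).symm.trans (Category.assoc _ _ _)))))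


theorem pointsPi_surjective_qcqs (X : Scheme.{u}) [CompactSpace X] [QuasiSeparatedSpace X] :
    Function.Surjective (pointsPi A X) := by
  intro h
  classical
  let 𝒰 : X.OpenCover := X.affineCover.finiteSubcover
  have hex : ∀ i, ∃ a : 𝒰.I₀ → A i, Ideal.span (Set.range a) = ⊤ ∧
      ∀ j, (PrimeSpectrum.basicOpen (a j) : Set (PrimeSpectrum (A i))) ⊆
        (h i) ⁻¹' (Set.range (𝒰.f j)) := by
    intro i
    exact exists_partition
      (fun j => ⟨(h i) ⁻¹' (Set.range (𝒰.f j)),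
        ((𝒰.f j).opensRange.2).preimage (h i).continuous⟩)
      (fun x => ⟨𝒰.idx (h i x), 𝒰.covers _⟩)
  choose a ha haW using hex
  -- the lifted maps
  have hrange : ∀ j i, Set.range (Spec.map (CommRingCat.ofHom
      (algebraMap (A i) (Localization.Away (a i j)))) ≫ h i) ⊆ Set.range (𝒰.f j) := by
    rintro j i _ ⟨y, rfl⟩
    apply haW i j
    have := PrimeSpectrum.localization_away_comap_range (Localization.Away (a i j)) (a i j)
    rw [← this]
    exact ⟨y, rfl⟩
  let h' : ∀ j i, Spec (Loc A (fun i => a i j) i) ⟶ 𝒰.X j := fun j i =>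
    IsOpenImmersion.lift (𝒰.f j) _ (hrange j i)
  have hh' : ∀ j i, h' j i ≫ 𝒰.f j = Spec.map (CommRingCat.ofHom
      (algebraMap (A i) (Localization.Away (a i j)))) ≫ h i := fun j i =>
    IsOpenImmersion.lift_fac _ _ _
  have hα' : ∀ j, ∃ α' : Spec (.of (∀ i, Loc A (fun i => a i j) i)) ⟶ 𝒰.X j,
      ∀ i, Spec.map (CommRingCat.ofHom (Pi.evalRingHom (fun i => Loc A (fun i => a i j) i) i)) ≫ α' =
        h' j i := by
    intro j
    obtain ⟨α', hα'⟩ := pointsPi_surjective_of_isAffine (fun i => Loc A (fun i => a i j) i)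
      (𝒰.X j) (h' j)
    exact ⟨α', fun i => congrFun hα' i⟩
  choose α' hα' using hα'
  -- the covering family
  let Yj : 𝒰.I₀ → Scheme.{u} := fun j => Spec (.of (∀ i, Loc A (fun i => a i j) i))
  let πj : ∀ j, Yj j ⟶ Spec (.of (∀ i, A i)) := fun j =>
    Spec.map (CommRingCat.ofHom (locHom A (fun i => a i j)))
  let π : (∐ Yj) ⟶ Spec (.of (∀ i, A i)) := Sigma.desc πj
  let G : (∐ Yj) ⟶ X := Sigma.desc fun j => α' j ≫ 𝒰.f j
  haveI hflat : Flat π := by
    apply IsZariskiLocalAtSource.of_openCover (P := @Flat) (sigmaOpenCover Yj)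
    intro j
    change Flat (Sigma.ι Yj j ≫ π)
    rw [Sigma.ι_desc]
    exact flat_locHom A _
  haveI hsurj : Surjective π := by
    refine ⟨fun x => ?_⟩
    obtain ⟨j, hj⟩ := exists_disjoint (fun i => A i) a ha x.asIdeal
    have hx : x ∈ Set.range (πj j) := by
      rw [range_locHom]
      exact hj
    obtain ⟨y, hy⟩ := hx
    refine ⟨Sigma.ι Yj j y, ?_⟩
    rw [← Scheme.Hom.comp_apply, Sigma.ι_desc]
    exact hy
  haveI : EffectiveEpi π := inferInstance
  have hαh : ∀ j i, Spec.map (CommRingCat.ofHom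
      (Pi.evalRingHom (fun i => Loc A (fun i => a i j) i) i)) ≫ (α' j ≫ 𝒰.f j) =
      Spec.map (CommRingCat.ofHom (algebraMap (A i) (Localization.Away (a i j)))) ≫ h i := by
    intro j i
    rw [← Category.assoc, hα', hh']
  -- the kernel pair condition
  have hK : pullback.fst π π ≫ G = pullback.snd π π ≫ G := by
    apply sigma_kernel_pair Yj π G
    intro j j' T t₁ t₂ ht
    simp only [G, π, Sigma.ι_desc] at ht ⊢
    exact overlap_eq A h (fun i => a i j) (fun i => a i j') _ _ (hαh j) (hαh j') t₁ t₂ ht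
  let F : Spec (.of (∀ i, A i)) ⟶ X := EffectiveEpi.desc π G (fun {Z} g₁ g₂ hg => by
    have h₁ : pullback.lift g₁ g₂ hg ≫ pullback.fst π π = g₁ := pullback.lift_fst _ _ _
    have h₂ : pullback.lift g₁ g₂ hg ≫ pullback.snd π π = g₂ := pullback.lift_snd _ _ _
    calc g₁ ≫ G = (pullback.lift g₁ g₂ hg ≫ pullback.fst π π) ≫ G := by rw [h₁]
      _ = pullback.lift g₁ g₂ hg ≫ pullback.fst π π ≫ G := Category.assoc _ _ _
      _ = pullback.lift g₁ g₂ hg ≫ pullback.snd π π ≫ G := by rw [hK]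
      _ = (pullback.lift g₁ g₂ hg ≫ pullback.snd π π) ≫ G := (Category.assoc _ _ _).symm
      _ = g₂ ≫ G := by rw [h₂])
  have hF : π ≫ F = G := EffectiveEpi.fac π G _
  refine ⟨F, ?_⟩
  funext i
  simp only [pointsPi]
  apply Scheme.Cover.hom_ext (Scheme.affineOpenCoverOfSpanRangeEqTop (a i) (ha i)).openCover
  intro j
  change Spec.map (CommRingCat.ofHom (algebraMap (A i) (Localization.Away (a i j)))) ≫ _ =
    Spec.map (CommRingCat.ofHom (algebraMap (A i) (Localization.Away (a i j)))) ≫ _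
  rw [← hαh j i, ← Spec.map_comp_assoc]
  have e : CommRingCat.ofHom (Pi.evalRingHom (fun i => (A i : Type u)) i) ≫
      CommRingCat.ofHom (algebraMap (A i) (Localization.Away (a i j))) =
      CommRingCat.ofHom (locHom A (fun i => a i j)) ≫
        CommRingCat.ofHom (Pi.evalRingHom (fun i => Loc A (fun i => a i j) i) i) := rfl
  rw [e, Spec.map_comp_assoc]
  congr 1
  have : Sigma.ι Yj j ≫ π ≫ F = Sigma.ι Yj j ≫ G := by rw [hF]
  simpa [π, G, πj] using this

end Groth.Agent.Lib.Helper2.PiPts
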