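import Mathlib
import Groth.Agent.Lib.Helper27ProjFormula
import Groth.Agent.Lib.Helper17ProjFormulaD
import Groth.Agent.Lib.Helper23TensorUnit
import Groth.Agent.Lib.Helper23Serre

/-!
# `N ≅ f_* f^* N` for invertible `N` when `O_Y ≅ f_* O_X` (helper2)

Namespace `Groth.Agent.Lib.Helper2.PicFibC`.
-/

set_option autoImplicit false
set_option linter.style.haveILetI false
universe u
open CategoryTheory CategoryTheory.Limits AlgebraicGeometry TopologicalSpace Opposite

namespace Groth.Agent.Lib.Helper2.PicFibC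

open Groth.Agent.Lib.Helper23.Serre Groth.Agent.Lib.Helper23.GenLocus
  Groth.Agent.Lib.Helper27ProjFormula

variable {X Y : Scheme.{u}} (f : X ⟶ Y)

/-- `O_Y ⟶ f_* O_X` is an isomorphism of modules when it is one on sections -/
theorem isIso_unitPush (hO : ∀ U : Y.Opens, IsIso (f.app U)) : IsIso (unitPush f) := by
  rw [Scheme.Modules.Hom.isIso_iff_isIso_app]
  intro W
  rw [ConcreteCategory.isIso_iff_bijective]
  have hb : Function.Bijective (f.app W) := by
    have := hO W
    exact ConcreteCategory.bijective_of_isIso (f.app W)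
  constructor
  · intro a b hab
    obtain ⟨a', rfl⟩ : ∃ a', toS W a' = a := ⟨ofS W a, rfl⟩
    obtain ⟨b', rfl⟩ : ∃ b', toS W b' = b := ⟨ofS W b, rfl⟩
    rw [unitPush_app, unitPush_app] at hab
    have : f.app W a' = f.app W b' := hab
    rw [hb.1 this]
  · intro c
    obtain ⟨a, ha⟩ := hb.2 (ofS (f ⁻¹ᵁ W) c)
    refine ⟨toS W a, ?_⟩
    rw [unitPush_app, ha]
    rfl

/-- **projection formula**: `N ≅ f_* f^* N` for `N` invertible, when `O_Y ≅ f_* O_X` -/
theorem nonempty_iso_pushforward_pullback (hO : ∀ U : Y.Opens, IsIso (f.app U)) (N : Y.Modules)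
    (hN : PicF.IsInvertible N) :
    Nonempty (N ≅ (Scheme.Modules.pushforward f).obj ((Scheme.Modules.pullback f).obj N)) := by
  obtain ⟨N', -, ⟨e⟩, ⟨e'⟩⟩ := Groth.Agent.Lib.Helper17.ProjFormulaD.nonempty_inverse N hN
  haveI := isIso_unitPush f hO
  let u : Coh.structureModule Y ≅ (Scheme.Modules.pushforward f).obj (Coh.structureModule X) :=
    asIso (unitPush f)
  let a1 : N ≅ CohB1.tensorMod N (Coh.structureModule Y) :=
    (Groth.Agent.Lib.Helper23.TensorUnit.tensorUnitIso N).symm
  let a2 : CohB1.tensorMod N (Coh.structureModule Y) ≅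
      CohB1.tensorMod N ((Scheme.Modules.pushforward f).obj (Coh.structureModule X)) :=
    (TL Y N).mapIso u
  let a3 := projIsoLApp f N N' e e' (Coh.structureModule X)
  let a4 : (Scheme.Modules.pushforward f).obj
      (CohB1.tensorMod ((Scheme.Modules.pullback f).obj N) (Coh.structureModule X)) ≅
      (Scheme.Modules.pushforward f).obj ((Scheme.Modules.pullback f).obj N) :=
    (Scheme.Modules.pushforward f).mapIso
      (Groth.Agent.Lib.Helper23.TensorUnit.tensorUnitIso ((Scheme.Modules.pullback f).obj N))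
  exact ⟨a1 ≪≫ a2 ≪≫ a3 ≪≫ a4⟩

end Groth.Agent.Lib.Helper2.PicFibC
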