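import Mathlib
import Groth.Agent.Lib.Helper17TwistBC2
import Groth.Agent.Lib.Helper27ProjSpaceFibres
import Groth.Agent.Lib.Helper27ChartPoly
import Groth.Agent.Lib.Helper2BoxPicB
import Groth.Agent.Lib.Helper6SmGeom
import Groth.Agent.Lib.Helper2FibH1C
import Groth.Agent.S0023
import Groth.Agent.S0024

/-!
# Helper2: projective space over a scheme: the fibres of `P^n_Y ⟶ Y` are projective spaces over the
residue fields (with their twisting sheaves); `h⁰(O) = 1`, `h¹(O) = 0` on the fibres; integral fibres
-/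

set_option autoImplicit false
set_option linter.style.haveILetI false
universe u
open CategoryTheory CategoryTheory.Limits AlgebraicGeometry TopologicalSpace Opposite

namespace Groth.Agent.Lib.Helper2.PicPnA

open Groth.Agent.Lib.Helper27ProjSpaceBC Groth.Agent.Lib.Helper27ProjOverBC
  Groth.Agent.Lib.Helper17.TwistBC

section spec
variable (n : ℕ) {Y : Scheme.{u}} {R : Type u} [CommRing R] (g : Spec (CommRingCat.of R) ⟶ Y)

/-- the morphism `P^n_R ⟶ P^n_Y` over `g : Spec R ⟶ Y` -/
noncomputable def specOver : CohB1.ProjSpace n R ⟶ CohB1.ProjSpaceOver n Y :=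
  (overIso n R).hom ≫ bcOver n g

theorem specOver_fst :
    specOver n g ≫ pullback.fst (CohB1.ProjSpace.toSpec n (ULift.{u} ℤ))
      (specULiftZIsTerminal.from Y) = bcMap' n R := by
  unfold specOver
  rw [Category.assoc, bcOver_fst, overIso_hom_fst]

theorem specOver_toBase :
    specOver n g ≫ CohB1.ProjSpaceOver.toBase n Y = CohB1.ProjSpace.toSpec n R ≫ g := by
  unfold specOver
  rw [Category.assoc, bcOver_toBase, ← Category.assoc, overIso_hom_toBase]

theorem isPullback_specOver :
    IsPullback (specOver n g) (CohB1.ProjSpace.toSpec n R) (CohB1.ProjSpaceOver.toBase n Y) g := by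
  have h := isPullback_bcOver n g
  refine IsPullback.of_iso h (overIso n R).symm (Iso.refl _) (Iso.refl _) (Iso.refl _) ?_ ?_ ?_ ?_
  · simp [specOver]
  · have := overIso_inv_toSpec n R
    simp only [Iso.symm_hom, Iso.refl_hom, Category.comp_id]
    exact this.symm
  · simp
  · simp

/-- `O(d)` on `P^n_Y` pulls back to `O(d)` on `P^n_R` -/
theorem nonempty_pullback_specOver_twist (d : ℤ) :
    Nonempty ((Scheme.Modules.pullback (specOver n g)).obj (Twist.twistOver n Y d) ≅
      Twist.twistProjSpace n R d) := by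
  obtain ⟨e⟩ := nonempty_pullback_bcMap_twist n R d
  exact ⟨pullbackTwistOverIso n (specOver n g) d ≪≫
    (Scheme.Modules.pullbackCongr (specOver_fst n g)).app _ ≪≫ e⟩

end spec

section fibre
variable (n : ℕ) (Y : Scheme.{u})

/-- the fibre of `P^n_Y ⟶ Y` over `s` is `P^n_{κ(s)}` -/
noncomputable def fibIso (s : Y) :
    CohB1.ProjSpace n (Y.residueField s) ≅ (CohB1.ProjSpaceOver.toBase n Y).fiber s :=
  (isPullback_specOver n (Y.fromSpecResidueField s)).isoPullback

theorem fibIso_hom_fiberι (s : Y) :
    (fibIso n Y s).hom ≫ (CohB1.ProjSpaceOver.toBase n Y).fiberι s =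
      specOver n (Y.fromSpecResidueField s) :=
  (isPullback_specOver n (Y.fromSpecResidueField s)).isoPullback_hom_fst

theorem fibIso_hom_toSpec (s : Y) :
    (fibIso n Y s).hom ≫ (CohB1.ProjSpaceOver.toBase n Y).fiberToSpecResidueField s =
      CohB1.ProjSpace.toSpec n (Y.residueField s) :=
  (isPullback_specOver n (Y.fromSpecResidueField s)).isoPullback_hom_snd

instance : IsProper (CohB1.ProjSpaceOver.toBase n Y) :=
  Groth.Agent.Lib.Helper27ProjSpaceFibres.isProper_toBase n Y

instance : Smooth (CohB1.ProjSpaceOver.toBase n Y) :=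
  Groth.Agent.Lib.Helper27ChartPoly.smooth_toBase n Y

/-- the fibres of `P^n_Y ⟶ Y` are integral -/
theorem isIntegral_fiber (s : Y) : IsIntegral ((CohB1.ProjSpaceOver.toBase n Y).fiber s) := by
  haveI := Groth.Agent.Lib.Helper27ProjSpaceFibres.irreducibleSpace_fiber n Y s
  haveI : Smooth ((CohB1.ProjSpaceOver.toBase n Y).fiberToSpecResidueField s) :=
    MorphismProperty.pullback_snd (P := @Smooth) (CohB1.ProjSpaceOver.toBase n Y)
      (Y.fromSpecResidueField s) inferInstance
  haveI : IsReduced ((CohB1.ProjSpaceOver.toBase n Y).fiber s) :=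
    Groth.Agent.Lib.Helper6.SmGeom.isReduced_of_smooth_over_field (Y.residueField s) _
      ((CohB1.ProjSpaceOver.toBase n Y).fiberToSpecResidueField s)
  exact isIntegral_of_irreducibleSpace_of_isReduced _

/-- the restriction of `O(d)` to the fibre over `s`, transported to `P^n_{κ(s)}`, is `O(d)` -/
theorem nonempty_fibre_twist (s : Y) (d : ℤ) :
    Nonempty ((Scheme.Modules.pullback
        ((fibIso n Y s).hom ≫ (CohB1.ProjSpaceOver.toBase n Y).fiberι s)).obj
          (Twist.twistOver n Y d) ≅ Twist.twistProjSpace n (Y.residueField s) d) := by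
  obtain ⟨e⟩ := nonempty_pullback_specOver_twist n (Y.fromSpecResidueField s) d
  exact ⟨(Scheme.Modules.pullbackCongr (fibIso_hom_fiberι n Y s)).app _ ≪≫ e⟩

theorem finrank_eq_one_of_bijective {k A : Type*} [Field k] [CommRing A] [Algebra k A]
    (h : Function.Bijective (algebraMap k A)) : Module.finrank k A = 1 := by
  have e : k ≃ₗ[k] A := LinearEquiv.ofBijective (Algebra.linearMap k A) h
  rw [← e.finrank_eq, Module.finrank_self]

/-- `h⁰(P^n_{κ(s)}, O) = 1` -/
theorem betti_zero (s : Y) :
    PerfAux.betti (CohB1.ProjSpaceOver.toBase n Y)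
      (Coh.structureModule (CohB1.ProjSpaceOver n Y)) s 0 = 1 := by
  rw [Groth.Agent.Lib.Helper2.SurfFibB.betti_zero_eq_finrank]
  let κ : Type u := Y.residueField s
  let q : (CohB1.ProjSpaceOver.toBase n Y).fiber s ⟶ Spec (CommRingCat.of κ) :=
    (CohB1.ProjSpaceOver.toBase n Y).fiberToSpecResidueField s
  letI alg : Algebra κ Γ((CohB1.ProjSpaceOver.toBase n Y).fiber s, ⊤) :=
    (Groth.Agent.Lib.Helper6.H0Const.gsMap κ q).hom.toAlgebra
  have hq : IsIso q.appTop := by
    have h1 := fibIso_hom_toSpec n Y s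
    have h2 : q.appTop ≫ (fibIso n Y s).hom.appTop = (CohB1.ProjSpace.toSpec n κ).appTop := by
      rw [← Scheme.Hom.comp_appTop]
      exact congrArg Scheme.Hom.appTop h1
    haveI := Groth.Agent.S0024.result n κ
    haveI : IsIso ((fibIso n Y s).hom.appTop) :=
      inferInstanceAs (IsIso ((fibIso n Y s).hom.app ⊤))
    have h3 : q.appTop = (CohB1.ProjSpace.toSpec n κ).appTop ≫
        inv ((fibIso n Y s).hom.appTop) := by
      rw [← h2, Category.assoc, IsIso.hom_inv_id, Category.comp_id]
    rw [h3]
    infer_instance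
  have hbij : Function.Bijective (algebraMap κ Γ((CohB1.ProjSpaceOver.toBase n Y).fiber s, ⊤)) := by
    change Function.Bijective (Groth.Agent.Lib.Helper6.H0Const.gsMap κ q).hom
    haveI : IsIso (Groth.Agent.Lib.Helper6.H0Const.gsMap κ q) := by
      unfold Groth.Agent.Lib.Helper6.H0Const.gsMap
      infer_instance
    exact (ConcreteCategory.isIso_iff_bijective _).1 inferInstance
  exact finrank_eq_one_of_bijective hbij

end fibre

section iso

/-- cohomology of the structure sheaf is invariant under isomorphisms of schemes -/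
theorem subsingleton_HH_structure_of_isIso {A : Type u} [CommRing A] {T Z : Scheme.{u}}
    (t : T ⟶ Spec (CommRingCat.of A)) [QuasiCompact t] [QuasiSeparated t]
    (ι : Z ⟶ T) [IsIso ι] (i : ℕ)
    (h : Subsingleton (Coh.HH T (Coh.structureModule T) i)) :
    Subsingleton (Coh.HH Z (Coh.structureModule Z) i) := by
  letI : T.Over (Spec (CommRingCat.of A)) := ⟨t⟩
  letI : Z.Over (Spec (CommRingCat.of A)) := ⟨ι ≫ t⟩
  haveI : CompactSpace T := (quasiCompact_iff_compactSpace (f := t)).1 inferInstance
  haveI : QuasiSeparatedSpace T := (quasiSeparated_iff_quasiSeparatedSpace (f := t)).1 inferInstance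
  haveI : (Coh.structureModule Z).IsQuasicoherent :=
    Groth.Agent.Helper18Strict.isQCoh_of_isFP _
      (Groth.Agent.Lib.Helper2.SurfFibB.isFP_structureModule Z)
  obtain ⟨e1⟩ := Groth.Agent.Lib.Helper6.AffPushLin.nonempty_linearEquiv (A := A) ι
    (by rfl) (Coh.structureModule Z) i
  have hbij : ∀ U : T.Opens, Function.Bijective (ι.app U) := fun U =>
    (ConcreteCategory.isIso_iff_bijective _).1 inferInstance
  haveI := Groth.Agent.Helper18PBUnit.isIso_strToPush ι hbij
  have h2 := Groth.Agent.Lib.Helper2.FibH1C.subsingleton_HH_of_iso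
    (asIso (Groth.Agent.Helper18PBUnit.strToPush ι)) i h
  exact e1.symm.toEquiv.subsingleton

end iso

section fibre
variable (n : ℕ) (Y : Scheme.{u})

/-- `h¹(P^n_{κ(s)}, O) = 0` -/
theorem betti_one (s : Y) :
    PerfAux.betti (CohB1.ProjSpaceOver.toBase n Y)
      (Coh.structureModule (CohB1.ProjSpaceOver n Y)) s 1 = 0 := by
  apply Groth.Agent.Lib.Helper2.GrauertG.betti_one_eq_zero
  haveI : IsProper (CohB1.ProjSpace.toSpec n (Y.residueField s)) :=
    Groth.Agent.Lib.Helper27ProjSpaceFibres.isProper_projSpace_toSpec n (Y.residueField s)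
  exact subsingleton_HH_structure_of_isIso (CohB1.ProjSpace.toSpec n (Y.residueField s))
    (fibIso n Y s).inv 1 (Groth.Agent.S0023.result n (Y.residueField s) 1 one_pos)

end fibre

end Groth.Agent.Lib.Helper2.PicPnA
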