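import Mathlib
import Groth.Agent.Lib.Helper2PicPnA
import Groth.Agent.Lib.Helper2BoxPicC
import Groth.Agent.Lib.Helper2TwFlatD
import Groth.Agent.Lib.Helper2PicFibC
import Groth.Agent.Lib.Helper27AmpleSerre
import Groth.Agent.Lib.Helper23SecTw6
import Groth.Agent.Lib.Helper2R1RankG
import Groth.Agent.S1697
import Groth.Agent.S10960

/-!
# Helper2: the Picard group of projective space over a connected base: `Pic(P^r_S) = Pic(S) × ℤ`
(no Noetherian hypothesis)
-/

set_option autoImplicit false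
set_option linter.style.haveILetI false
universe u
open CategoryTheory CategoryTheory.Limits AlgebraicGeometry TopologicalSpace Opposite

namespace Groth.Agent.Lib.Helper2.PicPnB

open Groth.Agent.Lib.Helper2.PicPnA Groth.Agent.Lib.Helper23.RestrTensor
  Groth.Agent.Lib.Helper2.TrivFibA Groth.Agent.Lib.Helper2.BoxPicC
  Groth.Agent.Lib.Helper17.TwistBC

variable (r : ℕ) (S : Scheme.{u})

/-- `O(k) ⊗ O(-k) ≅ O` on `P^r_S` -/
theorem nonempty_twistOver_inv (k : ℤ) :
    Nonempty (CohB1.tensorMod (Twist.twistOver r S k) (Twist.twistOver r S (-k)) ≅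
      Coh.structureModule (CohB1.ProjSpaceOver r S)) := by
  obtain ⟨e⟩ := Groth.Agent.Lib.Helper27AmpleSerre.nonempty_twist_inv r (ULift.{u} ℤ) k
  unfold Twist.twistOver
  exact ⟨(pullbackTensorIso _ _ _).symm ≪≫ (Scheme.Modules.pullback _).mapIso e ≪≫
    Groth.Agent.Lib.Helper1.Fib.pullbackUnitIso' _⟩

/-- `O(-k) ⊗ O(k) ≅ O` on `P^r_S` -/
theorem nonempty_twistOver_inv' (k : ℤ) :
    Nonempty (CohB1.tensorMod (Twist.twistOver r S (-k)) (Twist.twistOver r S k) ≅
      Coh.structureModule (CohB1.ProjSpaceOver r S)) := by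
  have h := nonempty_twistOver_inv r S (-k)
  rwa [neg_neg] at h

/-- the map `P^r_{κ(s)} ⟶ P^r_S` -/
noncomputable abbrev ψ (s : S) : CohB1.ProjSpace r (S.residueField s) ⟶ CohB1.ProjSpaceOver r S :=
  (fibIso r S s).hom ≫ (CohB1.ProjSpaceOver.toBase r S).fiberι s

theorem ψ_toBase (s : S) :
    ψ r S s ≫ CohB1.ProjSpaceOver.toBase r S =
      CohB1.ProjSpace.toSpec r (S.residueField s) ≫ S.fromSpecResidueField s := by
  unfold ψ
  exact (congrArg (fun t => t ≫ CohB1.ProjSpaceOver.toBase r S) (fibIso_hom_fiberι r S s)).trans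
    (specOver_toBase r (S.fromSpecResidueField s))

/-- `π^*L ⊗ O(d)` restricts to `O(d)` on the fibre `P^r_{κ(s)}` -/
theorem nonempty_pullback_twisted (s : S) (L : S.Modules) (hL : PicF.IsInvertible L) (d : ℤ) :
    Nonempty ((Scheme.Modules.pullback (ψ r S s)).obj
      (CohB1.tensorMod ((Scheme.Modules.pullback (CohB1.ProjSpaceOver.toBase r S)).obj L)
        (Twist.twistOver r S d)) ≅ Twist.twistProjSpace r (S.residueField s) d) := by
  obtain ⟨b⟩ := nonempty_fibre_twist r S s d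
  have hL₁ : PicF.IsInvertible ((Scheme.Modules.pullback (S.fromSpecResidueField s)).obj L) :=
    Groth.Agent.Lib.Helper23.PB.isInvertible_pullback _ L hL
  obtain ⟨t⟩ := nonempty_iso_of_field (S.residueField s) _ hL₁
  let a : (Scheme.Modules.pullback (ψ r S s)).obj
      ((Scheme.Modules.pullback (CohB1.ProjSpaceOver.toBase r S)).obj L) ≅
      Coh.structureModule (CohB1.ProjSpace r (S.residueField s)) :=
    (Scheme.Modules.pullbackComp (ψ r S s) (CohB1.ProjSpaceOver.toBase r S)).app L ≪≫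
      (Scheme.Modules.pullbackCongr (ψ_toBase r S s)).app L ≪≫
      ((Scheme.Modules.pullbackComp (CohB1.ProjSpace.toSpec r (S.residueField s))
        (S.fromSpecResidueField s)).app L).symm ≪≫
      (Scheme.Modules.pullback (CohB1.ProjSpace.toSpec r (S.residueField s))).mapIso t ≪≫
      Groth.Agent.Lib.Helper1.Fib.pullbackUnitIso' _
  exact ⟨pullbackTensorIso _ _ (ψ r S s) ≪≫ PicGrp.tensorModIso a b ≪≫ leftUnitIso _⟩

variable {r S}

/-- **existence**: every invertible module on `P^r_S`, `S` connected, is `π^*L ⊗ O(d)` -/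
theorem exists_decomp [ConnectedSpace S] (N : (CohB1.ProjSpaceOver r S).Modules)
    (hN : PicF.IsInvertible N) :
    ∃ (L : S.Modules) (d : ℤ), PicF.IsInvertible L ∧
      Nonempty (N ≅ CohB1.tensorMod
        ((Scheme.Modules.pullback (CohB1.ProjSpaceOver.toBase r S)).obj L)
        (Twist.twistOver r S d)) := by
  obtain ⟨s₀⟩ : Nonempty S := inferInstance
  have hN₀ : PicF.IsInvertible ((Scheme.Modules.pullback (ψ r S s₀)).obj N) :=
    Groth.Agent.Lib.Helper23.PB.isInvertible_pullback _ N hN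
  obtain ⟨d, ⟨a⟩⟩ := Groth.Agent.S1697.result (S.residueField s₀) r _ hN₀
  obtain ⟨b⟩ := nonempty_fibre_twist r S s₀ (-d)
  obtain ⟨c⟩ := Groth.Agent.Lib.Helper27AmpleSerre.nonempty_twist_inv r (S.residueField s₀) d
  have hL' : PicF.IsInvertible (CohB1.tensorMod N (Twist.twistOver r S (-d))) :=
    Groth.Agent.Lib.Helper23.SecTw.isInvertible_tensorMod hN
      (Groth.Agent.Lib.Helper2.TwFlatD.isInvertible_twistOver r (-d))
  have h₀ : Nonempty ((Scheme.Modules.pullback
      ((CohB1.ProjSpaceOver.toBase r S).fiberι s₀)).obj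
        (CohB1.tensorMod N (Twist.twistOver r S (-d))) ≅
      Coh.structureModule ((CohB1.ProjSpaceOver.toBase r S).fiber s₀)) := by
    have t1 : (Scheme.Modules.pullback (ψ r S s₀)).obj
        (CohB1.tensorMod N (Twist.twistOver r S (-d))) ≅
        Coh.structureModule (CohB1.ProjSpace r (S.residueField s₀)) :=
      pullbackTensorIso _ _ (ψ r S s₀) ≪≫ PicGrp.tensorModIso a b ≪≫ c
    exact ⟨isoOfPullbackIso (fibIso r S s₀)
      ((Scheme.Modules.pullbackComp (fibIso r S s₀).hom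
        ((CohB1.ProjSpaceOver.toBase r S).fiberι s₀)).app _ ≪≫ t1 ≪≫
        (Groth.Agent.Lib.Helper1.Fib.pullbackUnitIso' (fibIso r S s₀).hom).symm)⟩
  have htriv := Groth.Agent.Lib.Helper2.BoxPicA.trivial_on_all_fibres
    (CohB1.ProjSpaceOver.toBase r S) (isIntegral_fiber r S) (betti_zero r S) (betti_one r S)
    (CohB1.tensorMod N (Twist.twistOver r S (-d))) hL' s₀ h₀
  obtain ⟨hL₀, hiso⟩ := Groth.Agent.Lib.Helper2.GrauertG.main_H1
    (CohB1.ProjSpaceOver.toBase r S) (betti_zero r S) (betti_one r S)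
    (CohB1.tensorMod N (Twist.twistOver r S (-d))) hL' htriv
  haveI : IsIso ((Scheme.Modules.pullbackPushforwardAdjunction
      (CohB1.ProjSpaceOver.toBase r S)).counit.app
        (CohB1.tensorMod N (Twist.twistOver r S (-d)))) := hiso
  obtain ⟨e2⟩ := nonempty_twistOver_inv' r S d
  exact ⟨(Scheme.Modules.pushforward (CohB1.ProjSpaceOver.toBase r S)).obj
      (CohB1.tensorMod N (Twist.twistOver r S (-d))), d, hL₀,
    ⟨(rightUnitIso N).symm ≪≫ PicGrp.tensorModIso (Iso.refl N) e2.symm ≪≫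
    (assocIso' N (Twist.twistOver r S (-d)) (Twist.twistOver r S d)).symm ≪≫
    PicGrp.tensorModIso (asIso ((Scheme.Modules.pullbackPushforwardAdjunction
      (CohB1.ProjSpaceOver.toBase r S)).counit.app
        (CohB1.tensorMod N (Twist.twistOver r S (-d))))).symm (Iso.refl _)⟩⟩

/-- **uniqueness** (`r ≥ 1`) -/
theorem unique_decomp [ConnectedSpace S] (hr : 1 ≤ r) (L L' : S.Modules) (d d' : ℤ)
    (hL : PicF.IsInvertible L) (hL' : PicF.IsInvertible L')
    (Φ : CohB1.tensorMod ((Scheme.Modules.pullback (CohB1.ProjSpaceOver.toBase r S)).obj L)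
        (Twist.twistOver r S d) ≅
      CohB1.tensorMod ((Scheme.Modules.pullback (CohB1.ProjSpaceOver.toBase r S)).obj L')
        (Twist.twistOver r S d')) :
    d = d' ∧ Nonempty (L ≅ L') := by
  obtain ⟨s₀⟩ : Nonempty S := inferInstance
  obtain ⟨a⟩ := nonempty_pullback_twisted r S s₀ L hL d
  obtain ⟨a'⟩ := nonempty_pullback_twisted r S s₀ L' hL' d'
  have hd : d = d' := by
    obtain ⟨d₀, -, huniq⟩ := Groth.Agent.S10960.result (S.residueField s₀) r hr
      (Twist.twistProjSpace r (S.residueField s₀) d)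
      (Groth.Agent.Lib.Helper27SerreVanPn.isInvertible_twist r _ d)
    have h1 := huniq d ⟨Iso.refl _⟩
    have h2 := huniq d' ⟨a.symm ≪≫ (Scheme.Modules.pullback (ψ r S s₀)).mapIso Φ ≪≫ a'⟩
    rw [h1, h2]
  subst hd
  refine ⟨rfl, ?_⟩
  obtain ⟨e⟩ := nonempty_twistOver_inv r S d
  obtain ⟨Ψ⟩ := nonempty_iso_of_tensor_right _ _ (Twist.twistOver r S d)
    (Twist.twistOver r S (-d)) e Φ
  have hunit : IsIso (ClSub.unitToPush (CohB1.ProjSpaceOver.toBase r S)) :=
    Groth.Agent.Lib.Helper2.R1RankG.isIso_unitToPush _ (betti_zero r S)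
  have hO : ∀ U : S.Opens, IsIso ((CohB1.ProjSpaceOver.toBase r S).app U) := by
    intro U
    have h1 := (Scheme.Modules.Hom.isIso_iff_isIso_app
      (φ := ClSub.unitToPush (CohB1.ProjSpaceOver.toBase r S))).1 hunit U
    have h2 := (ConcreteCategory.isIso_iff_bijective _).1 h1
    exact (ConcreteCategory.isIso_iff_bijective _).2 h2
  obtain ⟨u⟩ := Groth.Agent.Lib.Helper2.PicFibC.nonempty_iso_pushforward_pullback
    (CohB1.ProjSpaceOver.toBase r S) hO L hL
  obtain ⟨u'⟩ := Groth.Agent.Lib.Helper2.PicFibC.nonempty_iso_pushforward_pullback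
    (CohB1.ProjSpaceOver.toBase r S) hO L' hL'
  exact ⟨u ≪≫ (Scheme.Modules.pushforward (CohB1.ProjSpaceOver.toBase r S)).mapIso Ψ ≪≫ u'.symm⟩

end Groth.Agent.Lib.Helper2.PicPnB
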