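import Mathlib
import Groth.Prelude.Def_BlowUp2
import Groth.Agent.Lib.Helper27ChartPoly
import Groth.Agent.Lib.Helper27ProjSpaceIrr

/-!
# Ideal sheaves on irreducible schemes covered by spectra of principal ideal domains (helper2)

On an irreducible scheme with an affine open cover by spectra of principal ideal domains (e.g. `P^1_k`), every
quasi-coherent ideal sheaf whose support is not everything is the ideal of an effective Cartier divisor.
-/

set_option autoImplicit false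
set_option linter.style.haveILetI false
universe u
open CategoryTheory Limits AlgebraicGeometry TopologicalSpace Opposite nonZeroDivisors

namespace Groth.Agent.Lib.Helper2.PidCartier

theorem le_support_of_ideal_eq_bot {P : Scheme.{u}} (𝓚 : P.IdealSheafData) (U : P.affineOpens)
    (h : 𝓚.ideal U = ⊥) : (U.1 : Set P) ⊆ (𝓚.support : Set P) := by
  intro z hz
  change z ∈ 𝓚.support
  rw [Scheme.IdealSheafData.mem_support_iff_of_mem (U := U) hz, Scheme.mem_zeroLocus_iff]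
  intro f hf
  rw [h] at hf
  have hf0 : f = 0 := hf
  rw [hf0, Scheme.basicOpen_zero]
  exact fun h => h

theorem isEffCartierIdeal_of_pid_cover {P : Scheme.{u}} [IrreducibleSpace P]
    (hcov : ∀ x : P, ∃ (R : Type u) (_ : CommRing R) (_ : IsDomain R)
      (_ : IsPrincipalIdealRing R) (φ : Spec (CommRingCat.of R) ⟶ P),
      IsOpenImmersion φ ∧ x ∈ Set.range φ)
    (𝓚 : P.IdealSheafData) (h𝓚 : (𝓚.support : Set P) ≠ Set.univ) :
    BlowUp.IsEffCartierIdeal 𝓚 := by
  intro x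
  obtain ⟨R, _, _, _, φ, hφ, y, hy⟩ := hcov x
  have hU : IsAffineOpen (φ ''ᵁ ⊤) := (isAffineOpen_top _).image_of_isOpenImmersion φ
  have hxU : x ∈ φ ''ᵁ ⊤ := ⟨y, trivial, hy⟩
  let e : Γ(P, φ ''ᵁ ⊤) ≃+* R :=
    ((φ.appIso ⊤) ≪≫ Scheme.ΓSpecIso (CommRingCat.of R)).commRingCatIsoToRingEquiv
  haveI : IsDomain Γ(P, φ ''ᵁ ⊤) := MulEquiv.isDomain R e.toMulEquiv
  haveI : IsPrincipalIdealRing Γ(P, φ ''ᵁ ⊤) :=
    IsPrincipalIdealRing.of_surjective e.symm.toRingHom e.symm.surjective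
  have hprin : (𝓚.ideal ⟨φ ''ᵁ ⊤, hU⟩).IsPrincipal := IsPrincipalIdealRing.principal _
  obtain ⟨t, ht⟩ := hprin
  refine ⟨⟨φ ''ᵁ ⊤, hU⟩, hxU, t, ?_, ht⟩
  apply mem_nonZeroDivisors_of_ne_zero
  rintro rfl
  apply h𝓚
  have h0 : 𝓚.ideal ⟨φ ''ᵁ ⊤, hU⟩ = ⊥ := by
    rw [ht]
    exact Submodule.span_zero_singleton _
  have hsub := le_support_of_ideal_eq_bot 𝓚 ⟨φ ''ᵁ ⊤, hU⟩ h0
  have hdense : Dense ((φ ''ᵁ ⊤ : P.Opens) : Set P) := (φ ''ᵁ ⊤).2.dense ⟨x, hxU⟩
  have hcl : closure ((φ ''ᵁ ⊤ : P.Opens) : Set P) ⊆ (𝓚.support : Set P) :=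
    closure_minimal hsub 𝓚.support.isClosed
  rw [hdense.closure_eq] at hcl
  exact Set.eq_univ_of_univ_subset hcl

open Groth.Agent.Lib.Helper27ProjSpaceBC Groth.Agent.Lib.Helper27ChartPoly HomogeneousLocalization in
theorem card_ne (i : Fin (1 + 1)) : Fintype.card {j : Fin (1 + 1) // j ≠ i} = 1 := by
  fin_cases i <;> rfl

open Groth.Agent.Lib.Helper27ProjSpaceBC Groth.Agent.Lib.Helper27ChartPoly HomogeneousLocalization in
theorem projLine_cover (k : Type u) [Field k] (x : CohB1.ProjSpace 1 k) :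
    ∃ (R : Type u) (_ : CommRing R) (_ : IsDomain R) (_ : IsPrincipalIdealRing R)
      (φ : Spec (CommRingCat.of R) ⟶ CohB1.ProjSpace 1 k),
      IsOpenImmersion φ ∧ x ∈ Set.range φ := by
  let 𝒱 := Proj.affineOpenCoverOfIrrelevantLESpan (CohB1.polyGrading 1 k)
    (fun j : ULift.{u} (Fin (1 + 1)) => (MvPolynomial.X j.down : MvPolynomial (Fin (1 + 1)) k))
    (m := fun _ => 1) (fun j => hX 1 k j.down) (fun _ => Nat.one_pos) (irrelevant_le_span_X 1 k)
  let j := 𝒱.idx x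
  obtain ⟨hu⟩ := (Fintype.card_eq_one_iff_nonempty_unique).1 (card_ne j.down)
  let e1 : Away (CohB1.polyGrading 1 k) (MvPolynomial.X j.down) ≃+*
      MvPolynomial {l : Fin (1 + 1) // l ≠ j.down} k := awayEquiv 1 k j.down
  let e2 : MvPolynomial {l : Fin (1 + 1) // l ≠ j.down} k ≃+* Polynomial k :=
    (MvPolynomial.uniqueAlgEquiv k {l : Fin (1 + 1) // l ≠ j.down}).toRingEquiv
  let e := e1.trans e2
  haveI : IsDomain (Away (CohB1.polyGrading 1 k) (MvPolynomial.X j.down)) :=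
    MulEquiv.isDomain (Polynomial k) e.toMulEquiv
  haveI : IsPrincipalIdealRing (Away (CohB1.polyGrading 1 k) (MvPolynomial.X j.down)) :=
    IsPrincipalIdealRing.of_surjective e.symm.toRingHom e.symm.surjective
  exact ⟨Away (CohB1.polyGrading 1 k) (MvPolynomial.X j.down), inferInstance, inferInstance,
    inferInstance, 𝒱.f j, 𝒱.map_prop j, 𝒱.covers x⟩

end Groth.Agent.Lib.Helper2.PidCartier
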