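import Mathlib
import Groth.Agent.Lib.Helper2GrauertH
import Groth.Agent.Lib.Helper23GenNear
import Groth.Agent.Lib.Helper20UFDPic

/-!
# Helper2: lifting a fibrewise generator of an invertible module from an epimorphic degree-0 base
change map (general base, no flatness)

* `isGenNear_of_unitSec`: if the pullback of a local section `m` of an invertible module `L` along
  `ι : Z ⟶ X` generates `ι^* L` near `z`, then `m` generates `L` near `ι z`.
* `exists_isGen_of_epi`: `f : X ⟶ Y` proper, `L` invertible, `y : Y` with `L|_{X_y}` trivial,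
  `Γ(X_y, O) = κ(y)` and the degree-0 base change map of the fibre square at `y` an epimorphism:
  then `L` is generated by one section over `f⁻¹ W` for an open neighbourhood `W` of `y`.

Namespace `Groth.Agent.Lib.Helper2.PullIffA`.
-/

set_option autoImplicit false
set_option linter.style.haveILetI false
universe u
open CategoryTheory CategoryTheory.Limits AlgebraicGeometry TensorProduct Opposite TopologicalSpace

namespace Groth.Agent.Lib.Helper2.PullIffA

open Groth.Agent.Lib.Helper23.GenLocus Groth.Agent.Lib.Helper23.SecTw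
  Groth.Agent.Lib.Helper23.Extend Groth.Agent.Lib.Helper23.PB
  Groth.Agent.Lib.Helper6 Groth.Agent.Helper13PullbackUnit
  Groth.Agent.Lib.Helper2.PicFibA Groth.Agent.Lib.Helper2.PicFibB Groth.Agent.Lib.Helper2.GrauertC
  Groth.Agent.Lib.Helper23.GenNear

/-- if the pullback of a local section generates the pullback of an invertible module, the section
generates near the image points -/
theorem isGenNear_of_unitSec {Z X : Scheme.{u}} (ι : Z ⟶ X) (L : X.Modules)
    (hL : PicF.IsInvertible L) {W : X.Opens} (m : Γ(L, W)) (z : Z) (hz : z ∈ ι ⁻¹ᵁ W)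
    (hgen : IsGen ((Scheme.Modules.pullback ι).obj L) (ι ⁻¹ᵁ W) (unitSec ι L le_rfl m)) :
    IsGenNear L W m (ι z) := by
  haveI : L.IsQuasicoherent := isQuasicoherent_of_isInvertible L hL
  obtain ⟨A₀, e₀, hxA₀, -, he₀⟩ := exists_affine_gen L hL (ι z)
  obtain ⟨A, hA, hxA, hAle⟩ := exists_isAffineOpen_mem_and_subset (x := ι z) (U := A₀ ⊓ W)
    ⟨hxA₀, hz⟩
  have hAA₀ : A ≤ A₀ := fun _ h => (hAle h).1
  have hAW : A ≤ W := fun _ h => (hAle h).2
  have he : IsGen L A (res L hAA₀ e₀) := he₀.mono hAA₀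
  rw [isGenNear_iff_of_isGen he hAW m (ι z) hxA]
  obtain ⟨a, ha⟩ : ∃ a, a = coef he le_rfl (res L hAW m) := ⟨_, rfl⟩
  rw [← ha]
  have hspec : a • res L hAA₀ e₀ = res L hAW m := by
    have := coef_spec he le_rfl (res L hAW m)
    rw [res_self, ← ha] at this
    exact this
  have hE := isGen_unitSec ι L hA (res L hAA₀ e₀) he
  have h1 : unitSec ι L (le_refl (ι ⁻¹ᵁ A)) (res L hAW m) =
      res _ (ι.preimage_mono hAW) (unitSec ι L le_rfl m) :=
    (res_unitSec ι L le_rfl le_rfl hAW (ι.preimage_mono hAW) m).symm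
  have h2 : IsGen ((Scheme.Modules.pullback ι).obj L) (ι ⁻¹ᵁ A)
      (unitSec ι L (le_refl (ι ⁻¹ᵁ A)) (res L hAW m)) := by
    rw [h1]
    exact hgen.mono (ι.preimage_mono hAW)
  rw [← hspec, unitSec_smul] at h2
  have hu : IsUnit (ι.appLE A (ι ⁻¹ᵁ A) le_rfl a) := (isGen_smul_iff hE _).1 h2
  have hu' : IsUnit (ι.app A a) := by
    rw [Scheme.Hom.app_eq_appLE]
    exact hu
  have h3 : ι ⁻¹ᵁ X.basicOpen a = Z.basicOpen (ι.app A a) := Scheme.preimage_basicOpen ι a
  have h4 : z ∈ ι ⁻¹ᵁ X.basicOpen a := by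
    rw [h3, Scheme.basicOpen_of_isUnit _ hu']
    exact hxA
  exact h4

/-- sections over an open equal to `⊤` are restrictions of global sections -/
theorem exists_resf_eq_of_eq_top {Z : Scheme.{u}} {A : Z.Opens} (hA : A = ⊤) (c : Γ(Z, A)) :
    ∃ c' : Γ(Z, ⊤), c = resf (le_top : A ≤ ⊤) c' := by
  subst hA
  refine ⟨c, ?_⟩
  change c = Z.presheaf.map (𝟙 _) c
  rw [Z.presheaf.map_id]
  rfl

section core
variable {X Y : Scheme.{u}}

open Groth.Agent.Helper13QcqsBC Groth.Agent.Helper13AffBC Groth.Agent.Helper13FlatMV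
  Groth.Agent.Lib.Helper21.BC0Geo Groth.Agent.Lib.Helper21.BC0Epi

/-- **lifting a fibrewise generator from an epimorphic base change map** (general base, no flatness) -/
theorem exists_isGen_of_epi (f : X ⟶ Y) [IsProper f]
    (L : X.Modules) (hL : PicF.IsInvertible L) (y : Y)
    (h2 : letI : Algebra (Y.residueField y) Γ(f.fiber y, ⊤) :=
        (Groth.Agent.Lib.Helper6.H0Const.gsMap (Y.residueField y)
          (f.fiberToSpecResidueField y)).hom.toAlgebra
      Module.finrank (Y.residueField y) Γ(f.fiber y, ⊤) = 1)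
    (τ : Coh.structureModule (f.fiber y) ≅ (Scheme.Modules.pullback (f.fiberι y)).obj L)
    (hepi : Epi (bcMap f (Y.fromSpecResidueField y) (f.fiberι y) (f.fiberToSpecResidueField y)
      (IsPullback.of_hasPullback f (Y.fromSpecResidueField y)) L)) :
    ∃ (W : Y.Opens) (e : Γ(L, f ⁻¹ᵁ W)), y ∈ W ∧ IsGen L (f ⁻¹ᵁ W) e := by
  haveI : L.IsQuasicoherent := isQuasicoherent_of_isInvertible L hL
  -- constants on the fibre
  let k : Type u := Y.residueField y
  let q : f.fiber y ⟶ Spec (CommRingCat.of k) := f.fiberToSpecResidueField y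
  letI : Algebra k Γ(f.fiber y, ⊤) := (Groth.Agent.Lib.Helper6.H0Const.gsMap k q).hom.toAlgebra
  have hconst := fun a => Groth.Agent.Lib.Helper2.R1RankE.exists_const_of_finrank k q h2 a
  haveI hnt : Nontrivial Γ(f.fiber y, ⊤) :=
    Module.nontrivial_of_finrank_pos (R := k) (by rw [h2]; exact one_pos)
  -- base change at `y`
  let g : Spec (CommRingCat.of k) ⟶ Y := Y.fromSpecResidueField y
  let ι : f.fiber y ⟶ X := f.fiberι y
  have hpb : IsPullback ι q f g := IsPullback.of_hasPullback f g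
  obtain ⟨V, hV, hyV, -⟩ := exists_isAffineOpen_mem_and_subset (x := y) (U := ⊤) trivial
  have hle : (⊤ : (Spec (CommRingCat.of k)).Opens) ≤ g ⁻¹ᵁ V := by
    intro x _
    change g x ∈ V
    rw [Scheme.fromSpecResidueField_apply]
    exact hyV
  have hK : KSurj f g ι q hpb L hle (f ⁻¹ᵁ V) le_rfl :=
    kSurj_of_epi f L g ι q hpb hV hle hepi
  -- the generator on the fibre
  let σ₀ : Γ((Scheme.Modules.pullback ι).obj L, ⊤) := τ.hom.app ⊤ (toS ⊤ 1)
  have hσ₀ : IsGen ((Scheme.Modules.pullback ι).obj L) ⊤ σ₀ := isGen_of_iso τ (isGen_one ⊤)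
  have hιV : ι ⁻¹ᵁ (f ⁻¹ᵁ V) = ⊤ := by
    ext x
    simp only [Opens.coe_top, Set.mem_univ, iff_true]
    change f (ι x) ∈ V
    have h1 : f (ι x) = g (q x) := by
      have := congrArg (fun φ : f.fiber y ⟶ Y => φ x) hpb.w
      exact this
    rw [h1, Scheme.fromSpecResidueField_apply]
    exact hyV
  have hVp : Vp ι q (⊤ : (Spec (CommRingCat.of k)).Opens) (f ⁻¹ᵁ V) = ⊤ := by
    change ι ⁻¹ᵁ (f ⁻¹ᵁ V) ⊓ q ⁻¹ᵁ ⊤ = ⊤
    rw [hιV]
    ext x
    simp
  haveI : Nontrivial Γ(f.fiber y, Vp ι q (⊤ : (Spec (CommRingCat.of k)).Opens) (f ⁻¹ᵁ V)) :=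
    nontrivial_of_eq_top _ hVp
  obtain ⟨m, hm⟩ : ∃ m : Γ(L, f ⁻¹ᵁ V), unitSec ι L
      (inf_le_left : Vp ι q (⊤ : (Spec (CommRingCat.of k)).Opens) (f ⁻¹ᵁ V) ≤ ι ⁻¹ᵁ (f ⁻¹ᵁ V)) m ≠ 0 := by
    by_contra hcon
    push Not at hcon
    letI : Algebra Γ(Y, V) Γ(Spec (CommRingCat.of k), ⊤) :=
      (g.appLE V ⊤ hle).hom.toAlgebra
    have hzero : ∀ x, kap (R := Γ(Y, V)) (R' := Γ(Spec (CommRingCat.of k), ⊤))
        (uW f ι q L (le_refl (f ⁻¹ᵁ V)) (inf_le_left :
          Vp ι q (⊤ : (Spec (CommRingCat.of k)).Opens) (f ⁻¹ᵁ V) ≤ ι ⁻¹ᵁ (f ⁻¹ᵁ V)) inf_le_right)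
        (uW_smul f g ι q hpb L hle le_rfl inf_le_left inf_le_right) x = 0 := by
      intro x
      induction x using TensorProduct.induction_on with
      | zero => exact map_zero _
      | tmul c m =>
        rw [kap_tmul]
        have : uW f ι q L (le_refl (f ⁻¹ᵁ V)) (inf_le_left :
          Vp ι q (⊤ : (Spec (CommRingCat.of k)).Opens) (f ⁻¹ᵁ V) ≤ ι ⁻¹ᵁ (f ⁻¹ᵁ V)) inf_le_right m
            = 0 := hcon m
        rw [this, smul_zero]
      | add x y hx hy => rw [map_add, hx, hy, add_zero]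
    obtain ⟨x, hx⟩ := hK (res ((Scheme.Modules.pullback ι).obj L) le_top σ₀)
    rw [hzero x] at hx
    have hb' := hσ₀ _ (le_top : Vp ι q (⊤ : (Spec (CommRingCat.of k)).Opens) (f ⁻¹ᵁ V) ≤ ⊤)
    have h01 := hb'.1 (a₁ := 0) (a₂ := 1) (by
      simp only
      rw [zero_smul, one_smul]
      exact hx)
    exact zero_ne_one h01
  -- the pulled back section generates
  obtain ⟨u, hu⟩ : ∃ u : Γ((Scheme.Modules.pullback ι).obj L, ι ⁻¹ᵁ (f ⁻¹ᵁ V)),
      u = unitSec ι L le_rfl m := ⟨_, rfl⟩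
  have hune : u ≠ 0 := by
    intro h0
    apply hm
    have h3 : unitSec ι L (inf_le_left :
        Vp ι q (⊤ : (Spec (CommRingCat.of k)).Opens) (f ⁻¹ᵁ V) ≤ ι ⁻¹ᵁ (f ⁻¹ᵁ V)) m =
        res _ inf_le_left (unitSec ι L le_rfl m) := by
      rw [res_unitSec ι L le_rfl inf_le_left le_rfl inf_le_left m,
        Groth.Agent.Lib.Helper23.SecTw.res_self]
    rw [h3, ← hu, h0]
    exact map_zero _
  have hgen : IsGen ((Scheme.Modules.pullback ι).obj L) (ι ⁻¹ᵁ (f ⁻¹ᵁ V)) u := by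
    have hσ₁ : IsGen ((Scheme.Modules.pullback ι).obj L) (ι ⁻¹ᵁ (f ⁻¹ᵁ V))
        (res _ le_top σ₀) := hσ₀.mono le_top
    obtain ⟨c, hc⟩ : ∃ c, c = coef hσ₁ le_rfl u := ⟨_, rfl⟩
    have hspec : c • res ((Scheme.Modules.pullback ι).obj L) le_top σ₀ = u := by
      have := coef_spec hσ₁ le_rfl u
      rw [Groth.Agent.Lib.Helper23.SecTw.res_self, ← hc] at this
      exact this
    rw [← hspec]
    refine Groth.Agent.Lib.Helper20.UFDPic.isGen_unit_smul hσ₁ c ?_
    -- `c` is a nonzero constant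
    obtain ⟨c', hc'⟩ := exists_resf_eq_of_eq_top hιV c
    obtain ⟨d, hd⟩ := hconst c'
    have hd0 : d ≠ 0 := by
      rintro rfl
      apply hune
      rw [← hspec, hc', hd, map_zero, map_zero]
      have h0 : resf (le_top : ι ⁻¹ᵁ (f ⁻¹ᵁ V) ≤ ⊤) (0 : Γ(f.fiber y, ⊤)) = 0 := map_zero _
      rw [h0, zero_smul]
    rw [hc', hd]
    exact (((IsUnit.mk0 d hd0).map (Scheme.ΓSpecIso (CommRingCat.of k)).inv.hom).map
      q.appTop.hom).map _
  -- generation near every point of the fibre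
  have hnear : ∀ z : f.fiber y, IsGenNear L (f ⁻¹ᵁ V) m (ι z) := fun z =>
    isGenNear_of_unitSec ι L hL m z (hιV ▸ trivial) (hu ▸ hgen)
  -- the open set where `m` generates
  let G : X.Opens := ⨆ N : {N : X.Opens // ∃ h : N ≤ f ⁻¹ᵁ V, IsGen L N (res L h m)}, N.1
  have hGle : G ≤ f ⁻¹ᵁ V := iSup_le (fun N => N.2.1)
  have hGgen : IsGen L G (res L hGle m) := by
    refine Groth.Agent.Lib.Helper20.UFDPic.isGen_of_local L G _ (fun x hx => ?_)
    obtain ⟨N, hxN⟩ := Opens.mem_iSup.1 hx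
    obtain ⟨hN, hNgen⟩ := N.2
    have hNG : N.1 ≤ G := le_iSup (fun N : {N : X.Opens // ∃ h : N ≤ f ⁻¹ᵁ V,
      IsGen L N (res L h m)} => N.1) N
    refine ⟨N.1, hNG, hxN, ?_⟩
    rw [res_res]
    exact hNgen
  have hfibG : ∀ x : X, f x = y → x ∈ G := by
    intro x hx
    have hx' : x ∈ Set.range (f.fiberι y) := by
      rw [Scheme.Hom.range_fiberι]
      exact hx
    obtain ⟨z, rfl⟩ := hx'
    obtain ⟨N, hN, hzN, hNgen⟩ := hnear z
    exact Opens.mem_iSup.2 ⟨⟨N, hN, hNgen⟩, hzN⟩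
  -- closedness of `f`
  have hZ : IsClosed ((G : Set X)ᶜ) := G.isOpen.isClosed_compl
  have hfZ : IsClosed (f '' ((G : Set X)ᶜ)) := f.isClosedMap _ hZ
  have htZ : y ∉ f '' ((G : Set X)ᶜ) := by
    rintro ⟨x, hxZ, hxt⟩
    exact hxZ (hfibG x hxt)
  let U : Y.Opens := ⟨(f '' ((G : Set X)ᶜ))ᶜ, hfZ.isOpen_compl⟩
  have hU : f ⁻¹ᵁ U ≤ G := by
    intro x hx
    by_contra hxG
    exact hx ⟨x, hxG, rfl⟩
  refine ⟨U, res L (hU.trans hGle) m, htZ, ?_⟩
  have h5 := hGgen.mono hU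
  rw [res_res] at h5
  exact h5

end core

end Groth.Agent.Lib.Helper2.PullIffA
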