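import Mathlib
import Groth.Agent.Lib.Helper2R1RankC
import Groth.Agent.Lib.Helper27PullGen
import Groth.Agent.Lib.Helper23PB

/-!
# Helper2: the degree-0 base change map at a fibre with constant global functions is an epimorphism
for a module generated by one section near the fibre

Namespace `Groth.Agent.Lib.Helper2.PullIffB`.
-/

set_option autoImplicit false
set_option linter.style.haveILetI false
universe u
open CategoryTheory CategoryTheory.Limits AlgebraicGeometry TensorProduct Opposite TopologicalSpace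

namespace Groth.Agent.Lib.Helper2.PullIffB

open Groth.Agent.Helper13QcqsBC Groth.Agent.Helper13AffBC Groth.Agent.Helper13PullbackUnit
  Groth.Agent.Lib.Helper23.GenLocus Scheme.Modules Groth.Agent.Lib.Helper23.SecTw
  Groth.Agent.Lib.Helper6

variable {X S : Scheme.{u}} (f : X ⟶ S) [QuasiCompact f] [QuasiSeparated f] (y : S)

set_option maxHeartbeats 1600000 in
/-- if the global functions on the fibre `X_y` are the constants `κ(y)` and `L` is generated by one
section over `f⁻¹ V`, `y ∈ V`, the degree-0 base change map of `L` at the fibre square over `y` is an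
epimorphism -/
theorem epi_fibreBC_of_isGen
    (hone : ∀ a : Γ(f.fiber y, ⊤), ∃ c : S.residueField y,
      a = (f.fiberToSpecResidueField y).appTop ((Scheme.ΓSpecIso (S.residueField y)).inv c))
    (L : X.Modules) [L.IsQuasicoherent] {V : S.Opens} (hyV : y ∈ V) (m : Γ(L, f ⁻¹ᵁ V))
    (hm : IsGen L (f ⁻¹ᵁ V) m) :
    Epi (Groth.Agent.Lib.Helper21.BC0Epi.fibreBC f L y) := by
  let R : CommRingCat.{u} := S.residueField y
  let g : Spec R ⟶ S := S.fromSpecResidueField y
  let ι : f.fiber y ⟶ X := f.fiberι y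
  let fy : f.fiber y ⟶ Spec R := f.fiberToSpecResidueField y
  have sq : IsPullback ι fy f g := IsPullback.of_hasPullback f g
  let G : (f.fiber y).Modules := (Scheme.Modules.pullback ι).obj L
  haveI : QuasiCompact fy := MorphismProperty.of_isPullback (P := @QuasiCompact) sq inferInstance
  haveI : QuasiSeparated fy :=
    MorphismProperty.of_isPullback (P := @QuasiSeparated) sq inferInstance
  haveI : ((Scheme.Modules.pushforward f).obj L).IsQuasicoherent :=
    Groth.Agent.Lib.Helper23.QCohLocal.isQuasicoherent_pushforward f L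
  haveI : ((Scheme.Modules.pullback g).obj ((Scheme.Modules.pushforward f).obj L)).IsQuasicoherent :=
    Groth.Agent.Lib.Helper2.PullbackSec.isQuasicoherent_pullback _ _
  haveI : G.IsQuasicoherent :=
    Groth.Agent.Lib.Helper2.PullbackSec.isQuasicoherent_pullback _ _
  haveI : ((Scheme.Modules.pushforward fy).obj G).IsQuasicoherent :=
    Groth.Agent.Lib.Helper23.QCohLocal.isQuasicoherent_pushforward fy _
  let ψ := bcMap f g ι fy sq L
  change Epi ψ
  refine Groth.Agent.Lib.Helper23.ModLocal.epi_of_surjective_Γ R ψ ?_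
  have hle : (⊤ : (Spec R).Opens) ≤ g ⁻¹ᵁ V := by
    intro x _
    change g x ∈ V
    rw [Scheme.fromSpecResidueField_apply]
    exact hyV
  let u₀ : Γ((Scheme.Modules.pullback g).obj ((Scheme.Modules.pushforward f).obj L), ⊤) :=
    unitSec g ((pushforward f).obj L) hle m
  let u : Γ(G, ⊤) := unitSec ι L (preimage_le f g ι fy sq hle) m
  have hu : ψ.app ⊤ u₀ = u := bcMap_unitSec f g ι fy sq L hle m
  -- `u` generates
  have hgen' := Groth.Agent.Lib.Helper27PullGen.isGen_pullback ι L (f ⁻¹ᵁ V) m hm
  have hugen : IsGen G ⊤ u := by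
    have h1 := hgen'.mono (preimage_le f g ι fy sq hle)
    rw [Groth.Agent.Lib.Helper23.PB.res_unitSec ι L le_rfl (preimage_le f g ι fy sq hle) le_rfl
      (preimage_le f g ι fy sq hle) m, Groth.Agent.Lib.Helper23.SecTw.res_self] at h1
    exact h1
  let θ : (S.residueField y) →+* Γ(f.fiber y, ⊤) := ((Scheme.ΓSpecIso R).inv ≫ fy.appTop).hom
  have key : ∀ x : Γ(G, ⊤), ∃ c : S.residueField y, x = θ c • u := by
    intro x
    obtain ⟨r, hr⟩ := (hugen ⊤ le_rfl).2 x
    simp only [] at hr
    rw [Groth.Agent.Lib.Helper23.SecTw.res_self] at hr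
    obtain ⟨c, hc⟩ := hone r
    exact ⟨c, by rw [← hr, hc]; rfl⟩
  intro x
  obtain ⟨c, hc⟩ := key x
  let A' := (Groth.Agent.Lib.Helper23.QCohLocal.ΓF R).obj
    ((Scheme.Modules.pullback g).obj ((Scheme.Modules.pushforward f).obj L))
  refine ⟨c • (show A' from u₀), ?_⟩
  rw [LinearMap.map_smul]
  have h5 : ((Groth.Agent.Lib.Helper23.QCohLocal.ΓF R).map ψ).hom (show A' from u₀) = u := hu
  rw [h5]
  refine Eq.trans ?_ hc.symm
  have h6 : ((Spec R).presheaf.map (⊤ : (Spec R).Opens).leTop.op) = 𝟙 _ := by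
    have : (⊤ : (Spec R).Opens).leTop = 𝟙 ⊤ := Subsingleton.elim _ _
    rw [this, op_id, (Spec R).presheaf.map_id]
  change (((Spec R).presheaf.map (⊤ : (Spec R).Opens).leTop.op) ((Scheme.ΓSpecIso R).inv c)) •
    (show Γ((pushforward fy).obj G, ⊤) from u) = _
  rw [h6]
  rfl

end Groth.Agent.Lib.Helper2.PullIffB
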