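import Mathlib
import Groth.Agent.Lib.Helper2PullIffA
import Groth.Agent.Lib.Helper2PullIffB
import Groth.Agent.Lib.Helper2BoxPicA
import Groth.Agent.Lib.Helper2R1RankG

/-!
# Helper2: invertible modules pulled back from the base, for proper morphisms with
`O_S ≅ f_* O_X` and constant global functions on the fibres

Namespace `Groth.Agent.Lib.Helper2.PullIffC`.
-/

set_option autoImplicit false
set_option linter.style.haveILetI false
universe u
open CategoryTheory CategoryTheory.Limits AlgebraicGeometry TensorProduct Opposite TopologicalSpace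

namespace Groth.Agent.Lib.Helper2.PullIffC

open Groth.Agent.Lib.Helper23.GenLocus Groth.Agent.Lib.Helper23.SecTw
  Groth.Agent.Lib.Helper23.Extend Groth.Agent.Lib.Helper23.PB
  Groth.Agent.Lib.Helper6 Groth.Agent.Helper13PullbackUnit

variable {X S : Scheme.{u}} (f : X ⟶ S)

/-- from local generators over preimages of opens of the base, when `O_S ≅ f_* O_X`: the direct image
is invertible and the counit is an isomorphism -/
theorem invertible_and_counit_of_isGen [QuasiCompact f] [QuasiSeparated f]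
    (hbij : ∀ U : S.Opens, Function.Bijective (f.app U)) (L : X.Modules) [L.IsQuasicoherent]
    (hgen : ∀ y : S, ∃ (W : S.Opens) (e : Γ(L, f ⁻¹ᵁ W)), y ∈ W ∧ IsGen L (f ⁻¹ᵁ W) e) :
    PicF.IsInvertible ((Scheme.Modules.pushforward f).obj L) ∧
      IsIso ((Scheme.Modules.pullbackPushforwardAdjunction f).counit.app L) := by
  refine ⟨?_, ?_⟩
  · apply isInvertible_of_isGen
    intro y
    obtain ⟨W, e, hy, he⟩ := hgen y
    exact ⟨W, Groth.Agent.Helper18PBUnit.down f e, hy,
      Groth.Agent.Helper18PBUnit.isGen_pushforward f hbij L e he⟩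
  · haveI qc : ((Scheme.Modules.pushforward f).obj L).IsQuasicoherent :=
      Groth.Agent.Lib.Helper23.QCohLocal.isQuasicoherent_pushforward f L
    let ι : Type u := {V' : X.Opens // IsAffineOpen V' ∧ ∃ W : S.Opens, IsAffineOpen W ∧
      (∃ e : Γ(L, f ⁻¹ᵁ W), IsGen L (f ⁻¹ᵁ W) e) ∧ V' ≤ f ⁻¹ᵁ W}
    refine Groth.Agent.Helper13AffBC.isIso_of_bijective_on_basis _ (fun i : ι => i.1) ?_ ?_
    · rw [Opens.isBasis_iff_nbhd]
      intro O x hxO
      obtain ⟨W, e, hy, he⟩ := hgen (f x)
      obtain ⟨W', hW', hyW', hW'W⟩ := exists_isAffineOpen_mem_and_subset (x := f x) (U := W) hy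
      obtain ⟨V', hV', hxV', hV'le⟩ := exists_isAffineOpen_mem_and_subset (x := x)
        (U := O ⊓ f ⁻¹ᵁ W') ⟨hxO, hyW'⟩
      refine ⟨V', ⟨⟨V', hV', W', hW', ⟨_, he.mono (f.preimage_mono hW'W)⟩,
        hV'le.trans inf_le_right⟩, rfl⟩, hxV', hV'le.trans inf_le_left⟩
    · rintro ⟨V', hV', W, hW, ⟨e, he⟩, hle⟩
      exact Groth.Agent.Helper18PBUnit.counit_app_bijective f hbij L hW e he hV' hle

/-- **a module pulled back from the base**: nonzero sections on the fibres and epimorphic base
change maps -/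
theorem fibre_data_of_iso_pullback [QuasiCompact f] [QuasiSeparated f]
    (N : X.Modules) (N₀ : S.Modules) (hN₀ : PicF.IsInvertible N₀)
    (e : N ≅ (Scheme.Modules.pullback f).obj N₀) (s : S)
    (hone : ∀ a : Γ(f.fiber s, ⊤), ∃ c : S.residueField s,
      a = (f.fiberToSpecResidueField s).appTop ((Scheme.ΓSpecIso (S.residueField s)).inv c)) :
    Nonempty ((Scheme.Modules.pullback (f.fiberι s)).obj N ≅ Coh.structureModule (f.fiber s)) ∧
      Epi (Groth.Agent.Lib.Helper21.BC0Epi.fibreBC f N s) := by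
  haveI : N₀.IsQuasicoherent := isQuasicoherent_of_isInvertible N₀ hN₀
  have hNinv : PicF.IsInvertible N :=
    Groth.Agent.Lib.Helper23.AmpleIso.isInvertible_of_iso e.symm (isInvertible_pullback f N₀ hN₀)
  haveI : N.IsQuasicoherent := isQuasicoherent_of_isInvertible N hNinv
  obtain ⟨V, e₀, hsV, hV, he₀⟩ := exists_affine_gen N₀ hN₀ s
  have h1 := isGen_unitSec f N₀ hV e₀ he₀
  have h2 := isGen_of_iso e.symm h1
  exact ⟨Groth.Agent.Lib.Helper2.BoxPicA.nonempty_fiber_trivial_of_isGen f N V _ h2 s hsV,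
    Groth.Agent.Lib.Helper2.PullIffB.epi_fibreBC_of_isGen f s hone N hsV _ h2⟩

end Groth.Agent.Lib.Helper2.PullIffC
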