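import Mathlib
import Groth.Agent.Lib.Helper2PullIffC
import Groth.Agent.Lib.Helper2TrivFibB
import Groth.Agent.Lib.Helper2GrauertG
import Groth.Agent.Lib.Helper2PicFibC
import Groth.Agent.Lib.Helper2BoxPicC
import Groth.Agent.Lib.Helper2TensorInv
import Groth.Agent.Lib.Helper2SurfFibB
import Groth.Agent.Lib.Helper6SepCl
import Groth.Agent.Lib.Helper6H0Const

/-!
# Helper2: `L ≅ f^* L₀` iff nonzero sections on the fibres and epimorphic degree-0 base change maps,
for `f` proper flat with geometrically integral fibres (locally Noetherian)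

Namespace `Groth.Agent.Lib.Helper2.PullIffD`.
-/

set_option autoImplicit false
set_option linter.style.haveILetI false
universe u
open CategoryTheory CategoryTheory.Limits AlgebraicGeometry TensorProduct Opposite TopologicalSpace

namespace Groth.Agent.Lib.Helper2.PullIffD

open Groth.Agent.Lib.Helper23.SecTw Groth.Agent.Lib.Helper23.PB

/-- the core, with the hypotheses unbundled -/
theorem core {X S : Scheme.{u}} (f : X ⟶ S) [IsProper f] [Flat f] [IsLocallyNoetherian X]
    [IsLocallyNoetherian S] [GeometricallyIntegral f] :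
    (∀ (N N' : X.Modules), PicF.IsInvertible N →
        (CohB1.tensorMod N N' ≅ Coh.structureModule X) →
        (∀ s : S, Nontrivial (CohIII.fiberH f N s 0)) → (∀ s : S, Nontrivial (CohIII.fiberH f N' s 0)) →
        (∀ s : S, Epi (Groth.Agent.Lib.Helper21.BC0Epi.fibreBC f N s)) →
        (∀ s : S, CohIII.fiberRank f N 0 s = 1) ∧
        PicF.IsInvertible ((Scheme.Modules.pushforward f).obj N) ∧
        IsIso ((Scheme.Modules.pullbackPushforwardAdjunction f).counit.app N)) ∧
    (∀ (N : X.Modules) (N₀ : S.Modules), PicF.IsInvertible N₀ →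
        (N ≅ (Scheme.Modules.pullback f).obj N₀) →
        (∀ s : S, Nontrivial (CohIII.fiberH f N s 0)) ∧
        (∀ s : S, Epi (Groth.Agent.Lib.Helper21.BC0Epi.fibreBC f N s)) ∧
        Nonempty (N₀ ≅ (Scheme.Modules.pushforward f).obj N)) := by
  haveI : LocallyOfFinitePresentation f :=
    LocallyOfFinitePresentation.iff_locallyOfFiniteType.mpr inferInstance
  -- constants on the fibres
  have h2 : ∀ s : S,
      letI : Algebra (S.residueField s) Γ(f.fiber s, ⊤) :=
        (Groth.Agent.Lib.Helper6.H0Const.gsMap (S.residueField s)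
          (f.fiberToSpecResidueField s)).hom.toAlgebra
      Module.finrank (S.residueField s) Γ(f.fiber s, ⊤) = 1 := by
    intro s
    haveI : IsProper (f.fiberToSpecResidueField s) :=
      MorphismProperty.pullback_snd (P := @IsProper) f (S.fromSpecResidueField s) inferInstance
    haveI : GeometricallyConnected (f.fiberToSpecResidueField s) :=
      Groth.Agent.Lib.Helper6.SepCl.geometricallyConnected_of_geometricallyIrreducible _
    exact Groth.Agent.Lib.Helper6.H0Const.finrank_globalSections_eq_one (S.residueField s)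
      (f.fiberToSpecResidueField s)
  have hone : ∀ (s : S) (a : Γ(f.fiber s, ⊤)), ∃ c : S.residueField s,
      a = (f.fiberToSpecResidueField s).appTop ((Scheme.ΓSpecIso (S.residueField s)).inv c) :=
    fun s a => Groth.Agent.Lib.Helper2.R1RankE.exists_const_of_finrank _ _ (h2 s) a
  have hbO : ∀ s : S, PerfAux.betti f (Coh.structureModule X) s 0 = 1 := fun s =>
    (Groth.Agent.Lib.Helper2.SurfFibB.betti_zero_eq_finrank f s).trans (h2 s)
  haveI hunit : IsIso (ClSub.unitToPush f) :=
    Groth.Agent.Lib.Helper2.R1RankG.isIso_unitToPush f hbO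
  have hbij : ∀ U : S.Opens, Function.Bijective (f.app U) := by
    intro U
    have h1 := (Scheme.Modules.Hom.isIso_iff_isIso_app (φ := ClSub.unitToPush f)).1 hunit U
    have h2 := (ConcreteCategory.isIso_iff_bijective _).1 h1
    exact h2
  have hOiso : ∀ U : S.Opens, IsIso (f.app U) := fun U =>
    (ConcreteCategory.isIso_iff_bijective _).2 (hbij U)
  refine ⟨?_, ?_⟩
  · intro N N' hN eNN' hN0 hN'0 hepi
    have eN'N : CohB1.tensorMod N' N ≅ Coh.structureModule X :=
      Groth.Agent.Lib.Helper21.ModTensor5.brdApp X.sheaf N' N ≪≫ eNN'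
    have hN' : PicF.IsInvertible N' :=
      Groth.Agent.Lib.Helper2.TensorInv.isInvertible_of_tensor_iso N' N eN'N
    haveI : N.IsQuasicoherent := isQuasicoherent_of_isInvertible N hN
    -- triviality on the fibres
    have htriv : ∀ s : S, Nonempty ((Scheme.Modules.pullback (f.fiberι s)).obj N ≅
        Coh.structureModule (f.fiber s)) := by
      intro s
      letI : (f.fiber s).Over (Spec (CommRingCat.of (S.residueField s))) :=
        ⟨f.fiberToSpecResidueField s⟩
      haveI : IsProper (f.fiber s ↘ Spec (CommRingCat.of (S.residueField s))) :=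
        MorphismProperty.pullback_snd (P := @IsProper) f (S.fromSpecResidueField s) inferInstance
      have hfinN := Groth.Agent.Lib.Helper21.BC0Main.finite_fiberH f N
        (Groth.Agent.Lib.Helper2.LocFree.isFP_of_isFinLocFree _
          (Groth.Agent.Lib.Helper23.ResProp.isFinLocFree_of_isInvertible _ hN)) s 0
      have hfinN' := Groth.Agent.Lib.Helper21.BC0Main.finite_fiberH f N'
        (Groth.Agent.Lib.Helper2.LocFree.isFP_of_isFinLocFree _
          (Groth.Agent.Lib.Helper23.ResProp.isFinLocFree_of_isInvertible _ hN')) s 0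
      refine (Groth.Agent.Lib.Helper2.TrivFibB.trivial_iff (S.residueField s) (f.fiber s) _ _
        (isInvertible_pullback (f.fiberι s) N hN) (isInvertible_pullback (f.fiberι s) N' hN')
        (Groth.Agent.Lib.Helper27ProjFormula.plbInv (f.fiberι s) N N' eNN')
        (Groth.Agent.Lib.Helper27ProjFormula.plbInv (f.fiberι s) N' N eN'N)).2 ⟨?_, ?_⟩
      · haveI := hfinN
        have := Module.finrank_pos (R := S.residueField s)
          (M := Coh.HH (f.fiber s) ((Scheme.Modules.pullback (f.fiberι s)).obj N) 0)
        omega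
      · haveI := hfinN'
        have := Module.finrank_pos (R := S.residueField s)
          (M := Coh.HH (f.fiber s) ((Scheme.Modules.pullback (f.fiberι s)).obj N') 0)
        omega
    have hrank : ∀ s : S, CohIII.fiberRank f N 0 s = 1 := by
      intro s
      obtain ⟨τ⟩ := htriv s
      have h3 := Groth.Agent.Lib.Helper2.GrauertG.betti_eq_of_trivial' f N s τ 0
      rw [hbO s] at h3
      exact h3
    have hgen : ∀ s : S, ∃ (W : S.Opens) (e : Γ(N, f ⁻¹ᵁ W)), s ∈ W ∧ IsGen N (f ⁻¹ᵁ W) e := by
      intro s
      obtain ⟨τ⟩ := htriv s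
      exact Groth.Agent.Lib.Helper2.PullIffA.exists_isGen_of_epi f N hN s (h2 s) τ.symm (hepi s)
    exact ⟨hrank, Groth.Agent.Lib.Helper2.PullIffC.invertible_and_counit_of_isGen f hbij N hgen⟩
  · intro N N₀ hN₀ e
    have hdata := fun s => Groth.Agent.Lib.Helper2.PullIffC.fibre_data_of_iso_pullback f N N₀ hN₀ e s
      (hone s)
    refine ⟨fun s => ?_, fun s => (hdata s).2, ?_⟩
    · obtain ⟨τ⟩ := (hdata s).1
      have h3 := Groth.Agent.Lib.Helper2.GrauertG.betti_eq_of_trivial' f N s τ 0
      rw [hbO s] at h3
      exact Module.nontrivial_of_finrank_pos (R := S.residueField s) (by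
        change 0 < PerfAux.betti f N s 0
        rw [h3]
        exact one_pos)
    · obtain ⟨i⟩ := Groth.Agent.Lib.Helper2.PicFibC.nonempty_iso_pushforward_pullback f hOiso N₀ hN₀
      exact ⟨i ≪≫ (Scheme.Modules.pushforward f).mapIso e.symm⟩

end Groth.Agent.Lib.Helper2.PullIffD
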