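import Mathlib
import Groth.Prelude.Def_Coh

/-!
# Support of a pushforward along a closed map (helper2)

* `exists_nontrivial_stalk_of_nontrivial_stalk_push`: for `π : X ⟶ Y` closed (as a map of spaces)
  and `F` an `O_X`-module, if `(π_* F)_y ≠ 0` then `F_x ≠ 0` for some `x` over `y`.
-/

set_option autoImplicit false
set_option linter.style.haveILetI false

universe u

open AlgebraicGeometry CategoryTheory Opposite TopologicalSpace

namespace Groth.Agent.Lib.Helper2.PushSupp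

theorem germ_eq_zero_of_forall_subsingleton {X Y : Scheme.{u}} (π : X ⟶ Y)
    (hcl : IsClosedMap π) (F : X.Modules) (y : Y)
    (h : ∀ x : X, π x = y → Subsingleton (F.presheaf.stalk x))
    (a : ((Scheme.Modules.pushforward π).obj F).presheaf.stalk y) : a = 0 := by
  obtain ⟨V, hyV, s, rfl⟩ := ((Scheme.Modules.pushforward π).obj F).presheaf.exists_germ_eq a
  -- `s` as a section of `F` over `π⁻¹ V`
  let s' : F.presheaf.obj (op (π ⁻¹ᵁ V)) := s
  -- the union of the opens on which `s'` vanishes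
  let 𝒲 : Set X.Opens := {W | ∃ hW : W ≤ π ⁻¹ᵁ V, F.presheaf.map (homOfLE hW).op s' = 0}
  let N : X.Opens := sSup 𝒲
  have hfib : ∀ x : X, π x = y → x ∈ N := by
    intro x hx
    have hxV : x ∈ π ⁻¹ᵁ V := by
      change π x ∈ V
      rw [hx]
      exact hyV
    haveI := h x hx
    have h0 : F.presheaf.germ (π ⁻¹ᵁ V) x hxV s' = F.presheaf.germ (π ⁻¹ᵁ V) x hxV 0 :=
      Subsingleton.elim _ _
    obtain ⟨W, hxW, iU, iV, e⟩ := F.presheaf.germ_eq x hxV hxV s' 0 h0
    rw [map_zero] at e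
    refine Opens.mem_sSup.mpr ⟨W, ⟨iU.le, ?_⟩, hxW⟩
    exact e
  -- the closed set `π (X ∖ N)` does not contain `y`
  have hC : IsClosed (π '' (N : Set X)ᶜ) := hcl _ N.isOpen.isClosed_compl
  have hyC : y ∉ π '' (N : Set X)ᶜ := by
    rintro ⟨x, hxN, hx⟩
    exact hxN (hfib x hx)
  let V' : Y.Opens := V ⊓ ⟨(π '' (N : Set X)ᶜ)ᶜ, hC.isOpen_compl⟩
  have hyV' : y ∈ V' := ⟨hyV, hyC⟩
  have hV'V : V' ≤ V := inf_le_left
  have hpre : ∀ x : X, x ∈ π ⁻¹ᵁ V' → x ∈ N := by
    intro x hx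
    by_contra hxN
    exact hx.2 ⟨x, hxN, rfl⟩
  -- the restriction of `s'` to `π⁻¹ V'` vanishes
  have hres : F.presheaf.map (homOfLE (show π ⁻¹ᵁ V' ≤ π ⁻¹ᵁ V from fun x hx => hV'V hx)).op s' =
      0 := by
    refine TopCat.Presheaf.section_ext ⟨F.presheaf, F.isSheaf⟩ (π ⁻¹ᵁ V') _ _ (fun x hx => ?_)
    obtain ⟨W, ⟨hW, hW0⟩, hxW⟩ := Opens.mem_sSup.mp (hpre x hx)
    have e1 := F.presheaf.germ_res_apply
      (homOfLE (show π ⁻¹ᵁ V' ≤ π ⁻¹ᵁ V from fun x hx => hV'V hx)) x hx s'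
    have e2 := F.presheaf.germ_res_apply (homOfLE hW) x hxW s'
    change F.presheaf.germ (π ⁻¹ᵁ V') x hx _ = F.presheaf.germ (π ⁻¹ᵁ V') x hx 0
    rw [e1, ← e2, hW0, map_zero, map_zero]
  have e3 := ((Scheme.Modules.pushforward π).obj F).presheaf.germ_res_apply (homOfLE hV'V) y hyV' s
  rw [← e3]
  have e4 : ((Scheme.Modules.pushforward π).obj F).presheaf.map (homOfLE hV'V).op s = 0 := hres
  rw [e4, map_zero]

theorem exists_nontrivial_stalk_of_nontrivial_stalk_push {X Y : Scheme.{u}} (π : X ⟶ Y)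
    (hcl : IsClosedMap π) (F : X.Modules) (y : Y)
    (h : Nontrivial (((Scheme.Modules.pushforward π).obj F).presheaf.stalk y)) :
    ∃ x : X, π x = y ∧ Nontrivial (F.presheaf.stalk x) := by
  by_contra hcon
  push Not at hcon
  have hsub : ∀ x : X, π x = y → Subsingleton (F.presheaf.stalk x) := fun x hx => hcon x hx
  have hz := germ_eq_zero_of_forall_subsingleton π hcl F y hsub
  obtain ⟨a, b, hab⟩ := h
  exact hab ((hz a).trans (hz b).symm)

end Groth.Agent.Lib.Helper2.PushSupp
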