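import Mathlib
import Groth.Agent.Lib.Helper2QuasiFlat
import Groth.Agent.Lib.Helper2PullbackSec3
import Groth.Agent.Lib.Helper20FormalPull

set_option autoImplicit false
universe u
open CategoryTheory Limits AlgebraicGeometry TopologicalSpace

namespace Groth.Agent.Lib.Helper2.QuasiFlat

variable {X Y X' Y' : Scheme.{u}}

open Groth.Agent.Lib.Helper2.PullbackSec Groth.Agent.Lib.Helper20 in
/-- quasi-flatness is stable under base change. -/
theorem isQuasiFlat_of_isPullback {f : X ⟶ Y} {g : Y' ⟶ Y} {f' : X' ⟶ Y'} {g' : X' ⟶ X}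
    (hc : IsPullback g' f' f g) (hf : FDesc.IsQuasiFlat f) : FDesc.IsQuasiFlat f' := by
  obtain ⟨M, ⟨hqc, hft⟩, hfl, hnt⟩ := hf
  haveI : M.IsQuasicoherent := hqc
  haveI : SheafOfModules.IsFiniteType (R := X.ringCatSheaf) M := hft
  refine ⟨(Scheme.Modules.pullback g').obj M, ⟨isQuasicoherent_pullback g' M,
    FormalPull.isFiniteType_pullback g' M⟩, fun x' => ?_, fun x' => ?_⟩
  · exact isFlatOverAt_pullback_of_isPullback hc M x' (hfl (g'.base x'))
  · rw [← not_subsingleton_iff_nontrivial, PullbackAff.subsingleton_stalk_pullback_iff g' M x',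
      not_subsingleton_iff_nontrivial]
    exact hnt (g' x')

/-- a quasi-flat morphism locally of finite presentation is universally open. -/
theorem universallyOpen_of_isQuasiFlat (f : X ⟶ Y) (hf : FDesc.IsQuasiFlat f)
    [LocallyOfFinitePresentation f] : UniversallyOpen f := by
  refine ⟨MorphismProperty.universally_mk' _ _ fun g _ => ?_⟩
  have hq : FDesc.IsQuasiFlat (pullback.fst g f) :=
    isQuasiFlat_of_isPullback (IsPullback.of_hasPullback g f).flip hf
  exact isOpenMap_of_generalizingMap _ (generalizingMap_of_isQuasiFlat _ hq)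

end Groth.Agent.Lib.Helper2.QuasiFlat
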