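import Mathlib
/-! Helper2QuotDesc: descending scheme morphisms along a surjective quotient map with iso structure sheaf map (S3567). -/
noncomputable section
set_option autoImplicit false
universe u
open CategoryTheory CategoryTheory.Limits AlgebraicGeometry TopologicalSpace Opposite

namespace Groth.Agent.Lib.Helper2.QuotDesc

variable {U V : Scheme.{u}} (h : U ⟶ V)

theorem isIso_app [IsIso h.c] (O : V.Opens) : IsIso (h.app O) := by
  have : IsIso (h.c.app (op O)) := inferInstance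
  exact this

theorem map_map_id (X : Scheme.{u}) {A B : X.Opens} (a : op A ⟶ op B) (b : op B ⟶ op A) :
    X.presheaf.map a ≫ X.presheaf.map b = 𝟙 _ := by
  rw [← Functor.map_comp, Subsingleton.elim (a ≫ b) (𝟙 _), X.presheaf.map_id]

theorem epi_part [Surjective h] [IsIso h.c] (W : Scheme.{u}) (v₁ v₂ : V ⟶ W)
    (e : h ≫ v₁ = h ≫ v₂) : v₁ = v₂ := by
  have hb : v₁.base = v₂.base := by
    ext y
    obtain ⟨x, rfl⟩ := h.surjective y
    have := congrArg (fun f => f.base x) e
    simpa using this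
  refine Scheme.Hom.ext hb (fun O => ?_)
  have := isIso_app h
  have e1 : (h ≫ v₁).app O = v₁.app O ≫ h.app (v₁ ⁻¹ᵁ O) := Scheme.Hom.comp_app _ _ _
  have e2 : (h ≫ v₂).app O = v₂.app O ≫ h.app (v₂ ⁻¹ᵁ O) := Scheme.Hom.comp_app _ _ _
  have e3 := Scheme.Hom.congr_app e O
  rw [← cancel_mono (h.app (v₂ ⁻¹ᵁ O)), ← e2, Category.assoc]
  have hO : v₂ ⁻¹ᵁ O = v₁ ⁻¹ᵁ O := by rw [hb]
  have nat := h.naturality (U := v₂ ⁻¹ᵁ O) (U' := v₁ ⁻¹ᵁ O) (eqToHom (by rw [hb])).op
  erw [nat]
  rw [← Category.assoc, ← e1, e3]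
  erw [Category.assoc, map_map_id, Category.comp_id]

section
variable (hq : Topology.IsQuotientMap h.base) {W : Scheme.{u}} (u : U ⟶ W)
  (hu : ∀ x y : U, h.base x = h.base y → u.base x = u.base y)

/-- the descended continuous map -/
noncomputable def vb : (V : TopCat.{u}) ⟶ (W : TopCat.{u}) :=
  TopCat.ofHom (Topology.IsQuotientMap.lift (f := h.base.hom) hq u.base.hom (fun x y e => hu x y e))

theorem comp_vb : h.base ≫ vb h hq u hu = u.base := by
  ext x
  have := Topology.IsQuotientMap.lift_comp (f := h.base.hom) hq u.base.hom (fun x y e => hu x y e)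
  exact DFunLike.congr_fun this x

theorem vb_apply (x : U) : (vb h hq u hu) (h.base x) = u.base x := by
  have := comp_vb h hq u hu
  have h2 := congrArg (fun f : (U : TopCat.{u}) ⟶ (W : TopCat.{u}) => f x) this
  exact h2
end

end Groth.Agent.Lib.Helper2.QuotDesc

namespace Groth.Agent.Lib.Helper2.QuotDesc
variable {U V : Scheme.{u}} (h : U ⟶ V)
section
variable (hq : Topology.IsQuotientMap h.base) {W : Scheme.{u}} (u : U ⟶ W)
  (hu : ∀ x y : U, h.base x = h.base y → u.base x = u.base y)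

theorem pre_le (O : W.Opens) : h ⁻¹ᵁ ((Opens.map (vb h hq u hu)).obj O) ≤ u ⁻¹ᵁ O := by
  intro x hx
  change (vb h hq u hu) (h.base x) ∈ O at hx
  rw [vb_apply] at hx
  exact hx

theorem pre_eq (O : W.Opens) : h ⁻¹ᵁ ((Opens.map (vb h hq u hu)).obj O) = u ⁻¹ᵁ O := by
  ext x
  change (vb h hq u hu) (h.base x) ∈ O ↔ u.base x ∈ O
  rw [vb_apply]

/-- the descended sheaf map, componentwise -/
noncomputable def vapp [IsIso h.c] (O : W.Opens) : Γ(W, O) ⟶ Γ(V, (Opens.map (vb h hq u hu)).obj O) :=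
  haveI := isIso_app h
  u.appLE O (h ⁻¹ᵁ ((Opens.map (vb h hq u hu)).obj O)) (pre_le h hq u hu O) ≫
    inv (h.app ((Opens.map (vb h hq u hu)).obj O))

theorem vapp_comp [IsIso h.c] (O : W.Opens) :
    vapp h hq u hu O ≫ h.app ((Opens.map (vb h hq u hu)).obj O) =
      u.appLE O (h ⁻¹ᵁ ((Opens.map (vb h hq u hu)).obj O)) (pre_le h hq u hu O) := by
  haveI := isIso_app h
  simp [vapp]

theorem vapp_naturality [IsIso h.c] {O O' : W.Opens} (i : op O ⟶ op O') :
    W.presheaf.map i ≫ vapp h hq u hu O' =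
      vapp h hq u hu O ≫ V.presheaf.map ((Opens.map (vb h hq u hu)).map i.unop).op := by
  haveI := isIso_app h
  rw [← cancel_mono (h.app ((Opens.map (vb h hq u hu)).obj O')), Category.assoc, vapp_comp,
    Category.assoc]
  have nat := h.naturality (U := (Opens.map (vb h hq u hu)).obj O')
    (U' := (Opens.map (vb h hq u hu)).obj O) ((Opens.map (vb h hq u hu)).map i.unop).op
  erw [nat]
  rw [← Category.assoc, vapp_comp]
  simp

end
end Groth.Agent.Lib.Helper2.QuotDesc

namespace Groth.Agent.Lib.Helper2.QuotDesc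
variable {U V : Scheme.{u}} (h : U ⟶ V)
section
variable (hq : Topology.IsQuotientMap h.base) {W : Scheme.{u}} (u : U ⟶ W)
  (hu : ∀ x y : U, h.base x = h.base y → u.base x = u.base y)

/-- the descended morphism of presheafed spaces -/
noncomputable def vP [IsIso h.c] : V.toPresheafedSpace ⟶ W.toPresheafedSpace where
  base := vb h hq u hu
  c := { app := fun O => vapp h hq u hu O.unop
         naturality := fun _ _ i => vapp_naturality h hq u hu i }

theorem vP_local [IsIso h.c] [Surjective h] (y : V) :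
    IsLocalHom ((vP h hq u hu).stalkMap y).hom := by
  constructor
  intro a ha
  obtain ⟨x, rfl⟩ := h.surjective y
  obtain ⟨O, hyO, s, rfl⟩ := W.presheaf.exists_germ_eq a
  have e1 := PresheafedSpace.stalkMap_germ_apply (vP h hq u hu) O (h.base x) hyO s
  erw [e1] at ha
  have hyO' : (vb h hq u hu) (h.base x) ∈ O := hyO
  have m1 : h.base x ∈ V.basicOpen (vapp h hq u hu O s) :=
    (Scheme.mem_basicOpen V (vapp h hq u hu O s) (h.base x) hyO').mpr ha
  have m2 : x ∈ h ⁻¹ᵁ V.basicOpen (vapp h hq u hu O s) := m1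
  rw [Scheme.preimage_basicOpen] at m2
  have e2 : h.app _ (vapp h hq u hu O s) =
      u.appLE O (h ⁻¹ᵁ ((Opens.map (vb h hq u hu)).obj O)) (pre_le h hq u hu O) s := by
    have := vapp_comp h hq u hu O
    exact congrArg (fun f => f.hom s) this
  rw [e2, Scheme.basicOpen_appLE] at m2
  have m3 : u.base x ∈ W.basicOpen s := m2.2
  rw [← vb_apply h hq u hu x] at m3
  exact (Scheme.mem_basicOpen W s _ hyO').mp m3

end
end Groth.Agent.Lib.Helper2.QuotDesc

namespace Groth.Agent.Lib.Helper2.QuotDesc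
variable {U V : Scheme.{u}} (h : U ⟶ V)
section
variable (hq : Topology.IsQuotientMap h.base) {W : Scheme.{u}} (u : U ⟶ W)
  (hu : ∀ x y : U, h.base x = h.base y → u.base x = u.base y)

/-- the descended morphism of schemes -/
noncomputable def vS [IsIso h.c] [Surjective h] : V ⟶ W :=
  Scheme.Hom.mk ⟨vP h hq u hu, vP_local h hq u hu⟩

theorem vS_base [IsIso h.c] [Surjective h] : (vS h hq u hu).base = vb h hq u hu := rfl

theorem vS_app [IsIso h.c] [Surjective h] (O : W.Opens) :
    (vS h hq u hu).app O = vapp h hq u hu O := rfl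

theorem comp_vS [IsIso h.c] [Surjective h] : h ≫ vS h hq u hu = u := by
  have hb : (h ≫ vS h hq u hu).base = u.base := comp_vb h hq u hu
  refine Scheme.Hom.ext hb (fun O => ?_)
  have e1 : (h ≫ vS h hq u hu).app O =
      (vS h hq u hu).app O ≫ h.app ((vS h hq u hu) ⁻¹ᵁ O) := Scheme.Hom.comp_app _ _ _
  rw [e1]
  erw [vapp_comp h hq u hu O]
  erw [Scheme.Hom.appLE_map]
  exact Scheme.Hom.appLE_eq_app _

end

theorem main {U V : Scheme.{u}} (h : U ⟶ V) [Surjective h]
    [IsIso h.c] (hq : Topology.IsQuotientMap h.base) (W : Scheme.{u}) :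
    (∀ v₁ v₂ : V ⟶ W, h ≫ v₁ = h ≫ v₂ → v₁ = v₂) ∧
      ∀ u : U ⟶ W, (∀ x y : U, h.base x = h.base y → u.base x = u.base y) → ∃ v : V ⟶ W, h ≫ v = u :=
  ⟨fun v₁ v₂ e => epi_part h W v₁ v₂ e, fun u hu => ⟨vS h hq u hu, comp_vS h hq u hu⟩⟩

end Groth.Agent.Lib.Helper2.QuotDesc
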