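import Mathlib
set_option autoImplicit false
universe u v
open CategoryTheory TopologicalSpace Opposite AlgebraicGeometry Topology

namespace Groth.Agent.Lib.Helper2.QuotRS

/-- lifting a ring hom through an injective ring hom whose range contains its image -/
noncomputable def liftHom {A B C : Type*} [CommRing A] [CommRing B] [CommRing C]
    (p : B →+* C) (hp : Function.Injective p) (q : A →+* C) (hq : ∀ a, q a ∈ Set.range p) :
    A →+* B where
  toFun a := Classical.choose (hq a)
  map_one' := hp (by rw [Classical.choose_spec (hq 1), map_one, map_one])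
  map_mul' a b := hp (by
    rw [Classical.choose_spec (hq _), map_mul, map_mul, Classical.choose_spec (hq a),
      Classical.choose_spec (hq b)])
  map_zero' := hp (by rw [Classical.choose_spec (hq 0), map_zero, map_zero])
  map_add' a b := hp (by
    rw [Classical.choose_spec (hq _), map_add, map_add, Classical.choose_spec (hq a),
      Classical.choose_spec (hq b)])

theorem liftHom_spec {A B C : Type*} [CommRing A] [CommRing B] [CommRing C]
    (p : B →+* C) (hp : Function.Injective p) (q : A →+* C) (hq : ∀ a, q a ∈ Set.range p) (a : A) :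
    p (liftHom p hp q hq a) = q a := Classical.choose_spec (hq a)

variable {X Y : SheafedSpace CommRingCat.{u}} {Γ : Type v} [Group Γ]
    (τ : Γ →* Aut X) (π : X ⟶ Y) (hτ : ∀ g : Γ, (τ g).hom ≫ π = π)
    (h1 : IsQuotientMap π.hom.base)
    (h2 : ∀ x x' : X, π.hom.base x = π.hom.base x' ↔ ∃ g : Γ, (τ g).hom.hom.base x = x')
    {Z : SheafedSpace CommRingCat.{u}} (f : X ⟶ Z) (hf : ∀ g : Γ, (τ g).hom ≫ f = f)

include h2 hf in
theorem const_on_fibres (x x' : X) (h : π.hom.base x = π.hom.base x') :
    f.hom.base x = f.hom.base x' := by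
  obtain ⟨g, rfl⟩ := (h2 x x').mp h
  have := congrArg (fun k : X ⟶ Z => k.hom.base x) (hf g)
  exact this.symm

/-- the descended continuous map -/
noncomputable def fb : (Y : TopCat) ⟶ (Z : TopCat) :=
  TopCat.ofHom (Topology.IsQuotientMap.lift (f := π.hom.base.hom) h1 f.hom.base.hom
    (fun x y e => const_on_fibres τ π h2 f hf x y e))

theorem comp_fb : π.hom.base ≫ fb τ π h1 h2 f hf = f.hom.base := by
  ext x
  have := Topology.IsQuotientMap.lift_comp (f := π.hom.base.hom) h1 f.hom.base.hom
    (fun x y e => const_on_fibres τ π h2 f hf x y e)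
  exact DFunLike.congr_fun this x

theorem pre_eq (W : Opens Z) :
    (Opens.map π.hom.base).obj ((Opens.map (fb τ π h1 h2 f hf)).obj W) = (Opens.map f.hom.base).obj W := by
  rw [← comp_fb τ π h1 h2 f hf]
  rfl


theorem map_congr' (X : SheafedSpace CommRingCat.{u}) {A B : (Opens X)ᵒᵖ} (a b : A ⟶ B) :
    X.presheaf.map a = X.presheaf.map b := by rw [Subsingleton.elim a b]

theorem map_map_apply (X : SheafedSpace CommRingCat.{u}) {A B C : (Opens X)ᵒᵖ} (a : A ⟶ B) (b : B ⟶ C)
    (x : X.presheaf.obj A) :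
    X.presheaf.map b (X.presheaf.map a x) = X.presheaf.map (a ≫ b) x := by
  rw [Functor.map_comp]; rfl

theorem map_congr_apply (X : SheafedSpace CommRingCat.{u}) {A B : (Opens X)ᵒᵖ} (a b : A ⟶ B)
    (x : X.presheaf.obj A) : X.presheaf.map a x = X.presheaf.map b x := by
  rw [Subsingleton.elim a b]

include hf in
/-- invariance of sections pulled back from `Z`, at the open `f⁻¹ W` -/
theorem inv_at (g : Γ) (W : Opens Z) (s : Z.presheaf.obj (op W)) :
    (τ g).hom.hom.c.app (op ((Opens.map f.hom.base).obj W)) (f.hom.c.app (op W) s) =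
      X.presheaf.map (eqToHom (congrArg (fun k : X ⟶ Z => op ((Opens.map k.hom.base).obj W)) (hf g).symm))
        (f.hom.c.app (op W) s) := by
  have e := SheafedSpace.congr_hom_app (hf g) (op W)
  rw [SheafedSpace.comp_hom_c_app'] at e
  have e2 := congrArg (fun k => k.hom s) e
  simp only [CommRingCat.hom_comp, RingHom.coe_comp, Function.comp_apply] at e2
  erw [e2]


/-- the section of `O_X` over `π⁻¹ (fb⁻¹ W)` induced by a section of `O_Z` over `W` -/
noncomputable def tsec (W : Opens Z) :
    Z.presheaf.obj (op W) ⟶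
      X.presheaf.obj (op ((Opens.map π.hom.base).obj ((Opens.map (fb τ π h1 h2 f hf)).obj W))) :=
  f.hom.c.app (op W) ≫ X.presheaf.map (eqToHom (pre_eq τ π h1 h2 f hf W)).op

theorem inv_tsec (g : Γ) (W : Opens Z) (s : Z.presheaf.obj (op W)) :
    (τ g).hom.hom.c.app (op ((Opens.map π.hom.base).obj ((Opens.map (fb τ π h1 h2 f hf)).obj W)))
        (tsec τ π h1 h2 f hf W s) =
      X.presheaf.map (eqToHom (congrArg (fun k : X ⟶ Y =>
        op ((Opens.map k.hom.base).obj ((Opens.map (fb τ π h1 h2 f hf)).obj W))) (hτ g).symm))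
        (tsec τ π h1 h2 f hf W s) := by
  have nat := (τ g).hom.hom.c.naturality (eqToHom (pre_eq τ π h1 h2 f hf W)).op
  have nat2 := congrArg (fun k => k.hom (f.hom.c.app (op W) s)) nat
  simp only [CommRingCat.hom_comp, RingHom.coe_comp, Function.comp_apply] at nat2
  have e1 : tsec τ π h1 h2 f hf W s =
      X.presheaf.map (eqToHom (pre_eq τ π h1 h2 f hf W)).op (f.hom.c.app (op W) s) := rfl
  rw [e1]
  erw [nat2, inv_at τ f hf g W s]
  erw [map_map_apply, map_map_apply]
  exact map_congr_apply X _ _ _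


variable (h3 : ∀ V : Opens Y, Function.Injective (π.hom.c.app (op V)) ∧
      Set.range (π.hom.c.app (op V)) =
        {s | ∀ g : Γ, (τ g).hom.hom.c.app (op ((Opens.map π.hom.base).obj V)) s =
          X.presheaf.map (eqToHom (congrArg (fun f : X ⟶ Y => op ((Opens.map f.hom.base).obj V)) (hτ g).symm)) s})

include h3 in
theorem tsec_mem_range (W : Opens Z) (s : Z.presheaf.obj (op W)) :
    (tsec τ π h1 h2 f hf W).hom s ∈
      Set.range (π.hom.c.app (op ((Opens.map (fb τ π h1 h2 f hf)).obj W))).hom := by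
  have := (h3 ((Opens.map (fb τ π h1 h2 f hf)).obj W)).2
  have hm : (tsec τ π h1 h2 f hf W).hom s ∈ {s | ∀ g : Γ, (τ g).hom.hom.c.app
      (op ((Opens.map π.hom.base).obj ((Opens.map (fb τ π h1 h2 f hf)).obj W))) s =
        X.presheaf.map (eqToHom (congrArg (fun k : X ⟶ Y => op ((Opens.map k.hom.base).obj
          ((Opens.map (fb τ π h1 h2 f hf)).obj W))) (hτ g).symm)) s} :=
    fun g => inv_tsec τ π hτ h1 h2 f hf g W s
  rw [← this] at hm
  exact hm

/-- the descended sheaf map, componentwise -/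
noncomputable def cApp (W : Opens Z) :
    Z.presheaf.obj (op W) ⟶ Y.presheaf.obj (op ((Opens.map (fb τ π h1 h2 f hf)).obj W)) :=
  CommRingCat.ofHom (liftHom (π.hom.c.app (op ((Opens.map (fb τ π h1 h2 f hf)).obj W))).hom
    (h3 _).1 (tsec τ π h1 h2 f hf W).hom (tsec_mem_range τ π hτ h1 h2 f hf h3 W))

theorem cApp_comp (W : Opens Z) :
    cApp τ π hτ h1 h2 f hf h3 W ≫ π.hom.c.app (op ((Opens.map (fb τ π h1 h2 f hf)).obj W)) =
      tsec τ π h1 h2 f hf W := by
  ext s
  exact liftHom_spec (π.hom.c.app (op ((Opens.map (fb τ π h1 h2 f hf)).obj W))).hom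
    (h3 _).1 (tsec τ π h1 h2 f hf W).hom (tsec_mem_range τ π hτ h1 h2 f hf h3 W) s


include hτ h3 in
theorem mono_pic (V : Opens Y) : Mono (π.hom.c.app (op V)) :=
  ConcreteCategory.mono_of_injective _ (h3 V).1

theorem cApp_naturality {W W' : Opens Z} (i : op W ⟶ op W') :
    Z.presheaf.map i ≫ cApp τ π hτ h1 h2 f hf h3 W' =
      cApp τ π hτ h1 h2 f hf h3 W ≫
        Y.presheaf.map ((Opens.map (fb τ π h1 h2 f hf)).map i.unop).op := by
  haveI := mono_pic τ π hτ h3 ((Opens.map (fb τ π h1 h2 f hf)).obj W')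
  rw [← cancel_mono (π.hom.c.app (op ((Opens.map (fb τ π h1 h2 f hf)).obj W'))), Category.assoc,
    cApp_comp, Category.assoc]
  have nat := π.hom.c.naturality ((Opens.map (fb τ π h1 h2 f hf)).map i.unop).op
  erw [nat]
  rw [← Category.assoc, cApp_comp]
  unfold tsec
  have natf := f.hom.c.naturality i
  rw [← Category.assoc, natf, Category.assoc, Category.assoc]
  congr 1
  erw [← Functor.map_comp]
  change X.presheaf.map _ ≫ X.presheaf.map _ = X.presheaf.map _
  rw [← Functor.map_comp]
  exact map_congr' X _ _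

/-- the descended morphism -/
noncomputable def fbar : Y ⟶ Z :=
  InducedCategory.homMk
    { base := fb τ π h1 h2 f hf
      c := { app := fun W => cApp τ π hτ h1 h2 f hf h3 W.unop
             naturality := fun _ _ i => cApp_naturality τ π hτ h1 h2 f hf h3 i } }

theorem comp_fbar : π ≫ fbar τ π hτ h1 h2 f hf h3 = f := by
  refine SheafedSpace.ext _ _ (comp_fb τ π h1 h2 f hf) ?_
  refine NatTrans.ext (funext fun W => ?_)
  rw [NatTrans.comp_app, SheafedSpace.comp_hom_c_app]
  change (cApp τ π hτ h1 h2 f hf h3 W.unop ≫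
    π.hom.c.app (op ((Opens.map (fb τ π h1 h2 f hf)).obj W.unop))) ≫ _ = _
  rw [cApp_comp]
  unfold tsec
  rw [Category.assoc, Functor.whiskerRight_app]
  erw [← Functor.map_comp]
  have key : ∀ (a : op ((Opens.map f.hom.base).obj W.unop) ⟶ op ((Opens.map f.hom.base).obj W.unop)),
      f.hom.c.app W ≫ X.presheaf.map a = f.hom.c.app W := fun a => by
    have e : X.presheaf.map a = 𝟙 _ := by
      rw [Subsingleton.elim a (𝟙 _)]; exact X.presheaf.map_id _
    exact (congrArg (f.hom.c.app W ≫ ·) e).trans (Category.comp_id _)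
  exact key _

include hτ h1 h3 in
theorem epi_part (k k' : Y ⟶ Z) (e : π ≫ k = π ≫ k') : k = k' := by
  have hb : k.hom.base = k'.hom.base := by
    have e1 : π.hom.base ≫ k.hom.base = π.hom.base ≫ k'.hom.base :=
      congrArg (fun m : X ⟶ Z => m.hom.base) e
    ext y
    obtain ⟨x, rfl⟩ := h1.surjective y
    exact ConcreteCategory.congr_hom e1 x
  refine SheafedSpace.ext _ _ hb ?_
  refine NatTrans.ext (funext fun W => ?_)
  rw [NatTrans.comp_app, Functor.whiskerRight_app]
  haveI := mono_pic τ π hτ h3 ((Opens.map k'.hom.base).obj W.unop)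
  rw [← cancel_mono (π.hom.c.app (op ((Opens.map k'.hom.base).obj W.unop)))]
  have e2 := SheafedSpace.congr_hom_app e W
  rw [SheafedSpace.comp_hom_c_app, SheafedSpace.comp_hom_c_app] at e2
  have key : ∀ (j : op ((Opens.map k.hom.base).obj W.unop) ⟶ op ((Opens.map k'.hom.base).obj W.unop)),
      (k.hom.c.app W ≫ Y.presheaf.map j) ≫ π.hom.c.app (op ((Opens.map k'.hom.base).obj (unop W))) =
        k'.hom.c.app W ≫ π.hom.c.app (op ((Opens.map k'.hom.base).obj (unop W))) := fun j => by
    have nat := π.hom.c.naturality j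
    rw [Category.assoc]
    erw [nat]
    rw [← Category.assoc, e2]
    erw [Category.assoc, ← Functor.map_comp]
    have e : ∀ (a : op ((Opens.map π.hom.base).obj ((Opens.map k'.hom.base).obj W.unop)) ⟶
        op ((Opens.map π.hom.base).obj ((Opens.map k'.hom.base).obj W.unop))),
        X.presheaf.map a = 𝟙 _ := fun a => by
      rw [Subsingleton.elim a (𝟙 _)]; exact X.presheaf.map_id _
    exact (congrArg ((k'.hom.c.app W ≫ π.hom.c.app (op ((Opens.map k'.hom.base).obj (unop W)))) ≫ ·)
      (e _)).trans (Category.comp_id _)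
  exact key _

include hτ h1 h2 h3 hf in
theorem main : ∃! fbar : Y ⟶ Z, π ≫ fbar = f := by
  refine ⟨fbar τ π hτ h1 h2 f hf h3, ?_, fun k hk => ?_⟩
  · exact comp_fbar τ π hτ h1 h2 f hf h3
  exact epi_part τ π hτ h1 h3 k _ (hk.trans (comp_fbar τ π hτ h1 h2 f hf h3).symm)

end Groth.Agent.Lib.Helper2.QuotRS
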