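import Mathlib
import Groth.Agent.Lib.Helper2Weight2

set_option autoImplicit false
universe u

namespace Groth.Agent.Lib.Helper2.Weight

open AlgebraicGeometry CategoryTheory Limits IsLocalRing

/-- every point of a scheme has a maximal generization. -/
theorem exists_maximal_generization (X : Scheme.{u}) (x : X) :
    ∃ η : X, η ⤳ x ∧ ∀ t : X, t ⤳ η → t = η := by
  have hirr : IsIrreducible (irreducibleComponent x) := isIrreducible_irreducibleComponent
  have hcl : IsClosed (irreducibleComponent x) := isClosed_irreducibleComponent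
  have hg : IsGenericPoint hirr.genericPoint (irreducibleComponent x) :=
    hirr.isGenericPoint_genericPoint hcl
  refine ⟨hirr.genericPoint, ?_, fun t ht => ?_⟩
  · rw [specializes_iff_mem_closure, hg.def]
    exact mem_irreducibleComponent
  · have h1 : irreducibleComponent x ⊆ closure {t} := by
      rw [← hg.def]
      exact closure_minimal (Set.singleton_subset_iff.mpr (specializes_iff_mem_closure.mp ht))
        isClosed_closure
    have h2 : closure {t} = irreducibleComponent x :=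
      eq_irreducibleComponent isIrreducible_singleton.closure.isPreirreducible h1
    exact IsGenericPoint.eq h2 hg

/-- flat morphisms send maximal points to maximal points. -/
theorem maximal_of_flat {Y' Y : Scheme.{u}} (a : Y' ⟶ Y) [Flat a] (η' : Y')
    (h : ∀ t : Y', t ⤳ η' → t = η') : ∀ t : Y, t ⤳ a η' → t = a η' := by
  intro t ht
  obtain ⟨t', ht', rfl⟩ := Flat.generalizingMap a ht
  rw [h t' ht']

/-- the rank-at-most-one hypothesis at maximal points. -/
def Hyp {X Y : Scheme.{u}} (φ : X ⟶ Y) : Prop :=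
  ∀ y : Y, (∀ t : Y, t ⤳ y → t = y) →
    IsEmpty ↑(pullback φ (Y.fromSpecResidueField y)) ∨
      IsIso (pullback.snd φ (Y.fromSpecResidueField y))

theorem Hyp.baseChange {P X Y Y' : Scheme.{u}} {fst : P ⟶ X} {snd : P ⟶ Y'} {φ : X ⟶ Y}
    {a : Y' ⟶ Y} (hpb : IsPullback fst snd φ a) [Flat a] (h : Hyp φ) : Hyp snd := by
  intro y' hy'
  have hp := isPullback_fiberToSpecResidueField_of_isPullback hpb y'
  rcases h (a y') (maximal_of_flat a y' hy') with h1 | h1
  · left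
    exact ⟨fun z => h1.elim ((pullback.map _ _ _ _ fst (Spec.map (a.residueFieldMap y')) a
      hpb.w.symm (by simp)) z)⟩
  · right
    exact MorphismProperty.of_isPullback (P := MorphismProperty.isomorphisms Scheme.{u}) hp h1

/-- under `Hyp`, fibres over maximal points have at most one point. -/
theorem Hyp.subsingleton {X Y : Scheme.{u}} {φ : X ⟶ Y} (h : Hyp φ) (y : Y)
    (hy : ∀ t : Y, t ⤳ y → t = y) (x₁ x₂ : X) (h₁ : φ x₁ = y) (h₂ : φ x₂ = y) : x₁ = x₂ := by
  have key : Subsingleton ↥(φ.fiber y) := by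
    rcases h y hy with h1 | h1
    · exact ⟨fun a => (h1.false a).elim⟩
    · haveI := h1
      have hs : Subsingleton ↥(Spec (Y.residueField y)) :=
        inferInstanceAs (Subsingleton (PrimeSpectrum (Y.residueField y)))
      exact (asIso (pullback.snd φ (Y.fromSpecResidueField y))).hom.homeomorph.injective.subsingleton
  have e := φ.fiberHomeo y
  have := (e.symm.injective.subsingleton (α := φ ⁻¹' {y}))
  have h3 : (⟨x₁, h₁⟩ : φ ⁻¹' {y}) = ⟨x₂, h₂⟩ := Subsingleton.elim _ _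
  exact congrArg Subtype.val h3

theorem Hyp.finrank_eq_one {X Y : Scheme.{u}} (φ : X ⟶ Y) (h : Hyp φ) (Z : X.Opens)
    [Flat (Z.ι ≫ φ)] [IsFinite (Z.ι ≫ φ)] (η : Y) (hη : ∀ t : Y, t ⤳ η → t = η)
    (hr : η ∈ Set.range (Z.ι ≫ φ)) : (Z.ι ≫ φ).finrank η = 1 := by
  set ρ := Y.fromSpecResidueField η with hρ
  have hpt : ρ (closedPoint (Y.residueField η)) = η := Scheme.fromSpecResidueField_apply _ _
  rw [← hpt, ← Scheme.Hom.finrank_pullback_snd (Z.ι ≫ φ) ρ]
  obtain ⟨z, hz⟩ := hr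
  obtain ⟨p, hp1, hp2⟩ := Scheme.Pullback.exists_preimage_pullback (f := Z.ι ≫ φ) (g := ρ) z
    (closedPoint (Y.residueField η)) (hz.trans hpt.symm)
  -- the fibre of φ is a point
  have hiso : IsIso (pullback.snd φ ρ) := by
    rcases h η hη with h1 | h1
    · exfalso
      obtain ⟨q, _, _⟩ := Scheme.Pullback.exists_preimage_pullback (f := φ) (g := ρ) (Z.ι z)
        (closedPoint (Y.residueField η)) (by rw [← Scheme.Hom.comp_apply, hz, hpt])
      exact h1.false q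
    · exact h1
  let e := pullbackRightPullbackFstIso φ ρ Z.ι
  have he : pullback.snd (Z.ι ≫ φ) ρ =
      e.inv ≫ pullback.snd Z.ι (pullback.fst φ ρ) ≫ pullback.snd φ ρ := by
    rw [Iso.eq_inv_comp]
    exact pullbackRightPullbackFstIso_hom_snd φ ρ Z.ι
  have hsub : Subsingleton ↥(pullback φ ρ) := by
    have hs : Subsingleton ↥(Spec (Y.residueField η)) :=
      inferInstanceAs (Subsingleton (PrimeSpectrum (Y.residueField η)))
    exact (asIso (pullback.snd φ ρ)).hom.homeomorph.injective.subsingleton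
  have hj : IsIso (pullback.snd Z.ι (pullback.fst φ ρ)) := by
    rw [isIso_iff_isOpenImmersion_and_surjective]
    refine ⟨inferInstance, ⟨fun q => ⟨e.inv p, Subsingleton.elim _ _⟩⟩⟩
  have : IsIso (pullback.snd (Z.ι ≫ φ) ρ) := by
    rw [he]; infer_instance
  rw [Scheme.Hom.finrank_eq_one_of_isIso]
  rfl

theorem Hyp.exists_nhd_isIso {X Y : Scheme.{u}} (φ : X ⟶ Y) [Flat φ]
    [LocallyOfFinitePresentation φ] (h : Hyp φ) (Z : X.Opens) (hZc : IsClosed (Z : Set X))
    [IsFinite (Z.ι ≫ φ)] (y₀ : Y) (hne : ∃ x ∈ Z, φ x = y₀) :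
    ∃ N : Y.Opens, y₀ ∈ N ∧ IsIso (φ ∣_ N) := by
  set ψ := Z.ι ≫ φ with hψ
  have hLC := ψ.isLocallyConstant_finrank
  have hropen : IsOpen (Set.range ψ) := ψ.isOpenMap.isOpen_range
  have hy₀r : y₀ ∈ Set.range ψ := by
    obtain ⟨x, hxZ, hx⟩ := hne
    exact ⟨⟨x, hxZ⟩, hx⟩
  -- Claim B
  have hB : ψ.finrank y₀ = 1 := by
    obtain ⟨η, hη1, hη2⟩ := exists_maximal_generization Y y₀
    have h1 : ψ.finrank η = 1 :=
      Hyp.finrank_eq_one φ h Z η hη2 (hη1.mem_open hropen hy₀r)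
    have h2 : η ∈ {y | ψ.finrank y = ψ.finrank y₀} :=
      hη1.mem_open (hLC.isOpen_fiber _) rfl
    rw [← h1]; exact h2.symm
  let N : Y.Opens := ⟨{y | ψ.finrank y = 1}, hLC.isOpen_fiber 1⟩
  refine ⟨N, hB, ?_⟩
  -- Claim C
  have hC : IsIso (ψ ∣_ N) := by
    rw [Scheme.Hom.isIso_iff_finrank_eq]
    funext y
    rw [Scheme.Hom.finrank_of_isPullback (ψ ⁻¹ᵁ N).ι (ψ ∣_ N) ψ N.ι
      (isPullback_morphismRestrict ψ N).flip y]
    exact y.2
  -- Claim D
  have hD : ∀ x : X, φ x ∈ N → x ∈ Z := by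
    intro x hxN
    by_contra hxZ
    obtain ⟨η, hη1, hη2⟩ := exists_maximal_generization Y (φ x)
    have hηN : η ∈ N := hη1.mem_open N.2 hxN
    let W : X.Opens := ⟨(Z : Set X)ᶜ, hZc.isOpen_compl⟩
    have hWopen : IsOpen (Set.range (W.ι ≫ φ)) := (W.ι ≫ φ).isOpenMap.isOpen_range
    have hxW : φ x ∈ Set.range (W.ι ≫ φ) := ⟨⟨x, hxZ⟩, rfl⟩
    obtain ⟨x₁, hx₁⟩ := hη1.mem_open hWopen hxW
    obtain ⟨z, hz⟩ := (ψ ∣_ N).surjective ⟨η, hηN⟩
    have hz' : ψ ((ψ ⁻¹ᵁ N).ι z) = η := by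
      have := morphismRestrict_base_coe ψ N z
      rw [hz] at this
      exact this.symm
    have heq := Hyp.subsingleton h η hη2 (W.ι x₁) (Z.ι ((ψ ⁻¹ᵁ N).ι z)) hx₁ hz'
    have h1 : (W.ι x₁ : X) ∉ Z := x₁.2
    have h2 : (Z.ι ((ψ ⁻¹ᵁ N).ι z) : X) ∈ Z := ((ψ ⁻¹ᵁ N).ι z).2
    rw [heq] at h1
    exact h1 h2
  -- Claim E
  have hcomp : ψ ∣_ N = (Z.ι ∣_ (φ ⁻¹ᵁ N)) ≫ (φ ∣_ N) := morphismRestrict_comp Z.ι φ N
  have hj : IsIso (Z.ι ∣_ (φ ⁻¹ᵁ N)) := by
    rw [isIso_iff_isOpenImmersion_and_surjective]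
    refine ⟨inferInstance, ⟨fun x' => ?_⟩⟩
    have hxZ : (x'.1 : X) ∈ Z := hD x'.1 x'.2
    refine ⟨⟨⟨x'.1, hxZ⟩, x'.2⟩, ?_⟩
    apply Subtype.ext
    exact morphismRestrict_base_coe Z.ι (φ ⁻¹ᵁ N) ⟨⟨x'.1, hxZ⟩, x'.2⟩
  rw [hcomp] at hC
  exact @IsIso.of_isIso_comp_left _ _ _ _ _ (Z.ι ∣_ (φ ⁻¹ᵁ N)) (φ ∣_ N) hj hC


open Groth.Agent.Lib.Helper20.EtSections

/-- isomorphisms can be checked étale locally on the target. -/
theorem isIso_of_etale_local {X Y : Scheme.{u}} (f : X ⟶ Y)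
    (H : ∀ y : Y, ∃ (V : Scheme.{u}) (g : V ⟶ Y), Etale g ∧ y ∈ Set.range g ∧
      IsIso (pullback.snd f g)) : IsIso f := by
  choose V g hg hy hfin using H
  let G : (∐ V) ⟶ Y := Sigma.desc g
  have hιG : ∀ y, Sigma.ι V y ≫ G = g y := fun y => Sigma.ι_desc _ _
  have hG : Etale G := by
    refine IsZariskiLocalAtSource.of_openCover (P := @Etale) (sigmaOpenCover V) (fun y => ?_)
    change Etale (Sigma.ι V y ≫ G)
    rw [hιG]
    exact hg y
  have hGs : Surjective G := ⟨fun y => by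
    obtain ⟨v, hv⟩ := hy y
    exact ⟨Sigma.ι V y v, by rw [← Scheme.Hom.comp_apply, hιG, hv]⟩⟩
  have hfinG : MorphismProperty.isomorphisms Scheme.{u} (pullback.snd f G) := by
    refine IsZariskiLocalAtTarget.of_openCover (P := MorphismProperty.isomorphisms Scheme.{u})
      (sigmaOpenCover V) (fun y => ?_)
    change IsIso (pullback.snd (pullback.snd f G) (Sigma.ι V y))
    have hp : IsPullback (pullback.fst (pullback.snd f G) (Sigma.ι V y) ≫ pullback.fst f G)
        (pullback.snd (pullback.snd f G) (Sigma.ι V y)) f (Sigma.ι V y ≫ G) :=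
      (IsPullback.of_hasPullback (pullback.snd f G) (Sigma.ι V y)).paste_horiz
        (IsPullback.of_hasPullback f G)
    rw [hιG] at hp
    rw [← hp.isoPullback_hom_snd]
    haveI := hfin y
    infer_instance
  exact MorphismProperty.of_pullback_snd_of_descendsAlong
    (P := MorphismProperty.isomorphisms Scheme.{u})
    (Q := @Surjective ⊓ @Flat ⊓ @LocallyOfFinitePresentation) ⟨⟨hGs, inferInstance⟩, inferInstance⟩
    hfinG

/-- Theorem A: étale locally around a point of the image, `g` becomes an isomorphism. -/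
theorem Hyp.exists_etale_isIso {T S : Scheme.{u}} (g : T ⟶ S) [LocallyQuasiFinite g]
    [LocallyOfFinitePresentation g] [QuasiCompact g] [IsSeparated g] [Flat g] (h : Hyp g)
    (s : S) (hs : s ∈ Set.range g) :
    ∃ (N : Scheme.{u}) (a : N ⟶ S), Etale a ∧ s ∈ Set.range a ∧ IsIso (pullback.snd g a) := by
  classical
  have hfinF : (g ⁻¹' {s}).Finite := g.finite_preimage_singleton s
  obtain ⟨V, gV, v, hgV, hv, hW₀fin, Vz, hdisj, H⟩ := exists_etale_split_clopen g s (g ⁻¹' {s})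
    hfinF (fun t ht => ⟨ht, g.quasiFiniteAt _⟩)
  haveI := hgV
  set fstV := pullback.fst g gV with hfstV
  set φ := pullback.snd g gV with hφ
  have hHypφ : Hyp φ := Hyp.baseChange (IsPullback.of_hasPullback g gV) h
  let ι : Type u := {z : ↥(pullback g gV) // φ z = v ∧ fstV z ∈ g ⁻¹' {s}}
  haveI : Finite ι := hW₀fin.to_subtype
  haveI hVfin : ∀ i : ι, IsFinite ((Vz i.1).ι ≫ φ) := fun i => (H i.1 i.2.1 i.2.2).2.2.1
  let Aop : (pullback g gV).Opens := ⨆ i : ι, Vz i.1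
  have hfinA : IsFinite (Aop.ι ≫ φ) :=
    (Groth.Agent.Lib.Helper20.FinUnion.isFinite_iSup_of_isClosed φ (fun i : ι => Vz i.1)
      (fun i => (H i.1 i.2.1 i.2.2).2.1.isClosed) hVfin).1
  have hAcl : IsClosed (Aop : Set ↥(pullback g gV)) := by
    rw [TopologicalSpace.Opens.coe_iSup]
    exact isClosed_iUnion_of_finite (fun i : ι => (H i.1 i.2.1 i.2.2).2.1.isClosed)
  have hne : ∃ x ∈ Aop, φ x = v := by
    obtain ⟨t, ht⟩ := hs
    obtain ⟨z, hz1, hz2⟩ := Scheme.Pullback.exists_preimage_pullback (f := g) (g := gV) t v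
      (ht.trans hv.symm)
    have hzF : fstV z ∈ g ⁻¹' {s} := by
      change g (fstV z) = s
      rw [hz1, ht]
    refine ⟨z, ?_, hz2⟩
    exact TopologicalSpace.Opens.mem_iSup.mpr ⟨⟨z, hz2, hzF⟩, (H z hz2 hzF).1⟩
  obtain ⟨N₀, hvN₀, hiso⟩ := Hyp.exists_nhd_isIso φ hHypφ Aop hAcl v hne
  refine ⟨N₀, N₀.ι ≫ gV, inferInstance, ⟨⟨v, hvN₀⟩, ?_⟩, ?_⟩
  · rw [Scheme.Hom.comp_apply]
    exact hv
  · have hp : IsPullback ((φ ⁻¹ᵁ N₀).ι ≫ fstV) (φ ∣_ N₀) g (N₀.ι ≫ gV) :=
      (isPullback_morphismRestrict φ N₀).flip.paste_horiz (IsPullback.of_hasPullback g gV)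
    have h1 : pullback.snd g (N₀.ι ≫ gV) = hp.isoPullback.inv ≫ (φ ∣_ N₀) := by
      rw [Iso.eq_inv_comp]
      exact hp.isoPullback_hom_snd
    rw [h1]
    infer_instance

theorem Hyp.isIso_of_surjective {T S : Scheme.{u}} (g : T ⟶ S) [LocallyQuasiFinite g]
    [LocallyOfFinitePresentation g] [QuasiCompact g] [IsSeparated g] [Flat g] [Surjective g]
    (h : Hyp g) : IsIso g :=
  isIso_of_etale_local g (fun s => Hyp.exists_etale_isIso g h s (g.surjective s))

/-- a flat, quasi-finite, separated morphism of finite presentation whose fibres over maximal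
points have rank at most one is an open immersion. -/
theorem Hyp.isOpenImmersion {T S : Scheme.{u}} (g : T ⟶ S) [LocallyQuasiFinite g]
    [LocallyOfFinitePresentation g] [QuasiCompact g] [IsSeparated g] [Flat g]
    (h : Hyp g) : IsOpenImmersion g := by
  let O : S.Opens := ⟨Set.range g, g.isOpenMap.isOpen_range⟩
  have hpb := (isPullback_morphismRestrict g O).flip
  have hHyp' : Hyp (g ∣_ O) := Hyp.baseChange hpb h
  haveI : Surjective (g ∣_ O) := ⟨fun y => by
    obtain ⟨t, ht⟩ := y.2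
    refine ⟨⟨t, ⟨t, rfl⟩⟩, ?_⟩
    apply Subtype.ext
    rw [morphismRestrict_base_coe]
    exact ht⟩
  haveI : IsIso (g ∣_ O) := Hyp.isIso_of_surjective (g ∣_ O) hHyp'
  haveI : IsIso (g ⁻¹ᵁ O).ι := by
    rw [isIso_iff_isOpenImmersion_and_surjective]
    exact ⟨inferInstance, ⟨fun t => ⟨⟨t, ⟨t, rfl⟩⟩, rfl⟩⟩⟩
  have : g = inv (g ⁻¹ᵁ O).ι ≫ g ∣_ O ≫ O.ι := by
    rw [IsIso.eq_inv_comp, morphismRestrict_ι]
  rw [this]
  infer_instance


end Groth.Agent.Lib.Helper2.Weight
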