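import Groth.Agent.Lib.Helper5RegImm

/-!
# Spreading out a regular sequence generating the kernel of a closed immersion, keeping its length
(helper2)

A variant of helper5's `Helper5.RegImm.regAt_of_stalkReg` that records that the regular sequence of
sections found on an affine neighbourhood has the same length as the regular sequence in the stalk.
-/

set_option autoImplicit false
set_option linter.style.haveILetI false
universe u

open AlgebraicGeometry CategoryTheory RingTheory.Sequence TopologicalSpace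

namespace Groth.Agent.Lib.Helper2.RegAtLen

open Groth.Agent.Lib.Helper5.RegSeq Groth.Agent.Lib.Helper5.RegImm

theorem regAt_of_stalkReg_length {Z W : Scheme.{u}} [IsLocallyNoetherian W] (φ : Z ⟶ W)
    [IsClosedImmersion φ] (z : Z) (rs : List (W.presheaf.stalk (φ z)))
    (hreg : IsRegular (W.presheaf.stalk (φ z)) rs)
    (hker : RingHom.ker (φ.stalkMap z).hom = Ideal.ofList rs) :
    ∃ (U : W.Opens) (hU : IsAffineOpen U), φ z ∈ U ∧ ∃ bs : List Γ(W, U),
      bs.length = rs.length ∧ IsRegular Γ(W, U) bs ∧ φ.ker.ideal ⟨U, hU⟩ = Ideal.ofList bs := by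
  obtain ⟨U, hU, hz, as, has⟩ := exists_affine_lift W (φ z) rs
  haveI : IsNoetherianRing Γ(W, U) := IsLocallyNoetherian.component_noetherian ⟨U, hU⟩
  letI alg := (W.presheaf.germ U (φ z) hz).hom.toAlgebra
  haveI loc : IsLocalization.AtPrime (W.presheaf.stalk (φ z))
      (hU.primeIdealOf ⟨φ z, hz⟩).asIdeal := hU.isLocalization_stalk ⟨φ z, hz⟩
  have hmapI : (φ.ker.ideal ⟨U, hU⟩).map (algebraMap Γ(W, U) (W.presheaf.stalk (φ z)))
      = (Ideal.ofList as).map (algebraMap Γ(W, U) (W.presheaf.stalk (φ z))) := by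
    have h1 := ker_stalkMap_eq_map_ker φ z U hU hz
    rw [hker, ← has, ← Ideal.map_ofList] at h1
    exact h1.symm
  obtain ⟨g₁, hg₁, H₁⟩ := exists_notMem_forall_map_le.{u, u} (hU.primeIdealOf ⟨φ z, hz⟩).asIdeal
    (W.presheaf.stalk (φ z)) (IsNoetherian.noetherian (φ.ker.ideal ⟨U, hU⟩)) hmapI.le
  obtain ⟨g₂, hg₂, H₂⟩ := exists_notMem_forall_map_le.{u, u} (hU.primeIdealOf ⟨φ z, hz⟩).asIdeal
    (W.presheaf.stalk (φ z)) (IsNoetherian.noetherian (Ideal.ofList as)) hmapI.ge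
  have hregOn : RegOn ((⊥ : Ideal Γ(W, U)).map (algebraMap Γ(W, U) (W.presheaf.stalk (φ z))))
      (as.map (algebraMap Γ(W, U) (W.presheaf.stalk (φ z)))) := by
    rw [Ideal.map_bot]
    have := (isWeaklyRegular_iff_regOn rs).mp hreg.toIsWeaklyRegular
    rw [← has] at this
    exact this
  obtain ⟨g₃, hg₃, H₃⟩ := exists_notMem_forall_regOn.{u, u} (hU.primeIdealOf ⟨φ z, hz⟩).asIdeal
    (W.presheaf.stalk (φ z)) as ⊥ hregOn
  obtain ⟨f, hf⟩ : ∃ f, f = g₁ * g₂ * g₃ := ⟨_, rfl⟩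
  have hfp : f ∉ (hU.primeIdealOf ⟨φ z, hz⟩).asIdeal := by
    rw [hf]
    intro hmem
    rcases Ideal.IsPrime.mem_or_mem inferInstance hmem with h1 | h1
    · rcases Ideal.IsPrime.mem_or_mem inferInstance h1 with h2 | h2
      · exact hg₁ h2
      · exact hg₂ h2
    · exact hg₃ h1
  have hV : IsAffineOpen (W.basicOpen f) := hU.basicOpen f
  have hzV : φ z ∈ W.basicOpen f := by
    rw [W.mem_basicOpen f (φ z) hz]
    exact (IsLocalization.AtPrime.isUnit_to_map_iff (W.presheaf.stalk (φ z))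
      (hU.primeIdealOf ⟨φ z, hz⟩).asIdeal f).mpr hfp
  haveI : IsLocalization.Away f Γ(W, W.basicOpen f) := hU.isLocalization_basicOpen f
  have hfu : IsUnit (algebraMap Γ(W, U) Γ(W, W.basicOpen f) f) :=
    IsLocalization.Away.algebraMap_isUnit f
  have hfu' : IsUnit (algebraMap Γ(W, U) Γ(W, W.basicOpen f) g₁ *
      algebraMap Γ(W, U) Γ(W, W.basicOpen f) g₂ * algebraMap Γ(W, U) Γ(W, W.basicOpen f) g₃) := by
    rw [← map_mul, ← map_mul, ← hf]
    exact hfu
  have hu₃ : IsUnit (algebraMap Γ(W, U) Γ(W, W.basicOpen f) g₃) := isUnit_of_mul_isUnit_right hfu'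
  have hu₁₂ := isUnit_of_mul_isUnit_left hfu'
  have hu₁ : IsUnit (algebraMap Γ(W, U) Γ(W, W.basicOpen f) g₁) := isUnit_of_mul_isUnit_left hu₁₂
  have hu₂ : IsUnit (algebraMap Γ(W, U) Γ(W, W.basicOpen f) g₂) := isUnit_of_mul_isUnit_right hu₁₂
  have hkerV : φ.ker.ideal ⟨W.basicOpen f, hV⟩
      = Ideal.ofList (as.map (algebraMap Γ(W, U) Γ(W, W.basicOpen f))) := by
    have h1 := φ.ker.map_ideal_basicOpen ⟨U, hU⟩ f
    have h2 : (φ.ker.ideal ⟨U, hU⟩).map (algebraMap Γ(W, U) Γ(W, W.basicOpen f))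
        = (Ideal.ofList as).map (algebraMap Γ(W, U) Γ(W, W.basicOpen f)) :=
      le_antisymm (H₁ _ hu₁) (H₂ _ hu₂)
    rw [← Ideal.map_ofList, ← h2]
    exact h1.symm
  have hw : IsWeaklyRegular Γ(W, W.basicOpen f)
      (as.map (algebraMap Γ(W, U) Γ(W, W.basicOpen f))) := by
    rw [isWeaklyRegular_iff_regOn]
    have := H₃ (Submonoid.powers f) Γ(W, W.basicOpen f) hu₃
    rw [Ideal.map_bot] at this
    exact this
  haveI : Nonempty ↥(φ ⁻¹ᵁ W.basicOpen f) := ⟨⟨z, hzV⟩⟩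
  refine ⟨W.basicOpen f, hV, hzV, _, ?_, ⟨hw, ?_⟩, hkerV⟩
  · rw [List.length_map, ← has, List.length_map]
  · rw [smul_eq_mul, Ideal.mul_top, ← hkerV, Scheme.Hom.ker_apply]
    exact (RingHom.ker_ne_top _).symm

end Groth.Agent.Lib.Helper2.RegAtLen
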