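import Mathlib
import Groth.Prelude.Def_Flatn
import Groth.Agent.Lib.Helper2ModExact
import Groth.Agent.Lib.Helper23FinTypeLocal

/-!
# Relative finite presentation (`Flatn.IsRelFP`): first stability properties

* `finitePresentation_of_retract`: a retract of a finitely presented module is finitely presented.
* `isRelFP_of_retract`.
* `finite_of_surjective_compHom`.
* `isRelFP_of_shortExact_of_finiteType`: quotient of a relatively f.p. module by a finite type submodule.
-/

set_option autoImplicit false
set_option linter.style.haveILetI false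
universe u
open CategoryTheory CategoryTheory.Limits AlgebraicGeometry TopologicalSpace Opposite

namespace Groth.Agent.Lib.Helper2.RelFP

open Groth.Agent.Lib.Helper23.FinType

theorem finitePresentation_of_retract {R M N : Type*} [Ring R] [AddCommGroup M] [Module R M]
    [AddCommGroup N] [Module R N] (i : M →ₗ[R] N) (r : N →ₗ[R] M) (h : r ∘ₗ i = LinearMap.id)
    [Module.FinitePresentation R N] : Module.FinitePresentation R M := by
  have hr : Function.Surjective r := fun m => ⟨i m, LinearMap.congr_fun h m⟩
  refine Module.finitePresentation_of_surjective r hr ?_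
  have hker : LinearMap.ker r = LinearMap.range (LinearMap.id - i ∘ₗ r) := by
    ext n
    simp only [LinearMap.mem_ker, LinearMap.mem_range, LinearMap.sub_apply, LinearMap.id_apply,
      LinearMap.comp_apply]
    constructor
    · intro hn
      exact ⟨n, by rw [hn, map_zero, sub_zero]⟩
    · rintro ⟨y, rfl⟩
      have := LinearMap.congr_fun h (r y)
      simp only [LinearMap.comp_apply, LinearMap.id_apply] at this
      rw [map_sub, this, sub_self]
  rw [hker]
  exact Submodule.fg_range _

variable {X S : Scheme.{u}}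

/-- a retract of a relatively finitely presented module is relatively finitely presented. -/
theorem isRelFP_of_retract (f : X ⟶ S) {F G : X.Modules} (i : F ⟶ G) (r : G ⟶ F) (hir : i ≫ r = 𝟙 F)
    (h : Flatn.IsRelFP f G) : Flatn.IsRelFP f F := by
  obtain ⟨𝒱, h𝒱, H⟩ := h
  refine ⟨𝒱, h𝒱, fun V hV => ?_⟩
  obtain ⟨𝒰, h𝒰, HU⟩ := H V hV
  refine ⟨𝒰, h𝒰, fun U hU hle => ?_⟩
  obtain ⟨n, φ, hφ, hfp⟩ := HU U hU hle
  refine ⟨n, φ, hφ, ?_⟩
  letI := (f.appLE (V : S.Opens) (U : X.Opens) hle).hom.toAlgebra
  letI : Module (MvPolynomial (Fin n) Γ(S, (V : S.Opens))) (G.val.obj (op (U : X.Opens))) :=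
    Module.compHom _ φ.toRingHom
  letI : Module (MvPolynomial (Fin n) Γ(S, (V : S.Opens))) (F.val.obj (op (U : X.Opens))) :=
    Module.compHom _ φ.toRingHom
  haveI : Module.FinitePresentation (MvPolynomial (Fin n) Γ(S, (V : S.Opens)))
    (G.val.obj (op (U : X.Opens))) := hfp
  let iU : (F.val.obj (op (U : X.Opens))) →ₗ[MvPolynomial (Fin n) Γ(S, (V : S.Opens))]
      (G.val.obj (op (U : X.Opens))) :=
    { toFun := fun m => i.app U m
      map_add' := fun a b => map_add _ a b
      map_smul' := fun p m => Scheme.Modules.Hom.app_smul i (φ p) m }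
  let rU : (G.val.obj (op (U : X.Opens))) →ₗ[MvPolynomial (Fin n) Γ(S, (V : S.Opens))]
      (F.val.obj (op (U : X.Opens))) :=
    { toFun := fun m => r.app U m
      map_add' := fun a b => map_add _ a b
      map_smul' := fun p m => Scheme.Modules.Hom.app_smul r (φ p) m }
  refine finitePresentation_of_retract iU rU ?_
  ext m
  change r.app U (i.app U m) = m
  have := congrArg (fun ψ : F ⟶ F => Scheme.Modules.Hom.app ψ U m) hir
  simpa using this

theorem finite_of_surjective_compHom {P A M : Type*} [CommRing P] [CommRing A] [AddCommGroup M]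
    [Module A M] [Module.Finite A M] (φ : P →+* A) (hφ : Function.Surjective φ) :
    letI : Module P M := Module.compHom M φ
    Module.Finite P M := by
  letI : Module P M := Module.compHom M φ
  letI : Algebra P A := φ.toAlgebra
  haveI : IsScalarTower P A M := IsScalarTower.of_algebraMap_smul fun _ _ => rfl
  haveI : Module.Finite P A := Module.Finite.of_surjective (Algebra.linearMap P A) hφ
  exact Module.Finite.trans A M

/-- quotient of a relatively finitely presented module by a finite type submodule. -/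
theorem isRelFP_of_shortExact_of_finiteType (f : X ⟶ S) (E : ShortComplex X.Modules)
    (hE : E.ShortExact) [E.X₁.IsQuasicoherent] [E.X₂.IsQuasicoherent] [E.X₃.IsQuasicoherent]
    [SheafOfModules.IsFiniteType (R := X.ringCatSheaf) E.X₁]
    (h : Flatn.IsRelFP f E.X₂) : Flatn.IsRelFP f E.X₃ := by
  obtain ⟨𝒱, h𝒱, H⟩ := h
  refine ⟨𝒱, h𝒱, fun V hV => ?_⟩
  obtain ⟨𝒰, h𝒰, HU⟩ := H V hV
  refine ⟨𝒰, h𝒰, fun U hU hle => ?_⟩
  obtain ⟨n, φ, hφ, hfp⟩ := HU U hU hle
  refine ⟨n, φ, hφ, ?_⟩
  letI := (f.appLE (V : S.Opens) (U : X.Opens) hle).hom.toAlgebra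
  letI : Module (MvPolynomial (Fin n) Γ(S, (V : S.Opens))) (E.X₁.val.obj (op (U : X.Opens))) :=
    Module.compHom _ φ.toRingHom
  letI : Module (MvPolynomial (Fin n) Γ(S, (V : S.Opens))) (E.X₂.val.obj (op (U : X.Opens))) :=
    Module.compHom _ φ.toRingHom
  letI : Module (MvPolynomial (Fin n) Γ(S, (V : S.Opens))) (E.X₃.val.obj (op (U : X.Opens))) :=
    Module.compHom _ φ.toRingHom
  haveI : Module.FinitePresentation (MvPolynomial (Fin n) Γ(S, (V : S.Opens)))
    (E.X₂.val.obj (op (U : X.Opens))) := hfp
  haveI : Module.Finite Γ(X, (U : X.Opens)) Γ(E.X₁, (U : X.Opens)) := finite_of_isFiniteType E.X₁ U.2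
  haveI : Module.Finite (MvPolynomial (Fin n) Γ(S, (V : S.Opens)))
      (E.X₁.val.obj (op (U : X.Opens))) :=
    finite_of_surjective_compHom (M := Γ(E.X₁, (U : X.Opens))) φ.toRingHom hφ
  let fU : (E.X₁.val.obj (op (U : X.Opens))) →ₗ[MvPolynomial (Fin n) Γ(S, (V : S.Opens))]
      (E.X₂.val.obj (op (U : X.Opens))) :=
    { toFun := fun m => E.f.app U m
      map_add' := fun a b => map_add _ a b
      map_smul' := fun p m => Scheme.Modules.Hom.app_smul E.f (φ p) m }
  let gU : (E.X₂.val.obj (op (U : X.Opens))) →ₗ[MvPolynomial (Fin n) Γ(S, (V : S.Opens))]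
      (E.X₃.val.obj (op (U : X.Opens))) :=
    { toFun := fun m => E.g.app U m
      map_add' := fun a b => map_add _ a b
      map_smul' := fun p m => Scheme.Modules.Hom.app_smul E.g (φ p) m }
  haveI := hE.epi_g
  have hsurj : Function.Surjective gU := surjective_app_of_epi E.g U.2
  refine Module.finitePresentation_of_surjective gU hsurj ?_
  have hker : LinearMap.ker gU = LinearMap.range fU := by
    ext t
    simp only [LinearMap.mem_ker, LinearMap.mem_range]
    constructor
    · intro ht
      obtain ⟨t₁, ht₁⟩ := Groth.Agent.Lib.Helper2.ModExact.exists_app_eq_of_shortExact E hE U t ht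
      exact ⟨t₁, ht₁⟩
    · rintro ⟨t₁, rfl⟩
      change E.g.app U (E.f.app U t₁) = 0
      have h1 : Scheme.Modules.Hom.app (E.f ≫ E.g) U t₁ = 0 := by
        rw [E.zero]; rfl
      exact h1
  rw [hker]
  exact Submodule.fg_range _

end Groth.Agent.Lib.Helper2.RelFP
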