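import Mathlib
import Groth.Prelude.Def_FlatCA
import Groth.Agent.Lib.Helper2FinPushFP

/-!
# Relative finite presentation of modules (ring level, `FlatCA.RelFinitePresentation`)

* `FPVia ψ N`: `N` is finitely presented over `P` through `ψ : P →+* A`.
* `FPVia.comp_iff` (A0): may be tested modulo a finitely generated ideal.
* `FPVia.of_mvPolynomial` (A1), `FPVia.of_finitePresentation` (A1'): independence of the presentation.
* `relFP_of_fpVia`, `fpVia_of_relFP`.
* `relFP_localization_away` (A2): localizing the algebra.
* `relFP_iff_of_isLocalization_away` (A3): localizing the base ring.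
* `relFP_of_span_eq_top` (G): gluing over a family of localizations generating the unit ideal.
* `relFP_of_tower`: from a finitely presented base algebra down to the base ring.
* `relFP_of_equiv`: transport along isomorphisms.
-/

set_option autoImplicit false
set_option linter.style.haveILetI false
universe u
open Function

namespace Groth.Agent.Lib.Helper2.RelFPAlg

open Groth.Agent.Lib.Helper2.FinPushFP

/-- `N` is finitely presented over `P` through the ring homomorphism `ψ : P →+* A`. -/
def FPVia {P A : Type*} [CommRing P] [CommRing A] (ψ : P →+* A) (N : Type*) [AddCommGroup N]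
    [Module A N] : Prop :=
  letI := Module.compHom N ψ
  Module.FinitePresentation P N

section basic
variable {Q P A : Type*} [CommRing Q] [CommRing P] [CommRing A] {N : Type*} [AddCommGroup N]
  [Module A N]

theorem FPVia.congr {ψ ψ' : P →+* A} (h : ψ = ψ') : FPVia ψ N ↔ FPVia ψ' N := by
  subst h; rfl

/-- (A0) finite presentation may be tested over a quotient by a finitely generated ideal. -/
theorem FPVia.comp_iff (π : Q →+* P) (ψ : P →+* A) (hs : Surjective π) (hk : (RingHom.ker π).FG) :
    FPVia (ψ.comp π) N ↔ FPVia ψ N := by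
  unfold FPVia
  letI : Algebra Q P := π.toAlgebra
  letI : Module P N := Module.compHom N ψ
  letI : Module Q N := Module.compHom N (ψ.comp π)
  haveI : IsScalarTower Q P N := ⟨fun q p n => by
    change ψ (π q * p) • n = ψ (π q) • (ψ p • n)
    rw [map_mul, mul_smul]⟩
  haveI : Module.Finite Q P := Module.Finite.of_surjective (Algebra.linearMap Q P) hs
  haveI : Module.FinitePresentation Q P := by
    refine Module.finitePresentation_of_surjective (Algebra.linearMap Q P) hs ?_
    have : LinearMap.ker (Algebra.linearMap Q P) = RingHom.ker π := by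
      ext q
      simp only [LinearMap.mem_ker, Algebra.linearMap_apply, RingHom.mem_ker]
      rfl
    rw [this]
    exact hk
  exact (finitePresentation_iff_of_finite (A := Q) (B := P) (N := N)).symm

theorem FPVia.of_equiv {A' N' : Type*} [CommRing A'] [AddCommGroup N'] [Module A' N']
    (ψ : P →+* A) (e : A →+* A') (eN : N ≃+ N') (he : ∀ a n, eN (a • n) = e a • eN n)
    (h : FPVia ψ N) : FPVia (e.comp ψ) N' := by
  unfold FPVia at h ⊢
  letI : Module P N := Module.compHom N ψ
  letI : Module P N' := Module.compHom N' (e.comp ψ)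
  let l : N ≃ₗ[P] N' :=
    { eN with
      map_smul' := fun p n => he (ψ p) n }
  exact Module.FinitePresentation.of_equiv l

end basic

section locmod
variable {P A : Type*} [CommRing P] [CommRing A] (φ : P →+* A) (t : P) {N N' : Type*}
  [AddCommGroup N] [AddCommGroup N'] [Module A N] [Module A N']

/-- restriction of scalars of a linear map along a ring homomorphism -/
def compHomLinearMap (g : N →ₗ[A] N') :
    letI := Module.compHom N φ
    letI := Module.compHom N' φ
    N →ₗ[P] N' :=
  letI := Module.compHom N φ
  letI := Module.compHom N' φ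
  { toFun := g
    map_add' := g.map_add
    map_smul' := fun p n => g.map_smul (φ p) n }

theorem isLocalizedModule_compHom (g : N →ₗ[A] N') [hg : IsLocalizedModule (Submonoid.powers (φ t)) g] :
    letI := Module.compHom N φ
    letI := Module.compHom N' φ
    IsLocalizedModule (Submonoid.powers t) (compHomLinearMap φ g) := by
  letI := Module.compHom N φ
  letI := Module.compHom N' φ
  refine ⟨?_, ?_, ?_⟩
  · rintro ⟨_, k, rfl⟩
    rw [Module.End.isUnit_iff]
    have h1 := hg.map_units ⟨φ t ^ k, k, rfl⟩
    rw [Module.End.isUnit_iff] at h1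
    convert h1 using 1
    ext n
    change φ (t ^ k) • n = (φ t ^ k) • n
    rw [map_pow]
  · intro y
    obtain ⟨⟨n, ⟨_, k, rfl⟩⟩, hn⟩ := hg.surj y
    refine ⟨(n, ⟨t ^ k, k, rfl⟩), ?_⟩
    change φ (t ^ k) • y = g n
    rw [map_pow]
    exact hn
  · intro x₁ x₂ h
    obtain ⟨⟨_, k, rfl⟩, hc⟩ := hg.exists_of_eq (x₁ := x₁) (x₂ := x₂) h
    refine ⟨⟨t ^ k, k, rfl⟩, ?_⟩
    change φ (t ^ k) • x₁ = φ (t ^ k) • x₂
    rw [map_pow]
    exact hc

end locmod

section locMap
variable {R P A : Type u} [CommRing R] [CommRing P] [CommRing A] [Algebra R P] [Algebra R A]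
  (ψ : P →ₐ[R] A) (t : P) (A' : Type u) [CommRing A'] [Algebra A A'] [Algebra R A']
  [IsScalarTower R A A'] [IsLocalization.Away (ψ t) A']

theorem locMap_isUnit : IsUnit (((IsScalarTower.toAlgHom R A A').comp ψ) t) :=
  IsLocalization.Away.algebraMap_isUnit (ψ t)

/-- the map `P_t → A_{ψ t}` induced by `ψ : P → A`. -/
noncomputable def locMap : Localization.Away t →ₐ[R] A' :=
  IsLocalization.Away.liftAlgHom (f := (IsScalarTower.toAlgHom R A A').comp ψ) t
    (locMap_isUnit ψ t A')

theorem locMap_algebraMap (p : P) :
    locMap ψ t A' (algebraMap P (Localization.Away t) p) = algebraMap A A' (ψ p) := by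
  change IsLocalization.Away.lift t (locMap_isUnit ψ t A')
    (algebraMap P (Localization.Away t) p) = _
  rw [IsLocalization.Away.lift_eq]
  rfl

theorem locMap_surjective (hψ : Surjective ψ) : Surjective (locMap ψ t A') := by
  intro z
  obtain ⟨x, ⟨_, k, rfl⟩, rfl⟩ := IsLocalization.exists_mk'_eq (Submonoid.powers (ψ t)) z
  obtain ⟨y, rfl⟩ := hψ x
  refine ⟨IsLocalization.mk' (Localization.Away t) y (⟨t ^ k, k, rfl⟩ : Submonoid.powers t), ?_⟩
  rw [IsLocalization.eq_mk'_iff_mul_eq]
  change locMap ψ t A' _ * algebraMap A A' (ψ t ^ k) = algebraMap A A' (ψ y)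
  rw [← map_pow, ← locMap_algebraMap ψ t A', ← map_mul, ← locMap_algebraMap ψ t A']
  congr 1
  exact IsLocalization.mk'_spec (Localization.Away t) y (⟨t ^ k, k, rfl⟩ : Submonoid.powers t)

variable {N' : Type u} [AddCommGroup N'] [Module A N'] [Module A' N'] [IsScalarTower A A' N']

theorem isScalarTower_locMap :
    letI := Module.compHom N' ψ.toRingHom
    letI := Module.compHom N' (locMap ψ t A').toRingHom
    IsScalarTower P (Localization.Away t) N' := by
  letI := Module.compHom N' ψ.toRingHom
  letI := Module.compHom N' (locMap ψ t A').toRingHom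
  refine ⟨fun p z n' => ?_⟩
  change locMap ψ t A' (p • z) • n' = ψ p • (locMap ψ t A' z • n')
  rw [Algebra.smul_def, map_mul, locMap_algebraMap, mul_smul, algebraMap_smul]

variable {N : Type u} [AddCommGroup N] [Module A N] (g : N →ₗ[A] N')
  [IsLocalizedModule (Submonoid.powers (ψ t)) g]

include g in
theorem fpVia_locMap (hfp : FPVia ψ.toRingHom N) : FPVia (locMap ψ t A').toRingHom N' := by
  unfold FPVia at hfp ⊢
  letI : Module P N := Module.compHom N ψ.toRingHom
  letI : Module P N' := Module.compHom N' ψ.toRingHom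
  letI : Module (Localization.Away t) N' := Module.compHom N' (locMap ψ t A').toRingHom
  haveI : Module.FinitePresentation P N := hfp
  haveI : IsScalarTower P (Localization.Away t) N' := isScalarTower_locMap ψ t A'
  haveI := isLocalizedModule_compHom ψ.toRingHom t g
  exact FinitePresentation.of_isBaseChange (compHomLinearMap ψ.toRingHom g)
    (IsLocalizedModule.isBaseChange (Submonoid.powers t) (Localization.Away t) _)

end locMap

section indep
variable {R A : Type u} [CommRing R] [CommRing A] [Algebra R A] {N : Type u} [AddCommGroup N]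
  [Module A N]

open MvPolynomial in
/-- (A1) independence of the polynomial presentation. -/
theorem FPVia.of_mvPolynomial {n m : ℕ} (φ : MvPolynomial (Fin n) R →ₐ[R] A)
    (ψ : MvPolynomial (Fin m) R →ₐ[R] A) (hψ : Surjective ψ) (hφ : Surjective φ)
    (h : FPVia φ.toRingHom N) : FPVia ψ.toRingHom N := by
  choose p hp using fun j : Fin m => hφ (ψ (X j))
  choose q hq using fun i : Fin n => hψ (φ (X i))
  let π : MvPolynomial (Fin n ⊕ Fin m) R →ₐ[R] MvPolynomial (Fin n) R := aeval (Sum.elim X p)
  let π' : MvPolynomial (Fin n ⊕ Fin m) R →ₐ[R] MvPolynomial (Fin m) R := aeval (Sum.elim q X)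
  have hπ : Surjective π := fun r => ⟨rename Sum.inl r, by
    simp only [π, aeval_rename]
    have : (Sum.elim X p ∘ Sum.inl : Fin n → MvPolynomial (Fin n) R) = X := rfl
    rw [this, aeval_X_left, AlgHom.id_apply]⟩
  have hπ' : Surjective π' := fun r => ⟨rename Sum.inr r, by
    simp only [π', aeval_rename]
    have : (Sum.elim q X ∘ Sum.inr : Fin m → MvPolynomial (Fin m) R) = X := rfl
    rw [this, aeval_X_left, AlgHom.id_apply]⟩
  have hk : (RingHom.ker π.toRingHom).FG := Algebra.FinitePresentation.ker_fG_of_surjective π hπ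
  have hk' : (RingHom.ker π'.toRingHom).FG :=
    Algebra.FinitePresentation.ker_fG_of_surjective π' hπ'
  have hcomp : φ.comp π = ψ.comp π' := by
    apply MvPolynomial.algHom_ext
    rintro (i | j)
    · simp [π, π', hq]
    · simp [π, π', hp]
  have hcomp' : φ.toRingHom.comp π.toRingHom = ψ.toRingHom.comp π'.toRingHom := by
    have := congrArg AlgHom.toRingHom hcomp
    exact this
  rw [← FPVia.comp_iff π.toRingHom φ.toRingHom hπ hk, FPVia.congr hcomp',
    FPVia.comp_iff π'.toRingHom ψ.toRingHom hπ' hk'] at h
  exact h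

/-- (A1') independence of the presentation by a finitely presented algebra. -/
theorem FPVia.of_finitePresentation {P P' : Type u} [CommRing P] [CommRing P'] [Algebra R P]
    [Algebra R P'] [Algebra.FinitePresentation R P] [Algebra.FinitePresentation R P']
    (ψ : P →ₐ[R] A) (ψ' : P' →ₐ[R] A) (hψ' : Surjective ψ') (hψ : Surjective ψ)
    (h : FPVia ψ.toRingHom N) : FPVia ψ'.toRingHom N := by
  obtain ⟨n, ρ, hρ, hkρ⟩ := Algebra.FinitePresentation.out (R := R) (A := P)
  obtain ⟨m, ρ', hρ', hkρ'⟩ := Algebra.FinitePresentation.out (R := R) (A := P')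
  have h1 : FPVia (ψ.comp ρ).toRingHom N :=
    (FPVia.comp_iff ρ.toRingHom ψ.toRingHom hρ hkρ).2 h
  have h2 : FPVia (ψ'.comp ρ').toRingHom N :=
    FPVia.of_mvPolynomial (ψ.comp ρ) (ψ'.comp ρ') (hψ'.comp hρ') (hψ.comp hρ) h1
  exact (FPVia.comp_iff ρ'.toRingHom ψ'.toRingHom hρ' hkρ').1 h2

theorem relFP_of_fpVia {P : Type u} [CommRing P] [Algebra R P] [Algebra.FinitePresentation R P]
    (ψ : P →ₐ[R] A) (hψ : Surjective ψ) (h : FPVia ψ.toRingHom N) :
    FlatCA.RelFinitePresentation R A N := by
  obtain ⟨n, ρ, hρ, hkρ⟩ := Algebra.FinitePresentation.out (R := R) (A := P)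
  exact ⟨n, ψ.comp ρ, hψ.comp hρ, (FPVia.comp_iff ρ.toRingHom ψ.toRingHom hρ hkρ).2 h⟩

theorem fpVia_of_relFP (h : FlatCA.RelFinitePresentation R A N) {P : Type u} [CommRing P]
    [Algebra R P] [Algebra.FinitePresentation R P] (ψ : P →ₐ[R] A) (hψ : Surjective ψ) :
    FPVia ψ.toRingHom N := by
  obtain ⟨n, φ, hφ, hfp⟩ := h
  exact FPVia.of_finitePresentation φ ψ hψ hφ hfp

/-- (A2) relative finite presentation passes to localizations of the algebra. -/
theorem relFP_localization_away {A' N' : Type u} [CommRing A'] [Algebra A A'] [Algebra R A']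
    [IsScalarTower R A A'] (a : A) [IsLocalization.Away a A'] [AddCommGroup N'] [Module A N']
    [Module A' N'] [IsScalarTower A A' N'] (g : N →ₗ[A] N')
    [IsLocalizedModule (Submonoid.powers a) g] (h : FlatCA.RelFinitePresentation R A N) :
    FlatCA.RelFinitePresentation R A' N' := by
  obtain ⟨n, φ, hφ, hfp⟩ := h
  obtain ⟨t, rfl⟩ := hφ a
  haveI : Algebra.FinitePresentation (MvPolynomial (Fin n) R) (Localization.Away t) :=
    IsLocalization.Away.finitePresentation t
  haveI : Algebra.FinitePresentation R (Localization.Away t) :=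
    Algebra.FinitePresentation.trans R (MvPolynomial (Fin n) R) _
  exact relFP_of_fpVia (locMap φ t A') (locMap_surjective φ t A' hφ) (fpVia_locMap φ t A' g hfp)

/-- (G) relative finite presentation may be checked on a family of localizations generating the unit ideal. -/
theorem relFP_of_span_eq_top [Algebra.FiniteType R A] (s : Set A) (hs : Ideal.span s = ⊤)
    (h : ∀ a ∈ s, FlatCA.RelFinitePresentation R (Localization.Away a)
      (LocalizedModule (Submonoid.powers a) N)) :
    FlatCA.RelFinitePresentation R A N := by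
  obtain ⟨n, ψ, hψ⟩ := Algebra.FiniteType.iff_quotient_mvPolynomial''.1
    (inferInstance : Algebra.FiniteType R A)
  refine ⟨n, ψ, hψ, ?_⟩
  letI : Module (MvPolynomial (Fin n) R) N := Module.compHom N ψ.toRingHom
  let t : Set (MvPolynomial (Fin n) R) := {g | ψ g ∈ s ∨ ψ g = 0}
  have ht : Ideal.span t = ⊤ := by
    have h1 : RingHom.ker ψ.toRingHom ≤ Ideal.span t := fun g hg =>
      Ideal.subset_span (Or.inr hg)
    have h2 : Ideal.map ψ.toRingHom (Ideal.span t) = ⊤ := by
      rw [eq_top_iff, ← hs, Ideal.span_le]
      intro a ha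
      obtain ⟨g, rfl⟩ := hψ a
      exact Ideal.mem_map_of_mem _ (Ideal.subset_span (Or.inl ha))
    have h3 := Ideal.comap_map_of_surjective ψ.toRingHom hψ (Ideal.span t)
    rw [h2, Ideal.comap_top] at h3
    rw [eq_top_iff, h3]
    exact sup_le le_rfl h1
  letI : ∀ g : t, Module (MvPolynomial (Fin n) R) (LocalizedModule (Submonoid.powers (ψ g.1)) N) :=
    fun g => Module.compHom _ ψ.toRingHom
  letI : ∀ g : t, Module (Localization.Away g.1) (LocalizedModule (Submonoid.powers (ψ g.1)) N) :=
    fun g => Module.compHom _ (locMap ψ g.1 (Localization.Away (ψ g.1))).toRingHom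
  haveI : ∀ g : t, IsScalarTower (MvPolynomial (Fin n) R) (Localization.Away g.1)
      (LocalizedModule (Submonoid.powers (ψ g.1)) N) :=
    fun g => isScalarTower_locMap ψ g.1 (Localization.Away (ψ g.1))
  haveI : ∀ g : t, IsLocalizedModule (Submonoid.powers g.1)
      (compHomLinearMap ψ.toRingHom (LocalizedModule.mkLinearMap (Submonoid.powers (ψ g.1)) N)) :=
    fun g => isLocalizedModule_compHom ψ.toRingHom g.1 _
  refine Module.FinitePresentation.of_localizationSpan' t ht
    (Rₚ := fun g => Localization.Away g.1)
    (Mₚ := fun g => LocalizedModule (Submonoid.powers (ψ g.1)) N)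
    (fun g => compHomLinearMap ψ.toRingHom
      (LocalizedModule.mkLinearMap (Submonoid.powers (ψ g.1)) N)) ?_
  rintro ⟨g, hg | hg⟩
  · haveI : Algebra.FinitePresentation (MvPolynomial (Fin n) R) (Localization.Away g) :=
      IsLocalization.Away.finitePresentation g
    haveI : Algebra.FinitePresentation R (Localization.Away g) :=
      Algebra.FinitePresentation.trans R (MvPolynomial (Fin n) R) _
    exact fpVia_of_relFP (h _ hg) (locMap ψ g (Localization.Away (ψ g)))
      (locMap_surjective ψ g _ hψ)
  · haveI : Subsingleton (LocalizedModule (Submonoid.powers (ψ g)) N) := by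
      rw [LocalizedModule.subsingleton_iff]
      intro m
      exact ⟨ψ g, ⟨1, pow_one _⟩, by rw [hg, zero_smul]⟩
    infer_instance

attribute [local instance] MvPolynomial.algebraMvPolynomial in
/-- (A3) relative finite presentation is insensitive to localizing the base ring. -/
theorem relFP_iff_of_isLocalization_away {R' : Type u} [CommRing R'] [Algebra R R'] [Algebra R' A]
    [IsScalarTower R R' A] (v : R) [IsLocalization.Away v R'] :
    FlatCA.RelFinitePresentation R A N ↔ FlatCA.RelFinitePresentation R' A N := by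
  constructor
  · rintro ⟨n, φ, hφ, hfp⟩
    let P := MvPolynomial (Fin n) R
    let P' := MvPolynomial (Fin n) R'
    let φ' : P' →ₐ[R'] A := MvPolynomial.aeval (fun i => φ (MvPolynomial.X i))
    have hφ' : ∀ p : P, φ' (algebraMap P P' p) = φ p := fun p => by
      change MvPolynomial.aeval _ (MvPolynomial.map (algebraMap R R') p) = φ p
      rw [MvPolynomial.aeval_map_algebraMap]
      exact (DFunLike.congr_fun (MvPolynomial.aeval_unique φ) p).symm
    refine ⟨n, φ', fun a => ?_, ?_⟩
    · obtain ⟨p, rfl⟩ := hφ a
      exact ⟨algebraMap P P' p, hφ' p⟩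
    · letI : Module P N := Module.compHom N φ.toRingHom
      letI : Module P' N := Module.compHom N φ'.toRingHom
      haveI : Module.FinitePresentation P N := hfp
      haveI : IsScalarTower P P' N := ⟨fun p z n' => by
        change φ' (p • z) • n' = φ p • (φ' z • n')
        rw [Algebra.smul_def, map_mul, hφ', mul_smul]⟩
      haveI : IsLocalizedModule ((Submonoid.powers v).map (MvPolynomial.C (σ := Fin n)))
          (LinearMap.id : N →ₗ[P] N) := isLocalizedModule_id _ N P'
      exact FinitePresentation.of_isBaseChange (LinearMap.id : N →ₗ[P] N)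
        (IsLocalizedModule.isBaseChange ((Submonoid.powers v).map (MvPolynomial.C (σ := Fin n))) P' _)
  · rintro ⟨n, φ', hφ', hfp⟩
    haveI : Algebra.FinitePresentation R R' := IsLocalization.Away.finitePresentation v
    haveI : Algebra.FinitePresentation R (MvPolynomial (Fin n) R') :=
      Algebra.FinitePresentation.trans R R' _
    exact relFP_of_fpVia (φ'.restrictScalars R) hφ' hfp

/-- relative finite presentation over a finitely presented `R`-algebra `B` implies it over `R`. -/
theorem relFP_of_tower {B : Type u} [CommRing B] [Algebra R B] [Algebra B A] [IsScalarTower R B A]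
    [Algebra.FinitePresentation R B] (h : FlatCA.RelFinitePresentation B A N) :
    FlatCA.RelFinitePresentation R A N := by
  obtain ⟨n, φ', hφ', hfp⟩ := h
  haveI : Algebra.FinitePresentation R (MvPolynomial (Fin n) B) :=
    Algebra.FinitePresentation.trans R B _
  exact relFP_of_fpVia (φ'.restrictScalars R) hφ' hfp

/-- transport of relative finite presentation along isomorphisms. -/
theorem relFP_of_equiv {A' N' : Type u} [CommRing A'] [Algebra R A'] [AddCommGroup N'] [Module A' N']
    (e : A ≃ₐ[R] A') (eN : N ≃+ N') (he : ∀ a n, eN (a • n) = e a • eN n)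
    (h : FlatCA.RelFinitePresentation R A N) : FlatCA.RelFinitePresentation R A' N' := by
  obtain ⟨n, φ, hφ, hfp⟩ := h
  exact ⟨n, e.toAlgHom.comp φ, e.surjective.comp hφ,
    FPVia.of_equiv φ.toRingHom e.toAlgHom.toRingHom eN he hfp⟩

end indep

end Groth.Agent.Lib.Helper2.RelFPAlg
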