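import Mathlib
import Groth.Prelude.Def_FlatCA
import Groth.Agent.Lib.Helper2RelFPAlg

/-!
# Relative finite presentation (ring level): pushouts and base change

* `fpVia_of_isPushout`, `surjective_of_isPushout` (PO).
* `relFP_baseChange` (BC): `RelFinitePresentation R A N → RelFinitePresentation R' (R' ⊗_R A) (A' ⊗_A N)`.
-/

set_option autoImplicit false
set_option linter.style.haveILetI false
universe u
open Function TensorProduct

namespace Groth.Agent.Lib.Helper2.RelFPAlg

section pushout
variable {P A P' A' : Type u} [CommRing P] [CommRing A] [CommRing P'] [CommRing A']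
  [Algebra P A] [Algebra P P'] [Algebra P' A'] [Algebra A A'] [Algebra P A']
  [IsScalarTower P A A'] [IsScalarTower P P' A']
  {N N' : Type u} [AddCommGroup N] [AddCommGroup N'] [Module A N] [Module A' N']

/-- (PO) finite presentation through a presentation is preserved by pushouts of the presentation. -/
theorem fpVia_of_isPushout [Algebra.IsPushout P P' A A'] [Module A N'] [IsScalarTower A A' N']
    (e : A' ⊗[A] N ≃ₗ[A'] N')
    (h : FPVia (algebraMap P A) N) : FPVia (algebraMap P' A') N' := by
  unfold FPVia at h ⊢
  letI : Module P N := Module.compHom N (algebraMap P A)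
  letI : Module P' N' := Module.compHom N' (algebraMap P' A')
  haveI : Module.FinitePresentation P N := h
  haveI : IsScalarTower P A N := ⟨fun p a n => by
    rw [Algebra.smul_def, mul_smul]; rfl⟩
  haveI : IsScalarTower P' A' N' := ⟨fun p a n => by
    rw [Algebra.smul_def, mul_smul]; rfl⟩
  let e1 : A' ⊗[A] N ≃ₗ[P'] P' ⊗[P] N := Algebra.IsPushout.cancelBaseChange P P' A A' N
  let e2 : A' ⊗[A] N ≃ₗ[P'] N' := e.restrictScalars P'
  exact Module.FinitePresentation.of_equiv (e1.symm ≪≫ₗ e2)

theorem surjective_of_isPushout [Algebra.IsPushout P P' A A']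
    (h : Surjective (algebraMap P A)) : Surjective (algebraMap P' A') := by
  have hb : IsBaseChange P' (IsScalarTower.toAlgHom P A A').toLinearMap :=
    (Algebra.IsPushout.out : IsBaseChange P' (IsScalarTower.toAlgHom P A A').toLinearMap)
  intro z
  induction z using hb.inductionOn with
  | zero => exact ⟨0, map_zero _⟩
  | tmul a =>
    obtain ⟨p, rfl⟩ := h a
    refine ⟨algebraMap P P' p, ?_⟩
    change _ = algebraMap A A' (algebraMap P A p)
    rw [← IsScalarTower.algebraMap_apply, ← IsScalarTower.algebraMap_apply]
  | smul s n hn =>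
    obtain ⟨q, rfl⟩ := hn
    exact ⟨s * q, by rw [map_mul, Algebra.smul_def]⟩
  | add n₁ n₂ h₁ h₂ =>
    obtain ⟨q₁, rfl⟩ := h₁
    obtain ⟨q₂, rfl⟩ := h₂
    exact ⟨q₁ + q₂, map_add _ _ _⟩

end pushout

section baseChange
variable {R R' A A' : Type u} [CommRing R] [CommRing R'] [CommRing A] [CommRing A']
  [Algebra R R'] [Algebra R A] [Algebra R' A'] [Algebra A A'] [Algebra R A']
  [IsScalarTower R A A'] [IsScalarTower R R' A'] [Algebra.IsPushout R R' A A']
  {N N' : Type u} [AddCommGroup N] [AddCommGroup N'] [Module A N] [Module A' N'] [Module A N']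
  [IsScalarTower A A' N']

attribute [local instance] MvPolynomial.algebraMvPolynomial in
/-- (BC) base change of relative finite presentation. -/
theorem relFP_baseChange (e : A' ⊗[A] N ≃ₗ[A'] N') (h : FlatCA.RelFinitePresentation R A N) :
    FlatCA.RelFinitePresentation R' A' N' := by
  obtain ⟨n, φ, hφ, hfp⟩ := h
  let P := MvPolynomial (Fin n) R
  let P' := MvPolynomial (Fin n) R'
  let φ' : P' →ₐ[R'] A' := MvPolynomial.aeval (fun i => algebraMap A A' (φ (MvPolynomial.X i)))
  have hφ' : ∀ p : P, φ' (algebraMap P P' p) = algebraMap A A' (φ p) := fun p => by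
    change MvPolynomial.aeval _ (MvPolynomial.map (algebraMap R R') p) = _
    rw [MvPolynomial.aeval_map_algebraMap]
    exact (DFunLike.congr_fun
      (MvPolynomial.aeval_unique ((IsScalarTower.toAlgHom R A A').comp φ)) p).symm
  letI : Algebra P A := φ.toRingHom.toAlgebra
  letI : Algebra P' A' := φ'.toRingHom.toAlgebra
  letI : Algebra P A' := ((algebraMap A A').comp φ.toRingHom).toAlgebra
  haveI : IsScalarTower P A A' := IsScalarTower.of_algebraMap_eq fun _ => rfl
  haveI : IsScalarTower P P' A' := IsScalarTower.of_algebraMap_eq fun p => (hφ' p).symm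
  haveI : IsScalarTower R P A := IsScalarTower.of_algebraMap_eq fun r => (φ.commutes r).symm
  haveI : IsScalarTower R' P' A' := IsScalarTower.of_algebraMap_eq fun r => (φ'.commutes r).symm
  haveI : IsScalarTower R P' A' := IsScalarTower.of_algebraMap_eq fun r => by
    rw [IsScalarTower.algebraMap_apply R R' A', IsScalarTower.algebraMap_apply R R' P',
      ← IsScalarTower.algebraMap_apply R' P' A']
  haveI : IsScalarTower R P A' := IsScalarTower.of_algebraMap_eq fun r => by
    rw [IsScalarTower.algebraMap_apply R A A', IsScalarTower.algebraMap_apply R P A,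
      ← IsScalarTower.algebraMap_apply P A A']
  haveI h1 : Algebra.IsPushout R A R' A' := Algebra.IsPushout.symm inferInstance
  haveI h2 : Algebra.IsPushout P A P' A' := (Algebra.IsPushout.comp_iff R P R' P' (T := A) (T' := A')).1 h1
  haveI h3 : Algebra.IsPushout P P' A A' := h2.symm
  refine ⟨n, φ', surjective_of_isPushout (P := P) (A := A) hφ, ?_⟩
  exact fpVia_of_isPushout (P := P) (A := A) (P' := P') (A' := A') e hfp

end baseChange

end Groth.Agent.Lib.Helper2.RelFPAlg
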