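import Mathlib
import Groth.Prelude.Def_FlatCA
import Groth.Agent.Lib.Helper2RelFPAlg2

/-!
# Relative finite presentation (ring level): pullback along finitely presented algebras

* `relFP_tensor_of_surjective` (PB2): quotient by a finitely generated ideal.
* `relFP_tensor_of_finitePresentation` (PB): `RelFinitePresentation R B M → RelFinitePresentation R A (A ⊗[B] M)` for `A`
  a finitely presented `B`-algebra.
-/

set_option autoImplicit false
set_option linter.style.haveILetI false
universe u
open Function TensorProduct

namespace Groth.Agent.Lib.Helper2.RelFPAlg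

section quot
variable {R C A : Type u} [CommRing R] [CommRing C] [CommRing A] [Algebra R C] [Algebra R A]
  [Algebra C A] [IsScalarTower R C A] {N' : Type u} [AddCommGroup N'] [Module C N']

/-- (PB2) relative finite presentation passes to `A ⊗[C] N'` for a quotient `A` of `C` by a finitely generated ideal. -/
theorem relFP_tensor_of_surjective (hs : Surjective (algebraMap C A))
    (hk : (RingHom.ker (algebraMap C A)).FG) (h : FlatCA.RelFinitePresentation R C N') :
    FlatCA.RelFinitePresentation R A (A ⊗[C] N') := by
  obtain ⟨n, φ, hφ, hfp⟩ := h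
  let P := MvPolynomial (Fin n) R
  refine ⟨n, (IsScalarTower.toAlgHom R C A).comp φ, hs.comp hφ, ?_⟩
  set J : Ideal C := RingHom.ker (algebraMap C A) with hJ
  letI : Algebra P C := φ.toRingHom.toAlgebra
  letI : Module P N' := Module.compHom N' φ.toRingHom
  haveI : IsScalarTower P C N' := ⟨fun p c n => by
    change (φ p * c) • n = φ p • (c • n)
    rw [mul_smul]⟩
  haveI : Module.FinitePresentation P N' := hfp
  haveI : Module.Finite C N' := Module.Finite.of_restrictScalars_finite P C N'
  letI : Module P (A ⊗[C] N') := Module.compHom _ ((IsScalarTower.toAlgHom R C A).comp φ).toRingHom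
  -- the quotient description
  let e0 : (C ⧸ J) ≃ₐ[C] A := Ideal.quotientKerAlgEquivOfSurjective (f := Algebra.ofId C A) hs
  let e1 : A ⊗[C] N' ≃ₗ[C] (C ⧸ J) ⊗[C] N' :=
    TensorProduct.congr e0.symm.toLinearEquiv (LinearEquiv.refl C N')
  let e2 : (C ⧸ J) ⊗[C] N' ≃ₗ[C] N' ⧸ (J • (⊤ : Submodule C N')) :=
    TensorProduct.quotTensorEquivQuotSMul N' J
  haveI : IsScalarTower P C (A ⊗[C] N') := ⟨fun p c x => by
    change (p • c) • x = algebraMap C A (φ p) • (c • x)
    rw [algebraMap_smul, Algebra.smul_def, mul_smul]
    rfl⟩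
  let e : A ⊗[C] N' ≃ₗ[P] N' ⧸ (J • (⊤ : Submodule C N')) := (e1 ≪≫ₗ e2).restrictScalars P
  have hfg : (J • (⊤ : Submodule C N')).FG := Submodule.FG.smul hk Module.Finite.fg_top
  haveI : Module.Finite C ↥(J • (⊤ : Submodule C N')) := Module.Finite.of_fg hfg
  haveI : Module.Finite P C := Module.Finite.of_surjective (Algebra.linearMap P C) hφ
  haveI : Module.Finite P ↥(J • (⊤ : Submodule C N')) := Module.Finite.trans C _
  haveI : Module.FinitePresentation P (N' ⧸ (J • (⊤ : Submodule C N'))) := by
    refine Module.finitePresentation_of_surjective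
      ((J • (⊤ : Submodule C N')).mkQ.restrictScalars P) (Submodule.mkQ_surjective _) ?_
    rw [LinearMap.ker_restrictScalars, Submodule.ker_mkQ]
    exact (Module.Finite.iff_fg (N := (J • (⊤ : Submodule C N')).restrictScalars P)).1
      (inferInstanceAs (Module.Finite P ↥(J • (⊤ : Submodule C N'))))
  exact Module.FinitePresentation.of_equiv e.symm

end quot

section fpalg
variable {R B A : Type u} [CommRing R] [CommRing B] [CommRing A] [Algebra R B] [Algebra B A]
  [Algebra R A] [IsScalarTower R B A] {M : Type u} [AddCommGroup M] [Module B M]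

attribute [local instance] MvPolynomial.algebraMvPolynomial in
/-- (PB) pulling back a relatively finitely presented module along a finitely presented algebra. -/
theorem relFP_tensor_of_finitePresentation [Algebra.FinitePresentation B A]
    (h : FlatCA.RelFinitePresentation R B M) : FlatCA.RelFinitePresentation R A (A ⊗[B] M) := by
  obtain ⟨m, ρ, hρ, hk⟩ := Algebra.FinitePresentation.out (R := B) (A := A)
  have h1 : FlatCA.RelFinitePresentation (MvPolynomial (Fin m) R) (MvPolynomial (Fin m) B)
      ((MvPolynomial (Fin m) B) ⊗[B] M) :=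
    relFP_baseChange (R := R) (R' := MvPolynomial (Fin m) R) (A := B)
      (A' := MvPolynomial (Fin m) B) (LinearEquiv.refl _ _) h
  have h2 : FlatCA.RelFinitePresentation R (MvPolynomial (Fin m) B)
      ((MvPolynomial (Fin m) B) ⊗[B] M) :=
    relFP_of_tower (R := R) (B := MvPolynomial (Fin m) R) h1
  letI : Algebra (MvPolynomial (Fin m) B) A := ρ.toRingHom.toAlgebra
  haveI : IsScalarTower B (MvPolynomial (Fin m) B) A :=
    IsScalarTower.of_algebraMap_eq fun b => (ρ.commutes b).symm
  haveI : IsScalarTower R (MvPolynomial (Fin m) B) A := IsScalarTower.of_algebraMap_eq fun r => by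
    rw [IsScalarTower.algebraMap_apply R B A, IsScalarTower.algebraMap_apply R B (MvPolynomial (Fin m) B),
      ← IsScalarTower.algebraMap_apply B (MvPolynomial (Fin m) B) A]
  have h3 : FlatCA.RelFinitePresentation R A
      (A ⊗[MvPolynomial (Fin m) B] ((MvPolynomial (Fin m) B) ⊗[B] M)) :=
    relFP_tensor_of_surjective (C := MvPolynomial (Fin m) B) hρ hk h2
  let e : A ⊗[MvPolynomial (Fin m) B] ((MvPolynomial (Fin m) B) ⊗[B] M) ≃ₗ[A] A ⊗[B] M :=
    TensorProduct.AlgebraTensorModule.cancelBaseChange B (MvPolynomial (Fin m) B) A A M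
  exact relFP_of_equiv AlgEquiv.refl e.toAddEquiv (fun a n => e.map_smul a n) h3

end fpalg

end Groth.Agent.Lib.Helper2.RelFPAlg
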