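import Mathlib
import Groth.Prelude.Def_FlatCA
import Groth.Agent.Lib.Helper2RelFPAlg

/-!
# Relative finite presentation (ring level): finite algebras

* `relFP_iff_of_finite` (FIN): for `A` a finite `B`-algebra, an `A`-module is finitely presented relative to `R` iff it is
  so as a `B`-module (uses EGA IV 1.4.7.1, `Module.Finite.exists_free_surjective`).
-/

set_option autoImplicit false
set_option linter.style.haveILetI false
universe u
open Function TensorProduct

namespace Groth.Agent.Lib.Helper2.RelFPAlg

open Groth.Agent.Lib.Helper2.FinPushFP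

section fin
variable {R B A : Type u} [CommRing R] [CommRing B] [CommRing A] [Algebra R B] [Algebra B A]
  [Algebra R A] [IsScalarTower R B A] {N : Type u} [AddCommGroup N] [Module A N] [Module B N]
  [IsScalarTower B A N]

/-- (FIN) relative finite presentation of an `A`-module may be tested over `B` when `A` is a finite `B`-algebra. -/
theorem relFP_iff_of_finite [Module.Finite B A] [Algebra.FiniteType R B] :
    FlatCA.RelFinitePresentation R A N ↔ FlatCA.RelFinitePresentation R B N := by
  obtain ⟨n, ψ, hψ⟩ := Algebra.FiniteType.iff_quotient_mvPolynomial''.1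
    (inferInstance : Algebra.FiniteType R B)
  let P' := MvPolynomial (Fin n) R
  letI : Algebra P' B := ψ.toRingHom.toAlgebra
  haveI : IsScalarTower R P' B := IsScalarTower.of_algebraMap_eq fun r => (ψ.commutes r).symm
  letI : Algebra P' A := ((algebraMap B A).comp ψ.toRingHom).toAlgebra
  haveI : IsScalarTower P' B A := IsScalarTower.of_algebraMap_eq fun _ => rfl
  haveI : IsScalarTower R P' A := IsScalarTower.of_algebraMap_eq fun r => by
    rw [IsScalarTower.algebraMap_apply R B A, IsScalarTower.algebraMap_apply R P' B,
      ← IsScalarTower.algebraMap_apply P' B A]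
  haveI : Module.Finite P' B := Module.Finite.of_surjective (Algebra.linearMap P' B) hψ
  haveI : Module.Finite P' A := Module.Finite.trans B A
  obtain ⟨Q, _, _, _, _, _, f, hf⟩ := Module.Finite.exists_free_surjective P' A
  letI : Algebra R Q := ((algebraMap P' Q).comp (algebraMap R P')).toAlgebra
  haveI : IsScalarTower R P' Q := IsScalarTower.of_algebraMap_eq fun _ => rfl
  haveI : Algebra.FinitePresentation R Q := Algebra.FinitePresentation.trans R P' Q
  let fR : Q →ₐ[R] A := f.restrictScalars R
  have hfR : Surjective fR := hf
  letI : Module P' N := Module.compHom N ψ.toRingHom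
  letI : Module Q N := Module.compHom N fR.toRingHom
  haveI : IsScalarTower P' Q N := ⟨fun p q x => by
    change f (p • q) • x = ψ p • (f q • x)
    rw [map_smul, Algebra.smul_def, mul_smul, ← algebraMap_smul A (ψ p) (f q • x)]
    rfl⟩
  haveI : Module.FinitePresentation P' Q := Module.finitePresentation_of_projective P' Q
  have h1 : FlatCA.RelFinitePresentation R A N ↔ Module.FinitePresentation Q N :=
    ⟨fun h => fpVia_of_relFP h fR hfR, fun h => relFP_of_fpVia fR hfR h⟩
  have h2 : Module.FinitePresentation Q N ↔ Module.FinitePresentation P' N :=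
    finitePresentation_iff_of_finite (A := P') (B := Q) (N := N)
  have h3 : Module.FinitePresentation P' N ↔ FlatCA.RelFinitePresentation R B N :=
    ⟨fun h => ⟨n, ψ, hψ, h⟩, fun h => fpVia_of_relFP h ψ hψ⟩
  exact h1.trans (h2.trans h3)

end fin

end Groth.Agent.Lib.Helper2.RelFPAlg
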