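import Mathlib
import Groth.Prelude.Def_Flatn
import Groth.Agent.Lib.Helper2RelFPAlg
import Groth.Agent.Lib.Helper2FPAff

/-!
# Relative finite presentation of modules on schemes (`Flatn.IsRelFP`): independence of the covers

* `relFPOn_basicOpen`, `relFPOn_base_basicOpen_iff`, `relFPOn_of_span_eq_top`, `relFPOn_congr`.
* `exists_basicOpen_relFPOn`.
* `relFPOn_of_isRelFP`, `isRelFP_of_forall`, `isRelFP_iff_forall`: `IsRelFP f F` iff relative finite presentation
  holds on every pair of affine opens `U ⊆ f⁻¹ V`.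
-/

set_option autoImplicit false
set_option linter.style.haveILetI false
universe u
open CategoryTheory CategoryTheory.Limits AlgebraicGeometry TopologicalSpace Opposite

namespace Groth.Agent.Lib.Helper2.RelFPGeo

open Groth.Agent.Lib.Helper2.RelFPAlg Groth.Agent.Lib.Helper2.FPAff

variable {X S : Scheme.{u}}

/-- (1) relative finite presentation on an affine pair passes to basic opens of the source. -/
theorem relFPOn_basicOpen (f : X ⟶ S) (F : X.Modules) [F.IsQuasicoherent] (U : X.affineOpens)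
    (V : S.affineOpens) (h : (U : X.Opens) ≤ f ⁻¹ᵁ (V : S.Opens)) (a : Γ(X, (U : X.Opens)))
    (hF : Flatn.RelFPOn f F U V h) :
    Flatn.RelFPOn f F ⟨X.basicOpen a, U.2.basicOpen a⟩ V ((X.basicOpen_le a).trans h) := by
  unfold Flatn.RelFPOn at hF ⊢
  letI : Algebra Γ(S, (V : S.Opens)) Γ(X, (U : X.Opens)) := (f.appLE V U h).hom.toAlgebra
  letI : Algebra Γ(S, (V : S.Opens)) Γ(X, X.basicOpen a) :=
    (f.appLE V (X.basicOpen a) ((X.basicOpen_le a).trans h)).hom.toAlgebra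
  haveI : IsScalarTower Γ(S, (V : S.Opens)) Γ(X, (U : X.Opens)) Γ(X, X.basicOpen a) := by
    refine IsScalarTower.of_algebraMap_eq fun r => ?_
    change (f.appLE V (X.basicOpen a) _).hom r =
      (X.presheaf.map (homOfLE (X.basicOpen_le a)).op).hom ((f.appLE V U h).hom r)
    rw [← f.appLE_map h (homOfLE (X.basicOpen_le a)).op]
    rfl
  haveI : IsLocalization.Away a Γ(X, X.basicOpen a) := U.2.isLocalization_basicOpen a
  letI := moduleRes F (X.basicOpen_le a)
  haveI := isScalarTower_basicOpen F a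
  haveI := isLocalizedModule_basicOpen F U.2 a
  exact relFP_localization_away (R := Γ(S, (V : S.Opens))) (A := Γ(X, (U : X.Opens)))
    (A' := Γ(X, X.basicOpen a)) (N' := Γ(F, X.basicOpen a)) a (resₗ F (X.basicOpen_le a)) hF

/-- (2) relative finite presentation over an affine open of the base or over a basic open of it. -/
theorem relFPOn_base_basicOpen_iff (f : X ⟶ S) (F : X.Modules) (W : X.affineOpens)
    (V : S.affineOpens) (v : Γ(S, (V : S.Opens))) (hW : (W : X.Opens) ≤ f ⁻¹ᵁ (S.basicOpen v))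
    (hWV : (W : X.Opens) ≤ f ⁻¹ᵁ (V : S.Opens)) :
    Flatn.RelFPOn f F W ⟨S.basicOpen v, V.2.basicOpen v⟩ hW ↔ Flatn.RelFPOn f F W V hWV := by
  unfold Flatn.RelFPOn
  letI : Algebra Γ(S, (V : S.Opens)) Γ(X, (W : X.Opens)) := (f.appLE V W hWV).hom.toAlgebra
  letI : Algebra Γ(S, S.basicOpen v) Γ(X, (W : X.Opens)) :=
    (f.appLE (S.basicOpen v) W hW).hom.toAlgebra
  haveI : IsScalarTower Γ(S, (V : S.Opens)) Γ(S, S.basicOpen v) Γ(X, (W : X.Opens)) := by
    refine IsScalarTower.of_algebraMap_eq fun r => ?_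
    change (f.appLE V W hWV).hom r =
      (f.appLE (S.basicOpen v) W hW).hom ((S.presheaf.map (homOfLE (S.basicOpen_le v)).op).hom r)
    rw [← f.map_appLE hW (homOfLE (S.basicOpen_le v)).op]
    rfl
  haveI : IsLocalization.Away v Γ(S, S.basicOpen v) := V.2.isLocalization_basicOpen v
  exact (relFP_iff_of_isLocalization_away (R := Γ(S, (V : S.Opens))) (R' := Γ(S, S.basicOpen v))
    (A := Γ(X, (W : X.Opens))) (N := F.val.obj (op (W : X.Opens))) v).symm

/-- (3) relative finite presentation on an affine pair may be checked on basic opens of the source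
generating the unit ideal. -/
theorem relFPOn_of_span_eq_top (f : X ⟶ S) [LocallyOfFiniteType f] (F : X.Modules)
    [F.IsQuasicoherent] (U : X.affineOpens) (V : S.affineOpens)
    (h : (U : X.Opens) ≤ f ⁻¹ᵁ (V : S.Opens)) (s : Set Γ(X, (U : X.Opens)))
    (hs : Ideal.span s = ⊤)
    (H : ∀ a ∈ s, Flatn.RelFPOn f F ⟨X.basicOpen a, U.2.basicOpen a⟩ V
      ((X.basicOpen_le a).trans h)) :
    Flatn.RelFPOn f F U V h := by
  unfold Flatn.RelFPOn
  letI : Algebra Γ(S, (V : S.Opens)) Γ(X, (U : X.Opens)) := (f.appLE V U h).hom.toAlgebra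
  haveI : Algebra.FiniteType Γ(S, (V : S.Opens)) Γ(X, (U : X.Opens)) :=
    f.finiteType_appLE V.2 U.2 h
  refine relFP_of_span_eq_top (R := Γ(S, (V : S.Opens))) (A := Γ(X, (U : X.Opens)))
    (N := F.val.obj (op (U : X.Opens))) s hs fun a ha => ?_
  have Ha := H a ha
  unfold Flatn.RelFPOn at Ha
  letI : Algebra Γ(S, (V : S.Opens)) Γ(X, X.basicOpen a) :=
    (f.appLE V (X.basicOpen a) ((X.basicOpen_le a).trans h)).hom.toAlgebra
  haveI : IsScalarTower Γ(S, (V : S.Opens)) Γ(X, (U : X.Opens)) Γ(X, X.basicOpen a) := by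
    refine IsScalarTower.of_algebraMap_eq fun r => ?_
    change (f.appLE V (X.basicOpen a) _).hom r =
      (X.presheaf.map (homOfLE (X.basicOpen_le a)).op).hom ((f.appLE V U h).hom r)
    rw [← f.appLE_map h (homOfLE (X.basicOpen_le a)).op]
    rfl
  haveI : IsLocalization.Away a Γ(X, X.basicOpen a) := U.2.isLocalization_basicOpen a
  letI := moduleRes F (X.basicOpen_le a)
  haveI := isScalarTower_basicOpen F a
  haveI := isLocalizedModule_basicOpen F U.2 a
  let e₀ : Γ(X, X.basicOpen a) ≃ₐ[Γ(X, (U : X.Opens))] Localization.Away a :=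
    IsLocalization.algEquiv (Submonoid.powers a) Γ(X, X.basicOpen a) (Localization.Away a)
  let e : Γ(X, X.basicOpen a) ≃ₐ[Γ(S, (V : S.Opens))] Localization.Away a :=
    e₀.restrictScalars Γ(S, (V : S.Opens))
  let eN : Γ(F, X.basicOpen a) ≃ₗ[Γ(X, (U : X.Opens))]
      LocalizedModule (Submonoid.powers a) (F.val.obj (op (U : X.Opens))) :=
    (IsLocalizedModule.iso (Submonoid.powers a) (resₗ F (X.basicOpen_le a))).symm
  refine relFP_of_equiv (N := Γ(F, X.basicOpen a)) e eN.toAddEquiv (fun b n => ?_) Ha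
  letI : Module Γ(X, X.basicOpen a)
      (LocalizedModule (Submonoid.powers a) (F.val.obj (op (U : X.Opens)))) :=
    Module.compHom _ e₀.toAlgHom.toRingHom
  haveI : IsScalarTower Γ(X, (U : X.Opens)) Γ(X, X.basicOpen a)
      (LocalizedModule (Submonoid.powers a) (F.val.obj (op (U : X.Opens)))) :=
    ⟨fun c b m => by
      change e₀ (c • b) • m = c • (e₀ b • m)
      rw [map_smul, smul_assoc]⟩
  exact (IsLocalization.linearMap_compatibleSMul (Submonoid.powers a) Γ(X, X.basicOpen a)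
    Γ(F, X.basicOpen a)
    (LocalizedModule (Submonoid.powers a) (F.val.obj (op (U : X.Opens))))).map_smul
      eN.toLinearMap b n

theorem relFPOn_congr (f : X ⟶ S) (F : X.Modules) {W W' : X.affineOpens} {D D' : S.affineOpens}
    (hW : W = W') (hD : D = D') (h : (W : X.Opens) ≤ f ⁻¹ᵁ (D : S.Opens))
    (h' : (W' : X.Opens) ≤ f ⁻¹ᵁ (D' : S.Opens)) :
    Flatn.RelFPOn f F W D h ↔ Flatn.RelFPOn f F W' D' h' := by
  subst hW hD; rfl

/-- pointwise: near every point of `U` there is a basic open of `U` on which `F` is relatively f.p. over `V`. -/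
theorem exists_basicOpen_relFPOn (f : X ⟶ S) (F : X.Modules) [F.IsQuasicoherent]
    (hF : Flatn.IsRelFP f F) (U : X.affineOpens) (V : S.affineOpens)
    (h : (U : X.Opens) ≤ f ⁻¹ᵁ (V : S.Opens)) (x : X) (hx : x ∈ (U : X.Opens)) :
    ∃ a : Γ(X, (U : X.Opens)), x ∈ X.basicOpen a ∧
      Flatn.RelFPOn f F ⟨X.basicOpen a, U.2.basicOpen a⟩ V ((X.basicOpen_le a).trans h) := by
  obtain ⟨𝒱, h𝒱, H⟩ := hF
  have hfx : f x ∈ (⨆ V' ∈ 𝒱, (V' : S.Opens)) := h𝒱 ▸ (trivial : f x ∈ (⊤ : S.Opens))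
  obtain ⟨V', hV'mem, hxV'⟩ : ∃ V' ∈ 𝒱, f x ∈ (V' : S.Opens) := by
    simpa [Opens.mem_iSup] using hfx
  obtain ⟨𝒰, h𝒰, HU⟩ := H V' hV'mem
  have hx' : x ∈ (⨆ U' ∈ 𝒰, (U' : X.Opens)) := h𝒰 ▸ (show x ∈ f ⁻¹ᵁ (V' : S.Opens) from hxV')
  obtain ⟨U', hU'mem, hxU'⟩ : ∃ U' ∈ 𝒰, x ∈ (U' : X.Opens) := by
    simpa [Opens.mem_iSup] using hx'
  have hU'le : (U' : X.Opens) ≤ f ⁻¹ᵁ (V' : S.Opens) :=
    h𝒰 ▸ le_iSup₂ (f := fun (U' : X.affineOpens) (_ : U' ∈ 𝒰) => (U' : X.Opens)) U' hU'mem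
  have h1 := HU U' hU'mem hU'le
  obtain ⟨u, u', huu', hxu⟩ := exists_basicOpen_le_affine_inter U.2 U'.2 x ⟨hx, hxU'⟩
  obtain ⟨v, v', hvv', hxv⟩ := exists_basicOpen_le_affine_inter V.2 V'.2 (f x) ⟨h hx, hxV'⟩
  let a : Γ(X, (U : X.Opens)) := u * (f.appLE V U h).hom v
  let a' : Γ(X, (U' : X.Opens)) := u' * (f.appLE V' U' hU'le).hom v'
  have ha : X.basicOpen a = X.basicOpen u ⊓ f ⁻¹ᵁ (S.basicOpen v) := by
    change X.basicOpen (u * (f.appLE V U h).hom v) = _
    rw [Scheme.basicOpen_mul, Scheme.basicOpen_appLE, ← inf_assoc,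
      inf_eq_left.2 (X.basicOpen_le u)]
  have ha' : X.basicOpen a' = X.basicOpen u ⊓ f ⁻¹ᵁ (S.basicOpen v) := by
    change X.basicOpen (u' * (f.appLE V' U' hU'le).hom v') = _
    rw [Scheme.basicOpen_mul, Scheme.basicOpen_appLE, ← inf_assoc,
      inf_eq_left.2 (X.basicOpen_le u'), huu', hvv']
  have hxa : x ∈ X.basicOpen a := by
    rw [ha]; exact ⟨hxu, hxv⟩
  have hW : X.basicOpen a ≤ f ⁻¹ᵁ (S.basicOpen v) := by
    rw [ha]; exact inf_le_right
  have hW' : X.basicOpen a' ≤ f ⁻¹ᵁ (S.basicOpen v') := by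
    rw [ha', hvv']; exact inf_le_right
  have h2 := relFPOn_basicOpen f F U' V' hU'le a' h1
  have h3 := (relFPOn_base_basicOpen_iff f F ⟨X.basicOpen a', U'.2.basicOpen a'⟩ V' v' hW'
    ((X.basicOpen_le a').trans hU'le)).2 h2
  have h4 := (relFPOn_congr f F (W := ⟨X.basicOpen a', U'.2.basicOpen a'⟩)
    (W' := ⟨X.basicOpen a, U.2.basicOpen a⟩) (D := ⟨S.basicOpen v', V'.2.basicOpen v'⟩)
    (D' := ⟨S.basicOpen v, V.2.basicOpen v⟩) (Subtype.ext (ha'.trans ha.symm))
    (Subtype.ext hvv'.symm) hW' hW).1 h3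
  exact ⟨a, hxa, (relFPOn_base_basicOpen_iff f F ⟨X.basicOpen a, U.2.basicOpen a⟩ V v hW
    ((X.basicOpen_le a).trans h)).1 h4⟩

/-- relative finite presentation holds on every affine pair. -/
theorem relFPOn_of_isRelFP (f : X ⟶ S) [LocallyOfFiniteType f] (F : X.Modules)
    [F.IsQuasicoherent] (hF : Flatn.IsRelFP f F) (U : X.affineOpens) (V : S.affineOpens)
    (h : (U : X.Opens) ≤ f ⁻¹ᵁ (V : S.Opens)) : Flatn.RelFPOn f F U V h := by
  let s : Set Γ(X, (U : X.Opens)) :=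
    {a | Flatn.RelFPOn f F ⟨X.basicOpen a, U.2.basicOpen a⟩ V ((X.basicOpen_le a).trans h)}
  refine relFPOn_of_span_eq_top f F U V h s ?_ fun a ha => ha
  by_contra hne
  obtain ⟨P, hP, hle⟩ := Ideal.exists_le_maximal _ hne
  let x : X := U.2.fromSpec ⟨P, hP.isPrime⟩
  have hxU : x ∈ (U : X.Opens) := Groth.Agent.Lib.Helper2.QCoh.fromSpec_mem U.2 _
  obtain ⟨a, hxa, ha⟩ := exists_basicOpen_relFPOn f F hF U V h x hxU
  have haP : a ∈ P := hle (Ideal.subset_span ha)
  have hnot : a ∉ (U.2.primeIdealOf ⟨x, hxU⟩).asIdeal :=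
    (Groth.Agent.Lib.Helper2.mem_basicOpen_iff_notMem_primeIdealOf U.2 x hxU a).1 hxa
  rw [Groth.Agent.Lib.Helper2.QCoh.primeIdealOf_fromSpec U.2] at hnot
  exact hnot haP

/-- the tautological covers: relative finite presentation on all affine pairs implies `IsRelFP`. -/
theorem isRelFP_of_forall (f : X ⟶ S) (F : X.Modules)
    (H : ∀ (U : X.affineOpens) (V : S.affineOpens) (h : (U : X.Opens) ≤ f ⁻¹ᵁ (V : S.Opens)),
      Flatn.RelFPOn f F U V h) : Flatn.IsRelFP f F := by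
  refine ⟨Set.univ, ?_, fun V _ => ⟨{U | (U : X.Opens) ≤ f ⁻¹ᵁ (V : S.Opens)}, ?_,
    fun U _ h => H U V h⟩⟩
  · rw [eq_top_iff]
    intro x _
    obtain ⟨V, hV, hxV, -⟩ := exists_isAffineOpen_mem_and_subset (x := x) (U := ⊤) trivial
    simp only [Opens.mem_iSup]
    exact ⟨⟨V, hV⟩, Set.mem_univ _, hxV⟩
  · apply le_antisymm
    · exact iSup₂_le fun U hU => hU
    · intro x hx
      obtain ⟨U, hU, hxU, hle⟩ := exists_isAffineOpen_mem_and_subset (x := x)
        (U := f ⁻¹ᵁ (V : S.Opens)) hx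
      simp only [Opens.mem_iSup]
      exact ⟨⟨U, hU⟩, hle, hxU⟩

theorem isRelFP_iff_forall (f : X ⟶ S) [LocallyOfFiniteType f] (F : X.Modules)
    [F.IsQuasicoherent] :
    Flatn.IsRelFP f F ↔
      ∀ (U : X.affineOpens) (V : S.affineOpens) (h : (U : X.Opens) ≤ f ⁻¹ᵁ (V : S.Opens)),
        Flatn.RelFPOn f F U V h :=
  ⟨fun hF U V h => relFPOn_of_isRelFP f F hF U V h, isRelFP_of_forall f F⟩

end Groth.Agent.Lib.Helper2.RelFPGeo
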