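import Mathlib
import Groth.Prelude.Def_Flatn
import Groth.Agent.Lib.Helper2RelFPGeo
import Groth.Agent.Lib.Helper2ModExact
import Groth.Agent.Lib.Helper23FinTypeLocal

/-!
# Relative finite presentation (`Flatn.IsRelFP`): extensions and composition

* `isRelFP_of_shortExact_of_extremes`.
* `isRelFP_comp_of_lfp`.
-/

set_option autoImplicit false
set_option linter.style.haveILetI false
universe u
open CategoryTheory CategoryTheory.Limits AlgebraicGeometry TopologicalSpace Opposite

namespace Groth.Agent.Lib.Helper2.RelFPGeo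

open Groth.Agent.Lib.Helper2.RelFPAlg Groth.Agent.Lib.Helper2.FPAff
  Groth.Agent.Lib.Helper23.FinType

variable {X S : Scheme.{u}}

/-- an extension of relatively finitely presented quasi-coherent modules is relatively finitely presented. -/
theorem isRelFP_of_shortExact_of_extremes (f : X ⟶ S) [LocallyOfFiniteType f]
    (E : ShortComplex X.Modules) (hE : E.ShortExact) [E.X₁.IsQuasicoherent] [E.X₂.IsQuasicoherent]
    [E.X₃.IsQuasicoherent] (h₁ : Flatn.IsRelFP f E.X₁) (h₃ : Flatn.IsRelFP f E.X₃) :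
    Flatn.IsRelFP f E.X₂ := by
  refine isRelFP_of_forall f E.X₂ fun U V h => ?_
  have H1 := relFPOn_of_isRelFP f E.X₁ h₁ U V h
  have H3 := relFPOn_of_isRelFP f E.X₃ h₃ U V h
  unfold Flatn.RelFPOn at H1 H3 ⊢
  letI : Algebra Γ(S, (V : S.Opens)) Γ(X, (U : X.Opens)) := (f.appLE V U h).hom.toAlgebra
  haveI : Algebra.FiniteType Γ(S, (V : S.Opens)) Γ(X, (U : X.Opens)) :=
    f.finiteType_appLE V.2 U.2 h
  obtain ⟨n, ψ, hψ⟩ := Algebra.FiniteType.iff_quotient_mvPolynomial''.1
    (inferInstance : Algebra.FiniteType Γ(S, (V : S.Opens)) Γ(X, (U : X.Opens)))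
  have F1 := fpVia_of_relFP H1 ψ hψ
  have F3 := fpVia_of_relFP H3 ψ hψ
  refine ⟨n, ψ, hψ, ?_⟩
  unfold FPVia at F1 F3
  letI : Module (MvPolynomial (Fin n) Γ(S, (V : S.Opens))) (E.X₁.val.obj (op (U : X.Opens))) :=
    Module.compHom _ ψ.toRingHom
  letI : Module (MvPolynomial (Fin n) Γ(S, (V : S.Opens))) (E.X₂.val.obj (op (U : X.Opens))) :=
    Module.compHom _ ψ.toRingHom
  letI : Module (MvPolynomial (Fin n) Γ(S, (V : S.Opens))) (E.X₃.val.obj (op (U : X.Opens))) :=
    Module.compHom _ ψ.toRingHom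
  haveI : Module.FinitePresentation (MvPolynomial (Fin n) Γ(S, (V : S.Opens)))
    (E.X₁.val.obj (op (U : X.Opens))) := F1
  haveI : Module.FinitePresentation (MvPolynomial (Fin n) Γ(S, (V : S.Opens)))
    (E.X₃.val.obj (op (U : X.Opens))) := F3
  let fU : (E.X₁.val.obj (op (U : X.Opens))) →ₗ[MvPolynomial (Fin n) Γ(S, (V : S.Opens))]
      (E.X₂.val.obj (op (U : X.Opens))) :=
    { toFun := fun m => E.f.app U m
      map_add' := fun a b => map_add _ a b
      map_smul' := fun p m => Scheme.Modules.Hom.app_smul E.f (ψ p) m }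
  let gU : (E.X₂.val.obj (op (U : X.Opens))) →ₗ[MvPolynomial (Fin n) Γ(S, (V : S.Opens))]
      (E.X₃.val.obj (op (U : X.Opens))) :=
    { toFun := fun m => E.g.app U m
      map_add' := fun a b => map_add _ a b
      map_smul' := fun p m => Scheme.Modules.Hom.app_smul E.g (ψ p) m }
  haveI := hE.epi_g
  haveI := hE.mono_f
  have hsurj : Function.Surjective gU := surjective_app_of_epi E.g U.2
  have hinj : Function.Injective fU :=
    Groth.Agent.Lib.Helper2.ModExact.app_injective_of_mono E.f U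
  have hker : LinearMap.ker gU = LinearMap.range fU := by
    ext t
    simp only [LinearMap.mem_ker, LinearMap.mem_range]
    constructor
    · intro ht
      obtain ⟨t₁, ht₁⟩ := Groth.Agent.Lib.Helper2.ModExact.exists_app_eq_of_shortExact E hE U t ht
      exact ⟨t₁, ht₁⟩
    · rintro ⟨t₁, rfl⟩
      change E.g.app U (E.f.app U t₁) = 0
      have h1 : Scheme.Modules.Hom.app (E.f ≫ E.g) U t₁ = 0 := by
        rw [E.zero]; rfl
      exact h1
  haveI : Module.FinitePresentation (MvPolynomial (Fin n) Γ(S, (V : S.Opens)))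
      (LinearMap.ker gU) := by
    rw [hker]
    exact Module.FinitePresentation.of_equiv (LinearEquiv.ofInjective fU hinj)
  exact Module.finitePresentation_of_ker gU hsurj

/-- relative finite presentation over `Y` implies relative finite presentation over `S` when `Y → S` is
locally of finite presentation. -/
theorem isRelFP_comp_of_lfp {Y : Scheme.{u}} (f : X ⟶ Y) (g : Y ⟶ S) [LocallyOfFiniteType f]
    [LocallyOfFinitePresentation g] (F : X.Modules) [F.IsQuasicoherent]
    (hF : Flatn.IsRelFP f F) : Flatn.IsRelFP (f ≫ g) F := by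
  refine ⟨Set.univ, ?_, fun V _ => ⟨{U | ∃ W : Y.affineOpens, (W : Y.Opens) ≤ g ⁻¹ᵁ (V : S.Opens) ∧
    (U : X.Opens) ≤ f ⁻¹ᵁ (W : Y.Opens)}, ?_, ?_⟩⟩
  · rw [eq_top_iff]
    intro x _
    obtain ⟨V, hV, hxV, -⟩ := exists_isAffineOpen_mem_and_subset (x := x) (U := ⊤) trivial
    simp only [Opens.mem_iSup]
    exact ⟨⟨V, hV⟩, Set.mem_univ _, hxV⟩
  · apply le_antisymm
    · refine iSup₂_le fun U hU => ?_
      obtain ⟨W, hW, hUW⟩ := hU
      intro x hx
      exact hW (hUW hx)
    · intro x hx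
      obtain ⟨W, hW, hxW, hWle⟩ := exists_isAffineOpen_mem_and_subset (x := f x)
        (U := g ⁻¹ᵁ (V : S.Opens)) hx
      obtain ⟨U, hU, hxU, hUle⟩ := exists_isAffineOpen_mem_and_subset (x := x)
        (U := f ⁻¹ᵁ W) hxW
      simp only [Opens.mem_iSup]
      exact ⟨⟨U, hU⟩, ⟨⟨W, hW⟩, hWle, hUle⟩, hxU⟩
  · rintro U ⟨W, hW, hUW⟩ h
    have H := relFPOn_of_isRelFP f F hF U W hUW
    unfold Flatn.RelFPOn at H ⊢
    letI : Algebra Γ(S, (V : S.Opens)) Γ(Y, (W : Y.Opens)) := (g.appLE V W hW).hom.toAlgebra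
    letI : Algebra Γ(Y, (W : Y.Opens)) Γ(X, (U : X.Opens)) := (f.appLE W U hUW).hom.toAlgebra
    letI : Algebra Γ(S, (V : S.Opens)) Γ(X, (U : X.Opens)) := ((f ≫ g).appLE V U h).hom.toAlgebra
    haveI : IsScalarTower Γ(S, (V : S.Opens)) Γ(Y, (W : Y.Opens)) Γ(X, (U : X.Opens)) := by
      refine IsScalarTower.of_algebraMap_eq fun r => ?_
      change ((f ≫ g).appLE V U h).hom r = (f.appLE W U hUW).hom ((g.appLE V W hW).hom r)
      rw [← Scheme.Hom.appLE_comp_appLE f g V W U hW hUW]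
      rfl
    haveI : Algebra.FinitePresentation Γ(S, (V : S.Opens)) Γ(Y, (W : Y.Opens)) :=
      g.finitePresentation_appLE V.2 W.2 hW
    exact relFP_of_tower (R := Γ(S, (V : S.Opens))) (B := Γ(Y, (W : Y.Opens))) H

end Groth.Agent.Lib.Helper2.RelFPGeo
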