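import Mathlib
import Groth.Prelude.Def_Flatn
import Groth.Agent.Lib.Helper2RelFPGeo
import Groth.Agent.Lib.Helper2RelFPAlg2
import Groth.Agent.Lib.Helper2PullbackSec3

/-!
# Relative finite presentation (`Flatn.IsRelFP`): base change

* `relFPOn_pullback_of_isPullback`, `isRelFP_pullback_of_isPullback`.
-/

set_option autoImplicit false
set_option linter.style.haveILetI false
universe u
open CategoryTheory CategoryTheory.Limits AlgebraicGeometry TopologicalSpace Opposite TensorProduct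

namespace Groth.Agent.Lib.Helper2.RelFPGeo

open Groth.Agent.Lib.Helper2.RelFPAlg Groth.Agent.Lib.Helper2.FPAff
  Groth.Agent.Lib.Helper2.PullbackSec

variable {X S X' S' : Scheme.{u}}

/-- base change of relative finite presentation on a pair of affine opens. -/
theorem relFPOn_pullback_of_isPullback {f : X ⟶ S} {f' : X' ⟶ S'} {g' : X' ⟶ X} {g : S' ⟶ S}
    (hc : IsPullback g' f' f g) (F : X.Modules) [F.IsQuasicoherent]
    (U : X.affineOpens) (V : S.affineOpens) (V' : S'.affineOpens)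
    (eU : (U : X.Opens) ≤ f ⁻¹ᵁ (V : S.Opens)) (eV' : (V' : S'.Opens) ≤ g ⁻¹ᵁ (V : S.Opens))
    (H : Flatn.RelFPOn f F U V eU) :
    Flatn.RelFPOn f' ((Scheme.Modules.pullback g').obj F)
      ⟨g' ⁻¹ᵁ (U : X.Opens) ⊓ f' ⁻¹ᵁ (V' : S'.Opens),
        isAffineOpen_inf_preimage hc eV' eU V.2 V'.2 U.2⟩ V' inf_le_right := by
  unfold Flatn.RelFPOn at H ⊢
  set U' : X'.Opens := g' ⁻¹ᵁ (U : X.Opens) ⊓ f' ⁻¹ᵁ (V' : S'.Opens) with hU'def
  have hU' : IsAffineOpen U' := isAffineOpen_inf_preimage hc eV' eU V.2 V'.2 U.2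
  have e1 : U' ≤ g' ⁻¹ᵁ (U : X.Opens) := inf_le_left
  have e2 : U' ≤ f' ⁻¹ᵁ (V' : S'.Opens) := inf_le_right
  letI aAB : Algebra Γ(S, (V : S.Opens)) Γ(X, (U : X.Opens)) := (f.appLE V U eU).hom.toAlgebra
  letI aAA' : Algebra Γ(S, (V : S.Opens)) Γ(S', (V' : S'.Opens)) :=
    (g.appLE V V' eV').hom.toAlgebra
  letI aBB' : Algebra Γ(X, (U : X.Opens)) Γ(X', U') := (g'.appLE U U' e1).hom.toAlgebra
  letI aA'B' : Algebra Γ(S', (V' : S'.Opens)) Γ(X', U') := (f'.appLE V' U' e2).hom.toAlgebra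
  letI aAB' : Algebra Γ(S, (V : S.Opens)) Γ(X', U') :=
    ((g'.appLE U U' e1).hom.comp (f.appLE V U eU).hom).toAlgebra
  haveI tABB' : IsScalarTower Γ(S, (V : S.Opens)) Γ(X, (U : X.Opens)) Γ(X', U') :=
    IsScalarTower.of_algebraMap_eq (fun a => rfl)
  haveI tAA'B' : IsScalarTower Γ(S, (V : S.Opens)) Γ(S', (V' : S'.Opens)) Γ(X', U') := by
    refine IsScalarTower.of_algebraMap_eq (fun a => ?_)
    change (g'.appLE U U' e1).hom ((f.appLE V U eU).hom a) =
      (f'.appLE V' U' e2).hom ((g.appLE V V' eV').hom a)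
    have h1 := Scheme.Hom.appLE_comp_appLE g' f V U U' eU e1
    have h2 := Scheme.Hom.appLE_comp_appLE f' g V V' U' eV' e2
    have h3 : (f.appLE V U eU ≫ g'.appLE U U' e1) = (g.appLE V V' eV' ≫ f'.appLE V' U' e2) := by
      rw [h1, h2]
      congr 1
      exact hc.w
    exact congrArg (fun φ => φ.hom a) h3
  haveI hPO : Algebra.IsPushout Γ(S, (V : S.Opens)) Γ(S', (V' : S'.Opens)) Γ(X, (U : X.Opens))
      Γ(X', U') :=
    algebra_isPushout hc eV' eU V.2 V'.2 U.2 e1 e2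
  obtain ⟨e⟩ := nonempty_sections_linearEquiv g' F hU' U.2 e1
  letI : Module Γ(X, (U : X.Opens)) Γ((Scheme.Modules.pullback g').obj F, U') :=
    Module.compHom _ (g'.appLE U U' e1).hom
  haveI : IsScalarTower Γ(X, (U : X.Opens)) Γ(X', U')
      Γ((Scheme.Modules.pullback g').obj F, U') :=
    ⟨fun a b m => by
      change ((g'.appLE U U' e1).hom a * b) • m = (g'.appLE U U' e1).hom a • (b • m)
      rw [mul_smul]⟩
  exact relFP_baseChange (R := Γ(S, (V : S.Opens))) (R' := Γ(S', (V' : S'.Opens)))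
    (A := Γ(X, (U : X.Opens))) (A' := Γ(X', U')) (N := F.val.obj (op (U : X.Opens)))
    (N' := Γ((Scheme.Modules.pullback g').obj F, U')) e H

/-- base change of relative finite presentation. -/
theorem isRelFP_pullback_of_isPullback {f : X ⟶ S} {f' : X' ⟶ S'} {g' : X' ⟶ X} {g : S' ⟶ S}
    [LocallyOfFiniteType f] (hc : IsPullback g' f' f g) (F : X.Modules) [F.IsQuasicoherent]
    (hF : Flatn.IsRelFP f F) : Flatn.IsRelFP f' ((Scheme.Modules.pullback g').obj F) := by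
  refine ⟨{V' | ∃ V : S.affineOpens, (V' : S'.Opens) ≤ g ⁻¹ᵁ (V : S.Opens)}, ?_, ?_⟩
  · rw [eq_top_iff]
    intro x' _
    obtain ⟨V, hV, hxV, -⟩ := exists_isAffineOpen_mem_and_subset (x := g x') (U := ⊤) trivial
    obtain ⟨V', hV', hxV', hle⟩ := exists_isAffineOpen_mem_and_subset (x := x')
      (U := g ⁻¹ᵁ V) hxV
    simp only [Opens.mem_iSup]
    exact ⟨⟨V', hV'⟩, ⟨⟨V, hV⟩, hle⟩, hxV'⟩
  · rintro V' ⟨V, eV'⟩
    refine ⟨{U' | ∃ (U : X.affineOpens) (_ : (U : X.Opens) ≤ f ⁻¹ᵁ (V : S.Opens)),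
      (U' : X'.Opens) = g' ⁻¹ᵁ (U : X.Opens) ⊓ f' ⁻¹ᵁ (V' : S'.Opens)}, ?_, ?_⟩
    · apply le_antisymm
      · refine iSup₂_le fun U' hU' => ?_
        obtain ⟨U, -, hU'eq⟩ := hU'
        rw [hU'eq]
        exact inf_le_right
      · intro x' hx'
        have hw : f (g' x') = g (f' x') := by
          have := congrArg (fun φ => φ.base x') hc.w
          simpa using this
        have hmem : g' x' ∈ f ⁻¹ᵁ (V : S.Opens) := by
          change f (g' x') ∈ (V : S.Opens)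
          rw [hw]
          exact eV' hx'
        obtain ⟨U, hU, hxU, hle⟩ := exists_isAffineOpen_mem_and_subset (x := g' x')
          (U := f ⁻¹ᵁ (V : S.Opens)) hmem
        simp only [Opens.mem_iSup]
        exact ⟨⟨g' ⁻¹ᵁ U ⊓ f' ⁻¹ᵁ (V' : S'.Opens),
          isAffineOpen_inf_preimage hc eV' hle V.2 V'.2 hU⟩, ⟨⟨U, hU⟩, hle, rfl⟩, ⟨hxU, hx'⟩⟩
    · rintro ⟨U'o, hU'aff⟩ ⟨U, eU, hU'eq⟩ h
      dsimp only at hU'eq
      subst hU'eq
      exact relFPOn_pullback_of_isPullback hc F U V V' eU eV'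
        (relFPOn_of_isRelFP f F hF U V eU)

end Groth.Agent.Lib.Helper2.RelFPGeo
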