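import Mathlib
import Groth.Prelude.Def_Flatn
import Groth.Agent.Lib.Helper2RelFPGeo
import Groth.Agent.Lib.Helper2RelFPAlg3
import Groth.Agent.Lib.Helper2PullbackSec2

/-!
# Relative finite presentation (`Flatn.IsRelFP`): pullback along morphisms locally of finite presentation

* `isRelFP_pullback_of_lfp`.
-/

set_option autoImplicit false
set_option linter.style.haveILetI false
universe u
open CategoryTheory CategoryTheory.Limits AlgebraicGeometry TopologicalSpace Opposite TensorProduct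

namespace Groth.Agent.Lib.Helper2.RelFPGeo

open Groth.Agent.Lib.Helper2.RelFPAlg Groth.Agent.Lib.Helper2.FPAff
  Groth.Agent.Lib.Helper2.PullbackSec

variable {X S : Scheme.{u}}

/-- pullback of a relatively finitely presented module along a morphism locally of finite presentation. -/
theorem isRelFP_pullback_of_lfp {Y : Scheme.{u}} (f : X ⟶ Y) (g : Y ⟶ S)
    [LocallyOfFinitePresentation f] [LocallyOfFiniteType g] (G : Y.Modules) [G.IsQuasicoherent]
    (hG : Flatn.IsRelFP g G) : Flatn.IsRelFP (f ≫ g) ((Scheme.Modules.pullback f).obj G) := by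
  refine ⟨Set.univ, ?_, fun V _ => ⟨{U | ∃ W : Y.affineOpens, (W : Y.Opens) ≤ g ⁻¹ᵁ (V : S.Opens) ∧
    (U : X.Opens) ≤ f ⁻¹ᵁ (W : Y.Opens)}, ?_, ?_⟩⟩
  · rw [eq_top_iff]
    intro x _
    obtain ⟨V, hV, hxV, -⟩ := exists_isAffineOpen_mem_and_subset (x := x) (U := ⊤) trivial
    simp only [Opens.mem_iSup]
    exact ⟨⟨V, hV⟩, Set.mem_univ _, hxV⟩
  · apply le_antisymm
    · refine iSup₂_le fun U hU => ?_
      obtain ⟨W, hW, hUW⟩ := hU
      intro x hx
      exact hW (hUW hx)
    · intro x hx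
      obtain ⟨W, hW, hxW, hWle⟩ := exists_isAffineOpen_mem_and_subset (x := f x)
        (U := g ⁻¹ᵁ (V : S.Opens)) hx
      obtain ⟨U, hU, hxU, hUle⟩ := exists_isAffineOpen_mem_and_subset (x := x)
        (U := f ⁻¹ᵁ W) hxW
      simp only [Opens.mem_iSup]
      exact ⟨⟨U, hU⟩, ⟨⟨W, hW⟩, hWle, hUle⟩, hxU⟩
  · rintro U ⟨W, hW, hUW⟩ h
    have H := relFPOn_of_isRelFP g G hG W V hW
    unfold Flatn.RelFPOn at H ⊢
    letI : Algebra Γ(S, (V : S.Opens)) Γ(Y, (W : Y.Opens)) := (g.appLE V W hW).hom.toAlgebra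
    letI : Algebra Γ(Y, (W : Y.Opens)) Γ(X, (U : X.Opens)) := (f.appLE W U hUW).hom.toAlgebra
    letI : Algebra Γ(S, (V : S.Opens)) Γ(X, (U : X.Opens)) := ((f ≫ g).appLE V U h).hom.toAlgebra
    haveI : IsScalarTower Γ(S, (V : S.Opens)) Γ(Y, (W : Y.Opens)) Γ(X, (U : X.Opens)) := by
      refine IsScalarTower.of_algebraMap_eq fun r => ?_
      change ((f ≫ g).appLE V U h).hom r = (f.appLE W U hUW).hom ((g.appLE V W hW).hom r)
      rw [← Scheme.Hom.appLE_comp_appLE f g V W U hW hUW]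
      rfl
    haveI : Algebra.FinitePresentation Γ(Y, (W : Y.Opens)) Γ(X, (U : X.Opens)) :=
      f.finitePresentation_appLE W.2 U.2 hUW
    obtain ⟨e⟩ := nonempty_sections_linearEquiv f G U.2 W.2 hUW
    have H2 := relFP_tensor_of_finitePresentation (R := Γ(S, (V : S.Opens)))
      (B := Γ(Y, (W : Y.Opens))) (A := Γ(X, (U : X.Opens))) (M := G.val.obj (op (W : Y.Opens))) H
    exact relFP_of_equiv AlgEquiv.refl e.toAddEquiv (fun a n => e.map_smul a n) H2

end Groth.Agent.Lib.Helper2.RelFPGeo
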