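import Mathlib
import Groth.Prelude.Def_Flatn
import Groth.Agent.Lib.Helper2RelFPGeo
import Groth.Agent.Lib.Helper2RelFPAlg4
import Groth.Agent.Lib.Helper23QCohLocal

/-!
# Relative finite presentation (`Flatn.IsRelFP`): finite pushforward

* `relFPOn_pushforward_iff`, `isRelFP_pushforward_iff`.
-/

set_option autoImplicit false
set_option linter.style.haveILetI false
universe u
open CategoryTheory CategoryTheory.Limits AlgebraicGeometry TopologicalSpace Opposite TensorProduct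

namespace Groth.Agent.Lib.Helper2.RelFPGeo

open Groth.Agent.Lib.Helper2.RelFPAlg Groth.Agent.Lib.Helper2.FPAff

variable {X S : Scheme.{u}}

/-- relative finite presentation on `(π⁻¹W, V)` for `F` iff on `(W, V)` for `π_* F`, `π` finite. -/
theorem relFPOn_pushforward_iff {Y : Scheme.{u}} (π : X ⟶ Y) (g : Y ⟶ S) [IsFinite π]
    [LocallyOfFiniteType g] (F : X.Modules) (W : Y.affineOpens) (V : S.affineOpens)
    (hW : (W : Y.Opens) ≤ g ⁻¹ᵁ (V : S.Opens))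
    (hU : π ⁻¹ᵁ (W : Y.Opens) ≤ (π ≫ g) ⁻¹ᵁ (V : S.Opens)) :
    Flatn.RelFPOn (π ≫ g) F ⟨π ⁻¹ᵁ (W : Y.Opens), W.2.preimage π⟩ V hU ↔
      Flatn.RelFPOn g ((Scheme.Modules.pushforward π).obj F) W V hW := by
  unfold Flatn.RelFPOn
  letI : Algebra Γ(S, (V : S.Opens)) Γ(Y, (W : Y.Opens)) := (g.appLE V W hW).hom.toAlgebra
  letI : Algebra Γ(Y, (W : Y.Opens)) Γ(X, π ⁻¹ᵁ (W : Y.Opens)) := (π.app W).hom.toAlgebra
  letI : Algebra Γ(S, (V : S.Opens)) Γ(X, π ⁻¹ᵁ (W : Y.Opens)) :=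
    ((π ≫ g).appLE V (π ⁻¹ᵁ (W : Y.Opens)) hU).hom.toAlgebra
  haveI : IsScalarTower Γ(S, (V : S.Opens)) Γ(Y, (W : Y.Opens)) Γ(X, π ⁻¹ᵁ (W : Y.Opens)) := by
    refine IsScalarTower.of_algebraMap_eq fun r => ?_
    change ((π ≫ g).appLE V (π ⁻¹ᵁ (W : Y.Opens)) hU).hom r =
      (π.app W).hom ((g.appLE V W hW).hom r)
    rw [Scheme.Hom.app_eq_appLE, ← Scheme.Hom.appLE_comp_appLE π g V W _ hW le_rfl]
    rfl
  haveI : Module.Finite Γ(Y, (W : Y.Opens)) Γ(X, π ⁻¹ᵁ (W : Y.Opens)) := π.finite_app W W.2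
  haveI : Algebra.FiniteType Γ(S, (V : S.Opens)) Γ(Y, (W : Y.Opens)) :=
    g.finiteType_appLE V.2 W.2 hW
  letI : Module Γ(Y, (W : Y.Opens)) (F.val.obj (op (π ⁻¹ᵁ (W : Y.Opens)))) :=
    (inferInstance : Module Γ(Y, (W : Y.Opens)) Γ((Scheme.Modules.pushforward π).obj F, W))
  haveI : IsScalarTower Γ(Y, (W : Y.Opens)) Γ(X, π ⁻¹ᵁ (W : Y.Opens))
      (F.val.obj (op (π ⁻¹ᵁ (W : Y.Opens)))) := by
    refine ⟨fun a b t => ?_⟩
    change ((π.app W).hom a * b) • t = (π.app W).hom a • (b • t)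
    rw [mul_smul]
  exact relFP_iff_of_finite (R := Γ(S, (V : S.Opens))) (B := Γ(Y, (W : Y.Opens)))
    (A := Γ(X, π ⁻¹ᵁ (W : Y.Opens))) (N := F.val.obj (op (π ⁻¹ᵁ (W : Y.Opens))))

/-- `F` is relatively finitely presented over `S` iff `π_* F` is, for `π` finite. -/
theorem isRelFP_pushforward_iff {Y : Scheme.{u}} (π : X ⟶ Y) (g : Y ⟶ S) [IsFinite π]
    [LocallyOfFiniteType g] (F : X.Modules) [F.IsQuasicoherent] :
    Flatn.IsRelFP (π ≫ g) F ↔ Flatn.IsRelFP g ((Scheme.Modules.pushforward π).obj F) := by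
  haveI : ((Scheme.Modules.pushforward π).obj F).IsQuasicoherent :=
    Groth.Agent.Lib.Helper23.QCohLocal.isQuasicoherent_pushforward π F
  haveI : LocallyOfFiniteType (π ≫ g) := inferInstance
  constructor
  · intro hF
    refine isRelFP_of_forall g _ fun W V hW => ?_
    have hU : π ⁻¹ᵁ (W : Y.Opens) ≤ (π ≫ g) ⁻¹ᵁ (V : S.Opens) := fun x hx => hW hx
    exact (relFPOn_pushforward_iff π g F W V hW hU).1
      (relFPOn_of_isRelFP (π ≫ g) F hF ⟨π ⁻¹ᵁ (W : Y.Opens), W.2.preimage π⟩ V hU)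
  · intro hG
    refine ⟨Set.univ, ?_, fun V _ => ⟨{U | ∃ W : Y.affineOpens, (W : Y.Opens) ≤ g ⁻¹ᵁ (V : S.Opens) ∧
      (U : X.Opens) = π ⁻¹ᵁ (W : Y.Opens)}, ?_, ?_⟩⟩
    · rw [eq_top_iff]
      intro x _
      obtain ⟨V, hV, hxV, -⟩ := exists_isAffineOpen_mem_and_subset (x := x) (U := ⊤) trivial
      simp only [Opens.mem_iSup]
      exact ⟨⟨V, hV⟩, Set.mem_univ _, hxV⟩
    · apply le_antisymm
      · refine iSup₂_le fun U hU => ?_
        obtain ⟨W, hW, hUW⟩ := hU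
        rw [hUW]
        intro x hx
        exact hW hx
      · intro x hx
        obtain ⟨W, hW, hxW, hWle⟩ := exists_isAffineOpen_mem_and_subset (x := π x)
          (U := g ⁻¹ᵁ (V : S.Opens)) hx
        simp only [Opens.mem_iSup]
        exact ⟨⟨π ⁻¹ᵁ W, hW.preimage π⟩, ⟨⟨W, hW⟩, hWle, rfl⟩, hxW⟩
    · rintro ⟨Uo, hUaff⟩ ⟨W, hW, hUW⟩ h
      dsimp only at hUW
      subst hUW
      exact (relFPOn_pushforward_iff π g F W V hW h).2
        (relFPOn_of_isRelFP g _ hG W V hW)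

end Groth.Agent.Lib.Helper2.RelFPGeo
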