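import Mathlib
import Groth.Prelude.Def_RelProj3
import Groth.Agent.Lib.Helper2GrModFT
import Groth.Agent.Lib.Helper2RelTwistGen
import Groth.Agent.Lib.Helper23FinType2

/-!
# Finite type of `ℳ~` on a relative Proj under (TF) (helper2)
-/

set_option autoImplicit false
universe u
open CategoryTheory Limits AlgebraicGeometry TopologicalSpace Opposite

namespace Groth.Agent.Lib.Helper2.RelTildeFT

open RelProj Groth.Agent.Lib.Helper2.Push Groth.Agent.Lib.Helper2.RelTildeQCoh
  Groth.Agent.Lib.Helper2.RelTwistGen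

/-- transfer of finiteness of sections through a chart. -/
theorem finite_of_chart {P Z : Scheme.{u}} (j : Z ⟶ P) [IsOpenImmersion j] (F : P.Modules)
    (T : Z.Modules) (lam : F ⟶ (Scheme.Modules.pushforward j).obj T) (V : P.Opens)
    (hV : V ≤ j.opensRange) (hbij : Function.Bijective (lam.app V))
    (hfin : Module.Finite Γ(Z, j ⁻¹ᵁ V) Γ(T, j ⁻¹ᵁ V)) : Module.Finite Γ(P, V) Γ(F, V) := by
  haveI : IsIso (j.app V) := j.isIso_app V hV
  have hsurj : Function.Surjective (j.app V) :=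
    (ConcreteCategory.bijective_of_isIso (j.app V)).2
  have h1 : Module.Finite Γ(P, V) Γ((Scheme.Modules.pushforward j).obj T, V) := by
    obtain ⟨G, hG⟩ := hfin.fg_top
    refine ⟨⟨G.map ⟨fun x => (x : Γ((Scheme.Modules.pushforward j).obj T, V)), fun _ _ h => h⟩, ?_⟩⟩
    rw [eq_top_iff]
    intro s _
    have hs : (show Γ(T, j ⁻¹ᵁ V) from s) ∈ Submodule.span Γ(Z, j ⁻¹ᵁ V) (G : Set Γ(T, j ⁻¹ᵁ V)) := by
      rw [hG]; trivial
    have key : ∀ x ∈ Submodule.span Γ(Z, j ⁻¹ᵁ V) (G : Set Γ(T, j ⁻¹ᵁ V)),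
        (show Γ((Scheme.Modules.pushforward j).obj T, V) from x) ∈
        Submodule.span Γ(P, V) ((G.map ⟨fun x => (x : Γ((Scheme.Modules.pushforward j).obj T, V)),
          fun _ _ h => h⟩ : Finset _) : Set Γ((Scheme.Modules.pushforward j).obj T, V)) := by
      intro x hx
      induction hx using Submodule.span_induction with
      | mem x hx =>
        refine Submodule.subset_span ?_
        simp only [Finset.coe_map, Function.Embedding.coeFn_mk, Set.mem_image, Finset.mem_coe]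
        exact ⟨x, hx, rfl⟩
      | zero => exact Submodule.zero_mem _
      | add x y _ _ hx hy => exact Submodule.add_mem _ hx hy
      | smul r' x _ hx =>
        obtain ⟨r, rfl⟩ := hsurj r'
        have := Submodule.smul_mem _ r hx
        rwa [pushforward_smul] at this
    exact key _ hs
  let e : Γ(F, V) →ₗ[Γ(P, V)] Γ((Scheme.Modules.pushforward j).obj T, V) :=
    { toFun := fun s => lam.app V s
      map_add' := fun a b => map_add _ a b
      map_smul' := fun r x => Scheme.Modules.Hom.app_smul lam r x }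
  exact Module.Finite.equiv (LinearEquiv.ofBijective e hbij).symm

variable {P S : Scheme.{u}} {𝒮 : RelProj.QCGrAlg S} (p : P ⟶ S)
  (chart : ∀ (U : S.Opens) (hU : IsAffineOpen U), (((p ⁻¹ᵁ U : P.Opens) : Scheme.{u}) ≅ Proj (𝒮.deg U hU)))

/-- **(TF) ⇒ `ℳ~` of finite type on the relative Proj** (`𝒮` generated in degree one). -/
theorem isFT_of_relCharts (hgen : 𝒮.IsGenDegOne) (ℳ : RelProj.GrModule 𝒮) (hTF : ℳ.IsTF)
    (F : P.Modules)
    (lam : ∀ (U : S.Opens) (hU : IsAffineOpen U),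
      F ⟶ (Scheme.Modules.pushforward (RelProj.emb p chart U hU)).obj
        (GrMod.tilde (𝒮.deg U hU) (ℳ.deg U hU) 0))
    (hbij : ∀ (U : S.Opens) (hU : IsAffineOpen U) (W : P.Opens), W ≤ p ⁻¹ᵁ U →
      Function.Bijective ((lam U hU).app W)) :
    SheafOfModules.IsFiniteType (R := P.ringCatSheaf) F := by
  haveI : F.IsQuasicoherent := isQuasicoherent_of_relCharts p chart F _
    (fun U hU => Groth.Agent.Lib.Helper2GrModSect.isQuasicoherent_tilde (𝒮.deg U hU) (ℳ.deg U hU) 0) lam hbij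
  obtain ⟨n, hn⟩ := hTF
  let ι : Type u := Σ U : S.affineOpens, {t : 𝒮.presheaf.obj (op U.1) // t ∈ 𝒮.deg U.1 U.2 1}
  let V : ι → P.Opens := fun i =>
    (RelProj.emb p chart i.1.1 i.1.2) ''ᵁ (Proj.basicOpen (𝒮.deg i.1.1 i.1.2) i.2.1)
  refine Groth.Agent.Lib.Helper23.FinType.isFiniteType_of_finite F V ?_ ?_ ?_
  · rw [IsOpenCover, eq_top_iff]
    intro x _
    obtain ⟨U, hxU⟩ := exists_affine_mem_preimage p x
    obtain ⟨y, hy⟩ := le_opensRange_emb p chart U.1 U.2 hxU
    obtain ⟨t, ht, hty⟩ := exists_degOne_not_mem_of_gen (𝒮.deg U.1 U.2) (hgen U.1 U.2) y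
    refine Opens.mem_iSup.mpr ⟨⟨U, ⟨t, ht⟩⟩, y, ?_, hy⟩
    exact (ProjectiveSpectrum.mem_basicOpen _ t y).mpr hty
  · intro i
    exact (Proj.isAffineOpen_basicOpen (𝒮.deg i.1.1 i.1.2) i.2.1 i.2.2
      one_pos).image_of_isOpenImmersion _
  · intro i
    have hpre : (RelProj.emb p chart i.1.1 i.1.2) ⁻¹ᵁ (V i) =
        Proj.basicOpen (𝒮.deg i.1.1 i.1.2) i.2.1 :=
      (RelProj.emb p chart i.1.1 i.1.2).preimage_image_eq _
    refine finite_of_chart (RelProj.emb p chart i.1.1 i.1.2) F _ (lam i.1.1 i.1.2) (V i)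
      ((RelProj.emb p chart i.1.1 i.1.2).image_le_opensRange _)
      (hbij i.1.1 i.1.2 _ (image_emb_le p chart i.1.1 i.1.2 _)) ?_
    rw [hpre]
    exact Groth.Agent.Lib.Helper2GrModSect.FT.finite_sections_basicOpen_degOne (𝒮.deg i.1.1 i.1.2)
      (ℳ.deg i.1.1 i.1.2) i.2.2 ⟨n, hn i.1.1 i.1.2⟩

end Groth.Agent.Lib.Helper2.RelTildeFT
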