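import Mathlib
import Groth.Prelude.Def_RelProj3
import Groth.Agent.Lib.Helper2RelTildeExist
import Groth.Agent.Lib.Helper2RelTwistTensor
import Groth.Agent.Lib.Helper2GrModMul
import Groth.Agent.Lib.Helper23TensorMap
import Groth.Agent.Lib.Helper18Tens1
import Groth.Agent.Lib.Helper23SecTw7
import Groth.Agent.S8323

/-!
# `(ℳ(n))~ ≅ ℳ~ ⊗ O_P(n)` on a relative Proj generated in degree one (helper2)

`ℳ~ ⊗ O_P(n)` carries chartwise identifications with the `(ℳ(U)(n))~` (multiplication of values), hence is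
isomorphic to any `(ℳ(n))~` by uniqueness.
-/

set_option autoImplicit false
universe u
open CategoryTheory Limits AlgebraicGeometry TopologicalSpace Opposite MonoidalCategory
open scoped HomogeneousIdeal

namespace Groth.Agent.Lib.Helper2.RelTildeTensor

open RelProj Groth.Agent.Lib.Helper6 Groth.Agent.Lib.Helper2.RelObjGlue Groth.Agent.Lib.Helper2.RelTildeQCoh
  Groth.Agent.Lib.Helper2.RelTildeGlue Groth.Agent.Lib.Helper2.RelTwistGen Groth.Agent.Lib.Helper2.RelTwistExist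
  Groth.Agent.Lib.Helper2.RelTildeExist Groth.Agent.Lib.Helper2.Push Groth.Agent.Lib.Helper2.ProjLocSectMod
  Groth.Agent.Lib.Helper2GrModSect Groth.Agent.Lib.Helper23.SecTw Groth.Agent.Lib.Helper23.TensorMap
  Groth.Agent.Helper18Tens Groth.Agent.Lib.Helper2.RelTwistTensor Groth.Agent.Lib.Helper23.Extend

theorem tensorMod_hom_ext {X : Scheme.{u}} {M N Q : X.Modules} (f g : CohB1.tensorMod M N ⟶ Q)
    (h : ∀ (W : X.Opens) (m : Γ(M, W)) (n : Γ(N, W)), f.app W (tm M N W m n) = g.app W (tm M N W m n)) :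
    f = g := by
  apply ((adj X).homEquiv _ _).injective
  erw [Adjunction.homEquiv_unit, Adjunction.homEquiv_unit]
  apply PresheafOfModules.hom_ext
  intro Z
  apply ModuleCat.MonoidalCategory.tensor_ext
  intro m n
  exact h Z.unop m n

variable {S P : Scheme.{u}} {𝒮 : RelProj.QCGrAlg S} (p : P ⟶ S)
  (chart : ∀ (U : S.Opens) (hU : IsAffineOpen U), (((p ⁻¹ᵁ U : P.Opens) : Scheme.{u}) ≅ Proj (𝒮.deg U hU)))
  (ℳ : RelProj.GrModule 𝒮) (n : ℤ) (F : P.Modules)
  (lam : ∀ (U : S.Opens) (hU : IsAffineOpen U),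
    F ⟶ (Scheme.Modules.pushforward (RelProj.emb p chart U hU)).obj
      (GrMod.tilde (𝒮.deg U hU) (ℳ.deg U hU) 0))
  (L : P.Modules)
  (lamL : ∀ (U : S.Opens) (hU : IsAffineOpen U),
    L ⟶ (Scheme.Modules.pushforward (RelProj.emb p chart U hU)).obj (GrTwist.twist (𝒮.deg U hU) n))

/-- the chart pairing: product of the values. -/
noncomputable def beta (U : S.Opens) (hU : IsAffineOpen U) (W : P.Opens) (m : Γ(F, W)) (l : Γ(L, W)) :
    Γ((Scheme.Modules.pushforward (RelProj.emb p chart U hU)).obj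
      (GrMod.tilde (𝒮.deg U hU) (ℳ.deg U hU) n), W) :=
  mulSec (𝒮.deg U hU) (ℳ.deg U hU) (zero_add n) (RelProj.emb p chart U hU ⁻¹ᵁ W)
    ((lam U hU).app W m) ((lamL U hU).app W l)

theorem val_beta (U : S.Opens) (hU : IsAffineOpen U) (W : P.Opens) (m : Γ(F, W)) (l : Γ(L, W))
    (y : (RelProj.emb p chart U hU ⁻¹ᵁ W : (Proj (𝒮.deg U hU)).Opens)) :
    GrMod.val (V := RelProj.emb p chart U hU ⁻¹ᵁ W) (beta p chart ℳ n F lam L lamL U hU W m l) y =
      GrTwist.val (V := RelProj.emb p chart U hU ⁻¹ᵁ W) ((lamL U hU).app W l) y •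
        GrMod.val (V := RelProj.emb p chart U hU ⁻¹ᵁ W) ((lam U hU).app W m) y := rfl

theorem beta_add_left (U : S.Opens) (hU : IsAffineOpen U) (W : P.Opens) (m₁ m₂ : Γ(F, W)) (l : Γ(L, W)) :
    beta p chart ℳ n F lam L lamL U hU W (m₁ + m₂) l =
      beta p chart ℳ n F lam L lamL U hU W m₁ l + beta p chart ℳ n F lam L lamL U hU W m₂ l := by
  unfold beta
  rw [map_add]
  exact mulSec_add_left _ _ _ _ _ _ _

theorem beta_add_right (U : S.Opens) (hU : IsAffineOpen U) (W : P.Opens) (m : Γ(F, W)) (l₁ l₂ : Γ(L, W)) :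
    beta p chart ℳ n F lam L lamL U hU W m (l₁ + l₂) =
      beta p chart ℳ n F lam L lamL U hU W m l₁ + beta p chart ℳ n F lam L lamL U hU W m l₂ := by
  unfold beta
  rw [map_add]
  exact mulSec_add_right _ _ _ _ _ _ _

theorem beta_smul_left (U : S.Opens) (hU : IsAffineOpen U) (W : P.Opens) (a : Γ(P, W)) (m : Γ(F, W))
    (l : Γ(L, W)) :
    beta p chart ℳ n F lam L lamL U hU W (a • m) l = a • beta p chart ℳ n F lam L lamL U hU W m l := by
  unfold beta
  rw [Scheme.Modules.Hom.app_smul]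
  exact mulSec_smul_left _ _ _ _ _ _ _

theorem beta_smul_right (U : S.Opens) (hU : IsAffineOpen U) (W : P.Opens) (a : Γ(P, W)) (m : Γ(F, W))
    (l : Γ(L, W)) :
    beta p chart ℳ n F lam L lamL U hU W m (a • l) = a • beta p chart ℳ n F lam L lamL U hU W m l := by
  unfold beta
  rw [Scheme.Modules.Hom.app_smul]
  exact mulSec_smul_right _ _ _ _ _ _ _

theorem beta_res (U : S.Opens) (hU : IsAffineOpen U) {W W' : P.Opens} (i : W' ⟶ W) (m : Γ(F, W))
    (l : Γ(L, W)) :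
    ((Scheme.Modules.pushforward (RelProj.emb p chart U hU)).obj
      (GrMod.tilde (𝒮.deg U hU) (ℳ.deg U hU) n)).presheaf.map i.op
        (beta p chart ℳ n F lam L lamL U hU W m l) =
      beta p chart ℳ n F lam L lamL U hU W' (F.presheaf.map i.op m) (L.presheaf.map i.op l) := by
  unfold beta
  rw [app_map' (lam U hU) i m, app_map' (lamL U hU) i l]
  rfl

/-- the chart map of `F ⊗ L`. -/
noncomputable def lamT (U : S.Opens) (hU : IsAffineOpen U) :
    CohB1.tensorMod F L ⟶ (Scheme.Modules.pushforward (RelProj.emb p chart U hU)).obj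
      (GrMod.tilde (𝒮.deg U hU) (ℳ.deg U hU) n) :=
  ofBilinSch F L _ (fun Z m l => beta p chart ℳ n F lam L lamL U hU Z.unop m l)
    (fun Z m₁ m₂ l => beta_add_left p chart ℳ n F lam L lamL U hU Z.unop m₁ m₂ l)
    (fun Z a m l => beta_smul_left p chart ℳ n F lam L lamL U hU Z.unop a m l)
    (fun Z m l₁ l₂ => beta_add_right p chart ℳ n F lam L lamL U hU Z.unop m l₁ l₂)
    (fun Z a m l => beta_smul_right p chart ℳ n F lam L lamL U hU Z.unop a m l)
    (fun f m l => beta_res p chart ℳ n F lam L lamL U hU f.unop m l)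

theorem lamT_tm (U : S.Opens) (hU : IsAffineOpen U) (W : P.Opens) (m : Γ(F, W)) (l : Γ(L, W)) :
    (lamT p chart ℳ n F lam L lamL U hU).app W (tm F L W m l) =
      beta p chart ℳ n F lam L lamL U hU W m l :=
  ofBilinSch_tmul F L _ (fun Z m l => beta p chart ℳ n F lam L lamL U hU Z.unop m l)
    (fun Z m₁ m₂ l => beta_add_left p chart ℳ n F lam L lamL U hU Z.unop m₁ m₂ l)
    (fun Z a m l => beta_smul_left p chart ℳ n F lam L lamL U hU Z.unop a m l)
    (fun Z m l₁ l₂ => beta_add_right p chart ℳ n F lam L lamL U hU Z.unop m l₁ l₂)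
    (fun Z a m l => beta_smul_right p chart ℳ n F lam L lamL U hU Z.unop a m l)
    (fun f m l => beta_res p chart ℳ n F lam L lamL U hU f.unop m l) W m l

variable {p chart ℳ n F lam L lamL}

/-- compatibility of the chart maps of `F ⊗ L` along a basic open. -/
theorem lamT_comp_tau (hP : RelProj.IsRelProj 𝒮 p chart) (hF : RelProj.IsRelTilde 𝒮 p chart ℳ 0 F lam)
    (hL : RelProj.IsRelTwist 𝒮 p chart n L lamL) (U : S.Opens) (hU : IsAffineOpen U) (r : Γ(S, U)) :
    lamT p chart ℳ n F lam L lamL U hU ≫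
        tauOfM p chart ℳ n hU (hU.basicOpen r) (S.basicOpen_le r) (𝒮.irrelevant_le_map U hU r)
          (RelProj.map_res_emb hP U hU r) =
      lamT p chart ℳ n F lam L lamL (S.basicOpen r) (hU.basicOpen r) := by
  apply tensorMod_hom_ext
  intro W m l
  rw [Scheme.Modules.Hom.comp_app]
  change (tauOfM p chart ℳ n hU (hU.basicOpen r) (S.basicOpen_le r) (𝒮.irrelevant_le_map U hU r)
    (RelProj.map_res_emb hP U hU r)).app W ((lamT p chart ℳ n F lam L lamL U hU).app W (tm F L W m l)) = _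
  rw [lamT_tm, lamT_tm]
  apply tilde_ext
  rintro ⟨y, hy⟩
  have hy' : (RelProj.emb p chart U hU).base (ProjectiveSpectrum.comap
      (𝒮.res hU (hU.basicOpen r) (S.basicOpen_le r)) (𝒮.irrelevant_le_map U hU r) y) ∈ W := by
    rw [emb_comap p chart hP U hU r y]; exact hy
  change GrMod.locModMap (𝒮.res hU (hU.basicOpen r) (S.basicOpen_le r)) (𝒮.irrelevant_le_map U hU r)
      (ℳ.res hU (hU.basicOpen r) (S.basicOpen_le r)) y
      (GrTwist.val (V := RelProj.emb p chart U hU ⁻¹ᵁ W) ((lamL U hU).app W l) ⟨_, hy'⟩ •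
        GrMod.val (V := RelProj.emb p chart U hU ⁻¹ᵁ W) ((lam U hU).app W m) ⟨_, hy'⟩) =
    GrTwist.val (V := RelProj.emb p chart (S.basicOpen r) (hU.basicOpen r) ⁻¹ᵁ W)
        ((lamL (S.basicOpen r) (hU.basicOpen r)).app W l) ⟨y, hy⟩ •
      GrMod.val (V := RelProj.emb p chart (S.basicOpen r) (hU.basicOpen r) ⁻¹ᵁ W)
        ((lam (S.basicOpen r) (hU.basicOpen r)).app W m) ⟨y, hy⟩
  rw [GrMod.locModMap_smul, hL.compat U hU r W l y hy hy', hF.compat U hU r W m y hy hy']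

/-- the chart maps of `F ⊗ L` are bijective on sections. -/
theorem lamT_bijective (hgen : 𝒮.IsGenDegOne) (hF : RelProj.IsRelTilde 𝒮 p chart ℳ 0 F lam)
    (hL : RelProj.IsRelTwist 𝒮 p chart n L lamL) (U : S.Opens) (hU : IsAffineOpen U) (W : P.Opens)
    (hW : W ≤ p ⁻¹ᵁ U) : Function.Bijective ((lamT p chart ℳ n F lam L lamL U hU).app W) := by
  apply bijective_app_of_cover
  intro x hx
  obtain ⟨y, hy⟩ := le_opensRange_emb p chart U hU (hW hx)
  obtain ⟨t, ht, hty⟩ := exists_degOne_not_mem_of_gen (𝒮.deg U hU) (hgen U hU) y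
  let i : Idx 𝒮 := ⟨⟨U, hU⟩, ⟨t, ht⟩⟩
  refine ⟨VF p chart i, ⟨y, (ProjectiveSpectrum.mem_basicOpen _ t y).mpr hty, hy⟩, ?_⟩
  intro W' hle
  rw [ConcreteCategory.isIso_iff_bijective]
  have hpq : ((n.toNat : ℕ) : ℤ) = ((-n).toNat : ℕ) + n := by omega
  have hgen_e := isGen_eF p chart n L lamL hL n.toNat (-n).toNat hpq i
  have hT := bijective_tm_of_isGen F L (VF p chart i) (eF p chart n L lamL hL n.toNat (-n).toNat hpq i)
    hgen_e W' hle
  have hWb : ∀ z : (RelProj.emb p chart U hU ⁻¹ᵁ W' : (Proj (𝒮.deg U hU)).Opens),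
      t ^ (-n).toNat ∉ z.1.asHomogeneousIdeal := fun z hh =>
    not_mem_of_mem_VF p chart i z.1 (hle z.2) (z.1.isPrime.mem_of_pow_mem _ hh)
  have hWa : ∀ z : (RelProj.emb p chart U hU ⁻¹ᵁ W' : (Proj (𝒮.deg U hU)).Opens),
      t ^ n.toNat ∉ z.1.asHomogeneousIdeal := fun z hh =>
    not_mem_of_mem_VF p chart i z.1 (hle z.2) (z.1.isPrime.mem_of_pow_mem _ hh)
  have hz : (lamL U hU).app W' (res L hle (eF p chart n L lamL hL n.toNat (-n).toNat hpq i)) =
      fracSec (𝒮.deg U hU) n (RelProj.emb p chart U hU ⁻¹ᵁ W') (pow_mem_one ht n.toNat)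
        (pow_mem_one ht (-n).toNat) hpq hWb := by
    have h1 := app_map' (lamL U hU) (homOfLE hle) (eF p chart n L lamL hL n.toNat (-n).toNat hpq i)
    refine h1.trans ?_
    rw [lam_eF p chart n L lamL hL n.toNat (-n).toNat hpq i]
    rfl
  have hcomp : Function.Bijective (⇑((lamT p chart ℳ n F lam L lamL U hU).app W') ∘
      (fun m : Γ(F, W') => tm F L W' m (res L hle (eF p chart n L lamL hL n.toNat (-n).toNat hpq i)))) := by
    have hfun : (⇑((lamT p chart ℳ n F lam L lamL U hU).app W') ∘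
        (fun m : Γ(F, W') => tm F L W' m (res L hle (eF p chart n L lamL hL n.toNat (-n).toNat hpq i)))) =
        (fun t' : Γ(GrMod.tilde (𝒮.deg U hU) (ℳ.deg U hU) 0, RelProj.emb p chart U hU ⁻¹ᵁ W') =>
          mulSec (𝒮.deg U hU) (ℳ.deg U hU) (zero_add n) (RelProj.emb p chart U hU ⁻¹ᵁ W') t'
            (fracSec (𝒮.deg U hU) n (RelProj.emb p chart U hU ⁻¹ᵁ W') (pow_mem_one ht n.toNat)
              (pow_mem_one ht (-n).toNat) hpq hWb)) ∘ ⇑((lam U hU).app W') := by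
      funext m
      refine (lamT_tm p chart ℳ n F lam L lamL U hU W' m _).trans ?_
      unfold beta
      rw [hz]
      rfl
    rw [hfun]
    exact (bijective_mulSec_fracSec (𝒮.deg U hU) (ℳ.deg U hU) (zero_add n) _ _ _ hpq hWb hWa).comp
      (hF.bijective U hU W' (hle.trans (VF_le p chart i)))
  exact (Function.Bijective.of_comp_iff _ hT).mp hcomp

/-- `F ⊗ L` with the chart maps `lamT` is a module `(ℳ(n))~`. -/
theorem isRelTilde_tensor (hP : RelProj.IsRelProj 𝒮 p chart) (hgen : 𝒮.IsGenDegOne)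
    (hF : RelProj.IsRelTilde 𝒮 p chart ℳ 0 F lam) (hL : RelProj.IsRelTwist 𝒮 p chart n L lamL) :
    RelProj.IsRelTilde 𝒮 p chart ℳ n (CohB1.tensorMod F L) (lamT p chart ℳ n F lam L lamL) := by
  refine ⟨fun U hU W hW => lamT_bijective hgen hF hL U hU W hW, ?_⟩
  intro U hU r W s y hy hy'
  have h3 := lamT_comp_tau hP hF hL U hU r
  have h4 := congrArg (fun φ : CohB1.tensorMod F L ⟶ (Scheme.Modules.pushforward (RelProj.emb p chart
    (S.basicOpen r) (hU.basicOpen r))).obj (GrMod.tilde (𝒮.deg (S.basicOpen r) (hU.basicOpen r))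
      (ℳ.deg (S.basicOpen r) (hU.basicOpen r)) n) => φ.app W s) h3
  exact (congrArg (fun σ : Γ(GrMod.tilde (𝒮.deg (S.basicOpen r) (hU.basicOpen r))
    (ℳ.deg (S.basicOpen r) (hU.basicOpen r)) n,
    RelProj.emb p chart (S.basicOpen r) (hU.basicOpen r) ⁻¹ᵁ W) => GrMod.val σ ⟨y, hy⟩) h4.symm).trans rfl

/-- **`(ℳ(n))~ ≅ ℳ~ ⊗ O_P(n)`**. -/
theorem nonempty_iso_tensor (hP : RelProj.IsRelProj 𝒮 p chart) (hgen : 𝒮.IsGenDegOne)
    (hℳ : Coh.IsQCoh ((AMod.toOS 𝒮.toQCAlg).obj ℳ.mod))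
    (hF : RelProj.IsRelTilde 𝒮 p chart ℳ 0 F lam) (hL : RelProj.IsRelTwist 𝒮 p chart n L lamL)
    (F' : P.Modules)
    (lam' : ∀ (U : S.Opens) (hU : IsAffineOpen U),
      F' ⟶ (Scheme.Modules.pushforward (RelProj.emb p chart U hU)).obj
        (GrMod.tilde (𝒮.deg U hU) (ℳ.deg U hU) n))
    (hF' : RelProj.IsRelTilde 𝒮 p chart ℳ n F' lam') :
    Nonempty (F' ≅ CohB1.tensorMod F L) := by
  obtain ⟨⟨φ, hφ, -⟩, hiso⟩ := Groth.Agent.S8323.result 𝒮 p chart hP ℳ hℳ n F' lam' hF'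
    (CohB1.tensorMod F L) (lamT p chart ℳ n F lam L lamL) (isRelTilde_tensor hP hgen hF hL)
  haveI := hiso φ hφ
  exact ⟨asIso φ⟩

end Groth.Agent.Lib.Helper2.RelTildeTensor
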