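import Mathlib
import Groth.Prelude.Def_RelProj3
import Groth.Agent.Lib.Helper2GrModFTd
import Groth.Agent.Lib.Helper2RelTildeFT

/-!
# `O_P(n)` is of finite type on a relative Proj of a locally Noetherian graded algebra (helper2)
-/

set_option autoImplicit false
universe u
open CategoryTheory Limits AlgebraicGeometry TopologicalSpace Opposite

namespace Groth.Agent.Lib.Helper2.RelTwistCoh

open RelProj Groth.Agent.Lib.Helper2.Push Groth.Agent.Lib.Helper2.RelTildeQCoh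
  Groth.Agent.Lib.Helper2.RelTwistGen Groth.Agent.Lib.Helper2.RelTildeFT

variable {P S : Scheme.{u}} {𝒮 : RelProj.QCGrAlg S} (p : P ⟶ S)
  (chart : ∀ (U : S.Opens) (hU : IsAffineOpen U), (((p ⁻¹ᵁ U : P.Opens) : Scheme.{u}) ≅ Proj (𝒮.deg U hU)))

/-- if all the rings `𝒮(U)` (`U` affine) are Noetherian, the twisting sheaves `O_P(n)` are of finite type. -/
theorem isFiniteType_relTwist
    (hnoeth : ∀ (U : S.Opens) (_ : IsAffineOpen U), IsNoetherianRing (𝒮.presheaf.obj (op U)))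
    (n : ℤ) (L : P.Modules)
    (lam : ∀ (U : S.Opens) (hU : IsAffineOpen U),
      L ⟶ (Scheme.Modules.pushforward (RelProj.emb p chart U hU)).obj (GrTwist.twist (𝒮.deg U hU) n))
    (hbij : ∀ (U : S.Opens) (hU : IsAffineOpen U) (W : P.Opens), W ≤ p ⁻¹ᵁ U →
      Function.Bijective ((lam U hU).app W)) :
    SheafOfModules.IsFiniteType (R := P.ringCatSheaf) L := by
  have hT : ∀ (U : S.Opens) (hU : IsAffineOpen U),
      (GrTwist.twist (𝒮.deg U hU) n).IsQuasicoherent := by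
    intro U hU
    have h : GrMod.tilde (𝒮.deg U hU) (𝒮.deg U hU) n = GrTwist.twist (𝒮.deg U hU) n := rfl
    rw [← h]
    exact Groth.Agent.Lib.Helper2GrModSect.isQuasicoherent_tilde (𝒮.deg U hU) (𝒮.deg U hU) n
  haveI : L.IsQuasicoherent := isQuasicoherent_of_relCharts p chart L
    (fun U hU => GrTwist.twist (𝒮.deg U hU) n) hT lam hbij
  let ι : Type u := Σ U : S.affineOpens, Σ d : {d : ℕ // 0 < d},
    {t : 𝒮.presheaf.obj (op U.1) // t ∈ 𝒮.deg U.1 U.2 d.1}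
  let V : ι → P.Opens := fun i =>
    (RelProj.emb p chart i.1.1 i.1.2) ''ᵁ (Proj.basicOpen (𝒮.deg i.1.1 i.1.2) i.2.2.1)
  refine Groth.Agent.Lib.Helper23.FinType.isFiniteType_of_finite L V ?_ ?_ ?_
  · rw [IsOpenCover, eq_top_iff]
    intro x _
    obtain ⟨U, hxU⟩ := exists_affine_mem_preimage p x
    obtain ⟨y, hy⟩ := le_opensRange_emb p chart U.1 U.2 hxU
    obtain ⟨d, f, hd, hf, hfy⟩ :=
      Groth.Agent.Lib.Helper2GrModSect.exists_homogeneous_pos_not_mem (𝒮.deg U.1 U.2) y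
    refine Opens.mem_iSup.mpr ⟨⟨U, ⟨d, hd⟩, ⟨f, hf⟩⟩, y, ?_, hy⟩
    exact (ProjectiveSpectrum.mem_basicOpen _ f y).mpr hfy
  · intro i
    exact (Proj.isAffineOpen_basicOpen (𝒮.deg i.1.1 i.1.2) i.2.2.1 i.2.2.2
      i.2.1.2).image_of_isOpenImmersion _
  · intro i
    have hpre : (RelProj.emb p chart i.1.1 i.1.2) ⁻¹ᵁ (V i) =
        Proj.basicOpen (𝒮.deg i.1.1 i.1.2) i.2.2.1 :=
      (RelProj.emb p chart i.1.1 i.1.2).preimage_image_eq _
    refine finite_of_chart (RelProj.emb p chart i.1.1 i.1.2) L _ (lam i.1.1 i.1.2) (V i)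
      ((RelProj.emb p chart i.1.1 i.1.2).image_le_opensRange _)
      (hbij i.1.1 i.1.2 _ (image_emb_le p chart i.1.1 i.1.2 _)) ?_
    rw [hpre]
    haveI := hnoeth i.1.1 i.1.2
    exact Groth.Agent.Lib.Helper2GrModSect.FTd.finite_sections_twist_basicOpen (𝒮.deg i.1.1 i.1.2) n
      i.2.1.2 i.2.2.2

end Groth.Agent.Lib.Helper2.RelTwistCoh
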