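import Mathlib
import Groth.Prelude.Def_RelProj3
import Groth.Agent.Lib.Helper2RelTwistTriv
import Groth.Agent.Lib.Helper23GenLocus

/-!
# `X_f` is the non-vanishing locus of `α_d(f)` on a relative Proj (helper2)
-/

set_option autoImplicit false
universe u
open CategoryTheory Limits AlgebraicGeometry TopologicalSpace Opposite

namespace Groth.Agent.Lib.Helper2.RelTwistGenLocus

open Groth.Agent.Lib.Helper2.RelTildeQCoh Groth.Agent.Lib.Helper23.SecTw Groth.Agent.Lib.Helper6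
  Groth.Agent.Lib.Helper2.Push Groth.Agent.Lib.Helper2.RelTwistGen Groth.Agent.Lib.Helper2.IsGenCover
  Groth.Agent.Lib.Helper2.RelTwistTriv Groth.Agent.Lib.Helper23.GenLocus RelProj

variable {P S : Scheme.{u}} {𝒮 : RelProj.QCGrAlg S} (p : P ⟶ S)
  (chart : ∀ (U : S.Opens) (hU : IsAffineOpen U), (((p ⁻¹ᵁ U : P.Opens) : Scheme.{u}) ≅ Proj (𝒮.deg U hU)))
  (f : 𝒮.presheaf.obj (op ⊤)) (Xf : P.Opens)
  (hXf : ∀ (U : S.Opens) (hU : IsAffineOpen U),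
      Xf ⊓ p ⁻¹ᵁ U =
        (p ⁻¹ᵁ U).ι ''ᵁ ((chart U hU).hom ⁻¹ᵁ Proj.basicOpen (𝒮.deg U hU) (fU f U)))

include hXf in
theorem mem_of_not_mem (U : S.Opens) (hU : IsAffineOpen U) (y : Proj (𝒮.deg U hU))
    (hy : fU f U ∉ y.asHomogeneousIdeal) : (RelProj.emb p chart U hU) y ∈ Xf := by
  have h1 : (RelProj.emb p chart U hU) y ∈ Xf ⊓ p ⁻¹ᵁ U := by
    rw [hXf U hU, emb_apply]
    refine ⟨(chart U hU).inv y, ?_, rfl⟩
    change (chart U hU).hom ((chart U hU).inv y) ∈ Proj.basicOpen (𝒮.deg U hU) (fU f U)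
    have h2 : (chart U hU).hom ((chart U hU).inv y) = y := by
      rw [← Scheme.Hom.comp_apply, Iso.inv_hom_id]
      rfl
    rw [h2]
    exact (ProjectiveSpectrum.mem_basicOpen _ _ y).mpr hy
  exact h1.1

variable {d : ℕ} (hf : ∀ (U : S.Opens) (hU : IsAffineOpen U), fU f U ∈ 𝒮.deg U hU d)
  (L : P.Modules)
  (lam : ∀ (U : S.Opens) (hU : IsAffineOpen U),
    L ⟶ (Scheme.Modules.pushforward (RelProj.emb p chart U hU)).obj
      (GrTwist.twist (𝒮.deg U hU) ((1 : ℤ) * (d : ℤ))))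
  (hL : RelProj.IsRelTwist 𝒮 p chart ((1 : ℤ) * (d : ℤ)) L lam) (s : Coh.structureModule P ⟶ L)
  (hs : ∀ (U : S.Opens) (hU : IsAffineOpen U) (y : Proj (𝒮.deg U hU)),
      GrTwist.val (V := RelProj.emb p chart U hU ⁻¹ᵁ ⊤)
        ((lam U hU).app ⊤ (s.app ⊤ (show Γ(Coh.structureModule P, ⊤) from (1 : Γ(P, ⊤))))) ⟨y, Set.mem_univ _⟩ =
        Localization.mk (fU f U) 1)

include hs in
/-- the value of `α_d(f)` restricted to any open, in a chart. -/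
theorem val_lam_sv (U : S.Opens) (hU : IsAffineOpen U) (W : P.Opens)
    (y : ((RelProj.emb p chart U hU) ⁻¹ᵁ W : (Proj (𝒮.deg U hU)).Opens)) :
    GrTwist.val (V := RelProj.emb p chart U hU ⁻¹ᵁ W) ((lam U hU).app W (sv s W)) y =
      Localization.mk (fU f U) 1 := by
  have h1 : sv s W = res L le_top (sv s ⊤) := by
    change s.app W (toS W 1) = res L le_top (s.app ⊤ (toS ⊤ 1))
    have := app_map' s (homOfLE (le_top : W ≤ ⊤)) (toS ⊤ 1)
    rw [map_toS, map_one] at this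
    exact this
  rw [h1]
  have h2 := app_map' (lam U hU) (homOfLE (le_top : W ≤ ⊤)) (sv s ⊤)
  have h3 : GrTwist.val (V := RelProj.emb p chart U hU ⁻¹ᵁ W)
      ((lam U hU).app W (res L le_top (sv s ⊤))) y =
      GrTwist.val (V := RelProj.emb p chart U hU ⁻¹ᵁ ⊤) ((lam U hU).app ⊤ (sv s ⊤))
        ⟨y.1, Set.mem_univ _⟩ := by
    change GrTwist.val (V := RelProj.emb p chart U hU ⁻¹ᵁ W)
      ((lam U hU).app W (L.presheaf.map (homOfLE (le_top : W ≤ ⊤)).op (sv s ⊤))) y = _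
    rw [h2]
    rfl
  rw [h3]
  exact hs U hU y.1

theorem sv_res (W W' : P.Opens) (h : W' ≤ W) : sv s W' = res L h (sv s W) := by
  change s.app W' (toS W' 1) = res L h (s.app W (toS W 1))
  have := app_map' s (homOfLE h) (toS W 1)
  rw [map_toS, map_one] at this
  exact this

include hXf hf hL hs in
theorem le_genLocus : Xf ≤ CohB1.genLocus L s := by
  intro x hx
  obtain ⟨U, hxU⟩ := exists_affine_mem_preimage p x
  rw [mem_genLocus_iff]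
  refine ⟨Xf ⊓ p ⁻¹ᵁ U.1, ⟨hx, hxU⟩, ?_⟩
  have hgen := isGen_eLoc p chart f Xf hXf hf 1 L lam hL U.1 U.2
  have hse : sv s (Xf ⊓ p ⁻¹ᵁ U.1) = eLoc p chart f Xf hXf hf 1 L lam hL U.1 U.2 := by
    apply (hL.bijective U.1 U.2 _ inf_le_right).1
    rw [lam_eLoc]
    apply twist_ext
    intro y
    rw [val_lam_sv p chart f L lam s hs U.1 U.2 _ y]
    unfold eChart
    rw [val_fsec, Localization.mk_eq_mk_iff, Localization.r_iff_exists]
    refine ⟨1, ?_⟩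
    simp
  intro W' hW'
  rw [ConcreteCategory.isIso_iff_bijective]
  have h := hgen W' hW'
  have hfun : ⇑(s.app W') = (fun r : Γ(P, W') =>
      r • res L hW' (eLoc p chart f Xf hXf hf 1 L lam hL U.1 U.2)) ∘ (ofS W') := by
    funext b
    have h1 := app_toS s W' (ofS W' b)
    rw [toS_ofS] at h1
    rw [h1, sv_res L s _ W' hW', hse]
    rfl
  rw [hfun]
  exact h.comp ⟨fun _ _ h => h, fun b => ⟨toS W' b, rfl⟩⟩

include hXf hL hs in
theorem genLocus_le (hgen : 𝒮.IsGenDegOne) : CohB1.genLocus L s ≤ Xf := by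
  intro x hx
  obtain ⟨V, hxV, hV⟩ := (mem_genLocus_iff L s x).1 hx
  obtain ⟨U, hxU⟩ := exists_affine_mem_preimage p x
  obtain ⟨y, hy⟩ := le_opensRange_emb p chart U.1 U.2 hxU
  have hy' : (RelProj.emb p chart U.1 U.2) y = x := hy
  by_contra hxf
  have hfy : fU f U.1 ∈ y.asHomogeneousIdeal := by
    by_contra h
    exact hxf (hy' ▸ mem_of_not_mem p chart f Xf hXf U.1 U.2 y h)
  obtain ⟨t, ht, hty⟩ := exists_degOne_not_mem_of_gen (𝒮.deg U.1 U.2) (hgen U.1 U.2) y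
  let W' : (Proj (𝒮.deg U.1 U.2)).Opens := Proj.basicOpen (𝒮.deg U.1 U.2) t ⊓
    (RelProj.emb p chart U.1 U.2) ⁻¹ᵁ (V ⊓ p ⁻¹ᵁ U.1)
  have hyW' : y ∈ W' := by
    refine ⟨(ProjectiveSpectrum.mem_basicOpen _ t y).mpr hty, ?_⟩
    change (RelProj.emb p chart U.1 U.2) y ∈ V ⊓ p ⁻¹ᵁ U.1
    rw [hy']
    exact ⟨hxV, hxU⟩
  let W : P.Opens := (RelProj.emb p chart U.1 U.2) ''ᵁ W'
  have hpre : (RelProj.emb p chart U.1 U.2) ⁻¹ᵁ W = W' :=
    (RelProj.emb p chart U.1 U.2).preimage_image_eq W'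
  have hWV : W ≤ V ⊓ p ⁻¹ᵁ U.1 := by
    rintro _ ⟨z, hz, rfl⟩
    exact hz.2
  have htd : t ^ d ∈ 𝒮.deg U.1 U.2 d := Groth.Agent.Lib.Helper2GrModSect.pow_mem_one ht d
  have h1mem : (1 : 𝒮.presheaf.obj (op U.1)) ∈ 𝒮.deg U.1 U.2 0 := SetLike.GradedOne.one_mem
  have hij : ((d : ℕ) : ℤ) = ((0 : ℕ) : ℤ) + (1 : ℤ) * (d : ℤ) := by simp
  have h1nin : ∀ z : ((RelProj.emb p chart U.1 U.2) ⁻¹ᵁ W : (Proj (𝒮.deg U.1 U.2)).Opens),
      (1 : 𝒮.presheaf.obj (op U.1)) ∉ z.1.asHomogeneousIdeal := fun z => GrMod.one_nin z.1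
  let τ : Γ(GrTwist.twist (𝒮.deg U.1 U.2) ((1 : ℤ) * (d : ℤ)), (RelProj.emb p chart U.1 U.2) ⁻¹ᵁ W) :=
    Groth.Agent.Lib.Helper2GrModSect.fracSec (𝒮.deg U.1 U.2) ((1 : ℤ) * (d : ℤ)) _ htd h1mem hij h1nin
  obtain ⟨ℓ, hℓ⟩ := (hL.bijective U.1 U.2 W (hWV.trans inf_le_right)).2 τ
  have hiso : IsIso (s.app W) := hV W (hWV.trans inf_le_left)
  obtain ⟨a, ha⟩ := ((ConcreteCategory.isIso_iff_bijective _).mp hiso).2 ℓ
  have ha' : ofS W a • sv s W = ℓ := by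
    rw [← app_toS, toS_ofS]
    exact ha
  have hyW : y ∈ (RelProj.emb p chart U.1 U.2) ⁻¹ᵁ W := by rw [hpre]; exact hyW'
  have key : GrTwist.val (V := (RelProj.emb p chart U.1 U.2) ⁻¹ᵁ W)
      ((lam U.1 U.2).app W (ofS W a • sv s W)) ⟨y, hyW⟩ =
      (Groth.Agent.Lib.Helper2GrModSect.funVal (𝒮.deg U.1 U.2) _
        ((RelProj.emb p chart U.1 U.2).app W (ofS W a)) y hyW).val *
      GrTwist.val (V := (RelProj.emb p chart U.1 U.2) ⁻¹ᵁ W)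
        ((lam U.1 U.2).app W (sv s W)) ⟨y, hyW⟩ := by
    rw [Scheme.Modules.Hom.app_smul, pushforward_smul]
    rfl
  rw [ha', val_lam_sv p chart f L lam s hs U.1 U.2 W ⟨y, hyW⟩] at key
  have hτ : GrTwist.val (V := (RelProj.emb p chart U.1 U.2) ⁻¹ᵁ W)
      ((lam U.1 U.2).app W ℓ) ⟨y, hyW⟩ =
      (Localization.mk (t ^ d) (⟨1, h1nin ⟨y, hyW⟩⟩ :
        y.asHomogeneousIdeal.toIdeal.primeCompl) : GrTwist.Loc (𝒮.deg U.1 U.2) y) :=
    (congrArg (fun σ : Γ(GrTwist.twist (𝒮.deg U.1 U.2) ((1 : ℤ) * (d : ℤ)),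
      (RelProj.emb p chart U.1 U.2) ⁻¹ᵁ W) => GrTwist.val σ ⟨y, hyW⟩) hℓ).trans rfl
  rw [hτ] at key
  have hunit : IsUnit (Localization.mk (t ^ d) (⟨1, h1nin ⟨y, hyW⟩⟩ :
      y.asHomogeneousIdeal.toIdeal.primeCompl) : GrTwist.Loc (𝒮.deg U.1 U.2) y) :=
    Groth.Agent.Lib.Helper2GrModSect.isUnit_mk
      (fun h => hty (y.isPrime.mem_of_pow_mem _ h)) (h1nin ⟨y, hyW⟩)
  rw [key] at hunit
  have h2 : IsUnit (Localization.mk (fU f U.1) 1 : GrTwist.Loc (𝒮.deg U.1 U.2) y) :=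
    isUnit_of_mul_isUnit_right hunit
  rw [Localization.mk_one_eq_algebraMap,
    IsLocalization.AtPrime.isUnit_to_map_iff _ y.asHomogeneousIdeal.toIdeal] at h2
  exact h2 hfy

end Groth.Agent.Lib.Helper2.RelTwistGenLocus
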