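import Groth.Agent.Lib.Helper2LowDegC
import Groth.Agent.Lib.Helper2R1RankB
import Groth.Agent.Lib.Helper2R1RankE
import Groth.Agent.Lib.Helper2R1RankG
import Groth.Agent.Lib.Helper2TopCohB
import Groth.Agent.Lib.Helper2FibH1C
import Groth.Agent.Lib.Helper2FibVanF
import Groth.Agent.Lib.Helper17LerayTop2
import Groth.Agent.Lib.Helper17FinAff
import Groth.Agent.Lib.Helper4CurveBun2
import Groth.Agent.S0002
import Groth.Agent.S0030
import Groth.Agent.S0458

/-!
# Cohomology of the structure sheaf of a fibration with `h⁰(O) = 1`, `h¹(O) = 0` on the fibres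
(helper2)

`π : X → C` proper flat of finite presentation over a field `k`, all fibres of dimension `≤ 1` with
`h⁰(X_y, O) = 1`, `h¹(X_y, O) = 0`, and `C` a Noetherian space of dimension `≤ 1`. Then
`R^q π_* O_X = 0` for `q > 0`, `dim H¹(X, O_X) = dim H¹(C, O_C)` and `H²(X, O_X) = 0`.

Namespace `Groth.Agent.Lib.Helper2.RuledA`.
-/

set_option autoImplicit false
set_option linter.style.haveILetI false
universe u
open CategoryTheory CategoryTheory.Limits AlgebraicGeometry TopologicalSpace Opposite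

namespace Groth.Agent.Lib.Helper2.RuledA

local instance (X : Scheme.{u}) : EnoughInjectives X.Modules :=
  Groth.Agent.Lib.Helper17.QCPush.enoughInjectives X

open Groth.Agent.Lib.Helper17.HHLes in
/-- an isomorphism of modules induces an `A`-linear isomorphism on cohomology. -/
theorem nonempty_linearEquiv_of_iso (A : Type u) [CommRing A] {X : Scheme.{u}}
    [X.Over (Spec (CommRingCat.of A))] {M N : X.Modules} (φ : M ⟶ N) [IsIso φ] (n : ℕ) :
    Nonempty (Coh.HH X M n ≃ₗ[A] Coh.HH X N n) := by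
  refine ⟨LinearEquiv.ofLinearMap (Canon.HHlin A φ n) (Canon.HHlin A (inv φ) n) ?_ ?_⟩
  · ext x
    have h1 := Hm_comp (inv φ) φ n x
    rw [IsIso.inv_hom_id, Hm_id] at h1
    exact h1
  · ext x
    have h1 := Hm_comp φ (inv φ) n x
    rw [IsIso.hom_inv_id, Hm_id] at h1
    exact h1

section core

variable {X C : Scheme.{u}} (π : X ⟶ C) [IsProper π] [Flat π] [LocallyOfFinitePresentation π]

/-- `R¹ π_* O_X = 0` -/
theorem isZero_R1 (hb0 : ∀ y : C, PerfAux.betti π (Coh.structureModule X) y 0 = 1)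
    (hb1 : ∀ y : C, PerfAux.betti π (Coh.structureModule X) y 1 = 0)
    (hdim : ∀ y : C, topologicalKrullDim ↥(π.fiber y) ≤ 1) :
    IsZero ((Coh.Rpush π 1).obj (Coh.structureModule X)) := by
  have hfp := Groth.Agent.Lib.Helper2.R1RankG.isFP_structureModule X
  have hfl := Groth.Agent.Lib.Helper2.R1RankG.isFlatOver_structureModule π
  have hepi := fun y => Groth.Agent.Lib.Helper2.R1RankE.epi_fibreBC_of_betti π y (hb0 y)
  have h2 : ∀ s : C, PerfAux.betti π (Coh.structureModule X) s 2 = 0 := by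
    intro s
    haveI := Groth.Agent.Lib.Helper2.TopCohB.subsingleton_fiberH_of_dim_lt π
      (Coh.structureModule X) s 1 (hdim s) 2 (by norm_num)
    exact Module.finrank_zero_of_subsingleton
  exact Groth.Agent.Lib.Helper4.CurveBun.isZero_of_rank_zero _
    (Groth.Agent.Lib.Helper2.R1RankB.isFinLocFreeOfRank_R1 π _ hfp hfl hepi h2 0 hb1)

/-- `R^q π_* O_X = 0` for `q > 0`, as abelian sheaves -/
theorem isZero_RpushAb (hb0 : ∀ y : C, PerfAux.betti π (Coh.structureModule X) y 0 = 1)
    (hb1 : ∀ y : C, PerfAux.betti π (Coh.structureModule X) y 1 = 0)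
    (hdim : ∀ y : C, topologicalKrullDim ↥(π.fiber y) ≤ 1) (q : ℕ) (hq : 0 < q) :
    IsZero ((Coh.RpushAb π q).obj (Coh.toAb (Coh.structureModule X))) := by
  haveI : Coh.IsQCoh (Coh.structureModule X) :=
    Groth.Agent.Helper18Strict.isQCoh_of_isFP _
      (Groth.Agent.Lib.Helper2.R1RankG.isFP_structureModule X)
  by_cases h1 : q = 1
  · subst h1
    obtain ⟨e⟩ := Groth.Agent.Lib.Helper23.ModAbBridge.nonempty_toAb_Rpush_iso π
      (Coh.structureModule X) 1
    refine IsZero.of_iso ?_ e.symm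
    exact (SheafOfModules.toSheaf C.ringCatSheaf).map_isZero (isZero_R1 π hb0 hb1 hdim)
  · exact Groth.Agent.Lib.Helper2.FibVanF.isZero_RpushAb π 1 hdim _ q (by omega)

end core

section main

variable (k : Type u) [Field k] {X C : Scheme.{u}} [X.Over (Spec (CommRingCat.of k))]
  [C.Over (Spec (CommRingCat.of k))]
  [IsProper (X ↘ Spec (CommRingCat.of k))] [IsProper (C ↘ Spec (CommRingCat.of k))]
  (π : X ⟶ C) (hπ : π ≫ (C ↘ Spec (CommRingCat.of k)) = X ↘ Spec (CommRingCat.of k))
  [IsProper π] [Flat π] [LocallyOfFinitePresentation π]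

include hπ in
theorem finrank_H1 [NoetherianSpace C] (hC : topologicalKrullDim C ≤ 1)
    (hb0 : ∀ y : C, PerfAux.betti π (Coh.structureModule X) y 0 = 1)
    (hb1 : ∀ y : C, PerfAux.betti π (Coh.structureModule X) y 1 = 0)
    (hdim : ∀ y : C, topologicalKrullDim ↥(π.fiber y) ≤ 1) :
    Module.finrank k (Coh.HH X (Coh.structureModule X) 1) =
      Module.finrank k (Coh.HH C (Coh.structureModule C) 1) := by
  haveI hunit : IsIso (ClSub.unitToPush π) :=
    Groth.Agent.Lib.Helper2.R1RankG.isIso_unitToPush π hb0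
  have h2 : Subsingleton (Coh.HH C ((Scheme.Modules.pushforward π).obj (Coh.structureModule X)) 2) :=
    Groth.Agent.S0458.result (X := C.carrier) 1 hC _ 2 (by norm_num)
  have hlen := Groth.Agent.Lib.Helper2.LowDegC.length_eq π (Coh.structureModule X) k hπ h2
  obtain ⟨e1⟩ := nonempty_linearEquiv_of_iso k (ClSub.unitToPush π) 1
  have hz := isZero_R1 π hb0 hb1 hdim
  have hsub : Subsingleton (Coh.HH C ((Coh.Rpush π 1).obj (Coh.structureModule X)) 0) := by
    refine ⟨fun a b => ?_⟩
    have h0 : ∀ x : Coh.HH C ((Coh.Rpush π 1).obj (Coh.structureModule X)) 0, x = 0 := fun x =>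
      Groth.Agent.Lib.Helper17.FinAff.ext_eq_zero_of_tgt_isZero
        ((SheafOfModules.toSheaf C.ringCatSheaf).map_isZero hz) x
    rw [h0 a, h0 b]
  rw [Module.length_eq_zero_iff.2 hsub, add_zero, ← LinearEquiv.length_eq e1] at hlen
  have hXcoh : Coh.IsCoh (Coh.structureModule X) :=
    Groth.Agent.Lib.Helper2.FibH1C.isCoh_structureModule X
  have hCcoh : Coh.IsCoh (Coh.structureModule C) :=
    Groth.Agent.Lib.Helper2.FibH1C.isCoh_structureModule C
  haveI : Module.Finite k (Coh.HH X (Coh.structureModule X) 1) :=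
    Groth.Agent.S0002.result k X _ hXcoh 1
  haveI : Module.Finite k (Coh.HH C (Coh.structureModule C) 1) :=
    Groth.Agent.S0002.result k C _ hCcoh 1
  rw [Module.length_eq_finrank, Module.length_eq_finrank] at hlen
  exact_mod_cast hlen

end main

open Groth.Agent.Lib.Helper17 Groth.Agent.Lib.Helper21 in
/-- `H²(X, O_X) = 0` -/
theorem subsingleton_H2 {X C : Scheme.{u}} (π : X ⟶ C) [IsProper π] [Flat π]
    [LocallyOfFinitePresentation π] [NoetherianSpace C] (hC : topologicalKrullDim C ≤ 1)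
    (hb0 : ∀ y : C, PerfAux.betti π (Coh.structureModule X) y 0 = 1)
    (hb1 : ∀ y : C, PerfAux.betti π (Coh.structureModule X) y 1 = 0)
    (hdim : ∀ y : C, topologicalKrullDim ↥(π.fiber y) ≤ 1) :
    Subsingleton (Coh.HH X (Coh.structureModule X) 2) := by
  obtain ⟨E, a, hfin, _, hE2⟩ := Groth.Agent.Lib.Helper17.LerayTop.leray π (Coh.structureModule X)
  have hz : IsZero (AddCommGrpCat.of PUnit.{u + 1}) := AddCommGrpCat.isZero_of_subsingleton _
  have hpage : ∀ p q : ℤ, q ≠ 0 → IsZero ((E.page 2 le_rfl).X (p, q)) := by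
    intro p q hq
    obtain ⟨e⟩ := hE2 p q
    refine IsZero.of_iso ?_ e
    by_cases h : 0 ≤ p ∧ 0 ≤ q
    · rw [if_pos h]
      have hzq := isZero_RpushAb π hb0 hb1 hdim q.toNat (by omega)
      haveI : Subsingleton (Abelian.Ext.{u} (Groth.Agent.Lib.Helper17.LerayTop.Zc (TopCat.of C))
          ((Coh.RpushAb π q.toNat).obj (Coh.toAb (Coh.structureModule X))) p.toNat) :=
        ⟨fun a b => by
          rw [Groth.Agent.Lib.Helper17.FinAff.ext_eq_zero_of_tgt_isZero hzq a,
            Groth.Agent.Lib.Helper17.FinAff.ext_eq_zero_of_tgt_isZero hzq b]⟩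
      exact AddCommGrpCat.isZero_of_subsingleton _
    · rw [if_neg h]; exact hz
  obtain ⟨e⟩ := Groth.Agent.Lib.Helper17.SSColumn.nonempty_iso_of_row_zero E a hfin hpage 2
  obtain ⟨e2⟩ := hE2 2 0
  rw [if_pos ⟨by norm_num, le_rfl⟩] at e2
  rw [if_pos (by norm_num)] at e
  have h := Groth.Agent.S0458.result (X := C.carrier) 1 hC
    ((Coh.RpushAb π (0 : ℤ).toNat).obj (Coh.toAb (Coh.structureModule X))) (2 : ℤ).toNat
    (by norm_num)
  haveI : Subsingleton (Abelian.Ext.{u} (Groth.Agent.Lib.Helper17.LerayTop.Zc (TopCat.of C))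
      ((Coh.RpushAb π (0 : ℤ).toNat).obj (Coh.toAb (Coh.structureModule X))) (2 : ℤ).toNat) := h
  have h3 := (e ≪≫ e2).addCommGroupIsoToAddEquiv.toEquiv.subsingleton
  exact h3

end Groth.Agent.Lib.Helper2.RuledA
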