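import Groth.Agent.Lib.Helper2RuledA
import Groth.Agent.Lib.Helper2SurfFibB
import Groth.Agent.Lib.Helper2GrauertG
import Groth.Agent.Lib.Helper2PicPnA
import Groth.Agent.Lib.Helper10WeilPt
import Groth.Agent.Lib.Helper27RelProj
import Groth.Agent.Lib.Helper27ProjSpaceIrr
import Groth.Agent.Lib.Helper27ProjSpaceFibres
import Groth.Agent.Lib.Helper21SemicontB
import Groth.Agent.S0023
import Groth.Agent.S0403
import Groth.Agent.S10829

/-!
# Fibrations over a curve whose closed fibres are projective lines: Betti numbers of all fibres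
(helper2)

Namespace `Groth.Agent.Lib.Helper2.RuledB`.
-/

set_option autoImplicit false
set_option linter.style.haveILetI false
universe u
open CategoryTheory CategoryTheory.Limits AlgebraicGeometry TopologicalSpace Opposite

namespace Groth.Agent.Lib.Helper2.RuledB

/-- projective space over a domain is reduced -/
theorem isReduced_projSpace (n : ℕ) (R : Type u) [CommRing R] [IsDomain R] :
    IsReduced (CohB1.ProjSpace n R) :=
  Groth.Agent.Lib.Helper27RelProj.isReduced_proj (CohB1.polyGrading n R)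
    (fun _ _ hx => hx.eq_zero)

section

variable {k : Type u} [Field k] [IsAlgClosed k] {X C : Scheme.{u}} (π : X ⟶ C) [IsProper π]
  [Flat π] [LocallyOfFinitePresentation π] (q : C ⟶ Spec (CommRingCat.of k)) [LocallyOfFiniteType q]

omit [Flat π] [LocallyOfFinitePresentation π] in
include q in
/-- the fibre over a closed point, when a projective line -/
theorem betti_closed (y : C) (hy : IsClosed ({y} : Set C))
    (e : π.fiber y ≅ CohB1.ProjSpace 1 k) :
    PerfAux.betti π (Coh.structureModule X) y 0 = 1 ∧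
      PerfAux.betti π (Coh.structureModule X) y 1 = 0 ∧
      topologicalKrullDim ↥(π.fiber y) ≤ 1 := by
  haveI : IsAlgClosed (C.residueField y) := by
    have hb := Groth.Agent.Lib.Helper10.WeilPt.bijective_resHom q y hy
    exact IsAlgClosed.of_ringEquiv (k := k) (C.residueField y) (RingEquiv.ofBijective _ hb)
  haveI : IsReduced (CohB1.ProjSpace 1 k) := isReduced_projSpace 1 k
  haveI : IsReduced (π.fiber y) := isReduced_of_isOpenImmersion e.hom
  haveI : IrreducibleSpace ↥(CohB1.ProjSpace 1 k) :=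
    Groth.Agent.Lib.Helper27ProjSpaceIrr.irreducibleSpace_projSpace 1 k
  haveI : ConnectedSpace ↥(π.fiber y) :=
    e.inv.homeomorph.surjective.connectedSpace e.inv.homeomorph.continuous
  refine ⟨Groth.Agent.Lib.Helper2.SurfFibB.betti_zero_eq_one π y, ?_, ?_⟩
  · apply Groth.Agent.Lib.Helper2.GrauertG.betti_one_eq_zero
    haveI : IsProper (CohB1.ProjSpace.toSpec 1 k) :=
      Groth.Agent.Lib.Helper27ProjSpaceFibres.isProper_projSpace_toSpec 1 k
    exact Groth.Agent.Lib.Helper2.PicPnA.subsingleton_HH_structure_of_isIso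
      (CohB1.ProjSpace.toSpec 1 k) e.hom 1 (Groth.Agent.S0023.result 1 k 1 one_pos)
  · have h := IsHomeomorph.topologicalKrullDim_eq _ e.hom.homeomorph.isHomeomorph
    have h1 : topologicalKrullDim ↥(CohB1.ProjSpace 1 k) = ((1 : ℕ) : WithBot ℕ∞) :=
      Groth.Agent.S10829.result k 1
    change topologicalKrullDim ↥(π.fiber y) = topologicalKrullDim ↥(CohB1.ProjSpace 1 k) at h
    rw [h, h1]
    rfl

include q in
/-- all fibres -/
theorem betti_all [CompactSpace ↥C] (hsurj : Function.Surjective π)
    (hfib : ∀ y : C, IsClosed ({y} : Set C) → Nonempty (π.fiber y ≅ CohB1.ProjSpace 1 k)) (y : C) :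
    PerfAux.betti π (Coh.structureModule X) y 0 = 1 ∧
      PerfAux.betti π (Coh.structureModule X) y 1 = 0 ∧
      topologicalKrullDim ↥(π.fiber y) ≤ 1 := by
  have hfp := Groth.Agent.Lib.Helper2.SurfFibB.isFP_structureModule X
  have hfl := Groth.Agent.Lib.Helper2.SurfFibB.isFlatOver_structureModule π
  obtain ⟨s, hs, hscl⟩ := (isClosed_closure (s := ({y} : Set C))).exists_closed_singleton
    ⟨y, subset_closure rfl⟩
  have hsp : y ⤳ s := specializes_iff_mem_closure.2 hs
  obtain ⟨e⟩ := hfib s hscl
  obtain ⟨h0, h1, h2⟩ := betti_closed π q s hscl e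
  have ho0 := Groth.Agent.Lib.Helper21.Semicont.isOpen_betti_lt π _ hfp hfl 0 2
  have ho1 := Groth.Agent.Lib.Helper21.Semicont.isOpen_betti_lt π _ hfp hfl 1 1
  have ho2 := Groth.Agent.S0403.result π (1 : WithBot ℕ∞)
  have hy0 : PerfAux.betti π (Coh.structureModule X) y 0 < 2 :=
    hsp.mem_open ho0 (by show PerfAux.betti π _ s 0 < 2; rw [h0]; norm_num)
  have hy1 : PerfAux.betti π (Coh.structureModule X) y 1 < 1 :=
    hsp.mem_open ho1 (by show PerfAux.betti π _ s 1 < 1; rw [h1]; norm_num)
  have hy2 : topologicalKrullDim ↥(π.fiber y) ≤ 1 := hsp.mem_open ho2 h2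
  haveI : Nonempty ↥(π.fiber y) := by
    obtain ⟨x, hx⟩ := hsurj y
    have hx' : x ∈ Set.range (π.fiberι y) := by
      rw [Scheme.Hom.range_fiberι]
      exact hx
    obtain ⟨z, -⟩ := hx'
    exact ⟨z⟩
  have hne := Groth.Agent.Lib.Helper2.SurfFibB.betti_zero_ne_zero π y
  exact ⟨by omega, by omega, hy2⟩

end

end Groth.Agent.Lib.Helper2.RuledB
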