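import Mathlib
import Groth.Agent.Lib.Helper2FlatOver

set_option autoImplicit false
universe u
open CategoryTheory AlgebraicGeometry TopologicalSpace

namespace Groth.Agent.Lib.Helper2.StalkFlat

open Groth.Agent.Lib.Helper2

variable {X S : Scheme.{u}}

/-- If `f` is flat at every point of the affine open `U ≤ f⁻¹V` (`V` affine), then `Γ(S,V) → Γ(X,U)`
is flat. -/
theorem flat_appLE_of_flat_stalkMap (f : X ⟶ S) {U : X.Opens} (hU : IsAffineOpen U)
    {V : S.Opens} (hV : IsAffineOpen V) (e : U ≤ f ⁻¹ᵁ V)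
    (H : ∀ x : X, x ∈ U → (f.stalkMap x).hom.Flat) : (f.appLE V U e).hom.Flat := by
  letI : Algebra Γ(S, V) Γ(X, U) := (f.appLE V U e).hom.toAlgebra
  change Module.Flat Γ(S, V) Γ(X, U)
  let pt : ∀ (P : Ideal Γ(X, U)) [P.IsMaximal], X := fun P hP => hU.fromSpec ⟨P, hP.isPrime⟩
  have hpt : ∀ (P : Ideal Γ(X, U)) [P.IsMaximal], pt P ∈ U := fun P _ => QCoh.fromSpec_mem hU _
  letI i0 : ∀ (P : Ideal Γ(X, U)) [P.IsMaximal], Algebra Γ(X, U) (X.presheaf.stalk (pt P)) :=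
    fun P _ => X.presheaf.algebra_section_stalk ⟨pt P, hpt P⟩
  letI i1 : ∀ (P : Ideal Γ(X, U)) [P.IsMaximal], Module Γ(X, U) (X.presheaf.stalk (pt P)) :=
    fun P _ => (i0 P).toModule
  letI i2 : ∀ (P : Ideal Γ(X, U)) [P.IsMaximal], Module Γ(S, V) (X.presheaf.stalk (pt P)) :=
    fun P _ => Module.compHom _ ((f.stalkMap (pt P)).hom.comp (S.presheaf.germ V (f (pt P)) (e (hpt P))).hom)
  haveI i3 : ∀ (P : Ideal Γ(X, U)) [P.IsMaximal],
      IsScalarTower Γ(S, V) Γ(X, U) (X.presheaf.stalk (pt P)) := by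
    intro P _
    refine ⟨fun a b y => ?_⟩
    change X.presheaf.germ U (pt P) (hpt P) ((f.appLE V U e).hom a * b) * y =
      (f.stalkMap (pt P)).hom (S.presheaf.germ V (f (pt P)) (e (hpt P)) a) *
        (X.presheaf.germ U (pt P) (hpt P) b * y)
    rw [map_mul, mul_assoc, FlatOver.stalkMap_germ_eq f e (pt P) (hpt P) a]
  haveI i4 : ∀ (P : Ideal Γ(X, U)) [P.IsMaximal],
      IsLocalizedModule.AtPrime P (Algebra.linearMap Γ(X, U) (X.presheaf.stalk (pt P))) := by
    intro P hP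
    have h := hU.isLocalization_stalk ⟨pt P, hpt P⟩
    have h2 : hU.primeIdealOf ⟨pt P, hpt P⟩ = ⟨P, hP.isPrime⟩ := QCoh.primeIdealOf_fromSpec hU _
    rw [h2] at h
    exact (isLocalizedModule_iff_isLocalization' P.primeCompl _).2 h
  refine @Module.flat_of_isLocalized_maximal Γ(S, V) Γ(X, U) _ _ _ Γ(X, U) _ _ _ _
    (fun P _ => X.presheaf.stalk (pt P)) (fun P _ => inferInstance) i2 i1 i3
    (fun P _ => Algebra.linearMap Γ(X, U) (X.presheaf.stalk (pt P))) i4 (fun P _ => ?_)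
  -- flatness of the stalk over `Γ(S,V)`
  have hfl := H (pt P) (hpt P)
  letI := S.presheaf.algebra_section_stalk ⟨f (pt P), e (hpt P)⟩
  haveI := hV.isLocalization_stalk ⟨f (pt P), e (hpt P)⟩
  letI := (f.stalkMap (pt P)).hom.toAlgebra
  haveI : IsScalarTower Γ(S, V) (S.presheaf.stalk (f (pt P))) (X.presheaf.stalk (pt P)) := by
    refine ⟨fun a b y => ?_⟩
    change (f.stalkMap (pt P)).hom (S.presheaf.germ V (f (pt P)) (e (hpt P)) a * b) * y =
      (f.stalkMap (pt P)).hom (S.presheaf.germ V (f (pt P)) (e (hpt P)) a) *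
        ((f.stalkMap (pt P)).hom b * y)
    rw [map_mul, mul_assoc]
  exact (Module.flat_iff_of_isLocalization (S.presheaf.stalk (f (pt P)))
    (hV.primeIdealOf ⟨f (pt P), e (hpt P)⟩).asIdeal.primeCompl (X.presheaf.stalk (pt P))).1 hfl

/-- Flatness of `Γ(S,V) → Γ(X,U)` gives flatness of `f` at the points of `U`. -/
theorem flat_stalkMap_of_flat_appLE (f : X ⟶ S) {U : X.Opens} (hU : IsAffineOpen U)
    {V : S.Opens} (hV : IsAffineOpen V) (e : U ≤ f ⁻¹ᵁ V) (H : (f.appLE V U e).hom.Flat)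
    (x : X) (hx : x ∈ U) : (f.stalkMap x).hom.Flat := by
  letI algAB : Algebra Γ(S, V) Γ(X, U) := (f.appLE V U e).hom.toAlgebra
  haveI : Module.Flat Γ(S, V) Γ(X, U) := H
  letI algBB' : Algebra Γ(X, U) (X.presheaf.stalk x) := X.presheaf.algebra_section_stalk ⟨x, hx⟩
  haveI locB' := hU.isLocalization_stalk ⟨x, hx⟩
  letI algAB' : Algebra Γ(S, V) (X.presheaf.stalk x) :=
    ((algebraMap Γ(X, U) (X.presheaf.stalk x)).comp (algebraMap Γ(S, V) Γ(X, U))).toAlgebra
  haveI : IsScalarTower Γ(S, V) Γ(X, U) (X.presheaf.stalk x) :=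
    IsScalarTower.of_algebraMap_eq (fun _ => rfl)
  have q3 : Module.Flat Γ(S, V) (X.presheaf.stalk x) :=
    FlatOver.flat_of_isLocalizedModule_tower (R := Γ(S, V))
      (hU.primeIdealOf ⟨x, hx⟩).asIdeal.primeCompl (Algebra.linearMap Γ(X, U) (X.presheaf.stalk x))
  letI := S.presheaf.algebra_section_stalk ⟨f x, e hx⟩
  haveI := hV.isLocalization_stalk ⟨f x, e hx⟩
  letI := (f.stalkMap x).hom.toAlgebra
  haveI : IsScalarTower Γ(S, V) (S.presheaf.stalk (f x)) (X.presheaf.stalk x) := by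
    refine IsScalarTower.of_algebraMap_eq (fun r => ?_)
    exact (FlatOver.stalkMap_germ_eq f e x hx r).symm
  exact (Module.flat_iff_of_isLocalization (S.presheaf.stalk (f x))
    (hV.primeIdealOf ⟨f x, e hx⟩).asIdeal.primeCompl (X.presheaf.stalk x)).2 q3

end Groth.Agent.Lib.Helper2.StalkFlat
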