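import Mathlib
import Groth.Prelude.Def_HTop
import Groth.Agent.Lib.Helper2ValSpec
/-! Helper2VSingle: characterizations of one-member V coverings (S7476). -/
set_option autoImplicit false
universe w u
open CategoryTheory CategoryTheory.Limits AlgebraicGeometry Opposite IsLocalRing

namespace Groth.Agent.Lib.Helper2.VSingle

open Groth.Agent.Lib.Helper2.ValSpec

theorem hasValLift_of_isVCover {X Y : Scheme.{u}} (f : X ⟶ Y)
    (h : HTop.IsVCover (PreZeroHypercover.singleton.{w} f)) :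
    HTop.HasValLift (PreZeroHypercover.singleton.{w} f) := by
  intro V _ _ g
  obtain ⟨_, ⟨U₀, hU, rfl⟩, hyU, -⟩ :=
    Y.isBasis_affineOpens.exists_subset_of_mem_open (Set.mem_univ (g (closedPoint V))) isOpen_univ
  obtain ⟨U, rfl⟩ : ∃ U : Y.Opens, U = U₀ := ⟨U₀, rfl⟩
  have hrange : Set.range g ⊆ Set.range (U.ι) := by
    rintro _ ⟨p, rfl⟩
    rw [Scheme.Opens.range_ι]
    exact ((specializes_closedPoint p).map g.continuous).mem_open U.2 hyU
  let gU : Spec V ⟶ (U : Scheme.{u}) := IsOpenImmersion.lift U.ι g hrange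
  have hgU : gU ≫ U.ι = g := IsOpenImmersion.lift_fac _ _ _
  obtain ⟨F, hF, href⟩ := h ⟨U, hU⟩
  obtain ⟨W, hW1, hW2, φ, hext, j, g'', hg''⟩ := hF.lift V gU
  obtain ⟨i, k, hk⟩ := href j
  refine ⟨W, hW1, hW2, φ, hext, i, g'' ≫ k, ?_⟩
  rw [Category.assoc, hk, ← Category.assoc, hg'', Category.assoc]
  congr 1

theorem isVCover_of_hasValLift {X Y : Scheme.{u}} (f : X ⟶ Y) [QuasiCompact f]
    (h : HTop.HasValLift (PreZeroHypercover.singleton.{w} f)) :
    HTop.IsVCover (PreZeroHypercover.singleton.{w} f) := by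
  intro U
  haveI : IsAffine ((U : Y.Opens) : Scheme.{u}) := U.2
  have hZ : IsCompact ((f ⁻¹ᵁ (U : Y.Opens) : X.Opens) : Set X) :=
    QuasiCompact.isCompact_preimage (f := f) _ (U : Y.Opens).isOpen U.2.isCompact
  obtain ⟨s, hs, e⟩ := isCompact_iff_finite_and_eq_biUnion_affineOpens.mp hZ
  let t := hs.toFinset
  let eq := t.equivFin
  have hle : ∀ k : Fin t.card, ((eq.symm k : t).1 : X.Opens) ≤ f ⁻¹ᵁ (U : Y.Opens) := by
    intro k
    rw [e]
    have hk : (eq.symm k : t).1 ∈ s := hs.mem_toFinset.mp (eq.symm k).2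
    exact le_iSup₂ (f := fun i (_ : i ∈ s) => (i : X.Opens)) _ hk
  let F : PreZeroHypercover.{0} ((U : Y.Opens) : Scheme.{u}) :=
    { I₀ := Fin t.card
      X := fun k => (((eq.symm k : t).1 : X.Opens) : Scheme.{u})
      f := fun k => X.homOfLE (hle k) ≫ (f ∣_ (U : Y.Opens)) }
  refine ⟨F, ⟨inferInstance, ?_, fun k => ?_, ?_⟩, ?_⟩
  · change Finite (Fin t.card); infer_instance
  · exact (eq.symm k : t).1.2
  · intro V _ _ g
    obtain ⟨W, hW1, hW2, φ, hext, j, g'₀, hg'₀⟩ := h V (g ≫ (U : Y.Opens).ι)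
    obtain ⟨g', hg'e⟩ : ∃ g' : Spec W ⟶ X, g' = g'₀ := ⟨g'₀, rfl⟩
    have hg' : g' ≫ f = Spec.map φ ≫ g ≫ (U : Y.Opens).ι := by rw [hg'e]; exact hg'₀
    clear hg'₀ hg'e g'₀
    -- the closed point lands in some member
    have hmem : ∀ p : Spec W, g' p ∈ (f ⁻¹ᵁ (U : Y.Opens) : X.Opens) := by
      intro p
      change f (g' p) ∈ (U : Y.Opens)
      rw [← Scheme.Hom.comp_apply, hg']
      simp only [Scheme.Hom.comp_apply]
      have h2 : (U : Y.Opens).ι (g (Spec.map φ p)) ∈ Set.range (U : Y.Opens).ι := ⟨_, rfl⟩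
      rw [Scheme.Opens.range_ι (U : Y.Opens)] at h2
      exact h2
    have hc := hmem (closedPoint W)
    have hc' : g' (closedPoint W) ∈ (⨆ i ∈ s, (i : X.Opens) : X.Opens) := by rw [← e]; exact hc
    simp only [TopologicalSpace.Opens.mem_iSup] at hc'
    obtain ⟨i, hi, hci⟩ := hc'
    have hit : i ∈ t := hs.mem_toFinset.mpr hi
    have hrange : Set.range g' ⊆ Set.range (i : X.Opens).ι := by
      rintro _ ⟨p, rfl⟩
      rw [Scheme.Opens.range_ι]
      exact ((specializes_closedPoint p).map g'.continuous).mem_open (i : X.Opens).2 hci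
    have hki : ((eq.symm (eq ⟨i, hit⟩) : t).1 : X.Opens) = (i : X.Opens) := by
      rw [Equiv.symm_apply_apply]
    have hrange' : Set.range g' ⊆ Set.range ((eq.symm (eq ⟨i, hit⟩) : t).1 : X.Opens).ι := by
      rw [hki]; exact hrange
    refine ⟨W, hW1, hW2, φ, hext, eq ⟨i, hit⟩, IsOpenImmersion.lift _ g' hrange', ?_⟩
    rw [← cancel_mono (U : Y.Opens).ι]
    change (IsOpenImmersion.lift _ g' hrange' ≫ X.homOfLE (hle _) ≫ (f ∣_ (U : Y.Opens))) ≫
      (U : Y.Opens).ι = (Spec.map φ ≫ g) ≫ (U : Y.Opens).ι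
    rw [Category.assoc, Category.assoc, morphismRestrict_ι, Scheme.homOfLE_ι_assoc,
      IsOpenImmersion.lift_fac_assoc, hg', Category.assoc]
  · intro k
    refine ⟨PUnit.unit, ((eq.symm k : t).1 : X.Opens).ι, ?_⟩
    change _ ≫ f = (X.homOfLE (hle k) ≫ (f ∣_ (U : Y.Opens))) ≫ (U : Y.Opens).ι
    rw [Category.assoc, morphismRestrict_ι, Scheme.homOfLE_ι_assoc]

theorem specLift_of_hasValLift {X Y : Scheme.{u}} (f : X ⟶ Y)
    (h : HTop.HasValLift (PreZeroHypercover.singleton.{w} f))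
    (Z : Scheme.{u}) (g : Z ⟶ Y) (z' z : Z) (hsp : z' ⤳ z) :
    ∃ w' w : ↑(pullback g f), w' ⤳ w ∧ pullback.fst g f w' = z' ∧ pullback.fst g f w = z := by
  obtain ⟨V₀, hV1, hV2, k, hc, hg⟩ := exists_valRing_of_specializes z' z hsp
  obtain ⟨W, hW1, hW2, φ, ⟨hinj, hloc⟩, j, g'₀, hg'₀⟩ := h V₀ (k ≫ g)
  obtain ⟨g', hg'e⟩ : ∃ g' : Spec W ⟶ X, g' = g'₀ := ⟨g'₀, rfl⟩
  have hg' : g' ≫ f = Spec.map φ ≫ k ≫ g := by rw [hg'e]; exact hg'₀
  clear hg'₀ hg'e g'₀
  let l : Spec W ⟶ pullback g f := pullback.lift (Spec.map φ ≫ k) g' (by rw [Category.assoc, hg'])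
  have hl : l ≫ pullback.fst g f = Spec.map φ ≫ k := pullback.lift_fst _ _ _
  refine ⟨l (⟨⊥, Ideal.isPrime_bot⟩ : PrimeSpectrum W), l (closedPoint W),
    (specializes_closedPoint _).map l.continuous, ?_, ?_⟩
  · rw [← Scheme.Hom.comp_apply, hl, Scheme.Hom.comp_apply]
    have e : Spec.map φ (⟨⊥, Ideal.isPrime_bot⟩ : PrimeSpectrum W) =
        (⟨⊥, Ideal.isPrime_bot⟩ : PrimeSpectrum V₀) := by
      apply PrimeSpectrum.ext
      change Ideal.comap φ.hom ⊥ = ⊥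
      rw [← RingHom.ker_eq_comap_bot]
      exact (RingHom.injective_iff_ker_eq_bot _).mp hinj
    rw [e, hg]
  · rw [← Scheme.Hom.comp_apply, hl, Scheme.Hom.comp_apply]
    have e : Spec.map φ (closedPoint W) = closedPoint V₀ :=
      (isLocalHom_iff_comap_closedPoint φ.hom).mp hloc
    rw [e, hc]

theorem hasValLift_of_specLift {X Y : Scheme.{u}} (f : X ⟶ Y)
    (h : ∀ (Z : Scheme.{u}) (g : Z ⟶ Y) (z' z : Z), z' ⤳ z →
      ∃ w' w : ↑(pullback g f), w' ⤳ w ∧ pullback.fst g f w' = z' ∧ pullback.fst g f w = z) :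
    HTop.HasValLift (PreZeroHypercover.singleton.{w} f) := by
  intro V _ _ g
  obtain ⟨w', w, hsp, hw', hw⟩ := h (Spec V) g (⟨⊥, Ideal.isPrime_bot⟩ : PrimeSpectrum V)
    (closedPoint V) (specializes_closedPoint _)
  obtain ⟨W, hW1, hW2, φ, hext, k, hk⟩ := exists_ext_of_specializes (pullback.fst g f) w' w hsp hw hw'
  refine ⟨W, hW1, hW2, φ, hext, PUnit.unit, k ≫ pullback.snd g f, ?_⟩
  change (k ≫ pullback.snd g f) ≫ f = Spec.map φ ≫ g
  rw [Category.assoc, ← pullback.condition, ← Category.assoc, hk]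

universe w₁ w₂ w₃

theorem hasValLift_univ {X Y : Scheme.{u}} (f : X ⟶ Y)
    (h : HTop.HasValLift (PreZeroHypercover.singleton.{w₁} f)) :
    HTop.HasValLift (PreZeroHypercover.singleton.{w₂} f) := by
  intro V _ _ g
  obtain ⟨W, a, b, φ, hext, j, g', hg'⟩ := h V g
  exact ⟨W, a, b, φ, hext, PUnit.unit, g', hg'⟩

theorem main {X Y : Scheme.{u}} (f : X ⟶ Y) [QuasiCompact f] :
    (HTop.IsVCover (PreZeroHypercover.singleton.{w₁} f) ↔
        HTop.HasValLift (PreZeroHypercover.singleton.{w₂} f)) ∧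
      (HTop.HasValLift (PreZeroHypercover.singleton.{w₃} f) ↔
        ∀ (Z : Scheme.{u}) (g : Z ⟶ Y) (z' z : Z), z' ⤳ z →
          ∃ w' w : ↑(pullback g f), w' ⤳ w ∧ pullback.fst g f w' = z' ∧ pullback.fst g f w = z) :=
  ⟨⟨fun h => hasValLift_univ f (hasValLift_of_isVCover f h),
      fun h => isVCover_of_hasValLift f (hasValLift_univ f h)⟩,
    ⟨specLift_of_hasValLift f, hasValLift_of_specLift f⟩⟩

end Groth.Agent.Lib.Helper2.VSingle
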