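import Mathlib
import Groth.Prelude.Def_HTop
import Groth.Prelude.Def_SGA1
import Groth.Agent.Lib.Helper2SubtrNoeth
import Groth.Agent.Lib.Helper2HSigma
import Groth.Agent.Lib.Helper2VSingle
import Groth.Agent.Lib.Helper2VSubm
/-! Helper2SubtrSigma: over a Noetherian scheme a finite family of quasi-compact finite type
morphisms is an h covering iff its coproduct morphism is universally submersive (S8977). -/
set_option autoImplicit false
universe w u
open CategoryTheory CategoryTheory.Limits AlgebraicGeometry IsLocalRing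

namespace Groth.Agent.Lib.Helper2.SubtrSigma

theorem quasiCompact_sigmaDesc {X : Scheme.{u}} {ι : Type u} [Finite ι] (Z : ι → Scheme.{u})
    (f : ∀ i, Z i ⟶ X) [∀ i, QuasiCompact (f i)] : QuasiCompact (Sigma.desc f) := by
  constructor
  intro U hU hUc
  have hdesc : ∀ (i : ι) (y : Z i), (Sigma.desc f) (Sigma.ι Z i y) = f i y := by
    intro i y
    rw [← Scheme.Hom.comp_apply, Sigma.ι_desc]
  have heq : (Sigma.desc f) ⁻¹' U = ⋃ i, (Sigma.ι Z i) '' ((f i) ⁻¹' U) := by
    ext x
    constructor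
    · intro hx
      obtain ⟨i, y, rfl⟩ := (sigmaOpenCover Z).exists_eq x
      refine Set.mem_iUnion.mpr ⟨i, y, ?_, rfl⟩
      change f i y ∈ U
      rw [← hdesc]
      exact hx
    · intro hx
      obtain ⟨i, y, hy, rfl⟩ := Set.mem_iUnion.mp hx
      change (Sigma.desc f) (Sigma.ι Z i y) ∈ U
      rw [hdesc]
      exact hy
  rw [heq]
  exact isCompact_iUnion fun i =>
    (QuasiCompact.isCompact_preimage (f := f i) U hU hUc).image (Sigma.ι Z i).continuous

theorem hasValLift_of_univSSubtrusive {X Y : Scheme.{u}} (f : X ⟶ Y)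
    (hf : Subtr.UnivSSubtrusive f) :
    HTop.HasValLift (PreZeroHypercover.singleton.{w} f) := by
  intro V _ _ g
  obtain ⟨V', _, _, _, a, b, hb, hab⟩ :=
    (Groth.Agent.Lib.Helper10.SubtrVal.main2 f).mp hf ↑V g
  let φ : V ⟶ CommRingCat.of V' := Spec.preimage b
  have hφ : Spec.map φ = b := Spec.map_preimage b
  have hsurj : Function.Surjective (PrimeSpectrum.comap φ.hom) := by
    have := hb.surj
    rw [← hφ] at this
    exact this
  obtain ⟨hinj, hloc⟩ :=
    Groth.Agent.Lib.Helper2.SubtrNoeth.injective_and_isLocalHom_of_comap_surjective φ.hom hsurj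
  refine ⟨CommRingCat.of V', inferInstance, inferInstance, φ, ⟨hinj, hloc⟩, PUnit.unit, a, ?_⟩
  change a ≫ f = Spec.map φ ≫ g
  rw [hφ, hab]

theorem main {X : Scheme.{u}} [IsNoetherian X] (E : PreZeroHypercover.{u} X) [Finite E.I₀]
    [∀ i, LocallyOfFiniteType (E.f i)] [∀ i, QuasiCompact (E.f i)] :
    SGA1.UnivSubmersive (Sigma.desc E.f) ↔ HTop.IsHCover E := by
  haveI : QuasiCompact (Sigma.desc E.f) := quasiCompact_sigmaDesc E.X E.f
  constructor
  · intro h
    refine ⟨fun i => inferInstance, ?_⟩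
    have h1 : Subtr.UnivSSubtrusive (Sigma.desc E.f) :=
      (Groth.Agent.Lib.Helper2.SubtrNoeth.univSubmersive_iff_univSSubtrusive _).mp h
    have h2 := hasValLift_of_univSSubtrusive.{u} (Sigma.desc E.f) h1
    have h3 := Groth.Agent.Lib.Helper2.VSingle.isVCover_of_hasValLift (Sigma.desc E.f) h2
    exact (Groth.Agent.Lib.Helper2.HSigma.isVCover_iff_singleton E).mpr h3
  · rintro ⟨_, hV⟩
    exact Groth.Agent.Lib.Helper2.VSubm.univSubmersive_of_isVCover E hV

end Groth.Agent.Lib.Helper2.SubtrSigma
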