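import Mathlib
import Groth.Prelude.Def_W4c3tautjacobianRel

/-!
# The sl₂-computation in the formal relation ring of a genus (helper2)

`F` lowers the first degree by two, multiplication by the variable `x 2 0` raises it by two, and
their commutator is `g - (first degree)`.  From this, `F^(t+r) (x20^r u) = c(r,t) F^t u` for `u` of
first degree `2t`, where `c(r,t)` vanishes for `t ≤ g < t + r`.
-/

set_option autoImplicit false
set_option linter.style.haveILetI false

open MvPolynomial Finsupp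

namespace Groth.Agent.Lib.Helper2.TautSl2
open W4c3tautjacobian

lemma weight_comp {σ M N : Type*} [AddCommMonoid M] [AddCommMonoid N] (φ : M →+ N) (w : σ → M)
    (d : σ →₀ ℕ) : weight (fun v => φ (w v)) d = φ (weight w d) := by
  simp only [weight_apply, Finsupp.sum, map_sum, map_nsmul]

lemma isWH_congr {σ M : Type*} [AddCommMonoid M] {w : σ → M} {P : MvPolynomial σ ℚ} {m m' : M}
    (h : IsWeightedHomogeneous w P m) (e : m = m') : IsWeightedHomogeneous w P m' := e ▸ h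

variable (g : ℕ)

/-- integer bidegree weight -/
def wz : Var g → ℤ × ℤ := fun v => (((wt g v).1 : ℤ), ((wt g v).2 : ℤ))

/-- first degree weight -/
def w1 : Var g → ℕ := fun v => (wt g v).1

lemma weight_wz (d : Var g →₀ ℕ) :
    weight (wz g) d = (((weight (wt g) d).1 : ℤ), ((weight (wt g) d).2 : ℤ)) :=
  weight_comp (AddMonoidHom.prodMap (Nat.castAddMonoidHom ℤ) (Nat.castAddMonoidHom ℤ)) (wt g) d

lemma weight_w1 (d : Var g →₀ ℕ) : weight (w1 g) d = (weight (wt g) d).1 :=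
  weight_comp (AddMonoidHom.fst ℕ ℕ) (wt g) d

lemma weight_snd (d : Var g →₀ ℕ) :
    weight (fun v => (wt g v).2) d = (weight (wt g) d).2 :=
  weight_comp (AddMonoidHom.snd ℕ ℕ) (wt g) d

lemma isWH_wz_of_wt {P : RelRing g} {a b : ℕ} (hP : IsWeightedHomogeneous (wt g) P (a, b)) :
    IsWeightedHomogeneous (wz g) P ((a : ℤ), (b : ℤ)) := by
  intro d hd
  rw [weight_wz, hP hd]

lemma isWH_w1_of_wz {P : RelRing g} {a : ℕ} {b : ℤ}
    (hP : IsWeightedHomogeneous (wz g) P ((a : ℤ), b)) :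
    IsWeightedHomogeneous (w1 g) P a := by
  intro d hd
  have := hP hd
  rw [weight_wz] at this
  rw [weight_w1]
  have h1 : ((weight (wt g) d).1 : ℤ) = (a : ℤ) := (Prod.ext_iff.1 this).1
  exact_mod_cast h1

lemma eq_zero_of_wz_neg {P : RelRing g} {m : ℤ × ℤ}
    (hP : IsWeightedHomogeneous (wz g) P m) (ha : m.1 < 0) : P = 0 := by
  by_contra hne
  obtain ⟨d, hd⟩ := MvPolynomial.ne_zero_iff.1 hne
  have := hP hd
  rw [weight_wz] at this
  rw [← this] at ha
  simp only at ha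
  omega

lemma natCast_hom (k : ℕ) : IsWeightedHomogeneous (wz g) ((k : ℕ) : RelRing g) 0 := by
  rw [← map_natCast (C : ℚ →+* RelRing g) k]; exact isWeightedHomogeneous_C _ _

lemma xv_hom (i j : ℤ) : IsWeightedHomogeneous (wz g) (xv g i j) (i, j) := by
  unfold xv
  split_ifs with h1 h2
  · obtain ⟨rfl, rfl⟩ := h1
    exact natCast_hom g g
  · have h := isWeightedHomogeneous_X ℚ (wz g) (some ⟨(i.toNat, j.toNat), h2.2.2⟩)
    have e : wz g (some ⟨(i.toNat, j.toNat), h2.2.2⟩) = (i, j) := by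
      simp only [wz, wt]
      rw [Int.toNat_of_nonneg h2.1, Int.toNat_of_nonneg h2.2.1]
    rwa [e] at h
  · exact isWeightedHomogeneous_zero ℚ _ _

lemma dv_hom (p : ℕ × ℕ) {P : RelRing g} {m : ℤ × ℤ}
    (hP : IsWeightedHomogeneous (wz g) P m) :
    IsWeightedHomogeneous (wz g) (dv g p P) (m - ((p.1 : ℤ), (p.2 : ℤ))) := by
  unfold dv
  split_ifs with h
  · refine hP.pderiv ?_
    show m - ((p.1 : ℤ), (p.2 : ℤ)) + ((p.1 : ℤ), (p.2 : ℤ)) = m
    exact sub_add_cancel _ _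
  · exact isWeightedHomogeneous_zero ℚ _ _

lemma F_hom {P : RelRing g} {m : ℤ × ℤ} (hP : IsWeightedHomogeneous (wz g) P m) :
    IsWeightedHomogeneous (wz g) (F g P) (m - (2, 0)) := by
  unfold F
  refine IsWeightedHomogeneous.add ?_ ?_
  · refine (weightedHomogeneousSubmodule ℚ (wz g) _).smul_mem _ ?_
    refine Submodule.sum_mem _ fun p _ => Submodule.sum_mem _ fun q _ => ?_
    rw [mem_weightedHomogeneousSubmodule]
    have h2 := dv_hom g p (dv_hom g q hP)
    have hA := ((isWeightedHomogeneous_X ℚ (wz g) none).mul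
      (xv_hom g ((p.1 : ℤ) - 1) ((p.2 : ℤ) - 1))).mul
      (xv_hom g ((q.1 : ℤ) - 1) ((q.2 : ℤ) - 1))
    have hB := (natCast_hom g (mergeCoeff p.1 q.1)).mul
      (xv_hom g ((p.1 : ℤ) + q.1 - 2) ((p.2 : ℤ) + q.2))
    have e1 : wz g none + ((p.1 : ℤ) - 1, (p.2 : ℤ) - 1) + ((q.1 : ℤ) - 1, (q.2 : ℤ) - 1)
        = ((p.1 : ℤ) + q.1 - 2, (p.2 : ℤ) + q.2) := by
      refine Prod.ext ?_ ?_
      · show ((0 : ℕ) : ℤ) + ((p.1 : ℤ) - 1) + ((q.1 : ℤ) - 1) = (p.1 : ℤ) + q.1 - 2
        push_cast; ring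
      · show ((2 : ℕ) : ℤ) + ((p.2 : ℤ) - 1) + ((q.2 : ℤ) - 1) = (p.2 : ℤ) + q.2
        push_cast; ring
    have e2 : (0 : ℤ × ℤ) + ((p.1 : ℤ) + q.1 - 2, (p.2 : ℤ) + q.2)
        = ((p.1 : ℤ) + q.1 - 2, (p.2 : ℤ) + q.2) := zero_add _
    rw [e1] at hA
    rw [e2] at hB
    have h3 := (hA.sub hB).mul h2
    refine isWH_congr h3 ?_
    refine Prod.ext ?_ ?_
    · show (p.1 : ℤ) + q.1 - 2 + (m.1 - (q.1 : ℤ) - (p.1 : ℤ)) = m.1 - 2
      ring
    · show (p.2 : ℤ) + q.2 + (m.2 - (q.2 : ℤ) - (p.2 : ℤ)) = m.2 - 0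
      ring
  · refine IsWeightedHomogeneous.sum _ _ _ fun p _ => ?_
    have h3 := (xv_hom g ((p.1 : ℤ) - 2) (p.2 : ℤ)).mul (dv_hom g p hP)
    refine isWH_congr h3 ?_
    refine Prod.ext ?_ ?_
    · show (p.1 : ℤ) - 2 + (m.1 - (p.1 : ℤ)) = m.1 - 2
      ring
    · show (p.2 : ℤ) + (m.2 - (p.2 : ℤ)) = m.2 - 0
      ring

lemma Fiter_hom (n : ℕ) {P : RelRing g} {m : ℤ × ℤ}
    (hP : IsWeightedHomogeneous (wz g) P m) :
    IsWeightedHomogeneous (wz g) ((F g)^[n] P) (m - ((2 * n : ℤ), 0)) := by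
  induction n with
  | zero =>
    refine isWH_congr (by simpa using hP : IsWeightedHomogeneous (wz g) ((F g)^[0] P) m) ?_
    refine Prod.ext ?_ ?_ <;> simp
  | succ n ih =>
    rw [Function.iterate_succ_apply']
    refine isWH_congr (F_hom g ih) ?_
    refine Prod.ext ?_ ?_
    · show m.1 - 2 * (n : ℤ) - 2 = m.1 - 2 * ((n + 1 : ℕ) : ℤ)
      push_cast; ring
    · show m.2 - 0 - 0 = m.2 - 0
      ring

/-! ### linearity -/

lemma dv_zero' (p : ℕ × ℕ) : dv g p 0 = 0 := by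
  unfold dv; split_ifs <;> simp

lemma dv_add' (p : ℕ × ℕ) (P Q : RelRing g) : dv g p (P + Q) = dv g p P + dv g p Q := by
  unfold dv; split_ifs <;> simp

lemma dv_smul' (p : ℕ × ℕ) (c : ℚ) (P : RelRing g) : dv g p (c • P) = c • dv g p P := by
  unfold dv; split_ifs <;> simp

lemma F_add (P Q : RelRing g) : F g (P + Q) = F g P + F g Q := by
  unfold F
  simp only [dv_add', mul_add, Finset.sum_add_distrib, smul_add]
  abel

lemma F_smul (c : ℚ) (P : RelRing g) : F g (c • P) = c • F g P := by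
  unfold F
  simp only [dv_smul', mul_smul_comm, ← Finset.smul_sum, smul_add]
  rw [smul_comm]

/-- `F` as a linear map. -/
noncomputable def FL : RelRing g →ₗ[ℚ] RelRing g where
  toFun := F g
  map_add' := F_add g
  map_smul' c P := by simpa using F_smul g c P

lemma Fiter_eq (n : ℕ) (P : RelRing g) : (F g)^[n] P = (FL g ^ n) P := by
  rw [Module.End.pow_apply]; rfl

lemma Fiter_add (n : ℕ) (P Q : RelRing g) :
    (F g)^[n] (P + Q) = (F g)^[n] P + (F g)^[n] Q := by
  simp only [Fiter_eq, map_add]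

lemma Fiter_Cmul (n : ℕ) (c : ℚ) (P : RelRing g) :
    (F g)^[n] (C c * P) = C c * (F g)^[n] P := by
  simp only [Fiter_eq, ← smul_eq_C_mul, map_smul]

/-! ### the variable `x 2 0` -/

lemma valid20 (hg : 1 ≤ g) : Valid g (2, 0) := by
  unfold Valid
  refine ⟨by norm_num, ?_, ⟨1, by norm_num⟩, by simp⟩
  show 0 + 2 ≤ 2 * g
  omega

/-- the variable `x 2 0` as an index -/
def v20 (hg : 1 ≤ g) : Var g := some ⟨(2, 0), valid20 g hg⟩

/-- the variable `x 2 0` -/
noncomputable def x20 (hg : 1 ≤ g) : RelRing g := X (v20 g hg)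

lemma mem_idx20 (hg : 1 ≤ g) : ((2, 0) : ℕ × ℕ) ∈ idx g := by
  unfold idx
  simp only [Finset.mem_product, Finset.mem_range]
  omega

lemma mem_idx_of_valid {p : ℕ × ℕ} (h : Valid g p) : p ∈ idx g := by
  unfold idx
  simp only [Finset.mem_product, Finset.mem_range]
  obtain ⟨h1, h2, -, -⟩ := h
  omega

lemma dv_x20_mul (hg : 1 ≤ g) (p : ℕ × ℕ) (P : RelRing g) :
    dv g p (x20 g hg * P) = x20 g hg * dv g p P + (if p = (2, 0) then P else 0) := by
  classical
  unfold dv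
  by_cases h : Valid g p
  · rw [dif_pos h, dif_pos h]
    by_cases hp : p = (2, 0)
    · subst hp
      rw [if_pos rfl, Derivation.leibniz]
      have : pderiv (some ⟨(2, 0), h⟩ : Var g) (x20 g hg) = 1 := pderiv_X_self _
      rw [this]
      simp [smul_eq_mul]
    · rw [if_neg hp, Derivation.leibniz]
      have : pderiv (some ⟨p, h⟩ : Var g) (x20 g hg) = 0 := by
        refine pderiv_X_of_ne ?_
        intro e
        apply hp
        have := Option.some.inj e
        exact (congrArg Subtype.val this).symm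
      rw [this]
      simp
  · rw [dif_neg h, dif_neg h]
    have hp : p ≠ (2, 0) := fun e => h (e ▸ valid20 g hg)
    rw [if_neg hp]
    simp

lemma dv_dv_x20_mul (hg : 1 ≤ g) (p q : ℕ × ℕ) (P : RelRing g) :
    dv g p (dv g q (x20 g hg * P)) = x20 g hg * dv g p (dv g q P)
      + (if p = (2, 0) then dv g q P else 0) + (if q = (2, 0) then dv g p P else 0) := by
  rw [dv_x20_mul, dv_add', dv_x20_mul]
  congr 1
  split_ifs
  · rfl
  · exact dv_zero' g p

lemma xv_neg (i j : ℤ) (hj : j < 0) : xv g i j = 0 := by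
  unfold xv
  rw [if_neg (fun h => by omega), dif_neg (fun h => by have := h.2.1; omega)]

lemma xv_zero : xv g 0 0 = (g : RelRing g) := by
  unfold xv
  rw [if_pos ⟨rfl, rfl⟩]

lemma mergeCoeff_two_left (k : ℕ) : mergeCoeff 2 k = k := by
  unfold mergeCoeff
  by_cases hk : k = 0
  · rw [if_pos (Or.inr hk)]; exact hk.symm
  · rw [if_neg (by omega)]
    have : 2 + k - 2 = k := by omega
    rw [this]
    simp

lemma mergeCoeff_two_right (k : ℕ) : mergeCoeff k 2 = k := by
  unfold mergeCoeff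
  by_cases hk : k = 0
  · rw [if_pos (Or.inl hk)]; exact hk.symm
  · rw [if_neg (by omega)]
    have : k + 2 - 2 = k := by omega
    rw [this]
    obtain ⟨j, rfl⟩ : ∃ j, k = j + 1 := ⟨k - 1, by omega⟩
    simp

/-- the second-order coefficient of `F` -/
noncomputable def Aco (p q : ℕ × ℕ) : RelRing g :=
  X none * xv g ((p.1 : ℤ) - 1) ((p.2 : ℤ) - 1) * xv g ((q.1 : ℤ) - 1) ((q.2 : ℤ) - 1)
    - (mergeCoeff p.1 q.1 : RelRing g) * xv g ((p.1 : ℤ) + q.1 - 2) ((p.2 : ℤ) + q.2)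

lemma F_def (Q : RelRing g) : F g Q =
    (1 / 2 : ℚ) • (∑ p ∈ idx g, ∑ q ∈ idx g, Aco g p q * dv g p (dv g q Q))
      + ∑ p ∈ idx g, xv g ((p.1 : ℤ) - 2) (p.2 : ℤ) * dv g p Q := rfl

lemma Aco_left (q : ℕ × ℕ) : Aco g (2, 0) q = -((q.1 : RelRing g) * xv g q.1 q.2) := by
  have e1 : xv g (((2 : ℕ) : ℤ) - 1) (((0 : ℕ) : ℤ) - 1) = 0 := xv_neg g _ _ (by norm_num)
  have e2 : ((2 : ℕ) : ℤ) + (q.1 : ℤ) - 2 = (q.1 : ℤ) := by push_cast; ring
  have e3 : ((0 : ℕ) : ℤ) + (q.2 : ℤ) = (q.2 : ℤ) := by push_cast; ring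
  show X none * xv g (((2 : ℕ) : ℤ) - 1) (((0 : ℕ) : ℤ) - 1)
      * xv g ((q.1 : ℤ) - 1) ((q.2 : ℤ) - 1)
    - (mergeCoeff 2 q.1 : RelRing g) * xv g (((2 : ℕ) : ℤ) + q.1 - 2) (((0 : ℕ) : ℤ) + q.2) = _
  rw [e1, e2, e3, mergeCoeff_two_left]
  ring

lemma Aco_right (p : ℕ × ℕ) : Aco g p (2, 0) = -((p.1 : RelRing g) * xv g p.1 p.2) := by
  have e1 : xv g (((2 : ℕ) : ℤ) - 1) (((0 : ℕ) : ℤ) - 1) = 0 := xv_neg g _ _ (by norm_num)
  have e2 : (p.1 : ℤ) + ((2 : ℕ) : ℤ) - 2 = (p.1 : ℤ) := by push_cast; ring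
  have e3 : (p.2 : ℤ) + ((0 : ℕ) : ℤ) = (p.2 : ℤ) := by push_cast; ring
  show X none * xv g ((p.1 : ℤ) - 1) ((p.2 : ℤ) - 1)
      * xv g (((2 : ℕ) : ℤ) - 1) (((0 : ℕ) : ℤ) - 1)
    - (mergeCoeff p.1 2 : RelRing g)
      * xv g ((p.1 : ℤ) + ((2 : ℕ) : ℤ) - 2) ((p.2 : ℤ) + ((0 : ℕ) : ℤ)) = _
  rw [e1, e2, e3, mergeCoeff_two_right]
  ring

/-- the first-degree Euler operator -/
noncomputable def Eul (P : RelRing g) : RelRing g :=
  ∑ p ∈ idx g, (p.1 : RelRing g) * (xv g p.1 p.2 * dv g p P)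

lemma F_x20_mul (hg : 1 ≤ g) (P : RelRing g) :
    F g (x20 g hg * P) = x20 g hg * F g P + (g : RelRing g) * P - Eul g P := by
  classical
  have hmem := mem_idx20 g hg
  have c1 : ∑ p ∈ idx g, ∑ q ∈ idx g, Aco g p q * dv g p (dv g q (x20 g hg * P))
      = x20 g hg * (∑ p ∈ idx g, ∑ q ∈ idx g, Aco g p q * dv g p (dv g q P))
        - Eul g P - Eul g P := by
    simp only [dv_dv_x20_mul, mul_add, Finset.sum_add_distrib]
    have t1 : ∑ p ∈ idx g, ∑ q ∈ idx g, Aco g p q * (x20 g hg * dv g p (dv g q P))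
        = x20 g hg * ∑ p ∈ idx g, ∑ q ∈ idx g, Aco g p q * dv g p (dv g q P) := by
      simp only [Finset.mul_sum]
      refine Finset.sum_congr rfl fun p _ => Finset.sum_congr rfl fun q _ => ?_
      ring
    have t2 : ∑ p ∈ idx g, ∑ q ∈ idx g, Aco g p q * (if p = (2, 0) then dv g q P else 0)
        = - Eul g P := by
      rw [Finset.sum_eq_single_of_mem (2, 0) hmem]
      · rw [Eul, ← Finset.sum_neg_distrib]
        refine Finset.sum_congr rfl fun q _ => ?_
        rw [if_pos rfl, Aco_left]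
        ring
      · intro p _ hp
        simp [hp]
    have t3 : ∑ p ∈ idx g, ∑ q ∈ idx g, Aco g p q * (if q = (2, 0) then dv g p P else 0)
        = - Eul g P := by
      rw [Eul, ← Finset.sum_neg_distrib]
      refine Finset.sum_congr rfl fun p _ => ?_
      rw [Finset.sum_eq_single_of_mem (2, 0) hmem]
      · rw [if_pos rfl, Aco_right]
        ring
      · intro q _ hq
        simp [hq]
    rw [t1, t2, t3]
    ring
  have c2 : ∑ p ∈ idx g, xv g ((p.1 : ℤ) - 2) (p.2 : ℤ) * dv g p (x20 g hg * P)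
      = x20 g hg * (∑ p ∈ idx g, xv g ((p.1 : ℤ) - 2) (p.2 : ℤ) * dv g p P)
        + (g : RelRing g) * P := by
    simp only [dv_x20_mul, mul_add, Finset.sum_add_distrib]
    have t1 : ∑ p ∈ idx g, xv g ((p.1 : ℤ) - 2) (p.2 : ℤ) * (x20 g hg * dv g p P)
        = x20 g hg * ∑ p ∈ idx g, xv g ((p.1 : ℤ) - 2) (p.2 : ℤ) * dv g p P := by
      rw [Finset.mul_sum]
      refine Finset.sum_congr rfl fun p _ => ?_
      ring
    have t2 : ∑ p ∈ idx g, xv g ((p.1 : ℤ) - 2) (p.2 : ℤ) * (if p = (2, 0) then P else 0)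
        = (g : RelRing g) * P := by
      rw [Finset.sum_eq_single_of_mem (2, 0) hmem]
      · rw [if_pos rfl]
        have : xv g ((((2, 0) : ℕ × ℕ).1 : ℤ) - 2) ((((2, 0) : ℕ × ℕ).2 : ℤ))
            = (g : RelRing g) := by
          show xv g (((2 : ℕ) : ℤ) - 2) (((0 : ℕ) : ℤ)) = _
          have e : ((2 : ℕ) : ℤ) - 2 = 0 := by norm_num
          rw [e, Nat.cast_zero, xv_zero]
        rw [this]
      · intro p _ hp
        simp [hp]
    rw [t1, t2]
  rw [F_def, F_def, c1, c2]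
  have half : (1 / 2 : ℚ) • Eul g P + (1 / 2 : ℚ) • Eul g P = Eul g P := by
    rw [← add_smul]; norm_num
  rw [smul_sub, smul_sub, mul_add, mul_smul_comm]
  linear_combination (-1 : RelRing g) * half

/-! ### Euler identity -/

noncomputable instance fintypeValid : Fintype {p : ℕ × ℕ // Valid g p} :=
  Fintype.subtype ((idx g).filter (Valid g)) (by
    intro p
    simp only [Finset.mem_filter]
    exact ⟨fun h => h.2, fun h => ⟨mem_idx_of_valid g h, h⟩⟩)

lemma xv_valid {p : ℕ × ℕ} (h : Valid g p) :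
    xv g (p.1 : ℤ) (p.2 : ℤ) = X (some ⟨p, h⟩) := by
  unfold xv
  have h0 : ¬ ((p.1 : ℤ) = 0 ∧ (p.2 : ℤ) = 0) := by
    rintro ⟨h1, h2⟩
    apply h.2.2.2
    exact Prod.ext (by exact_mod_cast h1) (by exact_mod_cast h2)
  rw [if_neg h0]
  have h1 : 0 ≤ (p.1 : ℤ) ∧ 0 ≤ (p.2 : ℤ) ∧ Valid g ((p.1 : ℤ).toNat, (p.2 : ℤ).toNat) := by
    refine ⟨by positivity, by positivity, ?_⟩
    simpa using h
  rw [dif_pos h1]
  have key : ∀ (a b : ℕ × ℕ) (ha : Valid g a) (hb : Valid g b), a = b →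
      (X (some ⟨a, ha⟩) : RelRing g) = X (some ⟨b, hb⟩) := by
    intro a b ha hb e
    subst e
    rfl
  exact key _ _ _ _ (by simp)

lemma Eul_eq {P : RelRing g} {a : ℕ} (hP : IsWeightedHomogeneous (w1 g) P a) :
    Eul g P = (a : RelRing g) * P := by
  classical
  have h := hP.sum_weight_X_mul_pderiv
  rw [Fintype.sum_option] at h
  have h0 : w1 g none = 0 := rfl
  rw [h0, zero_smul, zero_add] at h
  rw [← nsmul_eq_mul, ← h]
  unfold Eul
  have e1 : ∑ p ∈ idx g, (p.1 : RelRing g) * (xv g p.1 p.2 * dv g p P)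
      = ∑ p ∈ (idx g).filter (Valid g), (p.1 : RelRing g) * (xv g p.1 p.2 * dv g p P) := by
    refine (Finset.sum_filter_of_ne ?_).symm
    intro p _ hne
    by_contra hv
    apply hne
    unfold dv
    rw [dif_neg hv]
    simp
  rw [e1, Finset.sum_subtype ((idx g).filter (Valid g)) (p := Valid g)
    (fun p => by
      simp only [Finset.mem_filter]
      exact ⟨fun h => h.2, fun h => ⟨mem_idx_of_valid g h, h⟩⟩)]
  refine Finset.sum_congr rfl fun s _ => ?_
  rw [xv_valid g s.2, nsmul_eq_mul]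
  have : dv g s.1 P = pderiv (some s) P := by
    unfold dv
    rw [dif_pos s.2]
  rw [this]
  rfl

lemma F_x20_mul_hom (hg : 1 ≤ g) {u : RelRing g} {a : ℕ} {b : ℤ}
    (hu : IsWeightedHomogeneous (wz g) u ((a : ℤ), b)) :
    F g (x20 g hg * u) = x20 g hg * F g u + C ((g : ℚ) - a) * u := by
  rw [F_x20_mul, Eul_eq g (isWH_w1_of_wz g hu)]
  have e1 : (g : RelRing g) = C (g : ℚ) := (map_natCast C g).symm
  have e2 : (a : RelRing g) = C (a : ℚ) := (map_natCast C a).symm
  rw [e1, e2, map_sub]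
  ring

lemma x20_hom (hg : 1 ≤ g) : IsWeightedHomogeneous (wz g) (x20 g hg) (2, 0) := by
  have h := isWeightedHomogeneous_X ℚ (wz g) (v20 g hg)
  have e : wz g (v20 g hg) = (2, 0) := by simp [wz, wt, v20]
  rw [e] at h
  exact h

lemma x20pow_mul_hom (hg : 1 ≤ g) (r : ℕ) {u : RelRing g} {m : ℤ × ℤ}
    (hu : IsWeightedHomogeneous (wz g) u m) :
    IsWeightedHomogeneous (wz g) (x20 g hg ^ r * u) (m + ((2 * r : ℤ), 0)) := by
  have h := ((x20_hom g hg).pow r).mul hu
  refine isWH_congr h ?_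
  refine Prod.ext ?_ ?_
  · show r • (2 : ℤ) + m.1 = m.1 + 2 * (r : ℤ)
    rw [nsmul_eq_mul]; ring
  · show r • (0 : ℤ) + m.2 = m.2 + 0
    rw [smul_zero]; ring

lemma F_x20pow_mul (hg : 1 ≤ g) (r : ℕ) {u : RelRing g} {a : ℕ} {b : ℤ}
    (hu : IsWeightedHomogeneous (wz g) u ((a : ℤ), b)) :
    F g (x20 g hg ^ (r + 1) * u) = x20 g hg ^ (r + 1) * F g u
      + C (((r : ℚ) + 1) * ((g : ℚ) - a - r)) * (x20 g hg ^ r * u) := by
  induction r with
  | zero =>
    rw [zero_add, pow_one, pow_zero, one_mul, F_x20_mul_hom g hg hu]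
    congr 3
    push_cast; ring
  | succ r ih =>
    have h1 : IsWeightedHomogeneous (wz g) (x20 g hg ^ (r + 1) * u)
        (((a + 2 * (r + 1) : ℕ) : ℤ), b) := by
      refine isWH_congr (x20pow_mul_hom g hg (r + 1) hu) ?_
      refine Prod.ext ?_ ?_
      · show (a : ℤ) + 2 * ((r + 1 : ℕ) : ℤ) = ((a + 2 * (r + 1) : ℕ) : ℤ)
        push_cast; ring
      · show b + 0 = b
        ring
    have e2 : x20 g hg ^ (r + 1 + 1) * u = x20 g hg * (x20 g hg ^ (r + 1) * u) := by ring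
    rw [e2, F_x20_mul_hom g hg h1, ih]
    have e3 : (C ((((r + 1 : ℕ) : ℚ) + 1) * ((g : ℚ) - a - ((r + 1 : ℕ) : ℚ))) : RelRing g)
        = C (((r : ℚ) + 1) * ((g : ℚ) - a - r)) + C ((g : ℚ) - ((a + 2 * (r + 1) : ℕ) : ℚ)) := by
      rw [← map_add]
      congr 1
      push_cast; ring
    rw [e3]
    ring

/-! ### the main recursion -/

/-- the structure constant `c(r,t)` -/
noncomputable def cc (r t : ℕ) : ℚ :=
  ∏ i ∈ Finset.range r, (((t : ℚ) + 1 + i) * ((g : ℚ) - t - i))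

lemma cc_succ (r t : ℕ) :
    cc g (r + 1) t = cc g r t * (((t : ℚ) + 1 + r) * ((g : ℚ) - t - r)) := by
  unfold cc
  rw [Finset.prod_range_succ]

lemma cc_succ' (r t : ℕ) :
    cc g (r + 1) t = (((t : ℚ) + 1) * ((g : ℚ) - t)) * cc g r (t + 1) := by
  unfold cc
  rw [Finset.prod_range_succ']
  have e : ∀ i : ℕ, ((t : ℚ) + 1 + ((i + 1 : ℕ) : ℚ)) * ((g : ℚ) - t - ((i + 1 : ℕ) : ℚ))
      = (((t + 1 : ℕ) : ℚ) + 1 + i) * ((g : ℚ) - ((t + 1 : ℕ) : ℚ) - i) := by
    intro i
    push_cast; ring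
  simp only [e]
  push_cast; ring

lemma main_rec (hg : 1 ≤ g) (r : ℕ) : ∀ (t : ℕ) (u : RelRing g) (b : ℤ),
    IsWeightedHomogeneous (wz g) u (((2 * t : ℕ) : ℤ), b) →
    (F g)^[t + r] (x20 g hg ^ r * u) = C (cc g r t) * (F g)^[t] u := by
  induction r with
  | zero =>
    intro t u b _
    simp [cc]
  | succ r ihr =>
    intro t
    induction t with
    | zero =>
      intro u b hu
      have hFu : F g u = 0 := by
        refine eq_zero_of_wz_neg g (F_hom g hu) ?_
        show ((2 * 0 : ℕ) : ℤ) - 2 < 0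
        norm_num
      have e : 0 + (r + 1) = r + 1 := by ring
      have ih0 := ihr 0 u b hu
      rw [zero_add] at ih0
      rw [e, Function.iterate_succ_apply, F_x20pow_mul g hg r hu, hFu, mul_zero, zero_add,
        Fiter_Cmul, ih0]
      have hc : cc g (r + 1) 0
          = (((r : ℚ) + 1) * ((g : ℚ) - ((2 * 0 : ℕ) : ℚ) - r)) * cc g r 0 := by
        rw [cc_succ]; push_cast; ring
      rw [hc]
      simp only [map_mul]
      ring
    | succ t iht =>
      intro u b hu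
      have hFu : IsWeightedHomogeneous (wz g) (F g u) (((2 * t : ℕ) : ℤ), b) := by
        refine isWH_congr (F_hom g hu) ?_
        refine Prod.ext ?_ ?_
        · show ((2 * (t + 1) : ℕ) : ℤ) - 2 = ((2 * t : ℕ) : ℤ)
          push_cast; ring
        · show b - 0 = b
          ring
      have e : t + 1 + (r + 1) = (t + 1 + r) + 1 := by ring
      rw [e, Function.iterate_succ_apply, F_x20pow_mul g hg r hu, Fiter_add, Fiter_Cmul,
        ihr (t + 1) u b hu]
      have e2 : t + 1 + r = t + (r + 1) := by ring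
      rw [e2, iht (F g u) b hFu]
      have e3 : (F g)^[t] (F g u) = (F g)^[t + 1] u := rfl
      rw [e3]
      have hc : (C (cc g (r + 1) (t + 1)) : RelRing g) = C (cc g (r + 1) t)
          + C (((r : ℚ) + 1) * ((g : ℚ) - ((2 * (t + 1) : ℕ) : ℚ) - r)) * C (cc g r (t + 1)) := by
        rw [← map_mul, ← map_add]
        congr 1
        rw [cc_succ g r (t + 1), cc_succ' g r t]
        push_cast; ring
      rw [hc]
      ring

lemma cc_eq_zero (r t : ℕ) (htg : t ≤ g) (h : g + 1 ≤ t + r) : cc g r t = 0 := by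
  unfold cc
  refine Finset.prod_eq_zero (i := g - t) (Finset.mem_range.2 (by omega)) ?_
  rw [Nat.cast_sub htg]
  ring

/-! ### the monomial ideal and the final assembly -/

/-- polynomials all of whose monomials have positive first degree or large second degree -/
noncomputable def SIdeal : Ideal (RelRing g) where
  carrier := {P | ∀ e ∈ P.support, 1 ≤ (weight (wt g) e).1 ∨ 2 * g < 3 * (weight (wt g) e).2}
  add_mem' := by
    classical
    intro P Q hP hQ e he
    rcases Finset.mem_union.1 (MvPolynomial.support_add he) with h | h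
    · exact hP e h
    · exact hQ e h
  zero_mem' := by
    show ∀ e ∈ (0 : RelRing g).support, _
    intro e he
    simp at he
  smul_mem' := by
    classical
    intro c P hP e he
    rw [smul_eq_mul] at he
    obtain ⟨e1, -, e2, he2, rfl⟩ := Finset.mem_add.1 (MvPolynomial.support_mul c P he)
    rw [map_add]
    rcases hP e2 he2 with h | h
    · left
      rw [Prod.fst_add]; omega
    · right
      rw [Prod.snd_add]; omega

lemma mem_SIdeal {P : RelRing g} : P ∈ SIdeal g ↔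
    ∀ e ∈ P.support, 1 ≤ (weight (wt g) e).1 ∨ 2 * g < 3 * (weight (wt g) e).2 := Iff.rfl

lemma var_le (hg : 1 ≤ g) (v : Var g) (hv : v ≠ v20 g hg) :
    (wt g v).1 ≤ 3 * (wt g v).2 := by
  rcases v with _ | ⟨⟨i, j⟩, hval⟩
  · show 0 ≤ 3 * 2
    norm_num
  · show i ≤ 3 * j
    have h1 : i ≤ j + 2 := hval.1
    obtain ⟨k, hk⟩ : Even (i + j) := hval.2.2.1
    have h4 : (i, j) ≠ (0, 0) := hval.2.2.2
    by_contra hlt
    push Not at hlt
    have hj : j = 0 := by omega
    subst hj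
    have hi : i = 0 ∨ i = 2 := by omega
    rcases hi with rfl | rfl
    · exact h4 rfl
    · exact hv rfl

lemma weight_le (hg : 1 ≤ g) (d : Var g →₀ ℕ) (h0 : d (v20 g hg) = 0) :
    (weight (wt g) d).1 ≤ 3 * (weight (wt g) d).2 := by
  rw [← weight_w1, ← weight_snd]
  simp only [weight_apply, Finsupp.sum, smul_eq_mul, Finset.mul_sum]
  refine Finset.sum_le_sum fun v hv => ?_
  have hne : v ≠ v20 g hg := by
    rintro rfl
    exact (Finsupp.mem_support_iff.1 hv) h0
  have := var_le g hg v hne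
  calc d v * w1 g v ≤ d v * (3 * (wt g v).2) := Nat.mul_le_mul_left _ this
    _ = 3 * (d v * (wt g v).2) := by ring

lemma Fiter_x20pow_monomial_eq_zero (hg : 1 ≤ g) (d' : Var g →₀ ℕ) (h0 : d' (v20 g hg) = 0)
    (r t : ℕ) (ht : (weight (wt g) d').1 = 2 * t) (h2 : g + 1 ≤ t + r)
    (h3 : 3 * (weight (wt g) d').2 ≤ 2 * g) :
    (F g)^[t + r] (x20 g hg ^ r * monomial d' (1 : ℚ)) = 0 := by
  have hle := weight_le g hg d' h0
  have htg : t ≤ g := by omega
  have hu : IsWeightedHomogeneous (wz g) (monomial d' (1 : ℚ))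
      (((2 * t : ℕ) : ℤ), ((weight (wt g) d').2 : ℤ)) := by
    refine isWH_wz_of_wt g (isWeightedHomogeneous_monomial _ _ _ ?_)
    rw [← ht]
  rw [main_rec g hg r t _ _ hu, cc_eq_zero g r t htg h2, map_zero, zero_mul]

lemma gen_mem (hg : 1 ≤ g) (d : Var g →₀ ℕ) (k : ℕ) (hd : 2 * g < (weight (wt g) d).1) :
    (F g)^[k] (monomial d (1 : ℚ)) ∈ SIdeal g := by
  rw [mem_SIdeal]
  intro e he
  have hmon : IsWeightedHomogeneous (wz g) (monomial d (1 : ℚ))
      (((weight (wt g) d).1 : ℤ), ((weight (wt g) d).2 : ℤ)) :=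
    isWH_wz_of_wt g (isWeightedHomogeneous_monomial _ _ _ rfl)
  have hk := Fiter_hom g k hmon
  have hw := hk (MvPolynomial.mem_support_iff.1 he)
  rw [weight_wz] at hw
  have hw1 : ((weight (wt g) e).1 : ℤ) = ((weight (wt g) d).1 : ℤ) - 2 * k :=
    (Prod.ext_iff.1 hw).1
  have hw2 : ((weight (wt g) e).2 : ℤ) = ((weight (wt g) d).2 : ℤ) - 0 :=
    (Prod.ext_iff.1 hw).2
  by_cases hc : 1 ≤ (weight (wt g) e).1
  · exact Or.inl hc
  · right
    have h1 : (weight (wt g) d).1 = 2 * k := by omega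
    by_contra hcon
    push Not at hcon
    have hz : (F g)^[k] (monomial d (1 : ℚ)) = 0 := by
      have hd' : d = Finsupp.single (v20 g hg) (d (v20 g hg)) + d.erase (v20 g hg) :=
        (Finsupp.single_add_erase _ _).symm
      have h0 : (d.erase (v20 g hg)) (v20 g hg) = 0 := Finsupp.erase_same
      have hwt : weight (wt g) d
          = d (v20 g hg) • ((2, 0) : ℕ × ℕ) + weight (wt g) (d.erase (v20 g hg)) := by
        conv_lhs => rw [hd']
        rw [map_add, weight_single]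
        rfl
      have hwt1 : (weight (wt g) d).1
          = 2 * d (v20 g hg) + (weight (wt g) (d.erase (v20 g hg))).1 := by
        rw [hwt, Prod.fst_add, Prod.smul_fst, smul_eq_mul]
        ring
      have hwt2 : (weight (wt g) d).2 = (weight (wt g) (d.erase (v20 g hg))).2 := by
        rw [hwt, Prod.snd_add, Prod.smul_snd, smul_eq_mul]
        ring
      have hmon2 : monomial d (1 : ℚ)
          = x20 g hg ^ (d (v20 g hg)) * monomial (d.erase (v20 g hg)) 1 := by
        conv_lhs => rw [hd']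
        exact monomial_single_add
      obtain ⟨t, ht⟩ : ∃ t, (weight (wt g) (d.erase (v20 g hg))).1 = 2 * t :=
        ⟨k - d (v20 g hg), by omega⟩
      have hk' : k = t + d (v20 g hg) := by omega
      rw [hmon2, hk']
      refine Fiter_x20pow_monomial_eq_zero g hg _ h0 _ t ht (by omega) (by omega)
    rw [hz] at he
    simp at he

theorem main (hg : 1 ≤ g) (n : ℕ) (hn : 3 * n ≤ 2 * g) (P : RelRing g) (hP : P ∈ relIdeal g)
    (hhom : IsWeightedHomogeneous (wt g) P ((0, n) : ℕ × ℕ)) : P = 0 := by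
  have hle : relIdeal g ≤ SIdeal g := by
    unfold relIdeal
    rw [Ideal.span_le]
    rintro _ ⟨d, k, hd, rfl⟩
    exact gen_mem g hg d k hd
  have hPS := (mem_SIdeal g).1 (hle hP)
  rw [← MvPolynomial.support_eq_empty, Finset.eq_empty_iff_forall_notMem]
  intro e he
  have hw := hhom (MvPolynomial.mem_support_iff.1 he)
  rcases hPS e he with h | h
  · rw [hw] at h
    simp at h
  · rw [hw] at h
    simp only at h
    omega

end Groth.Agent.Lib.Helper2.TautSl2
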