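import Groth.Agent.Lib.Helper2TautSl2

/-!
# Positivity of the coefficient of `x 0 (2i)` in `F^(3i) (x 3 1 ^ (2i))` (helper2)

After the sign twist `rho` (`y ↦ 0`, `x ↦ -x`) the operator `F` becomes an operator `G` with
non-negative coefficients on polynomials in the variables of second index `≥ 1`.
-/

set_option autoImplicit false
set_option linter.style.haveILetI false

open MvPolynomial Finsupp

namespace Groth.Agent.Lib.Helper2.TautSl2
open W4c3tautjacobian

variable (g : ℕ)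

/-! ### the sign twist -/

/-- values of the sign twist on variables -/
noncomputable def rhoFun : Var g → RelRing g
  | Option.none => 0
  | Option.some s => -X (Option.some s)

/-- the sign twist `y ↦ 0`, `x ↦ -x` -/
noncomputable def rho : RelRing g →ₐ[ℚ] RelRing g := aeval (rhoFun g)

lemma rho_X_none : rho g (X none) = 0 := by
  unfold rho; rw [aeval_X]; rfl

lemma rho_X_some (s : {p : ℕ × ℕ // Valid g p}) : rho g (X (some s)) = -X (some s) := by
  unfold rho; rw [aeval_X]; rfl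

lemma rho_C (a : ℚ) : rho g (C a) = C a := by
  unfold rho; rw [aeval_C, algebraMap_eq]

lemma rho_pderiv (s : {p : ℕ × ℕ // Valid g p}) (P : RelRing g) :
    rho g (pderiv (some s) P) = -pderiv (some s) (rho g P) := by
  induction P using MvPolynomial.induction_on with
  | C a => rw [rho_C, pderiv_C, map_zero, neg_zero]
  | add p q hp hq => rw [map_add, map_add, map_add, map_add, hp, hq, neg_add]
  | mul_X p w hp =>
    have hL : ∀ a b : RelRing g, pderiv (some s : Var g) (a * b)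
        = a * pderiv (some s) b + b * pderiv (some s) a := by
      intro a b; rw [Derivation.leibniz]; simp only [smul_eq_mul]
    rw [hL, map_add, map_mul, map_mul, hp, map_mul, hL]
    rcases w with _ | s'
    · have hne : (none : Var g) ≠ some s := by simp
      rw [rho_X_none, pderiv_X_of_ne hne, map_zero]
      simp
    · rw [rho_X_some]
      by_cases hw : s' = s
      · subst hw
        rw [pderiv_X_self, map_one, map_neg, pderiv_X_self]
        ring
      · have hne : (some s' : Var g) ≠ some s := fun e => hw (Option.some.inj e)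
        rw [pderiv_X_of_ne hne, map_zero, map_neg, pderiv_X_of_ne hne]
        ring

lemma dv_neg' (p : ℕ × ℕ) (P : RelRing g) : dv g p (-P) = -dv g p P := by
  unfold dv; split_ifs <;> simp

lemma dv_one' (p : ℕ × ℕ) : dv g p (1 : RelRing g) = 0 := by
  unfold dv; split_ifs <;> simp

lemma dv_mul' (p : ℕ × ℕ) (A B : RelRing g) :
    dv g p (A * B) = A * dv g p B + B * dv g p A := by
  unfold dv
  split_ifs
  · rw [Derivation.leibniz]; simp only [smul_eq_mul]
  · simp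

lemma rho_dv (p : ℕ × ℕ) (P : RelRing g) : rho g (dv g p P) = -dv g p (rho g P) := by
  unfold dv
  split_ifs with h
  · exact rho_pderiv g ⟨p, h⟩ P
  · rw [map_zero, neg_zero]

lemma rho_dv_dv (p q : ℕ × ℕ) (P : RelRing g) :
    rho g (dv g p (dv g q P)) = dv g p (dv g q (rho g P)) := by
  rw [rho_dv, rho_dv, dv_neg', neg_neg]

lemma rho_xv (a b : ℤ) (h : ¬ (a = 0 ∧ b = 0)) : rho g (xv g a b) = -xv g a b := by
  unfold xv
  simp only [if_neg h]
  split_ifs with h2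
  · exact rho_X_some g _
  · rw [map_zero, neg_zero]

lemma constantCoeff_rho (Q : RelRing g) : constantCoeff (rho g Q) = constantCoeff Q := by
  induction Q using MvPolynomial.induction_on with
  | C a => rw [rho_C]
  | add p q hp hq => rw [map_add, map_add, map_add, hp, hq]
  | mul_X p w hp =>
    rw [map_mul, map_mul, map_mul, constantCoeff_X, mul_zero]
    rcases w with _ | s'
    · rw [rho_X_none, map_zero, mul_zero]
    · rw [rho_X_some, map_neg, constantCoeff_X, neg_zero, mul_zero]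

/-! ### the cone of polynomials with non-negative coefficients in the good variables -/

/-- generators of the cone -/
def goodGens : Set (RelRing g) :=
  {P | ∃ q : ℚ, 0 ≤ q ∧ P = C q} ∪
  {P | ∃ s : {p : ℕ × ℕ // Valid g p}, 1 ≤ s.1.2 ∧ P = X (some s)}

/-- the cone -/
noncomputable def N1 : Subsemiring (RelRing g) := Subsemiring.closure (goodGens g)

lemma C_mem_N1 {q : ℚ} (hq : 0 ≤ q) : (C q : RelRing g) ∈ N1 g :=
  Subsemiring.subset_closure (Or.inl ⟨q, hq, rfl⟩)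

lemma X_mem_N1 (s : {p : ℕ × ℕ // Valid g p}) (hs : 1 ≤ s.1.2) :
    (X (some s) : RelRing g) ∈ N1 g :=
  Subsemiring.subset_closure (Or.inr ⟨s, hs, rfl⟩)

lemma smul_mem_N1 {q : ℚ} (hq : 0 ≤ q) {P : RelRing g} (hP : P ∈ N1 g) : q • P ∈ N1 g := by
  rw [smul_eq_C_mul]; exact mul_mem (C_mem_N1 g hq) hP

lemma xv_mem_N1 (a b : ℤ) (hb : 1 ≤ b) : xv g a b ∈ N1 g := by
  unfold xv
  rw [if_neg (fun h => by omega)]
  split_ifs with h
  · refine X_mem_N1 g _ ?_
    show 1 ≤ b.toNat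
    omega
  · exact zero_mem _

lemma pderiv_mem_N1 (v : Var g) {P : RelRing g} (hP : P ∈ N1 g) : pderiv v P ∈ N1 g := by
  induction hP using Subsemiring.closure_induction with
  | mem x hx =>
    rcases hx with ⟨q, -, rfl⟩ | ⟨s, -, rfl⟩
    · rw [pderiv_C]; exact zero_mem _
    · by_cases h : (some s : Var g) = v
      · subst h; rw [pderiv_X_self]; exact one_mem _
      · rw [pderiv_X_of_ne h]; exact zero_mem _
  | zero => rw [map_zero]; exact zero_mem _
  | one => simp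
  | add x y hx' hy' hx hy => rw [map_add]; exact add_mem hx hy
  | mul x y hx' hy' hx hy =>
    rw [Derivation.leibniz]
    simp only [smul_eq_mul]
    exact add_mem (mul_mem hx' hy) (mul_mem hy' hx)

lemma dv_mem_N1 (p : ℕ × ℕ) {P : RelRing g} (hP : P ∈ N1 g) : dv g p P ∈ N1 g := by
  unfold dv
  split_ifs
  · exact pderiv_mem_N1 g _ hP
  · exact zero_mem _

lemma dv_eq_zero_of_snd {p : ℕ × ℕ} (hp : p.2 = 0) {P : RelRing g} (hP : P ∈ N1 g) :
    dv g p P = 0 := by
  unfold dv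
  split_ifs with h
  · induction hP using Subsemiring.closure_induction with
    | mem x hx =>
      rcases hx with ⟨q, -, rfl⟩ | ⟨s, hs, rfl⟩
      · exact pderiv_C
      · refine pderiv_X_of_ne ?_
        intro e
        have := congrArg Subtype.val (Option.some.inj e)
        rw [this] at hs
        change 1 ≤ p.2 at hs
        omega
    | zero => exact map_zero _
    | one => simp
    | add x y hx' hy' hx hy => rw [map_add, hx, hy, add_zero]
    | mul x y hx' hy' hx hy => rw [Derivation.leibniz, hx, hy, smul_zero, smul_zero, add_zero]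
  · rfl

lemma constantCoeff_nonneg_of_mem {P : RelRing g} (hP : P ∈ N1 g) : 0 ≤ constantCoeff P := by
  induction hP using Subsemiring.closure_induction with
  | mem x hx =>
    rcases hx with ⟨q, hq, rfl⟩ | ⟨s, -, rfl⟩
    · simpa using hq
    · simp
  | zero => simp
  | one => simp
  | add x y hx' hy' hx hy => rw [map_add]; exact add_nonneg hx hy
  | mul x y hx' hy' hx hy => rw [map_mul]; exact mul_nonneg hx hy

/-! ### the twisted operator `G` -/

/-- merging term -/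
noncomputable def Tm (p q : ℕ × ℕ) (P : RelRing g) : RelRing g :=
  (mergeCoeff p.1 q.1 : RelRing g) * xv g ((p.1 : ℤ) + q.1 - 2) ((p.2 : ℤ) + q.2)
    * dv g p (dv g q P)

/-- lowering term -/
noncomputable def Lw (p : ℕ × ℕ) (P : RelRing g) : RelRing g :=
  xv g ((p.1 : ℤ) - 2) (p.2 : ℤ) * dv g p P

/-- the twisted operator -/
noncomputable def G (P : RelRing g) : RelRing g :=
  (1 / 2 : ℚ) • (∑ p ∈ idx g, ∑ q ∈ idx g, Tm g p q P) + ∑ p ∈ idx g, Lw g p P

lemma Tm_add (p q : ℕ × ℕ) (P Q : RelRing g) :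
    Tm g p q (P + Q) = Tm g p q P + Tm g p q Q := by
  unfold Tm; rw [dv_add', dv_add', mul_add]

lemma Tm_smul (p q : ℕ × ℕ) (c : ℚ) (P : RelRing g) :
    Tm g p q (c • P) = c • Tm g p q P := by
  unfold Tm; rw [dv_smul', dv_smul', mul_smul_comm]

lemma Lw_add (p : ℕ × ℕ) (P Q : RelRing g) : Lw g p (P + Q) = Lw g p P + Lw g p Q := by
  unfold Lw; rw [dv_add', mul_add]

lemma Lw_smul (p : ℕ × ℕ) (c : ℚ) (P : RelRing g) : Lw g p (c • P) = c • Lw g p P := by
  unfold Lw; rw [dv_smul', mul_smul_comm]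

lemma G_add (P Q : RelRing g) : G g (P + Q) = G g P + G g Q := by
  unfold G
  simp only [Tm_add, Lw_add, Finset.sum_add_distrib, smul_add]
  abel

lemma G_smul (c : ℚ) (P : RelRing g) : G g (c • P) = c • G g P := by
  unfold G
  simp only [Tm_smul, Lw_smul, ← Finset.smul_sum, smul_add]
  rw [smul_comm]

lemma Tm_mem (p q : ℕ × ℕ) {P : RelRing g} (hP : P ∈ N1 g) : Tm g p q P ∈ N1 g := by
  unfold Tm
  by_cases hq : q.2 = 0
  · rw [dv_eq_zero_of_snd g hq hP, dv_zero', mul_zero]; exact zero_mem _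
  by_cases hp : p.2 = 0
  · rw [dv_eq_zero_of_snd g hp (dv_mem_N1 g q hP), mul_zero]; exact zero_mem _
  refine mul_mem (mul_mem (natCast_mem _ _) (xv_mem_N1 g _ _ ?_))
    (dv_mem_N1 g p (dv_mem_N1 g q hP))
  omega

lemma Lw_mem (p : ℕ × ℕ) {P : RelRing g} (hP : P ∈ N1 g) : Lw g p P ∈ N1 g := by
  unfold Lw
  by_cases hp : p.2 = 0
  · rw [dv_eq_zero_of_snd g hp hP, mul_zero]; exact zero_mem _
  refine mul_mem (xv_mem_N1 g _ _ ?_) (dv_mem_N1 g p hP)
  omega

lemma G_mem {P : RelRing g} (hP : P ∈ N1 g) : G g P ∈ N1 g := by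
  unfold G
  exact add_mem (smul_mem_N1 g (by norm_num)
    (sum_mem fun p _ => sum_mem fun q _ => Tm_mem g p q hP)) (sum_mem fun p _ => Lw_mem g p hP)

lemma rho_F (P : RelRing g) (h20 : dv g (2, 0) (rho g P) = 0) :
    rho g (F g P) = G g (rho g P) := by
  rw [F_def]
  unfold G
  simp only [map_add, map_smul, map_sum, map_mul]
  congr 1
  · congr 1
    refine Finset.sum_congr rfl fun p _ => Finset.sum_congr rfl fun q _ => ?_
    rw [rho_dv_dv]
    unfold Aco Tm
    rw [map_sub, map_mul, map_mul, map_mul, rho_X_none, zero_mul, zero_mul, zero_sub,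
      map_natCast]
    by_cases hs : ((p.1 : ℤ) + q.1 - 2 = 0 ∧ (p.2 : ℤ) + q.2 = 0)
    · have hq2 : q.2 = 0 := by omega
      by_cases hm : mergeCoeff p.1 q.1 = 0
      · rw [hm]; simp
      · have hpq : p.1 ≠ 0 ∧ q.1 ≠ 0 := by
          unfold mergeCoeff at hm
          by_contra hcon
          apply hm
          rw [if_pos (by tauto)]
        have hq1 : q.1 = 1 := by omega
        have hnv : ¬ Valid g q := by
          intro hv
          obtain ⟨k, hk⟩ := hv.2.2.1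
          omega
        have : dv g q (rho g P) = 0 := by unfold dv; rw [dif_neg hnv]
        rw [this, dv_zero']; simp
    · rw [rho_xv g _ _ hs]; ring
  · refine Finset.sum_congr rfl fun p _ => ?_
    unfold Lw
    rw [rho_dv]
    by_cases hs : ((p.1 : ℤ) - 2 = 0 ∧ (p.2 : ℤ) = 0)
    · have hp : p = (2, 0) := Prod.ext (by omega) (by omega)
      subst hp
      rw [h20]; simp
    · rw [rho_xv g _ _ hs]; ring

/-! ### the order -/

/-- `Q - P` lies in the cone -/
def NLe (P Q : RelRing g) : Prop := ∃ D ∈ N1 g, Q = P + D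

lemma nle_refl (P : RelRing g) : NLe g P P := ⟨0, zero_mem _, (add_zero P).symm⟩

lemma nle_trans {P Q R : RelRing g} (h1 : NLe g P Q) (h2 : NLe g Q R) : NLe g P R := by
  obtain ⟨D1, hD1, rfl⟩ := h1
  obtain ⟨D2, hD2, rfl⟩ := h2
  exact ⟨D1 + D2, add_mem hD1 hD2, add_assoc _ _ _⟩

lemma nle_mul_left {A P Q : RelRing g} (hA : A ∈ N1 g) (h : NLe g P Q) :
    NLe g (A * P) (A * Q) := by
  obtain ⟨D, hD, rfl⟩ := h
  exact ⟨A * D, mul_mem hA hD, mul_add _ _ _⟩

lemma nle_smul {c : ℚ} (hc : 0 ≤ c) {P Q : RelRing g} (h : NLe g P Q) :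
    NLe g (c • P) (c • Q) := by
  obtain ⟨D, hD, rfl⟩ := h
  exact ⟨c • D, smul_mem_N1 g hc hD, smul_add _ _ _⟩

lemma nle_dv (p : ℕ × ℕ) {P Q : RelRing g} (h : NLe g P Q) :
    NLe g (dv g p P) (dv g p Q) := by
  obtain ⟨D, hD, rfl⟩ := h
  exact ⟨dv g p D, dv_mem_N1 g p hD, dv_add' g p _ _⟩

lemma nle_G {P Q : RelRing g} (h : NLe g P Q) : NLe g (G g P) (G g Q) := by
  obtain ⟨D, hD, rfl⟩ := h
  exact ⟨G g D, G_mem g hD, G_add g _ _⟩

/-! ### explicit steps -/

lemma dv_X (p q : ℕ × ℕ) (hq : Valid g q) :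
    dv g p (X (Option.some ⟨q, hq⟩) : RelRing g) = if p = q then 1 else 0 := by
  unfold dv
  by_cases hpq : p = q
  · subst hpq
    rw [dif_pos hq, if_pos rfl]
    exact pderiv_X_self _
  · rw [if_neg hpq]
    split_ifs with h
    · refine pderiv_X_of_ne ?_
      intro e
      exact hpq (congrArg Subtype.val (Option.some.inj e)).symm
    · rfl

lemma dv_X_pow (p : ℕ × ℕ) (hp : Valid g p) (s : ℕ) :
    dv g p ((X (Option.some ⟨p, hp⟩) : RelRing g) ^ s)
      = (s : RelRing g) * X (Option.some ⟨p, hp⟩) ^ (s - 1) := by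
  unfold dv
  rw [dif_pos hp, Derivation.leibniz_pow, pderiv_X_self]
  simp [nsmul_eq_mul]

lemma G_X (p : ℕ × ℕ) (hp : Valid g p) :
    G g (X (Option.some ⟨p, hp⟩)) = xv g ((p.1 : ℤ) - 2) (p.2 : ℤ) := by
  classical
  unfold G
  have h1 : ∀ p' q', Tm g p' q' (X (Option.some ⟨p, hp⟩)) = 0 := by
    intro p' q'
    unfold Tm
    rw [dv_X]
    split_ifs
    · rw [dv_one', mul_zero]
    · rw [dv_zero', mul_zero]
  simp only [h1, Finset.sum_const_zero, smul_zero, zero_add]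
  rw [Finset.sum_eq_single_of_mem p (mem_idx_of_valid g hp)]
  · unfold Lw
    rw [dv_X, if_pos rfl, mul_one]
  · intro p' _ hne
    unfold Lw
    rw [dv_X, if_neg hne, mul_zero]

lemma G_ge_Tm {M : RelRing g} (hM : M ∈ N1 g) {p0 q0 : ℕ × ℕ} (hp0 : p0 ∈ idx g)
    (hq0 : q0 ∈ idx g) : NLe g ((1 / 2 : ℚ) • Tm g p0 q0 M) (G g M) := by
  classical
  have e1 : (∑ q' ∈ idx g, Tm g p0 q' M)
      + ∑ p' ∈ (idx g).erase p0, ∑ q' ∈ idx g, Tm g p' q' M
      = ∑ p' ∈ idx g, ∑ q' ∈ idx g, Tm g p' q' M :=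
    Finset.add_sum_erase (idx g) (fun p' => ∑ q' ∈ idx g, Tm g p' q' M) hp0
  have e2 : Tm g p0 q0 M + ∑ q' ∈ (idx g).erase q0, Tm g p0 q' M
      = ∑ q' ∈ idx g, Tm g p0 q' M :=
    Finset.add_sum_erase (idx g) (fun q' => Tm g p0 q' M) hq0
  refine ⟨(1 / 2 : ℚ) • (∑ q' ∈ (idx g).erase q0, Tm g p0 q' M
      + ∑ p' ∈ (idx g).erase p0, ∑ q' ∈ idx g, Tm g p' q' M)
      + ∑ p' ∈ idx g, Lw g p' M, ?_, ?_⟩
  · exact add_mem (smul_mem_N1 g (by norm_num)
      (add_mem (sum_mem fun _ _ => Tm_mem g _ _ hM)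
        (sum_mem fun _ _ => sum_mem fun _ _ => Tm_mem g _ _ hM)))
      (sum_mem fun _ _ => Lw_mem g _ hM)
  · unfold G
    rw [← e1, ← e2]
    simp only [smul_add]
    abel

lemma dv_dv_ge (q : ℕ × ℕ) (hq : Valid g q) (hq2 : 1 ≤ q.2) (h31 : Valid g (3, 1)) (s : ℕ) :
    NLe g ((s : RelRing g) * X (Option.some ⟨(3, 1), h31⟩) ^ (s - 1))
      (dv g (3, 1) (dv g q
        (X (Option.some ⟨q, hq⟩) * X (Option.some ⟨(3, 1), h31⟩) ^ s))) := by
  have hYm : (X (Option.some ⟨(3, 1), h31⟩) : RelRing g) ∈ N1 g :=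
    X_mem_N1 g ⟨(3, 1), h31⟩ (le_refl 1)
  have hXm : (X (Option.some ⟨q, hq⟩) : RelRing g) ∈ N1 g := X_mem_N1 g ⟨q, hq⟩ hq2
  have h1 : NLe g (X (Option.some ⟨(3, 1), h31⟩) ^ s)
      (dv g q (X (Option.some ⟨q, hq⟩) * X (Option.some ⟨(3, 1), h31⟩) ^ s)) := by
    refine ⟨X (Option.some ⟨q, hq⟩) * dv g q (X (Option.some ⟨(3, 1), h31⟩) ^ s),
      mul_mem hXm (dv_mem_N1 g q (pow_mem hYm s)), ?_⟩
    rw [dv_mul', dv_X, if_pos rfl, mul_one, add_comm]
  have h2 := nle_dv g (3, 1) h1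
  rwa [dv_X_pow] at h2

lemma G_merge_ge (q : ℕ × ℕ) (hq : Valid g q) (hq2 : 1 ≤ q.2) (h31 : Valid g (3, 1)) (s : ℕ) :
    NLe g ((1 / 2 : ℚ) • ((mergeCoeff 3 q.1 : RelRing g)
        * xv g (((3 : ℕ) : ℤ) + q.1 - 2) (((1 : ℕ) : ℤ) + q.2)
        * ((s : RelRing g) * X (Option.some ⟨(3, 1), h31⟩) ^ (s - 1))))
      (G g (X (Option.some ⟨q, hq⟩) * X (Option.some ⟨(3, 1), h31⟩) ^ s)) := by
  have hM : (X (Option.some ⟨q, hq⟩) * X (Option.some ⟨(3, 1), h31⟩) ^ s : RelRing g)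
      ∈ N1 g :=
    mul_mem (X_mem_N1 g ⟨q, hq⟩ hq2) (pow_mem (X_mem_N1 g ⟨(3, 1), h31⟩ (le_refl 1)) s)
  refine nle_trans g ?_ (G_ge_Tm g hM (mem_idx_of_valid g h31) (mem_idx_of_valid g hq))
  refine nle_smul g (by norm_num) ?_
  unfold Tm
  refine nle_mul_left g (mul_mem (natCast_mem _ _) (xv_mem_N1 g _ _ ?_))
    (dv_dv_ge g q hq hq2 h31 s)
  push_cast
  omega

lemma rho_iter (P0 : RelRing g) (h0 : rho g P0 = P0) (hP0 : P0 ∈ N1 g) (n : ℕ) :
    rho g ((F g)^[n] P0) = (G g)^[n] P0 ∧ (G g)^[n] P0 ∈ N1 g := by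
  induction n with
  | zero => exact ⟨h0, hP0⟩
  | succ n ih =>
    rw [Function.iterate_succ_apply', Function.iterate_succ_apply']
    refine ⟨?_, G_mem g ih.2⟩
    rw [rho_F, ih.1]
    rw [ih.1]
    exact dv_eq_zero_of_snd g rfl ih.2

lemma mergeCoeff_three_pos (k : ℕ) : 0 < mergeCoeff 3 (k + 3) := by
  unfold mergeCoeff
  rw [if_neg (by omega)]
  exact Nat.choose_pos (by omega)

lemma chainA (i : ℕ) (hi : 1 ≤ i) (hig : i + 1 ≤ g) (h31 : Valid g (3, 1)) :
    ∀ j : ℕ, j ≤ 2 * i - 1 → ∃ κ : ℚ, 0 < κ ∧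
      NLe g (κ • (xv g ((j + 3 : ℕ) : ℤ) ((j + 1 : ℕ) : ℤ)
          * X (Option.some ⟨(3, 1), h31⟩) ^ (2 * i - 1 - j)))
        ((G g)^[j] (X (Option.some ⟨(3, 1), h31⟩) ^ (2 * i))) := by
  intro j
  induction j with
  | zero =>
    intro _
    refine ⟨1, one_pos, ?_⟩
    have e : xv g ((0 + 3 : ℕ) : ℤ) ((0 + 1 : ℕ) : ℤ) = X (Option.some ⟨(3, 1), h31⟩) :=
      xv_valid g h31
    rw [e, one_smul, Function.iterate_zero_apply, ← pow_succ']
    have : 2 * i - 1 - 0 + 1 = 2 * i := by omega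
    rw [this]
    exact nle_refl g _
  | succ j ih =>
    intro hj
    obtain ⟨κ, hκ, hle⟩ := ih (by omega)
    have hq : Valid g (j + 3, j + 1) := by
      refine ⟨le_refl _, ?_, ⟨j + 2, ?_⟩, by simp⟩
      · show j + 1 + 2 ≤ 2 * g
        omega
      · show j + 3 + (j + 1) = j + 2 + (j + 2)
        ring
    have ex : xv g ((j + 3 : ℕ) : ℤ) ((j + 1 : ℕ) : ℤ) = X (Option.some ⟨(j + 3, j + 1), hq⟩) :=
      xv_valid g hq
    rw [ex] at hle
    have h1 := nle_G g hle
    rw [G_smul] at h1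
    have hmerge : NLe g ((1 / 2 : ℚ) • ((mergeCoeff 3 (j + 3) : RelRing g)
        * xv g (((3 : ℕ) : ℤ) + ((j + 3 : ℕ) : ℤ) - 2) (((1 : ℕ) : ℤ) + ((j + 1 : ℕ) : ℤ))
        * (((2 * i - 1 - j : ℕ) : RelRing g)
          * X (Option.some ⟨(3, 1), h31⟩) ^ (2 * i - 1 - j - 1))))
        (G g (X (Option.some ⟨(j + 3, j + 1), hq⟩)
          * X (Option.some ⟨(3, 1), h31⟩) ^ (2 * i - 1 - j))) :=
      G_merge_ge g (j + 3, j + 1) hq (by show 1 ≤ j + 1; omega) h31 (2 * i - 1 - j)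
    have h2 := nle_trans g (nle_smul g hκ.le hmerge) h1
    have ea : ((3 : ℕ) : ℤ) + ((j + 3 : ℕ) : ℤ) - 2 = ((j + 1 + 3 : ℕ) : ℤ) := by
      push_cast; ring
    have eb : ((1 : ℕ) : ℤ) + ((j + 1 : ℕ) : ℤ) = ((j + 1 + 1 : ℕ) : ℤ) := by
      push_cast; ring
    have es : 2 * i - 1 - j - 1 = 2 * i - 1 - (j + 1) := by omega
    rw [ea, eb, es] at h2
    refine ⟨κ * (1 / 2 * (mergeCoeff 3 (j + 3) : ℚ) * ((2 * i - 1 - j : ℕ) : ℚ)), ?_, ?_⟩
    · have hm : (0 : ℚ) < (mergeCoeff 3 (j + 3) : ℚ) := by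
        exact_mod_cast mergeCoeff_three_pos j
      have hs : (0 : ℚ) < ((2 * i - 1 - j : ℕ) : ℚ) := by
        have : 0 < 2 * i - 1 - j := by omega
        exact_mod_cast this
      positivity
    · rw [Function.iterate_succ_apply']
      have key : κ • (1 / 2 : ℚ) • ((mergeCoeff 3 (j + 3) : RelRing g)
          * xv g ((j + 1 + 3 : ℕ) : ℤ) ((j + 1 + 1 : ℕ) : ℤ)
          * (((2 * i - 1 - j : ℕ) : RelRing g)
            * X (Option.some ⟨(3, 1), h31⟩) ^ (2 * i - 1 - (j + 1))))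
          = (κ * (1 / 2 * (mergeCoeff 3 (j + 3) : ℚ) * ((2 * i - 1 - j : ℕ) : ℚ)))
            • (xv g ((j + 1 + 3 : ℕ) : ℤ) ((j + 1 + 1 : ℕ) : ℤ)
              * X (Option.some ⟨(3, 1), h31⟩) ^ (2 * i - 1 - (j + 1))) := by
        rw [smul_eq_C_mul, smul_eq_C_mul, smul_eq_C_mul]
        simp only [map_mul, map_natCast]
        ring
      rw [← key]
      exact h2

lemma chainB (i : ℕ) (hi : 1 ≤ i) (hig : i + 1 ≤ g) (h31 : Valid g (3, 1)) :
    ∀ l : ℕ, l ≤ i + 1 → ∃ κ : ℚ, 0 < κ ∧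
      NLe g (κ • xv g ((2 * i + 2 - 2 * l : ℕ) : ℤ) ((2 * i : ℕ) : ℤ))
        ((G g)^[2 * i - 1 + l] (X (Option.some ⟨(3, 1), h31⟩) ^ (2 * i))) := by
  intro l
  induction l with
  | zero =>
    intro _
    obtain ⟨κ, hκ, h⟩ := chainA g i hi hig h31 (2 * i - 1) le_rfl
    refine ⟨κ, hκ, ?_⟩
    have e1 : 2 * i - 1 + 3 = 2 * i + 2 - 2 * 0 := by omega
    have e2 : 2 * i - 1 + 1 = 2 * i := by omega
    rw [e1, e2, Nat.sub_self, pow_zero, mul_one] at h
    rw [Nat.add_zero]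
    exact h
  | succ l ih =>
    intro hl
    obtain ⟨κ, hκ, hle⟩ := ih (by omega)
    have hp : Valid g (2 * i + 2 - 2 * l, 2 * i) := by
      refine ⟨?_, ?_, ⟨2 * i + 1 - l, ?_⟩, ?_⟩
      · show 2 * i + 2 - 2 * l ≤ 2 * i + 2
        omega
      · show 2 * i + 2 ≤ 2 * g
        omega
      · show 2 * i + 2 - 2 * l + 2 * i = 2 * i + 1 - l + (2 * i + 1 - l)
        omega
      · intro e
        have := (Prod.ext_iff.1 e).2
        simp only at this
        omega
    have ex : xv g ((2 * i + 2 - 2 * l : ℕ) : ℤ) ((2 * i : ℕ) : ℤ)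
        = X (Option.some ⟨(2 * i + 2 - 2 * l, 2 * i), hp⟩) := xv_valid g hp
    rw [ex] at hle
    have h1 := nle_G g hle
    rw [G_smul, G_X] at h1
    have ea : (((2 * i + 2 - 2 * l, 2 * i) : ℕ × ℕ).1 : ℤ) - 2
        = ((2 * i + 2 - 2 * (l + 1) : ℕ) : ℤ) := by
      show ((2 * i + 2 - 2 * l : ℕ) : ℤ) - 2 = _
      omega
    rw [ea] at h1
    refine ⟨κ, hκ, ?_⟩
    have e : 2 * i - 1 + (l + 1) = (2 * i - 1 + l) + 1 := by omega
    rw [e, Function.iterate_succ_apply']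
    exact h1

lemma constantCoeff_pderiv (v : Var g) (Q : RelRing g) :
    constantCoeff (pderiv v Q) = coeff (single v 1) Q := by
  classical
  induction Q using MvPolynomial.induction_on' with
  | monomial u a =>
    rw [pderiv_monomial, constantCoeff_monomial, coeff_monomial]
    by_cases hu : u = single v 1
    · subst hu
      simp
    · rw [if_neg hu]
      split_ifs with h0
      · have : u v = 0 := by
          by_contra hne
          apply hu
          have := Finsupp.sub_add_single_one_cancel hne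
          rw [h0, zero_add] at this
          exact this.symm
        rw [this]
        simp
      · rfl
  | add p q hp hq => rw [map_add, map_add, coeff_add, hp, hq]

lemma coeff_neg (i : ℕ) (hi : 1 ≤ i) (hig : i + 1 ≤ g) (h31 : Valid g (3, 1))
    (hx : Valid g (0, 2 * i)) :
    coeff (single (Option.some ⟨(0, 2 * i), hx⟩) 1)
      ((F g)^[3 * i] (X (Option.some ⟨(3, 1), h31⟩) ^ (2 * i))) < 0 := by
  have h0 : rho g (X (Option.some ⟨(3, 1), h31⟩) ^ (2 * i))
      = X (Option.some ⟨(3, 1), h31⟩) ^ (2 * i) := by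
    rw [map_pow, rho_X_some, Even.neg_pow (even_two_mul i)]
  have hm0 : (X (Option.some ⟨(3, 1), h31⟩) ^ (2 * i) : RelRing g) ∈ N1 g :=
    pow_mem (X_mem_N1 g ⟨(3, 1), h31⟩ (le_refl 1)) _
  obtain ⟨hR, -⟩ := rho_iter g _ h0 hm0 (3 * i)
  obtain ⟨κ, hκ, D, hD, hle⟩ := chainB g i hi hig h31 (i + 1) le_rfl
  have e1 : 2 * i - 1 + (i + 1) = 3 * i := by omega
  have e2 : 2 * i + 2 - 2 * (i + 1) = 0 := by omega
  rw [e1, e2] at hle
  have ex : xv g ((0 : ℕ) : ℤ) ((2 * i : ℕ) : ℤ) = X (Option.some ⟨(0, 2 * i), hx⟩) :=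
    xv_valid g hx
  rw [ex] at hle
  rw [← constantCoeff_pderiv]
  have hdv : ∀ Q : RelRing g, pderiv (Option.some ⟨(0, 2 * i), hx⟩) Q = dv g (0, 2 * i) Q := by
    intro Q
    unfold dv
    rw [dif_pos hx]
  rw [hdv]
  have h1 : constantCoeff (dv g (0, 2 * i)
      (rho g ((F g)^[3 * i] (X (Option.some ⟨(3, 1), h31⟩) ^ (2 * i)))))
      = - constantCoeff (dv g (0, 2 * i)
        ((F g)^[3 * i] (X (Option.some ⟨(3, 1), h31⟩) ^ (2 * i)))) := by
    have e := rho_dv g (0, 2 * i) ((F g)^[3 * i] (X (Option.some ⟨(3, 1), h31⟩) ^ (2 * i)))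
    have e' : dv g (0, 2 * i) (rho g ((F g)^[3 * i] (X (Option.some ⟨(3, 1), h31⟩) ^ (2 * i))))
        = - rho g (dv g (0, 2 * i)
          ((F g)^[3 * i] (X (Option.some ⟨(3, 1), h31⟩) ^ (2 * i)))) := by
      rw [e, neg_neg]
    rw [e', map_neg, constantCoeff_rho]
  rw [hR, hle, dv_add', dv_smul', dv_X, if_pos rfl, map_add, smul_eq_C_mul, map_mul,
    constantCoeff_C, map_one, mul_one] at h1
  have hD' : 0 ≤ constantCoeff (dv g (0, 2 * i) D) :=
    constantCoeff_nonneg_of_mem g (dv_mem_N1 g _ hD)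
  linarith

/-! ### final assembly -/

/-- the subalgebra `adjoin lowGens + relIdeal` -/
noncomputable def Tsub : Subalgebra ℚ (RelRing g) :=
  ((Algebra.adjoin ℚ (lowGens g)).map (Ideal.Quotient.mkₐ ℚ (relIdeal g))).comap
    (Ideal.Quotient.mkₐ ℚ (relIdeal g))

lemma mem_Tsub {Q : RelRing g} :
    Q ∈ Tsub g ↔ ∃ q ∈ Algebra.adjoin ℚ (lowGens g), Q - q ∈ relIdeal g := by
  unfold Tsub
  rw [Subalgebra.mem_comap, Subalgebra.mem_map]
  constructor
  · rintro ⟨q, hq, e⟩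
    refine ⟨q, hq, ?_⟩
    have e' : Ideal.Quotient.mk (relIdeal g) q = Ideal.Quotient.mk (relIdeal g) Q := e
    have := Ideal.Quotient.eq.1 e'
    rw [← neg_sub]
    exact neg_mem this
  · rintro ⟨q, hq, h⟩
    refine ⟨q, hq, ?_⟩
    show Ideal.Quotient.mk (relIdeal g) q = Ideal.Quotient.mk (relIdeal g) Q
    refine Ideal.Quotient.eq.2 ?_
    rw [← neg_sub]
    exact neg_mem h

lemma relIdeal_le_Tsub {Q : RelRing g} (h : Q ∈ relIdeal g) : Q ∈ Tsub g :=
  (mem_Tsub g).2 ⟨0, zero_mem _, by simpa using h⟩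

lemma adjoin_le_Tsub {Q : RelRing g} (h : Q ∈ Algebra.adjoin ℚ (lowGens g)) : Q ∈ Tsub g :=
  (mem_Tsub g).2 ⟨Q, h, by simp⟩

lemma eq_zero_of_weight_eq_zero (m : Var g →₀ ℕ) (h : weight (wt g) m = 0) : m = 0 := by
  have e := weight_comp (AddMonoidHom.fst ℕ ℕ + AddMonoidHom.snd ℕ ℕ) (wt g) m
  rw [h, map_zero] at e
  ext v
  have hv : (wt g v).1 + (wt g v).2 ≠ 0 := by
    rcases v with _ | ⟨⟨a, b⟩, hval⟩
    · show 0 + 2 ≠ 0
      norm_num
    · show a + b ≠ 0
      intro hab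
      apply hval.2.2.2
      have ha : a = 0 := by omega
      have hb : b = 0 := by omega
      subst ha
      subst hb
      rfl
  have := Finsupp.le_weight
    (fun v => (AddMonoidHom.fst ℕ ℕ + AddMonoidHom.snd ℕ ℕ) (wt g v)) hv m
  rw [e] at this
  simpa using this

lemma var_of_mem_support (i : ℕ) (hx : Valid g (0, 2 * i)) (m : Var g →₀ ℕ)
    (hw : weight (wt g) m = (0, 2 * i))
    (hm : m ≠ single (Option.some ⟨(0, 2 * i), hx⟩) 1) (v : Var g) (hv : v ∈ m.support) :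
    v = none ∨ ∃ j, 1 ≤ j ∧ j < i ∧
      ∃ h : Valid g (0, 2 * j), v = Option.some ⟨(0, 2 * j), h⟩ := by
  rcases v with _ | ⟨⟨a, b⟩, hval⟩
  · exact Or.inl rfl
  right
  have hmv : m (Option.some ⟨(a, b), hval⟩) ≠ 0 := Finsupp.mem_support_iff.1 hv
  have e := weight_sub_single_add (w := wt g) hmv
  rw [hw] at e
  have e1 := (Prod.ext_iff.1 e).1
  have e2 := (Prod.ext_iff.1 e).2
  simp only [Prod.fst_add, Prod.snd_add] at e1 e2
  change _ + a = 0 at e1
  change _ + b = 2 * i at e2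
  have ha : a = 0 := by omega
  subst ha
  obtain ⟨k, hk⟩ : Even (0 + b) := hval.2.2.1
  have hb0 : b ≠ 0 := by
    intro hb
    apply hval.2.2.2
    rw [hb]
  have hb : b = 2 * k := by omega
  subst hb
  by_cases hki : k = i
  · exfalso
    subst hki
    apply hm
    have hW : weight (wt g) (m - single (Option.some ⟨(0, 2 * k), hval⟩) 1) = 0 := by
      refine Prod.ext ?_ ?_
      · show (weight (wt g) _).1 = 0
        omega
      · show (weight (wt g) _).2 = 0
        omega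
    have hz := eq_zero_of_weight_eq_zero g _ hW
    have := Finsupp.sub_add_single_one_cancel hmv
    rw [hz, zero_add] at this
    exact this.symm
  · exact ⟨k, by omega, by omega, hval, rfl⟩

lemma monomial_mem_Tsub (i : ℕ) (hx : Valid g (0, 2 * i))
    (IH : ∀ j, j < i → xv g 0 (2 * (j : ℤ)) ∈ Tsub g)
    (m : Var g →₀ ℕ) (a : ℚ) (hw : weight (wt g) m = (0, 2 * i))
    (hm : m ≠ single (Option.some ⟨(0, 2 * i), hx⟩) 1) : monomial m a ∈ Tsub g := by
  rw [monomial_eq]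
  refine mul_mem ?_ ?_
  · rw [← algebraMap_eq]
    exact Subalgebra.algebraMap_mem _ _
  · rw [Finsupp.prod]
    refine prod_mem fun v hv => pow_mem ?_ _
    rcases var_of_mem_support g i hx m hw hm v hv with rfl | ⟨j, -, hji, h, rfl⟩
    · exact adjoin_le_Tsub g (Algebra.subset_adjoin (Or.inl rfl))
    · have h1 := IH j hji
      have e : xv g 0 (2 * (j : ℤ)) = xv g ((0 : ℕ) : ℤ) ((2 * j : ℕ) : ℤ) := by
        congr 1
      have e' : xv g ((0 : ℕ) : ℤ) ((2 * j : ℕ) : ℤ) = X (Option.some ⟨(0, 2 * j), h⟩) :=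
        xv_valid g h
      rwa [e, e'] at h1

theorem main99 (hg : 1 ≤ g) : ∀ i : ℕ, xv g 0 (2 * (i : ℤ)) ∈ Tsub g := by
  intro i
  induction i using Nat.strong_induction_on with
  | _ i IH =>
  by_cases hi0 : i = 0
  · subst hi0
    have : xv g 0 (2 * ((0 : ℕ) : ℤ)) = (g : RelRing g) := by
      rw [Nat.cast_zero, mul_zero]
      exact xv_zero g
    rw [this]
    exact natCast_mem _ _
  by_cases hig : g ≤ i
  · have : xv g 0 (2 * (i : ℤ)) = 0 := by
      unfold xv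
      rw [if_neg (fun h => by omega), dif_neg]
      rintro ⟨-, -, hv⟩
      have := hv.2.1
      simp only at this
      omega
    rw [this]
    exact zero_mem _
  by_cases hlow : 3 * i ≤ g
  · exact adjoin_le_Tsub g (Algebra.subset_adjoin
      (Or.inr ⟨i, by omega, hlow, rfl⟩))
  push Not at hig hlow
  have h31 : Valid g (3, 1) := by
    refine ⟨le_refl _, ?_, ⟨2, rfl⟩, by simp⟩
    show 1 + 2 ≤ 2 * g
    omega
  have hx : Valid g (0, 2 * i) := by
    refine ⟨?_, ?_, ⟨i, ?_⟩, ?_⟩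
    · show 0 ≤ 2 * i + 2
      omega
    · show 2 * i + 2 ≤ 2 * g
      omega
    · show 0 + 2 * i = i + i
      ring
    · intro e
      have := (Prod.ext_iff.1 e).2
      simp only at this
      omega
  obtain ⟨R, hRdef⟩ : ∃ R, R = (F g)^[3 * i] (X (Option.some ⟨(3, 1), h31⟩) ^ (2 * i)) :=
    ⟨_, rfl⟩
  have hwt : weight (wt g) (single (Option.some ⟨(3, 1), h31⟩ : Var g) (2 * i))
      = (6 * i, 2 * i) := by
    rw [weight_single]
    refine Prod.ext ?_ ?_
    · show (2 * i) • 3 = 6 * i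
      rw [smul_eq_mul]; ring
    · show (2 * i) • 1 = 2 * i
      rw [smul_eq_mul]; ring
  have hRmem : R ∈ relIdeal g := by
    refine Ideal.subset_span ⟨single (Option.some ⟨(3, 1), h31⟩) (2 * i), 3 * i, ?_, ?_⟩
    · rw [hwt]
      show 2 * g < 6 * i
      omega
    · rw [hRdef, X_pow_eq_monomial]
  have hRw : ∀ m ∈ R.support, weight (wt g) m = (0, 2 * i) := by
    intro m hm
    have hmon : IsWeightedHomogeneous (wz g)
        (monomial (single (Option.some ⟨(3, 1), h31⟩ : Var g) (2 * i)) (1 : ℚ))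
        (((6 * i : ℕ) : ℤ), ((2 * i : ℕ) : ℤ)) :=
      isWH_wz_of_wt g (isWeightedHomogeneous_monomial _ _ _ hwt)
    have hk := Fiter_hom g (3 * i) hmon
    rw [← X_pow_eq_monomial, ← hRdef] at hk
    have hw := hk (MvPolynomial.mem_support_iff.1 hm)
    rw [weight_wz] at hw
    have hw1 : ((weight (wt g) m).1 : ℤ) = ((6 * i : ℕ) : ℤ) - 2 * ((3 * i : ℕ) : ℤ) :=
      (Prod.ext_iff.1 hw).1
    have hw2 : ((weight (wt g) m).2 : ℤ) = ((2 * i : ℕ) : ℤ) - 0 := (Prod.ext_iff.1 hw).2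
    refine Prod.ext ?_ ?_
    · show (weight (wt g) m).1 = 0
      omega
    · show (weight (wt g) m).2 = 2 * i
      omega
  have hc : coeff (single (Option.some ⟨(0, 2 * i), hx⟩) 1) R < 0 := by
    rw [hRdef]
    exact coeff_neg g i (by omega) (by omega) h31 hx
  have hm0 : single (Option.some ⟨(0, 2 * i), hx⟩) 1 ∈ R.support :=
    MvPolynomial.mem_support_iff.2 hc.ne
  classical
  have hsplit := Finset.add_sum_erase R.support (fun m => monomial m (coeff m R)) hm0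
  rw [support_sum_monomial_coeff] at hsplit
  have hrest : ∑ m ∈ R.support.erase (single (Option.some ⟨(0, 2 * i), hx⟩) 1),
      monomial m (coeff m R) ∈ Tsub g := by
    refine sum_mem fun m hm => ?_
    obtain ⟨hne, hms⟩ := Finset.mem_erase.1 hm
    exact monomial_mem_Tsub g i hx IH m _ (hRw m hms) hne
  have hmono : monomial (single (Option.some ⟨(0, 2 * i), hx⟩ : Var g) 1)
      (coeff (single (Option.some ⟨(0, 2 * i), hx⟩) 1) R) ∈ Tsub g := by
    have : monomial (single (Option.some ⟨(0, 2 * i), hx⟩ : Var g) 1)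
        (coeff (single (Option.some ⟨(0, 2 * i), hx⟩) 1) R)
        = R - ∑ m ∈ R.support.erase (single (Option.some ⟨(0, 2 * i), hx⟩) 1),
          monomial m (coeff m R) := by
      rw [eq_sub_iff_add_eq]; exact hsplit
    rw [this]
    exact sub_mem (relIdeal_le_Tsub g hRmem) hrest
  rw [← C_mul_X_eq_monomial, ← smul_eq_C_mul] at hmono
  have hX := Subalgebra.smul_mem (Tsub g) hmono
    (coeff (single (Option.some ⟨(0, 2 * i), hx⟩) 1) R)⁻¹
  rw [smul_smul, inv_mul_cancel₀ hc.ne, one_smul] at hX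
  have e : xv g 0 (2 * (i : ℤ)) = xv g ((0 : ℕ) : ℤ) ((2 * i : ℕ) : ℤ) := by
    congr 1
  have e' : xv g ((0 : ℕ) : ℤ) ((2 * i : ℕ) : ℤ) = X (Option.some ⟨(0, 2 * i), hx⟩) :=
    xv_valid g hx
  rw [e, e']
  exact hX

theorem main99' (hg : 1 ≤ g) (i : ℕ) :
    ∃ q ∈ Algebra.adjoin ℚ (lowGens g), xv g 0 (2 * (i : ℤ)) - q ∈ relIdeal g :=
  (mem_Tsub g).1 (main99 g hg i)

end Groth.Agent.Lib.Helper2.TautSl2
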