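import Mathlib
import Groth.Agent.Lib.Helper2CohBCG
import Groth.Agent.S2406
import Groth.Agent.S2407

set_option autoImplicit false
set_option linter.style.haveILetI false
universe u
open CategoryTheory CategoryTheory.Limits MonoidalCategory TensorProduct Opposite

namespace Groth.Agent.Lib.Helper2.TopCohA

open Groth.Agent.Lib.Helper2.CohBCA Groth.Agent.Lib.Helper2.CohBCF Groth.Agent.Lib.Helper2.CohBCG

variable {R : Type u} [CommRing R] (P : ChainComplex (ModuleCat.{u} R) ℤ)

theorem finite_homology' [IsNoetherianRing R] (hP : ∀ i, Module.Finite R (P.X i)) (p : ℤ) :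
    Module.Finite R (P.homology p) := by
  have := hP p
  have h1 : Function.Injective (P.iCycles p).hom := (ModuleCat.mono_iff_injective _).1 inferInstance
  have h2 : Function.Surjective (P.homologyπ p).hom := (ModuleCat.epi_iff_surjective _).1 inferInstance
  haveI : Module.Finite R (P.cycles p) := Module.Finite.of_injective (P.iCycles p).hom h1
  exact Module.Finite.of_surjective (P.homologyπ p).hom h2

/-- the corepresenting module of a right exact `T_q` is `H_q(P)` -/
theorem nonempty_linearEquiv_of_iso_tensorLeft (q : ℤ) (N : ModuleCat.{u} R)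
    (α : CohIII.TFun P q ≅ tensorLeft N) : Nonempty (↑N ≃ₗ[R] ↑(P.homology q)) := by
  let i1 : (CohIII.TFun P q).obj (ModuleCat.of R R) ≅ N ⊗ (ModuleCat.of R R) :=
    α.app (ModuleCat.of R R)
  let i2 : N ⊗ (ModuleCat.of R R) ≅ N := ρ_ N
  exact ⟨(i2.symm ≪≫ i1.symm ≪≫ Groth.Agent.Lib.Helper3.TUnitIso P q).toLinearEquiv⟩

/-- `T_q` of an algebra is the homology of the base change -/
theorem subsingleton_T_of_subsingleton_bcCx (K : Type u) [CommRing K] [Algebra R K] (q : ℤ)
    (h : Subsingleton ↑((CohIII.bcCx (algebraMap R K) P).homology q)) :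
    Subsingleton ↑((CohIII.TFun P q).obj (ModuleCat.of R K)) := by
  let C := CohIII.bcCx (algebraMap R K) P
  let F := ModuleCat.restrictScalars.{u} (algebraMap R K)
  let i1 : ((F.mapHomologicalComplex _).obj C).homology q ≅
      (CohIII.tensorObj P (ModuleCat.of R K)).homology q :=
    (HomologicalComplex.homologyFunctor _ _ q).mapIso (restrictBcCxIso R K P)
  let i2 : ((F.mapHomologicalComplex _).obj C).homology q ≅ F.obj (C.homology q) :=
    (C.sc q).mapHomologyIso F
  let e : ↑((CohIII.TFun P q).obj (ModuleCat.of R K)) ≃ₗ[R] ↑(F.obj (C.homology q)) :=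
    (i1.symm ≪≫ i2).toLinearEquiv
  haveI : Subsingleton ↑(F.obj (C.homology q)) := h
  exact e.injective.subsingleton

theorem finite_homology_bcCx (K : Type u) [Field K] [Algebra R K]
    (hP : ∀ i, Module.Finite R (P.X i)) (q : ℤ) :
    Module.Finite K ↑((CohIII.bcCx (algebraMap R K) P).homology q) := by
  haveI : ∀ i, Module.Finite K ((CohIII.bcCx (algebraMap R K) P).X i) := by
    intro i
    have := hP i
    exact Groth.Agent.S2380.finite_extendScalars R K (P.X i)
  exact finite_homology' (R := K) (CohIII.bcCx (algebraMap R K) P) (fun i => inferInstance) q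

/-- a right exact `T_q` with vanishing fibre ranks vanishes -/
theorem isZero_T_of_dRank_zero [IsNoetherianRing R]
    (hP : ∀ i, Module.Finite R (P.X i) ∧ Module.Flat R (P.X i)) (q : ℤ)
    (hepi : (CohIII.TFun P q).PreservesEpimorphisms)
    (hr : ∀ s : PrimeSpectrum R, CohIII.dRank P q s = 0) (M : ModuleCat.{u} R) :
    IsZero ((CohIII.TFun P q).obj M) := by
  obtain ⟨N, ⟨α⟩⟩ := (Groth.Agent.S2407.result P (fun i => (hP i).2) q).1 hepi
  obtain ⟨e⟩ := nonempty_linearEquiv_of_iso_tensorLeft P q N α
  haveI : Module.Finite R (P.homology q) := finite_homology' P (fun i => (hP i).1) q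
  haveI : Module.Finite R N := Module.Finite.equiv e.symm
  have hN : Subsingleton N := by
    rw [← Module.support_eq_empty_iff (R := R)]
    ext s
    simp only [Set.mem_empty_iff_false, iff_false]
    rw [Module.mem_support_iff_nontrivial_residueField_tensorProduct, not_nontrivial_iff_subsingleton]
    -- `κ(s) ⊗ N ≅ N ⊗ κ(s) ≅ T_q(κ(s))`
    have h1 : Subsingleton ↑((CohIII.bcCx (algebraMap R s.asIdeal.ResidueField) P).homology q) := by
      haveI := finite_homology_bcCx P s.asIdeal.ResidueField (fun i => (hP i).1) q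
      exact Module.finrank_zero_iff.1 (hr s)
    have h2 := subsingleton_T_of_subsingleton_bcCx P s.asIdeal.ResidueField q h1
    let i3 : (CohIII.TFun P q).obj (ModuleCat.of R s.asIdeal.ResidueField) ≅
        N ⊗ (ModuleCat.of R s.asIdeal.ResidueField) := α.app _
    haveI : Subsingleton ↑(N ⊗ (ModuleCat.of R s.asIdeal.ResidueField)) :=
      i3.toLinearEquiv.symm.injective.subsingleton
    haveI : Subsingleton (↑N ⊗[R] s.asIdeal.ResidueField) :=
      inferInstanceAs (Subsingleton ↑(N ⊗ (ModuleCat.of R s.asIdeal.ResidueField)))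
    exact (TensorProduct.comm R s.asIdeal.ResidueField ↑N).injective.subsingleton
  haveI : Subsingleton ↑((tensorLeft N).obj M) := by
    have : Subsingleton (↑N ⊗[R] ↑M) := inferInstance
    exact this
  haveI : Subsingleton ↑((CohIII.TFun P q).obj M) := (α.app M).toLinearEquiv.injective.subsingleton
  exact ModuleCat.isZero_of_subsingleton _

theorem isZero_T_of_isZero_X' (q : ℤ) (M : ModuleCat.{u} R) (h : IsZero (P.X q)) :
    IsZero ((CohIII.TFun P q).obj M) := by
  have h1 : IsZero ((CohIII.tensorObj P M).X q) := by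
    have : IsZero ((tensorRight M).obj (P.X q)) :=
      Functor.map_isZero (tensorRight M) h
    exact this
  change IsZero ((CohIII.tensorObj P M).homology q)
  rw [← HomologicalComplex.exactAt_iff_isZero_homology]
  exact HomologicalComplex.ExactAt.of_isZero h1

/-- flatness from preservation of monomorphisms by `N ⊗ -` -/
theorem flat_of_preservesMono_tensorLeft (N : ModuleCat.{u} R)
    (h : (tensorLeft N).PreservesMonomorphisms) : Module.Flat R N := by
  rw [Module.Flat.iff_lTensor_preserves_injective_linearMap'.{u, u, u}]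
  intro M M' _ _ _ _ L hL
  haveI : Mono (ModuleCat.ofHom L) := (ModuleCat.mono_iff_injective _).2 hL
  haveI : Mono ((tensorLeft N).map (ModuleCat.ofHom L)) := h.preserves _
  exact (ModuleCat.mono_iff_injective ((tensorLeft N).map (ModuleCat.ofHom L))).1 inferInstance

/-- **top degree base change, two-term form**: if the fibre ranks vanish in degrees `≤ -2` and
`H_{-1}(P)` is projective, then `H_0(P)` is projective. -/
theorem projective_homology_zero [IsNoetherianRing R]
    (hP : ∀ i, Module.Finite R (P.X i) ∧ Module.Flat R (P.X i))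
    (hpos : ∀ i : ℤ, 0 < i → IsZero (P.X i)) (b : ℤ) (hb : ∀ i : ℤ, i < b → IsZero (P.X i))
    (hr : ∀ q : ℤ, q ≤ -2 → ∀ s : PrimeSpectrum R, CohIII.dRank P q s = 0)
    (h1 : Module.Projective R (P.homology (-1))) : Module.Projective R (P.homology 0) := by
  have hflat : ∀ i, Module.Flat R (P.X i) := fun i => (hP i).2
  -- vanishing of `T_q` for `q ≤ -2`
  have key : ∀ (n : ℕ) (q : ℤ), q < b + n → q ≤ -2 → ∀ M : ModuleCat.{u} R,
      IsZero ((CohIII.TFun P q).obj M) := by
    intro n
    induction n with
    | zero =>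
      intro q hq _ M
      exact isZero_T_of_isZero_X' P q M (hb q (by simpa using hq))
    | succ n ih =>
      intro q hq hq2 M
      have hz := ih (q - 1) (by push_cast at hq; omega) (by omega)
      have hm : (CohIII.TFun P (q - 1)).PreservesMonomorphisms := preservesMono_of_isZero P (q - 1) hz
      have he : (CohIII.TFun P q).PreservesEpimorphisms :=
        (Groth.Agent.S2406.result P hflat q (q - 1) (by ring)).2 hm
      exact isZero_T_of_dRank_zero P hP q he (hr q hq2) M
  have hz2 : ∀ M : ModuleCat.{u} R, IsZero ((CohIII.TFun P (-2)).obj M) := by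
    intro M
    obtain ⟨n, hn⟩ : ∃ n : ℕ, (-2 : ℤ) < b + n := ⟨(-1 - b).toNat, by omega⟩
    exact key n (-2) hn le_rfl M
  -- `T_{-1}` is right exact, hence `H_{-1}(P) ⊗ -`, hence exact
  have he1 : (CohIII.TFun P (-1)).PreservesEpimorphisms :=
    (Groth.Agent.S2406.result P hflat (-1) (-2) (by norm_num)).2 (preservesMono_of_isZero P (-2) hz2)
  obtain ⟨N₁, ⟨α₁⟩⟩ := (Groth.Agent.S2407.result P hflat (-1)).1 he1
  obtain ⟨e₁⟩ := nonempty_linearEquiv_of_iso_tensorLeft P (-1) N₁ α₁
  haveI : Module.Projective R N₁ := Module.Projective.of_equiv e₁.symm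
  haveI : Module.Flat R N₁ := inferInstance
  have hm1 : (CohIII.TFun P (-1)).PreservesMonomorphisms := by
    haveI : (tensorLeft N₁).PreservesMonomorphisms := inferInstance
    exact Functor.PreservesMonomorphisms.of_iso α₁.symm
  -- `T_0` is exact
  have he0 : (CohIII.TFun P 0).PreservesEpimorphisms :=
    (Groth.Agent.S2406.result P hflat 0 (-1) (by norm_num)).2 hm1
  have hm0 : (CohIII.TFun P 0).PreservesMonomorphisms :=
    (Groth.Agent.S2406.result P hflat 1 0 (by norm_num)).1
      (preservesEpi_of_isZero P 1 (fun M => isZero_T_of_isZero_X' P 1 M (hpos 1 one_pos)))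
  obtain ⟨N₀, ⟨α₀⟩⟩ := (Groth.Agent.S2407.result P hflat 0).1 he0
  obtain ⟨e₀⟩ := nonempty_linearEquiv_of_iso_tensorLeft P 0 N₀ α₀
  haveI : (tensorLeft N₀).PreservesMonomorphisms := Functor.PreservesMonomorphisms.of_iso α₀
  haveI : Module.Flat R N₀ := flat_of_preservesMono_tensorLeft N₀ inferInstance
  haveI : Module.Finite R (P.homology 0) := finite_homology' P (fun i => (hP i).1) 0
  haveI : Module.Flat R (P.homology 0) := Module.Flat.of_linearEquiv e₀.symm
  haveI : Module.FinitePresentation R (P.homology 0) := Module.finitePresentation_of_finite R _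
  exact Module.Flat.projective_of_finitePresentation

end Groth.Agent.Lib.Helper2.TopCohA
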