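import Mathlib
import Groth.Agent.Lib.Helper2TopDegC
import Groth.Agent.Lib.Helper17FinProjLoc
import Groth.Agent.Lib.Helper23TensorQCoh
import Groth.Agent.Lib.Helper23FinTypeLocal

/-!
# `R^d f_* M` is quasi-coherent of finite type for `f` proper with fibres of dimension at most `d`
and `M` quasi-coherent of finite type (helper2)

Namespace `Groth.Agent.Lib.Helper2.TopDegD`.
-/

set_option autoImplicit false
set_option linter.style.haveILetI false
universe u
open CategoryTheory CategoryTheory.Limits AlgebraicGeometry TopologicalSpace Opposite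

namespace Groth.Agent.Lib.Helper2.TopDegD

open Groth.Agent.Lib.Helper17.GammaA Groth.Agent.Lib.Helper17.FinAff
  Groth.Agent.Lib.Helper17.FinMod Groth.Agent.Lib.Helper17.FinLoc

local instance (X : Scheme.{u}) : EnoughInjectives X.Modules :=
  Groth.Agent.Lib.Helper17.QCPush.enoughInjectives X

/-- base `Spec B` -/
theorem isCoh_Rpush_top_spec {B : Type u} [CommRing B] {W : Scheme.{u}}
    (h : W ⟶ Spec (CommRingCat.of B)) [IsProper h] (d : ℕ)
    (hd : ∀ t, topologicalKrullDim ↥(h.fiber t) ≤ d) (G : W.Modules) (hG : Coh.IsCoh G) :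
    Coh.IsCoh ((Coh.Rpush h d).obj G) := by
  haveI : Coh.IsQCoh G := hG.1
  haveI : ((Coh.Rpush h d).obj G).IsQuasicoherent := Groth.Agent.S0030.result h G d
  obtain ⟨e⟩ := nonempty_gS_Rpush_iso h G d
  have hfin := Groth.Agent.Lib.Helper2.TopDegC.finite_HH_top B h d hd G hG
  letI : W.Over (Spec (CommRingCat.of B)) := ⟨h⟩
  have hfin' : Module.Finite B (((gammaA h).rightDerived d).obj G) := (finite_iff B d G).2 hfin
  have h1 : Module.Finite B ((gS B).obj ((Coh.Rpush h d).obj G)) := by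
    haveI := hfin'
    exact Module.Finite.equiv e.symm.toLinearEquiv
  exact isCoh_of_finite_gS _ h1

/-- affine base -/
theorem isCoh_Rpush_top_of_isAffine {X Y : Scheme.{u}} [IsAffine Y] (f : X ⟶ Y) [IsProper f]
    (d : ℕ) (hd : ∀ y : Y, topologicalKrullDim ↥(f.fiber y) ≤ d) (M : X.Modules)
    (hM : Coh.IsCoh M) : Coh.IsCoh ((Coh.Rpush f d).obj M) := by
  have sq : IsPullback (𝟙 X) (f ≫ Y.isoSpec.hom) f Y.isoSpec.inv := by
    haveI : IsIso (𝟙 X) := IsIso.id _
    exact IsPullback.of_horiz_isIso ⟨by simp⟩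
  have hd' : ∀ t, topologicalKrullDim ↥((f ≫ Y.isoSpec.hom).fiber t) ≤ d :=
    Groth.Agent.Lib.Helper2.FibVanC.fibre_dim_le_of_isPullback f _ _ _ sq d hd
  have hc := isCoh_Rpush_top_spec (B := Γ(Y, ⊤)) (f ≫ Y.isoSpec.hom) d hd' M hM
  obtain ⟨e⟩ := nonempty_Rpush_comp_closedImmersion (f ≫ Y.isoSpec.hom) Y.isoSpec.inv M d
  haveI := hc.1
  haveI := hc.2
  haveI : ((Scheme.Modules.pushforward Y.isoSpec.inv).obj
      ((Coh.Rpush (f ≫ Y.isoSpec.hom) d).obj M)).IsQuasicoherent :=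
    Groth.Agent.Lib.Helper23.QCohLocal.isQuasicoherent_pushforward _ _
  haveI : SheafOfModules.IsFiniteType (R := Y.ringCatSheaf)
      ((Scheme.Modules.pushforward Y.isoSpec.inv).obj
        ((Coh.Rpush (f ≫ Y.isoSpec.hom) d).obj M)) :=
    (Groth.Agent.Lib.Helper2.FinPushFP.isFiniteType_pushforward_iff Y.isoSpec.inv _).1 inferInstance
  have h3 : (f ≫ Y.isoSpec.hom) ≫ Y.isoSpec.inv = f := by
    rw [Category.assoc, Iso.hom_inv_id, Category.comp_id]
  rw [h3] at e
  exact ⟨Groth.Agent.Lib.Helper23.TensorQCoh.isQuasicoherent_of_iso e.symm,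
    Groth.Agent.Lib.Helper23.FinType.isFiniteType_of_iso e.symm⟩

/-- the general statement -/
theorem isCoh_Rpush_top {X Y : Scheme.{u}} (f : X ⟶ Y) [IsProper f] (d : ℕ)
    (hd : ∀ y : Y, topologicalKrullDim ↥(f.fiber y) ≤ d) (M : X.Modules) (hM : Coh.IsCoh M) :
    Coh.IsCoh ((Coh.Rpush f d).obj M) := by
  haveI : Coh.IsQCoh M := hM.1
  refine isCoh_Rpush_of_forall_affine f M d (fun V hV => ?_)
  haveI : IsAffine (V : Scheme.{u}) := hV
  haveI : IsProper (f ∣_ V) := inferInstance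
  refine isCoh_Rpush_top_of_isAffine (f ∣_ V) d (fun w => ?_) _ (isCoh_restrict (f ⁻¹ᵁ V).ι M hM)
  rw [Groth.Agent.Lib.Helper3.FlatFibDim2.dim_fiber_eq_of_isPullback f V.ι (f ∣_ V)
    (f ⁻¹ᵁ V).ι (isPullback_morphismRestrict f V).flip w]
  exact hd _

end Groth.Agent.Lib.Helper2.TopDegD
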