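import Mathlib
import Groth.Agent.Lib.Helper2TrivFibA
import Groth.Agent.Lib.Helper2TensorInv
import Groth.Agent.Lib.Helper23SecTw6
import Groth.Agent.Lib.Helper23AmpleIso

/-!
# Negative powers of a non-torsion invertible module with effective high powers have no sections
(helper2)

On an integral proper scheme over a field: if `L^j` has a nonzero section for all `j ≥ 4` and no
positive power of `L` is trivial, then `H⁰(M^i) = 0` for every `i ≥ 1`, `M` an inverse of `L`.
-/

set_option autoImplicit false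
set_option linter.style.haveILetI false
universe u
open CategoryTheory CategoryTheory.Limits AlgebraicGeometry TopologicalSpace

namespace Groth.Agent.Lib.Helper2.TrivPowA

open Groth.Agent.Lib.Helper2.TrivFibA Groth.Agent.Lib.Helper27ProjFormula
  Groth.Agent.Lib.Helper27ExtTwist1
  Groth.Agent.Lib.Helper21.ModTensor3 Groth.Agent.Lib.Helper21.ModTensor5
  Groth.Agent.Lib.Helper21.ModTensor7

section

variable {Z : Scheme.{u}}

/-- tensor powers of an inverse pair are an inverse pair -/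
theorem nonempty_tensorPow_inverse (P Q : Z.Modules) (hP : PicF.IsInvertible P)
    (hQ : PicF.IsInvertible Q) (e : CohB1.tensorMod P Q ≅ Coh.structureModule Z) (n : ℕ) :
    Nonempty (CohB1.tensorMod (CohB1.tensorPow P n) (CohB1.tensorPow Q n) ≅
      Coh.structureModule Z) := by
  obtain ⟨a⟩ := Groth.Agent.Lib.Helper23.SecTw.nonempty_tensorPow_tensorMod_iso P Q hP hQ n
  exact ⟨a ≪≫ Groth.Agent.Lib.Helper23.AmpleIso.tensorPowIso e n ≪≫
    Groth.Agent.Lib.Helper23.TensorUnit.tensorPowUnitIso n⟩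

/-- the braiding for `tensorMod` -/
noncomputable def swapIso (A B : Z.Modules) : CohB1.tensorMod A B ≅ CohB1.tensorMod B A :=
  brdApp Z.sheaf A B

end

section

variable (k : Type u) [Field k] (Z : Scheme.{u}) [Z.Over (Spec (CommRingCat.of k))]
  [IsProper (Z ↘ Spec (CommRingCat.of k))] [IsIntegral Z]

omit [Z.Over (Spec (CommRingCat.of k))] [IsProper (Z ↘ Spec (CommRingCat.of k))] in
/-- the `n`-th power of a nonzero section of an invertible module, as a monomorphism -/
theorem exists_mono_tensorPow (P Q : Z.Modules) (hP : PicF.IsInvertible P)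
    (hQ : PicF.IsInvertible Q) (e : CohB1.tensorMod P Q ≅ Coh.structureModule Z)
    (t : Coh.structureModule Z ⟶ Q) (ht : t ≠ 0) (n : ℕ) :
    ∃ u : Coh.structureModule Z ⟶ CohB1.tensorPow Q n, Mono u := by
  induction n with
  | zero =>
    have h0 : Mono (𝟙 (Coh.structureModule Z)) := by infer_instance
    exact ⟨𝟙 (Coh.structureModule Z), h0⟩
  | succ n ih =>
    obtain ⟨u, hu⟩ := ih
    obtain ⟨en⟩ := nonempty_tensorPow_inverse P Q hP hQ e n
    have hQn := Groth.Agent.Lib.Helper23.SecTw.isInvertible_tensorPow hQ n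
    have hQn1 := Groth.Agent.Lib.Helper23.SecTw.isInvertible_tensorPow hQ (n + 1)
    let v : CohB1.tensorPow Q n ⟶ CohB1.tensorPow Q (n + 1) :=
      (rightUnitIso (CohB1.tensorPow Q n)).inv ≫ (TL Z (CohB1.tensorPow Q n)).map t
    have hv0 : (TL Z (CohB1.tensorPow Q n)).map t ≠ 0 :=
      TL_map_ne_zero (CohB1.tensorPow Q n) (CohB1.tensorPow P n)
        (swapIso _ _ ≪≫ en) en t ht
    have hv : v ≠ 0 := by
      intro h
      apply hv0
      exact (cancel_epi (rightUnitIso (CohB1.tensorPow Q n)).inv).1 (h.trans comp_zero.symm)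
    haveI : Mono v := Groth.Agent.Lib.Helper6.CurveDeg.mono_of_ne_zero hQn hQn1 v hv
    exact ⟨u ≫ v, mono_comp u v⟩

include k in
/-- **main lemma** -/
theorem subsingleton_H0_inverse_pow (L M : Z.Modules) (hL : PicF.IsInvertible L)
    (hM : Nonempty (CohB1.tensorMod M L ≅ Coh.structureModule Z))
    (hsec : ∀ j : ℕ, 4 ≤ j → Nontrivial (Coh.HH Z (CohB1.tensorPow L j) 0))
    (hnt : ∀ j : ℕ, 1 ≤ j → IsEmpty (CohB1.tensorPow L j ≅ Coh.structureModule Z))
    (i : ℕ) (hi : 1 ≤ i) : Subsingleton (Coh.HH Z (CohB1.tensorPow M i) 0) := by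
  obtain ⟨eML⟩ := hM
  have hMinv : PicF.IsInvertible M :=
    Groth.Agent.Lib.Helper2.TensorInv.isInvertible_of_tensor_iso M L eML
  obtain ⟨Q, hQdef⟩ : ∃ Q, Q = CohB1.tensorPow M i := ⟨_, rfl⟩
  obtain ⟨P, hPdef⟩ : ∃ P, P = CohB1.tensorPow L i := ⟨_, rfl⟩
  rw [← hQdef]
  by_contra hne
  rw [not_subsingleton_iff_nontrivial] at hne
  obtain ⟨x, hx⟩ := exists_ne (0 : Coh.HH Z Q 0)
  have hQ : PicF.IsInvertible Q := hQdef ▸ Groth.Agent.Lib.Helper23.SecTw.isInvertible_tensorPow hMinv i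
  have hP : PicF.IsInvertible P := hPdef ▸ Groth.Agent.Lib.Helper23.SecTw.isInvertible_tensorPow hL i
  let t : Coh.structureModule Z ⟶ Q := (Groth.Agent.Lib.Helper4.CurveAsym.homH0Equiv k Q).symm x
  have ht : t ≠ 0 := by
    intro h
    apply hx
    have := congrArg (Groth.Agent.Lib.Helper4.CurveAsym.homH0Equiv k Q) h
    rwa [LinearEquiv.apply_symm_apply, map_zero] at this
  obtain ⟨eLM⟩ : Nonempty (CohB1.tensorMod L M ≅ Coh.structureModule Z) :=
    ⟨swapIso L M ≪≫ eML⟩
  obtain ⟨ePQ⟩ : Nonempty (CohB1.tensorMod P Q ≅ Coh.structureModule Z) := by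
    rw [hPdef, hQdef]
    exact nonempty_tensorPow_inverse L M hL hMinv eLM i
  -- a nonzero section of `L^{4i}`, transported to `P^4`
  obtain ⟨c⟩ : Nonempty (CohB1.tensorPow P 4 ≅ CohB1.tensorPow L (i * 4)) := by
    rw [hPdef]
    exact Groth.Agent.Lib.Helper23.SecTw.nonempty_tensorPow_tensorPow_iso L hL i 4 (i * 4) rfl
  haveI := hsec (i * 4) (by omega)
  obtain ⟨y, hy⟩ := exists_ne (0 : Coh.HH Z (CohB1.tensorPow L (i * 4)) 0)
  let s0 : Coh.structureModule Z ⟶ CohB1.tensorPow L (i * 4) :=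
    (Groth.Agent.Lib.Helper4.CurveAsym.homH0Equiv k _).symm y
  have hs0 : s0 ≠ 0 := by
    intro h
    apply hy
    have := congrArg (Groth.Agent.Lib.Helper4.CurveAsym.homH0Equiv k
      (CohB1.tensorPow L (i * 4))) h
    rwa [LinearEquiv.apply_symm_apply, map_zero] at this
  let s : Coh.structureModule Z ⟶ CohB1.tensorPow P 4 := s0 ≫ c.inv
  have hs : s ≠ 0 := by
    intro h
    apply hs0
    exact (cancel_mono c.inv).1 (h.trans zero_comp.symm)
  -- a nonzero section of `Q^4`
  obtain ⟨u, hu⟩ := exists_mono_tensorPow Z P Q hP hQ ePQ t ht 4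
  have hu0 : u ≠ 0 := by
    intro h
    apply hs
    have h1 : (𝟙 (Coh.structureModule Z)) ≫ u = 0 ≫ u := by rw [h, comp_zero, comp_zero]
    have h2 : 𝟙 (Coh.structureModule Z) = 0 := (cancel_mono u).1 h1
    rw [← Category.id_comp s, h2, zero_comp]
  obtain ⟨e4⟩ := nonempty_tensorPow_inverse P Q hP hQ ePQ 4
  have hP4 := Groth.Agent.Lib.Helper23.SecTw.isInvertible_tensorPow hP 4
  obtain ⟨g⟩ := nonempty_iso_structureModule k Z (CohB1.tensorPow P 4) (CohB1.tensorPow Q 4) hP4
    e4 (swapIso _ _ ≪≫ e4) s hs u hu0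
  exact (hnt (i * 4) (by omega)).false (c.symm ≪≫ g)

end

end Groth.Agent.Lib.Helper2.TrivPowA
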