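import Mathlib

/-!
# helper2: a lifting criterion for flatness (via the equational criterion)

`flat_of_relations_lift`: if every finite relation `∑ aᵢ mᵢ = 0` in `M` is the image of a relation
`∑ aᵢ tᵢ = 0` in some flat module `Q` under a linear map `Q → M`, then `M` is flat.
-/

set_option autoImplicit false
set_option linter.style.haveILetI false
universe u v

namespace Groth.Agent.Lib.Helper2.TwFlatA

theorem flat_of_relations_lift {B : Type u} [CommRing B] {M : Type v} [AddCommGroup M] [Module B M]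
    (h : ∀ (l : ℕ) (a : Fin l → B) (m : Fin l → M), ∑ i, a i • m i = 0 →
      ∃ (Q : Type v) (_ : AddCommGroup Q) (_ : Module B Q) (_ : Module.Flat B Q)
        (Φ : Q →ₗ[B] M) (t : Fin l → Q), (∀ i, Φ (t i) = m i) ∧ ∑ i, a i • t i = 0) :
    Module.Flat B M := by
  rw [Module.Flat.iff_forall_isTrivialRelation]
  intro l a m hrel
  obtain ⟨Q, _, _, hQ, Φ, t, ht, hrel'⟩ := h l a m hrel
  obtain ⟨k, b, y, hy, hb⟩ := Module.Flat.isTrivialRelation_of_sum_smul_eq_zero hrel'
  refine ⟨k, b, fun j => Φ (y j), fun i => ?_, hb⟩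
  rw [← ht i, hy i, map_sum]
  simp

end Groth.Agent.Lib.Helper2.TwFlatA
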