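import Groth.Agent.Lib.Helper23LocGen
import Groth.Agent.Lib.Helper23TensorQCoh
import Groth.Agent.Lib.Helper2TwFlatA

/-!
# helper2: sections over `X_s` are flat if the global sections of the twists are (qcqs schemes)

* `exists_tw_eq_zero`: a global section of a quasi-coherent `G` vanishing on `X_s` is killed by
  `s^N` for all large `N`.
* `flat_sections_genLocus`: if `Γ(X, (F ⊗ L^n) ⊗ L^N)` is flat over `B` for `n ≥ n₀`, then
  `Γ(X_s, F)` is flat over `B`.
-/

set_option autoImplicit false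
set_option linter.style.haveILetI false
universe u
open CategoryTheory Limits AlgebraicGeometry TopologicalSpace Opposite

namespace Groth.Agent.Lib.Helper2.TwFlatB

open Groth.Agent.Lib.Helper23.SecTw Groth.Agent.Lib.Helper23.GenLocus Groth.Agent.Lib.Helper6
  Groth.Agent.Lib.Helper23.QCohLocal Groth.Agent.Lib.Helper23.LocGen

variable {X : Scheme.{u}}

/-- a global section vanishing on `X_s` is killed by high powers of `s`. -/
theorem exists_tw_eq_zero [CompactSpace X] (L : X.Modules) (hL : PicF.IsInvertible L)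
    (s : Coh.structureModule X ⟶ L) (G : X.Modules) [G.IsQuasicoherent] (u : Γ(G, ⊤))
    (hu : res G (le_top : CohB1.genLocus L s ≤ ⊤) u = 0) :
    ∃ N₀ : ℕ, ∀ N, N₀ ≤ N → tw G L ⊤ u (sv s ⊤) N = 0 := by
  choose W hxW hWaff e f hval hbo hgen using exists_frame L hL s
  obtain ⟨T, hT⟩ : ∃ T : Finset X, (⊤ : X.Opens) ≤ ⨆ x : T, W x := by
    have hc : IsCompact ((⊤ : X.Opens) : Set X) := by
      simpa using isCompact_univ
    obtain ⟨T, hT⟩ := hc.elim_finite_subcover (fun x => (W x : Set X)) (fun x => (W x).2)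
      (fun x _ => Set.mem_iUnion.2 ⟨x, hxW x⟩)
    refine ⟨T, fun x hx => ?_⟩
    obtain ⟨y, hy⟩ := Set.mem_iUnion.1 (hT hx)
    obtain ⟨hyT, hxy⟩ := Set.mem_iUnion.1 hy
    exact Opens.mem_iSup.2 ⟨⟨y, hyT⟩, hxy⟩
  have h1 : ∀ x, ∃ n : ℕ, f x ^ n • res G (le_top : W x ≤ ⊤) u = 0 := by
    intro x
    refine exists_pow_smul_eq_zero_qc' (hWaff x).isCompact G (f x) (X.basicOpen (f x)) rfl
      (X.basicOpen_le _) _ ?_
    change res G (X.basicOpen_le (f x)) (res G le_top u) = 0
    rw [res_res, ← res_res G (le_top : CohB1.genLocus L s ≤ ⊤) ((hbo x).le.trans inf_le_left), hu,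
      res_zero]
  choose n0 hn0 using h1
  refine ⟨T.sup n0, fun N hN => ?_⟩
  refine (modSheaf _).eq_of_locally_eq' (fun x : T => W x) ⊤ (fun x => homOfLE le_top) hT _ _
    (fun x => ?_)
  change res _ (le_top : W x ≤ ⊤) (tw G L ⊤ u (sv s ⊤) N) = res _ (le_top : W x ≤ ⊤) 0
  rw [res_tw, res_sv, hval, tw_smul, res_zero]
  have hle : n0 x ≤ N := (Finset.le_sup x.2).trans hN
  obtain ⟨k, rfl⟩ := Nat.exists_eq_add_of_le hle
  rw [pow_add, mul_comm, mul_smul, hn0, smul_zero, tw_zero]

theorem res_add'' (F : X.Modules) {U V : X.Opens} (h : V ≤ U) (a b : Γ(F, U)) :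
    res F h (a + b) = res F h a + res F h b := map_add _ _ _

theorem res_sum (F : X.Modules) {U V : X.Opens} (h : V ≤ U) {ι : Type*} (S : Finset ι)
    (g : ι → Γ(F, U)) : res F h (∑ i ∈ S, g i) = ∑ i ∈ S, res F h (g i) := map_sum _ _ _

/-- `tw` as a linear map in its first argument. -/
noncomputable def twL (F L : X.Modules) (U : X.Opens) (e : Γ(L, U)) (n : ℕ) :
    Γ(F, U) →ₗ[Γ(X, U)] Γ(CohB1.tensorMod F (CohB1.tensorPow L n), U) where
  toFun t := tw F L U t e n
  map_add' t t' := tw_add_left F L U t t' e n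
  map_smul' r t := tw_smul_left F L U r t e n

theorem twL_apply (F L : X.Modules) (U : X.Opens) (e : Γ(L, U)) (n : ℕ) (t : Γ(F, U)) :
    twL F L U e n t = tw F L U t e n := rfl

theorem bijective_twL_genLocus (F L : X.Modules) (s : Coh.structureModule X ⟶ L) (n : ℕ) :
    Function.Bijective (twL F L (CohB1.genLocus L s) (sv s (CohB1.genLocus L s)) n) := by
  have hgen := isGen_pw L _ _ (isGen_sv_genLocus L s) n
  have h := bijective_tm_of_isGen F (CohB1.tensorPow L n) (CohB1.genLocus L s)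
    (pw L _ (sv s (CohB1.genLocus L s)) n) hgen (CohB1.genLocus L s) le_rfl
  have h2 : (fun t : Γ(F, CohB1.genLocus L s) => tm F (CohB1.tensorPow L n) (CohB1.genLocus L s) t
      (res (CohB1.tensorPow L n) le_rfl (pw L _ (sv s (CohB1.genLocus L s)) n))) =
      ⇑(twL F L (CohB1.genLocus L s) (sv s (CohB1.genLocus L s)) n) := by
    funext t
    rw [res_self]
    rfl
  rw [h2] at h
  exact h

theorem isQuasicoherent_twist (F L : X.Modules) [F.IsQuasicoherent] (hL : PicF.IsInvertible L)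
    (n : ℕ) : (CohB1.tensorMod F (CohB1.tensorPow L n)).IsQuasicoherent := by
  haveI : (CohB1.tensorPow L n).IsQuasicoherent :=
    isQuasicoherent_of_isInvertible _ (isInvertible_tensorPow hL n)
  exact Groth.Agent.Lib.Helper23.TensorQCoh.isQuasicoherent_tensorMod F _

/-- If the global sections of the double twists `(F ⊗ L^n) ⊗ L^N` (`n ≥ n₀`) are flat over `B`,
then so are the sections of `F` over `X_s`. -/
theorem flat_sections_genLocus [CompactSpace X] [QuasiSeparatedSpace X] {B : Type u} [CommRing B]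
    (φ : B →+* Γ(X, ⊤)) (L : X.Modules) (hL : PicF.IsInvertible L)
    (s : Coh.structureModule X ⟶ L) (F : X.Modules) [F.IsQuasicoherent] (n₀ : ℕ)
    (hflat : ∀ n N : ℕ, n₀ ≤ n → @Module.Flat B
      Γ(CohB1.tensorMod (CohB1.tensorMod F (CohB1.tensorPow L n)) (CohB1.tensorPow L N), ⊤) _ _
      (Module.compHom _ φ)) :
    @Module.Flat B Γ(F, CohB1.genLocus L s) _ _
      (Module.compHom _
        ((X.presheaf.map (homOfLE (le_top : CohB1.genLocus L s ≤ ⊤)).op).hom.comp φ)) := by
  letI iM : Module B Γ(F, CohB1.genLocus L s) := Module.compHom _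
    ((X.presheaf.map (homOfLE (le_top : CohB1.genLocus L s ≤ ⊤)).op).hom.comp φ)
  have hsm : ∀ (a : B) (m : Γ(F, CohB1.genLocus L s)),
      a • m = resf (le_top : CohB1.genLocus L s ≤ ⊤) (φ a) • m := fun a m => rfl
  refine Groth.Agent.Lib.Helper2.TwFlatA.flat_of_relations_lift (fun l a m hrel => ?_)
  -- choose a common twist
  haveI : Coh.IsQCoh F := ‹_›
  have hext := fun i => main_eventually X L hL s F (m i)
  choose n1 hn1 using hext
  obtain ⟨n, hn⟩ : ∃ n, n = max n₀ (Finset.univ.sup n1) := ⟨_, rfl⟩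
  have hn0 : n₀ ≤ n := hn ▸ le_max_left _ _
  have hni : ∀ i, n1 i ≤ n := fun i =>
    hn ▸ (Finset.le_sup (f := n1) (Finset.mem_univ i)).trans (le_max_right _ _)
  choose t ht using fun i => hn1 i n (hni i)
  haveI hGq : (CohB1.tensorMod F (CohB1.tensorPow L n)).IsQuasicoherent :=
    isQuasicoherent_twist F L hL n
  -- the global relation up to a section vanishing on `X_s`
  have hu : res (CohB1.tensorMod F (CohB1.tensorPow L n)) (le_top : CohB1.genLocus L s ≤ ⊤)
      (∑ i, φ (a i) • t i) = 0 := by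
    rw [res_sum]
    have h1 : ∀ i, res (CohB1.tensorMod F (CohB1.tensorPow L n))
        (le_top : CohB1.genLocus L s ≤ ⊤) (φ (a i) • t i) =
        twL F L (CohB1.genLocus L s) (sv s _) n (a i • m i) := by
      intro i
      rw [res_smul, ht i, hsm, map_smul]
      rfl
    rw [Finset.sum_congr rfl (fun i _ => h1 i), ← map_sum, hrel, map_zero]
  obtain ⟨N, hN⟩ := exists_tw_eq_zero L hL s _ _ hu
  letI iQ : Module B
      Γ(CohB1.tensorMod (CohB1.tensorMod F (CohB1.tensorPow L n)) (CohB1.tensorPow L N), ⊤) :=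
    Module.compHom _ φ
  let τF := LinearEquiv.ofBijective (twL F L (CohB1.genLocus L s) (sv s _) n)
    (bijective_twL_genLocus F L s n)
  let τG := LinearEquiv.ofBijective
    (twL (CohB1.tensorMod F (CohB1.tensorPow L n)) L (CohB1.genLocus L s) (sv s _) N)
    (bijective_twL_genLocus _ L s N)
  let Φ : Γ(CohB1.tensorMod (CohB1.tensorMod F (CohB1.tensorPow L n)) (CohB1.tensorPow L N), ⊤)
      →ₗ[B] Γ(F, CohB1.genLocus L s) :=
    { toFun := fun q => τF.symm (τG.symm (res _ (le_top : CohB1.genLocus L s ≤ ⊤) q))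
      map_add' := fun q q' => by
        rw [res_add'', map_add, map_add]
      map_smul' := fun b q => by
        change τF.symm (τG.symm (res _ (le_top : CohB1.genLocus L s ≤ ⊤) (φ b • q))) = _
        rw [res_smul, map_smul, map_smul]
        rfl }
  refine ⟨_, inferInstance, iQ, hflat n N hn0, Φ,
    fun i => tw (CohB1.tensorMod F (CohB1.tensorPow L n)) L ⊤ (t i) (sv s ⊤) N, fun i => ?_, ?_⟩
  · change τF.symm (τG.symm (res _ (le_top : CohB1.genLocus L s ≤ ⊤)
      (tw (CohB1.tensorMod F (CohB1.tensorPow L n)) L ⊤ (t i) (sv s ⊤) N))) = m i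
    rw [res_tw, res_sv, ht i, LinearEquiv.symm_apply_eq, LinearEquiv.symm_apply_eq]
    rfl
  · have h2 : ∀ i, a i • tw (CohB1.tensorMod F (CohB1.tensorPow L n)) L ⊤ (t i) (sv s ⊤) N =
        twL (CohB1.tensorMod F (CohB1.tensorPow L n)) L ⊤ (sv s ⊤) N (φ (a i) • t i) := by
      intro i
      rw [map_smul]
      rfl
    rw [Finset.sum_congr rfl (fun i _ => h2 i), ← map_sum]
    exact hN N le_rfl

end Groth.Agent.Lib.Helper2.TwFlatB
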