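import Groth.Agent.Lib.Helper2TwFlatB
import Groth.Agent.Lib.Helper23RestrTensor
import Groth.Agent.Lib.Helper17SerreAmple1
import Groth.Agent.Lib.Helper23SecTw7
import Groth.Agent.Lib.Helper2FlatOver

/-!
# helper2: flatness over the base from flatness of the sections of the twists by a relatively
ample invertible module
-/

set_option autoImplicit false
set_option linter.style.haveILetI false
universe u
open CategoryTheory Limits AlgebraicGeometry TopologicalSpace Opposite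

namespace Groth.Agent.Lib.Helper2.TwFlatC

open Groth.Agent.Lib.Helper23.SecTw Groth.Agent.Lib.Helper23.GenLocus Groth.Agent.Lib.Helper6
  Groth.Agent.Lib.Helper23.QCohLocal Groth.Agent.Lib.Helper23.LocGen

/-- transport of flatness of sections along an isomorphism of modules. -/
theorem flat_sections_of_iso {X : Scheme.{u}} {A A' : X.Modules} (E : A ≅ A') (U : X.Opens)
    {B : Type u} [CommRing B] (φ : B →+* Γ(X, U))
    (h : @Module.Flat B Γ(A', U) _ _ (Module.compHom _ φ)) :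
    @Module.Flat B Γ(A, U) _ _ (Module.compHom _ φ) := by
  letI : Module B Γ(A, U) := Module.compHom _ φ
  letI : Module B Γ(A', U) := Module.compHom _ φ
  haveI := h
  let e : Γ(A, U) ≃ₗ[B] Γ(A', U) :=
    { toFun := fun m => E.hom.app U m
      invFun := fun m => E.inv.app U m
      map_add' := fun a b => map_add _ a b
      map_smul' := fun b m => by
        change E.hom.app U (φ b • m) = φ b • E.hom.app U m
        exact Scheme.Modules.Hom.app_smul _ _ _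
      left_inv := fun m => by
        change (E.hom.app U ≫ E.inv.app U) m = m
        rw [← Scheme.Modules.Hom.comp_app, E.hom_inv_id]
        rfl
      right_inv := fun m => by
        change (E.inv.app U ≫ E.hom.app U) m = m
        rw [← Scheme.Modules.Hom.comp_app, E.inv_hom_id]
        rfl }
  exact Module.Flat.of_linearEquiv e

theorem resf_self {X : Scheme.{u}} {U : X.Opens} (r : Γ(X, U)) : resf (le_refl U) r = r := by
  change X.presheaf.map (𝟙 _) r = r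
  rw [X.presheaf.map_id]; rfl

/-- the ring map `B → Γ(U₀, ⊤)` induced by `ψ : B → Γ(X, U₀)`. -/
noncomputable def topHom {X : Scheme.{u}} (U₀ : X.Opens) {B : Type u} [CommRing B]
    (ψ : B →+* Γ(X, U₀)) : B →+* Γ((↑U₀ : Scheme.{u}), (⊤ : (↑U₀ : Scheme.{u}).Opens)) :=
  show B →+* Γ(X, U₀.ι ''ᵁ (⊤ : (↑U₀ : Scheme.{u}).Opens)) from
    (X.presheaf.map (homOfLE (le_of_eq U₀.ι_image_top)).op).hom.comp ψ

theorem topHom_apply {X : Scheme.{u}} (U₀ : X.Opens) {B : Type u} [CommRing B]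
    (ψ : B →+* Γ(X, U₀)) (b : B) :
    (show Γ(X, U₀.ι ''ᵁ (⊤ : (↑U₀ : Scheme.{u}).Opens)) from topHom U₀ ψ b) =
      resf (le_of_eq U₀.ι_image_top) (ψ b) := rfl

/-- global sections of a restriction to an open `U₀` are the sections over `U₀`. -/
theorem flat_sections_restrict_top {X : Scheme.{u}} (U₀ : X.Opens) (G : X.Modules) {B : Type u}
    [CommRing B] (ψ : B →+* Γ(X, U₀))
    (h : @Module.Flat B Γ(G, U₀) _ _ (Module.compHom _ ψ)) :
    @Module.Flat B Γ(G.restrict U₀.ι, (⊤ : (↑U₀ : Scheme.{u}).Opens)) _ _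
      (Module.compHom _ (topHom U₀ ψ)) := by
  letI : Module B Γ(G, U₀) := Module.compHom _ ψ
  letI : Module B Γ(G.restrict U₀.ι, (⊤ : (↑U₀ : Scheme.{u}).Opens)) :=
    Module.compHom _ (topHom U₀ ψ)
  haveI := h
  have h1 : U₀.ι ''ᵁ (⊤ : (↑U₀ : Scheme.{u}).Opens) ≤ U₀ := le_of_eq U₀.ι_image_top
  have h2 : U₀ ≤ U₀.ι ''ᵁ (⊤ : (↑U₀ : Scheme.{u}).Opens) := le_of_eq U₀.ι_image_top.symm
  let e : Γ(G.restrict U₀.ι, (⊤ : (↑U₀ : Scheme.{u}).Opens)) ≃ₗ[B] Γ(G, U₀) :=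
    { toFun := fun m => res G h2 (show Γ(G, U₀.ι ''ᵁ (⊤ : (↑U₀ : Scheme.{u}).Opens)) from m)
      invFun := fun m => res G h1 m
      map_add' := fun a b => map_add _ _ _
      map_smul' := fun b m => by
        change res G h2 (show Γ(G, U₀.ι ''ᵁ (⊤ : (↑U₀ : Scheme.{u}).Opens)) from
          (topHom U₀ ψ b • m : Γ(G.restrict U₀.ι, (⊤ : (↑U₀ : Scheme.{u}).Opens)))) =
          ψ b • res G h2 (show Γ(G, U₀.ι ''ᵁ (⊤ : (↑U₀ : Scheme.{u}).Opens)) from m)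
        rw [smul_restrict_eq, topHom_apply, res_smul, resf_resf, resf_self]
      left_inv := fun m => by
        change res G h1 (res G h2 _) = _
        rw [res_res]
        exact res_self G _
      right_inv := fun m => by
        change res G h2 (res G h1 m) = m
        rw [res_res]
        exact res_self G _ }
  exact Module.Flat.of_linearEquiv e

theorem compHom_restrict_eq {X Y : Scheme.{u}} (f : X ⟶ Y) (V : Y.Opens) (F : X.Modules)
    (Ω : (↑(f ⁻¹ᵁ V) : Scheme.{u}).Opens) (e : (f ⁻¹ᵁ V).ι ''ᵁ Ω ≤ f ⁻¹ᵁ V) :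
    (Module.compHom Γ(F, (f ⁻¹ᵁ V).ι ''ᵁ Ω) (f.appLE V _ e).hom : Module Γ(Y, V) _) =
      (show Module Γ(Y, V) Γ(F.restrict (f ⁻¹ᵁ V).ι, Ω) from
        Module.compHom _ (((↑(f ⁻¹ᵁ V) : Scheme.{u}).presheaf.map
          (homOfLE (le_top : Ω ≤ ⊤)).op).hom.comp (topHom (f ⁻¹ᵁ V) (f.app V).hom))) := by
  refine Module.ext' _ _ (fun b m => ?_)
  change (f.appLE V _ e).hom b • m =
    ((((↑(f ⁻¹ᵁ V) : Scheme.{u}).presheaf.map (homOfLE (le_top : Ω ≤ ⊤)).op).hom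
      (topHom (f ⁻¹ᵁ V) (f.app V).hom b)) •
      (show Γ(F.restrict (f ⁻¹ᵁ V).ι, Ω) from m) : Γ(F.restrict (f ⁻¹ᵁ V).ι, Ω))
  rw [smul_restrict_eq]
  congr 1
  change (f.app V ≫ X.presheaf.map (homOfLE e).op).hom b =
    resf ((f ⁻¹ᵁ V).ι.image_mono (le_top : Ω ≤ ⊤))
      (resf (le_of_eq (f ⁻¹ᵁ V).ι_image_top) ((f.app V).hom b))
  rw [resf_resf]
  rfl

/-- **Flatness from twists.** Let `L` be invertible on `X`, ample on `f⁻¹ W` for every affine open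
`W` of the base, and `F` quasi-coherent such that the sections of `F ⊗ L^m` over `f⁻¹ V` are flat
over `Γ(Y, V)` for all affine `V` and all `m ≥ m₀`. Then `F` is flat over `Y`. -/
theorem isFlatOver_of_flat_twists {X Y : Scheme.{u}} (f : X ⟶ Y)
    (L : X.Modules) (hL : PicF.IsInvertible L)
    (ha : ∀ W : Y.Opens, IsAffineOpen W → CohB1.IsAmple (L.restrict (f ⁻¹ᵁ W).ι))
    (F : X.Modules) [F.IsQuasicoherent] (m₀ : ℕ)
    (hfl : ∀ (m : ℕ), m₀ ≤ m → ∀ V : Y.Opens, IsAffineOpen V →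
      @Module.Flat Γ(Y, V) Γ(CohB1.tensorMod F (CohB1.tensorPow L m), f ⁻¹ᵁ V) _ _
        (Module.compHom _ (f.app V).hom)) :
    FlatMod.IsFlatOver f F := by
  intro x
  obtain ⟨V, hV, hyV⟩ : ∃ V : Y.Opens, IsAffineOpen V ∧ f.base x ∈ V := by
    obtain ⟨W, hW, hsW, -⟩ := (TopologicalSpace.Opens.isBasis_iff_nbhd.mp Y.isBasis_affineOpens)
      (show f.base x ∈ (⊤ : Y.Opens) from trivial)
    exact ⟨W, hW, hsW⟩
  have hx : x ∈ f ⁻¹ᵁ V := hyV
  have hamp : CohB1.IsAmple (L.restrict (f ⁻¹ᵁ V).ι) := ha V hV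
  obtain ⟨hL', hcomp, hpts⟩ := ha V hV
  haveI : CompactSpace ↥(↑(f ⁻¹ᵁ V) : Scheme.{u}) := hcomp
  haveI : QuasiSeparatedSpace ↥(↑(f ⁻¹ᵁ V) : Scheme.{u}) :=
    quasiSeparatedSpace_of_isAmple _ hamp
  obtain ⟨d, s, hxs, haff⟩ := hpts ⟨x, hx⟩
  have hP : PicF.IsInvertible (CohB1.tensorPow (L.restrict (f ⁻¹ᵁ V).ι) (d + 1)) :=
    isInvertible_tensorPow hL' (d + 1)
  haveI : (F.restrict (f ⁻¹ᵁ V).ι).IsQuasicoherent :=
    Scheme.Modules.isQuasicoherent_restrictFunctor (f ⁻¹ᵁ V).ι F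
  have key := Groth.Agent.Lib.Helper2.TwFlatB.flat_sections_genLocus
    (X := (↑(f ⁻¹ᵁ V) : Scheme.{u}))
    (topHom (f ⁻¹ᵁ V) (f.app V).hom) (CohB1.tensorPow (L.restrict (f ⁻¹ᵁ V).ι) (d + 1)) hP s
    (F.restrict (f ⁻¹ᵁ V).ι) m₀ ?_
  · have hU : IsAffineOpen ((f ⁻¹ᵁ V).ι ''ᵁ
        CohB1.genLocus (CohB1.tensorPow (L.restrict (f ⁻¹ᵁ V).ι) (d + 1)) s) :=
      haff.image_of_isOpenImmersion (f ⁻¹ᵁ V).ι
    have e : (f ⁻¹ᵁ V).ι ''ᵁ
        CohB1.genLocus (CohB1.tensorPow (L.restrict (f ⁻¹ᵁ V).ι) (d + 1)) s ≤ f ⁻¹ᵁ V := by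
      have := Scheme.Hom.image_le_opensRange (f ⁻¹ᵁ V).ι
        (CohB1.genLocus (CohB1.tensorPow (L.restrict (f ⁻¹ᵁ V).ι) (d + 1)) s)
      rwa [Scheme.Opens.opensRange_ι] at this
    refine Groth.Agent.Lib.Helper2.FlatOver.isFlatOverAt_of_flat_sections f F hU hV e ?_ x
      ⟨⟨x, hx⟩, hxs, rfl⟩
    have hinst : (Module.compHom Γ(F, (f ⁻¹ᵁ V).ι ''ᵁ
        CohB1.genLocus (CohB1.tensorPow (L.restrict (f ⁻¹ᵁ V).ι) (d + 1)) s)
        (f.appLE V _ e).hom : Module Γ(Y, V) _) =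
      (show Module Γ(Y, V) Γ(F.restrict (f ⁻¹ᵁ V).ι,
          CohB1.genLocus (CohB1.tensorPow (L.restrict (f ⁻¹ᵁ V).ι) (d + 1)) s) from
        Module.compHom _ (((↑(f ⁻¹ᵁ V) : Scheme.{u}).presheaf.map (homOfLE
          (le_top : CohB1.genLocus (CohB1.tensorPow (L.restrict (f ⁻¹ᵁ V).ι) (d + 1)) s ≤
            ⊤)).op).hom.comp (topHom (f ⁻¹ᵁ V) (f.app V).hom))) := by
      exact compHom_restrict_eq f V F _ e
    rw [hinst]
    exact key
  · intro n N hn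
    have hm : m₀ ≤ (d + 1) * (n + N) :=
      (hn.trans (Nat.le_add_right n N)).trans (Nat.le_mul_of_pos_left _ (Nat.succ_pos d))
    have h1 := hfl _ hm V hV
    have h2 := flat_sections_restrict_top (f ⁻¹ᵁ V) _ (f.app V).hom h1
    obtain ⟨e1⟩ := nonempty_tensorPow_tensorPow_iso (L.restrict (f ⁻¹ᵁ V).ι) hL' (d + 1) (n + N)
      _ rfl
    obtain ⟨e2⟩ := Groth.Agent.Lib.Helper23.RestrTensor.nonempty_restrict_twist_iso F L hL
      (f ⁻¹ᵁ V) ((d + 1) * (n + N))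
    refine flat_sections_of_iso
      ((Groth.Agent.Lib.Helper17.SerreAmple.twistAddIso (F.restrict (f ⁻¹ᵁ V).ι)
        (CohB1.tensorPow (L.restrict (f ⁻¹ᵁ V).ι) (d + 1)) n N).symm ≪≫
        PicGrp.tensorModIso (Iso.refl _) e1 ≪≫ e2.symm) ⊤ _ h2

end Groth.Agent.Lib.Helper2.TwFlatC
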