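import Mathlib
import Groth.Prelude.Def_HTop
import Groth.Agent.Lib.Helper10VCover
import Groth.Agent.Lib.Helper2FpqcV
/-! Helper2VSheaf: V sheaves = Zariski sheaves with the sheaf property for standard V coverings
(S7474, S7475). -/
set_option autoImplicit false
universe w v₁ u₁ u
open CategoryTheory CategoryTheory.Limits AlgebraicGeometry Opposite

namespace Groth.Agent.Lib.Helper2.VSheaf

section General

variable {C : Type u₁} [Category.{v₁} C]

/-- A presieve-level transitivity lemma for the sheaf condition. -/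
theorem isSheafFor_of_local (P : Cᵒᵖ ⥤ Type w) {X : C} (R : Presieve X) (S : Sieve X)
    (hR : Presieve.IsSheafFor P R)
    (h1 : ∀ ⦃Y : C⦄ ⦃f : Y ⟶ X⦄, R f → Presieve.IsSheafFor P (S.pullback f : Presieve Y))
    (h2 : ∀ ⦃Y : C⦄ (f : Y ⟶ X), Presieve.IsSeparatedFor P (S.pullback f : Presieve Y))
    (h3 : ∀ ⦃Y : C⦄ ⦃f : Y ⟶ X⦄, S f →
      Presieve.IsSeparatedFor P ((Sieve.generate R).pullback f : Presieve Y)) :
    Presieve.IsSheafFor P (S : Presieve X) := by
  intro x hx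
  have key : ∀ {Y : C} (g g' : Y ⟶ X) (hg : S g) (hg' : S g'), g = g' → x g hg = x g' hg' := by
    rintro Y g _ hg hg' rfl; rfl
  have hxs := hx.to_sieveCompatible
  let t : Presieve.FamilyOfElements P R := fun Y f hf =>
    (h1 hf).amalgamate (x.pullback f) (hx.pullback f)
  have ht_spec : ∀ {Y : C} (f : Y ⟶ X) (hf : R f) {Z : C} (g : Z ⟶ Y) (hg : S (g ≫ f)),
      P.map g.op (t f hf) = x (g ≫ f) hg := by
    intro Y f hf Z g hg
    exact (h1 hf).valid_glue (hx.pullback f) g hg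
  have ht : t.Compatible := by
    intro Y₁ Y₂ Z g₁ g₂ f₁ f₂ hf₁ hf₂ comm
    apply (h2 (g₁ ≫ f₁)).ext
    intro Z' k hk
    have hk1 : S ((k ≫ g₁) ≫ f₁) := by rw [Category.assoc]; exact hk
    have hk2 : S ((k ≫ g₂) ≫ f₂) := by rw [Category.assoc, ← comm]; exact hk
    rw [← Functor.map_comp_apply, ← Functor.map_comp_apply, ← op_comp, ← op_comp,
      ht_spec f₁ hf₁ (k ≫ g₁) hk1, ht_spec f₂ hf₂ (k ≫ g₂) hk2]
    apply key
    rw [Category.assoc, Category.assoc, comm]
  refine ⟨hR.amalgamate t ht, ?_, ?_⟩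
  · intro Y f hf
    apply (h3 hf).ext
    rintro Y' k ⟨Z, l, r, hr, hlr⟩
    have hS1 : S (l ≫ r) := by rw [hlr]; exact S.downward_closed hf k
    rw [← Functor.map_comp_apply, ← op_comp, ← hlr, op_comp,
      Functor.map_comp_apply, hR.valid_glue ht r hr, ht_spec r hr l hS1,
      ← hxs f k hf]
    exact key _ _ _ _ hlr
  · intro y hy
    apply hR.isSeparatedFor.ext
    intro Y f hf
    rw [hR.valid_glue ht f hf]
    apply (h1 hf).isSeparatedFor.ext
    intro Z g hg
    rw [ht_spec f hf g hg, ← Functor.map_comp_apply, ← op_comp]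
    exact hy (g ≫ f) hg

end General

section Sch

open HTop

/-- Reindex a family indexed in universe 0 by a type in universe `u`. -/
def ulift {T : Scheme.{u}} (G : PreZeroHypercover.{0} T) : PreZeroHypercover.{u} T where
  I₀ := ULift.{u} G.I₀
  X := fun k => G.X k.down
  f := fun k => G.f k.down

theorem presieve₀_ulift {T : Scheme.{u}} (G : PreZeroHypercover.{0} T) :
    (ulift G).presieve₀ = G.presieve₀ := by
  apply le_antisymm
  · rintro Y f ⟨⟨j⟩⟩
    exact Presieve.ofArrows.mk j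
  · rintro Y f ⟨j⟩
    exact Presieve.ofArrows.mk (ι := ULift.{u} G.I₀) (Y := fun k => G.X k.down)
      (f := fun k => G.f k.down) (ULift.up j)

theorem isStandardV_ulift {T : Scheme.{u}} (G : PreZeroHypercover.{0} T) (hG : IsStandardV G) :
    IsStandardV (ulift G) := by
  haveI := hG.finite_index
  refine ⟨hG.isAffine, inferInstanceAs (Finite (ULift.{u} G.I₀)), fun k => hG.isAffine_obj k.down, ?_⟩
  intro V _ _ g
  obtain ⟨W, a, b, φ, hext, j, g', hg'⟩ := hG.lift V g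
  exact ⟨W, a, b, φ, hext, ULift.up j, g', hg'⟩

/-- A sieve containing, over every affine scheme mapping to the base, a standard V covering. -/
def Vgood {Y : Scheme.{u}} (S : Sieve Y) : Prop :=
  ∀ (W : Scheme.{u}) [IsAffine W] (g : W ⟶ Y),
    ∃ G : PreZeroHypercover.{0} W, IsStandardV G ∧ ∀ j, S (G.f j ≫ g)

theorem Vgood.pullback {Y Z : Scheme.{u}} {S : Sieve Y} (h : Vgood S) (f : Z ⟶ Y) :
    Vgood (S.pullback f) := by
  intro W _ g
  obtain ⟨G, hG, hS⟩ := h W (g ≫ f)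
  refine ⟨G, hG, fun j => ?_⟩
  change S ((G.f j ≫ g) ≫ f)
  rw [Category.assoc]
  exact hS j

theorem exists_standardV_of_isVCover {W : Scheme.{u}} [IsAffine W] (E : PreZeroHypercover.{w} W)
    (hE : IsVCover E) :
    ∃ G : PreZeroHypercover.{0} W, IsStandardV G ∧
      ∀ j, ∃ (i : E.I₀) (h : G.X j ⟶ E.X i), h ≫ E.f i = G.f j := by
  obtain ⟨G, hG, href⟩ := hE ⟨⊤, isAffineOpen_top W⟩
  let G' : PreZeroHypercover.{0} W :=
    { I₀ := G.I₀, X := G.X, f := fun a => G.f a ≫ (⊤ : W.Opens).ι }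
  refine ⟨G', ⟨inferInstance, hG.finite_index, hG.isAffine_obj, ?_⟩, ?_⟩
  · intro V _ _ k
    obtain ⟨l, hl⟩ :=
      Groth.Agent.Lib.Helper10.exists_lift_of_closedPoint_mem V k (⊤ : W.Opens) trivial
    obtain ⟨W', hWd, hWv, φ, hφ, a, g', hg'⟩ := hG.lift V l
    refine ⟨W', hWd, hWv, φ, hφ, a, g', ?_⟩
    change g' ≫ G.f a ≫ _ = _
    rw [← Category.assoc, hg', Category.assoc, hl]
  · intro j
    obtain ⟨i, h, hh⟩ := href j
    exact ⟨i, h, hh⟩

theorem vgood_of_isVCover {X : Scheme.{u}} (E : PreZeroHypercover.{w} X) (hE : IsVCover E) :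
    Vgood (Sieve.generate E.presieve₀) := by
  intro W _ g
  obtain ⟨G, hG, href⟩ := exists_standardV_of_isVCover (E.pullback₁ g)
    (Groth.Agent.Lib.Helper10.isVCover_pullback g E hE)
  refine ⟨G, hG, fun j => ?_⟩
  obtain ⟨i, h, hh⟩ : ∃ (i : E.I₀) (h : G.X j ⟶ pullback g (E.f i)),
    h ≫ pullback.fst g (E.f i) = G.f j := href j
  refine ⟨E.X i, h ≫ pullback.snd g (E.f i), E.f i, Presieve.ofArrows.mk i, ?_⟩
  rw [Category.assoc, ← pullback.condition, ← Category.assoc]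
  congr 1

theorem vgood_of_isStandardV {T : Scheme.{u}} (G : PreZeroHypercover.{0} T) (hG : IsStandardV G) :
    Vgood (Sieve.generate G.presieve₀) := by
  intro W _ g
  refine ⟨G.pullback₁ g, Groth.Agent.S7469.result g G hG, fun j => ?_⟩
  exact ⟨G.X j, pullback.snd g (G.f j), G.f j, Presieve.ofArrows.mk j, pullback.condition.symm⟩

theorem isSeparatedFor_of_vgood (F : Scheme.{u}ᵒᵖ ⥤ Type w)
    (hZ : Presieve.IsSheaf Scheme.zariskiTopology F)
    (hV : ∀ (T : Scheme.{u}) (E : PreZeroHypercover.{u} T), IsStandardV E →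
      Presieve.IsSeparatedFor F E.presieve₀)
    {Y₀ : Scheme.{u}} (S : Sieve Y₀) (hS : Vgood S) :
    Presieve.IsSeparatedFor F (S : Presieve Y₀) := by
  intro x t₁ t₂ h₁ h₂
  let 𝒰 : Y₀.OpenCover := Y₀.openCoverOfIsOpenCover (fun U : Y₀.affineOpens => (U : Y₀.Opens))
    (iSup_affineOpens_eq_top Y₀)
  have h𝒰 := (hZ _ 𝒰.mem_grothendieckTopology).isSeparatedFor
  apply h𝒰.ext
  rintro Z f ⟨Z', a, b, ⟨U₀⟩, rfl⟩
  obtain ⟨U, hU⟩ : ∃ U : Y₀.affineOpens, U = U₀ := ⟨U₀, rfl⟩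
  subst hU
  change F.map (a ≫ (U : Y₀.Opens).ι).op t₁ = F.map (a ≫ (U : Y₀.Opens).ι).op t₂
  rw [op_comp, Functor.map_comp_apply, Functor.map_comp_apply]
  congr 1
  haveI : IsAffine ((U : Y₀.Opens) : Scheme.{u}) := U.2
  obtain ⟨G, hG, hGS⟩ := hS _ (U : Y₀.Opens).ι
  have hsep := hV _ (ulift G) (isStandardV_ulift G hG)
  rw [presieve₀_ulift] at hsep
  apply hsep.ext
  rintro Z'' k ⟨j⟩
  have key : ∀ t : F.obj (op Y₀), F.map (G.f j).op (F.map (U : Y₀.Opens).ι.op t) =
      F.map (G.f j ≫ (U : Y₀.Opens).ι).op t := fun t => by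
    rw [op_comp, Functor.map_comp_apply]
  exact (key t₁).trans ((h₁ _ (hGS j)).trans ((h₂ _ (hGS j)).symm.trans (key t₂).symm))

theorem isVSheaf_of (F : Scheme.{u}ᵒᵖ ⥤ Type w)
    (hZ : Presieve.IsSheaf Scheme.zariskiTopology F)
    (hV : ∀ (T : Scheme.{u}) (E : PreZeroHypercover.{u} T), IsStandardV E →
      Presieve.IsSheafFor F E.presieve₀) : IsVSheaf F := by
  intro X R hR
  obtain ⟨E, hE, rfl⟩ := PreZeroHypercoverFamily.mem_precoverage_iff.mp hR
  change IsVCover E at hE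
  have hsepV : ∀ {Y : Scheme.{u}} (S : Sieve Y), Vgood S →
      Presieve.IsSeparatedFor F (S : Presieve Y) := fun S hS =>
    isSeparatedFor_of_vgood F hZ (fun T E hE => (hV T E hE).isSeparatedFor) S hS
  rw [Presieve.isSheafFor_iff_generate]
  let 𝒰 : X.OpenCover := X.openCoverOfIsOpenCover (fun U : X.affineOpens => (U : X.Opens))
    (iSup_affineOpens_eq_top X)
  have h𝒰 : Presieve.IsSheafFor F (Presieve.ofArrows 𝒰.X 𝒰.f) :=
    (Presieve.isSheafFor_iff_generate _).mpr (hZ _ 𝒰.mem_grothendieckTopology)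
  have hgood := vgood_of_isVCover E hE
  apply isSheafFor_of_local F (Presieve.ofArrows 𝒰.X 𝒰.f) _ h𝒰
  · rintro Y f ⟨U₀⟩
    obtain ⟨U, hU⟩ : ∃ U : X.affineOpens, U = U₀ := ⟨U₀, rfl⟩
    subst hU
    change Presieve.IsSheafFor F
      (Sieve.pullback (U : X.Opens).ι (Sieve.generate E.presieve₀)).arrows
    obtain ⟨G, hG, href⟩ := hE U
    have hshG : Presieve.IsSheafFor F (Sieve.generate G.presieve₀).arrows := by
      rw [← Presieve.isSheafFor_iff_generate, ← presieve₀_ulift]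
      exact hV _ _ (isStandardV_ulift G hG)
    refine Presieve.isSheafFor_subsieve_aux F ?_ hshG ?_
    · rintro Z k ⟨Z', a, b, ⟨j⟩, rfl⟩
      obtain ⟨i, h, hh⟩ := href j
      change (Sieve.generate E.presieve₀) ((a ≫ G.f j) ≫ (U : X.Opens).ι)
      rw [Category.assoc, ← hh, ← Category.assoc]
      exact ⟨_, a ≫ h, E.f i, Presieve.ofArrows.mk i, rfl⟩
    · intro Z k _
      exact hsepV _ ((vgood_of_isStandardV G hG).pullback k)
  · intro Y f
    exact hsepV _ (hgood.pullback f)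
  · intro Y f _
    exact (hZ _ (Scheme.zariskiTopology.pullback_stable f 𝒰.mem_grothendieckTopology)).isSeparatedFor

theorem isVCover_of_isStandardV {T : Scheme.{u}} (E : PreZeroHypercover.{w} T)
    (hE : IsStandardV E) : IsVCover E := by
  intro U
  haveI : IsAffine ((U : T.Opens) : Scheme.{u}) := U.2
  haveI := hE.finite_index
  obtain ⟨n, ⟨e⟩⟩ := Finite.exists_equiv_fin E.I₀
  have hst := Groth.Agent.S7469.result (U : T.Opens).ι E hE
  let G : PreZeroHypercover.{0} ((U : T.Opens) : Scheme.{u}) :=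
    { I₀ := Fin n
      X := fun k => pullback (U : T.Opens).ι (E.f (e.symm k))
      f := fun k => pullback.fst _ _ }
  refine ⟨G, ⟨inferInstance, inferInstanceAs (Finite (Fin n)),
    fun k => hst.isAffine_obj (e.symm k), ?_⟩, ?_⟩
  · intro V _ _ g
    obtain ⟨W, a, b, φ, hext, j, g', hg'⟩ := hst.lift V g
    obtain ⟨k, rfl⟩ : ∃ k, e.symm k = j := ⟨e j, e.symm_apply_apply j⟩
    exact ⟨W, a, b, φ, hext, k, g', hg'⟩
  · intro k
    exact ⟨e.symm k, pullback.snd _ _, pullback.condition.symm⟩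

theorem zariski_of_isVSheaf (F : Scheme.{u}ᵒᵖ ⥤ Type w) (h : IsVSheaf F) :
    Presieve.IsSheaf Scheme.zariskiTopology F := by
  change Presieve.IsSheaf (Scheme.zariskiPrecoverage.toGrothendieck) F
  rw [Precoverage.isSheaf_toGrothendieck_iff_of_isStableUnderBaseChange]
  intro X R hR
  apply h
  obtain ⟨E₀, rfl⟩ := R.exists_eq_preZeroHypercover
  rw [presieve₀_mem_vPrecoverage_iff]
  have hR' := Scheme.zariskiPrecoverage_le_fpqcPrecoverage X hR
  exact Groth.Agent.Lib.Helper2.FpqcV.main (⟨E₀, hR'⟩ : Scheme.Cover Scheme.fpqcPrecoverage X)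

theorem main (F : Scheme.{u}ᵒᵖ ⥤ Type w) :
    IsVSheaf F ↔ (Presieve.IsSheaf Scheme.zariskiTopology F ∧
      ∀ (T : Scheme.{u}) (E : PreZeroHypercover.{u} T), IsStandardV E →
        Presieve.IsSheafFor F E.presieve₀) := by
  constructor
  · intro h
    refine ⟨zariski_of_isVSheaf F h, fun T E hE => h _ ?_⟩
    rw [presieve₀_mem_vPrecoverage_iff]
    exact isVCover_of_isStandardV E hE
  · rintro ⟨hZ, hV⟩
    exact isVSheaf_of F hZ hV

end Sch

end Groth.Agent.Lib.Helper2.VSheaf
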