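import Mathlib
import Groth.Prelude.Def_HTop
import Groth.Agent.Lib.Helper2VSheaf
/-! Helper2VSheafSingle: V sheaves via one-member standard V coverings (S7475). -/
set_option autoImplicit false
universe w w₁ u
open CategoryTheory CategoryTheory.Limits AlgebraicGeometry Opposite

namespace Groth.Agent.Lib.Helper2.VSheaf

open HTop

theorem isSheafFor_of_singleton (F : Scheme.{u}ᵒᵖ ⥤ Type w)
    (hZ : Presieve.IsSheaf Scheme.zariskiTopology F)
    (hsing : ∀ (U V : Scheme.{u}) (f : V ⟶ U),
      IsStandardV (PreZeroHypercover.singleton.{w₁} f) →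
        Presieve.IsSheafFor F (Presieve.singleton f))
    (T : Scheme.{u}) (E : PreZeroHypercover.{u} T) (hE : IsStandardV E) :
    Presieve.IsSheafFor F E.presieve₀ := by
  haveI := hE.finite_index
  haveI := hE.isAffine_obj
  haveI := hE.isAffine
  have hst : IsStandardV (PreZeroHypercover.singleton.{w₁} (Sigma.desc E.f)) := by
    refine ⟨hE.isAffine, inferInstanceAs (Finite PUnit),
      fun _ => (inferInstance : IsAffine (∐ E.X)), ?_⟩
    intro V _ _ g
    obtain ⟨W, a, b, φ, hext, j, g', hg'⟩ := hE.lift V g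
    refine ⟨W, a, b, φ, hext, PUnit.unit, g' ≫ Sigma.ι E.X j, ?_⟩
    change (g' ≫ Sigma.ι E.X j) ≫ Sigma.desc E.f = _
    rw [Category.assoc, Sigma.ι_desc, hg']
  have h1 := hsing _ _ _ hst
  have : PreservesLimitsOfShape (Discrete (E.I₀ × E.I₀)) F :=
    preservesLimitsOfShape_discrete_of_isSheaf_zariskiTopology hZ
  have : PreservesLimitsOfShape (Discrete E.I₀) F :=
    preservesLimitsOfShape_discrete_of_isSheaf_zariskiTopology hZ
  have key := Presieve.isSheafFor_sigmaDesc_iff E.f (coproductIsCoproduct E.X)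
    (FinitaryExtensive.isVanKampen_finiteCoproducts (coproductIsCoproduct E.X)).isUniversal F
  have e : Cofan.IsColimit.desc (coproductIsCoproduct E.X) E.f = Sigma.desc E.f := by
    apply Sigma.hom_ext
    intro i
    rw [Sigma.ι_desc]
    exact Cofan.IsColimit.fac (coproductIsCoproduct E.X) E.f i
  rw [e] at key
  exact key.mp h1

theorem main_single (F : Scheme.{u}ᵒᵖ ⥤ Type w) :
    IsVSheaf F ↔ (Presieve.IsSheaf Scheme.zariskiTopology F ∧
      ∀ (U V : Scheme.{u}) (f : V ⟶ U), IsStandardV (PreZeroHypercover.singleton.{w₁} f) →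
        Presieve.IsSheafFor F (Presieve.singleton f)) := by
  constructor
  · intro h
    refine ⟨zariski_of_isVSheaf F h, fun U V f hf => ?_⟩
    have := h _ ((presieve₀_mem_vPrecoverage_iff _).mpr (isVCover_of_isStandardV _ hf))
    rwa [PreZeroHypercover.presieve₀_singleton] at this
  · rintro ⟨hZ, hsing⟩
    exact isVSheaf_of F hZ (isSheafFor_of_singleton F hZ hsing)

end Groth.Agent.Lib.Helper2.VSheaf
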