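import Mathlib
import Groth.Prelude.Def_HTop
/-! Helper2ValLift: valuative lifting for proper surjective morphisms with an open cover (S7468, S8979). -/
set_option autoImplicit false
universe w u
open CategoryTheory CategoryTheory.Limits AlgebraicGeometry Opposite

namespace Groth.Agent.Lib.Helper2.ValLift

theorem hasValLift_of {T : Scheme.{u}} (E : PreZeroHypercover.{w} T) (U : Scheme.{u}) (f : U ⟶ T)
    (ι : ∀ j, E.X j ⟶ U) [IsProper f] [Surjective f] (hι : ∀ j, IsOpenImmersion (ι j))
    (hf : ∀ j, ι j ≫ f = E.f j) (hc : ∀ x : U, ∃ j, x ∈ Set.range (ι j).base) :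
    HTop.HasValLift E := by
  intro V _ _ g
  let K := FractionRing V
  let gK : Spec (CommRingCat.of K) ⟶ T := Spec.map (CommRingCat.ofHom (algebraMap V K)) ≫ g
  haveI : Surjective (pullback.fst gK f) := inferInstance
  obtain ⟨p, -⟩ := (pullback.fst gK f).surjective (IsLocalRing.closedPoint K)
  let P := pullback gK f
  let L : CommRingCat.{u} := P.residueField p
  let iL : Spec L ⟶ P := P.fromSpecResidueField p
  let ψ : CommRingCat.of K ⟶ L := Spec.preimage (iL ≫ pullback.fst gK f)
  have hψ : Spec.map ψ = iL ≫ pullback.fst gK f := Spec.map_preimage _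
  let θ : V →+* L := ψ.hom.comp (algebraMap V K)
  have hθinj : Function.Injective θ :=
    (RingHom.injective ψ.hom).comp (IsFractionRing.injective V K)
  obtain ⟨A, hA, hloc⟩ := IsLocalRing.exists_factor_valuationRing θ
  let φ : V ⟶ CommRingCat.of A := CommRingCat.ofHom (θ.codRestrict A.toSubring hA)
  have hφinj : Function.Injective φ.hom := by
    intro a b hab
    apply hθinj
    have := congrArg (fun x : A => (x : L)) hab
    exact this
  -- the valuative square
  have hex : ValuativeCriterion.Existence f := by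
    have : UniversallyClosed f := inferInstance
    rw [UniversallyClosed.eq_valuativeCriterion] at this
    exact this.1
  let i₁ : Spec (CommRingCat.of L) ⟶ U := iL ≫ pullback.snd gK f
  let i₂ : Spec (CommRingCat.of A) ⟶ T := Spec.map φ ≫ g
  have hsq : CommSq i₁ (Spec.map (CommRingCat.ofHom (algebraMap A L))) f i₂ := by
    constructor
    change (iL ≫ pullback.snd gK f) ≫ f = Spec.map (CommRingCat.ofHom (algebraMap A L)) ≫ Spec.map φ ≫ g
    rw [Category.assoc, ← pullback.condition, ← Category.assoc, ← hψ, ← Category.assoc,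
      ← Spec.map_comp, ← Category.assoc, ← Spec.map_comp]
    rfl
  obtain ⟨⟨h, h1, h2⟩⟩ := hex ⟨A, L, i₁, i₂, hsq⟩
  obtain ⟨j, hj⟩ := hc (h (IsLocalRing.closedPoint A))
  haveI := hι j
  have hrange : Set.range h ⊆ Set.range (ι j) := by
    rintro _ ⟨x, rfl⟩
    have hsp : x ⤳ IsLocalRing.closedPoint A := IsLocalRing.specializes_closedPoint x
    have hsp' : h x ⤳ h (IsLocalRing.closedPoint A) := hsp.map h.continuous
    exact hsp'.mem_open (ι j).isOpenEmbedding.isOpen_range hj
  refine ⟨CommRingCat.of A, inferInstance, inferInstance, φ, ⟨hφinj, hloc⟩, j,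
    IsOpenImmersion.lift (ι j) h hrange, ?_⟩
  rw [← hf j, IsOpenImmersion.lift_fac_assoc]
  exact h2

theorem isStandardV_of_isStandardPh {T : Scheme.{u}} (E : PreZeroHypercover.{w} T)
    (hE : HTop.IsStandardPh E) : HTop.IsStandardV E := by
  obtain ⟨U, f, ι, hp, hs, hι, hf, hc⟩ := hE.exists_proper
  exact ⟨hE.isAffine, hE.finite_index, hE.isAffine_obj, hasValLift_of E U f ι hι hf hc⟩

theorem isHCover_singleton_of_proper_surjective {X Y : Scheme.{u}} (f : Y ⟶ X) [IsProper f]
    [Surjective f] [LocallyOfFinitePresentation f] :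
    HTop.IsHCover (PreZeroHypercover.singleton.{0} f) := by
  refine ⟨fun _ => ?_, fun U => ?_⟩
  · change LocallyOfFinitePresentation f; infer_instance
  haveI : IsAffine ((U : X.Opens) : Scheme.{u}) := U.2
  have hZ : IsCompact ((f ⁻¹ᵁ (U : X.Opens) : Y.Opens) : Set Y) :=
    QuasiCompact.isCompact_preimage (f := f) _ (U : X.Opens).isOpen U.2.isCompact
  obtain ⟨s, hs, e⟩ := isCompact_iff_finite_and_eq_biUnion_affineOpens.mp hZ
  let t := hs.toFinset
  let eq := t.equivFin
  have hle : ∀ k : Fin t.card, ((eq.symm k : t).1 : Y.Opens) ≤ f ⁻¹ᵁ (U : X.Opens) := by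
    intro k
    rw [e]
    have hk : (eq.symm k : t).1 ∈ s := hs.mem_toFinset.mp (eq.symm k).2
    exact le_iSup₂ (f := fun i (_ : i ∈ s) => (i : Y.Opens)) _ hk
  haveI hp : IsProper (f ∣_ (U : X.Opens)) :=
    IsZariskiLocalAtTarget.restrict (P := @IsProper) inferInstance _
  haveI hsu : Surjective (f ∣_ (U : X.Opens)) :=
    IsZariskiLocalAtTarget.restrict (P := @Surjective) inferInstance _
  let F : PreZeroHypercover.{0} ((U : X.Opens) : Scheme.{u}) :=
    { I₀ := Fin t.card
      X := fun k => (((eq.symm k : t).1 : Y.Opens) : Scheme.{u})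
      f := fun k => Y.homOfLE (hle k) ≫ (f ∣_ (U : X.Opens)) }
  refine ⟨F, ⟨inferInstance, ?_, fun k => ?_, ?_⟩, ?_⟩
  · change Finite (Fin t.card); infer_instance
  · exact (eq.symm k : t).1.2
  · refine hasValLift_of F _ (f ∣_ (U : X.Opens)) (fun k => Y.homOfLE (hle k))
      (fun k => inferInstance) (fun k => rfl) ?_
    rintro ⟨y, hy⟩
    have hx : y ∈ (⨆ i ∈ s, (i : Y.Opens) : Y.Opens) := by rw [← e]; exact hy
    simp only [TopologicalSpace.Opens.mem_iSup] at hx
    obtain ⟨i, hi, hxi⟩ := hx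
    have hit : i ∈ t := hs.mem_toFinset.mpr hi
    refine ⟨eq ⟨i, hit⟩, ⟨⟨y, by simpa using hxi⟩, ?_⟩⟩
    apply Subtype.ext
    rw [Scheme.homOfLE_apply]
  · intro k
    refine ⟨PUnit.unit, ((eq.symm k : t).1 : Y.Opens).ι, ?_⟩
    change _ ≫ f = (Y.homOfLE (hle k) ≫ (f ∣_ (U : X.Opens))) ≫ (U : X.Opens).ι
    rw [Category.assoc, morphismRestrict_ι, Scheme.homOfLE_ι_assoc]

end Groth.Agent.Lib.Helper2.ValLift
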