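import Mathlib

/-!
# Witt vectors of weakly `ℓ`-cyclic extensions (helper2)

If `B = ∑_{τ ∈ y} A τ` with `τ ^ ℓ ∈ A` (`p ∤ ℓ`), then a Teichmüller multiple of every Witt vector
over `B` is a finite `W(A)`-combination of `n`-fold Frobenius images of Teichmüller elements.
-/

set_option autoImplicit false
set_option linter.style.haveILetI false

namespace Groth.Agent.Lib.Helper2.WittCyc

open WittVector Function

lemma exists_inv_mod (ℓ P : ℕ) (hℓ : 0 < ℓ) (hP : 0 < P) (hcop : Nat.Coprime P ℓ) :
    ∃ s e : ℕ, s ≤ ℓ ∧ e ≤ P ∧ s * P = 1 + e * ℓ := by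
  obtain h1 | h1 : ℓ = 1 ∨ 1 < ℓ := by omega
  · subst h1
    exact ⟨1, P - 1, le_refl _, by omega, by omega⟩
  · obtain ⟨m, hm, hmod⟩ := Nat.exists_mul_mod_eq_one_of_coprime hcop h1
    refine ⟨m, P * m / ℓ, hm.le, ?_, ?_⟩
    · calc P * m / ℓ ≤ P * ℓ / ℓ := Nat.div_le_div_right (Nat.mul_le_mul_left _ hm.le)
        _ = P := Nat.mul_div_cancel _ hℓ
    · have := Nat.div_add_mod (P * m) ℓ
      rw [hmod] at this
      calc m * P = P * m := mul_comm _ _
        _ = ℓ * (P * m / ℓ) + 1 := this.symm
        _ = 1 + P * m / ℓ * ℓ := by ring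

variable {p : ℕ} [hp : Fact p.Prime]

local notation "𝕎" => WittVector p

section general

variable {R : Type*} [CommRing R]

lemma frobenius_teichmuller [CharP R p] (x : R) :
    WittVector.frobenius (teichmuller p x) = teichmuller p (x ^ p) := by
  ext k
  rw [coeff_frobenius_charP]
  rcases k with _ | k
  · rw [teichmuller_coeff_zero, teichmuller_coeff_zero]
  · rw [teichmuller_coeff_pos p _ _ (Nat.succ_pos k), teichmuller_coeff_pos p _ _ (Nat.succ_pos k)]
    exact zero_pow (hp.out.ne_zero)

lemma iterate_frobenius_teichmuller [CharP R p] (x : R) (i : ℕ) :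
    (WittVector.frobenius (p := p))^[i] (teichmuller p x) = teichmuller p (x ^ p ^ i) := by
  induction i generalizing x with
  | zero => simp
  | succ i ih => rw [iterate_succ_apply, frobenius_teichmuller, ih, ← pow_mul, pow_succ']

lemma term_identity [CharP R p] (i n : ℕ) (C b τ σ : R)
    (h : C ^ p ^ (n + i) * τ = b * (σ ^ p ^ n) ^ p ^ i) (a : R) :
    teichmuller p (C ^ p ^ n) * ((verschiebung (p := p))^[i] (teichmuller p (a * τ)))
      = (verschiebung (p := p))^[i] (teichmuller p (a * b)) *
        ((WittVector.frobenius (p := p))^[n] (teichmuller p σ)) := by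
  rw [mul_comm, iterate_verschiebung_mul_left, iterate_verschiebung_mul_left,
    iterate_frobenius_teichmuller, iterate_frobenius_teichmuller, iterate_frobenius_teichmuller,
    ← map_mul, ← map_mul]
  congr 2
  rw [← pow_mul, ← pow_add, mul_assoc, mul_comm τ, h]
  ring

lemma coeff_iterate_verschiebung_teichmuller (i k : ℕ) (r : R) :
    ((verschiebung (p := p))^[i] (teichmuller p r)).coeff k = if k = i then r else 0 := by
  rcases lt_trichotomy k i with h | h | h
  · rw [iterate_verschiebung_coeff_eq_zero _ h, if_neg h.ne]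
  · subst h
    have := iterate_verschiebung_coeff (p := p) (teichmuller p r) k 0
    rw [zero_add] at this
    rw [if_pos rfl, this, teichmuller_coeff_zero]
  · obtain ⟨j, rfl⟩ : ∃ j, k = (j + 1) + i := ⟨k - i - 1, by omega⟩
    rw [iterate_verschiebung_coeff, teichmuller_coeff_pos p _ _ (Nat.succ_pos j),
      if_neg (by omega)]

lemma coeff_expansion (x : ℕ → R) (N k : ℕ) :
    (∑ i ∈ Finset.range N, (verschiebung (p := p))^[i] (teichmuller p (x i))).coeff k =
      if k < N then x k else 0 := by
  induction N generalizing k with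
  | zero => simp
  | succ N ih =>
    rw [Finset.sum_range_succ, coeff_add_of_disjoint]
    · rw [ih, coeff_iterate_verschiebung_teichmuller]
      by_cases h1 : k < N
      · simp [h1, h1.ne, Nat.lt_succ_of_lt h1]
      · by_cases h2 : k = N
        · subst h2; simp
        · have : ¬ k < N + 1 := by omega
          simp [h1, h2, this]
    · intro m
      rw [ih, coeff_iterate_verschiebung_teichmuller]
      by_cases h : m < N
      · right; rw [if_neg h.ne]
      · left; rw [if_neg h]

lemma mk_eq_expansion_add (x : ℕ → R) (N : ℕ) :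
    ∃ T : 𝕎 R, (∀ k < N, T.coeff k = 0) ∧
      mk p x = (∑ i ∈ Finset.range N, (verschiebung (p := p))^[i] (teichmuller p (x i))) + T := by
  refine ⟨mk p (fun k => if k < N then 0 else x k), fun k hk => by simp [coeff_mk, hk], ?_⟩
  ext k
  rw [coeff_add_of_disjoint, coeff_expansion, coeff_mk, coeff_mk]
  · by_cases h : k < N <;> simp [h]
  · intro m
    rw [coeff_expansion, coeff_mk]
    by_cases h : m < N
    · right; simp [h]
    · left; simp [h]

lemma truncate_eq_zero_of_coeff (N : ℕ) (z : 𝕎 R) (h : ∀ k < N, z.coeff k = 0) :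
    truncate N z = 0 := by
  rw [← RingHom.mem_ker, mem_ker_truncate]
  exact h

lemma truncate_iterate_verschiebung (N : ℕ) (w : 𝕎 R) :
    truncate N ((verschiebung (p := p))^[N] w) = 0 :=
  truncate_eq_zero_of_coeff N _ fun _ hk => iterate_verschiebung_coeff_eq_zero _ hk

lemma eq_of_truncate_eq (u v : 𝕎 R) (h : ∀ N, truncate N u = truncate N v) : u = v := by
  ext k
  have h2 := congrArg (fun z => TruncatedWittVector.coeff (⟨k, Nat.lt_succ_self k⟩ : Fin (k + 1)) z)
    (h (k + 1))
  simpa [coeff_truncate] using h2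

lemma iterate_verschiebung_sum {ι : Type*} (s : Finset ι) (g : ι → 𝕎 R) (i : ℕ) :
    (verschiebung (p := p))^[i] (∑ j ∈ s, g j) = ∑ j ∈ s, (verschiebung (p := p))^[i] (g j) := by
  induction i with
  | zero => simp
  | succ i ih => simp only [iterate_succ_apply', ih, map_sum]

lemma map_iterate_verschiebung {S : Type*} [CommRing S] (f : R →+* S) (x : 𝕎 R) (i : ℕ) :
    WittVector.map f ((verschiebung (p := p))^[i] x) =
      (verschiebung (p := p))^[i] (WittVector.map f x) := by
  induction i with
  | zero => simp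
  | succ i ih => simp only [iterate_succ_apply', map_verschiebung, ih]

end general

section approx

variable {A B : Type*} [CommRing A] [CommRing B] [Algebra A B]

lemma exists_step (y : Finset B) (hspan : Submodule.span A (y : Set B) = ⊤) (η : 𝕎 B) :
    ∃ (a : B → A) (η' : 𝕎 B),
      η = (∑ τ ∈ y, teichmuller p (algebraMap A B (a τ) * τ)) + verschiebung η' := by
  have hmem : η.coeff 0 ∈ Submodule.span A (y : Set B) := by rw [hspan]; trivial
  obtain ⟨a, -, ha⟩ := Submodule.mem_span_finset.mp hmem
  set z := η - ∑ τ ∈ y, teichmuller p (algebraMap A B (a τ) * τ) with hz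
  have hz0 : ∀ k < 1, z.coeff k = 0 := by
    intro k hk
    obtain rfl : k = 0 := by omega
    have : (constantCoeff : 𝕎 B →+* B) z = 0 := by
      rw [hz, map_sub, map_sum]
      have : ∀ τ ∈ y, (constantCoeff : 𝕎 B →+* B) (teichmuller p (algebraMap A B (a τ) * τ)) =
          a τ • τ := by
        intro τ _
        change (teichmuller p (algebraMap A B (a τ) * τ)).coeff 0 = _
        rw [teichmuller_coeff_zero, Algebra.smul_def]
      rw [Finset.sum_congr rfl this, ha]
      change η.coeff 0 - η.coeff 0 = 0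
      exact sub_self _
    exact this
  have hzV := eq_iterate_verschiebung (p := p) hz0
  rw [iterate_one] at hzV
  refine ⟨a, z.shift 1, ?_⟩
  rw [← hzV, hz]
  ring

lemma exists_approx (y : Finset B) (hspan : Submodule.span A (y : Set B) = ⊤) (η : 𝕎 B) :
    ∃ (a : ℕ → B → A), ∀ N, ∃ w : 𝕎 B,
      η = (∑ i ∈ Finset.range N, (verschiebung (p := p))^[i]
          (∑ τ ∈ y, teichmuller p (algebraMap A B (a i τ) * τ))) +
        (verschiebung (p := p))^[N] w := by
  choose g h hgh using exists_step (p := p) (A := A) y hspan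
  refine ⟨fun i => g (h^[i] η), fun N => ⟨h^[N] η, ?_⟩⟩
  induction N with
  | zero => simp
  | succ N ih =>
    rw [Finset.sum_range_succ, add_assoc]
    conv_lhs => rw [ih]
    congr 1
    rw [iterate_succ_apply' h, iterate_succ_apply (verschiebung (p := p))]
    conv_lhs => rw [hgh (h^[N] η)]
    rw [iterate_map_add]

end approx

section main

theorem main (ℓ n : ℕ) (hℓ : 0 < ℓ) (hpℓ : ¬ p ∣ ℓ)
    {A B : Type*} [CommRing A] [CommRing B] [IsDomain A] [IsDomain B] [Algebra A B] [CharP B p]
    (y : Finset B) (hspan : Submodule.span A (y : Set B) = ⊤)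
    (hpow : ∀ b ∈ y, b ^ ℓ ∈ Set.range (algebraMap A B)) (hy0 : ∀ b ∈ y, b ≠ 0) :
    ∃ c : A, c ≠ 0 ∧ ∀ η : 𝕎 B, ∃ X : B → ℕ → 𝕎 A,
      teichmuller p (algebraMap A B c ^ p ^ n) * η =
        ∑ τ ∈ y, ∑ s ∈ Finset.range (ℓ + 1),
          WittVector.map (algebraMap A B) (X τ s) *
            ((WittVector.frobenius (p := p))^[n] (teichmuller p (τ ^ s))) := by
  classical
  choose! α hα using hpow
  have hα0 : ∀ b ∈ y, α b ≠ 0 := fun b hb h0 => by
    have := hα b hb
    rw [h0, map_zero] at this
    exact pow_ne_zero ℓ (hy0 b hb) this.symm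
  have hcop : ∀ i, Nat.Coprime (p ^ (n + i)) ℓ := fun i =>
    Nat.Coprime.pow_left _ ((Nat.Prime.coprime_iff_not_dvd hp.out).mpr hpℓ)
  choose s e hs he hse using fun i =>
    exists_inv_mod ℓ (p ^ (n + i)) hℓ (pow_pos hp.out.pos _) (hcop i)
  refine ⟨∏ b ∈ y, α b, Finset.prod_ne_zero_iff.mpr hα0, fun η => ?_⟩
  set c := ∏ b ∈ y, α b with hc
  set f := algebraMap A B with hf
  let β : ℕ → B → A := fun i τ =>
    α τ ^ (p ^ (n + i) - e i) * (∏ b ∈ y.erase τ, α b) ^ p ^ (n + i)
  have hβ : ∀ i, ∀ τ ∈ y,
      f c ^ p ^ (n + i) * τ = f (β i τ) * ((τ ^ s i) ^ p ^ n) ^ p ^ i := by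
    intro i τ hτ
    have hc' : c = α τ * ∏ b ∈ y.erase τ, α b := (Finset.mul_prod_erase y α hτ).symm
    have h1 : ((τ ^ s i) ^ p ^ n) ^ p ^ i = τ * f (α τ) ^ e i := by
      rw [← pow_mul, ← pow_mul, ← pow_add, hse i, pow_add, pow_one, mul_comm (e i) ℓ, pow_mul,
        ← hα τ hτ]
    rw [h1, hc', map_mul, mul_pow]
    simp only [β, map_mul, map_pow]
    rw [← pow_sub_mul_pow (f (α τ)) (he i)]
    ring
  obtain ⟨a, ha⟩ := exists_approx (p := p) (A := A) y hspan η
  let x : B → ℕ → ℕ → A := fun τ s' i => if s i = s' then a i τ * β i τ else 0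
  refine ⟨fun τ s' => mk p (x τ s'), ?_⟩
  apply eq_of_truncate_eq
  intro N
  obtain ⟨w, hw⟩ := ha N
  have hL : truncate N (teichmuller p (f c ^ p ^ n) * η) =
      ∑ i ∈ Finset.range N, ∑ τ ∈ y,
        truncate N ((verschiebung (p := p))^[i] (teichmuller p (f (a i τ * β i τ)))) *
          truncate N ((WittVector.frobenius (p := p))^[n] (teichmuller p (τ ^ s i))) := by
    conv_lhs => rw [hw]
    rw [mul_add, map_add, mul_comm _ ((verschiebung (p := p))^[N] w),
      iterate_verschiebung_mul_left, truncate_iterate_verschiebung, add_zero, Finset.mul_sum,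
      map_sum]
    refine Finset.sum_congr rfl fun i _ => ?_
    rw [iterate_verschiebung_sum, Finset.mul_sum, map_sum]
    refine Finset.sum_congr rfl fun τ hτ => ?_
    rw [term_identity i n (f c) (f (β i τ)) τ (τ ^ s i) (hβ i τ hτ) (f (a i τ)),
      map_mul (truncate (p := p) (R := B) N), ← map_mul f]
  have hX : ∀ τ s', truncate N (WittVector.map f (mk p (x τ s'))) =
      ∑ i ∈ Finset.range N, if s i = s' then
        truncate N ((verschiebung (p := p))^[i] (teichmuller p (f (a i τ * β i τ)))) else 0 := by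
    intro τ s'
    obtain ⟨T, hT0, hT⟩ := mk_eq_expansion_add (p := p) (x τ s') N
    rw [hT, map_add, map_add, truncate_eq_zero_of_coeff N (WittVector.map f T), add_zero, map_sum,
      map_sum]
    · refine Finset.sum_congr rfl fun i _ => ?_
      rw [map_iterate_verschiebung, map_teichmuller]
      by_cases h : s i = s'
      · simp only [x, if_pos h]
      · simp only [x, if_neg h, map_zero, teichmuller_zero, iterate_map_zero]
    · intro k hk
      rw [map_coeff, hT0 k hk, map_zero]
  rw [hL, map_sum, Finset.sum_comm]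
  refine Finset.sum_congr rfl fun τ _ => ?_
  rw [map_sum]
  simp only [map_mul, hX, Finset.sum_mul]
  rw [Finset.sum_comm]
  refine Finset.sum_congr rfl fun i _ => ?_
  simp only [ite_mul, zero_mul]
  rw [Finset.sum_ite_eq, if_pos (Finset.mem_range.mpr (Nat.lt_succ_of_le (hs i)))]

end main

end Groth.Agent.Lib.Helper2.WittCyc
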