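import Mathlib
import Groth.Prelude.Def_W4c6katofiltaWFil
import Groth.Agent.Lib.Helper26Witt

/-!
# Graded pieces of the filtration on truncated Witt vectors of `S((π))` (helper2)

Namespace `Groth.Agent.Lib.Helper2.WittGr`.
-/

set_option autoImplicit false
set_option linter.style.haveILetI false

namespace Groth.Agent.Lib.Helper2.WittGr

section alg

variable {A B : Type*} [CommRing A] [IsDomain A] [CommRing B] [Algebra A B] (x : A) (hx : Prime x)
  [IsLocalization.Away x B] (u : Bˣ) (hu : (u : B) = algebraMap A B x)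

include hx in
theorem algebraMap_injective : Function.Injective (algebraMap A B) :=
  IsLocalization.injective B (M := Submonoid.powers x)
    (powers_le_nonZeroDivisors_of_noZeroDivisors hx.ne_zero)

omit [IsDomain A] [IsLocalization.Away x B] in
include hu in
theorem U_nat (k : ℕ) : ((u ^ (k : ℤ) : Bˣ) : B) = algebraMap A B (x ^ k) := by
  rw [zpow_natCast, Units.val_pow_eq_pow_val, hu, map_pow]

theorem U_add (a b : ℤ) : ((u ^ (a + b) : Bˣ) : B) = ((u ^ a : Bˣ) : B) * ((u ^ b : Bˣ) : B) := by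
  rw [zpow_add, Units.val_mul]

theorem U_pow (a : ℤ) (k : ℕ) : ((u ^ a : Bˣ) : B) ^ k = ((u ^ (a * k) : Bˣ) : B) := by
  rw [← Units.val_pow_eq_pow_val, ← zpow_natCast, ← zpow_mul]

include hx in
/-- if `z ^ N * x ^ e ∈ A` with `e < N` then `z ∈ A`. -/
theorem mem_range_of_pow_mul_mem (z : B) (N e : ℕ) (he : e < N)
    (h : z ^ N * algebraMap A B (x ^ e) ∈ (algebraMap A B).range) :
    z ∈ (algebraMap A B).range := by
  classical
  have hinj := algebraMap_injective (B := B) x hx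
  have hex : ∃ l : ℕ, z * algebraMap A B (x ^ l) ∈ (algebraMap A B).range := by
    obtain ⟨⟨a, s⟩, hs⟩ := IsLocalization.surj (Submonoid.powers x) z
    obtain ⟨l, hl⟩ := s.2
    refine ⟨l, a, ?_⟩
    rw [hs.symm]
    simp only
    rw [← hl]
  obtain ⟨g, hg⟩ := h
  rcases Nat.eq_zero_or_pos (Nat.find hex) with h0 | hpos
  · have := Nat.find_spec hex
    rw [h0, pow_zero, map_one, mul_one] at this
    exact this
  · exfalso
    obtain ⟨l', hl'⟩ : ∃ l', Nat.find hex = l' + 1 := ⟨Nat.find hex - 1, by omega⟩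
    obtain ⟨a, ha⟩ := Nat.find_spec hex
    rw [hl'] at ha
    have hmin : ¬ (z * algebraMap A B (x ^ l') ∈ (algebraMap A B).range) :=
      Nat.find_min hex (by omega)
    have hxu : IsUnit (algebraMap A B x) := IsLocalization.Away.algebraMap_isUnit (S := B) x
    have hndvd : ¬ x ∣ a := by
      rintro ⟨a₁, rfl⟩
      apply hmin
      refine ⟨a₁, ?_⟩
      apply hxu.mul_left_injective
      change algebraMap A B a₁ * algebraMap A B x = z * algebraMap A B (x ^ l') * algebraMap A B x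
      calc algebraMap A B a₁ * algebraMap A B x = algebraMap A B (x * a₁) := by
            rw [map_mul, mul_comm]
        _ = z * algebraMap A B (x ^ (l' + 1)) := ha
        _ = z * algebraMap A B (x ^ l') * algebraMap A B x := by
            rw [pow_succ, map_mul, mul_assoc]
    -- a ^ N * x ^ e = g * x ^ ((l'+1) * N)
    have h1 : a ^ N * x ^ e = g * x ^ ((l' + 1) * N) := by
      apply hinj
      rw [map_mul, map_pow, ha, map_mul, hg, mul_pow, ← map_pow, ← pow_mul, map_pow (algebraMap A B) x e]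
      ring
    obtain ⟨d, hd⟩ : ∃ d, (l' + 1) * N = e + (d + 1) := ⟨(l' + 1) * N - e - 1, by
      have : N ≤ (l' + 1) * N := Nat.le_mul_of_pos_left N (Nat.succ_pos l')
      omega⟩
    rw [hd, pow_add, ← mul_assoc, mul_comm g, mul_comm (a ^ N)] at h1
    -- x^e * a^N = (x^(d+1) * g) * x^e ... arrange
    have h2 : a ^ N = g * x ^ (d + 1) := by
      have hne : x ^ e ≠ 0 := pow_ne_zero _ hx.ne_zero
      apply mul_left_cancel₀ hne
      rw [h1]
      ring
    apply hndvd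
    apply hx.dvd_of_dvd_pow (n := N)
    rw [h2]
    exact ⟨g * x ^ d, by ring⟩

include hx hu in
/-- strictness of the pole order bound for the low coordinates -/
theorem pow_mul_U_mem_succ (p : ℕ) [hp : Fact p.Prime] (b : B) (Q t : ℕ) (hQ : 0 < Q) (ht : 0 < t)
    (i : ℤ) (hpi : ¬ (p : ℤ) ∣ i)
    (h : b ^ (Q * p ^ t) * ((u ^ (-((Q : ℤ) * i)) : Bˣ) : B) ∈ (algebraMap A B).range) :
    b ^ (Q * p ^ t) * ((u ^ (-((Q : ℤ) * i) - 1) : Bˣ) : B) ∈ (algebraMap A B).range := by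
  obtain ⟨N, hN⟩ : ∃ N : ℕ, N = p ^ t := ⟨_, rfl⟩
  rw [← hN] at h ⊢
  have hNpos : 0 < N := hN ▸ pow_pos hp.out.pos t
  have hNpos' : (0 : ℤ) < (N : ℤ) := by exact_mod_cast hNpos
  have hpN : (p : ℤ) ∣ (N : ℤ) := by
    rw [hN]
    exact_mod_cast dvd_pow_self p ht.ne'
  obtain ⟨i', hi'⟩ : ∃ i' : ℤ, i' = i / (N : ℤ) := ⟨_, rfl⟩
  obtain ⟨ρ, hρ⟩ : ∃ ρ : ℤ, ρ = i % (N : ℤ) := ⟨_, rfl⟩
  have hρ0 : 0 ≤ ρ := hρ ▸ Int.emod_nonneg _ hNpos'.ne'
  have hρN : ρ < N := hρ ▸ Int.emod_lt_of_pos _ hNpos'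
  have hρne : ρ ≠ 0 := by
    intro h0
    apply hpi
    have : (N : ℤ) ∣ i := Int.dvd_of_emod_eq_zero (hρ ▸ h0)
    exact dvd_trans hpN this
  have hi : i = N * i' + ρ := by
    rw [hi', hρ]
    exact (Int.mul_ediv_add_emod i N).symm
  -- step 1
  have h1 : b ^ N * ((u ^ (-i) : Bˣ) : B) ∈ (algebraMap A B).range := by
    apply mem_range_of_pow_mul_mem x hx (b ^ N * ((u ^ (-i) : Bˣ) : B)) Q 0 hQ
    rw [pow_zero, map_one, mul_one, mul_pow, ← pow_mul, U_pow]
    have e1 : N * Q = Q * N := mul_comm _ _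
    have e2 : -i * (Q : ℤ) = -((Q : ℤ) * i) := by ring
    rw [e1, e2]
    exact h
  -- step 2
  obtain ⟨e, he⟩ : ∃ e : ℕ, (e : ℤ) = N - ρ := ⟨(N - ρ).toNat, Int.toNat_of_nonneg (by omega)⟩
  have heN : e < N := by omega
  have h2 : b * ((u ^ (-i' - 1) : Bˣ) : B) ∈ (algebraMap A B).range := by
    apply mem_range_of_pow_mul_mem x hx (b * ((u ^ (-i' - 1) : Bˣ) : B)) N e heN
    rw [mul_pow, U_pow, ← U_nat x u hu e, mul_assoc, ← U_add]
    have : (-i' - 1) * (N : ℤ) + (e : ℤ) = -i := by rw [he]; linarith [hi]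
    rw [this]
    exact h1
  -- step 3
  obtain ⟨w, hw⟩ := h2
  have h3 : b ^ N * ((u ^ (-i - 1) : Bˣ) : B) ∈ (algebraMap A B).range := by
    obtain ⟨e', he'⟩ : ∃ e' : ℕ, (e' : ℤ) = N - ρ - 1 :=
      ⟨(N - ρ - 1).toNat, Int.toNat_of_nonneg (by omega)⟩
    refine ⟨w ^ N * x ^ e', ?_⟩
    rw [map_mul, map_pow, hw, mul_pow, U_pow, ← U_nat x u hu e', mul_assoc, ← U_add]
    have : (-i' - 1) * (N : ℤ) + (e' : ℤ) = -i - 1 := by rw [he']; linarith [hi]
    rw [this]
  -- step 4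
  obtain ⟨w3, hw3⟩ := h3
  refine ⟨w3 ^ Q * x ^ (Q - 1), ?_⟩
  rw [map_mul, map_pow, hw3, mul_pow, ← pow_mul, U_pow, ← U_nat x u hu (Q - 1), mul_assoc, ← U_add]
  have hQ1 : ((Q - 1 : ℕ) : ℤ) = (Q : ℤ) - 1 := by omega
  have e3 : (-i - 1) * (Q : ℤ) + ((Q - 1 : ℕ) : ℤ) = -((Q : ℤ) * i) - 1 := by rw [hQ1]; ring
  rw [e3, mul_comm N Q]

end alg


section coeffs

open WittVector

variable (p : ℕ) [hp : Fact p.Prime]

theorem coeff_shift_lt {B : Type*} [CommRing B] (s : ℕ) (v : B) (z : WittVector p B) (j : ℕ)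
    (hj : j < s) :
    ((verschiebung)^[s] (z * teichmuller p v)).coeff j = 0 :=
  iterate_verschiebung_coeff_eq_zero _ hj

theorem coeff_shift_add {B : Type*} [CommRing B] (s : ℕ) (v : B) (z : WittVector p B) (k : ℕ) :
    ((verschiebung)^[s] (z * teichmuller p v)).coeff (k + s) = z.coeff k * v ^ p ^ k := by
  rw [iterate_verschiebung_coeff, Groth.Agent.Lib.Helper26.coeff_mul_teichmuller]

theorem coeff_low_add_shift {B : Type*} [CommRing B] (s : ℕ) (v : B) (z L : WittVector p B)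
    (hL : ∀ j, s ≤ j → L.coeff j = 0) (j : ℕ) :
    (L + (verschiebung)^[s] (z * teichmuller p v)).coeff j =
      L.coeff j + ((verschiebung)^[s] (z * teichmuller p v)).coeff j := by
  apply coeff_add_of_disjoint
  intro n
  by_cases hn : n < s
  · right; exact coeff_shift_lt p s v z n hn
  · left; exact hL n (not_lt.mp hn)

theorem coeff_vShiftTeich_of_lt {S B : Type*} [CommRing S] [CommRing B] [Algebra S B] (m s : ℕ)
    (v : B) (c : WittVector p S) (j : Fin m) (hj : (j : ℕ) < s) :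
    TruncatedWittVector.coeff j (WittFil.vShiftTeich p m s v c) = 0 := by
  unfold WittFil.vShiftTeich
  rw [WittVector.coeff_truncate, WittVector.iterate_verschiebung_coeff_eq_zero _ hj]

theorem coeff_vShiftTeich_add {S B : Type*} [CommRing S] [CommRing B] [Algebra S B] (m s : ℕ)
    (v : B) (c : WittVector p S) (j : Fin m) (k : ℕ) (hj : (j : ℕ) = k + s) :
    TruncatedWittVector.coeff j (WittFil.vShiftTeich p m s v c) =
      algebraMap S B (c.coeff k) * v ^ p ^ k := by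
  unfold WittFil.vShiftTeich
  rw [WittVector.coeff_truncate, hj, WittVector.iterate_verschiebung_coeff,
    Groth.Agent.Lib.Helper26.coeff_mul_teichmuller, WittVector.map_coeff]

end coeffs

section main

open WittVector

variable (p : ℕ) [hp : Fact p.Prime] {S A B : Type*} [CommRing S] [IsDomain S] [CommRing A]
  [IsDomain A] [CommRing B] [Algebra A B] [Algebra S A] [Algebra S B] [IsScalarTower S A B]
  (x : A) [IsLocalization.Away x B] (u : Bˣ)

theorem key_pow (b : B) (k P Q : ℕ) (hQ : p ^ k * P = Q) (i e : ℤ) :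
    (b * ((u ^ i : Bˣ) : B) ^ p ^ k) ^ P * ((u ^ e : Bˣ) : B) =
      b ^ P * ((u ^ (i * (Q : ℤ) + e) : Bˣ) : B) := by
  rw [mul_pow, ← pow_mul, hQ, U_pow, mul_assoc, ← U_add]

theorem exists_of_mem (hx : Prime x) (b : B) (k P Q : ℕ) (hP : 0 < P) (hQ : p ^ k * P = Q)
    (i : ℤ) (h : b ^ P * ((u ^ (-((Q : ℤ) * i)) : Bˣ) : B) ∈ (algebraMap A B).range) :
    ∃ w : A, b = algebraMap A B w * ((u ^ i : Bˣ) : B) ^ p ^ k := by
  have hz : b * ((u ^ (-(i * ((p ^ k : ℕ) : ℤ))) : Bˣ) : B) ∈ (algebraMap A B).range := by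
    apply mem_range_of_pow_mul_mem x hx _ P 0 hP
    rw [pow_zero, map_one, mul_one, mul_pow, U_pow]
    have e1 : -(i * ((p ^ k : ℕ) : ℤ)) * (P : ℤ) = -((Q : ℤ) * i) := by
      rw [← hQ]; push_cast; ring
    rw [e1]; exact h
  obtain ⟨w, hw⟩ := hz
  refine ⟨w, ?_⟩
  rw [hw, U_pow, mul_assoc, ← U_add]
  have e2 : -(i * ((p ^ k : ℕ) : ℤ)) + i * ((p ^ k : ℕ) : ℤ) = 0 := by ring
  rw [e2, zpow_zero, Units.val_one, mul_one]

theorem final_mem (hu : (u : B) = algebraMap A B x) (a : A) (P : ℕ) (hP : 0 < P) :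
    (algebraMap A B (x * a)) ^ P * ((u ^ (-1 : ℤ) : Bˣ) : B) ∈ (algebraMap A B).range := by
  obtain ⟨P', rfl⟩ : ∃ P', P = P' + 1 := ⟨P - 1, by omega⟩
  refine ⟨x ^ P' * a ^ (P' + 1), ?_⟩
  rw [map_mul, map_mul, map_pow, map_pow, mul_pow, ← hu, zpow_neg_one, pow_succ (u : B)]
  linear_combination (-((u : B) ^ P' * (algebraMap A B a) ^ (P' + 1))) * u.mul_inv

theorem part1 (m s : ℕ) (i : ℤ) (c : WittVector p S) :
    WittFil.vShiftTeich p m s ((u ^ i : Bˣ) : B) c ∈
      WittFil.fil p m (A := A) ((u ^ (-((p : ℤ) ^ (m - 1 - s) * i)) : Bˣ) : B) := by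
  intro j
  by_cases hj : (j : ℕ) < s
  · rw [coeff_vShiftTeich_of_lt p m s _ c j hj, zero_pow (pow_ne_zero _ hp.out.ne_zero),
      zero_mul]
    exact Subring.zero_mem _
  · obtain ⟨k, hk⟩ : ∃ k, (j : ℕ) = k + s := ⟨j - s, by omega⟩
    have hjm : (j : ℕ) < m := j.2
    rw [coeff_vShiftTeich_add p m s _ c j k hk,
      key_pow p u _ k (p ^ (m - 1 - (j : ℕ))) (p ^ (m - 1 - s))
        (by rw [← pow_add]; congr 1; omega)]
    have e0 : i * ((p ^ (m - 1 - s) : ℕ) : ℤ) + -((p : ℤ) ^ (m - 1 - s) * i) = 0 := by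
      push_cast; ring
    rw [e0, zpow_zero, Units.val_one, mul_one, ← map_pow,
      IsScalarTower.algebraMap_apply S A B]
    exact ⟨_, rfl⟩

theorem part2 (hx : Prime x) (hu : (u : B) = algebraMap A B x) (ε : A →+* S)
    (hεC : ∀ t, ε (algebraMap S A t) = t) (hεx0 : ε x = 0) (m s : ℕ) (i : ℤ)
    (c : WittVector p S) :
    WittFil.vShiftTeich p m s ((u ^ i : Bˣ) : B) c ∈
        WittFil.fil p m (A := A) ((u ^ (-((p : ℤ) ^ (m - 1 - s) * i) - 1) : Bˣ) : B) ↔
      WittVector.truncate (m - s) c = 0 := by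
  have hinj := algebraMap_injective (B := B) x hx
  constructor
  · intro h
    apply TruncatedWittVector.ext
    intro k
    rw [WittVector.coeff_truncate, TruncatedWittVector.coeff_zero]
    have hk : (k : ℕ) + s < m := by have := k.2; omega
    have hj : (TruncatedWittVector.coeff ⟨(k : ℕ) + s, hk⟩
        (WittFil.vShiftTeich p m s ((u ^ i : Bˣ) : B) c)) ^ p ^ (m - 1 - ((k : ℕ) + s)) *
          ((u ^ (-((p : ℤ) ^ (m - 1 - s) * i) - 1) : Bˣ) : B) ∈ (algebraMap A B).range :=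
      h ⟨(k : ℕ) + s, hk⟩
    rw [coeff_vShiftTeich_add p m s _ c ⟨(k : ℕ) + s, hk⟩ k rfl,
      key_pow p u _ k (p ^ (m - 1 - ((k : ℕ) + s))) (p ^ (m - 1 - s))
        (by rw [← pow_add]; congr 1; omega)] at hj
    have e0 : i * ((p ^ (m - 1 - s) : ℕ) : ℤ) + (-((p : ℤ) ^ (m - 1 - s) * i) - 1) = -1 := by
      push_cast; ring
    rw [e0, zpow_neg_one, ← map_pow, IsScalarTower.algebraMap_apply S A B] at hj
    obtain ⟨g, hg⟩ := hj
    have h2 : algebraMap S A (c.coeff k ^ p ^ (m - 1 - ((k : ℕ) + s))) = g * x := by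
      apply hinj
      rw [map_mul, hg, ← hu, mul_assoc, Units.inv_mul, mul_one]
    have h3 := congrArg ε h2
    rw [hεC, map_mul, hεx0, mul_zero] at h3
    exact (pow_eq_zero_iff (pow_ne_zero _ hp.out.ne_zero)).mp h3
  · intro h
    have hc : ∀ k, k < m - s → c.coeff k = 0 := by
      intro k hk
      have h1 : TruncatedWittVector.coeff ⟨k, hk⟩ (WittVector.truncate (m - s) c) =
          TruncatedWittVector.coeff ⟨k, hk⟩ (0 : TruncatedWittVector p (m - s) S) := by rw [h]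
      rwa [WittVector.coeff_truncate, TruncatedWittVector.coeff_zero] at h1
    intro j
    by_cases hj : (j : ℕ) < s
    · rw [coeff_vShiftTeich_of_lt p m s _ c j hj, zero_pow (pow_ne_zero _ hp.out.ne_zero),
        zero_mul]
      exact Subring.zero_mem _
    · obtain ⟨k, hk⟩ : ∃ k, (j : ℕ) = k + s := ⟨j - s, by omega⟩
      have hjm : (j : ℕ) < m := j.2
      rw [coeff_vShiftTeich_add p m s _ c j k hk, hc k (by omega), map_zero, zero_mul,
        zero_pow (pow_ne_zero _ hp.out.ne_zero), zero_mul]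
      exact Subring.zero_mem _

theorem part3 (hx : Prime x) (hu : (u : B) = algebraMap A B x) (ε : A →+* S)
    (hεC : ∀ t, ε (algebraMap S A t) = t) (hεx : ∀ a, ε a = 0 → x ∣ a) (m s : ℕ) (hs : s < m)
    (i : ℤ) (hsi : s = 0 ∨ ¬ ((p : ℤ) ∣ i)) (y : TruncatedWittVector p m B)
    (hy : y ∈ WittFil.fil p m (A := A) ((u ^ (-((p : ℤ) ^ (m - 1 - s) * i)) : Bˣ) : B)) :
    ∃ c : WittVector p S,
      y - WittFil.vShiftTeich p m s ((u ^ i : Bˣ) : B) c ∈
        WittFil.fil p m (A := A) ((u ^ (-((p : ℤ) ^ (m - 1 - s) * i) - 1) : Bˣ) : B) := by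
  classical
  have hQc : ((p ^ (m - 1 - s) : ℕ) : ℤ) = (p : ℤ) ^ (m - 1 - s) := Nat.cast_pow _ _
  have hw : ∀ k : ℕ, ∃ w : A, ∀ hk : k + s < m,
      TruncatedWittVector.coeff ⟨k + s, hk⟩ y =
        algebraMap A B w * ((u ^ i : Bˣ) : B) ^ p ^ k := by
    intro k
    by_cases hk : k + s < m
    · have h : (TruncatedWittVector.coeff ⟨k + s, hk⟩ y) ^ p ^ (m - 1 - (k + s)) *
          ((u ^ (-((p : ℤ) ^ (m - 1 - s) * i)) : Bˣ) : B) ∈ (algebraMap A B).range :=
        hy ⟨k + s, hk⟩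
      obtain ⟨w, hw⟩ := exists_of_mem p x u hx (TruncatedWittVector.coeff ⟨k + s, hk⟩ y) k
        (p ^ (m - 1 - (k + s))) (p ^ (m - 1 - s)) (pow_pos hp.out.pos _)
        (by rw [← pow_add]; congr 1; omega) i (by rw [hQc]; exact h)
      exact ⟨w, fun _ => hw⟩
    · exact ⟨0, fun h => absurd h hk⟩
  choose w hw using hw
  obtain ⟨y', hy'⟩ : ∃ y' : WittVector p A,
      y' = WittVector.mk p (fun k => if k + s < m then w k else 0) := ⟨_, rfl⟩
  have hy'c : ∀ k, k + s < m → y'.coeff k = w k := by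
    intro k hk
    rw [hy', WittVector.coeff_mk, if_pos hk]
  obtain ⟨c, hc⟩ : ∃ c : WittVector p S, c = WittVector.map ε y' := ⟨_, rfl⟩
  refine ⟨c, ?_⟩
  obtain ⟨z', hz'⟩ : ∃ z' : WittVector p A, z' = y' - WittVector.map (algebraMap S A) c :=
    ⟨_, rfl⟩
  obtain ⟨L, hL⟩ : ∃ L : WittVector p B,
      L = WittVector.mk p (fun j => if j < s then y.out.coeff j else 0) := ⟨_, rfl⟩
  have hLs : ∀ j, s ≤ j → L.coeff j = 0 := by
    intro j hj
    rw [hL, WittVector.coeff_mk, if_neg (not_lt.mpr hj)]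
  have hLlt : ∀ j : Fin m, (j : ℕ) < s → L.coeff j = TruncatedWittVector.coeff j y := by
    intro j hj
    rw [hL, WittVector.coeff_mk, if_pos hj, TruncatedWittVector.coeff_out]
  have hεz : ∀ k, ε (z'.coeff k) = 0 := by
    intro k
    have h1 : WittVector.map ε z' = 0 := by
      rw [hz', map_sub, ← hc, sub_eq_zero]
      ext n
      rw [WittVector.map_coeff, WittVector.map_coeff, hεC]
    have h2 : (WittVector.map ε z').coeff k = (0 : WittVector p S).coeff k := by rw [h1]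
    rwa [WittVector.map_coeff, WittVector.zero_coeff] at h2
  have hmapc : WittVector.map (algebraMap S B) c =
      WittVector.map (algebraMap A B) (WittVector.map (algebraMap S A) c) := by
    ext n
    rw [WittVector.map_coeff, WittVector.map_coeff, WittVector.map_coeff,
      IsScalarTower.algebraMap_apply S A B]
  have hy1 : y = WittVector.truncate m (L + (WittVector.verschiebung)^[s]
      (WittVector.map (algebraMap A B) y' * WittVector.teichmuller p ((u ^ i : Bˣ) : B))) := by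
    apply TruncatedWittVector.ext
    intro j
    rw [WittVector.coeff_truncate, coeff_low_add_shift p s _ _ L hLs]
    by_cases hj : (j : ℕ) < s
    · rw [coeff_shift_lt p s _ _ j hj, add_zero, hLlt j hj]
    · obtain ⟨k, hk⟩ : ∃ k, (j : ℕ) = k + s := ⟨j - s, by omega⟩
      have hjm : (j : ℕ) < m := j.2
      have hks : k + s < m := by omega
      rw [hLs j (not_lt.mp hj), zero_add, hk, coeff_shift_add, WittVector.map_coeff,
        hy'c k hks, ← hw k hks]
      congr 1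
      exact Fin.ext hk
  have hdiff : y - WittFil.vShiftTeich p m s ((u ^ i : Bˣ) : B) c =
      WittVector.truncate m (L + (WittVector.verschiebung)^[s]
        (WittVector.map (algebraMap A B) z' *
          WittVector.teichmuller p ((u ^ i : Bˣ) : B))) := by
    have e1 : WittVector.map (algebraMap A B) z' =
        WittVector.map (algebraMap A B) y' - WittVector.map (algebraMap S B) c := by
      rw [hz', map_sub, hmapc]
    rw [e1, sub_mul, iterate_map_sub, ← add_sub_assoc, map_sub, ← hy1]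
    rfl
  rw [hdiff]
  intro j
  rw [WittVector.coeff_truncate, coeff_low_add_shift p s _ _ L hLs]
  by_cases hj : (j : ℕ) < s
  · rw [coeff_shift_lt p s _ _ j hj, add_zero, hLlt j hj]
    have hpi : ¬ ((p : ℤ) ∣ i) := hsi.resolve_left (by omega)
    have hjm : (j : ℕ) < m := j.2
    have h : (TruncatedWittVector.coeff j y) ^ p ^ (m - 1 - (j : ℕ)) *
        ((u ^ (-((p : ℤ) ^ (m - 1 - s) * i)) : Bˣ) : B) ∈ (algebraMap A B).range := hy j
    have e : p ^ (m - 1 - (j : ℕ)) = p ^ (m - 1 - s) * p ^ (s - (j : ℕ)) := by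
      rw [← pow_add]; congr 1; omega
    rw [e] at h ⊢
    rw [← hQc] at h ⊢
    exact pow_mul_U_mem_succ x hx u hu p _ _ _ (pow_pos hp.out.pos _) (by omega) i hpi h
  · obtain ⟨k, hk⟩ : ∃ k, (j : ℕ) = k + s := ⟨j - s, by omega⟩
    have hjm : (j : ℕ) < m := j.2
    rw [hLs j (not_lt.mp hj), zero_add]
    have hcoef : ((WittVector.verschiebung)^[s] (WittVector.map (algebraMap A B) z' *
        WittVector.teichmuller p ((u ^ i : Bˣ) : B))).coeff (j : ℕ) =
          algebraMap A B (z'.coeff k) * ((u ^ i : Bˣ) : B) ^ p ^ k := by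
      rw [hk, coeff_shift_add, WittVector.map_coeff]
    rw [hcoef]
    obtain ⟨a, ha⟩ := hεx _ (hεz k)
    rw [ha, key_pow p u _ k (p ^ (m - 1 - (j : ℕ))) (p ^ (m - 1 - s))
      (by rw [← pow_add]; congr 1; omega)]
    have e0 : i * ((p ^ (m - 1 - s) : ℕ) : ℤ) + (-((p : ℤ) ^ (m - 1 - s) * i) - 1) = -1 := by
      push_cast; ring
    rw [e0]
    exact final_mem x u hu a _ (pow_pos hp.out.pos _)

end main

end Groth.Agent.Lib.Helper2.WittGr
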