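import Mathlib
import Groth.Agent.Lib.Helper20SteinUH
import Groth.Agent.Lib.Helper11RigidBaseI
import Groth.Agent.Lib.Helper11RedCl

set_option autoImplicit false
set_option linter.style.haveILetI false
universe u

namespace Groth.Agent.Lib.Helper3.AbFibre

open CategoryTheory AlgebraicGeometry Limits TopologicalSpace Opposite IsLocalRing

/-- On a connected reduced scheme the ring of global sections has only trivial idempotents. -/
theorem idempotent_trivial {Z : Scheme.{u}} [IsReduced Z] [ConnectedSpace Z] (e : Γ(Z, ⊤))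
    (he : IsIdempotentElem e) : e = 0 ∨ e = 1 := by
  have hmul : e * (1 - e) = 0 := by
    have : e * e = e := he
    rw [mul_sub, mul_one, this, sub_self]
  have hcompl : ((Z.basicOpen e : Z.Opens) : Set Z)ᶜ = ((Z.basicOpen (1 - e) : Z.Opens) : Set Z) := by
    ext x
    simp only [Set.mem_compl_iff, SetLike.mem_coe]
    rw [Z.mem_basicOpen _ _ (Opens.mem_top x), Z.mem_basicOpen _ _ (Opens.mem_top x)]
    constructor
    · intro h
      have := IsLocalRing.isUnit_or_isUnit_one_sub_self (Z.presheaf.germ ⊤ x (Opens.mem_top x) e)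
      rcases this with h1 | h1
      · exact absurd h1 h
      · rwa [map_sub, map_one]
    · intro h h1
      have h2 : IsUnit (Z.presheaf.germ ⊤ x (Opens.mem_top x) (e * (1 - e))) := by
        rw [map_mul]; exact h1.mul h
      rw [hmul, map_zero] at h2
      exact not_isUnit_zero h2
  have hcl : IsClopen ((Z.basicOpen e : Z.Opens) : Set Z) := by
    refine ⟨?_, (Z.basicOpen e).2⟩
    rw [← isOpen_compl_iff, hcompl]
    exact (Z.basicOpen (1 - e)).2
  rcases isClopen_iff.1 hcl with h | h
  · left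
    rw [← basicOpen_eq_bot_iff]
    exact Opens.ext h
  · right
    have h2 : ((Z.basicOpen (1 - e) : Z.Opens) : Set Z) = ∅ := by
      rw [← hcompl, h, Set.compl_univ]
    have h3 : (1 - e) = 0 := by
      rw [← basicOpen_eq_bot_iff]
      exact Opens.ext h2
    rw [sub_eq_zero] at h3
    exact h3.symm

/-- **`H⁰` of a connected reduced universally closed scheme over a field with a rational point
is the base field.** -/
theorem bijective_appTop_of_section {k : Type u} [Field k] {Z : Scheme.{u}}
    (p : Z ⟶ Spec (CommRingCat.of k)) [UniversallyClosed p] [IsReduced Z] [ConnectedSpace Z]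
    (σ : Spec (CommRingCat.of k) ⟶ Z) (hσ : σ ≫ p = 𝟙 _) :
    Function.Bijective p.appTop.hom := by
  have hint : p.appTop.hom.IsIntegral := isIntegral_appTop_of_universallyClosed p
  let φ : k →+* Γ(Z, ⊤) := p.appTop.hom.comp (Scheme.ΓSpecIso (CommRingCat.of k)).inv.hom
  letI : Algebra k Γ(Z, ⊤) := φ.toAlgebra
  have hφint : φ.IsIntegral := by
    apply RingHom.IsIntegral.trans _ _ _ hint
    apply RingHom.isIntegral_of_surjective
    exact (ConcreteCategory.bijective_of_isIso (Scheme.ΓSpecIso (CommRingCat.of k)).inv).2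
  haveI : Algebra.IsIntegral k Γ(Z, ⊤) := ⟨hφint⟩
  have hs : p.appTop ≫ σ.appTop = 𝟙 _ := by
    rw [← Scheme.Hom.comp_appTop, hσ, Scheme.Hom.id_appTop]
  have hs' : ∀ c, σ.appTop.hom (p.appTop.hom c) = c := fun c => by
    have := congr($hs c)
    exact this
  haveI : Nontrivial Γ(Spec (CommRingCat.of k), ⊤) :=
    (Scheme.ΓSpecIso (CommRingCat.of k)).commRingCatIsoToRingEquiv.nontrivial
  refine ⟨Function.LeftInverse.injective hs', ?_⟩
  intro b
  refine ⟨σ.appTop.hom b, ?_⟩
  have h0 : σ.appTop.hom (b - p.appTop.hom (σ.appTop.hom b)) = 0 := by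
    rw [map_sub, hs', sub_self]
  have hnu : ¬ IsUnit (b - p.appTop.hom (σ.appTop.hom b)) := fun hu => by
    have := hu.map σ.appTop.hom
    rw [h0] at this
    exact not_isUnit_zero this
  have hnil := (Groth.Agent.Lib.Helper20SteinUH.isUnit_or_isNilpotent (K := k)
    (fun e he => idempotent_trivial e he) _).resolve_left hnu
  have hred : _root_.IsReduced Γ(Z, ⊤) := inferInstance
  have := hnil.eq_zero
  rw [sub_eq_zero] at this
  exact this.symm


/-- base change of `Γ(Z) = k` to the fibres of `Z ×ₖ A → A`. -/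
theorem bijective_appTop_fibre {k : Type u} [Field k] {Z A P : Scheme.{u}}
    (pZ : Z ⟶ Spec (CommRingCat.of k)) (pA : A ⟶ Spec (CommRingCat.of k)) {a : P ⟶ Z}
    {p' : P ⟶ A} (H : IsPullback a p' pZ pA) [CompactSpace Z] [QuasiSeparatedSpace Z]
    (h : Function.Bijective pZ.appTop.hom) (s : A) :
    Function.Bijective (pullback.snd p' (A.fromSpecResidueField s)).appTop.hom := by
  let ξ := A.fromSpecResidueField s
  have H1 : IsPullback (pullback.fst p' ξ ≫ a) (pullback.snd p' ξ) pZ (ξ ≫ pA) :=
    (IsPullback.of_hasPullback p' ξ).paste_horiz H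
  haveI : Flat (ξ ≫ pA) := inferInstance
  have hiso : IsIso pZ.appTop := (ConcreteCategory.isIso_iff_bijective _).mpr h
  have := Groth.Agent.Lib.Helper11Blanchard.isIso_app_of_isPullback_of_appTop H1 hiso ⊤
    (isAffineOpen_top _)
  exact (ConcreteCategory.isIso_iff_bijective _).mp this


/-- **Rigidity lemma for a product over a field**: `Z` proper, reduced, connected with a rational
point; `A` connected, locally of finite type.  A morphism from `A ×ₖ Z` to a separated `k`-scheme
contracting one fibre `{a₀} × Z` factors through the first projection. -/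
theorem rigidity_product {k : Type u} [Field k] {A Z P Y : Scheme.{u}}
    (pA : A ⟶ Spec (CommRingCat.of k)) (pZ : Z ⟶ Spec (CommRingCat.of k))
    {pr₁ : P ⟶ A} {pr₂ : P ⟶ Z} (H : IsPullback pr₁ pr₂ pA pZ)
    [LocallyOfFiniteType pA] [ConnectedSpace A] [IsProper pZ] [IsReduced Z] [ConnectedSpace Z]
    (σ : Spec (CommRingCat.of k) ⟶ Z) (hσ : σ ≫ pZ = 𝟙 _)
    (ε : A ⟶ P) (hε1 : ε ≫ pr₁ = 𝟙 A)
    (Φ : P ⟶ Y) (q : Y ⟶ Spec (CommRingCat.of k)) [IsSeparated q] (hq : Φ ≫ q = pr₁ ≫ pA)
    (a₀ : A) (hs : ∀ x₁ x₂ : P, pr₁.base x₁ = a₀ → pr₁.base x₂ = a₀ → Φ.base x₁ = Φ.base x₂) :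
    Φ = pr₁ ≫ ε ≫ Φ := by
  haveI : IsLocallyNoetherian A := LocallyOfFiniteType.isLocallyNoetherian pA
  haveI : IsProper pr₁ := MorphismProperty.of_isPullback (P := @IsProper) H.flip inferInstance
  haveI : Flat pZ := inferInstance
  haveI : Flat pr₁ := MorphismProperty.of_isPullback (P := @Flat) H.flip inferInstance
  haveI : IsLocallyNoetherian P := LocallyOfFiniteType.isLocallyNoetherian pr₁
  haveI : CompactSpace Z := QuasiCompact.compactSpace_of_compactSpace pZ
  haveI : QuasiSeparatedSpace Z := quasiSeparatedSpace_of_quasiSeparated pZ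
  have hb := bijective_appTop_of_section pZ σ hσ
  have h0 : ∀ s : A, Function.Surjective
      (pullback.snd pr₁ (A.fromSpecResidueField s)).appTop.hom := fun s =>
    (bijective_appTop_fibre pZ pA H.flip hb s).2
  have hq' : Φ ≫ q = pr₁ ≫ ε ≫ Φ ≫ q := by
    rw [hq, reassoc_of% hε1]
  exact Groth.Agent.Lib.Helper11RigidBase.rigidity_section_connected pr₁ pr₁.isClosedMap ε hε1 Φ q
    hq' h0 a₀ hs

end Groth.Agent.Lib.Helper3.AbFibre
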