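import Mathlib
import Groth.Agent.Lib.Helper3AbFibreA

set_option autoImplicit false
set_option linter.style.haveILetI false
universe u

namespace Groth.Agent.Lib.Helper3.AbFibre

open CategoryTheory AlgebraicGeometry Limits TopologicalSpace Opposite IsLocalRing
open MonoidalCategory CartesianMonoidalCategory MonObj GrpObj

section Key

variable {k : Type u} [Field k] (X : Over (Spec (CommRingCat.of k))) [GrpObj X] [IsProper X.hom]
  [GeometricallyIntegral X.hom] {Y : Scheme.{u}} (q : Y ⟶ Spec (CommRingCat.of k)) [IsSeparated q]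
  (f : X.left ⟶ Y) (hf : f ≫ q = X.hom)

include hf in
/-- **Key consequence of rigidity**: if `C ⊆ X` is closed, connected, contains the unit point
and is contracted by `f`, then `f (a · z) = f a` for all `z ∈ C`. -/
theorem key (C : Closeds X.left) (hconn : _root_.IsPreconnected (C : Set X.left))
    (he : η[X].left (closedPoint k) ∈ C)
    (hfC : ∀ z ∈ C, f z = f (η[X].left (closedPoint k))) :
    ∀ w : (X ⊗ X).left, (snd X X).left w ∈ C → f (μ[X].left w) = f ((fst X X).left w) := by
  let I := Scheme.IdealSheafData.vanishingIdeal C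
  let Z : Scheme.{u} := I.subscheme
  let j : Z ⟶ X.left := I.subschemeι
  have hrange : Set.range j = (C : Set X.left) :=
    Groth.Agent.Lib.Helper11RedCl.range_subschemeι_vanishingIdeal C
  let Z' : Over (Spec (CommRingCat.of k)) := Over.mk (j ≫ X.hom)
  let jZ : Z' ⟶ X := Over.homMk j rfl
  obtain ⟨c0, hc0⟩ := Groth.Agent.Lib.Helper11RedCl.exists_lift_of_range_subset
    (T := Spec (CommRingCat.of k)) η[X].left C (by
      rintro _ ⟨t, rfl⟩
      have : t = closedPoint k := Subsingleton.elim _ _
      rw [this]; exact he)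
  have hηw : η[X].left ≫ X.hom = 𝟙 _ := Over.w η[X]
  let c : 𝟙_ (Over (Spec (CommRingCat.of k))) ⟶ Z' := Over.homMk c0 (by
    change c0 ≫ j ≫ X.hom = 𝟙 _
    rw [reassoc_of% hc0, hηw]; rfl)
  have hc : c ≫ jZ = η[X] := Over.OverMorphism.ext hc0
  haveI : Nonempty Z := ⟨c0 (closedPoint k)⟩
  haveI : PreconnectedSpace Z := by
    constructor
    have := j.isClosedEmbedding.isInducing.isPreconnected_image (s := Set.univ)
    rw [Set.image_univ, hrange] at this
    exact this.mp hconn
  haveI : ConnectedSpace Z := { toNonempty := inferInstance }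
  haveI : IsReduced Z := Groth.Agent.Lib.Helper11RedCl.isReduced_subscheme_vanishingIdeal C
  haveI : IsProper Z'.hom := inferInstanceAs (IsProper (j ≫ X.hom))
  haveI : IsIntegral X.left := GeometricallyIntegral.isIntegral_of_subsingleton (f := X.hom)
  haveI : ConnectedSpace X.left := inferInstance
  have H : IsPullback (fst X Z').left (snd X Z').left X.hom Z'.hom := IsPullback.of_hasPullback _ _
  let ε : X ⟶ X ⊗ Z' := lift (𝟙 X) (toUnit X ≫ c)
  let Φ : (X ⊗ Z').left ⟶ Y := (X ◁ jZ ≫ μ[X]).left ≫ f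
  have hεΦ : ε.left ≫ Φ = f := by
    have h1 : ε ≫ X ◁ jZ ≫ μ[X] = 𝟙 X := by
      dsimp only [ε]
      rw [lift_whiskerLeft_assoc, Category.assoc, hc, lift_comp_one_right]
    have h2 := congr($(h1).left)
    rw [Over.comp_left, Over.id_left] at h2
    dsimp only [Φ]
    rw [reassoc_of% h2]
  let ie : Z' ⟶ X ⊗ Z' := lift (toUnit Z' ≫ η[X]) (𝟙 Z')
  have hieΦ : ie.left ≫ Φ = j ≫ f := by
    have h1 : ie ≫ X ◁ jZ ≫ μ[X] = jZ := by
      dsimp only [ie]
      rw [lift_whiskerLeft_assoc, Category.id_comp, lift_comp_one_left]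
    have h2 := congr($(h1).left)
    rw [Over.comp_left] at h2
    dsimp only [Φ]
    rw [reassoc_of% h2]
    rfl
  have Hie : IsPullback ie.left Z'.hom (fst X Z').left η[X].left := by
    have h1 : ie.left ≫ (snd X Z').left = 𝟙 Z := by
      rw [← Over.comp_left]; dsimp only [ie]; rw [lift_snd]; rfl
    refine IsPullback.of_right ?_ ?_ H.flip
    · rw [h1, hηw]; exact IsPullback.id_horiz _
    · rw [← Over.comp_left]; dsimp only [ie]; rw [lift_fst]; rfl
  have hs : ∀ x₁ x₂ : (X ⊗ Z').left, (fst X Z').left x₁ = η[X].left (closedPoint k) →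
      (fst X Z').left x₂ = η[X].left (closedPoint k) → Φ x₁ = Φ x₂ := by
    have hone : ∀ x₁ : (X ⊗ Z').left, (fst X Z').left x₁ = η[X].left (closedPoint k) →
        Φ x₁ = f (η[X].left (closedPoint k)) := by
      intro x₁ h₁
      obtain ⟨z, hz, -⟩ := Groth.Agent.Lib.Helper11RigidBase.exists_preimage_of_isPullback Hie
        x₁ (closedPoint k) h₁
      rw [← hz]
      have := congr($(hieΦ) z)
      refine this.trans ?_
      apply hfC
      rw [← SetLike.mem_coe, ← hrange]
      exact ⟨z, rfl⟩
    intro x₁ x₂ h₁ h₂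
    rw [hone x₁ h₁, hone x₂ h₂]
  have hq : Φ ≫ q = (fst X Z').left ≫ X.hom := by
    dsimp only [Φ]
    rw [Category.assoc, hf, Over.w]
    rfl
  haveI : IsReduced Z'.left := ‹IsReduced Z›
  haveI : ConnectedSpace Z'.left := ‹ConnectedSpace Z›
  have hΦ : Φ = (fst X Z').left ≫ ε.left ≫ Φ :=
    rigidity_product X.hom Z'.hom H c.left (Over.w c) ε.left (by
      rw [← Over.comp_left]; dsimp only [ε]; rw [lift_fst]; rfl) Φ q hq _ hs
  rw [hεΦ] at hΦ
  have Hleft : IsPullback (X ◁ jZ).left (snd X Z').left (snd X X).left j := by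
    refine IsPullback.of_right ?_ ?_ (IsPullback.of_hasPullback X.hom X.hom)
    · have : (X ◁ jZ).left ≫ pullback.fst X.hom X.hom = (fst X Z').left := by
        rw [← Over.fst_left, ← Over.comp_left, whiskerLeft_fst]
      rw [this]
      exact H
    · rw [← Over.comp_left, whiskerLeft_snd]
      rfl
  intro w hw
  rw [← SetLike.mem_coe, ← hrange] at hw
  obtain ⟨z, hz⟩ := hw
  obtain ⟨w', hw', -⟩ := Groth.Agent.Lib.Helper11RigidBase.exists_preimage_of_isPullback Hleft
    w z hz.symm
  rw [← hw']
  have h1 := congr($(hΦ) w')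
  have h2 : (fst X X).left ((X ◁ jZ).left w') = (fst X Z').left w' := by
    have : (X ◁ jZ).left ≫ (fst X X).left = (fst X Z').left := by
      rw [← Over.comp_left, whiskerLeft_fst]
    exact congr($(this) w')
  rw [h2]
  exact h1

end Key

end Groth.Agent.Lib.Helper3.AbFibre
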