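import Mathlib
import Groth.Agent.Lib.Helper3AbFibreB

set_option autoImplicit false
set_option linter.style.haveILetI false
universe u

namespace Groth.Agent.Lib.Helper3.AbFibre

open CategoryTheory AlgebraicGeometry Limits TopologicalSpace Opposite IsLocalRing
open MonoidalCategory CartesianMonoidalCategory MonObj GrpObj

theorem isClosed_connectedComponentIn {α : Type*} [TopologicalSpace α] {F : Set α}
    (hF : IsClosed F) (x : α) : IsClosed (connectedComponentIn F x) := by
  by_cases hx : x ∈ F
  · rw [connectedComponentIn_eq_image hx]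
    exact hF.isClosedEmbedding_subtypeVal.isClosedMap _ isClosed_connectedComponent
  · rw [connectedComponentIn_eq_empty hx]
    exact isClosed_empty

section Trans

variable {C : Type*} [Category C] [CartesianMonoidalCategory C] (X : C) [GrpObj X]

/-- left translation by a point -/
noncomputable def T (x : 𝟙_ C ⟶ X) : X ⟶ X := lift (toUnit X ≫ x) (𝟙 X) ≫ μ[X]

lemma T_eq (x : 𝟙_ C ⟶ X) : T X x = (toUnit X ≫ x) * 𝟙 X := rfl

lemma T_comp (x y : 𝟙_ C ⟶ X) : T X x ≫ T X y = T X (y * x) := by
  rw [T_eq X y, MonObj.comp_mul, Category.comp_id, T_eq, T_eq, ← _root_.mul_assoc, MonObj.comp_mul]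
  congr 2
  rw [← Category.assoc]
  congr 1
  exact toUnit_unique _ _

lemma T_one : T X 1 = 𝟙 X := by
  rw [T_eq, MonObj.comp_one, _root_.one_mul]

lemma point_comp_T (x y : 𝟙_ C ⟶ X) : x ≫ T X y = y * x := by
  rw [T_eq, MonObj.comp_mul, Category.comp_id, ← Category.assoc]
  have : x ≫ toUnit X = 𝟙 _ := toUnit_unique _ _
  rw [this, Category.id_comp]

lemma T_inv_comp (x : 𝟙_ C ⟶ X) : T X x⁻¹ ≫ T X x = 𝟙 X := by
  rw [T_comp, _root_.mul_inv_cancel, T_one]

lemma T_comp_inv (x : 𝟙_ C ⟶ X) : T X x ≫ T X x⁻¹ = 𝟙 X := by
  rw [T_comp, _root_.inv_mul_cancel, T_one]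

instance (x : 𝟙_ C ⟶ X) : IsIso (T X x) := ⟨T X x⁻¹, T_comp_inv X x, T_inv_comp X x⟩

end Trans


section Main

variable {k : Type u} [Field k] (X : Over (Spec (CommRingCat.of k))) [GrpObj X] [IsProper X.hom]
  [GeometricallyIntegral X.hom] {Y : Scheme.{u}} (q : Y ⟶ Spec (CommRingCat.of k)) [IsSeparated q]
  (f : X.left ⟶ Y) (hf : f ≫ q = X.hom)

include hf in
theorem isClosed_singleton (s : 𝟙_ (Over (Spec (CommRingCat.of k))) ⟶ X) :
    IsClosed ({f (s.left (closedPoint k))} : Set Y) := by
  let r : Spec (CommRingCat.of k) ⟶ Y := s.left ≫ f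
  have hr : r ≫ q = 𝟙 _ := by
    dsimp only [r]
    rw [Category.assoc, hf]; exact Over.w s
  haveI : IsClosedImmersion (r ≫ q) := by rw [hr]; infer_instance
  haveI : IsClosedImmersion r := IsClosedImmersion.of_comp r q
  have h1 : Set.range r = {f (s.left (closedPoint k))} := by
    ext y; constructor
    · rintro ⟨t, rfl⟩
      rw [Subsingleton.elim t (closedPoint k)]; rfl
    · rintro rfl
      exact ⟨closedPoint k, rfl⟩
  rw [← h1]; exact r.isClosedEmbedding.isClosed_range

include hf in
theorem key' (w : (X ⊗ X).left)
    (hw : (snd X X).left w ∈ connectedComponentIn (f ⁻¹' {f (η[X].left (closedPoint k))})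
      (η[X].left (closedPoint k))) :
    f (μ[X].left w) = f ((fst X X).left w) := by
  have hF : IsClosed (f ⁻¹' {f (η[X].left (closedPoint k))}) :=
    (isClosed_singleton X q f hf η[X]).preimage f.continuous
  let C : Closeds X.left := ⟨_, isClosed_connectedComponentIn hF (η[X].left (closedPoint k))⟩
  have he0 : η[X].left (closedPoint k) ∈ f ⁻¹' {f (η[X].left (closedPoint k))} :=
    Set.mem_singleton _
  exact key X q f hf C isPreconnected_connectedComponentIn (mem_connectedComponentIn he0)
    (fun z hz => connectedComponentIn_subset (f ⁻¹' {f (η[X].left (closedPoint k))}) _ hz) w hw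

include hf in
/-- `f (x · z) = f x` for `z` in the component `F₀` of the unit in its fibre. -/
theorem f_T (x : 𝟙_ (Over (Spec (CommRingCat.of k))) ⟶ X) (z : X.left)
    (hz : z ∈ connectedComponentIn (f ⁻¹' {f (η[X].left (closedPoint k))})
      (η[X].left (closedPoint k))) :
    f ((T X x).left z) = f (x.left (closedPoint k)) := by
  let w : (X ⊗ X).left := (lift (toUnit X ≫ x) (𝟙 X)).left z
  have h1 : (snd X X).left w = z := by
    have : (lift (toUnit X ≫ x) (𝟙 X)).left ≫ (snd X X).left = 𝟙 _ := by
      rw [← Over.comp_left, lift_snd]; rfl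
    exact congr($(this) z)
  have h2 : (fst X X).left w = x.left (closedPoint k) := by
    have : (lift (toUnit X ≫ x) (𝟙 X)).left ≫ (fst X X).left = X.hom ≫ x.left := by
      rw [← Over.comp_left, lift_fst]; rfl
    have h3 := congr($(this) z)
    refine h3.trans ?_
    change x.left (X.hom z) = _
    rw [Subsingleton.elim (X.hom z) (closedPoint k)]
  have h3 := key' X q f hf w (by rw [h1]; exact hz)
  rw [h2] at h3
  exact h3

include hf in
/-- **Translation formula**: `t_x` maps the component of the unit in its fibre onto the component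
of `x` in its fibre. -/
theorem image_T_eq (x : 𝟙_ (Over (Spec (CommRingCat.of k))) ⟶ X) :
    (T X x).left '' connectedComponentIn (f ⁻¹' {f (η[X].left (closedPoint k))})
        (η[X].left (closedPoint k)) =
      connectedComponentIn (f ⁻¹' {f (x.left (closedPoint k))}) (x.left (closedPoint k)) := by
  have hηx : (T X x).left (η[X].left (closedPoint k)) = x.left (closedPoint k) := by
    have h1 : η[X] ≫ T X x = x := by
      rw [MonObj.one_eq_one, point_comp_T, _root_.mul_one]
    exact congr($(h1).left (closedPoint k))
  apply subset_antisymm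
  · apply IsPreconnected.subset_connectedComponentIn
    · exact isPreconnected_connectedComponentIn.image _ (T X x).left.continuous.continuousOn
    · exact ⟨_, mem_connectedComponentIn (F := f ⁻¹' {f (η[X].left (closedPoint k))})
        (Set.mem_singleton _), hηx⟩
    · rintro _ ⟨z, hz, rfl⟩
      exact f_T X q f hf x z hz
  · -- the other inclusion via `g = t_x ≫ f`
    let t : X.left ⟶ X.left := (T X x).left
    let g : X.left ⟶ Y := t ≫ f
    have hg : g ≫ q = X.hom := by
      dsimp only [g, t]
      rw [Category.assoc, hf, Over.w]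
    haveI : IsIso t := inferInstanceAs (IsIso ((Over.forget _).map (T X x)))
    let h : X.left ≃ₜ X.left := t.homeomorph
    have hG : g ⁻¹' {g (η[X].left (closedPoint k))} =
        t ⁻¹' (f ⁻¹' {f (x.left (closedPoint k))}) := by
      ext z
      simp only [Set.mem_preimage, Set.mem_singleton_iff]
      change f (t z) = f (t (η[X].left (closedPoint k))) ↔ _
      rw [hηx]
    have hsub : connectedComponentIn (g ⁻¹' {g (η[X].left (closedPoint k))})
        (η[X].left (closedPoint k)) ⊆
        connectedComponentIn (f ⁻¹' {f (η[X].left (closedPoint k))})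
          (η[X].left (closedPoint k)) := by
      apply IsPreconnected.subset_connectedComponentIn isPreconnected_connectedComponentIn
        (mem_connectedComponentIn (F := g ⁻¹' {g (η[X].left (closedPoint k))})
          (Set.mem_singleton _))
      intro z hz
      have h1 := f_T X q g hg x⁻¹ z hz
      have h2 : g ((T X x⁻¹).left z) = f z := by
        have : (T X x⁻¹).left ≫ t = 𝟙 _ := by
          dsimp only [t]
          rw [← Over.comp_left, T_inv_comp]; rfl
        change f (t ((T X x⁻¹).left z)) = f z
        have h3 := congr($(this) z)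
        rw [Scheme.Hom.comp_apply] at h3
        rw [h3]; rfl
      have h3 : g ((x⁻¹ : 𝟙_ _ ⟶ X).left (closedPoint k)) = f (η[X].left (closedPoint k)) := by
        have : (x⁻¹ : 𝟙_ _ ⟶ X) ≫ T X x = η[X] := by
          rw [point_comp_T, _root_.mul_inv_cancel, MonObj.one_eq_one]
        change f (t ((x⁻¹ : 𝟙_ _ ⟶ X).left (closedPoint k))) = _
        have h4 := congr($(this).left (closedPoint k))
        rw [Over.comp_left, Scheme.Hom.comp_apply] at h4
        rw [h4]
      rw [h2, h3] at h1
      exact h1
    have himg := h.image_connectedComponentIn (s := g ⁻¹' {g (η[X].left (closedPoint k))})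
      (x := η[X].left (closedPoint k)) (Set.mem_singleton _)
    have h5 : h '' (g ⁻¹' {g (η[X].left (closedPoint k))}) =
        f ⁻¹' {f (x.left (closedPoint k))} := by
      rw [hG]
      exact Set.image_preimage_eq _ h.surjective
    rw [h5] at himg
    have h6 : h (η[X].left (closedPoint k)) = x.left (closedPoint k) := hηx
    rw [h6] at himg
    rw [← himg]
    exact Set.image_mono hsub

end Main

end Groth.Agent.Lib.Helper3.AbFibre
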