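import Mathlib
import Groth.Agent.Lib.Helper3AbFibreC
import Groth.Agent.Lib.Helper14LocNoeth
import Groth.Agent.Lib.Helper4FibDimE
import Groth.Agent.Lib.Helper4FibDimH
import Groth.Agent.Lib.Helper3LocDimBC

set_option autoImplicit false
set_option linter.style.haveILetI false
universe u

namespace Groth.Agent.Lib.Helper3.AbFibre

open CategoryTheory AlgebraicGeometry Limits TopologicalSpace Opposite IsLocalRing Topology
open MonoidalCategory CartesianMonoidalCategory MonObj GrpObj
open Groth.Agent.Lib.Helper4.FibDim Groth.Agent.Lib.Helper4.VarDim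

theorem localDim_eq_of_relOpen {α : Type*} [TopologicalSpace α] {A C : Set α} (hCA : C ⊆ A)
    (hopen : IsOpen ((↑) ⁻¹' C : Set A)) (a : α) (haC : a ∈ C) :
    FlatMor.localDim C ⟨a, haC⟩ = FlatMor.localDim A ⟨a, hCA haC⟩ := by
  have hemb : IsOpenEmbedding (Set.inclusion hCA) := by
    refine ⟨IsEmbedding.inclusion hCA, ?_⟩
    rw [Set.range_inclusion]
    exact hopen
  exact localDim_eq_of_isOpenEmbedding hemb ⟨a, haC⟩

theorem isOpen_preimage_connectedComponentIn {α : Type*} [TopologicalSpace α] [NoetherianSpace α]
    (F : Set α) (x : α) : IsOpen ((↑) ⁻¹' connectedComponentIn F x : Set F) := by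
  by_cases hx : x ∈ F
  · rw [connectedComponentIn_eq_image hx, Set.preimage_image_eq _ Subtype.val_injective]
    exact Groth.Agent.Lib.Helper14.isOpen_connectedComponent_of_noetherianSpace _
  · rw [connectedComponentIn_eq_empty hx]
    simp

/-- local dimension of a set at a point only depends on the connected component (Noetherian). -/
theorem localDim_eq_connectedComponentIn {α : Type*} [TopologicalSpace α] [NoetherianSpace α]
    (F : Set α) (x : α) (hx : x ∈ F) :
    FlatMor.localDim (connectedComponentIn F x) ⟨x, mem_connectedComponentIn hx⟩ =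
      FlatMor.localDim F ⟨x, hx⟩ :=
  localDim_eq_of_relOpen (connectedComponentIn_subset F x)
    (isOpen_preimage_connectedComponentIn F x) x (mem_connectedComponentIn hx)


section Main

variable {k : Type u} [Field k] (X : Over (Spec (CommRingCat.of k))) [GrpObj X] [IsProper X.hom]
  [GeometricallyIntegral X.hom] {Y : Scheme.{u}} (q : Y ⟶ Spec (CommRingCat.of k)) [IsSeparated q]
  (f : X.left ⟶ Y) (hf : f ≫ q = X.hom)

include hf in
/-- the fibre of `t_x ≫ f` through `e` has the same unit component as the fibre of `f`. -/
theorem connectedComponentIn_T_comp (x : 𝟙_ (Over (Spec (CommRingCat.of k))) ⟶ X) :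
    connectedComponentIn (((T X x).left ≫ f) ⁻¹' {((T X x).left ≫ f) (η[X].left (closedPoint k))})
        (η[X].left (closedPoint k)) =
      connectedComponentIn (f ⁻¹' {f (η[X].left (closedPoint k))}) (η[X].left (closedPoint k)) := by
  have hηx : (T X x).left (η[X].left (closedPoint k)) = x.left (closedPoint k) := by
    have h1 : η[X] ≫ T X x = x := by
      rw [MonObj.one_eq_one, point_comp_T, _root_.mul_one]
    exact congr($(h1).left (closedPoint k))
  let t : X.left ⟶ X.left := (T X x).left
  haveI : IsIso t := inferInstanceAs (IsIso ((Over.forget _).map (T X x)))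
  let h : X.left ≃ₜ X.left := t.homeomorph
  have hG : (t ≫ f) ⁻¹' {(t ≫ f) (η[X].left (closedPoint k))} =
      t ⁻¹' (f ⁻¹' {f (x.left (closedPoint k))}) := by
    ext z
    simp only [Set.mem_preimage, Set.mem_singleton_iff]
    change f (t z) = f (t (η[X].left (closedPoint k))) ↔ _
    rw [hηx]
  have himg := h.image_connectedComponentIn
    (s := (t ≫ f) ⁻¹' {(t ≫ f) (η[X].left (closedPoint k))})
    (x := η[X].left (closedPoint k)) (Set.mem_singleton _)
  have h5 : h '' ((t ≫ f) ⁻¹' {(t ≫ f) (η[X].left (closedPoint k))}) =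
      f ⁻¹' {f (x.left (closedPoint k))} := by
    rw [hG]
    exact Set.image_preimage_eq _ h.surjective
  rw [h5] at himg
  have h6 : h (η[X].left (closedPoint k)) = x.left (closedPoint k) := hηx
  rw [h6, ← image_T_eq X q f hf x] at himg
  exact (Set.image_injective.mpr h.injective) himg

include hf in
/-- **Homogeneity of the fibre dimension**: the local fibre dimension of `f` at a rational point
equals the one at the unit. -/
theorem fibreDimAt_point_eq (x : 𝟙_ (Over (Spec (CommRingCat.of k))) ⟶ X) :
    FlatMor.fibreDimAt f (x.left (closedPoint k)) =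
      FlatMor.fibreDimAt f (η[X].left (closedPoint k)) := by
  have hηx : (T X x).left (η[X].left (closedPoint k)) = x.left (closedPoint k) := by
    have h1 : η[X] ≫ T X x = x := by
      rw [MonObj.one_eq_one, point_comp_T, _root_.mul_one]
    exact congr($(h1).left (closedPoint k))
  let t : X.left ⟶ X.left := (T X x).left
  haveI : IsIso t := inferInstanceAs (IsIso ((Over.forget _).map (T X x)))
  let h : X.left ≃ₜ X.left := t.homeomorph
  haveI : IsLocallyNoetherian X.left := LocallyOfFiniteType.isLocallyNoetherian X.hom
  haveI : CompactSpace X.left := QuasiCompact.compactSpace_of_compactSpace X.hom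
  haveI : IsNoetherian X.left := {}
  haveI : NoetherianSpace X.left := inferInstance
  rw [fibreDimAt_eq_fibLD, fibreDimAt_eq_fibLD]
  have h1 : fibLD f (x.left (closedPoint k)) = fibLD (f ∘ h) (η[X].left (closedPoint k)) := by
    rw [fibLD_comp_isOpenEmbedding f h h.isOpenEmbedding]
    congr 1
    exact hηx.symm
  rw [h1]
  set e := η[X].left (closedPoint k) with he
  have hC := connectedComponentIn_T_comp X q f hf x
  unfold fibLD
  have hA : (f ∘ h) ⁻¹' {(f ∘ h) e} = (t ≫ f) ⁻¹' {(t ≫ f) e} := rfl
  rw [localDim_congr_set hA e rfl]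
  rw [← localDim_eq_connectedComponentIn ((t ≫ f) ⁻¹' {(t ≫ f) e}) e (Set.mem_singleton _),
    ← localDim_eq_connectedComponentIn (f ⁻¹' {f e}) e (Set.mem_singleton _)]
  exact localDim_congr_set hC e _

end Main

end Groth.Agent.Lib.Helper3.AbFibre
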