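import Mathlib
import Groth.Agent.Lib.Helper3AbFibreD

set_option autoImplicit false
set_option linter.style.haveILetI false
universe u

namespace Groth.Agent.Lib.Helper3.AbFibre

open CategoryTheory AlgebraicGeometry Limits TopologicalSpace Opposite IsLocalRing Topology
open MonoidalCategory CartesianMonoidalCategory MonObj GrpObj
open Groth.Agent.Lib.Helper4.FibDim Groth.Agent.Lib.Helper4.VarDim

open scoped Obj

section BC

variable {k : Type u} [Field k] (X : Over (Spec (CommRingCat.of k))) [GrpObj X] [IsProper X.hom]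
  [GeometricallyIntegral X.hom] {Y : Scheme.{u}} (q : Y ⟶ Spec (CommRingCat.of k)) [IsSeparated q]
  (f : X.left ⟶ Y) (hf : f ≫ q = X.hom)

include hf in
/-- **All points have the same local fibre dimension** (base change to an algebraically closed
field + homogeneity). -/
theorem fibreDimAt_eq_unit (x : X.left) :
    FlatMor.fibreDimAt f x = FlatMor.fibreDimAt f (η[X].left (closedPoint k)) := by
  let κ : Type u := X.left.residueField x
  let K : Type u := AlgebraicClosure κ
  let xb : Spec (CommRingCat.of K) ⟶ X.left :=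
    Spec.map (CommRingCat.ofHom (algebraMap κ K)) ≫ X.left.fromSpecResidueField x
  let g : Spec (CommRingCat.of K) ⟶ Spec (CommRingCat.of k) := xb ≫ X.hom
  let XK : Over (Spec (CommRingCat.of K)) := (Over.pullback g).obj X
  haveI : IsProper XK.hom := inferInstanceAs (IsProper (pullback.snd X.hom g))
  haveI : GeometricallyIntegral XK.hom :=
    inferInstanceAs (GeometricallyIntegral (pullback.snd X.hom g))
  let π : XK.left ⟶ X.left := pullback.fst X.hom g
  let YK : Scheme.{u} := pullback q g
  let qK : YK ⟶ Spec (CommRingCat.of K) := pullback.snd q g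
  let πY : YK ⟶ Y := pullback.fst q g
  haveI : IsSeparated qK := inferInstanceAs (IsSeparated (pullback.snd q g))
  have hcond : π ≫ X.hom = XK.hom ≫ g := pullback.condition
  let fK : XK.left ⟶ YK := pullback.lift (π ≫ f) XK.hom (by
    rw [Category.assoc, hf]; exact hcond)
  have hfK : fK ≫ qK = XK.hom := pullback.lift_snd _ _ _
  have hfKπ : fK ≫ πY = π ≫ f := pullback.lift_fst _ _ _
  have hsq : IsPullback π fK f πY := by
    refine IsPullback.of_bot ?_ hfKπ.symm (IsPullback.of_hasPullback q g)
    rw [hfK, hf]
    exact IsPullback.of_hasPullback X.hom g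
  haveI : LocallyOfFiniteType (f ≫ q) := by rw [hf]; infer_instance
  haveI : LocallyOfFiniteType f := locallyOfFiniteType_of_comp f q
  -- points
  have mkpt : ∀ (a : Spec (CommRingCat.of K) ⟶ X.left) (ha : a ≫ X.hom = g),
      ∃ a' : 𝟙_ (Over (Spec (CommRingCat.of K))) ⟶ XK, a'.left ≫ π = a := by
    intro a ha
    refine ⟨Over.homMk (pullback.lift a (𝟙 _) (by rw [ha, Category.id_comp])) ?_, ?_⟩
    · exact pullback.lift_snd _ _ _
    · exact pullback.lift_fst _ _ _
  obtain ⟨x', hx'⟩ := mkpt xb rfl
  obtain ⟨e', he'⟩ := mkpt (g ≫ η[X].left) (by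
    rw [Category.assoc]
    have : η[X].left ≫ X.hom = 𝟙 _ := Over.w η[X]
    rw [this]; exact Category.comp_id _)
  have hxpt : π (x'.left (closedPoint K)) = x := by
    have h1 := congr($(hx') (closedPoint K))
    refine h1.trans ?_
    exact Scheme.fromSpecResidueField_apply x _
  have hept : π (e'.left (closedPoint K)) = η[X].left (closedPoint k) := by
    have h1 := congr($(he') (closedPoint K))
    refine h1.trans ?_
    change η[X].left (g (closedPoint K)) = _
    rw [Subsingleton.elim (g (closedPoint K)) (closedPoint k)]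
  have h1 := Groth.Agent.Lib.Helper3.LocDimBC.fibreDimAt_eq_of_isPullback f πY π fK hsq
    (x'.left (closedPoint K))
  have h2 := Groth.Agent.Lib.Helper3.LocDimBC.fibreDimAt_eq_of_isPullback f πY π fK hsq
    (e'.left (closedPoint K))
  rw [hxpt] at h1
  rw [hept] at h2
  rw [← h1, ← h2, fibreDimAt_point_eq XK qK fK hfK x', fibreDimAt_point_eq XK qK fK hfK e']


include hf in
/-- **Equidimensionality of the fibres** of a morphism from an abelian variety to a separated
`k`-scheme. -/
theorem equidim : ∃ d : ℕ, ∀ (y : Y) (Z : Set ↥(f.fiber y)),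
    Z ∈ irreducibleComponents ↥(f.fiber y) → topologicalKrullDim ↥Z = d := by
  haveI : IsProper (f ≫ q) := by rw [hf]; infer_instance
  haveI : IsProper f := IsProper.of_comp f q
  haveI : LocallyOfFiniteType f := inferInstance
  haveI : QuasiCompact f := inferInstance
  set e := η[X].left (closedPoint k) with he
  obtain ⟨d, hd⟩ : ∃ d : ℕ, FlatMor.fibreDimAt f e = (d : WithBot ℕ∞) := by
    have h1 : (0 : WithBot ℕ∞) ≤ FlatMor.fibreDimAt f e :=
      Groth.Agent.Lib.Helper7.TopDim.localDim_nonneg _
    have h2 : FlatMor.fibreDimAt f e < ⊤ :=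
      (Groth.Agent.Lib.Helper7.TopDim.localDim_le_dim _).trans_lt
        (Groth.Agent.Lib.Helper3.DimCons.fibre_dim_lt_top f (f e))
    generalize FlatMor.fibreDimAt f e = v at h1 h2
    induction v using WithBot.recBotCoe with
    | bot => exact absurd h1 (by simp)
    | coe c =>
      induction c using ENat.recTopCoe with
      | top => exact absurd h2 (lt_irrefl _)
      | coe n => exact ⟨n, rfl⟩
  refine ⟨d, fun y Z hZ => ?_⟩
  letI : (f.fiber y).Over (Spec (CommRingCat.of (Y.residueField y))) :=
    ⟨f.fiberToSpecResidueField y⟩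
  haveI : LocallyOfFiniteType ((f.fiber y) ↘ Spec (CommRingCat.of (Y.residueField y))) :=
    inferInstanceAs (LocallyOfFiniteType (f.fiberToSpecResidueField y))
  have hZirr : IsIrreducible Z := hZ.1
  have hZcl : IsClosed Z := isClosed_of_mem_irreducibleComponents Z hZ
  obtain ⟨ζ, hζ⟩ := QuasiSober.sober hZirr hZcl
  have hmax : ∀ w : ↥(f.fiber y), w ⤳ ζ → w = ζ := by
    intro w hw
    have h1 : Z ⊆ closure {w} := by
      rw [← hζ.def]
      exact closure_minimal (Set.singleton_subset_iff.mpr (specializes_iff_mem_closure.mp hw))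
        isClosed_closure
    have h2 : closure {w} ⊆ Z := hZ.2 (isIrreducible_singleton.closure) h1
    have h3 : ζ ⤳ w := by
      rw [specializes_iff_mem_closure, hζ.def]
      exact h2 (subset_closure rfl)
    exact (hw.antisymm h3).eq
  have h1 := topologicalKrullDim_closure_singleton (Y.residueField y) (f.fiber y) ζ
  rw [hζ.def] at h1
  rw [h1, ← localDim_eq_trdegNat_of_maximal (Y.residueField y) (f.fiber y) ζ hmax,
    ← Groth.Agent.Lib.Helper3.DimCons.fibreDimAt_fiberι f y ζ, fibreDimAt_eq_unit X q f hf, hd]

end BC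

end Groth.Agent.Lib.Helper3.AbFibre
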