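import Mathlib

set_option autoImplicit false
set_option linter.style.haveILetI false

universe u

open CategoryTheory CategoryTheory.Limits AlgebraicGeometry

namespace Groth.Agent.Lib.Helper3.AdicFlat

section Ring

variable {A : Type u} [CommRing A] (I : Ideal A)

/-- The geometric series: `1 - i` becomes a unit in the `I`-adic completion when `i ∈ I`. -/
theorem isUnit_algebraMap_one_sub {i : A} (hi : i ∈ I) :
    IsUnit (algebraMap A (AdicCompletion I A) (1 - i)) := by
  let c : AdicCompletion.AdicCauchySequence I A := AdicCompletion.AdicCauchySequence.mk I A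
    (fun n => ∑ k ∈ Finset.range n, i ^ k) (by
      intro n
      rw [SModEq.sub_mem, Finset.sum_range_succ, sub_add_cancel_left, neg_mem_iff]
      simp only [smul_eq_mul, Ideal.mul_top]
      exact Ideal.pow_mem_pow hi n)
  rw [isUnit_iff_exists_inv]
  refine ⟨AdicCompletion.mkₐ I c, ?_⟩
  apply AdicCompletion.ext_evalₐ
  intro n
  rw [map_mul, AdicCompletion.evalₐ_mkₐ, map_one, AlgHom.commutes]
  show Ideal.Quotient.mk (I ^ n) (1 - i) * Ideal.Quotient.mk (I ^ n)
    (∑ k ∈ Finset.range n, i ^ k) = 1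
  rw [← map_mul, mul_neg_geom_sum, map_sub, map_one, sub_eq_self,
    Ideal.Quotient.eq_zero_iff_mem]
  exact Ideal.pow_mem_pow hi n

/-- A closed subset of `Spec A` disjoint from `V(I)` has empty preimage in the spectrum of the
`I`-adic completion. -/
theorem comap_notMem_of_disjoint (Z : Set (PrimeSpectrum A)) (hZ : IsClosed Z)
    (hdisj : Disjoint Z (PrimeSpectrum.zeroLocus (I : Set A)))
    (q : PrimeSpectrum (AdicCompletion I A)) :
    PrimeSpectrum.comap (algebraMap A (AdicCompletion I A)) q ∉ Z := by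
  intro hq
  obtain ⟨J, rfl⟩ := (PrimeSpectrum.isClosed_iff_zeroLocus_ideal Z).mp hZ
  have h1 : PrimeSpectrum.zeroLocus ((J ⊔ I : Ideal A) : Set A) = ∅ := by
    rw [PrimeSpectrum.zeroLocus_sup]
    exact Set.disjoint_iff_inter_eq_empty.mp hdisj
  have h2 : J ⊔ I = ⊤ := by
    rwa [PrimeSpectrum.zeroLocus_empty_iff_eq_top] at h1
  obtain ⟨j, hj, i, hi, hji⟩ := Submodule.mem_sup.mp (h2 ▸ Submodule.mem_top : (1 : A) ∈ J ⊔ I)
  have hj' : j = 1 - i := by rw [← hji]; ring
  have h3 : algebraMap A (AdicCompletion I A) j ∈ q.asIdeal := by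
    have : j ∈ (PrimeSpectrum.comap (algebraMap A (AdicCompletion I A)) q).asIdeal :=
      hq hj
    exact this
  have h4 : IsUnit (algebraMap A (AdicCompletion I A) j) := by
    rw [hj']
    exact isUnit_algebraMap_one_sub I hi
  exact q.isPrime.ne_top (Ideal.eq_top_of_isUnit_mem _ h3 h4)

/-- Every prime containing `I` lifts to the completion. -/
theorem exists_comap_eq_of_mem_zeroLocus (p : PrimeSpectrum A)
    (hp : p ∈ PrimeSpectrum.zeroLocus (I : Set A)) :
    ∃ q : PrimeSpectrum (AdicCompletion I A),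
      PrimeSpectrum.comap (algebraMap A (AdicCompletion I A)) q = p := by
  have hle : I ≤ p.asIdeal := hp
  -- the prime of `A ⧸ I`
  let p' : PrimeSpectrum (A ⧸ I) :=
    ⟨p.asIdeal.map (Ideal.Quotient.mk I),
      Ideal.map_isPrime_of_surjective Ideal.Quotient.mk_surjective (by rwa [Ideal.mk_ker])⟩
  have hp' : PrimeSpectrum.comap (Ideal.Quotient.mk I) p' = p := by
    ext1
    show (p.asIdeal.map (Ideal.Quotient.mk I)).comap (Ideal.Quotient.mk I) = p.asIdeal
    rw [Ideal.comap_map_of_surjective _ Ideal.Quotient.mk_surjective, ← RingHom.ker_eq_comap_bot,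
      Ideal.mk_ker, sup_eq_left]
    exact hle
  refine ⟨PrimeSpectrum.comap (AdicCompletion.evalOneₐ I).toRingHom p', ?_⟩
  rw [← PrimeSpectrum.comap_comp_apply, AdicCompletion.evalOneₐ_comp_algebraMap_eq_mk, hp']

end Ring

end Groth.Agent.Lib.Helper3.AdicFlat
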