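import Mathlib
import Groth.Agent.Lib.Helper5FiberMor
import Groth.Agent.Lib.Helper5FiberBC

/-!
# The closed fibre over a local ring (helper5)

For a local ring `R` and `p : X ⟶ Spec R`, the pullback of `p` along `Spec (R/𝔪) ⟶ Spec R` is
identified with the scheme-theoretic fibre `p.fiber (y₀ R)`; in particular its local rings
are the local rings of the fibre.

* `resEquiv`, `resIso`: `R/𝔪 ≃ κ(𝔪)` and the induced isomorphism of spectra over `Spec R`.
* `closedFibreIso`: `X ×_R Spec (R/𝔪) ≅ p.fiber (y₀ R)` over `X`.
* `nonempty_stalk_equiv`: the local ring at `x` of `X ×_R Spec (R/𝔪)` is the local ring of the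
  fibre of `p` through the image `x'` of `x` in `X`, at `x'`.
-/

set_option autoImplicit false
universe u

namespace Groth.Agent.Lib.Helper5.SpecialFibre
open AlgebraicGeometry CategoryTheory Limits IsLocalRing
  Groth.Agent.Lib.Helper5.FiberStalk Groth.Agent.Lib.Helper5.FiberRing
  Groth.Agent.Lib.Helper5.FiberMor Groth.Agent.Lib.Helper5.FiberBC

variable (R : Type u) [CommRing R] [IsLocalRing R]

/-- The closed point, as a point of the scheme `Spec R`. -/
noncomputable def y₀ : ↥(Spec (CommRingCat.of R)) := closedPoint R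

instance isMaximal_y₀ : (y₀ R).asIdeal.IsMaximal :=
  show (maximalIdeal R).IsMaximal from inferInstance

/-- `R/𝔪 ≃ κ(𝔪)`. -/
noncomputable def resEquiv :
    IsLocalRing.ResidueField R ≃+* (y₀ R).asIdeal.ResidueField :=
  RingEquiv.ofBijective (algebraMap (R ⧸ maximalIdeal R) (maximalIdeal R).ResidueField)
    (Ideal.bijective_algebraMap_quotient_residueField (maximalIdeal R))

theorem resEquiv_algebraMap (r : R) :
    resEquiv R (algebraMap R (IsLocalRing.ResidueField R) r) =
      algebraMap R (y₀ R).asIdeal.ResidueField r :=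
  (IsScalarTower.algebraMap_apply R (R ⧸ maximalIdeal R) (maximalIdeal R).ResidueField r).symm

theorem resEquiv_symm_algebraMap (r : R) :
    (resEquiv R).symm (algebraMap R (y₀ R).asIdeal.ResidueField r) =
      algebraMap R (IsLocalRing.ResidueField R) r := by
  rw [← resEquiv_algebraMap, RingEquiv.symm_apply_apply]

/-- The isomorphism `κ(closed point) ≅ R/𝔪`. -/
noncomputable def resIso :
    (Spec (CommRingCat.of R)).residueField (y₀ R) ≅
      CommRingCat.of (IsLocalRing.ResidueField R) :=
  (Scheme.Spec.residueFieldIso (CommRingCat.of R) (y₀ R)) ≪≫ (resEquiv R).symm.toCommRingCatIso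

theorem specMap_resIso_fromSpecResidueField :
    Spec.map (resIso R).hom ≫ (Spec (CommRingCat.of R)).fromSpecResidueField (y₀ R) =
      Spec.map (CommRingCat.ofHom (algebraMap R (IsLocalRing.ResidueField R))) := by
  have h1 : CommRingCat.ofHom (algebraMap R (y₀ R).asIdeal.ResidueField) ≫
      (Scheme.Spec.residueFieldIso (CommRingCat.of R) (y₀ R)).inv ≫ (resIso R).hom =
      CommRingCat.ofHom (algebraMap R (IsLocalRing.ResidueField R)) := by
    unfold resIso
    rw [Iso.trans_hom, Iso.inv_hom_id_assoc]
    ext r
    exact resEquiv_symm_algebraMap R r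
  rw [← Scheme.Spec.map_residueFieldIso_inv_eq_fromSpecResidueField, ← Spec.map_comp,
    ← Spec.map_comp, Category.assoc, h1]

variable {R}
variable {X : Scheme.{u}} (p : X ⟶ Spec (CommRingCat.of R))

/-- The closed fibre `X ×_R Spec (R/𝔪)`. -/
noncomputable abbrev closedFibre : Scheme.{u} :=
  pullback p (Spec.map (CommRingCat.ofHom (algebraMap R (IsLocalRing.ResidueField R))))

/-- The comparison `X ×_R Spec (R/𝔪) ⟶ p.fiber (y₀ R)`. -/
noncomputable def closedFibreHom : closedFibre p ⟶ p.fiber (y₀ R) :=
  pullback.map p (Spec.map (CommRingCat.ofHom (algebraMap R (IsLocalRing.ResidueField R))))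
    p ((Spec (CommRingCat.of R)).fromSpecResidueField (y₀ R))
    (𝟙 X) (Spec.map (resIso R).hom) (𝟙 _) (by simp)
    (by rw [Category.comp_id, specMap_resIso_fromSpecResidueField])

instance isIso_closedFibreHom : IsIso (closedFibreHom p) := by
  unfold closedFibreHom
  haveI : IsIso (Spec.map (resIso R).hom) := inferInstance
  exact pullback.map_isIso _ _ _ _ _ _ _ _ _

theorem closedFibreHom_fiberι :
    closedFibreHom p ≫ p.fiberι (y₀ R) = pullback.fst _ _ := by
  unfold closedFibreHom Scheme.Hom.fiberι
  exact (pullback.lift_fst _ _ _).trans (Category.comp_id _)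

theorem apply_fst_eq (x : closedFibre p) :
    p ((pullback.fst p (Spec.map (CommRingCat.ofHom
      (algebraMap R (IsLocalRing.ResidueField R))))) x) = y₀ R := by
  have h1 : (pullback.fst p (Spec.map (CommRingCat.ofHom
      (algebraMap R (IsLocalRing.ResidueField R))))) x =
      p.fiberι (y₀ R) (closedFibreHom p x) := by
    rw [← Scheme.Hom.comp_apply, closedFibreHom_fiberι]
  have h2 : p.fiberι (y₀ R) (closedFibreHom p x) ∈ p ⁻¹' {y₀ R} := by
    rw [← p.range_fiberι]
    exact Set.mem_range_self _
  rw [h1]
  exact h2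

/-- The local ring at `x` of `X ×_R Spec (R/𝔪)` is the local ring at `x'` of the fibre of `p`
through `x'`, the image of `x` in `X`. -/
theorem nonempty_stalk_equiv (x : closedFibre p) :
    Nonempty ((closedFibre p).presheaf.stalk x ≃+*
      (p.fiber (p ((pullback.fst p (Spec.map (CommRingCat.ofHom
        (algebraMap R (IsLocalRing.ResidueField R))))) x))).presheaf.stalk
        (p.asFiber ((pullback.fst p (Spec.map (CommRingCat.ofHom
        (algebraMap R (IsLocalRing.ResidueField R))))) x))) := by
  have e1 : (p.fiber (y₀ R)).presheaf.stalk (closedFibreHom p x) ≃+*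
      (closedFibre p).presheaf.stalk x :=
    (asIso ((closedFibreHom p).stalkMap x)).commRingCatIsoToRingEquiv
  have hz : p.fiberι (y₀ R) (closedFibreHom p x) =
      (pullback.fst p (Spec.map (CommRingCat.ofHom
        (algebraMap R (IsLocalRing.ResidueField R))))) x := by
    rw [← Scheme.Hom.comp_apply, closedFibreHom_fiberι]
  obtain ⟨e2⟩ := fiber_stalk_transport p (apply_fst_eq p x).symm (closedFibreHom p x)
    (p.asFiber ((pullback.fst p (Spec.map (CommRingCat.ofHom
        (algebraMap R (IsLocalRing.ResidueField R))))) x))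
    (hz.trans (p.fiberι_asFiber _).symm)
  exact ⟨e1.symm.trans e2⟩

end Groth.Agent.Lib.Helper5.SpecialFibre
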