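import Mathlib
import Groth.Agent.Lib.Helper3FibCritSch
import Groth.Agent.Lib.Helper5SpecialFibre
import Groth.Agent.Lib.Helper20FiberSq

set_option autoImplicit false
set_option linter.style.haveILetI false

universe u

open CategoryTheory CategoryTheory.Limits AlgebraicGeometry

namespace Groth.Agent.Lib.Helper3.AdicFlat

section Scheme

variable {P : MorphismProperty Scheme.{u}} [P.IsStableUnderBaseChange]

/-- Transfer along a map of bases. -/
theorem snd_of_snd_of_comp {X Y T T' : Scheme.{u}} (h : X ⟶ Y) (t : T ⟶ Y) (t' : T' ⟶ Y)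
    (e : T' ⟶ T) (he : e ≫ t = t') (hP : P (pullback.snd h t)) : P (pullback.snd h t') := by
  subst he
  let l : pullback h (e ≫ t) ⟶ pullback h t :=
    pullback.lift (pullback.fst _ _) (pullback.snd _ _ ≫ e)
      (by rw [Category.assoc, pullback.condition])
  have big : IsPullback (l ≫ pullback.fst h t) (pullback.snd h (e ≫ t)) h (e ≫ t) := by
    rw [pullback.lift_fst]
    exact IsPullback.of_hasPullback _ _
  have left := IsPullback.of_right big (pullback.lift_snd _ _ _) (IsPullback.of_hasPullback h t)
  exact MorphismProperty.of_isPullback left hP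

/-- If `h` has `P` on an open `U` containing the image of the projection from a base change,
then the base change has `P`. -/
theorem snd_of_ι_comp {X Y Y' : Scheme.{u}} (h : X ⟶ Y) (c : Y' ⟶ Y) (U : X.Opens)
    (hU : P (U.ι ≫ h)) (hrange : ∀ z : ↑(pullback h c), pullback.fst h c z ∈ U) :
    P (pullback.snd h c) := by
  have h1 := isPullback_morphismRestrict (pullback.fst h c) U
  have h2 := h1.paste_vert (IsPullback.of_hasPullback h c)
  have h3 : P ((pullback.fst h c ⁻¹ᵁ U).ι ≫ pullback.snd h c) :=
    MorphismProperty.of_isPullback h2 hU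
  have htop : pullback.fst h c ⁻¹ᵁ U = ⊤ := by
    ext z
    simpa using hrange z
  have : IsIso (pullback.fst h c ⁻¹ᵁ U).ι := by
    rw [htop]
    exact (Scheme.topIso _).isIso_hom
  exact (P.cancel_left_of_respectsIso _ _).mp h3

end Scheme

section ClosedFibre

open IsLocalRing TensorProduct Groth.Agent.Lib.Helper5.SpecialFibre

variable (V A : Type u) [CommRing V] [IsLocalRing V] [CommRing A] [Algebra V A]

omit [IsLocalRing V] in
attribute [local instance] Algebra.TensorProduct.rightAlgebra in
/-- `A ⧸ 𝔪A` is the pushout of `V ⧸ 𝔪` and `A` over `V` (as in helper6 `PdSemi`). -/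
theorem isPushout_quotient (p : Ideal V) :
    Algebra.IsPushout V (V ⧸ p) A (A ⧸ p.map (algebraMap V A)) := by
  have h : Algebra.IsPushout V A (V ⧸ p) (A ⊗[V] (V ⧸ p)) := TensorProduct.isPushout
  have h2 : Algebra.IsPushout V A (V ⧸ p) (A ⧸ p.map (algebraMap V A)) := by
    refine Algebra.IsPushout.of_equiv (h := h)
      (Algebra.TensorProduct.quotIdealMapEquivTensorQuot A p).symm ?_
    apply Ideal.Quotient.ringHom_ext
    ext a
    simp only [RingHom.coe_comp, Function.comp_apply]
    show (Algebra.TensorProduct.quotIdealMapEquivTensorQuot A p).symm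
      ((1 : A) ⊗ₜ[V] (Ideal.Quotient.mk p a)) = _
    rw [Ideal.Quotient.algebraMap_quotient_map_quotient, Algebra.algebraMap_eq_smul_one a]
    rfl
  exact h2.symm

theorem isPullback_quotient :
    ∃ snd : Spec (.of (A ⧸ (maximalIdeal V).map (algebraMap V A))) ⟶
        Spec (.of (IsLocalRing.ResidueField V)),
    IsPullback
      (Spec.map (CommRingCat.ofHom
        (Ideal.Quotient.mk ((maximalIdeal V).map (algebraMap V A)))))
      snd
      (Spec.map (CommRingCat.ofHom (algebraMap V A)))
      (Spec.map (CommRingCat.ofHom (algebraMap V (IsLocalRing.ResidueField V)))) := by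
  letI : Algebra (IsLocalRing.ResidueField V) (A ⧸ (maximalIdeal V).map (algebraMap V A)) :=
    inferInstanceAs (Algebra (V ⧸ maximalIdeal V) (A ⧸ (maximalIdeal V).map (algebraMap V A)))
  haveI : IsScalarTower V (IsLocalRing.ResidueField V)
      (A ⧸ (maximalIdeal V).map (algebraMap V A)) :=
    inferInstanceAs (IsScalarTower V (V ⧸ maximalIdeal V)
      (A ⧸ (maximalIdeal V).map (algebraMap V A)))
  haveI : Algebra.IsPushout V (IsLocalRing.ResidueField V) A
      (A ⧸ (maximalIdeal V).map (algebraMap V A)) := isPushout_quotient V A (maximalIdeal V)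
  have h := CommRingCat.isPushout_of_isPushout V (IsLocalRing.ResidueField V) A
    (A ⧸ (maximalIdeal V).map (algebraMap V A))
  exact ⟨_, (isPullback_SpecMap_of_isPushout _ _ _ _ h).flip⟩

/-- The closed fibre of `Spec A → Spec V` maps to `Spec (A ⧸ 𝔪A)` over `Spec A`. -/
theorem exists_fiber_to_quotient :
    ∃ e : (Spec.map (CommRingCat.ofHom (algebraMap V A))).fiber (y₀ V) ⟶
        Spec (.of (A ⧸ (maximalIdeal V).map (algebraMap V A))),
      e ≫ Spec.map (CommRingCat.ofHom
          (Ideal.Quotient.mk ((maximalIdeal V).map (algebraMap V A)))) =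
        (Spec.map (CommRingCat.ofHom (algebraMap V A))).fiberι (y₀ V) := by
  let g := Spec.map (CommRingCat.ofHom (algebraMap V A))
  have hk : closedFibreHom g ≫ g.fiberι (y₀ V) = pullback.fst _ _ := closedFibreHom_fiberι g
  obtain ⟨snd, hPB⟩ := isPullback_quotient V A
  refine ⟨inv (closedFibreHom g) ≫ hPB.isoPullback.inv, ?_⟩
  rw [Category.assoc, IsPullback.isoPullback_inv_fst, IsIso.inv_comp_eq, hk]

end ClosedFibre

end Groth.Agent.Lib.Helper3.AdicFlat
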