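import Mathlib
import Groth.Agent.Lib.Helper3AdicFlatA
import Groth.Agent.Lib.Helper3AdicFlatB
import Groth.Agent.S16049

set_option autoImplicit false
set_option linter.style.haveILetI false

universe u

open CategoryTheory CategoryTheory.Limits AlgebraicGeometry

namespace Groth.Agent.Lib.Helper3.AdicFlat

section Main

open IsLocalRing Groth.Agent.Lib.Helper5.SpecialFibre Groth.Agent.Lib.Helper3.FibCritSch

variable {A : Type u} [CommRing A]

/-- Properness: if `h` has `P` on an open containing all points over `V(I)`, the base change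
to the `I`-adic completion has `P`. -/
theorem snd_completion_of_open {P : MorphismProperty Scheme.{u}} [P.IsStableUnderBaseChange]
    {X : Scheme.{u}} (h : X ⟶ Spec (.of A)) [IsProper h] (I : Ideal A) (U : X.Opens)
    (hU : P (U.ι ≫ h))
    (hfib : ∀ x : X, h x ∈ PrimeSpectrum.zeroLocus (I : Set A) → x ∈ U) :
    P (pullback.snd h (Spec.map (CommRingCat.ofHom (algebraMap A (AdicCompletion I A))))) := by
  set c := Spec.map (CommRingCat.ofHom (algebraMap A (AdicCompletion I A))) with hc
  refine snd_of_ι_comp h c U hU ?_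
  intro z
  by_contra hz
  let Z : Set X := (U : Set X)ᶜ
  have hZ : IsClosed Z := U.isOpen.isClosed_compl
  have hhZ : IsClosed (h '' Z) := h.isClosedMap _ hZ
  have hdisj : Disjoint (h '' Z) (PrimeSpectrum.zeroLocus (I : Set A)) := by
    rw [Set.disjoint_left]
    rintro _ ⟨x, hx, rfl⟩ hx'
    exact hx (hfib x hx')
  have e : h (pullback.fst h c z) = c (pullback.snd h c z) := by
    rw [← Scheme.Hom.comp_apply, ← Scheme.Hom.comp_apply, pullback.condition]
  have h1 := comap_notMem_of_disjoint I (h '' Z) hhZ hdisj (pullback.snd h c z)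
  apply h1
  refine ⟨pullback.fst h c z, hz, ?_⟩
  rw [e]
  rfl

variable (V : Type u) [CommRing V] [IsLocalRing V] [Algebra V A]

/-- Points over `V(𝔪A)` lie over the closed point. -/
theorem comp_apply_eq_closedPoint {X : Scheme.{u}} (h : X ⟶ Spec (.of A)) (x : X)
    (hx : h x ∈ PrimeSpectrum.zeroLocus
      (((maximalIdeal V).map (algebraMap V A) : Ideal A) : Set A)) :
    (h ≫ Spec.map (CommRingCat.ofHom (algebraMap V A))) x = y₀ V := by
  rw [Scheme.Hom.comp_apply]
  have hle : (maximalIdeal V).map (algebraMap V A) ≤ (h x).asIdeal := hx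
  have h2 : maximalIdeal V ≤ (PrimeSpectrum.comap (algebraMap V A) (h x)).asIdeal :=
    Ideal.map_le_iff_le_comap.mp hle
  have h3 := Ideal.IsMaximal.eq_of_le (maximalIdeal.isMaximal V)
    (PrimeSpectrum.comap (algebraMap V A) (h x)).isPrime.ne_top h2
  apply PrimeSpectrum.ext
  exact h3.symm

/-- Points over the closed point lie over `V(𝔪A)`. -/
theorem mem_zeroLocus_of_comp_apply_eq {X : Scheme.{u}} (h : X ⟶ Spec (.of A)) (x : X)
    (hx : (h ≫ Spec.map (CommRingCat.ofHom (algebraMap V A))) x = y₀ V) :
    h x ∈ PrimeSpectrum.zeroLocus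
      (((maximalIdeal V).map (algebraMap V A) : Ideal A) : Set A) := by
  rw [Scheme.Hom.comp_apply] at hx
  have h2 : (PrimeSpectrum.comap (algebraMap V A) (h x)).asIdeal = maximalIdeal V :=
    congrArg PrimeSpectrum.asIdeal hx
  show (maximalIdeal V).map (algebraMap V A) ≤ (h x).asIdeal
  rw [Ideal.map_le_iff_le_comap]
  exact h2.ge

/-- **Flat case, forward direction.** -/
theorem flat_snd_completion_of_flat_fibre {X : Scheme.{u}} (h : X ⟶ Spec (.of A)) [IsProper h]
    [LocallyOfFiniteType (Spec.map (CommRingCat.ofHom (algebraMap V A)))]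
    [LocallyOfFinitePresentation (h ≫ Spec.map (CommRingCat.ofHom (algebraMap V A)))]
    [Flat (h ≫ Spec.map (CommRingCat.ofHom (algebraMap V A)))]
    (h0 : Flat (pullback.snd h (Spec.map (CommRingCat.ofHom
      (Ideal.Quotient.mk ((maximalIdeal V).map (algebraMap V A))))))) :
    Flat (pullback.snd h (Spec.map (CommRingCat.ofHom
      (algebraMap A (AdicCompletion ((maximalIdeal V).map (algebraMap V A)) A))))) := by
  set g := Spec.map (CommRingCat.ofHom (algebraMap V A)) with hg
  haveI : LocallyOfFinitePresentation h :=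
    Groth.Agent.Lib.Helper6.locallyOfFinitePresentation_of_comp (g := g) inferInstance
      inferInstance
  obtain ⟨e, he⟩ := exists_fiber_to_quotient V A
  have hfibre : Flat (pullback.snd h (g.fiberι (y₀ V))) :=
    snd_of_snd_of_comp (P := @Flat) h _ _ e he h0
  let U : X.Opens := ⟨{x | (h.stalkMap x).hom.Flat}, Groth.Agent.S0386.result h⟩
  refine snd_completion_of_open (P := @Flat) h _ U ?_ ?_
  · exact Flat.of_stalkMap _ (fun x => (flat_stalkMap_ι_comp_iff h U x).mpr x.2)
  · intro x hx
    have hxs := comp_apply_eq_closedPoint V h x hx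
    have hFM : Flat (CohIII.fiberMapOver h (h ≫ g) g rfl (y₀ V)) := by
      have hsq := Groth.Agent.Lib.Helper20.FlatDesc.isPullback_fiberMapOver h g (y₀ V)
      rw [← hsq.isoPullback_hom_snd]
      infer_instance
    exact flat_stalkMap_of_flat_of_fibre h g x (y₀ V) hxs (Flat.stalkMap (h ≫ g) x) ⊤ trivial
      (by infer_instance)

/-- **Smooth case, forward direction.** -/
theorem smooth_snd_completion_of_smooth_fibre {X : Scheme.{u}} (h : X ⟶ Spec (.of A))
    [IsProper h]
    [LocallyOfFinitePresentation (Spec.map (CommRingCat.ofHom (algebraMap V A)))]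
    [LocallyOfFinitePresentation (h ≫ Spec.map (CommRingCat.ofHom (algebraMap V A)))]
    [Flat (h ≫ Spec.map (CommRingCat.ofHom (algebraMap V A)))]
    (h0 : Smooth (pullback.snd h (Spec.map (CommRingCat.ofHom
      (Ideal.Quotient.mk ((maximalIdeal V).map (algebraMap V A))))))) :
    Smooth (pullback.snd h (Spec.map (CommRingCat.ofHom
      (algebraMap A (AdicCompletion ((maximalIdeal V).map (algebraMap V A)) A))))) := by
  set g := Spec.map (CommRingCat.ofHom (algebraMap V A)) with hg
  obtain ⟨e, he⟩ := exists_fiber_to_quotient V A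
  have hfibre : Smooth (pullback.snd h (g.fiberι (y₀ V))) :=
    snd_of_snd_of_comp (P := @Smooth) h _ _ e he h0
  obtain ⟨U, hU1, hU2⟩ := Groth.Agent.S16049.result g (h ≫ g) h rfl (y₀ V) hfibre
  refine snd_completion_of_open (P := @Smooth) h _ U hU2 ?_
  intro x hx
  exact hU1 x (comp_apply_eq_closedPoint V h x hx)

end Main

end Groth.Agent.Lib.Helper3.AdicFlat
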