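import Mathlib
import Groth.Agent.Lib.Helper3AdicFlatA
import Groth.Agent.Lib.Helper3AdicFlatB

set_option autoImplicit false
set_option linter.style.haveILetI false

universe u

open CategoryTheory CategoryTheory.Limits AlgebraicGeometry

namespace Groth.Agent.Lib.Helper3.AdicFlat

section Rev

variable {A : Type u} [CommRing A]

/-- From the completion down to the quotient. -/
theorem snd_quotient_of_snd_completion {P : MorphismProperty Scheme.{u}}
    [P.IsStableUnderBaseChange] {X : Scheme.{u}} (h : X ⟶ Spec (.of A)) (I : Ideal A)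
    (hc : P (pullback.snd h (Spec.map (CommRingCat.ofHom
      (algebraMap A (AdicCompletion I A)))))) :
    P (pullback.snd h (Spec.map (CommRingCat.ofHom (Ideal.Quotient.mk I)))) := by
  refine snd_of_snd_of_comp h _ _
    (Spec.map (CommRingCat.ofHom (AdicCompletion.evalOneₐ I).toRingHom)) ?_ hc
  rw [← Spec.map_comp, ← CommRingCat.ofHom_comp, AdicCompletion.evalOneₐ_comp_algebraMap_eq_mk]

theorem flat_of_isField {R S : Type*} [CommRing R] [CommRing S] (f : R →+* S) (hR : IsField R) :
    f.Flat := by
  letI := hR.toField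
  letI := f.toAlgebra
  show Module.Flat R S
  infer_instance

/-- Flatness of the base change to the completion descends at the points over `V(I)`. -/
theorem flat_stalkMap_comp_of_flat_completion [IsNoetherianRing A] (I : Ideal A)
    {X S : Scheme.{u}} (h : X ⟶ Spec (.of A)) (g : Spec (.of A) ⟶ S) [Flat g]
    (hc : Flat (pullback.snd h (Spec.map (CommRingCat.ofHom
      (algebraMap A (AdicCompletion I A))))))
    (x : X) (hx : h x ∈ PrimeSpectrum.zeroLocus (I : Set A)) :
    ((h ≫ g).stalkMap x).hom.Flat := by
  set c := Spec.map (CommRingCat.ofHom (algebraMap A (AdicCompletion I A))) with hcdef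
  haveI : Flat c := by
    rw [hcdef, HasRingHomProperty.Spec_iff (P := @Flat)]
    exact (RingHom.flat_algebraMap_iff ..).mpr inferInstance
  obtain ⟨q, hq⟩ := exists_comap_eq_of_mem_zeroLocus I (h x) hx
  obtain ⟨z, hz1, hz2⟩ := Scheme.Pullback.exists_preimage_pullback (f := h) (g := c) x q
    (by rw [hcdef]; exact hq.symm)
  have hcomp : pullback.fst h c ≫ (h ≫ g) = pullback.snd h c ≫ c ≫ g := by
    rw [← Category.assoc, pullback.condition, Category.assoc]
  haveI : Flat (pullback.fst h c ≫ (h ≫ g)) := by
    rw [hcomp]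
    infer_instance
  have key := Groth.Agent.Lib.Helper5.FiberMor.flat_of_comp (pullback.fst h c) (h ≫ g) z
    (Flat.stalkMap _ z) (Flat.stalkMap _ z)
  rw [hz1] at key
  exact key

/-- The local ring of `Spec V` at the zero ideal of a domain is a field. -/
theorem isField_stalk_of_asIdeal_eq_bot (V : Type u) [CommRing V] [IsDomain V]
    (v : Spec (.of V)) (hv : v.asIdeal = ⊥) :
    IsField ((Spec (.of V)).presheaf.stalk v) := by
  have e := (Spec.stalkIso (.of V) v).commRingCatIsoToRingEquiv
  refine MulEquiv.isField ?_ e.toMulEquiv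
  rw [IsLocalRing.isField_iff_maximalIdeal_eq, ← Localization.AtPrime.map_eq_maximalIdeal]
  show Ideal.map _ v.asIdeal = ⊥
  rw [Ideal.map_eq_bot_iff_le_ker]
  exact hv.le.trans bot_le

end Rev

end Groth.Agent.Lib.Helper3.AdicFlat
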