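import Mathlib
import Groth.Agent.Lib.Helper2FinPres
import Groth.Agent.Lib.Helper2QCoh
/-!
# Sections of a finitely presented quasi-coherent module over an affine open (helper3)

* `isLocalizedModule_basicOpen`: for quasi-coherent `F`, affine `U`, `g ∈ Γ(X,U)`, restriction
  `Γ(F,U) → Γ(F,D(g))` is the localization at the powers of `g`.
* `finitePresentation_sections`: for `F` quasi-coherent of finite presentation and ANY affine open
  `U`, `Γ(F,U)` is a finitely presented `Γ(X,U)`-module.
-/
set_option autoImplicit false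
set_option linter.style.haveILetI false
universe u
open CategoryTheory Limits AlgebraicGeometry TopologicalSpace Opposite

namespace Groth.Agent.Lib.Helper3.AffFP

variable {X : Scheme.{u}}

/-- the `Γ(X,U)`-module structure on sections over the basic open `D(g)`. -/
noncomputable abbrev modBasicOpen (F : X.Modules) {U : X.Opens} (g : Γ(X, U)) :
    Module Γ(X, U) Γ(F, X.basicOpen g) :=
  Module.compHom _ (algebraMap Γ(X, U) Γ(X, X.basicOpen g))

/-- restriction of sections to a basic open, as a linear map. -/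
noncomputable def resBasicOpen (F : X.Modules) {U : X.Opens} (g : Γ(X, U)) :
    letI := modBasicOpen F g
    Γ(F, U) →ₗ[Γ(X, U)] Γ(F, X.basicOpen g) :=
  letI := modBasicOpen F g
  { toFun := fun t => F.presheaf.map (homOfLE (X.basicOpen_le g)).op t
    map_add' := fun a b => map_add _ a b
    map_smul' := fun a t => Scheme.Modules.map_smul F (homOfLE (X.basicOpen_le g)) a t }

theorem isScalarTower_basicOpen (F : X.Modules) {U : X.Opens} (g : Γ(X, U)) :
    letI := modBasicOpen F g
    IsScalarTower Γ(X, U) Γ(X, X.basicOpen g) Γ(F, X.basicOpen g) :=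
  letI := modBasicOpen F g
  ⟨fun a b n => by
    show (a • b) • n = algebraMap Γ(X, U) Γ(X, X.basicOpen g) a • (b • n)
    rw [Algebra.smul_def, mul_smul]⟩

theorem isLocalizedModule_basicOpen (F : X.Modules) [F.IsQuasicoherent] {U : X.Opens}
    (hU : IsAffineOpen U) (g : Γ(X, U)) :
    letI := modBasicOpen F g
    IsLocalizedModule (Submonoid.powers g) (resBasicOpen F g) := by
  letI := modBasicOpen F g
  have hloc : IsLocalization.Away g Γ(X, X.basicOpen g) := hU.isLocalization_basicOpen g
  refine IsLocalizedModule.Away.mk_of_addCommGroup ?_ ?_ ?_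
  · have hu : IsUnit (algebraMap Γ(X, U) Γ(X, X.basicOpen g) g) :=
      IsLocalization.Away.algebraMap_isUnit g
    obtain ⟨u, hu⟩ := hu
    rw [Module.End.isUnit_iff]
    constructor
    · intro a b hab
      have h1 : (algebraMap Γ(X, U) Γ(X, X.basicOpen g) g) • a =
        (algebraMap Γ(X, U) Γ(X, X.basicOpen g) g) • b := hab
      rw [← hu] at h1
      have := congrArg (fun z => (↑u⁻¹ : Γ(X, X.basicOpen g)) • z) h1
      simpa [smul_smul] using this
    · intro b
      refine ⟨(↑u⁻¹ : Γ(X, X.basicOpen g)) • b, ?_⟩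
      show (algebraMap Γ(X, U) Γ(X, X.basicOpen g) g) • ((↑u⁻¹ : Γ(X, X.basicOpen g)) • b) = b
      rw [← hu, smul_smul, Units.mul_inv, one_smul]
  · intro s
    obtain ⟨n, t, ht⟩ := Groth.Agent.Lib.Helper2.QCoh.exists_extension hU F g s
    refine ⟨n, t, ?_⟩
    show (algebraMap Γ(X, U) Γ(X, X.basicOpen g) (g ^ n)) • s = _
    rw [map_pow]
    exact ht.symm
  · intro t ht
    exact Groth.Agent.Lib.Helper2.QCoh.exists_pow_smul_eq_zero hU F g t ht

/-- finite presentation passes to basic opens. -/
theorem finitePresentation_basicOpen (F : X.Modules) [F.IsQuasicoherent] {U : X.Opens}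
    (hU : IsAffineOpen U) (g : Γ(X, U)) [Module.FinitePresentation Γ(X, U) Γ(F, U)] :
    Module.FinitePresentation Γ(X, X.basicOpen g) Γ(F, X.basicOpen g) := by
  letI := modBasicOpen F g
  haveI := isScalarTower_basicOpen F g
  haveI : IsLocalization.Away g Γ(X, X.basicOpen g) := hU.isLocalization_basicOpen g
  haveI := isLocalizedModule_basicOpen F hU g
  exact FinitePresentation.of_isBaseChange (resBasicOpen F g)
    (IsLocalizedModule.isBaseChange (Submonoid.powers g) Γ(X, X.basicOpen g) (resBasicOpen F g))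

/-- **Sections over any affine open of a finitely presented quasi-coherent module are finitely
presented.** -/
theorem finitePresentation_sections (F : X.Modules) [F.IsQuasicoherent]
    [SheafOfModules.IsFinitePresentation (R := X.ringCatSheaf) F] {U : X.Opens}
    (hU : IsAffineOpen U) : Module.FinitePresentation Γ(X, U) Γ(F, U) := by
  have key : ∀ x : U, ∃ g : Γ(X, U), x.1 ∈ X.basicOpen g ∧
      Module.FinitePresentation Γ(X, X.basicOpen g) Γ(F, X.basicOpen g) := by
    rintro ⟨x, hx⟩
    obtain ⟨V, hV, hxV, hVU, hfp⟩ :=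
      Groth.Agent.Lib.Helper2.FinPres.exists_affine_nhds_finitePresentation F x U hx
    obtain ⟨g, hgV, hxg⟩ := hU.exists_basicOpen_le (V := V) ⟨x, hxV⟩ hx
    refine ⟨g, hxg, ?_⟩
    have hD : X.basicOpen (X.presheaf.map (homOfLE hVU).op g) = X.basicOpen g := by
      rw [Scheme.basicOpen_res]; exact inf_eq_right.2 hgV
    have h2 := finitePresentation_basicOpen F hV (X.presheaf.map (homOfLE hVU).op g)
    exact hD ▸ h2
  choose g hxg hfp using key
  have hs : Ideal.span (Set.range g) = ⊤ := by
    rw [← hU.self_le_iSup_basicOpen_iff]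
    intro x hx
    rw [Opens.mem_iSup]
    exact ⟨⟨g ⟨x, hx⟩, ⟨x, hx⟩, rfl⟩, hxg ⟨x, hx⟩⟩
  letI : ∀ r : Set.range g, Module Γ(X, U) Γ(F, X.basicOpen r.1) := fun r => modBasicOpen F r.1
  haveI : ∀ r : Set.range g,
      IsScalarTower Γ(X, U) Γ(X, X.basicOpen r.1) Γ(F, X.basicOpen r.1) :=
    fun r => isScalarTower_basicOpen F r.1
  haveI : ∀ r : Set.range g, IsLocalization.Away r.1 Γ(X, X.basicOpen r.1) :=
    fun r => hU.isLocalization_basicOpen r.1
  haveI : ∀ r : Set.range g,
      IsLocalizedModule (Submonoid.powers r.1) (resBasicOpen F r.1) :=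
    fun r => isLocalizedModule_basicOpen F hU r.1
  refine Module.FinitePresentation.of_localizationSpan' (Set.range g) hs
    (Rₚ := fun r => Γ(X, X.basicOpen r.1)) (Mₚ := fun r => Γ(F, X.basicOpen r.1))
    (fun r => resBasicOpen F r.1) ?_
  rintro ⟨_, x, rfl⟩
  exact hfp x

end Groth.Agent.Lib.Helper3.AffFP
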