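import Mathlib
import Groth.Agent.Lib.Helper20EtLocalSch

set_option autoImplicit false
universe u
open CategoryTheory AlgebraicGeometry

namespace Groth.Agent.Lib.Helper3.AppLE

/-- converse of helper20's `ι_comp_of_appLE`: from the scheme-level property of `U.ι ≫ f` to
`appLE`. -/
theorem appLE_of_ι_comp {P : MorphismProperty Scheme.{u}}
    {Q : ∀ {R S : Type u} [CommRing R] [CommRing S], (R →+* S) → Prop}
    [HasRingHomProperty P Q] {X Y : Scheme.{u}}
    (f : X ⟶ Y) {V : Y.Opens} (hV : IsAffineOpen V) {U : X.Opens}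
    (hU : IsAffineOpen U) (e : U ≤ f ⁻¹ᵁ V) (h : P (U.ι ≫ f)) :
    Q (f.appLE V U e).hom := by
  rw [← Scheme.Hom.resLE_comp_ι f e] at h
  haveI : P.HasOfPostcompProperty @IsOpenImmersion :=
    hasOfPostcompProperty_isOpenImmersion_of_morphismRestrict P
      (fun f U hf => IsZariskiLocalAtTarget.restrict hf U)
  have h2 : P (f.resLE V U e) :=
    MorphismProperty.of_postcomp (W := P) (W' := @IsOpenImmersion) _ V.ι inferInstance h
  have : IsAffine _ := hV
  have : IsAffine _ := hU
  rw [HasRingHomProperty.iff_of_isAffine (P := P)] at h2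
  exact ((HasRingHomProperty.isLocal_ringHomProperty P).respectsIso.arrow_mk_iso_iff
    (arrowResLEAppIso f V U e)).mp h2

end Groth.Agent.Lib.Helper3.AppLE
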