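import Mathlib

set_option autoImplicit false
set_option linter.style.haveILetI false

namespace Groth.Agent.Lib.Helper3.CompBC

universe u
open TensorProduct

attribute [local instance] MvPolynomial.algebraMvPolynomial in
-- the base change of a purely transcendental extension to any field is a domain
theorem isDomain_tensor_of_isFractionRing_mvPolynomial (k F K : Type u) [Field k] [Field F]
    [Field K] [Algebra k F] [Algebra k K] (σ : Type u) [Algebra (MvPolynomial σ k) F]
    [IsFractionRing (MvPolynomial σ k) F] [IsScalarTower k (MvPolynomial σ k) F] :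
    IsDomain (F ⊗[k] K) := by
  let e₁ : F ⊗[MvPolynomial σ k] (MvPolynomial σ k ⊗[k] K) ≃ₐ[F] F ⊗[k] K :=
    Algebra.TensorProduct.cancelBaseChange k (MvPolynomial σ k) F F K
  let e₀ : (MvPolynomial σ k ⊗[k] K) ≃ₐ[MvPolynomial σ k] MvPolynomial σ K :=
    Algebra.IsPushout.equiv k (MvPolynomial σ k) K (MvPolynomial σ K)
  let e₂ : F ⊗[MvPolynomial σ k] (MvPolynomial σ k ⊗[k] K) ≃ₐ[F]
      F ⊗[MvPolynomial σ k] (MvPolynomial σ K) :=
    Algebra.TensorProduct.congr AlgEquiv.refl e₀
  let e : F ⊗[MvPolynomial σ k] (MvPolynomial σ K) ≃ₐ[F] F ⊗[k] K := e₂.symm.trans e₁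
  letI algR : Algebra (MvPolynomial σ K) (F ⊗[MvPolynomial σ k] (MvPolynomial σ K)) :=
    Algebra.TensorProduct.rightAlgebra
  haveI hloc : IsLocalization (Algebra.algebraMapSubmonoid (MvPolynomial σ K)
      (nonZeroDivisors (MvPolynomial σ k))) (F ⊗[MvPolynomial σ k] (MvPolynomial σ K)) :=
    IsLocalization.tensorRight F (nonZeroDivisors (MvPolynomial σ k))
  have hle : Algebra.algebraMapSubmonoid (MvPolynomial σ K)
      (nonZeroDivisors (MvPolynomial σ k)) ≤ nonZeroDivisors (MvPolynomial σ K) := by
    rintro _ ⟨m, hm, rfl⟩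
    apply mem_nonZeroDivisors_of_ne_zero
    have hm0 : m ≠ 0 := nonZeroDivisors.ne_zero hm
    intro h0
    apply hm0
    have hinj : Function.Injective (algebraMap (MvPolynomial σ k) (MvPolynomial σ K)) :=
      MvPolynomial.map_injective _ (algebraMap k K).injective
    exact hinj (h0.trans (map_zero _).symm)
  haveI : IsDomain (F ⊗[MvPolynomial σ k] (MvPolynomial σ K)) :=
    IsLocalization.isDomain_of_le_nonZeroDivisors _ hle
  exact e.toRingEquiv.isDomain_iff.mp inferInstance

-- the base change of a purely transcendental extension generated by an algebraically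
-- independent family
theorem isDomain_tensor_adjoin (k K L : Type u) [Field k] [Field K] [Field L] [Algebra k K]
    [Algebra k L] {ι : Type u} (x : ι → K) (hx : AlgebraicIndependent k x) :
    IsDomain ((IntermediateField.adjoin k (Set.range x)) ⊗[k] L) := by
  haveI := isDomain_tensor_of_isFractionRing_mvPolynomial k (FractionRing (MvPolynomial ι k)) L ι
  let e : (FractionRing (MvPolynomial ι k)) ⊗[k] L ≃ₐ[k]
      (IntermediateField.adjoin k (Set.range x)) ⊗[k] L :=
    Algebra.TensorProduct.congr hx.aevalEquivField AlgEquiv.refl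
  exact e.toRingEquiv.isDomain_iff.mp inferInstance

end Groth.Agent.Lib.Helper3.CompBC
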