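import Mathlib
import Groth.Prelude.Def_NonAbH2
import Groth.Agent.Lib.Helper11ExtSeq
import Groth.Agent.Lib.Helper11ConstHom

set_option autoImplicit false
set_option linter.style.haveILetI false
set_option linter.unusedSectionVars false

universe u v₁

open CategoryTheory MonoidalCategory CartesianMonoidalCategory MonObj GrpObj AlgebraicGeometry Limits

namespace Groth.Agent.Lib.Helper3.ConstExtA

open Groth.Agent.Lib.Helper11.ExtSeq

section General

variable {C : Type u} [Category.{v₁} C] [CartesianMonoidalCategory C]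
  {G E P : C} [GrpObj G] [GrpObj E] [GrpObj P]

-- a section of `v` over `f` trivialises the pseudo-torsor `E` over `T`
theorem isPullback_triv (u : G ⟶ E) (v : E ⟶ P) [IsMonHom v]
    (hpb : IsPullback (fst E G) ((E ◁ u) ≫ μ[E]) v v) (huv : u ≫ v = 1)
    {T : C} (f : T ⟶ P) (s : T ⟶ E) (hs : s ≫ v = f) :
    IsPullback (fst T G) ((fst T G ≫ s) * (snd T G ≫ u)) f v := by
  have hw : fst T G ≫ f = ((fst T G ≫ s) * (snd T G ≫ u)) ≫ v := by
    rw [MonObj.mul_comp, Category.assoc, Category.assoc, huv, MonObj.comp_one, _root_.mul_one, hs]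
  have hex : ∀ c : PullbackCone f v, ∃ g : c.pt ⟶ G, (c.fst ≫ s) * (g ≫ u) = c.snd := by
    intro c
    apply exists_diff u v hpb
    rw [Category.assoc, hs, c.condition]
  refine IsPullback.mk ⟨hw⟩ ⟨PullbackCone.IsLimit.mk _
    (fun c => lift c.fst (hex c).choose) ?_ ?_ ?_⟩
  · intro c
    rw [lift_fst]
  · intro c
    rw [MonObj.comp_mul, ← Category.assoc, lift_fst, ← Category.assoc, lift_snd]
    exact (hex c).choose_spec
  · intro c m hm1 hm2
    have h1 : (c.fst ≫ s) * ((m ≫ snd T G) ≫ u) = c.snd := by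
      rw [← hm2, MonObj.comp_mul, ← Category.assoc, hm1, Category.assoc]
    have h2 : m ≫ snd T G = (hex c).choose := by
      apply u_injective u v hpb
      have := (hex c).choose_spec
      exact mul_left_cancel (h1.trans this.symm)
    apply CartesianMonoidalCategory.hom_ext
    · rw [lift_fst, hm1]
    · rw [lift_snd, h2]

end General

section Sch

variable {S : Scheme.{u}}

-- the constant scheme is etale over the base
theorem etale_const (Z : Type u) : Etale (TwC.const S Z).hom := by
  change Etale (Sigma.desc fun _ : Z => 𝟙 S)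
  exact IsZariskiLocalAtSource.sigmaDesc (P := @Etale) (fun _ => inferInstance)

theorem etale_of_iso_const (Z : Type u) (G : Over S) (eG : G ≅ TwC.const S Z) : Etale G.hom := by
  have h : G.hom = eG.hom.left ≫ (TwC.const S Z).hom := (Over.w eG.hom).symm
  haveI := etale_const (S := S) Z
  haveI : IsIso eG.hom.left := inferInstanceAs (IsIso ((Over.forget S).map eG.hom))
  rw [h]
  infer_instance

-- in an extension by a constant group which is exact for the fppf topology, the projection is etale
theorem etale_of_isExactSeq (Z : Type u) (P E G : Over S) [GrpObj P] [GrpObj E] [GrpObj G]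
    (eG : G ≅ TwC.const S Z) (u : G ⟶ E) (v : E ⟶ P)
    (hex : NonAbH1.IsExactSeq Scheme.fppfPrecoverage u v) : Etale v.left := by
  obtain ⟨hu, hv, huv, hpb, R, hR, hsec⟩ := hex
  have hsurj := (Presieve.mem_comap_jointlySurjectivePrecoverage_iff Scheme.forget).1 hR.1
  choose W g hg hx using hsurj
  have hgP : ∀ x, (@Flat ⊓ @LocallyOfFinitePresentation : MorphismProperty Scheme.{u}) (g x) :=
    fun x => hR.2 (hg x)
  haveI : ∀ x, Flat (g x) := fun x => (hgP x).1
  haveI : ∀ x, LocallyOfFinitePresentation (g x) := fun x => (hgP x).2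
  choose s hs using fun x => hsec (g x) (hg x)
  have hflat : Flat (Sigma.desc g) :=
    IsZariskiLocalAtSource.sigmaDesc (P := @Flat) (fun x => inferInstance)
  have hlfp : LocallyOfFinitePresentation (Sigma.desc g) :=
    IsZariskiLocalAtSource.sigmaDesc (P := @LocallyOfFinitePresentation) (fun x => inferInstance)
  have hsj : Surjective (Sigma.desc g) := by
    refine ⟨fun x => ?_⟩
    obtain ⟨w, hw⟩ := hx x
    refine ⟨(Sigma.ι W x) w, ?_⟩
    rw [← Scheme.Hom.comp_apply, Sigma.ι_desc]
    exact hw
  have hsv : Sigma.desc s ≫ v.left = Sigma.desc g := by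
    apply Sigma.hom_ext
    intro x
    rw [Sigma.ι_desc_assoc, Sigma.ι_desc]
    exact hs x
  -- the covering as an object over `S`
  obtain ⟨f, hf⟩ : ∃ f : Over.mk (Sigma.desc g ≫ P.hom) ⟶ P, f.left = Sigma.desc g :=
    ⟨Over.homMk (Sigma.desc g) rfl, rfl⟩
  obtain ⟨σ, hσ⟩ : ∃ σ : Over.mk (Sigma.desc g ≫ P.hom) ⟶ E, σ.left = Sigma.desc s := by
    refine ⟨Over.homMk (Sigma.desc s) ?_, rfl⟩
    change Sigma.desc s ≫ E.hom = Sigma.desc g ≫ P.hom
    rw [← hsv, Category.assoc, Over.w v]
  have hσv : σ ≫ v = f := by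
    apply Over.OverMorphism.ext
    rw [Over.comp_left, hσ, hf, hsv]
  have hsq := (isPullback_triv u v hpb huv f σ hσv).map (Over.forget S)
  simp only [Over.forget_obj, Over.forget_map] at hsq
  haveI : Etale G.hom := etale_of_iso_const Z G eG
  have het : Etale (fst (Over.mk (Sigma.desc g ≫ P.hom)) G).left := by
    change Etale (pullback.fst (Over.mk (Sigma.desc g ≫ P.hom)).hom G.hom)
    infer_instance
  rw [hf] at hsq
  exact MorphismProperty.of_isPullback_of_descendsAlong (P := @Etale)
    (Q := @Surjective ⊓ @Flat ⊓ @LocallyOfFinitePresentation) hsq ⟨⟨hsj, hflat⟩, hlfp⟩ het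

end Sch

end Groth.Agent.Lib.Helper3.ConstExtA
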