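import Mathlib

set_option autoImplicit false
set_option linter.style.haveILetI false
set_option linter.unusedSectionVars false

universe u v₁

open CategoryTheory MonoidalCategory CartesianMonoidalCategory MonObj GrpObj Limits

namespace Groth.Agent.Lib.Helper3.TorsA

variable {C : Type u} [Category.{v₁} C] [CartesianMonoidalCategory C] {G X : C} [GrpObj G]

-- translation of `X` by a point of `G`
noncomputable def L (act : G ⊗ X ⟶ X) (z : 𝟙_ C ⟶ G) : X ⟶ X :=
  lift (toUnit X ≫ z) (𝟙 X) ≫ act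

lemma comp_L (act : G ⊗ X ⟶ X) (z : 𝟙_ C ⟶ G) {T : C} (x : T ⟶ X) :
    x ≫ L act z = lift (toUnit T ≫ z) x ≫ act := by
  rw [L, ← Category.assoc]
  congr 1
  apply CartesianMonoidalCategory.hom_ext
  · rw [Category.assoc, lift_fst, lift_fst, ← Category.assoc]
    congr 1
    exact toUnit_unique _ _
  · rw [Category.assoc, lift_snd, lift_snd, Category.comp_id]

lemma L_one (act : G ⊗ X ⟶ X) (h1 : (η[G] ▷ X) ≫ act = (λ_ X).hom) :
    L act (1 : 𝟙_ C ⟶ G) = 𝟙 X := by
  have hone : (1 : 𝟙_ C ⟶ G) = η[G] := by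
    rw [Hom.one_def, show toUnit (𝟙_ C) = 𝟙 _ from toUnit_unique _ _, Category.id_comp]
  have h2 : lift (toUnit X ≫ η[G]) (𝟙 X) = (λ_ X).inv ≫ (η[G] ▷ X) := by
    apply CartesianMonoidalCategory.hom_ext
    · simp
    · simp
  rw [L, hone, h2, Category.assoc, h1, Iso.inv_hom_id]

lemma L_mul (act : G ⊗ X ⟶ X)
    (hm : (μ[G] ▷ X) ≫ act = (α_ G G X).hom ≫ (G ◁ act) ≫ act) (z w : 𝟙_ C ⟶ G) :
    L act (z * w) = L act w ≫ L act z := by
  rw [comp_L]
  have h2 : lift (toUnit X ≫ (z * w)) (𝟙 X) =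
      lift (lift (toUnit X ≫ z) (toUnit X ≫ w)) (𝟙 X) ≫ (μ[G] ▷ X) := by
    apply CartesianMonoidalCategory.hom_ext
    · rw [lift_fst, Category.assoc, whiskerRight_fst, ← Category.assoc, lift_fst, Hom.mul_def,
        ← Category.assoc, comp_lift]
    · simp
  have h3 : lift (lift (toUnit X ≫ z) (toUnit X ≫ w)) (𝟙 X) ≫ (α_ G G X).hom ≫ (G ◁ act) =
      lift (toUnit X ≫ z) (L act w) := by
    apply CartesianMonoidalCategory.hom_ext
    · simp
    · simp [L]
  rw [L, h2, Category.assoc, hm, ← Category.assoc, ← Category.assoc, Category.assoc _ _ (G ◁ act),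
    h3]

-- the canonical section of `G ⊗ X ⟶ X` attached to a point
noncomputable def sig (z : 𝟙_ C ⟶ G) : X ⟶ G ⊗ X := lift (toUnit X ≫ z) (𝟙 X)

-- the corresponding section of the second projection of `X ⊗ X`
noncomputable def tau (act : G ⊗ X ⟶ X) (z : 𝟙_ C ⟶ G) : X ⟶ X ⊗ X := lift (L act z) (𝟙 X)

lemma sig_comp (act : G ⊗ X ⟶ X) (z : 𝟙_ C ⟶ G) :
    sig z ≫ lift act (snd G X) = tau act z := by
  apply CartesianMonoidalCategory.hom_ext
  · simp [sig, tau, L]
  · simp [sig, tau]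

lemma tau_fst (act : G ⊗ X ⟶ X) (z : 𝟙_ C ⟶ G) : tau act z ≫ fst X X = L act z := by
  simp [tau]

-- a point of a pseudo-torsor trivialises it
theorem isPullback_triv (act : G ⊗ X ⟶ X) [IsIso (lift act (snd G X))] {T : C} (σ : T ⟶ X) :
    IsPullback (fst T G) (lift (snd T G) (fst T G ≫ σ) ≫ act) (toUnit T) (toUnit X) := by
  have hΦ : inv (lift act (snd G X)) ≫ snd G X = snd X X := by
    rw [IsIso.inv_comp_eq, lift_snd]
  have hΦ' : ∀ {W : C} (g : W ⟶ G) (x : W ⟶ X), lift g x ≫ lift act (snd G X) =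
      lift (lift g x ≫ act) x := by
    intro W g x
    apply CartesianMonoidalCategory.hom_ext
    · simp
    · simp
  refine IsPullback.mk ⟨toUnit_unique _ _⟩ ⟨PullbackCone.IsLimit.mk _
    (fun c => lift c.fst (lift c.snd (c.fst ≫ σ) ≫ inv (lift act (snd G X)) ≫ fst G X))
    ?_ ?_ ?_⟩
  · intro c
    rw [lift_fst]
  · intro c
    set g := lift c.snd (c.fst ≫ σ) ≫ inv (lift act (snd G X)) ≫ fst G X with hg
    have h1 : lift g (c.fst ≫ σ) = lift c.snd (c.fst ≫ σ) ≫ inv (lift act (snd G X)) := by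
      apply CartesianMonoidalCategory.hom_ext
      · rw [lift_fst, hg, Category.assoc]
      · rw [lift_snd, Category.assoc, hΦ, lift_snd]
    have h2 : lift c.fst g ≫ lift (snd T G) (fst T G ≫ σ) = lift g (c.fst ≫ σ) := by
      apply CartesianMonoidalCategory.hom_ext
      · simp
      · simp
    rw [← Category.assoc, h2]
    have hact : inv (lift act (snd G X)) ≫ act = fst X X := by
      rw [IsIso.inv_comp_eq, lift_fst]
    rw [h1, Category.assoc, hact, lift_fst]
  · intro c m hm1 hm2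
    have h2 : m ≫ lift (snd T G) (fst T G ≫ σ) = lift (m ≫ snd T G) (c.fst ≫ σ) := by
      apply CartesianMonoidalCategory.hom_ext
      · simp
      · simp [← hm1]
    have h4 : lift (m ≫ snd T G) (c.fst ≫ σ) ≫ lift act (snd G X) = lift c.snd (c.fst ≫ σ) := by
      rw [hΦ', ← h2, Category.assoc, hm2]
    have h5 : lift (m ≫ snd T G) (c.fst ≫ σ) =
        lift c.snd (c.fst ≫ σ) ≫ inv (lift act (snd G X)) := by
      rw [← h4, Category.assoc, IsIso.hom_inv_id, Category.comp_id]
    apply CartesianMonoidalCategory.hom_ext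
    · rw [lift_fst, hm1]
    · rw [lift_snd]
      have h6 := congrArg (fun φ => φ ≫ fst G X) h5
      simp only [lift_fst, Category.assoc] at h6
      exact h6

end Groth.Agent.Lib.Helper3.TorsA
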