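import Mathlib
import Groth.Prelude.Def_NonAbH2
import Groth.Agent.Lib.Helper3ConstExtA
import Groth.Agent.Lib.Helper3TwcB
import Groth.Agent.Lib.Helper3TorsA

set_option autoImplicit false
set_option linter.style.haveILetI false
set_option linter.unusedSectionVars false

universe u

open CategoryTheory MonoidalCategory CartesianMonoidalCategory MonObj GrpObj AlgebraicGeometry Limits

namespace Groth.Agent.Lib.Helper3.TorsB

open Groth.Agent.Lib.Helper3.TwcA Groth.Agent.Lib.Helper3.TwcB Groth.Agent.Lib.Helper3.TorsA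

variable {P : Scheme.{u}} {Z : Type u} (G : Over P) [GrpObj G] (eG : G ≅ TwC.const P Z)

-- the points of the constant group
noncomputable def gpt (z : Z) : 𝟙_ (Over P) ⟶ G := TwC.pt P Z z ≫ eG.inv

lemma gpt_left (z : Z) : (gpt G eG z).left = Sigma.ι (fun _ : Z => P) z ≫ eG.inv.left := rfl

-- `G ×_P X ⟶ X` is a disjoint union of copies of `X`
theorem sheets_snd (X : Over P) :
    Sheets (pullback.snd G.hom X.hom) (fun z => (sig (X := X) (gpt G eG z)).left) := by
  have h0 := (sheets_of_iso_const G eG).pullback X.hom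
  have : (fun z => (sig (X := X) (gpt G eG z)).left) =
      (sheets_of_iso_const G eG).pbSec X.hom := by
    funext z
    apply pullback.hom_ext
    · simp [Sheets.pbSec, sig, gpt_left]
    · rw [Sheets.pbSec, pullback.lift_snd]
      change (sig (X := X) (gpt G eG z) ≫ snd G X).left = _
      rw [sig, lift_snd]
      rfl
  rw [this]
  exact h0

variable {G}

-- for a pseudo-torsor `X ×_P X ⟶ X` is a disjoint union of copies of `X`
theorem sheets_tau {X : Over P} (a : AlgGrp.Action G X) (ha : NonAbH1.IsPseudoTorsorSch a) :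
    Sheets (pullback.snd X.hom X.hom) (fun z => (tau a.act (gpt G eG z)).left) := by
  haveI : IsIso (lift a.act (snd G X)) := ha
  have h0 := sheets_snd G eG X
  let e : (G ⊗ X).left ≅ (X ⊗ X).left := (Over.forget P).mapIso (asIso (lift a.act (snd G X)))
  have he : e.hom ≫ pullback.snd X.hom X.hom = pullback.snd G.hom X.hom := by
    change (lift a.act (snd G X)).left ≫ (snd X X).left = (snd G X).left
    rw [← Over.comp_left, lift_snd]
  have h1 := h0.of_iso e (pullback.snd X.hom X.hom) he
  have : (fun z => (tau a.act (gpt G eG z)).left) =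
      fun z => (sig (X := X) (gpt G eG z)).left ≫ e.hom := by
    funext z
    change _ = (sig (X := X) (gpt G eG z)).left ≫ (lift a.act (snd G X)).left
    rw [← Over.comp_left, sig_comp]
  rw [this]
  exact h1

include eG in
-- a torsor under a constant group, locally trivial for the fppf topology, is etale and surjective
theorem etale_and_surjective {X : Over P} (a : AlgGrp.Action G X)
    (ha : NonAbH1.IsTorsorFor Scheme.fppfPrecoverage a) : Etale X.hom ∧ Surjective X.hom := by
  obtain ⟨hps, R, hR, hsec⟩ := ha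
  haveI : IsIso (lift a.act (snd G X)) := hps
  have hsurj := (Presieve.mem_comap_jointlySurjectivePrecoverage_iff Scheme.forget).1 hR.1
  choose W g hg hx using hsurj
  have hgP : ∀ x, (@Flat ⊓ @LocallyOfFinitePresentation : MorphismProperty Scheme.{u}) (g x) :=
    fun x => hR.2 (hg x)
  haveI : ∀ x, Flat (g x) := fun x => (hgP x).1
  haveI : ∀ x, LocallyOfFinitePresentation (g x) := fun x => (hgP x).2
  choose s hs using fun x => hsec (g x) (hg x)
  have hflat : Flat (Sigma.desc g) :=
    IsZariskiLocalAtSource.sigmaDesc (P := @Flat) (fun x => inferInstance)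
  have hlfp : LocallyOfFinitePresentation (Sigma.desc g) :=
    IsZariskiLocalAtSource.sigmaDesc (P := @LocallyOfFinitePresentation) (fun x => inferInstance)
  have hsj : Surjective (Sigma.desc g) := by
    refine ⟨fun x => ?_⟩
    obtain ⟨w, hw⟩ := hx x
    refine ⟨(Sigma.ι W x) w, ?_⟩
    rw [← Scheme.Hom.comp_apply, Sigma.ι_desc]
    exact hw
  have hsv : Sigma.desc s ≫ X.hom = Sigma.desc g := by
    apply Sigma.hom_ext
    intro x
    rw [Sigma.ι_desc_assoc, Sigma.ι_desc]
    exact hs x
  refine ⟨?_, ⟨fun x => ?_⟩⟩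
  · obtain ⟨σ, hσ⟩ : ∃ σ : Over.mk (Sigma.desc g) ⟶ X, σ.left = Sigma.desc s :=
      ⟨Over.homMk (Sigma.desc s) hsv, rfl⟩
    have hsq := (isPullback_triv a.act σ).map (Over.forget P)
    simp only [Over.forget_obj, Over.forget_map] at hsq
    haveI : Etale G.hom := Groth.Agent.Lib.Helper3.ConstExtA.etale_of_iso_const Z G eG
    have het : Etale (fst (Over.mk (Sigma.desc g)) G).left := by
      change Etale (pullback.fst (Over.mk (Sigma.desc g)).hom G.hom)
      infer_instance
    have h1 : (toUnit (Over.mk (Sigma.desc g))).left = Sigma.desc g := rfl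
    have h2 : (toUnit X).left = X.hom := rfl
    rw [h1, h2] at hsq
    exact MorphismProperty.of_isPullback_of_descendsAlong (P := @Etale)
      (Q := @Surjective ⊓ @Flat ⊓ @LocallyOfFinitePresentation) hsq ⟨⟨hsj, hflat⟩, hlfp⟩ het
  · obtain ⟨w, hw⟩ := hx x
    refine ⟨s x w, ?_⟩
    rw [← Scheme.Hom.comp_apply, hs x]
    exact hw

section trans

variable [Group Z] (hG : TwC.IsConstGrp Z G eG)

include hG

lemma gpt_mul (z w : Z) : gpt G eG (z * w) = gpt G eG z * gpt G eG w := (hG z w).symm

lemma gpt_one : gpt G eG 1 = 1 := by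
  have h := gpt_mul eG hG 1 1
  rw [_root_.mul_one] at h
  exact (mul_eq_left.mp h.symm)

omit hG in
-- translation of a `G`-scheme by an element of `Z`
noncomputable def Lz {X : Over P} (a : AlgGrp.Action G X) (z : Z) : X.left ⟶ X.left :=
  (L a.act (gpt G eG z)).left

omit hG in
lemma Lz_comp_hom {X : Over P} (a : AlgGrp.Action G X) (z : Z) : Lz eG a z ≫ X.hom = X.hom :=
  Over.w _

lemma Lz_one {X : Over P} (a : AlgGrp.Action G X) : Lz eG a 1 = 𝟙 X.left := by
  rw [Lz, gpt_one eG hG, L_one a.act a.one_act]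
  rfl

lemma Lz_mul {X : Over P} (a : AlgGrp.Action G X) (z w : Z) :
    Lz eG a (z * w) = Lz eG a w ≫ Lz eG a z := by
  rw [Lz, gpt_mul eG hG, L_mul a.act a.mul_act]
  rfl

omit hG in
lemma tau_left_fst {X : Over P} (a : AlgGrp.Action G X) (z : Z) :
    (tau a.act (gpt G eG z)).left ≫ pullback.fst X.hom X.hom = Lz eG a z := by
  change (tau a.act (gpt G eG z) ≫ fst X X).left = _
  rw [tau_fst]
  rfl

end trans

end Groth.Agent.Lib.Helper3.TorsB
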