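import Mathlib
import Groth.Agent.Lib.Helper3IrrTopB

set_option autoImplicit false
set_option linter.style.haveILetI false
universe u
open CategoryTheory AlgebraicGeometry

namespace Groth.Agent.Lib.Helper3.IrrTop

theorem hyp_genericFiber {X Y : Scheme.{u}} (f : X ⟶ Y) [IrreducibleSpace Y] [Flat f]
    [LocallyQuasiFinite f]
    (hmin : ∀ x : X, (nilradical (X.presheaf.stalk x)).IsPrime) :
    Hyp (f ⁻¹' {genericPoint Y}) where
  ex x := by
    have h1 : genericPoint Y ⤳ f x := (genericPoint_spec Y).specializes (Set.mem_univ _)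
    obtain ⟨x', hx', hfx'⟩ := Flat.generalizingMap f h1
    exact ⟨x', hfx', hx'⟩
  fin x := exists_open_finite_fiber f (genericPoint Y) x
  uniq x := by
    haveI := hmin x
    let K : PrimeSpectrum (X.presheaf.stalk x) := ⟨nilradical _, hmin x⟩
    suffices key : ∀ ξ ∈ f ⁻¹' {genericPoint Y}, ξ ⤳ x → ξ = X.fromSpecStalk x K by
      intro ξ hξ ξ' hξ' h1 h2
      rw [key ξ hξ h1, key ξ' hξ' h2]
    intro ξ hξ hs
    obtain ⟨P, rfl⟩ : ξ ∈ Set.range (X.fromSpecStalk x) := by
      rw [Scheme.range_fromSpecStalk]; exact hs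
    have hKP : K ⤳ P := by
      rw [← PrimeSpectrum.le_iff_specializes]
      show nilradical _ ≤ P.asIdeal
      exact nilradical_le_prime P.asIdeal
    have h2 : X.fromSpecStalk x K ⤳ X.fromSpecStalk x P := hKP.map (X.fromSpecStalk x).continuous
    have h3 : f (X.fromSpecStalk x K) = f (X.fromSpecStalk x P) := by
      have h4 : f (X.fromSpecStalk x K) ⤳ f (X.fromSpecStalk x P) := h2.map f.continuous
      rw [show f (X.fromSpecStalk x P) = genericPoint Y from hξ] at h4 ⊢
      exact (h4.antisymm ((genericPoint_spec Y).specializes (Set.mem_univ _))).eq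
    exact (eq_of_specializes_of_fiber f h2 h3).symm

end Groth.Agent.Lib.Helper3.IrrTop
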