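import Mathlib
import Groth.Agent.Lib.Helper3IrrTopC

set_option autoImplicit false
set_option linter.style.haveILetI false
set_option linter.unusedSectionVars false
universe u
open CategoryTheory AlgebraicGeometry

namespace Groth.Agent.Lib.Helper3.IrrTop

section Top

variable {X : Type*} [TopologicalSpace X] {G : Set X}

/-- the set of specializations of a locally finite set is closed -/
theorem isClosed_setOf_exists_specializes
    (hfin : ∀ x : X, ∃ U : Set X, IsOpen U ∧ x ∈ U ∧ (G ∩ U).Finite) :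
    IsClosed {x : X | ∃ ξ ∈ G, ξ ⤳ x} := by
  rw [← isOpen_compl_iff, isOpen_iff_forall_mem_open]
  intro x hx
  obtain ⟨U, hUo, hxU, hfin⟩ := hfin x
  let C : Set X := ⋃ ξ ∈ G ∩ U, closure {ξ}
  have hC : IsClosed C := hfin.isClosed_biUnion (fun _ _ => isClosed_closure)
  refine ⟨U \ C, ?_, hUo.sdiff hC, ⟨hxU, ?_⟩⟩
  · rintro w ⟨hwU, hwC⟩ ⟨ξ, hξ, hs⟩
    apply hwC
    simp only [C, Set.mem_iUnion]
    exact ⟨ξ, ⟨hξ, hs.mem_open hUo hwU⟩, specializes_iff_mem_closure.mp hs⟩
  · intro hxC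
    simp only [C, Set.mem_iUnion] at hxC
    obtain ⟨ξ, ⟨hξG, _⟩, hx'⟩ := hxC
    exact hx ⟨ξ, hξG, specializes_iff_mem_closure.mpr hx'⟩

theorem Hyp.irreducibleSpace [QuasiSober X] [ConnectedSpace X] (h : Hyp G) : IrreducibleSpace X := by
  obtain ⟨x₀⟩ : Nonempty X := inferInstance
  have hZ := irreducibleComponent_mem_irreducibleComponents x₀
  have hclopen : IsClopen (irreducibleComponent x₀) :=
    ⟨isClosed_irreducibleComponent, h.isOpen_component hZ⟩
  have huniv : irreducibleComponent x₀ = Set.univ :=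
    hclopen.eq_univ ⟨x₀, mem_irreducibleComponent⟩
  rw [irreducibleSpace_def]
  show IsIrreducible (Set.univ : Set X)
  rw [← huniv]
  exact isIrreducible_irreducibleComponent

end Top

theorem etale_of_forall_exists_nhd {X Y : Scheme.{u}} (f : X ⟶ Y)
    (h : ∀ x : X, ∃ U : X.Opens, x ∈ U ∧ Etale (U.ι ≫ f)) : Etale f := by
  choose U hxU hU using h
  refine IsZariskiLocalAtSource.of_iSup_eq_top (P := @Etale) U ?_ hU
  rw [eq_top_iff]
  intro x _
  exact TopologicalSpace.Opens.mem_iSup.mpr ⟨x, hxU x⟩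

end Groth.Agent.Lib.Helper3.IrrTop
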