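import Mathlib
import Groth.Agent.Lib.Helper3UnramEtA
import Groth.Agent.Lib.Helper3EtGUN

/-!
# Local rings of étale algebras over (non-reduced) geometrically unibranch bases (helper3)
-/

set_option autoImplicit false
set_option linter.style.haveILetI false
universe u
open TensorProduct IsLocalRing

namespace Groth.Agent.Lib.Helper3.UnramEt


open Groth.Agent.Lib.Helper3.Branch

attribute [local instance] Algebra.TensorProduct.rightAlgebra in
/-- local rings of étale algebras at primes over a prime with geometrically unibranch
local ring have prime nilradical -/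
theorem nilradical_isPrime_of_etale (A : Type u) [CommRing A] (E : Type u)
    [CommRing E] [Algebra A E] [Algebra.Etale A E] (Q' : Ideal E) [hQ' : Q'.IsPrime] (p : Ideal A)
    [p.IsPrime] (hp : Q'.comap (algebraMap A E) = p)
    (hA : CAlg2.IsGeomUnibranch (Localization.AtPrime p)) :
    (nilradical (Localization.AtPrime Q')).IsPrime := by
  let Rp := Localization.AtPrime p
  let C := Rp ⊗[A] E
  let W : Submonoid E := Algebra.algebraMapSubmonoid E p.primeCompl
  haveI : IsLocalization W C := IsLocalization.tensorRight Rp p.primeCompl
  have hdisj : Disjoint (W : Set E) (Q' : Set E) := by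
    rw [Set.disjoint_left]
    rintro t ⟨r, hr, rfl⟩ hM
    apply hr
    rw [← hp]
    exact hM
  let Q'' : Ideal C := Ideal.map (algebraMap E C) Q'
  haveI hQ'' : Q''.IsPrime := IsLocalization.isPrime_of_isPrime_disjoint W C Q' inferInstance hdisj
  have hcomap : Q''.comap (algebraMap E C) = Q' :=
    IsLocalization.under_map_of_isPrime_disjoint W C inferInstance hdisj
  have hcompat : ∀ a : A, algebraMap E C (algebraMap A E a) = algebraMap Rp C (algebraMap A Rp a) := by
    intro a
    show (1 : Rp) ⊗ₜ[A] (algebraMap A E a) = (algebraMap A Rp a) ⊗ₜ[A] (1 : E)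
    rw [Algebra.algebraMap_eq_smul_one, Algebra.algebraMap_eq_smul_one, TensorProduct.tmul_smul,
      TensorProduct.smul_tmul']
  have hmax : Q''.comap (algebraMap Rp C) = maximalIdeal Rp := by
    haveI : (Q''.comap (algebraMap Rp C)).IsPrime := Ideal.comap_isPrime _ _
    have h1 : (Q''.comap (algebraMap Rp C)).comap (algebraMap A Rp) = p := by
      ext a
      rw [Ideal.mem_comap, Ideal.mem_comap, ← hcompat, ← Ideal.mem_comap, hcomap,
        ← Ideal.mem_comap, hp]
    have h2 : (maximalIdeal Rp).comap (algebraMap A Rp) = p :=
      IsLocalization.AtPrime.under_maximalIdeal Rp p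
    have h3 : Ideal.map (algebraMap A Rp) ((Q''.comap (algebraMap Rp C)).comap (algebraMap A Rp))
        = Q''.comap (algebraMap Rp C) := IsLocalization.map_under p.primeCompl Rp _
    have h4 : Ideal.map (algebraMap A Rp) ((maximalIdeal Rp).comap (algebraMap A Rp))
        = maximalIdeal Rp := IsLocalization.map_under p.primeCompl Rp _
    rw [← h3, ← h4, h1, h2]
  have hnil := EtGU.nilradical_isPrime_localization Rp hA C Q'' hmax
  haveI : IsScalarTower E C (Localization.AtPrime Q'') := inferInstance
  haveI h5 : IsLocalization.AtPrime (Localization.AtPrime Q'') (Q''.comap (algebraMap E C)) :=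
    IsLocalization.isLocalization_isLocalization_atPrime_isLocalization W _ Q''
  have h6 : (Q''.comap (algebraMap E C)).primeCompl = Q'.primeCompl := by
    ext t
    show t ∉ Q''.comap (algebraMap E C) ↔ t ∉ Q'
    rw [hcomap]
  haveI h7 : IsLocalization Q'.primeCompl (Localization.AtPrime Q'') := h6 ▸ h5
  let e : Localization.AtPrime Q' ≃ₐ[E] Localization.AtPrime Q'' :=
    IsLocalization.algEquiv Q'.primeCompl _ _
  exact EtGU.nilradical_isPrime_of_injective
    (e.toRingEquiv : Localization.AtPrime Q' →+* Localization.AtPrime Q'') e.injective hnil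

end Groth.Agent.Lib.Helper3.UnramEt
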