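import Mathlib
import Groth.Agent.Lib.Helper3EtGUSchD
import Groth.Agent.Lib.Helper3UnramEtD
import Groth.Agent.Lib.Helper3IrrTopD

/-!
# Stalks of schemes étale over non-reduced geometrically unibranch bases (helper3)
-/

set_option autoImplicit false
set_option linter.style.haveILetI false
universe u
open CategoryTheory AlgebraicGeometry

namespace Groth.Agent.Lib.Helper3.EtGUSch

/-- étale near `x` over a base whose local ring at `f x` is geometrically unibranch
(possibly non-reduced): the nilradical of the local ring at `x` is prime -/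
theorem nilradical_isPrime_stalk_of_etale_nhd {X Y : Scheme.{u}} (f : X ⟶ Y) (x : X)
    (hY' : CAlg2.IsGeomUnibranch (Y.presheaf.stalk (f x)))
    (hf : ∃ U : X.Opens, x ∈ U ∧ Etale (U.ι ≫ f)) :
    (nilradical (X.presheaf.stalk x)).IsPrime := by
  obtain ⟨U₀, hxU₀, hét⟩ := hf
  obtain ⟨V, hV, U, hU, e, hxU, hUU₀⟩ := exists_affine_nhds f x U₀ hxU₀
  let A := Γ(Y, V)
  let B := Γ(X, U)
  letI algAB : Algebra A B := (f.appLE V U e).hom.toAlgebra
  haveI : Algebra.Etale A B := appLE_of_ι_comp (P := @Etale) f U₀ hét hV hU hUU₀ e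
  let q : Ideal B := (hU.primeIdealOf ⟨x, hxU⟩).asIdeal
  let p : Ideal A := (hV.primeIdealOf ⟨f x, e hxU⟩).asIdeal
  have hqp : q.comap (algebraMap A B) = p := comap_primeIdealOf f hV hU e hxU
  have hA : CAlg2.IsGeomUnibranch (Localization.AtPrime p) :=
    isGeomUnibranch_localization_primeIdealOf hV (f x) (e hxU) hY'
  have hnil := UnramEt.nilradical_isPrime_of_etale A B q p hqp hA
  letI := TopCat.Presheaf.algebra_section_stalk X.presheaf ⟨x, hxU⟩
  haveI := hU.isLocalization_stalk ⟨x, hxU⟩
  let ε : X.presheaf.stalk x ≃ₐ[Γ(X, U)] Localization.AtPrime q :=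
    IsLocalization.algEquiv q.primeCompl _ _
  exact EtGU.nilradical_isPrime_of_injective
    (ε.toRingEquiv : X.presheaf.stalk x →+* Localization.AtPrime q) ε.injective hnil

end Groth.Agent.Lib.Helper3.EtGUSch
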