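import Mathlib
import Groth.Agent.Lib.Helper3SmGU
import Groth.Agent.Lib.Helper3EtGUSchF

set_option autoImplicit false
set_option linter.style.haveILetI false

namespace Groth.Agent.Lib.Helper3.SmNil

universe u
open IsLocalRing CategoryTheory AlgebraicGeometry

-- smooth algebras: local rings at primes over a geometrically unibranch point have a prime
-- nilradical (no reducedness assumption on the base)
theorem nilradical_isPrime_of_smooth (R : Type u) [CommRing R]
    (R' : Type u) [CommRing R'] [Algebra R R'] [Algebra.Smooth R R'] (q : Ideal R') [q.IsPrime]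
    (p : Ideal R) [p.IsPrime] (hqp : q.comap (algebraMap R R') = p)
    (hA : CAlg2.IsGeomUnibranch (Localization.AtPrime p)) :
    (nilradical (Localization.AtPrime q)).IsPrime := by
  haveI : Algebra.FinitePresentation R R' := Algebra.Smooth.finitePresentation
  haveI : Algebra.IsSmoothAt R q := inferInstance
  obtain ⟨f, hfq, n, alg, htower, hse⟩ :=
    Algebra.IsSmoothAt.exists_isStandardEtale_mvPolynomial (R := R) (p := q)
  letI := alg
  haveI := htower
  haveI : Algebra.Etale (MvPolynomial (Fin n) R) (Localization.Away f) := inferInstance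
  have hdisj : Disjoint (Submonoid.powers f : Set R') (q : Set R') :=
    (Ideal.disjoint_powers_iff_notMem_of_isPrime _).mpr hfq
  obtain ⟨q', hq'⟩ : ∃ q' : Ideal (Localization.Away f),
      q' = q.map (algebraMap R' (Localization.Away f)) := ⟨_, rfl⟩
  haveI hq'p : q'.IsPrime := by
    rw [hq']
    exact IsLocalization.isPrime_of_isPrime_disjoint (.powers f) _ _ ‹_› hdisj
  have hq'c : q'.comap (algebraMap R' (Localization.Away f)) = q := by
    rw [hq']
    exact IsLocalization.under_map_of_isPrime_disjoint (.powers f) _ inferInstance hdisj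
  obtain ⟨Q, hQ⟩ : ∃ Q : Ideal (MvPolynomial (Fin n) R),
      Q = q'.comap (algebraMap _ (Localization.Away f)) := ⟨_, rfl⟩
  haveI : Q.IsPrime := by rw [hQ]; exact Ideal.comap_isPrime _ _
  have hQp : Q.comap (MvPolynomial.C : R →+* MvPolynomial (Fin n) R) = p := by
    rw [← hqp, ← hq'c, hQ, Ideal.comap_comap, Ideal.comap_comap]
    congr 1
    rw [← MvPolynomial.algebraMap_eq, ← IsScalarTower.algebraMap_eq,
      ← IsScalarTower.algebraMap_eq]
  have hGU : CAlg2.IsGeomUnibranch (Localization.AtPrime Q) :=
    Groth.Agent.Lib.Helper6.Uni.isGeomUnibranch_mvPolynomial_localization' Q p hQp hA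
  have hnil := Groth.Agent.Lib.Helper3.UnramEt.nilradical_isPrime_of_etale
    (MvPolynomial (Fin n) R) (Localization.Away f) q' Q hQ.symm hGU
  -- transfer along `(R'_f)_{q'} ≃ R'_q`
  haveI h1 : IsLocalization.AtPrime (Localization.AtPrime q')
      (q'.comap (algebraMap R' (Localization.Away f))) :=
    IsLocalization.isLocalization_isLocalization_atPrime_isLocalization (.powers f)
      (Localization.AtPrime q') q'
  have hsub : (q'.comap (algebraMap R' (Localization.Away f))).primeCompl = q.primeCompl :=
    Submonoid.ext (fun x => by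
      show x ∉ q'.comap (algebraMap R' (Localization.Away f)) ↔ x ∉ q
      rw [hq'c])
  have hloc2 : IsLocalization q.primeCompl (Localization.AtPrime q') := hsub ▸ h1
  haveI := hloc2
  let e : Localization.AtPrime q ≃ₐ[R'] Localization.AtPrime q' :=
    IsLocalization.algEquiv q.primeCompl _ _
  exact Groth.Agent.Lib.Helper3.EtGU.nilradical_isPrime_of_injective
    (e.toRingEquiv : Localization.AtPrime q →+* Localization.AtPrime q') e.injective hnil

open Groth.Agent.Lib.Helper3.EtGUSch in
-- smooth morphisms: the local rings at points over a geometrically unibranch point have a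
-- prime nilradical
theorem nilradical_isPrime_stalk_of_smooth {X Y : Scheme.{u}} (f : X ⟶ Y) [Smooth f] (x : X)
    (hY' : CAlg2.IsGeomUnibranch (Y.presheaf.stalk (f x))) :
    (nilradical (X.presheaf.stalk x)).IsPrime := by
  obtain ⟨V, hV, U, hU, e, hxU, -⟩ := exists_affine_nhds f x ⊤ trivial
  let A := Γ(Y, V)
  let B := Γ(X, U)
  letI algAB : Algebra A B := (f.appLE V U e).hom.toAlgebra
  haveI : Algebra.Smooth A B := by
    have h := HasRingHomProperty.appLE @Smooth f inferInstance ⟨V, hV⟩ ⟨U, hU⟩ e
    exact h
  let q : Ideal B := (hU.primeIdealOf ⟨x, hxU⟩).asIdeal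
  let p : Ideal A := (hV.primeIdealOf ⟨f x, e hxU⟩).asIdeal
  have hqp : q.comap (algebraMap A B) = p := comap_primeIdealOf f hV hU e hxU
  have hA : CAlg2.IsGeomUnibranch (Localization.AtPrime p) :=
    isGeomUnibranch_localization_primeIdealOf hV (f x) (e hxU) hY'
  have hnil := nilradical_isPrime_of_smooth A B q p hqp hA
  letI := TopCat.Presheaf.algebra_section_stalk X.presheaf ⟨x, hxU⟩
  haveI := hU.isLocalization_stalk ⟨x, hxU⟩
  let ε : X.presheaf.stalk x ≃ₐ[Γ(X, U)] Localization.AtPrime q :=
    IsLocalization.algEquiv q.primeCompl _ _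
  exact Groth.Agent.Lib.Helper3.EtGU.nilradical_isPrime_of_injective
    (ε.toRingEquiv : X.presheaf.stalk x →+* Localization.AtPrime q) ε.injective hnil

end Groth.Agent.Lib.Helper3.SmNil
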