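import Mathlib
import Groth.Prelude.Def_TwC
import Groth.Agent.Lib.Helper3TwcB
import Groth.Agent.Lib.Helper3EtGUSchF

set_option autoImplicit false
set_option linter.style.haveILetI false
set_option linter.unusedSectionVars false

universe u

open CategoryTheory AlgebraicGeometry Limits

namespace Groth.Agent.Lib.Helper3.TwcC

open Groth.Agent.Lib.Helper3.TwcA Groth.Agent.Lib.Helper3.TwcB Groth.Agent.Lib.Helper3.IrrTop

section generic

-- the generic point of an irreducible scheme flat over an irreducible scheme maps to the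
-- generic point
lemma apply_genericPoint {T S : Scheme.{u}} [IrreducibleSpace T] [IrreducibleSpace S]
    (a : T ⟶ S) [Flat a] : a (genericPoint T) = genericPoint S := by
  have h1 : genericPoint S ⤳ a (genericPoint T) :=
    (genericPoint_spec S).specializes (Set.mem_univ _)
  obtain ⟨t', ht', hat'⟩ := Flat.generalizingMap a h1
  have h2 : genericPoint T ⤳ t' := (genericPoint_spec T).specializes (Set.mem_univ _)
  have h3 : t' = genericPoint T := (ht'.antisymm h2).eq
  rw [← h3, hat']


lemma residueFieldMap_bijective_of_eq {A B : Scheme.{u}} (f : A ⟶ B) {x y : A} (e : x = y)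
    (h : Function.Bijective (f.residueFieldMap x).hom) :
    Function.Bijective (f.residueFieldMap y).hom := by
  subst e; exact h

lemma residueFieldMap_bijective_comp {A B C : Scheme.{u}} (g : A ⟶ B) (f : B ⟶ C) (a : A)
    (hg : Function.Bijective (g.residueFieldMap a).hom)
    (hf : Function.Bijective (f.residueFieldMap (g a)).hom) :
    Function.Bijective ((g ≫ f).residueFieldMap a).hom := by
  have key : ∀ w, ((g ≫ f).residueFieldMap a).hom w =
      (g.residueFieldMap a).hom ((f.residueFieldMap (g a)).hom w) := by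
    intro w
    have e := Scheme.residueFieldMap_comp g f a
    exact congrArg (fun φ => φ.hom w) e
  have : ⇑((g ≫ f).residueFieldMap a).hom =
      ⇑(g.residueFieldMap a).hom ∘ ⇑(f.residueFieldMap (g a)).hom := funext key
  rw [this]
  exact hg.comp hf

end generic

section core

variable {X S : Scheme.{u}} (p : X ⟶ S) [IrreducibleSpace S]
  (hS : ∀ s : S, CAlg2.IsGeomUnibranch (S.presheaf.stalk s))

include hS

-- the generic fibre satisfies the standing hypotheses on generizations
theorem hyp_of_etale [Etale p] : Hyp (p ⁻¹' {genericPoint S}) := by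
  haveI := locallyQuasiFinite_of_unramified p
  exact hyp_genericFiber p (fun x =>
    Groth.Agent.Lib.Helper3.EtGUSch.nilradical_isPrime_stalk_of_etale_nhd p x (hS _)
      ⟨⊤, trivial, inferInstance⟩)

-- refinement of a trivialisation to an irreducible etale neighbourhood
theorem exists_irreducible_refinement (hp : TC p) (s : S) :
    ∃ (T : Scheme.{u}) (a : T ⟶ S), Etale a ∧ s ∈ Set.range a ∧ IrreducibleSpace T ∧
      ∃ (I : Type u) (σ : I → (T ⟶ pullback p a)), Sheets (pullback.snd p a) σ := by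
  obtain ⟨T₀, a₀, ha₀, ⟨t, ht⟩, I, σ, hσ⟩ := hp s
  have hyp := hyp_of_etale a₀ hS
  obtain ⟨Z, ⟨hZ, htZ⟩, -⟩ := hyp.existsUnique_component t
  have hZo : IsOpen Z := hyp.isOpen_component hZ
  let C : T₀.Opens := ⟨Z, hZo⟩
  refine ⟨C, C.ι ≫ a₀, inferInstance, ⟨⟨t, htZ⟩, ?_⟩, ?_, I, Groth.Agent.Lib.Helper3.TwcB.Sheets.comp_base hσ C.ι⟩
  · rw [Scheme.Hom.comp_apply]
    exact ht
  · exact Subtype.irreducibleSpace hZ.1


-- local description of a component of `X`
theorem exists_local_sheets [Etale p] (hp : TC p) (l : X) (hl : p l = genericPoint S)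
    (U : X.Opens) (hU : (U : Set X) = closure {l}) (s : S) :
    ∃ (T : Scheme.{u}) (a : T ⟶ S) (_ : Etale a) (_ : IrreducibleSpace T), s ∈ Set.range a ∧
      ∃ (J : Type u) (τ : J → (T ⟶ pullback (U.ι ≫ p) a)),
        Sheets (pullback.snd (U.ι ≫ p) a) τ ∧
        ∀ j, U.ι (pullback.fst (U.ι ≫ p) a (τ j (genericPoint T))) = l ∧
          pullback.snd (U.ι ≫ p) a (τ j (genericPoint T)) = genericPoint T := by
  obtain ⟨T, a, ha, hs, hT, I, σ, hσ⟩ := exists_irreducible_refinement p hS hp s
  have hyp := hyp_of_etale p hS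
  obtain ⟨m, hm⟩ : ∃ m : pullback (U.ι ≫ p) a ⟶ pullback p a,
      m = pullback.map (U.ι ≫ p) a p a U.ι (𝟙 T) (𝟙 S) (by simp) (by simp) := ⟨_, rfl⟩
  haveI : IsOpenImmersion m := by rw [hm]; infer_instance
  have hm_snd : m ≫ pullback.snd p a = pullback.snd (U.ι ≫ p) a := by
    rw [hm, pullback.lift_snd, Category.comp_id]
  have hcl : IsClosed (Set.range m) := by
    rw [hm, Scheme.Pullback.range_map]
    have h1 : Set.range U.ι = closure {l} := by rw [Scheme.Opens.range_ι, hU]
    have h2 : Set.range (𝟙 T : T ⟶ T) = Set.univ := by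
      rw [Set.range_eq_univ]; exact fun t => ⟨t, rfl⟩
    rw [h1, h2, Set.preimage_univ, Set.inter_univ]
    exact isClosed_closure.preimage (pullback.fst p a).continuous
  obtain ⟨τ, hτ, hsh⟩ := hσ.restrict (genericPoint T) m hcl
  rw [hm_snd] at hsh
  refine ⟨T, a, ha, hT, hs, _, τ, hsh, fun j => ⟨?_, hsh.apply_sec j _⟩⟩
  obtain ⟨u, hu⟩ : ∃ u, u = pullback.fst (U.ι ≫ p) a (τ j (genericPoint T)) := ⟨_, rfl⟩
  rw [← hu]
  have hxU : U.ι u ∈ closure ({l} : Set X) := by
    rw [← hU]; exact u.2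
  have hpx : p (U.ι u) = genericPoint S := by
    rw [← Scheme.Hom.comp_apply, hu, ← Scheme.Hom.comp_apply, pullback.condition,
      Scheme.Hom.comp_apply, hsh.apply_sec, apply_genericPoint]
  exact (hyp.eq_of_specializes hl hpx (specializes_iff_mem_closure.mpr hxU)).symm


-- each component of `X` is finite over `S`
theorem isFinite_component [Etale p] (hp : TC p) (l : X) (hl : p l = genericPoint S)
    (U : X.Opens) (hU : (U : Set X) = closure {l}) : IsFinite (U.ι ≫ p) := by
  haveI := Groth.Agent.Lib.Helper12.descendsAlong_isFinite.{u}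
  apply of_local_pullback (P := @IsFinite)
  intro s
  obtain ⟨T, a, ha, hT, hs, J, τ, hsh, hgen⟩ := exists_local_sheets p hS hp l hl U hU s
  refine ⟨T, a, inferInstance, inferInstance, hs, ?_⟩
  suffices hfin : Finite J from hsh.isFinite
  haveI := hsh.isOpenImmersion
  have hlU : l ∈ U := by
    change l ∈ (U : Set X)
    rw [hU]; exact subset_closure rfl
  -- an affine open of `S` containing the generic point
  obtain ⟨_, ⟨(V : S.Opens), hV, rfl⟩, hηV, -⟩ := S.isBasis_affineOpens.exists_subset_of_mem_open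
    (Set.mem_univ (genericPoint S)) isOpen_univ
  replace hV : IsAffineOpen V := hV
  -- affine neighbourhoods of `l` and of the generic point of `T` lying over `V`
  have hl' : (⟨l, hlU⟩ : U) ∈ (U.ι ≫ p) ⁻¹ᵁ V := by
    change (U.ι ≫ p) ⟨l, hlU⟩ ∈ V
    rw [Scheme.Hom.comp_apply]
    change p l ∈ V
    rw [hl]; exact hηV
  obtain ⟨_, ⟨(A : (U : Scheme.{u}).Opens), hA, rfl⟩, hlA, hAV⟩ := (U : Scheme.{u}).isBasis_affineOpens.exists_subset_of_mem_open
    hl' ((U.ι ≫ p) ⁻¹ᵁ V).isOpen
  replace hA : IsAffineOpen A := hA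
  have ht₀ : genericPoint T ∈ a ⁻¹ᵁ V := by
    change a (genericPoint T) ∈ V
    rw [apply_genericPoint]; exact hηV
  obtain ⟨_, ⟨(T₁ : T.Opens), hT₁, rfl⟩, htT₁, hT₁V⟩ := T.isBasis_affineOpens.exists_subset_of_mem_open
    ht₀ (a ⁻¹ᵁ V).isOpen
  replace hT₁ : IsAffineOpen T₁ := hT₁
  have hr1 : Set.range (A.ι ≫ U.ι ≫ p) ⊆ Set.range V.ι := by
    rw [Scheme.Opens.range_ι]
    rintro _ ⟨x, rfl⟩
    exact hAV x.2
  have hr2 : Set.range (T₁.ι ≫ a) ⊆ Set.range V.ι := by
    rw [Scheme.Opens.range_ι]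
    rintro _ ⟨x, rfl⟩
    exact hT₁V x.2
  obtain ⟨qA, hqA⟩ : ∃ qA : (A : Scheme.{u}) ⟶ V, qA ≫ V.ι = A.ι ≫ U.ι ≫ p :=
    ⟨IsOpenImmersion.lift V.ι _ hr1, IsOpenImmersion.lift_fac _ _ _⟩
  obtain ⟨aT, haT⟩ : ∃ aT : (T₁ : Scheme.{u}) ⟶ V, aT ≫ V.ι = T₁.ι ≫ a :=
    ⟨IsOpenImmersion.lift V.ι _ hr2, IsOpenImmersion.lift_fac _ _ _⟩
  haveI : IsAffine (A : Scheme.{u}) := hA
  haveI : IsAffine (T₁ : Scheme.{u}) := hT₁
  haveI : IsAffine (V : Scheme.{u}) := hV
  obtain ⟨k, hk⟩ : ∃ k : pullback qA aT ⟶ pullback (U.ι ≫ p) a,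
      k = pullback.map qA aT (U.ι ≫ p) a A.ι T₁.ι V.ι hqA haT := ⟨_, rfl⟩
  have hK : IsCompact (Set.range k) := isCompact_range k.continuous
  have hKeq : Set.range k = pullback.fst (U.ι ≫ p) a ⁻¹' Set.range A.ι ∩
      pullback.snd (U.ι ≫ p) a ⁻¹' Set.range T₁.ι := by
    rw [hk, Scheme.Pullback.range_map]
  have hτK : ∀ j, τ j (genericPoint T) ∈ Set.range k := by
    intro j
    rw [hKeq, Scheme.Opens.range_ι, Scheme.Opens.range_ι]
    refine ⟨?_, ?_⟩
    · change pullback.fst (U.ι ≫ p) a (τ j (genericPoint T)) ∈ A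
      have h1 : pullback.fst (U.ι ≫ p) a (τ j (genericPoint T)) = ⟨l, hlU⟩ := by
        apply U.ι.injective
        rw [(hgen j).1]
        rfl
      rw [h1]; exact hlA
    · change pullback.snd (U.ι ≫ p) a (τ j (genericPoint T)) ∈ T₁
      rw [(hgen j).2]; exact htT₁
  have hcov : Set.range k ⊆ ⋃ j, Set.range (τ j) := by
    intro y _
    obtain ⟨j, t, ht⟩ := hsh.cover y
    exact Set.mem_iUnion.mpr ⟨j, t, ht⟩
  obtain ⟨F, hF⟩ := hK.elim_finite_subcover (fun j => Set.range (τ j))
    (fun j => (τ j).isOpenEmbedding.isOpen_range) hcov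
  have hall : ∀ j : J, j ∈ F := by
    intro j
    have := hF (hτK j)
    simp only [Set.mem_iUnion] at this
    obtain ⟨j', hj'F, t', ht'⟩ := this
    have : j' = j := hsh.disj j' j t' _ ht'
    rw [← this]; exact hj'F
  haveI : Fintype J := ⟨F, hall⟩
  exact Finite.of_fintype J


-- a component of `X` whose generic point has trivial residue field extension maps
-- isomorphically onto `S`
theorem isIso_component [Etale p] (hp : TC p) (l : X) (hl : p l = genericPoint S)
    (U : X.Opens) (hU : (U : Set X) = closure {l})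
    (hbij : Function.Bijective (p.residueFieldMap l).hom) : IsIso (U.ι ≫ p) := by
  suffices h : MorphismProperty.isomorphisms Scheme.{u} (U.ι ≫ p) from h
  apply of_local_pullback (P := MorphismProperty.isomorphisms Scheme.{u})
  intro s
  obtain ⟨T, a, ha, hT, hs, J, τ, hsh, hgen⟩ := exists_local_sheets p hS hp l hl U hU s
  refine ⟨T, a, inferInstance, inferInstance, hs, ?_⟩
  have hlU : l ∈ U := by
    change l ∈ (U : Set X)
    rw [hU]; exact subset_closure rfl
  haveI : Nonempty J := by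
    have h1 : (U.ι ≫ p) ⟨l, hlU⟩ = a (genericPoint T) := by
      rw [apply_genericPoint, Scheme.Hom.comp_apply]
      exact hl
    obtain ⟨z, -, -⟩ := Scheme.Pullback.exists_preimage_pullback (f := U.ι ≫ p) (g := a)
      ⟨l, hlU⟩ (genericPoint T) h1
    obtain ⟨j, -⟩ := hsh.cover z
    exact ⟨j⟩
  have hsub : ∀ i j : J, i = j := by
    intro i j
    have h1 : τ i (genericPoint T) = τ j (genericPoint T) := by
      apply eq_of_fst_eq_of_snd_eq (U.ι ≫ p) a
      · apply U.ι.injective
        rw [(hgen i).1, (hgen j).1]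
      · rw [(hgen i).2, (hgen j).2]
      · apply residueFieldMap_bijective_comp
        · exact ConcreteCategory.bijective_of_isIso _
        · exact residueFieldMap_bijective_of_eq p (hgen j).1.symm hbij
    exact hsh.disj i j _ _ h1
  exact hsh.isIso hsub

end core

end Groth.Agent.Lib.Helper3.TwcC
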