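import Mathlib
import Groth.Agent.Lib.Helper3TwcC
import Groth.Agent.S9812
import Groth.Agent.S19145

set_option autoImplicit false
set_option linter.style.haveILetI false
set_option linter.unusedSectionVars false

universe u

open CategoryTheory AlgebraicGeometry Limits

namespace Groth.Agent.Lib.Helper3.TwcD

open Groth.Agent.Lib.Helper3.TwcA Groth.Agent.Lib.Helper3.TwcB Groth.Agent.Lib.Helper3.TwcC

-- change the base morphism along an equality
theorem Sheets.congr_base {X S T : Scheme.{u}} {p : X ⟶ S} {a b : T ⟶ S} (hab : a = b) {I : Type u}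
    {σ : I → (T ⟶ pullback p a)} (hs : Sheets (pullback.snd p a) σ) :
    ∃ σ' : I → (T ⟶ pullback p b), Sheets (pullback.snd p b) σ' := by
  subst hab
  exact ⟨σ, hs⟩

-- the geometric form of twisted constancy is stable under base change
theorem TC.pullback {X S S' : Scheme.{u}} {p : X ⟶ S} (hp : TC p) (g : S' ⟶ S) :
    TC (pullback.snd p g) := by
  intro s'
  obtain ⟨T, a, ha, ⟨t, ht⟩, I, σ, hσ⟩ := hp (g s')
  obtain ⟨z, hz1, hz2⟩ := Scheme.Pullback.exists_preimage_pullback (f := a) (g := g) t s' ht
  refine ⟨Limits.pullback a g, pullback.snd a g, inferInstance, ⟨z, hz2⟩, I, ?_⟩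
  obtain ⟨σ₁, hσ₁⟩ := Sheets.comp_base hσ (pullback.fst a g)
  obtain ⟨σ₂, hσ₂⟩ := Sheets.congr_base (pullback.condition (f := a) (g := g)) hσ₁
  exact ⟨_, hσ₂.of_iso (pullbackLeftPullbackSndIso p g (pullback.snd a g)).symm _
    (pullbackLeftPullbackSndIso_inv_snd_snd p g (pullback.snd a g))⟩

-- the local rings of the spectrum of an integrally closed domain are geometrically unibranch
theorem isGeomUnibranch_stalk_Spec (R : Type u) [CommRing R] [IsDomain R] [IsIntegrallyClosed R]
    (x : Spec (.of R)) : CAlg2.IsGeomUnibranch ((Spec (.of R)).presheaf.stalk x) := by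
  haveI : IsIntegrallyClosed (Localization.AtPrime x.asIdeal) :=
    isIntegrallyClosed_of_isLocalization _ x.asIdeal.primeCompl
      (x.asIdeal.primeCompl_le_nonZeroDivisors)
  have h := Groth.Agent.S9812.result (Localization.AtPrime x.asIdeal)
  exact Groth.Agent.Lib.Helper4.Unibranch.isGeomUnibranch_of_ringEquiv
    (StructureSheaf.stalkIso R x).toRingEquiv h

-- a field-valued point of the spectrum of a domain with the fraction field: the induced map
-- of residue fields is bijective
theorem bijective_descResidueField_of_isFractionRing (R K : Type u) [CommRing R] [IsDomain R]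
    [Field K] [Algebra R K] [IsFractionRing R K] :
    Function.Bijective (Scheme.descResidueField (Scheme.stalkClosedPointTo
      (Spec.map (CommRingCat.ofHom (algebraMap R K))))).hom := by
  set g : Spec (.of K) ⟶ Spec (.of R) := Spec.map (CommRingCat.ofHom (algebraMap R K)) with hg
  set ψ := Scheme.descResidueField (Scheme.stalkClosedPointTo g) with hψ
  refine ⟨RingHom.injective _, ?_⟩
  have h1 : Spec.map ψ ≫ (Spec (.of R)).fromSpecResidueField (g (IsLocalRing.closedPoint K)) = g :=
    Scheme.descResidueField_stalkClosedPointTo_fromSpecResidueField K _ g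
  set θ := Spec.preimage ((Spec (.of R)).fromSpecResidueField (g (IsLocalRing.closedPoint K)))
    with hθ
  have h2 : Spec.map θ = (Spec (.of R)).fromSpecResidueField (g (IsLocalRing.closedPoint K)) :=
    Spec.map_preimage _
  have h3 : θ ≫ ψ = CommRingCat.ofHom (algebraMap R K) := by
    apply Spec.map_injective
    rw [Spec.map_comp, h2, h1]
  have key : ∀ a : R, ψ.hom (θ.hom a) = algebraMap R K a := fun a =>
    congrArg (fun φ => φ.hom a) h3
  intro z
  obtain ⟨a, b, hb, rfl⟩ := IsFractionRing.div_surjective (A := R) z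
  refine ⟨θ.hom a / θ.hom b, ?_⟩
  rw [map_div₀, key, key]

-- the existence part of the valuative criterion for twisted constant schemes
theorem TC.existence {X S : Scheme.{u}} {p : X ⟶ S} (hp : TC p) :
    ValuativeCriterion.Existence p := by
  intro Sq
  haveI : IsIntegrallyClosed Sq.R := inferInstance
  haveI : IsIntegral (Spec (.of Sq.R)) := inferInstance
  haveI : IrreducibleSpace (Spec (.of Sq.R)) := inferInstance
  have hS := isGeomUnibranch_stalk_Spec Sq.R
  set g : Spec (.of Sq.K) ⟶ Spec (.of Sq.R) :=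
    Spec.map (CommRingCat.ofHom (algebraMap Sq.R Sq.K)) with hg
  set pR := pullback.snd p Sq.i₂ with hpR
  have htc : TC pR := TC.pullback hp Sq.i₂
  haveI : Etale pR := htc.etale
  set τ : Spec (.of Sq.K) ⟶ Limits.pullback p Sq.i₂ := pullback.lift Sq.i₁ g Sq.commSq.w with hτ
  have hτ1 : τ ≫ pullback.fst p Sq.i₂ = Sq.i₁ := pullback.lift_fst _ _ _
  have hτ2 : τ ≫ pR = g := pullback.lift_snd _ _ _
  obtain ⟨l, hldef⟩ : ∃ l, l = τ (IsLocalRing.closedPoint Sq.K) := ⟨_, rfl⟩
  have hl : pR l = genericPoint (Spec (.of Sq.R)) := by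
    rw [hldef, ← Scheme.Hom.comp_apply, hτ2, genericPoint_eq_bot_of_affine]
    apply PrimeSpectrum.ext
    change Ideal.comap (algebraMap Sq.R Sq.K) _ = ⊥
    rw [show (IsLocalRing.closedPoint Sq.K).asIdeal = ⊥ from by
      rw [IsLocalRing.closedPoint]; exact IsLocalRing.maximalIdeal_eq_bot]
    rw [← RingHom.ker_eq_comap_bot]
    exact (RingHom.injective_iff_ker_eq_bot _).mp (IsFractionRing.injective Sq.R Sq.K)
  have hbij : Function.Bijective (pR.residueFieldMap l).hom := by
    rw [hldef]
    refine residueFieldMap_bijective_of_point (K := Sq.K) τ pR (g (IsLocalRing.closedPoint Sq.K))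
      (Scheme.descResidueField (Scheme.stalkClosedPointTo g))
      (bijective_descResidueField_of_isFractionRing Sq.R Sq.K) ?_
    rw [hτ2]
    exact (Scheme.descResidueField_stalkClosedPointTo_fromSpecResidueField Sq.K _ g).symm
  obtain ⟨U, hiso, hU⟩ := Groth.Agent.S19145.exists_section_of_bijective pR hS htc l hl hbij
  have hrτ : Set.range τ ⊆ Set.range U.ι := by
    rw [Scheme.Opens.range_ι, hU]
    rintro _ ⟨pt, rfl⟩
    have : pt = IsLocalRing.closedPoint Sq.K := Subsingleton.elim _ _
    rw [this, ← hldef]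
    exact subset_closure rfl
  have e1 : IsOpenImmersion.lift U.ι τ hrτ ≫ (U.ι ≫ pR) = g := by
    rw [← Category.assoc, IsOpenImmersion.lift_fac, hτ2]
  have e2 : IsOpenImmersion.lift U.ι τ hrτ = g ≫ inv (U.ι ≫ pR) := by
    rw [← e1, Category.assoc, IsIso.hom_inv_id, Category.comp_id]
  have e3 : g ≫ (inv (U.ι ≫ pR) ≫ U.ι) = τ := by
    rw [← Category.assoc, ← e2, IsOpenImmersion.lift_fac]
  refine CommSq.HasLift.mk' ⟨(inv (U.ι ≫ pR) ≫ U.ι) ≫ pullback.fst p Sq.i₂, ?_, ?_⟩
  · rw [← Category.assoc, e3, hτ1]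
  · rw [Category.assoc, pullback.condition, ← Category.assoc, Category.assoc _ U.ι, IsIso.inv_hom_id,
      Category.id_comp]

-- the full valuative criterion
theorem TC.valuativeCriterion {X S : Scheme.{u}} {p : X ⟶ S} (hp : TC p) :
    ValuativeCriterion p := by
  haveI := hp.isSeparated
  exact ValuativeCriterion.iff.mpr ⟨TC.existence hp, IsSeparated.valuativeCriterion p⟩

end Groth.Agent.Lib.Helper3.TwcD
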