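import Mathlib
import Groth.Agent.Lib.Helper3TwcD
import Groth.Agent.Lib.Helper14LocNoeth

set_option autoImplicit false
set_option linter.style.haveILetI false
set_option linter.unusedSectionVars false

universe u

open CategoryTheory AlgebraicGeometry Limits

namespace Groth.Agent.Lib.Helper3.TwcE

open Groth.Agent.Lib.Helper3.TwcA Groth.Agent.Lib.Helper3.TwcB Groth.Agent.Lib.Helper3.TwcC
  Groth.Agent.Lib.Helper3.TwcD Groth.Agent.Lib.Helper3.IrrTop

-- geometrically unibranch local rings have a prime nilradical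
theorem nilradical_isPrime_of_isGeomUnibranch (A : Type u) [CommRing A] [IsLocalRing A]
    (h : CAlg2.IsGeomUnibranch A) : (nilradical A).IsPrime := by
  have h1 : IsDomain (CAlg2.red A) := h.1.1
  exact (Ideal.Quotient.isDomain_iff_prime (nilradical A)).mp h1

-- if all the local rings have a prime nilradical, the irreducible components are disjoint
theorem pairwiseDisjoint_irreducibleComponents {S : Scheme.{u}}
    (hmin : ∀ s : S, (nilradical (S.presheaf.stalk s)).IsPrime) :
    (irreducibleComponents S).PairwiseDisjoint id := by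
  intro Z₁ hZ₁ Z₂ hZ₂ hne
  rw [Function.onFun, Set.disjoint_iff]
  rintro s ⟨hs₁, hs₂⟩
  apply hne
  haveI := hmin s
  let K : PrimeSpectrum (S.presheaf.stalk s) := ⟨nilradical _, hmin s⟩
  suffices key : ∀ Z ∈ irreducibleComponents S, s ∈ Z → Z = closure {S.fromSpecStalk s K} by
    change Z₁ = Z₂
    rw [key Z₁ hZ₁ hs₁, key Z₂ hZ₂ hs₂]
  intro Z hZ hsZ
  have hcl : IsClosed Z := isClosed_of_mem_irreducibleComponents Z hZ
  let ζ := hZ.1.genericPoint
  have hζ : closure {ζ} = Z := (hZ.1.isGenericPoint_genericPoint hcl).def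
  have hζs : ζ ⤳ s := by
    rw [specializes_iff_mem_closure, hζ]; exact hsZ
  obtain ⟨P, hP⟩ : ζ ∈ Set.range (S.fromSpecStalk s) := by
    rw [Scheme.range_fromSpecStalk]; exact hζs
  have hKP : K ⤳ P := by
    rw [← PrimeSpectrum.le_iff_specializes]
    change nilradical _ ≤ P.asIdeal
    exact nilradical_le_prime P.asIdeal
  have h2 : S.fromSpecStalk s K ⤳ ζ := by
    rw [← hP]; exact hKP.map (S.fromSpecStalk s).continuous
  have hle : Z ⊆ closure {S.fromSpecStalk s K} := by
    rw [← hζ, isClosed_closure.closure_subset_iff, Set.singleton_subset_iff]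
    exact specializes_iff_mem_closure.mp h2
  exact le_antisymm hle (hZ.2 isIrreducible_singleton.closure hle)

-- a locally Noetherian scheme is locally Noetherian as a space
theorem exists_noetherianSpace_nhds (S : Scheme.{u}) [IsLocallyNoetherian S] (x : S) :
    ∃ U ∈ nhds x, TopologicalSpace.NoetherianSpace U := by
  obtain ⟨_, ⟨(V : S.Opens), hV, rfl⟩, hxV, -⟩ :=
    S.isBasis_affineOpens.exists_subset_of_mem_open (Set.mem_univ x) isOpen_univ
  haveI : IsNoetherianRing Γ(S, V) := IsLocallyNoetherian.component_noetherian ⟨V, hV⟩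
  exact ⟨V, V.isOpen.mem_nhds hxV, noetherianSpace_of_isAffineOpen V hV⟩

-- the connected components of a locally Noetherian scheme with geometrically unibranch local
-- rings are open and irreducible
theorem isOpen_and_isIrreducible_connectedComponent {S : Scheme.{u}} [IsLocallyNoetherian S]
    (hmin : ∀ s : S, (nilradical (S.presheaf.stalk s)).IsPrime) (s : S) :
    IsOpen (connectedComponent s) ∧ IsIrreducible (connectedComponent s) := by
  have htfae := Groth.Agent.Lib.Helper14.irreducibleComponents_tfae S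
    (exists_noetherianSpace_nhds S)
  have h4 := pairwiseDisjoint_irreducibleComponents hmin
  have h1 := (htfae.out 3 0).mp h4
  have h2 := (htfae.out 3 1).mp h4
  have h3 := (htfae.out 3 2).mp h4
  refine ⟨h1 _ ?_, h3 s⟩
  rw [h2]; exact ⟨s, rfl⟩

-- invariance of the geometric form of twisted constancy under isomorphisms of the source
theorem TC.of_iso {X X' S : Scheme.{u}} {p : X ⟶ S} (hp : TC p) (e : X' ≅ X) : TC (e.hom ≫ p) := by
  intro s
  obtain ⟨T, a, ha, hs, I, σ, hσ⟩ := hp s
  refine ⟨T, a, ha, hs, I, ?_⟩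
  let m : Limits.pullback (e.hom ≫ p) a ⟶ Limits.pullback p a :=
    pullback.map (e.hom ≫ p) a p a e.hom (𝟙 T) (𝟙 S) (by simp) (by simp)
  haveI : IsIso m := by dsimp only [m]; infer_instance
  have hm : m ≫ pullback.snd p a = pullback.snd (e.hom ≫ p) a := by
    dsimp only [m]
    rw [pullback.lift_snd, Category.comp_id]
  refine ⟨_, hσ.of_iso (asIso m).symm (pullback.snd (e.hom ≫ p) a) ?_⟩
  rw [Iso.symm_hom, asIso_inv, IsIso.inv_comp_eq, hm]

theorem TC.of_isPullback {X S X' S' : Scheme.{u}} {p : X ⟶ S} (hp : TC p) {g : S' ⟶ S}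
    {f : X' ⟶ X} {p' : X' ⟶ S'} (h : IsPullback f p' p g) : TC p' := by
  have h1 := TC.of_iso (TC.pullback hp g) h.isoPullback
  rwa [IsPullback.isoPullback_hom_snd] at h1

-- geometrically unibranch local rings on an open subscheme
theorem isGeomUnibranch_stalk_opens {S : Scheme.{u}}
    (hS : ∀ s : S, CAlg2.IsGeomUnibranch (S.presheaf.stalk s)) (V : S.Opens) (y : V) :
    CAlg2.IsGeomUnibranch ((V : Scheme.{u}).presheaf.stalk y) :=
  Groth.Agent.Lib.Helper4.Unibranch.isGeomUnibranch_of_ringEquiv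
    (V.stalkIso y).symm.commRingCatIsoToRingEquiv (hS y.1)

-- the main theorem: connected components of a twisted constant scheme over a locally Noetherian
-- geometrically unibranch base are open and finite over the base
theorem TC.exists_component {X S : Scheme.{u}} [IsLocallyNoetherian S]
    (hS : ∀ s : S, CAlg2.IsGeomUnibranch (S.presheaf.stalk s)) {p : X ⟶ S} (hp : TC p) (x : X) :
    ∃ U : X.Opens, (U : Set X) = connectedComponent x ∧ IsFinite (U.ι ≫ p) := by
  have hmin : ∀ s : S, (nilradical (S.presheaf.stalk s)).IsPrime := fun s =>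
    nilradical_isPrime_of_isGeomUnibranch _ (hS s)
  obtain ⟨hopen, hirr⟩ := isOpen_and_isIrreducible_connectedComponent hmin (p x)
  let S₀ : S.Opens := ⟨connectedComponent (p x), hopen⟩
  have hS₀cl : IsClosed (S₀ : Set S) := isClosed_connectedComponent
  haveI : IrreducibleSpace S₀ := Subtype.irreducibleSpace hirr
  haveI : IrreducibleSpace (S₀ : Scheme.{u}) := ‹IrreducibleSpace S₀›
  have hS₀ := isGeomUnibranch_stalk_opens hS S₀
  set p₀ := p ∣_ S₀ with hp₀
  have htc : TC p₀ := TC.of_isPullback hp (isPullback_morphismRestrict p S₀).flip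
  haveI : Etale p₀ := htc.etale
  have hxmem : x ∈ p ⁻¹ᵁ S₀ := by
    change p x ∈ connectedComponent (p x)
    exact mem_connectedComponent
  let x₀ : (p ⁻¹ᵁ S₀ : Scheme.{u}) := ⟨x, hxmem⟩
  have hyp := hyp_of_etale p₀ hS₀
  obtain ⟨l, hl, hlx⟩ := hyp.ex x₀
  obtain ⟨U₀, hU₀, hU₀cl⟩ := Groth.Agent.S19145.exists_component p₀ hS₀ l hl
  have hfin : IsFinite (U₀.ι ≫ p₀) := isFinite_component p₀ hS₀ htc l hl U₀ hU₀
  refine ⟨(p ⁻¹ᵁ S₀).ι ''ᵁ U₀, ?_, ?_⟩
  · have hcoe : (((p ⁻¹ᵁ S₀).ι ''ᵁ U₀ : X.Opens) : Set X) =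
        (Subtype.val : (p ⁻¹ᵁ S₀) → X) '' (U₀ : Set (p ⁻¹ᵁ S₀)) := by
      ext y
      constructor
      · rintro ⟨z, hz, rfl⟩
        exact ⟨z, hz, rfl⟩
      · rintro ⟨z, hz, rfl⟩
        exact ⟨z, hz, rfl⟩
    rw [hcoe]
    apply le_antisymm
    · have hpre : _root_.IsPreconnected ((Subtype.val : (p ⁻¹ᵁ S₀) → X) '' (U₀ : Set (p ⁻¹ᵁ S₀))) := by
        rw [hU₀]
        exact (isIrreducible_singleton.closure.isPreirreducible.isPreconnected).image _
          continuous_subtype_val.continuousOn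
      refine hpre.subset_connectedComponent ⟨x₀, ?_, rfl⟩
      rw [hU₀]
      exact specializes_iff_mem_closure.mp hlx
    · have hclosed : IsClosed ((Subtype.val : (p ⁻¹ᵁ S₀) → X) '' (U₀ : Set (p ⁻¹ᵁ S₀))) := by
        have hce : Topology.IsClosedEmbedding (Subtype.val : (p ⁻¹ᵁ S₀) → X) :=
          IsClosed.isClosedEmbedding_subtypeVal (hS₀cl.preimage p.continuous)
        exact hce.isClosedMap _ hU₀cl
      have hop : IsOpen ((Subtype.val : (p ⁻¹ᵁ S₀) → X) '' (U₀ : Set (p ⁻¹ᵁ S₀))) :=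
        (p ⁻¹ᵁ S₀).isOpen.isOpenEmbedding_subtypeVal.isOpenMap _ U₀.isOpen
      refine IsClopen.connectedComponent_subset ⟨hclosed, hop⟩ ⟨x₀, ?_, rfl⟩
      rw [hU₀]
      exact specializes_iff_mem_closure.mp hlx
  · haveI : IsClosedImmersion S₀.ι := by
      apply IsClosedImmersion.of_isPreimmersion
      rw [Scheme.Opens.range_ι]
      exact hS₀cl
    have heq : ((p ⁻¹ᵁ S₀).ι ''ᵁ U₀).ι ≫ p =
        ((p ⁻¹ᵁ S₀).ι.isoImage U₀).inv ≫ (U₀.ι ≫ p₀) ≫ S₀.ι := by
      rw [Category.assoc, hp₀, morphismRestrict_ι, ← Category.assoc U₀.ι, ← Category.assoc,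
        ← Category.assoc, Category.assoc _ U₀.ι, Scheme.Hom.isoImage_inv_ι]
    rw [heq]
    infer_instance

end Groth.Agent.Lib.Helper3.TwcE
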