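import Mathlib
import Groth.Agent.Lib.Helper3TwcE
import Groth.Agent.Lib.Helper3SmNil

set_option autoImplicit false
set_option linter.style.haveILetI false
set_option linter.unusedSectionVars false

universe u

open CategoryTheory AlgebraicGeometry Limits

namespace Groth.Agent.Lib.Helper3.TwcF

open Groth.Agent.Lib.Helper3.TwcA Groth.Agent.Lib.Helper3.TwcB Groth.Agent.Lib.Helper3.TwcC
  Groth.Agent.Lib.Helper3.IrrTop

-- every scheme etale over `S` has local rings with prime nilradical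
def EUB (S : Scheme.{u}) : Prop :=
  ∀ (X : Scheme.{u}) (g : X ⟶ S), Etale g → ∀ x : X, (nilradical (X.presheaf.stalk x)).IsPrime

theorem EUB.of_isGeomUnibranch {S : Scheme.{u}}
    (hS : ∀ s : S, CAlg2.IsGeomUnibranch (S.presheaf.stalk s)) : EUB S := by
  intro X g hg x
  exact Groth.Agent.Lib.Helper3.EtGUSch.nilradical_isPrime_stalk_of_etale_nhd g x (hS _)
    ⟨⊤, trivial, inferInstance⟩

theorem EUB.of_smooth {P S : Scheme.{u}} (f : P ⟶ S) [Smooth f]
    (hS : ∀ s : S, CAlg2.IsGeomUnibranch (S.presheaf.stalk s)) : EUB P := by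
  intro X g hg x
  haveI : Smooth g := inferInstance
  exact Groth.Agent.Lib.Helper3.SmNil.nilradical_isPrime_stalk_of_smooth (g ≫ f) x (hS _)

theorem EUB.of_etale {P S : Scheme.{u}} (f : P ⟶ S) [Etale f] (hS : EUB S) : EUB P := by
  intro X g hg x
  exact hS X (g ≫ f) inferInstance x

section core

variable {X S : Scheme.{u}} (p : X ⟶ S) [IrreducibleSpace S] (hS : EUB S)

include hS

-- the generic fibre satisfies the standing hypotheses on generizations
theorem hyp_of_etale [Etale p] : Hyp (p ⁻¹' {genericPoint S}) := by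
  haveI := locallyQuasiFinite_of_unramified p
  exact hyp_genericFiber p (fun x => hS X p inferInstance x)

-- refinement of a trivialisation to an irreducible etale neighbourhood
theorem exists_irreducible_refinement (hp : TC p) (s : S) :
    ∃ (T : Scheme.{u}) (a : T ⟶ S), Etale a ∧ s ∈ Set.range a ∧ IrreducibleSpace T ∧
      ∃ (I : Type u) (σ : I → (T ⟶ pullback p a)), Sheets (pullback.snd p a) σ := by
  obtain ⟨T₀, a₀, ha₀, ⟨t, ht⟩, I, σ, hσ⟩ := hp s
  have hyp := hyp_of_etale a₀ hS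
  obtain ⟨Z, ⟨hZ, htZ⟩, -⟩ := hyp.existsUnique_component t
  have hZo : IsOpen Z := hyp.isOpen_component hZ
  let C : T₀.Opens := ⟨Z, hZo⟩
  refine ⟨C, C.ι ≫ a₀, inferInstance, ⟨⟨t, htZ⟩, ?_⟩, ?_, I, Groth.Agent.Lib.Helper3.TwcB.Sheets.comp_base hσ C.ι⟩
  · rw [Scheme.Hom.comp_apply]
    exact ht
  · exact Subtype.irreducibleSpace hZ.1


-- local description of a component of `X`
theorem exists_local_sheets [Etale p] (hp : TC p) (l : X) (hl : p l = genericPoint S)
    (U : X.Opens) (hU : (U : Set X) = closure {l}) (s : S) :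
    ∃ (T : Scheme.{u}) (a : T ⟶ S) (_ : Etale a) (_ : IrreducibleSpace T), s ∈ Set.range a ∧
      ∃ (J : Type u) (τ : J → (T ⟶ pullback (U.ι ≫ p) a)),
        Sheets (pullback.snd (U.ι ≫ p) a) τ ∧
        ∀ j, U.ι (pullback.fst (U.ι ≫ p) a (τ j (genericPoint T))) = l ∧
          pullback.snd (U.ι ≫ p) a (τ j (genericPoint T)) = genericPoint T := by
  obtain ⟨T, a, ha, hs, hT, I, σ, hσ⟩ := exists_irreducible_refinement p hS hp s
  have hyp := hyp_of_etale p hS
  obtain ⟨m, hm⟩ : ∃ m : pullback (U.ι ≫ p) a ⟶ pullback p a,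
      m = pullback.map (U.ι ≫ p) a p a U.ι (𝟙 T) (𝟙 S) (by simp) (by simp) := ⟨_, rfl⟩
  haveI : IsOpenImmersion m := by rw [hm]; infer_instance
  have hm_snd : m ≫ pullback.snd p a = pullback.snd (U.ι ≫ p) a := by
    rw [hm, pullback.lift_snd, Category.comp_id]
  have hcl : IsClosed (Set.range m) := by
    rw [hm, Scheme.Pullback.range_map]
    have h1 : Set.range U.ι = closure {l} := by rw [Scheme.Opens.range_ι, hU]
    have h2 : Set.range (𝟙 T : T ⟶ T) = Set.univ := by
      rw [Set.range_eq_univ]; exact fun t => ⟨t, rfl⟩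
    rw [h1, h2, Set.preimage_univ, Set.inter_univ]
    exact isClosed_closure.preimage (pullback.fst p a).continuous
  obtain ⟨τ, hτ, hsh⟩ := hσ.restrict (genericPoint T) m hcl
  rw [hm_snd] at hsh
  refine ⟨T, a, ha, hT, hs, _, τ, hsh, fun j => ⟨?_, hsh.apply_sec j _⟩⟩
  obtain ⟨u, hu⟩ : ∃ u, u = pullback.fst (U.ι ≫ p) a (τ j (genericPoint T)) := ⟨_, rfl⟩
  rw [← hu]
  have hxU : U.ι u ∈ closure ({l} : Set X) := by
    rw [← hU]; exact u.2
  have hpx : p (U.ι u) = genericPoint S := by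
    rw [← Scheme.Hom.comp_apply, hu, ← Scheme.Hom.comp_apply, pullback.condition,
      Scheme.Hom.comp_apply, hsh.apply_sec, apply_genericPoint]
  exact (hyp.eq_of_specializes hl hpx (specializes_iff_mem_closure.mpr hxU)).symm


-- each component of `X` is finite over `S`
theorem isFinite_component [Etale p] (hp : TC p) (l : X) (hl : p l = genericPoint S)
    (U : X.Opens) (hU : (U : Set X) = closure {l}) : IsFinite (U.ι ≫ p) := by
  haveI := Groth.Agent.Lib.Helper12.descendsAlong_isFinite.{u}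
  apply of_local_pullback (P := @IsFinite)
  intro s
  obtain ⟨T, a, ha, hT, hs, J, τ, hsh, hgen⟩ := exists_local_sheets p hS hp l hl U hU s
  refine ⟨T, a, inferInstance, inferInstance, hs, ?_⟩
  suffices hfin : Finite J from hsh.isFinite
  haveI := hsh.isOpenImmersion
  have hlU : l ∈ U := by
    change l ∈ (U : Set X)
    rw [hU]; exact subset_closure rfl
  -- an affine open of `S` containing the generic point
  obtain ⟨_, ⟨(V : S.Opens), hV, rfl⟩, hηV, -⟩ := S.isBasis_affineOpens.exists_subset_of_mem_open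
    (Set.mem_univ (genericPoint S)) isOpen_univ
  replace hV : IsAffineOpen V := hV
  -- affine neighbourhoods of `l` and of the generic point of `T` lying over `V`
  have hl' : (⟨l, hlU⟩ : U) ∈ (U.ι ≫ p) ⁻¹ᵁ V := by
    change (U.ι ≫ p) ⟨l, hlU⟩ ∈ V
    rw [Scheme.Hom.comp_apply]
    change p l ∈ V
    rw [hl]; exact hηV
  obtain ⟨_, ⟨(A : (U : Scheme.{u}).Opens), hA, rfl⟩, hlA, hAV⟩ := (U : Scheme.{u}).isBasis_affineOpens.exists_subset_of_mem_open
    hl' ((U.ι ≫ p) ⁻¹ᵁ V).isOpen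
  replace hA : IsAffineOpen A := hA
  have ht₀ : genericPoint T ∈ a ⁻¹ᵁ V := by
    change a (genericPoint T) ∈ V
    rw [apply_genericPoint]; exact hηV
  obtain ⟨_, ⟨(T₁ : T.Opens), hT₁, rfl⟩, htT₁, hT₁V⟩ := T.isBasis_affineOpens.exists_subset_of_mem_open
    ht₀ (a ⁻¹ᵁ V).isOpen
  replace hT₁ : IsAffineOpen T₁ := hT₁
  have hr1 : Set.range (A.ι ≫ U.ι ≫ p) ⊆ Set.range V.ι := by
    rw [Scheme.Opens.range_ι]
    rintro _ ⟨x, rfl⟩
    exact hAV x.2
  have hr2 : Set.range (T₁.ι ≫ a) ⊆ Set.range V.ι := by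
    rw [Scheme.Opens.range_ι]
    rintro _ ⟨x, rfl⟩
    exact hT₁V x.2
  obtain ⟨qA, hqA⟩ : ∃ qA : (A : Scheme.{u}) ⟶ V, qA ≫ V.ι = A.ι ≫ U.ι ≫ p :=
    ⟨IsOpenImmersion.lift V.ι _ hr1, IsOpenImmersion.lift_fac _ _ _⟩
  obtain ⟨aT, haT⟩ : ∃ aT : (T₁ : Scheme.{u}) ⟶ V, aT ≫ V.ι = T₁.ι ≫ a :=
    ⟨IsOpenImmersion.lift V.ι _ hr2, IsOpenImmersion.lift_fac _ _ _⟩
  haveI : IsAffine (A : Scheme.{u}) := hA
  haveI : IsAffine (T₁ : Scheme.{u}) := hT₁
  haveI : IsAffine (V : Scheme.{u}) := hV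
  obtain ⟨k, hk⟩ : ∃ k : pullback qA aT ⟶ pullback (U.ι ≫ p) a,
      k = pullback.map qA aT (U.ι ≫ p) a A.ι T₁.ι V.ι hqA haT := ⟨_, rfl⟩
  have hK : IsCompact (Set.range k) := isCompact_range k.continuous
  have hKeq : Set.range k = pullback.fst (U.ι ≫ p) a ⁻¹' Set.range A.ι ∩
      pullback.snd (U.ι ≫ p) a ⁻¹' Set.range T₁.ι := by
    rw [hk, Scheme.Pullback.range_map]
  have hτK : ∀ j, τ j (genericPoint T) ∈ Set.range k := by
    intro j
    rw [hKeq, Scheme.Opens.range_ι, Scheme.Opens.range_ι]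
    refine ⟨?_, ?_⟩
    · change pullback.fst (U.ι ≫ p) a (τ j (genericPoint T)) ∈ A
      have h1 : pullback.fst (U.ι ≫ p) a (τ j (genericPoint T)) = ⟨l, hlU⟩ := by
        apply U.ι.injective
        rw [(hgen j).1]
        rfl
      rw [h1]; exact hlA
    · change pullback.snd (U.ι ≫ p) a (τ j (genericPoint T)) ∈ T₁
      rw [(hgen j).2]; exact htT₁
  have hcov : Set.range k ⊆ ⋃ j, Set.range (τ j) := by
    intro y _
    obtain ⟨j, t, ht⟩ := hsh.cover y
    exact Set.mem_iUnion.mpr ⟨j, t, ht⟩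
  obtain ⟨F, hF⟩ := hK.elim_finite_subcover (fun j => Set.range (τ j))
    (fun j => (τ j).isOpenEmbedding.isOpen_range) hcov
  have hall : ∀ j : J, j ∈ F := by
    intro j
    have := hF (hτK j)
    simp only [Set.mem_iUnion] at this
    obtain ⟨j', hj'F, t', ht'⟩ := this
    have : j' = j := hsh.disj j' j t' _ ht'
    rw [← this]; exact hj'F
  haveI : Fintype J := ⟨F, hall⟩
  exact Finite.of_fintype J

-- the component of a point of the generic fibre, as an open subscheme
theorem exists_component [Etale p] (l : X) (hl : p l = genericPoint S) :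
    ∃ U : X.Opens, (U : Set X) = closure ({l} : Set X) ∧ IsClosed (U : Set X) := by
  have hyp := hyp_of_etale p hS
  refine ⟨⟨closure {l}, hyp.isOpen_component (hyp.closure_mem hl)⟩, rfl, isClosed_closure⟩

-- each component surjects onto the base
theorem surjective_component [Etale p] (hp : TC p) (l : X) (hl : p l = genericPoint S)
    (U : X.Opens) (hU : (U : Set X) = closure {l}) : Surjective (U.ι ≫ p) := by
  have hfin := isFinite_component p hS hp l hl U hU
  refine ⟨?_⟩
  have hcl : IsClosed (Set.range (U.ι ≫ p)) := (U.ι ≫ p).isClosedMap.isClosed_range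
  have hlU : l ∈ U := by
    change l ∈ (U : Set X)
    rw [hU]; exact subset_closure rfl
  have hη : genericPoint S ∈ Set.range (U.ι ≫ p) := by
    refine ⟨⟨l, hlU⟩, ?_⟩
    rw [Scheme.Hom.comp_apply]
    exact hl
  intro s
  have h1 : closure {genericPoint S} ⊆ Set.range (U.ι ≫ p) :=
    hcl.closure_subset_iff.mpr (Set.singleton_subset_iff.mpr hη)
  rw [(genericPoint_spec S).def] at h1
  exact h1 (Set.mem_univ s)

end core

end Groth.Agent.Lib.Helper3.TwcF
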