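import Mathlib
import Groth.Agent.Lib.Helper3TwcF
import Groth.Agent.Lib.Helper3TorsB

set_option autoImplicit false
set_option linter.style.haveILetI false
set_option linter.unusedSectionVars false

universe u

open CategoryTheory AlgebraicGeometry Limits

namespace Groth.Agent.Lib.Helper3.TorsC

open Groth.Agent.Lib.Helper3.TwcA Groth.Agent.Lib.Helper3.TwcB Groth.Agent.Lib.Helper3.TwcE
  Groth.Agent.Lib.Helper3.TwcF

-- a quasi-compact disjoint union of copies of a nonempty scheme has finitely many sheets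
theorem Sheets.finite_of_quasiCompact {Y T : Scheme.{u}} {h : Y ⟶ T} {I : Type u}
    {σ : I → (T ⟶ Y)} (hs : Sheets h σ) [QuasiCompact h] (t₀ : T) : Finite I := by
  obtain ⟨_, ⟨(V : T.Opens), hV, rfl⟩, htV, -⟩ := T.isBasis_affineOpens.exists_subset_of_mem_open
    (Set.mem_univ t₀) isOpen_univ
  replace hV : IsAffineOpen V := hV
  have hK : IsCompact (h ⁻¹' (V : Set T)) :=
    QuasiCompact.isCompact_preimage _ V.isOpen hV.isCompact
  haveI := hs.isOpenImmersion
  have hcov : h ⁻¹' (V : Set T) ⊆ ⋃ i, Set.range (σ i) := by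
    intro y _
    obtain ⟨i, t, ht⟩ := hs.cover y
    exact Set.mem_iUnion.mpr ⟨i, t, ht⟩
  obtain ⟨F, hF⟩ := hK.elim_finite_subcover (fun i => Set.range (σ i))
    (fun i => (σ i).isOpenEmbedding.isOpen_range) hcov
  have hall : ∀ i : I, i ∈ F := by
    intro i
    have hmem : σ i t₀ ∈ h ⁻¹' (V : Set T) := by
      change h (σ i t₀) ∈ V
      rw [hs.apply_sec]; exact htV
    have := hF hmem
    simp only [Set.mem_iUnion] at this
    obtain ⟨i', hi'F, t', ht'⟩ := this
    have : i' = i := hs.disj i' i t' _ ht'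
    rw [← this]; exact hi'F
  haveI : Fintype I := ⟨F, hall⟩
  exact Finite.of_fintype I

-- a morphism whose second projection from the self fibre product is an isomorphism is a
-- monomorphism
theorem mono_of_isIso_pullback_snd {A B : Scheme.{u}} (f : A ⟶ B) [IsIso (pullback.snd f f)] :
    Mono f := by
  have hΔ : pullback.lift (𝟙 A) (𝟙 A) rfl ≫ pullback.snd f f = 𝟙 A := pullback.lift_snd _ _ _
  have hΔ' : pullback.snd f f ≫ pullback.lift (𝟙 A) (𝟙 A) rfl = 𝟙 _ := by
    rw [← cancel_mono (pullback.snd f f), Category.assoc, hΔ, Category.comp_id, Category.id_comp]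
  have heq : pullback.fst f f = pullback.snd f f := by
    have h1 := congrArg (fun φ => φ ≫ pullback.fst f f) hΔ'
    simp only [Category.assoc, pullback.lift_fst, Category.comp_id, Category.id_comp] at h1
    exact h1.symm
  refine ⟨fun {W} a b hab => ?_⟩
  have ha : pullback.lift a b hab ≫ pullback.fst f f = a := pullback.lift_fst _ _ _
  have hb : pullback.lift a b hab ≫ pullback.snd f f = b := pullback.lift_snd _ _ _
  exact ha.symm.trans ((congrArg (fun φ => pullback.lift a b hab ≫ φ) heq).trans hb)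

-- the main step: a section over an open, closed and irreducible part of the base
theorem exists_section_over_component {Xl P : Scheme.{u}} (p : Xl ⟶ P) [Etale p] [Surjective p]
    {Z : Type u} [Group Z] (hZ : ∀ z : Z, IsOfFinOrder z → z = 1)
    (Lt : Z → (Xl ⟶ Xl)) (hL1 : Lt 1 = 𝟙 Xl) (hLmul : ∀ z w, Lt (z * w) = Lt w ≫ Lt z)
    (τ : Z → (Xl ⟶ pullback p p)) (hτ : ∀ z, τ z ≫ pullback.fst p p = Lt z)
    (hsh : Sheets (pullback.snd p p) τ)
    (P₀ : P.Opens) (hirr : IsIrreducible (P₀ : Set P)) (hcl : IsClosed (P₀ : Set P))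
    (heub : EUB (P₀ : Scheme.{u})) :
    ∃ s : (P₀ : Scheme.{u}) ⟶ Xl, s ≫ p = P₀.ι := by
  have hp : TC p := fun s => by
    obtain ⟨e, he⟩ := p.surjective s
    exact ⟨Xl, p, inferInstance, ⟨e, he⟩, Z, τ, hsh⟩
  haveI : IrreducibleSpace P₀ := Subtype.irreducibleSpace hirr
  haveI : IrreducibleSpace (P₀ : Scheme.{u}) := ‹IrreducibleSpace P₀›
  set p₀ := p ∣_ P₀ with hp₀
  have htc : TC p₀ := TC.of_isPullback hp (isPullback_morphismRestrict p P₀).flip
  haveI : Etale p₀ := htc.etale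
  -- a point over the generic point
  obtain ⟨e₀, he₀⟩ := p.surjective (genericPoint P₀).1
  have he₀mem : e₀ ∈ p ⁻¹ᵁ P₀ := by
    change p e₀ ∈ P₀
    rw [he₀]; exact (genericPoint P₀).2
  obtain ⟨l, hldef⟩ : ∃ l : (p ⁻¹ᵁ P₀ : Scheme.{u}), l = ⟨e₀, he₀mem⟩ := ⟨_, rfl⟩
  have hl : p₀ l = genericPoint (P₀ : Scheme.{u}) := by
    apply P₀.ι.injective
    rw [← Scheme.Hom.comp_apply, hp₀, morphismRestrict_ι, Scheme.Hom.comp_apply, hldef]
    exact he₀
  obtain ⟨U₀, hU₀, hU₀cl⟩ := exists_component p₀ heub l hl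
  have hfin : IsFinite (U₀.ι ≫ p₀) := isFinite_component p₀ heub htc l hl U₀ hU₀
  have hsurj₀ : Surjective (U₀.ι ≫ p₀) := surjective_component p₀ heub htc l hl U₀ hU₀
  haveI : IsClosedImmersion P₀.ι := by
    apply IsClosedImmersion.of_isPreimmersion
    rw [Scheme.Opens.range_ι]
    exact hcl
  obtain ⟨j, hj⟩ : ∃ j : (U₀ : Scheme.{u}) ⟶ Xl, j = U₀.ι ≫ (p ⁻¹ᵁ P₀).ι := ⟨_, rfl⟩
  haveI : IsOpenImmersion j := by rw [hj]; infer_instance
  have hjp : j ≫ p = (U₀.ι ≫ p₀) ≫ P₀.ι := by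
    rw [hj, Category.assoc, Category.assoc, hp₀, morphismRestrict_ι]
  obtain ⟨q', hq'⟩ : ∃ q' : (U₀ : Scheme.{u}) ⟶ P, q' = j ≫ p := ⟨_, rfl⟩
  haveI : IsFinite q' := by rw [hq', hjp]; infer_instance
  -- the range of `j` is closed
  have hjcl : IsClosed (Set.range j) := by
    have h1 : Set.range j = (p ⁻¹ᵁ P₀).ι '' (U₀ : Set (p ⁻¹ᵁ P₀ : Scheme.{u})) := by
      rw [hj, Scheme.Hom.comp_base, TopCat.coe_comp, Set.range_comp, Scheme.Opens.range_ι]
    rw [h1]
    have hce : Topology.IsClosedEmbedding (p ⁻¹ᵁ P₀).ι :=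
      ⟨(p ⁻¹ᵁ P₀).ι.isOpenEmbedding.isEmbedding, by
        rw [Scheme.Opens.range_ι]; exact hcl.preimage p.continuous⟩
    exact hce.isClosedMap _ hU₀cl
  -- the component is connected
  haveI : PreconnectedSpace (U₀ : Scheme.{u}) := by
    have h1 : _root_.IsPreconnected (U₀ : Set (p ⁻¹ᵁ P₀ : Scheme.{u})) := by
      rw [hU₀]
      exact isIrreducible_singleton.closure.isPreirreducible.isPreconnected
    exact Subtype.preconnectedSpace h1
  -- the trivialisation over the component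
  obtain ⟨σ', hσ'fst, hsh'⟩ : ∃ σ' : Z → ((U₀ : Scheme.{u}) ⟶ pullback p q'),
      (∀ z, σ' z ≫ pullback.fst p q' = j ≫ Lt z) ∧ Sheets (pullback.snd p q') σ' := by
    rw [hq']
    refine ⟨fun z => hsh.pbSec j z ≫ (pullbackLeftPullbackSndIso p p j).hom, fun z => ?_,
      (hsh.pullback j).of_iso (pullbackLeftPullbackSndIso p p j) _
        (pullbackLeftPullbackSndIso_hom_snd p p j)⟩
    rw [Category.assoc, pullbackLeftPullbackSndIso_hom_fst, Sheets.pbSec, pullback.lift_fst_assoc,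
      Category.assoc, hτ]
  -- the open and closed subscheme `C ×_P C`
  obtain ⟨m, hm⟩ : ∃ m : pullback q' q' ⟶ pullback p q',
      m = pullback.map q' q' p q' j (𝟙 _) (𝟙 P) (by rw [hq', Category.comp_id])
        (by rw [Category.comp_id, Category.id_comp]) := ⟨_, rfl⟩
  haveI : IsOpenImmersion m := by rw [hm]; infer_instance
  have hm_snd : m ≫ pullback.snd p q' = pullback.snd q' q' := by
    rw [hm, pullback.lift_snd, Category.comp_id]
  have hrange : Set.range m = pullback.fst p q' ⁻¹' Set.range j := by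
    rw [hm, Scheme.Pullback.range_map]
    have h2 : Set.range (𝟙 (U₀ : Scheme.{u}) : (U₀ : Scheme.{u}) ⟶ _) = Set.univ := by
      rw [Set.range_eq_univ]; exact fun t => ⟨t, rfl⟩
    rw [h2, Set.preimage_univ, Set.inter_univ]
  have hmcl : IsClosed (Set.range m) := by
    rw [hrange]; exact hjcl.preimage (pullback.fst p q').continuous
  have hlU₀ : l ∈ U₀ := by
    change l ∈ (U₀ : Set (p ⁻¹ᵁ P₀ : Scheme.{u}))
    rw [hU₀]; exact subset_closure rfl
  obtain ⟨t₀, -⟩ : ∃ t₀ : (U₀ : Scheme.{u}), t₀ = ⟨l, hlU₀⟩ := ⟨_, rfl⟩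
  obtain ⟨τ', hτ', hsh''⟩ := hsh'.restrict t₀ m hmcl
  rw [hm_snd] at hsh''
  -- properties of the index set
  have hfst : ∀ z t, pullback.fst p q' (σ' z t) = Lt z (j t) := by
    intro z t
    rw [← Scheme.Hom.comp_apply, hσ'fst, Scheme.Hom.comp_apply]
  have key1 : ∀ z : Z, σ' z t₀ ∈ Set.range m → ∀ t, Lt z (j t) ∈ Set.range j := by
    intro z hz t
    have h1 : σ' z t ∈ Set.range m := ⟨τ' ⟨z, hz⟩ t, by rw [← Scheme.Hom.comp_apply, hτ']⟩
    rw [hrange] at h1
    rw [← hfst]; exact h1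
  have key2 : ∀ z : Z, (∀ t, Lt z (j t) ∈ Set.range j) → σ' z t₀ ∈ Set.range m := by
    intro z hz
    rw [hrange]
    change pullback.fst p q' (σ' z t₀) ∈ Set.range j
    rw [hfst]; exact hz t₀
  have key3 : ∀ z : Z, (∀ t, Lt z (j t) ∈ Set.range j) →
      ∀ n : ℕ, ∀ t, Lt (z ^ n) (j t) ∈ Set.range j := by
    intro z hz n
    induction n with
    | zero =>
      intro t
      rw [pow_zero, hL1]; exact ⟨t, rfl⟩
    | succ n ih =>
      intro t
      rw [pow_succ, hLmul, Scheme.Hom.comp_apply]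
      obtain ⟨t', ht'⟩ := hz t
      rw [← ht']; exact ih t'
  -- finiteness of the index set
  haveI : QuasiCompact (pullback.snd q' q') := inferInstance
  have hfinI : Finite {z : Z // σ' z t₀ ∈ Set.range m} :=
    Sheets.finite_of_quasiCompact hsh'' t₀
  have hone : ∀ i : {z : Z // σ' z t₀ ∈ Set.range m}, i.1 = 1 := by
    rintro ⟨z, hz⟩
    apply hZ
    have hpow : ∀ n : ℕ, σ' (z ^ n) t₀ ∈ Set.range m :=
      fun n => key2 _ (key3 z (key1 z hz) n)
    by_contra hnf
    have hinj : Function.Injective (fun n : ℕ => z ^ n) :=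
      injective_pow_iff_not_isOfFinOrder.mpr hnf
    let φ : ℕ → {z : Z // σ' z t₀ ∈ Set.range m} := fun n => ⟨z ^ n, hpow n⟩
    have hφ : Function.Injective φ := fun a b hab => hinj (congrArg Subtype.val hab)
    exact not_injective_infinite_finite φ hφ
  haveI : Nonempty {z : Z // σ' z t₀ ∈ Set.range m} :=
    ⟨⟨1, key2 1 (fun t => by rw [hL1]; exact ⟨t, rfl⟩)⟩⟩
  haveI : IsIso (pullback.snd q' q') :=
    hsh''.isIso (fun i k => Subtype.ext ((hone i).trans (hone k).symm))
  haveI : Mono q' := mono_of_isIso_pullback_snd q'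
  haveI : Mono (U₀.ι ≫ p₀) := by
    have : (U₀.ι ≫ p₀) ≫ P₀.ι = q' := by rw [hq', hjp]
    exact mono_of_mono_fac this
  haveI : QuasiCompact (U₀.ι ≫ p₀) := inferInstance
  haveI : IsIso (U₀.ι ≫ p₀) := Flat.isIso_of_surjective_of_mono _
  refine ⟨inv (U₀.ι ≫ p₀) ≫ j, ?_⟩
  rw [Category.assoc, hjp, IsIso.inv_hom_id_assoc]

-- sections over the connected components glue
theorem exists_section_of_forall_component {Xl P : Scheme.{u}} (p : Xl ⟶ P)
    (hopen : ∀ x : P, IsOpen (connectedComponent x))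
    (h : ∀ x : P, ∃ s : ((⟨connectedComponent x, hopen x⟩ : P.Opens) : Scheme.{u}) ⟶ Xl,
      s ≫ p = Scheme.Opens.ι (⟨connectedComponent x, hopen x⟩ : P.Opens)) :
    ∃ s : P ⟶ Xl, s ≫ p = 𝟙 P := by
  classical
  let rep : _root_.ConnectedComponents P → P := Function.surjInv _root_.ConnectedComponents.surjective_coe
  have hrep : ∀ c, _root_.ConnectedComponents.mk (rep c) = c :=
    Function.surjInv_eq _root_.ConnectedComponents.surjective_coe
  let U : _root_.ConnectedComponents P → P.Opens := fun c => ⟨connectedComponent (rep c), hopen _⟩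
  have hU : TopologicalSpace.IsOpenCover U := by
    apply TopologicalSpace.IsOpenCover.mk
    rw [eq_top_iff]
    intro x _
    rw [TopologicalSpace.Opens.mem_iSup]
    refine ⟨_root_.ConnectedComponents.mk x, ?_⟩
    change x ∈ connectedComponent (rep (_root_.ConnectedComponents.mk x))
    rw [← _root_.ConnectedComponents.coe_eq_coe']
    exact (hrep _).symm
  let 𝒰 := P.openCoverOfIsOpenCover U hU
  choose s hs using fun c : _root_.ConnectedComponents P => h (rep c)
  have hcompat : ∀ c c' : _root_.ConnectedComponents P,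
      pullback.fst (𝒰.f c) (𝒰.f c') ≫ s c = pullback.snd (𝒰.f c) (𝒰.f c') ≫ s c' := by
    intro c c'
    by_cases hcc : c = c'
    · subst hcc
      have : pullback.fst (𝒰.f c) (𝒰.f c) = pullback.snd (𝒰.f c) (𝒰.f c) := by
        rw [← cancel_mono (𝒰.f c)]; exact pullback.condition
      rw [this]
    · haveI : IsEmpty ↑(pullback (𝒰.f c) (𝒰.f c')) := by
        refine ⟨fun z => ?_⟩
        have h1 : 𝒰.f c (pullback.fst (𝒰.f c) (𝒰.f c') z) =
            𝒰.f c' (pullback.snd (𝒰.f c) (𝒰.f c') z) := by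
          rw [← Scheme.Hom.comp_apply, ← Scheme.Hom.comp_apply, pullback.condition]
        have h2 : 𝒰.f c (pullback.fst (𝒰.f c) (𝒰.f c') z) ∈ connectedComponent (rep c) :=
          (pullback.fst (𝒰.f c) (𝒰.f c') z).2
        have h3 : 𝒰.f c' (pullback.snd (𝒰.f c) (𝒰.f c') z) ∈ connectedComponent (rep c') :=
          (pullback.snd (𝒰.f c) (𝒰.f c') z).2
        rw [← h1] at h3
        apply hcc
        rw [← hrep c, ← hrep c', _root_.ConnectedComponents.coe_eq_coe, connectedComponent_eq h2,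
          connectedComponent_eq h3]
      exact isInitialOfIsEmpty.hom_ext _ _
  refine ⟨𝒰.glueMorphisms s hcompat, ?_⟩
  apply 𝒰.hom_ext
  intro c
  rw [← Category.assoc, 𝒰.ι_glueMorphisms, Category.comp_id]
  exact hs c

end Groth.Agent.Lib.Helper3.TorsC
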