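import Mathlib
import Groth.Agent.Lib.Helper3TorsC
import Groth.Agent.Lib.Helper22SCSmooth
import Groth.Agent.Lib.Helper4VarDim10
import Groth.Agent.S1324

set_option autoImplicit false
set_option linter.style.haveILetI false
set_option linter.unusedSectionVars false

universe u

open CategoryTheory AlgebraicGeometry Limits

namespace Groth.Agent.Lib.Helper3.TorsD

open Groth.Agent.Lib.Helper3.TwcA Groth.Agent.Lib.Helper3.TwcB

-- connected components of a disjoint union of copies of a connected scheme
theorem Sheets.connectedComponent_eq {Y T : Scheme.{u}} {h : Y ⟶ T} {I : Type u}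
    {σ : I → (T ⟶ Y)} (hs : Sheets h σ) [PreconnectedSpace T] (i : I) (t : T) :
    connectedComponent (σ i t) = Set.range (σ i) := by
  haveI := hs.isOpenImmersion
  apply Set.Subset.antisymm
  · have hopen : IsOpen (Set.range (σ i)) := (σ i).isOpenEmbedding.isOpen_range
    have hclosed : IsClosed (Set.range (σ i)) := by
      rw [← isOpen_compl_iff]
      have : (Set.range (σ i))ᶜ = ⋃ j : {j : I // j ≠ i}, Set.range (σ j.1) := by
        ext y
        simp only [Set.mem_compl_iff, Set.mem_iUnion]
        constructor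
        · intro hy
          obtain ⟨j, t', rfl⟩ := hs.cover y
          refine ⟨⟨j, ?_⟩, t', rfl⟩
          rintro rfl
          exact hy ⟨t', rfl⟩
        · rintro ⟨⟨j, hj⟩, t', rfl⟩ ⟨t'', ht''⟩
          exact hj (hs.disj i j t'' t' ht'').symm
      rw [this]
      exact isOpen_iUnion fun j => (σ j.1).isOpenEmbedding.isOpen_range
    exact IsClopen.connectedComponent_subset ⟨hclosed, hopen⟩ ⟨t, rfl⟩
  · exact (isPreconnected_range (σ i).continuous).subset_connectedComponent ⟨t, rfl⟩

-- an embedding transports connected components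
theorem image_connectedComponent_of_isEmbedding {A B : Type*} [TopologicalSpace A]
    [TopologicalSpace B] (ρ : A → B) (hρ : Topology.IsEmbedding ρ) (a : A) :
    ρ '' connectedComponent a = connectedComponentIn (Set.range ρ) (ρ a) := by
  apply Set.Subset.antisymm
  · refine (isPreconnected_connectedComponent.image ρ hρ.continuous.continuousOn)
      |>.subset_connectedComponentIn ⟨a, mem_connectedComponent, rfl⟩ ?_
    rintro _ ⟨b, -, rfl⟩
    exact ⟨b, rfl⟩
  · set C := connectedComponentIn (Set.range ρ) (ρ a) with hC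
    have hCsub : C ⊆ Set.range ρ := connectedComponentIn_subset _ _
    have himg : ρ '' (ρ ⁻¹' C) = C := Set.image_preimage_eq_of_subset hCsub
    have hpre : IsPreconnected (ρ ⁻¹' C) := by
      rw [← hρ.isInducing.isPreconnected_image, himg]
      exact isPreconnected_connectedComponentIn
    have ha : a ∈ ρ ⁻¹' C := mem_connectedComponentIn ⟨a, rfl⟩
    have hsub := hpre.subset_connectedComponent ha
    rw [← himg]
    exact Set.image_mono hsub

-- for a torsor with sheets, trivial over a connected preimmersed `T`, the connected components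
-- of the part over `T` are images of sections
theorem exists_section_range_eq {E P T : Scheme.{u}} (π : E ⟶ P) {Z : Type u}
    (τ : Z → (E ⟶ pullback π π)) (hsh : Sheets (pullback.snd π π) τ)
    (t : T ⟶ P) [IsPreimmersion t] [PreconnectedSpace T] (σ : T ⟶ E) (hσ : σ ≫ π = t) (x₀ : E)
    (hx₀ : π x₀ ∈ Set.range t) :
    ∃ σ' : T ⟶ E, σ' ≫ π = t ∧
      connectedComponentIn (π ⁻¹' Set.range t) x₀ = Set.range σ' := by
  obtain ⟨σs, hs⟩ := Sheets.comp_base hsh σ
  subst hσ
  set ρ := pullback.fst π (σ ≫ π) with hρ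
  haveI : IsPreimmersion ρ := inferInstance
  have hrange : Set.range ρ = π ⁻¹' Set.range (σ ≫ π) := Scheme.Pullback.range_fst _ _
  obtain ⟨a, rfl⟩ : x₀ ∈ Set.range ρ := by rw [hrange]; exact hx₀
  obtain ⟨z₀, w₀, rfl⟩ := hs.cover a
  refine ⟨σs z₀ ≫ ρ, ?_, ?_⟩
  · rw [Category.assoc, hρ, pullback.condition, ← Category.assoc, hs.sec, Category.id_comp]
  · rw [← hrange, ← image_connectedComponent_of_isEmbedding ρ ρ.isEmbedding,
      Sheets.connectedComponent_eq hs, ← Set.range_comp]
    rfl

-- etale, injective and trivial residue field extensions: an open immersion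
theorem isOpenImmersion_of_etale_of_injective {A B : Scheme.{u}} (f : A ⟶ B) [Etale f]
    (hinj : Function.Injective f)
    (hres : ∀ a : A, Function.Bijective (f.residueFieldMap a).hom) : IsOpenImmersion f := by
  have h02 : UniversallyInjective f ↔ (Function.Injective f ∧
      ∀ x, (f.residueFieldMap x).hom.IsPurelyInseparable) := (tfae_universallyInjective f).out 0 2
  have h03 : UniversallyInjective f ↔ Surjective (pullback.diagonal f) :=
    (tfae_universallyInjective f).out 0 3
  have huniv : UniversallyInjective f := by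
    refine h02.mpr ⟨hinj, fun a => ?_⟩
    have hb := hres a
    algebraize [(f.residueFieldMap a).hom]
    show IsPurelyInseparable _ _
    refine isPurelyInseparable_iff.2 fun x => ?_
    obtain ⟨y, hy⟩ := hb.2 x
    have hxy : x = algebraMap _ _ y := hy.symm
    rw [hxy]
    exact ⟨isIntegral_algebraMap, fun _ => ⟨y, rfl⟩⟩
  haveI : Surjective (pullback.diagonal f) := h03.mp huniv
  haveI : IsOpenImmersion (pullback.diagonal f) := inferInstance
  haveI : IsIso (pullback.diagonal f) :=
    (isIso_iff_isOpenImmersion_and_surjective _).mpr ⟨inferInstance, inferInstance⟩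
  have hfst : pullback.diagonal f ≫ pullback.fst f f = 𝟙 A := pullback.diagonal_fst f
  have hsnd : pullback.diagonal f ≫ pullback.snd f f = 𝟙 A := pullback.diagonal_snd f
  have heq : pullback.fst f f = pullback.snd f f := by
    rw [← cancel_epi (pullback.diagonal f), hfst, hsnd]
  haveI : Mono f := by
    refine ⟨fun {W} a b hab => ?_⟩
    have ha : pullback.lift a b hab ≫ pullback.fst f f = a := pullback.lift_fst _ _ _
    have hb : pullback.lift a b hab ≫ pullback.snd f f = b := pullback.lift_snd _ _ _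
    exact ha.symm.trans ((congrArg (fun φ => pullback.lift a b hab ≫ φ) heq).trans hb)
  exact IsOpenImmersion.of_flat_of_mono f

-- openness of the union of the connected components of the fibres through a section, for a
-- smooth quasi-separated morphism (localising on the base)
theorem isOpen_sectionComponents {S X : Scheme.{u}} (f : X ⟶ S) [Smooth f] [QuasiSeparated f]
    (e : S ⟶ X) (he : e ≫ f = 𝟙 S) : IsOpen (MoreMor.sectionComponents f e) := by
  rw [isOpen_iff_forall_mem_open]
  intro x hx
  obtain ⟨V, hV, hyV⟩ : ∃ V : S.Opens, IsAffineOpen V ∧ f x ∈ V := by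
    obtain ⟨_, ⟨V, hV, rfl⟩, hyV, -⟩ := S.isBasis_affineOpens.exists_subset_of_mem_open
      (Set.mem_univ (f x)) isOpen_univ
    exact ⟨V, hV, hyV⟩
  have hpb : IsPullback (f ⁻¹ᵁ V).ι (f ∣_ V) f V.ι := (isPullback_morphismRestrict f V).flip
  let s' : (V : Scheme.{u}) ⟶ (f ⁻¹ᵁ V : Scheme.{u}) :=
    hpb.lift (V.ι ≫ e) (𝟙 _) (by rw [Category.assoc, he, Category.comp_id, Category.id_comp])
  have hs' : s' ≫ (f ∣_ V) = 𝟙 _ := hpb.lift_snd _ _ _
  have hs'g : s' ≫ (f ⁻¹ᵁ V).ι = V.ι ≫ e := hpb.lift_fst _ _ _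
  have hSC := Groth.Agent.S1324.result f e he (f ∣_ V) (f ⁻¹ᵁ V).ι V.ι hpb s' hs' hs'g
  haveI : IsAffine (V : Scheme.{u}) := hV
  haveI : QuasiSeparatedSpace ↥(f ⁻¹ᵁ V : Scheme.{u}) :=
    (quasiSeparated_iff_quasiSeparatedSpace (f ∣_ V)).mp inferInstance
  have hop := Groth.Agent.Lib.Helper22.SC.isOpen_sectionComponents_of_smooth (f ∣_ V) s' hs'
  refine ⟨(f ⁻¹ᵁ V).ι '' MoreMor.sectionComponents (f ∣_ V) s', ?_,
    (f ⁻¹ᵁ V).ι.isOpenEmbedding.isOpenMap _ hop, ⟨⟨x, hyV⟩, ?_, rfl⟩⟩
  · rintro _ ⟨a, ha, rfl⟩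
    rw [hSC] at ha
    exact ha
  · rw [hSC]
    exact hx

-- sections of an etale separated scheme over the total space of a morphism with connected
-- fibres are determined by their restriction to a section of that morphism
theorem section_unique {S P E : Scheme.{u}} (p : P ⟶ S) [GeometricallyConnected p] (π : E ⟶ P)
    [Etale π] [IsSeparated π] (e : S ⟶ P) (he : e ≫ p = 𝟙 S) (g₁ g₂ : P ⟶ E)
    (h₁ : g₁ ≫ π = 𝟙 P) (h₂ : g₂ ≫ π = 𝟙 P) (h : e ≫ g₁ = e ≫ g₂) : g₁ = g₂ := by
  let d := pullback.diagonal π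
  haveI : IsOpenImmersion d := inferInstance
  haveI : IsClosedImmersion d := inferInstance
  let l : P ⟶ pullback π π := pullback.lift g₁ g₂ (by rw [h₁, h₂])
  let j := pullback.snd d l
  haveI : IsOpenImmersion j := inferInstance
  have hl1 : l ≫ pullback.fst π π = g₁ := pullback.lift_fst _ _ _
  have hl2 : l ≫ pullback.snd π π = g₂ := pullback.lift_snd _ _ _
  have hrange : Set.range j = l ⁻¹' Set.range d := Scheme.Pullback.range_snd _ _
  have hclopen : IsClopen (Set.range j) := by
    rw [hrange]
    exact ⟨d.isClosedEmbedding.isClosed_range.preimage l.continuous,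
      d.isOpenEmbedding.isOpen_range.preimage l.continuous⟩
  have hel : e ≫ l = (e ≫ g₁) ≫ d := by
    apply pullback.hom_ext
    · simp only [d, Category.assoc, hl1, pullback.diagonal_fst, Category.comp_id]
    · simp only [d, Category.assoc, hl2, pullback.diagonal_snd, Category.comp_id, h]
  haveI : Surjective j := by
    refine ⟨fun y => ?_⟩
    have hconn := p.isConnected_preimage_singleton (p y)
    have hes : e (p y) ∈ p ⁻¹' {p y} := by
      show p (e (p y)) = p y
      rw [← Scheme.Hom.comp_apply, he]; rfl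
    have hej : e (p y) ∈ Set.range j := by
      rw [hrange]
      show l (e (p y)) ∈ Set.range d
      rw [← Scheme.Hom.comp_apply, hel, Scheme.Hom.comp_apply]
      exact ⟨_, rfl⟩
    exact hconn.isPreconnected.subset_isClopen hclopen ⟨_, hes, hej⟩ rfl
  haveI : IsIso j := (isIso_iff_isOpenImmersion_and_surjective _).mpr ⟨inferInstance, inferInstance⟩
  have hl : l = inv j ≫ pullback.fst d l ≫ d := by
    rw [IsIso.eq_inv_comp]
    exact pullback.condition.symm
  rw [← hl1, ← hl2, hl]
  simp [d]

-- the main existence statement: a torsor with sheets, trivial on the fibres of a smooth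
-- morphism with geometrically connected fibres, and rigidified along a section, is trivial
theorem exists_section_of_fibrewise {S P E : Scheme.{u}} (p : P ⟶ S) [Smooth p]
    [QuasiSeparated p] [GeometricallyConnected p] (π : E ⟶ P) [Etale π] [Surjective π]
    {Z : Type u} (τ : Z → (E ⟶ pullback π π)) (hsh : Sheets (pullback.snd π π) τ)
    (e : S ⟶ P) (he : e ≫ p = 𝟙 S) (e' : S ⟶ E) (he' : e' ≫ π = e)
    (hfib : ∀ s : S, ∃ σ : p.fiber s ⟶ E, σ ≫ π = p.fiberι s) :
    ∃ g : P ⟶ E, g ≫ π = 𝟙 P ∧ e ≫ g = e' := by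
  have hp : TC π := fun s => by
    obtain ⟨x, hx⟩ := π.surjective s
    exact ⟨E, π, inferInstance, ⟨x, hx⟩, Z, τ, hsh⟩
  haveI : IsSeparated π := hp.isSeparated
  set q := π ≫ p with hq
  haveI : Smooth q := inferInstance
  haveI : QuasiSeparated q := inferInstance
  have heq : e' ≫ q = 𝟙 S := by rw [hq, ← Category.assoc, he', he]
  have hqe : ∀ s, q (e' s) = s := fun s => by rw [← Scheme.Hom.comp_apply, heq]; rfl
  have hpe : ∀ s, p (e s) = s := fun s => by rw [← Scheme.Hom.comp_apply, he]; rfl
  have hopen := isOpen_sectionComponents q e' heq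
  -- description of the components
  have key : ∀ s : S, ∃ σ' : p.fiber s ⟶ E, σ' ≫ π = p.fiberι s ∧
      connectedComponentIn (q ⁻¹' {s}) (e' s) = Set.range σ' := by
    intro s
    obtain ⟨σ, hσ⟩ := hfib s
    have hx₀ : π (e' s) ∈ Set.range (p.fiberι s) := by
      rw [Scheme.Hom.range_fiberι, ← Scheme.Hom.comp_apply, he']
      exact hpe s
    obtain ⟨σ', hσ', hcc⟩ := exists_section_range_eq π τ hsh (p.fiberι s) σ hσ (e' s) hx₀
    refine ⟨σ', hσ', ?_⟩
    rw [← hcc, Scheme.Hom.range_fiberι]
    rfl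
  choose σ' hσ' hcc using key
  let E₀ : E.Opens := ⟨MoreMor.sectionComponents q e', hopen⟩
  have hmem : ∀ x : E, x ∈ E₀ ↔ x ∈ Set.range (σ' (q x)) := by
    intro x
    rw [← hcc]
    rfl
  have hσ'app : ∀ s (w : p.fiber s), π (σ' s w) = p.fiberι s w := fun s w => by
    rw [← Scheme.Hom.comp_apply, hσ']
  have hqσ' : ∀ s (w : p.fiber s), q (σ' s w) = s := fun s w => by
    rw [hq, Scheme.Hom.comp_apply, hσ'app]
    have : p.fiberι s w ∈ Set.range (p.fiberι s) := ⟨w, rfl⟩
    rw [Scheme.Hom.range_fiberι] at this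
    exact this
  set j := E₀.ι ≫ π with hj
  have hjapp : ∀ a : E₀, j a = π a.1 := fun a => rfl
  have hinj : Function.Injective j := by
    intro a b hab
    rw [hjapp, hjapp] at hab
    have hqab : q a.1 = q b.1 := by
      rw [hq, Scheme.Hom.comp_apply, Scheme.Hom.comp_apply, hab]
    have hmem' : ∀ (x : E) (s : S), q x = s → (x ∈ E₀ ↔ x ∈ Set.range (σ' s)) := by
      rintro x s rfl
      exact hmem x
    obtain ⟨wa, hwa⟩ := (hmem a.1).mp a.2
    obtain ⟨wb, hwb⟩ := (hmem' b.1 (q a.1) hqab.symm).mp b.2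
    have h1 : p.fiberι _ wa = p.fiberι _ wb := by
      rw [← hσ'app, ← hσ'app, hwa, hwb, hab]
    have h2 : wa = wb := (p.fiberι _).isEmbedding.injective h1
    apply Subtype.ext
    rw [← hwa, ← hwb, h2]
  haveI hsurj : Surjective j := by
    refine ⟨fun y => ?_⟩
    have hy : y ∈ Set.range (p.fiberι (p y)) := by
      rw [Scheme.Hom.range_fiberι]; rfl
    obtain ⟨w, hw⟩ := hy
    have hmemx : σ' (p y) w ∈ E₀ := by
      rw [hmem, hqσ']
      exact ⟨w, rfl⟩
    refine ⟨⟨σ' (p y) w, hmemx⟩, ?_⟩
    rw [hjapp]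
    show π (σ' (p y) w) = y
    rw [hσ'app, hw]
  have hres : ∀ a : E₀, Function.Bijective (j.residueFieldMap a).hom := by
    intro a
    obtain ⟨w, hw⟩ := (hmem a.1).mp a.2
    have h1 : Function.Bijective ((σ' (q a.1) ≫ π).residueFieldMap w).hom := by
      rw [hσ']
      exact Groth.Agent.Lib.Helper4.VarDim.residueFieldMap_bijective_of_isPreimmersion _ w
    have h2 := residueFieldMap_bijective_of_comp (σ' (q a.1)) π w h1
    have h3 : Function.Bijective (π.residueFieldMap (E₀.ι a)).hom :=
      Groth.Agent.Lib.Helper3.TwcC.residueFieldMap_bijective_of_eq π hw h2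
    exact Groth.Agent.Lib.Helper3.TwcC.residueFieldMap_bijective_comp E₀.ι π a
      (ConcreteCategory.bijective_of_isIso (E₀.ι.residueFieldMap a)) h3
  haveI : IsOpenImmersion j := isOpenImmersion_of_etale_of_injective j hinj hres
  haveI : IsIso j := (isIso_iff_isOpenImmersion_and_surjective _).mpr ⟨inferInstance, hsurj⟩
  have hrange : Set.range e' ⊆ Set.range E₀.ι := by
    rintro _ ⟨s, rfl⟩
    rw [Scheme.Opens.range_ι]
    show e' s ∈ connectedComponentIn (q ⁻¹' {q (e' s)}) (e' (q (e' s)))
    rw [hqe]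
    exact mem_connectedComponentIn (hqe s)
  let l := IsOpenImmersion.lift E₀.ι e' hrange
  have hl : l ≫ E₀.ι = e' := IsOpenImmersion.lift_fac _ _ _
  have hlj : l ≫ j = e := by rw [hj, ← Category.assoc, hl, he']
  refine ⟨inv j ≫ E₀.ι, ?_, ?_⟩
  · rw [Category.assoc]
    exact IsIso.inv_hom_id j
  · rw [← hlj, Category.assoc, IsIso.hom_inv_id_assoc, hl]

end Groth.Agent.Lib.Helper3.TorsD
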