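import Mathlib
import Groth.Agent.Lib.Helper3CompBCa
import Groth.Agent.Lib.Helper14LocNoeth
import Groth.Agent.Lib.Helper3TorsD
import Groth.Agent.Lib.Helper22SC6

set_option autoImplicit false
set_option linter.style.haveILetI false
set_option linter.unusedSectionVars false

universe u

open CategoryTheory AlgebraicGeometry Limits TensorProduct

namespace Groth.Agent.Lib.Helper3.CompBC

section Top

variable {A B : Type*} [TopologicalSpace A] [TopologicalSpace B]

-- a surjection under which preimages of connected sets are connected maps components onto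
-- components
theorem image_connectedComponent_of_preimage_connected (q : A → B) (hq : Continuous q)
    (hsurj : Function.Surjective q)
    (hconn : ∀ s : Set B, IsConnected s → IsClosed s → IsConnected (q ⁻¹' s)) (a : A) :
    q '' connectedComponent a = connectedComponent (q a) := by
  apply Set.Subset.antisymm (hq.image_connectedComponent_subset a)
  intro b hb
  obtain ⟨a', rfl⟩ := hsurj b
  refine ⟨a', ?_, rfl⟩
  have h1 := hconn _ (isConnected_connectedComponent (x := q a)) isClosed_connectedComponent
  exact h1.isPreconnected.subset_connectedComponent (show q a ∈ connectedComponent (q a) from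
    mem_connectedComponent) hb

-- an open and closed map from a locally connected space maps components onto components
theorem image_connectedComponent_of_isOpenMap_of_isClosedMap [LocallyConnectedSpace A]
    (q : A → B) (hq : Continuous q) (ho : IsOpenMap q) (hc : IsClosedMap q) (a : A) :
    q '' connectedComponent a = connectedComponent (q a) := by
  apply Set.Subset.antisymm (hq.image_connectedComponent_subset a)
  have hclopen : IsClopen (q '' connectedComponent a) :=
    ⟨hc _ isClosed_connectedComponent, ho _ isOpen_connectedComponent⟩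
  exact hclopen.connectedComponent_subset ⟨a, mem_connectedComponent, rfl⟩

end Top

section Sch

-- a purely transcendental field extension is geometrically connected
theorem geometricallyConnected_SpecMap_adjoin (k K : Type u) [Field k] [Field K] [Algebra k K]
    {ι : Type u} (x : ι → K) (hx : AlgebraicIndependent k x) :
    GeometricallyConnected (Spec.map (CommRingCat.ofHom
      (algebraMap k (IntermediateField.adjoin k (Set.range x))))) := by
  rw [geometricallyConnected_iff, geometrically_iff_of_commRing_of_isClosedUnderIsomorphisms]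
  intro L _ _
  haveI := isDomain_tensor_adjoin k K L x hx
  rw [← (pullbackSpecIso k (IntermediateField.adjoin k (Set.range x)) L).inv.homeomorph.connectedSpace_iff]
  exact inferInstanceAs (ConnectedSpace (PrimeSpectrum
    ((IntermediateField.adjoin k (Set.range x)) ⊗[k] L)))

-- the base change of a field extension maps connected components onto connected components
theorem image_connectedComponent_of_isPullback {k K : Type u} [Field k] [Field K] (φ : k →+* K)
    {X Y : Scheme.{u}} (a : X ⟶ Spec (CommRingCat.of k)) [LocallyOfFiniteType a] (q : Y ⟶ X)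
    (b : Y ⟶ Spec (CommRingCat.of K))
    (sq : IsPullback q b a (Spec.map (CommRingCat.ofHom φ))) (y : Y) :
    q '' connectedComponent y = connectedComponent (q y) := by
  algebraize [φ]
  obtain ⟨ι, x, hx⟩ := exists_isTranscendenceBasis' k (A := K)
  obtain ⟨F, hF⟩ : ∃ F : IntermediateField k K, F = IntermediateField.adjoin k (Set.range x) :=
    ⟨_, rfl⟩
  haveI halg : Algebra.IsAlgebraic F K := by
    rw [hF]; exact hx.isAlgebraic_field
  haveI hgc : GeometricallyConnected (Spec.map (CommRingCat.ofHom (algebraMap k F))) := by
    rw [hF]; exact geometricallyConnected_SpecMap_adjoin k K x hx.1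
  have hφ : CommRingCat.ofHom φ =
      CommRingCat.ofHom (algebraMap k F) ≫ CommRingCat.ofHom (algebraMap F K) := by
    rw [← CommRingCat.ofHom_comp]
    congr 1
  -- the intermediate base change
  let q₂ := pullback.fst a (Spec.map (CommRingCat.ofHom (algebraMap k F)))
  let aF := pullback.snd a (Spec.map (CommRingCat.ofHom (algebraMap k F)))
  have hcond : q ≫ a = (b ≫ Spec.map (CommRingCat.ofHom (algebraMap F K))) ≫
      Spec.map (CommRingCat.ofHom (algebraMap k F)) := by
    rw [sq.w, Category.assoc, ← Spec.map_comp, hφ]
  let q₁ : Y ⟶ pullback a (Spec.map (CommRingCat.ofHom (algebraMap k F))) :=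
    pullback.lift q (b ≫ Spec.map (CommRingCat.ofHom (algebraMap F K))) hcond
  have hq₁₂ : q₁ ≫ q₂ = q := pullback.lift_fst _ _ _
  have hq₁a : q₁ ≫ aF = b ≫ Spec.map (CommRingCat.ofHom (algebraMap F K)) :=
    pullback.lift_snd _ _ _
  have sq₂ : IsPullback q₂ aF a (Spec.map (CommRingCat.ofHom (algebraMap k F))) :=
    IsPullback.of_hasPullback _ _
  have sqO : IsPullback (q₁ ≫ q₂) b a (Spec.map (CommRingCat.ofHom (algebraMap F K)) ≫
      Spec.map (CommRingCat.ofHom (algebraMap k F))) := by
    rw [hq₁₂, ← Spec.map_comp, ← hφ]
    exact sq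
  have sq₁ : IsPullback q₁ b aF (Spec.map (CommRingCat.ofHom (algebraMap F K))) :=
    IsPullback.of_right sqO hq₁a sq₂
  -- the purely transcendental step
  haveI : GeometricallyConnected q₂ := inferInstance
  haveI : UniversallyOpen (Spec.map (CommRingCat.ofHom (algebraMap k F))) := inferInstance
  haveI : UniversallyOpen q₂ := inferInstance
  have h₂ : ∀ z, q₂ '' connectedComponent z = connectedComponent (q₂ z) := fun z =>
    image_connectedComponent_of_preimage_connected q₂ q₂.continuous q₂.surjective
      (fun s hs hs' => q₂.isConnected_preimage q₂.isOpenMap hs hs') z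
  -- the algebraic step
  haveI : IsIntegralHom (Spec.map (CommRingCat.ofHom (algebraMap F K))) := by
    rw [IsIntegralHom.SpecMap_iff]
    exact algebraMap_isIntegral_iff.mpr inferInstance
  haveI : IsIntegralHom q₁ := MorphismProperty.of_isPullback (P := @IsIntegralHom) sq₁.flip
    inferInstance
  haveI : UniversallyOpen (Spec.map (CommRingCat.ofHom (algebraMap F K))) := inferInstance
  haveI : UniversallyOpen q₁ := MorphismProperty.of_isPullback (P := @UniversallyOpen) sq₁.flip
    inferInstance
  haveI : LocallyOfFiniteType b := MorphismProperty.of_isPullback (P := @LocallyOfFiniteType) sq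
    inferInstance
  haveI : LocallyConnectedSpace Y := by
    haveI : IsLocallyNoetherian Y := LocallyOfFiniteType.isLocallyNoetherian b
    apply Groth.Agent.Lib.Helper14.locallyConnectedSpace_of_locally_noetherian
    intro z
    obtain ⟨_, ⟨W, hW, rfl⟩, hzW, -⟩ := Y.isBasis_affineOpens.exists_subset_of_mem_open
      (Set.mem_univ z) isOpen_univ
    replace hW : IsAffineOpen W := hW
    haveI : IsNoetherianRing Γ(Y, W) := IsLocallyNoetherian.component_noetherian ⟨W, hW⟩
    exact ⟨W, W.isOpen.mem_nhds hzW, noetherianSpace_of_isAffineOpen W hW⟩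
  have h₁ : q₁ '' connectedComponent y = connectedComponent (q₁ y) :=
    image_connectedComponent_of_isOpenMap_of_isClosedMap q₁ q₁.continuous q₁.isOpenMap
      q₁.isClosedMap y
  have hcomp : ∀ z, q z = q₂ (q₁ z) := fun z => by
    rw [← Scheme.Hom.comp_apply, hq₁₂]
  have himg : q '' connectedComponent y = q₂ '' (q₁ '' connectedComponent y) := by
    rw [Set.image_image]
    exact Set.image_congr (fun z _ => hcomp z)
  rw [himg, h₁, h₂, hcomp]

-- the comparison of the connected components of the fibres of a base change
theorem image_connectedComponentIn_fibre {X Y X' Y' : Scheme.{u}} {f : X ⟶ Y} {f' : X' ⟶ Y'}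
    {g' : X' ⟶ X} {g : Y' ⟶ Y} (sq : IsPullback g' f' f g) [LocallyOfFiniteType f]
    (x' : X') :
    g' '' connectedComponentIn (f' ⁻¹' {f' x'}) x' =
      connectedComponentIn (f ⁻¹' {g (f' x')}) (g' x') := by
  have key := image_connectedComponent_of_isPullback (g.residueFieldMap (f' x')).hom
    (f.fiberToSpecResidueField (g (f' x')))
    (Groth.Agent.Lib.Helper22.SC.fiberMapY sq (f' x')) (f'.fiberToSpecResidueField (f' x'))
    (Groth.Agent.Lib.Helper22.SC.isPullback_fiberMapY sq (f' x')) (f'.asFiber x')
  have h1 := Groth.Agent.Lib.Helper3.TorsD.image_connectedComponent_of_isEmbedding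
    (f'.fiberι (f' x')) (f'.fiberι (f' x')).isEmbedding (f'.asFiber x')
  rw [Scheme.Hom.range_fiberι, Scheme.Hom.fiberι_asFiber] at h1
  have h2 := Groth.Agent.Lib.Helper3.TorsD.image_connectedComponent_of_isEmbedding
    (f.fiberι (g (f' x'))) (f.fiberι (g (f' x'))).isEmbedding
    (Groth.Agent.Lib.Helper22.SC.fiberMapY sq (f' x') (f'.asFiber x'))
  have h3 : ∀ z, f.fiberι (g (f' x')) (Groth.Agent.Lib.Helper22.SC.fiberMapY sq (f' x') z) =
      g' (f'.fiberι (f' x') z) := fun z => by
    rw [← Scheme.Hom.comp_apply, Groth.Agent.Lib.Helper22.SC.fiberMapY_fiberι,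
      Scheme.Hom.comp_apply]
  rw [Scheme.Hom.range_fiberι, h3, Scheme.Hom.fiberι_asFiber] at h2
  rw [← h1, ← h2, ← key, Set.image_image, Set.image_image]
  exact Set.image_congr (fun z _ => (h3 z).symm)

end Sch

end Groth.Agent.Lib.Helper3.CompBC
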