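import Mathlib
import Groth.Agent.Lib.Helper25IdComp
import Groth.Agent.Lib.Helper8Grp

set_option autoImplicit false
set_option linter.style.haveILetI false
set_option linter.unusedSectionVars false

namespace Groth.Agent.Lib.Helper3.ProfImgB

universe u
open CategoryTheory CategoryTheory.Limits MonoidalCategory CartesianMonoidalCategory MonObj GrpObj AlgebraicGeometry
open Groth.Agent.Lib.Helper25.IdComp

section cart
variable {C : Type*} [Category C] [CartesianMonoidalCategory C]

-- the fibre of the first projection over a point of the unit object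
lemma isPullback_lift_toUnit (T G : C) (σ : 𝟙_ C ⟶ T) :
    IsPullback (lift (toUnit G ≫ σ) (𝟙 G)) (toUnit G) (fst T G) σ := by
  refine IsPullback.mk ⟨by simp⟩ ⟨PullbackCone.IsLimit.mk _ (fun s => s.fst ≫ snd T G) ?_ ?_ ?_⟩
  · intro s
    apply CartesianMonoidalCategory.hom_ext
    · simp only [Category.assoc, lift_fst]
      have h1 : (s.fst ≫ snd T G) ≫ toUnit G = s.snd := toUnit_unique _ _
      rw [s.condition, ← h1]
      simp
    · simp
  · intro s
    exact toUnit_unique (X := s.pt) _ _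
  · intro s m hm _
    rw [← hm]
    simp

-- left translation by a point
noncomputable def L {G : C} [GrpObj G] (a : 𝟙_ C ⟶ G) : G ⟶ G := (toUnit G ≫ a) * 𝟙 G

lemma comp_L {G X : C} [GrpObj G] (x : X ⟶ G) (a : 𝟙_ C ⟶ G) :
    x ≫ L a = (toUnit X ≫ a) * x := by
  rw [L, MonObj.comp_mul, Category.comp_id, ← Category.assoc]
  congr 2
  exact toUnit_unique _ _

lemma L_mul {G : C} [GrpObj G] (a b : 𝟙_ C ⟶ G) : L (a * b) = L b ≫ L a := by
  rw [comp_L, L, L, MonObj.comp_mul, _root_.mul_assoc]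

lemma L_one {G : C} [GrpObj G] : L (1 : 𝟙_ C ⟶ G) = 𝟙 G := by
  rw [L, MonObj.comp_one, _root_.one_mul]

lemma L_inv_comp {G : C} [GrpObj G] (a : 𝟙_ C ⟶ G) : L a⁻¹ ≫ L a = 𝟙 G := by
  rw [← L_mul, mul_inv_cancel, L_one]

lemma L_comp_inv {G : C} [GrpObj G] (a : 𝟙_ C ⟶ G) : L a ≫ L a⁻¹ = 𝟙 G := by
  rw [← L_mul, inv_mul_cancel, L_one]

lemma pt_comp_L {G : C} [GrpObj G] (a b : 𝟙_ C ⟶ G) : b ≫ L a = a * b := by
  rw [comp_L]
  congr 1
  rw [show toUnit (𝟙_ C) = 𝟙 _ from toUnit_unique _ _, Category.id_comp]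

-- the isomorphism given by a translation
noncomputable def LIso {G : C} [GrpObj G] (a : 𝟙_ C ⟶ G) : G ≅ G where
  hom := L a
  inv := L a⁻¹
  hom_inv_id := L_comp_inv a
  inv_hom_id := L_inv_comp a

end cart

section top

lemma homeomorph_image_connectedComponent {X Y : Type*} [TopologicalSpace X] [TopologicalSpace Y]
    (h : X ≃ₜ Y) (x : X) : h '' connectedComponent x = connectedComponent (h x) := by
  apply Set.Subset.antisymm
  · exact h.continuous.image_connectedComponent_subset x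
  · have h2 := h.symm.continuous.image_connectedComponent_subset (h x)
    rw [h.symm_apply_apply] at h2
    intro y hy
    exact ⟨h.symm y, h2 ⟨y, hy, rfl⟩, h.apply_symm_apply y⟩

end top

section sch
variable {k : Type u} [Field k]

-- the point of `X.left` defined by a `k`-point
noncomputable def pt {X : Over (Spec (CommRingCat.of k))}
    (a : 𝟙_ (Over (Spec (CommRingCat.of k))) ⟶ X) : X.left :=
  a.left (IsLocalRing.closedPoint k)

lemma pt_comp {X Y : Over (Spec (CommRingCat.of k))}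
    (a : 𝟙_ (Over (Spec (CommRingCat.of k))) ⟶ X) (f : X ⟶ Y) : pt (a ≫ f) = f.left (pt a) := rfl

variable (G : Over (Spec (CommRingCat.of k))) [GrpObj G]

lemma pt_one : pt (1 : 𝟙_ (Over (Spec (CommRingCat.of k))) ⟶ G) = ePt G := one_left_apply G _

variable {G}

lemma L_left_pt (a b : 𝟙_ (Over (Spec (CommRingCat.of k))) ⟶ G) :
    (L a).left (pt b) = pt (a * b) := by
  rw [← pt_comp, pt_comp_L]

lemma inv_left_pt (a : 𝟙_ (Over (Spec (CommRingCat.of k))) ⟶ G) :
    ι[G].left (pt a) = pt a⁻¹ := by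
  rw [← pt_comp, ← Hom.inv_def]

-- translation as a homeomorphism
noncomputable def LHomeo (a : 𝟙_ (Over (Spec (CommRingCat.of k))) ⟶ G) : G.left ≃ₜ G.left :=
  Scheme.homeoOfIso ((Over.forget _).mapIso (LIso a))

lemma LHomeo_apply (a : 𝟙_ (Over (Spec (CommRingCat.of k))) ⟶ G) (x : G.left) :
    LHomeo a x = (L a).left x := rfl

lemma connectedComponent_pt (a : 𝟙_ (Over (Spec (CommRingCat.of k))) ⟶ G) :
    connectedComponent (pt a) = (L a).left '' connectedComponent (ePt G) := by
  have h := homeomorph_image_connectedComponent (LHomeo a) (ePt G)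
  rw [LHomeo_apply, ← pt_one, L_left_pt, _root_.mul_one] at h
  rw [← h]
  rfl

lemma isIrreducible_connectedComponent_pt (a : 𝟙_ (Over (Spec (CommRingCat.of k))) ⟶ G) :
    IsIrreducible (connectedComponent (pt a)) := by
  rw [connectedComponent_pt]
  exact (isIrreducible_connectedComponent_ePt G).image _ (L a).left.continuous.continuousOn

lemma L_image_connectedComponent (a : 𝟙_ (Over (Spec (CommRingCat.of k))) ⟶ G) (x : G.left) :
    (L a).left '' connectedComponent x = connectedComponent ((L a).left x) :=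
  homeomorph_image_connectedComponent (LHomeo a) x

end sch

section fib

lemma range_of_isPullback {P X Y Z : Scheme.{u}} {p1 : P ⟶ X} {p2 : P ⟶ Y} {f : X ⟶ Z}
    {g : Y ⟶ Z} (h : IsPullback p1 p2 f g) : Set.range p1 = f ⁻¹' Set.range g := by
  have e : p1 = h.isoPullback.hom ≫ pullback.fst f g := by simp
  have e2 : h.isoPullback.inv ≫ p1 = pullback.fst f g := by simp
  rw [← Scheme.Pullback.range_fst f g]
  apply Set.Subset.antisymm
  · rintro _ ⟨z, rfl⟩
    exact ⟨h.isoPullback.hom z, congrArg (fun φ : P ⟶ X => φ z) e.symm⟩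
  · rintro _ ⟨w, rfl⟩
    exact ⟨h.isoPullback.inv w, congrArg (fun φ : pullback f g ⟶ X => φ w) e2⟩

variable {k : Type u} [Field k]

lemma exists_of_fst_eq (T G : Over (Spec (CommRingCat.of k)))
    (σ : 𝟙_ (Over (Spec (CommRingCat.of k))) ⟶ T) (z : (T ⊗ G).left)
    (hz : (fst T G).left z = pt σ) :
    ∃ g : G.left, (lift (toUnit G ≫ σ) (𝟙 G)).left g = z := by
  have hp := (isPullback_lift_toUnit T G σ).map (Over.forget _)
  simp only [Over.forget_obj, Over.forget_map] at hp
  have hr := range_of_isPullback hp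
  have : z ∈ Set.range (lift (toUnit G ≫ σ) (𝟙 G)).left := by
    rw [hr]
    exact ⟨IsLocalRing.closedPoint k, hz.symm⟩
  exact this

end fib

section main
variable {k : Type u} [Field k]

-- the key translation lemma: a closed subset of `T` mapping into one connected component of `G`
-- can be translated into any given open neighbourhood of the unit by a rational point
theorem exists_translate (G : Over (Spec (CommRingCat.of k))) [GrpObj G] [JacobsonSpace G.left]
    (hrat : ∀ g : G.left, IsClosed ({g} : Set G.left) →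
      ∃ b : 𝟙_ (Over (Spec (CommRingCat.of k))) ⟶ G, pt b = g)
    (T : Over (Spec (CommRingCat.of k))) [UniversallyClosed T.hom]
    (hT : ∀ t : T.left, ∃ σ : 𝟙_ (Over (Spec (CommRingCat.of k))) ⟶ T, pt σ = t)
    (f : T ⟶ G) (Scl : Set T.left) (hScl : IsClosed Scl) (t₀ : T.left)
    (hS : ∀ t ∈ Scl, f.left t ∈ connectedComponent (f.left t₀))
    (U : G.left.Opens) (hU : ePt G ∈ U) :
    ∃ b : 𝟙_ (Over (Spec (CommRingCat.of k))) ⟶ G,
      ∀ t ∈ Scl, (L b⁻¹).left (f.left t) ∈ U := by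
  obtain ⟨σ₀, hσ₀⟩ := hT t₀
  have hK : IsIrreducible (connectedComponent (f.left t₀)) := by
    rw [← hσ₀, ← pt_comp]; exact isIrreducible_connectedComponent_pt _
  have hKcl : IsClosed (connectedComponent (f.left t₀)) := isClosed_connectedComponent
  have hξ := hK.isGenericPoint_genericPoint hKcl
  generalize hK.genericPoint = ξ at hξ
  -- the map Φ
  obtain ⟨Φ, hΦdef⟩ : ∃ Φ : T ⊗ G ⟶ G, Φ = (fst T G ≫ f)⁻¹ * snd T G := ⟨_, rfl⟩
  obtain ⟨U', hU'def⟩ : ∃ U' : Set G.left, U' = ι[G].left ⁻¹' (U : Set G.left) := ⟨_, rfl⟩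
  have hU'open : IsOpen U' := by
    rw [hU'def]; exact U.isOpen.preimage ι[G].left.continuous
  obtain ⟨Ωc, hΩcdef⟩ : ∃ Ωc : Set (T ⊗ G).left,
    Ωc = (Φ.left ⁻¹' U')ᶜ ∩ (fst T G).left ⁻¹' Scl := ⟨_, rfl⟩
  have hΩc : IsClosed Ωc := by
    rw [hΩcdef]
    exact ((hU'open.preimage Φ.left.continuous).isClosed_compl).inter
      (hScl.preimage (fst T G).left.continuous)
  have hZ : IsClosed ((snd T G).left '' Ωc) := by
    haveI : UniversallyClosed (snd T G).left := by
      change UniversallyClosed (pullback.snd T.hom G.hom); infer_instance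
    exact (snd T G).left.isClosedMap _ hΩc
  -- ξ ∉ Z
  have hξZ : ξ ∉ (snd T G).left '' Ωc := by
    rintro ⟨z, hzΩ, hz3⟩
    rw [hΩcdef] at hzΩ
    obtain ⟨hz1, hz2⟩ := hzΩ
    obtain ⟨σ, hσ⟩ := hT ((fst T G).left z)
    obtain ⟨g, hg⟩ := exists_of_fst_eq T G σ z hσ.symm
    have hgξ : g = ξ := by
      rw [← hz3, ← hg]
      change g = ((lift (toUnit G ≫ σ) (𝟙 G)) ≫ snd T G).left g
      rw [lift_snd]; rfl
    apply hz1
    have hj : lift (toUnit G ≫ σ) (𝟙 G) ≫ Φ = L (σ ≫ f)⁻¹ := by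
      rw [hΦdef, L, MonObj.comp_mul, GrpObj.comp_inv, GrpObj.comp_inv, lift_snd,
        ← Category.assoc, lift_fst, Category.assoc]
    have hΦz : Φ.left z = (L (σ ≫ f)⁻¹).left ξ := by
      rw [← hg, ← hj, hgξ]; rfl
    change Φ.left z ∈ U'
    rw [hΦz]
    -- K = connectedComponent (pt (σ ≫ f))
    have hKeq : connectedComponent (pt (σ ≫ f)) = connectedComponent (f.left t₀) := by
      rw [pt_comp, hσ]
      exact (connectedComponent_eq (hS _ hz2)).symm
    have himg : (L (σ ≫ f)⁻¹).left '' connectedComponent (f.left t₀) =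
        connectedComponent (ePt G) := by
      rw [← hKeq, L_image_connectedComponent, L_left_pt, inv_mul_cancel, pt_one]
    have hgen : IsGenericPoint ((L (σ ≫ f)⁻¹).left ξ) (connectedComponent (ePt G)) := by
      have h1 := hξ.image (L (σ ≫ f)⁻¹).left.continuous
      rw [himg, isClosed_connectedComponent.closure_eq] at h1
      exact h1
    rw [hgen.mem_open_set_iff hU'open]
    refine ⟨ePt G, mem_connectedComponent, ?_⟩
    rw [hU'def, Set.mem_preimage, ← pt_one, inv_left_pt, inv_one, pt_one]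
    exact hU
  -- a closed point outside Z
  obtain ⟨h, hhZ, hhcl⟩ := nonempty_inter_closedPoints (Z := ((snd T G).left '' Ωc)ᶜ) ⟨ξ, hξZ⟩
    hZ.isOpen_compl.isLocallyClosed
  obtain ⟨b, hb⟩ := hrat h (mem_closedPoints_iff.mp hhcl)
  refine ⟨b, fun t ht => ?_⟩
  obtain ⟨σ, hσ⟩ := hT t
  have hz : pt (lift σ b) ∉ Ωc := fun hmem => hhZ ⟨_, hmem, by rw [← pt_comp, lift_snd, hb]⟩
  have hz2 : (fst T G).left (pt (lift σ b)) ∈ Scl := by
    rw [← pt_comp, lift_fst, hσ]; exact ht
  have hz1 : Φ.left (pt (lift σ b)) ∈ U' := by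
    by_contra hne
    apply hz
    rw [hΩcdef]
    exact ⟨hne, hz2⟩
  have hΦ : lift σ b ≫ Φ = (σ ≫ f)⁻¹ * b := by
    rw [hΦdef, MonObj.comp_mul, GrpObj.comp_inv, lift_snd, ← Category.assoc, lift_fst]
  rw [← pt_comp, hΦ, hU'def, Set.mem_preimage, inv_left_pt, _root_.mul_inv_rev, _root_.inv_inv] at hz1
  rw [← hσ, ← pt_comp, L_left_pt]
  exact hz1

end main

end Groth.Agent.Lib.Helper3.ProfImgB
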