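import Mathlib
import Groth.Prelude.Def_NonAbH2
import Groth.Agent.Lib.Helper11ExtSeq
import Groth.Agent.Lib.Helper11ConstHom
import Groth.Agent.Lib.Helper3ProfImgB
import Groth.Agent.Lib.Helper3ConstExtA
import Groth.Agent.Lib.Helper14LocNoeth
import Groth.Agent.S7520

set_option autoImplicit false
set_option linter.style.haveILetI false
set_option linter.unusedSectionVars false

universe u v₁

open CategoryTheory MonoidalCategory CartesianMonoidalCategory MonObj GrpObj AlgebraicGeometry Limits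

namespace Groth.Agent.Lib.Helper3.ConstExtB

open Groth.Agent.Lib.Helper11.ExtSeq

section cart

variable {C : Type u} [Category.{v₁} C] [CartesianMonoidalCategory C]

-- the fibre of the second projection over a point of the unit object
lemma isPullback_lift_toUnit' (T G : C) (σ : 𝟙_ C ⟶ G) :
    IsPullback (lift (𝟙 T) (toUnit T ≫ σ)) (toUnit T) (snd T G) σ := by
  refine IsPullback.mk ⟨by simp⟩ ⟨PullbackCone.IsLimit.mk _ (fun s => s.fst ≫ fst T G) ?_ ?_ ?_⟩
  · intro s
    apply CartesianMonoidalCategory.hom_ext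
    · simp
    · simp only [Category.assoc, lift_snd]
      have h1 : (s.fst ≫ fst T G) ≫ toUnit T = s.snd := toUnit_unique _ _
      rw [s.condition, ← h1]
      simp
  · intro s
    exact toUnit_unique (X := s.pt) _ _
  · intro s m hm _
    rw [← hm]
    simp

-- right translation by a point
noncomputable def R {G : C} [GrpObj G] (a : 𝟙_ C ⟶ G) : G ⟶ G := 𝟙 G * (toUnit G ≫ a)

lemma comp_R {G X : C} [GrpObj G] (x : X ⟶ G) (a : 𝟙_ C ⟶ G) :
    x ≫ R a = x * (toUnit X ≫ a) := by
  rw [R, MonObj.comp_mul, Category.comp_id, ← Category.assoc]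
  congr 2
  exact toUnit_unique _ _

lemma R_mul {G : C} [GrpObj G] (a b : 𝟙_ C ⟶ G) : R (a * b) = R a ≫ R b := by
  rw [comp_R, R, R, MonObj.comp_mul, _root_.mul_assoc]

lemma R_one {G : C} [GrpObj G] : R (1 : 𝟙_ C ⟶ G) = 𝟙 G := by
  rw [R, MonObj.comp_one, _root_.mul_one]

lemma R_inv_comp {G : C} [GrpObj G] (a : 𝟙_ C ⟶ G) : R a⁻¹ ≫ R a = 𝟙 G := by
  rw [← R_mul, inv_mul_cancel, R_one]

lemma R_comp_inv {G : C} [GrpObj G] (a : 𝟙_ C ⟶ G) : R a ≫ R a⁻¹ = 𝟙 G := by
  rw [← R_mul, mul_inv_cancel, R_one]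

lemma pt_comp_R {G : C} [GrpObj G] (a b : 𝟙_ C ⟶ G) : b ≫ R a = b * a := by
  rw [comp_R]
  congr 1
  rw [show toUnit (𝟙_ C) = 𝟙 _ from toUnit_unique _ _, Category.id_comp]

-- the isomorphism given by a right translation
noncomputable def RIso {G : C} [GrpObj G] (a : 𝟙_ C ⟶ G) : G ≅ G where
  hom := R a
  inv := R a⁻¹
  hom_inv_id := R_comp_inv a
  inv_hom_id := R_inv_comp a

variable {G E P : C} [GrpObj G] [GrpObj E] [GrpObj P]

-- the kernel square of an exact sequence
theorem isPullback_ker (u : G ⟶ E) (v : E ⟶ P) [IsMonHom v]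
    (hpb : IsPullback (fst E G) ((E ◁ u) ≫ μ[E]) v v) (huv : u ≫ v = 1) :
    IsPullback u (toUnit G) v η[P] := by
  have hw : u ≫ v = toUnit G ≫ η[P] := by rw [huv, Hom.one_def]
  have hex : ∀ c : PullbackCone v η[P], ∃ g : c.pt ⟶ G, g ≫ u = c.fst := by
    intro c
    apply exists_kerLift u v hpb
    rw [c.condition, Hom.one_def]
    congr 1
    exact toUnit_unique _ _
  refine IsPullback.mk ⟨hw⟩ ⟨PullbackCone.IsLimit.mk _ (fun c => (hex c).choose) ?_ ?_ ?_⟩
  · intro c
    exact (hex c).choose_spec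
  · intro c
    exact toUnit_unique _ _
  · intro c m hm1 _
    apply u_injective u v hpb
    rw [hm1, (hex c).choose_spec]

-- a homomorphism with trivial kernel on points is a monomorphism
theorem mono_of_ker_trivial {H : C} [GrpObj H] (w : H ⟶ P) [IsMonHom w]
    (h : ∀ (T : C) (a : T ⟶ H), a ≫ w = 1 → a = 1) : Mono w := by
  refine ⟨fun {T} a b hab => ?_⟩
  have h1 : (a * b⁻¹) ≫ w = 1 := by
    rw [MonObj.mul_comp, GrpObj.inv_comp, hab, mul_inv_cancel]
  have h2 := h T _ h1
  exact mul_inv_eq_one.mp h2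

-- rigidity of a split extension by a group without nontrivial pointed maps from the quotient
theorem rigid_of_section (u : G ⟶ E) (v : E ⟶ P) [IsMonHom u] [IsMonHom v]
    (hpb : IsPullback (fst E G) ((E ◁ u) ≫ μ[E]) v v)
    (s : P ⟶ E) [IsMonHom s] (hs : s ≫ v = 𝟙 P)
    (htriv : ∀ χ : P ⟶ G, η[P] ≫ χ = η[G] → χ = 1)
    (φ : E ⟶ E) [IsMonHom φ] (hφu : u ≫ φ = u) (hφv : φ ≫ v = v) : φ = 𝟙 E := by
  have hone : ∀ (X : C) [GrpObj X], (η[X] : 𝟙_ C ⟶ X) = 1 := by
    intro X _
    rw [Hom.one_def, show toUnit (𝟙_ C) = 𝟙 _ from toUnit_unique _ _, Category.id_comp]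
  -- step 1: φ fixes the section
  have hd : ((s ≫ φ) * s⁻¹) ≫ v = 1 := by
    rw [MonObj.mul_comp, GrpObj.inv_comp, Category.assoc, hφv, mul_inv_cancel]
  obtain ⟨χ, hχ⟩ := exists_kerLift u v hpb _ hd
  have hχ1 : η[P] ≫ χ = η[G] := by
    apply u_injective u v hpb
    rw [Category.assoc, hχ, MonObj.comp_mul, GrpObj.comp_inv, ← Category.assoc,
      IsMonHom.one_hom (f := s), IsMonHom.one_hom (f := φ), IsMonHom.one_hom (f := u), hone E,
      mul_inv_cancel]
  have hχ2 := htriv χ hχ1
  have hsφ : s ≫ φ = s := by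
    rw [hχ2, MonObj.one_comp] at hχ
    exact mul_inv_eq_one.mp hχ.symm
  -- step 2: decompose the identity
  have hr : (𝟙 E * (v ≫ s)⁻¹) ≫ v = 1 := by
    rw [MonObj.mul_comp, GrpObj.inv_comp, Category.id_comp, Category.assoc, hs, Category.comp_id,
      mul_inv_cancel]
  obtain ⟨g, hg⟩ := exists_kerLift u v hpb _ hr
  have hid : 𝟙 E = (g ≫ u) * (v ≫ s) := by
    rw [hg, inv_mul_cancel_right]
  calc φ = 𝟙 E ≫ φ := (Category.id_comp _).symm
    _ = ((g ≫ u) * (v ≫ s)) ≫ φ := by rw [← hid]
    _ = (g ≫ u) * (v ≫ s) := by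
        rw [MonObj.mul_comp, Category.assoc, Category.assoc, hφu, hsφ]
    _ = 𝟙 E := hid.symm

end cart


section sch

open Groth.Agent.Lib.Helper3.ProfImgB Groth.Agent.Lib.Helper25.IdComp
  Groth.Agent.Lib.Helper11ConstPtsU

lemma exists_of_isPullback {Q X Y W : Scheme.{u}} {p1 : Q ⟶ X} {p2 : Q ⟶ Y} {f : X ⟶ W}
    {g : Y ⟶ W} (h : IsPullback p1 p2 f g) (x : X) (y : Y) (hxy : f x = g y) :
    ∃ t : Q, p1 t = x ∧ p2 t = y := by
  obtain ⟨t', ht1, ht2⟩ := Scheme.Pullback.exists_preimage_pullback (f := f) (g := g) x y hxy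
  refine ⟨h.isoPullback.inv t', ?_, ?_⟩
  · rw [← Scheme.Hom.comp_apply, h.isoPullback_inv_fst]; exact ht1
  · rw [← Scheme.Hom.comp_apply, h.isoPullback_inv_snd]; exact ht2

variable {k : Type u} [Field k]

section trans
variable {G : Over (Spec (CommRingCat.of k))} [GrpObj G]

lemma R_left_pt (a b : 𝟙_ (Over (Spec (CommRingCat.of k))) ⟶ G) :
    (R a).left (pt b) = pt (b * a) := by
  rw [← pt_comp, pt_comp_R]

-- right translation as a homeomorphism
noncomputable def RHomeo (a : 𝟙_ (Over (Spec (CommRingCat.of k))) ⟶ G) : G.left ≃ₜ G.left :=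
  Scheme.homeoOfIso ((Over.forget _).mapIso (RIso a))

lemma RHomeo_apply (a : 𝟙_ (Over (Spec (CommRingCat.of k))) ⟶ G) (x : G.left) :
    RHomeo a x = (R a).left x := rfl

lemma R_image_connectedComponent (a : 𝟙_ (Over (Spec (CommRingCat.of k))) ⟶ G) (x : G.left) :
    (R a).left '' connectedComponent x = connectedComponent ((R a).left x) :=
  homeomorph_image_connectedComponent (RHomeo a) x

end trans

lemma exists_of_snd_eq (T G : Over (Spec (CommRingCat.of k)))
    (σ : 𝟙_ (Over (Spec (CommRingCat.of k))) ⟶ G) (z : (T ⊗ G).left)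
    (hz : (snd T G).left z = pt σ) :
    ∃ e : T.left, (lift (𝟙 T) (toUnit T ≫ σ)).left e = z := by
  have hp := (isPullback_lift_toUnit' T G σ).map (Over.forget _)
  simp only [Over.forget_obj, Over.forget_map] at hp
  have hr := range_of_isPullback hp
  have : z ∈ Set.range (lift (𝟙 T) (toUnit T ≫ σ)).left := by
    rw [hr]
    exact ⟨IsLocalRing.closedPoint k, hz.symm⟩
  exact this

variable (Z : Type u)

-- value of a point of the constant scheme on a piece
lemma const_left_eq {T : Over (Spec (CommRingCat.of k))}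
    (z : T ⟶ TwC.const (Spec (CommRingCat.of k)) Z) (m : Z) (t : T.left)
    (ht : t ∈ piece Z z m) : z.left t = pt (TwC.pt (Spec (CommRingCat.of k)) Z m) := by
  rw [mem_piece] at ht
  obtain ⟨y, hy⟩ := ht
  rw [← hy]
  have : y = IsLocalRing.closedPoint k := Subsingleton.elim (α := Spec (CommRingCat.of k)) _ _
  rw [this]
  rfl

lemma pt_mem_piece (m : Z) :
    pt (TwC.pt (Spec (CommRingCat.of k)) Z m) ∈
      piece Z (𝟙 (TwC.const (Spec (CommRingCat.of k)) Z)) m := by
  rw [mem_piece]
  exact ⟨IsLocalRing.closedPoint k, rfl⟩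

variable {Z}

-- all points of a constant group scheme over a field are rational
lemma exists_pt_eq {G : Over (Spec (CommRingCat.of k))}
    (eG : G ≅ TwC.const (Spec (CommRingCat.of k)) Z) (g : G.left) :
    ∃ m : Z, g = pt (TwC.pt (Spec (CommRingCat.of k)) Z m ≫ eG.inv) := by
  have h := iSup_piece Z eG.hom
  have hx : g ∈ (⨆ m, piece Z eG.hom m : G.left.Opens) := by rw [h]; trivial
  rw [TopologicalSpace.Opens.mem_iSup] at hx
  obtain ⟨m, hm⟩ := hx
  refine ⟨m, ?_⟩
  have h1 := const_left_eq Z eG.hom m g hm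
  rw [pt_comp, ← h1, ← Scheme.Hom.comp_apply, ← Over.comp_left, Iso.hom_inv_id]
  rfl


-- two points of `E` with the same image in `P` differ by a right translation by a point of `G`
theorem exists_R_of_v_eq {P E G : Over (Spec (CommRingCat.of k))} [GrpObj P] [GrpObj E] [GrpObj G]
    (eG : G ≅ TwC.const (Spec (CommRingCat.of k)) Z) (u : G ⟶ E) (v : E ⟶ P)
    (hpb : IsPullback (fst E G) ((E ◁ u) ≫ μ[E]) v v) (x x' : E.left)
    (h : v.left x = v.left x') :
    ∃ m : Z, x' = (R (TwC.pt (Spec (CommRingCat.of k)) Z m ≫ eG.inv ≫ u)).left x := by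
  have hsq := hpb.map (Over.forget _)
  simp only [Over.forget_obj, Over.forget_map] at hsq
  obtain ⟨t, ht1, ht2⟩ := exists_of_isPullback hsq x x' h
  obtain ⟨m, hm⟩ := exists_pt_eq eG ((snd E G).left t)
  obtain ⟨e, he⟩ := exists_of_snd_eq E G _ t hm
  refine ⟨m, ?_⟩
  have hex : e = x := by
    rw [← ht1, ← he, ← Scheme.Hom.comp_apply, ← Over.comp_left, lift_fst]
    rfl
  have hR : lift (𝟙 E) (toUnit E ≫ TwC.pt (Spec (CommRingCat.of k)) Z m ≫ eG.inv) ≫
      (E ◁ u) ≫ μ[E] = R (TwC.pt (Spec (CommRingCat.of k)) Z m ≫ eG.inv ≫ u) := by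
    rw [R, Hom.mul_def, ← Category.assoc]
    congr 1
    apply CartesianMonoidalCategory.hom_ext
    · simp
    · simp
  rw [← ht2, ← he, ← Scheme.Hom.comp_apply, ← Over.comp_left, hR, hex]

-- the projection of an exact sequence is surjective
theorem surjective_of_isExactSeq {S : Scheme.{u}} {P E G : Over S} [GrpObj P] [GrpObj E]
    [GrpObj G] (u : G ⟶ E) (v : E ⟶ P)
    (hex : NonAbH1.IsExactSeq Scheme.fppfPrecoverage u v) : Function.Surjective v.left := by
  obtain ⟨hu, hv, huv, hpb, R', hR, hsec⟩ := hex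
  have hsurj := (Presieve.mem_comap_jointlySurjectivePrecoverage_iff Scheme.forget).1 hR.1
  intro p
  obtain ⟨W, g, hg, w, hw⟩ := hsurj p
  obtain ⟨s, hs⟩ := hsec g hg
  have hs' : s ≫ v.left = g := hs
  refine ⟨s w, ?_⟩
  rw [← Scheme.Hom.comp_apply, hs']
  exact hw

theorem locallyConnectedSpace_left (G : Over (Spec (CommRingCat.of k)))
    [LocallyOfFiniteType G.hom] : LocallyConnectedSpace G.left := by
  haveI : IsLocallyNoetherian G.left := LocallyOfFiniteType.isLocallyNoetherian G.hom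
  apply Groth.Agent.Lib.Helper14.locallyConnectedSpace_of_locally_noetherian
  intro x
  obtain ⟨_, ⟨W, hW, rfl⟩, hxW, -⟩ := G.left.isBasis_affineOpens.exists_subset_of_mem_open
    (Set.mem_univ x) isOpen_univ
  replace hW : IsAffineOpen W := hW
  haveI : IsNoetherianRing Γ(G.left, W) := IsLocallyNoetherian.component_noetherian ⟨W, hW⟩
  exact ⟨W, W.isOpen.mem_nhds hxW, noetherianSpace_of_isAffineOpen W hW⟩


variable [Group Z]

-- a pointed morphism from a connected scheme to a constant group is trivial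
theorem pointed_eq_one (P G : Over (Spec (CommRingCat.of k))) [GrpObj P] [GrpObj G]
    [PreconnectedSpace P.left]
    (eG : G ≅ TwC.const (Spec (CommRingCat.of k)) Z) (hG : TwC.IsConstGrp Z G eG)
    (χ : P ⟶ G) (hχ : η[P] ≫ χ = η[G]) : χ = 1 := by
  obtain ⟨z, hz⟩ : ∃ z : P ⟶ TwC.const (Spec (CommRingCat.of k)) Z, z = χ ≫ eG.hom := ⟨_, rfl⟩
  have hχz : χ = z ≫ eG.inv := by rw [hz, Category.assoc, Iso.hom_inv_id, Category.comp_id]
  have hone : (η[G] : 𝟙_ (Over (Spec (CommRingCat.of k))) ⟶ G) = 1 := by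
    rw [Hom.one_def, show toUnit (𝟙_ (Over (Spec (CommRingCat.of k)))) = 𝟙 _ from
      toUnit_unique _ _, Category.id_comp]
  have h1 : η[P] ≫ z = cpt Z (𝟙_ (Over (Spec (CommRingCat.of k)))) 1 := by
    have h2 := Groth.Agent.Lib.Helper11ConstHom.cpt_one Z eG hG
      (𝟙_ (Over (Spec (CommRingCat.of k))))
    rw [hz, ← Category.assoc, hχ, hone, ← h2, Category.assoc, Iso.inv_hom_id, Category.comp_id]
  have he : ePt P ∈ piece Z z 1 := mem_piece_of_eq_cpt Z z 1 η[P] h1 (IsLocalRing.closedPoint k)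
  have hall : ∀ p : P.left, p ∈ piece Z z 1 := by
    intro p
    have hopen2 : IsOpen (⋃ m ∈ {m : Z | m ≠ 1}, (piece Z z m : Set P.left)) :=
      isOpen_biUnion (fun m _ => (piece Z z m).isOpen)
    have hdisj : Disjoint (piece Z z 1 : Set P.left)
        (⋃ m ∈ {m : Z | m ≠ 1}, (piece Z z m : Set P.left)) := by
      rw [Set.disjoint_left]
      intro q hq1 hq2
      simp only [Set.mem_iUnion] at hq2
      obtain ⟨m, hm, hqm⟩ := hq2
      exact piece_disjoint Z z m 1 hm q hqm hq1
    have hcov : (Set.univ : Set P.left) ⊆ (piece Z z 1 : Set P.left) ∪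
        (⋃ m ∈ {m : Z | m ≠ 1}, (piece Z z m : Set P.left)) := by
      intro q _
      have := iSup_piece Z z
      have hx : q ∈ (⨆ m, piece Z z m : P.left.Opens) := by rw [this]; trivial
      rw [TopologicalSpace.Opens.mem_iSup] at hx
      obtain ⟨m, hm⟩ := hx
      by_cases h : m = 1
      · left; rw [← h]; exact hm
      · right
        simp only [Set.mem_iUnion]
        exact ⟨m, h, hm⟩
    have := isPreconnected_univ.subset_left_of_subset_union (piece Z z 1).isOpen hopen2 hdisj hcov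
      ⟨ePt P, Set.mem_univ _, he⟩
    exact this (Set.mem_univ p)
  have h3 : 𝟙 P ≫ z = cpt Z P 1 := eq_cpt_of_le Z z 1 (𝟙 P) (fun t => by
    have : (𝟙 P : P ⟶ P).left t = t := rfl
    rw [this]; exact hall t)
  rw [Category.id_comp] at h3
  rw [hχz, h3, Groth.Agent.Lib.Helper11ConstHom.cpt_one Z eG hG]


-- the main splitting theorem
theorem splits_of_connected (hZ : ∀ z : Z, IsOfFinOrder z → z = 1)
    (P E G : Over (Spec (CommRingCat.of k))) [GrpObj P] [GrpObj E] [GrpObj G]
    [LocallyOfFiniteType P.hom] [ConnectedSpace P.left]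
    (eG : G ≅ TwC.const (Spec (CommRingCat.of k)) Z) (hG : TwC.IsConstGrp Z G eG)
    (u : G ⟶ E) (v : E ⟶ P) (hex : NonAbH1.IsExactSeq Scheme.fppfPrecoverage u v) :
    ∃ s : P ⟶ E, IsMonHom s ∧ s ≫ v = 𝟙 P := by
  have hvet : Etale v.left := Groth.Agent.Lib.Helper3.ConstExtA.etale_of_isExactSeq Z P E G eG u v hex
  have hvsurj := surjective_of_isExactSeq u v hex
  obtain ⟨hu, hv, huv, hpb, hloc⟩ := hex
  -- E is locally of finite type
  haveI : LocallyOfFiniteType E.hom := by
    have h : E.hom = v.left ≫ P.hom := (Over.w v).symm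
    rw [h]
    infer_instance
  haveI := locallyConnectedSpace_left E
  -- the identity component
  obtain ⟨G₀, instG₀, incl, hincl, hci, hfl, hrange, hgi, hcpt⟩ := Groth.Agent.S7520.result k E
  have hrange' : Set.range incl.left = connectedComponent (ePt E) := hrange
  have hE0open : IsOpen (connectedComponent (ePt E)) := isOpen_connectedComponent
  -- rational points coming from G
  obtain ⟨c, hc⟩ : ∃ c : Z → (𝟙_ (Over (Spec (CommRingCat.of k))) ⟶ E),
      c = fun m => TwC.pt (Spec (CommRingCat.of k)) Z m ≫ eG.inv ≫ u := ⟨_, rfl⟩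
  have hc_mul : ∀ m n, c (m * n) = c m * c n := by
    intro m n
    rw [hc]
    simp only
    rw [← Category.assoc, ← Category.assoc, ← Category.assoc, ← hG m n, MonObj.mul_comp]
  have hc_one : c 1 = 1 := by
    have h := hc_mul 1 1
    rw [_root_.mul_one] at h
    exact (mul_eq_left.mp h.symm)
  have hcv : ∀ m, c m ≫ v = 1 := by
    intro m
    rw [hc]
    simp only
    rw [Category.assoc, Category.assoc, huv, MonObj.comp_one, MonObj.comp_one]
  have hRv : ∀ m, R (c m) ≫ v = v := by
    intro m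
    rw [R, MonObj.mul_comp, Category.id_comp, Category.assoc, hcv, MonObj.comp_one, _root_.mul_one]
  -- the labels of the identity component
  obtain ⟨Z', hZ'⟩ : ∃ Z' : Set Z, Z' = {m | pt (c m) ∈ connectedComponent (ePt E)} := ⟨_, rfl⟩
  have hZ'mul : ∀ m n, m ∈ Z' → n ∈ Z' → m * n ∈ Z' := by
    intro m n hm hn
    rw [hZ'] at hm hn ⊢
    change pt (c (m * n)) ∈ connectedComponent (ePt E)
    rw [hc_mul, ← R_left_pt]
    have h1 : (R (c n)).left '' connectedComponent (ePt E) = connectedComponent (ePt E) := by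
      rw [R_image_connectedComponent, ← pt_one, R_left_pt, _root_.one_mul]
      exact (connectedComponent_eq hn).symm
    rw [← h1]
    exact ⟨_, hm, rfl⟩
  haveI : IsSeparated P.hom := Groth.Agent.Lib.Helper8.isSeparated_of_discrete P
  haveI : QuasiSeparatedSpace P.left := quasiSeparatedSpace_left P
  -- finiteness of Z'
  have hZ'fin : Z'.Finite := by
    have hker := (isPullback_ker u v hpb huv).map (Over.forget _)
    simp only [Over.forget_obj, Over.forget_map] at hker
    haveI : CompactSpace (𝟙_ (Over (Spec (CommRingCat.of k)))).left :=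
      inferInstanceAs (CompactSpace (Spec (CommRingCat.of k)))
    haveI : QuasiCompact η[P].left := inferInstance
    haveI : QuasiCompact u.left :=
      MorphismProperty.of_isPullback (P := @QuasiCompact) hker.flip inferInstance
    have hK : IsCompact (u.left ⁻¹' connectedComponent (ePt E)) :=
      QuasiCompact.isCompact_preimage _ hE0open (isCompact_connectedComponent_ePt E)
    have hcov : u.left ⁻¹' connectedComponent (ePt E) ⊆
        ⋃ m, (piece Z eG.hom m : Set G.left) := by
      intro x _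
      have := iSup_piece Z eG.hom
      have hx : x ∈ (⨆ m, piece Z eG.hom m : G.left.Opens) := by rw [this]; trivial
      rw [TopologicalSpace.Opens.mem_iSup] at hx
      exact Set.mem_iUnion.mpr hx
    obtain ⟨t, ht⟩ := hK.elim_finite_subcover (fun m => (piece Z eG.hom m : Set G.left))
      (fun m => (piece Z eG.hom m).isOpen) hcov
    refine t.finite_toSet.subset ?_
    intro m hm
    rw [hZ'] at hm
    have hgm : pt (TwC.pt (Spec (CommRingCat.of k)) Z m ≫ eG.inv) ∈
        u.left ⁻¹' connectedComponent (ePt E) := by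
      change u.left (pt (TwC.pt (Spec (CommRingCat.of k)) Z m ≫ eG.inv)) ∈
        connectedComponent (ePt E)
      rw [← pt_comp, Category.assoc]
      have : c m = TwC.pt (Spec (CommRingCat.of k)) Z m ≫ eG.inv ≫ u := by rw [hc]
      rw [← this]; exact hm
    have hgm' : pt (TwC.pt (Spec (CommRingCat.of k)) Z m ≫ eG.inv) ∈ piece Z eG.hom m := by
      rw [mem_piece, pt_comp, ← Scheme.Hom.comp_apply, ← Over.comp_left, Iso.inv_hom_id]
      exact ⟨IsLocalRing.closedPoint k, rfl⟩
    obtain ⟨m', hm't, hpm'⟩ : ∃ m' ∈ t,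
        pt (TwC.pt (Spec (CommRingCat.of k)) Z m ≫ eG.inv) ∈ piece Z eG.hom m' := by
      have := ht hgm
      simpa using this
    by_contra hne'
    have : m ≠ m' := fun h => hne' (h ▸ hm't)
    exact piece_disjoint Z eG.hom m m' this _ hgm' hpm'
  have hZ'1 : ∀ m ∈ Z', m = 1 := by
    intro m hm
    have hpow : ∀ j : ℕ, m ^ (j + 1) ∈ Z' := by
      intro j
      induction j with
      | zero => simpa using hm
      | succ j ih => rw [pow_succ]; exact hZ'mul _ _ ih hm
    obtain ⟨a, b, hab, heq⟩ := Set.Finite.exists_lt_map_eq_of_forall_mem hpow hZ'fin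
    apply hZ
    rw [isOfFinOrder_iff_pow_eq_one]
    refine ⟨b - a, Nat.sub_pos_of_lt hab, ?_⟩
    have h1 : m ^ (b + 1) = m ^ (a + 1) * m ^ (b - a) := by
      rw [← pow_add]; congr 1; omega
    rw [← heq] at h1
    exact (mul_eq_left.mp h1.symm)
  -- the restriction of v to the identity component
  obtain ⟨w, hw⟩ : ∃ w : G₀ ⟶ P, w = incl ≫ v := ⟨_, rfl⟩
  haveI : IsMonHom w := by rw [hw]; infer_instance
  haveI : Mono incl.left := inferInstance
  have hkertriv : ∀ (T : Over (Spec (CommRingCat.of k))) (a : T ⟶ G₀), a ≫ w = 1 → a = 1 := by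
    intro T a ha
    rw [hw, ← Category.assoc] at ha
    obtain ⟨g, hg⟩ := exists_kerLift u v hpb _ ha
    obtain ⟨z, hz⟩ : ∃ z : T ⟶ TwC.const (Spec (CommRingCat.of k)) Z, z = g ≫ eG.hom := ⟨_, rfl⟩
    have hgz : g = z ≫ eG.inv := by rw [hz, Category.assoc, Iso.hom_inv_id, Category.comp_id]
    have hall : ∀ t : T.left, t ∈ piece Z z 1 := by
      intro t
      have := iSup_piece Z z
      have hx : t ∈ (⨆ m, piece Z z m : T.left.Opens) := by rw [this]; trivial
      rw [TopologicalSpace.Opens.mem_iSup] at hx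
      obtain ⟨m, hm⟩ := hx
      have h1 := const_left_eq Z z m t hm
      have h2 : g.left t = pt (TwC.pt (Spec (CommRingCat.of k)) Z m ≫ eG.inv) := by
        rw [pt_comp, ← h1, hz, ← Scheme.Hom.comp_apply, ← Over.comp_left, Category.assoc,
          Iso.hom_inv_id, Category.comp_id]
      have h3 : pt (c m) = incl.left (a.left t) := by
        have : c m = (TwC.pt (Spec (CommRingCat.of k)) Z m ≫ eG.inv) ≫ u := by
          rw [hc, Category.assoc]
        rw [this, pt_comp, ← h2, ← Scheme.Hom.comp_apply, ← Over.comp_left, hg, Over.comp_left,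
          Scheme.Hom.comp_apply]
      have hmZ' : m ∈ Z' := by
        rw [hZ']
        change pt (c m) ∈ connectedComponent (ePt E)
        rw [h3, ← hrange']
        exact ⟨_, rfl⟩
      rw [hZ'1 m hmZ'] at hm
      exact hm
    have h3 : 𝟙 T ≫ z = cpt Z T 1 := eq_cpt_of_le Z z 1 (𝟙 T) (fun t => by
      have : (𝟙 T : T ⟶ T).left t = t := rfl
      rw [this]; exact hall t)
    rw [Category.id_comp] at h3
    have hg1 : g = 1 := by
      rw [hgz, h3, Groth.Agent.Lib.Helper11ConstHom.cpt_one Z eG hG]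
    rw [hg1, MonObj.one_comp] at hg
    have h4 : a ≫ incl = 1 ≫ incl := by rw [MonObj.one_comp, ← hg]
    apply Over.OverMorphism.ext
    have h5 := congrArg (fun f => f.left) h4
    simp only [Over.comp_left] at h5
    exact (cancel_mono incl.left).mp h5
  haveI : Mono w := mono_of_ker_trivial w hkertriv
  haveI : Mono w.left := inferInstance
  have hwleft : w.left = incl.left ≫ v.left := by rw [hw, Over.comp_left]
  haveI : Flat w.left := by rw [hwleft]; infer_instance
  haveI : QuasiCompact w.left := inferInstance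
  -- surjectivity
  haveI : IrreducibleSpace P.left := irreducibleSpace_of_connectedSpace P
  have hUopen : IsOpen (Set.range w.left) := by
    have h1 : Set.range w.left = v.left '' connectedComponent (ePt E) := by
      rw [← hrange', hwleft]
      ext p
      constructor
      · rintro ⟨y, rfl⟩
        exact ⟨incl.left y, ⟨y, rfl⟩, rfl⟩
      · rintro ⟨_, ⟨y, rfl⟩, rfl⟩
        exact ⟨y, rfl⟩
    rw [h1]
    exact v.left.isOpenMap _ hE0open
  have hUne : (Set.range w.left).Nonempty := ⟨_, ePt G₀, rfl⟩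
  have hvE : ∀ x : E.left, v.left x ∈ Set.range w.left := by
    intro x
    have hCopen : IsOpen (v.left '' connectedComponent x) :=
      v.left.isOpenMap _ isOpen_connectedComponent
    have hCne : (v.left '' connectedComponent x).Nonempty := ⟨_, x, mem_connectedComponent, rfl⟩
    obtain ⟨p, ⟨x₁, hx₁, hx₁p⟩, ⟨y, hy⟩⟩ :=
      nonempty_preirreducible_inter hCopen hUopen hCne hUne
    have hvy : v.left (incl.left y) = v.left x₁ := by
      rw [hx₁p, ← hy, hwleft, Scheme.Hom.comp_apply]
    obtain ⟨m, hm⟩ := exists_R_of_v_eq eG u v hpb _ _ hvy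
    have hcm : c m = TwC.pt (Spec (CommRingCat.of k)) Z m ≫ eG.inv ≫ u := by rw [hc]
    rw [← hcm] at hm
    have hx₁' : x₁ ∈ (R (c m)).left '' connectedComponent (ePt E) := by
      rw [hm]
      refine ⟨incl.left y, ?_, rfl⟩
      rw [← hrange']
      exact ⟨y, rfl⟩
    rw [R_image_connectedComponent] at hx₁'
    have hCC : connectedComponent x = connectedComponent ((R (c m)).left (ePt E)) := by
      rw [connectedComponent_eq hx₁, connectedComponent_eq hx₁']
    have hx' : x ∈ (R (c m)).left '' connectedComponent (ePt E) := by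
      rw [R_image_connectedComponent, ← hCC]
      exact mem_connectedComponent
    obtain ⟨x₀, hx₀, hx₀x⟩ := hx'
    rw [← hrange'] at hx₀
    obtain ⟨y', hy'⟩ := hx₀
    refine ⟨y', ?_⟩
    rw [hwleft, Scheme.Hom.comp_apply, hy', ← hx₀x, ← Scheme.Hom.comp_apply, ← Over.comp_left, hRv]
  haveI : Surjective w.left := by
    refine ⟨fun p => ?_⟩
    obtain ⟨x, rfl⟩ := hvsurj p
    exact hvE x
  haveI : IsIso w.left := Flat.isIso_of_surjective_of_mono w.left
  haveI : IsIso w := by
    haveI : IsIso ((Over.forget _).map w) := by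
      change IsIso w.left
      infer_instance
    exact isIso_of_reflects_iso w (Over.forget _)
  haveI : IsMonHom (asIso w).hom := by
    change IsMonHom w
    infer_instance
  refine ⟨(asIso w).inv ≫ incl, inferInstance, ?_⟩
  rw [Category.assoc, ← hw]
  exact (asIso w).inv_hom_id


-- rigidity and splitting together
theorem rigid_and_splits (hZ : ∀ z : Z, IsOfFinOrder z → z = 1)
    (P E G : Over (Spec (CommRingCat.of k))) [GrpObj P] [GrpObj E] [GrpObj G]
    [LocallyOfFiniteType P.hom] [ConnectedSpace P.left]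
    (eG : G ≅ TwC.const (Spec (CommRingCat.of k)) Z) (hG : TwC.IsConstGrp Z G eG)
    (u : G ⟶ E) (v : E ⟶ P) (hex : NonAbH1.IsExactSeq Scheme.fppfPrecoverage u v) :
    (∀ φ : E ≅ E, IsMonHom φ.hom → u ≫ φ.hom = u → φ.hom ≫ v = v → φ.hom = 𝟙 E) ∧
      ∃ s : P ⟶ E, IsMonHom s ∧ s ≫ v = 𝟙 P := by
  obtain ⟨s, hs, hsv⟩ := splits_of_connected hZ P E G eG hG u v hex
  obtain ⟨hu, hv, huv, hpb, hloc⟩ := hex
  refine ⟨fun φ hφ hφu hφv => ?_, s, hs, hsv⟩
  exact rigid_of_section u v hpb s hsv (fun χ hχ => pointed_eq_one P G eG hG χ hχ) φ.hom hφu hφv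

end sch

end Groth.Agent.Lib.Helper3.ConstExtB
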