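import Groth.Agent.Lib.Helper14IrrComp

/-!
# Topology of one-dimensional schemes

* `eq_or_eq_of_specializes_of_dim_le_one`: if `x₁ ⤳ x₂ ⤳ y` and `dim 𝒪_{X,y} ≤ 1` then `x₁ = x₂`
  or `x₂ = y`.
* `finite_of_forall_isClosed_singleton`: a closed subset of a Noetherian quasi-sober space all of
  whose points are closed is finite.
* `ringKrullDim_stalk_le_zero_of_subsingleton`.
-/

set_option autoImplicit false
set_option linter.style.haveILetI false
universe u
open CategoryTheory CategoryTheory.Limits AlgebraicGeometry TopologicalSpace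

namespace Groth.Agent.Lib.Helper4.CurveTop

theorem eq_or_eq_of_specializes_of_dim_le_one {X : Scheme.{u}} (x₁ x₂ y : X) (h1 : x₁ ⤳ x₂)
    (h2 : x₂ ⤳ y) (hdim : ringKrullDim (X.presheaf.stalk y) ≤ 1) : x₁ = x₂ ∨ x₂ = y := by
  obtain ⟨p₁, hp₁⟩ := Groth.Agent.Lib.Helper14.exists_fromSpecStalk_eq X y x₁ (h1.trans h2)
  obtain ⟨p₂, hp₂⟩ := Groth.Agent.Lib.Helper14.exists_fromSpecStalk_eq X y x₂ h2
  have hle : p₁.asIdeal ≤ p₂.asIdeal := by
    have : p₁ ⤳ p₂ := by
      rw [← Groth.Agent.Lib.Helper14.fromSpecStalk_specializes_iff X y, hp₁, hp₂]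
      exact h1
    exact (PrimeSpectrum.le_iff_specializes p₁ p₂).mpr this
  have hdim' : Ring.KrullDimLE 1 (X.presheaf.stalk y) :=
    Ring.krullDimLE_iff.mpr (by simpa using hdim)
  rcases Ring.krullDimLE_one_iff.mp hdim' p₂.asIdeal p₂.isPrime with hmin | hmax
  · left
    have : p₁ = p₂ := PrimeSpectrum.ext (le_antisymm hle (hmin.2 ⟨p₁.isPrime, bot_le⟩ hle))
    rw [← hp₁, ← hp₂, this]
  · right
    have : p₂ = IsLocalRing.closedPoint (X.presheaf.stalk y) :=
      PrimeSpectrum.ext (IsLocalRing.eq_maximalIdeal hmax)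
    rw [← hp₂, this, Scheme.fromSpecStalk_closedPoint]

theorem finite_of_forall_isClosed_singleton {α : Type*} [TopologicalSpace α] [NoetherianSpace α]
    [QuasiSober α] {F : Set α} (hF : IsClosed F) (h : ∀ x ∈ F, IsClosed ({x} : Set α)) :
    F.Finite := by
  obtain ⟨S, hSfin, hScl, hSirr, rfl⟩ := NoetherianSpace.exists_finite_set_isClosed_irreducible hF
  apply Set.Finite.sUnion hSfin
  intro t ht
  obtain ⟨z, hz⟩ := QuasiSober.sober (hSirr t ht) (hScl t ht)
  have hzt : z ∈ t := hz.mem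
  have hzF : z ∈ ⋃₀ S := ⟨t, ht, hzt⟩
  have : t = {z} := by
    rw [← hz.def, (h z hzF).closure_eq]
  rw [this]
  exact Set.finite_singleton z

theorem ringKrullDim_stalk_le_zero_of_subsingleton {X : Scheme.{u}} [Subsingleton X] (x : X) :
    ringKrullDim (X.presheaf.stalk x) ≤ 0 := by
  haveI : Subsingleton (PrimeSpectrum (X.presheaf.stalk x)) := by
    constructor
    intro a b
    exact (X.fromSpecStalk x).isEmbedding.injective (Subsingleton.elim _ _)
  exact Order.krullDim_nonpos_of_subsingleton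

end Groth.Agent.Lib.Helper4.CurveTop
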