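import Groth.Agent.Lib.Helper4VarDim3
import Groth.Agent.Lib.Helper4CurveTop

/-!
# Point-level dimension theory on schemes locally of finite type over a field

* `trdeg_le_of_specializes`: `x ⤳ x'` implies `trdeg κ(x') ≤ trdeg κ(x)`, with equality only if
  `x = x'`.
* `trdeg_eq_zero_of_isClosed`: closed points have algebraic residue fields.
* `exists_between_of_add_two_le_trdeg`: if `trdeg κ(x') + 2 ≤ trdeg κ(x)`, there is a point
  strictly between `x` and `x'`.
* `exists_generic_specializes`: every point is a specialization of a generic point of an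
  irreducible component.
* `trdeg_generic_eq_one_iff`: generic points have `trdeg = 1` iff closed points have local rings of
  dimension one (quasi-compact case).
-/

set_option autoImplicit false
set_option linter.style.haveILetI false
universe u

open AlgebraicGeometry CategoryTheory TopologicalSpace

namespace Groth.Agent.Lib.Helper4.VarDim

variable (k : Type u) [Field k] (X : Scheme.{u}) [X.Over (Spec (CommRingCat.of k))]

attribute [local instance] sectionsAlgebra Curv2.resAlgebra

theorem trdeg_le_of_specializes [LocallyOfFiniteType (X ↘ Spec (CommRingCat.of k))] (x x' : X)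
    (h : x ⤳ x') :
    ∃ m n : ℕ, Algebra.trdeg k (X.residueField x) = m ∧
      Algebra.trdeg k (X.residueField x') = n ∧ n ≤ m ∧ (m = n → x = x') := by
  obtain ⟨U, hU, hx', -⟩ := exists_isAffineOpen_mem_and_subset (U := ⊤) (x := x') trivial
  have hx : x ∈ U := h.mem_open U.isOpen hx'
  obtain ⟨m, c, n, hm, hn, hmc, hc⟩ := trdeg_specializes k X hU x x' hx hx' h
  refine ⟨m, n, hm, hn, by omega, fun hmn => ?_⟩
  have hc0 : c = 0 := by omega
  set p := (hU.primeIdealOf ⟨x, hx⟩).asIdeal with hp
  set q := (hU.primeIdealOf ⟨x', hx'⟩).asIdeal with hq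
  have hpq : p ≤ q := (primeIdealOf_le_iff hU x x' hx hx').mpr h
  rw [hc0, Nat.cast_zero, Ideal.height_eq_zero_iff_eq_bot, Ideal.map_eq_bot_iff_le_ker,
    Ideal.mk_ker] at hc
  apply primeIdealOf_injective hU x x' hx hx'
  exact PrimeSpectrum.ext (le_antisymm hpq hc)

theorem trdeg_eq_zero_of_isClosed [LocallyOfFiniteType (X ↘ Spec (CommRingCat.of k))] (x : X)
    (hx : IsClosed ({x} : Set X)) : Algebra.trdeg k (X.residueField x) = 0 := by
  obtain ⟨U, hU, hxU, -⟩ := exists_isAffineOpen_mem_and_subset (U := ⊤) (x := x) trivial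
  have hmax : (hU.primeIdealOf ⟨x, hxU⟩).asIdeal.IsMaximal := by
    rw [← PrimeSpectrum.isClosed_singleton_iff_isMaximal]
    have h1 : ({hU.primeIdealOf ⟨x, hxU⟩} : Set (PrimeSpectrum Γ(X, U))) =
        hU.fromSpec ⁻¹' {x} := by
      ext q
      simp only [Set.mem_singleton_iff]
      show q = _ ↔ hU.fromSpec q = x
      constructor
      · rintro rfl
        exact hU.fromSpec_primeIdealOf ⟨x, hxU⟩
      · intro hq
        apply hU.fromSpec.isOpenEmbedding.injective
        rw [hq, hU.fromSpec_primeIdealOf ⟨x, hxU⟩]
    rw [h1]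
    exact hx.preimage hU.fromSpec.continuous
  obtain ⟨n, hn, hn'⟩ := exists_trdeg_eq_dim k X hU x hxU
  rw [ringKrullDim_eq_zero_of_isField
    ((Ideal.Quotient.maximal_ideal_iff_isField_quotient _).mp hmax)] at hn'
  have : n = 0 := by exact_mod_cast hn'.symm
  rw [hn, this, Nat.cast_zero]

theorem exists_between_of_add_two_le_trdeg [LocallyOfFiniteType (X ↘ Spec (CommRingCat.of k))]
    (x x' : X) (h : x ⤳ x') (m n : ℕ) (hm : Algebra.trdeg k (X.residueField x) = m)
    (hn : Algebra.trdeg k (X.residueField x') = n) (hmn : n + 2 ≤ m) :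
    ∃ z : X, x ⤳ z ∧ z ⤳ x' ∧ z ≠ x ∧ z ≠ x' := by
  by_contra hcon
  push Not at hcon
  have hne : x ≠ x' := by
    rintro rfl
    have : (m : Cardinal.{u}) = n := hm.symm.trans hn
    have : m = n := by exact_mod_cast this
    omega
  have himm : ∀ y : X, x ⤳ y → y ⤳ x' → y = x ∨ y = x' := by
    intro y h1 h2
    by_contra hy
    push Not at hy
    exact hy.2 (hcon y h1 h2 hy.1)
  have := trdeg_of_immediate k X x x' hne h himm n hn
  have : (m : Cardinal.{u}) = (n + 1 : ℕ) := by rw [← hm, this]; push_cast; rfl
  have : m = n + 1 := by exact_mod_cast this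
  omega

theorem exists_generic_specializes {α : Type*} [TopologicalSpace α] [QuasiSober α] (z : α) :
    ∃ y : α, closure ({y} : Set α) ∈ irreducibleComponents α ∧ y ⤳ z := by
  have hZ := irreducibleComponent_mem_irreducibleComponents z
  obtain ⟨y, hy⟩ := QuasiSober.sober hZ.1 (isClosed_of_mem_irreducibleComponents _ hZ)
  refine ⟨y, by rw [hy.def]; exact hZ, ?_⟩
  rw [specializes_iff_mem_closure, hy.def]
  exact mem_irreducibleComponent

theorem eq_of_specializes_generic {α : Type*} [TopologicalSpace α] [T0Space α] (y z : α)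
    (hy : closure ({y} : Set α) ∈ irreducibleComponents α) (h : z ⤳ y) : z = y := by
  have h1 : closure ({y} : Set α) ⊆ closure {z} := specializes_iff_closure_subset.mp h
  have h2 : closure ({z} : Set α) ⊆ closure {y} := hy.2 isIrreducible_singleton.closure h1
  have h3 : y ⤳ z := specializes_iff_closure_subset.mpr h2
  exact (h.antisymm h3).eq

set_option backward.isDefEq.respectTransparency false in
theorem trdeg_generic_eq_one_iff [LocallyOfFiniteType (X ↘ Spec (CommRingCat.of k))]
    [QuasiCompact (X ↘ Spec (CommRingCat.of k))] :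
    (∀ x : X, closure ({x} : Set X) ∈ irreducibleComponents (X : Type u) →
        Algebra.trdeg k (X.residueField x) = 1) ↔
      ∀ x : X, IsClosed ({x} : Set X) → ringKrullDim (X.presheaf.stalk x) = 1 := by
  haveI : CompactSpace X :=
    QuasiCompact.compactSpace_of_compactSpace (X ↘ Spec (CommRingCat.of k))
  constructor
  · intro hgen x hx
    have htx := trdeg_eq_zero_of_isClosed k X x hx
    have hle1 : ∀ z : X, ∃ n : ℕ, Algebra.trdeg k (X.residueField z) = n ∧ n ≤ 1 := by
      intro z
      obtain ⟨y, hy, hyz⟩ := exists_generic_specializes z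
      obtain ⟨m, n, hm, hn, hnm, -⟩ := trdeg_le_of_specializes k X y z hyz
      have : m = 1 := by
        have h1 := hgen y hy
        rw [hm] at h1
        exact_mod_cast h1
      exact ⟨n, hn, by omega⟩
    apply le_antisymm
    · rw [ringKrullDim, Order.krullDim_le_one_iff]
      intro P
      by_cases hP : X.fromSpecStalk x P = x
      · right
        have hPc : P = IsLocalRing.closedPoint (X.presheaf.stalk x) :=
          (X.fromSpecStalk x).isEmbedding.injective (hP.trans Scheme.fromSpecStalk_closedPoint.symm)
        rw [hPc]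
        intro Q _
        exact IsLocalRing.le_maximalIdeal Q.isPrime.ne_top
      · left
        intro P' hP'
        have hz'z : X.fromSpecStalk x P' ⤳ X.fromSpecStalk x P := by
          rw [Groth.Agent.Lib.Helper14.fromSpecStalk_specializes_iff]
          exact (PrimeSpectrum.le_iff_specializes P' P).mp hP'
        have hzx : X.fromSpecStalk x P ⤳ x := Groth.Agent.Lib.Helper14.fromSpecStalk_specializes X x P
        obtain ⟨m1, n1, hm1, hn1, hle1', hinj1⟩ := trdeg_le_of_specializes k X _ _ hzx
        obtain ⟨m2, n2, hm2, hn2, hle2, hinj2⟩ := trdeg_le_of_specializes k X _ _ hz'z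
        obtain ⟨n3, hn3, hn3'⟩ := hle1 (X.fromSpecStalk x P')
        have e1 : n1 = 0 := by
          have : (n1 : Cardinal.{u}) = 0 := hn1.symm.trans htx
          exact_mod_cast this
        have e2 : n2 = m1 := by
          have : (n2 : Cardinal.{u}) = m1 := hn2.symm.trans hm1
          exact_mod_cast this
        have e3 : n3 = m2 := by
          have : (n3 : Cardinal.{u}) = m2 := hn3.symm.trans hm2
          exact_mod_cast this
        have hm1pos : m1 ≠ 0 := by
          intro h0
          exact hP (hinj1 (by omega))
        have hzz' : X.fromSpecStalk x P' = X.fromSpecStalk x P := hinj2 (by omega)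
        have hPP : P' = P := (X.fromSpecStalk x).isEmbedding.injective hzz'
        rw [hPP]
    · rw [ringKrullDim, Order.one_le_krullDim_iff]
      obtain ⟨y, hy, hyx⟩ := exists_generic_specializes x
      obtain ⟨P, hP⟩ := Groth.Agent.Lib.Helper14.exists_fromSpecStalk_eq X x y hyx
      refine ⟨P, IsLocalRing.closedPoint (X.presheaf.stalk x),
        lt_of_le_of_ne (IsLocalRing.le_maximalIdeal P.isPrime.ne_top) ?_⟩
      intro hPc
      have hyx' : y = x := by
        rw [← hP, hPc, Scheme.fromSpecStalk_closedPoint]
      have h1 := hgen y hy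
      rw [hyx', htx] at h1
      exact zero_ne_one h1
  · intro hcl y hy
    obtain ⟨x, hxy, hx⟩ := (isClosed_closure (s := ({y} : Set X))).exists_closed_singleton
      (Set.singleton_nonempty y).closure
    have hyx : y ⤳ x := specializes_iff_mem_closure.mpr hxy
    have hdim := hcl x hx
    have htx := trdeg_eq_zero_of_isClosed k X x hx
    obtain ⟨m, n, hm, hn, hnm, hinj⟩ := trdeg_le_of_specializes k X y x hyx
    have e1 : n = 0 := by
      have : (n : Cardinal.{u}) = 0 := hn.symm.trans htx
      exact_mod_cast this
    have hm0 : m ≠ 0 := by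
      intro h0
      have hyx' : y = x := hinj (by omega)
      have h1 : (1 : WithBot ℕ∞) ≤ ringKrullDim (X.presheaf.stalk x) := hdim.ge
      rw [ringKrullDim, Order.one_le_krullDim_iff] at h1
      obtain ⟨P, P', hPP'⟩ := h1
      have hz : X.fromSpecStalk x P ⤳ x := Groth.Agent.Lib.Helper14.fromSpecStalk_specializes X x P
      have hz' : X.fromSpecStalk x P' ⤳ x :=
        Groth.Agent.Lib.Helper14.fromSpecStalk_specializes X x P'
      have h2 : X.fromSpecStalk x P = x :=
        (eq_of_specializes_generic y _ hy (hyx' ▸ hz)).trans hyx'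
      have h3 : X.fromSpecStalk x P' = x :=
        (eq_of_specializes_generic y _ hy (hyx' ▸ hz')).trans hyx'
      exact hPP'.ne ((X.fromSpecStalk x).isEmbedding.injective (h2.trans h3.symm))
    have hm1 : m ≤ 1 := by
      by_contra hm2
      obtain ⟨z, hyz, hzx, hzy, hzx'⟩ := exists_between_of_add_two_le_trdeg k X y x hyx m n hm hn
        (by omega)
      rcases Groth.Agent.Lib.Helper4.CurveTop.eq_or_eq_of_specializes_of_dim_le_one y z x hyz hzx
        hdim.le with h | h
      · exact hzy h.symm
      · exact hzx' h
    have : m = 1 := by omega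
    rw [hm, this, Nat.cast_one]

end Groth.Agent.Lib.Helper4.VarDim
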