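import Groth.Agent.Lib.Helper4Japanese3
import Mathlib.RingTheory.ZariskisMainTheorem
import Mathlib.RingTheory.QuasiFinite.Basic

/-!
# Quasi-finite extensions of N-2 domains (helper4)

`isN2_of_quasiFinite` (Stacks 032I): a finite type quasi-finite domain extension of a Noetherian N-2
domain is N-2, through Mathlib's algebraic Zariski main theorem.
-/

set_option autoImplicit false
set_option linter.style.haveILetI false
set_option linter.unusedSectionVars false
universe u

open Groth CAlg Groth.Agent.Lib.Helper14 Groth.Agent.Lib.Helper4.Japanese

namespace Groth.Agent.Lib.Helper4.QuasiFiniteN2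

variable {R S : Type u} [CommRing R] [IsDomain R] [IsNoetherianRing R] [CommRing S]
    [IsDomain S] [Algebra R S]

/-- the integral closure of a Noetherian N-2 domain `R` in a quasi-finite domain extension `S` is a
finite `R`-module. -/
theorem finite_integralClosure_of_quasiFinite (hinj : Function.Injective (algebraMap R S))
    [Algebra.QuasiFinite R S] (hR : IsN2 R) : Module.Finite R (integralClosure R S) := by
  let K := FractionRing R
  let L := FractionRing S
  haveI : FaithfulSMul R S := (faithfulSMul_iff_algebraMap_injective R S).mpr hinj
  haveI : FaithfulSMul R L := by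
    rw [faithfulSMul_iff_algebraMap_injective, IsScalarTower.algebraMap_eq R S L]
    exact (IsFractionRing.injective S L).comp hinj
  letI : Algebra K L := FractionRing.liftAlgebra R L
  haveI : IsScalarTower R K L := FractionRing.isScalarTower_liftAlgebra R L
  haveI : Algebra.QuasiFinite R L := inferInstance
  haveI : Algebra.QuasiFinite K L := Algebra.QuasiFinite.of_restrictScalars R K L
  haveI : Module.Finite K L := Module.Finite.of_quasiFinite
  haveI h1 : Module.Finite R (integralClosure R L) := IsN2.finite hR K L
  haveI : IsNoetherian R (integralClosure R L) := isNoetherian_of_isNoetherianRing_of_finite R _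
  let g : integralClosure R S →ₗ[R] integralClosure R L :=
    (AlgHom.mapIntegralClosure (IsScalarTower.toAlgHom R S L)).toLinearMap
  have hg : Function.Injective g := by
    intro x y hxy
    have h2 : algebraMap S L (x : S) = algebraMap S L (y : S) :=
      congrArg (fun z : integralClosure R L => (z : L)) hxy
    exact Subtype.ext (IsFractionRing.injective S L h2)
  exact Module.Finite.of_injective g hg


/-- Stacks 032I: a quasi-finite finite type domain extension of a Noetherian N-2 domain is N-2. -/
theorem isN2_of_quasiFinite (hinj : Function.Injective (algebraMap R S)) [Algebra.FiniteType R S]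
    [Algebra.QuasiFinite R S] (hR : IsN2 R) : IsN2 S := by
  classical
  let S' := integralClosure R S
  haveI : Module.Finite R S' := finite_integralClosure_of_quasiFinite hinj hR
  have hinj' : Function.Injective (algebraMap R S') := by
    intro a b hab
    apply hinj
    exact congrArg (fun z : S' => (z : S)) hab
  have hS' : IsN2 S' := isN2_of_finite_injective R S' hinj' hR
  -- Zariski's main theorem at every prime
  have hZ : ∀ p : Ideal S, p.IsPrime → ∃ r : S', (r : S) ∉ p ∧ Function.Bijective
      (Localization.awayMap S'.val.toRingHom r) := by
    intro p hp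
    haveI := hp
    exact Algebra.ZariskisMainProperty.of_finiteType (R := R) p
  -- the set of good elements
  let G : Set S := {s | s ≠ 0 ∧ ∃ r : S', (r : S) = s ∧ Function.Bijective
      (Localization.awayMap S'.val.toRingHom r)}
  have hG : Ideal.span G = ⊤ := by
    by_contra hne
    obtain ⟨m, hm, hle⟩ := Ideal.exists_le_maximal _ hne
    obtain ⟨r, hr, hbij⟩ := hZ m hm.isPrime
    refine hr (hle (Ideal.subset_span ⟨?_, r, rfl, hbij⟩))
    intro h0
    exact hr (h0 ▸ m.zero_mem)
  obtain ⟨T, hTG, hT⟩ := (Ideal.span_eq_top_iff_finite G).mp hG
  choose r hr hbij using (fun i : T => (hTG i.2).2)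
  have h0 : ∀ i : T, (i : S) ≠ 0 := fun i => (hTG i.2).1
  let f : T → S := fun i => S'.val.toRingHom (r i)
  have hfi : ∀ i, f i = (i : S) := hr
  have hf : Ideal.span (Set.range f) = ⊤ := by
    have : Set.range f = (T : Set S) := by
      rw [show f = fun i : T => (i : S) from funext hfi]
      exact Subtype.range_coe
    rw [this]; exact hT
  haveI : ∀ i : T, IsDomain (Localization.Away (f i)) := fun i =>
    IsLocalization.isDomain_localization
      (powers_le_nonZeroDivisors_of_noZeroDivisors (by rw [hfi]; exact h0 i))
  refine isN2_of_away_cover S f hf (fun i => Localization.Away (f i)) ?_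
  intro i
  have hr0 : r i ≠ 0 := by
    intro h
    apply h0 i
    rw [← hr i, h]; rfl
  haveI : IsDomain (Localization.Away (r i)) :=
    IsLocalization.isDomain_localization (powers_le_nonZeroDivisors_of_noZeroDivisors hr0)
  have h1 : IsN2 (Localization.Away (r i)) :=
    isN2_of_isLocalization S' (Submonoid.powers (r i)) (Localization.Away (r i)) hS'
  exact isN2_of_ringEquiv (RingEquiv.ofBijective _ (hbij i)) h1


end Groth.Agent.Lib.Helper4.QuasiFiniteN2
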