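import Groth.Agent.S0570
import Groth.Agent.S2114
import Groth.Agent.Lib.Helper14Japanese
import Mathlib.RingTheory.NoetherNormalization

/-!
# Finite type algebras over a field are Japanese / Nagata (helper4)

* `isN2_mvPolynomial_fin` : `k[X₁,…,Xₙ]` is N-2.
* `isN2_of_finiteType_field` : a domain of finite type over a field is N-2.
* `isUniversallyJapanese_field` : a field is universally Japanese.
* `isNagata_of_finiteType_field` : a finite type algebra over a field is Nagata.
-/

set_option autoImplicit false
set_option linter.style.haveILetI false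
universe u

namespace Groth.Agent.Lib.Helper4.FieldJapanese

open Groth.Agent.Lib.Helper14

theorem isN2_mvPolynomial_fin (k : Type u) [Field k] (n : ℕ) :
    CAlg.IsN2 (MvPolynomial (Fin n) k) := by
  induction n with
  | zero =>
    exact isN2_of_ringEquiv (MvPolynomial.isEmptyRingEquiv k (Fin 0)).symm
      (isN2_of_isField k (Field.toIsField k))
  | succ n ih =>
    have h1 := (Groth.Agent.S0570.result (MvPolynomial (Fin n) k)).2 ih
    exact isN2_of_ringEquiv (MvPolynomial.finSuccEquiv k n).symm.toRingEquiv h1

theorem isN2_of_finiteType_field (k A : Type u) [Field k] [CommRing A] [IsDomain A]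
    [Algebra k A] [Algebra.FiniteType k A] : CAlg.IsN2 A := by
  obtain ⟨s, g, hinj, hfin⟩ := exists_finite_inj_algHom_of_fg k A
  letI : Algebra (MvPolynomial (Fin s) k) A := g.toRingHom.toAlgebra
  haveI : Module.Finite (MvPolynomial (Fin s) k) A := hfin
  exact Groth.Agent.S2114.result (R := MvPolynomial (Fin s) k) (S := A) hinj
    (isN2_mvPolynomial_fin k s)

theorem isUniversallyJapanese_field (k : Type u) [Field k] : CAlg.IsUniversallyJapanese k :=
  fun S _ _ _ hS => by
    haveI := hS
    exact isN2_of_finiteType_field k S

theorem isNagata_of_finiteType_field (k A : Type u) [Field k] [CommRing A]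
    [Algebra k A] [Algebra.FiniteType k A] : CAlg.IsNagata A := by
  refine ⟨Algebra.FiniteType.isNoetherianRing k A, fun p _ => ?_⟩
  haveI : Algebra.FiniteType k (A ⧸ p) :=
    Algebra.FiniteType.of_surjective (Ideal.Quotient.mkₐ k p) (Ideal.Quotient.mkₐ_surjective k p)
  exact isN2_of_finiteType_field k (A ⧸ p)

end Groth.Agent.Lib.Helper4.FieldJapanese
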