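import Mathlib
import Groth.Agent.Lib.Helper3EquiDim
import Groth.Agent.Lib.Helper3CompDim
import Groth.Agent.Lib.Helper14Japanese
import Groth.Agent.Lib.Helper4VarDim4
import Groth.Agent.S7616

set_option autoImplicit false
set_option linter.style.haveILetI false

namespace Groth.Agent.Lib.Helper3.CurvePt

universe u
open CategoryTheory CategoryTheory.Limits AlgebraicGeometry

/-- local rings of a scheme locally of finite type over a field are Nagata -/
theorem isNagata_stalk (k : Type u) [Field k] (X : Scheme.{u}) [X.Over (Spec (CommRingCat.of k))]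
    [LocallyOfFiniteType (X ↘ (Spec (CommRingCat.of k)))] (x : X) : CAlg.IsNagata (X.presheaf.stalk x) := by
  obtain ⟨_, ⟨U, hU, rfl⟩, hxU, -⟩ := X.isBasis_affineOpens.exists_subset_of_mem_open
    (Set.mem_univ x) isOpen_univ
  letI : Algebra Γ(X, U) (X.presheaf.stalk x) := (X.presheaf.germ U x hxU).hom.toAlgebra
  haveI : IsLocalization.AtPrime (X.presheaf.stalk x) (hU.primeIdealOf ⟨x, hxU⟩).asIdeal :=
    hU.isLocalization_stalk ⟨x, hxU⟩
  exact Groth.Agent.Lib.Helper14.isNagata_of_isLocalization Γ(X, U)
    (hU.primeIdealOf ⟨x, hxU⟩).asIdeal.primeCompl (X.presheaf.stalk x)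
    (Groth.Agent.S7616.isNagata_sections_of_locallyOfFiniteType_field k X U hU)

/-- the local ring at a closed point of a scheme of pure dimension one -/
theorem ringKrullDim_stalk_eq_one (k : Type u) [Field k] (X : Scheme.{u})
    [X.Over (Spec (CommRingCat.of k))] [LocallyOfFiniteType (X ↘ (Spec (CommRingCat.of k)))]
    (hequi : ∀ Z ∈ irreducibleComponents (X : Type u), topologicalKrullDim Z = 1)
    (x : X) (hx : IsClosed ({x} : Set X)) : ringKrullDim (X.presheaf.stalk x) = 1 := by
  have h1 := (Groth.Agent.Lib.Helper3.EquiDim.forall_dim_irreducibleComponents_eq_iff k X 1).mp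
    (fun Z hZ => by rw [hequi Z hZ]; rfl) x
  have h2 := Groth.Agent.Lib.Helper3.CompDim.localDim_eq_stalk_add_ptTrdeg
    (K := CommRingCat.of k) (Field.toIsField k) (X ↘ (Spec (CommRingCat.of k))) x
  rw [Groth.Agent.Lib.Helper4.DimFormula.ptTrdeg_eq_zero_of_isClosed _ x hx, h1] at h2
  simpa using h2.symm

/-- the residue field at a closed point over an algebraically closed field -/
theorem resMap_bijective (k : Type u) [Field k] (X : Scheme.{u})
    [X.Over (Spec (CommRingCat.of k))] [LocallyOfFiniteType (X ↘ (Spec (CommRingCat.of k)))]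
    [IsAlgClosed k] (x : X) (hx : IsClosed ({x} : Set X)) :
    Function.Bijective (Curv2.resMap k X x) := by
  letI := Curv2.resAlgebra k X x
  have h1 := Groth.Agent.Lib.Helper4.VarDim.trdeg_eq_zero_of_isClosed k X x hx
  rw [trdeg_eq_zero_iff] at h1
  haveI := h1
  haveI : Algebra.IsIntegral k (X.residueField x) := Algebra.IsAlgebraic.isIntegral
  exact IsAlgClosed.algebraMap_bijective_of_isIntegral

theorem algebraMap_residueField_bijective (k : Type u) [Field k] (X : Scheme.{u})
    [X.Over (Spec (CommRingCat.of k))] [LocallyOfFiniteType (X ↘ (Spec (CommRingCat.of k)))]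
    [IsAlgClosed k] (x : X) (hx : IsClosed ({x} : Set X)) :
    letI := Curv2.stalkAlgebra k X x
    Function.Bijective (algebraMap k (IsLocalRing.ResidueField (X.presheaf.stalk x))) :=
  resMap_bijective k X x hx

end Groth.Agent.Lib.Helper3.CurvePt
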