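import Mathlib
import Groth.Agent.Lib.Helper3DeltaH
import Groth.Agent.Lib.Helper3DeltaB

set_option autoImplicit false
set_option linter.style.haveILetI false

namespace Groth.Agent.Lib.Helper3.Delta

universe u
open IsLocalRing TensorProduct Polynomial Algebra.TensorProduct

section Core

variable (A : Type u) [CommRing A] [IsLocalRing A] [IsDomain A] [IsNoetherianRing A]
  (B : Type u) [CommRing B] [IsLocalRing B] [IsNoetherianRing B]
  [Algebra A B] [IsLocalHom (algebraMap A B)] [Module.Flat A B]
  [Module.Finite A (integralClosure A (FractionRing A))]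

-- every maximal ideal of the normalization lies over the maximal ideal
theorem comap_eq_maximalIdeal_of_isMaximal
    (P : Ideal (integralClosure A (FractionRing A))) [P.IsMaximal] :
    P.comap (algebraMap A (integralClosure A (FractionRing A))) = maximalIdeal A := by
  have h := Ideal.isMaximal_comap_of_isIntegral_of_isMaximal (R := A) P
  exact IsLocalRing.eq_maximalIdeal h

theorem map_maximalIdeal_eq_of_reduced_fibre (hdA : ringKrullDim A = 1) (hdB : ringKrullDim B ≤ 1)
    (P : Ideal (integralClosure A (FractionRing A))) [P.IsMaximal]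
    (hred : IsReduced ((integralClosure A (FractionRing A) ⧸ P) ⊗[A] B)) :
    (maximalIdeal A).map (algebraMap A B) = maximalIdeal B := by
  -- a nonzero element of the maximal ideal
  have hne : maximalIdeal A ≠ ⊥ := by
    intro h
    have hf : IsField A := IsLocalRing.isField_iff_maximalIdeal_eq.mpr h
    rw [ringKrullDim_eq_zero_of_isField hf] at hdA
    exact zero_ne_one hdA
  obtain ⟨a, ham, ha0⟩ := Submodule.exists_mem_ne_zero_of_ne_bot hne
  have hcomap := comap_eq_maximalIdeal_of_isMaximal A P
  refine eq_maximalIdeal_of_isRadical hdB _ (IsLocalRing.map_maximalIdeal_lt_top _).ne ?_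
    (algebraMap A B a) (Ideal.mem_map_of_mem _ ham)
    (algebraMap_mem_nonZeroDivisors_of_flat A B a ha0)
  rw [Ideal.isRadical_iff_quotient_reduced]
  -- the quotient embeds into the reduced fibre
  let f : (A ⧸ maximalIdeal A) →ₐ[A] (integralClosure A (FractionRing A) ⧸ P) :=
    Ideal.quotientMapₐ P (Algebra.ofId A _) (le_of_eq hcomap.symm)
  have hf : Function.Injective f := by
    rw [injective_iff_map_eq_zero]
    intro x hx
    obtain ⟨r, rfl⟩ := Ideal.Quotient.mk_surjective x
    have h1 : f (Ideal.Quotient.mk _ r) = Ideal.Quotient.mk P (algebraMap A _ r) := rfl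
    rw [h1, Ideal.Quotient.eq_zero_iff_mem, ← Ideal.mem_comap, hcomap] at hx
    exact Ideal.Quotient.eq_zero_iff_mem.mpr hx
  have hinj : Function.Injective (Algebra.TensorProduct.map f (AlgHom.id A B)) :=
    Module.Flat.rTensor_preserves_injective_linearMap (M := B) f.toLinearMap hf
  let g : (B ⧸ (maximalIdeal A).map (algebraMap A B)) →+*
      (integralClosure A (FractionRing A) ⧸ P) ⊗[A] B :=
    (Algebra.TensorProduct.map f (AlgHom.id A B)).toRingHom.comp
      (quotIdealMapEquivQuotTensor B (maximalIdeal A)).toRingEquiv.toRingHom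
  have hg : Function.Injective g :=
    hinj.comp (quotIdealMapEquivQuotTensor B (maximalIdeal A)).injective
  exact isReduced_of_injective g hg

local notation "A'" => integralClosure A (FractionRing A)

theorem normal_localization_of_reduced_fibres (hdA : ringKrullDim A = 1)
    (hdB : ringKrullDim B ≤ 1)
    (hred : ∀ (P : Ideal (integralClosure A (FractionRing A))) [P.IsMaximal],
      IsReduced ((integralClosure A (FractionRing A) ⧸ P) ⊗[A] B))
    (M : Ideal (B ⊗[A] integralClosure A (FractionRing A))) [hM : M.IsMaximal] :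
    IsDomain (Localization.AtPrime M) ∧ IsIntegrallyClosed (Localization.AtPrime M) := by
  haveI : Ring.KrullDimLE 1 A := Ring.krullDimLE_iff.mpr (le_of_eq hdA)
  haveI : Ring.KrullDimLE 1 B := Ring.krullDimLE_iff.mpr hdB
  haveI : IsNoetherianRing A' :=
    isNoetherian_of_tower A (isNoetherian_of_isNoetherianRing_of_finite A _)
  haveI : IsNoetherianRing (B ⊗[A] A') :=
    isNoetherian_of_tower B (isNoetherian_of_isNoetherianRing_of_finite B _)
  haveI : IsNoetherianRing (A' ⊗[A] B) :=
    isNoetherianRing_of_ringEquiv _ (Algebra.TensorProduct.comm A B A').toRingEquiv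
  -- a nonzero element of the maximal ideal
  have hne : maximalIdeal A ≠ ⊥ := by
    intro h
    have hf : IsField A := IsLocalRing.isField_iff_maximalIdeal_eq.mpr h
    rw [ringKrullDim_eq_zero_of_isField hf] at hdA
    exact zero_ne_one hdA
  obtain ⟨a, ham, ha0⟩ := Submodule.exists_mem_ne_zero_of_ne_bot hne
  refine normal_localization_of_ringEquiv (R' := A' ⊗[A] B)
    (Algebra.TensorProduct.comm A B A').toRingEquiv M ?_
  intro M' _ hM'
  haveI hM'max : M'.IsMaximal := by
    rw [hM']
    exact Ideal.map_isMaximal_of_equiv _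
  obtain ⟨P, hP⟩ : ∃ P : Ideal A', P = M'.comap (algebraMap A' (A' ⊗[A] B)) := ⟨_, rfl⟩
  haveI : P.IsPrime := hP ▸ Ideal.comap_isPrime _ _
  have hK : TensorLocal.K A A' B ≤ M' := TensorLocal.K_le_of_isMaximal M'
  have hPA : P.comap (algebraMap A A') = maximalIdeal A := by
    symm
    apply (IsLocalRing.maximalIdeal.isMaximal A).eq_of_le
      (Ideal.IsPrime.ne_top (Ideal.comap_isPrime _ _))
    intro r hr
    rw [Ideal.mem_comap, hP, Ideal.mem_comap]
    apply hK
    have h1 : algebraMap A' (A' ⊗[A] B) (algebraMap A A' r) =
        (includeRight : B →ₐ[A] A' ⊗[A] B).toRingHom (algebraMap A B r) := by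
      rw [Algebra.TensorProduct.algebraMap_apply, Algebra.algebraMap_self, RingHom.id_apply]
      show (algebraMap A A' r) ⊗ₜ[A] (1 : B) = 1 ⊗ₜ[A] (algebraMap A B r)
      rw [Algebra.algebraMap_eq_smul_one, Algebra.algebraMap_eq_smul_one, smul_tmul]
    rw [h1]
    exact Ideal.mem_map_of_mem _ ((IsLocalRing.maximalIdeal_comap (algebraMap A B)).ge hr)
  haveI hPmax : P.IsMaximal := by
    apply Ideal.isMaximal_of_isIntegral_of_isMaximal_comap (R := A) P
    rw [hPA]
    infer_instance
  obtain ⟨hD, hV⟩ := valuationRing_localization_normalization_of_finite A P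
  haveI := hD
  haveI := hV
  have ha' : algebraMap A A' a ≠ 0 := by
    intro h
    apply ha0
    have h2 : algebraMap A (FractionRing A) a = 0 := by
      have := congrArg (fun z : A' => (z : FractionRing A)) h
      simpa using this
    exact (IsFractionRing.injective A (FractionRing A)) (h2.trans (map_zero _).symm)
  have haP : algebraMap A A' a ∈ P := by
    have : a ∈ P.comap (algebraMap A A') := by
      rw [hPA]; exact ham
    exact this
  have hI : (P.map (algebraMap A' (A' ⊗[A] B))).IsRadical := by
    refine (Ideal.isRadical_iff_quotient_reduced (P.map (algebraMap A' (A' ⊗[A] B)))).mpr ?_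
    haveI := hred P
    exact isReduced_of_injective
      (Algebra.TensorProduct.quotientTensorEquiv (R := A) A' B A' P).symm.toRingEquiv.toRingHom
      (Algebra.TensorProduct.quotientTensorEquiv (R := A) A' B A' P).symm.injective
  refine normal_localization_of_radical_fibre A' (A' ⊗[A] B) M' P hP ?_ hI _ haP ha'
  letI : Algebra B (A' ⊗[A] B) := Algebra.TensorProduct.rightAlgebra
  haveI : Algebra.IsIntegral B (A' ⊗[A] B) := ⟨TensorLocal.includeRight_isIntegral⟩
  exact ringKrullDim_localization_le_one B (A' ⊗[A] B) M'

theorem length_eq_of_reduced_fibres (hdA : ringKrullDim A = 1) (hdB : ringKrullDim B ≤ 1)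
    (hred : ∀ (P : Ideal (integralClosure A (FractionRing A))) [P.IsMaximal],
      IsReduced ((integralClosure A (FractionRing A) ⧸ P) ⊗[A] B)) :
    Module.length B (↥(integralClosure B (FractionRing B)) ⧸
      LinearMap.range (Algebra.linearMap B ↥(integralClosure B (FractionRing B)))) =
    Module.length A (↥(integralClosure A (FractionRing A)) ⧸
      LinearMap.range (Algebra.linearMap A ↥(integralClosure A (FractionRing A)))) := by
  obtain ⟨P0, hP0⟩ := Ideal.exists_maximal A'
  haveI := hP0
  exact length_eq_of_normal A B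
    (map_maximalIdeal_eq_of_reduced_fibre A B hdA hdB P0 (hred P0))
    (fun M _ => normal_localization_of_reduced_fibres A B hdA hdB hred M)

end Core

end Groth.Agent.Lib.Helper3.Delta
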