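import Groth.Agent.Lib.Helper4NormBranch
import Groth.Agent.Lib.Helper4NormDelta
import Groth.Prelude.Def_Brnch

/-!
# Branches of an integral scheme at a point and the fibre of its normalization: scheme part (helper4)
-/

set_option autoImplicit false
set_option linter.style.haveILetI false
set_option linter.unusedSectionVars false
universe u
open CategoryTheory CategoryTheory.Limits AlgebraicGeometry Opposite

namespace Groth.Agent.Lib.Helper4.NormBranch

open Groth.Agent.Lib.Helper2.QCoh IsLocalRing

section Fibre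

variable {N X : Scheme.{u}} (f : N ⟶ X) {V : X.Opens} (hV : IsAffineOpen V)
  (hW : IsAffineOpen (f ⁻¹ᵁ V)) (x : X) (hxV : x ∈ V)

include hxV in
theorem mem_preimage_of_eq (x' : N) (h : f x' = x) : x' ∈ f ⁻¹ᵁ V := by
  show f x' ∈ V
  rw [h]; exact hxV

theorem comap_primeIdealOf (x' : N) (hx' : x' ∈ f ⁻¹ᵁ V) :
    (hW.primeIdealOf ⟨x', hx'⟩).asIdeal.comap (f.app V).hom =
      (hV.primeIdealOf ⟨f x', hx'⟩).asIdeal := by
  have h1 := IsAffineOpen.comap_primeIdealOf_appLE (f := f) V hV (f ⁻¹ᵁ V) hW le_rfl hx'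
  rw [Scheme.Hom.appLE_eq_app] at h1
  have := congrArg PrimeSpectrum.asIdeal h1
  rw [PrimeSpectrum.comap_asIdeal] at this
  exact this

/-- The fibre of `f` over `x ∈ V` as primes of `Γ(N, f⁻¹V)` over the prime of `x`. -/
noncomputable def fibreToPrimes :
    letI := (f.app V).hom.toAlgebra
    {x' : N // f x' = x} → PrimesOver' (hV.primeIdealOf ⟨x, hxV⟩).asIdeal Γ(N, f ⁻¹ᵁ V) :=
  letI := (f.app V).hom.toAlgebra
  fun x' => ⟨hW.primeIdealOf ⟨x'.1, mem_preimage_of_eq f x hxV x'.1 x'.2⟩, by
    have h1 := comap_primeIdealOf f hV hW x'.1 (mem_preimage_of_eq f x hxV x'.1 x'.2)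
    refine h1.trans ?_
    have h2 : (⟨f x'.1, mem_preimage_of_eq f x hxV x'.1 x'.2⟩ : V) = ⟨x, hxV⟩ := Subtype.ext x'.2
    rw [h2]⟩

theorem fibreToPrimes_bijective :
    letI := (f.app V).hom.toAlgebra
    Function.Bijective (fibreToPrimes f hV hW x hxV) := by
  letI := (f.app V).hom.toAlgebra
  constructor
  · intro x₁ x₂ h12
    have h3 : hW.primeIdealOf ⟨x₁.1, _⟩ = hW.primeIdealOf ⟨x₂.1, _⟩ := congrArg Subtype.val h12
    have h4 := hW.isoSpec.hom.isOpenEmbedding.injective h3
    exact Subtype.ext (Subtype.mk.inj h4)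
  · rintro ⟨q, hq⟩
    have hx'W : hW.fromSpec q ∈ f ⁻¹ᵁ V := fromSpec_mem hW q
    have hq' : hW.primeIdealOf ⟨hW.fromSpec q, hx'W⟩ = q := primeIdealOf_fromSpec hW q
    have hfx : f (hW.fromSpec q) = x := by
      have h1 := comap_primeIdealOf f hV hW (hW.fromSpec q) hx'W
      rw [hq'] at h1
      have h2 : hV.primeIdealOf ⟨f (hW.fromSpec q), hx'W⟩ = hV.primeIdealOf ⟨x, hxV⟩ := by
        apply PrimeSpectrum.ext
        rw [← h1]
        exact hq
      have h3 := hV.isoSpec.hom.isOpenEmbedding.injective h2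
      exact congrArg Subtype.val h3
    refine ⟨⟨hW.fromSpec q, hfx⟩, ?_⟩
    apply Subtype.ext
    exact hq'

end Fibre

section PerPoint

variable {N X : Scheme.{u}} (f : N ⟶ X) {V : X.Opens} (hV : IsAffineOpen V)
  (hW : IsAffineOpen (f ⁻¹ᵁ V))

/-- Per-point count: embeddings of the residue field extension at `x'` against ring maps
`Γ(N, f⁻¹V) → κ̄(x)` over `Γ(X,V)` with kernel the prime of `x'`. -/
theorem card_fieldEmb_eq (hint : (f.app V).hom.IsIntegral) (x : X) (hxV : x ∈ V) (x' : N) (h : f x' = x) :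
    letI := (f.app V).hom.toAlgebra
    letI : Algebra Γ(X, V) (X.presheaf.stalk x) := (X.presheaf.germ V x hxV).hom.toAlgebra
    haveI : IsLocalization.AtPrime (X.presheaf.stalk x) (hV.primeIdealOf ⟨x, hxV⟩).asIdeal :=
      hV.isLocalization_stalk ⟨x, hxV⟩
    (letI := (f.residueFieldMap x').hom.toAlgebra
     ENat.card (Field.Emb (X.residueField (f x')) (N.residueField x'))) =
      ENat.card {τ : {τ : Γ(N, f ⁻¹ᵁ V) →+* AlgebraicClosure (ResidueField (X.presheaf.stalk x)) //
          τ.comp (algebraMap Γ(X, V) Γ(N, f ⁻¹ᵁ V)) =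
            cA Γ(X, V) (X.presheaf.stalk x) (AlgebraicClosure (ResidueField (X.presheaf.stalk x)))} //
        kerPt (hV.primeIdealOf ⟨x, hxV⟩).asIdeal Γ(N, f ⁻¹ᵁ V)
          (cA Γ(X, V) (X.presheaf.stalk x) (AlgebraicClosure (ResidueField (X.presheaf.stalk x))))
          (ker_cA (hV.primeIdealOf ⟨x, hxV⟩).asIdeal _) τ =
          fibreToPrimes f hV hW x hxV ⟨x', h⟩} := by
  subst h
  letI algAB := (f.app V).hom.toAlgebra
  letI algAR : Algebra Γ(X, V) (X.presheaf.stalk (f x')) := (X.presheaf.germ V (f x') hxV).hom.toAlgebra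
  haveI locR : IsLocalization.AtPrime (X.presheaf.stalk (f x'))
      (hV.primeIdealOf ⟨f x', hxV⟩).asIdeal := hV.isLocalization_stalk ⟨f x', hxV⟩
  have hx'W : x' ∈ f ⁻¹ᵁ V := hxV
  letI algBS : Algebra Γ(N, f ⁻¹ᵁ V) (N.presheaf.stalk x') :=
    (N.presheaf.germ (f ⁻¹ᵁ V) x' hx'W).hom.toAlgebra
  haveI locS : IsLocalization.AtPrime (N.presheaf.stalk x')
      (hW.primeIdealOf ⟨x', hx'W⟩).asIdeal := hW.isLocalization_stalk ⟨x', hx'W⟩
  haveI : Algebra.IsIntegral Γ(X, V) Γ(N, f ⁻¹ᵁ V) := ⟨hint⟩
  have hqp : (hW.primeIdealOf ⟨x', hx'W⟩).asIdeal.comap (algebraMap Γ(X, V) Γ(N, f ⁻¹ᵁ V)) =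
      (hV.primeIdealOf ⟨f x', hxV⟩).asIdeal := comap_primeIdealOf f hV hW x' hx'W
  have hφ : (f.stalkMap x').hom.comp (algebraMap Γ(X, V) (X.presheaf.stalk (f x'))) =
      (algebraMap Γ(N, f ⁻¹ᵁ V) (N.presheaf.stalk x')).comp
        (algebraMap Γ(X, V) Γ(N, f ⁻¹ᵁ V)) := by
    have h1 := Scheme.Hom.germ_stalkMap f V x' hxV
    exact congrArg CommRingCat.Hom.hom h1
  exact card_emb_eq (hV.primeIdealOf ⟨f x', hxV⟩).asIdeal (hW.primeIdealOf ⟨x', hx'W⟩).asIdeal hqp
    (f.stalkMap x').hom hφ (AlgebraicClosure (ResidueField (X.presheaf.stalk (f x'))))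

end PerPoint

section Main

open Groth.Agent.Lib.Helper4.NormCurve Groth.Agent.Lib.Helper4.NormDimOne
open Groth.Agent.Lib.Helper4.NormDelta Groth.Agent.Lib.Helper4.Unibranch
open Groth.Agent.Lib.Helper4.TotalFracFin

/-- The inclusion of integral closures as a ring map. -/
def inclIntegralClosureRingHom (A R K : Type*) [CommRing A] [CommRing R] [Field K] [Algebra A R]
    [Algebra A K] [Algebra R K] [IsScalarTower A R K] :
    integralClosure A K →+* integralClosure R K where
  toFun z := ⟨z.1, z.2.tower_top⟩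
  map_one' := rfl
  map_mul' _ _ := rfl
  map_zero' := rfl
  map_add' _ _ := rfl

variable {X : Scheme.{u}} [IsIntegral X]
variable [QuasiCompact (gen X X.functionField (RingHom.id _))]
  [QuasiSeparated (gen X X.functionField (RingHom.id _))]

theorem numBranchesAt_eq (x : X) :
    Brnch.numBranchesAt X x =
        ENat.card {x' : (gen X X.functionField (RingHom.id _)).normalization //
          (gen X X.functionField (RingHom.id _)).fromNormalization x' = x} ∧
      Brnch.numGeomBranchesAt X x =
        ∑' x' : {x' : (gen X X.functionField (RingHom.id _)).normalization //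
          (gen X X.functionField (RingHom.id _)).fromNormalization x' = x},
          (letI := ((gen X X.functionField (RingHom.id _)).fromNormalization.residueFieldMap
              x'.1).hom.toAlgebra
           ENat.card (Field.Emb (X.residueField
             ((gen X X.functionField (RingHom.id _)).fromNormalization x'.1))
             ((gen X X.functionField (RingHom.id _)).normalization.residueField x'.1))) := by
  obtain ⟨_, ⟨V, hV, rfl⟩, hxV, -⟩ := X.isBasis_affineOpens.exists_subset_of_mem_open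
    (Set.mem_univ x) isOpen_univ
  haveI hne : Nonempty V := ⟨⟨x, hxV⟩⟩
  set ν := (gen X X.functionField (RingHom.id _)).fromNormalization with hν
  have hW : IsAffineOpen (ν ⁻¹ᵁ V) := hV.preimage ν
  letI algAB : Algebra Γ(X, V) Γ((gen X X.functionField (RingHom.id _)).normalization, ν ⁻¹ᵁ V) :=
    (ν.app V).hom.toAlgebra
  letI algAR : Algebra Γ(X, V) (X.presheaf.stalk x) := (X.presheaf.germ V x hxV).hom.toAlgebra
  haveI locR : IsLocalization.AtPrime (X.presheaf.stalk x) (hV.primeIdealOf ⟨x, hxV⟩).asIdeal :=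
    hV.isLocalization_stalk ⟨x, hxV⟩
  haveI : IsScalarTower Γ(X, V) (X.presheaf.stalk x) X.functionField :=
    functionField_isScalarTower X V ⟨x, hxV⟩
  obtain ⟨e⟩ := exists_normalizationSectionsAlgEquiv X.functionField (RingHom.id _) V hV
  -- `R''` as a localization of `B`
  let lam : Γ((gen X X.functionField (RingHom.id _)).normalization, ν ⁻¹ᵁ V) →+*
      integralClosure (X.presheaf.stalk x) X.functionField :=
    (inclIntegralClosureRingHom Γ(X, V) (X.presheaf.stalk x) X.functionField).comp
      (e : _ →+* integralClosure Γ(X, V) X.functionField)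
  letI algBR : Algebra Γ((gen X X.functionField (RingHom.id _)).normalization, ν ⁻¹ᵁ V)
      (integralClosure (X.presheaf.stalk x) X.functionField) := lam.toAlgebra
  haveI tower : IsScalarTower Γ(X, V)
      Γ((gen X X.functionField (RingHom.id _)).normalization, ν ⁻¹ᵁ V)
      (integralClosure (X.presheaf.stalk x) X.functionField) := by
    apply IsScalarTower.of_algebraMap_eq
    intro a
    apply Subtype.ext
    show algebraMap Γ(X, V) X.functionField a = ((e (algebraMap Γ(X, V) _ a) :
      integralClosure Γ(X, V) X.functionField) : X.functionField)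
    rw [e.commutes]
    rfl
  haveI loc0 := isLocalizedModule_inclIntegralClosure (A := Γ(X, V)) (R := X.presheaf.stalk x)
    (K := X.functionField) (hV.primeIdealOf ⟨x, hxV⟩).asIdeal
  haveI locB : IsLocalization (Algebra.algebraMapSubmonoid
      Γ((gen X X.functionField (RingHom.id _)).normalization, ν ⁻¹ᵁ V)
      (hV.primeIdealOf ⟨x, hxV⟩).asIdeal.primeCompl)
      (integralClosure (X.presheaf.stalk x) X.functionField) := by
    rw [← isLocalizedModule_iff_isLocalization]
    have h1 : (IsScalarTower.toAlgHom Γ(X, V)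
        Γ((gen X X.functionField (RingHom.id _)).normalization, ν ⁻¹ᵁ V)
        (integralClosure (X.presheaf.stalk x) X.functionField)).toLinearMap =
        (inclIntegralClosure (A := Γ(X, V)) (R := X.presheaf.stalk x) (K := X.functionField)) ∘ₗ
          (e.toLinearEquiv : _ →ₗ[Γ(X, V)] integralClosure Γ(X, V) X.functionField) := by
      ext b
      rfl
    rw [h1]
    exact IsLocalizedModule.of_linearEquiv_right _ _ e.toLinearEquiv
  have hfin : (minimalPrimes (X.presheaf.stalk x)).Finite := by
    rw [IsDomain.minimalPrimes_eq_singleton_bot]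
    exact Set.finite_singleton _
  have hint : (ν.app V).hom.IsIntegral := by
    intro b
    have h1 : IsIntegral Γ(X, V) (e b) := by
      have h2 : IsIntegral Γ(X, V) ((e b : integralClosure Γ(X, V) X.functionField) :
          X.functionField) := (e b).2
      exact (isIntegral_algHom_iff (integralClosure Γ(X, V) X.functionField).val
        Subtype.val_injective).mp h2
    exact (isIntegral_algEquiv e).mp h1
  constructor
  · unfold Brnch.numBranchesAt Brnch.numBranches
    rw [if_pos hfin]
    rw [ENat.card_congr (maxSpecEquiv (normRedEquiv (X.presheaf.stalk x) X.functionField)),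
      ENat.card_congr (Equiv.ofBijective _ (maxSpecToPrimesOver_bijective
        (hV.primeIdealOf ⟨x, hxV⟩).asIdeal (X.presheaf.stalk x)
        Γ((gen X X.functionField (RingHom.id _)).normalization, ν ⁻¹ᵁ V)
        (integralClosure (X.presheaf.stalk x) X.functionField)))]
    exact (ENat.card_congr (Equiv.ofBijective _ (fibreToPrimes_bijective ν hV hW x hxV))).symm
  · unfold Brnch.numGeomBranchesAt Brnch.numGeomBranches
    rw [if_pos hfin]
    rw [ENat.card_congr (Equiv.ofBijective _ (sigmaEmbToHom_bijective (X.presheaf.stalk x))),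
      ← ENat.card_congr (Equiv.ofBijective _ (homNormRed_bijective (X.presheaf.stalk x)
        X.functionField (Brnch.toClosure (X.presheaf.stalk x)))),
      ENat.card_congr (Equiv.ofBijective _ (homRestrict_bijective
        (hV.primeIdealOf ⟨x, hxV⟩).asIdeal (X.presheaf.stalk x)
        Γ((gen X X.functionField (RingHom.id _)).normalization, ν ⁻¹ᵁ V)
        (integralClosure (X.presheaf.stalk x) X.functionField)
        (Brnch.toClosure (X.presheaf.stalk x))))]
    have h1 := card_hom_eq_tsum (hV.primeIdealOf ⟨x, hxV⟩).asIdeal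
      Γ((gen X X.functionField (RingHom.id _)).normalization, ν ⁻¹ᵁ V)
      (cA Γ(X, V) (X.presheaf.stalk x) (AlgebraicClosure (ResidueField (X.presheaf.stalk x))))
      (ker_cA (hV.primeIdealOf ⟨x, hxV⟩).asIdeal _)
    refine h1.trans ?_
    rw [← (Equiv.ofBijective _ (fibreToPrimes_bijective ν hV hW x hxV)).tsum_eq]
    refine tsum_congr (fun x' => ?_)
    exact (card_fieldEmb_eq ν hV hW hint x hxV x'.1 x'.2).symm

end Main

end Groth.Agent.Lib.Helper4.NormBranch
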