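import Mathlib
import Groth.Agent.Lib.Helper3DeltaI
import Groth.Agent.Lib.Helper4NormBranchSch

set_option autoImplicit false
set_option linter.style.haveILetI false

namespace Groth.Agent.Lib.Helper3.Delta

universe u
open IsLocalRing TensorProduct Polynomial Algebra.TensorProduct

section LemZ

variable (k : Type u) [CommRing k] (R : Type u) [CommRing R] [Algebra k R]
  (K : Type u) [CommRing K] [Algebra k K]
  (BQ : Type u) [CommRing BQ] [Algebra (R ⊗[k] K) BQ]
  [Algebra R BQ] [IsScalarTower R (R ⊗[k] K) BQ]
  (F : Type u) [CommRing F] [Algebra R F] [Algebra k F] [IsScalarTower k R F]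

-- the fibre of a localization of `R ⊗ K` over an `R`-algebra `F` is reduced if `F ⊗ K` is
theorem isReduced_tensor_of_isLocalization (S : Submonoid (R ⊗[k] K)) [IsLocalization S BQ]
    (hF : IsReduced (F ⊗[k] K)) :
    IsReduced (F ⊗[R] BQ) := by
  -- `G = (R ⊗ K) ⊗[R] F ≃ F ⊗[k] K`
  let e1 : ((R ⊗[k] K) ⊗[R] F) ≃+* (F ⊗[k] K) :=
    (Algebra.TensorProduct.comm R (R ⊗[k] K) F).toRingEquiv.trans
      (Algebra.TensorProduct.cancelBaseChange k R R F K).toRingEquiv
  haveI : IsReduced ((R ⊗[k] K) ⊗[R] F) := isReduced_of_injective e1.toRingHom e1.injective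
  -- `G ⊗[T] BQ` is a localization of `G`
  haveI : IsReduced (((R ⊗[k] K) ⊗[R] F) ⊗[R ⊗[k] K] BQ) :=
    isReduced_localizationPreserves
      (Algebra.algebraMapSubmonoid ((R ⊗[k] K) ⊗[R] F) S)
      (((R ⊗[k] K) ⊗[R] F) ⊗[R ⊗[k] K] BQ) inferInstance
  -- `F ⊗[R] BQ ≃ BQ ⊗[R] F ≃ BQ ⊗[T] (T ⊗[R] F) ≃ (T ⊗[R] F) ⊗[T] BQ`
  let e2 : (F ⊗[R] BQ) ≃+* (((R ⊗[k] K) ⊗[R] F) ⊗[R ⊗[k] K] BQ) :=
    (Algebra.TensorProduct.comm R F BQ).toRingEquiv.trans
      ((Algebra.TensorProduct.cancelBaseChange R (R ⊗[k] K) (R ⊗[k] K) BQ F).symm.toRingEquiv.trans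
        (Algebra.TensorProduct.comm (R ⊗[k] K) BQ ((R ⊗[k] K) ⊗[R] F)).toRingEquiv)
  exact isReduced_of_injective e2 e2.injective

end LemZ

section LemH

variable (k : Type u) [Field k] (R : Type u) [CommRing R] [Algebra k R]
  (K : Type u) [Field K] [Algebra k K]
  (Q : Ideal (R ⊗[k] K)) [Q.IsPrime] (P : Ideal R) [P.IsPrime]
  (A : Type u) [CommRing A] [Algebra R A] [IsLocalization.AtPrime A P]
  (B : Type u) [CommRing B] [Algebra (R ⊗[k] K) B] [IsLocalization.AtPrime B Q] [Algebra R B]
  [IsScalarTower R (R ⊗[k] K) B] [Algebra A B] [IsScalarTower R A B]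
  (F : Type u) [CommRing F] [Algebra k F] [Algebra R F] [Algebra A F] [IsScalarTower k R F]
  [IsScalarTower R A F]
  (κ : Type u) [Field κ] [Algebra k κ]

include P Q in
theorem isReduced_fibre_of_algHom (g : F →ₐ[k] κ) (hg : Function.Injective g)
    (hκ : IsReduced (κ ⊗[k] K)) : IsReduced (F ⊗[A] B) := by
  have hinj : Function.Injective (Algebra.TensorProduct.map g (AlgHom.id k K)) :=
    Module.Flat.rTensor_preserves_injective_linearMap (M := K) g.toLinearMap hg
  have h1 : IsReduced (F ⊗[k] K) := isReduced_of_injective _ hinj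
  have h2 : IsReduced (F ⊗[R] B) :=
    isReduced_tensor_of_isLocalization k R K B F Q.primeCompl h1
  exact isReduced_of_injective
    (IsLocalization.algebraTensorEquiv P.primeCompl A F B)
    (IsLocalization.algebraTensorEquiv P.primeCompl A F B).injective

end LemH

section Core2

open Groth.Agent.Lib.Helper4.NormDelta Groth.Agent.Lib.Helper4.NormBranch

variable (k : Type u) [Field k] (K : Type u) [Field K] [Algebra k K]
  (R : Type u) [CommRing R] [IsDomain R] [Algebra k R] [Algebra.FiniteType k R]
  (L : Type u) [Field L] [Algebra R L] [IsFractionRing R L]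
  (P : Ideal R) [P.IsPrime] (Q : Ideal (R ⊗[k] K)) [Q.IsPrime]
  (A : Type u) [CommRing A] [Algebra R A] [IsLocalization.AtPrime A P]
  (B : Type u) [CommRing B] [Algebra (R ⊗[k] K) B] [IsLocalization.AtPrime B Q]

theorem deltaInv_eq_of_separable_residue
    (hQP : P = Q.comap (algebraMap R (R ⊗[k] K)))
    (hdP : ringKrullDim A = 1) (hdQ : ringKrullDim B ≤ 1)
    [Module.Finite R (integralClosure R L)]
    (hsep : ∀ P' : Ideal (integralClosure R L), P'.IsPrime →
      P'.comap (algebraMap R (integralClosure R L)) = P →
      ∃ (κ : Type u) (_ : Field κ) (_ : Algebra k κ) (f : integralClosure R L →+* κ),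
        RingHom.ker f = P' ∧
        (∀ c : k, f (algebraMap R _ (algebraMap k R c)) = algebraMap k κ c) ∧
        IsReduced (κ ⊗[k] K)) :
    Curv2.deltaInv A = Curv2.deltaInv B := by
  haveI : IsLocalRing A := IsLocalization.AtPrime.isLocalRing A P
  haveI : IsLocalRing B := IsLocalization.AtPrime.isLocalRing B Q
  letI algkA : Algebra k A := Algebra.compHom A (algebraMap k R)
  haveI towerkRA : IsScalarTower k R A := IsScalarTower.of_algebraMap_eq (fun _ => rfl)
  haveI : IsDomain A := IsLocalization.isDomain_of_atPrime A P
  -- algebra structures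
  letI algRB : Algebra R B :=
    ((algebraMap (R ⊗[k] K) B).comp (algebraMap R (R ⊗[k] K))).toAlgebra
  haveI towerRTB : IsScalarTower R (R ⊗[k] K) B := IsScalarTower.of_algebraMap_eq (fun _ => rfl)
  have hunitsB : ∀ y : P.primeCompl, IsUnit (algebraMap R B y) := fun y => by
    have h1 : algebraMap R (R ⊗[k] K) y ∈ Q.primeCompl := by
      intro h
      have hy : (y : R) ∈ P := (SetLike.ext_iff.mp hQP (y : R)).mpr h
      exact y.2 hy
    exact IsLocalization.map_units B ⟨_, h1⟩
  letI algAB : Algebra A B := (IsLocalization.lift hunitsB).toAlgebra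
  haveI towerRAB : IsScalarTower R A B := IsScalarTower.of_algebraMap_eq (fun r => by
    show algebraMap R B r = IsLocalization.lift hunitsB (algebraMap R A r)
    rw [IsLocalization.lift_eq])
  haveI : IsLocalHom (algebraMap A B) := by
    constructor
    intro a ha
    obtain ⟨r, s, rfl⟩ := IsLocalization.exists_mk'_eq P.primeCompl a
    have hs : IsUnit (algebraMap R A s) := IsLocalization.map_units A s
    have h1 : IsUnit (algebraMap A B (IsLocalization.mk' A r s * algebraMap R A s)) := by
      rw [map_mul]
      exact ha.mul (hs.map _)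
    rw [IsLocalization.mk'_spec, ← IsScalarTower.algebraMap_apply,
      IsScalarTower.algebraMap_apply R (R ⊗[k] K) B,
      IsLocalization.AtPrime.isUnit_to_map_iff B Q] at h1
    have h2 : r ∈ P.primeCompl := by
      intro h
      apply h1
      have h' : r ∈ Q.comap (algebraMap R (R ⊗[k] K)) := (SetLike.ext_iff.mp hQP r).mp h
      exact h'
    have h3 : IsUnit (algebraMap R A r) := IsLocalization.map_units A ⟨r, h2⟩
    rw [← IsLocalization.mk'_spec A r s] at h3
    exact isUnit_of_mul_isUnit_left h3
  haveI : IsNoetherianRing R := Algebra.FiniteType.isNoetherianRing k R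
  haveI : IsNoetherianRing (R ⊗[k] K) := by
    haveI : IsNoetherianRing (K ⊗[k] R) := Algebra.FiniteType.isNoetherianRing K _
    exact isNoetherianRing_of_ringEquiv _ (Algebra.TensorProduct.comm k K R).toRingEquiv
  haveI : IsNoetherianRing A := IsLocalization.isNoetherianRing P.primeCompl _ inferInstance
  haveI : IsNoetherianRing B := IsLocalization.isNoetherianRing Q.primeCompl _ inferInstance
  haveI : Module.Flat (R ⊗[k] K) B := IsLocalization.flat B Q.primeCompl
  haveI : Module.Flat R B := Module.Flat.trans R (R ⊗[k] K) _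
  haveI : Module.Flat A B :=
    (Module.flat_iff_of_isLocalization A P.primeCompl _).mpr inferInstance
  -- `L` as a fraction field of `A`
  have hunits : ∀ y : P.primeCompl, IsUnit (algebraMap R L y) := fun y => by
    apply IsUnit.mk0
    intro h
    have h0 : (y : R) = 0 := (IsFractionRing.injective R L) (h.trans (map_zero _).symm)
    exact y.2 (h0 ▸ P.zero_mem)
  letI algAL : Algebra A L := (IsLocalization.lift hunits).toAlgebra
  haveI towerRAL : IsScalarTower R A L := IsScalarTower.of_algebraMap_eq (fun r => by
    rw [RingHom.algebraMap_toAlgebra, IsLocalization.lift_eq])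
  haveI : IsFractionRing A L :=
    IsFractionRing.isFractionRing_of_isDomain_of_isLocalization P.primeCompl A L
  let ψ : FractionRing A ≃ₐ[A] L := FractionRing.algEquiv A L
  let Ψ : integralClosure A (FractionRing A) ≃ₐ[A] integralClosure A L := ψ.mapIntegralClosure
  -- finiteness
  haveI loc0 := isLocalizedModule_inclIntegralClosure (A := R) (R := A) (K := L) P
  haveI finL : Module.Finite A (integralClosure A L) :=
    Module.Finite.of_isLocalizedModule P.primeCompl
      (inclIntegralClosure (A := R) (R := A) (K := L))
  haveI fin : Module.Finite A (integralClosure A (FractionRing A)) :=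
    Module.Finite.equiv Ψ.symm.toLinearEquiv
  -- the localization map `R'' → A'_L`
  let lam : integralClosure R L →+* integralClosure A L := inclIntegralClosureRingHom R A L
  letI algBR : Algebra (integralClosure R L) (integralClosure A L) := lam.toAlgebra
  haveI tower : IsScalarTower R (integralClosure R L) (integralClosure A L) :=
    IsScalarTower.of_algebraMap_eq (fun a => by
      apply Subtype.ext
      rfl)
  haveI locB : IsLocalization (Algebra.algebraMapSubmonoid (integralClosure R L) P.primeCompl)
      (integralClosure A L) := by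
    rw [← isLocalizedModule_iff_isLocalization]
    have h1 : (IsScalarTower.toAlgHom R (integralClosure R L) (integralClosure A L)).toLinearMap =
        inclIntegralClosure (A := R) (R := A) (K := L) := by
      ext b
      rfl
    rw [h1]
    exact loc0
  let θ : integralClosure R L →+* integralClosure A (FractionRing A) :=
    (Ψ.symm : integralClosure A L →+* integralClosure A (FractionRing A)).comp lam
  have hθ : ∀ r : R, θ (algebraMap R _ r) = algebraMap A _ (algebraMap R A r) := by
    intro r
    have h1 : lam (algebraMap R _ r) = algebraMap A (integralClosure A L) (algebraMap R A r) := by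
      apply Subtype.ext
      show algebraMap R L r = algebraMap A L (algebraMap R A r)
      rw [← IsScalarTower.algebraMap_apply]
    show Ψ.symm (lam (algebraMap R _ r)) = _
    rw [h1, AlgEquiv.commutes]
  -- the fibres are reduced
  have hred : ∀ (P'' : Ideal (integralClosure A (FractionRing A))) [P''.IsMaximal],
      IsReduced ((integralClosure A (FractionRing A) ⧸ P'') ⊗[A] B) := by
    intro P'' hP''
    obtain ⟨P', hP'def⟩ : ∃ P' : Ideal (integralClosure R L), P' = P''.comap θ := ⟨_, rfl⟩
    have hP'prime : P'.IsPrime := hP'def ▸ Ideal.comap_isPrime θ P''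
    have hP'P : P'.comap (algebraMap R (integralClosure R L)) = P := by
      rw [hP'def, Ideal.comap_comap]
      have h1 : θ.comp (algebraMap R _) = (algebraMap A _).comp (algebraMap R A) := RingHom.ext hθ
      have h2 := IsLocalization.AtPrime.under_maximalIdeal A P
      rw [Ideal.under_def] at h2
      rw [h1, ← Ideal.comap_comap, comap_eq_maximalIdeal_of_isMaximal A P'', h2]
    obtain ⟨κ, hκF, hκA, f, hker, hfk, hκred⟩ := hsep P' hP'prime hP'P
    letI := hκF
    letI := hκA
    have hfu : ∀ y : Algebra.algebraMapSubmonoid (integralClosure R L) P.primeCompl,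
        IsUnit (f y) := by
      rintro ⟨y, s, hs, rfl⟩
      apply IsUnit.mk0
      intro h0
      have h1 : algebraMap R (integralClosure R L) s ∈ P' := by
        rw [← hker]
        exact h0
      have h2 : s ∈ P'.comap (algebraMap R (integralClosure R L)) := h1
      rw [hP'P] at h2
      exact hs h2
    let gL : integralClosure A L →+* κ := IsLocalization.lift hfu
    let g : integralClosure A (FractionRing A) →+* κ := gL.comp (Ψ : _ →+* integralClosure A L)
    have hgθ : ∀ w, g (θ w) = f w := by
      intro w
      show gL (Ψ (Ψ.symm (lam w))) = f w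
      rw [Ψ.apply_symm_apply]
      exact IsLocalization.lift_eq hfu w
    have hle : P'' ≤ RingHom.ker g := by
      intro x hx
      rw [RingHom.mem_ker]
      obtain ⟨w, s, hws⟩ := IsLocalization.exists_mk'_eq
        (Algebra.algebraMapSubmonoid (integralClosure R L) P.primeCompl) (Ψ x)
      have h1 : Ψ x * lam s = lam w := by
        rw [← hws]
        exact IsLocalization.mk'_spec _ w s
      have h2 : x * θ s = θ w := by
        apply Ψ.injective
        rw [map_mul]
        show Ψ x * Ψ (Ψ.symm (lam s)) = Ψ (Ψ.symm (lam w))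
        rw [Ψ.apply_symm_apply, Ψ.apply_symm_apply, h1]
      have h3 : θ w ∈ P'' := h2 ▸ P''.mul_mem_right _ hx
      have h4 : w ∈ P' := by
        rw [hP'def]
        exact h3
      have h5 : f w = 0 := by
        rw [← hker] at h4
        exact h4
      have h6 : g x * f s = 0 := by
        rw [← hgθ s, ← map_mul, h2, hgθ, h5]
      exact (mul_eq_zero.mp h6).resolve_right (hfu s).ne_zero
    have hkerg : RingHom.ker g = P'' := (hP''.eq_of_le (RingHom.ker_ne_top g) hle).symm
    -- algebra structures on the residue field
    haveI t1 : IsScalarTower R A (integralClosure A (FractionRing A) ⧸ P'') := inferInstance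
    haveI t2 : IsScalarTower k R (integralClosure A (FractionRing A) ⧸ P'') := inferInstance
    let ghat : (integralClosure A (FractionRing A) ⧸ P'') →ₐ[k] κ :=
      { toRingHom := Ideal.Quotient.lift P'' g (fun x hx => hle hx)
        commutes' := fun c => by
          show g (algebraMap A _ (algebraMap R A (algebraMap k R c))) = algebraMap k κ c
          rw [← hθ, hgθ, hfk] }
    have hinj : Function.Injective ghat := by
      rw [injective_iff_map_eq_zero]
      intro x hx
      obtain ⟨x, rfl⟩ := Ideal.Quotient.mk_surjective x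
      have h1 : g x = 0 := hx
      rw [Ideal.Quotient.eq_zero_iff_mem, ← hkerg]
      exact h1
    exact isReduced_fibre_of_algHom k R K Q P A B
      (integralClosure A (FractionRing A) ⧸ P'') κ ghat hinj hκred
  exact (length_eq_of_reduced_fibres A B hdP hdQ hred).symm

end Core2

end Groth.Agent.Lib.Helper3.Delta
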