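import Mathlib
import Groth.Agent.Lib.Helper3DeltaJ
import Groth.Agent.Lib.Helper6BcBridge
import Groth.Agent.Lib.Helper6BcRed2

set_option autoImplicit false
set_option linter.style.haveILetI false

namespace Groth.Agent.Lib.Helper3.Delta

universe u
open CategoryTheory CategoryTheory.Limits AlgebraicGeometry TensorProduct

section Eval

variable {N : Scheme.{u}} {W : N.Opens} (hW : IsAffineOpen W)

-- the kernel of evaluation at a point of an affine open is the prime of the point
theorem ker_evaluation (x' : N) (hx' : x' ∈ W) :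
    RingHom.ker (N.evaluation W x' hx').hom = (hW.primeIdealOf ⟨x', hx'⟩).asIdeal := by
  letI : Algebra Γ(N, W) (N.presheaf.stalk x') := (N.presheaf.germ W x' hx').hom.toAlgebra
  haveI : IsLocalization.AtPrime (N.presheaf.stalk x') (hW.primeIdealOf ⟨x', hx'⟩).asIdeal :=
    hW.isLocalization_stalk ⟨x', hx'⟩
  have h1 := IsLocalization.AtPrime.under_maximalIdeal (N.presheaf.stalk x')
    (hW.primeIdealOf ⟨x', hx'⟩).asIdeal
  rw [Ideal.under_def] at h1
  rw [← h1]
  ext s
  rw [RingHom.mem_ker, Ideal.mem_comap]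
  show (N.residue x').hom ((N.presheaf.germ W x' hx').hom s) = 0 ↔ _
  rw [← IsLocalRing.ker_residue, RingHom.mem_ker]
  rfl

end Eval

section KCompat

variable (k : Type u) [Field k] {X : Scheme.{u}} [X.Over (Spec (CommRingCat.of k))]
  {N : Scheme.{u}} (ν : N ⟶ X)

-- compatibility of `resMap` for `N` over `k` through `ν`
theorem resMap_eq (V : X.Opens) (x' : N) (hx' : x' ∈ ν ⁻¹ᵁ V) (c : k) :
    letI : N.Over (Spec (CommRingCat.of k)) := ⟨ν ≫ (X ↘ (Spec (CommRingCat.of k)))⟩
    Curv2.resMap k N x' c =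
      (N.evaluation (ν ⁻¹ᵁ V) x' hx').hom ((ν.app V).hom
        (((Scheme.ΓSpecIso (CommRingCat.of k)).inv ≫
          (X ↘ (Spec (CommRingCat.of k))).appLE ⊤ V le_top).hom c)) := by
  letI : N.Over (Spec (CommRingCat.of k)) := ⟨ν ≫ (X ↘ (Spec (CommRingCat.of k)))⟩
  have h1 : (ν ≫ (X ↘ (Spec (CommRingCat.of k)))).appTop ≫ N.presheaf.germ ⊤ x' trivial =
      (X ↘ (Spec (CommRingCat.of k))).appLE ⊤ V le_top ≫ ν.app V ≫
        N.presheaf.germ (ν ⁻¹ᵁ V) x' hx' := by
    rw [Scheme.Hom.app_eq_appLE ν, ← Category.assoc, Scheme.Hom.appLE_comp_appLE,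
      Scheme.Hom.appLE, Category.assoc, TopCat.Presheaf.germ_res]
    rfl
  have h3 := congrArg (fun φ => (N.residue x').hom (φ.hom
    ((Scheme.ΓSpecIso (CommRingCat.of k)).inv.hom c))) h1
  exact h3

end KCompat

section Main

open Groth.Agent.Lib.Helper4.NormCurve Groth.Agent.Lib.Helper4.NormDimOne
open Groth.Agent.Lib.Helper4.NormBranch
open Groth.Agent.Lib.Helper6.BcBridge Groth.Agent.Lib.Helper6.BcRed

variable (k : Type u) [Field k] (X : Scheme.{u}) [X.Over (Spec (CommRingCat.of k))]
  [IsIntegral X] [LocallyOfFiniteType (X ↘ (Spec (CommRingCat.of k)))]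
  (K : Type u) [Field K] [Algebra k K]

theorem deltaInv_stalk_eq (g : Spec (CommRingCat.of X.functionField) ⟶ X)
    (hg : g = gen X X.functionField (RingHom.id _)) [QuasiCompact g] [QuasiSeparated g]
    (y : ↥(Curv2.bc k X K))
    (hdx : ringKrullDim (X.presheaf.stalk ((Curv2.bcFst k X K).base y)) = 1)
    (hsep : letI : g.normalization.Over (Spec (CommRingCat.of k)) :=
        ⟨g.fromNormalization ≫ (X ↘ (Spec (CommRingCat.of k)))⟩
      ∀ x' : ↥g.normalization, g.fromNormalization.base x' = (Curv2.bcFst k X K).base y →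
        GeometricallyReduced (Spec.map (CommRingCat.ofHom (Curv2.resMap k g.normalization x'))))
    (hdy : ringKrullDim ((Curv2.bc k X K).presheaf.stalk y) = 1) :
    Curv2.deltaInv (X.presheaf.stalk ((Curv2.bcFst k X K).base y)) =
      Curv2.deltaInv ((Curv2.bc k X K).presheaf.stalk y) := by
  subst hg
  generalize hx : (Curv2.bcFst k X K).base y = x at hdx hsep ⊢
  obtain ⟨_, ⟨V, hV, rfl⟩, hxV, -⟩ := X.isBasis_affineOpens.exists_subset_of_mem_open
    (Set.mem_univ x) isOpen_univ
  haveI hne : Nonempty V := ⟨⟨x, hxV⟩⟩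
  set ν := (gen X X.functionField (RingHom.id _)).fromNormalization with hν
  have hW : IsAffineOpen (ν ⁻¹ᵁ V) := hV.preimage ν
  -- `R = Γ(X, V)` as a `k`-algebra of finite type
  have h1 : ((X ↘ (Spec (CommRingCat.of k))).appLE ⊤ V le_top).hom.FiniteType :=
    HasRingHomProperty.appLE (P := @LocallyOfFiniteType) _ ‹_›
      ⟨⊤, isAffineOpen_top (Spec (CommRingCat.of k))⟩ ⟨V, hV⟩ le_top
  have h2 : ((Scheme.ΓSpecIso (CommRingCat.of k)).inv ≫
      (X ↘ (Spec (CommRingCat.of k))).appLE ⊤ V le_top).hom.FiniteType := by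
    rw [CommRingCat.hom_comp]
    refine RingHom.FiniteType.comp h1 (RingHom.FiniteType.of_surjective _ ?_)
    exact (ConcreteCategory.bijective_of_isIso (Scheme.ΓSpecIso (CommRingCat.of k)).inv).surjective
  letI algkR : Algebra k Γ(X, V) := ((Scheme.ΓSpecIso (CommRingCat.of k)).inv ≫
      (X ↘ (Spec (CommRingCat.of k))).appLE ⊤ V le_top).hom.toAlgebra
  haveI : Algebra.FiniteType k Γ(X, V) := h2
  haveI : IsDomain Γ(X, V) := IsIntegral.component_integral (X := X) V
  have hι : hV.fromSpec ≫ (X ↘ Spec (CommRingCat.of k)) =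
      Spec.map (CommRingCat.ofHom (algebraMap k Γ(X, V))) := by
    have h3 := IsAffineOpen.SpecMap_appLE_fromSpec (X ↘ Spec (CommRingCat.of k))
      (isAffineOpen_top (Spec (CommRingCat.of k))) hV le_top
    rw [← h3, IsAffineOpen.fromSpec_top, Scheme.isoSpec_Spec_inv, ← Spec.map_comp]
    rfl
  -- the points
  obtain ⟨z, hz⟩ : ∃ z : PrimeSpectrum Γ(X, V), z = hV.primeIdealOf ⟨x, hxV⟩ := ⟨_, rfl⟩
  have hιz : hV.fromSpec z = (Curv2.bcFst k X K) y := by
    rw [hz, hV.fromSpec_primeIdealOf ⟨x, hxV⟩]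
    exact hx.symm
  obtain ⟨Q, hQz, ⟨eB⟩⟩ := exists_prime_of_point_left k X K hV.fromSpec hι y z hιz
  have hQP : z.asIdeal = Q.asIdeal.comap (algebraMap Γ(X, V) (Γ(X, V) ⊗[k] K)) := by
    rw [← hQz]
    rfl
  -- the local rings
  letI algRA : Algebra Γ(X, V) (X.presheaf.stalk x) := (X.presheaf.germ V x hxV).hom.toAlgebra
  haveI locA : IsLocalization.AtPrime (X.presheaf.stalk x) z.asIdeal := by
    rw [hz]
    exact hV.isLocalization_stalk ⟨x, hxV⟩
  letI algTB : Algebra (Γ(X, V) ⊗[k] K) ((Curv2.bc k X K).presheaf.stalk y) :=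
    ((eB.symm : _ →+* _).comp (algebraMap _ (Localization.AtPrime Q.asIdeal))).toAlgebra
  haveI locB : IsLocalization.AtPrime ((Curv2.bc k X K).presheaf.stalk y) Q.asIdeal :=
    IsLocalization.isLocalization_of_algEquiv Q.asIdeal.primeCompl
      ({ eB.symm with commutes' := fun _ => rfl } :
        Localization.AtPrime Q.asIdeal ≃ₐ[Γ(X, V) ⊗[k] K] (Curv2.bc k X K).presheaf.stalk y)
  -- the function field
  haveI : IsFractionRing Γ(X, V) X.functionField :=
    functionField_isFractionRing_of_isAffineOpen X V hV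
  haveI finR : Module.Finite Γ(X, V) (integralClosure Γ(X, V) X.functionField) :=
    Groth.Agent.Lib.Helper14.IsN2.finite (isN2_sections_of_locallyOfFiniteType_field k X V hV) X.functionField
      X.functionField
  refine deltaInv_eq_of_separable_residue k K Γ(X, V) X.functionField z.asIdeal Q.asIdeal
    (X.presheaf.stalk x) ((Curv2.bc k X K).presheaf.stalk y) hQP hdx (le_of_eq hdy) ?_
  intro P' hP'prime hP'z
  haveI := hP'prime
  letI algRR' : Algebra Γ(X, V) Γ((gen X X.functionField (RingHom.id _)).normalization, ν ⁻¹ᵁ V) :=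
    (ν.app V).hom.toAlgebra
  obtain ⟨e⟩ := exists_normalizationSectionsAlgEquiv X.functionField (RingHom.id _) V hV
  obtain ⟨eR, heR⟩ : ∃ eR : Γ((gen X X.functionField (RingHom.id _)).normalization, ν ⁻¹ᵁ V) →+*
      integralClosure Γ(X, V) X.functionField, ∀ s, eR s = e s := ⟨e.toRingEquiv.toRingHom, fun _ => rfl⟩
  obtain ⟨q', hq'def⟩ : ∃ q' : PrimeSpectrum
      Γ((gen X X.functionField (RingHom.id _)).normalization, ν ⁻¹ᵁ V),
      q' = ⟨P'.comap eR, Ideal.comap_isPrime _ _⟩ := ⟨_, rfl⟩
  have hq' : q'.asIdeal.comap (algebraMap Γ(X, V) _) = (hV.primeIdealOf ⟨x, hxV⟩).asIdeal := by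
    rw [hq'def]
    show (P'.comap _).comap _ = _
    have h3 : eR.comp (algebraMap Γ(X, V) _) = algebraMap Γ(X, V) _ :=
      RingHom.ext (fun r => (heR _).trans (e.commutes r))
    rw [Ideal.comap_comap, ← hz, ← hP'z, h3]
  obtain ⟨⟨x', hx'⟩, hfib⟩ := (fibreToPrimes_bijective ν hV hW x hxV).2 ⟨q', hq'⟩
  have hx'W : x' ∈ ν ⁻¹ᵁ V := mem_preimage_of_eq ν x hxV x' hx'
  have hprime : hW.primeIdealOf ⟨x', hx'W⟩ = q' := congrArg Subtype.val hfib
  letI overN : (gen X X.functionField (RingHom.id _)).normalization.Over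
      (Spec (CommRingCat.of k)) := ⟨ν ≫ (X ↘ (Spec (CommRingCat.of k)))⟩
  letI algkκ : Algebra k ((gen X X.functionField (RingHom.id _)).normalization.residueField x') :=
    (Curv2.resMap k (gen X X.functionField (RingHom.id _)).normalization x').toAlgebra
  refine ⟨(gen X X.functionField (RingHom.id _)).normalization.residueField x', inferInstance,
    algkκ, ((gen X X.functionField (RingHom.id _)).normalization.evaluation (ν ⁻¹ᵁ V) x' hx'W).hom.comp
      (e.symm : integralClosure Γ(X, V) X.functionField →+* _), ?_, ?_, ?_⟩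
  · -- kernel
    ext w
    rw [RingHom.mem_ker, RingHom.comp_apply, ← RingHom.mem_ker, ker_evaluation hW x' hx'W, hprime,
      hq'def]
    show eR (e.symm w) ∈ P' ↔ _
    rw [heR, e.apply_symm_apply]
  · -- compatibility with `k`
    intro c
    rw [RingHom.comp_apply]
    have h4 : (e.symm : integralClosure Γ(X, V) X.functionField →+* _)
        (algebraMap Γ(X, V) _ (algebraMap k Γ(X, V) c)) =
        (ν.app V).hom (algebraMap k Γ(X, V) c) := e.symm.commutes _
    rw [h4]
    exact (resMap_eq k ν V x' hx'W c).symm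
  · -- reducedness
    have h5 := hsep x' hx'
    haveI : GeometricallyReduced (Spec.map (CommRingCat.ofHom (algebraMap k
        ((gen X X.functionField (RingHom.id _)).normalization.residueField x')))) := h5
    haveI := isGeometricallyReduced_of_geometricallyReduced_specMap k
      ((gen X X.functionField (RingHom.id _)).normalization.residueField x')
    haveI : IsReduced (K ⊗[k] (gen X X.functionField (RingHom.id _)).normalization.residueField x') :=
      Groth.Agent.Lib.Helper14.GeomRed.isReduced_tensor_of_isGeometricallyReduced K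
    exact isReduced_of_injective (Algebra.TensorProduct.comm k _ K)
      (Algebra.TensorProduct.comm k _ K).injective

end Main

end Groth.Agent.Lib.Helper3.Delta
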