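import Mathlib
import Groth.Agent.Lib.Helper3DeltaB

set_option autoImplicit false
set_option linter.style.haveILetI false

namespace Groth.Agent.Lib.Helper3.Delta

universe u
open IsLocalRing TensorProduct Polynomial Algebra.TensorProduct

section LE

variable (A : Type u) [CommRing A] (B : Type u) [CommRing B] [Algebra A B] [Module.Flat A B]

-- `psi` with values in the normalization of `B`
noncomputable def psiN : B ⊗[A] integralClosure A (FractionRing A) →ₐ[B]
    integralClosure B (FractionRing B) :=
  (psi A B).codRestrict (integralClosure B (FractionRing B)) (fun z => by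
    have hz : IsIntegral B z := Algebra.IsIntegral.isIntegral z
    exact hz.map (psi A B))

theorem psiN_injective : Function.Injective (psiN A B) := by
  intro x y hxy
  apply psi_injective A B
  exact congrArg Subtype.val hxy

-- the cokernel of `B → B ⊗ A'` embeds into the cokernel of `B → B'`
theorem length_quot_tensor_le :
    Module.length B ((B ⊗[A] integralClosure A (FractionRing A)) ⧸
      LinearMap.range (Algebra.linearMap B (B ⊗[A] integralClosure A (FractionRing A)))) ≤
    Module.length B (↥(integralClosure B (FractionRing B)) ⧸
      LinearMap.range (Algebra.linearMap B ↥(integralClosure B (FractionRing B)))) := by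
  let f : ((B ⊗[A] integralClosure A (FractionRing A)) ⧸
      LinearMap.range (Algebra.linearMap B (B ⊗[A] integralClosure A (FractionRing A)))) →ₗ[B]
      (↥(integralClosure B (FractionRing B)) ⧸
        LinearMap.range (Algebra.linearMap B ↥(integralClosure B (FractionRing B)))) :=
    Submodule.mapQ _ _ (psiN A B).toLinearMap (by
      rintro _ ⟨b, rfl⟩
      rw [Submodule.mem_comap]
      refine ⟨b, ?_⟩
      exact ((psiN A B).commutes b).symm)
  refine Module.length_le_of_injective f ?_
  rw [← LinearMap.ker_eq_bot, LinearMap.ker_eq_bot']
  intro z hz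
  obtain ⟨z, rfl⟩ := Submodule.Quotient.mk_surjective _ z
  have h1 : (psiN A B) z ∈ LinearMap.range
      (Algebra.linearMap B ↥(integralClosure B (FractionRing B))) := by
    rw [← Submodule.Quotient.mk_eq_zero]
    exact hz
  obtain ⟨b, hb⟩ := h1
  rw [Submodule.Quotient.mk_eq_zero]
  refine ⟨b, ?_⟩
  apply psiN_injective A B
  rw [← hb]
  exact (psiN A B).commutes b

end LE

section Local

variable (A : Type u) [CommRing A] [IsLocalRing A] (B : Type u) [CommRing B] [IsLocalRing B]
  [Algebra A B] [IsLocalHom (algebraMap A B)] [Module.Flat A B]

theorem length_le_of_flat :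
    Module.length A (↥(integralClosure A (FractionRing A)) ⧸
      LinearMap.range (Algebra.linearMap A ↥(integralClosure A (FractionRing A)))) ≤
    Module.length B (↥(integralClosure B (FractionRing B)) ⧸
      LinearMap.range (Algebra.linearMap B ↥(integralClosure B (FractionRing B)))) := by
  refine le_trans ?_ (length_quot_tensor_le A B)
  rw [length_quot_eq, IsLocalRing.length_baseChange]
  have hne : (maximalIdeal A).map (algebraMap A B) ≠ ⊤ :=
    (IsLocalRing.map_maximalIdeal_lt_top _).ne
  haveI : Nontrivial (B ⧸ (maximalIdeal A).map (algebraMap A B)) :=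
    Ideal.Quotient.nontrivial_iff.mpr hne
  have h1 : (1 : ℕ∞) ≤ Module.length B (B ⧸ (maximalIdeal A).map (algebraMap A B)) := by
    rw [Order.one_le_iff_ne_zero, Ne, Module.length_eq_zero_iff]
    exact not_subsingleton _
  calc Module.length A (↥(integralClosure A (FractionRing A)) ⧸
      LinearMap.range (Algebra.linearMap A ↥(integralClosure A (FractionRing A))))
      = Module.length A (↥(integralClosure A (FractionRing A)) ⧸
      LinearMap.range (Algebra.linearMap A ↥(integralClosure A (FractionRing A)))) * 1 :=
        (mul_one _).symm
    _ ≤ _ := mul_le_mul_right h1 _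

end Local

end Groth.Agent.Lib.Helper3.Delta
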