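import Mathlib

/-!
# Diagonal of a base change is the base change of the diagonal (helper3)
-/

set_option autoImplicit false
set_option linter.style.haveILetI false

universe v u

open CategoryTheory CategoryTheory.Limits

namespace Groth.Agent.Lib.Helper3.DiagBC

variable {C : Type u} [Category.{v} C] [HasPullbacks C]
  {X Y X₀ Y₀ : C} {qX : X ⟶ X₀} {f : X ⟶ Y} {f₀ : X₀ ⟶ Y₀} {qY : Y ⟶ Y₀}

/-- the comparison map `X ×_Y X ⟶ X₀ ×_{Y₀} X₀`. -/
noncomputable abbrev dmap (hX : IsPullback qX f f₀ qY) : pullback f f ⟶ pullback f₀ f₀ :=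
  pullback.map f f f₀ f₀ qX qX qY hX.w.symm hX.w.symm

/-- `X ×_Y X = X ×_{X₀} (X₀ ×_{Y₀} X₀)`. -/
theorem isPullback_dmap_fst (hX : IsPullback qX f f₀ qY) :
    IsPullback (dmap hX) (pullback.fst f f) (pullback.fst f₀ f₀) qX := by
  have outer : IsPullback (pullback.snd f f ≫ qX) (pullback.fst f f) f₀ (f ≫ qY) :=
    (IsPullback.of_hasPullback f f).flip.paste_horiz hX
  have e1 : dmap hX ≫ pullback.snd f₀ f₀ = pullback.snd f f ≫ qX :=
    pullback.lift_snd _ _ _
  have e2 : dmap hX ≫ pullback.fst f₀ f₀ = pullback.fst f f ≫ qX :=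
    pullback.lift_fst _ _ _
  rw [← e1, ← hX.w] at outer
  exact IsPullback.of_right outer e2 (IsPullback.of_hasPullback f₀ f₀).flip

/-- the diagonal of a base change is the base change of the diagonal. -/
theorem isPullback_diagonal (hX : IsPullback qX f f₀ qY) :
    IsPullback qX (pullback.diagonal f) (pullback.diagonal f₀) (dmap hX) := by
  have outer : IsPullback (pullback.diagonal f ≫ pullback.fst f f) qX qX
      (pullback.diagonal f₀ ≫ pullback.fst f₀ f₀) := by
    rw [pullback.diagonal_fst, pullback.diagonal_fst]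
    exact IsPullback.of_horiz_isIso ⟨by simp⟩
  have e : pullback.diagonal f ≫ dmap hX = qX ≫ pullback.diagonal f₀ := by
    apply pullback.hom_ext
    · rw [Category.assoc, Category.assoc, pullback.diagonal_fst, Category.comp_id]
      erw [pullback.lift_fst]
      rw [pullback.diagonal_fst_assoc]
    · rw [Category.assoc, Category.assoc, pullback.diagonal_snd, Category.comp_id]
      erw [pullback.lift_snd]
      rw [pullback.diagonal_snd_assoc]
  exact (IsPullback.of_right outer e (isPullback_dmap_fst hX).flip).flip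

/-- `X ×_Y X` is the base change of `X₀ ×_{Y₀} X₀` along `S' ⟶ S₀`. -/
theorem isPullback_dmap_base {S S₀ : C} {g : Y ⟶ S} {g₀ : Y₀ ⟶ S₀} {s : S ⟶ S₀}
    (hY : IsPullback qY g g₀ s) (hX : IsPullback qX f f₀ qY) :
    IsPullback (dmap hX) (pullback.fst f f ≫ f ≫ g) (pullback.fst f₀ f₀ ≫ f₀ ≫ g₀) s := by
  have := ((isPullback_dmap_fst hX).paste_vert hX).paste_vert hY
  simpa only [Category.assoc] using this

end Groth.Agent.Lib.Helper3.DiagBC
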