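import Mathlib

set_option autoImplicit false
set_option linter.style.haveILetI false

universe u

open TensorProduct

namespace Groth.Agent.Lib.Helper3.EFPTowerA

section A

variable {R S₀ S₁ S' C : Type u} [CommRing R] [CommRing S₀] [CommRing S₁] [CommRing S'] [CommRing C]
  [Algebra R S₀] [Algebra R S₁] [Algebra R S'] [Algebra S₁ S'] [IsScalarTower R S₁ S']
  [Algebra R C] [Algebra C S']

-- every element of a quotient `C` of `S₀ ⊗ S₁`, in which the generators of `S₀` become fractions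
-- of elements of `S₁`, is a fraction of elements of `S₁`.
theorem exists_mul_eq_of_tensor_quot (T : Submonoid S₁)
    (π : S₀ ⊗[R] S₁ →ₐ[R] C) (hπ : Function.Surjective π)
    (G : Set S₀) (hG : Algebra.adjoin R G = ⊤)
    (hrel : ∀ x ∈ G, ∃ t ∈ T, ∃ a : S₁, π (x ⊗ₜ t) = π (1 ⊗ₜ a)) (c : C) :
    ∃ t ∈ T, ∃ a : S₁, π (1 ⊗ₜ t) * c = π (1 ⊗ₜ a) := by
  let Q : C → Prop := fun c => ∃ t ∈ T, ∃ a : S₁, π (1 ⊗ₜ t) * c = π (1 ⊗ₜ a)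
  have Qι : ∀ b : S₁, Q (π (1 ⊗ₜ b)) := fun b => ⟨1, T.one_mem, b, by
    rw [← map_mul, Algebra.TensorProduct.tmul_mul_tmul, one_mul, one_mul]⟩
  have Qadd : ∀ c₁ c₂, Q c₁ → Q c₂ → Q (c₁ + c₂) := by
    rintro c₁ c₂ ⟨t₁, ht₁, a₁, h₁⟩ ⟨t₂, ht₂, a₂, h₂⟩
    refine ⟨t₁ * t₂, T.mul_mem ht₁ ht₂, t₂ * a₁ + t₁ * a₂, ?_⟩
    have e1 : π ((1 : S₀) ⊗ₜ[R] (t₁ * t₂)) = π (1 ⊗ₜ t₁) * π (1 ⊗ₜ t₂) := by
      rw [← map_mul, Algebra.TensorProduct.tmul_mul_tmul, one_mul]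
    have e2 : π ((1 : S₀) ⊗ₜ[R] (t₂ * a₁ + t₁ * a₂)) =
        π (1 ⊗ₜ t₂) * π (1 ⊗ₜ a₁) + π (1 ⊗ₜ t₁) * π (1 ⊗ₜ a₂) := by
      rw [← map_mul, ← map_mul, ← map_add, Algebra.TensorProduct.tmul_mul_tmul,
        Algebra.TensorProduct.tmul_mul_tmul, one_mul, ← TensorProduct.tmul_add]
    rw [e1, e2, ← h₁, ← h₂]
    ring
  have Qmul : ∀ c₁ c₂, Q c₁ → Q c₂ → Q (c₁ * c₂) := by
    rintro c₁ c₂ ⟨t₁, ht₁, a₁, h₁⟩ ⟨t₂, ht₂, a₂, h₂⟩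
    refine ⟨t₁ * t₂, T.mul_mem ht₁ ht₂, a₁ * a₂, ?_⟩
    have e1 : π ((1 : S₀) ⊗ₜ[R] (t₁ * t₂)) = π (1 ⊗ₜ t₁) * π (1 ⊗ₜ t₂) := by
      rw [← map_mul, Algebra.TensorProduct.tmul_mul_tmul, one_mul]
    have e2 : π ((1 : S₀) ⊗ₜ[R] (a₁ * a₂)) = π (1 ⊗ₜ a₁) * π (1 ⊗ₜ a₂) := by
      rw [← map_mul, Algebra.TensorProduct.tmul_mul_tmul, one_mul]
    rw [e1, e2, ← h₁, ← h₂]
    ring
  have Qleft : ∀ x : S₀, Q (π (x ⊗ₜ 1)) := by
    intro x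
    have hx : x ∈ Algebra.adjoin R G := by rw [hG]; trivial
    induction hx using Algebra.adjoin_induction with
    | mem x hx =>
      obtain ⟨t, ht, a, h⟩ := hrel x hx
      refine ⟨t, ht, a, ?_⟩
      rw [← map_mul, Algebra.TensorProduct.tmul_mul_tmul, one_mul, mul_one, h]
    | algebraMap r =>
      have e : π ((algebraMap R S₀ r) ⊗ₜ[R] (1 : S₁)) = π (1 ⊗ₜ (algebraMap R S₁ r)) := by
        congr 1
        rw [Algebra.algebraMap_eq_smul_one, Algebra.algebraMap_eq_smul_one,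
          TensorProduct.smul_tmul]
      rw [e]
      exact Qι _
    | add x y _ _ hx hy =>
      rw [TensorProduct.add_tmul, map_add]
      exact Qadd _ _ hx hy
    | mul x y _ _ hx hy =>
      have e : π ((x * y) ⊗ₜ[R] (1 : S₁)) = π (x ⊗ₜ 1) * π (y ⊗ₜ 1) := by
        rw [← map_mul, Algebra.TensorProduct.tmul_mul_tmul, one_mul]
      rw [e]
      exact Qmul _ _ hx hy
  obtain ⟨d, rfl⟩ := hπ c
  change Q (π d)
  induction d using TensorProduct.induction_on with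
  | zero =>
    refine ⟨1, T.one_mem, 0, ?_⟩
    rw [map_zero, mul_zero, TensorProduct.tmul_zero, map_zero]
  | tmul x b =>
    have e : π (x ⊗ₜ[R] b) = π (x ⊗ₜ 1) * π (1 ⊗ₜ b) := by
      rw [← map_mul, Algebra.TensorProduct.tmul_mul_tmul, one_mul, mul_one]
    rw [e]
    exact Qmul _ _ (Qleft x) (Qι b)
  | add d₁ d₂ h₁ h₂ =>
    rw [map_add]
    exact Qadd _ _ h₁ h₂

-- the localization statement.
theorem isLocalization_of_tensor_quot (T : Submonoid S₁) [IsLocalization T S'] (φ : S₀ →ₐ[R] S')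
    (π : S₀ ⊗[R] S₁ →ₐ[R] C) (hπ : Function.Surjective π)
    (hν : ∀ (x : S₀) (b : S₁), algebraMap C S' (π (x ⊗ₜ b)) = φ x * algebraMap S₁ S' b)
    (G : Set S₀) (hG : Algebra.adjoin R G = ⊤)
    (hrel : ∀ x ∈ G, ∃ t ∈ T, ∃ a : S₁, π (x ⊗ₜ t) = π (1 ⊗ₜ a)) :
    IsLocalization (T.map ((π.toRingHom).comp
      (Algebra.TensorProduct.includeRight : S₁ →ₐ[R] S₀ ⊗[R] S₁).toRingHom)) S' := by
  have hι : ∀ b : S₁, algebraMap C S' (π (1 ⊗ₜ b)) = algebraMap S₁ S' b := by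
    intro b
    rw [hν, map_one, one_mul]
  have key := exists_mul_eq_of_tensor_quot T π hπ G hG hrel
  rw [isLocalization_iff]
  refine ⟨?_, ?_, ?_⟩
  · rintro ⟨y, t, ht, rfl⟩
    change IsUnit (algebraMap C S' (π (1 ⊗ₜ t)))
    rw [hι]
    exact IsLocalization.map_units S' ⟨t, ht⟩
  · intro z
    obtain ⟨⟨a, t⟩, h⟩ := IsLocalization.surj T z
    refine ⟨⟨π (1 ⊗ₜ a), ⟨π (1 ⊗ₜ (t : S₁)), ⟨t, t.2, rfl⟩⟩⟩, ?_⟩
    change z * algebraMap C S' (π (1 ⊗ₜ (t : S₁))) = algebraMap C S' (π (1 ⊗ₜ a))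
    rw [hι, hι]
    exact h
  · intro x y hxy
    obtain ⟨t, ht, a, h⟩ := key (x - y)
    have h0 : algebraMap S₁ S' a = 0 := by
      rw [← hι, ← h, map_mul, map_sub, hxy, sub_self, mul_zero]
    obtain ⟨t', ht'⟩ := (IsLocalization.map_eq_zero_iff T S' a).mp h0
    refine ⟨⟨π (1 ⊗ₜ ((t' : S₁) * t)), ⟨(t' : S₁) * t, T.mul_mem t'.2 ht, rfl⟩⟩, ?_⟩
    change π (1 ⊗ₜ ((t' : S₁) * t)) * x = π (1 ⊗ₜ ((t' : S₁) * t)) * y
    have e1 : π ((1 : S₀) ⊗ₜ[R] ((t' : S₁) * t)) = π (1 ⊗ₜ (t' : S₁)) * π (1 ⊗ₜ t) := by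
      rw [← map_mul, Algebra.TensorProduct.tmul_mul_tmul, one_mul]
    have e2 : π ((1 : S₀) ⊗ₜ[R] ((t' : S₁) * a)) = π (1 ⊗ₜ (t' : S₁)) * π (1 ⊗ₜ a) := by
      rw [← map_mul, Algebra.TensorProduct.tmul_mul_tmul, one_mul]
    have e3 : π (1 ⊗ₜ ((t' : S₁) * t)) * (x - y) = 0 := by
      rw [e1, mul_assoc, h, ← e2, ht', TensorProduct.tmul_zero, map_zero]
    rw [mul_sub] at e3
    exact sub_eq_zero.mp e3

end A

end Groth.Agent.Lib.Helper3.EFPTowerA
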