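import Mathlib
import Groth.Agent.Lib.Helper3EFPTowerA

set_option autoImplicit false
set_option linter.style.haveILetI false

universe u

open TensorProduct

namespace Groth.Agent.Lib.Helper3.EFPTowerB

open Groth.Agent.Lib.Helper3.EFPTowerA

variable {R S₀ S₁ S' : Type u} [CommRing R] [CommRing S₀] [CommRing S₁] [CommRing S']
  [Algebra R S₀] [Algebra R S₁] [Algebra R S'] [Algebra S₁ S'] [IsScalarTower R S₁ S']

set_option maxHeartbeats 1600000 in
-- an `R`-algebra map from a finitely presented algebra `S₀` to a localization `S'` of a finitely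
-- presented algebra `S₁` factors through a finitely presented `R`-algebra `C` of which `S'` is
-- a localization.
theorem exists_fp_factor [Algebra.FinitePresentation R S₀] [Algebra.FinitePresentation R S₁]
    (T : Submonoid S₁) [IsLocalization T S'] (φ : S₀ →ₐ[R] S') :
    ∃ (C : Type u) (_ : CommRing C) (_ : Algebra R C) (_ : Algebra S₀ C)
      (_ : IsScalarTower R S₀ C) (_ : Algebra C S') (TC : Submonoid C),
      Algebra.FinitePresentation R C ∧ IsLocalization TC S' ∧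
      (algebraMap C S').comp (algebraMap S₀ C) = φ.toRingHom := by
  classical
  obtain ⟨s, hs⟩ := (inferInstance : Algebra.FiniteType R S₀).out
  have h : ∀ x : S₀, ∃ p : S₁ × T, φ x * algebraMap S₁ S' p.2 = algebraMap S₁ S' p.1 :=
    fun x => IsLocalization.surj T (φ x)
  choose p hp using h
  let ψ : S₁ →ₐ[R] S' := IsScalarTower.toAlgHom R S₁ S'
  let μ : S₀ ⊗[R] S₁ →ₐ[R] S' := Algebra.TensorProduct.lift φ ψ (fun _ _ => Commute.all _ _)
  have hμ : ∀ (x : S₀) (b : S₁), μ (x ⊗ₜ b) = φ x * algebraMap S₁ S' b := by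
    intro x b
    simp [μ, ψ]
  let g : S₀ → S₀ ⊗[R] S₁ := fun x => x ⊗ₜ[R] ((p x).2 : S₁) - 1 ⊗ₜ[R] (p x).1
  let I : Ideal (S₀ ⊗[R] S₁) := Ideal.span (g '' (s : Set S₀))
  have hI : I.FG := ⟨s.image g, by simp [I]⟩
  have hμI : ∀ d ∈ I, μ d = 0 := by
    intro d hd
    have hle : I ≤ RingHom.ker μ.toRingHom := by
      rw [Ideal.span_le]
      rintro _ ⟨x, _, rfl⟩
      change μ (x ⊗ₜ[R] ((p x).2 : S₁) - 1 ⊗ₜ[R] (p x).1) = 0
      rw [map_sub, hμ, hμ, hp, map_one, one_mul, sub_self]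
    exact hle hd
  haveI : Algebra.FinitePresentation S₀ (S₀ ⊗[R] S₁) := inferInstance
  haveI : Algebra.FinitePresentation R (S₀ ⊗[R] S₁) :=
    Algebra.FinitePresentation.trans R S₀ (S₀ ⊗[R] S₁)
  haveI : Algebra.FinitePresentation R ((S₀ ⊗[R] S₁) ⧸ I) :=
    Algebra.FinitePresentation.quotient hI
  let ν : ((S₀ ⊗[R] S₁) ⧸ I) →ₐ[R] S' := Ideal.Quotient.liftₐ I μ hμI
  letI algCS : Algebra ((S₀ ⊗[R] S₁) ⧸ I) S' := ν.toRingHom.toAlgebra
  let π : S₀ ⊗[R] S₁ →ₐ[R] ((S₀ ⊗[R] S₁) ⧸ I) := Ideal.Quotient.mkₐ R I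
  have hν : ∀ (x : S₀) (b : S₁),
      algebraMap ((S₀ ⊗[R] S₁) ⧸ I) S' (π (x ⊗ₜ b)) = φ x * algebraMap S₁ S' b := by
    intro x b
    change ν (Ideal.Quotient.mk I (x ⊗ₜ b)) = _
    rw [Ideal.Quotient.liftₐ_apply, Ideal.Quotient.lift_mk]
    exact hμ x b
  have hloc := isLocalization_of_tensor_quot (C := (S₀ ⊗[R] S₁) ⧸ I) T φ π
    (Ideal.Quotient.mkₐ_surjective R I) hν (s : Set S₀) hs
    (by
      intro x hx
      refine ⟨(p x).2, (p x).2.2, (p x).1, ?_⟩
      change Ideal.Quotient.mk I _ = Ideal.Quotient.mk I _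
      rw [Ideal.Quotient.eq]
      exact Ideal.subset_span ⟨x, hx, rfl⟩)
  refine ⟨(S₀ ⊗[R] S₁) ⧸ I, inferInstance, inferInstance, inferInstance, inferInstance, algCS, _,
    inferInstance, hloc, ?_⟩
  ext x
  change algebraMap ((S₀ ⊗[R] S₁) ⧸ I) S' (π (x ⊗ₜ 1)) = φ x
  rw [hν, map_one, mul_one]

end Groth.Agent.Lib.Helper3.EFPTowerB
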