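import Mathlib
import Groth.Agent.Lib.Helper3FibCritA
import Groth.Agent.Lib.Helper3FibCritC

set_option autoImplicit false
set_option linter.style.haveILetI false

universe u

namespace Groth.Agent.Lib.Helper3.FibModA

open TensorProduct Algebra Groth.Agent.Lib.Helper3.FibCritA Groth.Agent.Lib.Helper3.FibCritC

section FF

variable {A' A B' B : Type u} [CommRing A'] [CommRing A] [CommRing B'] [CommRing B]
  [Algebra A' A] [Algebra A' B'] [Algebra A B] [Algebra B' B] [Algebra A' B]
  [IsScalarTower A' B' B] [IsScalarTower A' A B] [Algebra.IsPushout A' A B' B]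

set_option maxHeartbeats 1600000 in
/-- **Fibre local rings under base change**, fibre form: for a prime `Q` of the fibre ring
`κ(p) ⊗ B`, the map `B'_{q'}/p'B'_{q'} → B_q/pB_q` is flat. -/
theorem flat_quotientMap_of_fiber (p : Ideal A) [p.IsPrime] (Q : Ideal (p.Fiber B)) [Q.IsPrime] :
    letI p' : Ideal A' := p.comap (algebraMap A' A)
    letI algK'K : Algebra p'.ResidueField p.ResidueField :=
      (Ideal.ResidueField.map p' p (algebraMap A' A) rfl).toAlgebra
    haveI : IsScalarTower A' p'.ResidueField p.ResidueField :=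
      IsScalarTower.of_algebraMap_eq (fun x => by
        rw [RingHom.algebraMap_toAlgebra, Ideal.ResidueField.map_algebraMap,
          ← IsScalarTower.algebraMap_apply])
    letI Q' : Ideal (p'.Fiber B') :=
      Q.comap (μ A' A p'.ResidueField p.ResidueField B' B).toRingHom
    letI q : Ideal B := Q.comap (Algebra.TensorProduct.includeRight : B →ₐ[A] p.Fiber B)
    letI q' : Ideal B' := Q'.comap (Algebra.TensorProduct.includeRight : B' →ₐ[A'] p'.Fiber B')
    ∀ (hq' : q' = q.comap (algebraMap B' B))
      (hJ : p'.map (algebraMap A' (Localization.AtPrime q')) ≤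
        (p.map (algebraMap A (Localization.AtPrime q))).comap
          (Localization.localRingHom q' q (algebraMap B' B) hq')),
      (Ideal.quotientMap (p.map (algebraMap A (Localization.AtPrime q)))
        (Localization.localRingHom q' q (algebraMap B' B) hq') hJ).Flat := by
  intro hq' hJ
  let p' : Ideal A' := p.comap (algebraMap A' A)
  letI algK'K : Algebra p'.ResidueField p.ResidueField :=
    (Ideal.ResidueField.map p' p (algebraMap A' A) rfl).toAlgebra
  haveI : IsScalarTower A' p'.ResidueField p.ResidueField :=
    IsScalarTower.of_algebraMap_eq (fun x => by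
      rw [RingHom.algebraMap_toAlgebra, Ideal.ResidueField.map_algebraMap,
        ← IsScalarTower.algebraMap_apply])
  let μB := μ A' A p'.ResidueField p.ResidueField B' B
  let Q' : Ideal (p'.Fiber B') := Q.comap μB.toRingHom
  haveI : Q'.IsPrime := Ideal.comap_isPrime _ _
  let q : Ideal B := Q.comap (Algebra.TensorProduct.includeRight : B →ₐ[A] p.Fiber B)
  let q' : Ideal B' := Q'.comap (Algebra.TensorProduct.includeRight : B' →ₐ[A'] p'.Fiber B')
  haveI : q.IsPrime := Ideal.comap_isPrime _ _
  haveI : q'.IsPrime := Ideal.comap_isPrime _ _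
  -- lying over
  haveI hqp : q.LiesOver p := by
    constructor
    have h0 : Q.LiesOver p := inferInstance
    rw [h0.over]
    ext a
    simp only [q, Ideal.mem_comap, Ideal.under]
    rw [← AlgHom.commutes (Algebra.TensorProduct.includeRight : B →ₐ[A] p.Fiber B)]
  haveI hq'p' : q'.LiesOver p' := by
    constructor
    have h0 : Q'.LiesOver p' := inferInstance
    rw [h0.over]
    ext a
    simp only [q', Ideal.mem_comap, Ideal.under]
    rw [← AlgHom.commutes (Algebra.TensorProduct.includeRight : B' →ₐ[A'] p'.Fiber B')]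
  letI := Localization.AtPrime.algebraOfLiesOver p q
  letI := Localization.AtPrime.algebraOfLiesOver p' q'
  -- flatness of μ
  letI algF'F : Algebra (p'.Fiber B') (p.Fiber B) := μB.toRingHom.toAlgebra
  haveI t3 : IsScalarTower p'.ResidueField (p'.Fiber B') (p.Fiber B) :=
    IsScalarTower.of_algebraMap_eq (fun x => (μB.commutes x).symm)
  have hPB : Algebra.IsPushout p'.ResidueField p.ResidueField (p'.Fiber B') (p.Fiber B) :=
    ⟨isBaseChange_μ A' A p'.ResidueField p.ResidueField B' B⟩
  haveI hPB' : Algebra.IsPushout p'.ResidueField (p'.Fiber B') p.ResidueField (p.Fiber B) :=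
    hPB.symm
  haveI : Module.Flat (p'.Fiber B') (p.Fiber B) :=
    Module.Flat.of_linearEquiv
      (Algebra.IsPushout.equiv p'.ResidueField (p'.Fiber B') p.ResidueField
        (p.Fiber B)).toLinearEquiv.symm
  have hμflat : μB.toRingHom.Flat := by
    change Module.Flat (p'.Fiber B') (p.Fiber B)
    infer_instance
  let J : Ideal (Localization.AtPrime q) := p.map (algebraMap A (Localization.AtPrime q))
  let J' : Ideal (Localization.AtPrime q') := p'.map (algebraMap A' (Localization.AtPrime q'))
  let eB := Ideal.Fiber.localizationAlgEquivQuotient p Q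
  let eB' := Ideal.Fiber.localizationAlgEquivQuotient p' Q'
  let ψ : Localization.AtPrime Q' →+* Localization.AtPrime Q :=
    Localization.localRingHom Q' Q μB.toRingHom rfl
  have hψ : @RingHom.Flat (Localization.AtPrime Q') (Localization.AtPrime Q) _ _ ψ :=
    RingHom.Flat.localRingHom hμflat Q Q' rfl
  let χ : Localization.AtPrime q' ⧸ J' →+* Localization.AtPrime q ⧸ J :=
    Ideal.quotientMap J (Localization.localRingHom q' q (algebraMap B' B) hq') hJ
  have hχ : χ.comp eB'.toRingEquiv.toRingHom = eB.toRingEquiv.toRingHom.comp ψ := by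
    apply ringHom_ext_fiber_localization p' Q'
    intro b
    simp only [RingHom.comp_apply]
    have h1 : eB'.toRingEquiv.toRingHom (algebraMap (p'.Fiber B') (Localization.AtPrime Q')
        (1 ⊗ₜ b)) = Ideal.Quotient.mk _ (algebraMap B' (Localization.AtPrime q') b) :=
      localizationAlgEquivQuotient_one_tmul p' Q' b
    have h2 : ψ (algebraMap (p'.Fiber B') (Localization.AtPrime Q') (1 ⊗ₜ b)) =
        algebraMap (p.Fiber B) (Localization.AtPrime Q) (1 ⊗ₜ algebraMap B' B b) := by
      change Localization.localRingHom Q' Q μB.toRingHom rfl _ = _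
      rw [Localization.localRingHom_to_map]
      congr 1
      change μB (1 ⊗ₜ b) = _
      rw [μ_tmul, map_one]
    have h3 : eB.toRingEquiv.toRingHom (algebraMap (p.Fiber B) (Localization.AtPrime Q)
        (1 ⊗ₜ algebraMap B' B b)) =
        Ideal.Quotient.mk _ (algebraMap B (Localization.AtPrime q) (algebraMap B' B b)) :=
      localizationAlgEquivQuotient_one_tmul p Q (algebraMap B' B b)
    rw [h1, h2, h3]
    change Ideal.Quotient.mk J (Localization.localRingHom q' q (algebraMap B' B) hq'
      (algebraMap B' (Localization.AtPrime q') b)) = _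
    rw [Localization.localRingHom_to_map]
  have hχ' : χ = (eB.toRingEquiv.toRingHom.comp ψ).comp eB'.symm.toRingEquiv.toRingHom := by
    refine RingHom.ext fun x => ?_
    obtain ⟨y, rfl⟩ := eB'.surjective x
    have h1 : χ (eB' y) = (χ.comp eB'.toRingEquiv.toRingHom) y := rfl
    have h2 : eB'.symm.toRingEquiv.toRingHom (eB' y) = y := eB'.symm_apply_apply y
    rw [h1, hχ, RingHom.comp_apply, RingHom.comp_apply, RingHom.comp_apply, h2]
  change χ.Flat
  rw [hχ']
  exact RingHom.Flat.comp (RingHom.Flat.of_bijective eB'.symm.bijective)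
    (RingHom.Flat.comp hψ (RingHom.Flat.of_bijective eB.bijective))

theorem map_le_comap_localRingHom (p : Ideal A) (q : Ideal B) [q.IsPrime] (q' : Ideal B')
    [q'.IsPrime] (hq' : q' = q.comap (algebraMap B' B)) :
    (p.comap (algebraMap A' A)).map (algebraMap A' (Localization.AtPrime q')) ≤
      (p.map (algebraMap A (Localization.AtPrime q))).comap
        (Localization.localRingHom q' q (algebraMap B' B) hq') := by
  rw [Ideal.map_le_iff_le_comap]
  intro a ha
  rw [Ideal.mem_comap, Ideal.mem_comap]
  have h1 : algebraMap A' (Localization.AtPrime q') a =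
      algebraMap B' (Localization.AtPrime q') (algebraMap A' B' a) :=
    IsScalarTower.algebraMap_apply A' B' (Localization.AtPrime q') a
  rw [h1, Localization.localRingHom_to_map, ← IsScalarTower.algebraMap_apply A' B' B,
    IsScalarTower.algebraMap_apply A' A B, ← IsScalarTower.algebraMap_apply A B]
  exact Ideal.mem_map_of_mem _ ha

set_option maxHeartbeats 800000 in
/-- **Fibre local rings under base change**: if `B = A ⊗_{A'} B'`, `q` a prime of `B` over `p`,
`q'` and `p'` the contractions, then `B'_{q'}/p'B'_{q'} → B_q/pB_q` is flat. -/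
theorem flat_quotientMap_localRingHom (p : Ideal A) [p.IsPrime] (q : Ideal B) [q.IsPrime]
    [hqp : q.LiesOver p] (q' : Ideal B') [q'.IsPrime] (hq' : q' = q.comap (algebraMap B' B)) :
    (Ideal.quotientMap (p.map (algebraMap A (Localization.AtPrime q)))
      (Localization.localRingHom q' q (algebraMap B' B) hq')
      (map_le_comap_localRingHom (A' := A') p q q' hq')).Flat := by
  obtain ⟨Q, hQprime, rfl⟩ : ∃ Q : Ideal (p.Fiber B), ∃ _ : Q.IsPrime,
      Q.comap (Algebra.TensorProduct.includeRight : B →ₐ[A] p.Fiber B) = q := by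
    let Q0 := PrimeSpectrum.primesOverOrderIsoFiber A B p ⟨q, ⟨inferInstance, hqp⟩⟩
    refine ⟨Q0.asIdeal, Q0.isPrime, ?_⟩
    have h := PrimeSpectrum.coe_primesOverOrderIsoFiber_symm_apply p Q0
    rw [← h]
    simp [Q0]
  let p' : Ideal A' := p.comap (algebraMap A' A)
  letI algK'K : Algebra p'.ResidueField p.ResidueField :=
    (Ideal.ResidueField.map p' p (algebraMap A' A) rfl).toAlgebra
  haveI : IsScalarTower A' p'.ResidueField p.ResidueField :=
    IsScalarTower.of_algebraMap_eq (fun x => by
      rw [RingHom.algebraMap_toAlgebra, Ideal.ResidueField.map_algebraMap,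
        ← IsScalarTower.algebraMap_apply])
  have hq'' : q' = (Q.comap (μ A' A p'.ResidueField p.ResidueField B' B).toRingHom).comap
      (Algebra.TensorProduct.includeRight : B' →ₐ[A'] p'.Fiber B') := by
    rw [hq']
    ext b
    simp only [Ideal.mem_comap]
    change (1 : p.ResidueField) ⊗ₜ[A] (algebraMap B' B b) ∈ Q ↔
      μ A' A p'.ResidueField p.ResidueField B' B ((1 : p'.ResidueField) ⊗ₜ[A'] b) ∈ Q
    rw [μ_tmul, map_one]
  subst hq''
  exact flat_quotientMap_of_fiber (A' := A') p Q hq' _

end FF

end Groth.Agent.Lib.Helper3.FibModA
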