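import Mathlib
import Groth.Agent.Lib.Helper14FlatAboveA
import Groth.Agent.Lib.Helper2FibreCrit

set_option autoImplicit false
set_option linter.style.haveILetI false

universe u

namespace Groth.Agent.Lib.Helper3.FibModB

open TensorProduct Groth.Agent.Lib.Helper14.FlatAbove Groth.Agent.Lib.Helper2.FibreCrit

section Basic

-- Lemma Q: the quotient `N → N/KN` is the base change along `T → T/K`.
theorem isBaseChange_mkQ {T : Type*} [CommRing T] (K : Ideal T) (N : Type*) [AddCommGroup N]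
    [Module T N] :
    IsBaseChange (T ⧸ K) ((K • (⊤ : Submodule T N)).mkQ) := by
  refine IsBaseChange.of_equiv (quotTensorEquiv K N) (fun x => ?_)
  change TensorProduct.quotTensorEquivQuotSMul N K (1 ⊗ₜ x) = _
  rw [TensorProduct.quotTensorEquivQuotSMul_mk_one_tmul]
  rfl

-- Lemma D': descent of flatness along a faithfully flat base change of the fibre.
theorem flat_of_isBaseChange_square {Λ₁ Λ Γ₁ Γ : Type*} [CommRing Λ₁] [CommRing Λ] [CommRing Γ₁]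
    [CommRing Γ] [Algebra Λ₁ Λ] [Algebra Λ₁ Γ₁] [Algebra Λ Γ] [Algebra Γ₁ Γ] [Algebra Λ₁ Γ]
    [IsScalarTower Λ₁ Λ Γ] [IsScalarTower Λ₁ Γ₁ Γ] [Module.Flat Λ₁ Λ] [Module.FaithfullyFlat Γ₁ Γ]
    {X₁ X : Type*} [AddCommGroup X₁] [Module Γ₁ X₁] [Module Λ₁ X₁] [IsScalarTower Λ₁ Γ₁ X₁]
    [AddCommGroup X] [Module Γ X] [Module Λ X] [IsScalarTower Λ Γ X] [Module Γ₁ X]
    [IsScalarTower Γ₁ Γ X] [Module Λ₁ X] [IsScalarTower Λ₁ Γ X] [IsScalarTower Λ₁ Λ X]
    (θ : X₁ →ₗ[Γ₁] X) (hθ : IsBaseChange Γ θ) [Module.Flat Λ X] : Module.Flat Λ₁ X₁ := by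
  haveI : Module.Flat Λ₁ X := Module.Flat.trans Λ₁ Λ X
  exact flat_of_isBaseChange_of_faithfullyFlat (A' := Λ₁) (B₁ := Γ₁) (C₁ := Γ) hθ

end Basic

section E

variable {S T : Type*} [CommRing S] [CommRing T] [Algebra S T] (J : Ideal S)
  (N : Type*) [AddCommGroup N] [Module T N] [Module S N] [IsScalarTower S T N]

theorem smul_top_restrictScalars :
    ((J.map (algebraMap S T)) • (⊤ : Submodule T N)).restrictScalars S =
      J • (⊤ : Submodule S N) := by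
  rw [Ideal.smul_restrictScalars, Submodule.restrictScalars_top]

-- `S`-linear identification of the two quotient forms of the fibre module
noncomputable def quotEquivS :
    (N ⧸ J • (⊤ : Submodule S N)) ≃ₗ[S] N ⧸ (J.map (algebraMap S T)) • (⊤ : Submodule T N) :=
  (Submodule.quotEquivOfEq _ _ (smul_top_restrictScalars J N).symm) ≪≫ₗ
    Submodule.Quotient.restrictScalarsEquiv S _

theorem quotEquivS_mk (x : N) :
    quotEquivS (T := T) J N (Submodule.Quotient.mk x) =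
      (Submodule.Quotient.mk x : N ⧸ (J.map (algebraMap S T)) • (⊤ : Submodule T N)) := rfl

theorem flat_quot_iff :
    letI : Module (S ⧸ J) (N ⧸ (J.map (algebraMap S T)) • (⊤ : Submodule T N)) :=
      Module.compHom _ (algebraMap (S ⧸ J) (T ⧸ J.map (algebraMap S T)))
    Module.Flat (S ⧸ J) (N ⧸ J • (⊤ : Submodule S N)) ↔
      Module.Flat (S ⧸ J) (N ⧸ (J.map (algebraMap S T)) • (⊤ : Submodule T N)) := by
  letI : Module (S ⧸ J) (N ⧸ (J.map (algebraMap S T)) • (⊤ : Submodule T N)) :=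
      Module.compHom _ (algebraMap (S ⧸ J) (T ⧸ J.map (algebraMap S T)))
  haveI : IsScalarTower S (S ⧸ J) (N ⧸ (J.map (algebraMap S T)) • (⊤ : Submodule T N)) := by
    refine IsScalarTower.of_algebraMap_smul (fun s y => ?_)
    obtain ⟨y, rfl⟩ := Submodule.Quotient.mk_surjective _ y
    change (algebraMap (S ⧸ J) (T ⧸ J.map (algebraMap S T)) (Ideal.Quotient.mk J s)) •
      (Submodule.Quotient.mk y : N ⧸ (J.map (algebraMap S T)) • (⊤ : Submodule T N)) = _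
    rw [Ideal.Quotient.algebraMap_quotient_map_quotient, Module.Quotient.mk_smul_mk,
      algebraMap_smul]
    rfl
  let e : (N ⧸ J • (⊤ : Submodule S N)) ≃ₗ[S ⧸ J]
      N ⧸ (J.map (algebraMap S T)) • (⊤ : Submodule T N) :=
    LinearEquiv.extendScalarsOfSurjective (R := S) (S := S ⧸ J) Ideal.Quotient.mk_surjective
      (quotEquivS J N)
  exact ⟨fun h => Module.Flat.of_linearEquiv e.symm, fun h => Module.Flat.of_linearEquiv e⟩

end E

section Descent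

variable {S₁ S T₁ T : Type u} [CommRing S₁] [CommRing S] [CommRing T₁] [CommRing T]
  [Algebra S₁ S] [Algebra S₁ T₁] [Algebra S T] [Algebra T₁ T] [Algebra S₁ T]
  [IsScalarTower S₁ S T] [IsScalarTower S₁ T₁ T]

-- the quotient of a local homomorphism is local
theorem isLocalHom_quotientMap [IsLocalRing T₁] [IsLocalRing T] [IsLocalHom (algebraMap T₁ T)]
    (K₁ : Ideal T₁) (K : Ideal T) (hK : K ≠ ⊤) (h : K₁ ≤ K.comap (algebraMap T₁ T)) :
    IsLocalHom (Ideal.quotientMap K (algebraMap T₁ T) h) := by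
  constructor
  intro x hx
  obtain ⟨x, rfl⟩ := Ideal.Quotient.mk_surjective x
  rw [Ideal.quotientMap_mk] at hx
  have h1 : IsUnit (algebraMap T₁ T x) := by
    by_contra hnu
    have hm : algebraMap T₁ T x ∈ IsLocalRing.maximalIdeal T :=
      (IsLocalRing.mem_maximalIdeal _).mpr hnu
    obtain ⟨y, hy⟩ := hx.exists_right_inv
    obtain ⟨y, rfl⟩ := Ideal.Quotient.mk_surjective y
    rw [← map_mul, ← map_one (Ideal.Quotient.mk K), Ideal.Quotient.eq] at hy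
    have hKm : K ≤ IsLocalRing.maximalIdeal T := IsLocalRing.le_maximalIdeal hK
    have h2 := hKm hy
    have h3 : (1 : T) ∈ IsLocalRing.maximalIdeal T := by
      have := Ideal.sub_mem _ (Ideal.mul_mem_right y _ hm) h2
      rwa [sub_sub_cancel] at this
    exact (IsLocalRing.maximalIdeal.isMaximal T).ne_top ((Ideal.eq_top_iff_one _).mpr h3)
  exact (isUnit_of_map_unit (algebraMap T₁ T) x h1).map (Ideal.Quotient.mk K₁)

set_option maxHeartbeats 1600000 in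
-- **Descent of fibrewise flatness** along a flat change of fibre rings.
theorem flat_fibre_descent [IsLocalRing T₁] [IsLocalRing T] [IsLocalHom (algebraMap T₁ T)]
    (J₁ : Ideal S₁) (J : Ideal S) (hJ : J₁ ≤ J.comap (algebraMap S₁ S))
    (hJT : J.map (algebraMap S T) ≠ ⊤)
    (hS : (Ideal.quotientMap J (algebraMap S₁ S) hJ).Flat)
    (hJ' : J₁.map (algebraMap S₁ T₁) ≤ (J.map (algebraMap S T)).comap (algebraMap T₁ T))
    (hT : (Ideal.quotientMap (J.map (algebraMap S T)) (algebraMap T₁ T) hJ').Flat)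
    {N₁ N : Type u} [AddCommGroup N₁] [Module T₁ N₁] [Module S₁ N₁] [IsScalarTower S₁ T₁ N₁]
    [AddCommGroup N] [Module T N] [Module S N] [IsScalarTower S T N] [Module T₁ N]
    [IsScalarTower T₁ T N]
    (ψ : N₁ →ₗ[T₁] N) (hψ : IsBaseChange T ψ)
    (h : Module.Flat (S ⧸ J) (N ⧸ J • (⊤ : Submodule S N))) :
    Module.Flat (S₁ ⧸ J₁) (N₁ ⧸ J₁ • (⊤ : Submodule S₁ N₁)) := by
  rw [flat_quot_iff (T := T₁)]
  rw [flat_quot_iff (T := T)] at h
  let K₁ : Ideal T₁ := J₁.map (algebraMap S₁ T₁)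
  let K : Ideal T := J.map (algebraMap S T)
  -- algebra structures among the quotient rings
  letI aΛ : Algebra (S₁ ⧸ J₁) (S ⧸ J) := (Ideal.quotientMap J (algebraMap S₁ S) hJ).toAlgebra
  letI aΓ : Algebra (T₁ ⧸ K₁) (T ⧸ K) := (Ideal.quotientMap K (algebraMap T₁ T) hJ').toAlgebra
  letI aΛΓ : Algebra (S₁ ⧸ J₁) (T ⧸ K) :=
    ((algebraMap (S ⧸ J) (T ⧸ K)).comp (algebraMap (S₁ ⧸ J₁) (S ⧸ J))).toAlgebra
  haveI : IsScalarTower (S₁ ⧸ J₁) (S ⧸ J) (T ⧸ K) := IsScalarTower.of_algebraMap_eq (fun _ => rfl)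
  haveI : IsScalarTower (S₁ ⧸ J₁) (T₁ ⧸ K₁) (T ⧸ K) := IsScalarTower.of_algebraMap_eq (fun x => by
    obtain ⟨x, rfl⟩ := Ideal.Quotient.mk_surjective x
    change Ideal.Quotient.mk K (algebraMap S T (algebraMap S₁ S x)) =
      Ideal.Quotient.mk K (algebraMap T₁ T (algebraMap S₁ T₁ x))
    rw [← IsScalarTower.algebraMap_apply, ← IsScalarTower.algebraMap_apply])
  haveI : IsScalarTower T₁ (T₁ ⧸ K₁) (T ⧸ K) := IsScalarTower.of_algebraMap_eq (fun x => rfl)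
  haveI : Module.Flat (S₁ ⧸ J₁) (S ⧸ J) := hS
  haveI : Module.Flat (T₁ ⧸ K₁) (T ⧸ K) := hT
  -- local rings
  have hK₁ : K₁ ≠ ⊤ := by
    intro htop
    apply hJT
    rw [Ideal.eq_top_iff_one]
    have h1 : (1 : T₁) ∈ K₁ := htop ▸ Submodule.mem_top
    have h2 := hJ' h1
    rwa [Ideal.mem_comap, map_one] at h2
  haveI : Nontrivial (T ⧸ K) := Ideal.Quotient.nontrivial_iff.mpr hJT
  haveI : Nontrivial (T₁ ⧸ K₁) := Ideal.Quotient.nontrivial_iff.mpr hK₁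
  haveI : IsLocalRing (T ⧸ K) :=
    IsLocalRing.of_surjective' (Ideal.Quotient.mk K) Ideal.Quotient.mk_surjective
  haveI : IsLocalRing (T₁ ⧸ K₁) :=
    IsLocalRing.of_surjective' (Ideal.Quotient.mk K₁) Ideal.Quotient.mk_surjective
  haveI : IsLocalHom (algebraMap (T₁ ⧸ K₁) (T ⧸ K)) := isLocalHom_quotientMap K₁ K hJT hJ'
  haveI : Module.FaithfullyFlat (T₁ ⧸ K₁) (T ⧸ K) := Module.FaithfullyFlat.of_flat_of_isLocalHom
  -- module structures
  letI mΛX : Module (S ⧸ J) (N ⧸ K • (⊤ : Submodule T N)) :=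
    Module.compHom _ (algebraMap (S ⧸ J) (T ⧸ K))
  letI mΓ₁X : Module (T₁ ⧸ K₁) (N ⧸ K • (⊤ : Submodule T N)) :=
    Module.compHom _ (algebraMap (T₁ ⧸ K₁) (T ⧸ K))
  letI mΛ₁X : Module (S₁ ⧸ J₁) (N ⧸ K • (⊤ : Submodule T N)) :=
    Module.compHom _ (algebraMap (S₁ ⧸ J₁) (T ⧸ K))
  letI mΛ₁X₁ : Module (S₁ ⧸ J₁) (N₁ ⧸ K₁ • (⊤ : Submodule T₁ N₁)) :=
    Module.compHom _ (algebraMap (S₁ ⧸ J₁) (T₁ ⧸ K₁))
  haveI : IsScalarTower (S ⧸ J) (T ⧸ K) (N ⧸ K • (⊤ : Submodule T N)) :=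
    IsScalarTower.of_algebraMap_smul (fun _ _ => rfl)
  haveI : IsScalarTower (T₁ ⧸ K₁) (T ⧸ K) (N ⧸ K • (⊤ : Submodule T N)) :=
    IsScalarTower.of_algebraMap_smul (fun _ _ => rfl)
  haveI : IsScalarTower (S₁ ⧸ J₁) (T ⧸ K) (N ⧸ K • (⊤ : Submodule T N)) :=
    IsScalarTower.of_algebraMap_smul (fun _ _ => rfl)
  haveI : IsScalarTower (S₁ ⧸ J₁) (S ⧸ J) (N ⧸ K • (⊤ : Submodule T N)) :=
    IsScalarTower.of_algebraMap_smul (fun _ _ => rfl)
  haveI : IsScalarTower (S₁ ⧸ J₁) (T₁ ⧸ K₁) (N₁ ⧸ K₁ • (⊤ : Submodule T₁ N₁)) :=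
    IsScalarTower.of_algebraMap_smul (fun _ _ => rfl)
  haveI : IsScalarTower T₁ (T ⧸ K) (N ⧸ K • (⊤ : Submodule T N)) := by
    refine IsScalarTower.of_algebraMap_smul (fun t y => ?_)
    obtain ⟨y, rfl⟩ := Submodule.Quotient.mk_surjective _ y
    change (Ideal.Quotient.mk K (algebraMap T₁ T t)) •
      (Submodule.Quotient.mk y : N ⧸ K • (⊤ : Submodule T N)) = _
    rw [Module.Quotient.mk_smul_mk, algebraMap_smul]
    rfl
  haveI : IsScalarTower T₁ (T₁ ⧸ K₁) (N ⧸ K • (⊤ : Submodule T N)) := by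
    refine IsScalarTower.of_algebraMap_smul (fun t y => ?_)
    change (algebraMap (T₁ ⧸ K₁) (T ⧸ K) (Ideal.Quotient.mk K₁ t)) • y = _
    change (algebraMap T₁ (T ⧸ K) t) • y = _
    rw [algebraMap_smul]
  -- the comparison map
  have hπ₁ : IsBaseChange (T₁ ⧸ K₁) (K₁ • (⊤ : Submodule T₁ N₁)).mkQ := isBaseChange_mkQ K₁ N₁
  have hπ : IsBaseChange (T ⧸ K) (K • (⊤ : Submodule T N)).mkQ := isBaseChange_mkQ K N
  have hc := hψ.comp hπ
  let θ : (N₁ ⧸ K₁ • (⊤ : Submodule T₁ N₁)) →ₗ[T₁ ⧸ K₁] (N ⧸ K • (⊤ : Submodule T N)) :=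
    hπ₁.lift (((K • (⊤ : Submodule T N)).mkQ.restrictScalars T₁).comp ψ)
  have hθ : IsBaseChange (T ⧸ K) θ := by
    refine IsBaseChange.of_comp hπ₁ ?_
    have : (θ.restrictScalars T₁) ∘ₗ (K₁ • (⊤ : Submodule T₁ N₁)).mkQ =
        ((K • (⊤ : Submodule T N)).mkQ.restrictScalars T₁).comp ψ := hπ₁.lift_comp _
    rw [this]
    exact hc
  exact flat_of_isBaseChange_square (Λ₁ := S₁ ⧸ J₁) (Λ := S ⧸ J) (Γ₁ := T₁ ⧸ K₁) (Γ := T ⧸ K) θ hθ

end Descent

end Groth.Agent.Lib.Helper3.FibModB
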