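import Mathlib
import Groth.Agent.Lib.Helper3FibModA
import Groth.Agent.Lib.Helper3FibModB

set_option autoImplicit false
set_option linter.style.haveILetI false

universe u

namespace Groth.Agent.Lib.Helper3.FibModC

open TensorProduct Groth.Agent.Lib.Helper14.FlatAbove Groth.Agent.Lib.Helper3.FibModA
  Groth.Agent.Lib.Helper3.FibModB

-- Fibrewise flatness of `M_P` over `B_q`, relative to an ideal `p` of the base ring `A`:
-- `M_P / p M_P` is flat over `B_q / p B_q`.
def FibreFlat {A B C : Type u} [CommRing A] [CommRing B] [CommRing C] [Algebra A B] [Algebra B C]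
    (p : Ideal A) (q : Ideal B) [q.IsPrime] (P : Ideal C) [P.IsPrime] [P.LiesOver q]
    (M : Type u) [AddCommGroup M] [Module C M] : Prop :=
  letI := Localization.AtPrime.algebraOfLiesOver q P
  letI : Module (Localization.AtPrime q) (LocalizedModule P.primeCompl M) :=
    Module.compHom _ (algebraMap (Localization.AtPrime q) (Localization.AtPrime P))
  Module.Flat (Localization.AtPrime q ⧸ p.map (algebraMap A (Localization.AtPrime q)))
    (LocalizedModule P.primeCompl M ⧸ (p.map (algebraMap A (Localization.AtPrime q))) •
      (⊤ : Submodule (Localization.AtPrime q) (LocalizedModule P.primeCompl M)))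

theorem flat_quotientMap_congr {R S : Type*} [CommRing R] [CommRing S] (f : R →+* S)
    {I I' : Ideal R} {J J' : Ideal S} (hI : I = I') (hJ : J = J') (h : I ≤ J.comap f)
    (h' : I' ≤ J'.comap f) :
    (Ideal.quotientMap J f h).Flat ↔ (Ideal.quotientMap J' f h').Flat := by
  subst hI hJ
  rfl

section Model

variable {A' A B' B C' C : Type u} [CommRing A'] [CommRing A] [CommRing B'] [CommRing B]
  [CommRing C'] [CommRing C] [Algebra A' A]
  [Algebra A' B'] [Algebra A B] [Algebra B' B] [Algebra A' B] [IsScalarTower A' B' B]
  [IsScalarTower A' A B] [Algebra.IsPushout A' A B' B]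
  [Algebra A' C'] [Algebra A C] [Algebra C' C] [Algebra A' C] [IsScalarTower A' C' C]
  [IsScalarTower A' A C] [Algebra.IsPushout A' A C' C]
  [Algebra B' C'] [Algebra B C] [Algebra B' C] [IsScalarTower B' C' C] [IsScalarTower B' B C]
  [IsScalarTower A' B' C'] [IsScalarTower A B C]
  {M' M : Type u} [AddCommGroup M'] [Module C' M'] [AddCommGroup M] [Module C M] [Module C' M]
  [IsScalarTower C' C M]

set_option maxHeartbeats 1600000 in
-- **Fibrewise flatness descends to a model.**
theorem fibreFlat_model (φ : M' →ₗ[C'] M) (hφ : IsBaseChange C φ)
    (p : Ideal A) [p.IsPrime] (q : Ideal B) [q.IsPrime] [q.LiesOver p]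
    (P : Ideal C) [P.IsPrime] [P.LiesOver q] [P.LiesOver p]
    (q' : Ideal B') [q'.IsPrime] [q.LiesOver q'] (P' : Ideal C') [P'.IsPrime] [P.LiesOver P']
    [P'.LiesOver q'] [P.LiesOver q']
    (h : FibreFlat p q P M) : FibreFlat (p.comap (algebraMap A' A)) q' P' M' := by
  unfold FibreFlat at h ⊢
  -- algebra structures on the four local rings
  letI aS₁S := Localization.AtPrime.algebraOfLiesOver q' q
  letI aS₁T₁ := Localization.AtPrime.algebraOfLiesOver q' P'
  letI aST := Localization.AtPrime.algebraOfLiesOver q P
  letI aT₁T := Localization.AtPrime.algebraOfLiesOver P' P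
  letI aS₁T := Localization.AtPrime.algebraOfLiesOver q' P
  -- module structures
  letI mSN : Module (Localization.AtPrime q) (LocalizedModule P.primeCompl M) :=
    Module.compHom _ (algebraMap (Localization.AtPrime q) (Localization.AtPrime P))
  letI mS₁N₁ : Module (Localization.AtPrime q') (LocalizedModule P'.primeCompl M') :=
    Module.compHom _ (algebraMap (Localization.AtPrime q') (Localization.AtPrime P'))
  letI mT₁N : Module (Localization.AtPrime P') (LocalizedModule P.primeCompl M) :=
    Module.compHom _ (algebraMap (Localization.AtPrime P') (Localization.AtPrime P))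
  haveI : IsScalarTower (Localization.AtPrime q) (Localization.AtPrime P)
      (LocalizedModule P.primeCompl M) := IsScalarTower.of_algebraMap_smul (fun _ _ => rfl)
  haveI : IsScalarTower (Localization.AtPrime q') (Localization.AtPrime P')
      (LocalizedModule P'.primeCompl M') := IsScalarTower.of_algebraMap_smul (fun _ _ => rfl)
  obtain ⟨t1, ψ, hψ⟩ := exists_localized_isBaseChange hφ P' P
  haveI : IsLocalHom (algebraMap (Localization.AtPrime P') (Localization.AtPrime P)) :=
    Localization.isLocalHom_localRingHom P' P (algebraMap C' C) Ideal.LiesOver.over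
  -- the ideals
  have hq' : q' = q.comap (algebraMap B' B) := Ideal.LiesOver.over
  have hP' : P' = P.comap (algebraMap C' C) := Ideal.LiesOver.over
  have hS := flat_quotientMap_localRingHom (A' := A') p q q' hq'
  have hT := flat_quotientMap_localRingHom (A' := A') p P P' hP'
  have hJT : (p.map (algebraMap A (Localization.AtPrime q))).map
      (algebraMap (Localization.AtPrime q) (Localization.AtPrime P)) =
      p.map (algebraMap A (Localization.AtPrime P)) := by
    rw [Ideal.map_map, ← IsScalarTower.algebraMap_eq]
  have hJ₁T₁ : ((p.comap (algebraMap A' A)).map (algebraMap A' (Localization.AtPrime q'))).map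
      (algebraMap (Localization.AtPrime q') (Localization.AtPrime P')) =
      (p.comap (algebraMap A' A)).map (algebraMap A' (Localization.AtPrime P')) := by
    rw [Ideal.map_map, ← IsScalarTower.algebraMap_eq]
  have hne : (p.map (algebraMap A (Localization.AtPrime q))).map
      (algebraMap (Localization.AtPrime q) (Localization.AtPrime P)) ≠ ⊤ := by
    rw [hJT]
    intro htop
    have h1 : p.map (algebraMap A (Localization.AtPrime P)) ≤
        IsLocalRing.maximalIdeal (Localization.AtPrime P) := by
      rw [Ideal.map_le_iff_le_comap]
      intro a ha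
      rw [Ideal.mem_comap, IsScalarTower.algebraMap_apply A C (Localization.AtPrime P),
        ← Localization.AtPrime.map_eq_maximalIdeal]
      apply Ideal.mem_map_of_mem
      have : p = P.under A := Ideal.LiesOver.over
      rw [this] at ha
      exact ha
    rw [htop] at h1
    exact (IsLocalRing.maximalIdeal.isMaximal _).ne_top (top_le_iff.mp h1)
  have hle' : ((p.comap (algebraMap A' A)).map (algebraMap A' (Localization.AtPrime q'))).map
      (algebraMap (Localization.AtPrime q') (Localization.AtPrime P')) ≤
      ((p.map (algebraMap A (Localization.AtPrime q))).map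
        (algebraMap (Localization.AtPrime q) (Localization.AtPrime P))).comap
        (algebraMap (Localization.AtPrime P') (Localization.AtPrime P)) := by
    rw [hJT, hJ₁T₁]
    exact map_le_comap_localRingHom (A' := A') p P P' hP'
  refine flat_fibre_descent (S₁ := Localization.AtPrime q') (S := Localization.AtPrime q)
    (T₁ := Localization.AtPrime P') (T := Localization.AtPrime P)
    ((p.comap (algebraMap A' A)).map (algebraMap A' (Localization.AtPrime q')))
    (p.map (algebraMap A (Localization.AtPrime q)))
    (map_le_comap_localRingHom (A' := A') p q q' hq') hne hS hle' ?_ ψ hψ h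
  exact (flat_quotientMap_congr _ hJ₁T₁ hJT hle' (map_le_comap_localRingHom (A' := A') p P P' hP')).mpr hT

end Model

end Groth.Agent.Lib.Helper3.FibModC
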