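import Mathlib
import Groth.Agent.Lib.Helper3FibModC
import Groth.Agent.Lib.Helper3FibCritD

set_option autoImplicit false
set_option linter.style.haveILetI false

universe u

namespace Groth.Agent.Lib.Helper3.FibModD

open TensorProduct MvPolynomial Groth.Agent.Lib.Helper3.FlatLoc Groth.Agent.Lib.Helper3.FlatDesc
  Groth.Agent.Lib.Helper3.FlatOpen Groth.Agent.Lib.Helper3.FibCritA
  Groth.Agent.Lib.Helper3.FibCritC Groth.Agent.Lib.Helper3.FlatModelMod
  Groth.Agent.Lib.Helper3.FibCritD Groth.Agent.Lib.Helper3.FibModC
  Groth.Agent.Lib.Helper14.FlatAbove Groth.Agent.Lib.Helper2.FibreCrit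

theorem flat_quot_congr {S N : Type*} [CommRing S] [AddCommGroup N] [Module S N] {J J' : Ideal S}
    (h : J = J') : Module.Flat (S ⧸ J) (N ⧸ J • (⊤ : Submodule S N)) ↔
      Module.Flat (S ⧸ J') (N ⧸ J' • (⊤ : Submodule S N)) := by
  subst h
  rfl

section Noeth

variable {A B C M : Type u} [CommRing A] [CommRing B] [CommRing C]
  [Algebra A B] [Algebra B C] [Algebra A C] [IsScalarTower A B C]
  [AddCommGroup M] [Module C M] [Module B M] [Module A M] [IsScalarTower B C M]
  [IsScalarTower A C M]

set_option maxHeartbeats 1600000 in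
-- **Fibre criterion for modules, Noetherian case**, in terms of localizations at primes.
theorem flat_of_fibreFlat_noeth [IsNoetherianRing A] [IsNoetherianRing B] [IsNoetherianRing C]
    [Module.Finite C M]
    (p : Ideal A) [p.IsPrime] (q : Ideal B) [q.IsPrime] [q.LiesOver p]
    (P : Ideal C) [P.IsPrime] [P.LiesOver q] [P.LiesOver p]
    (h1 : Module.Flat A (LocalizedModule P.primeCompl M)) (h2 : FibreFlat p q P M) :
    Module.Flat B (LocalizedModule P.primeCompl M) := by
  rcases subsingleton_or_nontrivial (LocalizedModule P.primeCompl M) with hs | hnt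
  · infer_instance
  unfold FibreFlat at h2
  letI := Localization.AtPrime.algebraOfLiesOver p q
  letI := Localization.AtPrime.algebraOfLiesOver q P
  letI := Localization.AtPrime.algebraOfLiesOver p P
  haveI : IsLocalHom (algebraMap (Localization.AtPrime p) (Localization.AtPrime q)) := by
    rw [RingHom.algebraMap_toAlgebra]
    exact Localization.isLocalHom_localRingHom p q (algebraMap A B) Ideal.LiesOver.over
  haveI : IsLocalHom (algebraMap (Localization.AtPrime q) (Localization.AtPrime P)) := by
    rw [RingHom.algebraMap_toAlgebra]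
    exact Localization.isLocalHom_localRingHom q P (algebraMap B C) Ideal.LiesOver.over
  haveI : IsScalarTower (Localization.AtPrime p) (Localization.AtPrime q) (Localization.AtPrime P) :=
    inferInstance
  haveI : IsNoetherianRing (Localization.AtPrime p) :=
    IsLocalization.isNoetherianRing p.primeCompl _ inferInstance
  haveI : IsNoetherianRing (Localization.AtPrime q) :=
    IsLocalization.isNoetherianRing q.primeCompl _ inferInstance
  haveI : IsNoetherianRing (Localization.AtPrime P) :=
    IsLocalization.isNoetherianRing P.primeCompl _ inferInstance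
  letI mSN : Module (Localization.AtPrime q) (LocalizedModule P.primeCompl M) :=
    Module.compHom _ (algebraMap (Localization.AtPrime q) (Localization.AtPrime P))
  letI mRN : Module (Localization.AtPrime p) (LocalizedModule P.primeCompl M) :=
    Module.compHom _ (algebraMap (Localization.AtPrime p) (Localization.AtPrime P))
  haveI : IsScalarTower (Localization.AtPrime q) (Localization.AtPrime P)
      (LocalizedModule P.primeCompl M) := IsScalarTower.of_algebraMap_smul (fun _ _ => rfl)
  haveI : IsScalarTower (Localization.AtPrime p) (Localization.AtPrime q)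
      (LocalizedModule P.primeCompl M) := by
    refine IsScalarTower.of_algebraMap_smul (fun r n => ?_)
    change algebraMap (Localization.AtPrime q) (Localization.AtPrime P)
      (algebraMap (Localization.AtPrime p) (Localization.AtPrime q) r) • n =
      algebraMap (Localization.AtPrime p) (Localization.AtPrime P) r • n
    rw [← IsScalarTower.algebraMap_apply]
  haveI : Module.Finite (Localization.AtPrime P) (LocalizedModule P.primeCompl M) :=
    Module.Finite.of_isLocalizedModule P.primeCompl (LocalizedModule.mkLinearMap P.primeCompl M)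
  -- `A`-structure vs `A_p`-structure
  haveI : IsScalarTower A (Localization.AtPrime p) (LocalizedModule P.primeCompl M) := by
    refine IsScalarTower.of_algebraMap_smul (fun a n => ?_)
    change algebraMap (Localization.AtPrime p) (Localization.AtPrime P)
      (algebraMap A (Localization.AtPrime p) a) • n = a • n
    rw [← IsScalarTower.algebraMap_apply, algebraMap_smul]
  haveI : Module.Flat (Localization.AtPrime p) (LocalizedModule P.primeCompl M) :=
    (Module.flat_iff_of_isLocalization (Localization.AtPrime p) p.primeCompl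
      (LocalizedModule P.primeCompl M)).mpr h1
  have hIJ : (IsLocalRing.maximalIdeal (Localization.AtPrime p)).map
      (algebraMap (Localization.AtPrime p) (Localization.AtPrime q)) =
      p.map (algebraMap A (Localization.AtPrime q)) := by
    rw [← Localization.AtPrime.map_eq_maximalIdeal, Ideal.map_map, ← IsScalarTower.algebraMap_eq]
  rw [flat_quot_congr hIJ.symm] at h2
  have hres := (fibre_criterion_quot (A := Localization.AtPrime p) (B := Localization.AtPrime q)
    (C := Localization.AtPrime P) (M := LocalizedModule P.primeCompl M)).mp ⟨inferInstance, h2⟩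
  haveI := hres.2
  haveI : IsScalarTower B (Localization.AtPrime q) (LocalizedModule P.primeCompl M) := by
    refine IsScalarTower.of_algebraMap_smul (fun b n => ?_)
    change algebraMap (Localization.AtPrime q) (Localization.AtPrime P)
      (algebraMap B (Localization.AtPrime q) b) • n = b • n
    rw [← IsScalarTower.algebraMap_apply, algebraMap_smul]
  exact Module.Flat.trans B (Localization.AtPrime q) (LocalizedModule P.primeCompl M)

end Noeth

section Models

attribute [local instance] MvPolynomial.algebraMvPolynomial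

-- Variant of `exists_model_equiv'` for an arbitrary finite type of variables.
theorem exists_model_equiv_gen {R : Type u} [CommRing R] {σ : Type} [Finite σ] {r : ℕ} {M : Type u}
    [AddCommGroup M] [Module (MvPolynomial σ R) M]
    [Module.FinitePresentation (MvPolynomial σ R) M]
    (rel : Fin r → MvPolynomial σ R) :
    ∃ (k m : ℕ) (Λ : Subalgebra ℤ R) (_ : Λ.FG) (w : Fin m → Fin k → MvPolynomial σ Λ)
      (relΛ : Fin r → MvPolynomial σ Λ),
      (∀ j, MvPolynomial.map (algebraMap Λ R) (relΛ j) = rel j) ∧
      Nonempty (((Fin k → MvPolynomial σ R) ⧸ KT w (MvPolynomial σ R)) ≃ₗ[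
        MvPolynomial σ R] M) := by
  classical
  obtain ⟨k, m, π, g, hπ, hex⟩ :=
    Module.FinitePresentation.exists_fin' (MvPolynomial σ R) M
  let v : Fin m → Fin k → MvPolynomial σ R := fun j => g (Pi.single j 1)
  let cs : Finset R := (Finset.univ.biUnion fun j => Finset.univ.biUnion fun i => (v j i).coeffs) ∪
    (Finset.univ.biUnion fun j => (rel j).coeffs)
  let Λ : Subalgebra ℤ R := Algebra.adjoin ℤ (cs : Set R)
  have hw : ∀ j i, ∃ f : MvPolynomial σ Λ,
      MvPolynomial.map (algebraMap Λ R) f = v j i := by
    intro j i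
    apply MvPolynomial.mem_range_map_iff_coeffs_subset.mpr
    intro c hc
    refine ⟨⟨c, Algebra.subset_adjoin ?_⟩, rfl⟩
    exact Finset.mem_coe.2 (Finset.mem_union_left _ (Finset.mem_biUnion.mpr ⟨j, Finset.mem_univ j,
      Finset.mem_biUnion.mpr ⟨i, Finset.mem_univ i, hc⟩⟩))
  have hrel : ∀ j, ∃ f : MvPolynomial σ Λ,
      MvPolynomial.map (algebraMap Λ R) f = rel j := by
    intro j
    apply MvPolynomial.mem_range_map_iff_coeffs_subset.mpr
    intro c hc
    refine ⟨⟨c, Algebra.subset_adjoin ?_⟩, rfl⟩
    exact Finset.mem_coe.2 (Finset.mem_union_right _ (Finset.mem_biUnion.mpr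
      ⟨j, Finset.mem_univ j, hc⟩))
  choose w hw using hw
  choose relΛ hrelΛ using hrel
  have hwT : wT w (MvPolynomial σ R) = v := by
    ext j i : 2
    exact hw j i
  have hg : WT w (MvPolynomial σ R) = g := by
    apply LinearMap.ext
    intro a
    rw [WT_apply, hwT, LinearMap.pi_apply_eq_sum_univ g a]
    refine Finset.sum_congr rfl fun j _ => ?_
    have hsingle : (Pi.single j 1 : Fin m → MvPolynomial σ R) =
        fun j' => if j = j' then 1 else 0 := by
      funext j'
      simp [Pi.single_apply, eq_comm]
    change a j • g (Pi.single j 1) = _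
    rw [hsingle]
  have hK : KT w (MvPolynomial σ R) = LinearMap.ker π := by
    rw [KT, hg]
    exact (LinearMap.exact_iff.mp hex).symm
  exact ⟨k, m, Λ, Subalgebra.fg_adjoin_finset cs, w, relΛ, hrelΛ,
    ⟨(Submodule.quotEquivOfEq _ _ hK) ≪≫ₗ (LinearMap.quotKerEquivOfSurjective π hπ)⟩⟩

section Assemble

variable {Λ A R S : Type u} [CommRing Λ] [CommRing A] [CommRing R] [CommRing S]
  [Algebra Λ A] [Algebra Λ R] [Algebra A R] [IsScalarTower Λ A R] [Algebra R S] [Algebra A S]
  [IsScalarTower A R S]
  {σ : Type} [Finite σ] {ρ : Type} (P : Algebra.Presentation R S σ ρ) [P.HasCoeffs A]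
  [Algebra (P.ModelOfHasCoeffs A) S] [IsScalarTower A (P.ModelOfHasCoeffs A) S]
  {ι κ : Type} [Fintype ι] [DecidableEq ι] [Fintype κ] (w : κ → ι → MvPolynomial σ Λ)
  (M : Type u) [AddCommGroup M] [Module S M] [Module R M] [IsScalarTower R S M]
  [Module (P.ModelOfHasCoeffs A) M] [IsScalarTower (P.ModelOfHasCoeffs A) S M]

set_option maxHeartbeats 1600000 in
-- a module model over the model of a presentation
theorem exists_module_model
    (hcompat : ∀ y : MvPolynomial σ A,
      algebraMap (P.ModelOfHasCoeffs A) S (Ideal.Quotient.mk _ y) = MvPolynomial.aeval P.val y)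
    (htors : ∀ (j : ρ) (x : ι → MvPolynomial σ A),
      P.relationOfHasCoeffs A j • x ∈ KT w (MvPolynomial σ A))
    (e : ((ι → MvPolynomial σ R) ⧸ KT w (MvPolynomial σ R)) ≃ₗ[R] M)
    (he : ∀ (p : MvPolynomial σ R) x, e (p • x) = (MvPolynomial.aeval P.val p : S) • e x) :
    ∃ (_ : Module (P.ModelOfHasCoeffs A) ((ι → MvPolynomial σ A) ⧸ KT w (MvPolynomial σ A)))
      (_ : IsScalarTower (MvPolynomial σ A) (P.ModelOfHasCoeffs A)
        ((ι → MvPolynomial σ A) ⧸ KT w (MvPolynomial σ A)))
      (_ : IsScalarTower A (P.ModelOfHasCoeffs A)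
        ((ι → MvPolynomial σ A) ⧸ KT w (MvPolynomial σ A)))
      (f : ((ι → MvPolynomial σ A) ⧸ KT w (MvPolynomial σ A)) →ₗ[P.ModelOfHasCoeffs A] M),
      IsBaseChange S f := by
  classical
  let PA := MvPolynomial σ A
  let PR := MvPolynomial σ R
  let I : Ideal PA := Ideal.span (Set.range (P.relationOfHasCoeffs A))
  let M₀ := (ι → PA) ⧸ KT w PA
  have hM : Module.IsTorsionBySet PA M₀ (I : Set PA) := by
    rw [← Module.isTorsionBySet_iff_is_torsion_by_span]
    rintro x ⟨_, ⟨j, rfl⟩⟩
    obtain ⟨x, rfl⟩ := Submodule.Quotient.mk_surjective _ x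
    change P.relationOfHasCoeffs A j • Submodule.Quotient.mk x = 0
    rw [← Submodule.Quotient.mk_smul, Submodule.Quotient.mk_eq_zero]
    exact htors j x
  letI modS₀M₀ : Module (P.ModelOfHasCoeffs A) M₀ := hM.module
  have hmk_smul : ∀ (p : PA) (x : M₀), (Ideal.Quotient.mk I p : P.ModelOfHasCoeffs A) • x = p • x :=
    fun p x => rfl
  haveI towPA : IsScalarTower PA (P.ModelOfHasCoeffs A) M₀ := hM.isScalarTower
  haveI towA : IsScalarTower A (P.ModelOfHasCoeffs A) M₀ := hM.isScalarTower
  haveI hpush : Algebra.IsPushout A R (P.ModelOfHasCoeffs A) S :=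
    isPushout_modelOfHasCoeffs P A hcompat
  letI modAM : Module A M := Module.compHom M (algebraMap A R)
  haveI towARM : IsScalarTower A R M := IsScalarTower.of_algebraMap_smul (fun _ _ => rfl)
  haveI towAS₀M : IsScalarTower A (P.ModelOfHasCoeffs A) M :=
    IsScalarTower.of_algebraMap_smul (R := A) (A := P.ModelOfHasCoeffs A) (M := M) (fun a m => by
      change _ = algebraMap A R a • m
      rw [← algebraMap_smul S (algebraMap A (P.ModelOfHasCoeffs A) a) m,
        ← IsScalarTower.algebraMap_apply A (P.ModelOfHasCoeffs A) S,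
        IsScalarTower.algebraMap_apply A R S, algebraMap_smul])
  -- the comparison map
  haveI := isScalarTower_mvPolynomial (σ := σ) Λ A R
  have hb : IsBaseChange R ((Mmap w PA PR).restrictScalars A) :=
    isBaseChange_restrictScalars_of_isPushout _ (isBaseChange_Mmap w _ _)
  let f₀ : M₀ →ₗ[A] M := (e.restrictScalars A).toLinearMap ∘ₗ (Mmap w PA PR).restrictScalars A
  have hf₀ : ∀ (p : PA) (x : M₀), f₀ (p • x) = (MvPolynomial.aeval P.val p : S) • f₀ x := by
    intro p x
    change e (Mmap w PA PR (p • x)) = _ • e (Mmap w PA PR x)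
    rw [map_smul, ← algebraMap_smul PR p (Mmap w PA PR x), he, MvPolynomial.algebraMap_def,
      MvPolynomial.aeval_map_algebraMap]
  let f : M₀ →ₗ[P.ModelOfHasCoeffs A] M :=
    { toFun := f₀
      map_add' := f₀.map_add
      map_smul' := by
        intro s₀ x
        obtain ⟨p, rfl⟩ := Ideal.Quotient.mk_surjective s₀
        rw [hmk_smul, hf₀, RingHom.id_apply, ← algebraMap_smul S (Ideal.Quotient.mk _ p) (f₀ x),
          hcompat] }
  have hfb : IsBaseChange R (f.restrictScalars A) := by
    refine IsBaseChange.of_equiv (hb.equiv ≪≫ₗ e) fun x => ?_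
    rw [LinearEquiv.trans_apply, IsBaseChange.equiv_tmul, one_smul]
    rfl
  have hbc : IsBaseChange S f := isBaseChange_of_isPushout f hfb
  exact ⟨modS₀M₀, towPA, towA, f, hbc⟩

end Assemble

end Models

end Groth.Agent.Lib.Helper3.FibModD
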