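import Mathlib
import Groth.Agent.Lib.Helper3FibModD

set_option autoImplicit false
set_option linter.style.haveILetI false

universe u

namespace Groth.Agent.Lib.Helper3.FibModE

open TensorProduct Groth.Agent.Lib.Helper3.FlatLoc Groth.Agent.Lib.Helper3.FibModC
  Groth.Agent.Lib.Helper3.FibModD

section Core

variable {A' A B' B C' C : Type u} [CommRing A'] [CommRing A] [CommRing B'] [CommRing B]
  [CommRing C'] [CommRing C] [Algebra A' A]
  [Algebra A' B'] [Algebra A B] [Algebra B' B] [Algebra A' B] [IsScalarTower A' B' B]
  [IsScalarTower A' A B] [Algebra.IsPushout A' A B' B]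
  [Algebra A' C'] [Algebra A C] [Algebra C' C] [Algebra A' C] [IsScalarTower A' C' C]
  [IsScalarTower A' A C] [Algebra.IsPushout A' A C' C]
  [Algebra B' C'] [Algebra B C] [Algebra B' C] [IsScalarTower B' C' C] [IsScalarTower B' B C]
  [IsScalarTower A' B' C'] [IsScalarTower A B C]
  {M' M : Type u} [AddCommGroup M'] [Module C' M'] [Module A' M'] [IsScalarTower A' C' M']
  [AddCommGroup M] [Module C M] [Module B M] [IsScalarTower B C M]
  [Module C' M] [IsScalarTower C' C M]

set_option maxHeartbeats 1600000 in
-- **Fibre criterion for modules, given a Noetherian model.**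
theorem flat_of_fibreFlat_of_model [IsNoetherianRing A'] [IsNoetherianRing B'] [IsNoetherianRing C']
    [Module.Finite C' M'] (f : M' →ₗ[C'] M) (hf : IsBaseChange C f)
    (p : Ideal A) [p.IsPrime] (q : Ideal B) [q.IsPrime] [q.LiesOver p]
    (P : Ideal C) [P.IsPrime] [P.LiesOver q] [P.LiesOver p]
    (h1' : Module.Flat A' (LocalizedModule (P.comap (algebraMap C' C)).primeCompl M'))
    (h2 : FibreFlat p q P M) :
    Module.Flat B (LocalizedModule P.primeCompl M) := by
  let P' : Ideal C' := P.comap (algebraMap C' C)
  haveI : P'.IsPrime := Ideal.comap_isPrime _ _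
  let q' : Ideal B' := q.comap (algebraMap B' B)
  haveI : q'.IsPrime := Ideal.comap_isPrime _ _
  let p' : Ideal A' := p.comap (algebraMap A' A)
  haveI : p'.IsPrime := Ideal.comap_isPrime _ _
  haveI : q.LiesOver q' := ⟨rfl⟩
  haveI : P.LiesOver P' := ⟨rfl⟩
  have hqP : q = P.comap (algebraMap B C) := Ideal.LiesOver.over
  have hpq : p = q.comap (algebraMap A B) := Ideal.LiesOver.over
  have hpP : p = P.comap (algebraMap A C) := Ideal.LiesOver.over
  haveI : P.LiesOver q' := ⟨by
    ext x
    simp only [q', Ideal.under, Ideal.mem_comap]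
    rw [hqP, Ideal.mem_comap, ← IsScalarTower.algebraMap_apply B' B C]⟩
  haveI : P'.LiesOver q' := ⟨by
    ext x
    simp only [P', q', Ideal.under, Ideal.mem_comap]
    rw [hqP, Ideal.mem_comap, ← IsScalarTower.algebraMap_apply B' C' C,
      ← IsScalarTower.algebraMap_apply B' B C]⟩
  haveI : q'.LiesOver p' := ⟨by
    ext x
    simp only [p', q', Ideal.under, Ideal.mem_comap]
    rw [hpq, Ideal.mem_comap, ← IsScalarTower.algebraMap_apply A' B' B,
      IsScalarTower.algebraMap_apply A' A B]⟩
  haveI : P'.LiesOver p' := ⟨by
    ext x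
    simp only [p', P', Ideal.under, Ideal.mem_comap]
    rw [hpP, Ideal.mem_comap, ← IsScalarTower.algebraMap_apply A' C' C,
      IsScalarTower.algebraMap_apply A' A C]⟩
  -- fibre flatness of the model
  have h2' : FibreFlat p' q' P' M' := fibreFlat_model (A' := A') f hf p q P q' P' h2
  -- the Noetherian criterion
  letI modB'M' : Module B' M' := Module.compHom M' (algebraMap B' C')
  haveI : IsScalarTower B' C' M' := IsScalarTower.of_algebraMap_smul (fun _ _ => rfl)
  have h3' : Module.Flat B' (LocalizedModule P'.primeCompl M') :=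
    flat_of_fibreFlat_noeth p' q' P' h1' h2'
  -- base change back to `A`
  letI modB'M : Module B' M := Module.compHom M (algebraMap B' C)
  haveI : IsScalarTower B' B M := IsScalarTower.of_algebraMap_smul (fun b x => by
    change algebraMap B' B b • x = algebraMap B' C b • x
    rw [IsScalarTower.algebraMap_apply B' B C, algebraMap_smul C (algebraMap B' B b) x])
  haveI : IsScalarTower B' C' M := IsScalarTower.of_algebraMap_smul (fun b x => by
    change algebraMap B' C' b • x = algebraMap B' C b • x
    rw [← algebraMap_smul C (algebraMap B' C' b) x, ← IsScalarTower.algebraMap_apply B' C' C])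
  haveI : IsScalarTower A' B C := IsScalarTower.of_algebraMap_eq (fun x => by
    rw [IsScalarTower.algebraMap_apply A' A C, IsScalarTower.algebraMap_apply A' A B,
      ← IsScalarTower.algebraMap_apply A B C])
  haveI poB' : Algebra.IsPushout A' B' A B := Algebra.IsPushout.symm inferInstance
  have poC' : Algebra.IsPushout A' C' A C := Algebra.IsPushout.symm inferInstance
  have hPO : Algebra.IsPushout B' C' B C :=
    (Algebra.IsPushout.comp_iff (R := A') (S := B') (R' := A) (S' := B) (T := C')
      (T' := C)).mp poC'
  haveI hPO' : Algebra.IsPushout B' B C' C := hPO.symm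
  have hfB : IsBaseChange B (f.restrictScalars B') :=
    isBaseChange_restrictScalars_of_isPushout (A := B') (R := B) (PA := C') (PR := C) f hf
  exact flat_localizedModule_of_isBaseChange (A := B') (R := B) (SA := C') (SR := C)
    (MA := M') (MR := M) f hfB P'.primeCompl P.primeCompl (fun s hs => hs) h3'

end Core

end Groth.Agent.Lib.Helper3.FibModE
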