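import Mathlib
import Groth.Agent.Lib.Helper3FibModE

set_option autoImplicit false
set_option linter.style.haveILetI false

universe u

namespace Groth.Agent.Lib.Helper3.FibModF

open TensorProduct MvPolynomial Groth.Agent.Lib.Helper3.FlatLoc Groth.Agent.Lib.Helper3.FlatDesc
  Groth.Agent.Lib.Helper3.FlatOpen Groth.Agent.Lib.Helper3.FibCritA
  Groth.Agent.Lib.Helper3.FibCritC Groth.Agent.Lib.Helper3.FlatModelMod
  Groth.Agent.Lib.Helper3.FibCritD Groth.Agent.Lib.Helper3.FibModC
  Groth.Agent.Lib.Helper3.FibModD Groth.Agent.Lib.Helper3.FibModE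

section FP

attribute [local instance] MvPolynomial.algebraMvPolynomial

variable {A B C M : Type u} [CommRing A] [CommRing B] [CommRing C] [Algebra A B] [Algebra B C]
  [Algebra A C] [IsScalarTower A B C]
  [AddCommGroup M] [Module C M] [Module B M] [Module A M] [IsScalarTower B C M]
  [IsScalarTower A C M]

set_option maxSynthPendingDepth 3 in
set_option maxHeartbeats 6400000 in
-- **Fibre criterion for modules**, for given presentations of `B` and `C`.
theorem flat_of_fibreFlat_of_presentations {n m k r : ℕ}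
    (PB : Algebra.Presentation A B (Fin n) (Fin k))
    (PC : Algebra.Presentation A C (Fin n ⊕ Fin m) (Fin r))
    (hval : ∀ i, PC.val (Sum.inl i) = algebraMap B C (PB.val i))
    [Module.FinitePresentation C M]
    (p : Ideal A) [p.IsPrime] (q : Ideal B) [q.IsPrime] [q.LiesOver p]
    (P : Ideal C) [P.IsPrime] [P.LiesOver q] [P.LiesOver p]
    (h1 : Module.Flat A (LocalizedModule P.primeCompl M)) (h2 : FibreFlat p q P M) :
    Module.Flat B (LocalizedModule P.primeCompl M) := by
  classical
  -- Step 1: the relations of `B` are combinations of the relations of `C`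
  have hrel : ∀ j : Fin k, ∃ a : Fin r → MvPolynomial (Fin n ⊕ Fin m) A,
      ∑ l, a l * PC.relation l = rename Sum.inl (PB.relation j) := by
    intro j
    apply (Ideal.mem_span_range_iff_exists_fun (R := MvPolynomial (Fin n ⊕ Fin m) A)).mp
    rw [PC.span_range_relation_eq_ker, PC.ker_eq_ker_aeval_val, RingHom.mem_ker]
    rw [aeval_rename]
    have h2 : (PC.val ∘ Sum.inl) = fun i => algebraMap B C (PB.val i) := funext hval
    rw [h2]
    have h3 : aeval (fun i => algebraMap B C (PB.val i)) (PB.relation j) =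
        algebraMap B C (aeval PB.val (PB.relation j)) := by
      rw [← MvPolynomial.aeval_algebraMap_apply]
      rfl
    rw [h3, PB.aeval_val_relation, map_zero]
  choose a ha using hrel
  -- Step 2: `M` as a module over the polynomial ring
  letI algPC : Algebra (MvPolynomial (Fin n ⊕ Fin m) A) C := inferInstanceAs (Algebra PC.Ring C)
  haveI : IsScalarTower A (MvPolynomial (Fin n ⊕ Fin m) A) C :=
    inferInstanceAs (IsScalarTower A PC.Ring C)
  have hsurj : Function.Surjective (algebraMap (MvPolynomial (Fin n ⊕ Fin m) A) C) :=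
    PC.algebraMap_surjective
  have halg : ∀ f : MvPolynomial (Fin n ⊕ Fin m) A,
      algebraMap (MvPolynomial (Fin n ⊕ Fin m) A) C f = aeval PC.val f :=
    fun f => PC.algebraMap_apply f
  letI modPM : Module (MvPolynomial (Fin n ⊕ Fin m) A) M :=
    Module.compHom M (algebraMap (MvPolynomial (Fin n ⊕ Fin m) A) C)
  haveI : IsScalarTower (MvPolynomial (Fin n ⊕ Fin m) A) C M :=
    IsScalarTower.of_algebraMap_smul (fun _ _ => rfl)
  haveI : IsScalarTower A (MvPolynomial (Fin n ⊕ Fin m) A) M :=
    IsScalarTower.of_algebraMap_smul (fun a x => by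
      change algebraMap (MvPolynomial (Fin n ⊕ Fin m) A) C
        (algebraMap A (MvPolynomial (Fin n ⊕ Fin m) A) a) • x = a • x
      rw [← IsScalarTower.algebraMap_apply, algebraMap_smul])
  haveI : Module.FinitePresentation (MvPolynomial (Fin n ⊕ Fin m) A) C := by
    refine Module.finitePresentation_of_surjective
      (Algebra.linearMap (MvPolynomial (Fin n ⊕ Fin m) A) C) hsurj ?_
    have : LinearMap.ker (Algebra.linearMap (MvPolynomial (Fin n ⊕ Fin m) A) C) =
        (Ideal.span (Set.range PC.relation)).restrictScalars _ := by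
      rw [PC.span_range_relation_eq_ker]
      ext x
      rfl
    rw [this]
    exact ⟨Finset.univ.image PC.relation, by simp⟩
  haveI : Module.FinitePresentation (MvPolynomial (Fin n ⊕ Fin m) A) M :=
    Module.FinitePresentation.trans (MvPolynomial (Fin n ⊕ Fin m) A) M C
  obtain ⟨k₀, m₀, Λ, hΛ, w, relΛ, hrelΛ, ⟨e⟩⟩ := exists_model_equiv_gen (M := M) PC.relation
  haveI : Algebra.FiniteType ℤ Λ := (Subalgebra.fg_iff_finiteType Λ).1 hΛ
  haveI : IsNoetherianRing Λ := Algebra.FiniteType.isNoetherianRing ℤ Λ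
  -- the relations act by zero on the model
  have hzero : ∀ (j : Fin r) (x : Fin k₀ → MvPolynomial (Fin n ⊕ Fin m) A),
      algebraMap (MvPolynomial (Fin n ⊕ Fin m) Λ) (MvPolynomial (Fin n ⊕ Fin m) A) (relΛ j) • x ∈
        KT w (MvPolynomial (Fin n ⊕ Fin m) A) := by
    intro j x
    rw [← Submodule.Quotient.mk_eq_zero, Submodule.Quotient.mk_smul]
    apply e.injective
    rw [map_smul, map_zero, MvPolynomial.algebraMap_def, hrelΛ]
    change algebraMap (MvPolynomial (Fin n ⊕ Fin m) A) C (PC.relation j) •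
      e (Submodule.Quotient.mk x) = (0 : M)
    rw [halg, PC.aeval_val_relation j, zero_smul]
  have hKT : KT (wAug w relΛ) (MvPolynomial (Fin n ⊕ Fin m) A) =
      KT w (MvPolynomial (Fin n ⊕ Fin m) A) := KT_wAug_eq w relΛ _ hzero
  let e₂ : ((Fin k₀ → MvPolynomial (Fin n ⊕ Fin m) A) ⧸
      KT (wAug w relΛ) (MvPolynomial (Fin n ⊕ Fin m) A)) ≃ₗ[MvPolynomial (Fin n ⊕ Fin m) A] M :=
    (Submodule.quotEquivOfEq _ _ hKT) ≪≫ₗ e
  -- Step 3: flatness at the prime over the polynomial ring
  let qR : Ideal (MvPolynomial (Fin n ⊕ Fin m) A) :=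
    P.comap (algebraMap (MvPolynomial (Fin n ⊕ Fin m) A) C)
  haveI : qR.IsPrime := Ideal.comap_isPrime _ _
  have hflatq : Module.Flat A (LocalizedModule qR.primeCompl
      ((Fin k₀ → MvPolynomial (Fin n ⊕ Fin m) A) ⧸
        KT (wAug w relΛ) (MvPolynomial (Fin n ⊕ Fin m) A))) := by
    have h2' : Module.Flat A (LocalizedModule qR.primeCompl M) :=
      (flat_localizedModule_comap_iff (R := A) (P := MvPolynomial (Fin n ⊕ Fin m) A) hsurj P).mpr h1
    exact flat_localizedModule_of_linearEquiv e₂.symm _ h2'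
  let extra : Finset A := (Finset.univ.biUnion fun j => (PB.relation j).coeffs) ∪
    (Finset.univ.biUnion fun j => Finset.univ.biUnion fun l => (a j l).coeffs)
  obtain ⟨A', hA'fg, hextra, hA'flat⟩ := exists_fg_subalgebra_flat (wAug w relΛ) qR hflatq extra
  -- Step 4: instances on `A'`
  haveI : Algebra.FiniteType Λ A' := (Subalgebra.fg_iff_finiteType A').mp hA'fg
  haveI : IsNoetherianRing A' := Algebra.FiniteType.isNoetherianRing Λ A'
  haveI hcΛ : PC.HasCoeffs Λ := by
    refine ⟨?_⟩
    intro c hc
    rw [Algebra.Presentation.coeffs, Set.mem_iUnion] at hc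
    obtain ⟨j, hj⟩ := hc
    have hmem : PC.relation j ∈ Set.range (MvPolynomial.map (algebraMap Λ A)) := ⟨relΛ j, hrelΛ j⟩
    rw [MvPolynomial.mem_range_map_iff_coeffs_subset] at hmem
    exact hmem hj
  haveI hcC : PC.HasCoeffs A' := Algebra.Presentation.HasCoeffs.of_isScalarTower Λ
  have hmemA' : ∀ c ∈ extra, c ∈ A' := fun c hc => hextra hc
  haveI hcB : PB.HasCoeffs A' := ⟨by
    intro c hc
    obtain ⟨j, hj⟩ := Set.mem_iUnion.mp hc
    refine ⟨⟨c, hmemA' c ?_⟩, rfl⟩
    exact Finset.mem_union_left _ (Finset.mem_biUnion.mpr ⟨j, Finset.mem_univ j, hj⟩)⟩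
  have hal : ∀ j l, ∃ f : MvPolynomial (Fin n ⊕ Fin m) A',
      MvPolynomial.map (algebraMap A' A) f = a j l := by
    intro j l
    apply MvPolynomial.mem_range_map_iff_coeffs_subset.mpr
    intro c hc
    refine ⟨⟨c, hmemA' c ?_⟩, rfl⟩
    exact Finset.mem_union_right _ (Finset.mem_biUnion.mpr ⟨j, Finset.mem_univ j,
      Finset.mem_biUnion.mpr ⟨l, Finset.mem_univ l, hc⟩⟩)
  choose a' ha' using hal
  have hinj : Function.Injective (MvPolynomial.map (σ := Fin n ⊕ Fin m) (algebraMap A' A)) :=
    MvPolynomial.map_injective _ Subtype.val_injective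
  have hrel' : ∀ j, ∑ l, a' j l * PC.relationOfHasCoeffs A' l =
      rename Sum.inl (PB.relationOfHasCoeffs A' j) := by
    intro j
    apply hinj
    rw [map_sum, MvPolynomial.map_rename, PB.map_relationOfHasCoeffs, ← ha j]
    refine Finset.sum_congr rfl fun l _ => ?_
    rw [map_mul, ha', PC.map_relationOfHasCoeffs]
  -- Step 5: the models
  let B' := PB.ModelOfHasCoeffs A'
  let C' := PC.ModelOfHasCoeffs A'
  haveI : IsNoetherianRing B' := Algebra.FiniteType.isNoetherianRing A' B'
  haveI : IsNoetherianRing C' := Algebra.FiniteType.isNoetherianRing A' C'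
  let β' : B' →ₐ[A'] C' := Ideal.Quotient.liftₐ _
    ((Ideal.Quotient.mkₐ A' _).comp (rename (R := A') Sum.inl)) (by
      intro g hg
      rw [AlgHom.comp_apply, Ideal.Quotient.mkₐ_eq_mk, Ideal.Quotient.eq_zero_iff_mem]
      induction hg using Submodule.span_induction with
      | mem g hg =>
        obtain ⟨j, rfl⟩ := hg
        rw [← hrel' j]
        exact Ideal.sum_mem _ fun l _ => Ideal.mul_mem_left _ _ (Ideal.subset_span ⟨l, rfl⟩)
      | zero => rw [map_zero]; exact Ideal.zero_mem _
      | add x y _ _ hx hy => rw [map_add]; exact Ideal.add_mem _ hx hy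
      | smul c x _ hx => rw [smul_eq_mul, map_mul]; exact Ideal.mul_mem_left _ _ hx)
  letI algB'C' : Algebra B' C' := β'.toRingHom.toAlgebra
  haveI : IsScalarTower A' B' C' := IsScalarTower.of_algebraMap_eq' β'.comp_algebraMap.symm
  let γB : B' →ₐ[A'] B := Ideal.Quotient.liftₐ _ (aeval PB.val : MvPolynomial (Fin n) A' →ₐ[A'] B) (by
      intro g hg
      induction hg using Submodule.span_induction with
      | mem g hg =>
        obtain ⟨j, rfl⟩ := hg
        exact PB.aeval_val_relationOfHasCoeffs A' j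
      | zero => rw [map_zero]
      | add x y _ _ hx hy => rw [map_add, hx, hy, add_zero]
      | smul c x _ hx => rw [smul_eq_mul, map_mul, hx, mul_zero])
  let γC : C' →ₐ[A'] C := Ideal.Quotient.liftₐ _
    (aeval PC.val : MvPolynomial (Fin n ⊕ Fin m) A' →ₐ[A'] C) (by
      intro g hg
      induction hg using Submodule.span_induction with
      | mem g hg =>
        obtain ⟨j, rfl⟩ := hg
        exact PC.aeval_val_relationOfHasCoeffs A' j
      | zero => rw [map_zero]
      | add x y _ _ hx hy => rw [map_add, hx, hy, add_zero]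
      | smul c x _ hx => rw [smul_eq_mul, map_mul, hx, mul_zero])
  letI algB'B : Algebra B' B := γB.toRingHom.toAlgebra
  letI algC'C : Algebra C' C := γC.toRingHom.toAlgebra
  haveI : IsScalarTower A' B' B := IsScalarTower.of_algebraMap_eq' γB.comp_algebraMap.symm
  haveI : IsScalarTower A' C' C := IsScalarTower.of_algebraMap_eq' γC.comp_algebraMap.symm
  haveI poB : Algebra.IsPushout A' A B' B := isPushout_modelOfHasCoeffs PB A' (fun y => rfl)
  haveI poC : Algebra.IsPushout A' A C' C := isPushout_modelOfHasCoeffs PC A' (fun y => rfl)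
  letI algB'C : Algebra B' C := ((algebraMap B C).comp (algebraMap B' B)).toAlgebra
  haveI : IsScalarTower B' B C := IsScalarTower.of_algebraMap_eq (fun _ => rfl)
  haveI : IsScalarTower B' C' C := IsScalarTower.of_algebraMap_eq (fun x => by
    obtain ⟨y, rfl⟩ := Ideal.Quotient.mk_surjective x
    change algebraMap B C (aeval PB.val y) = aeval PC.val (rename Sum.inl y)
    rw [aeval_rename]
    have h2 : (PC.val ∘ Sum.inl) = fun i => algebraMap B C (PB.val i) := funext hval
    rw [h2]
    have h3 := (MvPolynomial.aeval_algebraMap_apply (R := A') (A := B) C PB.val y)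
    rw [← h3]
    rfl)
  -- Step 6: the module model
  letI modC'M : Module C' M := Module.compHom M (algebraMap C' C)
  haveI : IsScalarTower C' C M := IsScalarTower.of_algebraMap_smul (fun _ _ => rfl)
  have hrelA' : ∀ j, MvPolynomial.map (algebraMap Λ A') (relΛ j) = PC.relationOfHasCoeffs A' j := by
    intro j
    apply hinj
    rw [MvPolynomial.map_map, PC.map_relationOfHasCoeffs A' j]
    exact hrelΛ j
  have htors : ∀ (j : Fin r) (x : Fin k₀ → MvPolynomial (Fin n ⊕ Fin m) A'),
      PC.relationOfHasCoeffs A' j • x ∈ KT (wAug w relΛ) (MvPolynomial (Fin n ⊕ Fin m) A') := by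
    intro j x
    rw [← hrelA' j]
    exact smul_mem_KT_wAug w relΛ (MvPolynomial (Fin n ⊕ Fin m) A') j x
  obtain ⟨modC'M', towP, towA', f, hf⟩ := exists_module_model (Λ := Λ) (A := A') (R := A) (S := C)
    PC (wAug w relΛ) M (fun y => rfl) htors (e₂.restrictScalars A) (fun p x => by
      have h3 := e₂.map_smul p x
      rw [LinearEquiv.restrictScalars_apply, LinearEquiv.restrictScalars_apply, h3, ← halg p]
      rfl)
  -- Step 7: flatness of the model over `A'`
  have h1' : Module.Flat A' (LocalizedModule (P.comap (algebraMap C' C)).primeCompl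
      ((Fin k₀ → MvPolynomial (Fin n ⊕ Fin m) A') ⧸
        KT (wAug w relΛ) (MvPolynomial (Fin n ⊕ Fin m) A'))) := by
    haveI : (P.comap (algebraMap C' C)).IsPrime := Ideal.comap_isPrime _ _
    have hq' : qR.comap (algebraMap (MvPolynomial (Fin n ⊕ Fin m) A')
        (MvPolynomial (Fin n ⊕ Fin m) A)) =
        (P.comap (algebraMap C' C)).comap (algebraMap (MvPolynomial (Fin n ⊕ Fin m) A') C') := by
      ext y
      simp only [qR, Ideal.mem_comap]
      have : algebraMap (MvPolynomial (Fin n ⊕ Fin m) A) C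
          (algebraMap (MvPolynomial (Fin n ⊕ Fin m) A')
          (MvPolynomial (Fin n ⊕ Fin m) A) y) =
          algebraMap C' C (algebraMap (MvPolynomial (Fin n ⊕ Fin m) A') C' y) := by
        rw [halg, MvPolynomial.algebraMap_def, MvPolynomial.aeval_map_algebraMap]
        rfl
      rw [← this]
    have h3 := flat_localizedModule_congr_prime _ _ hq' hA'flat
    have hs' : Function.Surjective (algebraMap (MvPolynomial (Fin n ⊕ Fin m) A') C') :=
      Ideal.Quotient.mk_surjective
    exact (flat_localizedModule_comap_iff (R := A') (P := MvPolynomial (Fin n ⊕ Fin m) A')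
      (S := C') hs' (P.comap (algebraMap C' C))).mp h3
  haveI : Module.Finite C' ((Fin k₀ → MvPolynomial (Fin n ⊕ Fin m) A') ⧸
      KT (wAug w relΛ) (MvPolynomial (Fin n ⊕ Fin m) A')) :=
    Module.Finite.of_restrictScalars_finite (MvPolynomial (Fin n ⊕ Fin m) A') C' _
  exact flat_of_fibreFlat_of_model (A' := A') (A := A) (B' := B') (B := B) (C' := C') (C := C)
    (M' := (Fin k₀ → MvPolynomial (Fin n ⊕ Fin m) A') ⧸
      KT (wAug w relΛ) (MvPolynomial (Fin n ⊕ Fin m) A')) (M := M) f hf p q P h1' h2

end FP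

end Groth.Agent.Lib.Helper3.FibModF
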