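import Mathlib
import Groth.Agent.Lib.Helper3FibModF

set_option autoImplicit false
set_option linter.style.haveILetI false

universe u

namespace Groth.Agent.Lib.Helper3.FibModG

open TensorProduct MvPolynomial Groth.Agent.Lib.Helper3.FibCritD Groth.Agent.Lib.Helper3.FibModC
  Groth.Agent.Lib.Helper3.FibModF Groth.Agent.Lib.Helper3.FibCritA Groth.Agent.Lib.Helper3.FibModA
  Groth.Agent.Lib.Helper3.FibModB

section LF

variable {A B C : Type u} [CommRing A] [CommRing B] [CommRing C] [Algebra A B] [Algebra B C]
  [Algebra A C] [IsScalarTower A B C]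

set_option maxHeartbeats 1600000 in
-- flatness of the map of fibres implies flatness of the maps of local rings of the fibres
theorem flat_quotientMap_of_fiberMap (p : Ideal A) [p.IsPrime]
    (hflat : (fiberMap (B := B) (C := C) p).toRingHom.Flat)
    (P'' : Ideal (p.Fiber C)) [P''.IsPrime] :
    letI Q'' : Ideal (p.Fiber B) := P''.comap (fiberMap (B := B) (C := C) p).toRingHom
    letI P : Ideal C := P''.comap (Algebra.TensorProduct.includeRight : C →ₐ[A] p.Fiber C)
    letI Q : Ideal B := Q''.comap (Algebra.TensorProduct.includeRight : B →ₐ[A] p.Fiber B)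
    ∀ (hQ : Q = P.comap (algebraMap B C))
      (hJ : p.map (algebraMap A (Localization.AtPrime Q)) ≤
        (p.map (algebraMap A (Localization.AtPrime P))).comap
          (Localization.localRingHom Q P (algebraMap B C) hQ)),
      (Ideal.quotientMap (p.map (algebraMap A (Localization.AtPrime P)))
        (Localization.localRingHom Q P (algebraMap B C) hQ) hJ).Flat := by
  intro hQ hJ
  let φ := fiberMap (B := B) (C := C) p
  let Q'' : Ideal (p.Fiber B) := P''.comap φ.toRingHom
  haveI : Q''.IsPrime := Ideal.comap_isPrime _ _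
  let P : Ideal C := P''.comap (Algebra.TensorProduct.includeRight : C →ₐ[A] p.Fiber C)
  let Q : Ideal B := Q''.comap (Algebra.TensorProduct.includeRight : B →ₐ[A] p.Fiber B)
  haveI : P.IsPrime := Ideal.comap_isPrime _ _
  haveI : Q.IsPrime := Ideal.comap_isPrime _ _
  haveI hPp : P.LiesOver p := by
    constructor
    have h0 : P''.LiesOver p := inferInstance
    rw [h0.over]
    ext a
    simp only [P, Ideal.mem_comap, Ideal.under]
    rw [← AlgHom.commutes (Algebra.TensorProduct.includeRight : C →ₐ[A] p.Fiber C)]
  haveI hQp : Q.LiesOver p := by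
    constructor
    have h0 : Q''.LiesOver p := inferInstance
    rw [h0.over]
    ext a
    simp only [Q, Ideal.mem_comap, Ideal.under]
    rw [← AlgHom.commutes (Algebra.TensorProduct.includeRight : B →ₐ[A] p.Fiber B)]
  letI := Localization.AtPrime.algebraOfLiesOver p P
  letI := Localization.AtPrime.algebraOfLiesOver p Q
  let J : Ideal (Localization.AtPrime P) := p.map (algebraMap A (Localization.AtPrime P))
  let eC := Ideal.Fiber.localizationAlgEquivQuotient p P''
  let eB := Ideal.Fiber.localizationAlgEquivQuotient p Q''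
  let ψ : Localization.AtPrime Q'' →+* Localization.AtPrime P'' :=
    Localization.localRingHom Q'' P'' φ.toRingHom rfl
  have hψ : @RingHom.Flat (Localization.AtPrime Q'') (Localization.AtPrime P'') _ _ ψ :=
    RingHom.Flat.localRingHom hflat P'' Q'' rfl
  let χ : Localization.AtPrime Q ⧸ p.map (algebraMap A (Localization.AtPrime Q)) →+*
      Localization.AtPrime P ⧸ J :=
    Ideal.quotientMap J (Localization.localRingHom Q P (algebraMap B C) hQ) hJ
  have hχ : χ.comp eB.toRingEquiv.toRingHom = eC.toRingEquiv.toRingHom.comp ψ := by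
    apply ringHom_ext_fiber_localization p Q''
    intro b
    simp only [RingHom.comp_apply]
    have h1 : eB.toRingEquiv.toRingHom (algebraMap (p.Fiber B) (Localization.AtPrime Q'')
        (1 ⊗ₜ b)) = Ideal.Quotient.mk _ (algebraMap B (Localization.AtPrime Q) b) :=
      localizationAlgEquivQuotient_one_tmul p Q'' b
    have h2 : ψ (algebraMap (p.Fiber B) (Localization.AtPrime Q'') (1 ⊗ₜ b)) =
        algebraMap (p.Fiber C) (Localization.AtPrime P'') (1 ⊗ₜ algebraMap B C b) := by
      change Localization.localRingHom Q'' P'' φ.toRingHom rfl _ = _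
      rw [Localization.localRingHom_to_map]
      congr 1
    have h3 : eC.toRingEquiv.toRingHom (algebraMap (p.Fiber C) (Localization.AtPrime P'')
        (1 ⊗ₜ algebraMap B C b)) =
        Ideal.Quotient.mk _ (algebraMap C (Localization.AtPrime P) (algebraMap B C b)) :=
      localizationAlgEquivQuotient_one_tmul p P'' (algebraMap B C b)
    rw [h1, h2, h3]
    change Ideal.Quotient.mk J (Localization.localRingHom Q P (algebraMap B C) hQ
      (algebraMap B (Localization.AtPrime Q) b)) = _
    rw [Localization.localRingHom_to_map]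
  have hχ' : χ = (eC.toRingEquiv.toRingHom.comp ψ).comp eB.symm.toRingEquiv.toRingHom := by
    refine RingHom.ext fun x => ?_
    obtain ⟨y, rfl⟩ := eB.surjective x
    have h1 : χ (eB y) = (χ.comp eB.toRingEquiv.toRingHom) y := rfl
    have h2 : eB.symm.toRingEquiv.toRingHom (eB y) = y := eB.symm_apply_apply y
    rw [h1, hχ, RingHom.comp_apply, RingHom.comp_apply, RingHom.comp_apply, h2]
  change χ.Flat
  rw [hχ']
  exact RingHom.Flat.comp (RingHom.Flat.of_bijective eB.symm.bijective)
    (RingHom.Flat.comp hψ (RingHom.Flat.of_bijective eC.bijective))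

theorem map_le_comap_localRingHom' (p : Ideal A) (P : Ideal C) [P.IsPrime] (Q : Ideal B)
    [Q.IsPrime] (hQ : Q = P.comap (algebraMap B C)) :
    p.map (algebraMap A (Localization.AtPrime Q)) ≤
      (p.map (algebraMap A (Localization.AtPrime P))).comap
        (Localization.localRingHom Q P (algebraMap B C) hQ) := by
  rw [Ideal.map_le_iff_le_comap]
  intro a ha
  rw [Ideal.mem_comap, Ideal.mem_comap]
  have h1 : algebraMap A (Localization.AtPrime Q) a =
      algebraMap B (Localization.AtPrime Q) (algebraMap A B a) :=
    IsScalarTower.algebraMap_apply A B (Localization.AtPrime Q) a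
  rw [h1, Localization.localRingHom_to_map, ← IsScalarTower.algebraMap_apply A B C,
    ← IsScalarTower.algebraMap_apply A C]
  exact Ideal.mem_map_of_mem _ ha

set_option maxHeartbeats 800000 in
-- prime-variable form
theorem flat_quotientMap_localRingHom_of_fiberMap (p : Ideal A) [p.IsPrime]
    (hflat : (fiberMap (B := B) (C := C) p).toRingHom.Flat)
    (P : Ideal C) [P.IsPrime] [hPp : P.LiesOver p] (Q : Ideal B) [Q.IsPrime]
    (hQ : Q = P.comap (algebraMap B C)) :
    (Ideal.quotientMap (p.map (algebraMap A (Localization.AtPrime P)))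
      (Localization.localRingHom Q P (algebraMap B C) hQ)
      (map_le_comap_localRingHom' p P Q hQ)).Flat := by
  obtain ⟨P'', hP''prime, rfl⟩ : ∃ P'' : Ideal (p.Fiber C), ∃ _ : P''.IsPrime,
      P''.comap (Algebra.TensorProduct.includeRight : C →ₐ[A] p.Fiber C) = P := by
    let Q0 := PrimeSpectrum.primesOverOrderIsoFiber A C p ⟨P, ⟨inferInstance, hPp⟩⟩
    refine ⟨Q0.asIdeal, Q0.isPrime, ?_⟩
    have h := PrimeSpectrum.coe_primesOverOrderIsoFiber_symm_apply p Q0
    rw [← h]
    simp [Q0]
  have hQ'' : Q = (P''.comap (fiberMap (B := B) (C := C) p).toRingHom).comap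
      (Algebra.TensorProduct.includeRight : B →ₐ[A] p.Fiber B) := by
    rw [hQ]
    ext b
    simp only [Ideal.mem_comap]
    change (1 : p.ResidueField) ⊗ₜ[A] (algebraMap B C b) ∈ P'' ↔
      fiberMap (B := B) (C := C) p ((1 : p.ResidueField) ⊗ₜ[A] b) ∈ P''
    rw [fiberMap_one_tmul]
  subst hQ''
  exact flat_quotientMap_of_fiberMap p hflat P'' hQ _

end LF

section Transfer

variable {A B₁ B C M : Type u} [CommRing A] [CommRing B₁] [CommRing B] [CommRing C]
  [Algebra A B₁] [Algebra B₁ B] [Algebra A B] [IsScalarTower A B₁ B]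
  [Algebra B C] [Algebra B₁ C] [IsScalarTower B₁ B C] [Algebra A C] [IsScalarTower A B C]
  [AddCommGroup M] [Module C M]

theorem flat_quotientMap_id_of_eq {T : Type*} [CommRing T] {K₁ K : Ideal T} (hK : K₁ = K)
    (h : K₁ ≤ K.comap (RingHom.id T)) : (Ideal.quotientMap K (RingHom.id T) h).Flat := by
  subst hK
  apply RingHom.Flat.of_bijective
  constructor
  · exact Ideal.quotientMap_injective' (le_of_eq rfl)
  · exact Ideal.quotientMap_surjective (fun x => ⟨x, rfl⟩)

set_option maxHeartbeats 1600000 in
-- fibrewise flatness only depends on the fibre of `B`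
theorem fibreFlat_of_fiberMap_flat
    (p : Ideal A) [p.IsPrime] (q : Ideal B) [q.IsPrime] [q.LiesOver p]
    (P : Ideal C) [P.IsPrime] [P.LiesOver q] [P.LiesOver p]
    (q₁ : Ideal B₁) [q₁.IsPrime] [q.LiesOver q₁] [P.LiesOver q₁]
    (hfm : (fiberMap (B := B₁) (C := B) p).toRingHom.Flat)
    (h2 : FibreFlat p q P M) : FibreFlat p q₁ P M := by
  unfold FibreFlat at h2 ⊢
  letI aS₁S := Localization.AtPrime.algebraOfLiesOver q₁ q
  letI aS₁T := Localization.AtPrime.algebraOfLiesOver q₁ P
  letI aST := Localization.AtPrime.algebraOfLiesOver q P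
  letI mSN : Module (Localization.AtPrime q) (LocalizedModule P.primeCompl M) :=
    Module.compHom _ (algebraMap (Localization.AtPrime q) (Localization.AtPrime P))
  letI mS₁N : Module (Localization.AtPrime q₁) (LocalizedModule P.primeCompl M) :=
    Module.compHom _ (algebraMap (Localization.AtPrime q₁) (Localization.AtPrime P))
  haveI : IsScalarTower (Localization.AtPrime q) (Localization.AtPrime P)
      (LocalizedModule P.primeCompl M) := IsScalarTower.of_algebraMap_smul (fun _ _ => rfl)
  haveI : IsScalarTower (Localization.AtPrime q₁) (Localization.AtPrime P)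
      (LocalizedModule P.primeCompl M) := IsScalarTower.of_algebraMap_smul (fun _ _ => rfl)
  haveI : IsScalarTower A B₁ C := IsScalarTower.of_algebraMap_eq (fun x => by
    rw [IsScalarTower.algebraMap_apply A B C, IsScalarTower.algebraMap_apply A B₁ B,
      ← IsScalarTower.algebraMap_apply B₁ B C])
  have hq₁ : q₁ = q.comap (algebraMap B₁ B) := Ideal.LiesOver.over
  have hS := flat_quotientMap_localRingHom_of_fiberMap p hfm q q₁ hq₁
  have hJT : (p.map (algebraMap A (Localization.AtPrime q))).map
      (algebraMap (Localization.AtPrime q) (Localization.AtPrime P)) =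
      p.map (algebraMap A (Localization.AtPrime P)) := by
    rw [Ideal.map_map, ← IsScalarTower.algebraMap_eq]
  have hJ₁T : (p.map (algebraMap A (Localization.AtPrime q₁))).map
      (algebraMap (Localization.AtPrime q₁) (Localization.AtPrime P)) =
      p.map (algebraMap A (Localization.AtPrime P)) := by
    rw [Ideal.map_map, ← IsScalarTower.algebraMap_eq]
  have hne : (p.map (algebraMap A (Localization.AtPrime q))).map
      (algebraMap (Localization.AtPrime q) (Localization.AtPrime P)) ≠ ⊤ := by
    rw [hJT]
    intro htop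
    have h1 : p.map (algebraMap A (Localization.AtPrime P)) ≤
        IsLocalRing.maximalIdeal (Localization.AtPrime P) := by
      rw [Ideal.map_le_iff_le_comap]
      intro a ha
      rw [Ideal.mem_comap, IsScalarTower.algebraMap_apply A C (Localization.AtPrime P),
        ← Localization.AtPrime.map_eq_maximalIdeal]
      apply Ideal.mem_map_of_mem
      have : p = P.under A := Ideal.LiesOver.over
      rw [this] at ha
      exact ha
    rw [htop] at h1
    exact (IsLocalRing.maximalIdeal.isMaximal _).ne_top (top_le_iff.mp h1)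
  have hle' : (p.map (algebraMap A (Localization.AtPrime q₁))).map
      (algebraMap (Localization.AtPrime q₁) (Localization.AtPrime P)) ≤
      ((p.map (algebraMap A (Localization.AtPrime q))).map
        (algebraMap (Localization.AtPrime q) (Localization.AtPrime P))).comap
        (algebraMap (Localization.AtPrime P) (Localization.AtPrime P)) := by
    rw [hJT, hJ₁T]
    exact le_of_eq rfl
  refine flat_fibre_descent (S₁ := Localization.AtPrime q₁) (S := Localization.AtPrime q)
    (T₁ := Localization.AtPrime P) (T := Localization.AtPrime P)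
    (p.map (algebraMap A (Localization.AtPrime q₁)))
    (p.map (algebraMap A (Localization.AtPrime q)))
    (map_le_comap_localRingHom' p q q₁ hq₁) hne hS hle' ?_
    (LinearMap.id : LocalizedModule P.primeCompl M →ₗ[Localization.AtPrime P]
      LocalizedModule P.primeCompl M)
    (IsBaseChange.ofEquiv (LinearEquiv.refl _ _)) h2
  exact flat_quotientMap_id_of_eq (hJ₁T.trans hJT.symm) hle'

end Transfer

section FPres

variable {A B C M : Type u} [CommRing A] [CommRing B] [CommRing C] [Algebra A B] [Algebra B C]
  [Algebra A C] [IsScalarTower A B C]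
  [AddCommGroup M] [Module C M] [Module B M] [Module A M] [IsScalarTower B C M]
  [IsScalarTower A C M]

set_option maxHeartbeats 1600000 in
-- **Fibre criterion for modules** (`B`, `C` of finite presentation over `A`).
theorem flat_of_fibreFlat_fp [Algebra.FinitePresentation A B] [Algebra.FinitePresentation A C]
    [Module.FinitePresentation C M]
    (p : Ideal A) [p.IsPrime] (q : Ideal B) [q.IsPrime] [q.LiesOver p]
    (P : Ideal C) [P.IsPrime] [P.LiesOver q] [P.LiesOver p]
    (h1 : Module.Flat A (LocalizedModule P.primeCompl M)) (h2 : FibreFlat p q P M) :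
    Module.Flat B (LocalizedModule P.primeCompl M) := by
  classical
  obtain ⟨n, f, hf⟩ := Algebra.FiniteType.iff_quotient_mvPolynomial''.mp
    (inferInstance : Algebra.FiniteType A B)
  obtain ⟨m, fC, hfC⟩ := Algebra.FiniteType.iff_quotient_mvPolynomial''.mp
    (inferInstance : Algebra.FiniteType A C)
  let vB : Fin n → B := fun i => f (X i)
  have hvB : Function.Surjective (aeval (R := A) vB) := by
    intro b
    obtain ⟨y, rfl⟩ := hf b
    exact ⟨y, (DFunLike.congr_fun (MvPolynomial.aeval_unique f) y).symm⟩
  let GB : Algebra.Generators A B (Fin n) := Algebra.Generators.ofSurjective vB hvB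
  have hkerB : GB.ker.FG := GB.fg_ker_of_finitePresentation
  obtain ⟨k, relB, hrelB⟩ := exists_fin_span_eq GB.ker hkerB
  let PB : Algebra.Presentation A B (Fin n) (Fin k) :=
    { toGenerators := GB, relation := relB, span_range_relation_eq_ker := hrelB }
  let vC : Fin n ⊕ Fin m → C :=
    Sum.elim (fun i => algebraMap B C (f (X i))) (fun j => fC (X j))
  have hvC : Function.Surjective (aeval (R := A) vC) := by
    intro c
    obtain ⟨y, rfl⟩ := hfC c
    refine ⟨rename Sum.inr y, ?_⟩
    rw [aeval_rename]
    have : (vC ∘ Sum.inr) = fun j => fC (X j) := rfl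
    rw [this]
    exact (DFunLike.congr_fun (MvPolynomial.aeval_unique fC) y).symm
  let GC : Algebra.Generators A C (Fin n ⊕ Fin m) := Algebra.Generators.ofSurjective vC hvC
  have hker : GC.ker.FG := GC.fg_ker_of_finitePresentation
  obtain ⟨r, rel, hrel⟩ := exists_fin_span_eq GC.ker hker
  let PC : Algebra.Presentation A C (Fin n ⊕ Fin m) (Fin r) :=
    { toGenerators := GC, relation := rel, span_range_relation_eq_ker := hrel }
  have hval : ∀ i, PC.val (Sum.inl i) = algebraMap B C (PB.val i) := fun i => rfl
  exact flat_of_fibreFlat_of_presentations PB PC hval p q P h1 h2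

set_option maxHeartbeats 3200000 in
-- **Fibre criterion for modules** (`B` of finite type, `C` of finite presentation over `A`).
theorem flat_of_fibreFlat [Algebra.FiniteType A B] [Algebra.FinitePresentation A C]
    [Module.FinitePresentation C M]
    (p : Ideal A) [p.IsPrime] (q : Ideal B) [q.IsPrime] [q.LiesOver p]
    (P : Ideal C) [P.IsPrime] [P.LiesOver q] [P.LiesOver p]
    (h1 : Module.Flat A (LocalizedModule P.primeCompl M)) (h2 : FibreFlat p q P M) :
    Module.Flat B (LocalizedModule P.primeCompl M) := by
  classical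
  obtain ⟨n, f, hf⟩ := Algebra.FiniteType.iff_quotient_mvPolynomial''.mp
    (inferInstance : Algebra.FiniteType A B)
  obtain ⟨k, g, hg, hbij⟩ := exists_fin_ker_bijective p.ResidueField f hf
  let τ : (MvPolynomial (Fin n) A ⧸ Ideal.span (Set.range g)) →ₐ[A] B :=
    Ideal.Quotient.liftₐ _ f (by
      intro a ha
      have : Ideal.span (Set.range g) ≤ RingHom.ker f.toRingHom := by
        rw [Ideal.span_le]
        rintro _ ⟨j, rfl⟩
        exact hg j
      exact this ha)
  have hτ : ∀ y, τ (Ideal.Quotient.mk _ y) = f y := fun y => rfl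
  have hτsurj : Function.Surjective τ := by
    intro b
    obtain ⟨y, rfl⟩ := hf b
    exact ⟨Ideal.Quotient.mk _ y, hτ y⟩
  letI algB₁B : Algebra (MvPolynomial (Fin n) A ⧸ Ideal.span (Set.range g)) B :=
    τ.toRingHom.toAlgebra
  letI algB₁C : Algebra (MvPolynomial (Fin n) A ⧸ Ideal.span (Set.range g)) C :=
    ((algebraMap B C).comp τ.toRingHom).toAlgebra
  haveI : IsScalarTower A (MvPolynomial (Fin n) A ⧸ Ideal.span (Set.range g)) B :=
    IsScalarTower.of_algebraMap_eq' τ.comp_algebraMap.symm
  haveI : IsScalarTower (MvPolynomial (Fin n) A ⧸ Ideal.span (Set.range g)) B C :=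
    IsScalarTower.of_algebraMap_eq' rfl
  haveI : IsScalarTower A (MvPolynomial (Fin n) A ⧸ Ideal.span (Set.range g)) C := by
    refine IsScalarTower.of_algebraMap_eq' (R := A)
      (S := MvPolynomial (Fin n) A ⧸ Ideal.span (Set.range g)) (A := C) ?_
    ext a
    change algebraMap A C a = algebraMap B C (τ (algebraMap A _ a))
    rw [τ.commutes, ← IsScalarTower.algebraMap_apply]
  haveI : Algebra.FinitePresentation A (MvPolynomial (Fin n) A ⧸ Ideal.span (Set.range g)) :=
    Algebra.FinitePresentation.quotient ⟨Finset.univ.image g, by simp⟩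
  letI modB₁M : Module (MvPolynomial (Fin n) A ⧸ Ideal.span (Set.range g)) M :=
    Module.compHom M (algebraMap (MvPolynomial (Fin n) A ⧸ Ideal.span (Set.range g)) C)
  haveI : IsScalarTower (MvPolynomial (Fin n) A ⧸ Ideal.span (Set.range g)) C M :=
    IsScalarTower.of_algebraMap_smul (fun _ _ => rfl)
  -- the primes
  let q₁ : Ideal (MvPolynomial (Fin n) A ⧸ Ideal.span (Set.range g)) :=
    q.comap (algebraMap (MvPolynomial (Fin n) A ⧸ Ideal.span (Set.range g)) B)
  haveI : q₁.IsPrime := Ideal.comap_isPrime _ _
  haveI : q.LiesOver q₁ := ⟨rfl⟩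
  have hqP : q = P.comap (algebraMap B C) := Ideal.LiesOver.over
  have hpq : p = q.comap (algebraMap A B) := Ideal.LiesOver.over
  haveI : P.LiesOver q₁ := ⟨by
    ext x
    simp only [q₁, Ideal.under, Ideal.mem_comap]
    rw [hqP, Ideal.mem_comap]
    rfl⟩
  haveI : q₁.LiesOver p := ⟨by
    ext x
    simp only [q₁, Ideal.under, Ideal.mem_comap]
    rw [hpq, Ideal.mem_comap,
      ← IsScalarTower.algebraMap_apply A (MvPolynomial (Fin n) A ⧸ Ideal.span (Set.range g)) B]⟩
  -- the map of fibres is bijective
  have hcomp : fiberMap (B := MvPolynomial (Fin n) A ⧸ Ideal.span (Set.range g)) (C := B) p =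
      Algebra.TensorProduct.map (AlgHom.id p.ResidueField p.ResidueField) τ := by
    apply Algebra.TensorProduct.ext'
    intro a b
    rfl
  have h2₁ : FibreFlat p q₁ P M := fibreFlat_of_fiberMap_flat p q P q₁ (by
    rw [hcomp]
    exact RingHom.Flat.of_bijective (hbij τ hτ)) h2
  have h3 := flat_of_fibreFlat_fp (B := MvPolynomial (Fin n) A ⧸ Ideal.span (Set.range g))
    p q₁ P h1 h2₁
  haveI : IsScalarTower (MvPolynomial (Fin n) A ⧸ Ideal.span (Set.range g)) B
      (LocalizedModule P.primeCompl M) := by
    constructor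
    intro x y z
    induction z using LocalizedModule.induction_on with
    | h c s =>
      rw [LocalizedModule.smul'_mk, LocalizedModule.smul'_mk, LocalizedModule.smul'_mk]
      congr 1
      rw [Algebra.smul_def, mul_smul]
      change _ = algebraMap (MvPolynomial (Fin n) A ⧸ Ideal.span (Set.range g)) C x • (y • c)
      rw [IsScalarTower.algebraMap_apply (MvPolynomial (Fin n) A ⧸ Ideal.span (Set.range g)) B C,
        algebraMap_smul C (algebraMap (MvPolynomial (Fin n) A ⧸ Ideal.span (Set.range g)) B x)
          (y • c)]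
  refine flat_of_flat_of_surjective (R := MvPolynomial (Fin n) A ⧸ Ideal.span (Set.range g))
    (S := B) ?_
  exact hτsurj

end FPres

end Groth.Agent.Lib.Helper3.FibModG
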