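import Mathlib
import Groth.Agent.Lib.Helper3FibModG
import Groth.Agent.Lib.Helper2FlatOver

set_option autoImplicit false
set_option linter.style.haveILetI false

universe u

namespace Groth.Agent.Lib.Helper3.FibModH

open TensorProduct Groth.Agent.Lib.Helper3.FibModB Groth.Agent.Lib.Helper3.FibModC
  Groth.Agent.Lib.Helper3.FibModG Groth.Agent.Lib.Helper2.FlatOver

section TL

-- transport of fibrewise flatness along a semilinear isomorphism
theorem flat_quot_of_semilinear {S S' N N' : Type*} [CommRing S] [CommRing S'] [AddCommGroup N]
    [AddCommGroup N'] [Module S N] [Module S' N'] (σ : S ≃+* S') (e : N ≃+ N')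
    (he : ∀ (s : S) (n : N), e (s • n) = σ s • e n) (I : Ideal S) (I' : Ideal S')
    (hI : I' = I.map (σ : S →+* S'))
    (h : Module.Flat (S ⧸ I) (N ⧸ I • (⊤ : Submodule S N))) :
    Module.Flat (S' ⧸ I') (N' ⧸ I' • (⊤ : Submodule S' N')) := by
  subst hI
  letI algSS' : Algebra S S' := (σ : S →+* S').toAlgebra
  letI modSN' : Module S N' := Module.compHom N' (σ : S →+* S')
  haveI : IsScalarTower S S' N' := IsScalarTower.of_algebraMap_smul (fun _ _ => rfl)
  let e' : N ≃ₗ[S] N' := { e with map_smul' := fun s n => he s n }
  have hmap : (I • (⊤ : Submodule S N)).map e'.toLinearMap = I • (⊤ : Submodule S N') := by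
    rw [Submodule.map_smul'', Submodule.map_top, LinearMap.range_eq_top.mpr e'.surjective]
  let ε : (N ⧸ I • (⊤ : Submodule S N)) ≃ₗ[S] (N' ⧸ I • (⊤ : Submodule S N')) :=
    Submodule.Quotient.equiv _ _ e' hmap
  let ε' : (N ⧸ I • (⊤ : Submodule S N)) ≃ₗ[S ⧸ I] (N' ⧸ I • (⊤ : Submodule S N')) :=
    LinearEquiv.extendScalarsOfSurjective (R := S) (S := S ⧸ I) Ideal.Quotient.mk_surjective ε
  have h1 : Module.Flat (S ⧸ I) (N' ⧸ I • (⊤ : Submodule S N')) :=
    Module.Flat.of_linearEquiv ε'.symm
  rw [flat_quot_iff (T := S')] at h1
  letI mΛX : Module (S ⧸ I) (N' ⧸ (I.map (algebraMap S S')) • (⊤ : Submodule S' N')) :=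
    Module.compHom _ (algebraMap (S ⧸ I) (S' ⧸ I.map (algebraMap S S')))
  have hbij : Function.Bijective (algebraMap (S ⧸ I) (S' ⧸ I.map (algebraMap S S'))) := by
    constructor
    · rw [injective_iff_map_eq_zero]
      intro x hx
      obtain ⟨x, rfl⟩ := Ideal.Quotient.mk_surjective x
      rw [Ideal.Quotient.algebraMap_quotient_map_quotient, Ideal.Quotient.eq_zero_iff_mem] at hx
      rw [Ideal.Quotient.eq_zero_iff_mem]
      have h2 : (σ : S →+* S') x ∈ I.map (σ : S →+* S') := hx
      rw [Ideal.mem_map_iff_of_surjective (σ : S →+* S') σ.surjective] at h2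
      obtain ⟨y, hy, hxy⟩ := h2
      have : y = x := σ.injective hxy
      rw [← this]
      exact hy
    · intro y
      obtain ⟨y, rfl⟩ := Ideal.Quotient.mk_surjective y
      refine ⟨Ideal.Quotient.mk I (σ.symm y), ?_⟩
      rw [Ideal.Quotient.algebraMap_quotient_map_quotient]
      change Ideal.Quotient.mk _ (σ (σ.symm y)) = _
      rw [RingEquiv.apply_symm_apply]
  let ρ : (S ⧸ I) ≃+* (S' ⧸ I.map (algebraMap S S')) := RingEquiv.ofBijective _ hbij
  exact flat_of_semilinear_equiv ρ (AddEquiv.refl _) (fun r m => rfl)

end TL

section FR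

-- a ring `S` admitting a faithfully flat module which is flat over `R` is flat over `R`
theorem flat_of_faithfullyFlat_module {R S N : Type*} [CommRing R] [CommRing S] [Algebra R S]
    [AddCommGroup N] [Module S N] [Module R N] [IsScalarTower R S N] [Module.FaithfullyFlat S N]
    [Module.Flat R N] : Module.Flat R S := by
  rw [Module.Flat.iff_lTensor_preserves_injective_linearMap]
  intro X Y _ _ _ _ j hj
  have h := Module.Flat.lTensor_preserves_injective_linearMap (M := N) j hj
  let jS : S ⊗[R] X →ₗ[S] S ⊗[R] Y := AlgebraTensorModule.lTensor S S j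
  have hcomm : (AlgebraTensorModule.cancelBaseChange R S S N Y).toLinearMap ∘ₗ
      (LinearMap.lTensor N jS) =
      (AlgebraTensorModule.lTensor S N j) ∘ₗ
        (AlgebraTensorModule.cancelBaseChange R S S N X).toLinearMap := by
    apply TensorProduct.ext'
    intro n z
    induction z using TensorProduct.induction_on with
    | zero => simp
    | add a b ha hb =>
      rw [tmul_add, map_add, map_add, ha, hb]
    | tmul s x => simp [jS]
  have h2 : Function.Injective (LinearMap.lTensor N jS) := by
    have h3 : Function.Injective ((AlgebraTensorModule.cancelBaseChange R S S N Y).toLinearMap ∘ₗ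
        (LinearMap.lTensor N jS)) := by
      rw [hcomm, LinearMap.coe_comp]
      refine Function.Injective.comp ?_ (LinearEquiv.injective _)
      rw [AlgebraTensorModule.coe_lTensor]
      exact h
    rw [LinearMap.coe_comp] at h3
    exact Function.Injective.of_comp h3
  rw [Module.FaithfullyFlat.lTensor_injective_iff_injective] at h2
  rw [← AlgebraTensorModule.coe_lTensor (A := S)]
  exact h2

-- a nonzero finite module over a local ring `S'` is faithful over `S` for a local map `S → S'`
theorem faithfullyFlat_of_flat_of_local {S S' N : Type*} [CommRing S] [CommRing S'] [Algebra S S']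
    [IsLocalRing S] [IsLocalRing S'] [IsLocalHom (algebraMap S S')]
    [AddCommGroup N] [Module S' N] [Module S N] [IsScalarTower S S' N] [Module.Finite S' N]
    [Nontrivial N] [Module.Flat S N] : Module.FaithfullyFlat S N := by
  refine ⟨fun m hm htop => ?_⟩
  have hm' : m = IsLocalRing.maximalIdeal S := IsLocalRing.eq_maximalIdeal hm
  have h1 : ((m.map (algebraMap S S')) • (⊤ : Submodule S' N)).restrictScalars S =
      m • (⊤ : Submodule S N) := by
    rw [Ideal.smul_restrictScalars, Submodule.restrictScalars_top]
  have h2 : (m.map (algebraMap S S')) • (⊤ : Submodule S' N) = ⊤ := by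
    apply Submodule.restrictScalars_injective S
    rw [h1, htop, Submodule.restrictScalars_top]
  have h3 : m.map (algebraMap S S') ≤ IsLocalRing.maximalIdeal S' := by
    rw [hm']
    exact ((IsLocalRing.local_hom_TFAE (algebraMap S S')).out 0 2).mp ‹_›
  have h4 : (⊤ : Submodule S' N) ≤ (IsLocalRing.maximalIdeal S') • (⊤ : Submodule S' N) :=
    le_trans (le_of_eq h2.symm) (Submodule.smul_mono_left h3)
  have hfg : (⊤ : Submodule S' N).FG := Module.Finite.fg_top
  have hjac : IsLocalRing.maximalIdeal S' ≤ Ideal.jacobson ⊥ :=
    IsLocalRing.maximalIdeal_le_jacobson ⊥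
  have h5 : (⊤ : Submodule S' N) = ⊥ :=
    Submodule.eq_bot_of_le_smul_of_le_jacobson_bot (IsLocalRing.maximalIdeal S')
      (⊤ : Submodule S' N) hfg h4 hjac
  have h6 : Subsingleton N := by
    rw [← Submodule.subsingleton_iff S', ← subsingleton_iff_bot_eq_top]
    exact h5.symm
  exact not_subsingleton N h6

end FR

section SL

variable {B C M : Type u} [CommRing B] [CommRing C] [Algebra B C] [AddCommGroup M] [Module C M]
  {S S' Mx : Type u} [CommRing S] [CommRing S'] [Algebra S S'] [Algebra B S] [Algebra C S']
  [AddCommGroup Mx] [Module S' Mx] [Module S Mx] [IsScalarTower S S' Mx] [Module C Mx]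
  [IsScalarTower C S' Mx]

set_option maxHeartbeats 1600000 in
-- the identification of `Mx` with the localized module is semilinear over `S ≃ B_q`
theorem semilinear_iso (q : Ideal B) [q.IsPrime] (P : Ideal C) [P.IsPrime] [P.LiesOver q]
    [IsLocalization.AtPrime S q]
    (hBC : (algebraMap C S').comp (algebraMap B C) = (algebraMap S S').comp (algebraMap B S))
    (γ : M →ₗ[C] Mx) [IsLocalizedModule P.primeCompl γ] :
    letI := Localization.AtPrime.algebraOfLiesOver q P
    letI : Module (Localization.AtPrime q) (LocalizedModule P.primeCompl M) :=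
      Module.compHom _ (algebraMap (Localization.AtPrime q) (Localization.AtPrime P))
    ∀ (s : S) (x : Mx), (IsLocalizedModule.iso P.primeCompl γ).symm (s • x) =
      (IsLocalization.algEquiv q.primeCompl S (Localization.AtPrime q)) s •
        (IsLocalizedModule.iso P.primeCompl γ).symm x := by
  letI := Localization.AtPrime.algebraOfLiesOver q P
  letI : Module (Localization.AtPrime q) (LocalizedModule P.primeCompl M) :=
    Module.compHom _ (algebraMap (Localization.AtPrime q) (Localization.AtPrime P))
  intro s x
  let e := (IsLocalizedModule.iso P.primeCompl γ).symm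
  let σ := IsLocalization.algEquiv q.primeCompl S (Localization.AtPrime q)
  -- (F1)
  have F1 : ∀ (β : B) (z : LocalizedModule P.primeCompl M),
      algebraMap B (Localization.AtPrime q) β • z = (algebraMap B C β) • z := by
    intro β z
    change algebraMap (Localization.AtPrime q) (Localization.AtPrime P)
      (algebraMap B (Localization.AtPrime q) β) • z = _
    rw [← IsScalarTower.algebraMap_apply B (Localization.AtPrime q) (Localization.AtPrime P),
      IsScalarTower.algebraMap_apply B C (Localization.AtPrime P), algebraMap_smul]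
  -- (F2)
  have F2 : ∀ (β : B) (y : Mx), (algebraMap B C β) • y = algebraMap B S β • y := by
    intro β y
    rw [← algebraMap_smul S' (algebraMap B C β) y, ← algebraMap_smul S' (algebraMap B S β) y]
    have := RingHom.congr_fun hBC β
    simp only [RingHom.comp_apply] at this
    rw [this]
  obtain ⟨⟨b, u⟩, hs⟩ := IsLocalization.surj q.primeCompl s
  -- hs : s * algebraMap B S u = algebraMap B S b
  have hunit : IsUnit (algebraMap B (Localization.AtPrime q) (u : B)) :=
    IsLocalization.map_units (Localization.AtPrime q) u
  apply hunit.smul_left_cancel.mp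
  have hL : algebraMap B (Localization.AtPrime q) (u : B) • e (s • x) =
      algebraMap B (Localization.AtPrime q) b • e x := by
    rw [F1, ← e.map_smul, F2, smul_smul, mul_comm, hs, ← F2, e.map_smul, ← F1]
  have hR : algebraMap B (Localization.AtPrime q) (u : B) • (σ s • e x) =
      algebraMap B (Localization.AtPrime q) b • e x := by
    rw [smul_smul, ← σ.commutes, ← map_mul, mul_comm, hs, σ.commutes]
  exact hL.trans hR.symm

end SL

section ABS

variable {A B C M : Type u} [CommRing A] [CommRing B] [CommRing C] [Algebra A B] [Algebra B C]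
  [Algebra A C] [IsScalarTower A B C] [AddCommGroup M] [Module C M]
  {R S S' Mx : Type u} [CommRing R] [CommRing S] [CommRing S']
  [Algebra R S] [Algebra S S'] [Algebra R S'] [IsScalarTower R S S']
  [Algebra A R] [Algebra B S] [Algebra C S']
  [AddCommGroup Mx] [Module S' Mx] [Module S Mx] [IsScalarTower S S' Mx] [Module R Mx]
  [IsScalarTower R S' Mx] [Module C Mx] [IsScalarTower C S' Mx]

set_option maxHeartbeats 3200000 in
-- **Fibre criterion for modules**, for abstract local rings which are localizations of algebras
-- of finite type / finite presentation.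
theorem flat_of_flat_fibre_abs [Algebra.FiniteType A B] [Algebra.FinitePresentation A C]
    [Module.FinitePresentation C M]
    (p : Ideal A) [p.IsPrime] (q : Ideal B) [q.IsPrime] [q.LiesOver p]
    (P : Ideal C) [P.IsPrime] [P.LiesOver q] [P.LiesOver p]
    [IsLocalization.AtPrime R p] [IsLocalization.AtPrime S q] [IsLocalization.AtPrime S' P]
    (hAB : (algebraMap B S).comp (algebraMap A B) = (algebraMap R S).comp (algebraMap A R))
    (hBC : (algebraMap C S').comp (algebraMap B C) = (algebraMap S S').comp (algebraMap B S))
    (γ : M →ₗ[C] Mx) [IsLocalizedModule P.primeCompl γ] [IsLocalRing R]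
    (hRM : Module.Flat R Mx)
    (hfib : Module.Flat (S ⧸ (IsLocalRing.maximalIdeal R).map (algebraMap R S))
      (Mx ⧸ ((IsLocalRing.maximalIdeal R).map (algebraMap R S)) • (⊤ : Submodule S Mx))) :
    Module.Flat S Mx := by
  -- module structures over `A` and `B`
  letI mBM : Module B M := Module.compHom M (algebraMap B C)
  letI mAM : Module A M := Module.compHom M (algebraMap A C)
  haveI : IsScalarTower B C M := IsScalarTower.of_algebraMap_smul (fun _ _ => rfl)
  haveI : IsScalarTower A C M := IsScalarTower.of_algebraMap_smul (fun _ _ => rfl)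
  letI mBMx : Module B Mx := Module.compHom Mx (algebraMap B C)
  letI mAMx : Module A Mx := Module.compHom Mx (algebraMap A C)
  haveI : IsScalarTower B C Mx := IsScalarTower.of_algebraMap_smul (fun _ _ => rfl)
  haveI : IsScalarTower A C Mx := IsScalarTower.of_algebraMap_smul (fun _ _ => rfl)
  have hAS' : ∀ a : A, algebraMap C S' (algebraMap A C a) = algebraMap R S' (algebraMap A R a) := by
    intro a
    have h1 := RingHom.congr_fun hBC (algebraMap A B a)
    have h2 := RingHom.congr_fun hAB a
    simp only [RingHom.comp_apply] at h1 h2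
    rw [IsScalarTower.algebraMap_apply A B C, h1, h2, ← IsScalarTower.algebraMap_apply R S S']
  haveI : IsScalarTower A R Mx := IsScalarTower.of_algebraMap_smul (fun a x => by
    change _ = algebraMap A C a • x
    rw [← algebraMap_smul S' (algebraMap A R a) x, ← algebraMap_smul S' (algebraMap A C a) x,
      hAS'])
  haveI : IsScalarTower B S Mx := IsScalarTower.of_algebraMap_smul (fun b x => by
    change _ = algebraMap B C b • x
    rw [← algebraMap_smul S' (algebraMap B S b) x, ← algebraMap_smul S' (algebraMap B C b) x]
    have h1 := RingHom.congr_fun hBC b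
    simp only [RingHom.comp_apply] at h1
    rw [h1])
  let e₀ := IsLocalizedModule.iso P.primeCompl γ
  -- (h1) flatness over `A`
  haveI : Module.Flat A R := IsLocalization.flat R p.primeCompl
  haveI : Module.Flat A Mx := Module.Flat.trans A R Mx
  have h1 : Module.Flat A (LocalizedModule P.primeCompl M) :=
    Module.Flat.of_linearEquiv (e₀.restrictScalars A)
  -- (h2) fibrewise flatness
  have h2 : FibreFlat p q P M := by
    unfold FibreFlat
    letI := Localization.AtPrime.algebraOfLiesOver q P
    letI : Module (Localization.AtPrime q) (LocalizedModule P.primeCompl M) :=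
      Module.compHom _ (algebraMap (Localization.AtPrime q) (Localization.AtPrime P))
    let σ := IsLocalization.algEquiv q.primeCompl S (Localization.AtPrime q)
    refine flat_quot_of_semilinear σ.toRingEquiv e₀.symm.toAddEquiv
      (semilinear_iso q P hBC γ) _ _ ?_ hfib
    rw [← IsLocalization.AtPrime.map_eq_maximalIdeal p R, Ideal.map_map, Ideal.map_map,
      RingHom.comp_assoc, ← hAB]
    congr 1
    ext a
    simp only [RingHom.comp_apply]
    change _ = σ (algebraMap B S (algebraMap A B a))
    rw [σ.commutes, ← IsScalarTower.algebraMap_apply]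
  -- the criterion
  have h3 : Module.Flat B (LocalizedModule P.primeCompl M) := flat_of_fibreFlat p q P h1 h2
  haveI : Module.Flat B Mx := Module.Flat.of_linearEquiv (e₀.restrictScalars B).symm
  exact (Module.flat_iff_of_isLocalization S q.primeCompl Mx).mpr inferInstance

end ABS

end Groth.Agent.Lib.Helper3.FibModH
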