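import Mathlib
import Groth.Agent.Lib.Helper3FibModH
import Groth.Agent.Lib.Helper3EFPTowerB
import Groth.Agent.Lib.Helper26LocDesc

set_option autoImplicit false
set_option linter.style.haveILetI false

universe u

open TensorProduct

namespace Groth.Agent.Lib.Helper3.EFPTowerC

open Groth.Agent.Lib.Helper3.EFPTowerB Groth.Agent.Lib.Helper3.FibModH
  Groth.Agent.Lib.Helper26.LocDesc

-- a local ring which is a localization of `A` is the localization at the preimage of its
-- maximal ideal.
theorem isLocalization_atPrime_of_local {A B : Type u} [CommRing A] [CommRing B] [Algebra A B]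
    [IsLocalRing B] (T : Submonoid A) [IsLocalization T B] :
    haveI : ((IsLocalRing.maximalIdeal B).comap (algebraMap A B)).IsPrime :=
      Ideal.comap_isPrime _ _
    IsLocalization.AtPrime B ((IsLocalRing.maximalIdeal B).comap (algebraMap A B)) := by
  haveI : ((IsLocalRing.maximalIdeal B).comap (algebraMap A B)).IsPrime :=
    Ideal.comap_isPrime _ _
  refine IsLocalization.of_le (M := T) (S := B)
    ((IsLocalRing.maximalIdeal B).comap (algebraMap A B)).primeCompl ?_ ?_
  · intro t ht hp'
    have h1 : IsUnit (algebraMap A B t) := IsLocalization.map_units B ⟨t, ht⟩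
    exact (IsLocalRing.mem_maximalIdeal _).1 hp' h1
  · intro r hr
    by_contra h
    exact hr ((IsLocalRing.mem_maximalIdeal _).2 h)

set_option maxHeartbeats 1600000 in
theorem flat_of_flat_fibre_ess_aux {R S₀ C S S' M : Type u} [CommRing R] [CommRing S₀] [CommRing C]
    [CommRing S] [CommRing S'] [IsLocalRing R] [IsLocalRing S] [IsLocalRing S']
    [Algebra R S] [Algebra S S'] [Algebra R S'] [IsScalarTower R S S']
    [IsLocalHom (algebraMap R S)] [IsLocalHom (algebraMap S S')]
    [Algebra R S₀] [Algebra S₀ S] [IsScalarTower R S₀ S]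
    [Algebra R C] [Algebra S₀ C] [IsScalarTower R S₀ C] [Algebra C S']
    [Algebra.FiniteType R S₀] [Algebra.FinitePresentation R C]
    (T : Submonoid S₀) [IsLocalization T S] (TC : Submonoid C) [IsLocalization TC S']
    (hcomp : (algebraMap C S').comp (algebraMap S₀ C) = (algebraMap S S').comp (algebraMap S₀ S))
    [AddCommGroup M] [Module S' M] [Module S M] [Module R M] [IsScalarTower S S' M]
    [IsScalarTower R S' M] [Module.FinitePresentation S' M] [Module.Flat R M]
    (hfib : Module.Flat (S ⧸ (IsLocalRing.maximalIdeal R).map (algebraMap R S))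
      (M ⧸ (IsLocalRing.maximalIdeal R).map (algebraMap R S) • (⊤ : Submodule S M))) :
    Module.Flat S M := by
  let p : Ideal R := IsLocalRing.maximalIdeal R
  let q : Ideal S₀ := (IsLocalRing.maximalIdeal S).comap (algebraMap S₀ S)
  let P : Ideal C := (IsLocalRing.maximalIdeal S').comap (algebraMap C S')
  haveI hq : q.IsPrime := Ideal.comap_isPrime _ _
  haveI hP : P.IsPrime := Ideal.comap_isPrime _ _
  haveI : IsLocalization.AtPrime S q := isLocalization_atPrime_of_local T
  haveI : IsLocalization.AtPrime S' P := isLocalization_atPrime_of_local TC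
  haveI : IsLocalization.AtPrime R p :=
    IsLocalization.of_le_isUnit (fun x hx => by
      by_contra h
      exact hx ((IsLocalRing.mem_maximalIdeal _).2 h))
  haveI : q.LiesOver p := ⟨by
    change p = (q.comap (algebraMap R S₀))
    change p = ((IsLocalRing.maximalIdeal S).comap (algebraMap S₀ S)).comap (algebraMap R S₀)
    rw [Ideal.comap_comap, ← IsScalarTower.algebraMap_eq, IsLocalRing.maximalIdeal_comap]⟩
  haveI : P.LiesOver q := ⟨by
    change q = ((IsLocalRing.maximalIdeal S').comap (algebraMap C S')).comap (algebraMap S₀ C)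
    rw [Ideal.comap_comap, hcomp, ← Ideal.comap_comap, IsLocalRing.maximalIdeal_comap]⟩
  haveI : P.LiesOver p := Ideal.LiesOver.trans P q p
  letI : Module C M := Module.compHom M (algebraMap C S')
  haveI : IsScalarTower C S' M := IsScalarTower.of_algebraMap_smul (fun _ _ => rfl)
  obtain ⟨M₀, _, _, _, γ, hγ⟩ := exists_fp_model P.primeCompl (B := S') M
  have hAB : (algebraMap S₀ S).comp (algebraMap R S₀) =
      (algebraMap R S).comp (algebraMap R R) := by
    rw [← IsScalarTower.algebraMap_eq]
    ext r
    simp
  exact flat_of_flat_fibre_abs (A := R) (B := S₀) (C := C) (M := M₀) (R := R) (S := S)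
    (S' := S') (Mx := M) p q P hAB hcomp γ inferInstance hfib

end Groth.Agent.Lib.Helper3.EFPTowerC
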