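import Mathlib
import Groth.Prelude.Def_Hensel
import Groth.Prelude.Def_EssEt
import Groth.Agent.Lib.Helper3EssEt
import Groth.Agent.S2778

set_option autoImplicit false
set_option linter.style.haveILetI false

universe u

namespace Groth.Agent.Lib.Helper3.ElemNb

open IsLocalRing Groth.Agent.Lib.Helper3.EssEt

/-- A henselization of a strictly essentially etale local algebra `A'` of `A` is a henselization
of `A`. -/
theorem isHenselization_of_isStrictlyEssentiallyEtale (A A' R : Type u) [CommRing A]
    [IsLocalRing A] [CommRing A'] [IsLocalRing A'] [Algebra A A'] [IsLocalHom (algebraMap A A')]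
    (hA' : EGA4loc.IsStrictlyEssentiallyEtale A A')
    [CommRing R] [IsLocalRing R] [Algebra A' R] [IsLocalHom (algebraMap A' R)]
    [hR : Hensel.IsHenselization A' R] [Algebra A R] [IsScalarTower A A' R] :
    ∃ (_ : IsLocalHom (algebraMap A R)), Hensel.IsHenselization A R := by
  have hcomp : algebraMap A R = (algebraMap A' R).comp (algebraMap A A') :=
    IsScalarTower.algebraMap_eq A A' R
  haveI hloc : IsLocalHom (algebraMap A R) := by
    rw [hcomp]
    exact RingHom.isLocalHom_comp _ _
  refine ⟨hloc, ⟨hR.henselian, ?_⟩⟩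
  intro T _ _ f hf
  haveI := hf
  obtain ⟨ψ', ⟨hψ'loc, hψ'⟩, hψ'uniq⟩ := Groth.Agent.S2778.result A A' hA' T f
  obtain ⟨g, hg, hguniq⟩ := hR.universal T ψ' hψ'loc
  refine ⟨g, ?_, ?_⟩
  · show g.comp (algebraMap A R) = f
    rw [hcomp, ← RingHom.comp_assoc, hg, hψ']
  · intro g' hg'
    have hg'' : g'.comp (algebraMap A R) = f := hg'
    apply hguniq
    apply hψ'uniq
    refine ⟨?_, ?_⟩
    · -- locality
      refine ⟨fun a' ha' => ?_⟩
      by_contra hna'
      have hmem : a' ∈ maximalIdeal A' := hna'
      rw [← map_maximalIdeal A A' hA'.1] at hmem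
      have hle : (maximalIdeal A).map (algebraMap A A') ≤
          (maximalIdeal T).comap (g'.comp (algebraMap A' R)) := by
        rw [Ideal.map_le_iff_le_comap, Ideal.comap_comap, RingHom.comp_assoc, ← hcomp, hg'']
        exact ((local_hom_TFAE f).out 0 3 rfl rfl).mp hf
      exact (hle hmem) ha'
    · rw [RingHom.comp_assoc, ← hcomp, hg'']

end Groth.Agent.Lib.Helper3.ElemNb
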