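import Mathlib
import Groth.Prelude.Def_AlgSpDec
import Groth.Prelude.Def_AlgSpEt
import Groth.Agent.Lib.Helper3ElemNbA
import Groth.Agent.Lib.Helper3EtNbhdB

set_option autoImplicit false
set_option linter.style.haveILetI false
set_option backward.isDefEq.respectTransparency false
open CategoryTheory CategoryTheory.Limits AlgebraicGeometry Opposite
universe u

namespace Groth.Agent.Lib.Helper3.ElemNb

open AlgSp IsLocalRing

section Res

variable {S : Scheme.{u}} {X : Sp S}

/-- a field extension which is an epimorphism of rings and finite is trivial -/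
lemma bijective_of_epi_of_finite {k k' : Type u} [Field k] [Field k'] (φ : k →+* k')
    (hepi : Epi (CommRingCat.ofHom φ)) (hfin : φ.Finite) : Function.Bijective φ := by
  refine ⟨φ.injective, ?_⟩
  exact (RingHom.surjective_iff_epi_and_finite (f := CommRingCat.ofHom φ)).2 ⟨hepi, hfin⟩

/-- a morphism between elementary etale neighbourhoods induces an isomorphism of residue fields -/
theorem residueFieldMap_bijective {x : Points X} {U U' : Over S}
    (a : (yon S).obj U ⟶ X) (a' : (yon S).obj U' ⟶ X) (g : U' ⟶ U) (u' : ↥U'.left)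
    (hg : (yon S).map g ≫ a = a') (ha' : IsElemEtaleNbhd a' u' x) [Etale g.left] :
    Function.Bijective (IsLocalRing.ResidueField.map (g.left.stalkMap u').hom) := by
  let φ := g.left.residueFieldMap u'
  have hw : Spec.map φ ≫ (U.left.fromSpecResidueField (g.left.base u') ≫ U.hom) =
      U'.left.fromSpecResidueField u' ≫ U'.hom := by
    rw [← Category.assoc, Scheme.Hom.SpecMap_residueFieldMap_fromSpecResidueField, Category.assoc,
      Over.w g]
  let ρ : Over.mk (U'.left.fromSpecResidueField u' ≫ U'.hom) ⟶
      Over.mk (U.left.fromSpecResidueField (g.left.base u') ≫ U.hom) := Over.homMk (Spec.map φ) hw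
  have hρ : (FieldPt.ofPt a' u').toHom =
      (yon S).map ρ ≫ (FieldPt.ofPt a (g.left.base u')).toHom := by
    rw [FieldPt.toHom_ofPt, FieldPt.toHom_ofPt, ← hg, ← Category.assoc, ← Category.assoc,
      ← Functor.map_comp, ← Functor.map_comp]
    congr 2
    apply Over.OverMorphism.ext
    exact (Scheme.Hom.SpecMap_residueFieldMap_fromSpecResidueField g.left u').symm
  haveI := ha'.mono
  haveI : Mono ((yon S).map ρ ≫ (FieldPt.ofPt a (g.left.base u')).toHom) := by
    rw [← hρ]; infer_instance
  haveI : Mono ((yon S).map ρ) := mono_of_mono _ (FieldPt.ofPt a (g.left.base u')).toHom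
  haveI : Mono ρ := (yon S).mono_of_mono_map inferInstance
  haveI : Mono (Spec.map φ) := by
    have : Mono ρ.left := Over.mono_left_of_mono ρ
    exact this
  have hepi : Epi φ := by
    have h1 : Mono (Scheme.Spec.map φ.op) := ‹Mono (Spec.map φ)›
    have h2 : Mono φ.op := Scheme.Spec.mono_of_mono_map h1
    exact unop_epi_of_mono φ.op
  letI algOO : Algebra ↥(U.left.presheaf.stalk (g.left.base u')) ↥(U'.left.presheaf.stalk u') :=
    (g.left.stalkMap u').hom.toAlgebra
  haveI : IsLocalHom (algebraMap ↥(U.left.presheaf.stalk (g.left.base u'))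
      ↥(U'.left.presheaf.stalk u')) :=
    inferInstanceAs (IsLocalHom (g.left.stalkMap u').hom)
  have hess := Groth.Agent.Lib.Helper3.EtNbhd.isEssentiallyEtale_stalkMap g.left u'
  haveI := Groth.Agent.Lib.Helper3.EssEt.essFiniteType_of_isEssentiallyEtale _ _ hess
  haveI := Groth.Agent.Lib.Helper3.EssEt.formallyEtale_of_isEssentiallyEtale _ _ hess
  haveI : Algebra.FormallyUnramified ↥(U.left.presheaf.stalk (g.left.base u'))
      ↥(U'.left.presheaf.stalk u') := inferInstance
  have hfin : Module.Finite (ResidueField ↥(U.left.presheaf.stalk (g.left.base u')))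
      (ResidueField ↥(U'.left.presheaf.stalk u')) := inferInstance
  have hfin' : (IsLocalRing.ResidueField.map (g.left.stalkMap u').hom).Finite :=
    RingHom.finite_algebraMap.2 hfin
  exact bijective_of_epi_of_finite _ hepi hfin'


/-- the local ring of an elementary etale neighbourhood is strictly essentially etale over that of
a coarser one -/
theorem isStrictlyEssentiallyEtale_stalkMap {x : Points X} {U U' : Over S}
    (a : (yon S).obj U ⟶ X) (a' : (yon S).obj U' ⟶ X) (g : U' ⟶ U) (u' : ↥U'.left)
    (hg : (yon S).map g ≫ a = a') (ha : RepWith @Etale a)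
    (ha' : IsElemEtaleNbhd a' u' x) :
    letI := (g.left.stalkMap u').hom.toAlgebra
    haveI : IsLocalHom (algebraMap ↥(U.left.presheaf.stalk (g.left.base u'))
      ↥(U'.left.presheaf.stalk u')) := inferInstanceAs (IsLocalHom (g.left.stalkMap u').hom)
    EGA4loc.IsStrictlyEssentiallyEtale ↥(U.left.presheaf.stalk (g.left.base u'))
      ↥(U'.left.presheaf.stalk u') := by
  haveI : Etale g.left :=
    EtOver.etale_left (EtOver.homMk (E := EtOver.mk a' ha'.etale) (E' := EtOver.mk a ha) g hg)
  exact ⟨Groth.Agent.Lib.Helper3.EtNbhd.isEssentiallyEtale_stalkMap g.left u',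
    residueFieldMap_bijective a a' g u' hg ha'⟩

end Res

end Groth.Agent.Lib.Helper3.ElemNb
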