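import Mathlib
import Groth.Prelude.Def_AlgSpDec
import Groth.Prelude.Def_AlgSpEt
import Groth.Prelude.Def_Hens2
import Groth.Agent.Lib.Helper3ElemNbB
import Groth.Agent.Lib.Helper9SpPoint8

set_option autoImplicit false
set_option linter.style.haveILetI false
set_option backward.isDefEq.respectTransparency false
open CategoryTheory CategoryTheory.Limits AlgebraicGeometry Opposite
universe u

namespace Groth.Agent.Lib.Helper3.ElemNb

open AlgSp IsLocalRing Groth.Agent.Lib.Helper9.SpPoint

section CF

variable {S : Scheme.{u}} {X : Sp S}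

/-- the spectrum of the residue field of a point, as a scheme over `S` -/
noncomputable abbrev ptOver (U : Over S) (u : ↥U.left) : Over S :=
  Over.mk (U.left.fromSpecResidueField u ≫ U.hom)

/-- the canonical morphism from the spectrum of the residue field -/
noncomputable abbrev ptHom (U : Over S) (u : ↥U.left) : ptOver U u ⟶ U :=
  Over.homMk (U.left.fromSpecResidueField u) rfl

instance (U : Over S) (u : ↥U.left) : Mono (ptHom U u) := by
  have hmono : Mono (U.left.fromSpecResidueField u) := inferInstance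
  exact @Over.mono_of_mono_left _ _ _ _ _ _ hmono

/-- the morphism of residue field spectra induced by a morphism over `S` -/
noncomputable def resHom {W U : Over S} (g : W ⟶ U) (z : ↥W.left) :
    ptOver W z ⟶ ptOver U (g.left.base z) :=
  Over.homMk (Spec.map (g.left.residueFieldMap z)) (by
    change Spec.map (g.left.residueFieldMap z) ≫
      (U.left.fromSpecResidueField (g.left.base z) ≫ U.hom) = W.left.fromSpecResidueField z ≫ W.hom
    rw [← Category.assoc, Scheme.Hom.SpecMap_residueFieldMap_fromSpecResidueField, Category.assoc,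
      Over.w g])

lemma resHom_ptHom {W U : Over S} (g : W ⟶ U) (z : ↥W.left) :
    resHom g z ≫ ptHom U (g.left.base z) = ptHom W z ≫ g := by
  apply Over.OverMorphism.ext
  exact Scheme.Hom.SpecMap_residueFieldMap_fromSpecResidueField g.left z

lemma toHom_ofPt_comp {W U : Over S} (g : W ⟶ U) (a : (yon S).obj U ⟶ X) (z : ↥W.left) :
    (FieldPt.ofPt ((yon S).map g ≫ a) z).toHom =
      (yon S).map (resHom g z) ≫ (FieldPt.ofPt a (g.left.base z)).toHom := by
  rw [FieldPt.toHom_ofPt, FieldPt.toHom_ofPt, ← Category.assoc, ← Category.assoc,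
    ← Functor.map_comp, ← Functor.map_comp]
  congr 2
  exact (resHom_ptHom g z).symm

/-- two elementary etale neighbourhoods of a point have a common refinement -/
theorem exists_common_elem {x : Points X} {U U₀ : Over S} (a : (yon S).obj U ⟶ X)
    (a₀ : (yon S).obj U₀ ⟶ X) (u : ↥U.left) (u₀ : ↥U₀.left)
    (h : IsElemEtaleNbhd a u x) (h₀ : IsElemEtaleNbhd a₀ u₀ x) :
    ∃ (W : Over S) (aW : (yon S).obj W ⟶ X) (w : ↥W.left) (g : W ⟶ U) (g₀ : W ⟶ U₀),
      IsElemEtaleNbhd aW w x ∧ (yon S).map g ≫ a = aW ∧ (yon S).map g₀ ≫ a₀ = aW ∧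
        g.left.base w = u ∧ g₀.left.base w = u₀ := by
  let E : EtOver X := EtOver.mk a h.etale
  let E₀ : EtOver X := EtOver.mk a₀ h₀.etale
  obtain ⟨z, hz1, hz2⟩ := exists_common_refinement E E₀ u u₀ (h.ofPt_eq.trans h₀.ofPt_eq.symm)
  let W : Over S := (EtOver.prodObj E E₀).obj.left
  let aW : (yon S).obj W ⟶ X := (EtOver.prodObj E E₀).obj.hom
  let g : W ⟶ U := (EtOver.prodFst E E₀).hom.left
  let g₀ : W ⟶ U₀ := (EtOver.prodSnd E E₀).hom.left
  have hg : (yon S).map g ≫ a = aW := EtOver.w (EtOver.prodFst E E₀)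
  have hg₀ : (yon S).map g₀ ≫ a₀ = aW := EtOver.w (EtOver.prodSnd E E₀)
  have hz1' : g.left.base z = u := hz1
  have hz2' : g₀.left.base z = u₀ := hz2
  refine ⟨W, aW, z, g, g₀, ⟨(EtOver.prodObj E E₀).property, ?_, ?_⟩, hg, hg₀, hz1', hz2'⟩
  · rw [← hg, ofPt_yon_map_comp, hz1']
    exact h.ofPt_eq
  · -- the monomorphism condition
    haveI hm : Mono (FieldPt.ofPt a (g.left.base z)).toHom := by
      rw [hz1']; exact h.mono
    haveI hm₀ : Mono (FieldPt.ofPt a₀ (g₀.left.base z)).toHom := by
      rw [hz2']; exact h₀.mono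
    have hmonoρ : Mono (resHom g z) := by
      refine ⟨fun {T} f₁ f₂ hf => ?_⟩
      have key : ∀ f : T ⟶ ptOver W z,
          (yon S).map (f ≫ resHom g₀ z) ≫ (FieldPt.ofPt a₀ (g₀.left.base z)).toHom =
            (yon S).map (f ≫ resHom g z) ≫ (FieldPt.ofPt a (g.left.base z)).toHom := by
        intro f
        rw [Functor.map_comp, Category.assoc, ← toHom_ofPt_comp, hg₀, ← hg, toHom_ofPt_comp,
          ← Category.assoc, ← Functor.map_comp]
      rw [← cancel_mono (ptHom W z)]
      have h1 : (f₁ ≫ ptHom W z) ≫ g = (f₂ ≫ ptHom W z) ≫ g := by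
        rw [Category.assoc, Category.assoc, ← resHom_ptHom, ← Category.assoc, ← Category.assoc, hf]
      have h2 : (f₁ ≫ ptHom W z) ≫ g₀ = (f₂ ≫ ptHom W z) ≫ g₀ := by
        rw [Category.assoc, Category.assoc, ← resHom_ptHom, ← Category.assoc, ← Category.assoc]
        congr 1
        apply (yon S).map_injective
        rw [← cancel_mono (FieldPt.ofPt a₀ (g₀.left.base z)).toHom, key f₁, key f₂, hf]
      exact Functor.relativelyRepresentable.hom_ext' E₀.property.1 h2 h1
    have heq : (FieldPt.ofPt aW z).toHom =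
        (yon S).map (resHom g z) ≫ (FieldPt.ofPt a (g.left.base z)).toHom := by
      rw [← toHom_ofPt_comp, hg]
    rw [heq]
    haveI : Mono ((yon S).map (resHom g z)) := (yon S).map_mono _
    exact mono_comp _ _


/-- an elementary etale neighbourhood (in the sense of schemes) of an elementary etale
neighbourhood of a point of `X` is an elementary etale neighbourhood of that point -/
theorem isElemEtaleNbhd_comp {x : Points X} {U : Over S} (a : (yon S).obj U ⟶ X) (u : ↥U.left)
    (h : IsElemEtaleNbhd a u x) {V : Scheme.{u}} (k : V ⟶ U.left) (v : V)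
    (hk : Hens2.IsEtaleNbhd k v u) :
    IsElemEtaleNbhd (U := Over.mk (k ≫ U.hom))
      ((yon S).map (Over.homMk k rfl : Over.mk (k ≫ U.hom) ⟶ U) ≫ a) v x := by
  let g : Over.mk (k ≫ U.hom) ⟶ U := Over.homMk k rfl
  have hkv : g.left.base v = u := hk.base_eq
  refine ⟨?_, ?_, ?_⟩
  · exact (repWith_isMultiplicative (S := S) @Etale).comp_mem _ _
      ((repWith_yon_map_iff _ _).2 hk.etale) h.etale
  · rw [ofPt_yon_map_comp, hkv]
    exact h.ofPt_eq
  · rw [toHom_ofPt_comp]
    haveI hm : Mono (FieldPt.ofPt a (g.left.base v)).toHom := by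
      rw [hkv]; exact h.mono
    haveI : IsIso (k.residueFieldMap v) :=
      (ConcreteCategory.isIso_iff_bijective (k.residueFieldMap v)).2 hk.residue_bijective
    haveI : IsIso (Spec.map (k.residueFieldMap v)) := inferInstance
    haveI : Mono (resHom g v) := by
      have : Mono (resHom g v).left := by
        change Mono (Spec.map (k.residueFieldMap v))
        infer_instance
      exact Over.mono_of_mono_left _
    haveI : Mono ((yon S).map (resHom g v)) := (yon S).map_mono _
    exact mono_comp _ _

end CF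

end Groth.Agent.Lib.Helper3.ElemNb
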