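import Mathlib
import Groth.Agent.Lib.Helper3ElemNbC
import Groth.Agent.Lib.Helper3HzD
import Groth.Agent.S9237

set_option autoImplicit false
set_option linter.style.haveILetI false
set_option backward.isDefEq.respectTransparency false
open CategoryTheory CategoryTheory.Limits AlgebraicGeometry Opposite
universe u

namespace Groth.Agent.Lib.Helper3.ElemNb

open AlgSp IsLocalRing Groth.Agent.Lib.Helper3

section NB

variable {S : Scheme.{u}} {X : Sp S}

/-- the number of branches does not change along a morphism of elementary etale neighbourhoods -/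
theorem numBranches_eq_of_hom {x : Points X} {U W : Over S} (a : (yon S).obj U ⟶ X)
    (aW : (yon S).obj W ⟶ X) (g : W ⟶ U) (w : ↥W.left) (hg : (yon S).map g ≫ a = aW)
    (ha : RepWith @Etale a) (hW : IsElemEtaleNbhd aW w x) :
    Brnch.numBranches ↥(U.left.presheaf.stalk (g.left.base w)) =
      Brnch.numBranches ↥(W.left.presheaf.stalk w) := by
  letI algOO : Algebra ↥(U.left.presheaf.stalk (g.left.base w)) ↥(W.left.presheaf.stalk w) :=
    (g.left.stalkMap w).hom.toAlgebra
  haveI : IsLocalHom (algebraMap ↥(U.left.presheaf.stalk (g.left.base w))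
      ↥(W.left.presheaf.stalk w)) := inferInstanceAs (IsLocalHom (g.left.stalkMap w).hom)
  have hstrict := isStrictlyEssentiallyEtale_stalkMap a aW g w hg ha hW
  letI algOR : Algebra ↥(U.left.presheaf.stalk (g.left.base w)) (Hz.Rh ↥(W.left.presheaf.stalk w)) :=
    ((algebraMap ↥(W.left.presheaf.stalk w) (Hz.Rh ↥(W.left.presheaf.stalk w))).comp
      (g.left.stalkMap w).hom).toAlgebra
  haveI : IsScalarTower ↥(U.left.presheaf.stalk (g.left.base w)) ↥(W.left.presheaf.stalk w)
      (Hz.Rh ↥(W.left.presheaf.stalk w)) := IsScalarTower.of_algebraMap_eq (fun _ => rfl)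
  obtain ⟨hloc, hH⟩ := isHenselization_of_isStrictlyEssentiallyEtale
    ↥(U.left.presheaf.stalk (g.left.base w)) ↥(W.left.presheaf.stalk w)
    (Hz.Rh ↥(W.left.presheaf.stalk w)) hstrict
  rw [← Groth.Agent.S9237.result ↥(U.left.presheaf.stalk (g.left.base w))
      (Hz.Rh ↥(W.left.presheaf.stalk w)),
    ← Groth.Agent.S9237.result ↥(W.left.presheaf.stalk w) (Hz.Rh ↥(W.left.presheaf.stalk w))]

/-- all elementary etale neighbourhoods of a point have the same number of branches -/
theorem numBranches_eq {x : Points X} {U U₀ : Over S} (a : (yon S).obj U ⟶ X)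
    (a₀ : (yon S).obj U₀ ⟶ X) (u : ↥U.left) (u₀ : ↥U₀.left)
    (h : IsElemEtaleNbhd a u x) (h₀ : IsElemEtaleNbhd a₀ u₀ x) :
    Brnch.numBranches ↥(U.left.presheaf.stalk u) = Brnch.numBranches ↥(U₀.left.presheaf.stalk u₀) := by
  obtain ⟨W, aW, w, g, g₀, hW, hg, hg₀, rfl, rfl⟩ := exists_common_elem a a₀ u u₀ h h₀
  rw [numBranches_eq_of_hom a aW g w hg h.etale hW, numBranches_eq_of_hom a₀ aW g₀ w hg₀ h₀.etale hW]

end NB

end Groth.Agent.Lib.Helper3.ElemNb
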