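import Mathlib
import Groth.Prelude.Def_NonAbH2
import Groth.Agent.Lib.Helper12Torsor
import Groth.Agent.Lib.Helper12Descent
import Groth.Agent.Lib.Helper8Grp
import Groth.Prelude.Def_Red

set_option autoImplicit false
set_option linter.style.haveILetI false
set_option linter.unusedSectionVars false

universe u

open CategoryTheory MonoidalCategory CartesianMonoidalCategory MonObj GrpObj AlgebraicGeometry Limits

namespace Groth.Agent.Lib.Helper3.EtTorsA

-- the residue field extensions of an unramified morphism locally of finite type are integral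
theorem isIntegral_residueFieldMap {X Y : Scheme.{u}} (f : X ⟶ Y) [FormallyUnramified f]
    [LocallyOfFiniteType f] (x : X) : (f.residueFieldMap x).hom.IsIntegral := by
  letI : Algebra (Y.residueField (f.base x)) (X.residueField x) :=
    (f.residueFieldMap x).hom.toAlgebra
  haveI : Algebra.IsSeparable (Y.residueField (f.base x)) (X.residueField x) := inferInstance
  haveI : Algebra.IsIntegral (Y.residueField (f.base x)) (X.residueField x) :=
    ⟨Algebra.IsSeparable.isIntegral _⟩
  exact algebraMap_isIntegral_iff.mpr inferInstance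

-- the canonical morphism from the spectrum of the residue field of the spectrum of a field
theorem isIntegralHom_fromSpecResidueField_field (k : Type u) [Field k]
    (y : Spec (CommRingCat.of k)) :
    IsIntegralHom ((Spec (CommRingCat.of k)).fromSpecResidueField y) := by
  rw [← Scheme.Spec.map_residueFieldIso_inv_eq_fromSpecResidueField]
  haveI : y.asIdeal.IsMaximal := by
    have h0 : y.asIdeal = ⊥ := by
      apply le_antisymm _ bot_le
      intro a ha
      by_contra hne
      exact y.isPrime.ne_top ((Ideal.eq_top_iff_one _).mpr (by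
        have := y.asIdeal.mul_mem_left a⁻¹ ha
        rwa [inv_mul_cancel₀ hne] at this))
    rw [h0]; exact Ideal.bot_isMaximal
  haveI : IsIntegralHom (Spec.map (CommRingCat.ofHom
      (algebraMap k y.asIdeal.ResidueField))) := by
    rw [IsIntegralHom.SpecMap_iff]
    exact RingHom.isIntegral_of_surjective _ (Ideal.algebraMap_residueField_surjective _)
  infer_instance

-- existence part of the valuative criterion for unramified schemes over a field
theorem existence_of_unramified_field (k : Type u) [Field k] {X : Scheme.{u}}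
    (f : X ⟶ Spec (CommRingCat.of k)) [FormallyUnramified f] [LocallyOfFiniteType f] :
    ValuativeCriterion.Existence f := by
  intro Sq
  obtain ⟨g, hg⟩ : ∃ g : X, g = Sq.i₁ (IsLocalRing.closedPoint Sq.K) := ⟨_, rfl⟩
  obtain ⟨a, ha⟩ : ∃ a : X.residueField g ⟶ .of Sq.K,
      Spec.map a ≫ X.fromSpecResidueField g = Sq.i₁ := by
    subst hg
    exact ⟨_, Scheme.descResidueField_stalkClosedPointTo_fromSpecResidueField _ _ _⟩
  obtain ⟨f', hf'⟩ : ∃ f' : Spec (X.residueField g) ⟶ Spec (.of k),
      f' = X.fromSpecResidueField g ≫ f := ⟨_, rfl⟩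
  have hint : IsIntegralHom f' := by
    rw [hf', ← Scheme.Hom.SpecMap_residueFieldMap_fromSpecResidueField]
    haveI : IsIntegralHom (Spec.map (f.residueFieldMap g)) := by
      rw [IsIntegralHom.SpecMap_iff]
      exact isIntegral_residueFieldMap f g
    haveI := isIntegralHom_fromSpecResidueField_field k (f g)
    infer_instance
  have hex : ValuativeCriterion.Existence f' := by
    have h1 : UniversallyClosed f' := inferInstance
    rw [UniversallyClosed.eq_valuativeCriterion] at h1
    exact h1.1
  let Sq' : ValuativeCommSq f' :=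
    { R := Sq.R
      K := Sq.K
      i₁ := Spec.map a
      i₂ := Sq.i₂
      commSq := ⟨by rw [hf', ← Category.assoc, ha]; exact Sq.commSq.w⟩ }
  obtain ⟨l, hl₁, hl₂⟩ := (hex Sq').exists_lift
  refine ⟨⟨⟨l ≫ X.fromSpecResidueField g, ?_, ?_⟩⟩⟩
  · rw [← Category.assoc]
    exact (congrArg (fun t => t ≫ X.fromSpecResidueField g) hl₁).trans ha
  · rw [Category.assoc, ← hf']
    exact hl₂

-- specializing maps descend along flat surjective base changes
theorem specializingMap_of_flat_cover {X S W : Scheme.{u}} (p : X ⟶ S) (c : W ⟶ S) [Flat c]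
    [Surjective c] (h : SpecializingMap (pullback.snd p c)) : SpecializingMap p := by
  intro x y hxy
  obtain ⟨w', hw'⟩ := c.surjective y
  have hxy' : p x ⤳ c w' := by rw [hw']; exact hxy
  obtain ⟨w, hw, hcw⟩ := Flat.generalizingMap c hxy'
  obtain ⟨z, hz1, hz2⟩ := Scheme.Pullback.exists_preimage_pullback (f := p) (g := c) x w hcw.symm
  have hz2' : pullback.snd p c z ⤳ w' := by rw [hz2]; exact hw
  obtain ⟨z', hzz', hz'⟩ := h hz2'
  refine ⟨pullback.fst p c z', ?_, ?_⟩
  · have h1 : pullback.fst p c z ⤳ pullback.fst p c z' :=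
      Specializes.map hzz' (pullback.fst p c).continuous
    rw [hz1] at h1
    exact h1
  · rw [← Scheme.Hom.comp_apply, pullback.condition, Scheme.Hom.comp_apply, hz', hw']

-- a single fppf covering trivialising a locally trivial scheme
theorem exists_cover_of_isLocallyTrivialFor {S : Scheme.{u}} (X : Over S)
    (h : NonAbH1.IsLocallyTrivialFor Scheme.fppfPrecoverage X) :
    ∃ (W : Scheme.{u}) (c : W ⟶ S), Flat c ∧ LocallyOfFinitePresentation c ∧ Surjective c ∧
      NonAbH1.HasSectionOver X c := by
  obtain ⟨R, hR, hsec⟩ := h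
  have hsurj := (Presieve.mem_comap_jointlySurjectivePrecoverage_iff Scheme.forget).1 hR.1
  choose W g hg hx using hsurj
  have hgP : ∀ x, (@Flat ⊓ @LocallyOfFinitePresentation : MorphismProperty Scheme.{u}) (g x) :=
    fun x => hR.2 (hg x)
  haveI : ∀ x, Flat (g x) := fun x => (hgP x).1
  haveI : ∀ x, LocallyOfFinitePresentation (g x) := fun x => (hgP x).2
  choose s hs using fun x => hsec (g x) (hg x)
  have hflat : Flat (Sigma.desc g) :=
    IsZariskiLocalAtSource.sigmaDesc (P := @Flat) (fun x => inferInstance)
  have hlfp : LocallyOfFinitePresentation (Sigma.desc g) :=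
    IsZariskiLocalAtSource.sigmaDesc (P := @LocallyOfFinitePresentation) (fun x => inferInstance)
  have hsj : Surjective (Sigma.desc g) := by
    refine ⟨fun x => ?_⟩
    obtain ⟨w, hw⟩ := hx x
    refine ⟨(Sigma.ι W x) w, ?_⟩
    rw [← Scheme.Hom.comp_apply, Sigma.ι_desc]
    exact hw
  refine ⟨_, Sigma.desc g, hflat, hlfp, hsj, Sigma.desc s, ?_⟩
  apply Sigma.hom_ext
  intro x
  rw [Sigma.ι_desc_assoc, Sigma.ι_desc]
  exact hs x

section torsor

variable {S : Scheme.{u}} {G X : Over S} [GrpObj G] (a : AlgGrp.Action G X)

-- a property of the group, stable under base change and descending along fppf coverings,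
-- passes to its torsors
theorem prop_of_isTorsorFor (Pr : MorphismProperty Scheme.{u}) [Pr.IsStableUnderBaseChange]
    [Pr.DescendsAlong (@Surjective ⊓ @Flat ⊓ @LocallyOfFinitePresentation)]
    (h : NonAbH1.IsTorsorFor Scheme.fppfPrecoverage a) (hG : Pr G.hom) : Pr X.hom := by
  obtain ⟨W, c, hc1, hc2, hc3, hsec⟩ := exists_cover_of_isLocallyTrivialFor X h.2
  have h1 : Pr (pullback.snd X.hom c) :=
    Groth.Agent.Lib.Helper12.pullback_snd_of_hasSectionOver a h.1 hG c hsec
  exact MorphismProperty.of_pullback_snd_of_descendsAlong (P := Pr)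
    (Q := @Surjective ⊓ @Flat ⊓ @LocallyOfFinitePresentation) (f := X.hom) (g := c)
    ⟨⟨hc3, hc1⟩, hc2⟩ h1

theorem etale_of_isTorsorFor (h : NonAbH1.IsTorsorFor Scheme.fppfPrecoverage a)
    [Etale G.hom] : Etale X.hom :=
  prop_of_isTorsorFor a @Etale h inferInstance

theorem isSeparated_of_isTorsorFor (h : NonAbH1.IsTorsorFor Scheme.fppfPrecoverage a)
    [IsSeparated G.hom] : IsSeparated X.hom := by
  haveI := Groth.Agent.Lib.Helper12.descendsAlong_isSeparated.{u}
  exact prop_of_isTorsorFor a @IsSeparated h inferInstance

theorem specializingMap_of_isTorsorFor (h : NonAbH1.IsTorsorFor Scheme.fppfPrecoverage a)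
    (hG : ValuativeCriterion.Existence G.hom) : SpecializingMap X.hom := by
  obtain ⟨W, c, hc1, hc2, hc3, hsec⟩ := exists_cover_of_isLocallyTrivialFor X h.2
  have h1 : ValuativeCriterion.Existence (pullback.snd X.hom c) :=
    Groth.Agent.Lib.Helper12.pullback_snd_of_hasSectionOver a h.1 hG c hsec
  exact specializingMap_of_flat_cover X.hom c
    (ValuativeCriterion.Existence.specializingMap _ h1)

end torsor

-- the three properties for torsors under the base change of an etale group over a field
theorem props_of_torsor_etale_field (k : Type u) [Field k]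
    (G : Over (Spec (CommRingCat.of k))) [GrpObj G] [Etale G.hom]
    {S : Scheme.{u}} (s : S ⟶ Spec (CommRingCat.of k)) {X : Over S}
    (a : AlgGrp.Action (Red.bc s G) X)
    (h : NonAbH1.IsTorsorFor Scheme.fppfPrecoverage a) :
    Etale X.hom ∧ IsSeparated X.hom ∧ SpecializingMap X.hom := by
  haveI : IsSeparated G.hom := Groth.Agent.Lib.Helper8.isSeparated_of_discrete G
  have hex : ValuativeCriterion.Existence G.hom := existence_of_unramified_field k G.hom
  haveI : Etale (Red.bc s G).hom := by
    change Etale (pullback.snd G.hom s)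
    infer_instance
  haveI : IsSeparated (Red.bc s G).hom := by
    change IsSeparated (pullback.snd G.hom s)
    infer_instance
  have hex' : ValuativeCriterion.Existence (Red.bc s G).hom := by
    change ValuativeCriterion.Existence (pullback.snd G.hom s)
    exact MorphismProperty.pullback_snd _ _ hex
  exact ⟨etale_of_isTorsorFor a h, isSeparated_of_isTorsorFor a h,
    specializingMap_of_isTorsorFor a h hex'⟩

end Groth.Agent.Lib.Helper3.EtTorsA
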