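import Mathlib
import Groth.Agent.Lib.Helper3TwcC

set_option autoImplicit false
set_option linter.style.haveILetI false
set_option linter.unusedSectionVars false

universe u

open CategoryTheory AlgebraicGeometry Limits

namespace Groth.Agent.Lib.Helper3.EtTorsB

open Groth.Agent.Lib.Helper3.TwcA Groth.Agent.Lib.Helper3.TwcB Groth.Agent.Lib.Helper3.TwcC
  Groth.Agent.Lib.Helper3.IrrTop

-- an etale morphism with surjective diagonal is an open immersion
theorem isOpenImmersion_of_etale_of_diagonal_surjective {A B : Scheme.{u}} (f : A ⟶ B) [Etale f]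
    (hd : Surjective (pullback.diagonal f)) : IsOpenImmersion f := by
  haveI : IsOpenImmersion (pullback.diagonal f) := inferInstance
  haveI : IsIso (pullback.diagonal f) :=
    (isIso_iff_isOpenImmersion_and_surjective _).mpr ⟨inferInstance, hd⟩
  have hfst : pullback.diagonal f ≫ pullback.fst f f = 𝟙 A := pullback.diagonal_fst f
  have hsnd : pullback.diagonal f ≫ pullback.snd f f = 𝟙 A := pullback.diagonal_snd f
  have heq : pullback.fst f f = pullback.snd f f := by
    rw [← cancel_epi (pullback.diagonal f), hfst, hsnd]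
  haveI : Mono f := by
    refine ⟨fun {W} a b hab => ?_⟩
    have ha : pullback.lift a b hab ≫ pullback.fst f f = a := pullback.lift_fst _ _ _
    have hb : pullback.lift a b hab ≫ pullback.snd f f = b := pullback.lift_snd _ _ _
    exact ha.symm.trans ((congrArg (fun φ => pullback.lift a b hab ≫ φ) heq).trans hb)
  exact IsOpenImmersion.of_flat_of_mono f

section aux

variable {X S : Scheme.{u}} (p : X ⟶ S) [IrreducibleSpace S]
  (hS : ∀ s : S, CAlg2.IsGeomUnibranch (S.presheaf.stalk s))

include hS

-- a component of `X` whose generic point has trivial residue field extension maps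
-- isomorphically onto `S`, for `p` etale, separated and specializing
theorem isIso_component [Etale p] [IsSeparated p] (hsp : SpecializingMap p) (l : X)
    (hl : p l = genericPoint S) (U : X.Opens) (hU : (U : Set X) = closure {l})
    (hbij : Function.Bijective (p.residueFieldMap l).hom) : IsIso (U.ι ≫ p) := by
  have hyp := hyp_of_etale p hS
  have hlU : l ∈ U := by
    change l ∈ (U : Set X)
    rw [hU]; exact subset_closure rfl
  obtain ⟨q, hq⟩ : ∃ q : (U : Scheme.{u}) ⟶ S, q = U.ι ≫ p := ⟨_, rfl⟩
  haveI : Etale q := by rw [hq]; infer_instance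
  haveI : IsSeparated q := by rw [hq]; infer_instance
  obtain ⟨lU, hlU'⟩ : ∃ lU : (U : Scheme.{u}), U.ι lU = l := ⟨⟨l, hlU⟩, rfl⟩
  have hqlU : q lU = genericPoint S := by
    rw [hq, Scheme.Hom.comp_apply, hlU']; exact hl
  have hgen : ∀ u : (U : Scheme.{u}), q u = genericPoint S → u = lU := by
    intro u hu
    apply U.ι.injective
    rw [hlU']
    have hxU : U.ι u ∈ closure ({l} : Set X) := by
      rw [← hU]; exact u.2
    have hpx : p (U.ι u) = genericPoint S := by
      rw [hq, Scheme.Hom.comp_apply] at hu; exact hu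
    exact (hyp.eq_of_specializes hl hpx (specializes_iff_mem_closure.mpr hxU)).symm
  have hsurj : Surjective q := by
    refine ⟨fun s => ?_⟩
    have h1 : p l ⤳ s := by
      rw [hl]; exact (genericPoint_spec S).specializes (Set.mem_univ _)
    obtain ⟨x, hlx, hpx⟩ := hsp h1
    have hxU : x ∈ U := by
      change x ∈ (U : Set X)
      rw [hU]; exact specializes_iff_mem_closure.mp hlx
    refine ⟨⟨x, hxU⟩, ?_⟩
    rw [hq, Scheme.Hom.comp_apply]; exact hpx
  have hbijq : Function.Bijective (q.residueFieldMap lU).hom := by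
    subst hq
    apply residueFieldMap_bijective_comp
    · exact ConcreteCategory.bijective_of_isIso _
    · exact residueFieldMap_bijective_of_eq p hlU'.symm hbij
  obtain ⟨ζ, hζ1, hζ2⟩ := Scheme.Pullback.exists_preimage_pullback (f := q) (g := q) lU lU rfl
  have huniq : ∀ z : ↑(pullback q q), pullback.fst q q z = lU → pullback.snd q q z = lU →
      z = ζ := by
    intro z h1 h2
    refine eq_of_fst_eq_of_snd_eq q q z ζ (h1.trans hζ1.symm) (h2.trans hζ2.symm) ?_
    rw [hζ1]; exact hbijq
  have hall : ∀ z : ↑(pullback q q), ζ ⤳ z := by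
    intro z
    have h1 : lU ⤳ pullback.snd q q z := by
      rw [← U.ι.isEmbedding.isInducing.specializes_iff, hlU']
      apply specializes_iff_mem_closure.mpr
      rw [← hU]
      exact (pullback.snd q q z).2
    obtain ⟨z', hz'z, hz'⟩ := Flat.generalizingMap (pullback.snd q q) h1
    have h2 : pullback.fst q q z' = lU := by
      apply hgen
      rw [← Scheme.Hom.comp_apply, pullback.condition, Scheme.Hom.comp_apply, hz', hqlU]
    rw [← huniq z' h2 hz']
    exact hz'z
  have hd_closed : IsClosed (Set.range (pullback.diagonal q)) :=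
    (pullback.diagonal q).isClosedEmbedding.isClosed_range
  have hζd : ζ ∈ Set.range (pullback.diagonal q) := by
    refine ⟨lU, ?_⟩
    apply huniq
    · rw [← Scheme.Hom.comp_apply, pullback.diagonal_fst]; rfl
    · rw [← Scheme.Hom.comp_apply, pullback.diagonal_snd]; rfl
  have hdsurj : Surjective (pullback.diagonal q) := by
    refine ⟨fun z => ?_⟩
    have h1 : z ∈ closure ({ζ} : Set ↑(pullback q q)) := specializes_iff_mem_closure.mp (hall z)
    exact (hd_closed.closure_subset_iff.mpr (Set.singleton_subset_iff.mpr hζd)) h1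
  haveI : IsOpenImmersion q := isOpenImmersion_of_etale_of_diagonal_surjective q hdsurj
  rw [← hq]
  exact (isIso_iff_isOpenImmersion_and_surjective _).mpr ⟨inferInstance, hsurj⟩

-- sections are determined by their value at the generic point
theorem section_ext [Etale p] [IsSeparated p] (hsp : SpecializingMap p) (σ₁ σ₂ : S ⟶ X)
    (h₁ : σ₁ ≫ p = 𝟙 S) (h₂ : σ₂ ≫ p = 𝟙 S)
    (h : σ₁ (genericPoint S) = σ₂ (genericPoint S)) : σ₁ = σ₂ := by
  have hyp := hyp_of_etale p hS
  have hl : p (σ₁ (genericPoint S)) = genericPoint S := by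
    rw [← Scheme.Hom.comp_apply, h₁]; rfl
  obtain ⟨U, hU⟩ : ∃ U : X.Opens, (U : Set X) = closure ({σ₁ (genericPoint S)} : Set X) :=
    ⟨⟨closure {σ₁ (genericPoint S)}, hyp.isOpen_component (hyp.closure_mem hl)⟩, rfl⟩
  have hiso := isIso_component p hS hsp _ hl U hU
    (residueFieldMap_bijective_of_section p σ₁ h₁ _)
  have hr : ∀ σ : S ⟶ X, σ (genericPoint S) = σ₁ (genericPoint S) →
      Set.range σ ⊆ Set.range U.ι := by
    intro σ hσ
    rw [Scheme.Opens.range_ι, hU]
    rintro _ ⟨s, rfl⟩
    have h1 : genericPoint S ⤳ s := (genericPoint_spec S).specializes (Set.mem_univ _)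
    have h2 := h1.map σ.continuous
    rw [hσ] at h2
    exact specializes_iff_mem_closure.mp h2
  have hr₁ := hr σ₁ rfl
  have hr₂ := hr σ₂ h.symm
  have e₁ : IsOpenImmersion.lift U.ι σ₁ hr₁ ≫ (U.ι ≫ p) = 𝟙 S := by
    rw [← Category.assoc, IsOpenImmersion.lift_fac, h₁]
  have e₂ : IsOpenImmersion.lift U.ι σ₂ hr₂ ≫ (U.ι ≫ p) = 𝟙 S := by
    rw [← Category.assoc, IsOpenImmersion.lift_fac, h₂]
  have e : IsOpenImmersion.lift U.ι σ₁ hr₁ = IsOpenImmersion.lift U.ι σ₂ hr₂ := by
    rw [← cancel_mono (U.ι ≫ p), e₁, e₂]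
  rw [← IsOpenImmersion.lift_fac U.ι σ₁ hr₁, ← IsOpenImmersion.lift_fac U.ι σ₂ hr₂, e]

-- a point of the generic fibre with values in the residue field of the generic point
-- extends to a section
theorem exists_section [Etale p] [IsSeparated p] (hsp : SpecializingMap p)
    (τ : Spec (S.residueField (genericPoint S)) ⟶ X)
    (hτ : τ ≫ p = S.fromSpecResidueField (genericPoint S)) :
    ∃ σ : S ⟶ X, σ ≫ p = 𝟙 S ∧ S.fromSpecResidueField (genericPoint S) ≫ σ = τ := by
  have hyp := hyp_of_etale p hS
  obtain ⟨l, hldef⟩ : ∃ l : X,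
      l = τ (IsLocalRing.closedPoint (S.residueField (genericPoint S))) := ⟨_, rfl⟩
  have hl : p l = genericPoint S := by
    rw [hldef, ← Scheme.Hom.comp_apply, hτ, Scheme.fromSpecResidueField_apply]
  have hbij : Function.Bijective (p.residueFieldMap l).hom := by
    rw [hldef]
    refine residueFieldMap_bijective_of_point (K := S.residueField (genericPoint S)) τ p
      (genericPoint S) (𝟙 _) Function.bijective_id ?_
    rw [hτ, Spec.map_id]
    exact (Category.id_comp _).symm
  obtain ⟨U, hU⟩ : ∃ U : X.Opens, (U : Set X) = closure ({l} : Set X) :=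
    ⟨⟨closure {l}, hyp.isOpen_component (hyp.closure_mem hl)⟩, rfl⟩
  have hiso := isIso_component p hS hsp l hl U hU hbij
  have hrτ : Set.range τ ⊆ Set.range U.ι := by
    rw [Scheme.Opens.range_ι, hU]
    rintro _ ⟨pt, rfl⟩
    have : pt = IsLocalRing.closedPoint (S.residueField (genericPoint S)) :=
      Subsingleton.elim _ _
    rw [this, ← hldef]
    exact subset_closure rfl
  refine ⟨inv (U.ι ≫ p) ≫ U.ι, ?_, ?_⟩
  · rw [Category.assoc, IsIso.inv_hom_id]
  · have e1 : IsOpenImmersion.lift U.ι τ hrτ ≫ (U.ι ≫ p) =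
        S.fromSpecResidueField (genericPoint S) := by
      rw [← Category.assoc, IsOpenImmersion.lift_fac, hτ]
    have e2 : IsOpenImmersion.lift U.ι τ hrτ =
        S.fromSpecResidueField (genericPoint S) ≫ inv (U.ι ≫ p) := by
      rw [← e1, Category.assoc, IsIso.hom_inv_id, Category.comp_id]
    rw [← Category.assoc, ← e2, IsOpenImmersion.lift_fac]

end aux

end Groth.Agent.Lib.Helper3.EtTorsB
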