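import Mathlib
import Groth.Prelude.Def_NonAbH2
import Groth.Prelude.Def_TwC
import Groth.Agent.Lib.Helper3ConstExtB

set_option autoImplicit false
set_option linter.style.haveILetI false
set_option linter.unusedSectionVars false

universe u v₁ v₂ u₁ u₂

open CategoryTheory MonoidalCategory CartesianMonoidalCategory MonObj GrpObj AlgebraicGeometry Limits

namespace Groth.Agent.Lib.Helper3.ExtBcA

section General

open scoped Obj
open Functor.LaxMonoidal Functor.Monoidal

variable {C : Type u₁} [Category.{v₁} C] [CartesianMonoidalCategory C]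
  {D : Type u₂} [Category.{v₂} D] [CartesianMonoidalCategory D]
  (F : C ⥤ D) [F.Monoidal] [PreservesLimitsOfShape WalkingCospan F]
  {G E P : C} [GrpObj G] [GrpObj E] [GrpObj P]

-- a monoidal functor preserving pullbacks maps the pseudo-torsor square to the pseudo-torsor square
theorem isPullback_map (u : G ⟶ E) (v : E ⟶ P)
    (hpb : IsPullback (fst E G) ((E ◁ u) ≫ μ[E]) v v) :
    IsPullback (fst (F.obj E) (F.obj G)) ((F.obj E ◁ F.map u) ≫ μ[F.obj E]) (F.map v)
      (F.map v) := by
  have h1 := hpb.map F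
  refine IsPullback.of_iso h1 (μIso F E G).symm (Iso.refl _) (Iso.refl _) (Iso.refl _) ?_ ?_ ?_ ?_
  · simp only [Iso.symm_hom, Iso.refl_hom, Category.comp_id]
    rw [Iso.eq_inv_comp]
    exact μ_fst F E G
  · simp only [Iso.symm_hom, Iso.refl_hom, Category.comp_id]
    rw [Iso.eq_inv_comp, Functor.obj.μ_def, Functor.map_comp]
    exact (μ_natural_right_assoc F E u _).symm
  · simp
  · simp

end General

section Sch

-- pointwise form of local triviality for the fppf topology
theorem isLocallyTrivialFor_fppf_iff {B : Scheme.{u}} (X : Over B) :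
    NonAbH1.IsLocallyTrivialFor Scheme.fppfPrecoverage X ↔
      ∀ x : B, ∃ (W : Scheme.{u}) (a : W ⟶ B), Flat a ∧ LocallyOfFinitePresentation a ∧
        x ∈ Set.range a ∧ ∃ s : W ⟶ X.left, s ≫ X.hom = a := by
  constructor
  · rintro ⟨R, hR, hsec⟩ x
    have hsurj := (Presieve.mem_comap_jointlySurjectivePrecoverage_iff Scheme.forget).1 hR.1
    obtain ⟨W, a, ha, w, hw⟩ := hsurj x
    have haP : (@Flat ⊓ @LocallyOfFinitePresentation : MorphismProperty Scheme.{u}) a := hR.2 ha
    exact ⟨W, a, haP.1, haP.2, ⟨w, hw⟩, hsec a ha⟩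
  · intro h
    choose W a hfl hlfp hx s hs using h
    refine ⟨Presieve.ofArrows W a, ?_, ?_⟩
    · rw [Scheme.fppfPrecoverage, Scheme.ofArrows_mem_precoverage_iff]
      exact ⟨fun x => ⟨x, hx x⟩, fun x => ⟨hfl x, hlfp x⟩⟩
    · rintro S' f ⟨x⟩
      exact ⟨s x, hs x⟩

variable {S T : Scheme.{u}} (g : T ⟶ S)

lemma pullback_map_left_fst {X Y : Over S} (φ : X ⟶ Y) :
    ((Over.pullback g).map φ).left ≫ pullback.fst Y.hom g = pullback.fst X.hom g ≫ φ.left := by
  simp only [Over.pullback, Over.homMk_left]
  exact pullback.lift_fst _ _ _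

lemma pullback_map_left_snd {X Y : Over S} (φ : X ⟶ Y) :
    ((Over.pullback g).map φ).left ≫ pullback.snd Y.hom g = pullback.snd X.hom g := by
  simp only [Over.pullback, Over.homMk_left]
  exact pullback.lift_snd _ _ _

-- local triviality is stable under base change
theorem isLocallyTrivialFor_bc {E P : Over S} (v : E ⟶ P)
    (h : NonAbH1.IsLocallyTrivialFor Scheme.fppfPrecoverage (Over.mk v.left : Over P.left)) :
    NonAbH1.IsLocallyTrivialFor Scheme.fppfPrecoverage
      (Over.mk ((Over.pullback g).map v).left : Over ((Over.pullback g).obj P).left) := by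
  rw [isLocallyTrivialFor_fppf_iff] at h ⊢
  intro y
  set b := pullback.fst P.hom g with hb
  obtain ⟨W, a, hfl, hlfp, ⟨w, hw⟩, s, hs⟩ := h (b y)
  haveI := hfl
  haveI := hlfp
  have hs' : s ≫ v.left = a := hs
  obtain ⟨z, hz1, hz2⟩ := Scheme.Pullback.exists_preimage_pullback (f := a) (g := b) w y hw
  refine ⟨pullback a b, pullback.snd a b, inferInstance, inferInstance, ⟨z, hz2⟩, ?_⟩
  have hcomp : (pullback.fst a b ≫ s) ≫ E.hom =
      (pullback.snd a b ≫ pullback.snd P.hom g) ≫ g := by
    rw [Category.assoc, ← Over.w v, ← Category.assoc s, hs', Category.assoc, ← pullback.condition,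
      ← Category.assoc, pullback.condition, Category.assoc]
  refine ⟨pullback.lift (pullback.fst a b ≫ s) (pullback.snd a b ≫ pullback.snd P.hom g) hcomp, ?_⟩
  show _ ≫ ((Over.pullback g).map v).left = pullback.snd a b
  apply pullback.hom_ext
  · rw [Category.assoc, pullback_map_left_fst, pullback.lift_fst_assoc, Category.assoc, hs',
      pullback.condition]
  · rw [Category.assoc, pullback_map_left_snd, pullback.lift_snd]

-- exactness of a sequence of group schemes is stable under base change
theorem isExactSeq_bc {G E P : Over S} [GrpObj G] [GrpObj E] [GrpObj P] (u : G ⟶ E) (v : E ⟶ P)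
    (hex : NonAbH1.IsExactSeq Scheme.fppfPrecoverage u v) :
    NonAbH1.IsExactSeq Scheme.fppfPrecoverage (G' := Red.bc g G) (G := Red.bc g E)
      (G'' := Red.bc g P) ((Over.pullback g).map u) ((Over.pullback g).map v) := by
  obtain ⟨hu, hv, huv, hpb, hloc⟩ := hex
  refine ⟨inferInstance, inferInstance, ?_, ?_, isLocallyTrivialFor_bc g v hloc⟩
  · rw [← Functor.map_comp, huv]
    exact Functor.map_one _
  · exact isPullback_map (Over.pullback g) u v hpb

end Sch

end Groth.Agent.Lib.Helper3.ExtBcA
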