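import Mathlib
import Groth.Prelude.Def_NonAbH2
import Groth.Prelude.Def_TwC
import Groth.Agent.Lib.Helper3TwcB

set_option autoImplicit false
set_option linter.style.haveILetI false
set_option linter.unusedSectionVars false

universe u

open CategoryTheory MonoidalCategory CartesianMonoidalCategory MonObj GrpObj AlgebraicGeometry Limits

namespace Groth.Agent.Lib.Helper3.ExtBcB

open Groth.Agent.Lib.Helper3.TwcA Groth.Agent.Lib.Helper3.TwcB

-- a scheme with sheets over `T` is a constant scheme over `T`
theorem Sheets.exists_iso_const {T : Scheme.{u}} {I : Type u} (Y : Over T)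
    {σ : I → (T ⟶ Y.left)} (hs : Sheets Y.hom σ) :
    ∃ e : Y ≅ TwC.const T I, ∀ i, Sigma.ι (fun _ : I => T) i ≫ e.inv.left = σ i := by
  haveI := hs.isOpenImmersion
  set ψ : (∐ fun _ : I => T) ⟶ Y.left := Sigma.desc σ with hψ
  have hψι : ∀ i, Sigma.ι (fun _ : I => T) i ≫ ψ = σ i := fun i => Sigma.ι_desc _ _
  have hcov : ∀ a : ↥(∐ fun _ : I => T), ∃ i t, Sigma.ι (fun _ : I => T) i t = a := by
    intro a
    obtain ⟨i, t, ht⟩ := (sigmaOpenCover (fun _ : I => T)).exists_eq a
    exact ⟨i, t, ht⟩
  have hψapp : ∀ i t, ψ (Sigma.ι (fun _ : I => T) i t) = σ i t := fun i t => by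
    rw [← Scheme.Hom.comp_apply, hψι]
  have hinj : Function.Injective ψ := by
    intro a b hab
    obtain ⟨i, t, rfl⟩ := hcov a
    obtain ⟨j, t', rfl⟩ := hcov b
    rw [hψapp, hψapp] at hab
    have hij := hs.disj i j t t' hab
    subst hij
    have : t = t' := (σ i).isOpenEmbedding.injective hab
    rw [this]
  haveI : IsOpenImmersion ψ := by
    apply IsOpenImmersion.of_openCover_source ψ (sigmaOpenCover (fun _ : I => T)) hinj
    intro i
    show IsOpenImmersion (Sigma.ι (fun _ : I => T) i ≫ ψ)
    rw [hψι]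
    infer_instance
  haveI : Surjective ψ := by
    refine ⟨fun y => ?_⟩
    obtain ⟨i, t, ht⟩ := hs.cover y
    exact ⟨Sigma.ι (fun _ : I => T) i t, by rw [hψapp, ht]⟩
  haveI : IsIso ψ := (isIso_iff_isOpenImmersion_and_surjective _).mpr ⟨inferInstance, inferInstance⟩
  have hw : ψ ≫ Y.hom = (TwC.const T I).hom := by
    apply Sigma.hom_ext
    intro i
    rw [← Category.assoc, hψι, hs.sec]
    exact (Sigma.ι_desc (fun _ : I => 𝟙 T) i).symm
  refine ⟨(Over.isoMk (asIso ψ) hw).symm, fun i => ?_⟩
  exact hψι i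

variable {T T' : Scheme.{u}} (h : T' ⟶ T)

lemma ε_left_fst :
    (Functor.LaxMonoidal.ε (Over.pullback h)).left ≫ pullback.fst (𝟙 T) h = h := by
  rw [Over.ε_pullback_left, IsIso.inv_comp_eq]
  have := pullback.condition (f := 𝟙 T) (g := h)
  rw [Category.comp_id] at this
  exact this

lemma ε_left_snd :
    (Functor.LaxMonoidal.ε (Over.pullback h)).left ≫ pullback.snd (𝟙 T) h = 𝟙 T' := by
  rw [Over.ε_pullback_left, IsIso.inv_hom_id]
  rfl

-- base change of points
lemma ε_map_left {G : Over T} (x : 𝟙_ (Over T) ⟶ G) :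
    (Functor.LaxMonoidal.ε (Over.pullback h) ≫ (Over.pullback h).map x).left =
      pullback.lift (h ≫ x.left) (𝟙 T') (by
        rw [Category.assoc, Over.w x, Category.id_comp]
        exact Category.comp_id h) := by
  apply pullback.hom_ext
  · rw [pullback.lift_fst, Over.comp_left, Category.assoc]
    have h1 : ((Over.pullback h).map x).left ≫ pullback.fst G.hom h =
        pullback.fst (𝟙_ (Over T)).hom h ≫ x.left := by
      simp only [Over.pullback, Over.homMk_left]
      exact pullback.lift_fst _ _ _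
    rw [h1, ← Category.assoc]
    congr 1
    exact ε_left_fst h
  · rw [pullback.lift_snd, Over.comp_left, Category.assoc]
    have h1 : ((Over.pullback h).map x).left ≫ pullback.snd G.hom h =
        pullback.snd (𝟙_ (Over T)).hom h := by
      simp only [Over.pullback, Over.homMk_left]
      exact pullback.lift_snd _ _ _
    rw [h1]
    exact ε_left_snd h

-- a constant group stays constant after base change
theorem isConstGrp_bc {Z : Type u} [Group Z] (G : Over T) [GrpObj G] (e : G ≅ TwC.const T Z)
    (hG : TwC.IsConstGrp Z G e) :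
    ∃ e' : Red.bc h G ≅ TwC.const T' Z, TwC.IsConstGrp Z (Red.bc h G) e' := by
  have hs := (sheets_of_iso_const G e).pullback h
  obtain ⟨e', he'⟩ := Sheets.exists_iso_const (Red.bc h G) hs
  refine ⟨e', ?_⟩
  have key : ∀ m : Z, TwC.pt T' Z m ≫ e'.inv =
      Functor.LaxMonoidal.ε (Over.pullback h) ≫ (Over.pullback h).map (TwC.pt T Z m ≫ e.inv) := by
    intro m
    apply Over.OverMorphism.ext
    rw [ε_map_left, Over.comp_left]
    have h1 : (TwC.pt T' Z m).left = Sigma.ι (fun _ : Z => T') m := rfl
    rw [h1, he']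
    rfl
  intro m n
  rw [key, key, key, ← MonObj.comp_mul, ← Functor.map_mul, hG m n]

end Groth.Agent.Lib.Helper3.ExtBcB
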