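import Mathlib
import Groth.Prelude.Def_NonAbH2
import Groth.Prelude.Def_TwC
import Groth.Agent.Lib.Helper3TwcB
import Groth.Agent.Lib.Helper3ConstExtB

set_option autoImplicit false
set_option linter.style.haveILetI false
set_option linter.unusedSectionVars false

universe u

open CategoryTheory MonoidalCategory CartesianMonoidalCategory MonObj GrpObj AlgebraicGeometry Limits

namespace Groth.Agent.Lib.Helper3.ExtBcC

open Groth.Agent.Lib.Helper3.TwcA Groth.Agent.Lib.Helper3.TwcB

-- descent of a property local on the target along a flat covering in the fpqc sense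
theorem of_fpqc_pullback (P : MorphismProperty Scheme.{u}) [IsZariskiLocalAtTarget P]
    [P.IsStableUnderBaseChange]
    [P.DescendsAlong (@Surjective ⊓ @Flat ⊓ @QuasiCompact)]
    {Z S S' : Scheme.{u}} (q : Z ⟶ S) (f : S' ⟶ S) [Flat f]
    (hqc : ∀ V : S.Opens, IsAffineOpen V → ∃ W : S'.Opens, IsCompact (W : Set S') ∧
      f.base '' (W : Set S') = (V : Set S))
    (hP : P (pullback.snd q f)) : P q := by
  apply IsZariskiLocalAtTarget.of_iSup_eq_top (fun V : S.affineOpens => V.1)
    (iSup_affineOpens_eq_top S)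
  rintro ⟨V, hV⟩
  obtain ⟨W, hWc, hWV⟩ := hqc V hV
  set a : (W : Scheme.{u}) ⟶ S := W.ι ≫ f with ha
  have hra : Set.range a = (V : Set S) := by
    rw [ha, Scheme.Hom.comp_base, TopCat.coe_comp, Set.range_comp, Scheme.Opens.range_ι]
    exact hWV
  have hr : Set.range a ⊆ Set.range V.ι := by
    rw [Scheme.Opens.range_ι, hra]
  obtain ⟨a', ha'⟩ : ∃ a' : (W : Scheme.{u}) ⟶ (V : Scheme.{u}), a' ≫ V.ι = a :=
    ⟨IsOpenImmersion.lift V.ι a hr, IsOpenImmersion.lift_fac _ _ _⟩
  haveI : IsAffine (V : Scheme.{u}) := hV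
  haveI : CompactSpace ↥(W : Scheme.{u}) := isCompact_iff_compactSpace.mp hWc
  have hQ : (@Surjective ⊓ @Flat ⊓ @QuasiCompact : MorphismProperty Scheme.{u}) a' := by
    refine ⟨⟨⟨fun x => ?_⟩, ?_⟩, ?_⟩
    · obtain ⟨x, hx⟩ := x
      have hx' : x ∈ Set.range a := by rw [hra]; exact hx
      obtain ⟨t, ht⟩ := hx'
      refine ⟨t, ?_⟩
      apply V.ι.injective
      rw [← Scheme.Hom.comp_apply, ha']
      exact ht
    · exact MorphismProperty.of_postcomp (W := @Flat) a' V.ι
        (inferInstance : IsOpenImmersion V.ι) (by rw [ha']; infer_instance)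
    · exact (quasiCompact_iff_compactSpace a').mpr inferInstance
  have hPa : P (pullback.snd q a) := by
    have h1 : P (pullback.snd (pullback.snd q f) W.ι) := P.pullback_snd _ _ hP
    have h2 := pullbackLeftPullbackSndIso_hom_snd q f W.ι
    rw [← h2] at h1
    exact (P.cancel_left_of_respectsIso _ _).mp h1
  have hr2 : Set.range (pullback.fst q a) ⊆ Set.range (q ⁻¹ᵁ V).ι := by
    rw [Scheme.Opens.range_ι]
    rintro _ ⟨z, rfl⟩
    change q (pullback.fst q a z) ∈ (V : Set S)
    rw [← hra]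
    refine ⟨pullback.snd q a z, ?_⟩
    rw [← Scheme.Hom.comp_apply, ← Scheme.Hom.comp_apply, pullback.condition]
  obtain ⟨f', hf'⟩ : ∃ f' : pullback q a ⟶ (q ⁻¹ᵁ V : Scheme.{u}),
      f' ≫ (q ⁻¹ᵁ V).ι = pullback.fst q a :=
    ⟨IsOpenImmersion.lift _ _ hr2, IsOpenImmersion.lift_fac _ _ _⟩
  have hright := (isPullback_morphismRestrict q V).flip
  have houter : IsPullback (f' ≫ (q ⁻¹ᵁ V).ι) (pullback.snd q a) q (a' ≫ V.ι) := by
    rw [hf', ha']
    exact IsPullback.of_hasPullback q a
  have hcomm : f' ≫ (q ∣_ V) = pullback.snd q a ≫ a' := by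
    rw [← cancel_mono V.ι, Category.assoc, Category.assoc, morphismRestrict_ι, ← Category.assoc,
      hf', ha', pullback.condition]
  have hleft : IsPullback f' (pullback.snd q a) (q ∣_ V) a' :=
    IsPullback.of_right houter hcomm hright
  exact MorphismProperty.of_isPullback_of_descendsAlong (P := P)
    (Q := @Surjective ⊓ @Flat ⊓ @QuasiCompact) hleft.flip hQ hPa

-- assembling a property of a base change from an open cover of the new base
theorem of_zariski_local_pullback (P : MorphismProperty Scheme.{u}) [IsZariskiLocalAtTarget P]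
    [P.DescendsAlong (@Surjective ⊓ @Flat ⊓ @LocallyOfFinitePresentation)]
    {Z S S' : Scheme.{u}} (q : Z ⟶ S) (f : S' ⟶ S)
    (hloc : ∀ s' : S', ∃ U : S'.Opens, s' ∈ U ∧ P (pullback.snd q (U.ι ≫ f))) :
    P (pullback.snd q f) := by
  apply of_local_pullback P
  intro s'
  obtain ⟨U, hs'U, hPU⟩ := hloc s'
  refine ⟨U, U.ι, inferInstance, inferInstance, ?_, ?_⟩
  · rw [Scheme.Opens.range_ι]; exact hs'U
  · have h2 := pullbackLeftPullbackSndIso_hom_snd q f U.ι
    rw [← h2]
    exact (P.cancel_left_of_respectsIso _ _).mpr hPU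

-- a property of the kernel passes to the projection of an extension
theorem prop_of_isExactSeq (Pr : MorphismProperty Scheme.{u}) [Pr.IsStableUnderBaseChange]
    [Pr.DescendsAlong (@Surjective ⊓ @Flat ⊓ @LocallyOfFinitePresentation)]
    {S : Scheme.{u}} (P E G : Over S) [GrpObj P] [GrpObj E] [GrpObj G]
    (u : G ⟶ E) (v : E ⟶ P)
    (hex : NonAbH1.IsExactSeq Scheme.fppfPrecoverage u v) (hG : Pr G.hom) : Pr v.left := by
  obtain ⟨hu, hv, huv, hpb, R, hR, hsec⟩ := hex
  have hsurj := (Presieve.mem_comap_jointlySurjectivePrecoverage_iff Scheme.forget).1 hR.1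
  choose W g hg hx using hsurj
  have hgP : ∀ x, (@Flat ⊓ @LocallyOfFinitePresentation : MorphismProperty Scheme.{u}) (g x) :=
    fun x => hR.2 (hg x)
  haveI : ∀ x, Flat (g x) := fun x => (hgP x).1
  haveI : ∀ x, LocallyOfFinitePresentation (g x) := fun x => (hgP x).2
  choose s hs using fun x => hsec (g x) (hg x)
  have hflat : Flat (Sigma.desc g) :=
    IsZariskiLocalAtSource.sigmaDesc (P := @Flat) (fun x => inferInstance)
  have hlfp : LocallyOfFinitePresentation (Sigma.desc g) :=
    IsZariskiLocalAtSource.sigmaDesc (P := @LocallyOfFinitePresentation) (fun x => inferInstance)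
  have hsj : Surjective (Sigma.desc g) := by
    refine ⟨fun x => ?_⟩
    obtain ⟨w, hw⟩ := hx x
    refine ⟨(Sigma.ι W x) w, ?_⟩
    rw [← Scheme.Hom.comp_apply, Sigma.ι_desc]
    exact hw
  have hsv : Sigma.desc s ≫ v.left = Sigma.desc g := by
    apply Sigma.hom_ext
    intro x
    rw [Sigma.ι_desc_assoc, Sigma.ι_desc]
    exact hs x
  obtain ⟨f, hf⟩ : ∃ f : Over.mk (Sigma.desc g ≫ P.hom) ⟶ P, f.left = Sigma.desc g :=
    ⟨Over.homMk (Sigma.desc g) rfl, rfl⟩
  obtain ⟨σ, hσ⟩ : ∃ σ : Over.mk (Sigma.desc g ≫ P.hom) ⟶ E, σ.left = Sigma.desc s := by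
    refine ⟨Over.homMk (Sigma.desc s) ?_, rfl⟩
    change Sigma.desc s ≫ E.hom = Sigma.desc g ≫ P.hom
    rw [← hsv, Category.assoc, Over.w v]
  have hσv : σ ≫ v = f := by
    apply Over.OverMorphism.ext
    rw [Over.comp_left, hσ, hf, hsv]
  have hsq := (Groth.Agent.Lib.Helper3.ConstExtA.isPullback_triv u v hpb huv f σ hσv).map
    (Over.forget S)
  simp only [Over.forget_obj, Over.forget_map] at hsq
  have het : Pr (fst (Over.mk (Sigma.desc g ≫ P.hom)) G).left := by
    change Pr (pullback.fst (Over.mk (Sigma.desc g ≫ P.hom)).hom G.hom)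
    exact Pr.pullback_fst _ _ hG
  rw [hf] at hsq
  exact MorphismProperty.of_isPullback_of_descendsAlong (P := Pr)
    (Q := @Surjective ⊓ @Flat ⊓ @LocallyOfFinitePresentation) hsq ⟨⟨hsj, hflat⟩, hlfp⟩ het

-- a flat covering in the fpqc sense is, after any base change, an effective epimorphism
theorem effectiveEpi_of_fpqc {S S' : Scheme.{u}} (f : S' ⟶ S) [Flat f] [Surjective f]
    (hqc : ∀ V : S.Opens, IsAffineOpen V → ∃ W : S'.Opens, IsCompact (W : Set S') ∧
      f.base '' (W : Set S') = (V : Set S)) {X : Scheme.{u}} (g : X ⟶ S) :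
    EffectiveEpi (pullback.fst g f) := by
  have hmem : Presieve.singleton f ∈ Scheme.fpqcPrecoverage S := by
    rw [Scheme.fpqcPrecoverage, Scheme.propQCPrecoverage]
    refine ⟨?_, ?_⟩
    · let E : Scheme.Cover.{u} _ _ := f.cover (P := ⊤) trivial
      rw [Scheme.qcPrecoverage, PreZeroHypercoverFamily.mem_precoverage_iff]
      refine ⟨(f.cover (P := ⊤) trivial).toPreZeroHypercover, ?_, by simp⟩
      simp only [Scheme.qcCoverFamily_property, Scheme.quasiCompactCover_iff]
      refine ⟨fun {U} hU => ?_⟩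
      rw [IsCompactOpenCovered.iff_of_unique]
      obtain ⟨W, hWc, hW⟩ := hqc U hU
      exact ⟨W, hWc, hW⟩
    · rw [Scheme.singleton_mem_precoverage_iff]
      exact ⟨f.surjective, inferInstance⟩
  have hmem' : Presieve.singleton (pullback.fst g f) ∈ Scheme.fpqcPrecoverage X := by
    have h1 : Presieve.ofArrows (fun _ : PUnit.{u + 2} => S') (fun _ => f) ∈
        Scheme.fpqcPrecoverage S := by
      rw [Presieve.ofArrows_pUnit]; exact hmem
    have h2 := Precoverage.IsStableUnderBaseChange.mem_coverings_of_isPullback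
      (J := Scheme.fpqcPrecoverage) (fun _ : PUnit.{u + 2} => f) h1 g
      (P := fun _ => pullback g f) (fun _ => pullback.fst g f) (fun _ => pullback.snd g f)
      (fun _ => IsPullback.of_hasPullback g f)
    rw [Presieve.ofArrows_pUnit] at h2
    exact h2
  rw [← Sieve.effectiveEpimorphic_singleton,
    Presieve.EffectiveEpimorphic.iff_forall_isSheafFor_yoneda]
  intro Z
  exact (GrothendieckTopology.Subcanonical.isSheaf_of_isRepresentable _).isSheafFor _
    (Precoverage.generate_mem_toGrothendieck hmem')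

end Groth.Agent.Lib.Helper3.ExtBcC
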