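import Mathlib
import Groth.Agent.Lib.Helper3TorsD
import Groth.Agent.Lib.Helper3ExtBcC

set_option autoImplicit false
set_option linter.style.haveILetI false
set_option linter.unusedSectionVars false

universe u

open CategoryTheory AlgebraicGeometry Limits

namespace Groth.Agent.Lib.Helper3.ExtBcD

variable {S P E : Scheme.{u}} (p : P ⟶ S) (π : E ⟶ P) (e : S ⟶ P) (he : e ≫ p = 𝟙 S) (e' : S ⟶ E)

-- the base change of the section `e`
noncomputable def eB {B : Scheme.{u}} (b : B ⟶ S) : B ⟶ pullback p b :=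
  pullback.lift (b ≫ e) (𝟙 B) (by rw [Category.assoc, he, Category.comp_id, Category.id_comp])

lemma eB_fst {B : Scheme.{u}} (b : B ⟶ S) : eB p e he b ≫ pullback.fst p b = b ≫ e :=
  pullback.lift_fst _ _ _

lemma eB_snd {B : Scheme.{u}} (b : B ⟶ S) : eB p e he b ≫ pullback.snd p b = 𝟙 B :=
  pullback.lift_snd _ _ _

-- rigidified sections of `π` over the base change of `P` along `b`
def RS {B : Scheme.{u}} (b : B ⟶ S) (y : pullback p b ⟶ E) : Prop :=
  y ≫ π = pullback.fst p b ∧ eB p e he b ≫ y = b ≫ e'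

variable [GeometricallyConnected p] [Etale π] [IsSeparated π]

-- uniqueness of rigidified sections
theorem RS.unique {B : Scheme.{u}} (b : B ⟶ S) (y₁ y₂ : pullback p b ⟶ E)
    (h₁ : RS p π e he e' b y₁) (h₂ : RS p π e he e' b y₂) : y₁ = y₂ := by
  set a := pullback.fst p b with ha
  have hg₁ : y₁ ≫ π = 𝟙 _ ≫ a := by rw [h₁.1, Category.id_comp]
  have hg₂ : y₂ ≫ π = 𝟙 _ ≫ a := by rw [h₂.1, Category.id_comp]
  have key := Groth.Agent.Lib.Helper3.TorsD.section_unique (pullback.snd p b) (pullback.snd π a)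
    (eB p e he b) (eB_snd p e he b) (pullback.lift y₁ (𝟙 _) hg₁) (pullback.lift y₂ (𝟙 _) hg₂)
    (pullback.lift_snd _ _ _) (pullback.lift_snd _ _ _) (by
      apply pullback.hom_ext
      · rw [Category.assoc, Category.assoc, pullback.lift_fst, pullback.lift_fst, h₁.2, h₂.2]
      · rw [Category.assoc, Category.assoc, pullback.lift_snd, pullback.lift_snd])
  have := congrArg (fun φ => φ ≫ pullback.fst π a) key
  simp only [pullback.lift_fst] at this
  exact this

-- compatibility of rigidified sections over different bases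
theorem RS.compat {B₁ B₂ : Scheme.{u}} (b₁ : B₁ ⟶ S) (b₂ : B₂ ⟶ S) (y₁ : pullback p b₁ ⟶ E)
    (y₂ : pullback p b₂ ⟶ E) (h₁ : RS p π e he e' b₁ y₁) (h₂ : RS p π e he e' b₂ y₂)
    {Z : Scheme.{u}} (g₁ : Z ⟶ pullback p b₁) (g₂ : Z ⟶ pullback p b₂)
    (hg : g₁ ≫ pullback.fst p b₁ = g₂ ≫ pullback.fst p b₂) : g₁ ≫ y₁ = g₂ ≫ y₂ := by
  obtain ⟨d, hd⟩ : ∃ d : pullback b₁ b₂ ⟶ S, d = pullback.fst b₁ b₂ ≫ b₁ := ⟨_, rfl⟩
  have hd' : d = pullback.snd b₁ b₂ ≫ b₂ := by rw [hd, pullback.condition]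
  let c₁ : pullback p d ⟶ pullback p b₁ :=
    pullback.lift (pullback.fst p d) (pullback.snd p d ≫ pullback.fst b₁ b₂)
      (by rw [pullback.condition, hd, Category.assoc])
  let c₂ : pullback p d ⟶ pullback p b₂ :=
    pullback.lift (pullback.fst p d) (pullback.snd p d ≫ pullback.snd b₁ b₂)
      (by rw [pullback.condition, hd', Category.assoc])
  have hc₁f : c₁ ≫ pullback.fst p b₁ = pullback.fst p d := pullback.lift_fst _ _ _
  have hc₁s : c₁ ≫ pullback.snd p b₁ = pullback.snd p d ≫ pullback.fst b₁ b₂ :=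
    pullback.lift_snd _ _ _
  have hc₂f : c₂ ≫ pullback.fst p b₂ = pullback.fst p d := pullback.lift_fst _ _ _
  have hc₂s : c₂ ≫ pullback.snd p b₂ = pullback.snd p d ≫ pullback.snd b₁ b₂ :=
    pullback.lift_snd _ _ _
  have he₁ : eB p e he d ≫ c₁ = pullback.fst b₁ b₂ ≫ eB p e he b₁ := by
    apply pullback.hom_ext
    · rw [Category.assoc, hc₁f, eB_fst, Category.assoc, eB_fst, ← Category.assoc, ← hd]
    · rw [Category.assoc, hc₁s, ← Category.assoc, eB_snd, Category.id_comp, Category.assoc,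
        eB_snd, Category.comp_id]
  have he₂ : eB p e he d ≫ c₂ = pullback.snd b₁ b₂ ≫ eB p e he b₂ := by
    apply pullback.hom_ext
    · rw [Category.assoc, hc₂f, eB_fst, Category.assoc, eB_fst, ← Category.assoc, ← hd']
    · rw [Category.assoc, hc₂s, ← Category.assoc, eB_snd, Category.id_comp, Category.assoc,
        eB_snd, Category.comp_id]
  have hr₁ : RS p π e he e' d (c₁ ≫ y₁) := by
    refine ⟨?_, ?_⟩
    · rw [Category.assoc, h₁.1, hc₁f]
    · rw [← Category.assoc, he₁, Category.assoc, h₁.2, hd, Category.assoc]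
  have hr₂ : RS p π e he e' d (c₂ ≫ y₂) := by
    refine ⟨?_, ?_⟩
    · rw [Category.assoc, h₂.1, hc₂f]
    · rw [← Category.assoc, he₂, Category.assoc, h₂.2, hd', Category.assoc]
  have heq := RS.unique p π e he e' d _ _ hr₁ hr₂
  have hcond : (g₁ ≫ pullback.snd p b₁) ≫ b₁ = (g₂ ≫ pullback.snd p b₂) ≫ b₂ := by
    rw [Category.assoc, ← pullback.condition, ← Category.assoc, hg, Category.assoc,
      pullback.condition, Category.assoc]
  have hcond' : (g₁ ≫ pullback.fst p b₁) ≫ p =
      pullback.lift (g₁ ≫ pullback.snd p b₁) (g₂ ≫ pullback.snd p b₂) hcond ≫ d := by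
    rw [hd, pullback.lift_fst_assoc, Category.assoc, Category.assoc, pullback.condition]
  let w : Z ⟶ pullback p d := pullback.lift (g₁ ≫ pullback.fst p b₁)
    (pullback.lift (g₁ ≫ pullback.snd p b₁) (g₂ ≫ pullback.snd p b₂) hcond) hcond'
  have hw₁ : w ≫ c₁ = g₁ := by
    apply pullback.hom_ext
    · rw [Category.assoc, hc₁f, pullback.lift_fst]
    · rw [Category.assoc, hc₁s, pullback.lift_snd_assoc, pullback.lift_fst]
  have hw₂ : w ≫ c₂ = g₂ := by
    apply pullback.hom_ext
    · rw [Category.assoc, hc₂f, pullback.lift_fst, hg]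
    · rw [Category.assoc, hc₂s, pullback.lift_snd_assoc, pullback.lift_snd]
  rw [← hw₁, ← hw₂, Category.assoc, Category.assoc, heq]

-- descent of rigidified sections along a covering in the fpqc sense, refined by an open cover
theorem exists_section_of_cover {S' : Scheme.{u}} (f : S' ⟶ S) [Flat f] [Surjective f]
    (hqc : ∀ V : S.Opens, IsAffineOpen V → ∃ W : S'.Opens, IsCompact (W : Set S') ∧
      f.base '' (W : Set S') = (V : Set S))
    (𝒰 : S'.OpenCover)
    (y : ∀ i : 𝒰.I₀, pullback p (𝒰.f i ≫ f) ⟶ E)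
    (hy : ∀ i, RS p π e he e' (𝒰.f i ≫ f) (y i)) :
    ∃ g : P ⟶ E, g ≫ π = 𝟙 P ∧ e ≫ g = e' := by
  -- Zariski gluing over `S'`
  have h𝒱f : ∀ i, (Scheme.Pullback.openCoverOfRight 𝒰 p f).f i ≫ pullback.fst p f =
      pullback.fst p (𝒰.f i ≫ f) := fun i => by
    simp only [Scheme.Pullback.openCoverOfRight_f, pullback.map]
    exact (pullback.lift_fst _ _ _).trans (Category.comp_id _)
  have h𝒱s : ∀ i, (Scheme.Pullback.openCoverOfRight 𝒰 p f).f i ≫ pullback.snd p f =
      pullback.snd p (𝒰.f i ≫ f) ≫ 𝒰.f i := fun i => by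
    simp only [Scheme.Pullback.openCoverOfRight_f, pullback.map]
    exact pullback.lift_snd _ _ _
  have hcompat : ∀ i j : 𝒰.I₀,
      pullback.fst ((Scheme.Pullback.openCoverOfRight 𝒰 p f).f i)
        ((Scheme.Pullback.openCoverOfRight 𝒰 p f).f j) ≫ y i =
      pullback.snd ((Scheme.Pullback.openCoverOfRight 𝒰 p f).f i)
        ((Scheme.Pullback.openCoverOfRight 𝒰 p f).f j) ≫ y j := by
    intro i j
    refine RS.compat p π e he e' _ _ (y i) (y j) (hy i) (hy j)
      (pullback.fst ((Scheme.Pullback.openCoverOfRight 𝒰 p f).f i)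
        ((Scheme.Pullback.openCoverOfRight 𝒰 p f).f j))
      (pullback.snd ((Scheme.Pullback.openCoverOfRight 𝒰 p f).f i)
        ((Scheme.Pullback.openCoverOfRight 𝒰 p f).f j)) ?_
    exact (congrArg (fun t => pullback.fst ((Scheme.Pullback.openCoverOfRight 𝒰 p f).f i)
        ((Scheme.Pullback.openCoverOfRight 𝒰 p f).f j) ≫ t) (h𝒱f i).symm).trans
      ((Category.assoc _ _ _).symm.trans
        ((congrArg (fun t => t ≫ pullback.fst p f) pullback.condition).trans
          ((Category.assoc _ _ _).trans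
            (congrArg (fun t => pullback.snd ((Scheme.Pullback.openCoverOfRight 𝒰 p f).f i)
              ((Scheme.Pullback.openCoverOfRight 𝒰 p f).f j) ≫ t) (h𝒱f j)))))
  obtain ⟨y', hy'⟩ : ∃ y' : pullback p f ⟶ E,
      ∀ i, (Scheme.Pullback.openCoverOfRight 𝒰 p f).f i ≫ y' = y i :=
    ⟨(Scheme.Pullback.openCoverOfRight 𝒰 p f).glueMorphisms (fun i => y i) hcompat,
      fun i => (Scheme.Pullback.openCoverOfRight 𝒰 p f).ι_glueMorphisms _ _ i⟩
  have hrs : RS p π e he e' f y' := by
    refine ⟨?_, ?_⟩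
    · refine (Scheme.Pullback.openCoverOfRight 𝒰 p f).hom_ext _ _ (fun i => ?_)
      exact (Category.assoc _ _ _).symm.trans
        ((congrArg (fun t => t ≫ π) (hy' i)).trans ((hy i).1.trans (h𝒱f i).symm))
    · refine 𝒰.hom_ext _ _ (fun i => ?_)
      have h1 : 𝒰.f i ≫ eB p e he f =
          eB p e he (𝒰.f i ≫ f) ≫ (Scheme.Pullback.openCoverOfRight 𝒰 p f).f i := by
        apply pullback.hom_ext
        · exact (Category.assoc _ _ _).trans
            ((congrArg (fun t => 𝒰.f i ≫ t) (eB_fst p e he f)).trans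
              ((Category.assoc _ _ _).symm.trans
                ((eB_fst p e he (𝒰.f i ≫ f)).symm.trans
                  ((congrArg (fun t => eB p e he (𝒰.f i ≫ f) ≫ t) (h𝒱f i).symm).trans
                    (Category.assoc _ _ _).symm))))
        · exact (Category.assoc _ _ _).trans
            ((congrArg (fun t => 𝒰.f i ≫ t) (eB_snd p e he f)).trans
              ((Category.comp_id _).trans
                ((Category.id_comp _).symm.trans
                  ((congrArg (fun t => t ≫ 𝒰.f i) (eB_snd p e he (𝒰.f i ≫ f)).symm).trans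
                    ((Category.assoc _ _ _).trans
                      ((congrArg (fun t => eB p e he (𝒰.f i ≫ f) ≫ t) (h𝒱s i).symm).trans
                        (Category.assoc _ _ _).symm))))))
      exact (Category.assoc _ _ _).symm.trans
        ((congrArg (fun t => t ≫ y') h1).trans
          ((Category.assoc _ _ _).trans
            ((congrArg (fun t => eB p e he (𝒰.f i ≫ f) ≫ t) (hy' i)).trans
              ((hy i).2.trans (Category.assoc _ _ _)))))
  -- descent along `f`
  haveI := Groth.Agent.Lib.Helper3.ExtBcC.effectiveEpi_of_fpqc f hqc p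
  have hcompat' : ∀ {Z : Scheme.{u}} (g₁ g₂ : Z ⟶ pullback p f),
      g₁ ≫ pullback.fst p f = g₂ ≫ pullback.fst p f → g₁ ≫ y' = g₂ ≫ y' := by
    intro Z g₁ g₂ hg
    exact RS.compat p π e he e' f f y' y' hrs hrs g₁ g₂ hg
  let g : P ⟶ E := EffectiveEpi.desc (pullback.fst p f) y' hcompat'
  have hg : pullback.fst p f ≫ g = y' := EffectiveEpi.fac _ _ _
  haveI : Epi (pullback.fst p f) := inferInstance
  haveI : Epi f := Flat.epi_of_flat_of_surjective f
  refine ⟨g, ?_, ?_⟩
  · rw [← cancel_epi (pullback.fst p f), ← Category.assoc, hg, hrs.1, Category.comp_id]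
  · rw [← cancel_epi f, ← Category.assoc, ← eB_fst p e he f, Category.assoc, hg, hrs.2]

-- the same with an open neighbourhood of each point
theorem exists_section_of_local {S' : Scheme.{u}} (f : S' ⟶ S) [Flat f] [Surjective f]
    (hqc : ∀ V : S.Opens, IsAffineOpen V → ∃ W : S'.Opens, IsCompact (W : Set S') ∧
      f.base '' (W : Set S') = (V : Set S))
    (U : S' → S'.Opens) (hU : ∀ s', s' ∈ U s')
    (y : ∀ s', pullback p ((U s').ι ≫ f) ⟶ E) (hy : ∀ s', RS p π e he e' ((U s').ι ≫ f) (y s')) :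
    ∃ g : P ⟶ E, g ≫ π = 𝟙 P ∧ e ≫ g = e' := by
  have hcov : TopologicalSpace.IsOpenCover U := by
    rw [TopologicalSpace.IsOpenCover, eq_top_iff]
    intro s' _
    exact TopologicalSpace.Opens.mem_iSup.mpr ⟨s', hU s'⟩
  exact exists_section_of_cover p π e he e' f hqc (S'.openCoverOfIsOpenCover U hcov) y hy

end Groth.Agent.Lib.Helper3.ExtBcD
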