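import Mathlib
import Groth.Prelude.Def_NonAbH2
import Groth.Prelude.Def_TwC
import Groth.Agent.Lib.Helper3TorsD
import Groth.Agent.Lib.Helper3ExtBcA
import Groth.Agent.Lib.Helper3ExtBcB
import Groth.Agent.Lib.Helper3ExtBcC
import Groth.Agent.Lib.Helper3ExtBcD

set_option autoImplicit false
set_option linter.style.haveILetI false
set_option linter.unusedSectionVars false

universe u

open CategoryTheory MonoidalCategory CartesianMonoidalCategory MonObj GrpObj AlgebraicGeometry Limits

namespace Groth.Agent.Lib.Helper3.ExtBcE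

open Groth.Agent.Lib.Helper3.TwcA Groth.Agent.Lib.Helper3.TwcB

-- for an extension by a constant group, `E ×_P E ⟶ E` is a disjoint union of copies of `E`
theorem sheets_of_isPullback {T : Scheme.{u}} {G E P : Over T} [GrpObj G] [GrpObj E] [GrpObj P]
    {Z : Type u} (eG : G ≅ TwC.const T Z) (u : G ⟶ E) (v : E ⟶ P)
    (hpb : IsPullback (fst E G) ((E ◁ u) ≫ μ[E]) v v) :
    ∃ τ : Z → (E.left ⟶ pullback v.left v.left), Sheets (pullback.snd v.left v.left) τ := by
  have hs0 := (sheets_of_iso_const G eG).pullback E.hom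
  have hs1 := hs0.of_iso (pullbackSymmetry G.hom E.hom) (pullback.fst E.hom G.hom)
    (pullbackSymmetry_hom_comp_fst _ _)
  have hsq := hpb.map (Over.forget T)
  simp only [Over.forget_obj, Over.forget_map] at hsq
  have hs2 := hs1.of_iso hsq.isoPullback (pullback.fst v.left v.left) hsq.isoPullback_hom_fst
  have hs3 := hs2.of_iso (pullbackSymmetry v.left v.left) (pullback.snd v.left v.left)
    (pullbackSymmetry_hom_comp_snd _ _)
  exact ⟨_, hs3⟩

-- the unit section of a base change
lemma eta_bc_left {S T : Scheme.{u}} (b : T ⟶ S) (P : Over S) [GrpObj P] :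
    (η[Red.bc b P] : 𝟙_ (Over T) ⟶ Red.bc b P).left =
      pullback.lift (b ≫ (η[P] : 𝟙_ (Over S) ⟶ P).left) (𝟙 T) (by
        rw [Category.assoc, Over.w η[P], Category.id_comp]
        exact Category.comp_id b) := by
  have h : (η[Red.bc b P] : 𝟙_ (Over T) ⟶ Red.bc b P) =
      Functor.LaxMonoidal.ε (Over.pullback b) ≫ (Over.pullback b).map η[P] :=
    Functor.obj.η_def P (F := Over.pullback b)
  rw [h]
  exact Groth.Agent.Lib.Helper3.ExtBcB.ε_map_left b η[P]

-- existence of a rigidified section for an extension by a constant torsion free group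
theorem exists_rigid_section_const {T : Scheme.{u}} (P E G : Over T) [GrpObj P] [GrpObj E]
    [GrpObj G] [Smooth P.hom] [QuasiSeparated P.hom] [GeometricallyConnected P.hom]
    {Z : Type u} [Group Z] (hZ : ∀ z : Z, IsOfFinOrder z → z = 1)
    (eG : G ≅ TwC.const T Z) (hG : TwC.IsConstGrp Z G eG)
    (u : G ⟶ E) (v : E ⟶ P) (hex : NonAbH1.IsExactSeq Scheme.fppfPrecoverage u v) :
    ∃ g : P.left ⟶ E.left, g ≫ v.left = 𝟙 P.left ∧
      (η[P] : 𝟙_ (Over T) ⟶ P).left ≫ g = (η[E] : 𝟙_ (Over T) ⟶ E).left := by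
  haveI hvet : Etale v.left :=
    Groth.Agent.Lib.Helper3.ConstExtA.etale_of_isExactSeq Z P E G eG u v hex
  haveI : Surjective v.left :=
    ⟨Groth.Agent.Lib.Helper3.ConstExtB.surjective_of_isExactSeq u v hex⟩
  obtain ⟨τ, hsh⟩ := sheets_of_isPullback eG u v hex.2.2.2.1
  haveI : IsMonHom v := hex.2.1
  have he : (η[P] : 𝟙_ (Over T) ⟶ P).left ≫ P.hom = 𝟙 T := Over.w η[P]
  have he' : (η[E] : 𝟙_ (Over T) ⟶ E).left ≫ v.left = (η[P] : 𝟙_ (Over T) ⟶ P).left := by
    rw [← Over.comp_left, IsMonHom.one_hom]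
  refine Groth.Agent.Lib.Helper3.TorsD.exists_section_of_fibrewise P.hom v.left τ hsh
    (η[P] : 𝟙_ (Over T) ⟶ P).left he (η[E] : 𝟙_ (Over T) ⟶ E).left he' (fun t => ?_)
  -- the fibre at `t`
  set h := T.fromSpecResidueField t with hh
  have hexk := Groth.Agent.Lib.Helper3.ExtBcA.isExactSeq_bc h u v hex
  obtain ⟨ek, hGk⟩ := Groth.Agent.Lib.Helper3.ExtBcB.isConstGrp_bc h G eG hG
  haveI : LocallyOfFiniteType (Red.bc h P).hom :=
    inferInstanceAs (LocallyOfFiniteType (pullback.snd P.hom h))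
  haveI : ConnectedSpace ↥(Red.bc h P).left :=
    inferInstanceAs (ConnectedSpace ↥(P.hom.fiber t))
  obtain ⟨s, -, hs⟩ := Groth.Agent.Lib.Helper3.ConstExtB.splits_of_connected
    (k := T.residueField t) hZ (Red.bc h P) (Red.bc h E) (Red.bc h G) ek hGk
    ((Over.pullback h).map u) ((Over.pullback h).map v) hexk
  refine ⟨s.left ≫ pullback.fst E.hom h, ?_⟩
  have h1 := Groth.Agent.Lib.Helper3.ExtBcA.pullback_map_left_fst h v
  have h2 : s.left ≫ ((Over.pullback h).map v).left = 𝟙 _ := by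
    rw [← Over.comp_left, hs]
    rfl
  exact (Category.assoc _ _ _).trans ((congrArg (fun t => s.left ≫ t) h1.symm).trans
    ((Category.assoc _ _ _).symm.trans
      ((congrArg (fun t => t ≫ pullback.fst P.hom h) h2).trans (Category.id_comp _))))

end Groth.Agent.Lib.Helper3.ExtBcE
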