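import Mathlib
import Groth.Prelude.Def_NonAbH2
import Groth.Prelude.Def_TwC
import Groth.Agent.Lib.Helper11ExtSeq
import Groth.Agent.Lib.Helper3TorsD

set_option autoImplicit false
set_option linter.style.haveILetI false
set_option linter.unusedSectionVars false

universe u v v₁ u₁

open CategoryTheory MonoidalCategory CartesianMonoidalCategory MonObj GrpObj AlgebraicGeometry Limits

namespace Groth.Agent.Lib.Helper3.ExtBcF

section Transfer

variable {T : Scheme.{u}} {Z : Type v} [Small.{u} Z] {Z' : Type u}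

lemma pt_constMap (φ : Z → Z') (m : Z) :
    TwC.pt T Z m ≫ TwC.constMap T φ = TwC.pt T Z' (φ m) := by
  apply Over.OverMorphism.ext
  rw [Over.comp_left]
  simp only [TwC.pt, TwC.constMap, Over.homMk_left]
  exact Sigma.ι_desc _ _

lemma pt_constMap' (φ : Z' → Z) (m : Z') :
    TwC.pt T Z' m ≫ TwC.constMap T φ = TwC.pt T Z (φ m) := by
  apply Over.OverMorphism.ext
  rw [Over.comp_left]
  simp only [TwC.pt, TwC.constMap, Over.homMk_left]
  exact Sigma.ι_desc _ _

-- the constant schemes on equivalent index types are isomorphic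
noncomputable def constIso (φ : Z ≃ Z') : TwC.const T Z ≅ TwC.const T Z' where
  hom := TwC.constMap T φ
  inv := TwC.constMap T φ.symm
  hom_inv_id := by
    apply Over.OverMorphism.ext
    rw [Over.comp_left]
    simp only [TwC.constMap, Over.homMk_left]
    apply Sigma.hom_ext
    intro m
    rw [Sigma.ι_desc_assoc, Sigma.ι_desc, Over.id_left]
    exact (congrArg (fun m => Sigma.ι (fun _ : Z => T) m) (φ.symm_apply_apply m)).trans
      (Category.comp_id _).symm
  inv_hom_id := by
    apply Over.OverMorphism.ext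
    rw [Over.comp_left]
    simp only [TwC.constMap, Over.homMk_left]
    apply Sigma.hom_ext
    intro m
    rw [Sigma.ι_desc_assoc, Sigma.ι_desc, Over.id_left]
    exact (congrArg (fun m => Sigma.ι (fun _ : Z' => T) m) (φ.apply_symm_apply m)).trans
      (Category.comp_id _).symm

-- transfer of constancy of a group along an isomorphism of the index groups
theorem isConstGrp_transfer [Group Z] [Group Z'] (φ : Z ≃* Z') (G : Over T) [GrpObj G]
    (e : G ≅ TwC.const T Z) (hG : TwC.IsConstGrp Z G e) :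
    TwC.IsConstGrp Z' G (e ≪≫ constIso φ.toEquiv) := by
  have key : ∀ m : Z', TwC.pt T Z' m ≫ (e ≪≫ constIso φ.toEquiv).inv =
      TwC.pt T Z (φ.symm m) ≫ e.inv := by
    intro m
    rw [Iso.trans_inv, ← Category.assoc]
    congr 1
    exact pt_constMap' (T := T) (fun m => φ.symm m) m
  intro m n
  rw [key, key, key, hG, map_mul]

end Transfer

-- the free abelian groups of finite rank have no torsion
theorem torsionFree_lattice (r : ℕ) (z : ULift.{u} (Multiplicative (Fin r → ℤ)))
    (hz : IsOfFinOrder z) : z = 1 := by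
  obtain ⟨n, hn, hzn⟩ := isOfFinOrder_iff_pow_eq_one.mp hz
  have h1 : (z ^ n).down = 1 := by rw [hzn]; rfl
  have h2 : n • Multiplicative.toAdd z.down = 0 := by
    have : (z ^ n).down = z.down ^ n := rfl
    rw [this] at h1
    have := congrArg Multiplicative.toAdd h1
    simpa using this
  have h3 : Multiplicative.toAdd z.down = 0 := by
    funext i
    have := congrFun h2 i
    simp only [Pi.smul_apply, Pi.zero_apply, nsmul_eq_mul] at this
    rcases mul_eq_zero.mp this with h | h
    · exact absurd (by exact_mod_cast h) hn.ne'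
    · exact h
  apply ULift.ext
  exact h3

-- constancy with a lattice as index group, in the universe of the base
theorem exists_ulift_const {T : Scheme.{u}} (r : ℕ) (G : Over T) [GrpObj G]
    (e : G ≅ TwC.const T (Multiplicative (Fin r → ℤ)))
    (hG : TwC.IsConstGrp (Multiplicative (Fin r → ℤ)) G e) :
    ∃ e' : G ≅ TwC.const T (ULift.{u} (Multiplicative (Fin r → ℤ))),
      TwC.IsConstGrp (ULift.{u} (Multiplicative (Fin r → ℤ))) G e' :=
  ⟨_, isConstGrp_transfer (MulEquiv.ulift (α := Multiplicative (Fin r → ℤ))).symm G e hG⟩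

section Pointed

-- morphisms to an etale separated scheme from a scheme with geometrically connected fibres are
-- determined by their restriction to a section
theorem pointed_unique {S : Scheme.{u}} (Q G : Over S) [GeometricallyConnected Q.hom]
    [Etale G.hom] [IsSeparated G.hom] (x : 𝟙_ (Over S) ⟶ Q) (χ₁ χ₂ : Q ⟶ G)
    (h : x ≫ χ₁ = x ≫ χ₂) : χ₁ = χ₂ := by
  have hx : x.left ≫ Q.hom = 𝟙 S := Over.w x
  have h1 : χ₁.left ≫ G.hom = 𝟙 _ ≫ Q.hom := by rw [Over.w χ₁, Category.id_comp]
  have h2 : χ₂.left ≫ G.hom = 𝟙 _ ≫ Q.hom := by rw [Over.w χ₂, Category.id_comp]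
  have key := Groth.Agent.Lib.Helper3.TorsD.section_unique Q.hom (pullback.snd G.hom Q.hom)
    x.left hx (pullback.lift χ₁.left (𝟙 _) h1) (pullback.lift χ₂.left (𝟙 _) h2)
    (pullback.lift_snd _ _ _) (pullback.lift_snd _ _ _) (by
      apply pullback.hom_ext
      · rw [Category.assoc, Category.assoc, pullback.lift_fst, pullback.lift_fst,
          ← Over.comp_left, ← Over.comp_left, h]
      · rw [Category.assoc, Category.assoc, pullback.lift_snd, pullback.lift_snd])
  apply Over.OverMorphism.ext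
  have := congrArg (fun φ => φ ≫ pullback.fst G.hom Q.hom) key
  simp only [pullback.lift_fst] at this
  exact this

end Pointed

section Cat

open Groth.Agent.Lib.Helper11.ExtSeq

variable {C : Type u₁} [Category.{v₁} C] [CartesianMonoidalCategory C]
  {P E M : C} [GrpObj P] [GrpObj E] [GrpObj M]

-- a rigidified section of an extension is a homomorphism as soon as pointed morphisms from
-- `P ⊗ P` to the kernel are trivial
theorem isMonHom_of_rigid (u : M ⟶ E) (v : E ⟶ P) [IsMonHom u] [IsMonHom v]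
    (hpb : IsPullback (fst E M) ((E ◁ u) ≫ μ[E]) v v)
    (s : P ⟶ E) (hsv : s ≫ v = 𝟙 P) (hs1 : η[P] ≫ s = η[E])
    (hr : ∀ δ' : P ⊗ P ⟶ M, lift η[P] η[P] ≫ δ' = η[M] → δ' = 1) : IsMonHom s := by
  refine ⟨hs1, ?_⟩
  obtain ⟨a, ha⟩ : ∃ a : P ⊗ P ⟶ E, a = μ[P] ≫ s := ⟨_, rfl⟩
  obtain ⟨b, hb⟩ : ∃ b : P ⊗ P ⟶ E, b = (fst P P ≫ s) * (snd P P ≫ s) := ⟨_, rfl⟩
  have hb' : (s ⊗ₘ s) ≫ μ[E] = b := by
    rw [hb, Hom.mul_def]
    congr 1
    apply CartesianMonoidalCategory.hom_ext
    · simp
    · simp
  have hav : a ≫ v = μ[P] := by rw [ha, Category.assoc, hsv, Category.comp_id]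
  have hbv : b ≫ v = μ[P] := by
    rw [hb, MonObj.mul_comp, Category.assoc, Category.assoc, hsv, Category.comp_id,
      Category.comp_id, ← mul_eq_mul]
  have hδv : (a * b⁻¹) ≫ v = 1 := by
    rw [MonObj.mul_comp, GrpObj.inv_comp, hav, hbv, mul_inv_cancel]
  obtain ⟨δ', hδ'⟩ := exists_kerLift u v hpb (a * b⁻¹) hδv
  have hxa : lift η[P] η[P] ≫ a = 1 := by
    rw [ha, ← Category.assoc, ← Hom.mul_def, one_eq_one, _root_.one_mul, ← one_eq_one, hs1,
      one_eq_one]
  have hxb : lift η[P] η[P] ≫ b = 1 := by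
    rw [hb, MonObj.comp_mul, ← Category.assoc, ← Category.assoc, lift_fst, lift_snd, hs1,
      one_eq_one, _root_.one_mul]
  have hx : lift η[P] η[P] ≫ δ' = η[M] := by
    apply u_injective u v hpb
    rw [Category.assoc, hδ', MonObj.comp_mul, GrpObj.comp_inv, hxa, hxb, inv_one, _root_.one_mul,
      one_eq_one, MonObj.one_comp]
  have hδ1 := hr δ' hx
  have h1 : a * b⁻¹ = 1 := by rw [← hδ', hδ1, MonObj.one_comp]
  have hab : a = b := by rwa [mul_inv_eq_one] at h1
  rw [hb', ← ha]
  exact hab

end Cat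

end Groth.Agent.Lib.Helper3.ExtBcF
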