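import Mathlib
import Groth.Prelude.Def_NonAbH2
import Groth.Prelude.Def_TwC
import Groth.Agent.Lib.Helper3ExtBcA
import Groth.Agent.Lib.Helper3ExtBcB
import Groth.Agent.Lib.Helper3ExtBcC
import Groth.Agent.Lib.Helper3ExtBcD
import Groth.Agent.Lib.Helper3ExtBcE
import Groth.Agent.Lib.Helper3ExtBcF

set_option autoImplicit false
set_option linter.style.haveILetI false
set_option linter.unusedSectionVars false

universe u

open CategoryTheory MonoidalCategory CartesianMonoidalCategory MonObj GrpObj AlgebraicGeometry Limits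

namespace Groth.Agent.Lib.Helper3.ExtBcG

open Groth.Agent.Lib.Helper3.TwcA Groth.Agent.Lib.Helper3.TwcB
open Groth.Agent.Lib.Helper3.ExtBcD Groth.Agent.Lib.Helper3.ExtBcE Groth.Agent.Lib.Helper3.ExtBcF

-- vanishing of `Hom` and `Ext^1` from a smooth group with connected fibres to a twisted lattice
theorem main (S : Scheme.{u})
    (P E M : Over S) [GrpObj P] [GrpObj E] [GrpObj M]
    [Smooth P.hom] [QuasiSeparated P.hom] [GeometricallyConnected P.hom]
    (hM : TwC.Locally S TwC.Topology.fpqc (fun S' f =>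
      ∃ (r : ℕ) (e : Red.bc f M ≅ TwC.const S' (Multiplicative (Fin r → ℤ))),
        TwC.IsConstGrp (Multiplicative (Fin r → ℤ)) (Red.bc f M) e))
    (u : M ⟶ E) (v : E ⟶ P) (hex : NonAbH1.IsExactSeq Scheme.fppfPrecoverage u v) :
    (∀ φ : P ⟶ M, IsMonHom φ → φ = 1) ∧ ∃ s : P ⟶ E, IsMonHom s ∧ s ≫ v = 𝟙 P := by
  obtain ⟨S', f, hfl, hsj, hqc, hloc⟩ := hM
  haveI := hfl
  haveI := hsj
  choose U hU r eM₀ hMc₀ using hloc
  choose eM hMc using fun s' => exists_ulift_const (r s') _ (eM₀ s') (hMc₀ s')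
  -- the lattice is etale and separated
  haveI hMet : Etale M.hom := by
    apply Groth.Agent.Lib.Helper3.ExtBcC.of_fpqc_pullback @Etale M.hom f hqc
    apply Groth.Agent.Lib.Helper3.ExtBcC.of_zariski_local_pullback @Etale M.hom f
    intro s'
    exact ⟨U s', hU s', Groth.Agent.Lib.Helper3.ConstExtA.etale_of_iso_const _
      (Red.bc ((U s').ι ≫ f) M) (eM s')⟩
  haveI hsepd := Groth.Agent.Lib.Helper12.descendsAlong_isSeparated.{u}
  haveI hMsep : IsSeparated M.hom := by
    apply Groth.Agent.Lib.Helper3.ExtBcC.of_fpqc_pullback @IsSeparated M.hom f hqc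
    apply Groth.Agent.Lib.Helper3.ExtBcC.of_zariski_local_pullback @IsSeparated M.hom f
    intro s'
    exact ⟨U s', hU s', (sheets_of_iso_const (Red.bc ((U s').ι ≫ f) M) (eM s')).isSeparated⟩
  -- the projection of the extension is etale and separated
  haveI hvet : Etale v.left :=
    Groth.Agent.Lib.Helper3.ExtBcC.prop_of_isExactSeq @Etale P E M u v hex hMet
  haveI hvsep : IsSeparated v.left :=
    Groth.Agent.Lib.Helper3.ExtBcC.prop_of_isExactSeq @IsSeparated P E M u v hex hMsep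
  obtain ⟨hu, hv, huv, hpb, hlt⟩ := id hex
  haveI := hu
  haveI := hv
  refine ⟨fun φ hφ => ?_, ?_⟩
  · -- rigidity
    haveI := hφ
    apply pointed_unique P M η[P]
    rw [IsMonHom.one_hom, one_eq_one, MonObj.comp_one]
  · -- splitting
    have he : (η[P] : 𝟙_ (Over S) ⟶ P).left ≫ P.hom = 𝟙 S := Over.w η[P]
    have he' : (η[E] : 𝟙_ (Over S) ⟶ E).left ≫ v.left = (η[P] : 𝟙_ (Over S) ⟶ P).left := by
      rw [← Over.comp_left, IsMonHom.one_hom]
    have hlocal : ∀ s' : S', ∃ y : pullback P.hom ((U s').ι ≫ f) ⟶ E.left,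
        RS P.hom v.left (η[P] : 𝟙_ (Over S) ⟶ P).left he (η[E] : 𝟙_ (Over S) ⟶ E).left
          ((U s').ι ≫ f) y := by
      intro s'
      have hexb := Groth.Agent.Lib.Helper3.ExtBcA.isExactSeq_bc ((U s').ι ≫ f) u v hex
      haveI : Smooth (Red.bc ((U s').ι ≫ f) P).hom :=
        inferInstanceAs (Smooth (pullback.snd P.hom ((U s').ι ≫ f)))
      haveI : QuasiSeparated (Red.bc ((U s').ι ≫ f) P).hom :=
        inferInstanceAs (QuasiSeparated (pullback.snd P.hom ((U s').ι ≫ f)))
      haveI : GeometricallyConnected (Red.bc ((U s').ι ≫ f) P).hom :=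
        inferInstanceAs (GeometricallyConnected (pullback.snd P.hom ((U s').ι ≫ f)))
      obtain ⟨g, hg1, hg2⟩ := exists_rigid_section_const (Red.bc ((U s').ι ≫ f) P)
        (Red.bc ((U s').ι ≫ f) E) (Red.bc ((U s').ι ≫ f) M) (torsionFree_lattice.{u} (r s'))
        (eM s') (hMc s') ((Over.pullback ((U s').ι ≫ f)).map u) ((Over.pullback ((U s').ι ≫ f)).map v) hexb
      refine ⟨g ≫ pullback.fst E.hom ((U s').ι ≫ f), ?_, ?_⟩
      · have h1 := Groth.Agent.Lib.Helper3.ExtBcA.pullback_map_left_fst ((U s').ι ≫ f) v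
        exact (Category.assoc _ _ _).trans ((congrArg (fun t => g ≫ t) h1.symm).trans
          ((Category.assoc _ _ _).symm.trans
            ((congrArg (fun t => t ≫ pullback.fst P.hom ((U s').ι ≫ f)) hg1).trans
              (Category.id_comp _))))
      · have h2 : eB P.hom (η[P] : 𝟙_ (Over S) ⟶ P).left he ((U s').ι ≫ f) =
            (η[Red.bc ((U s').ι ≫ f) P] : 𝟙_ (Over _) ⟶ Red.bc ((U s').ι ≫ f) P).left :=
          (eta_bc_left ((U s').ι ≫ f) P).symm
        have h3 := eta_bc_left ((U s').ι ≫ f) E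
        rw [h2, ← Category.assoc, hg2, h3, pullback.lift_fst]
    choose y hy using hlocal
    obtain ⟨g, hg1, hg2⟩ := exists_section_of_local P.hom v.left
      (η[P] : 𝟙_ (Over S) ⟶ P).left he (η[E] : 𝟙_ (Over S) ⟶ E).left f hqc U hU y hy
    have hgw : g ≫ E.hom = P.hom := by
      rw [← Over.w v, ← Category.assoc, hg1, Category.id_comp]
    obtain ⟨s, hs⟩ : ∃ s : P ⟶ E, s.left = g := ⟨Over.homMk g hgw, rfl⟩
    have hsv : s ≫ v = 𝟙 P := by
      apply Over.OverMorphism.ext
      rw [Over.comp_left, hs, hg1]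
      rfl
    have hs1 : η[P] ≫ s = η[E] := by
      apply Over.OverMorphism.ext
      rw [Over.comp_left, hs, hg2]
    haveI : UniversallyOpen P.hom := inferInstance
    haveI : GeometricallyConnected (P ⊗ P).hom := by
      have h1 : (P ⊗ P).hom = pullback.fst P.hom P.hom ≫ P.hom := rfl
      rw [h1]
      exact GeometricallyConnected.comp _ _
    refine ⟨s, ?_, hsv⟩
    apply isMonHom_of_rigid u v hpb s hsv hs1
    intro δ' hδ'
    apply pointed_unique (P ⊗ P) M (lift η[P] η[P])
    rw [hδ', one_eq_one, MonObj.comp_one]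

end Groth.Agent.Lib.Helper3.ExtBcG
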