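import Mathlib
import Groth.Prelude
import Groth.Agent.Lib.Helper6LocLift

/-!
# Formal smoothness of stalk maps from the scheme-level lifting property (helper3)

`MoreMor.IsFormallySmoothHom f` (lifting against square-zero thickenings of affine schemes)
implies that every stalk map of `f` is a formally smooth ring map (no finiteness hypothesis).
-/

set_option autoImplicit false
set_option linter.style.haveILetI false
universe u
open CategoryTheory CategoryTheory.Limits AlgebraicGeometry TopologicalSpace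

namespace Groth.Agent.Lib.Helper3.FSmStalk

open IsLocalRing Groth.Agent.Lib.Helper6.LocLift

/-- A local algebra is a quotient of a formally smooth local algebra
(a localization of a polynomial ring). -/
theorem exists_formallySmooth_surjection (R S : Type u) [CommRing R] [CommRing S] [IsLocalRing S]
    [Algebra R S] :
    ∃ (P : Type u) (_ : CommRing P) (_ : IsLocalRing P) (_ : Algebra R P)
      (_ : Algebra.FormallySmooth R P) (F : P →ₐ[R] S), Function.Surjective F := by
  let g : MvPolynomial S R →ₐ[R] S := MvPolynomial.aeval id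
  have hg : Function.Surjective g := fun s => ⟨MvPolynomial.X s, by simp [g]⟩
  let 𝔫 : Ideal (MvPolynomial S R) := (maximalIdeal S).comap g.toRingHom
  haveI : 𝔫.IsPrime := Ideal.comap_isPrime g.toRingHom _
  have hunits : ∀ y : 𝔫.primeCompl, IsUnit (g y.1) := by
    rintro ⟨y, hy⟩
    by_contra hnu
    exact hy (show g y ∈ maximalIdeal S from hnu)
  let F : Localization.AtPrime 𝔫 →ₐ[R] S := IsLocalization.liftAlgHom (M := 𝔫.primeCompl)
    (f := g) hunits
  haveI : Algebra.FormallySmooth R (Localization.AtPrime 𝔫) :=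
    Algebra.FormallySmooth.comp R (MvPolynomial S R) _
  refine ⟨Localization.AtPrime 𝔫, inferInstance, inferInstance, inferInstance, inferInstance,
    F, ?_⟩
  intro s
  obtain ⟨a, ha⟩ := hg s
  refine ⟨algebraMap _ _ a, ?_⟩
  simp only [F, IsLocalization.coe_liftAlgHom, AlgHom.toRingHom_eq_coe]
  rw [IsLocalization.lift_eq]
  exact ha

/-- The scheme-level infinitesimal lifting property gives formally smooth stalk maps. -/
theorem formallySmooth_stalkMap {X Y : Scheme.{u}} (f : X ⟶ Y)
    (hf : MoreMor.IsFormallySmoothHom f) (x : X) :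
    (f.stalkMap x).hom.FormallySmooth := by
  algebraize [(f.stalkMap x).hom]
  obtain ⟨P, _, _, _, _, F, hF⟩ :=
    exists_formallySmooth_surjection (Y.presheaf.stalk (f x)) (X.presheaf.stalk x)
  let φ : (P ⧸ RingHom.ker F.toRingHom ^ 2) →ₐ[Y.presheaf.stalk (f x)] X.presheaf.stalk x :=
    F.kerSquareLift
  have hφsurj : Function.Surjective φ.toRingHom := by
    intro s
    obtain ⟨p, rfl⟩ := hF s
    exact ⟨Ideal.Quotient.mk _ p, rfl⟩
  have hker : RingHom.ker φ.toRingHom ^ 2 = ⊥ := by
    rw [AlgHom.ker_kerSquareLift, Ideal.cotangentIdeal_square]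
  haveI : Nontrivial (P ⧸ RingHom.ker F.toRingHom ^ 2) := hφsurj.nontrivial
  haveI : IsLocalRing (P ⧸ RingHom.ker F.toRingHom ^ 2) :=
    IsLocalRing.of_surjective' (Ideal.Quotient.mk _) Ideal.Quotient.mk_surjective
  haveI hφloc : IsLocalHom φ.toRingHom := IsLocalHom.of_surjective _ hφsurj
  haveI : IsLocalHom (CommRingCat.ofHom φ.toRingHom).hom := hφloc
  -- the test ring `A` and its square-zero ideal
  let A := P ⧸ RingHom.ker F.toRingHom ^ 2
  let I : Ideal A := RingHom.ker φ.toRingHom
  let e : (A ⧸ I) ≃+* X.presheaf.stalk x := RingHom.quotientKerEquivOfSurjective hφsurj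
  have he : ∀ a : A, e (Ideal.Quotient.mk I a) = φ a := fun a => rfl
  let a : Spec (CommRingCat.of (A ⧸ I)) ⟶ X :=
    Spec.map (CommRingCat.ofHom (e.symm : X.presheaf.stalk x →+* A ⧸ I)) ≫ X.fromSpecStalk x
  let b : Spec (CommRingCat.of A) ⟶ Y :=
    Spec.map (CommRingCat.ofHom (algebraMap (Y.presheaf.stalk (f x)) A)) ≫ Y.fromSpecStalk (f x)
  let es : X.presheaf.stalk x ⟶ CommRingCat.of (A ⧸ I) :=
    CommRingCat.ofHom (e.symm : X.presheaf.stalk x →+* A ⧸ I)
  have hcomp : CommRingCat.ofHom (algebraMap (Y.presheaf.stalk (f x)) A) ≫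
      CommRingCat.ofHom (Ideal.Quotient.mk I) = f.stalkMap x ≫ es := by
    ext r
    apply e.injective
    change e (Ideal.Quotient.mk I (algebraMap _ A r)) = e (e.symm ((f.stalkMap x).hom r))
    rw [he, e.apply_symm_apply]
    exact φ.commutes r
  have hsq : Spec.map (CommRingCat.ofHom (Ideal.Quotient.mk I)) ≫ b = a ≫ f := by
    change Spec.map (CommRingCat.ofHom (Ideal.Quotient.mk I)) ≫
      Spec.map (CommRingCat.ofHom (algebraMap (Y.presheaf.stalk (f x)) A)) ≫ Y.fromSpecStalk (f x) =
      (Spec.map es ≫ X.fromSpecStalk x) ≫ f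
    rw [← Category.assoc, ← Spec.map_comp, hcomp, Spec.map_comp, Category.assoc, Category.assoc,
      Scheme.SpecMap_stalkMap_fromSpecStalk]
  obtain ⟨γ, hγ1, hγ2⟩ := hf A I hker a b hsq
  haveI : Nontrivial (A ⧸ I) := e.symm.injective.nontrivial
  haveI : IsLocalRing (A ⧸ I) :=
    IsLocalRing.of_surjective' (Ideal.Quotient.mk I) Ideal.Quotient.mk_surjective
  haveI hmkloc : IsLocalHom (Ideal.Quotient.mk I) :=
    IsLocalHom.of_surjective _ Ideal.Quotient.mk_surjective
  haveI : IsLocalHom (CommRingCat.ofHom (Ideal.Quotient.mk I)).hom := hmkloc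
  haveI hesloc : IsLocalHom es.hom := by
    change IsLocalHom ((e.symm : X.presheaf.stalk x ≃+* A ⧸ I) : X.presheaf.stalk x →+* A ⧸ I)
    infer_instance
  have hγcp : γ (closedPoint A) = x := by
    have h1 : (Spec.map (CommRingCat.ofHom (Ideal.Quotient.mk I))) (closedPoint (A ⧸ I)) =
        closedPoint A :=
      Spec_closedPoint (f := CommRingCat.ofHom (Ideal.Quotient.mk I))
    have h2 : (Spec.map es) (closedPoint (A ⧸ I)) = closedPoint (X.presheaf.stalk x) :=
      Spec_closedPoint (f := es)
    have h3 : γ (closedPoint A) = a (closedPoint (A ⧸ I)) := by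
      rw [← h1]
      exact congrArg (fun t : Spec (CommRingCat.of (A ⧸ I)) ⟶ X => t (closedPoint (A ⧸ I))) hγ1
    rw [h3]
    change (X.fromSpecStalk x) ((Spec.map es) (closedPoint (A ⧸ I))) = x
    rw [h2]
    exact Scheme.fromSpecStalk_closedPoint
  obtain ⟨c, hc_loc, hc⟩ := exists_stalk_hom (CommRingCat.of A) γ x hγcp
  have h1 : c ≫ CommRingCat.ofHom (Ideal.Quotient.mk I) = es := by
    haveI : IsLocalHom (c ≫ CommRingCat.ofHom (Ideal.Quotient.mk I)).hom := by
      rw [CommRingCat.hom_comp]; infer_instance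
    apply stalk_hom_ext (CommRingCat.of (A ⧸ I)) x
    rw [Spec.map_comp, Category.assoc, hc, hγ1]
    rfl
  have hloc2 : IsLocalHom (CommRingCat.ofHom (algebraMap (Y.presheaf.stalk (f x)) A)).hom := by
    haveI : IsLocalHom ((CommRingCat.ofHom (Ideal.Quotient.mk I)).hom.comp
        (CommRingCat.ofHom (algebraMap (Y.presheaf.stalk (f x)) A)).hom) := by
      rw [← CommRingCat.hom_comp, hcomp, CommRingCat.hom_comp]; infer_instance
    exact isLocalHom_of_comp _ (CommRingCat.ofHom (Ideal.Quotient.mk I)).hom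
  have h2 : f.stalkMap x ≫ c = CommRingCat.ofHom (algebraMap (Y.presheaf.stalk (f x)) A) := by
    haveI : IsLocalHom (f.stalkMap x ≫ c).hom := by
      rw [CommRingCat.hom_comp]; infer_instance
    apply stalk_hom_ext (CommRingCat.of A) (f x)
    rw [Spec.map_comp, Category.assoc, Scheme.SpecMap_stalkMap_fromSpecStalk, ← Category.assoc,
      hc, hγ2]
  let g : X.presheaf.stalk x →ₐ[Y.presheaf.stalk (f x)] (P ⧸ RingHom.ker F.toRingHom ^ 2) :=
    ⟨c.hom, fun r => congrArg (fun t => t.hom r) h2⟩
  refine Algebra.FormallySmooth.of_split F g (AlgHom.ext fun s => ?_)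
  have h3 : Ideal.Quotient.mk I (c.hom s) = e.symm s := congrArg (fun t => t.hom s) h1
  change φ (c.hom s) = s
  rw [← he, h3, e.apply_symm_apply]

end Groth.Agent.Lib.Helper3.FSmStalk
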