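import Mathlib
import Groth.Agent.S9753
import Groth.Agent.Lib.Helper5FiberStalk
import Groth.Agent.Lib.Helper3FibBrB
import Groth.Agent.Lib.Helper3EtGUSch

set_option linter.style.haveILetI false
set_option autoImplicit false

open CategoryTheory AlgebraicGeometry IsLocalRing

universe u

namespace Groth.Agent.Lib.Helper3.FibBr

open Groth.Agent.Lib.Helper5.FiberStalk

/-- count of irreducible components of the fibre through the point over `u`. -/
theorem encard_fibre_components_eq {U S : Scheme.{u}} (h : U ⟶ S) (u : U) :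
    {Z : Set ↑(h.fiber (h u)) | Z ∈ irreducibleComponents ↑(h.fiber (h u)) ∧
        ∃ u' ∈ Z, h.fiberι (h u) u' = u}.encard =
      ENat.card (minimalPrimes (U.presheaf.stalk u ⧸ fibIdeal h u)) := by
  have hset : {Z : Set ↑(h.fiber (h u)) | Z ∈ irreducibleComponents ↑(h.fiber (h u)) ∧
        ∃ u' ∈ Z, h.fiberι (h u) u' = u} =
      {Z : Set ↑(h.fiber (h u)) | Z ∈ irreducibleComponents ↑(h.fiber (h u)) ∧
        h.asFiber u ∈ Z} := by
    ext Z
    constructor
    · rintro ⟨hZ, u', hu', hu'u⟩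
      refine ⟨hZ, ?_⟩
      have : u' = h.asFiber u :=
        (h.fiberι (h u)).isEmbedding.injective (hu'u.trans (h.fiberι_asFiber u).symm)
      rwa [← this]
    · rintro ⟨hZ, hu⟩
      exact ⟨hZ, _, hu, h.fiberι_asFiber u⟩
  rw [hset, Groth.Agent.S9753.encard_components_eq]
  obtain ⟨e⟩ := nonempty_stalk_fiber_equiv h u (h.asFiber u) (h.fiberι_asFiber u)
  exact card_minimalPrimes_ringEquiv e

/-- the fibre ideal of a composite -/
theorem fibIdeal_comp {U X S : Scheme.{u}} (g : U ⟶ X) (f : X ⟶ S) (u : U) :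
    fibIdeal (g ≫ f) u = (fibIdeal f (g u)).map (g.stalkMap u).hom := by
  unfold fibIdeal
  rw [Ideal.map_map]
  congr 1
  rw [Scheme.Hom.stalkMap_comp]
  rfl

/-- geometric branches of the fibre through `x` -/
theorem numGeomBranchesAt_fibre_eq {X S : Scheme.{u}} (f : X ⟶ S) (x : X) :
    Brnch.numGeomBranchesAt (f.fiber (f x)) (f.asFiber x) =
      Brnch.numGeomBranches (X.presheaf.stalk x ⧸ fibIdeal f x) := by
  obtain ⟨e⟩ := nonempty_stalk_fiber_equiv f x (f.asFiber x) (f.fiberι_asFiber x)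
  exact numGeomBranches_congr e

/-- branches of the fibre through `x` -/
theorem numBranchesAt_fibre_eq {X S : Scheme.{u}} (f : X ⟶ S) (x : X) :
    Brnch.numBranchesAt (f.fiber (f x)) (f.asFiber x) =
      Brnch.numBranches (X.presheaf.stalk x ⧸ fibIdeal f x) := by
  obtain ⟨e⟩ := nonempty_stalk_fiber_equiv f x (f.asFiber x) (f.fiberι_asFiber x)
  exact numBranches_congr e


theorem appLE_fromSpec {X : Scheme.{u}} {V : X.Opens} (hV : IsAffineOpen V) (E : CommRingCat.{u})
    (φ : Γ(X, V) ⟶ E) (e : ⊤ ≤ (Spec.map φ ≫ hV.fromSpec) ⁻¹ᵁ V) :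
    (Spec.map φ ≫ hV.fromSpec).appLE V ⊤ e = φ ≫ (Scheme.ΓSpecIso E).inv := by
  have h1 := IsAffineOpen.SpecMap_appLE_fromSpec (Spec.map φ ≫ hV.fromSpec) hV
    (isAffineOpen_top (Spec E)) e
  rw [IsAffineOpen.fromSpec_top, Scheme.isoSpec_Spec_inv, ← Category.assoc, ← Spec.map_comp,
    cancel_mono] at h1
  exact Spec.map_injective h1

theorem comp_fromSpec_mem {X : Scheme.{u}} {V : X.Opens} (hV : IsAffineOpen V) (E : CommRingCat.{u})
    (φ : Γ(X, V) ⟶ E) (z : Spec E) : (Spec.map φ ≫ hV.fromSpec) z ∈ V := by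
  rw [Scheme.Hom.comp_apply]
  have h2 : hV.fromSpec ((Spec.map φ) z) ∈ Set.range hV.fromSpec := ⟨_, rfl⟩
  rw [hV.range_fromSpec] at h2
  exact h2

/-- the stalk map of `Spec E ⟶ Spec Γ(X, V) ⟶ X` on germs of sections over `V` -/
theorem stalkMap_germ_fromSpec {X : Scheme.{u}} {V : X.Opens} (hV : IsAffineOpen V) (E : Type u)
    [CommRing E] (φ : Γ(X, V) →+* E) (u : Spec (CommRingCat.of E))
    (hmem : (Spec.map (CommRingCat.ofHom φ) ≫ hV.fromSpec) u ∈ V) (a : Γ(X, V)) :
    ((Spec.map (CommRingCat.ofHom φ) ≫ hV.fromSpec).stalkMap u).hom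
      (X.presheaf.germ V _ hmem a) = (StructureSheaf.toStalk E u).hom (φ a) := by
  have e : ⊤ ≤ (Spec.map (CommRingCat.ofHom φ) ≫ hV.fromSpec) ⁻¹ᵁ V := fun z _ =>
    comp_fromSpec_mem hV (CommRingCat.of E) (CommRingCat.ofHom φ) z
  have h1 := EtGUSch.germ_appLE (Spec.map (CommRingCat.ofHom φ) ≫ hV.fromSpec) e
    (x := u) (by trivial) a
  rw [← h1, appLE_fromSpec hV (CommRingCat.of E) (CommRingCat.ofHom φ) e]
  rfl

open TopologicalSpace in
/-- **Scheme-level bridge**: for an affine étale-type chart `Spec E ⟶ V ⊆ X`, primes of `E`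
minimal over the extension of the fibre ideal and contained in `u` give irreducible components of
the fibre through the point over `u`. -/
theorem le_encard_fibre_components {X S : Scheme.{u}} (f : X ⟶ S) {V : X.Opens}
    (hV : IsAffineOpen V) (E : Type u) [CommRing E] (φ : Γ(X, V) →+* E)
    (u : Spec (CommRingCat.of E))
    (hmem : (Spec.map (CommRingCat.ofHom φ) ≫ hV.fromSpec) u ∈ V) :
    {P' : Ideal E | P' ∈ (((fibIdeal f ((Spec.map (CommRingCat.ofHom φ) ≫ hV.fromSpec) u)).comap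
        (X.presheaf.germ V _ hmem).hom).map φ).minimalPrimes ∧ P' ≤ u.asIdeal}.encard ≤
      {Z : Set ↑(((Spec.map (CommRingCat.ofHom φ) ≫ hV.fromSpec) ≫ f).fiber
          (f ((Spec.map (CommRingCat.ofHom φ) ≫ hV.fromSpec) u))) |
        Z ∈ irreducibleComponents ↑(((Spec.map (CommRingCat.ofHom φ) ≫ hV.fromSpec) ≫ f).fiber
          (f ((Spec.map (CommRingCat.ofHom φ) ≫ hV.fromSpec) u))) ∧ ∃ u' ∈ Z,
          ((Spec.map (CommRingCat.ofHom φ) ≫ hV.fromSpec) ≫ f).fiberι _ u' = u}.encard := by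
  set gU := Spec.map (CommRingCat.ofHom φ) ≫ hV.fromSpec with hgU
  refine le_trans ?_ (encard_fibre_components_eq (gU ≫ f) u).ge
  rw [card_minimalPrimes_quotient, fibIdeal_comp]
  letI algRA := TopCat.Presheaf.algebra_section_stalk X.presheaf ⟨gU u, hmem⟩
  haveI := hV.isLocalization_stalk ⟨gU u, hmem⟩
  have h1 : fibIdeal f (gU u) =
      ((fibIdeal f (gU u)).comap (X.presheaf.germ V _ hmem).hom).map
        (X.presheaf.germ V _ hmem).hom :=
    (IsLocalization.map_comap (hV.primeIdealOf ⟨gU u, hmem⟩).asIdeal.primeCompl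
      (X.presheaf.stalk (gU u)) (fibIdeal f (gU u))).symm
  have h2 : (gU.stalkMap u).hom.comp (X.presheaf.germ V _ hmem).hom =
      (StructureSheaf.toStalk E u).hom.comp φ := by
    ext a
    exact stalkMap_germ_fromSpec hV E φ u hmem a
  have h3 : (fibIdeal f (gU u)).map (gU.stalkMap u).hom =
      (((fibIdeal f (gU u)).comap (X.presheaf.germ V _ hmem).hom).map φ).map
        (StructureSheaf.toStalk E u).hom := by
    have h4 : (((fibIdeal f (gU u)).comap (X.presheaf.germ V _ hmem).hom).map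
        (X.presheaf.germ V _ hmem).hom).map (gU.stalkMap u).hom =
        (((fibIdeal f (gU u)).comap (X.presheaf.germ V _ hmem).hom).map φ).map
          (StructureSheaf.toStalk E u).hom := by
      rw [Ideal.map_map, Ideal.map_map, h2]
      rfl
    rw [← h4, ← h1]
  rw [h3]
  letI : Algebra E ((Spec (CommRingCat.of E)).presheaf.stalk u) :=
    (StructureSheaf.toStalk E u).hom.toAlgebra
  haveI : IsLocalization.AtPrime ((Spec (CommRingCat.of E)).presheaf.stalk u) u.asIdeal :=
    StructureSheaf.IsLocalization.to_stalk E u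
  exact encard_minimalPrimes_le_localization _ u.asIdeal
    ((Spec (CommRingCat.of E)).presheaf.stalk u)


theorem encard_fibre_components_congr {U X S : Scheme.{u}} (g : U ⟶ X) (f : X ⟶ S) (u : U)
    {x : X} (hu : g u = x) :
    {Z : Set ↑((g ≫ f).fiber (f x)) | Z ∈ irreducibleComponents ↑((g ≫ f).fiber (f x)) ∧
        ∃ u' ∈ Z, (g ≫ f).fiberι (f x) u' = u}.encard =
    {Z : Set ↑((g ≫ f).fiber (f (g u))) | Z ∈ irreducibleComponents ↑((g ≫ f).fiber (f (g u))) ∧
        ∃ u' ∈ Z, (g ≫ f).fiberι (f (g u)) u' = u}.encard := by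
  subst hu
  rfl

theorem comap_germ_fibIdeal_congr {X S : Scheme.{u}} (f : X ⟶ S) {x x' : X} (h : x = x')
    (V : X.Opens) (hx : x ∈ V) (hx' : x' ∈ V) :
    (fibIdeal f x).comap (X.presheaf.germ V x hx).hom =
      (fibIdeal f x').comap (X.presheaf.germ V x' hx').hom := by
  subst h
  rfl

end Groth.Agent.Lib.Helper3.FibBr
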