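import Mathlib
import Groth.Agent.Lib.Helper3FibModH
import Groth.Agent.Lib.Helper2FlatOpen
import Groth.Agent.Lib.Helper3EtGUSchB
import Groth.Prelude.Def_Coh
import Groth.Prelude.Def_CohB1

set_option autoImplicit false
set_option linter.style.haveILetI false

universe u

open CategoryTheory Limits AlgebraicGeometry TopologicalSpace Opposite TensorProduct

namespace Groth.Agent.Lib.Helper3.FibModI

open Groth.Agent.Lib.Helper2.FlatOver Groth.Agent.Lib.Helper2.FinPres
  Groth.Agent.Lib.Helper2.FibreCrit Groth.Agent.Lib.Helper3.EtGUSch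
  Groth.Agent.Lib.Helper3.FibModH

variable {X Y S : Scheme.{u}}

set_option maxHeartbeats 3200000 in
-- **Fibrewise criterion of flatness for finitely presented modules** (EGA IV 11.3.10).
theorem fibre_criterion_modules_fp (f : X ⟶ Y) (g : Y ⟶ S)
    [LocallyOfFinitePresentation (f ≫ g)] [LocallyOfFiniteType g]
    (F : X.Modules) [F.IsQuasicoherent]
    [SheafOfModules.IsFinitePresentation (R := X.ringCatSheaf) F] (x : X)
    (hx : Nontrivial ↑(F.presheaf.stalk x)) :
    letI := FlatMod.moduleStalkOver f F x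
    (FlatMod.IsFlatOverAt (f ≫ g) F x ∧
      Module.Flat (↑(Y.presheaf.stalk (f x)) ⧸ Ideal.map (g.stalkMap (f x)).hom
          (IsLocalRing.maximalIdeal ↑(S.presheaf.stalk (g (f x)))))
        (↑(F.presheaf.stalk x) ⧸ (Ideal.map (g.stalkMap (f x)).hom
          (IsLocalRing.maximalIdeal ↑(S.presheaf.stalk (g (f x)))) •
          (⊤ : Submodule ↑(Y.presheaf.stalk (f x)) ↑(F.presheaf.stalk x))))) ↔
    ((g.stalkMap (f x)).hom.Flat ∧ FlatMod.IsFlatOverAt f F x) := by
  letI aAB : Algebra (S.presheaf.stalk (g.base (f.base x))) (Y.presheaf.stalk (f.base x)) :=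
    (g.stalkMap (f.base x)).hom.toAlgebra
  letI aBC : Algebra (Y.presheaf.stalk (f.base x)) (X.presheaf.stalk x) :=
    (f.stalkMap x).hom.toAlgebra
  letI aAC : Algebra (S.presheaf.stalk (g.base (f.base x))) (X.presheaf.stalk x) :=
    ((f.stalkMap x).hom.comp (g.stalkMap (f.base x)).hom).toAlgebra
  haveI tABC : IsScalarTower (S.presheaf.stalk (g.base (f.base x))) (Y.presheaf.stalk (f.base x))
      (X.presheaf.stalk x) := IsScalarTower.of_algebraMap_eq (fun a => rfl)
  letI mBM : Module (Y.presheaf.stalk (f.base x)) (F.presheaf.stalk x) :=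
    FlatMod.moduleStalkOver f F x
  letI mAM : Module (S.presheaf.stalk (g.base (f.base x))) (F.presheaf.stalk x) :=
    Module.compHom _ ((f.stalkMap x).hom.comp (g.stalkMap (f.base x)).hom)
  haveI tBCM : IsScalarTower (Y.presheaf.stalk (f.base x)) (X.presheaf.stalk x)
      (F.presheaf.stalk x) := IsScalarTower.of_algebraMap_smul (fun b n => rfl)
  haveI tABM : IsScalarTower (S.presheaf.stalk (g.base (f.base x))) (Y.presheaf.stalk (f.base x))
      (F.presheaf.stalk x) := IsScalarTower.of_algebraMap_smul (fun b n => rfl)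
  haveI tACM : IsScalarTower (S.presheaf.stalk (g.base (f.base x))) (X.presheaf.stalk x)
      (F.presheaf.stalk x) := IsScalarTower.of_algebraMap_smul (fun b n => rfl)
  haveI : IsLocalHom (algebraMap (S.presheaf.stalk (g.base (f.base x)))
      (Y.presheaf.stalk (f.base x))) := inferInstanceAs (IsLocalHom (g.stalkMap (f.base x)).hom)
  haveI : IsLocalHom (algebraMap (Y.presheaf.stalk (f.base x)) (X.presheaf.stalk x)) :=
    inferInstanceAs (IsLocalHom (f.stalkMap x).hom)
  -- identify the `A`-module structure used by `IsFlatOverAt (f ≫ g)`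
  have hcomp : FlatMod.IsFlatOverAt (f ≫ g) F x ↔
      Module.Flat (S.presheaf.stalk (g.base (f.base x))) (F.presheaf.stalk x) := by
    unfold FlatMod.IsFlatOverAt
    refine @flat_iff_of_semilinear_equiv _ (S.presheaf.stalk (g.base (f.base x)))
      (F.presheaf.stalk x) (F.presheaf.stalk x) _ _ _ _ (FlatMod.moduleStalkOver (f ≫ g) F x) mAM
      (RingEquiv.refl _) (AddEquiv.refl _) ?_
    intro a n
    change ((f ≫ g).stalkMap x).hom a • n = (f.stalkMap x).hom ((g.stalkMap (f.base x)).hom a) • n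
    rw [Scheme.Hom.stalkMap_comp]
    rfl
  rw [hcomp]
  change (Module.Flat (S.presheaf.stalk (g.base (f.base x))) (F.presheaf.stalk x) ∧
    Module.Flat (Y.presheaf.stalk (f.base x) ⧸ (IsLocalRing.maximalIdeal
      (S.presheaf.stalk (g.base (f.base x)))).map (algebraMap _ (Y.presheaf.stalk (f.base x))))
      (F.presheaf.stalk x ⧸ ((IsLocalRing.maximalIdeal
      (S.presheaf.stalk (g.base (f.base x)))).map (algebraMap _ (Y.presheaf.stalk (f.base x)))) •
        (⊤ : Submodule (Y.presheaf.stalk (f.base x)) (F.presheaf.stalk x)))) ↔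
    (Module.Flat (S.presheaf.stalk (g.base (f.base x))) (Y.presheaf.stalk (f.base x)) ∧
      Module.Flat (Y.presheaf.stalk (f.base x)) (F.presheaf.stalk x))
  constructor
  · rintro ⟨hAM, hfib⟩
    -- charts
    obtain ⟨S₀, hS₀, W, hW, hWS, hfxW, -⟩ := exists_affine_nhds g (f x) ⊤ trivial
    obtain ⟨V, hV, hxV, hVW, hfpM⟩ := exists_affine_nhds_finitePresentation F x (f ⁻¹ᵁ W) hfxW
    have hVS : V ≤ (f ≫ g) ⁻¹ᵁ S₀ := fun z hz => hWS (hVW hz)
    have hsS₀ : g (f x) ∈ S₀ := hWS hfxW
    letI algAB : Algebra Γ(S, S₀) Γ(Y, W) := (g.appLE S₀ W hWS).hom.toAlgebra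
    letI algBC : Algebra Γ(Y, W) Γ(X, V) := (f.appLE W V hVW).hom.toAlgebra
    letI algAC : Algebra Γ(S, S₀) Γ(X, V) := ((f ≫ g).appLE S₀ V hVS).hom.toAlgebra
    haveI : IsScalarTower Γ(S, S₀) Γ(Y, W) Γ(X, V) := by
      refine IsScalarTower.of_algebraMap_eq' ?_
      show ((f ≫ g).appLE S₀ V hVS).hom = (f.appLE W V hVW).hom.comp (g.appLE S₀ W hWS).hom
      rw [← CommRingCat.hom_comp, Scheme.Hom.appLE_comp_appLE]
    haveI : Algebra.FinitePresentation Γ(S, S₀) Γ(X, V) :=
      (f ≫ g).finitePresentation_appLE hS₀ hV hVS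
    haveI : Algebra.FiniteType Γ(S, S₀) Γ(Y, W) := g.finiteType_appLE hS₀ hW hWS
    -- the primes
    let P : Ideal Γ(X, V) := (hV.primeIdealOf ⟨x, hxV⟩).asIdeal
    let q : Ideal Γ(Y, W) := (hW.primeIdealOf ⟨f x, hfxW⟩).asIdeal
    let p : Ideal Γ(S, S₀) := (hS₀.primeIdealOf ⟨g (f x), hsS₀⟩).asIdeal
    haveI : P.LiesOver q :=
      ⟨congr($(IsAffineOpen.comap_primeIdealOf_appLE W hW V hV hVW hxV).1).symm⟩
    haveI : q.LiesOver p :=
      ⟨congr($(IsAffineOpen.comap_primeIdealOf_appLE S₀ hS₀ W hW hWS hfxW).1).symm⟩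
    haveI : P.LiesOver p :=
      ⟨congr($(IsAffineOpen.comap_primeIdealOf_appLE (f := f ≫ g) S₀ hS₀ V hV hVS hxV).1).symm⟩
    -- the stalks as localizations
    letI aAR : Algebra Γ(S, S₀) (S.presheaf.stalk (g.base (f.base x))) :=
      S.presheaf.algebra_section_stalk ⟨g (f x), hsS₀⟩
    letI aBS : Algebra Γ(Y, W) (Y.presheaf.stalk (f.base x)) :=
      Y.presheaf.algebra_section_stalk ⟨f x, hfxW⟩
    letI aCS' : Algebra Γ(X, V) (X.presheaf.stalk x) :=
      X.presheaf.algebra_section_stalk ⟨x, hxV⟩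
    haveI : IsLocalization.AtPrime (S.presheaf.stalk (g.base (f.base x))) p :=
      hS₀.isLocalization_stalk ⟨g (f x), hsS₀⟩
    haveI : IsLocalization.AtPrime (Y.presheaf.stalk (f.base x)) q :=
      hW.isLocalization_stalk ⟨f x, hfxW⟩
    haveI : IsLocalization.AtPrime (X.presheaf.stalk x) P :=
      hV.isLocalization_stalk ⟨x, hxV⟩
    letI mCM : Module Γ(X, V) (F.presheaf.stalk x) := moduleStalkSections F V x hxV
    haveI : IsScalarTower Γ(X, V) (X.presheaf.stalk x) (F.presheaf.stalk x) :=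
      IsScalarTower.of_algebraMap_smul (fun b n => rfl)
    haveI := isLocalizedModule_germ hV F x hxV
    have hAB : (algebraMap Γ(Y, W) (Y.presheaf.stalk (f.base x))).comp
        (algebraMap Γ(S, S₀) Γ(Y, W)) =
        (algebraMap (S.presheaf.stalk (g.base (f.base x))) (Y.presheaf.stalk (f.base x))).comp
          (algebraMap Γ(S, S₀) (S.presheaf.stalk (g.base (f.base x)))) := by
      ext a
      exact (stalkMap_germ_eq g hWS (f x) hfxW a).symm
    have hBC : (algebraMap Γ(X, V) (X.presheaf.stalk x)).comp (algebraMap Γ(Y, W) Γ(X, V)) =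
        (algebraMap (Y.presheaf.stalk (f.base x)) (X.presheaf.stalk x)).comp
          (algebraMap Γ(Y, W) (Y.presheaf.stalk (f.base x))) := by
      ext a
      exact (stalkMap_germ_eq f hVW x hxV a).symm
    have hBM : Module.Flat (Y.presheaf.stalk (f.base x)) (F.presheaf.stalk x) :=
      flat_of_flat_fibre_abs (A := Γ(S, S₀)) (B := Γ(Y, W)) (C := Γ(X, V)) (M := Γ(F, V))
        (R := S.presheaf.stalk (g.base (f.base x))) (S := Y.presheaf.stalk (f.base x))
        (S' := X.presheaf.stalk x) (Mx := F.presheaf.stalk x) p q P hAB hBC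
        (germₗ F V x hxV) hAM hfib
    haveI := hBM
    haveI := hAM
    haveI : Module.Finite Γ(X, V) Γ(F, V) := inferInstance
    haveI : Module.Finite (X.presheaf.stalk x) (F.presheaf.stalk x) :=
      Module.Finite.of_isLocalizedModule P.primeCompl (germₗ F V x hxV)
    haveI : Module.FaithfullyFlat (Y.presheaf.stalk (f.base x)) (F.presheaf.stalk x) :=
      faithfullyFlat_of_flat_of_local (S := Y.presheaf.stalk (f.base x))
        (S' := X.presheaf.stalk x) (N := F.presheaf.stalk x)
    exact ⟨flat_of_faithfullyFlat_module (R := S.presheaf.stalk (g.base (f.base x)))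
      (S := Y.presheaf.stalk (f.base x)) (N := F.presheaf.stalk x), hBM⟩
  · rintro ⟨hAB, hBM⟩
    haveI := hAB
    haveI := hBM
    refine ⟨Module.Flat.trans (S.presheaf.stalk (g.base (f.base x)))
      (Y.presheaf.stalk (f.base x)) (F.presheaf.stalk x), ?_⟩
    exact Module.Flat.of_linearEquiv (quotTensorEquiv _ (F.presheaf.stalk x)).symm

end Groth.Agent.Lib.Helper3.FibModI
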