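import Mathlib
import Groth.Agent.Lib.Helper3FibModG
import Groth.Agent.Lib.Helper3FlatOpenFP

set_option autoImplicit false
set_option linter.style.haveILetI false

universe u

namespace Groth.Agent.Lib.Helper3.FibModJ

open TensorProduct MvPolynomial Groth.Agent.Lib.Helper3.FibCritD Groth.Agent.Lib.Helper3.FibModC
  Groth.Agent.Lib.Helper3.FibModF Groth.Agent.Lib.Helper3.FibCritA Groth.Agent.Lib.Helper3.FibModA
  Groth.Agent.Lib.Helper3.FibModB Groth.Agent.Lib.Helper3.FibModG
  Groth.Agent.Lib.Helper2.FibreCrit Groth.Agent.Lib.Helper3.FlatOpen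

section R3

variable {A B C M : Type u} [CommRing A] [CommRing B] [CommRing C] [Algebra A B] [Algebra B C]
  [AddCommGroup M] [Module C M] [Module B M] [IsScalarTower B C M]

-- flatness over `B` at `P` implies fibrewise flatness
theorem fibreFlat_of_flat (p : Ideal A) (q : Ideal B) [q.IsPrime] (P : Ideal C) [P.IsPrime]
    [P.LiesOver q] (h : Module.Flat B (LocalizedModule P.primeCompl M)) : FibreFlat p q P M := by
  unfold FibreFlat
  letI := Localization.AtPrime.algebraOfLiesOver q P
  letI : Module (Localization.AtPrime q) (LocalizedModule P.primeCompl M) :=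
    Module.compHom _ (algebraMap (Localization.AtPrime q) (Localization.AtPrime P))
  haveI : IsScalarTower (Localization.AtPrime q) (Localization.AtPrime P)
      (LocalizedModule P.primeCompl M) := IsScalarTower.of_algebraMap_smul (fun _ _ => rfl)
  haveI : IsScalarTower B (Localization.AtPrime q) (LocalizedModule P.primeCompl M) := by
    refine IsScalarTower.of_algebraMap_smul (fun b n => ?_)
    change algebraMap (Localization.AtPrime q) (Localization.AtPrime P)
      (algebraMap B (Localization.AtPrime q) b) • n = b • n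
    rw [← IsScalarTower.algebraMap_apply, algebraMap_smul]
  haveI : Module.Flat (Localization.AtPrime q) (LocalizedModule P.primeCompl M) :=
    (Module.flat_iff_of_isLocalization (Localization.AtPrime q) q.primeCompl
      (LocalizedModule P.primeCompl M)).mpr h
  exact Module.Flat.of_linearEquiv (quotTensorEquiv _ (LocalizedModule P.primeCompl M)).symm

end R3

section R1

variable {A B C M : Type u} [CommRing A] [CommRing B] [CommRing C] [Algebra A B] [Algebra B C]
  [Algebra A C] [IsScalarTower A B C]
  [AddCommGroup M] [Module C M] [Module B M] [Module A M] [IsScalarTower B C M]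
  [IsScalarTower A C M]

set_option maxHeartbeats 3200000 in
-- **Fibre criterion with openness**: under the hypotheses of the fibre criterion, `M` is flat
-- over `B` on a whole neighbourhood of `P`.
theorem exists_nhds_flat [Algebra.FiniteType A B] [Algebra.FinitePresentation A C]
    [Module.FinitePresentation C M]
    (p : Ideal A) [p.IsPrime] (q : Ideal B) [q.IsPrime] [q.LiesOver p]
    (P : Ideal C) [P.IsPrime] [P.LiesOver q] [P.LiesOver p]
    (h1 : Module.Flat A (LocalizedModule P.primeCompl M)) (h2 : FibreFlat p q P M) :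
    ∃ c : C, c ∉ P ∧ ∀ (P' : Ideal C) [P'.IsPrime], c ∉ P' →
      Module.Flat B (LocalizedModule P'.primeCompl M) := by
  classical
  obtain ⟨n, f, hf⟩ := Algebra.FiniteType.iff_quotient_mvPolynomial''.mp
    (inferInstance : Algebra.FiniteType A B)
  obtain ⟨k, g, hg, hbij⟩ := exists_fin_ker_bijective p.ResidueField f hf
  let τ : (MvPolynomial (Fin n) A ⧸ Ideal.span (Set.range g)) →ₐ[A] B :=
    Ideal.Quotient.liftₐ _ f (by
      intro a ha
      have : Ideal.span (Set.range g) ≤ RingHom.ker f.toRingHom := by
        rw [Ideal.span_le]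
        rintro _ ⟨j, rfl⟩
        exact hg j
      exact this ha)
  have hτ : ∀ y, τ (Ideal.Quotient.mk _ y) = f y := fun y => rfl
  have hτsurj : Function.Surjective τ := by
    intro b
    obtain ⟨y, rfl⟩ := hf b
    exact ⟨Ideal.Quotient.mk _ y, hτ y⟩
  letI algB₁B : Algebra (MvPolynomial (Fin n) A ⧸ Ideal.span (Set.range g)) B :=
    τ.toRingHom.toAlgebra
  letI algB₁C : Algebra (MvPolynomial (Fin n) A ⧸ Ideal.span (Set.range g)) C :=
    ((algebraMap B C).comp τ.toRingHom).toAlgebra
  haveI : IsScalarTower A (MvPolynomial (Fin n) A ⧸ Ideal.span (Set.range g)) B :=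
    IsScalarTower.of_algebraMap_eq' τ.comp_algebraMap.symm
  haveI : IsScalarTower (MvPolynomial (Fin n) A ⧸ Ideal.span (Set.range g)) B C :=
    IsScalarTower.of_algebraMap_eq' rfl
  haveI : IsScalarTower A (MvPolynomial (Fin n) A ⧸ Ideal.span (Set.range g)) C := by
    refine IsScalarTower.of_algebraMap_eq' (R := A)
      (S := MvPolynomial (Fin n) A ⧸ Ideal.span (Set.range g)) (A := C) ?_
    ext a
    change algebraMap A C a = algebraMap B C (τ (algebraMap A _ a))
    rw [τ.commutes, ← IsScalarTower.algebraMap_apply]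
  haveI : Algebra.FinitePresentation A (MvPolynomial (Fin n) A ⧸ Ideal.span (Set.range g)) :=
    Algebra.FinitePresentation.quotient ⟨Finset.univ.image g, by simp⟩
  letI modB₁M : Module (MvPolynomial (Fin n) A ⧸ Ideal.span (Set.range g)) M :=
    Module.compHom M (algebraMap (MvPolynomial (Fin n) A ⧸ Ideal.span (Set.range g)) C)
  haveI : IsScalarTower (MvPolynomial (Fin n) A ⧸ Ideal.span (Set.range g)) C M :=
    IsScalarTower.of_algebraMap_smul (fun _ _ => rfl)
  -- the primes
  let q₁ : Ideal (MvPolynomial (Fin n) A ⧸ Ideal.span (Set.range g)) :=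
    q.comap (algebraMap (MvPolynomial (Fin n) A ⧸ Ideal.span (Set.range g)) B)
  haveI : q₁.IsPrime := Ideal.comap_isPrime _ _
  haveI : q.LiesOver q₁ := ⟨rfl⟩
  have hqP : q = P.comap (algebraMap B C) := Ideal.LiesOver.over
  have hpq : p = q.comap (algebraMap A B) := Ideal.LiesOver.over
  haveI : P.LiesOver q₁ := ⟨by
    ext x
    simp only [q₁, Ideal.under, Ideal.mem_comap]
    rw [hqP, Ideal.mem_comap]
    rfl⟩
  haveI : q₁.LiesOver p := ⟨by
    ext x
    simp only [q₁, Ideal.under, Ideal.mem_comap]
    rw [hpq, Ideal.mem_comap,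
      ← IsScalarTower.algebraMap_apply A (MvPolynomial (Fin n) A ⧸ Ideal.span (Set.range g)) B]⟩
  -- the map of fibres is bijective
  have hcomp : fiberMap (B := MvPolynomial (Fin n) A ⧸ Ideal.span (Set.range g)) (C := B) p =
      Algebra.TensorProduct.map (AlgHom.id p.ResidueField p.ResidueField) τ := by
    apply Algebra.TensorProduct.ext'
    intro a b
    rfl
  have h2₁ : FibreFlat p q₁ P M := fibreFlat_of_fiberMap_flat p q P q₁ (by
    rw [hcomp]
    exact RingHom.Flat.of_bijective (hbij τ hτ)) h2
  have h3 := flat_of_fibreFlat_fp (B := MvPolynomial (Fin n) A ⧸ Ideal.span (Set.range g))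
    p q₁ P h1 h2₁
  -- openness of the flat locus over `B₁`
  haveI : Algebra.FinitePresentation (MvPolynomial (Fin n) A ⧸ Ideal.span (Set.range g)) C :=
    Algebra.FinitePresentation.of_restrict_scalars_finitePresentation A
      (MvPolynomial (Fin n) A ⧸ Ideal.span (Set.range g)) C
  have hopen := isOpen_flatLocus_of_finitePresentation
    (R := MvPolynomial (Fin n) A ⧸ Ideal.span (Set.range g)) (S := C) (M := M)
  have hmem : (⟨P, inferInstance⟩ : PrimeSpectrum C) ∈
      {Q : PrimeSpectrum C | Module.Flat (MvPolynomial (Fin n) A ⧸ Ideal.span (Set.range g))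
        (LocalizedModule Q.asIdeal.primeCompl M)} := h3
  obtain ⟨t, ⟨c, rfl⟩, hPt, htU⟩ :=
    PrimeSpectrum.isTopologicalBasis_basic_opens.exists_subset_of_mem_open hmem hopen
  refine ⟨c, fun hc => hPt hc, ?_⟩
  intro P' hP' hcP'
  have h4 : Module.Flat (MvPolynomial (Fin n) A ⧸ Ideal.span (Set.range g))
      (LocalizedModule P'.primeCompl M) :=
    htU (show (⟨P', hP'⟩ : PrimeSpectrum C) ∈ (PrimeSpectrum.basicOpen c : Set _) from hcP')
  haveI : IsScalarTower (MvPolynomial (Fin n) A ⧸ Ideal.span (Set.range g)) B
      (LocalizedModule P'.primeCompl M) := by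
    constructor
    intro x y z
    induction z using LocalizedModule.induction_on with
    | h c s =>
      rw [LocalizedModule.smul'_mk, LocalizedModule.smul'_mk, LocalizedModule.smul'_mk]
      congr 1
      rw [Algebra.smul_def, mul_smul]
      change _ = algebraMap (MvPolynomial (Fin n) A ⧸ Ideal.span (Set.range g)) C x • (y • c)
      rw [IsScalarTower.algebraMap_apply (MvPolynomial (Fin n) A ⧸ Ideal.span (Set.range g)) B C,
        algebraMap_smul C (algebraMap (MvPolynomial (Fin n) A ⧸ Ideal.span (Set.range g)) B x)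
          (y • c)]
  refine flat_of_flat_of_surjective (R := MvPolynomial (Fin n) A ⧸ Ideal.span (Set.range g))
    (S := B) ?_
  exact hτsurj

end R1

section R2

variable {A' A B' B C' C : Type u} [CommRing A'] [CommRing A] [CommRing B'] [CommRing B]
  [CommRing C'] [CommRing C] [Algebra A' A]
  [Algebra A' B'] [Algebra A B] [Algebra B' B] [Algebra A' B] [IsScalarTower A' B' B]
  [IsScalarTower A' A B] [Algebra.IsPushout A' A B' B]
  [Algebra A' C'] [Algebra A C] [Algebra C' C] [Algebra A' C] [IsScalarTower A' C' C]
  [IsScalarTower A' A C] [Algebra.IsPushout A' A C' C]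
  [Algebra B' C'] [Algebra B C] [Algebra B' C] [IsScalarTower B' C' C] [IsScalarTower B' B C]
  [IsScalarTower A' B' C'] [IsScalarTower A B C]
  {M' M : Type u} [AddCommGroup M'] [Module C' M'] [AddCommGroup M] [Module C M] [Module C' M]
  [IsScalarTower C' C M]
  [Module B' M'] [Module A' M'] [IsScalarTower B' C' M'] [IsScalarTower A' C' M']
  [Module B M] [IsScalarTower B C M]

set_option maxHeartbeats 1600000 in
-- **Descent of relative flatness along an arbitrary base change** (for modules flat over the
-- base): the unprimed rings are the base change of the primed ones along `A' → A`.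
theorem flat_of_flat_baseChange [Algebra.FiniteType A' B'] [Algebra.FinitePresentation A' C']
    [Module.FinitePresentation C' M']
    (φ : M' →ₗ[C'] M) (hφ : IsBaseChange C φ)
    (p : Ideal A) [p.IsPrime] (q : Ideal B) [q.IsPrime] [q.LiesOver p]
    (P : Ideal C) [P.IsPrime] [P.LiesOver q] [P.LiesOver p]
    (q' : Ideal B') [q'.IsPrime] [q.LiesOver q'] (P' : Ideal C') [P'.IsPrime] [P.LiesOver P']
    [P'.LiesOver q'] [P.LiesOver q']
    (h1 : Module.Flat A' (LocalizedModule P'.primeCompl M'))
    (h2 : Module.Flat B (LocalizedModule P.primeCompl M)) :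
    Module.Flat B' (LocalizedModule P'.primeCompl M') := by
  have h3 : FibreFlat p q P M := fibreFlat_of_flat p q P h2
  have h4 : FibreFlat (p.comap (algebraMap A' A)) q' P' M' :=
    fibreFlat_model (A' := A') φ hφ p q P q' P' h3
  haveI : (p.comap (algebraMap A' A)).IsPrime := Ideal.comap_isPrime _ _
  have hq : q' = q.comap (algebraMap B' B) := Ideal.LiesOver.over
  have hpq : p = q.comap (algebraMap A B) := Ideal.LiesOver.over
  have hP : q' = P'.comap (algebraMap B' C') := Ideal.LiesOver.over
  haveI : q'.LiesOver (p.comap (algebraMap A' A)) := ⟨by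
    ext x
    simp only [Ideal.under, Ideal.mem_comap]
    rw [hq, hpq, Ideal.mem_comap, Ideal.mem_comap, ← IsScalarTower.algebraMap_apply,
      ← IsScalarTower.algebraMap_apply]⟩
  haveI : P'.LiesOver (p.comap (algebraMap A' A)) :=
    Ideal.LiesOver.trans P' q' (p.comap (algebraMap A' A))
  exact flat_of_fibreFlat (p.comap (algebraMap A' A)) q' P' h1 h4

end R2

end Groth.Agent.Lib.Helper3.FibModJ
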