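import Mathlib
import Groth.Agent.Lib.Helper3FibModJ
import Groth.Agent.Lib.Helper3FibModI
import Groth.Agent.Lib.Helper2FlatOpen
import Groth.Agent.Lib.Helper3EtGUSchB
import Groth.Prelude.Def_Coh
import Groth.Prelude.Def_CohB1

set_option autoImplicit false
set_option linter.style.haveILetI false

universe u

open CategoryTheory Limits AlgebraicGeometry TopologicalSpace Opposite TensorProduct

namespace Groth.Agent.Lib.Helper3.FibModK

open Groth.Agent.Lib.Helper2.FlatOver Groth.Agent.Lib.Helper2.FinPres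
  Groth.Agent.Lib.Helper2.FibreCrit Groth.Agent.Lib.Helper3.EtGUSch
  Groth.Agent.Lib.Helper3.FibModH Groth.Agent.Lib.Helper3.FibModJ
  Groth.Agent.Lib.Helper3.FibModC

variable {X Y S : Scheme.{u}}

set_option maxHeartbeats 1600000 in
-- flatness over the base at a point, in terms of sections over affine charts
theorem isFlatOverAt_iff_flat_localizedModule (f : X ⟶ Y) (F : X.Modules) [F.IsQuasicoherent]
    {V : X.Opens} (hV : IsAffineOpen V) {W : Y.Opens} (hW : IsAffineOpen W) (e : V ≤ f ⁻¹ᵁ W)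
    (x : X) (hx : x ∈ V) :
    letI : Algebra Γ(Y, W) Γ(X, V) := (f.appLE W V e).hom.toAlgebra
    letI : Module Γ(Y, W) Γ(F, V) := Module.compHom Γ(F, V) (algebraMap Γ(Y, W) Γ(X, V))
    haveI : IsScalarTower Γ(Y, W) Γ(X, V) Γ(F, V) :=
      IsScalarTower.of_algebraMap_smul (fun _ _ => rfl)
    FlatMod.IsFlatOverAt f F x ↔
      Module.Flat Γ(Y, W)
        (LocalizedModule (hV.primeIdealOf ⟨x, hx⟩).asIdeal.primeCompl Γ(F, V)) := by
  letI : Algebra Γ(Y, W) Γ(X, V) := (f.appLE W V e).hom.toAlgebra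
  letI : Module Γ(Y, W) Γ(F, V) := Module.compHom Γ(F, V) (algebraMap Γ(Y, W) Γ(X, V))
  haveI : IsScalarTower Γ(Y, W) Γ(X, V) Γ(F, V) :=
    IsScalarTower.of_algebraMap_smul (fun _ _ => rfl)
  rw [isFlatOverAt_iff_flat_base f F hW x (e hx)]
  letI := moduleStalkSections F V x hx
  letI := moduleStalkBase f F W x (e hx)
  haveI : IsScalarTower Γ(Y, W) Γ(X, V) (F.presheaf.stalk x) := by
    refine ⟨fun a b y => ?_⟩
    change X.presheaf.germ V x hx ((f.appLE W V e).hom a * b) • y =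
      (f.stalkMap x).hom (Y.presheaf.germ W (f.base x) (e hx) a) • (X.presheaf.germ V x hx b • y)
    rw [map_mul, mul_smul, stalkMap_germ_eq f e x hx a]
  haveI := isLocalizedModule_germ hV F x hx
  let e₀ := IsLocalizedModule.iso (hV.primeIdealOf ⟨x, hx⟩).asIdeal.primeCompl (germₗ F V x hx)
  constructor
  · intro h
    exact Module.Flat.of_linearEquiv (e₀.restrictScalars Γ(Y, W))
  · intro h
    exact Module.Flat.of_linearEquiv (e₀.restrictScalars Γ(Y, W)).symm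

set_option maxHeartbeats 3200000 in
-- **Openness of the relative flat locus** of a finitely presented module flat over the base.
theorem isOpen_setOf_isFlatOverAt (f : X ⟶ Y) (g : Y ⟶ S)
    [LocallyOfFinitePresentation (f ≫ g)] [LocallyOfFiniteType g]
    (F : X.Modules) [F.IsQuasicoherent]
    [SheafOfModules.IsFinitePresentation (R := X.ringCatSheaf) F]
    (hfl : FlatMod.IsFlatOver (f ≫ g) F) :
    IsOpen {x : X | FlatMod.IsFlatOverAt f F x} := by
  rw [isOpen_iff_forall_mem_open]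
  intro x hxU
  -- charts
  obtain ⟨S₀, hS₀, W, hW, hWS, hfxW, -⟩ := exists_affine_nhds g (f x) ⊤ trivial
  obtain ⟨V, hV, hxV, hVW, hfpM⟩ := exists_affine_nhds_finitePresentation F x (f ⁻¹ᵁ W) hfxW
  have hVS : V ≤ (f ≫ g) ⁻¹ᵁ S₀ := fun z hz => hWS (hVW hz)
  have hsS₀ : g (f x) ∈ S₀ := hWS hfxW
  letI algAB : Algebra Γ(S, S₀) Γ(Y, W) := (g.appLE S₀ W hWS).hom.toAlgebra
  letI algBC : Algebra Γ(Y, W) Γ(X, V) := (f.appLE W V hVW).hom.toAlgebra
  letI algAC : Algebra Γ(S, S₀) Γ(X, V) := ((f ≫ g).appLE S₀ V hVS).hom.toAlgebra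
  haveI : IsScalarTower Γ(S, S₀) Γ(Y, W) Γ(X, V) := by
    refine IsScalarTower.of_algebraMap_eq' ?_
    show ((f ≫ g).appLE S₀ V hVS).hom = (f.appLE W V hVW).hom.comp (g.appLE S₀ W hWS).hom
    rw [← CommRingCat.hom_comp, Scheme.Hom.appLE_comp_appLE]
  haveI : Algebra.FinitePresentation Γ(S, S₀) Γ(X, V) :=
    (f ≫ g).finitePresentation_appLE hS₀ hV hVS
  haveI : Algebra.FiniteType Γ(S, S₀) Γ(Y, W) := g.finiteType_appLE hS₀ hW hWS
  letI mBM : Module Γ(Y, W) Γ(F, V) := Module.compHom Γ(F, V) (algebraMap Γ(Y, W) Γ(X, V))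
  letI mAM : Module Γ(S, S₀) Γ(F, V) := Module.compHom Γ(F, V) (algebraMap Γ(S, S₀) Γ(X, V))
  haveI : IsScalarTower Γ(Y, W) Γ(X, V) Γ(F, V) :=
    IsScalarTower.of_algebraMap_smul (fun _ _ => rfl)
  haveI : IsScalarTower Γ(S, S₀) Γ(X, V) Γ(F, V) :=
    IsScalarTower.of_algebraMap_smul (fun _ _ => rfl)
  -- the primes
  let P : Ideal Γ(X, V) := (hV.primeIdealOf ⟨x, hxV⟩).asIdeal
  let q : Ideal Γ(Y, W) := (hW.primeIdealOf ⟨f x, hfxW⟩).asIdeal
  let p : Ideal Γ(S, S₀) := (hS₀.primeIdealOf ⟨g (f x), hsS₀⟩).asIdeal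
  haveI : P.LiesOver q :=
    ⟨congr($(IsAffineOpen.comap_primeIdealOf_appLE W hW V hV hVW hxV).1).symm⟩
  haveI : q.LiesOver p :=
    ⟨congr($(IsAffineOpen.comap_primeIdealOf_appLE S₀ hS₀ W hW hWS hfxW).1).symm⟩
  haveI : P.LiesOver p :=
    ⟨congr($(IsAffineOpen.comap_primeIdealOf_appLE (f := f ≫ g) S₀ hS₀ V hV hVS hxV).1).symm⟩
  have hA : Module.Flat Γ(S, S₀) (LocalizedModule P.primeCompl Γ(F, V)) :=
    (isFlatOverAt_iff_flat_localizedModule (f ≫ g) F hV hS₀ hVS x hxV).1 (hfl x)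
  have hB : Module.Flat Γ(Y, W) (LocalizedModule P.primeCompl Γ(F, V)) :=
    (isFlatOverAt_iff_flat_localizedModule f F hV hW hVW x hxV).1 hxU
  obtain ⟨c, hcP, hc⟩ := exists_nhds_flat p q P hA (fibreFlat_of_flat p q P hB)
  refine ⟨X.basicOpen c, ?_, (X.basicOpen c).isOpen, ?_⟩
  · intro x' hx'
    have hx'V : x' ∈ V := X.basicOpen_le c hx'
    change FlatMod.IsFlatOverAt f F x'
    rw [isFlatOverAt_iff_flat_localizedModule f F hV hW hVW x' hx'V]
    haveI := (hV.primeIdealOf ⟨x', hx'V⟩).isPrime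
    apply hc
    exact (Groth.Agent.Lib.Helper2.mem_basicOpen_iff_notMem_primeIdealOf hV x' hx'V c).1 hx'
  · exact (Groth.Agent.Lib.Helper2.mem_basicOpen_iff_notMem_primeIdealOf hV x hxV c).2 hcP

end Groth.Agent.Lib.Helper3.FibModK
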