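import Mathlib
import Groth.Agent.Lib.Helper3FibModK
import Groth.Agent.Lib.Helper2PullbackSec4

set_option autoImplicit false
set_option linter.style.haveILetI false

universe u

open CategoryTheory Limits AlgebraicGeometry TopologicalSpace Opposite TensorProduct

namespace Groth.Agent.Lib.Helper3.FibModL

open Groth.Agent.Lib.Helper2.FlatOver Groth.Agent.Lib.Helper2.FinPres
  Groth.Agent.Lib.Helper2.FibreCrit Groth.Agent.Lib.Helper3.EtGUSch
  Groth.Agent.Lib.Helper3.FibModH Groth.Agent.Lib.Helper3.FibModJ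
  Groth.Agent.Lib.Helper3.FibModC Groth.Agent.Lib.Helper3.FibModK
  Groth.Agent.Lib.Helper2.PullbackSec

variable {X Y S : Scheme.{u}}

set_option maxHeartbeats 6400000 in
-- **Descent of relative flatness along an arbitrary base change**, for a finitely presented
-- module which is flat over the base.
theorem isFlatOverAt_of_pullback_flat (f : X ⟶ Y) (g : Y ⟶ S)
    [LocallyOfFinitePresentation (f ≫ g)] [LocallyOfFiniteType g]
    (F : X.Modules) [F.IsQuasicoherent]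
    [SheafOfModules.IsFinitePresentation (R := X.ringCatSheaf) F]
    {X' Y' S' : Scheme.{u}} (h : S' ⟶ S) (gY : Y' ⟶ Y) (g' : Y' ⟶ S')
    (hY : IsPullback gY g' g h) (gX : X' ⟶ X) (f' : X' ⟶ Y')
    (hX : IsPullback gX (f' ≫ g') (f ≫ g) h) (w : gX ≫ f = f' ≫ gY)
    (x' : X') (hA : FlatMod.IsFlatOverAt (f ≫ g) F (gX x'))
    (hB : FlatMod.IsFlatOverAt f' ((Scheme.Modules.pullback gX).obj F) x') :
    FlatMod.IsFlatOverAt f F (gX x') := by
  set H := (Scheme.Modules.pullback gX).obj F with hH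
  haveI : H.IsQuasicoherent := isQuasicoherent_pullback gX F
  have hpt : gY (f' x') = f (gX x') := by
    have := congrArg (fun φ => φ.base x') w
    simpa using this.symm
  have hpt2 : h (g' (f' x')) = g (f (gX x')) := by
    have := congrArg (fun φ => φ.base x') hX.w
    simpa using this.symm
  -- charts downstairs
  obtain ⟨S₀, hS₀, W, hW, hWS, hfxW, -⟩ := exists_affine_nhds g (f (gX x')) ⊤ trivial
  obtain ⟨V, hV, hxV, hVW, hfpM⟩ :=
    exists_affine_nhds_finitePresentation F (gX x') (f ⁻¹ᵁ W) hfxW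
  have hVS : V ≤ (f ≫ g) ⁻¹ᵁ S₀ := fun z hz => hWS (hVW hz)
  have hsS₀ : g (f (gX x')) ∈ S₀ := hWS hfxW
  -- charts upstairs
  obtain ⟨S₀', hS₀', hs'S₀', eS₀'⟩ : ∃ V' : S'.Opens, IsAffineOpen V' ∧ g' (f' x') ∈ V' ∧
      V' ≤ h ⁻¹ᵁ S₀ := by
    have hmem : g' (f' x') ∈ h ⁻¹ᵁ S₀ := by
      change h (g' (f' x')) ∈ S₀
      rw [hpt2]; exact hsS₀
    obtain ⟨W, hW⟩ := (S'.isBasis_affineOpens).exists_subset_of_mem_open hmem (h ⁻¹ᵁ S₀).isOpen
    obtain ⟨⟨V', hV', rfl⟩, hxV', hle⟩ := hW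
    exact ⟨V', hV', hxV', hle⟩
  set W' : Y'.Opens := gY ⁻¹ᵁ W ⊓ g' ⁻¹ᵁ S₀' with hW'def
  have hW' : IsAffineOpen W' := isAffineOpen_inf_preimage hY eS₀' hWS hS₀ hS₀' hW
  have eW1 : W' ≤ gY ⁻¹ᵁ W := inf_le_left
  have eW2 : W' ≤ g' ⁻¹ᵁ S₀' := inf_le_right
  set V' : X'.Opens := gX ⁻¹ᵁ V ⊓ (f' ≫ g') ⁻¹ᵁ S₀' with hV'def
  have hV' : IsAffineOpen V' := isAffineOpen_inf_preimage hX eS₀' hVS hS₀ hS₀' hV
  have eV1 : V' ≤ gX ⁻¹ᵁ V := inf_le_left
  have eV2 : V' ≤ (f' ≫ g') ⁻¹ᵁ S₀' := inf_le_right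
  have hx'V' : x' ∈ V' := ⟨hxV, hs'S₀'⟩
  have hV'W' : V' ≤ f' ⁻¹ᵁ W' := by
    intro z hz
    refine ⟨?_, hz.2⟩
    change gY (f' z) ∈ W
    have hz' : gY (f' z) = f (gX z) := by
      have := congrArg (fun φ => φ.base z) w
      simpa using this.symm
    rw [hz']
    exact hVW hz.1
  have hy'W' : f' x' ∈ W' := hV'W' hx'V'
  -- ring structures: A' = Γ(S,S₀), A = Γ(S',S₀'), B' = Γ(Y,W), B = Γ(Y',W'), C' = Γ(X,V), C = Γ(X',V')
  letI aA'A : Algebra Γ(S, S₀) Γ(S', S₀') := (h.appLE S₀ S₀' eS₀').hom.toAlgebra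
  letI aA'B' : Algebra Γ(S, S₀) Γ(Y, W) := (g.appLE S₀ W hWS).hom.toAlgebra
  letI aAB : Algebra Γ(S', S₀') Γ(Y', W') := (g'.appLE S₀' W' eW2).hom.toAlgebra
  letI aB'B : Algebra Γ(Y, W) Γ(Y', W') := (gY.appLE W W' eW1).hom.toAlgebra
  letI aA'B : Algebra Γ(S, S₀) Γ(Y', W') :=
    ((gY.appLE W W' eW1).hom.comp (g.appLE S₀ W hWS).hom).toAlgebra
  haveI tA'B'B : IsScalarTower Γ(S, S₀) Γ(Y, W) Γ(Y', W') :=
    IsScalarTower.of_algebraMap_eq (fun a => rfl)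
  haveI tA'AB : IsScalarTower Γ(S, S₀) Γ(S', S₀') Γ(Y', W') := by
    refine IsScalarTower.of_algebraMap_eq (fun a => ?_)
    change (gY.appLE W W' eW1).hom ((g.appLE S₀ W hWS).hom a) =
      (g'.appLE S₀' W' eW2).hom ((h.appLE S₀ S₀' eS₀').hom a)
    have h1 := Scheme.Hom.appLE_comp_appLE gY g S₀ W W' hWS eW1
    have h2 := Scheme.Hom.appLE_comp_appLE g' h S₀ S₀' W' eS₀' eW2
    have h3 : (g.appLE S₀ W hWS ≫ gY.appLE W W' eW1) =
        (h.appLE S₀ S₀' eS₀' ≫ g'.appLE S₀' W' eW2) := by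
      rw [h1, h2]
      congr 1
      exact hY.w
    exact congrArg (fun φ => φ.hom a) h3
  haveI poB : Algebra.IsPushout Γ(S, S₀) Γ(S', S₀') Γ(Y, W) Γ(Y', W') :=
    algebra_isPushout hY eS₀' hWS hS₀ hS₀' hW eW1 eW2
  letI aA'C' : Algebra Γ(S, S₀) Γ(X, V) := ((f ≫ g).appLE S₀ V hVS).hom.toAlgebra
  letI aAC : Algebra Γ(S', S₀') Γ(X', V') := ((f' ≫ g').appLE S₀' V' eV2).hom.toAlgebra
  letI aC'C : Algebra Γ(X, V) Γ(X', V') := (gX.appLE V V' eV1).hom.toAlgebra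
  letI aA'C : Algebra Γ(S, S₀) Γ(X', V') :=
    ((gX.appLE V V' eV1).hom.comp ((f ≫ g).appLE S₀ V hVS).hom).toAlgebra
  haveI tA'C'C : IsScalarTower Γ(S, S₀) Γ(X, V) Γ(X', V') :=
    IsScalarTower.of_algebraMap_eq (fun a => rfl)
  haveI tA'AC : IsScalarTower Γ(S, S₀) Γ(S', S₀') Γ(X', V') := by
    refine IsScalarTower.of_algebraMap_eq (fun a => ?_)
    change (gX.appLE V V' eV1).hom (((f ≫ g).appLE S₀ V hVS).hom a) =
      ((f' ≫ g').appLE S₀' V' eV2).hom ((h.appLE S₀ S₀' eS₀').hom a)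
    have h1 := Scheme.Hom.appLE_comp_appLE gX (f ≫ g) S₀ V V' hVS eV1
    have h2 := Scheme.Hom.appLE_comp_appLE (f' ≫ g') h S₀ S₀' V' eS₀' eV2
    have h3 : ((f ≫ g).appLE S₀ V hVS ≫ gX.appLE V V' eV1) =
        (h.appLE S₀ S₀' eS₀' ≫ (f' ≫ g').appLE S₀' V' eV2) := by
      rw [h1, h2]
      congr 1
      exact hX.w
    exact congrArg (fun φ => φ.hom a) h3
  haveI poC : Algebra.IsPushout Γ(S, S₀) Γ(S', S₀') Γ(X, V) Γ(X', V') :=
    algebra_isPushout hX eS₀' hVS hS₀ hS₀' hV eV1 eV2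
  letI aB'C' : Algebra Γ(Y, W) Γ(X, V) := (f.appLE W V hVW).hom.toAlgebra
  letI aBC : Algebra Γ(Y', W') Γ(X', V') := (f'.appLE W' V' hV'W').hom.toAlgebra
  letI aB'C : Algebra Γ(Y, W) Γ(X', V') :=
    ((gX.appLE V V' eV1).hom.comp (f.appLE W V hVW).hom).toAlgebra
  haveI tB'C'C : IsScalarTower Γ(Y, W) Γ(X, V) Γ(X', V') :=
    IsScalarTower.of_algebraMap_eq (fun a => rfl)
  haveI tB'BC : IsScalarTower Γ(Y, W) Γ(Y', W') Γ(X', V') := by
    refine IsScalarTower.of_algebraMap_eq (fun a => ?_)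
    change (gX.appLE V V' eV1).hom ((f.appLE W V hVW).hom a) =
      (f'.appLE W' V' hV'W').hom ((gY.appLE W W' eW1).hom a)
    have h1 := Scheme.Hom.appLE_comp_appLE gX f W V V' hVW eV1
    have h2 := Scheme.Hom.appLE_comp_appLE f' gY W W' V' eW1 hV'W'
    have h3 : (f.appLE W V hVW ≫ gX.appLE V V' eV1) =
        (gY.appLE W W' eW1 ≫ f'.appLE W' V' hV'W') := by
      rw [h1, h2]
      congr 1
    exact congrArg (fun φ => φ.hom a) h3
  haveI tA'B'C' : IsScalarTower Γ(S, S₀) Γ(Y, W) Γ(X, V) := by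
    refine IsScalarTower.of_algebraMap_eq' ?_
    show ((f ≫ g).appLE S₀ V hVS).hom = (f.appLE W V hVW).hom.comp (g.appLE S₀ W hWS).hom
    rw [← CommRingCat.hom_comp, Scheme.Hom.appLE_comp_appLE]
  haveI tABC : IsScalarTower Γ(S', S₀') Γ(Y', W') Γ(X', V') := by
    refine IsScalarTower.of_algebraMap_eq' ?_
    show ((f' ≫ g').appLE S₀' V' eV2).hom =
      (f'.appLE W' V' hV'W').hom.comp (g'.appLE S₀' W' eW2).hom
    rw [← CommRingCat.hom_comp, Scheme.Hom.appLE_comp_appLE]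
  haveI : Algebra.FinitePresentation Γ(S, S₀) Γ(X, V) :=
    (f ≫ g).finitePresentation_appLE hS₀ hV hVS
  haveI : Algebra.FiniteType Γ(S, S₀) Γ(Y, W) := g.finiteType_appLE hS₀ hW hWS
  -- modules
  letI mB'M' : Module Γ(Y, W) Γ(F, V) := Module.compHom Γ(F, V) (algebraMap Γ(Y, W) Γ(X, V))
  letI mA'M' : Module Γ(S, S₀) Γ(F, V) := Module.compHom Γ(F, V) (algebraMap Γ(S, S₀) Γ(X, V))
  haveI : IsScalarTower Γ(Y, W) Γ(X, V) Γ(F, V) :=
    IsScalarTower.of_algebraMap_smul (fun _ _ => rfl)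
  haveI : IsScalarTower Γ(S, S₀) Γ(X, V) Γ(F, V) :=
    IsScalarTower.of_algebraMap_smul (fun _ _ => rfl)
  letI mBM : Module Γ(Y', W') Γ(H, V') :=
    Module.compHom Γ(H, V') (algebraMap Γ(Y', W') Γ(X', V'))
  haveI : IsScalarTower Γ(Y', W') Γ(X', V') Γ(H, V') :=
    IsScalarTower.of_algebraMap_smul (fun _ _ => rfl)
  letI mC'M : Module Γ(X, V) Γ(H, V') :=
    Module.compHom Γ(H, V') (algebraMap Γ(X, V) Γ(X', V'))
  haveI : IsScalarTower Γ(X, V) Γ(X', V') Γ(H, V') :=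
    IsScalarTower.of_algebraMap_smul (fun _ _ => rfl)
  -- the base change map on sections
  obtain ⟨T⟩ := nonempty_sections_linearEquiv gX F hV' hV eV1
  let ν : Γ(F, V) →ₗ[Γ(X, V)] Γ(H, V') :=
    (T.toLinearMap.restrictScalars Γ(X, V)).comp (TensorProduct.mk Γ(X, V) Γ(X', V') Γ(F, V) 1)
  have hν : IsBaseChange Γ(X', V') ν := IsBaseChange.of_equiv T (fun v => rfl)
  -- the primes
  let P : Ideal Γ(X', V') := (hV'.primeIdealOf ⟨x', hx'V'⟩).asIdeal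
  let q : Ideal Γ(Y', W') := (hW'.primeIdealOf ⟨f' x', hy'W'⟩).asIdeal
  let p : Ideal Γ(S', S₀') := (hS₀'.primeIdealOf ⟨g' (f' x'), hs'S₀'⟩).asIdeal
  let P' : Ideal Γ(X, V) := (hV.primeIdealOf ⟨gX x', hxV⟩).asIdeal
  let q' : Ideal Γ(Y, W) := q.comap (algebraMap Γ(Y, W) Γ(Y', W'))
  haveI : q'.IsPrime := Ideal.comap_isPrime _ _
  haveI : P.LiesOver q :=
    ⟨congr($(IsAffineOpen.comap_primeIdealOf_appLE W' hW' V' hV' hV'W' hx'V').1).symm⟩
  haveI : q.LiesOver p :=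
    ⟨congr($(IsAffineOpen.comap_primeIdealOf_appLE S₀' hS₀' W' hW' eW2 hy'W').1).symm⟩
  haveI : P.LiesOver p := Ideal.LiesOver.trans P q p
  haveI : P.LiesOver P' :=
    ⟨congr($(IsAffineOpen.comap_primeIdealOf_appLE V hV V' hV' eV1 hx'V').1).symm⟩
  haveI : q.LiesOver q' := ⟨rfl⟩
  haveI : P.LiesOver q' := ⟨by
    change q.comap (algebraMap Γ(Y, W) Γ(Y', W')) = P.comap (algebraMap Γ(Y, W) Γ(X', V'))
    rw [IsScalarTower.algebraMap_eq Γ(Y, W) Γ(Y', W') Γ(X', V'), ← Ideal.comap_comap]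
    congr 1
    exact Ideal.LiesOver.over⟩
  haveI : P'.LiesOver q' := ⟨by
    have h1 : q' = P.comap (algebraMap Γ(Y, W) Γ(X', V')) := Ideal.LiesOver.over
    have h2 : P' = P.comap (algebraMap Γ(X, V) Γ(X', V')) := Ideal.LiesOver.over
    change q' = P'.comap (algebraMap Γ(Y, W) Γ(X, V))
    rw [h1, h2, Ideal.comap_comap, ← IsScalarTower.algebraMap_eq]⟩
  -- flatness
  have h1 : Module.Flat Γ(S, S₀) (LocalizedModule P'.primeCompl Γ(F, V)) :=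
    (Groth.Agent.Lib.Helper3.FibModK.isFlatOverAt_iff_flat_localizedModule (f ≫ g) F hV hS₀ hVS (gX x') hxV).1 hA
  have h2 : Module.Flat Γ(Y', W') (LocalizedModule P.primeCompl Γ(H, V')) :=
    (Groth.Agent.Lib.Helper3.FibModK.isFlatOverAt_iff_flat_localizedModule f' H hV' hW' hV'W' x' hx'V').1 hB
  have h3 : Module.Flat Γ(Y, W) (LocalizedModule P'.primeCompl Γ(F, V)) :=
    flat_of_flat_baseChange (A' := Γ(S, S₀)) (A := Γ(S', S₀')) (B' := Γ(Y, W)) (B := Γ(Y', W'))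
      (C' := Γ(X, V)) (C := Γ(X', V')) (M' := Γ(F, V)) (M := Γ(H, V')) ν hν p q P q' P' h1 h2
  exact (Groth.Agent.Lib.Helper3.FibModK.isFlatOverAt_iff_flat_localizedModule f F hV hW hVW (gX x') hxV).2 h3

end Groth.Agent.Lib.Helper3.FibModL
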