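import Mathlib

set_option autoImplicit false
set_option linter.style.haveILetI false

namespace Groth.Agent.Lib.Helper3.FibreFree

open TensorProduct

/-- If `M` is flat and `φ : L → M` is surjective, then `ker φ ∩ I L = I (ker φ)`
(vanishing of `Tor₁(A/I, M)`, elementwise form via the equational criterion). -/
theorem mem_smul_ker_of_flat {A L M : Type*} [CommRing A] [AddCommGroup L] [Module A L]
    [AddCommGroup M] [Module A M] [Module.Flat A M]
    (φ : L →ₗ[A] M) (hφ : Function.Surjective φ) (I : Ideal A) {x : L}
    (hx : x ∈ I • (⊤ : Submodule A L)) (hφx : φ x = 0) :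
    x ∈ I • LinearMap.ker φ := by
  classical
  have hx' : x ∈ I • Submodule.span A (Set.range (id : L → L)) := by
    rw [Set.range_id, Submodule.span_univ]
    exact hx
  rw [Submodule.mem_ideal_smul_span_iff_exists_sum] at hx'
  obtain ⟨a, ha, hsum⟩ := hx'
  -- the relation in `M`
  have hxsum : x = ∑ i ∈ a.support, a i • i := by
    rw [← hsum, Finsupp.sum]
    simp
  have hrel : ∑ i : a.support, a i.1 • φ i.1 = 0 := by
    rw [Finset.sum_coe_sort a.support (fun i => a i • φ i), ← hφx, hxsum, map_sum]
    simp
  obtain ⟨k, c, y, hy0, hc0⟩ := Module.Flat.isTrivialRelation_of_sum_smul_eq_zero hrel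
  have hy : ∀ i : a.support, φ i.1 = ∑ j, c i j • y j := hy0
  have hc : ∀ j, ∑ i : a.support, a i.1 * c i j = 0 := hc0
  choose y' hy' using fun j => hφ (y j)
  -- elements of the kernel
  have hker : ∀ i : a.support, i.1 - ∑ j, c i j • y' j ∈ LinearMap.ker φ := by
    intro i
    rw [LinearMap.mem_ker, map_sub, map_sum, hy i, sub_eq_zero]
    refine Finset.sum_congr rfl fun j _ => ?_
    rw [map_smul, hy']
  have hxeq : x = ∑ i : a.support, a i.1 • (i.1 - ∑ j, c i j • y' j) := by
    have h2 : ∑ i : a.support, a i.1 • ∑ j, c i j • y' j = 0 := by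
      simp_rw [Finset.smul_sum, smul_smul]
      rw [Finset.sum_comm]
      refine Finset.sum_eq_zero fun j _ => ?_
      rw [← Finset.sum_smul, hc j, zero_smul]
    simp_rw [smul_sub]
    rw [Finset.sum_sub_distrib, h2, sub_zero, Finset.sum_coe_sort a.support (fun i => a i • i)]
    exact hxsum
  rw [hxeq]
  exact Submodule.sum_mem _ fun i _ => Submodule.smul_mem_smul (ha i.1) (hker i)

/-- Auxiliary form of `free_of_flat_of_flat_quotient` with a given basis of the reduction. -/
theorem free_of_basis_quotient {A B M : Type*} [CommRing A] [CommRing B] [IsLocalRing B]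
    [Algebra A B] (I : Ideal A) (hI : I.map (algebraMap A B) ≤ IsLocalRing.maximalIdeal B)
    [AddCommGroup M] [Module B M] [Module A M] [IsScalarTower A B M]
    [Module.FinitePresentation B M] [Module.Flat A M] {κ : Type*} [Fintype κ]
    (b : Module.Basis κ (B ⧸ I.map (algebraMap A B))
      (M ⧸ (I.map (algebraMap A B)) • (⊤ : Submodule B M))) :
    Module.Free B M := by
  classical
  set J := I.map (algebraMap A B) with hJ
  have hJjac : J ≤ Ideal.jacobson (⊥ : Ideal B) := by
    rw [IsLocalRing.jacobson_eq_maximalIdeal ⊥ bot_ne_top]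
    exact hI
  choose m hm using fun i => Submodule.Quotient.mk_surjective (J • (⊤ : Submodule B M)) (b i)
  let φ : (κ → B) →ₗ[B] M := Fintype.linearCombination B m
  have hφ : ∀ x, φ x = ∑ i, x i • m i := fun x => Fintype.linearCombination_apply B m x
  have hmkφ : ∀ x, (Submodule.Quotient.mk (φ x) : M ⧸ J • (⊤ : Submodule B M)) =
      ∑ i, (Ideal.Quotient.mk J (x i)) • b i := by
    intro x
    rw [hφ, ← Submodule.mkQ_apply, map_sum]
    refine Finset.sum_congr rfl fun i _ => ?_
    rw [Submodule.mkQ_apply, ← hm i]
    rfl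
  -- surjectivity
  have hsurj : Function.Surjective φ := by
    rw [← LinearMap.range_eq_top, eq_top_iff]
    apply Submodule.le_of_le_smul_of_le_jacobson_bot (Module.Finite.fg_top) hJjac
    intro x _
    choose β hβ using fun i => Ideal.Quotient.mk_surjective (b.repr (Submodule.Quotient.mk x) i)
    have h1 : (Submodule.Quotient.mk (x - φ β) : M ⧸ J • (⊤ : Submodule B M)) = 0 := by
      rw [Submodule.Quotient.mk_sub, hmkφ, sub_eq_zero]
      simp_rw [hβ]
      exact (b.sum_repr _).symm
    rw [Submodule.Quotient.mk_eq_zero] at h1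
    have : x = φ β + (x - φ β) := by abel
    rw [this]
    exact Submodule.add_mem_sup (LinearMap.mem_range_self φ β) h1
  -- the kernel
  have hkerFG : (LinearMap.ker φ).FG := Module.FinitePresentation.fg_ker φ hsurj
  have hcoord : ∀ x ∈ LinearMap.ker φ, ∀ i, x i ∈ J := by
    intro x hx i
    have h1 := hmkφ x
    rw [LinearMap.mem_ker.mp hx, Submodule.Quotient.mk_zero] at h1
    have h2 := Fintype.linearIndependent_iff.mp b.linearIndependent _ h1.symm i
    exact Ideal.Quotient.eq_zero_iff_mem.mp h2
  have hker : LinearMap.ker φ ≤ J • LinearMap.ker φ := by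
    intro x hx
    have hxtop : x ∈ J • (⊤ : Submodule B (κ → B)) := by
      have hx' : x = ∑ i, x i • (Pi.single i 1 : κ → B) := by
        funext i'
        simp [Finset.sum_apply, Pi.single_apply]
      rw [hx']
      exact Submodule.sum_mem _ fun i _ => Submodule.smul_mem_smul (hcoord x hx i) trivial
    have hxtop' : x ∈ I • (⊤ : Submodule A (κ → B)) := by
      have := Ideal.smul_restrictScalars I (⊤ : Submodule B (κ → B))
      rw [Submodule.restrictScalars_top] at this
      rw [← this]
      exact hxtop
    have h3 := mem_smul_ker_of_flat (φ.restrictScalars A) hsurj I hxtop' (LinearMap.mem_ker.mp hx)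
    have h4 := Ideal.smul_restrictScalars I (LinearMap.ker φ)
    have h5 : (LinearMap.ker φ).restrictScalars A = LinearMap.ker (φ.restrictScalars A) := rfl
    rw [h5] at h4
    rw [← h4] at h3
    exact h3
  have hkerbot : LinearMap.ker φ = ⊥ :=
    Submodule.eq_bot_of_le_smul_of_le_jacobson_bot J _ hkerFG hker hJjac
  exact Module.Free.of_equiv (LinearEquiv.ofBijective φ ⟨LinearMap.ker_eq_bot.mp hkerbot, hsurj⟩)

/-- **Freeness from the fibre**: a finitely presented module `M` over a local ring `B`, flat over
`A`, whose reduction modulo an ideal `I` of `A` (with `I B ≠ B`) is flat over `B / I B`, is free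
over `B`. No Noetherian hypotheses. -/
theorem free_of_flat_of_flat_quotient {A B M : Type*} [CommRing A] [CommRing B] [IsLocalRing B]
    [Algebra A B] (I : Ideal A) (hI : I.map (algebraMap A B) ≤ IsLocalRing.maximalIdeal B)
    [AddCommGroup M] [Module B M] [Module A M] [IsScalarTower A B M]
    [Module.FinitePresentation B M] [Module.Flat A M]
    (h : Module.Flat (B ⧸ I.map (algebraMap A B))
      (M ⧸ (I.map (algebraMap A B)) • (⊤ : Submodule B M))) :
    Module.Free B M := by
  classical
  have hJne : I.map (algebraMap A B) ≠ ⊤ := fun htop =>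
    (IsLocalRing.maximalIdeal.isMaximal B).ne_top (top_le_iff.mp (htop ▸ hI))
  haveI : Nontrivial (B ⧸ I.map (algebraMap A B)) := Ideal.Quotient.nontrivial_iff.mpr hJne
  haveI : IsLocalRing (B ⧸ I.map (algebraMap A B)) :=
    IsLocalRing.of_surjective' (Ideal.Quotient.mk _) Ideal.Quotient.mk_surjective
  haveI : Module.Finite (B ⧸ I.map (algebraMap A B))
      (M ⧸ (I.map (algebraMap A B)) • (⊤ : Submodule B M)) :=
    Module.Finite.of_restrictScalars_finite B _ _
  haveI : Module.Free (B ⧸ I.map (algebraMap A B))
      (M ⧸ (I.map (algebraMap A B)) • (⊤ : Submodule B M)) := Module.free_of_flat_of_isLocalRing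
  exact free_of_basis_quotient I hI (Module.Free.chooseBasis (B ⧸ I.map (algebraMap A B))
      (M ⧸ (I.map (algebraMap A B)) • (⊤ : Submodule B M)))

end Groth.Agent.Lib.Helper3.FibreFree
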