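import Mathlib
import Groth.Agent.Lib.Helper3FibreFree
import Groth.Agent.Lib.Helper3FlatLocA

set_option autoImplicit false
set_option linter.style.haveILetI false

universe u

namespace Groth.Agent.Lib.Helper3.FibreFree

open TensorProduct

/-- `M / J M` as a base change of `M` along `B → B / J`. -/
theorem isBaseChange_mkQ {B M : Type*} [CommRing B] [AddCommGroup M] [Module B M] (J : Ideal B) :
    IsBaseChange (B ⧸ J) (J • (⊤ : Submodule B M)).mkQ := by
  refine IsBaseChange.of_equiv (LinearEquiv.extendScalarsOfSurjective (R := B) (S := B ⧸ J)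
    Ideal.Quotient.mk_surjective (TensorProduct.quotTensorEquivQuotSMul M J)) fun x => ?_
  change TensorProduct.quotTensorEquivQuotSMul M J (1 ⊗ₜ x) = _
  rw [← map_one (Ideal.Quotient.mk J), TensorProduct.quotTensorEquivQuotSMul_mk_tmul, one_smul]
  rfl

open Groth.Agent.Lib.Helper3.FlatLoc in
/-- **Fibrewise criterion, finite case**: a finitely presented `B`-module `M`, flat over `A`, whose
fibres `(B ⊗ κ(p)) ⊗_B M` are flat over the fibre rings `B ⊗ κ(p)`, is flat over `B`. -/
theorem flat_of_flat_fibres {A B M : Type u} [CommRing A] [CommRing B] [Algebra A B]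
    [AddCommGroup M] [Module B M] [Module A M] [IsScalarTower A B M]
    [Module.FinitePresentation B M] [Module.Flat A M]
    (h : ∀ (p : Ideal A) [p.IsPrime],
      Module.Flat (B ⊗[A] p.ResidueField) ((B ⊗[A] p.ResidueField) ⊗[B] M)) :
    Module.Flat B M := by
  apply Module.flat_of_localized_maximal
  intro n hn
  let p : Ideal A := n.comap (algebraMap A B)
  haveI hpprime : p.IsPrime := Ideal.comap_isPrime _ _
  haveI hflatA : Module.Flat A (LocalizedModule n.primeCompl M) :=
    flat_localizedModule_of_flat (R := A) (M := M) n.primeCompl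
  let Bn := Localization.AtPrime n
  let Mn := LocalizedModule n.primeCompl M
  set J : Ideal Bn := p.map (algebraMap A Bn) with hJ
  have hI : J ≤ IsLocalRing.maximalIdeal Bn := by
    rw [hJ, Ideal.map_le_iff_le_comap]
    intro a ha
    rw [Ideal.mem_comap, IsScalarTower.algebraMap_apply A B Bn, ← Ideal.mem_comap]
    have h1 : Ideal.comap (algebraMap B Bn) (IsLocalRing.maximalIdeal Bn) = n :=
      IsLocalization.AtPrime.under_maximalIdeal Bn n
    rw [h1]
    exact ha
  suffices hfib : Module.Flat (Bn ⧸ J) (Mn ⧸ J • (⊤ : Submodule Bn Mn)) by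
    haveI : Module.Free Bn Mn := free_of_flat_of_flat_quotient p hI hfib
    exact Module.Flat.trans B Bn Mn
  -- the map from the fibre ring to `Bn / J`
  let loc : Localization.AtPrime p →+* Bn := Localization.localRingHom p n (algebraMap A B) rfl
  have hloc : ∀ a : A, loc (algebraMap A (Localization.AtPrime p) a) = algebraMap A Bn a := by
    intro a
    rw [Localization.localRingHom_to_map, ← IsScalarTower.algebraMap_apply]
  let g₀ : Localization.AtPrime p →+* Bn ⧸ J := (Ideal.Quotient.mk J).comp loc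
  have hg₀ : ∀ x ∈ IsLocalRing.maximalIdeal (Localization.AtPrime p), g₀ x = 0 := by
    intro x hx
    rw [← Localization.AtPrime.map_eq_maximalIdeal] at hx
    change Ideal.Quotient.mk J (loc x) = 0
    rw [Ideal.Quotient.eq_zero_iff_mem]
    have hle : (p.map (algebraMap A (Localization.AtPrime p))).map loc ≤ J := by
      rw [Ideal.map_map, hJ]
      apply le_of_eq
      congr 1
      ext a
      exact hloc a
    exact hle (Ideal.mem_map_of_mem loc hx)
  let g₁ : p.ResidueField →+* Bn ⧸ J := Ideal.Quotient.lift _ g₀ hg₀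
  let g : p.ResidueField →ₐ[A] Bn ⧸ J :=
    { g₁ with
      commutes' := fun a => by
        change g₁ (algebraMap A p.ResidueField a) = _
        rw [IsScalarTower.algebraMap_apply A (Localization.AtPrime p) p.ResidueField]
        change Ideal.Quotient.mk J (loc (algebraMap A (Localization.AtPrime p) a)) = _
        rw [hloc]
        rfl }
  let ψ : B ⊗[A] p.ResidueField →ₐ[A] Bn ⧸ J :=
    Algebra.TensorProduct.lift (IsScalarTower.toAlgHom A B (Bn ⧸ J)) g (fun _ _ => Commute.all _ _)
  letI algFE : Algebra (B ⊗[A] p.ResidueField) (Bn ⧸ J) := ψ.toRingHom.toAlgebra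
  haveI towBFE : IsScalarTower B (B ⊗[A] p.ResidueField) (Bn ⧸ J) := by
    apply IsScalarTower.of_algebraMap_eq
    intro b
    change _ = ψ (b ⊗ₜ 1)
    rw [Algebra.TensorProduct.lift_tmul, map_one, mul_one]
    rfl
  haveI := h p
  haveI hflatE : Module.Flat (Bn ⧸ J)
      ((Bn ⧸ J) ⊗[B ⊗[A] p.ResidueField] ((B ⊗[A] p.ResidueField) ⊗[B] M)) :=
    Module.Flat.baseChange _ _ _
  let e₁ : (Bn ⧸ J) ⊗[B ⊗[A] p.ResidueField] ((B ⊗[A] p.ResidueField) ⊗[B] M) ≃ₗ[Bn ⧸ J]
      (Bn ⧸ J) ⊗[B] M :=
    AlgebraTensorModule.cancelBaseChange B (B ⊗[A] p.ResidueField) (Bn ⧸ J) (Bn ⧸ J) M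
  have hb₁ : IsBaseChange Bn (LocalizedModule.mkLinearMap n.primeCompl M) :=
    IsLocalizedModule.isBaseChange n.primeCompl Bn _
  have hb₂ : IsBaseChange (Bn ⧸ J) (J • (⊤ : Submodule Bn Mn)).mkQ := isBaseChange_mkQ J
  have hb := hb₁.comp hb₂
  exact Module.Flat.of_linearEquiv (hb.equiv.symm ≪≫ₗ e₁.symm)

end Groth.Agent.Lib.Helper3.FibreFree
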