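import Mathlib
import Groth.Prelude.Def_NonAbH2
import Groth.Agent.Lib.Helper3EtTorsA
import Groth.Agent.Lib.Helper3TwcC
import Groth.Agent.Lib.Helper12FieldPoint
import Groth.Agent.S7446

set_option autoImplicit false
set_option linter.style.haveILetI false
set_option linter.unusedSectionVars false

universe u

open CategoryTheory MonoidalCategory CartesianMonoidalCategory MonObj GrpObj AlgebraicGeometry Limits

namespace Groth.Agent.Lib.Helper3.FinConnTors

section field

open Polynomial in
-- a uniform exponent for a finite purely inseparable extension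
theorem pow_mem_range_of_finrank_le {F E : Type*} [Field F] [Field E] [Algebra F E] (q : ℕ)
    [ExpChar F q] [IsPurelyInseparable F E] [FiniteDimensional F E] (N : ℕ)
    (hN : Module.finrank F E ≤ N) (y : E) : y ^ q ^ N ∈ (algebraMap F E).range := by
  obtain ⟨n, c, h⟩ := IsPurelyInseparable.minpoly_eq_X_pow_sub_C F q y
  have hq : 0 < q := expChar_pos F q
  have hqn : 0 < q ^ n := pow_pos hq n
  have hdeg : (minpoly F y).natDegree = q ^ n := by
    rw [h]; exact natDegree_X_pow_sub_C
  have hle : q ^ n ≤ N := by
    rw [← hdeg]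
    exact (minpoly.natDegree_le y).trans hN
  have hy : y ^ q ^ n = algebraMap F E c := by
    have h0 := minpoly.aeval F y
    rw [h] at h0
    simp only [map_sub, map_pow, aeval_X, aeval_C] at h0
    exact sub_eq_zero.mp h0
  rcases expChar_is_prime_or_one F q with hp | h1
  · have hn : n ≤ N := (Nat.lt_pow_self hp.one_lt).le.trans hle
    refine ⟨c ^ q ^ (N - n), ?_⟩
    rw [map_pow, ← hy, ← pow_mul, ← pow_add, Nat.add_sub_cancel' hn]
  · refine ⟨c, ?_⟩
    rw [← hy, h1, one_pow, one_pow]

theorem ringHom_pow_mem_range {F E : Type*} [Field F] [Field E] (f : F →+* E) (q : ℕ)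
    [ExpChar F q] (hf : f.IsPurelyInseparable) (N : ℕ)
    (hfin : letI := f.toAlgebra; FiniteDimensional F E)
    (hN : (letI := f.toAlgebra; Module.finrank F E) ≤ N) (y : E) : y ^ q ^ N ∈ f.range := by
  letI := f.toAlgebra
  haveI : IsPurelyInseparable F E := hf
  haveI : FiniteDimensional F E := hfin
  exact pow_mem_range_of_finrank_le q N hN y

theorem isPurelyInseparable_of_surjective {F E : Type*} [Field F] [Field E] (f : F →+* E)
    (hf : Function.Surjective f) : f.IsPurelyInseparable := by
  letI := f.toAlgebra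
  show IsPurelyInseparable F E
  refine (isPurelyInseparable_iff).2 fun x => ?_
  obtain ⟨y, hy⟩ := hf x
  have hxy : x = algebraMap F E y := hy.symm
  rw [hxy]
  exact ⟨isIntegral_algebraMap, fun _ => ⟨y, rfl⟩⟩

-- a retraction of a field extension twisted by a power of Frobenius
theorem exists_frobenius_retraction {F E : Type*} [Field F] [Field E] (φ : F →+* E) (q : ℕ)
    [ExpChar F q] (N : ℕ) (h : ∀ y : E, y ^ q ^ N ∈ φ.range) :
    ∃ θ : E →+* F, θ.comp φ = iterateFrobenius F q N := by
  haveI : ExpChar E q := expChar_of_injective_ringHom φ.injective q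
  have hbij : Function.Bijective φ.rangeRestrict :=
    ⟨fun a b hab => φ.injective (congrArg Subtype.val hab), φ.rangeRestrict_surjective⟩
  let e : F ≃+* φ.range := RingEquiv.ofBijective φ.rangeRestrict hbij
  let ρ : E →+* φ.range := (iterateFrobenius E q N).codRestrict φ.range (fun y => by
    rw [iterateFrobenius_def]; exact h y)
  refine ⟨e.symm.toRingHom.comp ρ, ?_⟩
  ext c
  change e.symm (ρ (φ c)) = iterateFrobenius F q N c
  rw [RingEquiv.symm_apply_eq]
  apply Subtype.ext
  change iterateFrobenius E q N (φ c) = φ (iterateFrobenius F q N c)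
  rw [iterateFrobenius_def, iterateFrobenius_def, map_pow]

end field

section scheme

open Groth.Agent.Lib.Helper2.BddFib _root_.BddFib

variable (K : Type u) [Field K]

-- the canonical map from `K` to the residue field at a point of `Spec K`
noncomputable def iota (y : Spec (CommRingCat.of K)) :
    K →+* (Spec (CommRingCat.of K)).residueField y :=
  ((Scheme.ΓSpecIso (CommRingCat.of K)).inv ≫ (Spec (CommRingCat.of K)).Γevaluation y).hom

theorem iota_surjective (y : Spec (CommRingCat.of K)) : Function.Surjective (iota K y) := by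
  haveI : IsArtinianRing Γ(Spec (CommRingCat.of K), ⊤) :=
    (Scheme.ΓSpecIso (CommRingCat.of K)).commRingCatIsoToRingEquiv.symm.isArtinianRing
  intro z
  obtain ⟨b, rfl⟩ := Groth.Agent.S7446.Γevaluation_surjective (T := Spec (CommRingCat.of K)) y z
  refine ⟨(Scheme.ΓSpecIso (CommRingCat.of K)).hom b, ?_⟩
  change (Spec (CommRingCat.of K)).Γevaluation y
    ((Scheme.ΓSpecIso (CommRingCat.of K)).inv ((Scheme.ΓSpecIso (CommRingCat.of K)).hom b)) = _
  rw [Iso.hom_inv_id_apply]

theorem SpecMap_iota (y : Spec (CommRingCat.of K)) :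
    Spec.map (CommRingCat.ofHom (iota K y)) = (Spec (CommRingCat.of K)).fromSpecResidueField y := by
  rw [← Scheme.Spec.map_residueFieldIso_inv_eq_fromSpecResidueField, ← Spec.map_comp]
  congr 1
  exact (Scheme.Spec.algebraMap_residueFieldIso_inv (CommRingCat.of K) y).symm

variable {K}

-- a finite universally injective scheme of degree at most `N` over a field has a point over
-- the `N`-th iterate of Frobenius
theorem exists_frobenius_section (p : ℕ) [ExpChar K p] {X : Scheme.{u}}
    (f : X ⟶ Spec (CommRingCat.of K)) [UniversallyInjective f] (N : ℕ)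
    (hN : FiniteOfDegLE (CommRingCat.of K) f N) (x : X) :
    ∃ s : Spec (CommRingCat.of K) ⟶ X,
      s ≫ f = Spec.map (CommRingCat.ofHom (iterateFrobenius K p N)) := by
  rw [fdl_iff] at hN
  letI : Algebra K Γ(X, ⊤) := (sm K f).toAlgebra
  obtain ⟨haff, hfinm, hrk⟩ := hN
  haveI : IsArtinianRing Γ(X, ⊤) := IsArtinianRing.of_finite K _
  have h02 : UniversallyInjective f ↔ (Function.Injective f ∧
      ∀ x, (f.residueFieldMap x).hom.IsPurelyInseparable) :=
    (tfae_universallyInjective f).out 0 2
  have hpi := (h02.mp inferInstance).2 x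
  obtain ⟨φ, hφ⟩ : ∃ φ : K →+* X.residueField x,
      φ = (f.residueFieldMap x).hom.comp (iota K (f x)) := ⟨_, rfl⟩
  have hφS : Spec.map (CommRingCat.ofHom φ) = X.fromSpecResidueField x ≫ f := by
    have h1 : CommRingCat.ofHom φ = CommRingCat.ofHom (iota K (f x)) ≫ f.residueFieldMap x := by
      rw [hφ]; rfl
    rw [h1, Spec.map_comp, SpecMap_iota, Scheme.Hom.SpecMap_residueFieldMap_fromSpecResidueField]
  have hφpi : φ.IsPurelyInseparable := by
    rw [hφ]
    exact RingHom.IsPurelyInseparable.comp
      (isPurelyInseparable_of_surjective _ (iota_surjective K (f x))) hpi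
  have hev : ∀ k : K, (X.Γevaluation x).hom (sm K f k) = φ k := by
    intro k
    rw [hφ]
    exact (Scheme.Γevaluation_naturality_apply f x _).symm
  letI : Algebra K (X.residueField x) := φ.toAlgebra
  let ev : Γ(X, ⊤) →ₗ[K] X.residueField x :=
    { toFun := (X.Γevaluation x).hom
      map_add' := map_add _
      map_smul' := fun k r => by
        rw [Algebra.smul_def, map_mul, RingHom.id_apply, Algebra.smul_def]
        congr 1
        exact hev k }
  have hevs : Function.Surjective ev := Groth.Agent.S7446.Γevaluation_surjective x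
  have hfin : FiniteDimensional K (X.residueField x) := Module.Finite.of_surjective ev hevs
  have hrk' : Module.finrank K (X.residueField x) ≤ N :=
    (LinearMap.finrank_le_finrank_of_surjective hevs).trans hrk
  have hpow : ∀ y : X.residueField x, y ^ p ^ N ∈ φ.range :=
    fun y => ringHom_pow_mem_range φ p hφpi N hfin hrk' y
  obtain ⟨θ, hθ⟩ := exists_frobenius_retraction φ p N hpow
  refine ⟨Spec.map (CommRingCat.ofHom θ) ≫ X.fromSpecResidueField x, ?_⟩
  rw [Category.assoc, ← hφS, ← Spec.map_comp]
  congr 1
  rw [← hθ]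
  rfl

end scheme

section torsor

open Groth.Agent.Lib.Helper2.BddFib _root_.BddFib Groth.Agent.Lib.Helper3.TwcA
  Groth.Agent.Lib.Helper3.TwcC Groth.Agent.Lib.Helper3.EtTorsA

variable {K : Type u} [Field K]

-- the rank of a finite scheme over a field, in terms of global sections
theorem finrank_eq_finrank_global {X : Scheme.{u}} (f : X ⟶ Spec (CommRingCat.of K)) [IsFinite f]
    (y : Spec (CommRingCat.of K)) :
    letI : Algebra K Γ(X, ⊤) := (sm K f).toAlgebra
    Module.Finite K Γ(X, ⊤) ∧ f.finrank y = Module.finrank K Γ(X, ⊤) := by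
  letI : Algebra K Γ(X, ⊤) := (sm K f).toAlgebra
  haveI : IsAffine X := isAffine_of_isAffineHom f
  obtain ⟨ψ, hψ⟩ : ∃ ψ : CommRingCat.of K ⟶ Γ(X, ⊤),
      ψ = (Scheme.ΓSpecIso (CommRingCat.of K)).inv ≫ f.appTop := ⟨_, rfl⟩
  have hsm : ψ.hom = sm K f := by rw [hψ]
  have hfin : ψ.hom.Finite := by
    rw [hψ]
    exact RingHom.Finite.comp (Scheme.Hom.finite_appTop f)
      (RingHom.Finite.of_surjective _
        (ConcreteCategory.bijective_of_isIso (Scheme.ΓSpecIso (CommRingCat.of K)).inv).2)
  have hflat : ψ.hom.Flat := by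
    letI := ψ.hom.toAlgebra
    show Module.Flat K Γ(X, ⊤)
    infer_instance
  have hmf : Module.Finite K Γ(X, ⊤) := by
    have h1 : (sm K f).Finite := by rw [← hsm]; exact hfin
    exact h1
  refine ⟨hmf, ?_⟩
  have hX : f = X.isoSpec.hom ≫ Spec.map ψ := by
    rw [hψ, Spec.map_comp, ← Category.assoc, Scheme.isoSpec_hom_naturality, Category.assoc,
      Scheme.isoSpec_Spec_hom, ← Spec.map_comp, Iso.inv_hom_id, Spec.map_id, Category.comp_id]
  haveI : IsFinite (Spec.map ψ) := (IsFinite.SpecMap_iff ψ).mpr hfin
  haveI : Flat (Spec.map ψ) := (Flat.SpecMap_iff (f := ψ)).mpr hflat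
  have h1 : f.finrank = (Spec.map ψ).finrank := by
    conv_lhs => rw [hX]
    exact Scheme.Hom.finrank_comp_left_of_isIso _ _
  rw [h1, Scheme.Hom.finrank_SpecMap_eq_finrank hfin hflat]
  have h2 : ψ.hom.finrank y = (sm K f).finrank y := by rw [hsm]
  rw [h2]
  show Module.rankAtStalk (R := K) Γ(X, ⊤) y = _
  rw [Module.rankAtStalk_eq_finrank_of_free]
  rfl

variable (G X : Over (Spec (CommRingCat.of K))) [GrpObj G] [IsFinite G.hom]
  [ConnectedSpace G.left]

theorem universallyInjective_of_finite_connected : UniversallyInjective G.hom := by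
  haveI := Groth.Agent.Lib.Helper12.FieldPoint.subsingleton_of_isFinite_of_connectedSpace G
  have h02 : UniversallyInjective G.hom ↔ (Function.Injective G.hom ∧
      ∀ x, (G.hom.residueFieldMap x).hom.IsPurelyInseparable) :=
    (tfae_universallyInjective G.hom).out 0 2
  refine h02.mpr ⟨fun a b _ => Subsingleton.elim _ _, fun g => ?_⟩
  have hb : Function.Bijective (G.hom.residueFieldMap g).hom := by
    have h1 := residueFieldMap_bijective_of_section G.hom η[G].left (Over.w η[G]) (G.hom g)
    exact residueFieldMap_bijective_of_eq G.hom (Subsingleton.elim _ _) h1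
  exact isPurelyInseparable_of_surjective _ hb.2

variable {G X}

theorem props_of_torsor (a : AlgGrp.Action G X)
    (h : NonAbH1.IsTorsorFor Scheme.fppfPrecoverage a) :
    UniversallyInjective X.hom ∧ Nonempty X.left ∧
      FiniteOfDegLE (CommRingCat.of K) X.hom (G.hom.finrank (IsLocalRing.closedPoint K)) := by
  haveI hui := universallyInjective_of_finite_connected G
  haveI : Flat G.hom := inferInstance
  haveI hfin : IsFinite X.hom := by
    haveI := Groth.Agent.Lib.Helper12.descendsAlong_isFinite.{u}
    exact prop_of_isTorsorFor a @IsFinite h inferInstance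
  haveI hXui : UniversallyInjective X.hom :=
    prop_of_isTorsorFor a @UniversallyInjective h hui
  haveI : Flat X.hom := inferInstance
  obtain ⟨W, c, hc1, hc2, hc3, σ, hσ⟩ := exists_cover_of_isLocallyTrivialFor X h.2
  obtain ⟨w, -⟩ := c.surjective (IsLocalRing.closedPoint K)
  have hne : Nonempty X.left := ⟨σ w⟩
  have hpt : ∀ y : Spec (CommRingCat.of K), y = IsLocalRing.closedPoint K :=
    fun y => Subsingleton.elim _ _
  have hrank : X.hom.finrank (IsLocalRing.closedPoint K) =
      G.hom.finrank (IsLocalRing.closedPoint K) := by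
    obtain ⟨x⟩ := hne
    haveI : IsIso (lift a.act (snd G X)) := h.1
    have h1 : (lift a.act (snd G X)).left ≫ pullback.snd X.hom X.hom = pullback.snd G.hom X.hom := by
      have h2 : lift a.act (snd G X) ≫ snd X X = snd G X := lift_snd _ _
      exact congrArg (fun t => t.left) h2
    haveI : IsIso (lift a.act (snd G X)).left :=
      inferInstanceAs (IsIso ((Over.forget _).map (lift a.act (snd G X))))
    have h3 : (pullback.snd G.hom X.hom).finrank x = G.hom.finrank (X.hom x) :=
      Scheme.Hom.finrank_pullback_snd G.hom X.hom x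
    have h4 : (pullback.snd X.hom X.hom).finrank x = X.hom.finrank (X.hom x) :=
      Scheme.Hom.finrank_pullback_snd X.hom X.hom x
    have h5 : ((lift a.act (snd G X)).left ≫ pullback.snd X.hom X.hom).finrank =
        (pullback.snd X.hom X.hom).finrank :=
      Scheme.Hom.finrank_comp_left_of_isIso _ _
    rw [← h1, h5, h4] at h3
    rw [hpt (X.hom x)] at h3
    exact h3
  refine ⟨hXui, hne, ?_⟩
  rw [fdl_iff]
  obtain ⟨h6, h7⟩ := finrank_eq_finrank_global X.hom (IsLocalRing.closedPoint K)
  exact ⟨isAffine_of_isAffineHom X.hom, h6, by rw [← h7, hrank]⟩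

end torsor

end Groth.Agent.Lib.Helper3.FinConnTors
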