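import Mathlib
import Groth.Agent.Lib.Helper3FlatCx

/-!
Helper library (helper3): finiteness of T_n(M) = H_n(P ⊗ M) for finite M over a Noetherian ring, from
finiteness of all T_n(A), for a bounded below complex P of flat modules.
-/

set_option linter.style.haveILetI false

set_option autoImplicit false
universe u

namespace Groth.Agent.Lib.Helper3.FlatCxFin

open CategoryTheory CategoryTheory.Limits MonoidalCategory Groth.Agent.Lib.Helper3

variable {A : Type u} [CommRing A]

-- the short exact sequence `0 → N → M → M/N → 0` in `ModuleCat`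
noncomputable def subSC {M : Type u} [AddCommGroup M] [Module A M] (N : Submodule A M) :
    ShortComplex (ModuleCat.{u} A) :=
  ShortComplex.mk (ModuleCat.ofHom N.subtype) (ModuleCat.ofHom N.mkQ) (by
    ext x
    simp)

theorem subSC_shortExact {M : Type u} [AddCommGroup M] [Module A M] (N : Submodule A M) :
    (subSC N).ShortExact := by
  have : Mono (subSC N).f := (ModuleCat.mono_iff_injective _).mpr (Submodule.subtype_injective N)
  have : Epi (subSC N).g := (ModuleCat.epi_iff_surjective _).mpr (Submodule.mkQ_surjective N)
  refine ShortComplex.ShortExact.mk ?_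
  rw [ShortComplex.ShortExact.moduleCat_exact_iff_function_exact]
  exact LinearMap.exact_subtype_mkQ N

-- noetherianity passes to the middle of an exact pair
theorem isNoetherian_of_exact (S : ShortComplex (ModuleCat.{u} A)) (hS : S.Exact)
    (_ : IsNoetherian A S.X₁) (_ : IsNoetherian A S.X₃) : IsNoetherian A S.X₂ := by
  have hex := (ShortComplex.ShortExact.moduleCat_exact_iff_function_exact S).mp hS
  exact isNoetherian_of_range_eq_ker S.f.hom S.g.hom (LinearMap.exact_iff.mp hex).symm

variable (P : ChainComplex (ModuleCat.{u} A) ℤ) (hP : ∀ i, Module.Flat A (P.X i))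

include hP in
theorem noeth_mid (n : ℤ) {M : Type u} [AddCommGroup M] [Module A M] (N : Submodule A M)
    (h1 : IsNoetherian A (CohIII.T P n (ModuleCat.of A N)))
    (h3 : IsNoetherian A (CohIII.T P n (ModuleCat.of A (M ⧸ N)))) :
    IsNoetherian A (CohIII.T P n (ModuleCat.of A M)) := by
  have hT := tensorSC_shortExact P hP (subSC N) (subSC_shortExact N)
  exact isNoetherian_of_exact _ (hT.homology_exact₂ n) h1 h3

include hP in
theorem noeth_quot (n m : ℤ) (hnm : m + 1 = n) {M : Type u} [AddCommGroup M] [Module A M]
    (N : Submodule A M)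
    (h2 : IsNoetherian A (CohIII.T P n (ModuleCat.of A M)))
    (h1 : IsNoetherian A (CohIII.T P m (ModuleCat.of A N))) :
    IsNoetherian A (CohIII.T P n (ModuleCat.of A (M ⧸ N))) := by
  have hT := tensorSC_shortExact P hP (subSC N) (subSC_shortExact N)
  exact isNoetherian_of_exact _ (hT.homology_exact₃ n m (by simp [hnm])) h2 h1

theorem noeth_congr (n : ℤ) {M M' : Type u} [AddCommGroup M] [Module A M] [AddCommGroup M']
    [Module A M'] (e : M ≃ₗ[A] M') (h : IsNoetherian A (CohIII.T P n (ModuleCat.of A M))) :
    IsNoetherian A (CohIII.T P n (ModuleCat.of A M')) := by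
  have h' : IsNoetherian A ((CohIII.TFun P n).obj (ModuleCat.of A M)) := h
  exact isNoetherian_of_linearEquiv ((CohIII.TFun P n).mapIso e.toModuleIso).toLinearEquiv

theorem isZero_T_of_isZero_X (n : ℤ) (M : ModuleCat.{u} A)
    (h : IsZero ((CohIII.tensorObj P M).X n)) : IsZero (CohIII.T P n M) := by
  have := ((CohIII.tensorObj P M).sc n).exact_of_isZero_X₂ h
  exact (ShortComplex.exact_iff_isZero_homology _).mp this

theorem noeth_T_of_subsingleton (n : ℤ) (M : Type u) [AddCommGroup M] [Module A M]
    [Subsingleton M] : IsNoetherian A (CohIII.T P n (ModuleCat.of A M)) := by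
  have hz : IsZero (ModuleCat.of A M) := ModuleCat.isZero_of_subsingleton _
  have hz' : IsZero ((CohIII.tensorObj P (ModuleCat.of A M)).X n) :=
    (tensorLeft (P.X n)).map_isZero hz
  have := ModuleCat.subsingleton_of_isZero (isZero_T_of_isZero_X P n _ hz')
  infer_instance

include hP in
theorem noeth_T [IsNoetherianRing A] (i₀ : ℤ) (hb : ∀ i < i₀, IsZero (P.X i))
    (hfg : ∀ n : ℤ, IsNoetherian A (CohIII.T P n (ModuleCat.of A A))) :
    ∀ (k : ℕ) (n : ℤ), n < i₀ + k → ∀ (M : Type u) [AddCommGroup M] [Module A M]
      [Module.Finite A M], IsNoetherian A (CohIII.T P n (ModuleCat.of A M)) := by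
  intro k
  induction k with
  | zero =>
    intro n hn M _ _ _
    have hz' : IsZero ((CohIII.tensorObj P (ModuleCat.of A M)).X n) :=
      (tensorRight (ModuleCat.of A M)).map_isZero (hb n (by simpa using hn))
    have := ModuleCat.subsingleton_of_isZero (isZero_T_of_isZero_X P n _ hz')
    infer_instance
  | succ k ih =>
    intro n hn M _ _ _
    have hn' : n - 1 < i₀ + k := by push_cast at hn; omega
    have hcyc : ∀ I : Ideal A, IsNoetherian A (CohIII.T P n (ModuleCat.of A (A ⧸ I))) := fun I =>
      noeth_quot P hP n (n - 1) (by ring) I (hfg n) (ih (n - 1) hn' I)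
    have hgen : ∀ (r : ℕ) (M : Type u) [AddCommGroup M] [Module A M] (g : Fin r → M),
        Submodule.span A (Set.range g) = ⊤ →
        IsNoetherian A (CohIII.T P n (ModuleCat.of A M)) := by
      intro r
      induction r with
      | zero =>
        intro M _ _ g hg
        have : Subsingleton M := by
          have hr : Set.range g = ∅ := Set.range_eq_empty g
          have hbt : (⊥ : Submodule A M) = ⊤ := by rw [← hg, hr, Submodule.span_empty]
          exact (Submodule.subsingleton_iff A).mp (subsingleton_of_bot_eq_top hbt)
        exact noeth_T_of_subsingleton P n M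
      | succ r ihr =>
        intro M _ _ g hg
        let N : Submodule A M := LinearMap.range (LinearMap.toSpanSingleton A M (g 0))
        have hN : IsNoetherian A (CohIII.T P n (ModuleCat.of A N)) :=
          noeth_congr P n (LinearMap.quotKerEquivRange (LinearMap.toSpanSingleton A M (g 0)))
            (hcyc _)
        have hg0 : N.mkQ (g 0) = 0 := by
          rw [Submodule.mkQ_apply, Submodule.Quotient.mk_eq_zero]
          exact ⟨1, by simp⟩
        have hQ : IsNoetherian A (CohIII.T P n (ModuleCat.of A (M ⧸ N))) := by
          apply ihr (M ⧸ N) (fun i => N.mkQ (g i.succ))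
          rw [eq_top_iff]
          have h1 : (⊤ : Submodule A (M ⧸ N)) = Submodule.map N.mkQ (Submodule.span A (Set.range g)) := by
            rw [hg, Submodule.map_top, Submodule.range_mkQ]
          rw [h1, Submodule.map_span, Submodule.span_le]
          rintro _ ⟨_, ⟨i, rfl⟩, rfl⟩
          refine Fin.cases ?_ (fun j => ?_) i
          · rw [hg0]; exact Submodule.zero_mem _
          · exact Submodule.subset_span ⟨j, rfl⟩
        exact noeth_mid P hP n N hN hQ
    obtain ⟨r, g, hg⟩ := Module.Finite.exists_fin (R := A) (M := M)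
    exact hgen r M g hg

include hP in
-- finiteness of all `T_n(M)`, `M` finite, from finiteness of the `T_n(A)`
theorem finite_T [IsNoetherianRing A] (i₀ : ℤ) (hb : ∀ i < i₀, IsZero (P.X i))
    (hfg : ∀ n : ℤ, Module.Finite A (CohIII.T P n (ModuleCat.of A A))) (n : ℤ)
    (M : Type u) [AddCommGroup M] [Module A M] [Module.Finite A M] :
    Module.Finite A (CohIII.T P n (ModuleCat.of A M)) := by
  have h := noeth_T P hP i₀ hb (fun n => by
    have := hfg n
    exact isNoetherian_of_isNoetherianRing_of_finite A _) (n - i₀ + 1).toNat n (by omega) M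
  exact Module.IsNoetherian.finite A _

end Groth.Agent.Lib.Helper3.FlatCxFin
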