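import Mathlib
import Groth.Agent.S2516
import Groth.Agent.Lib.Helper10CurveFlat

set_option autoImplicit false
set_option linter.style.haveILetI false

universe u

open CategoryTheory CategoryTheory.Limits AlgebraicGeometry

namespace Groth.Agent.Lib.Helper3.FlatExt

open Groth.Agent.Lib.Helper11FlatClosure Groth.Agent.S2516

lemma flat_of_injective_of_regular {A B B' : Type u} [CommRing A] [IsDedekindDomain A]
    [CommRing B] [CommRing B'] (φ : A →+* B) (ψ : B →+* B') (hψ : Function.Injective ψ)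
    (hu : ∀ a : A, a ≠ 0 → ψ (φ a) ∈ nonZeroDivisors B') : φ.Flat := by
  algebraize [φ]
  have htf : Module.IsTorsionFree A B := by
    constructor
    intro a ha b₁ b₂ hb
    have ha0 : a ≠ 0 := ha.ne_zero
    apply hψ
    have h1 : ψ (φ a * b₁) = ψ (φ a * b₂) := by
      have : a • b₁ = a • b₂ := hb
      rw [Algebra.smul_def, Algebra.smul_def] at this
      exact congrArg ψ this
    rw [map_mul, map_mul] at h1
    have h2 : ψ (φ a) * (ψ b₁ - ψ b₂) = 0 := by rw [mul_sub, h1, sub_self]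
    have h3 := (mem_nonZeroDivisors_iff.mp (hu a ha0)).1 _ h2
    exact sub_eq_zero.mp h3
  change Module.Flat A B
  infer_instance

/-- A nonzero function on a nonempty affine open of an integral scheme stays a nonzerodivisor on
every open of a flat scheme over it. -/
lemma mem_nonZeroDivisors_appLE_of_flat {Z Y : Scheme.{u}} [IsIntegral Y] (q : Z ⟶ Y) [Flat q]
    (U : Y.Opens) (hU : IsAffineOpen U) [Nonempty U] (W : Z.Opens) (e : W ≤ q ⁻¹ᵁ U)
    (a : Γ(Y, U)) (ha : a ≠ 0) : (q.appLE U W e).hom a ∈ nonZeroDivisors Γ(Z, W) := by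
  rw [mem_nonZeroDivisors_iff_right]
  intro s hs
  -- check on affine opens
  let ι := {W' : Z.affineOpens // W'.1 ≤ W}
  refine Z.sheaf.eq_of_locally_eq' (fun W' : ι => W'.1.1) W (fun W' => homOfLE W'.2) ?_ s 0 ?_
  · intro x hx
    obtain ⟨_, ⟨W', hW', rfl⟩, hxW', hW'W⟩ :=
      Z.isBasis_affineOpens.exists_subset_of_mem_open hx W.isOpen
    exact TopologicalSpace.Opens.mem_iSup.mpr ⟨⟨⟨W', hW'⟩, hW'W⟩, hxW'⟩
  · intro W'
    rw [map_zero]
    have e' : W'.1.1 ≤ q ⁻¹ᵁ U := W'.2.trans e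
    have hfl : (q.appLE U W'.1.1 e').hom.Flat :=
      HasRingHomProperty.appLE (P := @Flat) q inferInstance ⟨U, hU⟩ W'.1 e'
    algebraize [(q.appLE U W'.1.1 e').hom]
    have hreg : IsSMulRegular Γ(Z, W'.1.1) a :=
      Module.Flat.isSMulRegular_of_nonZeroDivisors (mem_nonZeroDivisors_of_ne_zero ha)
    have h1 : (Z.presheaf.map (homOfLE W'.2).op).hom ((q.appLE U W e).hom a) =
        (q.appLE U W'.1.1 e').hom a := by
      rw [← CommRingCat.comp_apply, Scheme.Hom.appLE_map]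
    have h2 : (Z.presheaf.map (homOfLE W'.2).op).hom s * (q.appLE U W'.1.1 e').hom a = 0 := by
      rw [← h1, ← map_mul, hs, map_zero]
    apply hreg
    show a • (Z.presheaf.map (homOfLE W'.2).op).hom s = a • (0 : Γ(Z, W'.1.1))
    rw [smul_zero, Algebra.smul_def, mul_comm]
    exact h2

theorem flat_imageι_comp_of_flat {Y : Scheme.{u}} [IsIntegral Y] [IsLocallyNoetherian Y]
    (hY : ∀ y : Y, IsRegularLocalRing (Y.presheaf.stalk y) ∧ ringKrullDim (Y.presheaf.stalk y) ≤ 1)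
    {X Z' : Scheme.{u}} (g : Z' ⟶ X) [QuasiCompact g] (f : X ⟶ Y)
    [Flat (g ≫ f)] : Flat (g.imageι ≫ f) := by
  have htdom := toImage_dominant g
  obtain ⟨t, ht⟩ : ∃ t, t = g.toImage := ⟨_, rfl⟩
  have htqc : QuasiCompact t := by rw [ht]; infer_instance
  rw [← ht] at htdom
  obtain ⟨h, hh⟩ : ∃ h, h = g.imageι ≫ f := ⟨_, rfl⟩
  rw [← hh]
  have hth : t ≫ h = g ≫ f := by rw [ht, hh, Scheme.Hom.toImage_imageι_assoc]
  rw [HasRingHomProperty.iff_appLE (P := @Flat)]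
  intro U V e
  by_cases hne : Nonempty U.1
  · haveI := isDedekindDomain_of_regular hY U.1 U.2
    refine flat_of_injective_of_regular _ (t.app V.1).hom (t.app_injective V.1) ?_
    intro a ha
    rw [app_appLE_eq' t h _ hth]
    exact mem_nonZeroDivisors_appLE_of_flat (g ≫ f) U.1 U.2 _ _ a ha
  · rcases V with ⟨V, hV⟩
    have hV0 : V = ⊥ := by
      rw [eq_bot_iff]
      intro x hx
      exact (hne ⟨⟨h x, e hx⟩⟩).elim
    subst hV0
    letI := (h.appLE U.1 ⊥ e).hom.toAlgebra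
    change Module.Flat _ _
    infer_instance

/-- Adaptation of helper11's `S2516.main`: only the flatness of the closure of the given closed
subscheme is needed. -/
theorem main' {X Y F K : Scheme.{u}} (f : X ⟶ Y) (r : K ⟶ Y) (ι : F ⟶ X) (s : F ⟶ K)
    (hpb : IsPullback ι s f r) [QuasiCompact r] [Flat r] [Mono r]
    [IsSchemeTheoreticallyDominant r]
    {Z' : Scheme.{u}} (z' : Z' ⟶ F) [IsClosedImmersion z']
    (hflat : ∀ (g : Z' ⟶ X) [QuasiCompact g], g = z' ≫ ι → Flat (g.imageι ≫ f)) :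
    (∃ (Z : Scheme.{u}) (z : Z ⟶ X) (w : Z' ⟶ Z), IsClosedImmersion z ∧ Flat (z ≫ f) ∧
        IsPullback w z' z ι) ∧
      ∀ (Z₁ Z₂ : Scheme.{u}) (z₁ : Z₁ ⟶ X) (z₂ : Z₂ ⟶ X) (w₁ : Z' ⟶ Z₁) (w₂ : Z' ⟶ Z₂),
        IsClosedImmersion z₁ → IsClosedImmersion z₂ → Flat (z₁ ≫ f) → Flat (z₂ ≫ f) →
        IsPullback w₁ z' z₁ ι → IsPullback w₂ z' z₂ ι →
        ∃ e : Z₁ ≅ Z₂, e.hom ≫ z₂ = z₁ := by
  have hιqc : QuasiCompact ι := MorphismProperty.of_isPullback (P := @QuasiCompact) hpb.flip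
    inferInstance
  have hιflat : Flat ι := MorphismProperty.of_isPullback (P := @Flat) hpb.flip inferInstance
  have hιmono : Mono ι := by
    constructor
    intro T a b hab
    refine hpb.hom_ext hab ?_
    rw [← cancel_mono r, Category.assoc, Category.assoc, ← hpb.w, reassoc_of% hab]
  constructor
  · obtain ⟨g, hg⟩ : ∃ g, g = z' ≫ ι := ⟨_, rfl⟩
    have hgqc : QuasiCompact g := by rw [hg]; infer_instance
    have hfl : Flat (g.imageι ≫ f) := hflat g hg
    obtain ⟨z, hz⟩ : ∃ z, z = g.imageι := ⟨_, rfl⟩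
    obtain ⟨w, hw⟩ : ∃ w, w = g.toImage := ⟨_, rfl⟩
    have hzcl : IsClosedImmersion z := by rw [hz]; infer_instance
    have hwqc : QuasiCompact w := by rw [hw]; infer_instance
    have hwdom : IsSchemeTheoreticallyDominant w := by rw [hw]; exact toImage_dominant g
    have comm : w ≫ z = z' ≫ ι := by rw [hw, hz, Scheme.Hom.toImage_imageι, hg]
    rw [← hz] at hfl
    refine ⟨_, z, w, hzcl, hfl, ?_⟩
    obtain ⟨l, hl⟩ : ∃ l, l = pullback.lift w z' comm := ⟨_, rfl⟩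
    have hl1 : l ≫ pullback.fst z ι = w := by rw [hl]; exact pullback.lift_fst _ _ _
    have hl2 : l ≫ pullback.snd z ι = z' := by rw [hl]; exact pullback.lift_snd _ _ _
    have hlcl : IsClosedImmersion l := by
      have : IsClosedImmersion (l ≫ pullback.snd z ι) := by rw [hl2]; infer_instance
      exact IsClosedImmersion.of_comp l (pullback.snd z ι)
    have hfac : pullback.fst w (pullback.fst z ι) ≫ l = pullback.snd w (pullback.fst z ι) := by
      rw [← cancel_mono (pullback.fst z ι), Category.assoc, hl1, pullback.condition]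
    have hliso : IsIso l :=
      isIso_of_factor l (pullback.fst w (pullback.fst z ι)) (pullback.snd w (pullback.fst z ι)) hfac
    exact IsPullback.of_iso_pullback ⟨comm⟩ (asIso l) hl1 hl2
  · intro Z₁ Z₂ z₁ z₂ w₁ w₂ hz₁ hz₂ hf₁ hf₂ H₁ H₂
    have key : ∀ {Z : Scheme.{u}} (z : Z ⟶ X) (w : Z' ⟶ Z), Flat (z ≫ f) → IsPullback w z' z ι →
        z.ker = (z' ≫ ι).ker := by
      intro Z z w hfl H
      have hP : IsPullback (z' ≫ s) w r (z ≫ f) := (H.paste_vert hpb).flip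
      have hwdom : IsSchemeTheoreticallyDominant w := IsSchemeTheoreticallyDominant.of_isPullback hP
      rw [← H.w, Scheme.Hom.ker_comp, w.ker_eq_bot, Scheme.IdealSheafData.map_bot]
    have hker : z₁.ker = z₂.ker := (key z₁ w₁ hf₁ H₁).trans (key z₂ w₂ hf₂ H₂).symm
    have hiso : IsIso (IsClosedImmersion.lift z₂ z₁ hker.symm.le) :=
      IsClosedImmersion.isIso_of_ker_eq z₁ z₂ _ (IsClosedImmersion.lift_fac z₂ z₁ hker.symm.le) hker
    exact ⟨asIso (IsClosedImmersion.lift z₂ z₁ hker.symm.le),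
      IsClosedImmersion.lift_fac z₂ z₁ hker.symm.le⟩

/-- **Flat extension of a closed subscheme over a dense open of a Dedekind scheme.** -/
theorem flat_extension {Y T : Scheme.{u}} [IsIntegral Y] [IsLocallyNoetherian Y]
    (hY : ∀ y : Y, IsRegularLocalRing (Y.presheaf.stalk y) ∧ ringKrullDim (Y.presheaf.stalk y) ≤ 1)
    (f : T ⟶ Y) (U : Y.Opens) (hUne : (U : Set Y).Nonempty) {X : Scheme.{u}}
    (i : X ⟶ ↑(f ⁻¹ᵁ U)) [IsClosedImmersion i] [Flat (i ≫ (f ⁻¹ᵁ U).ι ≫ f)] :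
    (∃ (X' : Scheme.{u}) (i' : X' ⟶ T) (j : X ⟶ X'),
        IsClosedImmersion i' ∧ Flat (i' ≫ f) ∧ IsPullback j i i' (f ⁻¹ᵁ U).ι) ∧
      ∀ (Z₁ Z₂ : Scheme.{u}) (z₁ : Z₁ ⟶ T) (z₂ : Z₂ ⟶ T) (w₁ : X ⟶ Z₁) (w₂ : X ⟶ Z₂),
        IsClosedImmersion z₁ → IsClosedImmersion z₂ → Flat (z₁ ≫ f) → Flat (z₂ ≫ f) →
        IsPullback w₁ i z₁ (f ⁻¹ᵁ U).ι → IsPullback w₂ i z₂ (f ⁻¹ᵁ U).ι →
        ∃ e : Z₁ ≅ Z₂, e.hom ≫ z₂ = z₁ := by
  haveI : IsDominant U.ι := by
    constructor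
    rw [DenseRange, Scheme.Opens.range_ι]
    exact U.isOpen.dense hUne
  haveI : IsSchemeTheoreticallyDominant U.ι := IsSchemeTheoreticallyDominant.of_isDominant _
  refine main' f U.ι (f ⁻¹ᵁ U).ι (f ∣_ U) (isPullback_morphismRestrict f U).flip i ?_
  intro g hgqc hg
  subst hg
  haveI : Flat ((i ≫ (f ⁻¹ᵁ U).ι) ≫ f) := by
    rw [Category.assoc]
    infer_instance
  exact flat_imageι_comp_of_flat hY _ f

end Groth.Agent.Lib.Helper3.FlatExt
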