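import Mathlib
import Groth.Agent.Lib.Helper3FlatOpenFP

set_option autoImplicit false
set_option linter.style.haveILetI false

universe u

namespace Groth.Agent.Lib.Helper3.FlatOpen

open TensorProduct Groth.Agent.Lib.Helper3.FlatLoc

/-- Compatibility of the two scalar actions on `M ⊗[A] N`. -/
theorem algebraMap_smul_tensor {A B C M N : Type*} [CommRing A] [CommRing B] [CommRing C]
    [Algebra A B] [Algebra A C] [Algebra B C] [AddCommGroup M] [Module A M] [Module B M]
    [Module C M] [IsScalarTower B C M] [IsScalarTower A C M] [IsScalarTower A B M]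
    [AddCommGroup N] [Module A N] (b : B) (z : M ⊗[A] N) :
    algebraMap B C b • z = b • z := by
  induction z with
  | zero => simp
  | add a b ha hb => simp only [smul_add, ha, hb]
  | tmul m i => rw [smul_tmul', smul_tmul', algebraMap_smul]

/-- Flatness of the localization at a prime `q` of `B` of a `C`-module can be tested at the primes
of `C` lying over generizations of `q`. -/
theorem flat_localizedModule_iff_forall_prime {A B C M : Type*} [CommRing A] [CommRing B]
    [CommRing C] [Algebra A B] [Algebra A C] [Algebra B C] [AddCommGroup M] [Module A M]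
    [Module B M] [Module C M] [IsScalarTower B C M] [IsScalarTower A C M] [IsScalarTower A B M]
    (q : Ideal B) [q.IsPrime] :
    Module.Flat A (LocalizedModule q.primeCompl M) ↔
      ∀ r : Ideal C, ∀ _ : r.IsPrime, r.comap (algebraMap B C) ≤ q →
        Module.Flat A (LocalizedModule r.primeCompl M) := by
  constructor
  · intro h r hr hrq
    rw [flat_localizedModule_iff'] at h ⊢
    intro I z hz
    obtain ⟨s, hs, hsz⟩ := h I z hz
    refine ⟨algebraMap B C s, fun hmem => hs (hrq hmem), ?_⟩
    rw [algebraMap_smul_tensor, hsz]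
  · intro h
    rw [flat_localizedModule_iff']
    intro I z hz
    by_contra hcon
    push Not at hcon
    have hle : (Ideal.torsionOf C (M ⊗[A] I) z).comap (algebraMap B C) ≤ q := by
      intro s hs
      by_contra hsq
      refine hcon s hsq ?_
      rw [Ideal.mem_comap, Ideal.mem_torsionOf_iff] at hs
      rw [← algebraMap_smul_tensor (C := C), hs]
    obtain ⟨Q, hQ, hQp, hQq⟩ := Ideal.exists_ideal_comap_le_prime q _ hle
    have hflat := h Q hQp hQq
    rw [flat_localizedModule_iff'] at hflat
    obtain ⟨t, ht, htz⟩ := hflat I z hz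
    exact ht (hQ ((Ideal.mem_torsionOf_iff _ _).mpr htz))

/-- Openness in `Spec B` of the locus where a finitely presented `C`-module is flat over `A`. -/
theorem isOpen_flatLocus_over_base {A B C : Type u} [CommRing A] [CommRing B] [CommRing C]
    [Algebra A B] [Algebra B C] [Algebra A C] [IsScalarTower A B C]
    [Algebra.FinitePresentation A B] [Algebra.FinitePresentation B C]
    (M : Type u) [AddCommGroup M] [Module C M] [Module B M] [Module A M]
    [IsScalarTower B C M] [IsScalarTower A C M] [IsScalarTower A B M]
    [Module.FinitePresentation C M] :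
    IsOpen {q : PrimeSpectrum B | Module.Flat A (LocalizedModule q.asIdeal.primeCompl M)} := by
  haveI : Algebra.FinitePresentation A C := Algebra.FinitePresentation.trans A B C
  have hopen := isOpen_flatLocus_of_finitePresentation (R := A) (S := C) (M := M)
  obtain ⟨J, hJ⟩ := (PrimeSpectrum.isClosed_iff_zeroLocus_ideal _).mp hopen.isClosed_compl
  have hJ' : ∀ r : PrimeSpectrum C, J ≤ r.asIdeal ↔
      ¬ Module.Flat A (LocalizedModule r.asIdeal.primeCompl M) := by
    intro r
    have : r ∈ {q : PrimeSpectrum C | Module.Flat A (LocalizedModule q.asIdeal.primeCompl M)}ᶜ ↔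
        r ∈ PrimeSpectrum.zeroLocus (J : Set C) := by rw [hJ]
    rw [PrimeSpectrum.mem_zeroLocus, SetLike.coe_subset_coe] at this
    exact this.symm
  rw [← isClosed_compl_iff, PrimeSpectrum.isClosed_iff_zeroLocus_ideal]
  refine ⟨J.comap (algebraMap B C), ?_⟩
  ext q
  rw [Set.mem_compl_iff, Set.mem_ofPred_eq, PrimeSpectrum.mem_zeroLocus, SetLike.coe_subset_coe,
    flat_localizedModule_iff_forall_prime (C := C)]
  constructor
  · intro h
    by_contra hle
    refine h fun r hr hrq => ?_
    by_contra hnf
    exact hle ((Ideal.comap_mono ((hJ' ⟨r, hr⟩).mpr hnf)).trans hrq)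
  · intro hle h
    obtain ⟨Q, hQ, hQp, hQq⟩ := Ideal.exists_ideal_comap_le_prime q.asIdeal J hle
    exact (hJ' ⟨Q, hQp⟩).mp hQ (h Q hQp hQq)

end Groth.Agent.Lib.Helper3.FlatOpen
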