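import Mathlib

/-!
# Flat + unramified (essentially of finite type) implies formally étale, without finite presentation
(helper3)

If `R → S` is flat and there is a "diagonal idempotent" `t ∈ S ⊗[R] S` (which exists when `S` is
formally unramified and essentially of finite type), then every `R`-algebra map `S → R ⧸ J`
with `J ^ 2 = 0` lifts to `S → R`.  Consequently flat + formally unramified + essentially of finite
type implies formally étale.
-/

set_option autoImplicit false
set_option linter.style.haveILetI false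
universe u
open TensorProduct

namespace Groth.Agent.Lib.Helper3.FlatUnram

section Claim

variable {R S : Type u} [CommRing R] [CommRing S] [Algebra R S]

/-- Nilpotent Nakayama for a square-zero ideal. -/
theorem eq_top_of_sup_smul_eq_top {M : Type*} [AddCommGroup M] [Module R M] (J : Ideal R)
    (hJ : J ^ 2 = ⊥) (N : Submodule R M) (h : N ⊔ J • (⊤ : Submodule R M) = ⊤) : N = ⊤ := by
  have h1 : J • (⊤ : Submodule R M) ≤ N := by
    calc J • (⊤ : Submodule R M) = J • (N ⊔ J • (⊤ : Submodule R M)) := by rw [h]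
      _ = J • N ⊔ J • J • (⊤ : Submodule R M) := Submodule.smul_sup _ _ _
      _ = J • N := by
        rw [← Submodule.mul_smul, ← pow_two, hJ, Submodule.bot_smul, sup_bot_eq]
      _ ≤ N := Submodule.smul_le_right
  rw [← h]
  exact (sup_eq_left.mpr h1).symm

theorem exists_section_of_flat [Module.Flat R S] (t : S ⊗[R] S)
    (ht1 : ∀ s : S, ((1 : S) ⊗ₜ[R] s - s ⊗ₜ[R] (1 : S)) * t = 0)
    (ht2 : Algebra.TensorProduct.lmul' R t = 1) (J : Ideal R) (hJ : J ^ 2 = ⊥)
    (G : S →ₐ[R] R ⧸ J) :
    ∃ σ : S →ₐ[R] R, (Ideal.Quotient.mkₐ R J).comp σ = G := by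
  classical
  set JS : Ideal S := J.map (algebraMap R S) with hJS
  let mkS : S →ₐ[R] S ⧸ JS := Ideal.Quotient.mkₐ R JS
  have hmkS : Function.Surjective mkS := Ideal.Quotient.mk_surjective
  -- `ι : R/J → S/JS`
  let ι : R ⧸ J →ₐ[R] S ⧸ JS := Ideal.Quotient.liftₐ J (Algebra.ofId R (S ⧸ JS)) (by
    intro a ha
    change algebraMap R (S ⧸ JS) a = 0
    rw [IsScalarTower.algebraMap_apply R S (S ⧸ JS), Ideal.Quotient.algebraMap_eq,
      Ideal.Quotient.eq_zero_iff_mem]
    exact Ideal.mem_map_of_mem _ ha)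
  have hι : ∀ r : R, ι (Ideal.Quotient.mk J r) = algebraMap R (S ⧸ JS) r := fun r => rfl
  -- `Ḡ : S/JS → R/J`
  have hGJ : ∀ a ∈ JS, G a = 0 := by
    intro a ha
    have : JS ≤ RingHom.ker G.toRingHom := by
      rw [hJS, Ideal.map_le_iff_le_comap]
      intro j hj
      rw [Ideal.mem_comap, RingHom.mem_ker]
      change G (algebraMap R S j) = 0
      rw [G.commutes, Ideal.Quotient.algebraMap_eq, Ideal.Quotient.eq_zero_iff_mem]
      exact hj
    exact this ha
  let Gb : S ⧸ JS →ₐ[R] R ⧸ J := Ideal.Quotient.liftₐ JS G hGJ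
  have hGb : ∀ s : S, Gb (mkS s) = G s := fun s => rfl
  have hGbι : ∀ x : R ⧸ J, Gb (ι x) = x := by
    intro x
    obtain ⟨r, rfl⟩ := Ideal.Quotient.mk_surjective x
    rw [hι, Gb.commutes]
    rfl
  -- the diagonal map
  let Θ : S ⊗[R] S →ₐ[R] S ⧸ JS := Algebra.TensorProduct.productMap (ι.comp G) mkS
  have hΘ : ∀ a b : S, Θ (a ⊗ₜ[R] b) = ι (G a) * mkS b := fun a b => by
    simp [Θ, Algebra.TensorProduct.productMap_apply_tmul]
  set eb : S ⧸ JS := Θ t with heb
  have h1 : ∀ s : S, (mkS s - ι (G s)) * eb = 0 := by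
    intro s
    have := congrArg Θ (ht1 s)
    rw [map_mul, map_sub, hΘ, hΘ, map_zero, map_one, map_one, map_one, one_mul, mul_one] at this
    exact this
  have h2 : Gb eb = 1 := by
    have hcomp : Gb.comp Θ = G.comp (Algebra.TensorProduct.lmul' R) := by
      apply Algebra.TensorProduct.ext'
      intro a b
      simp only [AlgHom.comp_apply, hΘ, map_mul, hGbι, hGb, Algebra.TensorProduct.lmul'_apply_tmul]
    have := congrArg (fun φ : S ⊗[R] S →ₐ[R] R ⧸ J => φ t) hcomp
    simp only [AlgHom.comp_apply] at this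
    rw [heb, this]
    change G (Algebra.TensorProduct.lmul' R t) = 1
    rw [ht2, map_one]
  have hidem : IsIdempotentElem eb := by
    obtain ⟨s₀, hs₀⟩ := hmkS eb
    have h3 := h1 s₀
    rw [hs₀, ← hGb, hs₀, h2, map_one, sub_mul, one_mul, sub_eq_zero] at h3
    exact h3
  -- lift the idempotent
  have hnil : ∀ x ∈ RingHom.ker (mkS : S →+* S ⧸ JS), IsNilpotent x := by
    intro x hx
    have hx' : x ∈ JS := by
      have : RingHom.ker (mkS : S →+* S ⧸ JS) = JS := Ideal.mk_ker
      rwa [this] at hx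
    refine ⟨2, ?_⟩
    have : x ^ 2 ∈ JS ^ 2 := Ideal.pow_mem_pow hx' 2
    rw [hJS, ← Ideal.map_pow, hJ, Ideal.map_bot] at this
    exact this
  obtain ⟨e, he, hee⟩ := exists_isIdempotentElem_eq_of_ker_isNilpotent
    (mkS : S →+* S ⧸ JS) hnil eb (hmkS eb) hidem
  have hee' : mkS e = eb := hee
  -- the localization `S₁ = S/(1-e)`
  let S₁ := S ⧸ Ideal.span {1 - e}
  let mk₁ : S →ₐ[R] S₁ := Ideal.Quotient.mkₐ R (Ideal.span {1 - e})
  have hmk₁e : mk₁ e = 1 := by
    have : mk₁ (1 - e) = 0 := by
      change Ideal.Quotient.mk _ (1 - e) = 0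
      rw [Ideal.Quotient.eq_zero_iff_mem]
      exact Ideal.subset_span rfl
    rw [map_sub, map_one, sub_eq_zero] at this
    exact this.symm
  haveI : IsLocalization.Away e S₁ := IsLocalization.Away.quotient_of_isIdempotentElem he
  haveI : Module.Flat S S₁ := IsLocalization.flat S₁ (Submonoid.powers e)
  haveI : Module.Flat R S₁ := Module.Flat.trans R S S₁
  -- `G` factors through `S₁`
  have hG1e : G (1 - e) = 0 := by
    rw [map_sub, map_one, ← hGb, hee', h2, sub_self]
  let G₁ : S₁ →ₐ[R] R ⧸ J := Ideal.Quotient.liftₐ (Ideal.span {1 - e}) G (by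
    intro a ha
    obtain ⟨c, rfl⟩ := Ideal.mem_span_singleton'.mp ha
    rw [map_mul, hG1e, mul_zero])
  have hG₁ : ∀ s : S, G₁ (mk₁ s) = G s := fun s => rfl
  -- surjectivity
  have hsurj : Function.Surjective (algebraMap R S₁) := by
    have hN : LinearMap.range (Algebra.linearMap R S₁) = ⊤ := by
      apply eq_top_of_sup_smul_eq_top J hJ
      rw [eq_top_iff]
      rintro x -
      obtain ⟨s, rfl⟩ := Ideal.Quotient.mk_surjective x
      obtain ⟨r, hr⟩ := Ideal.Quotient.mk_surjective (G s)
      have hmem : (s - algebraMap R S r) * e ∈ JS := by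
        rw [← Ideal.Quotient.eq_zero_iff_mem]
        change mkS ((s - algebraMap R S r) * e) = 0
        rw [map_mul, map_sub, hee', AlgHom.commutes, ← hι, hr]
        exact h1 s
      have hmem' : mk₁ ((s - algebraMap R S r) * e) ∈ J • (⊤ : Submodule R S₁) := by
        have h3 : (s - algebraMap R S r) * e ∈ J • (⊤ : Submodule R S) := by
          rw [Ideal.smul_top_eq_map]
          exact hmem
        have h4 := Submodule.mem_map_of_mem (f := mk₁.toLinearMap) h3
        rw [Submodule.map_smul''] at h4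
        exact (smul_mono_right _ le_top : _ ≤ J • (⊤ : Submodule R S₁)) h4
      rw [map_mul, hmk₁e, mul_one, map_sub, AlgHom.commutes] at hmem'
      have : (Ideal.Quotient.mk (Ideal.span {1 - e}) s : S₁) =
          algebraMap R S₁ r + (mk₁ s - algebraMap R S₁ r) := by
        change mk₁ s = _
        ring
      rw [this]
      exact Submodule.add_mem_sup ⟨r, rfl⟩ hmem'
    intro x
    have : x ∈ LinearMap.range (Algebra.linearMap R S₁) := hN ▸ Submodule.mem_top
    obtain ⟨r, hr⟩ := this
    exact ⟨r, hr⟩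
  -- injectivity
  have hinj : Function.Injective (algebraMap R S₁) := by
    rw [injective_iff_map_eq_zero]
    intro k hk
    have hkJ : k ∈ J := by
      rw [← Ideal.Quotient.eq_zero_iff_mem, ← Ideal.Quotient.algebraMap_eq, ← G₁.commutes, hk,
        map_zero]
    -- `k ⊗ 1 = 0` in `J ⊗ S₁`
    have hflat := Module.Flat.rTensor_preserves_injective_linearMap (M := S₁)
      (J.subtype : J →ₗ[R] R) Subtype.val_injective
    have hzero : (⟨k, hkJ⟩ : J) ⊗ₜ[R] (1 : S₁) = 0 := by
      apply hflat
      rw [LinearMap.rTensor_tmul, map_zero]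
      have : (J.subtype ⟨k, hkJ⟩ : R) ⊗ₜ[R] (1 : S₁) = (1 : R) ⊗ₜ[R] (k • (1 : S₁)) := by
        rw [Submodule.subtype_apply, TensorProduct.tmul_smul, TensorProduct.smul_tmul',
          smul_eq_mul, mul_one]
      rw [this, Algebra.smul_def, mul_one, hk, TensorProduct.tmul_zero]
    -- the evaluation map `J ⊗ S₁ → J`
    let β : (R ⧸ J) →ₗ[R] (J →ₗ[R] J) := Submodule.liftQ J (LinearMap.lsmul R J) (by
      intro a ha
      rw [LinearMap.mem_ker]
      ext j
      rw [LinearMap.lsmul_apply, LinearMap.zero_apply, ZeroMemClass.coe_zero, Submodule.coe_smul,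
        smul_eq_mul]
      have : a * (j : R) ∈ J ^ 2 := by
        rw [pow_two]; exact Ideal.mul_mem_mul ha j.2
      rw [hJ] at this
      exact this)
    let Φ : J ⊗[R] S₁ →ₗ[R] J :=
      (TensorProduct.lift β.flip) ∘ₗ (LinearMap.lTensor J G₁.toLinearMap)
    have hΦ : Φ ((⟨k, hkJ⟩ : J) ⊗ₜ[R] (1 : S₁)) = ⟨k, hkJ⟩ := by
      simp only [Φ, LinearMap.comp_apply, LinearMap.lTensor_tmul, AlgHom.toLinearMap_apply,
        map_one, TensorProduct.lift.tmul, LinearMap.flip_apply]
      change β (Submodule.Quotient.mk 1) ⟨k, hkJ⟩ = _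
      rw [Submodule.liftQ_apply, LinearMap.lsmul_apply, one_smul]
    rw [hzero, map_zero] at hΦ
    exact (congrArg Subtype.val hΦ).symm
  let e₁ : R ≃ₐ[R] S₁ := AlgEquiv.ofBijective (Algebra.ofId R S₁) ⟨hinj, hsurj⟩
  refine ⟨(e₁.symm : S₁ →ₐ[R] R).comp mk₁, ?_⟩
  ext s
  simp only [AlgHom.comp_apply, AlgEquiv.coe_toAlgHom]
  rw [← hG₁ s]
  generalize mk₁ s = x
  obtain ⟨r, rfl⟩ := e₁.surjective x
  rw [e₁.symm_apply_apply]
  change _ = G₁ (algebraMap R S₁ r)
  rw [G₁.commutes]
  rfl

end Claim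

section Main

variable {A B : Type u} [CommRing A] [CommRing B] [Algebra A B]

/-- A flat, formally unramified algebra essentially of finite type is formally smooth
(no finite presentation hypothesis). -/
theorem formallySmooth_of_flat_of_formallyUnramified [Module.Flat A B]
    [Algebra.EssFiniteType A B] [Algebra.FormallyUnramified A B] : Algebra.FormallySmooth A B := by
  refine Algebra.FormallySmooth.of_comp_surjective fun C _ _ I hI g => ?_
  -- base change to `C`
  obtain ⟨t, ht1, ht2⟩ := (Algebra.FormallyUnramified.iff_exists_tensorProduct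
    (R := C) (S := C ⊗[A] B)).mp inferInstance
  let G : C ⊗[A] B →ₐ[C] C ⧸ I :=
    Algebra.TensorProduct.lift (Algebra.ofId C (C ⧸ I)) g (fun _ _ => Commute.all _ _)
  obtain ⟨σ, hσ⟩ := exists_section_of_flat t ht1 ht2 I hI G
  refine ⟨(σ.restrictScalars A).comp Algebra.TensorProduct.includeRight, ?_⟩
  ext b
  have := congrArg (fun φ : C ⊗[A] B →ₐ[C] C ⧸ I => φ ((1 : C) ⊗ₜ[A] b)) hσ
  simp only [AlgHom.comp_apply] at this
  simp only [AlgHom.comp_apply, Algebra.TensorProduct.includeRight_apply,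
    AlgHom.restrictScalars_apply]
  change (Ideal.Quotient.mkₐ C I) (σ (1 ⊗ₜ[A] b)) = g b
  rw [this]
  simp [G]

/-- A flat, formally unramified algebra essentially of finite type is formally étale. -/
theorem formallyEtale_of_flat_of_formallyUnramified [Module.Flat A B]
    [Algebra.EssFiniteType A B] [Algebra.FormallyUnramified A B] : Algebra.FormallyEtale A B :=
  haveI := formallySmooth_of_flat_of_formallyUnramified (A := A) (B := B)
  Algebra.FormallyEtale.of_formallyUnramified_and_formallySmooth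

end Main

end Groth.Agent.Lib.Helper3.FlatUnram
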