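/-
Helper library (helper3): generic freeness over a reduced ring, part (a): minimal primes of reduced
rings, initial sets modulo primes.
-/
import Mathlib
import Groth.Agent.Lib.Helper2GenFree

set_option autoImplicit false
universe u v

namespace Groth.Agent.Lib.Helper3.GenFreeRed

open MvPolynomial MonomialOrder
open scoped MonomialOrder
open Groth.Agent.Lib.Helper24GB Groth.Agent.Lib.Helper2.GenFree

open MvPolynomial MonomialOrder
open scoped MonomialOrder
open Groth.Agent.Lib.Helper24GB Groth.Agent.Lib.Helper2.GenFree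

section kill
variable {R : Type*} [CommRing R] [IsReduced R]

theorem exists_notMem_mul_eq_zero {p : Ideal R} (hp : p ∈ minimalPrimes R) {x : R} (hx : x ∈ p) :
    ∃ s, s ∉ p ∧ s * x = 0 := by
  haveI := hp.1.1
  have h1 := IsLocalization.AtPrime.radical_map_of_mem_minimalPrimes
    (A := Localization.AtPrime p) p ⊥ hp
  haveI : IsReduced (Localization.AtPrime p) := inferInstance
  have h2 : (p.map (algebraMap R (Localization.AtPrime p))) = ⊥ := by
    rw [← h1, Ideal.map_bot]
    exact nilradical_eq_zero _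
  have h3 : algebraMap R (Localization.AtPrime p) x = 0 := by
    have : algebraMap R (Localization.AtPrime p) x ∈ p.map (algebraMap R (Localization.AtPrime p)) :=
      Ideal.mem_map_of_mem _ hx
    rw [h2] at this
    exact this
  obtain ⟨s, hs⟩ := (IsLocalization.map_eq_zero_iff p.primeCompl _ x).mp h3
  exact ⟨s.1, s.2, hs⟩

theorem exists_notMem_forall_mul_eq_zero {p : Ideal R} (hp : p ∈ minimalPrimes R)
    (T : Finset R) (hT : ∀ x ∈ T, x ∈ p) : ∃ s, s ∉ p ∧ ∀ x ∈ T, s * x = 0 := by
  classical
  haveI := hp.1.1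
  induction T using Finset.induction_on with
  | empty => exact ⟨1, p.one_notMem, by simp⟩
  | insert a T ha ih =>
    obtain ⟨s, hs, hsT⟩ := ih fun x hx => hT x (Finset.mem_insert_of_mem hx)
    obtain ⟨t, ht, hta⟩ := exists_notMem_mul_eq_zero hp (hT a (Finset.mem_insert_self a T))
    refine ⟨s * t, ?_, ?_⟩
    · intro h
      rcases hp.1.1.mem_or_mem h with h | h
      · exact hs h
      · exact ht h
    · intro x hx
      rcases Finset.mem_insert.mp hx with rfl | hx
      · rw [mul_assoc, hta, mul_zero]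
      · rw [mul_comm s t, mul_assoc, hsT x hx, mul_zero]

theorem exists_minimalPrime_notMem {h : R} (hh : h ≠ 0) : ∃ p ∈ minimalPrimes R, h ∉ p := by
  by_contra hcon
  push Not at hcon
  apply hh
  have h1 : h ∈ sInf (minimalPrimes R) := by
    rw [Ideal.mem_sInf]
    intro p hp
    exact hcon p hp
  have h2 : sInf (minimalPrimes R) = (⊥ : Ideal R) := by
    have := Ideal.sInf_minimalPrimes (I := (⊥ : Ideal R))
    rw [show (⊥ : Ideal R).radical = nilradical R from rfl, nilradical_eq_zero] at this
    exact this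
  rw [h2] at h1
  exact h1

theorem eq_zero_of_forall_minimalPrimes {z : R} (hz : ∀ p ∈ minimalPrimes R, z ∈ p) : z = 0 := by
  by_contra h0
  obtain ⟨p, hp, hzp⟩ := exists_minimalPrime_notMem h0
  exact hzp (hz p hp)

end kill

open MvPolynomial MonomialOrder
open scoped MonomialOrder
open Groth.Agent.Lib.Helper24GB Groth.Agent.Lib.Helper2.GenFree

section initial
variable {σ : Type*} (m : MonomialOrder σ) {R : Type*} [CommRing R]

/-- reduction of polynomials modulo `q` -/
noncomputable abbrev red (q : Ideal R) : MvPolynomial σ R →+* MvPolynomial σ (R ⧸ q) :=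
  MvPolynomial.map (Ideal.Quotient.mk q)

/-- leading exponents of the nonzero reductions modulo `q` of the elements of `I` -/
def inSet (I : Ideal (MvPolynomial σ R)) (q : Ideal R) : Set (σ →₀ ℕ) :=
  {d | ∃ x ∈ I, red q x ≠ 0 ∧ m.degree (red q x) = d}

theorem inSet_upper (I : Ideal (MvPolynomial σ R)) (q : Ideal R) [q.IsPrime] {d e : σ →₀ ℕ}
    (hd : d ∈ inSet m I q) (hde : d ≤ e) : e ∈ inSet m I q := by
  classical
  obtain ⟨x, hxI, hx0, hxd⟩ := hd
  have hmon : (monomial (e - d) (1 : R ⧸ q) : MvPolynomial σ (R ⧸ q)) ≠ 0 := by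
    rw [Ne, monomial_eq_zero]
    exact one_ne_zero
  refine ⟨x * monomial (e - d) 1, I.mul_mem_right _ hxI, ?_, ?_⟩
  · rw [map_mul, red, map_monomial, map_one]
    exact mul_ne_zero hx0 hmon
  · rw [map_mul, red, map_monomial, map_one, m.degree_mul hx0 hmon, m.degree_monomial,
      if_neg one_ne_zero]
    change m.degree (red q x) + (e - d) = e
    rw [hxd, add_tsub_cancel_of_le hde]

/-- the monomial ideal of `ℚ[σ]` attached to a set of exponents -/
noncomputable def monIdeal (T : Set (σ →₀ ℕ)) : Ideal (MvPolynomial σ ℚ) :=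
  Ideal.span ((fun d => monomial d (1 : ℚ)) '' T)

theorem monIdeal_mono {T T' : Set (σ →₀ ℕ)} (h : T ⊆ T') : monIdeal T ≤ monIdeal T' :=
  Ideal.span_mono (Set.image_mono h)

theorem mem_of_monomial_mem_monIdeal {T : Set (σ →₀ ℕ)} (hT : ∀ d e, d ∈ T → d ≤ e → e ∈ T)
    {e : σ →₀ ℕ} (he : monomial e (1 : ℚ) ∈ monIdeal T) : e ∈ T := by
  classical
  rw [monIdeal, mem_ideal_span_monomial_image] at he
  have hmem : e ∈ (monomial e (1 : ℚ)).support := by
    rw [support_monomial, if_neg one_ne_zero]
    exact Finset.mem_singleton_self e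
  obtain ⟨d, hd, hde⟩ := he e hmem
  exact hT d e hd hde

end initial

end Groth.Agent.Lib.Helper3.GenFreeRed
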