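import Mathlib
import Groth.Agent.Lib.Helper2GenFree
import Groth.Agent.Lib.Helper3GFRa

/-!
Helper library (helper3): generic freeness over a REDUCED ring (Groebner bases modulo minimal primes),
relative to a nonzero element h (the good element f is a nonzero multiple of h).
-/

set_option linter.style.haveILetI false

set_option autoImplicit false
universe u v

namespace Groth.Agent.Lib.Helper3.GenFreeRed

open MvPolynomial MonomialOrder
open scoped MonomialOrder
open Groth.Agent.Lib.Helper24GB Groth.Agent.Lib.Helper2.GenFree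

section main
variable {σ : Type*} [Finite σ] (m : MonomialOrder σ) {R : Type*} [CommRing R] [IsReduced R]

omit [Finite σ] [IsReduced R] in
theorem coeff_red (q : Ideal R) (x : MvPolynomial σ R) (e : σ →₀ ℕ) :
    (red q x).coeff e = Ideal.Quotient.mk q (x.coeff e) := coeff_map _ _ _

omit [Finite σ] [IsReduced R] in
/-- if all monomials of `y` are `≼ d`, and the coefficient of `y` at `d` is not in `q`, then the
reduction of `y` modulo `q` is nonzero of degree `d`. -/
theorem degree_red_eq (q : Ideal R) {y : MvPolynomial σ R} {d : σ →₀ ℕ}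
    (hle : ∀ e ∈ y.support, e ≼[m] d) (hd : y.coeff d ∉ q) :
    red q y ≠ 0 ∧ m.degree (red q y) = d := by
  have hc : (red q y).coeff d ≠ 0 := by
    rw [coeff_red, Ne, Ideal.Quotient.eq_zero_iff_mem]
    exact hd
  have hsupp : d ∈ (red q y).support := mem_support_iff.mpr hc
  have hne : red q y ≠ 0 := fun h0 => by rw [h0] at hc; exact hc (coeff_zero d)
  refine ⟨hne, ?_⟩
  apply m.toSyn.injective
  apply le_antisymm
  · rw [m.degree_le_iff]
    intro e he
    exact hle e (support_map_subset _ _ he)
  · exact m.le_degree hsupp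

theorem exists_groebner_reduced (I : Ideal (MvPolynomial σ R)) (h : R) (hh : h ≠ 0) :
    ∃ (f : R) (G : Finset (MvPolynomial σ R)), f ≠ 0 ∧ h ∣ f ∧ (∀ g ∈ G, g ∈ I) ∧
      (∀ g ∈ G, m.leadingCoeff g ∣ f) ∧
      (∀ r ∈ I, Reduced m (G : Set (MvPolynomial σ R)) r → f • r = 0) := by
  classical
  -- choice of a minimal prime with maximal initial set
  let 𝓙 : Set (Ideal (MvPolynomial σ ℚ)) :=
    {J | ∃ q ∈ minimalPrimes R, h ∉ q ∧ J = monIdeal (inSet m I q)}
  have hne : 𝓙.Nonempty := by
    obtain ⟨q, hq, hhq⟩ := exists_minimalPrime_notMem hh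
    exact ⟨_, q, hq, hhq, rfl⟩
  obtain ⟨J, ⟨p, hp, hhp, rfl⟩, hmax⟩ :=
    WellFounded.has_min (wellFounded_gt (α := Ideal (MvPolynomial σ ℚ))) 𝓙 hne
  haveI hpprime : p.IsPrime := hp.1.1
  set D : Set (σ →₀ ℕ) := inSet m I p with hD
  have hDup : ∀ d e, d ∈ D → d ≤ e → e ∈ D := fun d e hd hde => inSet_upper m I p hd hde
  set Dmin : Set (σ →₀ ℕ) := {d | Minimal (· ∈ D) d} with hDmin
  have hanti : IsAntichain (· ≤ ·) Dmin := by
    intro a ha b hb hab hle
    exact hab (le_antisymm hle (hb.2 ha.1 hle))
  have hfin : Dmin.Finite := WellQuasiOrderedLE.finite_of_isAntichain hanti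
  have hDmin_le : ∀ d ∈ D, ∃ b ∈ Dmin, b ≤ d := by
    intro d hd
    obtain ⟨b, hb, hbmin⟩ := (Set.isPWO_of_wellQuasiOrderedLE D).exists_le_minimal hd
    exact ⟨b, hbmin, hb⟩
  -- lifts of generators
  have hch : ∀ d : Dmin, ∃ y ∈ I, m.degree y = d.1 ∧ m.leadingCoeff y ∉ p := by
    rintro ⟨d, hd⟩
    obtain ⟨x, hxI, hx0, hxd⟩ := hd.1
    let T : Finset R := (x.support.filter fun e => x.coeff e ∈ p).image fun e => x.coeff e
    have hT : ∀ c ∈ T, c ∈ p := by
      intro c hc
      obtain ⟨e, he, rfl⟩ := Finset.mem_image.mp hc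
      exact (Finset.mem_filter.mp he).2
    obtain ⟨s, hs, hsT⟩ := exists_notMem_forall_mul_eq_zero hp T hT
    have hkill : ∀ e, x.coeff e ∈ p → s * x.coeff e = 0 := by
      intro e he
      by_cases hes : e ∈ x.support
      · exact hsT _ (Finset.mem_image.mpr ⟨e, Finset.mem_filter.mpr ⟨hes, he⟩, rfl⟩)
      · rw [notMem_support_iff.mp hes, mul_zero]
    have hcd : x.coeff d ∉ p := by
      have h1 : (red p x).coeff (m.degree (red p x)) ≠ 0 := m.coeff_degree_ne_zero_iff.mpr hx0
      rw [hxd, coeff_red, Ne, Ideal.Quotient.eq_zero_iff_mem] at h1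
      exact h1
    have hsc : s * x.coeff d ∉ p := fun hmem =>
      (hpprime.mem_or_mem hmem).elim hs hcd
    have hle : ∀ e ∈ (s • x).support, e ≼[m] d := by
      intro e he
      have h1 : (s • x).coeff e ≠ 0 := mem_support_iff.mp he
      rw [coeff_smul, smul_eq_mul] at h1
      have h2 : x.coeff e ∉ p := fun hmem => h1 (hkill e hmem)
      have h3 : e ∈ (red p x).support := by
        rw [mem_support_iff, coeff_red, Ne, Ideal.Quotient.eq_zero_iff_mem]
        exact h2
      rw [← hxd]
      exact m.le_degree h3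
    have hcoeff : (s • x).coeff d = s * x.coeff d := by rw [coeff_smul, smul_eq_mul]
    have hdeg : m.degree (s • x) = d := by
      apply m.toSyn.injective
      apply le_antisymm
      · rw [m.degree_le_iff]; exact hle
      · apply m.le_degree
        rw [mem_support_iff, hcoeff]
        exact fun h0 => hsc (h0 ▸ p.zero_mem)
    refine ⟨s • x, ?_, hdeg, ?_⟩
    · rw [smul_eq_C_mul]; exact I.mul_mem_left _ hxI
    · rw [MonomialOrder.leadingCoeff, hdeg, hcoeff]; exact hsc
  choose y hyI hyd hylc using hch
  haveI := hfin.fintype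
  set G : Finset (MvPolynomial σ R) := Finset.univ.image y with hG
  set f : R := h * ∏ g ∈ G, m.leadingCoeff g with hf
  have hlcG : ∀ g ∈ G, m.leadingCoeff g ∉ p := by
    intro g hg
    obtain ⟨d, -, rfl⟩ := Finset.mem_image.mp hg
    exact hylc d
  have hfp : f ∉ p := by
    intro hmem
    rcases hpprime.mem_or_mem hmem with h1 | h1
    · exact hhp h1
    · rw [hpprime.prod_mem_iff] at h1
      obtain ⟨g, hg, hgp⟩ := h1
      exact hlcG g hg hgp
  have hdvd : ∀ g ∈ G, m.leadingCoeff g ∣ f := fun g hg =>
    Dvd.dvd.mul_left (Finset.dvd_prod_of_mem _ hg) h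
  refine ⟨f, G, fun h0 => hfp (h0 ▸ p.zero_mem), Dvd.intro _ rfl, ?_, hdvd, ?_⟩
  · intro g hg
    obtain ⟨d, -, rfl⟩ := Finset.mem_image.mp hg
    exact hyI d
  · intro r hrI hred
    ext e
    rw [coeff_smul, smul_eq_mul, coeff_zero]
    apply eq_zero_of_forall_minimalPrimes
    intro q hq
    haveI hqprime : q.IsPrime := hq.1.1
    by_cases hfq : f ∈ q
    · exact q.mul_mem_right _ hfq
    apply q.mul_mem_left
    -- the initial sets of `p` and `q` agree
    have hhq : h ∉ q := fun hmem => hfq (q.mul_mem_right _ hmem)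
    have hsub : D ⊆ inSet m I q := by
      intro d' hd'
      obtain ⟨d, hd, hdd'⟩ := hDmin_le d' hd'
      refine inSet_upper m I q ?_ hdd'
      have hyG : y ⟨d, hd⟩ ∈ G := Finset.mem_image.mpr ⟨⟨d, hd⟩, Finset.mem_univ _, rfl⟩
      have hlcq : m.leadingCoeff (y ⟨d, hd⟩) ∉ q := by
        intro hmem
        obtain ⟨c, hc⟩ := hdvd _ hyG
        exact hfq (hc ▸ q.mul_mem_right _ hmem)
      have hyd' : m.degree (y ⟨d, hd⟩) = d := hyd ⟨d, hd⟩
      have h1 := degree_red_eq m q (y := y ⟨d, hd⟩) (d := d)
        (fun e he => by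
          have := m.le_degree he
          rw [hyd'] at this
          exact this)
        (by rw [MonomialOrder.leadingCoeff, hyd'] at hlcq; exact hlcq)
      exact ⟨y ⟨d, hd⟩, hyI ⟨d, hd⟩, h1.1, h1.2⟩
    have hJle : monIdeal D ≤ monIdeal (inSet m I q) := monIdeal_mono hsub
    have hJeq : monIdeal (inSet m I q) = monIdeal D := by
      by_contra hne'
      exact hmax _ ⟨q, hq, hhq, rfl⟩ (lt_of_le_of_ne hJle (Ne.symm hne'))
    have hsup : inSet m I q ⊆ D := by
      intro e' he'
      apply mem_of_monomial_mem_monIdeal hDup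
      rw [← hJeq]
      exact Ideal.subset_span ⟨e', he', rfl⟩
    -- the reduction of `r` modulo `q` vanishes
    have hr0 : red q r = 0 := by
      by_contra hr0
      have he' : m.degree (red q r) ∈ D := hsup ⟨r, hrI, hr0, rfl⟩
      obtain ⟨d, hd, hdle⟩ := hDmin_le _ he'
      have hsupp : m.degree (red q r) ∈ r.support :=
        support_map_subset _ _ (m.degree_mem_support hr0)
      have hyG : y ⟨d, hd⟩ ∈ (G : Set (MvPolynomial σ R)) :=
        Finset.mem_coe.mpr (Finset.mem_image.mpr ⟨⟨d, hd⟩, Finset.mem_univ _, rfl⟩)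
      have hyd' : m.degree (y ⟨d, hd⟩) = d := hyd ⟨d, hd⟩
      exact hred _ hsupp _ hyG (by rw [hyd']; exact hdle)
    have := congrArg (fun z => coeff e z) hr0
    simp only [coeff_red, coeff_zero] at this
    exact Ideal.Quotient.eq_zero_iff_mem.mp this

omit [IsReduced R] in
theorem linearCombination_monomial_eq_zero (m : MonomialOrder σ) {G : Set (MvPolynomial σ R)}
    (l : Std m G →₀ R)
    (hl : Finsupp.linearCombination R (fun b : Std m G => monomial b.1 (1 : R)) l = 0) : l = 0 := by
  have hli : LinearIndependent R (fun b : Std m G => monomial b.1 (1 : R)) :=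
    ((basisMonomials σ R).linearIndependent.comp _ Subtype.val_injective)
  exact (linearIndependent_iff.mp hli) l hl

omit [Finite σ] [IsReduced R] in
theorem reduced_linearCombination (m : MonomialOrder σ) {G : Set (MvPolynomial σ R)}
    (l : Std m G →₀ R) :
    Reduced m G (Finsupp.linearCombination R (fun b : Std m G => monomial b.1 (1 : R)) l) := by
  classical
  intro e he g hg
  rw [Finsupp.linearCombination_apply, Finsupp.sum] at he
  obtain ⟨b, -, hb⟩ := Finset.mem_biUnion.mp (MvPolynomial.support_sum he)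
  have hb' := MvPolynomial.support_smul hb
  have : e = b.1 := by
    have := support_monomial_subset hb'
    simpa using this
  subst this
  exact b.2 g hg

/-- Gröbner data for a ring homomorphism out of a polynomial ring over a reduced ring, relative to
a nonzero element `h`: there is a nonzero multiple `f` of `h` such that after inverting `f` the
standard monomials form a basis of the image and the kernel is generated by the finite set `G`. -/
theorem exists_data_reduced {T : Type*} [CommRing T] [Module R T]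
    (φ : MvPolynomial σ R →+* T) (hlin : ∀ (c : R) (p : MvPolynomial σ R), φ (c • p) = c • φ p)
    (h : R) (hh : h ≠ 0) :
    ∃ (f : R) (G : Finset (MvPolynomial σ R)), f ≠ 0 ∧ h ∣ f ∧ (∀ g ∈ G, φ g = 0) ∧
      (∀ l : Std m (G : Set (MvPolynomial σ R)) →₀ R,
        Finsupp.linearCombination R
          (fun b : Std m (G : Set (MvPolynomial σ R)) => φ (monomial b.1 1)) l = 0 →
          ∀ b, f * l b = 0) ∧
      (∀ p, ∃ n : ℕ, f ^ n • φ p ∈ Submodule.span R
        (Set.range fun b : Std m (G : Set (MvPolynomial σ R)) => φ (monomial b.1 1))) ∧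
      (∀ p, φ p = 0 → ∃ n : ℕ, f ^ n • p ∈ Ideal.span (G : Set (MvPolynomial σ R))) := by
  obtain ⟨f, G, hf, hdvd, hGI, hlc, hred⟩ := exists_groebner_reduced m (RingHom.ker φ) h hh
  let φL : MvPolynomial σ R →ₗ[R] T :=
    { toFun := φ, map_add' := map_add φ, map_smul' := fun c p => hlin c p }
  have hspanle : Ideal.span (G : Set (MvPolynomial σ R)) ≤ RingHom.ker φ :=
    Ideal.span_le.mpr fun g hg => hGI g hg
  refine ⟨f, G, hf, hdvd, fun g hg => (RingHom.mem_ker).mp (hGI g hg), ?_, ?_, ?_⟩
  · intro l hl b
    set r : MvPolynomial σ R := Finsupp.linearCombination R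
      (fun b : Std m (G : Set (MvPolynomial σ R)) => monomial b.1 (1 : R)) l with hr
    have hφr : φL r = 0 := by
      rw [hr, Finsupp.apply_linearCombination]
      exact hl
    have hr0 : f • r = 0 := hred r ((RingHom.mem_ker).mpr hφr) (reduced_linearCombination m l)
    have h2 : Finsupp.linearCombination R
        (fun b : Std m (G : Set (MvPolynomial σ R)) => monomial b.1 (1 : R)) (f • l) = 0 := by
      rw [map_smul]; exact hr0
    have h3 := linearCombination_monomial_eq_zero m _ h2
    have := DFunLike.congr_fun h3 b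
    simpa using this
  · intro p
    obtain ⟨n, r, hr, hmem⟩ := exists_pseudo_reduced m (G : Set (MvPolynomial σ R)) f hlc p
    refine ⟨n, ?_⟩
    have h0 : φ (f ^ n • p - r) = 0 := (RingHom.mem_ker).mp (hspanle hmem)
    rw [map_sub, sub_eq_zero, hlin] at h0
    rw [h0]
    exact reduced_mem_span m φL hr
  · intro p hp
    obtain ⟨n, r, hr, hmem⟩ := exists_pseudo_reduced m (G : Set (MvPolynomial σ R)) f hlc p
    refine ⟨n + 1, ?_⟩
    have hrI : r ∈ RingHom.ker φ := by
      have h0 : φ (f ^ n • p - r) = 0 := (RingHom.mem_ker).mp (hspanle hmem)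
      rw [map_sub, hlin, hp, smul_zero, zero_sub, neg_eq_zero] at h0
      exact (RingHom.mem_ker).mpr h0
    have hr0 : f • r = 0 := hred r hrI hr
    have : f ^ (n + 1) • p = f • (f ^ n • p - r) := by
      rw [smul_sub, hr0, sub_zero, pow_succ', mul_smul]
    rw [this, smul_eq_C_mul]
    exact Ideal.mul_mem_left _ _ hmem

end main

section wfreeAway
variable (R : Type*) [CommRing R]

/-- `M` becomes free after inverting `f`, witnessed by a subset of `M` spanning `M` up to powers of
`f` whose linear relations are killed by `f`. -/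
def WFreeAway (f : R) (M : Type*) [AddCommGroup M] [Module R M] : Prop :=
  ∃ B : Set M, (∀ l : B →₀ R, Finsupp.linearCombination R ((↑) : B → M) l = 0 →
      ∀ b, f * l b = 0) ∧
    ∀ x : M, ∃ n : ℕ, f ^ n • x ∈ Submodule.span R B

variable {R} {M : Type*} [AddCommGroup M] [Module R M]

theorem WFreeAway.mul_right {f : R} (h : WFreeAway R f M) (g : R) : WFreeAway R (f * g) M := by
  obtain ⟨B, hB, hs⟩ := h
  refine ⟨B, fun l hl b => ?_, fun x => ?_⟩
  · rw [mul_right_comm, hB l hl b, zero_mul]
  · obtain ⟨n, hn⟩ := hs x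
    refine ⟨n, ?_⟩
    rw [mul_pow, mul_comm, mul_smul]
    exact Submodule.smul_mem _ _ hn

theorem WFreeAway.mul_left {f : R} (h : WFreeAway R f M) (g : R) : WFreeAway R (g * f) M := by
  rw [mul_comm]; exact h.mul_right g

theorem WFreeAway.of_dvd {f f' : R} (h : WFreeAway R f M) (hd : f ∣ f') : WFreeAway R f' M := by
  obtain ⟨c, rfl⟩ := hd
  exact h.mul_right c

/-- A module which is free away from `f` becomes free over `R_f` after localization. -/
theorem WFreeAway.free {f : R} (h : WFreeAway R f M) (A : Type*) [CommRing A] [Algebra R A]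
    [IsLocalization.Away f A] {M' : Type*} [AddCommGroup M'] [Module R M'] [Module A M']
    [IsScalarTower R A M'] (g : M →ₗ[R] M') [IsLocalizedModule (Submonoid.powers f) g] :
    Module.Free A M' := by
  classical
  obtain ⟨B, hB, hs⟩ := h
  have hunit : ∀ c : Submonoid.powers f, IsUnit (algebraMap R A c) := fun c =>
    IsLocalization.map_units A c
  have hfunit : IsUnit (algebraMap R A f) :=
    IsLocalization.map_units A (⟨f, 1, pow_one f⟩ : Submonoid.powers f)
  have hli : LinearIndependent A (g ∘ ((↑) : B → M)) := by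
    rw [linearIndependent_iff]
    intro l hl
    obtain ⟨s, hs'⟩ := IsLocalization.exist_integer_multiples (Submonoid.powers f) l.support l
    choose! r hr using hs'
    -- `r : B → R` with `algebraMap R A (r i) = s • l i` on the support
    let l' : B →₀ R := Finsupp.onFinset l.support (fun i => if i ∈ l.support then r i else 0)
      (fun i hi => by
        by_contra hne
        exact hi (if_neg hne))
    have hl'apply : ∀ i, algebraMap R A (l' i) = (s : R) • l i := by
      intro i
      by_cases hi : i ∈ l.support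
      · simp only [l', Finsupp.onFinset_apply, if_pos hi]
        exact hr i hi
      · simp only [l', Finsupp.onFinset_apply, if_neg hi, map_zero]
        rw [Finsupp.notMem_support_iff.mp hi, smul_zero]
    have h1 : g (Finsupp.linearCombination R ((↑) : B → M) l') = 0 := by
      have : g (Finsupp.linearCombination R ((↑) : B → M) l') =
          (s : R) • Finsupp.linearCombination A (g ∘ ((↑) : B → M)) l := by
        rw [Finsupp.linearCombination_apply, Finsupp.linearCombination_apply, Finsupp.sum,
          Finsupp.sum, map_sum, Finset.smul_sum]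
        have hsub : l'.support ⊆ l.support := Finsupp.support_onFinset_subset
        rw [Finset.sum_subset hsub]
        · refine Finset.sum_congr rfl fun i _ => ?_
          rw [map_smul, ← algebraMap_smul A (l' i), hl'apply, smul_assoc]
          rfl
        · intro i _ hi
          rw [Finsupp.notMem_support_iff.mp hi, zero_smul, map_zero]
      rw [this, hl, smul_zero]
    obtain ⟨c, hc⟩ := (IsLocalizedModule.eq_zero_iff (Submonoid.powers f) g).mp h1
    have h2 : Finsupp.linearCombination R ((↑) : B → M) ((c : R) • l') = 0 := by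
      rw [map_smul]; exact hc
    ext b
    have h3 : f * ((c : R) * l' b) = 0 := by
      have := hB _ h2 b
      simpa using this
    have h4 := congrArg (algebraMap R A) h3
    rw [map_mul, map_mul, hl'apply, map_zero, Algebra.smul_def] at h4
    have h5 := (hfunit.mul_right_eq_zero).mp h4
    have h6 := ((hunit c).mul_right_eq_zero).mp h5
    have h7 := ((hunit s).mul_right_eq_zero).mp h6
    simpa using h7
  have hspan : ⊤ ≤ Submodule.span A (Set.range (g ∘ ((↑) : B → M))) := by
    intro x' _
    obtain ⟨⟨x, s⟩, hxs⟩ := IsLocalizedModule.surj (Submonoid.powers f) g x'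
    obtain ⟨n, hn⟩ := hs x
    have h1 : g (f ^ n • x) ∈ Submodule.span A (Set.range (g ∘ ((↑) : B → M))) := by
      have : g (f ^ n • x) ∈ (Submodule.span R (B : Set M)).map g := Submodule.mem_map_of_mem hn
      rw [Submodule.map_span] at this
      have hle : Submodule.span R (g '' B) ≤
          (Submodule.span A (Set.range (g ∘ ((↑) : B → M)))).restrictScalars R := by
        rw [Submodule.span_le]
        rintro _ ⟨b, hb, rfl⟩
        exact Submodule.subset_span ⟨⟨b, hb⟩, rfl⟩
      exact hle this
    have hu : IsUnit (algebraMap R A (f ^ n * (s : R))) := by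
      rw [map_mul]
      exact (IsLocalization.map_units A (⟨f ^ n, n, rfl⟩ : Submonoid.powers f)).mul
        (IsLocalization.map_units A s)
    have h2 : algebraMap R A (f ^ n * (s : R)) • x' = g (f ^ n • x) := by
      rw [algebraMap_smul, mul_smul, map_smul, ← hxs]
      rfl
    rw [← h2] at h1
    have := Submodule.smul_mem _ (↑hu.unit⁻¹ : A) h1
    rwa [smul_smul, IsUnit.val_inv_mul, one_smul] at this
  exact Module.Free.of_basis (Module.Basis.mk hli hspan)

/-- Splitting lemma: if `T` is free away from `f` via a family each of whose members lies in the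
image of `i` or is killed by the retraction `π`, then `Q` is free away from `f`. -/
theorem WFreeAway.of_retract {f : R} {T Q : Type*} [AddCommGroup T] [Module R T] [AddCommGroup Q]
    [Module R Q] {ι : Type*} (v : ι → T)
    (hv : ∀ l : ι →₀ R, Finsupp.linearCombination R v l = 0 → ∀ b, f * l b = 0)
    (hs : ∀ x : T, ∃ n : ℕ, f ^ n • x ∈ Submodule.span R (Set.range v))
    (i : Q →ₗ[R] T) (π : T →ₗ[R] Q) (hπi : ∀ q, π (i q) = q)
    (hcase : ∀ b, v b ∈ Set.range i ∨ π (v b) = 0) : WFreeAway R f Q := by
  classical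
  have hinj : Function.Injective i := fun a b hab => by rw [← hπi a, hab, hπi]
  set BQ : Set Q := {q | i q ∈ Set.range v} with hBQ
  have hch : ∀ q : BQ, ∃ b, v b = i q.1 := fun q => q.2
  choose j hj using hch
  have hjinj : Function.Injective j := by
    intro a b hab
    apply Subtype.ext
    apply hinj
    rw [← hj a, ← hj b, hab]
  refine ⟨BQ, ?_, ?_⟩
  · intro l hl q
    have h1 : Finsupp.linearCombination R v (l.mapDomain j) = 0 := by
      rw [Finsupp.linearCombination_mapDomain]
      have h2 : (v ∘ j) = i ∘ ((↑) : BQ → Q) := funext fun q => hj q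
      rw [h2, ← Finsupp.apply_linearCombination R i, hl, map_zero]
    have := hv _ h1 (j q)
    rwa [Finsupp.mapDomain_apply hjinj] at this
  · intro x
    obtain ⟨n, hn⟩ := hs (i x)
    refine ⟨n, ?_⟩
    have h1 : π (f ^ n • i x) ∈ (Submodule.span R (Set.range v)).map π :=
      Submodule.mem_map_of_mem hn
    rw [map_smul, hπi, Submodule.map_span] at h1
    refine (Submodule.span_le.mpr ?_) h1
    rintro _ ⟨_, ⟨b, rfl⟩, rfl⟩
    rcases hcase b with ⟨q, hq⟩ | h0
    · rw [← hq, hπi]
      exact Submodule.subset_span (show i q ∈ Set.range v from ⟨b, hq.symm⟩)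
    · rw [h0]; exact Submodule.zero_mem _

end wfreeAway

section module

open TrivSqZeroExt TensorProduct

variable {R : Type*} [CommRing R] [IsReduced R] {S : Type*} [CommRing S] [Algebra R S]
  {M : Type*} [AddCommGroup M] [Module S M] [Module R M] [IsScalarTower R S M]
  [Module Sᵐᵒᵖ M] [IsCentralScalar S M]

theorem exists_module_data_reduced {n r : ℕ} (φS : MvPolynomial (Fin n) R →ₐ[R] S)
    (hφS : Function.Surjective φS) (mgen : Fin r → M)
    (hgen : Submodule.span S (Set.range mgen) = ⊤) (h : R) (hh : h ≠ 0) :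
    ∃ f : R, f ≠ 0 ∧ h ∣ f ∧ WFreeAway R f S ∧ WFreeAway R f M ∧
      ∃ V : Finset (Fin r → S), (∀ a ∈ V, ∑ j, a j • mgen j = 0) ∧
        ∀ a : Fin r → S, ∑ j, a j • mgen j = 0 →
          ∃ k : ℕ, f ^ k • a ∈ Submodule.span S (V : Set (Fin r → S)) := by
  classical
  -- the universal and the actual trivial square zero extensions
  let π : (Fin r → S) →ₗ[S] M := Fintype.linearCombination S mgen
  have hπ : ∀ a, π a = ∑ j, a j • mgen j := fun a => Fintype.linearCombination_apply S mgen a
  have hπsurj : Function.Surjective π := by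
    rw [← LinearMap.range_eq_top, Fintype.range_linearCombination, hgen]
  let ρ : TrivSqZeroExt S (Fin r → S) →ₐ[S] TrivSqZeroExt S M := TrivSqZeroExt.map π
  let c₀ : R →+* TrivSqZeroExt S (Fin r → S) := (inlHom S (Fin r → S)).comp (algebraMap R S)
  let gens : Fin (n + r) → TrivSqZeroExt S (Fin r → S) :=
    Fin.addCases (fun i => inl (φS (X i))) (fun j => inr (Pi.single j 1))
  let φu : MvPolynomial (Fin (n + r)) R →+* TrivSqZeroExt S (Fin r → S) := eval₂Hom c₀ gens
  let φ' : MvPolynomial (Fin (n + r)) R →+* TrivSqZeroExt S M := (ρ : _ →+* _).comp φu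
  have hφuC : ∀ c : R, φu (C c) = inl (algebraMap R S c) := fun c => by
    simp [φu, c₀]
  have hφuXl : ∀ i : Fin n, φu (X (Fin.castAdd r i)) = inl (φS (X i)) := fun i => by
    simp [φu, gens]
  have hφuXr : ∀ j : Fin r, φu (X (Fin.natAdd n j)) = inr (Pi.single j 1) := fun j => by
    simp [φu, gens]
  have hlinu : ∀ (c : R) (p : MvPolynomial (Fin (n + r)) R), φu (c • p) = c • φu p := by
    intro c p
    rw [smul_eq_C_mul, map_mul, hφuC, inl_mul_eq_smul, tsze_algebraMap_smul]
  have hρlin : ∀ (c : R) (z : TrivSqZeroExt S (Fin r → S)), ρ (c • z) = c • ρ z := by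
    intro c z
    rw [← tsze_algebraMap_smul, map_smul, tsze_algebraMap_smul]
  have hlin' : ∀ (c : R) (p : MvPolynomial (Fin (n + r)) R), φ' (c • p) = c • φ' p := by
    intro c p
    change ρ (φu (c • p)) = c • ρ (φu p)
    rw [hlinu, hρlin]
  -- `φu` restricted to the first block of variables
  have h_inl : ∀ p : MvPolynomial (Fin n) R, φu (rename (Fin.castAdd r) p) = inl (φS p) := by
    intro p
    have : (φu.comp (rename (Fin.castAdd r) : MvPolynomial (Fin n) R →ₐ[R] _).toRingHom) =
        (inlHom S (Fin r → S)).comp φS.toRingHom := by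
      apply MvPolynomial.ringHom_ext
      · intro c
        simp only [RingHom.coe_comp, Function.comp_apply, AlgHom.toRingHom_eq_coe, RingHom.coe_coe,
          rename_C, hφuC, inlHom_apply]
        rw [← MvPolynomial.algebraMap_eq, AlgHom.commutes]
      · intro i
        simp only [RingHom.coe_comp, Function.comp_apply, AlgHom.toRingHom_eq_coe, RingHom.coe_coe,
          rename_X, hφuXl, inlHom_apply]
    exact congrArg (fun h => h p) this
  have hφusurj : Function.Surjective φu := by
    intro z
    obtain ⟨p, hp⟩ := hφS z.fst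
    choose q hq using fun j => hφS (z.snd j)
    refine ⟨rename (Fin.castAdd r) p + ∑ j, rename (Fin.castAdd r) (q j) * X (Fin.natAdd n j), ?_⟩
    rw [map_add, map_sum, h_inl, hp]
    have : ∀ j, φu (rename (Fin.castAdd r) (q j) * X (Fin.natAdd n j)) =
        inr (Pi.single j (z.snd j)) := by
      intro j
      rw [map_mul, h_inl, hφuXr, hq, inl_mul_inr]
      congr 1
      ext k
      simp [Pi.single_apply]
    simp_rw [this]
    rw [← inr_sum]
    apply TrivSqZeroExt.ext
    · simp
    · simp only [snd_add, snd_inl, snd_inr, zero_add]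
      ext k
      simp [Finset.sum_apply, Pi.single_apply]
  have hρsurj : Function.Surjective ρ := by
    intro z
    obtain ⟨a, ha⟩ := hπsurj z.snd
    refine ⟨inl z.fst + inr a, ?_⟩
    apply TrivSqZeroExt.ext
    · simp [ρ]
    · simp [ρ, ha]
  have hφ'surj : Function.Surjective φ' := hρsurj.comp hφusurj
  -- Gröbner data
  obtain ⟨f, G, hf, hdvd, hG0, hLI, hspan, hker⟩ :=
    exists_data_reduced (MonomialOrder.lex) φ' hlin' h hh
  -- each standard monomial lands in `inl S` or `inr M`
  have hcases : ∀ b : Fin (n + r) →₀ ℕ, (∃ s : S, φ' (monomial b 1) = inl s) ∨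
      (∃ x : M, φ' (monomial b 1) = inr x) := by
    intro b
    by_cases hj0 : ∃ j : Fin r, b (Fin.natAdd n j) ≠ 0
    · right
      obtain ⟨j, hj⟩ := hj0
      have hle : Finsupp.single (Fin.natAdd n j) 1 ≤ b := by
        rw [Finsupp.single_le_iff]
        exact Nat.one_le_iff_ne_zero.mpr hj
      have hb : b = Finsupp.single (Fin.natAdd n j) 1 + (b - Finsupp.single (Fin.natAdd n j) 1) :=
        (add_tsub_cancel_of_le hle).symm
      rw [hb, monomial_single_add, pow_one, map_mul]
      change ∃ x, ρ (φu (X (Fin.natAdd n j))) * _ = inr x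
      rw [hφuXr]
      simp only [ρ, map_inr]
      rw [tsze_inr_mul]
      exact ⟨_, rfl⟩
    · left
      push Not at hj0
      have hmem : φ' (monomial b 1) ∈ (inlHom S M).range := by
        rw [monomial_eq, map_mul, map_finsuppProd]
        refine Subring.mul_mem _ ?_ (Subring.prod_mem _ fun k _ => ?_)
        · rw [C_1, map_one]; exact Subring.one_mem _
        · change φ' (X k ^ b k) ∈ _
          refine Fin.addCases (fun i => ?_) (fun j => ?_) k
          · rw [map_pow]
            refine Subring.pow_mem _ ?_ _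
            refine ⟨φS (X i), ?_⟩
            change _ = ρ (φu (X (Fin.castAdd r i)))
            rw [hφuXl]
            simp [ρ, map_inl]
          · rw [hj0 j, pow_zero, map_one]
            exact Subring.one_mem _
      obtain ⟨s, hs⟩ := hmem
      exact ⟨s, hs.symm⟩
  have hsT : ∀ x : TrivSqZeroExt S M, ∃ k : ℕ, f ^ k • x ∈ Submodule.span R
      (Set.range fun b : Std MonomialOrder.lex (G : Set (MvPolynomial (Fin (n + r)) R)) =>
        φ' (monomial b.1 1)) := by
    intro x
    obtain ⟨p, rfl⟩ := hφ'surj x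
    exact hspan p
  -- linear maps in and out of the extension
  let iS : S →ₗ[R] TrivSqZeroExt S M :=
    { toFun := inl, map_add' := inl_add M, map_smul' := fun c s => inl_smul M c s }
  let pS : TrivSqZeroExt S M →ₗ[R] S :=
    { toFun := fst, map_add' := fst_add, map_smul' := fun c z => fst_smul c z }
  let iM : M →ₗ[R] TrivSqZeroExt S M :=
    { toFun := inr, map_add' := inr_add S, map_smul' := fun c x => inr_smul S c x }
  let pM : TrivSqZeroExt S M →ₗ[R] M :=
    { toFun := snd, map_add' := snd_add, map_smul' := fun c z => snd_smul c z }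
  have hFS : WFreeAway R f S := by
    refine WFreeAway.of_retract _ hLI hsT iS pS (fun s => fst_inl M s) fun b => ?_
    rcases hcases b.1 with ⟨s, hs⟩ | ⟨x, hx⟩
    · exact Or.inl ⟨s, hs.symm⟩
    · right
      change (φ' (monomial b.1 1)).fst = 0
      rw [hx, fst_inr]
  have hFM : WFreeAway R f M := by
    refine WFreeAway.of_retract _ hLI hsT iM pM (fun x => snd_inr S x) fun b => ?_
    rcases hcases b.1 with ⟨s, hs⟩ | ⟨x, hx⟩
    · right
      change (φ' (monomial b.1 1)).snd = 0
      rw [hs, snd_inl]
    · exact Or.inl ⟨x, hx.symm⟩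
  refine ⟨f, hf, hdvd, hFS, hFM, G.image (fun g => (φu g).snd), ?_, ?_⟩
  · intro a ha
    obtain ⟨g, hg, rfl⟩ := Finset.mem_image.mp ha
    have h0 : ρ (φu g) = 0 := hG0 g hg
    have := congrArg snd h0
    rw [snd_map, snd_zero, hπ] at this
    exact this
  · intro a ha
    obtain ⟨y, hy⟩ := hφusurj (inr a)
    have hy' : φ' y = 0 := by
      change ρ (φu y) = 0
      rw [hy]
      simp only [ρ, map_inr]
      rw [hπ, ha, inr_zero]
    obtain ⟨k, hk⟩ := hker y hy'
    refine ⟨k, ?_⟩
    -- the set of polynomials with `fst = 0` and `snd` in the span of `V`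
    have key : ∀ p ∈ Ideal.span (G : Set (MvPolynomial (Fin (n + r)) R)),
        (φu p).fst = 0 ∧ (φu p).snd ∈ Submodule.span S
          ((G.image (fun g => (φu g).snd) : Finset (Fin r → S)) : Set (Fin r → S)) := by
      intro p hp
      induction hp using Submodule.span_induction with
      | mem g hg =>
        refine ⟨?_, Submodule.subset_span (Finset.mem_coe.mpr (Finset.mem_image_of_mem _ hg))⟩
        have h0 : ρ (φu g) = 0 := hG0 g hg
        have := congrArg fst h0
        rwa [fst_map, fst_zero] at this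
      | zero => simp
      | add p q _ _ hp hq =>
        refine ⟨by rw [map_add, fst_add, hp.1, hq.1, add_zero], ?_⟩
        rw [map_add, snd_add]
        exact Submodule.add_mem _ hp.2 hq.2
      | smul q p _ hp =>
        rw [smul_eq_mul, map_mul]
        refine ⟨by rw [fst_mul, hp.1, mul_zero], ?_⟩
        rw [tsze_snd_mul, hp.1, zero_smul, add_zero]
        exact Submodule.smul_mem _ _ hp.2
    have := (key _ hk).2
    rwa [hlinu, snd_smul, hy, snd_inr] at this


end module

section wrap

/-- **Generic freeness over a reduced ring** (witness form): for a reduced ring `R`, a nonzero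
`h : R`, a finite type `R`-algebra `S` and a finite `S`-module `M` there is a nonzero multiple `f`
of `h` such that `S` and `M` are free away from `f`; moreover the kernel of a presentation of `S`
(resp. of `M`) is finitely generated up to powers of `f`. -/
theorem exists_freeAway_reduced (R : Type*) [CommRing R] [IsReduced R] (S : Type*) [CommRing S]
    [Algebra R S] [Algebra.FiniteType R S] (M : Type*) [AddCommGroup M] [Module S M] [Module R M]
    [IsScalarTower R S M] [Module.Finite S M] (h : R) (hh : h ≠ 0) :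
    ∃ f : R, f ≠ 0 ∧ h ∣ f ∧ WFreeAway R f S ∧ WFreeAway R f M ∧
      (∃ (n : ℕ) (φ : MvPolynomial (Fin n) R →ₐ[R] S) (G : Finset (MvPolynomial (Fin n) R)),
        Function.Surjective φ ∧ (∀ g ∈ G, φ g = 0) ∧
        ∀ p, φ p = 0 → ∃ k : ℕ, f ^ k • p ∈ Ideal.span (G : Set (MvPolynomial (Fin n) R))) ∧
      (∃ (r : ℕ) (mgen : Fin r → M) (V : Finset (Fin r → S)),
        Submodule.span S (Set.range mgen) = ⊤ ∧ (∀ a ∈ V, ∑ j, a j • mgen j = 0) ∧
        ∀ a : Fin r → S, ∑ j, a j • mgen j = 0 →
          ∃ k : ℕ, f ^ k • a ∈ Submodule.span S (V : Set (Fin r → S))) := by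
  classical
  letI : Module Sᵐᵒᵖ M := Module.compHom M ((RingHom.id S).fromOpposite fun _ _ => mul_comm _ _)
  haveI : IsCentralScalar S M := ⟨fun s m => rfl⟩
  obtain ⟨n, φ, hφ⟩ := Algebra.FiniteType.iff_quotient_mvPolynomial''.mp
    (inferInstance : Algebra.FiniteType R S)
  obtain ⟨r, mgen, hgen⟩ := Module.Finite.exists_fin (R := S) (M := M)
  obtain ⟨f₁, G, hf₁, hd₁, hG0, -, -, hker⟩ := exists_data_reduced (MonomialOrder.lex) φ.toRingHom
    (fun c p => map_smul φ c p) h hh
  obtain ⟨f₂, hf₂, ⟨c, rfl⟩, hS, hM, V, hV0, hV⟩ :=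
    exists_module_data_reduced φ hφ mgen hgen f₁ hf₁
  refine ⟨f₁ * c, hf₂, Dvd.dvd.mul_right hd₁ c, hS, hM,
    ⟨n, φ, G, hφ, hG0, fun p hp => ?_⟩, ⟨r, mgen, V, hgen, hV0, hV⟩⟩
  obtain ⟨k, hk⟩ := hker p hp
  refine ⟨k, ?_⟩
  rw [mul_pow, mul_comm, mul_smul]
  rw [smul_eq_C_mul (a := c ^ k)]
  exact Ideal.mul_mem_left _ _ hk

end wrap

end Groth.Agent.Lib.Helper3.GenFreeRed
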