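import Mathlib
import Groth.Agent.Lib.Helper4Unibranch
import Groth.Agent.Lib.Helper4BranchCount

set_option autoImplicit false
set_option linter.style.haveILetI false

namespace Groth.Agent.Lib.Helper3.RadUniA

universe u
open IsLocalRing Groth.Agent.Lib.Helper4.Unibranch Groth.Agent.Lib.Helper4.Branches

section RedMap

variable {B C : Type u} [CommRing B] [CommRing C] (φ : B →+* C)

/-- the map induced on reductions -/
noncomputable def redMap : CAlg2.red B →+* CAlg2.red C :=
  Ideal.quotientMap (nilradical C) φ (fun b hb => by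
    rw [Ideal.mem_comap]
    exact (mem_nilradical.mp hb).map φ)

theorem redMap_mk (b : B) :
    redMap φ (Ideal.Quotient.mk _ b) = Ideal.Quotient.mk _ (φ b) := rfl

theorem redMap_isIntegral (hφ : φ.IsIntegral) : (redMap φ).IsIntegral := by
  intro x
  obtain ⟨c, rfl⟩ := Ideal.Quotient.mk_surjective x
  obtain ⟨p, hp, hpc⟩ := hφ c
  refine ⟨p.map (Ideal.Quotient.mk (nilradical B)), hp.map _, ?_⟩
  rw [Polynomial.eval₂_map]
  have : (redMap φ).comp (Ideal.Quotient.mk (nilradical B)) =
      (Ideal.Quotient.mk (nilradical C)).comp φ := rfl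
  rw [this, ← Polynomial.hom_eval₂, hpc, map_zero]

end RedMap

section Core

variable {B C : Type u} [CommRing B] [CommRing C] (φ : B →+* C)
  [hdB : IsDomain (CAlg2.red B)] [hdC : IsDomain (CAlg2.red C)]
  (hint : φ.IsIntegral) (hinj : Function.Injective (redMap φ))
  (hbir : ∀ c : CAlg2.red C, ∃ b s : CAlg2.red B, s ≠ 0 ∧ redMap φ s * c = redMap φ b)

include hint hinj hbir in
/-- the normalizations of the reductions agree -/
theorem exists_normRed_equiv :
    ∃ Ψ : CAlg2.normRed B ≃+* CAlg2.normRed C,
      ∀ x : CAlg2.red B, Ψ (algebraMap (CAlg2.red B) (CAlg2.normRed B) x) =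
        algebraMap (CAlg2.red C) (CAlg2.normRed C) (redMap φ x) := by
  letI algRed : Algebra (CAlg2.red B) (CAlg2.red C) := (redMap φ).toAlgebra
  haveI : IsScalarTower (CAlg2.red B) (CAlg2.red C) (FractionRing (CAlg2.red C)) :=
    inferInstance
  have halg : ∀ x : CAlg2.red B, algebraMap (CAlg2.red B) (FractionRing (CAlg2.red C)) x =
      algebraMap (CAlg2.red C) (FractionRing (CAlg2.red C)) (redMap φ x) := fun x =>
    IsScalarTower.algebraMap_apply (CAlg2.red B) (CAlg2.red C) (FractionRing (CAlg2.red C)) x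
  haveI : Algebra.IsIntegral (CAlg2.red B) (CAlg2.red C) := ⟨redMap_isIntegral φ hint⟩
  haveI : IsFractionRing (CAlg2.red B) (FractionRing (CAlg2.red C)) := by
    have hinj' : Function.Injective (algebraMap (CAlg2.red B) (FractionRing (CAlg2.red C))) := by
      intro x y hxy
      rw [halg, halg] at hxy
      exact hinj (IsFractionRing.injective (CAlg2.red C) (FractionRing (CAlg2.red C)) hxy)
    refine ⟨?_, ?_, ?_⟩
    · rintro ⟨s, hs⟩
      have hs0 : s ≠ 0 := nonZeroDivisors.ne_zero hs
      exact isUnit_iff_ne_zero.mpr ((map_ne_zero_iff _ hinj').mpr hs0)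
    · intro z
      obtain ⟨c, c', hc', rfl⟩ := IsFractionRing.div_surjective (A := CAlg2.red C) z
      obtain ⟨b, s, hs, hbs⟩ := hbir c
      obtain ⟨b', s', hs', hbs'⟩ := hbir c'
      have hc'0 : c' ≠ 0 := nonZeroDivisors.ne_zero hc'
      have hb'0 : b' ≠ 0 := by
        rintro rfl
        rw [map_zero] at hbs'
        rcases mul_eq_zero.mp hbs' with h | h
        · exact hs' ((map_eq_zero_iff _ hinj).mp h)
        · exact hc'0 h
      refine ⟨(b * s', ⟨s * b', mem_nonZeroDivisors_of_ne_zero (mul_ne_zero hs hb'0)⟩), ?_⟩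
      have e1 : algebraMap (CAlg2.red B) (FractionRing (CAlg2.red C)) s *
          algebraMap (CAlg2.red C) (FractionRing (CAlg2.red C)) c =
          algebraMap (CAlg2.red B) (FractionRing (CAlg2.red C)) b := by
        rw [halg, halg, ← map_mul, hbs]
      have e2 : algebraMap (CAlg2.red B) (FractionRing (CAlg2.red C)) s' *
          algebraMap (CAlg2.red C) (FractionRing (CAlg2.red C)) c' =
          algebraMap (CAlg2.red B) (FractionRing (CAlg2.red C)) b' := by
        rw [halg, halg, ← map_mul, hbs']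
      have hc'K : algebraMap (CAlg2.red C) (FractionRing (CAlg2.red C)) c' ≠ 0 :=
        (map_ne_zero_iff _ (IsFractionRing.injective _ _)).mpr hc'0
      simp only [map_mul]
      rw [← e1, ← e2]
      field_simp
    · intro x y hxy
      exact ⟨1, by rw [hinj' hxy]⟩
  let Ψ₁ : CAlg2.normRed B ≃+* integralClosure (CAlg2.red B) (FractionRing (CAlg2.red C)) :=
    ((FractionRing.algEquiv (CAlg2.red B) (FractionRing (CAlg2.red C))).mapIntegralClosure : _ ≃+* _)
  have hΨ₁ : ∀ x : CAlg2.red B, Ψ₁ (algebraMap (CAlg2.red B) (CAlg2.normRed B) x) =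
      algebraMap (CAlg2.red B) (integralClosure (CAlg2.red B) (FractionRing (CAlg2.red C))) x :=
    fun x => ((FractionRing.algEquiv (CAlg2.red B) (FractionRing (CAlg2.red C))).mapIntegralClosure).commutes x
  have hcar : ∀ z : FractionRing (CAlg2.red C),
      z ∈ integralClosure (CAlg2.red B) (FractionRing (CAlg2.red C)) ↔
        z ∈ integralClosure (CAlg2.red C) (FractionRing (CAlg2.red C)) := by
    intro z
    constructor
    · intro hz
      exact IsIntegral.tower_top (A := CAlg2.red C) hz
    · intro hz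
      exact isIntegral_trans (R := CAlg2.red B) (A := CAlg2.red C) z hz
  let Ψ₂ : integralClosure (CAlg2.red B) (FractionRing (CAlg2.red C)) ≃+* CAlg2.normRed C :=
    { toFun := fun z => ⟨z.1, (hcar z.1).mp z.2⟩
      invFun := fun z => ⟨z.1, (hcar z.1).mpr z.2⟩
      left_inv := fun z => rfl
      right_inv := fun z => rfl
      map_mul' := fun _ _ => rfl
      map_add' := fun _ _ => rfl }
  refine ⟨Ψ₁.trans Ψ₂, fun x => ?_⟩
  rw [RingEquiv.trans_apply, hΨ₁]
  rfl

end Core

end Groth.Agent.Lib.Helper3.RadUniA
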