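import Mathlib
import Groth.Agent.Lib.Helper3RadUniA

set_option autoImplicit false
set_option linter.style.haveILetI false

namespace Groth.Agent.Lib.Helper3.RadUniB

universe u
open IsLocalRing Groth.Agent.Lib.Helper4.Unibranch Groth.Agent.Lib.Helper4.Branches
  Groth.Agent.Lib.Helper3.RadUniA

section General

variable (C : Type u) [CommRing C]

/-- the canonical map to the normalization of the reduction -/
noncomputable def cn : C →+* CAlg2.normRed C :=
  (algebraMap (CAlg2.red C) (CAlg2.normRed C)).comp (Ideal.Quotient.mk (nilradical C))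

theorem cn_isIntegral : (cn C).IsIntegral :=
  RingHom.IsIntegral.trans _ _ (RingHom.isIntegral_of_surjective _ Ideal.Quotient.mk_surjective)
    (algebraMap_isIntegral_iff.mpr inferInstance)

theorem ker_cn : RingHom.ker (cn C) = nilradical C := by
  ext c
  rw [RingHom.mem_ker]
  unfold cn
  rw [RingHom.comp_apply]
  have hinj : Function.Injective (algebraMap (CAlg2.red C) (CAlg2.normRed C)) := by
    intro x y hxy
    have := congrArg Subtype.val hxy
    exact IsFractionRing.injective (CAlg2.red C) (FractionRing (CAlg2.red C)) this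
  rw [map_eq_zero_iff _ hinj, Ideal.Quotient.eq_zero_iff_mem]

/-- maximal ideals of the normalization contract to maximal ideals -/
theorem isMaximal_comap_cn (M : Ideal (CAlg2.normRed C)) [M.IsMaximal] :
    (M.comap (cn C)).IsMaximal := by
  letI : Algebra C (CAlg2.normRed C) := (cn C).toAlgebra
  haveI : Algebra.IsIntegral C (CAlg2.normRed C) := ⟨cn_isIntegral C⟩
  exact Ideal.isMaximal_comap_of_isIntegral_of_isMaximal (R := C) M

/-- every maximal ideal is the contraction of a maximal ideal of the normalization -/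
theorem exists_isMaximal_comap_cn (n : Ideal C) [n.IsMaximal] :
    ∃ M : Ideal (CAlg2.normRed C), M.IsMaximal ∧ M.comap (cn C) = n := by
  letI : Algebra C (CAlg2.normRed C) := (cn C).toAlgebra
  haveI : Algebra.IsIntegral C (CAlg2.normRed C) := ⟨cn_isIntegral C⟩
  have hk : RingHom.ker (algebraMap C (CAlg2.normRed C)) ≤ n := by
    change RingHom.ker (cn C) ≤ n
    rw [ker_cn]
    exact nilradical_le_prime n
  exact Ideal.exists_ideal_over_maximal_of_isIntegral n hk

/-- if the normalization of the reduction is local, so is the ring -/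
theorem isLocalRing_of_isLocalRing_normRed [IsLocalRing (CAlg2.normRed C)] : IsLocalRing C := by
  haveI : Nontrivial C := by
    by_contra h
    rw [not_nontrivial_iff_subsingleton] at h
    have : (1 : CAlg2.normRed C) = 0 := by
      rw [← map_one (cn C), ← map_zero (cn C)]
      exact congrArg _ (Subsingleton.elim _ _)
    exact one_ne_zero this
  apply IsLocalRing.of_unique_max_ideal
  obtain ⟨n, hn⟩ := Ideal.exists_maximal C
  refine ⟨n, hn, fun n' hn' => ?_⟩
  obtain ⟨M, hM, hMn⟩ := exists_isMaximal_comap_cn C n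
  obtain ⟨M', hM', hMn'⟩ := exists_isMaximal_comap_cn C n'
  rw [← hMn, ← hMn', IsLocalRing.eq_maximalIdeal hM, IsLocalRing.eq_maximalIdeal hM']

end General

section PowMemTrans

variable {A : Type u} {C : Type u} [CommRing A] [CommRing C] (g : A →+* C)

theorem ringExpChar_eq_of_injective {F E : Type*} [Field F] [Field E] (ι : F →+* E) :
    ringExpChar E = ringExpChar F := by
  haveI := expChar_of_injective_ringHom ι.injective (ringExpChar F)
  exact ringExpChar.eq _ _

/-- transitivity of the residue field condition along the normalization -/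
theorem powMem_comp_iff :
    PowMem ((cn C).comp g) ↔ PowMem (cn C) ∧ PowMem g := by
  constructor
  · intro H
    refine ⟨fun M hM x => ?_, fun n hn x => ?_⟩
    · obtain ⟨k, a, ha⟩ := H M x
      exact ⟨k, g a, ha⟩
    · obtain ⟨M, hM, hMn⟩ := exists_isMaximal_comap_cn C n
      letI : Field (C ⧸ n) := Ideal.Quotient.field _
      letI : Field (CAlg2.normRed C ⧸ M) := Ideal.Quotient.field _
      let ι : C ⧸ n →+* CAlg2.normRed C ⧸ M := Ideal.quotientMap M (cn C) (by rw [hMn])
      have hq : ringExpChar (CAlg2.normRed C ⧸ M) = ringExpChar (C ⧸ n) :=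
        ringExpChar_eq_of_injective ι
      obtain ⟨k, a, ha⟩ := H M (ι x)
      refine ⟨k, a, ?_⟩
      apply ι.injective
      rw [map_pow, ← hq, ← ha]
      rfl
  · rintro ⟨H₂, H₁⟩ M hM x
    haveI hn : (M.comap (cn C)).IsMaximal := isMaximal_comap_cn C M
    letI : Field (C ⧸ M.comap (cn C)) := Ideal.Quotient.field _
    letI : Field (CAlg2.normRed C ⧸ M) := Ideal.Quotient.field _
    let ι : C ⧸ M.comap (cn C) →+* CAlg2.normRed C ⧸ M := Ideal.quotientMap M (cn C) le_rfl
    have hq : ringExpChar (CAlg2.normRed C ⧸ M) = ringExpChar (C ⧸ M.comap (cn C)) :=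
      ringExpChar_eq_of_injective ι
    obtain ⟨k, c, hc⟩ := H₂ M x
    obtain ⟨l, a, ha⟩ := H₁ (M.comap (cn C)) (Ideal.Quotient.mk _ c)
    refine ⟨k + l, a, ?_⟩
    have h1 : ι (Ideal.Quotient.mk _ c) = ((Ideal.Quotient.mk M).comp (cn C)) c := rfl
    have h2 : ι (((Ideal.Quotient.mk (M.comap (cn C))).comp g) a) =
        ((Ideal.Quotient.mk M).comp ((cn C).comp g)) a := rfl
    rw [← h2, ha, map_pow, h1, hc, ← hq, ← pow_mul, ← pow_add]

end PowMemTrans


section MinPrimes

variable {R : Type u} [CommRing R]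

theorem nilradical_eq_of_forall_minimalPrimes (p₀ : Ideal R) [hp₀ : p₀.IsPrime]
    (h : ∀ p ∈ minimalPrimes R, p = p₀) : nilradical R = p₀ := by
  apply le_antisymm (nilradical_le_prime p₀)
  rw [nilradical_eq_sInf]
  apply le_sInf
  intro P hP
  haveI : P.IsPrime := hP
  obtain ⟨p, hp, hpP⟩ := Ideal.exists_minimalPrimes_le (I := (⊥ : Ideal R)) (J := P) bot_le
  rw [← h p hp]
  exact hpP

theorem eq_nilradical_of_mem_minimalPrimes [hn : (nilradical R).IsPrime] (p : Ideal R)
    (hp : p ∈ minimalPrimes R) : p = nilradical R := by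
  haveI : p.IsPrime := hp.1.1
  apply le_antisymm _ (nilradical_le_prime p)
  exact hp.2 ⟨hn, bot_le⟩ (nilradical_le_prime p)

theorem nilradical_mem_minimalPrimes [hn : (nilradical R).IsPrime] :
    nilradical R ∈ minimalPrimes R := by
  refine ⟨⟨hn, bot_le⟩, fun q hq _ => ?_⟩
  haveI : q.IsPrime := hq.1
  exact nilradical_le_prime q

end MinPrimes

section Main

variable {B C : Type u} [CommRing B] [CommRing C] [IsLocalRing B] (φ : B →+* C)

theorem gu_source_iff [IsDomain (CAlg2.red B)] [IsDomain (CAlg2.red C)] (hint : φ.IsIntegral)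
    (hinj : Function.Injective (redMap φ))
    (hbir : ∀ c : CAlg2.red C, ∃ b s : CAlg2.red B, s ≠ 0 ∧ redMap φ s * c = redMap φ b) :
    CAlg2.IsGeomUnibranch B ↔ IsLocalRing (CAlg2.normRed C) ∧ PowMem ((cn C).comp φ) := by
  obtain ⟨Ψ, hΨ⟩ := exists_normRed_equiv φ hint hinj hbir
  rw [isGeomUnibranch_iff_of_ringEquiv B Ψ ((cn C).comp φ) (fun a => by rw [hΨ]; rfl)]
  exact ⟨fun h => h.2, fun h => ⟨inferInstance, h⟩⟩

theorem gu_target_iff [IsLocalRing C] [IsDomain (CAlg2.red C)] :
    CAlg2.IsGeomUnibranch C ↔ IsLocalRing (CAlg2.normRed C) ∧ PowMem (cn C) := by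
  rw [isGeomUnibranch_iff_of_ringEquiv C (RingEquiv.refl _) (cn C) (fun a => rfl)]
  exact ⟨fun h => h.2, fun h => ⟨inferInstance, h⟩⟩

/-- the core comparison -/
theorem gu_iff_of_birational [IsDomain (CAlg2.red B)] [IsDomain (CAlg2.red C)]
    (hint : φ.IsIntegral) (hinj : Function.Injective (redMap φ))
    (hbir : ∀ c : CAlg2.red C, ∃ b s : CAlg2.red B, s ≠ 0 ∧ redMap φ s * c = redMap φ b) :
    CAlg2.IsGeomUnibranch B ↔
      ∃ h : IsLocalRing C, @CAlg2.IsGeomUnibranch C _ h ∧ PowMem φ := by
  rw [gu_source_iff φ hint hinj hbir]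
  constructor
  · rintro ⟨hl, hp⟩
    haveI := hl
    haveI hC : IsLocalRing C := isLocalRing_of_isLocalRing_normRed C
    obtain ⟨hp1, hp2⟩ := (powMem_comp_iff φ).mp hp
    exact ⟨hC, (gu_target_iff (C := C)).mpr ⟨hl, hp1⟩, hp2⟩
  · rintro ⟨hC, hgu, hp2⟩
    haveI := hC
    obtain ⟨hl, hp1⟩ := (gu_target_iff (C := C)).mp hgu
    exact ⟨hl, (powMem_comp_iff φ).mpr ⟨hp1, hp2⟩⟩

end Main

end Groth.Agent.Lib.Helper3.RadUniB
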