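import Mathlib
import Groth.Agent.Lib.Helper3RadUniB
import Groth.Agent.Lib.Helper20ResMap

set_option autoImplicit false
set_option linter.style.haveILetI false

namespace Groth.Agent.Lib.Helper3.RadUniC

universe u
open IsLocalRing Groth.Agent.Lib.Helper4.Unibranch Groth.Agent.Lib.Helper4.Branches
  Groth.Agent.Lib.Helper3.RadUniA Groth.Agent.Lib.Helper3.RadUniB

section Setup

variable {B C : Type u} [CommRing B] [CommRing C] (φ : B →+* C)

/-- ring-level form of "the reduction of `Spec φ` is birational" -/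
structure RB : Prop where
  h1 : ∀ q ∈ minimalPrimes C, q.comap φ ∈ minimalPrimes B
  h2 : ∀ p ∈ minimalPrimes B, ∃ q : Ideal C, q.IsPrime ∧ q.comap φ = p ∧
    ∀ q' : Ideal C, q'.IsPrime → q'.comap φ = p → q' = q
  h3 : ∀ (q : Ideal C) [q.IsPrime], q ∈ minimalPrimes C →
    Function.Surjective (Ideal.ResidueField.map (q.comap φ) q φ rfl)

variable {φ}

theorem RB.setup_of_source (h : RB φ) [hB : (nilradical B).IsPrime] :
    (nilradical C).IsPrime ∧ (nilradical C).comap φ = nilradical B := by
  obtain ⟨q₀, hq₀, hq₀p, huniq⟩ := h.h2 _ (nilradical_mem_minimalPrimes (R := B))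
  haveI := hq₀
  have hmin : ∀ q ∈ minimalPrimes C, q = q₀ := by
    intro q hq
    haveI : q.IsPrime := hq.1.1
    exact huniq q hq.1.1 (eq_nilradical_of_mem_minimalPrimes _ (h.h1 q hq))
  have hnil : nilradical C = q₀ := nilradical_eq_of_forall_minimalPrimes q₀ hmin
  rw [hnil]
  exact ⟨hq₀, hq₀p⟩

theorem RB.setup_of_target (h : RB φ) [hC : (nilradical C).IsPrime] :
    (nilradical B).IsPrime ∧ (nilradical C).comap φ = nilradical B := by
  have hp₀ := h.h1 _ (nilradical_mem_minimalPrimes (R := C))
  haveI hp₀' : ((nilradical C).comap φ).IsPrime := hp₀.1.1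
  have hmin : ∀ p ∈ minimalPrimes B, p = (nilradical C).comap φ := by
    intro p hp
    obtain ⟨q, hq, hqp, -⟩ := h.h2 p hp
    haveI := hq
    have hle : (nilradical C).comap φ ≤ p := by
      rw [← hqp]
      exact Ideal.comap_mono (nilradical_le_prime q)
    exact le_antisymm (hp.2 ⟨hp₀', bot_le⟩ hle) hle
  have hnil : nilradical B = (nilradical C).comap φ :=
    nilradical_eq_of_forall_minimalPrimes _ hmin
  rw [hnil]
  exact ⟨hp₀', rfl⟩

theorem injective_redMap (hcomap : (nilradical C).comap φ = nilradical B) :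
    Function.Injective (redMap φ) := by
  rw [injective_iff_map_eq_zero]
  intro x hx
  obtain ⟨b, rfl⟩ := Ideal.Quotient.mk_surjective x
  rw [redMap_mk, Ideal.Quotient.eq_zero_iff_mem] at hx
  rw [Ideal.Quotient.eq_zero_iff_mem, ← hcomap]
  exact hx

theorem RB.hbir (h : RB φ) [hC : (nilradical C).IsPrime]
    (hcomap : (nilradical C).comap φ = nilradical B) :
    ∀ c : CAlg2.red C, ∃ b s : CAlg2.red B, s ≠ 0 ∧ redMap φ s * c = redMap φ b := by
  intro c
  obtain ⟨c₀, rfl⟩ := Ideal.Quotient.mk_surjective c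
  obtain ⟨z, hz⟩ := h.h3 (nilradical C) (nilradical_mem_minimalPrimes (R := C))
    (algebraMap C (nilradical C).ResidueField c₀)
  obtain ⟨⟨bq, sq⟩, hbs⟩ := IsLocalization.surj
    (nonZeroDivisors (B ⧸ (nilradical C).comap φ)) z
  obtain ⟨b, rfl⟩ := Ideal.Quotient.mk_surjective bq
  obtain ⟨s, hs⟩ := Ideal.Quotient.mk_surjective sq.1
  have hs0 : s ∉ (nilradical C).comap φ := by
    intro hmem
    have : sq.1 = 0 := by rw [← hs]; exact Ideal.Quotient.eq_zero_iff_mem.mpr hmem
    exact nonZeroDivisors.ne_zero sq.2 this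
  have hbs' : z * algebraMap B ((nilradical C).comap φ).ResidueField s =
      algebraMap B ((nilradical C).comap φ).ResidueField b := by
    have := hbs
    simp only at this
    rw [← hs] at this
    exact this
  have h2 := congrArg (Ideal.ResidueField.map ((nilradical C).comap φ) (nilradical C) φ rfl) hbs'
  rw [map_mul, hz, Ideal.ResidueField.map_algebraMap, Ideal.ResidueField.map_algebraMap,
    ← map_mul, ← sub_eq_zero, ← map_sub, Ideal.algebraMap_residueField_eq_zero] at h2
  refine ⟨Ideal.Quotient.mk _ b, Ideal.Quotient.mk _ s, ?_, ?_⟩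
  · rw [Ne, Ideal.Quotient.eq_zero_iff_mem, ← hcomap]
    exact hs0
  · rw [redMap_mk, redMap_mk, ← map_mul, Ideal.Quotient.eq, mul_comm]
    exact h2

end Setup


section PI

variable {B C : Type u} [CommRing B] [CommRing C] (φ : B →+* C)

/-- elementwise form of pure inseparability of the residue field map at maximal ideals -/
theorem isPurelyInseparable_map_iff (m : Ideal B) [hm : m.IsMaximal] (n : Ideal C)
    [hn : n.IsMaximal] (hmn : m = n.comap φ) :
    (Ideal.ResidueField.map m n φ hmn).IsPurelyInseparable ↔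
      ∀ x : C ⧸ n, ∃ k : ℕ, x ^ (ringExpChar (C ⧸ n)) ^ k ∈
        ((Ideal.Quotient.mk n).comp φ).range := by
  letI : Field (C ⧸ n) := Ideal.Quotient.field n
  letI : Field (B ⧸ m) := Ideal.Quotient.field m
  have hαB := Ideal.bijective_algebraMap_quotient_residueField m
  have hαC := Ideal.bijective_algebraMap_quotient_residueField n
  have hq1 : ringExpChar n.ResidueField = ringExpChar (C ⧸ n) :=
    ringExpChar_eq_of_injective (algebraMap (C ⧸ n) n.ResidueField)
  have hq2 : ringExpChar n.ResidueField = ringExpChar m.ResidueField :=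
    ringExpChar_eq_of_injective (Ideal.ResidueField.map m n φ hmn)
  have hq : ringExpChar m.ResidueField = ringExpChar (C ⧸ n) := hq2.symm.trans hq1
  have hρ : ∀ b : B, Ideal.ResidueField.map m n φ hmn (algebraMap (B ⧸ m) m.ResidueField
      (Ideal.Quotient.mk m b)) = algebraMap (C ⧸ n) n.ResidueField (Ideal.Quotient.mk n (φ b)) := by
    intro b
    rw [Ideal.algebraMap_quotient_residueField_mk, Ideal.algebraMap_quotient_residueField_mk,
      Ideal.ResidueField.map_algebraMap]
  have key : (Ideal.ResidueField.map m n φ hmn).IsPurelyInseparable ↔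
      Groth.Agent.Lib.Helper20.ResFld.PInsep (Ideal.ResidueField.map m n φ hmn) :=
    (Groth.Agent.Lib.Helper20.ResFld.pInsep_iff _).symm
  rw [key]
  constructor
  · intro H x
    obtain ⟨k, z, hz⟩ := H (algebraMap (C ⧸ n) n.ResidueField x)
    obtain ⟨w, rfl⟩ := hαB.2 z
    obtain ⟨b, rfl⟩ := Ideal.Quotient.mk_surjective w
    refine ⟨k, b, ?_⟩
    apply hαC.1
    rw [hρ, hq] at hz
    rw [map_pow, ← hz]
    rfl
  · intro H y
    obtain ⟨x, rfl⟩ := hαC.2 y
    obtain ⟨k, b, hb⟩ := H x
    refine ⟨k, algebraMap (B ⧸ m) m.ResidueField (Ideal.Quotient.mk m b), ?_⟩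
    rw [hρ, hq, ← map_pow, ← hb]
    rfl

end PI

section MainRing

variable {B C : Type u} [CommRing B] [CommRing C] [IsLocalRing B] (φ : B →+* C)

/-- geometric unibranchness through the localization at the maximal ideal -/
theorem gu_localization_iff [hC : IsLocalRing C] :
    CAlg2.IsGeomUnibranch (Localization.AtPrime (maximalIdeal C)) ↔ CAlg2.IsGeomUnibranch C := by
  have H : (maximalIdeal C).primeCompl ≤ IsUnit.submonoid C := by
    intro x hx
    exact (IsLocalRing.notMem_maximalIdeal.mp hx)
  let e : C ≃+* Localization.AtPrime (maximalIdeal C) :=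
    (IsLocalization.atUnits C (maximalIdeal C).primeCompl (S := Localization.AtPrime (maximalIdeal C))
      H).toRingEquiv
  exact ⟨fun h => isGeomUnibranch_of_ringEquiv e.symm h, fun h => isGeomUnibranch_of_ringEquiv e h⟩

theorem main_ring (hint : φ.IsIntegral) (hRB : RB φ) :
    CAlg2.IsGeomUnibranch B ↔
      (∀ n n' : Ideal C, n.IsPrime → n'.IsPrime → maximalIdeal B = n.comap φ →
        maximalIdeal B = n'.comap φ → n = n') ∧
      ∀ (n : Ideal C) [n.IsPrime] (hn : maximalIdeal B = n.comap φ),
        (Ideal.ResidueField.map (maximalIdeal B) n φ hn).IsPurelyInseparable ∧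
          CAlg2.IsGeomUnibranch (Localization.AtPrime n) := by
  letI : Algebra B C := φ.toAlgebra
  haveI : Algebra.IsIntegral B C := ⟨hint⟩
  have hmax_of_over : ∀ n : Ideal C, n.IsPrime → maximalIdeal B = n.comap φ → n.IsMaximal := by
    intro n hn hcm
    haveI := hn
    apply Ideal.isMaximal_of_isIntegral_of_isMaximal_comap (R := B) n
    change (n.comap φ).IsMaximal
    rw [← hcm]
    exact IsLocalRing.maximalIdeal.isMaximal B
  have hover_of_max : ∀ n : Ideal C, n.IsMaximal → maximalIdeal B = n.comap φ := by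
    intro n hn
    haveI := hn
    have : (n.comap (algebraMap B C)).IsMaximal :=
      Ideal.isMaximal_comap_of_isIntegral_of_isMaximal (R := B) n
    exact (IsLocalRing.eq_maximalIdeal this).symm
  constructor
  · intro hgu
    haveI hdB : IsDomain (CAlg2.red B) := hgu.1.1
    haveI hpB : (nilradical B).IsPrime := (Ideal.Quotient.isDomain_iff_prime _).mp hdB
    obtain ⟨hpC, hcomap⟩ := hRB.setup_of_source
    haveI := hpC
    haveI hdC : IsDomain (CAlg2.red C) := (Ideal.Quotient.isDomain_iff_prime _).mpr hpC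
    obtain ⟨hC, hguC, hpm⟩ := (gu_iff_of_birational φ hint (injective_redMap hcomap)
      (hRB.hbir hcomap)).mp hgu
    haveI := hC
    have heq : ∀ n : Ideal C, n.IsPrime → maximalIdeal B = n.comap φ → n = maximalIdeal C :=
      fun n hn hcm => IsLocalRing.eq_maximalIdeal (hmax_of_over n hn hcm)
    refine ⟨fun n n' hn hn' h h' => (heq n hn h).trans (heq n' hn' h').symm, ?_⟩
    intro n hn hcm
    obtain rfl := heq n hn hcm
    refine ⟨?_, gu_localization_iff.mpr hguC⟩
    rw [isPurelyInseparable_map_iff φ (maximalIdeal B) (maximalIdeal C) hcm]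
    exact fun x => hpm (maximalIdeal C) x
  · rintro ⟨huniq, hall⟩
    haveI : Nontrivial C := by
      obtain ⟨p, hp, -⟩ := Ideal.exists_minimalPrimes_le (I := (⊥ : Ideal B))
        (J := maximalIdeal B) bot_le
      obtain ⟨q, hq, -, -⟩ := hRB.h2 p hp
      by_contra hnt
      rw [not_nontrivial_iff_subsingleton] at hnt
      apply hq.ne_top
      rw [Ideal.eq_top_iff_one, Subsingleton.elim (1 : C) 0]
      exact q.zero_mem
    haveI hC : IsLocalRing C := by
      apply IsLocalRing.of_unique_max_ideal
      obtain ⟨n, hn⟩ := Ideal.exists_maximal C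
      refine ⟨n, hn, fun n' hn' => ?_⟩
      exact huniq n' n hn'.isPrime hn.isPrime (hover_of_max n' hn') (hover_of_max n hn)
    have hcm := hover_of_max (maximalIdeal C) (IsLocalRing.maximalIdeal.isMaximal C)
    obtain ⟨hpi, hguCn⟩ := hall (maximalIdeal C) hcm
    have hguC : CAlg2.IsGeomUnibranch C := gu_localization_iff.mp hguCn
    haveI hdC : IsDomain (CAlg2.red C) := hguC.1.1
    haveI hpC : (nilradical C).IsPrime := (Ideal.Quotient.isDomain_iff_prime _).mp hdC
    obtain ⟨hpB, hcomap⟩ := hRB.setup_of_target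
    haveI := hpB
    haveI hdB : IsDomain (CAlg2.red B) := (Ideal.Quotient.isDomain_iff_prime _).mpr hpB
    apply (gu_iff_of_birational φ hint (injective_redMap hcomap) (hRB.hbir hcomap)).mpr
    refine ⟨hC, hguC, ?_⟩
    intro M hM x
    obtain rfl := IsLocalRing.eq_maximalIdeal hM
    rw [isPurelyInseparable_map_iff φ (maximalIdeal B) (maximalIdeal C) hcm] at hpi
    exact hpi x

end MainRing

end Groth.Agent.Lib.Helper3.RadUniC
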