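import Mathlib
import Groth.Agent.Lib.Helper3RadUniC
import Groth.Agent.Lib.Helper20Birat
import Groth.Agent.Lib.Helper20EtaPtSN

set_option autoImplicit false
set_option linter.style.haveILetI false

namespace Groth.Agent.Lib.Helper3.RadUniD

universe u
open AlgebraicGeometry CategoryTheory IsLocalRing
open Groth.Agent.Lib.Helper4.Unibranch Groth.Agent.Lib.Helper3.RadUniC

section GenericPoints

theorem mem_genericPoints_spec_iff (R : CommRingCat.{u}) (x : Spec R) :
    x ∈ genericPoints (Spec R) ↔ x.asIdeal ∈ minimalPrimes R := by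
  rw [Groth.Agent.Lib.Helper20.Birat.mem_genericPoints_iff]
  constructor
  · intro h
    refine ⟨⟨x.isPrime, bot_le⟩, fun q hq hle => ?_⟩
    have hz : (⟨q, hq.1⟩ : PrimeSpectrum R) ⤳ x := (PrimeSpectrum.le_iff_specializes _ _).mp hle
    have := h ⟨q, hq.1⟩ hz
    rw [← this]
  · intro h z hz
    have hle : z.asIdeal ≤ x.asIdeal := (PrimeSpectrum.le_iff_specializes z x).mpr hz
    have hge : x.asIdeal ≤ z.asIdeal := h.2 ⟨z.isPrime, bot_le⟩ hle
    exact PrimeSpectrum.ext (le_antisymm hle hge)

end GenericPoints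

section Translate

variable {B C : CommRingCat.{u}} (φ : B ⟶ C)

theorem specMap_asIdeal (x : Spec C) : ((Spec.map φ) x).asIdeal = x.asIdeal.comap φ.hom := rfl

theorem rb_of_isBirational (hf : RadPt.IsBirational (Spec.map φ)) : RB φ.hom := by
  obtain ⟨hbij, hpt⟩ := hf
  refine ⟨?_, ?_, ?_⟩
  · intro q hq
    haveI : q.IsPrime := hq.1.1
    have hx : (⟨q, hq.1.1⟩ : Spec C) ∈ genericPoints (Spec C) :=
      (mem_genericPoints_spec_iff C _).mpr hq
    have := hbij.mapsTo hx
    rw [mem_genericPoints_spec_iff] at this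
    exact this
  · intro p hp
    haveI : p.IsPrime := hp.1.1
    have hy : (⟨p, hp.1.1⟩ : Spec B) ∈ genericPoints (Spec B) :=
      (mem_genericPoints_spec_iff B _).mpr hp
    obtain ⟨x, -, hxy⟩ := hbij.surjOn hy
    refine ⟨x.asIdeal, x.isPrime, congrArg PrimeSpectrum.asIdeal hxy, fun q' hq' hq'p => ?_⟩
    have := (hpt _ hy).1 ⟨q', hq'⟩ x (PrimeSpectrum.ext hq'p) hxy
    exact congrArg PrimeSpectrum.asIdeal this
  · intro q hqp hq
    have hx : (⟨q, hqp⟩ : Spec C) ∈ genericPoints (Spec C) :=
      (mem_genericPoints_spec_iff C _).mpr hq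
    have hy := hbij.mapsTo hx
    have hb := (hpt _ hy).2 ⟨q, hqp⟩ rfl
    have hiso : IsIso ((Spec.map φ).residueFieldMap ⟨q, hqp⟩) :=
      (ConcreteCategory.isIso_iff_bijective _).mpr hb
    exact ((Groth.Agent.Lib.Helper20.EtaPt.isIso_residueFieldMap_iff φ ⟨q, hqp⟩).mp hiso).2

end Translate


section Radicial

variable {B C : CommRingCat.{u}} (φ : B ⟶ C)

theorem isPurelyInseparable_of_bijective {F E : Type*} [Field F] [Field E] (a : F →+* E)
    (ha : Function.Bijective a) : a.IsPurelyInseparable :=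
  Groth.Agent.Lib.Helper20.Birat.isPurelyInseparable_of_surjective a ha.2

/-- transfer of pure inseparability along the identification of residue fields -/
theorem isPurelyInseparable_residueFieldMap_iff (x : Spec C) :
    ((Spec.map φ).residueFieldMap x).hom.IsPurelyInseparable ↔
      (Ideal.ResidueField.map (x.asIdeal.comap φ.hom) x.asIdeal φ.hom rfl).IsPurelyInseparable := by
  have key := Groth.Agent.Lib.Helper20.EtaPt.residueFieldMap_Spec φ x
  have key' : ((Spec.map φ).residueFieldMap x).hom.comp
      (Scheme.Spec.residueFieldIso B (PrimeSpectrum.comap φ.hom x)).inv.hom =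
      (Scheme.Spec.residueFieldIso C x).inv.hom.comp
        (Ideal.ResidueField.map (x.asIdeal.comap φ.hom) x.asIdeal φ.hom rfl) :=
    congrArg CommRingCat.Hom.hom key
  have ha : (Scheme.Spec.residueFieldIso B (PrimeSpectrum.comap φ.hom x)).inv.hom.IsPurelyInseparable :=
    isPurelyInseparable_of_bijective _ (ConcreteCategory.bijective_of_isIso
      (Scheme.Spec.residueFieldIso B (PrimeSpectrum.comap φ.hom x)).inv)
  have hb : (Scheme.Spec.residueFieldIso C x).inv.hom.IsPurelyInseparable :=
    isPurelyInseparable_of_bijective _ (ConcreteCategory.bijective_of_isIso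
      (Scheme.Spec.residueFieldIso C x).inv)
  constructor
  · intro hg
    have h1 := RingHom.IsPurelyInseparable.comp ha hg
    have h2 := (congrArg RingHom.IsPurelyInseparable key').mp h1
    exact Groth.Agent.S5863.pi_tower_bot _ _ h2
  · intro hg'
    have h1 := RingHom.IsPurelyInseparable.comp hg' hb
    have h2 := (congrArg RingHom.IsPurelyInseparable key').mpr h1
    exact Groth.Agent.S5863.pi_tower_top _ _ h2

theorem map_congr_pi {B C : Type u} [CommRing B] [CommRing C] (f : B →+* C) (n : Ideal C)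
    [n.IsPrime] (m : Ideal B) [m.IsPrime] (hm : m = n.comap f) :
    (Ideal.ResidueField.map m n f hm).IsPurelyInseparable ↔
      (Ideal.ResidueField.map (n.comap f) n f rfl).IsPurelyInseparable := by
  subst hm
  rfl

theorem specMap_eq_closedPoint_iff [IsLocalRing B] (x : Spec C) :
    (Spec.map φ) x = IsLocalRing.closedPoint B ↔ maximalIdeal B = x.asIdeal.comap φ.hom := by
  constructor
  · intro h
    have := congrArg PrimeSpectrum.asIdeal h
    exact this.symm
  · intro h
    exact PrimeSpectrum.ext h.symm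

/-- the statement for `Spec` of an integral ring map out of a local ring -/
theorem main_spec [IsLocalRing B] (hint : φ.hom.IsIntegral)
    (hf : RadPt.IsBirational (Spec.map φ)) :
    CAlg2.IsGeomUnibranch B ↔
      RadPt.IsRadicialAt (Spec.map φ) (IsLocalRing.closedPoint B) ∧
        ∀ x : Spec C, (Spec.map φ) x = IsLocalRing.closedPoint B →
          CAlg2.IsGeomUnibranch ((Spec C).presheaf.stalk x) := by
  rw [main_ring φ.hom hint (rb_of_isBirational φ hf)]
  constructor
  · rintro ⟨huniq, hall⟩
    refine ⟨⟨fun x x' hx hx' => ?_, fun x hx => ?_⟩, fun x hx => ?_⟩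
    · rw [specMap_eq_closedPoint_iff] at hx hx'
      exact PrimeSpectrum.ext (huniq x.asIdeal x'.asIdeal x.isPrime x'.isPrime hx hx')
    · rw [specMap_eq_closedPoint_iff] at hx
      haveI := x.isPrime
      rw [isPurelyInseparable_residueFieldMap_iff, ← map_congr_pi φ.hom x.asIdeal (maximalIdeal B) hx]
      exact (hall x.asIdeal hx).1
    · rw [specMap_eq_closedPoint_iff] at hx
      haveI := x.isPrime
      exact isGeomUnibranch_of_ringEquiv
        (Spec.stalkIso C x).commRingCatIsoToRingEquiv.symm (hall x.asIdeal hx).2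
  · rintro ⟨⟨hinj, hpi⟩, hgu⟩
    refine ⟨fun n n' hn hn' h h' => ?_, fun n hn h => ⟨?_, ?_⟩⟩
    · have := hinj ⟨n, hn⟩ ⟨n', hn'⟩ ((specMap_eq_closedPoint_iff φ _).mpr h)
        ((specMap_eq_closedPoint_iff φ _).mpr h')
      exact congrArg PrimeSpectrum.asIdeal this
    · have := hpi ⟨n, hn⟩ ((specMap_eq_closedPoint_iff φ _).mpr h)
      rw [isPurelyInseparable_residueFieldMap_iff] at this
      exact (map_congr_pi φ.hom n (maximalIdeal B) h).mpr this
    · have := hgu ⟨n, hn⟩ ((specMap_eq_closedPoint_iff φ _).mpr h)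
      exact isGeomUnibranch_of_ringEquiv
        (Spec.stalkIso C ⟨n, hn⟩).commRingCatIsoToRingEquiv this

end Radicial

end Groth.Agent.Lib.Helper3.RadUniD
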