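import Mathlib
import Groth.Agent.Lib.Helper3RadUniD
import Groth.Agent.Lib.Helper3MinLoc

set_option autoImplicit false
set_option linter.style.haveILetI false

namespace Groth.Agent.Lib.Helper3.GUConsA

universe u
open IsLocalRing Groth.Agent.Lib.Helper4.Unibranch
  Groth.Agent.Lib.Helper3.RadUniA Groth.Agent.Lib.Helper3.RadUniB Groth.Agent.Lib.Helper3.RadUniC

section RBcn

variable (A : Type u) [CommRing A]

/-- the fraction ring of the reduction is a localization of the normalization -/
theorem isLocalization_normRed :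
    IsLocalization ((nonZeroDivisors (CAlg2.red A)).map (algebraMap (CAlg2.red A) (CAlg2.normRed A)))
      (FractionRing (CAlg2.red A)) := by
  refine ⟨?_, ?_, ?_⟩
  · rintro ⟨y, s, hs, rfl⟩
    exact IsLocalization.map_units (FractionRing (CAlg2.red A)) ⟨s, hs⟩
  · intro z
    obtain ⟨⟨r, s⟩, h⟩ := IsLocalization.surj (nonZeroDivisors (CAlg2.red A)) z
    exact ⟨⟨algebraMap _ _ r, ⟨algebraMap _ _ s.1, Submonoid.mem_map_of_mem _ s.2⟩⟩, h⟩
  · intro x y hxy
    exact ⟨1, by rw [Subtype.ext hxy]⟩

theorem injective_algebraMap_red_normRed :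
    Function.Injective (algebraMap (CAlg2.red A) (CAlg2.normRed A)) := by
  intro x y hxy
  have := congrArg Subtype.val hxy
  exact IsFractionRing.injective (CAlg2.red A) (FractionRing (CAlg2.red A)) this

/-- minimal primes of the normalization correspond to minimal primes of the reduction -/
theorem bijOn_red_normRed :
    Set.BijOn (Ideal.comap (algebraMap (CAlg2.red A) (CAlg2.normRed A)))
      (minimalPrimes (CAlg2.normRed A)) (minimalPrimes (CAlg2.red A)) :=
  Groth.Agent.Lib.Helper3.MinLoc.bijOn_of_localization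
    (algebraMap (CAlg2.red A) (CAlg2.normRed A))
    (algebraMap (CAlg2.normRed A) (FractionRing (CAlg2.red A)))
    Subtype.val_injective (nonZeroDivisors (CAlg2.red A)) rfl
    (IsFractionRing.injective (CAlg2.red A) (FractionRing (CAlg2.red A)))

theorem bijOn_mk_red :
    Set.BijOn (Ideal.comap (Ideal.Quotient.mk (nilradical A)))
      (minimalPrimes (CAlg2.red A)) (minimalPrimes A) :=
  Groth.Agent.Lib.Helper3.MinLoc.bijOn_of_surjective_nil (Ideal.Quotient.mk (nilradical A))
    Ideal.Quotient.mk_surjective (by rw [Ideal.mk_ker])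

theorem comap_cn (q : Ideal (CAlg2.normRed A)) :
    q.comap (cn A) = (q.comap (algebraMap (CAlg2.red A) (CAlg2.normRed A))).comap
      (Ideal.Quotient.mk (nilradical A)) := rfl

/-- a prime of the normalization over a minimal prime is disjoint from the non-zero-divisors -/
theorem disjoint_of_comap_mem_minimalPrimes (q : Ideal (CAlg2.normRed A))
    (hq : q.comap (algebraMap (CAlg2.red A) (CAlg2.normRed A)) ∈ minimalPrimes (CAlg2.red A)) :
    Disjoint (((nonZeroDivisors (CAlg2.red A)).map
      (algebraMap (CAlg2.red A) (CAlg2.normRed A)) : Submonoid _) : Set (CAlg2.normRed A)) q := by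
  rw [Set.disjoint_left]
  rintro _ ⟨s, hs, rfl⟩ hsq
  have h1 := Ideal.disjoint_nonZeroDivisors_of_mem_minimalPrimes hq
  exact (Set.disjoint_left.mp h1) (show s ∈ q.comap _ from hsq) hs

/-- primes of the normalization over minimal primes are determined by their contraction -/
theorem eq_of_comap_eq (q q' : Ideal (CAlg2.normRed A)) [hq : q.IsPrime] [hq' : q'.IsPrime]
    (hmin : q.comap (algebraMap (CAlg2.red A) (CAlg2.normRed A)) ∈ minimalPrimes (CAlg2.red A))
    (h : q'.comap (algebraMap (CAlg2.red A) (CAlg2.normRed A)) =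
      q.comap (algebraMap (CAlg2.red A) (CAlg2.normRed A))) : q' = q := by
  haveI := isLocalization_normRed A
  have hd := disjoint_of_comap_mem_minimalPrimes A q hmin
  have hd' := disjoint_of_comap_mem_minimalPrimes A q' (h ▸ hmin)
  have e1 := IsLocalization.comap_map_of_isPrime_disjoint
    ((nonZeroDivisors (CAlg2.red A)).map (algebraMap (CAlg2.red A) (CAlg2.normRed A)))
    (FractionRing (CAlg2.red A)) hq hd
  have e2 := IsLocalization.comap_map_of_isPrime_disjoint
    ((nonZeroDivisors (CAlg2.red A)).map (algebraMap (CAlg2.red A) (CAlg2.normRed A)))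
    (FractionRing (CAlg2.red A)) hq' hd'
  have key : ∀ J : Ideal (CAlg2.normRed A),
      J.comap (algebraMap (CAlg2.red A) (CAlg2.normRed A)) =
      ((J.map (algebraMap (CAlg2.normRed A) (FractionRing (CAlg2.red A)))).comap
        (algebraMap (CAlg2.normRed A) (FractionRing (CAlg2.red A)))).comap
          (algebraMap (CAlg2.red A) (CAlg2.normRed A)) →
      (J.map (algebraMap (CAlg2.normRed A) (FractionRing (CAlg2.red A)))) =
        (J.comap (algebraMap (CAlg2.red A) (CAlg2.normRed A))).map
          (algebraMap (CAlg2.red A) (FractionRing (CAlg2.red A))) := by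
    intro J hJ
    have := IsLocalization.map_comap (nonZeroDivisors (CAlg2.red A)) (FractionRing (CAlg2.red A))
      (J.map (algebraMap (CAlg2.normRed A) (FractionRing (CAlg2.red A))))
    rw [← this, hJ]
    rfl
  have k1 := key q (congrArg (Ideal.comap (algebraMap (CAlg2.red A) (CAlg2.normRed A))) e1.symm)
  have k2 := key q' (congrArg (Ideal.comap (algebraMap (CAlg2.red A) (CAlg2.normRed A))) e2.symm)
  calc q' = Ideal.under (CAlg2.normRed A)
        (Ideal.map (algebraMap (CAlg2.normRed A) (FractionRing (CAlg2.red A))) q') := e2.symm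
    _ = Ideal.under (CAlg2.normRed A)
        (Ideal.map (algebraMap (CAlg2.normRed A) (FractionRing (CAlg2.red A))) q) := by
          rw [k2, h, ← k1]
    _ = q := e1

theorem rb_cn : RB (cn A) := by
  refine ⟨?_, ?_, ?_⟩
  · intro q hq
    rw [comap_cn]
    exact (bijOn_mk_red A).mapsTo ((bijOn_red_normRed A).mapsTo hq)
  · intro p hp
    obtain ⟨pb, hpb, hpbp⟩ := (bijOn_mk_red A).surjOn hp
    obtain ⟨q, hq, hqpb⟩ := (bijOn_red_normRed A).surjOn hpb
    haveI hqp : q.IsPrime := hq.1.1
    refine ⟨q, hqp, ?_, ?_⟩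
    · rw [comap_cn, hqpb, hpbp]
    · intro q' hq' hq'p
      haveI := hq'
      apply eq_of_comap_eq A q q' (hqpb ▸ hpb)
      rw [hqpb]
      apply Ideal.comap_injective_of_surjective _ Ideal.Quotient.mk_surjective
      rw [hpbp]
      exact hq'p
  · intro q hqp hq
    have hmin : q.comap (algebraMap (CAlg2.red A) (CAlg2.normRed A)) ∈ minimalPrimes (CAlg2.red A) :=
      (bijOn_red_normRed A).mapsTo hq
    have hd := disjoint_of_comap_mem_minimalPrimes A q hmin
    -- every element of the normalization is a fraction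
    have hfrac : ∀ c : CAlg2.normRed A, ∃ a b : A, cn A b ∉ q ∧ cn A b * c = cn A a := by
      intro c
      obtain ⟨⟨r, s⟩, h⟩ := IsLocalization.surj (nonZeroDivisors (CAlg2.red A)) c.1
      obtain ⟨a, rfl⟩ := Ideal.Quotient.mk_surjective r
      obtain ⟨b, hb⟩ := Ideal.Quotient.mk_surjective s.1
      refine ⟨a, b, ?_, ?_⟩
      · intro hmem
        refine (Set.disjoint_left.mp hd) ?_ hmem
        refine ⟨s.1, s.2, ?_⟩
        rw [← hb]
        rfl
      · apply Subtype.ext
        show algebraMap (CAlg2.red A) (FractionRing (CAlg2.red A)) (Ideal.Quotient.mk _ b) * c.1 = _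
        rw [hb, mul_comm]
        exact h
    have hrange : ∀ c : CAlg2.normRed A, algebraMap (CAlg2.normRed A) q.ResidueField c ∈
        (Ideal.ResidueField.map (q.comap (cn A)) q (cn A) rfl).fieldRange := by
      intro c
      obtain ⟨a, b, hb, hab⟩ := hfrac c
      have h1 : algebraMap (CAlg2.normRed A) q.ResidueField (cn A b) ≠ 0 := by
        rw [Ne, Ideal.algebraMap_residueField_eq_zero]
        exact hb
      have h2 : algebraMap (CAlg2.normRed A) q.ResidueField c =
          algebraMap (CAlg2.normRed A) q.ResidueField (cn A a) /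
            algebraMap (CAlg2.normRed A) q.ResidueField (cn A b) := by
        rw [eq_div_iff h1, ← map_mul, mul_comm, hab]
      rw [h2]
      apply div_mem
      · exact ⟨algebraMap A _ a, Ideal.ResidueField.map_algebraMap _ _ _ rfl a⟩
      · exact ⟨algebraMap A _ b, Ideal.ResidueField.map_algebraMap _ _ _ rfl b⟩
    intro z
    obtain ⟨c, d, hd', rfl⟩ := IsFractionRing.div_surjective (A := CAlg2.normRed A ⧸ q) z
    obtain ⟨c, rfl⟩ := Ideal.Quotient.mk_surjective c
    obtain ⟨d, rfl⟩ := Ideal.Quotient.mk_surjective d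
    have hc := hrange c
    have hd2 := hrange d
    have hmem : algebraMap (CAlg2.normRed A ⧸ q) q.ResidueField (Ideal.Quotient.mk q c) /
        algebraMap (CAlg2.normRed A ⧸ q) q.ResidueField (Ideal.Quotient.mk q d) ∈
        (Ideal.ResidueField.map (q.comap (cn A)) q (cn A) rfl).fieldRange := div_mem hc hd2
    exact hmem

end RBcn

end Groth.Agent.Lib.Helper3.GUConsA
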