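import Mathlib
import Groth.Agent.Lib.Helper3GUConsA

set_option autoImplicit false
set_option linter.style.haveILetI false

namespace Groth.Agent.Lib.Helper3.GUConsB

universe u
open AlgebraicGeometry CategoryTheory IsLocalRing
open Groth.Agent.Lib.Helper4.Unibranch Groth.Agent.Lib.Helper3.RadUniC
  Groth.Agent.Lib.Helper3.RadUniD

section

variable {B C : Type u} [CommRing B] [CommRing C] {φ : B →+* C}

theorem RB.mem_minimalPrimes_of_comap (h : RB φ) (q : Ideal C) [hq : q.IsPrime]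
    (hqp : q.comap φ ∈ minimalPrimes B) : q ∈ minimalPrimes C := by
  obtain ⟨q₁, hq₁, hq₁p, huniq⟩ := h.h2 _ hqp
  obtain ⟨q₀, hq₀, hle⟩ := Ideal.exists_minimalPrimes_le (I := (⊥ : Ideal C)) (J := q) bot_le
  haveI : q₀.IsPrime := hq₀.1.1
  have h1 : q₀.comap φ ≤ q.comap φ := Ideal.comap_mono hle
  have h2 : q₀.comap φ = q.comap φ :=
    le_antisymm h1 (hqp.2 ⟨inferInstance, bot_le⟩ h1)
  have e0 : q₀ = q₁ := huniq q₀ inferInstance h2
  have e1 : q = q₁ := huniq q hq rfl
  rw [e1, ← e0]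
  exact hq₀

end

section

variable {B C : CommRingCat.{u}} (φ : B ⟶ C)

theorem isBirational_of_rb (h : RB φ.hom) : RadPt.IsBirational (Spec.map φ) := by
  have hfib : ∀ y : Spec B, y ∈ genericPoints (Spec B) →
      ∀ x x' : Spec C, (Spec.map φ) x = y → (Spec.map φ) x' = y → x = x' := by
    intro y hy x x' hx hx'
    rw [mem_genericPoints_spec_iff] at hy
    obtain ⟨q, hq, hqp, huniq⟩ := h.h2 _ hy
    have e1 : x.asIdeal = q := huniq x.asIdeal x.isPrime (congrArg PrimeSpectrum.asIdeal hx)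
    have e2 : x'.asIdeal = q := huniq x'.asIdeal x'.isPrime (congrArg PrimeSpectrum.asIdeal hx')
    exact PrimeSpectrum.ext (e1.trans e2.symm)
  have hgen : ∀ x : Spec C, (Spec.map φ) x ∈ genericPoints (Spec B) →
      x ∈ genericPoints (Spec C) := by
    intro x hx
    rw [mem_genericPoints_spec_iff] at hx ⊢
    haveI := x.isPrime
    exact RB.mem_minimalPrimes_of_comap h x.asIdeal hx
  refine ⟨⟨?_, ?_, ?_⟩, ?_⟩
  · intro x hx
    rw [mem_genericPoints_spec_iff] at hx ⊢
    exact h.h1 _ hx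
  · intro x hx x' hx' hxx'
    have hy : (Spec.map φ) x' ∈ genericPoints (Spec B) := by
      rw [mem_genericPoints_spec_iff] at hx' ⊢
      exact h.h1 _ hx'
    exact hfib _ hy x x' hxx' rfl
  · intro y hy
    have hy' := hy
    rw [mem_genericPoints_spec_iff] at hy'
    obtain ⟨q, hq, hqp, -⟩ := h.h2 _ hy'
    have hxy : (Spec.map φ) (⟨q, hq⟩ : Spec C) = y := PrimeSpectrum.ext hqp
    exact ⟨⟨q, hq⟩, hgen _ (hxy ▸ hy), hxy⟩
  · intro y hy
    refine ⟨hfib y hy, fun x hx => ?_⟩
    have hxg : x ∈ genericPoints (Spec C) := hgen x (hx ▸ hy)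
    rw [mem_genericPoints_spec_iff] at hxg
    haveI := x.isPrime
    have hsurj := h.h3 x.asIdeal hxg
    have hbij : Function.Bijective (Ideal.ResidueField.map
        (PrimeSpectrum.comap φ.hom x).asIdeal x.asIdeal φ.hom rfl) :=
      ⟨RingHom.injective _, hsurj⟩
    have hiso := (Groth.Agent.Lib.Helper20.EtaPt.isIso_residueFieldMap_iff φ x).mpr hbij
    exact (ConcreteCategory.isIso_iff_bijective _).mp hiso

end

end Groth.Agent.Lib.Helper3.GUConsB
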