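import Mathlib
import Groth.Agent.Lib.Helper3GUConsB
import Groth.Agent.Lib.Helper3Branch
import Groth.Agent.S3444
import Groth.Agent.S5865

set_option autoImplicit false
set_option linter.style.haveILetI false

namespace Groth.Agent.Lib.Helper3.GUConsC

universe u
open AlgebraicGeometry CategoryTheory IsLocalRing Limits Topology
open Groth.Agent.Lib.Helper4.Unibranch Groth.Agent.Lib.Helper3.RadUniB
  Groth.Agent.Lib.Helper3.RadUniC Groth.Agent.Lib.Helper3.RadUniD

/-- an integrally closed local domain is geometrically unibranch -/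
theorem isGeomUnibranch_of_normal (B : Type u) [CommRing B] [IsLocalRing B]
    [IsDomain B] [IsIntegrallyClosed B] : CAlg2.IsGeomUnibranch B := by
  rw [isGeomUnibranch_iff_of_isDomain B (FractionRing B)]
  have hsurj : Function.Surjective (algebraMap B (integralClosure B (FractionRing B))) := by
    rintro ⟨x, hx⟩
    obtain ⟨b, hb⟩ := IsIntegrallyClosed.isIntegral_iff.mp hx
    exact ⟨b, Subtype.ext hb⟩
  constructor
  · exact IsLocalRing.of_surjective' (algebraMap B (integralClosure B (FractionRing B))) hsurj
  · intro M hM x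
    obtain ⟨c, rfl⟩ := Ideal.Quotient.mk_surjective x
    obtain ⟨b, rfl⟩ := hsurj c
    exact ⟨0, b, by simp⟩

/-- all local rings of the normalization are geometrically unibranch -/
theorem isGeomUnibranch_stalk_normRed (A : Type u) [CommRing A] (hfin : (minimalPrimes A).Finite)
    (x : Spec (CommRingCat.of (CAlg2.normRed A))) :
    CAlg2.IsGeomUnibranch ((Spec (CommRingCat.of (CAlg2.normRed A))).presheaf.stalk x) := by
  haveI := x.isPrime
  obtain ⟨hd, hic⟩ := Groth.Agent.Lib.Helper3.Branch.normal_normRed A hfin x.asIdeal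
  haveI := hd
  haveI := hic
  exact isGeomUnibranch_of_ringEquiv
    (Spec.stalkIso (CommRingCat.of (CAlg2.normRed A)) x).commRingCatIsoToRingEquiv.symm
    (isGeomUnibranch_of_normal (Localization.AtPrime x.asIdeal))

theorem universallyInjective_lift_iff {X Y : Scheme.{u}} (f h : X ⟶ Y) (e : h = f) (y : Y)
    (w : (pullback.fst h (Y.fromSpecResidueField y) ≫ f) ≫ 𝟙 Y =
      pullback.snd h (Y.fromSpecResidueField y) ≫ Y.fromSpecResidueField y) :
    UniversallyInjective (pullback.lift (pullback.fst h (Y.fromSpecResidueField y) ≫ f)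
      (pullback.snd h (Y.fromSpecResidueField y)) w :
        pullback h (Y.fromSpecResidueField y) ⟶ pullback (𝟙 Y) (Y.fromSpecResidueField y)) ↔
      UniversallyInjective (f.fiberToSpecResidueField y) := by
  subst e
  have hcomp : pullback.lift (pullback.fst h (Y.fromSpecResidueField y) ≫ h)
      (pullback.snd h (Y.fromSpecResidueField y)) w ≫
        pullback.snd (𝟙 Y) (Y.fromSpecResidueField y) =
      pullback.snd h (Y.fromSpecResidueField y) := pullback.lift_snd _ _ _
  rw [← MorphismProperty.cancel_right_of_respectsIso @UniversallyInjective _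
    (pullback.snd (𝟙 Y) (Y.fromSpecResidueField y)), hcomp]
  rfl

/-- the locus where a morphism of finite presentation is radicial is locally constructible -/
theorem isLocallyConstructible_isRadicialAt {X Y : Scheme.{u}} (f : X ⟶ Y)
    [LocallyOfFinitePresentation f] [QuasiCompact f] [QuasiSeparated f] :
    IsLocallyConstructible {y : Y | RadPt.IsRadicialAt f y} := by
  haveI : LocallyOfFinitePresentation (f ≫ 𝟙 Y) := by rw [Category.comp_id]; infer_instance
  haveI : QuasiCompact (f ≫ 𝟙 Y) := by rw [Category.comp_id]; infer_instance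
  haveI : QuasiSeparated (f ≫ 𝟙 Y) := by rw [Category.comp_id]; infer_instance
  have key := Groth.Agent.S3444.result f (𝟙 Y)
  convert key using 1
  ext y
  rw [Set.mem_ofPred_eq, Set.mem_ofPred_eq, Groth.Agent.S5863.isRadicialAt_iff_fiber]
  exact (universallyInjective_lift_iff f (f ≫ 𝟙 Y) (Category.comp_id f) y _).symm

/-- the geometrically unibranch locus of a Noetherian affine scheme with finite normalization -/
theorem isLocallyConstructible_gu_spec (A : CommRingCat.{u}) [IsNoetherianRing A]
    (hfin : Module.Finite (CAlg2.red A) (CAlg2.normRed A)) :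
    IsLocallyConstructible {z : Spec A | CAlg2.IsGeomUnibranch ((Spec A).presheaf.stalk z)} := by
  let φ : A ⟶ CommRingCat.of (CAlg2.normRed A) := CommRingCat.ofHom (cn A)
  have hint : φ.hom.IsIntegral := cn_isIntegral A
  haveI : IsIntegralHom (Spec.map φ) := IsIntegralHom.SpecMap_iff.mpr hint
  have hfinφ : φ.hom.Finite := by
    show (cn A).Finite
    unfold cn
    refine RingHom.Finite.comp ?_ (RingHom.Finite.of_surjective _ Ideal.Quotient.mk_surjective)
    exact RingHom.finite_algebraMap.mpr hfin
  have hfp : φ.hom.FinitePresentation :=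
    RingHom.FinitePresentation.of_finiteType.mp (RingHom.FiniteType.of_finite hfinφ)
  haveI : LocallyOfFinitePresentation (Spec.map φ) :=
    (LocallyOfFinitePresentation.SpecMap_iff φ).mpr hfp
  have hbir : RadPt.IsBirational (Spec.map φ) :=
    Groth.Agent.Lib.Helper3.GUConsB.isBirational_of_rb φ (Groth.Agent.Lib.Helper3.GUConsA.rb_cn A)
  have hminfin : (minimalPrimes A).Finite := minimalPrimes.finite_of_isNoetherianRing A
  convert isLocallyConstructible_isRadicialAt (Spec.map φ) using 1
  ext z
  rw [Set.mem_ofPred_eq, Set.mem_ofPred_eq, Groth.Agent.S5865.result (Spec.map φ) hbir z]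
  exact ⟨fun h => h.1, fun h => ⟨h, fun x _ => isGeomUnibranch_stalk_normRed A hminfin x⟩⟩

/-- local constructibility can be checked on a cover by open immersions -/
theorem isLocallyConstructible_of_forall_openImmersion {X : Scheme.{u}} (s : Set X)
    (H : ∀ x : X, ∃ (U : Scheme.{u}) (j : U ⟶ X), IsOpenImmersion j ∧ x ∈ Set.range j ∧
      IsLocallyConstructible (j ⁻¹' s)) : IsLocallyConstructible s := by
  intro x
  obtain ⟨U, j, hj, ⟨z, rfl⟩, hs⟩ := H x
  obtain ⟨W, hWz, hW, hWc⟩ := hs z
  have hemb : IsEmbedding (fun w : W => j w.1) :=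
    j.isOpenEmbedding.isEmbedding.comp IsEmbedding.subtypeVal
  have hrange : Set.range (fun w : W => j w.1) = j '' W := by
    ext t
    constructor
    · rintro ⟨w, rfl⟩
      exact ⟨w.1, w.2, rfl⟩
    · rintro ⟨w, hw, rfl⟩
      exact ⟨⟨w, hw⟩, rfl⟩
  refine ⟨Set.range (fun w : W => j w.1), ?_, ?_, ?_⟩
  · rw [hrange]
    exact j.isOpenEmbedding.image_mem_nhds.mpr hWz
  · rw [hrange]
    exact j.isOpenEmbedding.isOpenMap _ hW
  · let e : W ≃ₜ Set.range (fun w : W => j w.1) := hemb.toHomeomorph
    have he : ∀ n : Set.range (fun w : W => j w.1), j (e.symm n).1 = n.1 := by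
      intro n
      have := congrArg Subtype.val (e.apply_symm_apply n)
      exact this
    convert hWc.preimage_of_isOpenEmbedding e.symm.isOpenEmbedding using 1
    ext n
    simp only [Set.mem_preimage]
    rw [he n]

end Groth.Agent.Lib.Helper3.GUConsC
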