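import Mathlib
import Groth.Prelude.Def_Brnch
import Groth.Agent.S9238
import Groth.Agent.S0537
import Groth.Agent.S0540
set_option autoImplicit false
set_option linter.style.haveILetI false
universe u

namespace Groth.Agent.Lib.Helper3.GUCover

/-- finiteness of the number of geometric branches of a Noetherian local ring -/
theorem numGeomBranches_lt_top (R : Type u) [CommRing R] [IsLocalRing R] [IsNoetherianRing R] :
    Brnch.numGeomBranches R < ⊤ := by
  obtain ⟨S, _, _, _, _, hS⟩ := Groth.Agent.S0537.result R
  haveI := hS
  haveI : IsNoetherianRing S := (Groth.Agent.S0540.result R S).mp inferInstance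
  rw [← Groth.Agent.S9238.result R S]
  have hfin : (minimalPrimes S).Finite := minimalPrimes.finite_of_isNoetherianRing S
  haveI : Finite (minimalPrimes S) := hfin
  exact ENat.card_lt_top.mpr inferInstance

/-- the canonical map `R → normRed R` -/
noncomputable def toNorm (R : Type u) [CommRing R] : R →+* CAlg2.normRed R :=
  (algebraMap (CAlg2.red R) (CAlg2.normRed R)).comp (Ideal.Quotient.mk (nilradical R))

theorem isIntegral_toNorm (R : Type u) [CommRing R] : (toNorm R).IsIntegral := by
  apply RingHom.IsIntegral.trans
  · exact RingHom.isIntegral_of_surjective _ Ideal.Quotient.mk_surjective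
  · exact algebraMap_isIntegral_iff.mpr inferInstance

theorem ker_toClosure (R : Type u) [CommRing R] [IsLocalRing R] :
    RingHom.ker (Brnch.toClosure R) = IsLocalRing.maximalIdeal R := by
  ext r
  rw [RingHom.mem_ker]
  unfold Brnch.toClosure
  rw [RingHom.comp_apply, map_eq_zero_iff _ (RingHom.injective _), IsLocalRing.residue_eq_zero_iff]

/-- the geometric points of the normalization over the canonical geometric point are finite in
number -/
theorem finite_geomPts (R : Type u) [CommRing R] [IsLocalRing R] [IsNoetherianRing R] :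
    {τ : CAlg2.normRed R →+* AlgebraicClosure (IsLocalRing.ResidueField R) |
      τ.comp (toNorm R) = Brnch.toClosure R}.Finite := by
  have h := numGeomBranches_lt_top R
  unfold Brnch.numGeomBranches at h
  have hmin : (minimalPrimes R).Finite := minimalPrimes.finite_of_isNoetherianRing R
  rw [if_pos hmin] at h
  haveI : Finite (Σ m' : MaximalSpectrum (CAlg2.normRed R), Brnch.Emb R m') :=
    ENat.card_lt_top.mp h
  let G : (Σ m' : MaximalSpectrum (CAlg2.normRed R), Brnch.Emb R m') →
      (CAlg2.normRed R →+* AlgebraicClosure (IsLocalRing.ResidueField R)) :=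
    fun x => x.2.1.comp (Ideal.Quotient.mk x.1.asIdeal)
  refine (Set.finite_range G).subset ?_
  intro τ hτ
  have hτ' : τ.comp (toNorm R) = Brnch.toClosure R := hτ
  haveI : (RingHom.ker τ).IsPrime := RingHom.ker_isPrime τ
  have hmax : (RingHom.ker τ).IsMaximal := by
    have h1 : (RingHom.ker τ).comap (toNorm R) = IsLocalRing.maximalIdeal R := by
      rw [← ker_toClosure, ← hτ', RingHom.comap_ker]
    letI : Algebra R (CAlg2.normRed R) := (toNorm R).toAlgebra
    haveI : Algebra.IsIntegral R (CAlg2.normRed R) := algebraMap_isIntegral_iff.mp (isIntegral_toNorm R)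
    exact Ideal.isMaximal_of_isIntegral_of_isMaximal_comap (R := R) _
      (by
        change ((RingHom.ker τ).comap (toNorm R)).IsMaximal
        rw [h1]; infer_instance)
  let m' : MaximalSpectrum (CAlg2.normRed R) := ⟨RingHom.ker τ, hmax⟩
  let σ : CAlg2.normRed R ⧸ m'.asIdeal →+* AlgebraicClosure (IsLocalRing.ResidueField R) :=
    Ideal.Quotient.lift (RingHom.ker τ) τ (fun a ha => ha)
  have hσ : σ.comp (Brnch.toResidue R m') = Brnch.toClosure R := by
    rw [← hτ']
    ext r
    rfl
  refine ⟨⟨m', ⟨σ, hσ⟩⟩, ?_⟩
  ext a
  rfl

end Groth.Agent.Lib.Helper3.GUCover
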