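import Mathlib
import Groth.Agent.Lib.Helper3GUCoverA
import Groth.Agent.Lib.Helper4Unibranch

/-!
# Finite birational extensions that are geometrically unibranch over a given prime (helper3)

`A` a Noetherian domain, `p` a prime. `exists_separates` gives a finite set `T` of elements of the
normalization `Ã` separating the (finitely many) geometric points of `Ã` over `p`;
`isGeomUnibranch_of_separates`: every `A`-algebra `A'` with `A ⊆ A' ⊆ Ã` containing `T` is
geometrically unibranch at all primes over `p`.
-/

set_option autoImplicit false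
set_option linter.style.haveILetI false
universe u

namespace Groth.Agent.Lib.Helper3.GUCover

open Groth.Agent.Lib.Helper4.Unibranch

section
variable (A : Type u) [CommRing A] [IsDomain A] (p : Ideal A) [p.IsPrime]

/-- the canonical geometric point over `p` -/
noncomputable def can : A →+* AlgebraicClosure (IsLocalRing.ResidueField (Localization.AtPrime p)) :=
  (Brnch.toClosure (Localization.AtPrime p)).comp (algebraMap A (Localization.AtPrime p))

theorem ker_can : RingHom.ker (can A p) = p := by
  unfold can
  rw [← RingHom.comap_ker, ker_toClosure]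
  exact IsLocalization.AtPrime.under_maximalIdeal (Localization.AtPrime p) p

attribute [local instance] Groth.Agent.Lib.Helper4.Unibranch.inclAlgebra

/-- the geometric points of the normalization of `A` over `p` are finite in number. -/
theorem finite_geomPts_over [IsNoetherianRing A] :
    {g : integralClosure A (FractionRing A) →+*
        AlgebraicClosure (IsLocalRing.ResidueField (Localization.AtPrime p)) |
      g.comp (algebraMap A _) = can A p}.Finite := by
  let R := Localization.AtPrime p
  let K := FractionRing A
  let At := integralClosure A K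
  let N := integralClosure R K
  let Ωb := AlgebraicClosure (IsLocalRing.ResidueField R)
  haveI := isLocalization_incl A p
  let e : CAlg2.normRed R ≃+* N := normRedEquiv R K
  have hfin := finite_geomPts R
  let Φ : (CAlg2.normRed R →+* Ωb) → (At →+* Ωb) :=
    fun τ => (τ.comp (e.symm : N →+* CAlg2.normRed R)).comp (algebraMap At N)
  refine (hfin.image Φ).subset ?_
  intro g hg
  have hg' : g.comp (algebraMap A At) = can A p := hg
  have hu : ∀ y : Algebra.algebraMapSubmonoid At p.primeCompl, IsUnit (g y) := by
    rintro ⟨_, s, hs, rfl⟩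
    rw [isUnit_iff_ne_zero]
    have : g (algebraMap A At s) = can A p s := congrArg (fun f : A →+* Ωb => f s) hg'
    rw [this]
    intro h0
    have : s ∈ RingHom.ker (can A p) := h0
    rw [ker_can] at this
    exact hs this
  let τ' : N →+* Ωb := IsLocalization.lift hu
  have hτ' : τ'.comp (algebraMap At N) = g := IsLocalization.lift_comp _
  refine ⟨τ'.comp (e : CAlg2.normRed R →+* N), ?_, ?_⟩
  · change (τ'.comp (e : CAlg2.normRed R →+* N)).comp (toNorm R) = Brnch.toClosure R
    apply IsLocalization.ringHom_ext p.primeCompl
    ext a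
    simp only [RingHom.comp_apply]
    have h1 : (e : CAlg2.normRed R →+* N) (toNorm R (algebraMap A R a)) =
        algebraMap R N (algebraMap A R a) := normRedEquiv_apply R K _
    rw [h1, ← IsScalarTower.algebraMap_apply A R N, IsScalarTower.algebraMap_apply A At N]
    have h2 : τ' (algebraMap At N (algebraMap A At a)) = g (algebraMap A At a) :=
      congrArg (fun f : At →+* Ωb => f (algebraMap A At a)) hτ'
    rw [h2]
    exact congrArg (fun f : A →+* Ωb => f a) hg'
  · change ((τ'.comp (e : CAlg2.normRed R →+* N)).comp (e.symm : N →+* CAlg2.normRed R)).comp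
      (algebraMap At N) = g
    rw [← hτ']
    ext x
    simp

/-- a finite set of elements of the normalization separating the geometric points over `p`. -/
theorem exists_separating_finset [IsNoetherianRing A] :
    ∃ T : Finset (integralClosure A (FractionRing A)),
      ∀ g₁ g₂ : integralClosure A (FractionRing A) →+*
        AlgebraicClosure (IsLocalRing.ResidueField (Localization.AtPrime p)),
      g₁.comp (algebraMap A _) = can A p → g₂.comp (algebraMap A _) = can A p →
      (∀ t ∈ T, g₁ t = g₂ t) → g₁ = g₂ := by
  classical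
  have hfin := finite_geomPts_over A p
  let S := hfin.toFinset
  have hex : ∀ q : (integralClosure A (FractionRing A) →+*
        AlgebraicClosure (IsLocalRing.ResidueField (Localization.AtPrime p))) ×
      (integralClosure A (FractionRing A) →+*
        AlgebraicClosure (IsLocalRing.ResidueField (Localization.AtPrime p))),
      ∃ t, q.1 ≠ q.2 → q.1 t ≠ q.2 t := by
    intro q
    by_cases h : q.1 = q.2
    · exact ⟨0, fun h' => absurd h h'⟩
    · obtain ⟨t, ht⟩ := DFunLike.ne_iff.mp h
      exact ⟨t, fun _ => ht⟩
  choose tf htf using hex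
  refine ⟨(S ×ˢ S).image tf, ?_⟩
  intro g₁ g₂ h₁ h₂ hT
  by_contra hne
  have hmem : (g₁, g₂) ∈ S ×ˢ S := by
    rw [Finset.mem_product]
    exact ⟨hfin.mem_toFinset.mpr h₁, hfin.mem_toFinset.mpr h₂⟩
  exact htf (g₁, g₂) hne (hT _ (Finset.mem_image_of_mem tf hmem))

/-- separation for arbitrary fields -/
theorem eq_of_forall_mem_eq
    (T : Finset (integralClosure A (FractionRing A)))
    (hT : ∀ g₁ g₂ : integralClosure A (FractionRing A) →+*
        AlgebraicClosure (IsLocalRing.ResidueField (Localization.AtPrime p)),
      g₁.comp (algebraMap A _) = can A p → g₂.comp (algebraMap A _) = can A p →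
      (∀ t ∈ T, g₁ t = g₂ t) → g₁ = g₂)
    (Ω : Type u) [Field Ω] (g₁ g₂ : integralClosure A (FractionRing A) →+* Ω)
    (h12 : g₁.comp (algebraMap A _) = g₂.comp (algebraMap A _))
    (hker : RingHom.ker (g₁.comp (algebraMap A _)) = p)
    (hTeq : ∀ t ∈ T, g₁ t = g₂ t) : g₁ = g₂ := by
  let R := Localization.AtPrime p
  let K := FractionRing A
  let At := integralClosure A K
  let k := IsLocalRing.ResidueField R
  let Ωb := AlgebraicClosure k
  let h : A →+* Ω := g₁.comp (algebraMap A At)
  have hu : ∀ y : p.primeCompl, IsUnit (h y) := by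
    rintro ⟨s, hs⟩
    rw [isUnit_iff_ne_zero]
    intro h0
    have : s ∈ RingHom.ker h := h0
    rw [hker] at this
    exact hs this
  let hR : R →+* Ω := IsLocalization.lift hu
  have hhR : hR.comp (algebraMap A R) = h := IsLocalization.lift_comp _
  haveI : IsLocalHom hR := by
    refine ⟨fun r hr => ?_⟩
    by_contra hnu
    have hm : r ∈ IsLocalRing.maximalIdeal R := hnu
    obtain ⟨a, s, rfl⟩ := IsLocalization.exists_mk'_eq p.primeCompl r
    rw [IsLocalization.AtPrime.mk'_mem_maximal_iff R p] at hm
    have : hR (IsLocalization.mk' R a s) = 0 := by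
      rw [IsLocalization.lift_mk']
      have ha0 : h a = 0 := by
        have : a ∈ RingHom.ker h := by rw [hker]; exact hm
        exact this
      rw [ha0, zero_mul]
    rw [this] at hr
    exact not_isUnit_zero hr
  let hk : k →+* Ω := IsLocalRing.ResidueField.lift hR
  have hhk : hk.comp (IsLocalRing.residue R) = hR := IsLocalRing.ResidueField.lift_comp_residue hR
  letI : Algebra k Ω := hk.toAlgebra
  let Ω₀ : IntermediateField k Ω := algebraicClosure k Ω
  have hcomp : ∀ g : At →+* Ω, g.comp (algebraMap A At) = h →
      (algebraMap k Ω).comp ((IsLocalRing.residue R).comp (algebraMap A R)) =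
        g.comp (algebraMap A At) := by
    intro g hg
    rw [hg, ← hhR, ← hhk]
    rfl
  have hmem : ∀ g : At →+* Ω, g.comp (algebraMap A At) = h → ∀ x : At, g x ∈ Ω₀ := by
    intro g hg x
    have hx : IsIntegral A x := Algebra.IsIntegral.isIntegral x
    have : IsIntegral k (g x) :=
      hx.map_of_comp_eq ((IsLocalRing.residue R).comp (algebraMap A R)) g (hcomp g hg)
    exact (mem_algebraicClosure_iff).mpr this.isAlgebraic
  let g₁' : At →+* Ω₀ := g₁.codRestrict Ω₀.toSubfield.toSubring (hmem g₁ rfl)
  let g₂' : At →+* Ω₀ := g₂.codRestrict Ω₀.toSubfield.toSubring (hmem g₂ h12.symm)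
  let σ : Ω₀ →ₐ[k] Ωb := IsAlgClosed.lift
  have hσ : ∀ (g : At →+* Ω) (hg : g.comp (algebraMap A At) = h),
      (σ.toRingHom.comp (g.codRestrict Ω₀.toSubfield.toSubring (hmem g hg))).comp
        (algebraMap A At) = can A p := by
    intro g hg
    ext a
    simp only [RingHom.comp_apply]
    have h1 : (g.codRestrict Ω₀.toSubfield.toSubring (hmem g hg)) (algebraMap A At a) =
        algebraMap k Ω₀ (IsLocalRing.residue R (algebraMap A R a)) := by
      apply Subtype.ext
      have := congrArg (fun f : A →+* Ω => f a) (hcomp g hg)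
      exact this.symm
    rw [h1]
    exact σ.commutes _
  have hfin := hT _ _ (hσ g₁ rfl) (hσ g₂ h12.symm) (by
    intro t ht
    simp only [RingHom.comp_apply]
    congr 1
    apply Subtype.ext
    exact hTeq t ht)
  ext x
  have h2 := congrArg (fun f : At →+* Ωb => f x) hfin
  simp only [RingHom.comp_apply] at h2
  have h3 := σ.toRingHom.injective h2
  exact congrArg Subtype.val h3

/-- separation for arbitrary fields -/
def Separates (T : Finset (integralClosure A (FractionRing A))) : Prop :=
  ∀ (Ω : Type u) [Field Ω] (g₁ g₂ : integralClosure A (FractionRing A) →+* Ω),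
    g₁.comp (algebraMap A _) = g₂.comp (algebraMap A _) →
    RingHom.ker (g₁.comp (algebraMap A _)) = p → (∀ t ∈ T, g₁ t = g₂ t) → g₁ = g₂

theorem exists_separates [IsNoetherianRing A] : ∃ T, Separates A p T := by
  obtain ⟨T, hT⟩ := exists_separating_finset A p
  exact ⟨T, fun Ω _ g₁ g₂ h12 hker hTeq => eq_of_forall_mem_eq A p T hT Ω g₁ g₂ h12 hker hTeq⟩

attribute [local instance] Groth.Agent.Lib.Helper4.Unibranch.fieldQuotMax

set_option maxHeartbeats 1000000 in
/-- **Geometric unibranchness of finite birational extensions containing a separating set.** -/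
theorem isGeomUnibranch_of_separates
    (T : Finset (integralClosure A (FractionRing A))) (hT : Separates A p T)
    (A' : Type u) [CommRing A'] [Algebra A A'] (ι : A' →ₐ[A] FractionRing A)
    (hinj : Function.Injective ι) (hint : ∀ a', IsIntegral A (ι a'))
    (hTι : ∀ t ∈ T, (t : FractionRing A) ∈ Set.range ι)
    (q : Ideal A') [q.IsPrime] (hq : q.comap (algebraMap A A') = p) :
    CAlg2.IsGeomUnibranch (Localization.AtPrime q) := by
  let K := FractionRing A
  let At := integralClosure A K
  haveI : IsDomain A' := hinj.isDomain ι.toRingHom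
  letI algA'K : Algebra A' K := ι.toRingHom.toAlgebra
  haveI : IsScalarTower A A' K := IsScalarTower.of_algebraMap_eq (fun a => (ι.commutes a).symm)
  have hA'K : ∀ a', algebraMap A' K a' = ι a' := fun _ => rfl
  haveI : FaithfulSMul A' K := (faithfulSMul_iff_algebraMap_injective A' K).mpr hinj
  haveI : IsFractionRing A' K := by
    apply IsFractionRing.of_field
    intro z
    obtain ⟨x, y, hy, rfl⟩ := IsFractionRing.div_surjective (A := A) z
    refine ⟨algebraMap A A' x, algebraMap A A' y, ?_⟩
    rw [← IsScalarTower.algebraMap_apply A A' K, ← IsScalarTower.algebraMap_apply A A' K]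
  let R' := Localization.AtPrime q
  have hu' : ∀ y : q.primeCompl, IsUnit (algebraMap A' K y) := by
    rintro ⟨s, hs⟩
    rw [isUnit_iff_ne_zero]
    intro h0
    have : s = 0 := hinj (by rw [← hA'K, h0, map_zero])
    exact hs (this ▸ q.zero_mem)
  letI algR'K : Algebra R' K := (IsLocalization.lift hu' : R' →+* K).toAlgebra
  haveI : IsScalarTower A' R' K := IsScalarTower.of_algebraMap_eq (fun a' =>
    (IsLocalization.lift_eq hu' a').symm)
  haveI : IsScalarTower A R' K := IsScalarTower.of_algebraMap_eq (fun a => by
    rw [IsScalarTower.algebraMap_apply A A' R', ← IsScalarTower.algebraMap_apply A' R' K,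
      ← IsScalarTower.algebraMap_apply A A' K])
  haveI : IsFractionRing R' K :=
    IsFractionRing.isFractionRing_of_isDomain_of_isLocalization q.primeCompl R' K
  haveI : Algebra.IsIntegral A A' := by
    refine ⟨fun a' => ?_⟩
    have := hint a'
    exact (isIntegral_algHom_iff ι hinj).mp this
  rw [isGeomUnibranch_iff_of_isDomain R' K]
  let S := integralClosure R' K
  apply isLocalRing_and_powMem_of_unique
  intro τ₁ τ₂ h₁ h₂
  let incl' : At →+* S := (algebraMap At K).codRestrict S (fun x => IsIntegral.tower_top x.2)
  have hincl : ∀ x : At, ((incl' x : S) : K) = (x : K) := fun _ => rfl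
  -- compatibility on `A'`
  have hA' : ∀ (a' : A') (x : At), (x : K) = ι a' →
      incl' x = algebraMap R' S (algebraMap A' R' a') := by
    intro a' x hx
    apply Subtype.ext
    rw [hincl, hx]
    change ι a' = algebraMap R' K (algebraMap A' R' a')
    rw [← IsScalarTower.algebraMap_apply A' R' K]
    rfl
  have hτA' : ∀ (τ : S →+* AlgebraicClosure (R' ⧸ IsLocalRing.maximalIdeal R')),
      τ.comp (algebraMap R' S) = toAlgClosure R' → ∀ (a' : A') (x : At), (x : K) = ι a' →
      τ (incl' x) = toAlgClosure R' (algebraMap A' R' a') := by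
    intro τ hτ a' x hx
    rw [hA' a' x hx]
    exact congrArg (fun f : R' →+* _ => f (algebraMap A' R' a')) hτ
  have hAx : ∀ a : A, ((algebraMap A At a : At) : K) = ι (algebraMap A A' a) := by
    intro a
    rw [ι.commutes]
    rfl
  have hg : (τ₁.comp incl') = (τ₂.comp incl') := by
    apply hT
    · ext a
      simp only [RingHom.comp_apply]
      rw [hτA' τ₁ h₁ _ _ (hAx a), hτA' τ₂ h₂ _ _ (hAx a)]
    · ext a
      rw [RingHom.mem_ker]
      simp only [RingHom.comp_apply]
      rw [hτA' τ₁ h₁ _ _ (hAx a)]
      unfold toAlgClosure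
      rw [RingHom.comp_apply, map_eq_zero_iff _ (RingHom.injective _),
        Ideal.Quotient.eq_zero_iff_mem, IsLocalization.AtPrime.to_map_mem_maximal_iff R' q,
        ← hq, Ideal.mem_comap]
    · intro t ht
      obtain ⟨a', ha'⟩ := hTι t ht
      simp only [RingHom.comp_apply]
      rw [hτA' τ₁ h₁ a' t ha'.symm, hτA' τ₂ h₂ a' t ha'.symm]
  ext x
  obtain ⟨⟨s, hs⟩, hsx⟩ := IsIntegral.exists_multiple_integral_of_isLocalization q.primeCompl
    (x : K) x.2
  have hsx' : IsIntegral A' (algebraMap A' K s * (x : K)) := by
    have := hsx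
    rw [Submonoid.smul_def, Algebra.smul_def] at this
    exact this
  have hsxA : IsIntegral A (algebraMap A' K s * (x : K)) := isIntegral_trans _ hsx'
  let y : At := ⟨algebraMap A' K s * (x : K), hsxA⟩
  have hy : incl' y = algebraMap R' S (algebraMap A' R' s) * x := by
    apply Subtype.ext
    rw [hincl]
    change algebraMap A' K s * (x : K) = algebraMap R' K (algebraMap A' R' s) * (x : K)
    rw [← IsScalarTower.algebraMap_apply A' R' K]
  have h3 := congrArg (fun f : At →+* _ => f y) hg
  simp only [RingHom.comp_apply] at h3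
  rw [hy, map_mul, map_mul] at h3
  have hc₁ : τ₁ (algebraMap R' S (algebraMap A' R' s)) = toAlgClosure R' (algebraMap A' R' s) :=
    congrArg (fun f : R' →+* _ => f (algebraMap A' R' s)) h₁
  have hc₂ : τ₂ (algebraMap R' S (algebraMap A' R' s)) = toAlgClosure R' (algebraMap A' R' s) :=
    congrArg (fun f : R' →+* _ => f (algebraMap A' R' s)) h₂
  rw [hc₁, hc₂] at h3
  have hc0 : toAlgClosure R' (algebraMap A' R' s) ≠ 0 := by
    unfold toAlgClosure
    rw [RingHom.comp_apply, Ne, map_eq_zero_iff _ (RingHom.injective _),
      Ideal.Quotient.eq_zero_iff_mem, IsLocalization.AtPrime.to_map_mem_maximal_iff R' q]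
    exact hs
  exact mul_left_cancel₀ hc0 h3

end

end Groth.Agent.Lib.Helper3.GUCover
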