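import Mathlib
import Groth.Prelude.Def_RelSpec
set_option autoImplicit false
set_option linter.style.haveILetI false
universe u

namespace Groth.Agent.Lib.Helper3.GUCover

open CategoryTheory Limits AlgebraicGeometry TopologicalSpace Opposite

section
variable {Y : Scheme.{u}} [IsLocallyNoetherian Y] (V : Y.Opens) (hV : IsAffineOpen V)

noncomputable def jV : Spec (CommRingCat.of (FractionRing Γ(Y, V))) ⟶ Y :=
  Spec.map (CommRingCat.ofHom (algebraMap Γ(Y, V) (FractionRing Γ(Y, V)))) ≫ hV.fromSpec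

instance : QuasiCompact (jV V hV) := by
  unfold jV
  infer_instance

instance : QuasiSeparated (jV V hV) := by
  unfold jV
  infer_instance

theorem jV_preimage : (jV V hV) ⁻¹ᵁ V = ⊤ := by
  unfold jV
  rw [Scheme.Hom.comp_preimage, hV.fromSpec_preimage_self]
  rfl

theorem jV_appLE : (jV V hV).appLE V ⊤ (by rw [jV_preimage]) ≫ (Scheme.ΓSpecIso _).hom =
    CommRingCat.ofHom (algebraMap Γ(Y, V) (FractionRing Γ(Y, V))) := by
  unfold jV
  rw [Scheme.Hom.comp_appLE, hV.fromSpec_app_self, Category.assoc, Category.assoc,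
    Scheme.Hom.map_appLE_assoc]
  have h1 : ∀ (e : (⊤ : (Spec (CommRingCat.of (FractionRing Γ(Y, V)))).Opens) ≤
      (Spec.map (CommRingCat.ofHom (algebraMap Γ(Y, V) (FractionRing Γ(Y, V))))) ⁻¹ᵁ ⊤),
      (Spec.map (CommRingCat.ofHom (algebraMap Γ(Y, V) (FractionRing Γ(Y, V))))).appLE ⊤ ⊤ e =
      (Spec.map (CommRingCat.ofHom (algebraMap Γ(Y, V) (FractionRing Γ(Y, V))))).appTop := by
    intro e
    rw [Scheme.Hom.appLE]
    simp
  rw [h1, Scheme.ΓSpecIso_naturality]
  exact Iso.inv_hom_id_assoc (Scheme.ΓSpecIso Γ(Y, V)) _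

/-- the comparison isomorphism `Γ(Spec K, j⁻¹V) ≅ K` -/
noncomputable def kap : Γ(Spec (CommRingCat.of (FractionRing Γ(Y, V))), (jV V hV) ⁻¹ᵁ V) ≅
    CommRingCat.of (FractionRing Γ(Y, V)) :=
  (Spec (CommRingCat.of (FractionRing Γ(Y, V)))).presheaf.mapIso
    (eqToIso (show (⊤ : (Spec (CommRingCat.of (FractionRing Γ(Y, V)))).Opens) = (jV V hV) ⁻¹ᵁ V from
      (jV_preimage V hV).symm)).op ≪≫ Scheme.ΓSpecIso _

theorem app_kap : (jV V hV).app V ≫ (kap V hV).hom =
    CommRingCat.ofHom (algebraMap Γ(Y, V) (FractionRing Γ(Y, V))) := by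
  rw [← jV_appLE V hV]
  unfold kap
  rw [Iso.trans_hom, ← Category.assoc]
  congr 1

/-- the map `Γ(N, ν⁻¹V) → K` -/
noncomputable def rho : Γ((jV V hV).normalization, (jV V hV).fromNormalization ⁻¹ᵁ V) ⟶
    CommRingCat.of (FractionRing Γ(Y, V)) :=
  (jV V hV).toNormalization.appLE ((jV V hV).fromNormalization ⁻¹ᵁ V) ((jV V hV) ⁻¹ᵁ V)
    (by simp [← Scheme.Hom.comp_preimage]) ≫ (kap V hV).hom

theorem app_rho : (jV V hV).fromNormalization.app V ≫ rho V hV =
    CommRingCat.ofHom (algebraMap Γ(Y, V) (FractionRing Γ(Y, V))) := by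
  unfold rho
  rw [← Category.assoc, Scheme.Hom.app_eq_appLE, Scheme.Hom.appLE_comp_appLE]
  simp only [Scheme.Hom.toNormalization_fromNormalization]
  rw [← Scheme.Hom.app_eq_appLE]
  exact app_kap V hV

theorem rho_eq :
    letI := ((jV V hV).app V).hom.toAlgebra
    rho V hV = ((jV V hV).normalizationObjIso hV).hom ≫
      CommRingCat.ofHom (Subalgebra.val _).toRingHom ≫ (kap V hV).hom := by
  unfold rho
  rw [← Category.assoc, Scheme.Hom.normalizationObjIso_hom_val]

theorem rho_injective : Function.Injective (rho V hV).hom := by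
  letI := ((jV V hV).app V).hom.toAlgebra
  rw [rho_eq]
  simp only [CommRingCat.hom_comp, RingHom.coe_comp]
  refine Function.Injective.comp (Function.Injective.comp ?_ ?_) ?_
  · exact (ConcreteCategory.bijective_of_isIso (kap V hV).hom).1
  · exact Subtype.val_injective
  · exact (ConcreteCategory.bijective_of_isIso ((jV V hV).normalizationObjIso hV).hom).1

theorem isIntegral_rho (b : Γ((jV V hV).normalization, (jV V hV).fromNormalization ⁻¹ᵁ V)) :
    IsIntegral Γ(Y, V) ((rho V hV).hom b) := by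
  letI := ((jV V hV).app V).hom.toAlgebra
  rw [rho_eq]
  simp only [CommRingCat.hom_comp, RingHom.coe_comp, Function.comp_apply]
  have hz : IsIntegral Γ(Y, V) ((((jV V hV).normalizationObjIso hV).hom.hom b :
      integralClosure Γ(Y, V) Γ(Spec (CommRingCat.of (FractionRing Γ(Y, V))), (jV V hV) ⁻¹ᵁ V)) :
      Γ(Spec (CommRingCat.of (FractionRing Γ(Y, V))), (jV V hV) ⁻¹ᵁ V)) :=
    (((jV V hV).normalizationObjIso hV).hom.hom b).2
  refine hz.map_of_comp_eq (RingHom.id _) (kap V hV).hom.hom ?_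
  have := congrArg CommRingCat.Hom.hom (app_kap V hV)
  rw [CommRingCat.hom_comp] at this
  rw [RingHom.comp_id]
  exact this.symm

theorem exists_rho_eq (x : FractionRing Γ(Y, V)) (hx : IsIntegral Γ(Y, V) x) :
    ∃ b, (rho V hV).hom b = x := by
  letI := ((jV V hV).app V).hom.toAlgebra
  let z := (kap V hV).inv.hom x
  have hz : IsIntegral Γ(Y, V) z := by
    refine hx.map_of_comp_eq (RingHom.id _) (kap V hV).inv.hom ?_
    rw [RingHom.comp_id]
    have h1 : (jV V hV).app V = CommRingCat.ofHom (algebraMap Γ(Y, V) (FractionRing Γ(Y, V))) ≫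
        (kap V hV).inv := by
      rw [← app_kap V hV, Category.assoc, Iso.hom_inv_id, Category.comp_id]
    have := congrArg CommRingCat.Hom.hom h1
    rw [CommRingCat.hom_comp] at this
    exact this
  refine ⟨((jV V hV).normalizationObjIso hV).inv.hom ⟨z, hz⟩, ?_⟩
  rw [rho_eq]
  simp only [CommRingCat.hom_comp, RingHom.coe_comp, Function.comp_apply]
  have h2 : ((jV V hV).normalizationObjIso hV).hom.hom
      (((jV V hV).normalizationObjIso hV).inv.hom ⟨z, hz⟩) = ⟨z, hz⟩ := by
    rw [← RingHom.comp_apply, ← CommRingCat.hom_comp, Iso.inv_hom_id]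
    rfl
  rw [h2]
  change (kap V hV).hom.hom ((kap V hV).inv.hom x) = x
  rw [← RingHom.comp_apply, ← CommRingCat.hom_comp, Iso.inv_hom_id]
  rfl

end

end Groth.Agent.Lib.Helper3.GUCover
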