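import Mathlib
import Groth.Prelude.Def_RelSpec
import Groth.Agent.S8255
import Groth.Agent.Lib.Helper13RelSpecLocal
set_option autoImplicit false
set_option linter.style.haveILetI false
universe u

namespace Groth.Agent.Lib.Helper3.GUCover

open CategoryTheory Limits AlgebraicGeometry TopologicalSpace Opposite

section
variable {S : Scheme.{u}} (A : RelSpec.QCAlg S)

theorem isIso_gammaAff (U : S.Opens) (hU : IsAffineOpen U) : IsIso (A.gammaAff U hU) := by
  have hiso : IsIso A.gammaMap := Groth.Agent.S8255.result A
  have h1 : IsIso (A.gammaMap.app (op U)) := @NatIso.isIso_app_of_isIso _ _ _ _ _ _ _ hiso (op U)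
  rw [A.gammaMap_app U hU] at h1
  exact h1

/-- a quasi-coherent algebra which is of finite type and injects into an integral one has a finite
relative spectrum -/
theorem isFinite_π_of_injective {X : Scheme.{u}} (ν : X ⟶ S) [IsIntegralHom ν]
    (φ : A ⟶ RelSpec.QCAlg.directImage ν)
    (hinj : ∀ V : S.Opens, Function.Injective (φ.hom.app (op V)).hom)
    (hft : ∀ (U : S.Opens) (_ : IsAffineOpen U), (A.str.app (op U)).hom.FiniteType) :
    IsFinite A.π := by
  rw [IsFinite.iff_isIntegralHom_and_locallyOfFiniteType]
  refine ⟨?_, Groth.Agent.Helper13RelSpecLocal.locallyOfFiniteType_π A hft⟩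
  refine ⟨fun U hU => ?_⟩
  haveI := isIso_gammaAff A U hU
  have h1 : A.π.app U = A.str.app (op U) ≫ inv (A.gammaAff U hU) := by
    rw [← A.π_app_gammaAff U hU, Category.assoc, IsIso.hom_inv_id, Category.comp_id]
  rw [h1, CommRingCat.hom_comp]
  refine RingHom.IsIntegral.trans _ _ ?_ ?_
  · -- `A.str` integral
    intro a
    have hν : (ν.app U).hom.IsIntegral := IsIntegralHom.isIntegral_app ν U hU
    have hcomm : A.str.app (op U) ≫ φ.hom.app (op U) = ν.app U := by
      have := congrArg (fun α => α.app (op U)) φ.comm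
      exact this
    obtain ⟨P, hP, hPa⟩ := hν ((φ.hom.app (op U)).hom a)
    refine ⟨P, hP, ?_⟩
    apply hinj U
    rw [map_zero, Polynomial.hom_eval₂, ← CommRingCat.hom_comp, hcomm]
    exact hPa
  · exact RingHom.isIntegral_of_surjective _
      (ConcreteCategory.bijective_of_isIso (inv (A.gammaAff U hU))).2

end

end Groth.Agent.Lib.Helper3.GUCover
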