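import Mathlib
import Groth.Prelude.Def_CAlg2
import Groth.Prelude.Def_EGA43
import Groth.Agent.Lib.Helper6UniE

set_option autoImplicit false
set_option linter.style.haveILetI false
universe u
open IsLocalRing CategoryTheory CategoryTheory.Limits AlgebraicGeometry

namespace Groth.Agent.Lib.Helper6.Uni

open EGA43 Groth.Agent.Lib.Helper4.DimFormula Groth.Agent.Lib.Helper4.VarDim
open Groth.Agent.Lib.Helper4.FibDim Groth.Agent.Lib.Helper6.OpenDim Groth.Agent.Lib.Helper6.EquiSub

/-- **(c) ⇒ (d)**: a point `x` closed in its fibre lies on a quasi-section provided some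
irreducible component `closure {ξ}` of `X` through a maximal point `w` of the fibre realizing
`dim_x X_{f x}` has generic relative dimension `trdeg κ(w)/κ(f x)`. -/
theorem hasQuasiSection_of_component {X Y : Scheme.{u}} [IrreducibleSpace Y]
    [IsLocallyNoetherian Y] (f : X ⟶ Y) [LocallyOfFiniteType f] (x : X)
    (hcl : ∀ x' : X, f.base x' = f.base x → x ⤳ x' → x' = x)
    (ξ : X) (hξx : ξ ⤳ x) (hξ : ∀ y' : Y, y' ⤳ f.base ξ → y' = f.base ξ)
    (hfd : FlatMor.fibreDimAt f x = (ptTrdeg f ξ : WithBot ℕ∞)) :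
    HasQuasiSection f x := by
  have hdim : FlatMor.localDim ↥(closure {ξ} ∩ f.base ⁻¹' {f.base x}) ⟨x, hξx.mem_closure, rfl⟩ =
      (ptTrdeg f ξ : WithBot ℕ∞) := by
    obtain ⟨ha, hb⟩ := localDim_closure_inter_fibre_bounds f ξ x hξx
    exact le_antisymm (hb _ hfd.le) (ha ξ specializes_rfl hξx)
  obtain ⟨Z, ι, hι, tx, rfl, hequi⟩ := exists_isEquidimAt_closure_singleton f ξ x hξx hξ hdim
  have hcl' : ∀ t' : Z, (ι ≫ f).base t' = (ι ≫ f).base tx → tx ⤳ t' → t' = tx := by
    intro t' ht' hsp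
    have h1 : f.base (ι.base t') = f.base (ι.base tx) := ht'
    exact ι.isEmbedding.injective (hcl _ h1 (hsp.map ι.continuous))
  exact HasQuasiSection.of_immersion ι f tx (exists_quasiSection (ι ≫ f) tx hequi hcl')

end Groth.Agent.Lib.Helper6.Uni
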