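import Mathlib
import Groth.Prelude.Def_CAlg2
import Groth.Prelude.Def_EGA43
import Groth.Prelude.Def_EGA4b
import Groth.Agent.Lib.Helper6UniF
import Groth.Agent.Lib.Helper6FbcA
import Groth.Agent.Lib.Helper4DimFormulaAG
import Groth.Agent.Lib.Helper4DimFormulaAC
import Groth.Agent.Lib.Helper25NilReg
import Groth.Agent.Lib.Helper7UnivOpen
import Groth.Agent.S4918

/-! # Equidimensional morphisms over a geometrically unibranch point: the local ring of the source
is equidimensional (EGA IV 14.4.6) -/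

set_option autoImplicit false
set_option linter.style.haveILetI false
universe u
open IsLocalRing CategoryTheory CategoryTheory.Limits AlgebraicGeometry

namespace Groth.Agent.Lib.Helper6.Uni

open EGA43 Groth.Agent.Lib.Helper4.DimFormula Groth.Agent.Lib.Helper4.VarDim
open Groth.Agent.Lib.Helper4.FibDim

/-- a surjection `ψ : R → S` all of whose prime pullbacks contain `I` does not raise dimension
from `R/I`. -/
theorem ringKrullDim_le_quotient_of_forall_le_comap {R S : Type*} [CommRing R] [CommRing S]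
    (ψ : R →+* S) (hψ : Function.Surjective ψ) (I : Ideal R)
    (h : ∀ 𝔯 : Ideal S, 𝔯.IsPrime → I ≤ 𝔯.comap ψ) :
    ringKrullDim S ≤ ringKrullDim (R ⧸ I) := by
  have hI : ∀ a ∈ I, ψ a ∈ nilradical S := by
    intro a ha
    rw [nilradical_eq_sInf, Ideal.mem_sInf]
    intro 𝔯 h𝔯
    exact h 𝔯 h𝔯 ha
  let χ : R ⧸ I →+* S ⧸ nilradical S :=
    Ideal.Quotient.lift I ((Ideal.Quotient.mk (nilradical S)).comp ψ) (fun a ha => by
      rw [RingHom.comp_apply]
      exact Ideal.Quotient.eq_zero_iff_mem.mpr (hI a ha))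
  have hχ : Function.Surjective χ := by
    apply Ideal.Quotient.lift_surjective_of_surjective
    exact Ideal.Quotient.mk_surjective.comp hψ
  have h1 := ringKrullDim_le_of_surjective χ hχ
  rwa [Groth.Agent.Lib.Helper25.NilReg.ringKrullDim_quotient_of_le_nilradical _ le_rfl] at h1

/-- the local ring of a closed subscheme contained in `closure {ξ}` has dimension at most that of
`O_{X,x}/𝔭_ξ`. -/
theorem ringKrullDim_stalk_le_quotient_of_isClosedImmersion {X Z : Scheme.{u}} (ι : Z ⟶ X)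
    [IsClosedImmersion ι] (tz : Z) (𝔭 : Ideal (X.presheaf.stalk (ι.base tz))) [h𝔭 : 𝔭.IsPrime]
    (hrange : Set.range ι.base ⊆ closure {X.fromSpecStalk (ι.base tz) ⟨𝔭, h𝔭⟩}) :
    ringKrullDim (Z.presheaf.stalk tz) ≤ ringKrullDim (X.presheaf.stalk (ι.base tz) ⧸ 𝔭) := by
  apply ringKrullDim_le_quotient_of_forall_le_comap (ι.stalkMap tz).hom
    (ι.stalkMap_surjective tz)
  intro 𝔯 h𝔯
  haveI := h𝔯
  haveI : (𝔯.comap (ι.stalkMap tz).hom).IsPrime := Ideal.comap_isPrime _ _
  have h1 := fromSpecStalk_comap_stalkMap ι tz 𝔯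
  have h2 : ι.base (Z.fromSpecStalk tz ⟨𝔯, h𝔯⟩) ∈
      closure {X.fromSpecStalk (ι.base tz) ⟨𝔭, h𝔭⟩} := hrange ⟨_, rfl⟩
  rw [← h1] at h2
  exact (fromSpecStalk_specializes_iff (ι.base tz) 𝔭 (𝔯.comap (ι.stalkMap tz).hom)).mp
    (specializes_iff_mem_closure.mpr h2)

/-- equidimensionality at a point passes to the generizations lying in the same fibre. -/
theorem isEquidimAt_of_specializes_of_eq {X Y : Scheme.{u}} (f : X ⟶ Y) (x w : X)
    (hf : IsEquidimAt f x) (hw : w ⤳ x) (hfw : f.base w = f.base x) : IsEquidimAt f w := by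
  obtain ⟨e, U, hxU, h1, h2⟩ := hf
  refine ⟨e, U, hw.mem_open U.2 hxU, ?_, h2⟩
  intro Z hZ
  obtain ⟨W, hW, hyW, hcl⟩ := h1 Z hZ
  exact ⟨W, hW, hfw ▸ hyW, hcl⟩

theorem ringKrullDim_stalk_congr {Y : Scheme.{u}} (y y' : Y) (h : y = y') :
    ringKrullDim (Y.presheaf.stalk y) = ringKrullDim (Y.presheaf.stalk y') := by
  subst h; rfl

theorem isGeomUnibranch_stalk_congr {Y : Scheme.{u}} (y y' : Y) (h : y = y')
    (hy : CAlg2.IsGeomUnibranch (Y.presheaf.stalk y)) :
    CAlg2.IsGeomUnibranch (Y.presheaf.stalk y') := by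
  subst h; exact hy

/-- core inequality: `dim O_{Y,y} + dim O_{X_y,x} ≤ dim O_{X,x}/𝔭` when the reduced closed
subscheme `closure {ξ}` (`ξ` the point of `𝔭`) is equidimensional over `Y` at `x` with the same
fibre dimension, `Y` being geometrically unibranch at `y`. -/
theorem add_le_ringKrullDim_quotient_core {X Y Z : Scheme.{u}} [IsLocallyNoetherian Y]
    (f : X ⟶ Y) [LocallyOfFiniteType f] (ι : Z ⟶ X) [IsClosedImmersion ι] (tx : Z)
    (𝔭 : Ideal (X.presheaf.stalk (ι.base tx))) [h𝔭 : 𝔭.IsPrime]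
    (hrange : Set.range ι.base ⊆ closure {X.fromSpecStalk (ι.base tx) ⟨𝔭, h𝔭⟩})
    (hg : IsEquidimAt (ι ≫ f) tx)
    (hy : CAlg2.IsGeomUnibranch (Y.presheaf.stalk (f.base (ι.base tx))))
    (hdim : FlatMor.fibreDimAt (ι ≫ f) tx = FlatMor.fibreDimAt f (ι.base tx)) :
    ringKrullDim (Y.presheaf.stalk (f.base (ι.base tx))) +
        ringKrullDim ((f.fiber (f.base (ι.base tx))).presheaf.stalk (f.asFiber (ι.base tx))) ≤
      ringKrullDim (X.presheaf.stalk (ι.base tx) ⧸ 𝔭) := by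
  haveI : IsLocallyNoetherian Z := LocallyOfFiniteType.isLocallyNoetherian (ι ≫ f)
  have key := ringKrullDim_stalk_eq_add_of_isOpenAt (ι ≫ f) tx (by
    intro z hz hzmax
    have hgw : (ι ≫ f).base (((ι ≫ f).fiberι ((ι ≫ f).base tx)).base z) = (ι ≫ f).base tx := by
      have : ((ι ≫ f).fiberι ((ι ≫ f).base tx)).base z ∈
          Set.range ((ι ≫ f).fiberι ((ι ≫ f).base tx)).base := ⟨z, rfl⟩
      rw [(ι ≫ f).range_fiberι] at this
      exact this
    have hwtx : ((ι ≫ f).fiberι ((ι ≫ f).base tx)).base z ⤳ tx := by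
      have := hz.map ((ι ≫ f).fiberι ((ι ≫ f).base tx)).continuous
      rwa [(ι ≫ f).fiberι_asFiber tx] at this
    have hequi := isEquidimAt_of_specializes_of_eq (ι ≫ f) tx _ hg hwtx hgw
    have hyw : CAlg2.IsGeomUnibranch
        (Y.presheaf.stalk ((ι ≫ f).base (((ι ≫ f).fiberι ((ι ≫ f).base tx)).base z))) :=
      isGeomUnibranch_stalk_congr _ _ hgw.symm hy
    have huo := isUnivOpenAt_of_isEquidimAt (ι ≫ f) _ hequi hyw
    exact Groth.Agent.Lib.Helper7.isOpenAt_of_isPullback (IsPullback.id_horiz (ι ≫ f)) _ huo _ rfl)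
  have h1 := ringKrullDim_stalk_le_quotient_of_isClosedImmersion ι tx 𝔭 hrange
  have h2 := fibreDimAt_eq_stalk_add_ptTrdeg (ι ≫ f) tx
  have h3 := fibreDimAt_eq_stalk_add_ptTrdeg f (ι.base tx)
  have h4 : ptTrdeg (ι ≫ f) tx = ptTrdeg f (ι.base tx) :=
    Groth.Agent.Lib.Helper4.DimFormula.ptTrdeg_comp_of_isPreimmersion ι f tx
  rw [hdim, h3, h4] at h2
  have h5 := withBot_enat_add_nat_cancel _ h2
  rw [key] at h1
  rw [h5]
  exact h1

/-- for `f` equidimensional at `x` over a geometrically unibranch point `y`, every minimal prime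
`𝔭` of `O_{X,x}` has `dim O_{Y,y} + dim O_{X_y,x} ≤ dim O_{X,x}/𝔭`. -/
theorem add_le_ringKrullDim_quotient_of_isEquidimAt {X Y : Scheme.{u}} [IsLocallyNoetherian Y]
    (f : X ⟶ Y) [LocallyOfFiniteType f] (x : X) (hf : IsEquidimAt f x)
    (hy : CAlg2.IsGeomUnibranch (Y.presheaf.stalk (f.base x)))
    (𝔭 : Ideal (X.presheaf.stalk x)) (h𝔭 : 𝔭 ∈ minimalPrimes (X.presheaf.stalk x)) :
    ringKrullDim (Y.presheaf.stalk (f.base x)) +
        ringKrullDim ((f.fiber (f.base x)).presheaf.stalk (f.asFiber x)) ≤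
      ringKrullDim (X.presheaf.stalk x ⧸ 𝔭) := by
  haveI h𝔭' : 𝔭.IsPrime := h𝔭.1.1
  have hξmax := (mem_minimalPrimes_iff_fromSpecStalk_maximal x 𝔭).mp h𝔭
  have hξx : X.fromSpecStalk x ⟨𝔭, h𝔭'⟩ ⤳ x := fromSpecStalk_specializes x _
  obtain ⟨e, hfe, hmax⟩ := Groth.Agent.Lib.Helper6.Fbc.forall_maximal_of_isEquidimAt f x hf
  obtain ⟨hξe, hfξ⟩ := hmax _ hξmax hξx
  have hpt : FlatMor.fibreDimAt f (X.fromSpecStalk x ⟨𝔭, h𝔭'⟩) =
      (ptTrdeg f (X.fromSpecStalk x ⟨𝔭, h𝔭'⟩) : WithBot ℕ∞) :=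
    fibreDimAt_eq_ptTrdeg_of_maximal f _ (fun y _ hy => hξmax y hy)
  have hbd := localDim_closure_inter_fibre_bounds f _ x hξx
  have hdim : FlatMor.localDim ↥(closure {X.fromSpecStalk x ⟨𝔭, h𝔭'⟩} ∩ f.base ⁻¹' {f.base x})
      ⟨x, hξx.mem_closure, rfl⟩ = (e : WithBot ℕ∞) := by
    refine le_antisymm (hbd.2 e hfe.le) ?_
    have := hbd.1 _ specializes_rfl hξx
    rw [← hpt, hξe] at this
    exact this
  have hpe : ptTrdeg f (X.fromSpecStalk x ⟨𝔭, h𝔭'⟩) = e := by
    rw [hξe] at hpt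
    exact_mod_cast hpt.symm
  obtain ⟨Z, ι, hι, hrange⟩ := exists_isClosedImmersion_range_eq X
    (closure {X.fromSpecStalk x ⟨𝔭, h𝔭'⟩}) isClosed_closure
  have hx : x ∈ Set.range ι.base := by rw [hrange]; exact hξx.mem_closure
  obtain ⟨tx, rfl⟩ := hx
  have hξr : X.fromSpecStalk (ι.base tx) ⟨𝔭, h𝔭'⟩ ∈ Set.range ι.base := by
    rw [hrange]; exact subset_closure rfl
  obtain ⟨tξ, htξ⟩ := hξr
  have hL := localDim_range_inter_fibre f ι _ hrange tx hξx.mem_closure
  haveI : IsLocallyNoetherian Z := LocallyOfFiniteType.isLocallyNoetherian (ι ≫ f)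
  have hge : FlatMor.fibreDimAt (ι ≫ f) tx = (e : WithBot ℕ∞) := by
    rw [← hL]; exact hdim
  have hg : IsEquidimAt (ι ≫ f) tx := by
    apply isEquidimAt_of_forall_maximal (ι ≫ f) tx e hge
    intro ζ hζmax _
    have h1 : ι.base ζ ∈ closure {X.fromSpecStalk (ι.base tx) ⟨𝔭, h𝔭'⟩} := by
      rw [← hrange]; exact ⟨ζ, rfl⟩
    have h2 : ι.base tξ ⤳ ι.base ζ := by
      rw [htξ]; exact specializes_iff_mem_closure.mpr h1
    have h3 : tξ ⤳ ζ := ι.isEmbedding.isInducing.specializes_iff.mp h2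
    have h4 : tξ = ζ := hζmax _ h3
    subst h4
    refine ⟨?_, ?_⟩
    · rw [Groth.Agent.Lib.Helper4.DimFormula.ptTrdeg_comp_of_isPreimmersion ι f tξ, htξ]
      exact hpe
    · intro y' hy'
      have : (ι ≫ f).base tξ = f.base (X.fromSpecStalk (ι.base tx) ⟨𝔭, h𝔭'⟩) := by
        rw [← htξ]; rfl
      rw [this] at hy' ⊢
      exact hfξ y' hy'
  exact add_le_ringKrullDim_quotient_core f ι tx 𝔭 hrange.le hg hy (hge.trans hfe.symm)

/-- **EGA IV 14.4.6, a) ⇒ equidimensionality of `O_{X,x}`**: if `f` is equidimensional at `x` and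
`Y` is geometrically unibranch at `f x`, then `O_{X,x}` is equidimensional, of dimension
`dim O_{Y,y} + dim O_{X_y,x}`. -/
theorem isEquidim_stalk_of_isEquidimAt_of_isGeomUnibranch {X Y : Scheme.{u}}
    [IsLocallyNoetherian Y] (f : X ⟶ Y) [LocallyOfFiniteType f] (x : X) (hf : IsEquidimAt f x)
    (hy : CAlg2.IsGeomUnibranch (Y.presheaf.stalk (f.base x))) :
    EGA4.IsEquidim (X.presheaf.stalk x) := by
  intro 𝔭 h𝔭
  have h1 := add_le_ringKrullDim_quotient_of_isEquidimAt f x hf hy 𝔭 h𝔭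
  have h2 := ringKrullDim_stalk_le_add_asFiber f x
  exact le_antisymm (ringKrullDim_quotient_le 𝔭) (h2.trans h1)

/-- a unibranch local ring is equidimensional (it has a single minimal prime). -/
theorem isEquidim_of_isUnibranch (A : Type u) [CommRing A] [IsLocalRing A]
    (hA : CAlg2.IsUnibranch A) : EGA4.IsEquidim A := by
  intro p hp
  haveI : IsDomain (A ⧸ nilradical A) := hA.1
  have hprime : (nilradical A).IsPrime := (Ideal.Quotient.isDomain_iff_prime _).mp inferInstance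
  haveI := hp.1.1
  have hle : p ≤ nilradical A := hp.2 ⟨hprime, bot_le⟩ (nilradical_le_prime p)
  exact Groth.Agent.Lib.Helper25.NilReg.ringKrullDim_quotient_of_le_nilradical p hle

/-- **EGA IV 14.4.6**: over a geometrically unibranch point of a locally Noetherian scheme,
equidimensionality of `f` at `x` is equivalent to: `O_{X,x}` is equidimensional and `f` is
(universally) open at the generic points of the components of the fibre through `x`. -/
theorem tfae_isEquidimAt_of_isGeomUnibranch {X Y : Scheme.{u}} [IsLocallyNoetherian Y] (f : X ⟶ Y)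
    [LocallyOfFiniteType f] (x : X) (hy : CAlg2.IsGeomUnibranch (Y.presheaf.stalk (f.base x))) :
    List.TFAE [EGA43.IsEquidimAt f x,
      EGA4.IsEquidim (X.presheaf.stalk x) ∧ (∀ z : ↥(f.fiber (f.base x)), f.asFiber x ∈ closure {z} →
        (∀ z' : ↥(f.fiber (f.base x)), z ∈ closure {z'} → z' = z) →
          EGA43.IsOpenAt f.base ((f.fiberι (f.base x)).base z)),
      EGA4.IsEquidim (X.presheaf.stalk x) ∧ (∀ z : ↥(f.fiber (f.base x)), f.asFiber x ∈ closure {z} →
        (∀ z' : ↥(f.fiber (f.base x)), z ∈ closure {z'} → z' = z) →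
          EGA43.IsUnivOpenAt f ((f.fiberι (f.base x)).base z))] := by
  tfae_have 1 → 3 := by
    intro hf
    refine ⟨isEquidim_stalk_of_isEquidimAt_of_isGeomUnibranch f x hf hy, ?_⟩
    intro z hz _
    have hgw : f.base ((f.fiberι (f.base x)).base z) = f.base x := by
      have : (f.fiberι (f.base x)).base z ∈ Set.range (f.fiberι (f.base x)).base := ⟨z, rfl⟩
      rw [f.range_fiberι] at this
      exact this
    have hwx : (f.fiberι (f.base x)).base z ⤳ x := by
      have := (specializes_iff_mem_closure.mpr hz).map (f.fiberι (f.base x)).continuous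
      rwa [f.fiberι_asFiber x] at this
    have hequi := isEquidimAt_of_specializes_of_eq f x _ hf hwx hgw
    exact isUnivOpenAt_of_isEquidimAt f _ hequi (isGeomUnibranch_stalk_congr _ _ hgw.symm hy)
  tfae_have 3 → 2 := by
    rintro ⟨h1, h2⟩
    refine ⟨h1, fun z hz hzmax => ?_⟩
    exact Groth.Agent.Lib.Helper7.isOpenAt_of_isPullback (IsPullback.id_horiz f) _
      (h2 z hz hzmax) _ rfl
  tfae_have 2 → 1 := by
    rintro ⟨h1, h2⟩
    exact Groth.Agent.S4918.result f x h1 (isEquidim_of_isUnibranch _ hy.1) h2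
  tfae_finish

end Groth.Agent.Lib.Helper6.Uni
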