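import Mathlib
import Groth.Prelude.Def_RelSpec
import Groth.Agent.Lib.Helper3GUCoverB
import Groth.Agent.Lib.Helper3GUCoverC
import Groth.Agent.Lib.Helper3GUCoverD
import Groth.Agent.Lib.Helper3GUCoverE
import Groth.Agent.Lib.Helper6UniG
set_option autoImplicit false
set_option linter.style.haveILetI false
universe u

namespace Groth.Agent.Lib.Helper3.GUCover

open CategoryTheory Limits AlgebraicGeometry TopologicalSpace Opposite
open Groth.Agent.Lib.Helper4.Unibranch

/-- geometric unibranchness of the localization gives that of the stalk -/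
theorem isGeomUnibranch_stalk_of_localization {Y : Scheme.{u}} (V : Y.Opens) (hV : IsAffineOpen V)
    (p : PrimeSpectrum Γ(Y, V))
    (h : CAlg2.IsGeomUnibranch (Localization.AtPrime p.asIdeal)) :
    CAlg2.IsGeomUnibranch (Y.presheaf.stalk (hV.fromSpec p)) := by
  have hy : hV.fromSpec p ∈ (V : Set Y) := by
    rw [← hV.range_fromSpec]; exact ⟨p, rfl⟩
  letI := TopCat.Presheaf.algebra_section_stalk Y.presheaf ⟨hV.fromSpec p, hy⟩
  haveI : IsLocalization p.asIdeal.primeCompl (Y.presheaf.stalk (hV.fromSpec p)) :=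
    hV.isLocalization_stalk' p hy
  let e : Localization.AtPrime p.asIdeal ≃ₐ[Γ(Y, V)] Y.presheaf.stalk (hV.fromSpec p) :=
    IsLocalization.algEquiv p.asIdeal.primeCompl _ _
  exact isGeomUnibranch_of_ringEquiv e.toRingEquiv h

set_option maxHeartbeats 1000000 in
/-- **Finite covers that are geometrically unibranch over a given point.** -/
theorem exists_finite_cover_geomUnibranch {Y : Scheme.{u}} [IsIntegral Y] [IsNoetherian Y] (y : Y) :
    ∃ (Y' : Scheme.{u}) (π : Y' ⟶ Y), IsFinite π ∧ Surjective π ∧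
      ∀ y' : Y', π.base y' = y → CAlg2.IsGeomUnibranch (Y'.presheaf.stalk y') := by
  obtain ⟨_, ⟨V, hV : IsAffineOpen V, rfl⟩, hyV, -⟩ :=
    Y.isBasis_affineOpens.exists_subset_of_mem_open (Set.mem_univ y) isOpen_univ
  haveI : Nonempty V := ⟨⟨y, hyV⟩⟩
  let A := Γ(Y, V)
  haveI : IsDomain A := inferInstance
  haveI : IsNoetherianRing A := IsLocallyNoetherian.component_noetherian ⟨V, hV⟩
  let p : Ideal A := (hV.primeIdealOf ⟨y, hyV⟩).asIdeal
  obtain ⟨T, hT⟩ := exists_separates A p
  let ν := (jV V hV).fromNormalization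
  let B := RelSpec.QCAlg.directImage ν
  let ρ : B.presheaf.obj (op V) →+* FractionRing A := (rho V hV).hom
  have hρinj : Function.Injective ρ := rho_injective V hV
  let TB : Set (B.presheaf.obj (op V)) :=
    ρ ⁻¹' ((fun t : integralClosure A (FractionRing A) => (t : FractionRing A)) '' (T : Set _))
  have hTB : TB.Finite := Set.Finite.preimage hρinj.injOn (T.finite_toSet.image _)
  have hX : ∀ x : Y, ∃ U : Y.Opens, x ∈ U ∧ NoetherianSpace (U : Set Y) :=
    fun x => ⟨⊤, trivial, inferInstance⟩
  obtain ⟨B', φ, hφinj, hft, hTφ⟩ :=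
    exists_finiteType_subalgebra_through_sections hX B ⟨V, hV⟩ TB hTB
  have hfin : IsFinite B'.π := isFinite_π_of_injective B' ν φ hφinj (fun U hU => hft ⟨U, hU⟩)
  have hstr_comm : B'.str.app (op V) ≫ φ.hom.app (op V) = ν.app V :=
    congrArg (fun α => α.app (op V)) φ.comm
  haveI := isIso_gammaAff B' V hV
  have hkey : ∀ a : A, ρ ((φ.hom.app (op V)).hom ((B'.str.app (op V)).hom a)) =
      algebraMap A (FractionRing A) a := by
    intro a
    have h2 : (φ.hom.app (op V)).hom ((B'.str.app (op V)).hom a) = (ν.app V).hom a := by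
      rw [← RingHom.comp_apply, ← CommRingCat.hom_comp, hstr_comm]
      rfl
    rw [h2]
    have h3 := congrArg (fun f => f.hom a) (app_rho V hV)
    exact h3
  refine ⟨B'.spec, B'.π, hfin, ?_, ?_⟩
  · -- surjectivity
    have hstr_inj : Function.Injective (B'.str.app (op V)).hom := by
      intro a b hab
      apply IsFractionRing.injective A (FractionRing A)
      rw [← hkey a, ← hkey b, hab]
    have hstr_int : (B'.str.app (op V)).hom.IsIntegral := by
      rw [← B'.π_app_gammaAff V hV, CommRingCat.hom_comp]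
      refine RingHom.IsIntegral.trans _ _ (IsIntegralHom.isIntegral_app B'.π V hV) ?_
      exact RingHom.isIntegral_of_surjective _
        (ConcreteCategory.bijective_of_isIso (B'.gammaAff V hV)).2
    have hcl : IsClosed (Set.range B'.π.base) := (B'.π.isClosedMap).isClosed_range
    have hV_sub : (V : Set Y) ⊆ Set.range B'.π.base := by
      intro v hv
      have hv' : v ∈ Set.range hV.fromSpec.base := by rw [hV.range_fromSpec]; exact hv
      obtain ⟨w, rfl⟩ := hv'
      obtain ⟨w', rfl⟩ := hstr_int.comap_surjective hstr_inj w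
      refine ⟨(B'.ι V hV).base w', ?_⟩
      rw [← Scheme.Hom.comp_apply, B'.ι_π V hV, Scheme.Hom.comp_apply]
      rfl
    have hd : Dense (V : Set Y) := V.isOpen.dense ⟨y, hyV⟩
    refine ⟨fun y₀ => ?_⟩
    have : closure (V : Set Y) ⊆ Set.range B'.π.base := hcl.closure_subset_iff.mpr hV_sub
    exact this (hd y₀)
  · intro y' hy'
    have hU' : IsAffineOpen (B'.π ⁻¹ᵁ V) := hV.preimage B'.π
    have hy'U : y' ∈ B'.π ⁻¹ᵁ V := by
      change B'.π.base y' ∈ V
      rw [hy']; exact hyV
    let A'' := Γ(B'.spec, B'.π ⁻¹ᵁ V)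
    letI : Algebra A A'' := (B'.π.app V).hom.toAlgebra
    let q'' := hU'.primeIdealOf ⟨y', hy'U⟩
    have hq : q''.asIdeal.comap (algebraMap A A'') = p := by
      have h1 := IsAffineOpen.comap_primeIdealOf_appLE (f := B'.π) (x := y') V hV (B'.π ⁻¹ᵁ V) hU'
        le_rfl hy'U
      have h2 : hV.primeIdealOf ⟨B'.π.base y', hy'U⟩ = hV.primeIdealOf ⟨y, hyV⟩ := by
        congr 1
        exact Subtype.ext hy'
      rw [h2] at h1
      have h3 := congrArg PrimeSpectrum.asIdeal h1
      rw [← Scheme.Hom.app_eq_appLE] at h3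
      exact h3
    let ιr : A'' →+* FractionRing A :=
      ρ.comp ((φ.hom.app (op V)).hom.comp (B'.gammaAff V hV).hom)
    have hιr : ∀ a : A, ιr (algebraMap A A'' a) = algebraMap A (FractionRing A) a := by
      intro a
      change ρ ((φ.hom.app (op V)).hom ((B'.gammaAff V hV).hom ((B'.π.app V).hom a))) = _
      have h1 : (B'.gammaAff V hV).hom ((B'.π.app V).hom a) = (B'.str.app (op V)).hom a := by
        rw [← RingHom.comp_apply, ← CommRingCat.hom_comp, B'.π_app_gammaAff V hV]
      rw [h1]
      exact hkey a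
    let ι : A'' →ₐ[A] FractionRing A := { ιr with commutes' := hιr }
    have hinj : Function.Injective ι := by
      have h0 : Function.Injective (ρ ∘ ((φ.hom.app (op V)).hom ∘ (B'.gammaAff V hV).hom)) := by
        refine Function.Injective.comp hρinj (Function.Injective.comp (hφinj V) ?_)
        exact (ConcreteCategory.bijective_of_isIso (B'.gammaAff V hV)).1
      exact h0
    have hint : ∀ a', IsIntegral A (ι a') := fun a' => isIntegral_rho V hV _
    have hTι : ∀ t ∈ T, (t : FractionRing A) ∈ Set.range ι := by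
      intro t ht
      obtain ⟨b, hb⟩ := exists_rho_eq V hV (t : FractionRing A) t.2
      have hbT : b ∈ TB := ⟨t, ht, hb.symm⟩
      obtain ⟨b', hb'⟩ := hTφ b hbT
      obtain ⟨b'', hb''⟩ := (ConcreteCategory.bijective_of_isIso (B'.gammaAff V hV)).2 b'
      refine ⟨b'', ?_⟩
      change ρ ((φ.hom.app (op V)).hom ((B'.gammaAff V hV).hom b'')) = _
      have : (B'.gammaAff V hV).hom b'' = b' := hb''
      rw [this, hb']
      exact hb
    have h := isGeomUnibranch_of_separates A p T hT A'' ι hinj hint hTι q''.asIdeal hq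
    have h2 := isGeomUnibranch_stalk_of_localization (B'.π ⁻¹ᵁ V) hU' q'' h
    exact Groth.Agent.Lib.Helper6.Uni.isGeomUnibranch_stalk_congr _ _
      (hU'.fromSpec_primeIdealOf ⟨y', hy'U⟩) h2

end Groth.Agent.Lib.Helper3.GUCover
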