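import Mathlib
import Groth.Prelude.Def_EGA43
import Groth.Agent.Lib.Helper7UnivOpen
import Groth.Agent.Lib.Helper11RedCl
set_option autoImplicit false
set_option linter.style.haveILetI false
universe u

namespace Groth.Agent.Lib.Helper3.GUCover

open CategoryTheory Limits AlgebraicGeometry TopologicalSpace Opposite

/-- family version of EGA IV 14.3.6 (pointwise openness descends along a finite jointly surjective
family of closed maps). -/
theorem isOpenAt_of_family {X Y : Scheme.{u}} {ι : Type*} [Finite ι] (Yi : ι → Scheme.{u})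
    (v : ∀ i, Yi i ⟶ Y) (hv : ∀ i, IsClosedMap (v i).base)
    (hsurj : ∀ y : Y, ∃ i, y ∈ Set.range (v i).base) (f : X ⟶ Y) (x : X)
    (h : ∀ i, ∀ x₁ : ↥(pullback f (v i)), (pullback.fst f (v i)).base x₁ = x →
      EGA43.IsOpenAt (pullback.snd f (v i)).base x₁) :
    EGA43.IsOpenAt f.base x := by
  intro U hU
  have hfib : ∀ i, ∀ y₁ : Yi i, (v i).base y₁ = f.base x →
      (v i).base ⁻¹' (f.base '' U) ∈ nhds y₁ := by
    intro i y₁ hy₁
    obtain ⟨x₁, hx₁, hx₁'⟩ := AlgebraicGeometry.Scheme.Pullback.exists_preimage_pullback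
      (f := f) (g := v i) x y₁ hy₁.symm
    have h1 := h i x₁ hx₁ ((pullback.fst f (v i)).base ⁻¹' U)
      ((pullback.fst f (v i)).continuous.continuousAt.preimage_mem_nhds (hx₁.symm ▸ hU))
    rw [hx₁'] at h1
    refine Filter.mem_of_superset h1 ?_
    rintro _ ⟨z, hz, rfl⟩
    refine ⟨(pullback.fst f (v i)).base z, hz, ?_⟩
    rw [← Scheme.Hom.comp_apply, pullback.condition, Scheme.Hom.comp_apply]
  have hcl : IsClosed (⋃ i, (v i).base '' (interior ((v i).base ⁻¹' (f.base '' U)))ᶜ) :=
    isClosed_iUnion_of_finite fun i => hv i _ isOpen_interior.isClosed_compl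
  have hmem : f.base x ∉ ⋃ i, (v i).base '' (interior ((v i).base ⁻¹' (f.base '' U)))ᶜ := by
    rw [Set.mem_iUnion]
    rintro ⟨i, y₁, hy₁, hy₁x⟩
    exact hy₁ (mem_interior_iff_mem_nhds.mpr (hfib i y₁ hy₁x))
  refine Filter.mem_of_superset ((isOpen_compl_iff.mpr hcl).mem_nhds hmem) ?_
  intro y hy
  obtain ⟨i, y₁, rfl⟩ := hsurj y
  by_contra hyS
  exact hy (Set.mem_iUnion.mpr ⟨i, y₁,
    fun hint => hyS (interior_subset (s := (v i).base ⁻¹' (f.base '' U)) hint), rfl⟩)

/-- family version of EGA IV 14.3.7. -/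
theorem isUnivOpenAt_of_family {X Y : Scheme.{u}} {ι : Type*} [Finite ι] (Yi : ι → Scheme.{u})
    (v : ∀ i, Yi i ⟶ Y) [∀ i, UniversallyClosed (v i)]
    (hsurj : ∀ y : Y, ∃ i, y ∈ Set.range (v i).base) (f : X ⟶ Y) (x : X)
    (h : ∀ i, ∀ x₁ : ↥(pullback f (v i)), (pullback.fst f (v i)).base x₁ = x →
      EGA43.IsUnivOpenAt (pullback.snd f (v i)) x₁) :
    EGA43.IsUnivOpenAt f x := by
  intro Y' t x' hx'
  refine isOpenAt_of_family (fun i => pullback (v i) t) (fun i => pullback.snd (v i) t)
    (fun i => (pullback.snd (v i) t).isClosedMap) ?_ (pullback.snd f t) x' ?_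
  · intro y'
    obtain ⟨i, y₁, hy₁⟩ := hsurj (t.base y')
    obtain ⟨z, -, hz⟩ := AlgebraicGeometry.Scheme.Pullback.exists_preimage_pullback
      (f := v i) (g := t) y₁ y' hy₁
    exact ⟨i, z, hz⟩
  intro i x₁ hx₁
  have sqL : IsPullback (pullback.fst (pullback.snd f t) (pullback.snd (v i) t))
      (pullback.snd (pullback.snd f t) (pullback.snd (v i) t)) (pullback.snd f t)
      (pullback.snd (v i) t) :=
    IsPullback.of_hasPullback _ _
  have sqR : IsPullback (pullback.fst f t) (pullback.snd f t) f t := IsPullback.of_hasPullback _ _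
  have sqOuter : IsPullback
      (pullback.fst (pullback.snd f t) (pullback.snd (v i) t) ≫ pullback.fst f t)
      (pullback.snd (pullback.snd f t) (pullback.snd (v i) t)) f (pullback.snd (v i) t ≫ t) :=
    sqL.paste_horiz sqR
  let a : pullback (pullback.snd f t) (pullback.snd (v i) t) ⟶ pullback f (v i) :=
    pullback.lift (pullback.fst (pullback.snd f t) (pullback.snd (v i) t) ≫ pullback.fst f t)
      (pullback.snd (pullback.snd f t) (pullback.snd (v i) t) ≫ pullback.fst (v i) t)
      (by rw [Category.assoc, Category.assoc, pullback.condition (f := v i) (g := t)]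
          exact sqOuter.w)
  have ha1 : a ≫ pullback.fst f (v i) =
      pullback.fst (pullback.snd f t) (pullback.snd (v i) t) ≫ pullback.fst f t :=
    pullback.lift_fst _ _ _
  have ha2 : a ≫ pullback.snd f (v i) =
      pullback.snd (pullback.snd f t) (pullback.snd (v i) t) ≫ pullback.fst (v i) t :=
    pullback.lift_snd _ _ _
  have sqOuter' : IsPullback (a ≫ pullback.fst f (v i))
      (pullback.snd (pullback.snd f t) (pullback.snd (v i) t)) f (pullback.fst (v i) t ≫ v i) := by
    rw [ha1, pullback.condition (f := v i) (g := t)]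
    exact sqOuter
  have sq : IsPullback a (pullback.snd (pullback.snd f t) (pullback.snd (v i) t))
      (pullback.snd f (v i)) (pullback.fst (v i) t) :=
    IsPullback.of_right sqOuter' ha2 (IsPullback.of_hasPullback f (v i))
  have hax : (pullback.fst f (v i)).base (a.base x₁) = x := by
    rw [← Scheme.Hom.comp_apply, ha1, Scheme.Hom.comp_apply, hx₁, hx']
  exact Groth.Agent.Lib.Helper7.isOpenAt_of_isPullback sq (a.base x₁) (h i _ hax) x₁ rfl

/-- a closed irreducible subset carries an integral closed subscheme structure. -/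
theorem exists_integral_closedImmersion {Y : Scheme.{u}} (Z : Set Y) (hZc : IsClosed Z)
    (hZi : IsIrreducible Z) :
    ∃ (W : Scheme.{u}) (i : W ⟶ Y), IsClosedImmersion i ∧ IsIntegral W ∧ Set.range i.base = Z := by
  let Zc : Closeds Y := ⟨Z, hZc⟩
  refine ⟨(Scheme.IdealSheafData.vanishingIdeal Zc).subscheme,
    (Scheme.IdealSheafData.vanishingIdeal Zc).subschemeι, inferInstance, ?_,
    Groth.Agent.Lib.Helper11RedCl.range_subschemeι_vanishingIdeal Zc⟩
  have hirr : IsIrreducible
      (Set.range (Scheme.IdealSheafData.vanishingIdeal Zc).subschemeι.base) := by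
    rw [Groth.Agent.Lib.Helper11RedCl.range_subschemeι_vanishingIdeal]
    exact hZi
  haveI : IrreducibleSpace
      ↥(Set.range (Scheme.IdealSheafData.vanishingIdeal Zc).subschemeι.base) :=
    Subtype.irreducibleSpace hirr
  haveI : IrreducibleSpace ↥(Scheme.IdealSheafData.vanishingIdeal Zc).subscheme :=
    ((Scheme.IdealSheafData.vanishingIdeal Zc).subschemeι.isEmbedding.toHomeomorph).irreducibleSpace_iff.mpr
      inferInstance
  haveI : IsReduced (Scheme.IdealSheafData.vanishingIdeal Zc).subscheme :=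
    Groth.Agent.Lib.Helper11RedCl.isReduced_subscheme_vanishingIdeal Zc
  exact isIntegral_of_irreducibleSpace_of_isReduced _

end Groth.Agent.Lib.Helper3.GUCover
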