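import Mathlib
import Groth.Prelude.Def_EGA43
import Groth.Agent.Lib.Helper3GUCoverF
import Groth.Agent.Lib.Helper3GUCoverG
import Groth.Agent.S4934
set_option autoImplicit false
set_option linter.style.haveILetI false
universe u

namespace Groth.Agent.Lib.Helper3.GUCover

open CategoryTheory Limits AlgebraicGeometry TopologicalSpace Opposite

/-- for each irreducible component `Z` of a Noetherian scheme `Y` and each point `y`, a finite
morphism whose image contains `Z` and whose source is geometrically unibranch over `y`. -/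
theorem exists_finite_cover_component {Y : Scheme.{u}} [IsNoetherian Y] (y : Y) (Z : Set Y)
    (hZ : Z ∈ irreducibleComponents Y) :
    ∃ (Z' : Scheme.{u}) (π : Z' ⟶ Y), IsFinite π ∧ Z ⊆ Set.range π.base ∧
      ∀ z' : Z', π.base z' = y → CAlg2.IsGeomUnibranch (Z'.presheaf.stalk z') := by
  obtain ⟨W, i, hi, hW, hr⟩ := exists_integral_closedImmersion Z
    (isClosed_of_mem_irreducibleComponents Z hZ) hZ.1
  haveI : IsLocallyNoetherian W := LocallyOfFiniteType.isLocallyNoetherian i
  haveI : CompactSpace W := QuasiCompact.compactSpace_of_compactSpace i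
  haveI : IsNoetherian W := { }
  by_cases hy : y ∈ Z
  · rw [← hr] at hy
    obtain ⟨w, hw⟩ := hy
    obtain ⟨Y', π, hπ, hs, hgu⟩ := exists_finite_cover_geomUnibranch w
    refine ⟨Y', π ≫ i, inferInstance, ?_, ?_⟩
    · rw [← hr]
      rintro _ ⟨w', rfl⟩
      obtain ⟨y', rfl⟩ := hs.surj w'
      exact ⟨y', by simp⟩
    · intro z' hz'
      refine hgu z' ?_
      apply i.isEmbedding.injective
      rw [hw, ← hz', Scheme.Hom.comp_apply]
  · refine ⟨W, i, inferInstance, hr.ge, ?_⟩
    intro z' hz'
    exact absurd (hr ▸ ⟨z', hz'⟩ : y ∈ Z) hy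

/-- maximal points of fibres lift along finite base change. -/
theorem maximal_of_finite_baseChange {X Y Z' : Scheme.{u}} (f : X ⟶ Y) (π : Z' ⟶ Y) [IsFinite π]
    (x : X) (hmax : ∀ x', f.base x' = f.base x → x ∈ closure {x'} → x' = x)
    (x₁ : ↥(pullback f π)) (hx₁ : (pullback.fst f π).base x₁ = x) :
    ∀ x'' : ↥(pullback f π), (pullback.snd f π).base x'' = (pullback.snd f π).base x₁ →
      x₁ ∈ closure {x''} → x'' = x₁ := by
  intro x'' hb hcl
  have hsp : x'' ⤳ x₁ := specializes_iff_mem_closure.mpr hcl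
  have hsp' : (pullback.fst f π).base x'' ⤳ x := by
    rw [← hx₁]; exact hsp.map (pullback.fst f π).continuous
  have hfx : f.base ((pullback.fst f π).base x'') = f.base x := by
    rw [← hx₁, ← Scheme.Hom.comp_apply, ← Scheme.Hom.comp_apply, pullback.condition,
      Scheme.Hom.comp_apply, Scheme.Hom.comp_apply, hb]
  have hax : (pullback.fst f π).base x'' = x :=
    hmax _ hfx (specializes_iff_mem_closure.mp hsp')
  have hdisc : _root_.IsDiscrete ((pullback.fst f π).base ⁻¹' {x}) :=
    (pullback.fst f π).isDiscrete_preimage_singleton x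
  obtain ⟨u, hu, hus⟩ := isDiscrete_iff_forall_mem_exists_isOpen.mp hdisc x₁ hx₁
  have h1 : x₁ ∈ u := by
    have : x₁ ∈ u ∩ (pullback.fst f π).base ⁻¹' {x} := by rw [hus]; rfl
    exact this.1
  have h2 : x'' ∈ u := hsp.mem_open hu h1
  have h3 : x'' ∈ u ∩ (pullback.fst f π).base ⁻¹' {x} := ⟨h2, hax⟩
  rw [hus] at h3
  exact h3

/-- **EGA IV 14.4.9 (⇐)**: universal openness at a maximal point of a fibre over a Noetherian base
can be tested after finite base changes. -/
theorem isUnivOpenAt_of_finite_baseChange {X Y : Scheme.{u}} [IsNoetherian Y] (f : X ⟶ Y)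
    [LocallyOfFiniteType f] (x : X)
    (hmax : ∀ x', f.base x' = f.base x → x ∈ closure {x'} → x' = x)
    (H : ∀ (Y' : Scheme.{u}) (g : Y' ⟶ Y) [IsFinite g], ∀ x' : ↥(pullback f g),
      (pullback.fst f g).base x' = x → EGA43.IsOpenAt (pullback.snd f g).base x') :
    EGA43.IsUnivOpenAt f x := by
  classical
  have hfin : (irreducibleComponents Y).Finite := NoetherianSpace.finite_irreducibleComponents
  haveI : Finite ↥(irreducibleComponents Y) := hfin.to_subtype
  choose Z' π hπ hZ hgu using fun Z : ↥(irreducibleComponents Y) =>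
    exists_finite_cover_component (f.base x) Z.1 Z.2
  refine isUnivOpenAt_of_family Z' π ?_ f x ?_
  · intro y₀
    exact ⟨⟨irreducibleComponent y₀, irreducibleComponent_mem_irreducibleComponents y₀⟩,
      hZ _ mem_irreducibleComponent⟩
  intro Z x₁ hx₁
  haveI : IsLocallyNoetherian (Z' Z) := LocallyOfFiniteType.isLocallyNoetherian (π Z)
  have hmax' := maximal_of_finite_baseChange f (π Z) x hmax x₁ hx₁
  have hfx : (π Z).base ((pullback.snd f (π Z)).base x₁) = f.base x := by
    rw [← hx₁, ← Scheme.Hom.comp_apply, ← Scheme.Hom.comp_apply, pullback.condition]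
  have hy := hgu Z _ hfx
  exact ((Groth.Agent.S4934.result (pullback.snd f (π Z)) x₁ hmax' hy).out 3 0).mp (H _ (π Z) x₁ hx₁)

end Groth.Agent.Lib.Helper3.GUCover
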