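import Mathlib
import Groth.Agent.Lib.Helper3GFRb

/-!
Helper library (helper3): generic flatness + finite presentation over a reduced base: scheme-level
criterion for `P (f ∣_ U)` and ring-level good data.
-/

set_option linter.style.haveILetI false

set_option autoImplicit false
universe u
open CategoryTheory CategoryTheory.Limits AlgebraicGeometry TopologicalSpace

namespace Groth.Agent.Lib.Helper3.GenFlatRed

-- A property of morphisms induced by a ring hom property holds for the restriction `f ∣_ U` as soon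
-- as every point over `U` has an affine neighbourhood `W` inside `f⁻¹ U`, mapping into an affine
-- open `V` of the target, on which the ring map has the property.
theorem restrict_of_forall_exists_appLE {P : MorphismProperty Scheme.{u}}
    {Q : ∀ {R S : Type u} [CommRing R] [CommRing S], (R →+* S) → Prop}
    [HasRingHomProperty P Q] [P.IsStableUnderBaseChange]
    (hQ : RingHom.StableUnderCompositionWithLocalizationAwaySource Q)
    {X S : Scheme.{u}} (f : X ⟶ S) (U : S.Opens)
    (H : ∀ x : X, f x ∈ U → ∃ (V : S.Opens) (W : X.Opens) (_ : IsAffineOpen V)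
      (_ : IsAffineOpen W) (e : W ≤ f ⁻¹ᵁ V), x ∈ W ∧ W ≤ f ⁻¹ᵁ U ∧ Q (f.appLE V W e).hom) :
    P (f ∣_ U) := by
  apply P.of_postcomp (W' := @IsOpenImmersion) (f ∣_ U) U.ι inferInstance
  rw [morphismRestrict_ι]
  rw [HasRingHomProperty.iff_exists_appLE (P := P) hQ]
  intro x
  obtain ⟨V, W, hV, hW, e, hxW, hWU, hq⟩ := H x.1 x.2
  have hrange : W ≤ (f ⁻¹ᵁ U).ι.opensRange := by
    rw [Scheme.Opens.opensRange_ι]; exact hWU
  have himg : (f ⁻¹ᵁ U).ι ''ᵁ ((f ⁻¹ᵁ U).ι ⁻¹ᵁ W) = W := by
    rw [Scheme.Hom.image_preimage_eq_opensRange_inf]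
    exact inf_eq_right.mpr hrange
  have hW' : IsAffineOpen ((f ⁻¹ᵁ U).ι ⁻¹ᵁ W) := by
    rw [← (f ⁻¹ᵁ U).ι.isAffineOpen_iff_of_isOpenImmersion, himg]
    exact hW
  have e' : (f ⁻¹ᵁ U).ι ⁻¹ᵁ W ≤ ((f ⁻¹ᵁ U).ι ≫ f) ⁻¹ᵁ V := by
    intro y hy
    exact e hy
  refine ⟨⟨V, hV⟩, ⟨(f ⁻¹ᵁ U).ι ⁻¹ᵁ W, hW'⟩, hxW, e', ?_⟩
  have hcomp : ((f ⁻¹ᵁ U).ι ≫ f).appLE V ((f ⁻¹ᵁ U).ι ⁻¹ᵁ W) e' =
      f.appLE V W e ≫ (f ⁻¹ᵁ U).ι.app W := by
    rw [Scheme.Hom.app_eq_appLE, Scheme.Hom.appLE_comp_appLE]
  haveI : IsIso ((f ⁻¹ᵁ U).ι.app W) := Scheme.Hom.isIso_app _ _ hrange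
  change Q (((f ⁻¹ᵁ U).ι ≫ f).appLE V ((f ⁻¹ᵁ U).ι ⁻¹ᵁ W) e').hom
  rw [hcomp, CommRingCat.hom_comp]
  exact ((HasRingHomProperty.isLocal_ringHomProperty P).respectsIso.cancel_right_isIso _
    ((f ⁻¹ᵁ U).ι.app W)).mpr hq

section ring

open Groth.Agent.Lib.Helper3.GenFreeRed Groth.Agent.Lib.Helper2.GenFree TensorProduct

-- data making `B` free and finitely presented over `R` after inverting `a`
def GoodData (R : Type u) [CommRing R] (a : R) (B : Type u) [CommRing B] [Algebra R B] : Prop :=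
  WFreeAway R a B ∧
    ∃ (n : ℕ) (φ : MvPolynomial (Fin n) R →ₐ[R] B) (G : Finset (MvPolynomial (Fin n) R)),
      Function.Surjective φ ∧ (∀ g ∈ G, φ g = 0) ∧
      ∀ p, φ p = 0 → ∃ k : ℕ, a ^ k • p ∈ Ideal.span (G : Set (MvPolynomial (Fin n) R))

theorem GoodData.of_dvd {R : Type u} [CommRing R] {a a' : R} {B : Type u} [CommRing B]
    [Algebra R B] (h : GoodData R a B) (hd : a ∣ a') : GoodData R a' B := by
  obtain ⟨hfree, n, φ, G, hφ, hG0, hker⟩ := h
  refine ⟨hfree.of_dvd hd, n, φ, G, hφ, hG0, fun p hp => ?_⟩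
  obtain ⟨c, rfl⟩ := hd
  obtain ⟨k, hk⟩ := hker p hp
  refine ⟨k, ?_⟩
  rw [mul_pow, mul_comm, mul_smul]
  rw [MvPolynomial.smul_eq_C_mul (a := c ^ k)]
  exact Ideal.mul_mem_left _ _ hk

theorem exists_goodData (R : Type u) [CommRing R] [IsReduced R] (B : Type u) [CommRing B]
    [Algebra R B] [Algebra.FiniteType R B] (h : R) (hh : h ≠ 0) :
    ∃ a : R, a ≠ 0 ∧ h ∣ a ∧ GoodData R a B := by
  obtain ⟨a, ha, hd, hS, -, hpres, -⟩ := exists_freeAway_reduced R B B h hh
  exact ⟨a, ha, hd, hS, hpres⟩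

-- common refinement over a finite family
theorem exists_common {R : Type*} [CommRing R] {ι : Type*} [Finite ι] (P : ι → R → Prop)
    (hmono : ∀ i a a', P i a → a ∣ a' → P i a')
    (hex : ∀ i, ∀ h : R, h ≠ 0 → ∃ a : R, a ≠ 0 ∧ h ∣ a ∧ P i a) (h : R) (hh : h ≠ 0) :
    ∃ a : R, a ≠ 0 ∧ h ∣ a ∧ ∀ i, P i a := by
  classical
  haveI := Fintype.ofFinite ι
  suffices H : ∀ s : Finset ι, ∃ a : R, a ≠ 0 ∧ h ∣ a ∧ ∀ i ∈ s, P i a by
    obtain ⟨a, ha, hd, hP⟩ := H Finset.univ
    exact ⟨a, ha, hd, fun i => hP i (Finset.mem_univ i)⟩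
  intro s
  induction s using Finset.induction_on with
  | empty => exact ⟨h, hh, dvd_rfl, fun i hi => absurd hi (Finset.notMem_empty i)⟩
  | insert i s _ ih =>
    obtain ⟨a₁, ha₁, hd₁, hP₁⟩ := ih
    obtain ⟨a₂, ha₂, hd₂, hP₂⟩ := hex i a₁ ha₁
    refine ⟨a₂, ha₂, hd₁.trans hd₂, fun j hj => ?_⟩
    rcases Finset.mem_insert.mp hj with rfl | hj
    · exact hP₂
    · exact hmono j a₁ a₂ (hP₁ j hj) hd₂

theorem flat_of_wfreeAway {R : Type*} [CommRing R] {M : Type*} [AddCommGroup M] [Module R M]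
    {f : R} (h : WFreeAway R f M) {M' : Type*} [AddCommGroup M'] [Module R M'] (g : M →ₗ[R] M')
    [IsLocalizedModule (Submonoid.powers f) g] : Module.Flat R M' := by
  let _ : Module (Localization.Away f) M' :=
    (IsLocalizedModule.iso (Submonoid.powers f) g).symm.toAddEquiv.module (Localization.Away f)
  have : IsScalarTower R (Localization.Away f) M' :=
    (IsLocalizedModule.iso (Submonoid.powers f) g).symm.isScalarTower (Localization.Away f)
  have : Module.Free (Localization.Away f) M' := h.free (Localization.Away f) g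
  have : Module.Flat R (Localization.Away f) := IsLocalization.flat _ (Submonoid.powers f)
  exact Module.Flat.trans R (Localization.Away f) M'

theorem GoodData.flat {R B B' : Type u} [CommRing R] [CommRing B]
    [CommRing B'] [Algebra R B] [Algebra B B'] [Algebra R B'] [IsScalarTower R B B'] {a : R}
    (h : GoodData R a B) [hloc : IsLocalization.Away (algebraMap R B a) B'] :
    Module.Flat R B' := by
  have : IsLocalization (Algebra.algebraMapSubmonoid B (Submonoid.powers a)) B' := by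
    rw [Algebra.algebraMapSubmonoid_powers]
    exact hloc
  exact flat_of_wfreeAway h.1 (IsScalarTower.toAlgHom R B B').toLinearMap

theorem GoodData.finitePresentation {R B B' : Type u} [CommRing R] [CommRing B]
    [CommRing B'] [Algebra R B] [Algebra B B'] [Algebra R B'] [IsScalarTower R B B'] {a : R}
    (h : GoodData R a B) [hloc : IsLocalization.Away (algebraMap R B a) B'] :
    Algebra.FinitePresentation R B' := by
  obtain ⟨-, n, φ, G, hφ, hG0, hker⟩ := h
  haveI h1 : Algebra.FinitePresentation (Localization.Away a) (Localization.Away a ⊗[R] B) :=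
    finitePresentation_tensor φ hφ a G hG0 hker (Localization.Away a)
  haveI h2 : Algebra.FinitePresentation R (Localization.Away a) :=
    IsLocalization.Away.finitePresentation a
  have h3 : Algebra.FinitePresentation R (Localization.Away a ⊗[R] B) :=
    Algebra.FinitePresentation.trans R (Localization.Away a) _
  letI : Algebra B (Localization.Away a ⊗[R] B) := Algebra.TensorProduct.rightAlgebra
  haveI : IsLocalization.Away (algebraMap R B a) (Localization.Away a ⊗[R] B) :=
    IsLocalization.Away.tensorRight a (Localization.Away a)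
  let e : (Localization.Away a ⊗[R] B) ≃ₐ[B] B' :=
    IsLocalization.algEquiv (Submonoid.powers (algebraMap R B a)) _ _
  exact Algebra.FinitePresentation.equiv (e.restrictScalars R)

end ring

end Groth.Agent.Lib.Helper3.GenFlatRed
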