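import Mathlib
import Groth.Agent.Lib.Helper2FibreCrit
import Groth.Agent.Lib.Helper4DimFormulaAQ
import Groth.Agent.Lib.Helper3LocDimBC
set_option autoImplicit false
set_option linter.style.haveILetI false
universe u

/-!
# Going down in flat families and fibre dimension (helper3)

* `exists_prime_le_algebraicIndependent`: flat Noetherian `A → B`, primes `P ≤ Q`, `t` algebraically
  independent mod `Q` over `A/(Q ∩ A)`: there is a prime `P₀ ≤ P` over `P ∩ A` modulo which `t` stays
  algebraically independent (fibre criterion of flatness for `A[T] → B` at `Q` + going down).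
* `ptTrdeg_le_fibreDimAt_of_specializes_noeth`: flat, locally of finite type over Noetherian base,
  `x' ⤳ x` ⇒ `trdeg κ(x)/κ(f x) ≤ dim_{x'} X_{f x'}`.
* `maximal_of_isPullback`: maximal points of fibres map to maximal points under base change projections.
-/

namespace Groth.Agent.Lib.Helper3.GoingDownFib



open MvPolynomial in
theorem isPrime_map_C_mv {A : Type u} [CommRing A] (σ : Type*) (p : Ideal A) [p.IsPrime] :
    (Ideal.map (C : A →+* MvPolynomial σ A) p).IsPrime := by
  have h := MvPolynomial.ker_map (σ := σ) (Ideal.Quotient.mk p)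
  rw [Ideal.mk_ker] at h
  rw [← h]
  exact RingHom.ker_isPrime _

open MvPolynomial in
theorem comap_C_map_C {A : Type u} [CommRing A] (σ : Type*) (p : Ideal A) :
    (Ideal.map (C : A →+* MvPolynomial σ A) p).comap (C : A →+* MvPolynomial σ A) = p := by
  classical
  ext a
  rw [Ideal.mem_comap, MvPolynomial.mem_map_C_iff]
  constructor
  · intro h
    have := h 0
    simpa using this
  · intro h m
    rw [coeff_C]
    split_ifs
    · exact h
    · exact p.zero_mem

/-- algebraic independence of `t` modulo a prime `R` over `A/(R ∩ A)` in terms of the contraction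
of `R` to the polynomial ring. -/
theorem algebraicIndependent_mk_iff {A B : Type u} [CommRing A] [CommRing B] [Algebra A B]
    {d : ℕ} (t : Fin d → B) (R : Ideal B) [R.IsPrime] :
    AlgebraicIndependent (A ⧸ R.under A) (fun i => Ideal.Quotient.mk R (t i)) ↔
      R.comap (MvPolynomial.aeval (R := A) t).toRingHom =
        Ideal.map (MvPolynomial.C : A →+* MvPolynomial (Fin d) A) (R.under A) := by
  set r := R.under A with hr
  have hcomp : ∀ g : MvPolynomial (Fin d) A,
      MvPolynomial.aeval (R := A ⧸ r) (fun i => Ideal.Quotient.mk R (t i))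
        (MvPolynomial.map (Ideal.Quotient.mk r) g) =
      Ideal.Quotient.mk R (MvPolynomial.aeval (R := A) t g) := by
    intro g
    induction g using MvPolynomial.induction_on with
    | C a =>
      simp only [MvPolynomial.map_C, MvPolynomial.aeval_C]
      rfl
    | add p q hp hq => simp only [map_add, hp, hq]
    | mul_X p i hp => simp only [map_mul, hp, MvPolynomial.map_X, MvPolynomial.aeval_X]
  have hker := MvPolynomial.ker_map (σ := Fin d) (Ideal.Quotient.mk r)
  rw [Ideal.mk_ker] at hker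
  rw [← hker]
  constructor
  · intro h
    have hinj : Function.Injective _ := h
    ext g
    rw [Ideal.mem_comap, RingHom.mem_ker]
    constructor
    · intro hg
      apply hinj
      rw [hcomp, map_zero]
      exact Ideal.Quotient.eq_zero_iff_mem.mpr hg
    · intro hg
      have := hcomp g
      rw [hg, map_zero] at this
      exact Ideal.Quotient.eq_zero_iff_mem.mp this.symm
  · intro h
    rw [algebraicIndependent_iff_injective_aeval, injective_iff_map_eq_zero]
    intro g hg
    obtain ⟨g, rfl⟩ := MvPolynomial.map_surjective _ Ideal.Quotient.mk_surjective g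
    rw [hcomp] at hg
    have h1 : g ∈ R.comap (MvPolynomial.aeval (R := A) t).toRingHom := by
      rw [Ideal.mem_comap]
      exact Ideal.Quotient.eq_zero_iff_mem.mp hg
    rw [h] at h1
    exact h1


/-- **Going down with transcendence degree**: flat `A → B` Noetherian, primes `P ≤ Q` of `B`,
`t` algebraically independent modulo `Q`; then there is a prime `P₀ ≤ P` over the same prime of `A`
modulo which `t` stays algebraically independent. -/
theorem exists_prime_le_algebraicIndependent {A B : Type u} [CommRing A] [CommRing B]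
    [IsNoetherianRing A] [IsNoetherianRing B] [Algebra A B] [Module.Flat A B]
    (P Q : Ideal B) [P.IsPrime] [Q.IsPrime] (hPQ : P ≤ Q) {d : ℕ} (t : Fin d → B)
    (ht : AlgebraicIndependent (A ⧸ Q.under A) (fun i => Ideal.Quotient.mk Q (t i))) :
    ∃ P₀ : Ideal B, ∃ _ : P₀.IsPrime, P₀ ≤ P ∧ P₀.under A = P.under A ∧
      AlgebraicIndependent (A ⧸ P₀.under A) (fun i => Ideal.Quotient.mk P₀ (t i)) := by
  classical
  let A' := MvPolynomial (Fin d) A
  let φ : A' →ₐ[A] B := MvPolynomial.aeval t
  letI algA'B : Algebra A' B := φ.toRingHom.toAlgebra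
  haveI : IsScalarTower A A' B := IsScalarTower.of_algebraMap_eq (fun a => (φ.commutes a).symm)
  set q : Ideal A := Q.under A with hq
  set p : Ideal A := P.under A with hp
  have hpq : p ≤ q := Ideal.comap_mono hPQ
  let 𝔮 : Ideal A' := Q.under A'
  have h𝔮 : 𝔮 = Ideal.map MvPolynomial.C q := (algebraicIndependent_mk_iff t Q).mp ht
  haveI : 𝔮.IsPrime := Ideal.IsPrime.under A' Q
  haveI : 𝔮.LiesOver q := ⟨by rw [hq, Ideal.under_under]⟩
  haveI : Q.LiesOver 𝔮 := ⟨rfl⟩
  haveI : Q.LiesOver q := ⟨rfl⟩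
  letI := Localization.AtPrime.algebraOfLiesOver q 𝔮
  letI := Localization.AtPrime.algebraOfLiesOver 𝔮 Q
  letI := Localization.AtPrime.algebraOfLiesOver q Q
  haveI : IsLocalHom (algebraMap (Localization.AtPrime q) (Localization.AtPrime 𝔮)) := by
    rw [RingHom.algebraMap_toAlgebra]
    exact Localization.isLocalHom_localRingHom q 𝔮 (algebraMap A A') Ideal.LiesOver.over
  haveI : IsLocalHom (algebraMap (Localization.AtPrime 𝔮) (Localization.AtPrime Q)) := by
    rw [RingHom.algebraMap_toAlgebra]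
    exact Localization.isLocalHom_localRingHom 𝔮 Q (algebraMap A' B) Ideal.LiesOver.over
  haveI : IsScalarTower (Localization.AtPrime q) (Localization.AtPrime 𝔮) (Localization.AtPrime Q) :=
    inferInstance
  haveI : Module.Flat (Localization.AtPrime q) (Localization.AtPrime Q) := inferInstance
  -- the maximal ideal of `A_q` generates the maximal ideal of `A'_𝔮`
  have hmax : (IsLocalRing.maximalIdeal (Localization.AtPrime q)).map
      (algebraMap (Localization.AtPrime q) (Localization.AtPrime 𝔮)) =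
      IsLocalRing.maximalIdeal (Localization.AtPrime 𝔮) := by
    rw [← Localization.AtPrime.map_eq_maximalIdeal, ← Localization.AtPrime.map_eq_maximalIdeal,
      Ideal.map_map, ← IsScalarTower.algebraMap_eq]
    have h1 : Ideal.map (algebraMap A' (Localization.AtPrime 𝔮)) 𝔮 =
        Ideal.map (algebraMap A' (Localization.AtPrime 𝔮)) (Ideal.map MvPolynomial.C q) :=
      congrArg _ h𝔮
    rw [h1, Ideal.map_map, IsScalarTower.algebraMap_eq A A' (Localization.AtPrime 𝔮)]
    rfl
  haveI : IsNoetherianRing (Localization.AtPrime q) :=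
    IsLocalization.isNoetherianRing q.primeCompl _ inferInstance
  haveI : IsNoetherianRing (Localization.AtPrime 𝔮) :=
    IsLocalization.isNoetherianRing 𝔮.primeCompl _ inferInstance
  haveI : IsNoetherianRing (Localization.AtPrime Q) :=
    IsLocalization.isNoetherianRing Q.primeCompl _ inferInstance
  have hflat : Module.Flat (Localization.AtPrime 𝔮) (Localization.AtPrime Q) := by
    have hcrit := Groth.Agent.Lib.Helper2.FibreCrit.fibre_criterion_quot
      (A := Localization.AtPrime q) (B := Localization.AtPrime 𝔮) (C := Localization.AtPrime Q)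
      (M := Localization.AtPrime Q)
    refine (hcrit.mp ⟨inferInstance, ?_⟩).2
    rw [hmax]
    letI : Field (Localization.AtPrime 𝔮 ⧸ IsLocalRing.maximalIdeal (Localization.AtPrime 𝔮)) :=
      Ideal.Quotient.field _
    infer_instance
  -- the prime `p A'` of `A'`
  let 𝔭 : Ideal A' := Ideal.map MvPolynomial.C p
  haveI h𝔭prime : 𝔭.IsPrime := isPrime_map_C_mv (Fin d) p
  have h𝔭𝔮 : 𝔭 ≤ 𝔮 := by rw [h𝔮]; exact Ideal.map_mono hpq
  have h𝔭P : 𝔭 ≤ P.under A' := by
    refine Ideal.map_le_iff_le_comap.mpr fun a ha => ?_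
    rw [Ideal.mem_comap]
    change algebraMap A' B (MvPolynomial.C a) ∈ P
    have h1 : algebraMap A' B (MvPolynomial.C a) = algebraMap A B a := by
      change φ (MvPolynomial.C a) = _
      exact MvPolynomial.aeval_C t a
    rw [h1]
    exact ha
  let pl : Ideal (Localization.AtPrime 𝔮) := 𝔭.map (algebraMap A' _)
  haveI : pl.IsPrime := Ideal.isPrime_map_of_isLocalizationAtPrime 𝔮 h𝔭𝔮
  let Pl : Ideal (Localization.AtPrime Q) := P.map (algebraMap B _)
  haveI : Pl.IsPrime := Ideal.isPrime_map_of_isLocalizationAtPrime Q hPQ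
  have hPl : Pl.under B = P := Ideal.under_map_of_isLocalizationAtPrime Q hPQ
  have hpl : pl.under A' = 𝔭 := Ideal.under_map_of_isLocalizationAtPrime 𝔮 h𝔭𝔮
  haveI : IsScalarTower A' (Localization.AtPrime 𝔮) (Localization.AtPrime Q) := inferInstance
  have hle : pl ≤ Pl.under (Localization.AtPrime 𝔮) := by
    refine Ideal.map_le_iff_le_comap.mpr ?_
    change 𝔭 ≤ (Pl.under (Localization.AtPrime 𝔮)).under A'
    rw [Ideal.under_under, ← Ideal.under_under (B := B) Pl, hPl]
    exact h𝔭P
  obtain ⟨P₀l, hP₀le, hP₀prime, hP₀over⟩ :=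
    Ideal.exists_ideal_le_liesOver_of_le (p := pl) (q := Pl.under (Localization.AtPrime 𝔮)) Pl hle
  haveI := hP₀prime
  refine ⟨P₀l.under B, Ideal.IsPrime.under B P₀l, ?_, ?_⟩
  · rw [← hPl]
    exact Ideal.comap_mono hP₀le
  have h1 : (P₀l.under B).under A' = 𝔭 := by
    rw [Ideal.under_under, ← Ideal.under_under (B := Localization.AtPrime 𝔮) P₀l,
      ← hP₀over.over, hpl]
  have h2 : (P₀l.under B).under A = p := by
    rw [← Ideal.under_under (B := A') (P₀l.under B), h1]
    exact comap_C_map_C (Fin d) p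
  refine ⟨h2, ?_⟩
  haveI : (P₀l.under B).IsPrime := Ideal.IsPrime.under B P₀l
  rw [algebraicIndependent_mk_iff t (P₀l.under B), h2]
  exact h1


theorem exists_fin_algebraicIndependent {R T : Type u} [CommRing R] [CommRing T] [Algebra R T]
    [FaithfulSMul R T] [Nontrivial R] [NoZeroDivisors T] (d : ℕ) (h : Algebra.trdeg R T = d) :
    ∃ s : Fin d → T, AlgebraicIndependent R s := by
  obtain ⟨ι, x, hx⟩ := exists_isTranscendenceBasis' R (A := T)
  have h1 := hx.cardinalMk_eq_trdeg
  rw [h] at h1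
  obtain ⟨e⟩ := Cardinal.mk_eq_nat_iff.mp h1
  exact ⟨x ∘ e.symm, hx.1.comp e.symm e.symm.injective⟩

theorem exists_lift_algebraicIndependent {A B : Type u} [CommRing A] [CommRing B] [Algebra A B]
    (Q : Ideal B) [Q.IsPrime] (d : ℕ) (h : Algebra.trdeg (A ⧸ Q.under A) (B ⧸ Q) = d) :
    ∃ t : Fin d → B, AlgebraicIndependent (A ⧸ Q.under A) (fun i => Ideal.Quotient.mk Q (t i)) := by
  obtain ⟨s, hs⟩ := exists_fin_algebraicIndependent d h
  choose t ht using fun i => Ideal.Quotient.mk_surjective (s i)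
  refine ⟨t, ?_⟩
  have : (fun i => Ideal.Quotient.mk Q (t i)) = s := funext ht
  rw [this]
  exact hs


open AlgebraicGeometry CategoryTheory Groth.Agent.Lib.Helper4.DimFormula
  Groth.Agent.Lib.Helper4.VarDim in
/-- Noetherian case: for `f` flat, locally of finite type, `x' ⤳ x` inside an affine open `U`
mapping to a Noetherian affine open `V`: `trdeg κ(x)/κ(f x) ≤ dim_{x'} X_{f x'}`. -/
theorem ptTrdeg_le_fibreDimAt_of_specializes_noeth {X S : Scheme.{u}} (f : X ⟶ S) [Flat f]
    [LocallyOfFiniteType f] {V : S.Opens} {U : X.Opens} (hU : IsAffineOpen U) (hV : IsAffineOpen V)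
    (e : U ≤ f ⁻¹ᵁ V) [IsNoetherianRing Γ(S, V)] (x x' : X) (hx : x ∈ U) (hsp : x' ⤳ x) :
    (ptTrdeg f x : WithBot ℕ∞) ≤ FlatMor.fibreDimAt f x' := by
  have hx' : x' ∈ U := hsp.mem_open U.isOpen hx
  letI alg : Algebra Γ(S, V) Γ(X, U) := (f.appLE V U e).hom.toAlgebra
  haveI : Module.Flat Γ(S, V) Γ(X, U) := Flat.flat_appLE f hV hU e
  haveI hft : Algebra.FiniteType Γ(S, V) Γ(X, U) := LocallyOfFiniteType.finiteType_appLE f hV hU e
  haveI : IsNoetherianRing Γ(X, U) := Algebra.FiniteType.isNoetherianRing Γ(S, V) Γ(X, U)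
  set Q : Ideal Γ(X, U) := (hU.primeIdealOf ⟨x, hx⟩).asIdeal with hQ
  set P : Ideal Γ(X, U) := (hU.primeIdealOf ⟨x', hx'⟩).asIdeal with hP
  have hPQ : P ≤ Q := (primeIdealOf_le_iff hU x' x hx' hx).mpr hsp
  have hQu : Q.under Γ(S, V) = (hV.primeIdealOf ⟨f x, e hx⟩).asIdeal :=
    primeIdealOf_comap_appLE f hU hV e x hx
  have hPu : P.under Γ(S, V) = (hV.primeIdealOf ⟨f x', e hx'⟩).asIdeal :=
    primeIdealOf_comap_appLE f hU hV e x' hx'
  have htr := trdeg_residueFieldMap_eq_trdeg_quotient f hU hV e x hx (Q.under Γ(S, V)) Q rfl hQu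
  rw [trdeg_eq_ptTrdeg f x] at htr
  obtain ⟨t, ht⟩ := exists_lift_algebraicIndependent Q (ptTrdeg f x) htr.symm
  obtain ⟨P₀, hP₀prime, hP₀P, hP₀u, hP₀t⟩ := exists_prime_le_algebraicIndependent P Q hPQ t ht
  set x₀ : X := hU.fromSpec ⟨P₀, hP₀prime⟩ with hx₀def
  have hx₀ : x₀ ∈ U := fromSpec_mem hU _
  have hpi : hU.primeIdealOf ⟨x₀, hx₀⟩ = ⟨P₀, hP₀prime⟩ := primeIdealOf_fromSpec hU _ hx₀
  have hsp₀ : x₀ ⤳ x' := by
    refine (primeIdealOf_le_iff hU x₀ x' hx₀ hx').mp ?_
    rw [hpi]
    exact hP₀P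
  have hP₀u' : P₀.under Γ(S, V) = (hV.primeIdealOf ⟨f x₀, e hx₀⟩).asIdeal := by
    have := primeIdealOf_comap_appLE f hU hV e x₀ hx₀
    rw [hpi] at this
    exact this
  have hfx₀ : f x₀ = f x' := by
    refine primeIdealOf_injective hV (f x₀) (f x') (e hx₀) (e hx') (PrimeSpectrum.ext ?_)
    rw [← hP₀u', ← hPu, hP₀u]
  have htr₀ := trdeg_residueFieldMap_eq_trdeg_quotient f hU hV e x₀ hx₀ (P₀.under Γ(S, V)) P₀
    (by rw [hpi]) hP₀u'
  rw [trdeg_eq_ptTrdeg f x₀] at htr₀
  have hcard := hP₀t.lift_cardinalMk_le_trdeg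
  rw [← htr₀] at hcard
  have hle : ptTrdeg f x ≤ ptTrdeg f x₀ := by
    simpa using hcard
  calc (ptTrdeg f x : WithBot ℕ∞) ≤ (ptTrdeg f x₀ : WithBot ℕ∞) := by exact_mod_cast hle
    _ ≤ FlatMor.fibreDimAt f x₀ := ptTrdeg_le_fibreDimAt f x₀
    _ ≤ FlatMor.fibreDimAt f x' := fibreDimAt_le_of_specializes f x₀ x' hsp₀

section BC


open AlgebraicGeometry CategoryTheory CategoryTheory.Limits

theorem maximal_map_of_flat {F' F : Scheme.{u}} (e : F' ⟶ F) [Flat e] (a : F')
    (hmax : ∀ w : F', w ⤳ a → w = a) : ∀ z : F, z ⤳ e a → z = e a := by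
  intro z hz
  obtain ⟨w, hw, rfl⟩ := Flat.generalizingMap e hz
  rw [hmax w hw]

theorem maximal_of_isPullback_aux {X S X' S' : Scheme.{u}} (f : X ⟶ S)
    (g : S' ⟶ S) (g' : X' ⟶ X) (f' : X' ⟶ S') (hsq : IsPullback g' f' f g) (x' : X')
    (e : f'.fiber (f' x') ⟶ f.fiber (g (f' x')))
    (key : IsPullback e (f'.fiberToSpecResidueField (f' x'))
      (f.fiberToSpecResidueField (g (f' x'))) (Spec.map (g.residueFieldMap (f' x'))))
    (he : e ≫ f.fiberι _ = f'.fiberι _ ≫ g')
    (hmax : ∀ y : X', f' y = f' x' → y ⤳ x' → y = x') :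
    ∀ y : X, f y = f (g' x') → y ⤳ g' x' → y = g' x' := by
  intro y hy hsp
  haveI : Flat e := MorphismProperty.of_isPullback (P := @Flat) key.flip inferInstance
  have hw : f (g' x') = g (f' x') := by
    rw [← Scheme.Hom.comp_apply, hsq.w, Scheme.Hom.comp_apply]
  have hea : f.fiberι _ (e (f'.asFiber x')) = g' x' := by
    rw [← Scheme.Hom.comp_apply, he, Scheme.Hom.comp_apply, Scheme.Hom.fiberι_asFiber]
  have hyr : y ∈ Set.range (f.fiberι (g (f' x'))) := by
    rw [f.range_fiberι]
    exact hy.trans hw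
  obtain ⟨z, rfl⟩ := hyr
  have hz : z ⤳ e (f'.asFiber x') := by
    apply (f.fiberι (g (f' x'))).isEmbedding.isInducing.specializes_iff.mp
    rw [hea]
    exact hsp
  have hmax' : ∀ w : f'.fiber (f' x'), w ⤳ f'.asFiber x' → w = f'.asFiber x' := by
    intro w hw'
    apply (f'.fiberι (f' x')).isEmbedding.injective
    rw [Scheme.Hom.fiberι_asFiber]
    refine hmax _ ?_ ?_
    · have : f'.fiberι (f' x') w ∈ Set.range (f'.fiberι (f' x')) := ⟨w, rfl⟩
      rw [f'.range_fiberι] at this
      exact this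
    · have := hw'.map (f'.fiberι (f' x')).continuous
      rwa [Scheme.Hom.fiberι_asFiber] at this
  rw [maximal_map_of_flat e _ hmax' z hz, hea]

/-- maximal points of fibres are preserved by the projection of a base change. -/
theorem maximal_of_isPullback {X S X' S' : Scheme.{u}} (f : X ⟶ S)
    (g : S' ⟶ S) (g' : X' ⟶ X) (f' : X' ⟶ S') (hsq : IsPullback g' f' f g) (x' : X')
    (hmax : ∀ y : X', f' y = f' x' → y ⤳ x' → y = x') :
    ∀ y : X, f y = f (g' x') → y ⤳ g' x' → y = g' x' := by
  refine maximal_of_isPullback_aux f g g' f' hsq x' _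
    (isPullback_fiberToSpecResidueField_of_isPullback hsq (f' x')) ?_ hmax
  exact pullback.lift_fst _ _ _


end BC

end Groth.Agent.Lib.Helper3.GoingDownFib
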