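import Mathlib
import Groth.Agent.Lib.Helper3GoingDownFib
import Groth.Agent.Lib.Helper3FlatFibDim
import Groth.Agent.S9759
set_option autoImplicit false
set_option linter.style.haveILetI false
universe u

namespace Groth.Agent.Lib.Helper3.GoingDownFibC

open AlgebraicGeometry CategoryTheory CategoryTheory.Limits
open Groth.Agent.Lib.Helper3.GoingDownFib Groth.Agent.Lib.Helper3.LocDimBC
  Groth.Agent.Lib.Helper3.FlatFibDim Groth.Agent.Lib.Helper4.DimFormula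

theorem le_of_specializes_of_maximal_affine {X S : Scheme.{u}} [IsAffine X] [IsAffine S]
    (f : X ⟶ S) [Flat f] [LocallyOfFinitePresentation f] (x x' : X) (hsp : x' ⤳ x)
    (hmax : ∀ y : X, f y = f x → y ⤳ x → y = x) :
    FlatMor.fibreDimAt f x ≤ FlatMor.fibreDimAt f x' := by
  obtain ⟨X₀, S₀, f₀, g, g', hX₀, hS₀, hsq, hft, hlft, hflat⟩ := Groth.Agent.S9759.result f
  haveI := hlft
  haveI := hflat
  haveI : IsNoetherianRing Γ(S₀, ⊤) := Algebra.FiniteType.isNoetherianRing ℤ _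
  rw [fibreDimAt_eq_of_isPullback f₀ g g' f hsq x, fibreDimAt_eq_of_isPullback f₀ g g' f hsq x']
  have hmax₀ := maximal_of_isPullback f₀ g g' f hsq x hmax
  rw [fibreDimAt_eq_ptTrdeg_of_maximal f₀ (g' x) hmax₀]
  exact ptTrdeg_le_fibreDimAt_of_specializes_noeth f₀ (isAffineOpen_top X₀) (isAffineOpen_top S₀)
    le_top (g' x) (g' x') trivial (hsp.map g'.continuous)

theorem le_of_specializes_of_maximal {X S : Scheme.{u}}
    (f : X ⟶ S) [Flat f] [LocallyOfFinitePresentation f] (x x' : X) (hsp : x' ⤳ x)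
    (hmax : ∀ y : X, f y = f x → y ⤳ x → y = x) :
    FlatMor.fibreDimAt f x ≤ FlatMor.fibreDimAt f x' := by
  obtain ⟨V, hV, hfxV⟩ : ∃ V : S.Opens, IsAffineOpen V ∧ f x ∈ V := by
    obtain ⟨_, ⟨V, hV, rfl⟩, hxV, -⟩ := S.isBasis_affineOpens.exists_subset_of_mem_open
      (Set.mem_univ (f x)) isOpen_univ
    exact ⟨V, hV, hxV⟩
  obtain ⟨U, hU, hxU, hUV⟩ : ∃ U : X.Opens, IsAffineOpen U ∧ x ∈ U ∧ U ≤ f ⁻¹ᵁ V := by
    obtain ⟨_, ⟨U, hU, rfl⟩, hxU, hUV⟩ := X.isBasis_affineOpens.exists_subset_of_mem_open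
      (show x ∈ (f ⁻¹ᵁ V : Set X) from hfxV) (f ⁻¹ᵁ V).isOpen
    exact ⟨U, hU, hxU, hUV⟩
  have hx'U : x' ∈ U := hsp.mem_open U.isOpen hxU
  haveI : IsAffine U.toScheme := hU
  haveI : IsAffine V.toScheme := hV
  let fUV := f.resLE V U hUV
  have hcomp : U.ι ≫ f = fUV ≫ V.ι := (Scheme.Hom.resLE_comp_ι f hUV).symm
  have hdim : ∀ u : U.toScheme, FlatMor.fibreDimAt f (U.ι u) = FlatMor.fibreDimAt fUV u := by
    intro u
    have h1 := fibreDimAt_comp_of_isOpenImmersion U.ι f u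
    have h2 := fibreDimAt_comp_mono fUV V.ι u
    rw [← h1, ← h2]
    congr 1
  have hspU : (⟨x', hx'U⟩ : U.toScheme) ⤳ ⟨x, hxU⟩ :=
    U.ι.isEmbedding.isInducing.specializes_iff.mp hsp
  have hmaxU : ∀ y : U.toScheme, fUV y = fUV ⟨x, hxU⟩ → y ⤳ ⟨x, hxU⟩ → y = ⟨x, hxU⟩ := by
    intro y hy hys
    apply U.ι.isEmbedding.injective
    refine hmax (U.ι y) ?_ (hys.map U.ι.continuous)
    have h1 : f (U.ι y) = V.ι (fUV y) := by
      rw [← Scheme.Hom.comp_apply, hcomp, Scheme.Hom.comp_apply]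
    have h2 : f x = V.ι (fUV ⟨x, hxU⟩) := by
      change f (U.ι ⟨x, hxU⟩) = _
      rw [← Scheme.Hom.comp_apply, hcomp, Scheme.Hom.comp_apply]
    rw [h1, h2, hy]
  have := le_of_specializes_of_maximal_affine fUV ⟨x, hxU⟩ ⟨x', hx'U⟩ hspU hmaxU
  rw [← hdim ⟨x, hxU⟩, ← hdim ⟨x', hx'U⟩] at this
  exact this

end Groth.Agent.Lib.Helper3.GoingDownFibC
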