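import Mathlib
import Groth.Prelude.Def_AlgGrp
import Groth.Agent.Lib.Helper3AbFibreC
import Groth.Agent.Lib.Helper2Constr

set_option autoImplicit false
set_option linter.style.haveILetI false
universe u

namespace Groth.Agent.Lib.Helper3.Orbit

open CategoryTheory AlgebraicGeometry Limits TopologicalSpace Opposite IsLocalRing Topology
open MonoidalCategory CartesianMonoidalCategory MonObj GrpObj
open Groth.Agent.Lib.Helper3.AbFibre

section Calc

variable {S : Scheme.{u}} {G X : Over S} [GrpObj G] (a : AlgGrp.Action G X)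

/-- the action on `T`-valued points -/
noncomputable def smul {T : Over S} (g : T ⟶ G) (y : T ⟶ X) : T ⟶ X := lift g y ≫ a.act

lemma comp_smul {T T' : Over S} (f : T' ⟶ T) (g : T ⟶ G) (y : T ⟶ X) :
    f ≫ smul a g y = smul a (f ≫ g) (f ≫ y) := by
  unfold smul
  rw [← Category.assoc, comp_lift]

lemma one_smul {T : Over S} (y : T ⟶ X) : smul a 1 y = y := by
  unfold smul
  have h1 : lift (1 : T ⟶ G) y = lift (toUnit T) y ≫ (η[G] ▷ X) := by
    rw [lift_whiskerRight, Hom.one_def]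
  rw [h1, Category.assoc, a.one_act, leftUnitor_hom, lift_snd]

lemma mul_smul {T : Over S} (g h : T ⟶ G) (y : T ⟶ X) :
    smul a (g * h) y = smul a g (smul a h y) := by
  unfold smul
  have h1 : lift (g * h) y = lift (lift g h) y ≫ (μ[G] ▷ X) := by
    rw [lift_whiskerRight, Hom.mul_def]
  rw [h1, Category.assoc, a.mul_act, ← Category.assoc, lift_lift_associator_hom, ← Category.assoc,
    lift_whiskerLeft]

/-- translation of `X` by a point of `G` -/
noncomputable def tau (g : 𝟙_ (Over S) ⟶ G) : X ⟶ X := smul a (toUnit X ≫ g) (𝟙 X)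

lemma tau_eq (g : 𝟙_ (Over S) ⟶ G) : tau a g = smul a (toUnit X ≫ g) (𝟙 X) := rfl

lemma tau_one : tau a 1 = 𝟙 X := by
  unfold tau
  rw [MonObj.comp_one, one_smul]

lemma tau_comp (g h : 𝟙_ (Over S) ⟶ G) : tau a h ≫ tau a g = tau a (g * h) := by
  have e : tau a h ≫ toUnit X = toUnit X := toUnit_unique _ _
  calc tau a h ≫ tau a g = smul a (tau a h ≫ toUnit X ≫ g) (tau a h ≫ 𝟙 X) := by
        rw [tau_eq a g, comp_smul]
    _ = smul a (toUnit X ≫ g) (smul a (toUnit X ≫ h) (𝟙 X)) := by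
        rw [← Category.assoc, e, Category.comp_id]; rfl
    _ = tau a (g * h) := by
        rw [← mul_smul, ← MonObj.comp_mul]; rfl

lemma tau_inv_comp (g : 𝟙_ (Over S) ⟶ G) : tau a g⁻¹ ≫ tau a g = 𝟙 X := by
  rw [tau_comp, _root_.mul_inv_cancel, tau_one]

lemma tau_comp_inv (g : 𝟙_ (Over S) ⟶ G) : tau a g ≫ tau a g⁻¹ = 𝟙 X := by
  rw [tau_comp, _root_.inv_mul_cancel, tau_one]

instance (g : 𝟙_ (Over S) ⟶ G) : IsIso (tau a g) := ⟨tau a g⁻¹, tau_comp_inv a g, tau_inv_comp a g⟩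

lemma orbitMap_eq (x : 𝟙_ (Over S) ⟶ X) : a.orbitMap x = smul a (𝟙 G) (toUnit G ≫ x) := rfl

lemma orbitMap_comp_tau (x : 𝟙_ (Over S) ⟶ X) (g : 𝟙_ (Over S) ⟶ G) :
    a.orbitMap x ≫ tau a g = T G g ≫ a.orbitMap x := by
  have e1 : a.orbitMap x ≫ toUnit X = toUnit G := toUnit_unique _ _
  have e2 : T G g ≫ toUnit G = toUnit G := toUnit_unique _ _
  calc a.orbitMap x ≫ tau a g
      = smul a (a.orbitMap x ≫ toUnit X ≫ g) (a.orbitMap x ≫ 𝟙 X) := by
        rw [tau_eq a g, comp_smul]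
    _ = smul a (toUnit G ≫ g) (smul a (𝟙 G) (toUnit G ≫ x)) := by
        rw [← Category.assoc, e1, Category.comp_id]; rfl
    _ = smul a ((toUnit G ≫ g) * 𝟙 G) (toUnit G ≫ x) := by rw [mul_smul]
    _ = smul a (T G g ≫ 𝟙 G) (T G g ≫ toUnit G ≫ x) := by
        rw [Category.comp_id, ← Category.assoc (T G g), e2]; rfl
    _ = T G g ≫ a.orbitMap x := by rw [orbitMap_eq, comp_smul]

lemma point_comp_orbitMap (x : 𝟙_ (Over S) ⟶ X) (g : 𝟙_ (Over S) ⟶ G) :
    g ≫ a.orbitMap x = x ≫ tau a g := by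
  have e1 : g ≫ toUnit G = 𝟙 _ := toUnit_unique _ _
  have e2 : x ≫ toUnit X = 𝟙 _ := toUnit_unique _ _
  rw [orbitMap_eq, comp_smul, tau, comp_smul, Category.comp_id, Category.comp_id,
    ← Category.assoc, e1, ← Category.assoc, e2, Category.id_comp, Category.id_comp]

end Calc


section TopLemma

/-- In a noetherian space, a nonempty constructible set contains a nonempty relatively open
subset of its closure. -/
theorem exists_open_inter_closure_subset {α : Type*} [TopologicalSpace α] [NoetherianSpace α]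
    {E : Set α} (hE : IsConstructible E) (hne : E.Nonempty) :
    ∃ W : Set α, IsOpen W ∧ (W ∩ closure E).Nonempty ∧ W ∩ closure E ⊆ E := by
  obtain ⟨S, hSf, hSc, hSi, hS⟩ :=
    NoetherianSpace.exists_finite_set_isClosed_irreducible (isClosed_closure (s := E))
  have hSne : S.Nonempty := by
    obtain ⟨e, he⟩ := hne
    have : e ∈ ⋃₀ S := hS ▸ subset_closure he
    obtain ⟨t, ht, -⟩ := this
    exact ⟨t, ht⟩
  obtain ⟨Y, hYmax⟩ := hSf.exists_maximal hSne
  have hYS : Y ∈ S := hYmax.prop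
  have hYi : IsIrreducible Y := hSi Y hYS
  have hYsub : Y ⊆ closure E := by
    rw [hS]; exact Set.subset_sUnion_of_mem hYS
  let S' : Set (Set α) := {t | t ∈ S ∧ ¬ t ⊆ Y}
  have hS'f : S'.Finite := hSf.subset fun t ht => ht.1
  let C : Set α := ⋃₀ S'
  have hC : IsClosed C := by
    show IsClosed (⋃₀ S')
    rw [Set.sUnion_eq_biUnion]
    exact Set.Finite.isClosed_biUnion hS'f fun t ht => hSc t ht.1
  let W₀ : Set α := Cᶜ
  have hW₀ : IsOpen W₀ := hC.isOpen_compl
  have h1 : closure E ∩ W₀ ⊆ Y := by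
    rintro z ⟨hz, hzW⟩
    rw [hS] at hz
    obtain ⟨t, ht, hzt⟩ := hz
    by_contra hzY
    apply hzW
    refine ⟨t, ⟨ht, fun htY => hzY (htY hzt)⟩, hzt⟩
  have h2 : (Y ∩ W₀).Nonempty := by
    by_contra hcon
    rw [Set.not_nonempty_iff_eq_empty] at hcon
    have hYC : Y ⊆ ⋃₀ (↑hS'f.toFinset : Set (Set α)) := by
      rw [Set.Finite.coe_toFinset]
      intro y hy
      by_contra hyC
      have : y ∈ Y ∩ W₀ := ⟨hy, hyC⟩
      rw [hcon] at this
      exact this
    obtain ⟨t, ht, hYt⟩ := isIrreducible_iff_sUnion_isClosed.mp hYi hS'f.toFinset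
      (fun z hz => hSc z ((Set.Finite.mem_toFinset _).mp hz).1) hYC
    have ht' : t ∈ S' := (Set.Finite.mem_toFinset _).mp ht
    exact ht'.2 (hYmax.le_of_ge ht'.1 hYt)
  have h3 : Y ⊆ closure (E ∩ Y) := by
    intro y hy
    rw [mem_closure_iff]
    intro V hV hyV
    obtain ⟨p, hpY, hpV, hpW⟩ := hYi.2 V W₀ hV hW₀ ⟨y, hy, hyV⟩ h2
    have hp : p ∈ closure E := hYsub hpY
    rw [mem_closure_iff] at hp
    obtain ⟨q, ⟨hqV, hqW⟩, hqE⟩ := hp (V ∩ W₀) (hV.inter hW₀) ⟨hpV, hpW⟩
    exact ⟨q, hqV, hqE, h1 ⟨subset_closure hqE, hqW⟩⟩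
  obtain ⟨U₁, hU₁, hne₁, hsub₁⟩ :=
    Groth.Agent.Lib.Helper2.Constr.exists_open_subset_of_dense hE hYi h3
  refine ⟨U₁ ∩ W₀, hU₁.inter hW₀, ?_, ?_⟩
  · obtain ⟨p, hpY, hpU, hpW⟩ := hYi.2 U₁ W₀ hU₁ hW₀ (by rwa [Set.inter_comm]) h2
    exact ⟨p, ⟨hpU, hpW⟩, hYsub hpY⟩
  · rintro z ⟨⟨hzU, hzW⟩, hzE⟩
    exact hsub₁ ⟨hzU, h1 ⟨hzE, hzW⟩⟩

end TopLemma

section Top

variable {k : Type u} [Field k] [IsAlgClosed k] {G X : Over (Spec (CommRingCat.of k))} [GrpObj G]
  [LocallyOfFiniteType G.hom] [QuasiCompact G.hom] [LocallyOfFiniteType X.hom] [QuasiCompact X.hom]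
  (a : AlgGrp.Action G X) (x : 𝟙_ (Over (Spec (CommRingCat.of k))) ⟶ X)

/-- the orbit, as a set of points -/
def orb : Set X.left := Set.range (a.orbitMap x).left.base

/-- the `k`-point attached to a closed point of `G` -/
noncomputable def ptOf (g₁ : G.left) (hg₁ : IsClosed ({g₁} : Set G.left)) :
    𝟙_ (Over (Spec (CommRingCat.of k))) ⟶ G :=
  Over.homMk (pointOfClosedPoint G.hom g₁ hg₁) (pointOfClosedPoint_comp G.hom g₁ hg₁)

omit [QuasiCompact G.hom] in
lemma ptOf_apply (g₁ : G.left) (hg₁ : IsClosed ({g₁} : Set G.left)) (p) :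
    (ptOf g₁ hg₁).left.base p = g₁ := pointOfClosedPoint_apply G.hom g₁ hg₁ p

instance isIso_tau_left (g : 𝟙_ (Over (Spec (CommRingCat.of k))) ⟶ G) : IsIso (tau a g).left :=
  inferInstanceAs (IsIso ((Over.forget _).map (tau a g)))

lemma tau_tau_apply (g h : 𝟙_ (Over (Spec (CommRingCat.of k))) ⟶ G) (y : X.left) :
    (tau a g).left.base ((tau a h).left.base y) = (tau a (g * h)).left.base y :=
  congr($(tau_comp a g h).left.base y)

lemma tau_inv_tau_apply (g : 𝟙_ (Over (Spec (CommRingCat.of k))) ⟶ G) (y : X.left) :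
    (tau a g⁻¹).left.base ((tau a g).left.base y) = y :=
  congr($(tau_comp_inv a g).left.base y)

lemma tau_tau_inv_apply (g : 𝟙_ (Over (Spec (CommRingCat.of k))) ⟶ G) (y : X.left) :
    (tau a g).left.base ((tau a g⁻¹).left.base y) = y :=
  congr($(tau_inv_comp a g).left.base y)

/-- the orbit map at the `k`-point of a closed point. -/
lemma orbitMap_apply_closedPoint (g₁ : G.left) (hg₁ : IsClosed ({g₁} : Set G.left)) :
    (a.orbitMap x).left.base g₁ =
      (tau a (ptOf g₁ hg₁)).left.base (x.left.base (closedPoint k)) := by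
  have h := congr($(point_comp_orbitMap a x (ptOf g₁ hg₁)).left.base (closedPoint k))
  rw [Over.comp_left, Over.comp_left] at h
  change (a.orbitMap x).left.base ((ptOf g₁ hg₁).left.base (closedPoint k)) = _ at h
  rw [ptOf_apply] at h
  exact h

/-- translations preserve the orbit. -/
lemma image_tau_orb (g : 𝟙_ (Over (Spec (CommRingCat.of k))) ⟶ G) :
    (tau a g).left.base '' orb a x = orb a x := by
  ext y
  constructor
  · rintro ⟨_, ⟨z, rfl⟩, rfl⟩
    exact ⟨(T G g).left.base z, congr($(orbitMap_comp_tau a x g).left.base z).symm⟩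
  · rintro ⟨z, rfl⟩
    obtain ⟨z', rfl⟩ : ∃ z', (T G g).left.base z' = z :=
      ⟨(T G g⁻¹).left.base z, congr($(T_inv_comp G g).left.base z)⟩
    exact ⟨_, ⟨z', rfl⟩, congr($(orbitMap_comp_tau a x g).left.base z')⟩

lemma tau_mem_orb_iff (g : 𝟙_ (Over (Spec (CommRingCat.of k))) ⟶ G) (y : X.left) :
    (tau a g).left.base y ∈ orb a x ↔ y ∈ orb a x := by
  constructor
  · intro h
    have : (tau a g⁻¹).left.base ((tau a g).left.base y) ∈ (tau a g⁻¹).left.base '' orb a x :=
      ⟨_, h, rfl⟩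
    rwa [image_tau_orb, tau_inv_tau_apply] at this
  · intro h
    rw [← image_tau_orb a x g]
    exact ⟨y, h, rfl⟩

lemma image_tau_closure_orb (g : 𝟙_ (Over (Spec (CommRingCat.of k))) ⟶ G) :
    (tau a g).left.base '' closure (orb a x) = closure (orb a x) := by
  have h := (tau a g).left.homeomorph.image_closure (orb a x)
  have e : ⇑(tau a g).left.homeomorph = (tau a g).left.base := rfl
  rw [e] at h
  rw [h, image_tau_orb]

lemma tau_mem_closure_orb_iff (g : 𝟙_ (Over (Spec (CommRingCat.of k))) ⟶ G) (y : X.left) :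
    (tau a g).left.base y ∈ closure (orb a x) ↔ y ∈ closure (orb a x) := by
  constructor
  · intro h
    have : (tau a g⁻¹).left.base ((tau a g).left.base y) ∈
        (tau a g⁻¹).left.base '' closure (orb a x) := ⟨_, h, rfl⟩
    rwa [image_tau_closure_orb, tau_inv_tau_apply] at this
  · intro h
    rw [← image_tau_closure_orb a x g]
    exact ⟨y, h, rfl⟩

include a in
omit [IsAlgClosed k] in
lemma facts : IsNoetherian G.left ∧ IsNoetherian X.left ∧ JacobsonSpace G.left := by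
  haveI : IsLocallyNoetherian G.left := LocallyOfFiniteType.isLocallyNoetherian G.hom
  haveI : CompactSpace G.left := QuasiCompact.compactSpace_of_compactSpace G.hom
  haveI : IsLocallyNoetherian X.left := LocallyOfFiniteType.isLocallyNoetherian X.hom
  haveI : CompactSpace X.left := QuasiCompact.compactSpace_of_compactSpace X.hom
  exact ⟨{}, {}, LocallyOfFiniteType.jacobsonSpace G.hom⟩

lemma isConstructible_orb : IsConstructible (orb a x) := by
  obtain ⟨hG, hX, -⟩ := facts a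
  haveI := hG; haveI := hX
  haveI : LocallyOfFiniteType ((a.orbitMap x).left ≫ X.hom) := by
    rw [Over.w]; infer_instance
  haveI : LocallyOfFiniteType (a.orbitMap x).left :=
    locallyOfFiniteType_of_comp (a.orbitMap x).left X.hom
  haveI : LocallyOfFinitePresentation (a.orbitMap x).left :=
    LocallyOfFinitePresentation.iff_locallyOfFiniteType.mpr inferInstance
  have := (a.orbitMap x).left.isConstructible_image (s := Set.univ) IsConstructible.univ
  rwa [Set.image_univ] at this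

/-- **Orbits are locally closed**: the boundary `cl(O) \ O` is closed. -/
theorem isClosed_closure_diff_orb : IsClosed (closure (orb a x) \ orb a x) := by
  obtain ⟨hG, hX, hJ⟩ := facts a
  haveI := hG; haveI := hX; haveI := hJ
  let α := (a.orbitMap x).left
  let x₀ : X.left := x.left.base (closedPoint k)
  have hne : (orb a x).Nonempty := ⟨_, ⟨η[G].left.base (closedPoint k), rfl⟩⟩
  obtain ⟨W, hW, hWne, hWsub⟩ := exists_open_inter_closure_subset (isConstructible_orb a x) hne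
  let W' : Set X.left := ⋃ g : 𝟙_ (Over (Spec (CommRingCat.of k))) ⟶ G, (tau a g).left.base '' W
  have hW' : IsOpen W' := isOpen_iUnion fun g => (tau a g).left.homeomorph.isOpenMap W hW
  -- a closed point of `G` mapping into `W`
  obtain ⟨h₁, hh₁W, hh₁c⟩ : ∃ h₁ : G.left, α.base h₁ ∈ W ∧ IsClosed ({h₁} : Set G.left) := by
    obtain ⟨w, hwW, hwZ⟩ := hWne
    obtain ⟨h₀, hh₀⟩ : w ∈ orb a x := hWsub ⟨hwW, hwZ⟩
    have hne' : (α.base ⁻¹' W).Nonempty := ⟨h₀, by show α.base h₀ ∈ W; rw [hh₀]; exact hwW⟩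
    obtain ⟨h₁, hh₁, hh₁c⟩ := nonempty_inter_closedPoints hne'
      (hW.preimage α.continuous).isLocallyClosed
    exact ⟨h₁, hh₁, hh₁c⟩
  have horb : orb a x = W' ∩ closure (orb a x) := by
    apply Set.Subset.antisymm
    · rintro y ⟨g₀, rfl⟩
      refine ⟨?_, subset_closure ⟨g₀, rfl⟩⟩
      by_contra hcon
      have hne' : (α.base ⁻¹' W'ᶜ).Nonempty := ⟨g₀, hcon⟩
      obtain ⟨g₁, hg₁, hg₁c⟩ := nonempty_inter_closedPoints hne'
        (hW'.isClosed_compl.preimage α.continuous).isLocallyClosed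
      apply hg₁
      show α.base g₁ ∈ W'
      rw [orbitMap_apply_closedPoint a x g₁ hg₁c]
      rw [orbitMap_apply_closedPoint a x h₁ hh₁c] at hh₁W
      refine Set.mem_iUnion.mpr ⟨ptOf g₁ hg₁c * (ptOf h₁ hh₁c)⁻¹, _, hh₁W, ?_⟩
      rw [← tau_tau_apply, tau_inv_tau_apply]
    · rintro y ⟨hyW', hyZ⟩
      obtain ⟨g, w, hwW, rfl⟩ := Set.mem_iUnion.mp hyW'
      rw [tau_mem_closure_orb_iff] at hyZ
      rw [tau_mem_orb_iff]
      exact hWsub ⟨hwW, hyZ⟩
  have : closure (orb a x) \ orb a x = closure (orb a x) ∩ W'ᶜ := by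
    ext y
    constructor
    · rintro ⟨hyZ, hyO⟩
      refine ⟨hyZ, fun hyW' => hyO ?_⟩
      rw [horb]; exact ⟨hyW', hyZ⟩
    · rintro ⟨hyZ, hyW'⟩
      refine ⟨hyZ, fun hyO => hyW' ?_⟩
      rw [horb] at hyO; exact hyO.1
  rw [this]
  exact isClosed_closure.inter hW'.isClosed_compl

lemma isLocallyClosed_orb : IsLocallyClosed (orb a x) := by
  rw [isLocallyClosed_iff_isOpen_coborder, coborder, isOpen_compl_iff]
  exact isClosed_closure_diff_orb a x

end Top

end Groth.Agent.Lib.Helper3.Orbit
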