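import Mathlib
import Groth.Agent.Lib.Helper3GoodQuotB

/-!
# Good quotients over an algebraically closed field: orbit closures and closed orbits
-/

set_option autoImplicit false
set_option linter.style.haveILetI false
universe u

namespace Groth.Agent.Lib.Helper3.GoodQuot

open CategoryTheory AlgebraicGeometry Limits TopologicalSpace Opposite Topology IsLocalRing
open MonoidalCategory CartesianMonoidalCategory MonObj GrpObj
open Groth.Agent.Lib.Helper3.Orbit

section Main

variable {k : Type u} [Field k] [IsAlgClosed k] {G X Y : Over (Spec (CommRingCat.of k))} [GrpObj G]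
  [LocallyOfFiniteType G.hom] [LocallyOfFiniteType X.hom]
  (a : AlgGrp.Action G X)

omit [IsAlgClosed k] [LocallyOfFiniteType X.hom] in
/-- the closure of an orbit is an invariant closed set. -/
lemma isInvariantSet_closure_orbit (x : 𝟙_ (Over (Spec (CommRingCat.of k))) ⟶ X) :
    NRQuot.IsInvariantSet a (closure (Set.range (a.orbitMap x).left.base)) :=
  isInvariantSet_closure a _ (isInvariantSet_range_orbitMap a x)

omit [IsAlgClosed k] [LocallyOfFiniteType G.hom] [LocallyOfFiniteType X.hom] in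
lemma kpoint_mem_orbit (x : 𝟙_ (Over (Spec (CommRingCat.of k))) ⟶ X) :
    x.left.base (closedPoint k) ∈ Set.range (a.orbitMap x).left.base := by
  refine ⟨η[G].left.base (closedPoint k), ?_⟩
  have h3 : η[G] ≫ a.orbitMap x = x := by
    rw [point_comp_orbitMap, MonObj.one_eq_one, tau_one, Category.comp_id]
  exact congr($(h3).left.base (closedPoint k))

omit [IsAlgClosed k] [LocallyOfFiniteType X.hom] in
/-- **Orbit closures meet iff the images in a good quotient agree.** -/
theorem closure_orbit_inter_nonempty_iff (φ : X ⟶ Y) (h : NRQuot.IsGoodQuot a φ)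
    (x₁ x₂ : 𝟙_ (Over (Spec (CommRingCat.of k))) ⟶ X) :
    (closure (Set.range (a.orbitMap x₁).left.base) ∩
      closure (Set.range (a.orbitMap x₂).left.base)).Nonempty ↔ x₁ ≫ φ = x₂ ≫ φ := by
  constructor
  · rintro ⟨z, hz1, hz2⟩
    have key : ∀ x : 𝟙_ (Over (Spec (CommRingCat.of k))) ⟶ X,
        z ∈ closure (Set.range (a.orbitMap x).left.base) →
        φ.left.base z = (x ≫ φ).left.base (closedPoint k) := by
      intro x hz
      have h1 : φ.left.base z ∈ closure (φ.left.base '' Set.range (a.orbitMap x).left.base) :=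
        image_closure_subset_closure_image φ.left.continuous ⟨z, hz, rfl⟩
      have h2 : φ.left.base '' Set.range (a.orbitMap x).left.base ⊆
          {(x ≫ φ).left.base (closedPoint k)} := by
        rintro _ ⟨_, ⟨g, rfl⟩, rfl⟩
        exact apply_orbitMap_of_isInvariant a φ h.inv x g
      have h3 := closure_minimal h2 (over_isClosed_kpoint (x ≫ φ)) h1
      exact h3
    apply over_kpoint_ext
    rw [← key x₁ hz1, ← key x₂ hz2]
  · intro hφ
    let W : ULift.{u} Bool → Set X.left := fun i =>
      if i.down then closure (Set.range (a.orbitMap x₁).left.base)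
      else closure (Set.range (a.orbitMap x₂).left.base)
    have hWc : ∀ i, IsClosed (W i) := by
      rintro ⟨i⟩; cases i <;> exact isClosed_closure
    have hWi : ∀ i, NRQuot.IsInvariantSet a (W i) := by
      rintro ⟨i⟩
      cases i
      · exact isInvariantSet_closure_orbit a x₂
      · exact isInvariantSet_closure_orbit a x₁
    have hint := h.inter (ULift.{u} Bool) W hWc hWi
    have hy : (x₁ ≫ φ).left.base (closedPoint k) ∈ ⋂ i, φ.left.base '' W i := by
      rw [Set.mem_iInter]
      rintro ⟨i⟩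
      cases i
      · refine ⟨x₂.left.base (closedPoint k), subset_closure (kpoint_mem_orbit a x₂), ?_⟩
        rw [hφ]; rfl
      · exact ⟨x₁.left.base (closedPoint k), subset_closure (kpoint_mem_orbit a x₁), rfl⟩
    rw [← hint] at hy
    obtain ⟨z, hz, -⟩ := hy
    rw [Set.mem_iInter] at hz
    exact ⟨z, hz ⟨true⟩, hz ⟨false⟩⟩

/-- two `k`-points whose orbits meet, the second orbit being closed, are translates of each other
by a `k`-point of `G`. -/
theorem exists_kpoint_act_eq_of_orbits_meet
    (x₁ x₂ : 𝟙_ (Over (Spec (CommRingCat.of k))) ⟶ X)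
    (hcl : IsClosed (Set.range (a.orbitMap x₂).left.base))
    (hne : (Set.range (a.orbitMap x₁).left.base ∩ Set.range (a.orbitMap x₂).left.base).Nonempty) :
    ∃ g : 𝟙_ (Over (Spec (CommRingCat.of k))) ⟶ G, lift g x₁ ≫ a.act = x₂ := by
  haveI : JacobsonSpace G.left := LocallyOfFiniteType.jacobsonSpace G.hom
  -- a closed point `g₁` of `G` with `g₁ x₁` in the orbit of `x₂`
  obtain ⟨g₁, hg₁, hg₁c⟩ : ∃ g₁ : G.left, (a.orbitMap x₁).left.base g₁ ∈
      Set.range (a.orbitMap x₂).left.base ∧ IsClosed ({g₁} : Set G.left) := by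
    obtain ⟨_, ⟨g₀, rfl⟩, hz2⟩ := hne
    have hne' : ((a.orbitMap x₁).left.base ⁻¹' Set.range (a.orbitMap x₂).left.base).Nonempty :=
      ⟨g₀, hz2⟩
    obtain ⟨g₁, hg₁, hg₁c⟩ := nonempty_inter_closedPoints hne'
      (hcl.preimage (a.orbitMap x₁).left.continuous).isLocallyClosed
    exact ⟨g₁, hg₁, hg₁c⟩
  let g := ptOf g₁ hg₁c
  let x' : 𝟙_ (Over (Spec (CommRingCat.of k))) ⟶ X := g ≫ a.orbitMap x₁
  have hx' : x'.left.base (closedPoint k) = (a.orbitMap x₁).left.base g₁ := by
    show (a.orbitMap x₁).left.base (g.left.base (closedPoint k)) = _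
    rw [ptOf_apply]
  -- a closed point `h₁` of `G` with `h₁ x₂ = g₁ x₁`
  obtain ⟨h₁, hh₁, hh₁c⟩ : ∃ h₁ : G.left, (a.orbitMap x₂).left.base h₁ =
      x'.left.base (closedPoint k) ∧ IsClosed ({h₁} : Set G.left) := by
    obtain ⟨h₀, hh₀⟩ := hg₁
    have hne' : ((a.orbitMap x₂).left.base ⁻¹' {x'.left.base (closedPoint k)}).Nonempty :=
      ⟨h₀, by rw [Set.mem_preimage, hh₀, hx']; rfl⟩
    obtain ⟨h₁, hh₁, hh₁c⟩ := nonempty_inter_closedPoints hne'
      ((over_isClosed_kpoint x').preimage (a.orbitMap x₂).left.continuous).isLocallyClosed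
    exact ⟨h₁, hh₁, hh₁c⟩
  let h := ptOf h₁ hh₁c
  have heq : h ≫ a.orbitMap x₂ = g ≫ a.orbitMap x₁ := by
    apply over_kpoint_ext
    show (a.orbitMap x₂).left.base (h.left.base (closedPoint k)) = x'.left.base (closedPoint k)
    rw [ptOf_apply, hh₁]
  rw [kpoint_comp_orbitMap, kpoint_comp_orbitMap] at heq
  refine ⟨h⁻¹ * g, ?_⟩
  have e1 : lift (h⁻¹ * g) x₁ ≫ a.act = smul a (h⁻¹ * g) x₁ := rfl
  rw [e1, Orbit.mul_smul]
  have e2 : smul a g x₁ = smul a h x₂ := heq.symm
  rw [e2, ← Orbit.mul_smul, _root_.inv_mul_cancel, Orbit.one_smul]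

end Main

end Groth.Agent.Lib.Helper3.GoodQuot
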