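import Mathlib
import Groth.Agent.Lib.Helper3GoodQuotC

/-!
# Good quotients over an algebraically closed field: the unique closed orbit in a fibre
-/

set_option autoImplicit false
set_option linter.style.haveILetI false
universe u

namespace Groth.Agent.Lib.Helper3.GoodQuot

open CategoryTheory AlgebraicGeometry Limits TopologicalSpace Opposite Topology IsLocalRing
open MonoidalCategory CartesianMonoidalCategory MonObj GrpObj
open Groth.Agent.Lib.Helper3.Orbit

section Min

variable {k : Type u} [Field k] [IsAlgClosed k] {G X : Over (Spec (CommRingCat.of k))} [GrpObj G]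
  [LocallyOfFiniteType G.hom] [QuasiCompact G.hom] [LocallyOfFiniteType X.hom] [QuasiCompact X.hom]
  (a : AlgGrp.Action G X) (x : 𝟙_ (Over (Spec (CommRingCat.of k))) ⟶ X)

/-- an orbit of minimal dimension among the orbits of the `k`-points of its closure is closed. -/
theorem isClosed_orb_of_minimal'
    (hmin : ∀ y : 𝟙_ (Over (Spec (CommRingCat.of k))) ⟶ X,
      y.left.base (closedPoint k) ∈ closure (orb a x) →
      topologicalKrullDim ↥(orb a x) ≤ topologicalKrullDim ↥(orb a y)) :
    IsClosed (orb a x) := by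
  obtain ⟨hG, hX, hJ⟩ := facts a
  haveI := hG; haveI := hX; haveI := hJ
  haveI : JacobsonSpace X.left := LocallyOfFiniteType.jacobsonSpace X.hom
  have hB : IsClosed (closure (orb a x) \ orb a x) := isClosed_closure_diff_orb a x
  by_cases hne : (closure (orb a x) \ orb a x).Nonempty
  · exfalso
    obtain ⟨y₁, hy₁, hy₁c⟩ := nonempty_inter_closedPoints hne hB.isLocallyClosed
    have hsub := orb_subset_boundary a x (ptOfX y₁ hy₁c) (by rw [ptOfX_apply]; exact hy₁)
    have h1 := Groth.Agent.Lib.Helper4.DimFormula.topologicalKrullDim_mono_subset hsub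
    have h2 := hmin (ptOfX y₁ hy₁c) (by rw [ptOfX_apply]; exact hy₁.1)
    exact absurd (h2.trans h1) (not_le.mpr (dim_boundary_lt a x))
  · rw [Set.not_nonempty_iff_eq_empty, Set.sdiff_eq_empty] at hne
    have : orb a x = closure (orb a x) := Set.Subset.antisymm subset_closure hne
    rw [this]
    exact isClosed_closure

end Min

section Main

variable {k : Type u} [Field k] [IsAlgClosed k] {G X Y : Over (Spec (CommRingCat.of k))} [GrpObj G]
  [IsAffine G.left] [LocallyOfFiniteType G.hom] [LocallyOfFiniteType X.hom]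
  (a : AlgGrp.Action G X)

omit [IsAlgClosed k] [IsAffine G.left] [LocallyOfFiniteType G.hom] [LocallyOfFiniteType X.hom] in
lemma surjective_of_isGoodQuot (φ : X ⟶ Y) (h : NRQuot.IsGoodQuot a φ) :
    Function.Surjective φ.left.base := by
  have h1 := h.inter PEmpty (fun i => i.elim) (fun i => i.elim) (fun i => i.elim)
  rw [Set.iInter_of_empty, Set.iInter_of_empty, Set.image_univ] at h1
  exact Set.range_eq_univ.mp h1

/-- **Each fibre of a good quotient over a `k`-point contains a unique closed orbit.** -/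
theorem exists_unique_closed_orbit (φ : X ⟶ Y) (h : NRQuot.IsGoodQuot a φ)
    (y : 𝟙_ (Over (Spec (CommRingCat.of k))) ⟶ Y) :
    ∃ x : 𝟙_ (Over (Spec (CommRingCat.of k))) ⟶ X, x ≫ φ = y ∧
      IsClosed (Set.range (a.orbitMap x).left.base) ∧
      ∀ x' : 𝟙_ (Over (Spec (CommRingCat.of k))) ⟶ X, x' ≫ φ = y →
        IsClosed (Set.range (a.orbitMap x').left.base) →
        ∃ g : 𝟙_ (Over (Spec (CommRingCat.of k))) ⟶ G, lift g x ≫ a.act = x' := by
  haveI : QuasiCompact G.hom := inferInstance
  let y₀ : Y.left := y.left.base (closedPoint k)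
  have hy₀ : IsClosed ({y₀} : Set Y.left) := over_isClosed_kpoint y
  have hsurj := surjective_of_isGoodQuot a φ h
  obtain ⟨V, hV, hyV, -⟩ := exists_isAffineOpen_mem_and_subset (U := ⊤) (x := y₀) trivial
  haveI := h.affine
  let U : X.left.Opens := φ.left ⁻¹ᵁ V
  have hUaff : IsAffineOpen U := hV.preimage φ.left
  have hUinv : NRQuot.IsInvariantSet a (U : Set X.left) :=
    isInvariantSet_preimage a φ h.inv (V : Set Y.left)
  let a' := restrictOpen a U hUinv
  haveI : LocallyOfFiniteType (openObj U).hom :=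
    (inferInstance : LocallyOfFiniteType (U.ι ≫ X.hom))
  haveI : IsAffine (openObj U).left := hUaff
  haveI : QuasiCompact (openObj U).hom := inferInstance
  let F : Set X.left := φ.left.base ⁻¹' {y₀}
  have hF : IsClosed F := hy₀.preimage φ.left.continuous
  have hFU : F ⊆ (U : Set X.left) := by
    intro w hw
    show φ.left.base w ∈ V
    have : φ.left.base w = y₀ := hw
    rw [this]; exact hyV
  -- the `k`-points of `U` over `y`
  let P : Set (𝟙_ (Over (Spec (CommRingCat.of k))) ⟶ openObj U) :=
    {x' | x' ≫ openIncl U ≫ φ = y}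
  have hPne : P.Nonempty := by
    obtain ⟨w, hw⟩ := hsurj y₀
    haveI : JacobsonSpace X.left := LocallyOfFiniteType.jacobsonSpace X.hom
    obtain ⟨w₁, hw₁, hw₁c⟩ := nonempty_inter_closedPoints (Z := F) ⟨w, hw⟩ hF.isLocallyClosed
    have hx₁ : Set.range (ptOfX w₁ hw₁c).left.base ⊆ (U : Set X.left) := by
      rintro _ ⟨p, rfl⟩
      rw [ptOfX_apply]; exact hFU hw₁
    refine ⟨liftOpen U (ptOfX w₁ hw₁c) hx₁, ?_⟩
    show liftOpen U (ptOfX w₁ hw₁c) hx₁ ≫ openIncl U ≫ φ = y
    rw [← Category.assoc, liftOpen_comp]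
    apply over_kpoint_ext
    show φ.left.base ((ptOfX w₁ hw₁c).left.base (closedPoint k)) = y₀
    rw [ptOfX_apply]; exact hw₁
  -- a point of `P` with orbit of minimal dimension
  obtain ⟨x', hx'P, hx'min⟩ : ∃ x' ∈ P, ∀ z' ∈ P,
      topologicalKrullDim ↥(orb a' x') ≤ topologicalKrullDim ↥(orb a' z') := by
    obtain ⟨_, ⟨x', hx', rfl⟩, hmin⟩ := WellFounded.has_min
      (wellFounded_lt : WellFounded ((· < ·) : WithBot ℕ∞ → WithBot ℕ∞ → Prop))
      ((fun x' => topologicalKrullDim ↥(orb a' x')) '' P) (hPne.image _)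
    exact ⟨x', hx', fun z' hz' => not_lt.mp (hmin _ ⟨z', hz', rfl⟩)⟩
  let x : 𝟙_ (Over (Spec (CommRingCat.of k))) ⟶ X := x' ≫ openIncl U
  have hxφ : x ≫ φ = y := by rw [Category.assoc]; exact hx'P
  have hrange : U.ι.base '' (orb a' x') = Set.range (a.orbitMap x).left.base :=
    range_restrictOpen_orbitMap a U hUinv x'
  have horbF : Set.range (a.orbitMap x).left.base ⊆ F := by
    rintro _ ⟨g, rfl⟩
    show φ.left.base ((a.orbitMap x).left.base g) = y₀
    rw [apply_orbitMap_of_isInvariant a φ h.inv x g, hxφ]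
  -- the closure of the orbit (in `U`) stays over `y`
  have hover : ∀ w' ∈ closure (orb a' x'), φ.left.base (U.ι.base w') = y₀ := by
    intro w' hw'
    have hsub : orb a' x' ⊆ (fun w' => φ.left.base (U.ι.base w')) ⁻¹' {y₀} := by
      intro w'' hw''
      have : U.ι.base w'' ∈ Set.range (a.orbitMap x).left.base := by
        rw [← hrange]; exact ⟨w'', hw'', rfl⟩
      exact horbF this
    exact closure_minimal hsub
      (hy₀.preimage (φ.left.continuous.comp U.ι.continuous)) hw'
  have hcl' : IsClosed (orb a' x') := by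
    refine isClosed_orb_of_minimal' a' x' (fun z' hz' => hx'min z' ?_)
    show z' ≫ openIncl U ≫ φ = y
    apply over_kpoint_ext
    exact hover _ hz'
  have hclosed : IsClosed (Set.range (a.orbitMap x).left.base) := by
    rw [← closure_subset_iff_isClosed]
    intro w hw
    have hwF : w ∈ F := closure_minimal horbF hF hw
    obtain ⟨w', rfl⟩ : w ∈ Set.range U.ι.base := by
      rw [Scheme.Opens.range_ι]; exact hFU hwF
    have hw' : w' ∈ closure (orb a' x') := by
      rw [U.ι.isOpenEmbedding.isEmbedding.closure_eq_preimage_closure_image, hrange]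
      exact hw
    rw [hcl'.closure_eq] at hw'
    rw [← hrange]
    exact ⟨w', hw', rfl⟩
  refine ⟨x, hxφ, hclosed, fun x'' hx''φ hx''cl => ?_⟩
  have h1 := (closure_orbit_inter_nonempty_iff a φ h x x'').mpr (hxφ.trans hx''φ.symm)
  rw [hclosed.closure_eq, hx''cl.closure_eq] at h1
  exact exists_kpoint_act_eq_of_orbits_meet a x x'' hx''cl h1

end Main

end Groth.Agent.Lib.Helper3.GoodQuot
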