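import Mathlib
import Groth.Agent.Lib.Helper3Isog

set_option autoImplicit false
set_option linter.unusedVariables false
set_option linter.unusedSectionVars false
set_option linter.style.haveILetI false

open CategoryTheory CategoryTheory.Limits MonoidalCategory CartesianMonoidalCategory MonObj GrpObj
  AlgebraicGeometry TopologicalSpace Topology

universe u

namespace Groth.Agent.Lib.Helper3.GrpKer

section cat

variable {C : Type*} [Category C] [CartesianMonoidalCategory C]
  {G H K : C} [GrpObj G] [GrpObj H] (u : G ⟶ H) [IsMonHom u] (i : K ⟶ G)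
  (hK : IsPullback i (toUnit K) u η[H])

include hK in
/-- **The torsor square of a homomorphism** with a given kernel `(K, i)`:
`G × K ≅ G ×_H G`, `(g, c) ↦ (g, g c)`. -/
theorem isPullback_torsor' :
    IsPullback (fst G K) (fst G K * (snd G K ≫ i)) u u := by
  have hw : fst G K ≫ u = (fst G K * (snd G K ≫ i)) ≫ u := by
    rw [MonObj.mul_comp, Category.assoc, hK.w, ← Category.assoc,
      toUnit_unique (snd G K ≫ toUnit K) (toUnit _), ← Hom.one_def, _root_.mul_one]
  have hc : ∀ s : PullbackCone u u, (s.fst⁻¹ * s.snd) ≫ u = toUnit s.pt ≫ η[H] := by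
    intro s
    rw [MonObj.mul_comp, GrpObj.inv_comp, s.condition, inv_mul_cancel, Hom.one_def]
  refine ⟨⟨hw⟩, ⟨PullbackCone.IsLimit.mk hw
    (fun s => lift s.fst (hK.lift (s.fst⁻¹ * s.snd) (toUnit s.pt) (hc s))) ?_ ?_ ?_⟩⟩
  · intro s
    exact lift_fst _ _
  · intro s
    rw [MonObj.comp_mul, lift_fst, ← Category.assoc, lift_snd, hK.lift_fst,
      mul_inv_cancel_left]
  · intro s m hm1 hm2
    apply CartesianMonoidalCategory.hom_ext
    · rw [lift_fst]
      exact hm1
    · rw [lift_snd]
      apply hK.hom_ext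
      · rw [hK.lift_fst, Category.assoc]
        rw [MonObj.comp_mul, hm1, ← Category.assoc] at hm2
        rw [← hm2, inv_mul_cancel_left, Category.assoc]
      · exact toUnit_unique _ _

omit [GrpObj G] in
/-- the graph of a constant map is a base change of the point. -/
theorem isPullback_lift_const (X : C) {Y : C} (y : 𝟙_ C ⟶ Y) :
    IsPullback (lift (𝟙 X) (toUnit X ≫ y)) (toUnit X) (snd X Y) y := by
  have hw : lift (𝟙 X) (toUnit X ≫ y) ≫ snd X Y = toUnit X ≫ y := lift_snd _ _
  refine ⟨⟨hw⟩, ⟨PullbackCone.IsLimit.mk hw (fun s => s.fst ≫ fst X Y) ?_ ?_ ?_⟩⟩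
  · intro s
    apply CartesianMonoidalCategory.hom_ext
    · rw [Category.assoc, lift_fst, Category.comp_id]
    · rw [Category.assoc, lift_snd, s.condition, ← Category.assoc]
      congr 1
      exact toUnit_unique _ _
  · intro s
    exact toUnit_unique _ _
  · intro s m hm1 hm2
    rw [← hm1, Category.assoc, lift_fst, Category.comp_id]

end cat

end Groth.Agent.Lib.Helper3.GrpKer
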