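import Mathlib
import Groth.Agent.Lib.Helper3GrpLocusC
import Groth.Agent.Lib.Helper3FibUnr
import Groth.Agent.Lib.Helper6UnrLift

set_option autoImplicit false
set_option linter.unusedVariables false
set_option linter.unusedSectionVars false
set_option linter.style.haveILetI false

open CategoryTheory CategoryTheory.Limits MonoidalCategory CartesianMonoidalCategory MonObj GrpObj
  AlgebraicGeometry TopologicalSpace Topology

universe u

namespace Groth.Agent.Lib.Helper3.GrpLocus

open Groth.Agent.Lib.Helper3.GrpHomQF
open scoped Obj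

section base

variable {S : Scheme.{u}} (G H : Over S) [GrpObj G] [GrpObj H] (u : G ⟶ H) [IsMonHom u]

set_option maxHeartbeats 1600000 in
/-- variant of `fibre_of_mem_locus` assuming only that the fibre of `G` is locally of finite
type. -/
theorem fibre_of_mem_locus' (P : MorphismProperty Scheme.{u})
    [P.IsStableUnderBaseChange] [IsZariskiLocalAtSource P]
    [P.DescendsAlong (@Surjective ⊓ @Flat ⊓ @QuasiCompact)]
    (x : G.left)
    (hG : LocallyOfFiniteType (pullback.snd G.hom (S.fromSpecResidueField (G.hom x))))
    (hx : x ∈ locus P u.left) :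
    P ((Over.pullback (S.fromSpecResidueField (G.hom x))).map u).left := by
  let s := G.hom x
  let t := S.fromSpecResidueField s
  let Gs : Over (Spec (CommRingCat.of (S.residueField s))) := (Over.pullback t).obj G
  let Hs : Over (Spec (CommRingCat.of (S.residueField s))) := (Over.pullback t).obj H
  let us : Gs ⟶ Hs := (Over.pullback t).map u
  haveI : IsMonHom us := inferInstanceAs (IsMonHom ((Over.pullback t).map u))
  have hpb : IsPullback (pullback.fst G.hom t) us.left u.left (pullback.fst H.hom t) :=
    isPullback_overPullback_map G H u t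
  haveI : LocallyOfFiniteType Gs.hom := hG
  have hx' : x ∈ Set.range (G.hom.fiberι s) := by
    rw [Scheme.Hom.range_fiberι]
    rfl
  obtain ⟨z₀, hz₀⟩ := hx'
  have hz₀' : pullback.fst G.hom t z₀ = x := hz₀
  have hzL : z₀ ∈ locus P us.left := mem_locus_of_isPullback P hpb z₀ (by rw [hz₀']; exact hx)
  exact of_locus_nonempty Gs Hs us P ⟨z₀, hzL⟩

omit [GrpObj G] [GrpObj H] [IsMonHom u] in
/-- **unramified fibre criterion for `S`-morphisms `u : G → H`** locally of finite type. -/
theorem mem_locus_unramified_of_fibre [LocallyOfFiniteType u.left] (x : G.left)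
    (h : FormallyUnramified ((Over.pullback (S.fromSpecResidueField (G.hom x))).map u).left) :
    x ∈ locus @FormallyUnramified u.left := by
  rw [overPullback_map_left_eq] at h
  replace h : FormallyUnramified (CohIII.fiberMapOver u.left G.hom H.hom (Over.w u) (G.hom x)) := h
  have key : ∀ (X Y : Scheme.{u}) (f : X ⟶ Y) (g : Y ⟶ S) (h' : X ⟶ S) (w : f ≫ g = h')
      [LocallyOfFiniteType f] (x : X)
      (hfib : FormallyUnramified (CohIII.fiberMapOver f h' g w (h' x))),
      (f.stalkMap x).hom.FormallyUnramified := by
    intro X Y f g h' w _ x hfib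
    subst w
    exact Groth.Agent.Lib.Helper3.FibUnr.formallyUnramified_stalkMap_of_fibre f g x _ rfl ⊤ trivial
      (IsZariskiLocalAtSource.comp (P := @FormallyUnramified) hfib
        (Scheme.Opens.ι (((f ≫ g).fiberι ((f ≫ g) x)) ⁻¹ᵁ ⊤)))
  exact Groth.Agent.Lib.Helper6.UnrLift.exists_open_formallyUnramified u.left x
    (key _ _ u.left H.hom G.hom (Over.w u) x h)

omit [GrpObj H] [IsMonHom u] in
/-- openness of the set of `s` with `P u_s`, given the pointwise characterisation. -/
theorem isOpen_setOf_fibre' (P : MorphismProperty Scheme.{u})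
    (h : ∀ x : G.left, x ∈ locus P u.left ↔
      P ((Over.pullback (S.fromSpecResidueField (G.hom x))).map u).left) :
    IsOpen {s : S | P ((Over.pullback (S.fromSpecResidueField s)).map u).left} := by
  have hO : IsOpen (locus P u.left) := isOpen_locus P u.left
  have hc : Continuous (Groth.Agent.Lib.Helper3.GrpFibDim.unitSec G) :=
    (Groth.Agent.Lib.Helper3.GrpFibDim.unitSec G).continuous
  convert hO.preimage hc using 1
  ext s
  simp only [Set.mem_setOf_eq, Set.mem_preimage]
  have h' : Groth.Agent.Lib.Helper3.GrpFibDim.unitSec G ≫ G.hom = 𝟙 S := by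
    simpa [Groth.Agent.Lib.Helper3.GrpFibDim.unitSec] using Over.w η[G]
  have h'' : G.hom (Groth.Agent.Lib.Helper3.GrpFibDim.unitSec G s) = s := by
    rw [← Scheme.Hom.comp_apply, h']
    rfl
  rw [h, h'']

end base

end Groth.Agent.Lib.Helper3.GrpLocus
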