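import Mathlib
import Groth.Agent.Lib.Helper11OrbitSubR
import Groth.Agent.Lib.Helper25SubGrp
import Groth.Agent.Lib.Helper25TopGrp
import Groth.Agent.Lib.Helper6SepCl2
import Groth.Agent.Lib.Helper3GrpNeutral

/-!
# Reduced subgroup schemes over a perfect field (helper3)

* `isReduced_tensor`: products of reduced schemes (second factor lft) over a perfect field are reduced.
* `exists_grpObj_of_closedImmersion`: a reduced closed subscheme of a group scheme whose underlying set is
  stable under the group operations is a subgroup scheme.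
* `exists_red`: the reduced subgroup scheme `G_red`.
* `exists_closure_subgroup`: the schematic closure of the image of a homomorphism from a reduced group.
-/

set_option autoImplicit false
set_option linter.style.haveILetI false
universe u
open CategoryTheory CategoryTheory.Limits MonoidalCategory CartesianMonoidalCategory MonObj GrpObj AlgebraicGeometry

namespace Groth.Agent.Lib.Helper3.GrpRed

open Groth.Agent.Lib.Helper25.SubGrp Groth.Agent.Lib.Helper25.TopGrp
  Groth.Agent.Lib.Helper3.GrpNeutral

section general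
variable {S : Scheme.{u}}

lemma range_whiskerRight (G : Over S) {Y Z : Over S} (q : Y ⟶ Z) :
    Set.range (q ▷ G).left = (fst Z G).left ⁻¹' Set.range q.left := by
  rw [← tensorHom_id, range_tensorHom]
  have : Set.range (𝟙 G : G ⟶ G).left = Set.univ := by
    rw [Set.range_eq_univ]
    intro x
    exact ⟨x, rfl⟩
  rw [this, Set.preimage_univ, Set.inter_univ]

lemma denseRange_whiskerRight (G : Over S) [UniversallyOpen G.hom] {Y Z : Over S} (q : Y ⟶ Z)
    (hq : DenseRange q.left) : DenseRange (q ▷ G).left := by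
  rw [DenseRange, range_whiskerRight]
  have hopen : UniversallyOpen (fst Z G).left := by
    change UniversallyOpen (pullback.fst Z.hom G.hom)
    infer_instance
  exact Dense.preimage hq (fst Z G).left.isOpenMap

lemma denseRange_tensorHom {Y Z Y' Z' : Over S} [UniversallyOpen Y'.hom] [UniversallyOpen Z.hom]
    (q : Y ⟶ Z) (q' : Y' ⟶ Z') (hq : DenseRange q.left) (hq' : DenseRange q'.left) :
    DenseRange (q ⊗ₘ q').left := by
  have h : q ⊗ₘ q' = (q ▷ Y') ≫ (Z ◁ q') := by
    rw [← tensorHom_id, ← id_tensorHom, tensorHom_comp_tensorHom, Category.id_comp,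
      Category.comp_id]
  rw [h, Over.comp_left]
  exact (Groth.Agent.Lib.Helper11OrbitSub.denseRange_whiskerLeft_left Z q' hq').comp
    (denseRange_whiskerRight Y' q hq) (Z ◁ q').left.continuous

end general

section perfect
variable {K : Type u} [Field K] [PerfectField K]

lemma isReduced_tensor (X Y : Over (Spec (CommRingCat.of K))) [IsReduced X.left] [IsReduced Y.left]
    [LocallyOfFiniteType Y.hom] : IsReduced (X ⊗ Y).left := by
  letI : X.left.Over (Spec (CommRingCat.of K)) := ⟨X.hom⟩
  haveI : GeometricallyReduced X.hom :=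
    Groth.Agent.Lib.Helper6.SepCl.geometricallyReduced_of_perfectField K X.left
  haveI : IsLocallyNoetherian Y.left := LocallyOfFiniteType.isLocallyNoetherian Y.hom
  haveI : Flat X.hom := inferInstance
  exact inferInstanceAs (IsReduced (pullback X.hom Y.hom))

/-- a reduced closed subscheme of a group scheme over a perfect field, whose underlying set is stable
under the group operations, is a subgroup scheme. -/
theorem exists_grpObj_of_closedImmersion (H C : Over (Spec (CommRingCat.of K))) [GrpObj H]
    (j : C ⟶ H) [IsClosedImmersion j.left] [IsReduced C.left] [LocallyOfFiniteType C.hom]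
    (h1 : Set.range η[H].left ⊆ Set.range j.left)
    (hm : Set.range ((j ⊗ₘ j) ≫ μ[H]).left ⊆ Set.range j.left)
    (hi : Set.range (j ≫ ι[H]).left ⊆ Set.range j.left) :
    ∃ (_ : GrpObj C), IsMonHom j := by
  haveI : Mono j := by
    haveI : Mono j.left := inferInstance
    exact Over.mono_of_mono_left j
  have lift_over : ∀ (T : Over (Spec (CommRingCat.of K))) [IsReduced T.left] (f : T ⟶ H),
      Set.range f.left ⊆ Set.range j.left → ∃ f' : T ⟶ C, f' ≫ j = f := by
    intro T _ f hf
    obtain ⟨l, hl⟩ := Groth.Agent.Lib.Helper11OrbitSubR.exists_lift_closedImmersion' f.left j.left hf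
    refine ⟨Over.homMk l ?_, ?_⟩
    · rw [← Over.w j, ← Category.assoc, hl, Over.w]
    · ext1
      exact hl
  haveI : IsReduced (𝟙_ (Over (Spec (CommRingCat.of K)))).left :=
    inferInstanceAs (IsReduced (Spec (CommRingCat.of K)))
  haveI : IsReduced (C ⊗ C).left := isReduced_tensor C C
  obtain ⟨e, he⟩ := lift_over _ η[H] h1
  obtain ⟨m, hm'⟩ := lift_over _ ((j ⊗ₘ j) ≫ μ[H]) hm
  obtain ⟨w, hw⟩ := lift_over _ (j ≫ ι[H]) hi
  exact ⟨grpObjOfMono j e he m hm' w hw, isMonHom_of_grpObjOfMono j e he m hm' w hw⟩

/-- the reduced subgroup scheme of a group scheme locally of finite type over a perfect field. -/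
theorem exists_red (G : Over (Spec (CommRingCat.of K))) [GrpObj G] [LocallyOfFiniteType G.hom] :
    ∃ (Gr : Over (Spec (CommRingCat.of K))) (_ : GrpObj Gr) (i : Gr ⟶ G), IsMonHom i ∧
      IsClosedImmersion i.left ∧ Surjective i.left ∧ IsReduced Gr.left ∧
      LocallyOfFiniteType Gr.hom := by
  let Zc : TopologicalSpace.Closeds G.left := ⊤
  let I := Scheme.IdealSheafData.vanishingIdeal Zc
  let Gr : Over (Spec (CommRingCat.of K)) := Over.mk (I.subschemeι ≫ G.hom)
  let i : Gr ⟶ G := Over.homMk I.subschemeι rfl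
  haveI : IsClosedImmersion i.left := inferInstanceAs (IsClosedImmersion I.subschemeι)
  haveI : IsReduced Gr.left := inferInstanceAs (IsReduced I.subscheme)
  haveI : LocallyOfFiniteType Gr.hom :=
    inferInstanceAs (LocallyOfFiniteType (I.subschemeι ≫ G.hom))
  have hr : Set.range i.left = Set.univ := by
    change Set.range I.subschemeι = Set.univ
    rw [Groth.Agent.Lib.Helper11RedCl.range_subschemeι_vanishingIdeal]
    rfl
  obtain ⟨inst, hmon⟩ := exists_grpObj_of_closedImmersion G Gr i (by rw [hr]; exact Set.subset_univ _)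
    (by rw [hr]; exact Set.subset_univ _) (by rw [hr]; exact Set.subset_univ _)
  exact ⟨Gr, inst, i, hmon, inferInstance, ⟨Set.range_eq_univ.mp hr⟩, inferInstance, inferInstance⟩

/-- the closure of the image of a homomorphism from a reduced group scheme, as a reduced closed
subgroup scheme. -/
theorem exists_closure_subgroup (G H : Over (Spec (CommRingCat.of K))) [GrpObj G] [GrpObj H]
    [IsReduced G.left] [LocallyOfFiniteType G.hom] [LocallyOfFiniteType H.hom]
    (u : G ⟶ H) [IsMonHom u] :
    ∃ (C : Over (Spec (CommRingCat.of K))) (_ : GrpObj C) (j : C ⟶ H) (p : G ⟶ C),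
      IsMonHom j ∧ IsMonHom p ∧ IsClosedImmersion j.left ∧ IsReduced C.left ∧
      LocallyOfFiniteType C.hom ∧ p ≫ j = u ∧ DenseRange p.left := by
  obtain ⟨C, j, p, hj, hCred, hpj, hpd⟩ :=
    Groth.Agent.Lib.Helper11OrbitSub.exists_closure_factorization u
  haveI := hj
  haveI := hCred
  haveI : LocallyOfFiniteType C.hom := by
    rw [← Over.w j]
    infer_instance
  have hcl : IsClosed (Set.range j.left) := j.left.isClosedEmbedding.isClosed_range
  haveI : UniversallyOpen G.hom := inferInstance
  haveI : UniversallyOpen C.hom := inferInstance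
  -- the unit
  have h1 : Set.range η[H].left ⊆ Set.range j.left := by
    rintro _ ⟨x, rfl⟩
    refine ⟨(η[G] ≫ p).left x, ?_⟩
    rw [← Scheme.Hom.comp_apply, ← Over.comp_left, Category.assoc, hpj, IsMonHom.one_hom]
  -- the multiplication
  have hm : Set.range ((j ⊗ₘ j) ≫ μ[H]).left ⊆ Set.range j.left := by
    have hd : DenseRange (p ⊗ₘ p).left := denseRange_tensorHom p p hpd hpd
    have hcomp : (p ⊗ₘ p) ≫ (j ⊗ₘ j) ≫ μ[H] = (μ[G] ≫ p) ≫ j := by
      rw [← Category.assoc, tensorHom_comp_tensorHom, hpj, Category.assoc, hpj, IsMonHom.mul_hom]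
    rintro _ ⟨z, rfl⟩
    have hz : z ∈ closure (Set.range (p ⊗ₘ p).left) := hd z
    have h2 := image_closure_subset_closure_image
      ((j ⊗ₘ j) ≫ μ[H]).left.continuous (s := Set.range (p ⊗ₘ p).left) ⟨z, hz, rfl⟩
    refine hcl.closure_subset_iff.mpr ?_ h2
    rintro _ ⟨_, ⟨t, rfl⟩, rfl⟩
    refine ⟨(μ[G] ≫ p).left t, ?_⟩
    rw [← Scheme.Hom.comp_apply, ← Over.comp_left, ← hcomp, Over.comp_left, Scheme.Hom.comp_apply]
  -- the inverse
  have hi : Set.range (j ≫ ι[H]).left ⊆ Set.range j.left := by
    have hcomp : p ≫ j ≫ ι[H] = (ι[G] ≫ p) ≫ j := by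
      rw [← Category.assoc, hpj, Category.assoc, hpj, GrpObj.inv_hom]
    rintro _ ⟨z, rfl⟩
    have hz : z ∈ closure (Set.range p.left) := hpd z
    have h2 := image_closure_subset_closure_image
      (j ≫ ι[H]).left.continuous (s := Set.range p.left) ⟨z, hz, rfl⟩
    refine hcl.closure_subset_iff.mpr ?_ h2
    rintro _ ⟨_, ⟨t, rfl⟩, rfl⟩
    refine ⟨(ι[G] ≫ p).left t, ?_⟩
    rw [← Scheme.Hom.comp_apply, ← Over.comp_left, ← hcomp, Over.comp_left, Scheme.Hom.comp_apply]
  obtain ⟨inst, hmon⟩ := exists_grpObj_of_closedImmersion H C j h1 hm hi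
  haveI := hmon
  haveI : Mono j := by
    haveI : Mono j.left := inferInstance
    exact Over.mono_of_mono_left j
  haveI : IsMonHom (p ≫ j) := by rw [hpj]; infer_instance
  exact ⟨C, inst, j, p, hmon, isMonHom_of_comp_mono p j, hj, hCred, inferInstance, hpj, hpd⟩

end perfect

end Groth.Agent.Lib.Helper3.GrpRed
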