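import Mathlib
import Groth.Agent.Lib.Helper3GrpRedA
import Groth.Agent.Lib.Helper11HomFlat
import Groth.Agent.Lib.Helper25MaxPt

/-!
# Homomorphisms with dense image onto reduced group schemes over a field (helper3)

* `flat_surjective_of_denseRange`: a quasi-compact homomorphism with dense image into a reduced group
  scheme over a field is flat and surjective.
* `exists_factorization`: over a perfect field, `G_red → G → H` factors as `G_red → C → H` with `C` a
  reduced closed subgroup scheme and `G_red → C` with dense image.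
-/

set_option autoImplicit false
set_option linter.style.haveILetI false
universe u
open CategoryTheory CategoryTheory.Limits MonoidalCategory CartesianMonoidalCategory MonObj GrpObj AlgebraicGeometry

namespace Groth.Agent.Lib.Helper3.GrpRed

open Groth.Agent.Lib.Helper25.SubGrp Groth.Agent.Lib.Helper25.TopGrp
  Groth.Agent.Lib.Helper3.GrpNeutral

section field
variable {k : Type u} [Field k]

/-- a homomorphism into a reduced group scheme hitting a maximal point is flat. -/
theorem flat_of_mem_range_isMaxPt {G C : Over (Spec (CommRingCat.of k))} [GrpObj G] [GrpObj C]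
    (p : G ⟶ C) [IsMonHom p] [IsReduced C.left] (ξ : G.left)
    (hξ : Groth.Agent.Lib.Helper11SchImage.IsMaxPt (p.left ξ)) : Flat p.left := by
  have hfld : IsField (C.left.presheaf.stalk (p.left ξ)) :=
    Groth.Agent.Lib.Helper11Homog.isField_stalk_of_isMaxPt C.left _ hξ
  have ha : Flat ((fst G C ≫ p) * snd G C).left := by
    apply Groth.Agent.Lib.Helper11Homog.flat_of_shear ((fst G C ≫ p) * snd G C)
      ((fst G C ≫ p)⁻¹ * snd G C)
    · rw [MonObj.comp_mul, GrpObj.comp_inv, ← Category.assoc, lift_fst, lift_snd]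
      group
    · rw [MonObj.comp_mul, ← Category.assoc, lift_fst, lift_snd]
      group
  refine Groth.Agent.Lib.Helper11Homog.flat_of_stalkMap_flat (fun s t => Subsingleton.elim s t) G C p
    ((fst G C ≫ p) * snd G C) ha ?_ ξ
    (Groth.Agent.Lib.Helper11Homog.flat_of_isField_source _ hfld)
  rw [MonObj.comp_mul, ← Category.assoc, whiskerLeft_fst, whiskerLeft_snd, MonObj.mul_eq_mul,
    MonObj.mul_comp]

/-- a quasi-compact homomorphism with dense image into a reduced group scheme over a field is flat and
surjective. -/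
theorem flat_surjective_of_denseRange {G C : Over (Spec (CommRingCat.of k))} [GrpObj G] [GrpObj C]
    (p : G ⟶ C) [IsMonHom p] [IsReduced C.left] [QuasiCompact p.left] (hd : DenseRange p.left) :
    Flat p.left ∧ Surjective p.left := by
  haveI : IsDominant p.left := ⟨hd⟩
  haveI : IsSchemeTheoreticallyDominant p.left := IsSchemeTheoreticallyDominant.of_isDominant p.left
  have hmax : ∀ y : C.left, Groth.Agent.Lib.Helper11SchImage.IsMaxPt y → y ∈ Set.range p.left :=
    fun y hy => Groth.Agent.Lib.Helper11SchImage.mem_range_of_isMaxPt p.left y hy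
  refine ⟨?_, ⟨fun x => ?_⟩⟩
  · have hne : Nonempty ↥(Spec (CommRingCat.of k)) := inferInstance
    obtain ⟨y₀, hy₀, -⟩ :=
      Groth.Agent.Lib.Helper11SchImage.exists_isMaxPt_specializes C.left (η[C].left hne.some)
    obtain ⟨ξ, hξ⟩ := hmax y₀ hy₀
    exact flat_of_mem_range_isMaxPt p ξ (hξ ▸ hy₀)
  · obtain ⟨z, hz, h1, h2⟩ := Groth.Agent.Lib.Helper25.MaxPt.exists_mul_eq_of_maximal_points x
    rw [← hz]
    exact mul_mem_range p z (hmax _ (fun y hy => h1 y hy)) (hmax _ (fun y hy => h2 y hy))

end field

section perfect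
variable {K : Type u} [Field K] [PerfectField K]

/-- over a perfect field: `G_red → G → H` factors through a reduced closed subgroup scheme `C` of `H`
with `G_red → C` having dense image. -/
theorem exists_factorization (G H : Over (Spec (CommRingCat.of K))) [GrpObj G] [GrpObj H]
    [LocallyOfFiniteType G.hom] [LocallyOfFiniteType H.hom] (u : G ⟶ H) [IsMonHom u] :
    ∃ (Gr C : Over (Spec (CommRingCat.of K))) (_ : GrpObj Gr) (_ : GrpObj C)
      (i : Gr ⟶ G) (p : Gr ⟶ C) (j : C ⟶ H), IsMonHom i ∧ IsMonHom p ∧ IsMonHom j ∧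
      IsClosedImmersion i.left ∧ Surjective i.left ∧ IsClosedImmersion j.left ∧
      IsReduced Gr.left ∧ IsReduced C.left ∧ LocallyOfFiniteType Gr.hom ∧
      LocallyOfFiniteType C.hom ∧ p ≫ j = i ≫ u ∧ DenseRange p.left := by
  obtain ⟨Gr, instGr, i, hi, hicl, hisurj, hGred, hGlft⟩ := exists_red G
  haveI := hi
  haveI := hGred
  haveI := hGlft
  obtain ⟨C, instC, j, p, hj, hp, hjcl, hCred, hClft, hpj, hpd⟩ :=
    exists_closure_subgroup Gr H (i ≫ u)
  exact ⟨Gr, C, instGr, instC, i, p, j, hi, hp, hj, hicl, hisurj, hjcl, hGred, hCred, hGlft, hClft,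
    hpj, hpd⟩

end perfect

end Groth.Agent.Lib.Helper3.GrpRed
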