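import Mathlib
import Groth.Agent.Lib.Helper3GrpRedB
import Groth.Agent.Lib.Helper25DenseMul

/-!
# Open homomorphisms of group schemes over a perfect field are universally open (helper3)
-/

set_option autoImplicit false
set_option linter.style.haveILetI false
universe u
open CategoryTheory CategoryTheory.Limits MonoidalCategory CartesianMonoidalCategory MonObj GrpObj AlgebraicGeometry

namespace Groth.Agent.Lib.Helper3.GrpRed

open Groth.Agent.Lib.Helper25.SubGrp Groth.Agent.Lib.Helper25.TopGrp
  Groth.Agent.Lib.Helper3.GrpNeutral

/-- a closed immersion with open range is universally open. -/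
lemma universallyOpen_of_isClosedImmersion_of_isOpen_range {X Y : Scheme.{u}} (j : X ⟶ Y)
    [IsClosedImmersion j] (h : IsOpen (Set.range j)) : UniversallyOpen j := by
  let U : Y.Opens := ⟨Set.range j, h⟩
  let j' : X ⟶ U := IsOpenImmersion.lift U.ι j (by simp [U])
  have hfac : j' ≫ U.ι = j := IsOpenImmersion.lift_fac _ _ _
  haveI : IsClosedImmersion (j' ≫ U.ι) := by rw [hfac]; infer_instance
  haveI : IsClosedImmersion j' := IsClosedImmersion.of_comp j' U.ι
  haveI : Surjective j' := ⟨fun ⟨x, ⟨y, hy⟩⟩ ↦
    ⟨y, by apply U.ι.injective; simp [← Scheme.Hom.comp_apply, j', hy]⟩⟩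
  haveI := Groth.Agent.Lib.Helper25.DenseMul.universallyOpen_of_isClosedImmersion_of_surjective j'
  rw [← hfac]
  infer_instance

section perfect
variable {K : Type u} [Field K] [PerfectField K]

/-- over a perfect field, a homomorphism of locally finite type group schemes with open image is
universally open. -/
theorem universallyOpen_of_isOpen_range (G H : Over (Spec (CommRingCat.of K))) [GrpObj G] [GrpObj H]
    [LocallyOfFiniteType G.hom] [LocallyOfFiniteType H.hom] (u : G ⟶ H) [IsMonHom u]
    (ho : IsOpen (Set.range u.left)) : UniversallyOpen u.left := by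
  obtain ⟨Gr, C, instGr, instC, i, p, j, hi, hp, hj, hicl, hisurj, hjcl, hGred, hCred, hGlft, hClft,
    hpj, hpd⟩ := exists_factorization G H u
  haveI := hi; haveI := hp; haveI := hj; haveI := hicl; haveI := hisurj; haveI := hjcl
  haveI := hGred; haveI := hCred; haveI := hGlft; haveI := hClft
  have hcomp : i.left ≫ u.left = p.left ≫ j.left := by
    rw [← Over.comp_left, ← Over.comp_left, hpj]
  have hr1 : Set.range u.left = j.left '' Set.range p.left := by
    ext y
    constructor
    · rintro ⟨x, rfl⟩
      obtain ⟨x', rfl⟩ := i.left.surjective x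
      refine ⟨p.left x', ⟨x', rfl⟩, ?_⟩
      rw [← Scheme.Hom.comp_apply, ← hcomp, Scheme.Hom.comp_apply]
    · rintro ⟨_, ⟨x', rfl⟩, rfl⟩
      refine ⟨i.left x', ?_⟩
      rw [← Scheme.Hom.comp_apply, hcomp, Scheme.Hom.comp_apply]
  have hcl : IsClosed (Set.range u.left) := isClosed_range_of_isLocallyClosed u ho.isLocallyClosed
  have hjmem : ∀ c : C.left, j.left c ∈ Set.range u.left := by
    intro c
    have h1 : j.left c ∈ closure (j.left '' Set.range p.left) :=
      image_closure_subset_closure_image j.left.continuous ⟨c, hpd c, rfl⟩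
    rw [← hr1, hcl.closure_eq] at h1
    exact h1
  have hinj : Function.Injective j.left := j.left.isClosedEmbedding.injective
  haveI hpsurj : Surjective p.left := by
    refine ⟨fun c => ?_⟩
    have := hjmem c
    rw [hr1] at this
    obtain ⟨c', hc', e⟩ := this
    rw [← hinj e]
    exact hc'
  have hrj : Set.range j.left = Set.range u.left := by
    apply subset_antisymm
    · rintro _ ⟨c, rfl⟩
      exact hjmem c
    · rw [hr1]
      exact Set.image_subset_range _ _
  haveI : UniversallyOpen j.left :=
    universallyOpen_of_isClosedImmersion_of_isOpen_range j.left (hrj ▸ ho)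
  haveI : Flat p.left := Groth.Agent.Lib.Helper11HomFlat.flat_hom_of_surjective K p hpsurj
  haveI : IsLocallyNoetherian C.left := LocallyOfFiniteType.isLocallyNoetherian C.hom
  haveI : LocallyOfFiniteType (p.left ≫ C.hom) := by rw [Over.w p]; infer_instance
  haveI : LocallyOfFiniteType p.left := locallyOfFiniteType_of_comp p.left C.hom
  haveI : UniversallyOpen p.left := inferInstance
  haveI : UniversallyOpen (i.left ≫ u.left) := by rw [hcomp]; infer_instance
  exact universallyOpen_of_comp_of_surjective i.left u.left

end perfect

end Groth.Agent.Lib.Helper3.GrpRed
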