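import Mathlib
import Groth.Agent.Lib.Helper3GrpRedC
import Groth.Agent.Lib.Helper3GrpKer
import Groth.Agent.Lib.Helper3GrpHomQF

/-!
# Kernels of homomorphisms and universal closedness (helper3)

* `isPullback_comp_mono`, `isPullback_ker_of_factor`, `exists_kernel`, `isPullback_ker_bc`.
* `universallyClosed_of_isProper_ker`: fppf homomorphism with proper kernel is universally closed.
* `universallyClosed_of_isProper_ker_perfect`: over a perfect field, a quasi-compact homomorphism of
  locally finite type group schemes with proper kernel is universally closed.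
-/

set_option autoImplicit false
set_option linter.style.haveILetI false
universe u
open CategoryTheory CategoryTheory.Limits MonoidalCategory CartesianMonoidalCategory MonObj GrpObj AlgebraicGeometry

namespace Groth.Agent.Lib.Helper3.GrpRed

open Groth.Agent.Lib.Helper25.SubGrp Groth.Agent.Lib.Helper25.TopGrp
  Groth.Agent.Lib.Helper3.GrpNeutral Groth.Agent.Lib.Helper3.GrpKer

section cat
variable {C : Type*} [Category C]

/-- composing the cospan of a pullback square with a monomorphism. -/
lemma isPullback_comp_mono {P X Y Z W : C} {a : P ⟶ X} {b : P ⟶ Y} {f : X ⟶ Z} {g : Y ⟶ Z}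
    (h : IsPullback a b f g) (m : Z ⟶ W) [Mono m] : IsPullback a b (f ≫ m) (g ≫ m) := by
  have hw : a ≫ f ≫ m = b ≫ g ≫ m := by rw [← Category.assoc, h.w, Category.assoc]
  refine IsPullback.of_isLimit' ⟨hw⟩ (PullbackCone.IsLimit.mk _
    (fun s => h.lift s.fst s.snd (by
      rw [← cancel_mono m, Category.assoc, Category.assoc, s.condition])) ?_ ?_ ?_)
  · intro s; exact h.lift_fst _ _ _
  · intro s; exact h.lift_snd _ _ _
  · intro s l h1 h2
    apply h.hom_ext
    · rw [h.lift_fst]; exact h1
    · rw [h.lift_snd]; exact h2

variable [CartesianMonoidalCategory C]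

/-- the kernel of a factor: if `p ≫ j = i ≫ u` with `j` a monomorphic homomorphism, then
`ker p = ker u ×_G G'`. -/
lemma isPullback_ker_of_factor {G' G C' H Kp N : C} [GrpObj G'] [GrpObj G] [GrpObj C'] [GrpObj H]
    (i : G' ⟶ G) (u : G ⟶ H) (p : G' ⟶ C') (j : C' ⟶ H) [IsMonHom j] [Mono j]
    (hpj : p ≫ j = i ≫ u) (ip : Kp ⟶ G') (hKp : IsPullback ip (toUnit Kp) p η[C'])
    (iN : N ⟶ G) (hN : IsPullback iN (toUnit N) u η[H]) :
    ∃ c : Kp ⟶ N, IsPullback c ip iN i := by
  have h1 : (ip ≫ i) ≫ u = toUnit Kp ≫ η[H] := by
    rw [Category.assoc, ← hpj, ← Category.assoc, hKp.w, Category.assoc, IsMonHom.one_hom]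
  refine ⟨hN.lift (ip ≫ i) (toUnit Kp) h1, ?_⟩
  have houter := isPullback_comp_mono hKp j
  rw [hpj, IsMonHom.one_hom] at houter
  refine IsPullback.of_right ?_ (hN.lift_fst _ _ _) hN.flip
  rw [toUnit_unique (hN.lift (ip ≫ i) (toUnit Kp) h1 ≫ toUnit N) (toUnit Kp)]
  exact houter.flip

end cat

section overS
variable {S : Scheme.{u}} {G H : Over S} [GrpObj G] [GrpObj H]

/-- existence of the kernel in `Over S`, with structure morphism the scheme-theoretic kernel. -/
lemma exists_kernel (u : G ⟶ H) : ∃ (N : Over S) (iN : N ⟶ G), IsPullback iN (toUnit N) u η[H] ∧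
    ∃ e : N.left ≅ pullback u.left η[H].left, N.hom = e.hom ≫ pullback.snd u.left η[H].left := by
  have hp := IsPullback.of_hasPullback u η[H]
  rw [toUnit_unique (pullback.snd u η[H]) (toUnit _)] at hp
  refine ⟨pullback u η[H], pullback.fst u η[H], hp, ?_⟩
  have hl := hp.map (Over.forget S)
  simp only [Over.forget_obj, Over.forget_map] at hl
  refine ⟨hl.isoPullback, ?_⟩
  rw [hl.isoPullback_hom_snd]
  have := Over.w (toUnit (pullback u η[H]))
  have e0 : (𝟙_ (Over S)).hom = 𝟙 _ := rfl
  rw [e0, Category.comp_id] at this
  exact this.symm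

/-- a flat surjective locally finitely presented homomorphism with proper kernel is universally
closed. -/
lemma universallyClosed_of_isProper_ker {Kp : Over S} (p : G ⟶ H) [IsMonHom p] [Flat p.left]
    [Surjective p.left] [LocallyOfFinitePresentation p.left] (ip : Kp ⟶ G)
    (hKp : IsPullback ip (toUnit Kp) p η[H]) [UniversallyClosed Kp.hom] :
    UniversallyClosed p.left := by
  have hT := (isPullback_torsor' p ip hKp).map (Over.forget S)
  simp only [Over.forget_obj, Over.forget_map] at hT
  have hfst : UniversallyClosed (fst G Kp).left := by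
    rw [Over.fst_left]
    infer_instance
  exact MorphismProperty.of_isPullback_of_descendsAlong (P := @UniversallyClosed)
    (Q := @Surjective ⊓ @Flat ⊓ @LocallyOfFinitePresentation) hT
    ⟨⟨inferInstance, inferInstance⟩, inferInstance⟩ hfst

end overS

section bc
variable {S T : Scheme.{u}} (t : T ⟶ S) {G H N : Over S} [GrpObj G] [GrpObj H]

/-- base change of the kernel square. -/
lemma isPullback_ker_bc (u : G ⟶ H) (iN : N ⟶ G) (hN : IsPullback iN (toUnit N) u η[H]) :
    IsPullback ((Over.pullback t).map iN) (toUnit ((Over.pullback t).obj N))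
      ((Over.pullback t).map u) η[Red.bc t H] := by
  have h := hN.map (Over.pullback t)
  have h1 : η[Red.bc t H] = Functor.LaxMonoidal.ε (Over.pullback t) ≫ (Over.pullback t).map η[H] :=
    rfl
  refine IsPullback.of_iso h (Iso.refl _) (Iso.refl _) (Functor.Monoidal.εIso (Over.pullback t)).symm
    (Iso.refl _) (by simp) (toUnit_unique _ _) (by simp) ?_
  rw [h1]
  simp

end bc

section perfect
variable {K : Type u} [Field K] [PerfectField K]

/-- over a perfect field, a quasi-compact homomorphism of locally finite type group schemes with proper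
kernel is universally closed. -/
theorem universallyClosed_of_isProper_ker_perfect (G H : Over (Spec (CommRingCat.of K))) [GrpObj G]
    [GrpObj H] [LocallyOfFiniteType G.hom] [LocallyOfFiniteType H.hom] (u : G ⟶ H) [IsMonHom u]
    [QuasiCompact u.left] {N : Over (Spec (CommRingCat.of K))} (iN : N ⟶ G)
    (hN : IsPullback iN (toUnit N) u η[H]) [IsProper N.hom] : UniversallyClosed u.left := by
  obtain ⟨Gr, C, instGr, instC, i, p, j, hi, hp, hj, hicl, hisurj, hjcl, hGred, hCred, hGlft, hClft,
    hpj, hpd⟩ := exists_factorization G H u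
  haveI := hi; haveI := hp; haveI := hj; haveI := hicl; haveI := hisurj; haveI := hjcl
  haveI := hGred; haveI := hCred; haveI := hGlft; haveI := hClft
  have hcomp : i.left ≫ u.left = p.left ≫ j.left := by
    rw [← Over.comp_left, ← Over.comp_left, hpj]
  haveI : QuasiCompact (p.left ≫ j.left) := by rw [← hcomp]; infer_instance
  haveI : QuasiCompact p.left := QuasiCompact.of_comp p.left j.left
  obtain ⟨hflat, hsurj⟩ := flat_surjective_of_denseRange p hpd
  haveI := hflat; haveI := hsurj
  haveI : IsLocallyNoetherian C.left := LocallyOfFiniteType.isLocallyNoetherian C.hom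
  haveI : LocallyOfFiniteType (p.left ≫ C.hom) := by rw [Over.w p]; infer_instance
  haveI : LocallyOfFiniteType p.left := locallyOfFiniteType_of_comp p.left C.hom
  obtain ⟨Kp, ip, hKp, -⟩ := exists_kernel p
  haveI : Mono j := by
    haveI : Mono j.left := inferInstance
    exact Over.mono_of_mono_left j
  obtain ⟨c, hc⟩ := isPullback_ker_of_factor i u p j hpj ip hKp iN hN
  have hcl := hc.map (Over.forget _)
  simp only [Over.forget_obj, Over.forget_map] at hcl
  haveI : IsClosedImmersion c.left :=
    MorphismProperty.of_isPullback (P := @IsClosedImmersion) hcl.flip inferInstance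
  haveI : IsProper Kp.hom := by rw [← Over.w c]; infer_instance
  haveI := universallyClosed_of_isProper_ker p ip hKp
  haveI : UniversallyClosed (i.left ≫ u.left) := by rw [hcomp]; infer_instance
  exact UniversallyClosed.of_comp_surjective i.left u.left

end perfect

end Groth.Agent.Lib.Helper3.GrpRed
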