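import Mathlib
import Groth.Prelude.Def_HMNum
import Groth.Agent.S18285

/-!
# Helper3HMNumA: basic facts on limits under a one-parameter subgroup (helper3)
-/

set_option autoImplicit false
set_option linter.style.haveILetI false
universe u
open CategoryTheory CategoryTheory.Limits MonoidalCategory CartesianMonoidalCategory MonObj AlgebraicGeometry Opposite

namespace Groth.Agent.Lib.Helper3.HMNumA

open Magnet HMNum

section bot
variable (R : Type u) [CommRing R]

lemma bijective_algebraMap_bot :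
    Function.Bijective (algebraMap R (MonoidAlgebra R (Multiplicative ↥(⊥ : AddSubmonoid ℤ)))) := by
  haveI : Subsingleton (Multiplicative ↥(⊥ : AddSubmonoid ℤ)) := by
    constructor
    intro a b
    have ha := (Multiplicative.toAdd a).2
    have hb := (Multiplicative.toAdd b).2
    rw [AddSubmonoid.mem_bot] at ha hb
    have : Multiplicative.toAdd a = Multiplicative.toAdd b := Subtype.ext (ha.trans hb.symm)
    exact this
  constructor
  · intro a b h
    rw [MonoidAlgebra.coe_algebraMap] at h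
    simpa using congrArg (fun f => f.coeff 1) h
  · intro f
    refine ⟨f.coeff 1, ?_⟩
    rw [MonoidAlgebra.coe_algebraMap]
    ext g
    have hg : g = 1 := Subsingleton.elim _ _
    subst hg
    simp

instance isIso_hom_AMon_bot : IsIso (Magnet.AMon R ↥(⊥ : AddSubmonoid ℤ)).hom := by
  change IsIso (Spec.map (CommRingCat.ofHom (algebraMap R (MonoidAlgebra R (Multiplicative ↥(⊥ : AddSubmonoid ℤ))))))
  haveI : IsIso (CommRingCat.ofHom (algebraMap R (MonoidAlgebra R (Multiplicative ↥(⊥ : AddSubmonoid ℤ))))) := by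
    rw [ConcreteCategory.isIso_iff_bijective]
    exact bijective_algebraMap_bot R
  infer_instance

end bot

variable {S : Scheme.{u}}

instance isIso_hom_AMonS_bot : IsIso (Magnet.AMonS S ↥(⊥ : AddSubmonoid ℤ)).hom := by
  change IsIso (pullback.snd (Magnet.AMon (ULift.{u} ℤ) ↥(⊥ : AddSubmonoid ℤ)).hom _)
  infer_instance

lemma hom_ext_AMonS_bot {T : Over S} (f g : T ⟶ Magnet.AMonS S ↥(⊥ : AddSubmonoid ℤ)) : f = g := by
  ext1
  rw [← cancel_mono (Magnet.AMonS S ↥(⊥ : AddSubmonoid ℤ)).hom, Over.w, Over.w]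


lemma origin_absorbing {T : Over S} (g : T ⟶ Red.Gm S) :
    lift g (toUnit T ≫ HMNum.origin S) ≫ (Magnet.subAct S ℤ HMNum.plus).act =
      toUnit T ≫ HMNum.origin S := by
  have hE := (MonAct.isEquivariant_iff _ _ _).mp
    (Magnet.isEquivariant_faceMapS (M := ℤ) S HMNum.isFace_bot) T g
    (toUnit T ≫ η[Magnet.AMonS S ↥(⊥ : AddSubmonoid ℤ)])
  unfold HMNum.origin
  rw [← Category.assoc (toUnit T), ← hE, ← Category.assoc]
  congr 1
  exact hom_ext_AMonS_bot _ _

variable {G X : Over S} [GrpObj G]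

lemma lift_gmAct (a : AlgGrp.Action G X) (l : Red.Gm S ⟶ G) [IsMonHom l] {T : Over S}
    (g : T ⟶ Red.Gm S) (z : T ⟶ X) :
    lift g z ≫ (HMNum.gmAct a l).act = lift (g ≫ l) z ≫ a.act := by
  rw [Magnet.MonAct.lift_restrict_act, Magnet.MonAct.ofAction_act]

/-- the limit point is fixed. -/
theorem isFixedBy_of_isLimitPt (a : AlgGrp.Action G X) (l : Red.Gm S ⟶ G) [IsMonHom l] {T : Over S}
    (x y : T ⟶ X) (h : HMNum.IsLimitPt a l x y) : HMNum.IsFixedBy a l y := by
  obtain ⟨φ, -, rfl⟩ := h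
  intro T' t g
  have hφ := (MonAct.mem_eqvHom_iff φ.1).mp φ.2 T' g (toUnit T' ≫ HMNum.origin S) t
  rw [origin_absorbing, lift_gmAct] at hφ
  have h1 : t ≫ HMNum.limitPt φ = lift (toUnit T' ≫ HMNum.origin S) t ≫ φ.1 := by
    rw [HMNum.limitPt_eq, ← Category.assoc, comp_lift, ← Category.assoc, toUnit_unique (t ≫ toUnit T) (toUnit T'),
      Category.comp_id]
  rw [h1]
  exact hφ.symm

/-- the constant family at a fixed point is a point of the attractor. -/
theorem isLimitPt_self_of_isFixedBy (a : AlgGrp.Action G X) (l : Red.Gm S ⟶ G) [IsMonHom l] {T : Over S}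
    (y : T ⟶ X) (h : HMNum.IsFixedBy a l y) : HMNum.IsLimitPt a l y y := by
  refine ⟨⟨snd _ T ≫ y, ?_⟩, ?_, ?_⟩
  · rw [MonAct.mem_eqvHom_iff]
    intro T' g b t
    rw [lift_snd_assoc, lift_snd_assoc, lift_gmAct]
    exact (h T' t g).symm
  · change lift (toUnit T ≫ η[_]) (𝟙 T) ≫ snd _ T ≫ y = y
    rw [lift_snd_assoc, Category.id_comp]
  · rw [HMNum.limitPt_eq]
    change lift (toUnit T ≫ HMNum.origin S) (𝟙 T) ≫ snd _ T ≫ y = y
    rw [lift_snd_assoc, Category.id_comp]

/-- limits are unique for separated `X`. -/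
theorem isLimitPt_unique [IsSeparated X.hom] (a : AlgGrp.Action G X) (l : Red.Gm S ⟶ G) [IsMonHom l]
    {T : Over S} (x y y' : T ⟶ X) (h : HMNum.IsLimitPt a l x y) (h' : HMNum.IsLimitPt a l x y') :
    y = y' := by
  obtain ⟨φ, h1, rfl⟩ := h
  obtain ⟨φ', h1', rfl⟩ := h'
  have := Groth.Agent.S18285.result S ℤ X (HMNum.gmAct a l) HMNum.plus T (h1.trans h1'.symm)
  rw [this]

end Groth.Agent.Lib.Helper3.HMNumA
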