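import Mathlib
import Groth.Prelude.Def_HMNum
import Groth.Agent.Lib.Helper3HMNumA
import Groth.Agent.Lib.Helper3OrbitA

/-!
# Helper3HMNumB: translating limits and fibre weights by a point of the group (helper3)
-/

set_option autoImplicit false
set_option linter.style.haveILetI false
universe u
open CategoryTheory CategoryTheory.Limits MonoidalCategory CartesianMonoidalCategory MonObj AlgebraicGeometry Opposite

namespace Groth.Agent.Lib.Helper3.HMNumB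

open Magnet HMNum Groth.Agent.Lib.Helper3.HMNumA
open Groth.Agent.Lib.Helper3.Orbit (smul comp_smul)

variable {S : Scheme.{u}} {G X V : Over S} [GrpObj G]

lemma smul_def (a : AlgGrp.Action G X) {T : Over S} (g : T ⟶ G) (z : T ⟶ X) :
    lift g z ≫ a.act = smul a g z := rfl

/-- conjugated one-parameter subgroup on points -/
lemma comp_conj (l l' : Red.Gm S ⟶ G) (g₀ : 𝟙_ (Over S) ⟶ G)
    (hl' : l' = (toUnit _ ≫ g₀)⁻¹ * l * (toUnit _ ≫ g₀)) {T' : Over S} (g : T' ⟶ Red.Gm S) :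
    (toUnit T' ≫ g₀) * (g ≫ l') = (g ≫ l) * (toUnit T' ≫ g₀) := by
  have e : g ≫ toUnit (Red.Gm S) = toUnit T' := toUnit_unique _ _
  rw [hl', MonObj.comp_mul, MonObj.comp_mul, GrpObj.comp_inv, ← Category.assoc, e]
  rw [_root_.mul_assoc, _root_.mul_inv_cancel_left]

theorem isFixedBy_translate (a : AlgGrp.Action G X) (l l' : Red.Gm S ⟶ G) (g₀ : 𝟙_ (Over S) ⟶ G)
    (hl' : l' = (toUnit _ ≫ g₀)⁻¹ * l * (toUnit _ ≫ g₀)) (y : 𝟙_ (Over S) ⟶ X)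
    (h : HMNum.IsFixedBy a l' y) : HMNum.IsFixedBy a l (lift g₀ y ≫ a.act) := by
  intro T' t g
  have et : t = toUnit T' := toUnit_unique _ _
  have e1 : t ≫ (lift g₀ y ≫ a.act) = smul a (toUnit T' ≫ g₀) (t ≫ y) := by
    rw [smul_def, comp_smul, et]
  rw [e1, smul_def, ← Orbit.mul_smul, ← comp_conj l l' g₀ hl', Orbit.mul_smul]
  congr 1
  exact h T' t g

theorem isLimitPt_translate (a : AlgGrp.Action G X) (l l' : Red.Gm S ⟶ G) [IsMonHom l] [IsMonHom l']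
    (g₀ : 𝟙_ (Over S) ⟶ G) (hl' : l' = (toUnit _ ≫ g₀)⁻¹ * l * (toUnit _ ≫ g₀))
    (x y : 𝟙_ (Over S) ⟶ X) (h : HMNum.IsLimitPt a l' x y) :
    HMNum.IsLimitPt a l (lift g₀ x ≫ a.act) (lift g₀ y ≫ a.act) := by
  obtain ⟨φ', rfl, rfl⟩ := h
  have hφ' := (MonAct.mem_eqvHom_iff φ'.1).mp φ'.2
  have eU : toUnit (𝟙_ (Over S)) = 𝟙 _ := toUnit_unique _ _
  refine ⟨⟨smul a (toUnit _ ≫ g₀) φ'.1, ?_⟩, ?_, ?_⟩
  · rw [MonAct.mem_eqvHom_iff]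
    intro T' g b t
    rw [comp_smul, comp_smul, hφ' T' g b t, lift_gmAct, lift_gmAct, smul_def, smul_def,
      ← Category.assoc, ← Category.assoc, toUnit_unique (lift (lift g b ≫ (subAct S ℤ plus).act) t ≫ toUnit _) (toUnit T'),
      toUnit_unique (lift b t ≫ toUnit _) (toUnit T'), ← Orbit.mul_smul, ← Orbit.mul_smul,
      comp_conj l l' g₀ hl']
  · change lift (toUnit _ ≫ η[_]) (𝟙 _) ≫ smul a (toUnit _ ≫ g₀) φ'.1 =
      lift g₀ (lift (toUnit _ ≫ η[_]) (𝟙 _) ≫ φ'.1) ≫ a.act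
    rw [comp_smul, ← Category.assoc, toUnit_unique (lift (toUnit _ ≫ η[_]) (𝟙 _) ≫ toUnit _) (toUnit _), eU,
      Category.id_comp]
    rfl
  · rw [HMNum.limitPt_eq, HMNum.limitPt_eq]
    change lift (toUnit _ ≫ HMNum.origin S) (𝟙 _) ≫ smul a (toUnit _ ≫ g₀) φ'.1 = _
    rw [comp_smul, ← Category.assoc, toUnit_unique (lift (toUnit _ ≫ HMNum.origin S) (𝟙 _) ≫ toUnit _) (toUnit _), eU,
      Category.id_comp]
    rfl


lemma appLE_congr_hom {Y Z : Scheme.{u}} {f f' : Y ⟶ Z} (e : f = f') (U : Z.Opens) (W : Y.Opens)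
    (h : W ≤ f ⁻¹ᵁ U) (s : Γ(Z, U)) : f.appLE U W h s = f'.appLE U W (e ▸ h) s := by
  subst e; rfl

lemma evalFn_congr (π : V ⟶ X) {U : X.left.Opens} (c : Γ(V.left, π.left ⁻¹ᵁ U)) {T' : Over S}
    {v v' : T' ⟶ V} (e : v = v') (h : ⊤ ≤ v.left ⁻¹ᵁ (π.left ⁻¹ᵁ U)) :
    HMNum.evalFn π c v h = HMNum.evalFn π c v' (e ▸ h) := by
  subst e; rfl

lemma appLE_appLE_apply {W Y Z : Scheme.{u}} (f : W ⟶ Y) (g : Y ⟶ Z) (U : Z.Opens) (V' : Y.Opens)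
    (W' : W.Opens) (e₁ : V' ≤ g ⁻¹ᵁ U) (e₂ : W' ≤ f ⁻¹ᵁ V') (s : Γ(Z, U)) :
    f.appLE V' W' e₂ (g.appLE U V' e₁ s) =
      (f ≫ g).appLE U W' (e₂.trans ((TopologicalSpace.Opens.map f.base).map (homOfLE e₁)).le) s := by
  rw [← Scheme.Hom.appLE_comp_appLE]
  rfl

lemma smul_comp_pi (a : AlgGrp.Action G X) (π : V ⟶ X) (Φ : AlgGrp.Action G V)
    (hπ : Φ.act ≫ π = (G ◁ π) ≫ a.act) {T : Over S} (g : T ⟶ G) (z : T ⟶ V) :
    smul Φ g z ≫ π = smul a g (z ≫ π) := by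
  unfold smul
  rw [Category.assoc, hπ, lift_whiskerLeft_assoc]


/-- evaluating the linearity identity of a lifted action at the point `(c₀, z)`. -/
lemma eval_linearLift (a : AlgGrp.Action G X) (π : V ⟶ X) (Φ : AlgGrp.Action G V)
    (hπ : Φ.act ≫ π = (G ◁ π) ≫ a.act) {U U' : X.left.Opens}
    (c : Γ(V.left, π.left ⁻¹ᵁ U)) (c' : Γ(V.left, π.left ⁻¹ᵁ U'))
    (κ : Γ((G ⊗ X).left, a.act.left ⁻¹ᵁ U' ⊓ (snd G X).left ⁻¹ᵁ U))
    (hκ : Φ.act.left.appLE (π.left ⁻¹ᵁ U') (GLinSh.liftOpen a π U U')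
        (GLinSh.liftOpen_le_act a π Φ hπ) c' =
          (G ◁ π).left.appLE _ (GLinSh.liftOpen a π U U') (GLinSh.liftOpen_le_base a π) κ *
            (snd G V).left.appLE (π.left ⁻¹ᵁ U) (GLinSh.liftOpen a π U U')
              (GLinSh.liftOpen_le_snd a π) c)
    {T' : Over S} (c₀ : T' ⟶ G) (z : T' ⟶ V) (q : T' ⟶ G ⊗ X) (hq : lift c₀ (z ≫ π) = q)
    (hqW : ⊤ ≤ q.left ⁻¹ᵁ (a.act.left ⁻¹ᵁ U' ⊓ (snd G X).left ⁻¹ᵁ U))
    (z' : T' ⟶ V) (hz' : smul Φ c₀ z = z')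
    (h1 : ⊤ ≤ z'.left ⁻¹ᵁ (π.left ⁻¹ᵁ U')) (h3 : ⊤ ≤ z.left ⁻¹ᵁ (π.left ⁻¹ᵁ U)) :
    HMNum.evalFn π c' z' h1 = q.left.appLE _ ⊤ hqW κ * HMNum.evalFn π c z h3 := by
  subst hz'
  have hpq : lift c₀ z ≫ (G ◁ π) = q := by rw [lift_whiskerLeft, hq]
  have hp : ⊤ ≤ (lift c₀ z).left ⁻¹ᵁ (GLinSh.liftOpen a π U U') := by
    have e0 : (lift c₀ z).left ⁻¹ᵁ (GLinSh.liftOpen a π U U') =
        (lift c₀ z ≫ (G ◁ π)).left ⁻¹ᵁ (a.act.left ⁻¹ᵁ U' ⊓ (snd G X).left ⁻¹ᵁ U) := rfl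
    rw [e0, hpq]
    exact hqW
  have h := congrArg ((lift c₀ z).left.appLE (GLinSh.liftOpen a π U U') ⊤ hp) hκ
  rw [appLE_appLE_apply] at h
  erw [map_mul] at h
  rw [appLE_appLE_apply, appLE_appLE_apply] at h
  have e1 : (lift c₀ z).left ≫ (G ◁ π).left = q.left := by
    rw [← Over.comp_left, hpq]
  have e2 : (lift c₀ z).left ≫ (snd G V).left = z.left := by
    rw [← Over.comp_left, lift_snd]
  rw [appLE_congr_hom e1, appLE_congr_hom e2] at h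
  exact h


/-- the fibre weight at `g₀ • y` for `l` equals the fibre weight at `y` for `g₀⁻¹ l g₀`. -/
theorem hasFibreWt_translate (a : AlgGrp.Action G X) (π : V ⟶ X)
    (chart : ∀ U : X.left.Opens, Set (Γ(V.left, π.left ⁻¹ᵁ U))) (Φ : AlgGrp.Action G V)
    (hπ : Φ.act ≫ π = (G ◁ π) ≫ a.act) (hlin : GLinSh.IsLinearLift a π Φ chart hπ)
    (hcover : ∀ x : X.left, ∃ U : X.left.Opens, x ∈ U ∧ (chart U).Nonempty)
    (s₀ : ↥(𝟙_ (Over S)).left) (hS : ∀ s : ↥(𝟙_ (Over S)).left, s = s₀)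
    (l l' : Red.Gm S ⟶ G) (g₀ : 𝟙_ (Over S) ⟶ G)
    (hl' : l' = (toUnit _ ≫ g₀)⁻¹ * l * (toUnit _ ≫ g₀))
    (y : 𝟙_ (Over S) ⟶ X) (w : ℤ) (h : HMNum.HasFibreWt a π chart Φ l' y w) :
    HMNum.HasFibreWt a π chart Φ l (lift g₀ y ≫ a.act) w := by
  obtain ⟨hfix, U, c, hc, hU, hwt⟩ := h
  refine ⟨isFixedBy_translate a l l' g₀ hl' y hfix, ?_⟩
  obtain ⟨U', hs₀, c', hc'⟩ := hcover ((lift g₀ y ≫ a.act).left s₀)
  have hU' : (lift g₀ y ≫ a.act).left ⁻¹ᵁ U' = ⊤ := by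
    ext s
    simp only [TopologicalSpace.Opens.coe_top, Set.mem_univ, iff_true]
    rw [hS s]
    exact hs₀
  obtain ⟨κ, hκ⟩ := hlin U U' c c' hc hc'
  refine ⟨U', c', hc', hU', ?_⟩
  intro T' t g v' hv' hgv'
  have et : t = toUnit T' := toUnit_unique _ _
  set c₀ : T' ⟶ G := toUnit T' ≫ g₀ with hc₀
  have ety : t ≫ (lift g₀ y ≫ a.act) = smul a c₀ (t ≫ y) := by
    rw [smul_def, comp_smul, et]
  set v : T' ⟶ V := smul Φ c₀⁻¹ v' with hv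
  have F1 : smul Φ c₀ v = v' := by
    rw [hv, ← Orbit.mul_smul, _root_.mul_inv_cancel, Orbit.one_smul]
  have F3 : v ≫ π = t ≫ y := by
    rw [hv, smul_comp_pi a π Φ hπ, hv', ety, ← Orbit.mul_smul, _root_.inv_mul_cancel, Orbit.one_smul]
  set vg : T' ⟶ V := lift (g ≫ l') v ≫ Φ.act with hvg
  have F4 : smul Φ c₀ vg = lift (g ≫ l) v' ≫ Φ.act := by
    rw [hvg, smul_def, smul_def, ← Orbit.mul_smul, comp_conj l l' g₀ hl', Orbit.mul_smul, F1]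
  have F5 : vg ≫ π = t ≫ y := by
    rw [hvg, smul_def, smul_comp_pi a π Φ hπ, F3]
    exact hfix T' t g
  have hmain := hwt T' t g v F3 F5
  -- the point `q` of `G × X`
  set q : T' ⟶ G ⊗ X := lift c₀ (t ≫ y) with hq
  have hqW : ⊤ ≤ q.left ⁻¹ᵁ (a.act.left ⁻¹ᵁ U' ⊓ (snd G X).left ⁻¹ᵁ U) := by
    have e1 : q.left ⁻¹ᵁ (a.act.left ⁻¹ᵁ U') = (q ≫ a.act).left ⁻¹ᵁ U' := rfl
    have e2 : q.left ⁻¹ᵁ ((snd G X).left ⁻¹ᵁ U) = (q ≫ snd G X).left ⁻¹ᵁ U := rfl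
    have e3 : q ≫ a.act = t ≫ (lift g₀ y ≫ a.act) := by rw [ety]; rfl
    have e4 : q ≫ snd G X = t ≫ y := lift_snd _ _
    have e5 : (t ≫ (lift g₀ y ≫ a.act)).left ⁻¹ᵁ U' = t.left ⁻¹ᵁ ((lift g₀ y ≫ a.act).left ⁻¹ᵁ U') := rfl
    have e6 : (t ≫ y).left ⁻¹ᵁ U = t.left ⁻¹ᵁ (y.left ⁻¹ᵁ U) := rfl
    rw [Scheme.Hom.preimage_inf, e1, e2, e3, e4, e5, e6, hU', hU]
    exact le_of_eq (by simp)
  have E1 := eval_linearLift a π Φ hπ c c' κ hκ c₀ v q (by rw [F3]) hqW v' F1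
    (HMNum.top_le_preimage π hU' hv') (HMNum.top_le_preimage π hU F3)
  have E2 := eval_linearLift a π Φ hπ c c' κ hκ c₀ vg q (by rw [F5]) hqW _ F4
    (HMNum.top_le_preimage π hU' hgv') (HMNum.top_le_preimage π hU F5)
  rw [E2, E1, hmain]
  exact mul_left_comm _ _ _

end Groth.Agent.Lib.Helper3.HMNumB
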