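import Mathlib
import Groth.Prelude.Def_HMNum
import Groth.Agent.Lib.Helper3HMNumB
import Groth.Agent.Lib.Helper20MagnetSTD2

/-!
# Helper3HMNumC: the parabolic subgroup of a one-parameter subgroup and limits (helper3)
-/

set_option autoImplicit false
set_option linter.style.haveILetI false
universe u
open CategoryTheory CategoryTheory.Limits MonoidalCategory CartesianMonoidalCategory MonObj AlgebraicGeometry Opposite

namespace Groth.Agent.Lib.Helper3.HMNumC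

open Magnet HMNum Groth.Agent.Lib.Helper3.HMNumA Groth.Agent.Lib.Helper3.HMNumB
open Groth.Agent.Lib.Helper3.Orbit (smul comp_smul)

variable {S : Scheme.{u}} {G X V : Over S} [GrpObj G]

/-- `u • b = incl(u) * b` on points -/
lemma lift_subAct {T' : Over S} (u : T' ⟶ Red.Gm S) (b : T' ⟶ HMNum.A1 S) :
    lift u b ≫ (Magnet.subAct S ℤ HMNum.plus).act = (u ≫ HMNum.incl S) * b := by
  rw [Magnet.subAct, MonAct.lift_restrict_act, MonAct.lift_regular_act]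

lemma hf_pt (l : Red.Gm S ⟶ G) (g₀ : 𝟙_ (Over S) ⟶ G)
    (f : HMNum.A1 S ⟶ G) (hf : HMNum.incl S ≫ f = l * (toUnit _ ≫ g₀) * l⁻¹)
    {T' : Over S} (w : T' ⟶ Red.Gm S) :
    (w ≫ HMNum.incl S) ≫ f = (w ≫ l) * (toUnit T' ≫ g₀) * (w ≫ l)⁻¹ := by
  rw [Category.assoc, hf, MonObj.comp_mul, MonObj.comp_mul, GrpObj.comp_inv, ← Category.assoc,
    toUnit_unique (w ≫ toUnit _) (toUnit T')]

/-- equivariance of the extension `f` of `u ↦ l(u) g₀ l(u)⁻¹`. -/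
theorem extension_equivariant [IsSeparated G.hom] (l : Red.Gm S ⟶ G) [IsMonHom l]
    (g₀ : 𝟙_ (Over S) ⟶ G) (f : HMNum.A1 S ⟶ G)
    (hf : HMNum.incl S ≫ f = l * (toUnit _ ≫ g₀) * l⁻¹)
    {T' : Over S} (u : T' ⟶ Red.Gm S) (s : T' ⟶ HMNum.A1 S) :
    (lift u s ≫ (Magnet.subAct S ℤ HMNum.plus).act) ≫ f = (u ≫ l) * (s ≫ f) * (u ≫ l)⁻¹ := by
  let F₁ : HMNum.A1 S ⊗ Red.Gm S ⟶ G :=
    (lift (snd _ _) (fst _ _) ≫ (Magnet.subAct S ℤ HMNum.plus).act) ≫ f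
  let F₂ : HMNum.A1 S ⊗ Red.Gm S ⟶ G :=
    (snd _ _ ≫ l) * (fst _ _ ≫ f) * (snd _ _ ≫ l)⁻¹
  haveI : IsSchemeTheoreticallyDominant ((HMNum.incl S ▷ Red.Gm S).left) :=
    Groth.Agent.Lib.Helper20MagnetSTD.isSchemeTheoreticallyDominant_AMonS_map_whiskerRight S
      HMNum.plus.subtype Subtype.val_injective (Red.Gm S)
  have hF : F₁ = F₂ := by
    apply Groth.Agent.Lib.Helper20MagnetSTD.over_ext_of_isSchemeTheoreticallyDominant
      (HMNum.incl S ▷ Red.Gm S)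
    apply Magnet.hom_ext_lift₂
    intro T v w
    simp only [F₁, F₂]
    rw [lift_whiskerRight_assoc, lift_whiskerRight_assoc, ← Category.assoc, ← Category.assoc, comp_lift,
      lift_snd, lift_fst, lift_subAct, ← MonObj.mul_comp, hf_pt l g₀ f hf, MonObj.mul_comp,
      MonObj.comp_mul, MonObj.comp_mul, GrpObj.comp_inv, ← Category.assoc, ← Category.assoc, lift_snd,
      lift_fst, hf_pt l g₀ f hf]
    group
  have h := congrArg (fun F => lift s u ≫ F) hF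
  simp only [F₁, F₂] at h
  rw [← Category.assoc, ← Category.assoc, comp_lift, lift_snd, lift_fst, MonObj.comp_mul,
    MonObj.comp_mul, GrpObj.comp_inv, ← Category.assoc, ← Category.assoc, lift_snd, lift_fst] at h
  exact h


lemma unit_comp_extension (l : Red.Gm S ⟶ G) [IsMonHom l] (g₀ : 𝟙_ (Over S) ⟶ G)
    (f : HMNum.A1 S ⟶ G) (hf : HMNum.incl S ≫ f = l * (toUnit _ ≫ g₀) * l⁻¹) :
    η[HMNum.A1 S] ≫ f = g₀ := by
  have e1 : η[HMNum.A1 S] = η[Red.Gm S] ≫ HMNum.incl S := (IsMonHom.one_hom (f := HMNum.incl S)).symm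
  rw [e1, hf_pt l g₀ f hf, IsMonHom.one_hom (f := l), show (η[G] : 𝟙_ (Over S) ⟶ G) = 1 from MonObj.one_eq_one G,
    toUnit_unique (toUnit (𝟙_ (Over S))) (𝟙 _), Category.id_comp]
  group

/-- if `g₀ ∈ P(l)` (witnessed by `f`) and `y` is the limit of `x`, then `f(0) • y` is the limit of `g₀ • x`. -/
theorem isLimitPt_parabolic [IsSeparated G.hom] (a : AlgGrp.Action G X) (l : Red.Gm S ⟶ G) [IsMonHom l]
    (g₀ : 𝟙_ (Over S) ⟶ G) (f : HMNum.A1 S ⟶ G)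
    (hf : HMNum.incl S ≫ f = l * (toUnit _ ≫ g₀) * l⁻¹)
    (x y : 𝟙_ (Over S) ⟶ X) (h : HMNum.IsLimitPt a l x y) :
    HMNum.IsLimitPt a l (lift g₀ x ≫ a.act) (lift (HMNum.origin S ≫ f) y ≫ a.act) := by
  obtain ⟨φ, rfl, rfl⟩ := h
  have hφ := (MonAct.mem_eqvHom_iff φ.1).mp φ.2
  have eU : toUnit (𝟙_ (Over S)) = 𝟙 _ := toUnit_unique _ _
  refine ⟨⟨smul a (fst _ _ ≫ f) φ.1, ?_⟩, ?_, ?_⟩
  · rw [MonAct.mem_eqvHom_iff]
    intro T' g b t
    rw [comp_smul, comp_smul, ← Category.assoc, ← Category.assoc, lift_fst, lift_fst, hφ T' g b t,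
      lift_gmAct, lift_gmAct, smul_def, smul_def, extension_equivariant l g₀ f hf, ← Orbit.mul_smul,
      ← Orbit.mul_smul]
    congr 1
    group
  · change lift (toUnit _ ≫ η[_]) (𝟙 _) ≫ smul a (fst _ _ ≫ f) φ.1 =
      lift g₀ (lift (toUnit _ ≫ η[_]) (𝟙 _) ≫ φ.1) ≫ a.act
    rw [comp_smul, ← Category.assoc, lift_fst, eU, Category.id_comp, unit_comp_extension l g₀ f hf]
    rfl
  · rw [HMNum.limitPt_eq, HMNum.limitPt_eq]
    change lift (toUnit _ ≫ HMNum.origin S) (𝟙 _) ≫ smul a (fst _ _ ≫ f) φ.1 = _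
    rw [comp_smul, ← Category.assoc, lift_fst, eU, Category.id_comp]
    rfl

/-- the value at the origin of the extension commutes with `l`. -/
theorem origin_extension_comm [IsSeparated G.hom] (l : Red.Gm S ⟶ G) [IsMonHom l]
    (g₀ : 𝟙_ (Over S) ⟶ G) (f : HMNum.A1 S ⟶ G)
    (hf : HMNum.incl S ≫ f = l * (toUnit _ ≫ g₀) * l⁻¹) :
    l = (toUnit _ ≫ (HMNum.origin S ≫ f))⁻¹ * l * (toUnit _ ≫ (HMNum.origin S ≫ f)) := by
  have h := extension_equivariant l g₀ f hf (𝟙 (Red.Gm S)) (toUnit _ ≫ HMNum.origin S)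
  rw [origin_absorbing, Category.id_comp, Category.assoc] at h
  rw [_root_.mul_assoc, eq_inv_mul_iff_mul_eq]
  exact eq_mul_of_mul_inv_eq h.symm |>.symm

end Groth.Agent.Lib.Helper3.HMNumC
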