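import Mathlib
import Groth.Agent.Lib.Helper22VC14
import Groth.Agent.Lib.Helper4DVRSch
import Groth.Agent.Lib.Helper12Flat
import Groth.Prelude.Def_SGA1

/-!
# h-topology helpers (helper3)

* `dvr_point_cases`, `dvr_closedPoint_not_open`: the spectrum of a DVR.
* `exists_dvr_lift`: a quotient map from a locally Noetherian scheme onto the spectrum of a DVR
  is dominated by a flat surjective `Spec V ⟶ Spec A'` with `V` a DVR.
* `flat_snd_of_dvr`: if the base change of `f` along a universally submersive `g` of finite type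
  is flat, then every base change of `f` to a DVR is flat.
-/

set_option linter.style.haveILetI false
set_option autoImplicit false
universe u

namespace Groth.Agent.Lib.Helper3.HTopA

open CategoryTheory CategoryTheory.Limits AlgebraicGeometry

-- a prime of a DVR is the zero ideal or the maximal ideal
theorem dvr_point_cases (A' : Type u) [CommRing A'] [IsDomain A'] [IsDiscreteValuationRing A']
    (p : Spec (CommRingCat.of A')) :
    p = IsLocalRing.closedPoint A' ∨ p.asIdeal = ⊥ := by
  by_cases hp : p.asIdeal = ⊥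
  · exact Or.inr hp
  · left
    have hmax : p.asIdeal.IsMaximal := Ring.DimensionLEOne.maximalOfPrime hp p.isPrime
    apply PrimeSpectrum.ext
    exact IsLocalRing.eq_maximalIdeal hmax

-- the closed point of a DVR is not open
theorem dvr_closedPoint_not_open (A' : Type u) [CommRing A'] [IsDomain A'] [IsDiscreteValuationRing A'] :
    ¬ IsOpen ({IsLocalRing.closedPoint A'} : Set (Spec (CommRingCat.of A'))) := by
  intro ho
  let η : Spec (CommRingCat.of A') := (⟨⊥, Ideal.isPrime_bot⟩ : PrimeSpectrum A')
  have hsp : η ⤳ IsLocalRing.closedPoint A' := by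
    change (⟨⊥, Ideal.isPrime_bot⟩ : PrimeSpectrum A') ⤳ IsLocalRing.closedPoint A'
    rw [← PrimeSpectrum.le_iff_specializes]
    exact bot_le
  have := hsp.mem_open ho rfl
  have h2 : (⊥ : Ideal A') = IsLocalRing.maximalIdeal A' := congrArg PrimeSpectrum.asIdeal this
  exact IsDiscreteValuationRing.not_a_field A' h2.symm

-- a quotient map onto the spectrum of a DVR from a locally Noetherian scheme: there is a
-- DVR `V` and `Spec V ⟶ T` such that `Spec V ⟶ Spec A'` is flat and surjective
theorem exists_dvr_lift {T : Scheme.{u}} [IsLocallyNoetherian T]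
    (A' : Type u) [CommRing A'] [IsDomain A'] [IsDiscreteValuationRing A']
    (gA : T ⟶ Spec (CommRingCat.of A')) (hq : Topology.IsQuotientMap gA) :
    ∃ (V : Type u) (_ : CommRing V) (_ : IsDomain V) (_ : IsDiscreteValuationRing V)
      (gV : Spec (CommRingCat.of V) ⟶ T), Flat (gV ≫ gA) ∧ Surjective (gV ≫ gA) := by
  -- the preimage of the closed point is not open
  have hno : ¬ IsOpen (gA ⁻¹' ({IsLocalRing.closedPoint A'} : Set (Spec (CommRingCat.of A')))) := by
    intro h
    exact dvr_closedPoint_not_open A' (hq.isOpen_preimage.mp h)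
  -- the open complement
  let U : T.Opens := gA ⁻¹ᵁ ⟨({IsLocalRing.closedPoint A'} : Set (Spec (CommRingCat.of A')))ᶜ,
    (PrimeSpectrum.isClosed_singleton_iff_isMaximal _).mpr
      (inferInstanceAs (IsLocalRing.maximalIdeal A').IsMaximal) |>.isOpen_compl⟩
  have hUmem : ∀ t : T, t ∈ U ↔ gA t ≠ IsLocalRing.closedPoint A' := fun t => Iff.rfl
  have hncl : ¬ IsClosed (U : Set T) := by
    intro hc
    apply hno
    have : gA ⁻¹' ({IsLocalRing.closedPoint A'} : Set (Spec (CommRingCat.of A'))) = (U : Set T)ᶜ := by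
      ext t
      rw [Set.mem_compl_iff, SetLike.mem_coe, hUmem, not_not]
      rfl
    rw [this]
    exact hc.isOpen_compl
  obtain ⟨t, htcl, htU⟩ : ∃ t, t ∈ closure (U : Set T) ∧ t ∉ (U : Set T) := by
    by_contra hcon
    push Not at hcon
    exact hncl (closure_subset_iff_isClosed.mp hcon)
  have hrange : Set.range U.ι = (U : Set T) := by simp
  rw [← hrange] at htcl
  obtain ⟨u', hu'⟩ := Groth.Agent.Lib.Helper4.DVRSch.exists_specializes_of_mem_closure_range U.ι htcl
  have huU : U.ι u' ∈ U := by
    have : U.ι u' ∈ Set.range U.ι := ⟨u', rfl⟩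
    rw [hrange] at this
    exact this
  have hne : U.ι u' ≠ t := fun h => htU (h ▸ huU)
  have hφ : (𝟙 (T.residueField (U.ι u'))).hom.EssFiniteType :=
    (RingHom.FiniteType.id _).essFiniteType
  obtain ⟨V, hV, gV, hgV1, hgV2⟩ :=
    Groth.Agent.Lib.Helper4.DVRSch.exists_dvr_hom (L := T.residueField (U.ι u')) hu' hne
      (𝟙 (T.residueField (U.ι u'))) hφ
  refine ⟨V, inferInstance, inferInstance, hV, gV, ?_⟩
  obtain ⟨ψ, hψ⟩ : ∃ ψ : CommRingCat.of A' ⟶ CommRingCat.of V, Spec.map ψ = gV ≫ gA :=
    ⟨Spec.preimage (gV ≫ gA), Spec.map_preimage (gV ≫ gA)⟩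
  have hgen : (gA (U.ι u')).asIdeal = ⊥ :=
    (dvr_point_cases A' (gA (U.ι u'))).resolve_left ((hUmem _).mp huU)
  have hcl : (gV ≫ gA) (IsLocalRing.closedPoint V) = IsLocalRing.closedPoint A' := by
    rw [Scheme.Hom.comp_apply, hgV2]
    by_contra h
    exact htU ((hUmem t).mpr h)
  have hinj : Function.Injective ψ.hom := by
    rw [injective_iff_map_eq_zero]
    intro a ha
    let pt : Spec (T.residueField (U.ι u')) :=
      (⟨⊥, Ideal.isPrime_bot⟩ : PrimeSpectrum (T.residueField (U.ι u')))
    have h1 : (Spec.map (CommRingCat.ofHom V.subtype) ≫ gV ≫ gA) pt = gA (U.ι u') := by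
      rw [← Category.assoc, hgV1, Scheme.Hom.comp_apply, Scheme.Hom.comp_apply,
        Scheme.fromSpecResidueField_apply]
    have h2 : a ∈ ((Spec.map (CommRingCat.ofHom V.subtype) ≫ gV ≫ gA) pt).asIdeal := by
      rw [← hψ, ← Spec.map_comp]
      change V.subtype (ψ.hom a) ∈ pt.asIdeal
      rw [ha, map_zero]
      exact Ideal.zero_mem _
    rw [h1, hgen] at h2
    exact h2
  rw [← hψ]
  constructor
  · rw [Flat.SpecMap_iff]
    algebraize [ψ.hom]
    haveI : FaithfulSMul A' V := (faithfulSMul_iff_algebraMap_injective A' V).mpr hinj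
    haveI : Module.IsTorsionFree A' V := inferInstance
    show Module.Flat A' V
    infer_instance
  · constructor
    intro p
    rcases dvr_point_cases A' p with hp | hp
    · exact ⟨IsLocalRing.closedPoint V, by rw [hψ, hcl, hp]⟩
    · refine ⟨(⟨⊥, Ideal.isPrime_bot⟩ : PrimeSpectrum V), ?_⟩
      apply PrimeSpectrum.ext
      rw [hp]
      change Ideal.comap ψ.hom ⊥ = ⊥
      rw [← RingHom.ker_eq_comap_bot]
      exact (RingHom.injective_iff_ker_eq_bot _).mp hinj

-- base change of `f` to a DVR is flat
theorem flat_snd_of_dvr {X S S' : Scheme.{u}} [IsLocallyNoetherian S] (f : X ⟶ S) (g : S' ⟶ S)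
    [LocallyOfFiniteType g] (hg : SGA1.UnivSubmersive g) (hflat : Flat (pullback.snd f g))
    (A' : Type u) [CommRing A'] [IsDomain A'] [IsDiscreteValuationRing A']
    (h : Spec (CommRingCat.of A') ⟶ S) : Flat (pullback.snd f h) := by
  have hq : Topology.IsQuotientMap (pullback.snd g h) :=
    hg _ _ _ (IsPullback.of_hasPullback g h).flip
  haveI : IsLocallyNoetherian (Spec (CommRingCat.of A')) := inferInstance
  haveI : IsLocallyNoetherian (pullback g h) := inferInstance
  obtain ⟨V, _, _, _, gV, hfl, hsurj⟩ := exists_dvr_lift A' (pullback.snd g h) hq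
  let q := gV ≫ pullback.snd g h
  let p2 := pullback.snd f h
  -- the base change of `p2` along `q`
  have hcomm : (pullback.fst p2 q ≫ pullback.fst f h) ≫ f =
      (pullback.snd p2 q ≫ gV ≫ pullback.fst g h) ≫ g := by
    rw [Category.assoc, pullback.condition, ← Category.assoc, pullback.condition]
    simp only [Category.assoc, q]
    rw [pullback.condition]
  let h11 : pullback p2 q ⟶ pullback f g := pullback.lift _ _ hcomm
  have hbig : IsPullback (h11 ≫ pullback.fst f g) (pullback.snd p2 q) f
      ((gV ≫ pullback.fst g h) ≫ g) := by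
    have := (IsPullback.of_hasPullback p2 q).paste_horiz (IsPullback.of_hasPullback f h)
    have e1 : h11 ≫ pullback.fst f g = pullback.fst p2 q ≫ pullback.fst f h :=
      pullback.lift_fst _ _ _
    have e2 : (gV ≫ pullback.fst g h) ≫ g = q ≫ h := by
      simp only [Category.assoc, q]
      rw [pullback.condition]
    rw [e1, e2]
    exact this
  have hleft : IsPullback h11 (pullback.snd p2 q) (pullback.snd f g) (gV ≫ pullback.fst g h) :=
    IsPullback.of_right hbig (pullback.lift_snd _ _ _) (IsPullback.of_hasPullback f g)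
  haveI : Flat (pullback.snd p2 q) := MorphismProperty.of_isPullback hleft hflat
  haveI : Flat q := hfl
  haveI : Surjective q := hsurj
  haveI : Flat (pullback.fst p2 q ≫ p2) := by
    rw [pullback.condition]
    infer_instance
  exact Groth.Agent.Lib.Helper12.flat_of_comp_of_flat_of_surjective (pullback.fst p2 q) p2

end Groth.Agent.Lib.Helper3.HTopA
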