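import Mathlib
import Groth.Agent.Lib.Helper3HTopA
import Groth.Agent.S1454

set_option linter.style.haveILetI false
set_option autoImplicit false
universe u

namespace Groth.Agent.Lib.Helper3.HTopB

open CategoryTheory CategoryTheory.Limits AlgebraicGeometry

/-- A universally open surjective morphism is universally submersive. -/
theorem univSubmersive_of_universallyOpen {X Y : Scheme.{u}} (f : X ⟶ Y) [UniversallyOpen f]
    [Surjective f] : SGA1.UnivSubmersive f := by
  intro X' Y' i₁ i₂ f' sq
  haveI : UniversallyOpen f' := MorphismProperty.of_isPullback sq.flip ‹UniversallyOpen f›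
  haveI : Surjective f' := MorphismProperty.of_isPullback sq.flip ‹Surjective f›
  exact f'.isOpenMap.isQuotientMap f'.continuous f'.surjective

/-- If `c ≫ p` is universally submersive then so is `p`. -/
theorem univSubmersive_of_comp {Z Y X : Scheme.{u}} (c : Z ⟶ Y) (p : Y ⟶ X)
    (h : SGA1.UnivSubmersive (c ≫ p)) : SGA1.UnivSubmersive p := by
  intro Y' X' i₁ i₂ p' sq
  -- base change of `c` along `i₁`
  have sq1 : IsPullback (pullback.snd c i₁) (pullback.fst c i₁) i₁ c :=
    (IsPullback.of_hasPullback c i₁).flip
  have sq2 : IsPullback (pullback.snd c i₁ ≫ p') (pullback.fst c i₁) i₂ (c ≫ p) :=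
    sq1.paste_horiz sq
  have hq := h _ _ _ sq2
  have hq' : Topology.IsQuotientMap (p' ∘ pullback.snd c i₁) := by
    have : Topology.IsQuotientMap (pullback.snd c i₁ ≫ p') := hq
    rwa [Scheme.Hom.comp_base, TopCat.coe_comp] at this
  exact Topology.IsQuotientMap.of_comp (pullback.snd c i₁).continuous p'.continuous hq'

/-- For a proper specialization `x ⤳ x'` in a locally Noetherian scheme there is a DVR `V` and
`Spec V ⟶ X` mapping the closed point to `x'` and every other point to `x`. -/
theorem exists_dvr_hom' {X : Scheme.{u}} [IsLocallyNoetherian X] {x x' : X} (h : x ⤳ x')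
    (hne : x ≠ x') :
    ∃ (V : Type u) (_ : CommRing V) (_ : IsDomain V) (_ : IsDiscreteValuationRing V)
      (g : Spec (CommRingCat.of V) ⟶ X), g (IsLocalRing.closedPoint V) = x' ∧
        ∀ p : Spec (CommRingCat.of V), p ≠ IsLocalRing.closedPoint V → g p = x := by
  have hφ : (CommRingCat.Hom.hom (𝟙 (X.residueField x))).EssFiniteType :=
    (RingHom.FiniteType.id _).essFiniteType
  obtain ⟨V, hV, gV, hgV1, hgV2⟩ :=
    Groth.Agent.Lib.Helper4.DVRSch.exists_dvr_hom (L := X.residueField x) h hne
      (𝟙 (X.residueField x)) hφ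
  refine ⟨V, inferInstance, inferInstance, hV, gV, hgV2, ?_⟩
  intro p hp
  have hp0 : p.asIdeal = ⊥ := (HTopA.dvr_point_cases V p).resolve_left hp
  let pt : Spec (X.residueField x) :=
    (⟨⊥, Ideal.isPrime_bot⟩ : PrimeSpectrum (X.residueField x))
  have h1 : (Spec.map (CommRingCat.ofHom V.subtype) ≫ gV) pt = x := by
    rw [hgV1, Scheme.Hom.comp_apply, Scheme.fromSpecResidueField_apply]
  have h2 : Spec.map (CommRingCat.ofHom V.subtype) pt = p := by
    apply PrimeSpectrum.ext
    rw [hp0]
    change Ideal.comap V.subtype ⊥ = ⊥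
    rw [← RingHom.ker_eq_comap_bot]
    exact (RingHom.injective_iff_ker_eq_bot _).mp Subtype.val_injective
  rw [← h2, ← Scheme.Hom.comp_apply, h1]

/-- A universally submersive coproduct over an irreducible locally Noetherian scheme: the
dominant members are jointly surjective. -/
theorem exists_dominant_of_univSubmersive {X : Scheme.{u}} [IsLocallyNoetherian X]
    [IrreducibleSpace X] {ι : Type u} (Y : ι → Scheme.{u}) (f : ∀ i, Y i ⟶ X)
    (h : SGA1.UnivSubmersive (Sigma.desc f)) (x : X) :
    ∃ (i : ι) (u : Y i), IsDominant (f i) ∧ f i u = x := by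
  have hξ : IsGenericPoint (genericPoint X) ⊤ := genericPoint_spec X
  have hdom : ∀ i (u : Y i), f i u = genericPoint X → IsDominant (f i) := by
    intro i u hu
    constructor
    rw [DenseRange, dense_iff_closure_eq, ← Set.univ_subset_iff]
    have : (Set.univ : Set X) = closure {genericPoint X} := hξ.def.symm
    rw [this]
    apply closure_mono
    rw [Set.singleton_subset_iff]
    exact ⟨u, hu⟩
  have hsurj : Function.Surjective (Sigma.desc f) :=
    (h _ _ _ (IsPullback.id_vert (Sigma.desc f))).surjective
  have hιf : ∀ i (u : Y i), Sigma.desc f (Sigma.ι Y i u) = f i u := by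
    intro i u
    rw [← Scheme.Hom.comp_apply, Sigma.ι_desc]
  by_cases hx : x = genericPoint X
  · obtain ⟨z, hz⟩ := hsurj (genericPoint X)
    obtain ⟨i, u, rfl⟩ : ∃ (i : ι) (u : Y i), Sigma.ι Y i u = z :=
      (sigmaOpenCover Y).exists_eq z
    have hu : f i u = genericPoint X := by rw [← hιf, ← hz]
    exact ⟨i, u, hdom i u hu, hu.trans hx.symm⟩
  · have hsp : genericPoint X ⤳ x := hξ.specializes trivial
    obtain ⟨V, _, _, _, gV, hgV1, hgV2⟩ := exists_dvr_hom' hsp (Ne.symm hx)
    by_contra hcon
    push Not at hcon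
    have hq : Topology.IsQuotientMap (pullback.snd (Sigma.desc f) gV) :=
      h _ _ _ (IsPullback.of_hasPullback _ _).flip
    apply HTopA.dvr_closedPoint_not_open V
    rw [← hq.isOpen_preimage]
    let O : (∐ Y).Opens := ⨆ (i : {i // ¬ IsDominant (f i)}), (Sigma.ι Y i.1).opensRange
    have hO : (pullback.snd (Sigma.desc f) gV) ⁻¹' {IsLocalRing.closedPoint V} =
        (pullback.fst (Sigma.desc f) gV) ⁻¹' (O : Set (∐ Y :)) := by
      ext z
      obtain ⟨i, u, hu'⟩ : ∃ (i : ι) (u : Y i),
          Sigma.ι Y i u = pullback.fst (Sigma.desc f) gV z :=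
        (sigmaOpenCover Y).exists_eq (pullback.fst (Sigma.desc f) gV z)
      have hzx : gV (pullback.snd (Sigma.desc f) gV z) = f i u := by
        rw [← Scheme.Hom.comp_apply, ← pullback.condition, Scheme.Hom.comp_apply, ← hu', hιf]
      constructor
      · intro hz
        have hz' : pullback.snd (Sigma.desc f) gV z = IsLocalRing.closedPoint V := hz
        have hfx : f i u = x := by rw [← hzx, hz', hgV1]
        have hnd : ¬ IsDominant (f i) := fun hd => hcon i u hd hfx
        change pullback.fst (Sigma.desc f) gV z ∈ O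
        rw [← hu']
        exact TopologicalSpace.Opens.mem_iSup.mpr ⟨⟨i, hnd⟩, ⟨u, rfl⟩⟩
      · intro hz
        change pullback.fst (Sigma.desc f) gV z ∈ O at hz
        obtain ⟨⟨j, hj⟩, ⟨u', hu''⟩⟩ := TopologicalSpace.Opens.mem_iSup.mp hz
        have hij : (Sigma.mk j u' : Σ i, Y i) = Sigma.mk i u := by
          rw [← sigmaι_eq_iff]
          exact hu''.trans hu'.symm
        have hij' : j = i := congrArg Sigma.fst hij
        subst hij'
        by_contra hne
        have hne' : pullback.snd (Sigma.desc f) gV z ≠ IsLocalRing.closedPoint V := hne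
        have := hgV2 _ hne'
        rw [hzx] at this
        exact hj (hdom j u this)
    rw [hO]
    exact O.2.preimage (pullback.fst (Sigma.desc f) gV).continuous

/-- A dominant quasi-finite morphism of finite type from an irreducible scheme to an irreducible
locally Noetherian geometrically unibranch scheme is universally open. -/
theorem universallyOpen_of_dominant {X U : Scheme.{u}} [IsLocallyNoetherian X]
    [IrreducibleSpace X] [IrreducibleSpace U]
    (hX : ∀ x : X, CAlg2.IsGeomUnibranch (X.presheaf.stalk x)) (p : U ⟶ X)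
    [LocallyOfFiniteType p] [LocallyQuasiFinite p] [IsDominant p] : UniversallyOpen p := by
  apply Groth.Agent.S1454.result p hX
  intro Z hZ x hx
  rw [irreducibleComponents_eq_singleton, Set.mem_singleton_iff] at hZ
  subst hZ
  refine ⟨Set.univ, by rw [irreducibleComponents_eq_singleton]; rfl, ?_⟩
  have := hx.image p.continuous
  rwa [Set.image_univ, p.denseRange.closure_range] at this

end Groth.Agent.Lib.Helper3.HTopB
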