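import Mathlib
import Groth.Agent.Lib.Helper3HenselF

set_option autoImplicit false
set_option linter.style.haveILetI false
universe u

open CategoryTheory IsLocalRing

namespace Groth.Agent.Lib.Helper3.HensFE

/-- An étale algebra over a henselian local ring with a prime over the maximal ideal has a
finite étale, faithfully flat quotient by an idempotent. -/
theorem exists_finite_etale_factor (A : Type u) [CommRing A] [HenselianLocalRing A] (B : Type u)
    [CommRing B] [Algebra A B] [Algebra.Etale A B] (q : Ideal B) [q.IsPrime]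
    (hq : q.LiesOver (maximalIdeal A)) :
    ∃ e : B, IsIdempotentElem e ∧ Module.Finite A (B ⧸ Ideal.span ({1 - e} : Set B)) ∧
      Algebra.Etale A (B ⧸ Ideal.span ({1 - e} : Set B)) ∧
      Module.FaithfullyFlat A (B ⧸ Ideal.span ({1 - e} : Set B)) := by
  obtain ⟨e, he, hfin, htop⟩ := Groth.Agent.Lib.Helper3.Hensel.quasiFinite_split A B
  haveI := hfin
  -- étale
  haveI hloc : IsLocalization.Away e (B ⧸ Ideal.span ({1 - e} : Set B)) :=
    IsLocalization.away_of_isIdempotentElem he (by
      rw [Ideal.Quotient.algebraMap_eq, Ideal.mk_ker]) Ideal.Quotient.mk_surjective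
  haveI : Algebra.Etale B (B ⧸ Ideal.span ({1 - e} : Set B)) :=
    Algebra.Etale.of_isLocalizationAway e
  haveI het : Algebra.Etale A (B ⧸ Ideal.span ({1 - e} : Set B)) :=
    Algebra.Etale.comp A B _
  -- nontrivial
  have hnt : Nontrivial (B ⧸ Ideal.span ({1 - e} : Set B)) := by
    rw [Ideal.Quotient.nontrivial_iff]
    intro htop'
    have h1 : (1 : B) ∈ Ideal.span ({1 - e} : Set B) := by rw [htop']; trivial
    obtain ⟨t, ht⟩ := Ideal.mem_span_singleton'.mp h1
    have he0 : e = 0 := by
      have h2 : e = e * (t * (1 - e)) := by rw [ht, mul_one]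
      have h3 : e * (t * (1 - e)) = t * (e - e * e) := by ring
      rw [h3, he.eq, sub_self, mul_zero] at h2
      exact h2
    -- then `B ⧸ (e) = B` has `m B = B`, contradicting the prime `q`
    have h4 : (1 : B ⧸ Ideal.span ({e} : Set B)) ∈
        Ideal.map (algebraMap A (B ⧸ Ideal.span ({e} : Set B))) (maximalIdeal A) := by
      rw [htop]; trivial
    have h5 : Ideal.map (algebraMap A (B ⧸ Ideal.span ({e} : Set B))) (maximalIdeal A) =
        ((maximalIdeal A).map (algebraMap A B)).map (Ideal.Quotient.mk (Ideal.span {e})) := by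
      rw [Ideal.map_map]; rfl
    rw [h5] at h4
    obtain ⟨μ, hμ, hμ1⟩ := (Ideal.mem_map_iff_of_surjective _ Ideal.Quotient.mk_surjective).mp h4
    have h6 : μ - 1 ∈ Ideal.span ({e} : Set B) := by
      rw [← Ideal.Quotient.eq]; exact hμ1
    rw [he0, Ideal.span_singleton_zero, Ideal.mem_bot, sub_eq_zero] at h6
    have h7 : (1 : B) ∈ q := by
      rw [← h6]
      have hle : (maximalIdeal A).map (algebraMap A B) ≤ q := by
        rw [Ideal.map_le_iff_le_comap, ← Ideal.under_def, ← hq.over]
      exact hle hμ
    exact (Ideal.IsPrime.ne_top ‹_›) ((Ideal.eq_top_iff_one _).mpr h7)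
  refine ⟨e, he, hfin, het, ?_⟩
  haveI : Module.Flat A (B ⧸ Ideal.span ({1 - e} : Set B)) := inferInstance
  haveI : Module.Free A (B ⧸ Ideal.span ({1 - e} : Set B)) := Module.free_of_flat_of_isLocalRing
  infer_instance

end Groth.Agent.Lib.Helper3.HensFE
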