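import Mathlib
import Groth.Prelude.Def_AbDual

set_option autoImplicit false
set_option linter.style.haveILetI false
set_option linter.unusedSectionVars false

universe u

open CategoryTheory CategoryTheory.Limits MonoidalCategory CartesianMonoidalCategory MonObj GrpObj
  AlgebraicGeometry

/-!
# Torsion points through the kernel scheme of `[m]` (helper3)

* `Ker A m`, `kerπ`, `kerι`, `equivKer`: the kernel of `[m] : A → A` as a scheme and the bijection
  between `T`-points of `A` killed by `m` and `S`-morphisms `T → Ker`.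
* `structHom`, `equivAlgHom`: for an affine `X` over `Spec R`, `S`-morphisms `Spec L → X` are
  `R`-algebra maps `Γ(X) → L`.
* `exists_factor`, `eq_of_residue_eq`, `card_algHom_le`: algebra of finite unramified algebras over a
  normal Noetherian local domain.
-/

namespace Groth.Agent.Lib.Helper3.TorsKer


section ker

variable {S : Scheme.{u}} (A : Over S) [GrpObj A] (m : ℕ)

/-- multiplication by `m` on the underlying scheme. -/
noncomputable def mulHom : A.left ⟶ A.left := ((𝟙 A : A ⟶ A) ^ m).left

/-- the unit section. -/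
noncomputable def unitSec : S ⟶ A.left := η[A].left

lemma mulHom_hom : mulHom A m ≫ A.hom = A.hom := Over.w _

lemma unitSec_hom : unitSec A ≫ A.hom = 𝟙 S := Over.w η[A]

/-- the kernel of multiplication by `m`, as a scheme. -/
noncomputable def Ker : Scheme.{u} := pullback (mulHom A m) (unitSec A)

/-- structure map of the kernel -/
noncomputable def kerπ : Ker A m ⟶ S := pullback.snd _ _

/-- inclusion of the kernel -/
noncomputable def kerι : Ker A m ⟶ A.left := pullback.fst _ _

lemma kerι_hom : kerι A m ≫ A.hom = kerπ A m := by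
  have h := pullback.condition (f := mulHom A m) (g := unitSec A)
  have h2 := congrArg (· ≫ A.hom) h
  simp only [Category.assoc, mulHom_hom, unitSec_hom, Category.comp_id] at h2
  exact h2

lemma kerι_mulHom : kerι A m ≫ mulHom A m = kerπ A m ≫ unitSec A := pullback.condition

variable {A m}

lemma pow_eq_one_iff {T : Over S} (x : T ⟶ A) :
    x ^ m = 1 ↔ x.left ≫ mulHom A m = T.hom ≫ unitSec A := by
  have h1 : x ^ m = x ≫ ((𝟙 A : A ⟶ A) ^ m) := by
    rw [MonObj.comp_pow, Category.comp_id]
  have h2 : (1 : T ⟶ A) = toUnit T ≫ η[A] := Hom.one_def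
  rw [h1, h2]
  constructor
  · intro h
    have := congrArg (fun f => f.left) h
    simpa [mulHom, unitSec] using this
  · intro h
    ext
    simpa [mulHom, unitSec] using h

variable (A m)

/-- points killed by `m` are the `S`-morphisms to the kernel. -/
noncomputable def equivKer (T : Over S) :
    {x : T ⟶ A // x ^ m = 1} ≃ {φ : T.left ⟶ Ker A m // φ ≫ kerπ A m = T.hom} where
  toFun x := ⟨pullback.lift x.1.left T.hom ((pow_eq_one_iff x.1).mp x.2), pullback.lift_snd _ _ _⟩
  invFun φ := ⟨Over.homMk (φ.1 ≫ kerι A m) (by rw [Category.assoc, kerι_hom, φ.2]), by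
    rw [pow_eq_one_iff]
    simp only [Over.homMk_left, Category.assoc, kerι_mulHom]
    rw [← Category.assoc, φ.2]⟩
  left_inv x := by
    apply Subtype.ext
    ext
    simp only [Over.homMk_left]
    exact pullback.lift_fst _ _ _
  right_inv φ := by
    apply Subtype.ext
    apply pullback.hom_ext
    · simp only [Over.homMk_left]
      rw [pullback.lift_fst]
      rfl
    · rw [pullback.lift_snd]
      exact φ.2.symm

end ker



section affine

variable {R : Type u} [CommRing R] {X : Scheme.{u}} [IsAffine X] (π : X ⟶ Spec (CommRingCat.of R))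

/-- the structure ring map `R → Γ(X)` -/
noncomputable def structHom : CommRingCat.of R ⟶ Γ(X, ⊤) :=
  (Scheme.ΓSpecIso (CommRingCat.of R)).inv ≫ π.appTop

lemma hom_eq : π = X.isoSpec.hom ≫ Spec.map (structHom π) := by
  have h := Scheme.isoSpec_hom_naturality π
  rw [Scheme.isoSpec_Spec_hom] at h
  rw [structHom, Spec.map_comp, ← Category.assoc, h, Category.assoc, ← Spec.map_comp,
    Iso.inv_hom_id, Spec.map_id, Category.comp_id]

variable (L : Type u) [CommRing L] [Algebra R L] [Algebra R Γ(X, ⊤)]
  (halg : algebraMap R Γ(X, ⊤) = (structHom π).hom)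

/-- `S`-morphisms `Spec L → X` are `R`-algebra maps `Γ(X) → L`. -/
noncomputable def equivAlgHom :
    {φ : Spec (CommRingCat.of L) ⟶ X //
      φ ≫ π = Spec.map (CommRingCat.ofHom (algebraMap R L))} ≃ (Γ(X, ⊤) →ₐ[R] L) where
  toFun φ :=
    { toRingHom := (φ.1.appTop ≫ (Scheme.ΓSpecIso (CommRingCat.of L)).hom).hom
      commutes' := by
        intro r
        have h1 : structHom π ≫ φ.1.appTop ≫ (Scheme.ΓSpecIso (CommRingCat.of L)).hom =
            CommRingCat.ofHom (algebraMap R L) := by
          have h2 := congrArg (fun f => f.appTop) φ.2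
          simp only [Scheme.Hom.comp_appTop] at h2
          rw [structHom, Category.assoc, ← Category.assoc π.appTop, h2,
            Scheme.ΓSpecIso_naturality, Iso.inv_hom_id_assoc]
        have h3 := congrArg (fun f => f.hom r) h1
        simp only [halg]
        exact h3 }
  invFun χ := ⟨Spec.map (CommRingCat.ofHom χ.toRingHom) ≫ X.isoSpec.inv, by
    conv_lhs => rw [hom_eq π]
    rw [Category.assoc, Iso.inv_hom_id_assoc, ← Spec.map_comp]
    congr 1
    ext r
    have := χ.commutes r
    rw [halg] at this
    exact this⟩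
  left_inv φ := by
    apply Subtype.ext
    show Spec.map (CommRingCat.ofHom (φ.1.appTop ≫ (Scheme.ΓSpecIso (CommRingCat.of L)).hom).hom) ≫
      X.isoSpec.inv = φ.1
    rw [CommRingCat.ofHom_hom, Spec.map_comp, Category.assoc, Scheme.isoSpec_inv_naturality,
      ← Scheme.isoSpec_Spec_hom, Iso.hom_inv_id_assoc]
  right_inv χ := by
    ext b
    show ((Spec.map (CommRingCat.ofHom χ.toRingHom) ≫ X.isoSpec.inv).appTop ≫
      (Scheme.ΓSpecIso (CommRingCat.of L)).hom).hom b = χ b
    have h1 : (Spec.map (CommRingCat.ofHom χ.toRingHom) ≫ X.isoSpec.inv).appTop ≫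
        (Scheme.ΓSpecIso (CommRingCat.of L)).hom = CommRingCat.ofHom χ.toRingHom := by
      rw [Scheme.Hom.comp_appTop, Category.assoc, Scheme.ΓSpecIso_naturality]
      have h2 : X.isoSpec.inv.appTop ≫ (Scheme.ΓSpecIso Γ(X, ⊤)).hom = 𝟙 _ := by
        have h3 : X.isoSpec.hom.appTop = (Scheme.ΓSpecIso Γ(X, ⊤)).hom := by
          rw [Scheme.isoSpec_hom]
          exact Scheme.toSpecΓ_appTop X
        rw [← h3, ← Scheme.Hom.comp_appTop, Iso.hom_inv_id]
        rfl
      rw [← Category.assoc]
      exact (congrArg (· ≫ CommRingCat.ofHom χ.toRingHom) h2).trans (Category.id_comp _)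
    exact congrArg (fun f => f.hom b) h1

end affine



section algebra

variable (R : Type u) [CommRing R] [IsDomain R] [IsLocalRing R] [IsNoetherianRing R]
  [IsIntegrallyClosed R]
  (K : Type u) [Field K] [Algebra R K] [IsFractionRing R K]
  (B : Type u) [CommRing B] [Algebra R B] [Module.Finite R B] [Algebra.FormallyUnramified R B]

omit [IsLocalRing R] [IsNoetherianRing R] [Algebra.FormallyUnramified R B] in
/-- an `R`-algebra map from an integral `R`-algebra to the fraction field of an integrally closed
domain factors through `R`. -/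
theorem exists_factor (ψ : B →ₐ[R] K) :
    ∃ χ : B →ₐ[R] R, (Algebra.ofId R K).comp χ = ψ := by
  have hinj : Function.Injective (Algebra.ofId R K) := IsFractionRing.injective R K
  have hmem : ∀ b : B, ψ b ∈ (Algebra.ofId R K).range := by
    intro b
    have h1 : IsIntegral R (ψ b) := (Algebra.IsIntegral.isIntegral (R := R) b).map ψ
    obtain ⟨r, hr⟩ := IsIntegrallyClosed.isIntegral_iff.mp h1
    exact ⟨r, hr⟩
  let e := AlgEquiv.ofInjective (Algebra.ofId R K) hinj
  refine ⟨(e.symm : (Algebra.ofId R K).range →ₐ[R] R).comp (ψ.codRestrict _ hmem), ?_⟩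
  ext b
  have h2 : e (e.symm (ψ.codRestrict _ hmem b)) = ψ.codRestrict _ hmem b := e.apply_symm_apply _
  exact congrArg Subtype.val h2

omit [IsDomain R] [IsIntegrallyClosed R] [Module.Finite R B] in
/-- sections of an unramified algebra over a Noetherian local ring are determined by their
reductions. -/
theorem eq_of_residue_eq (χ₁ χ₂ : B →ₐ[R] R)
    (h : ∀ b, IsLocalRing.residue R (χ₁ b) = IsLocalRing.residue R (χ₂ b)) : χ₁ = χ₂ := by
  refine Algebra.FormallyUnramified.ext_of_iInf (I := IsLocalRing.maximalIdeal R)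
    (Ideal.iInf_pow_eq_bot_of_isLocalRing _ (IsLocalRing.maximalIdeal.isMaximal R).ne_top) ?_
  intro b
  exact h b

/-- **counting**: there are at most as many `R`-algebra maps `B → K` as `B → k`. -/
theorem card_algHom_le :
    Nat.card (B →ₐ[R] K) ≤ Nat.card (B →ₐ[R] IsLocalRing.ResidueField R) := by
  classical
  choose χ hχ using exists_factor R K B
  let F : (B →ₐ[R] K) → (B →ₐ[R] IsLocalRing.ResidueField R) := fun ψ =>
    (Algebra.ofId R (IsLocalRing.ResidueField R)).comp (χ ψ)
  have hF : Function.Injective F := by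
    intro ψ₁ ψ₂ h12
    have h3 : χ ψ₁ = χ ψ₂ := by
      apply eq_of_residue_eq R B
      intro b
      exact AlgHom.congr_fun h12 b
    rw [← hχ ψ₁, ← hχ ψ₂, h3]
  exact Nat.card_le_card_of_injective F hF

end algebra

end Groth.Agent.Lib.Helper3.TorsKer
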