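import Mathlib
import Groth.Agent.Lib.Helper3TorsKer

set_option autoImplicit false
set_option linter.style.haveILetI false

universe u

open CategoryTheory CategoryTheory.Limits AlgebraicGeometry IsLocalRing

namespace Groth.Agent.Lib.Helper3.HensLift

open Groth.Agent.Lib.Helper3.TorsKer

section alg
open Polynomial


/-- **Sections of an étale algebra over a henselian local ring**: every `R`-algebra map from an
étale `R`-algebra to the residue field lifts to an `R`-algebra map to `R`. -/
theorem exists_lift (R : Type u) [CommRing R] [HenselianLocalRing R]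
    (B : Type u) [CommRing B] [Algebra R B] [Algebra.Etale R B]
    (ψ₀ : B →ₐ[R] ResidueField R) :
    ∃ ψ : B →ₐ[R] R, (Algebra.ofId R (ResidueField R)).comp ψ = ψ₀ := by
  let Q : Ideal B := RingHom.ker ψ₀.toRingHom
  haveI : Q.IsPrime := RingHom.ker_isPrime _
  haveI : Algebra.IsEtaleAt R Q := inferInstance
  obtain ⟨f, hfQ, hf⟩ := Algebra.IsEtaleAt.exists_isStandardEtale (R := R) Q
  let P : StandardEtalePresentation R (Localization.Away f) :=
    hf.nonempty_standardEtalePresentation.some
  -- extend `ψ₀` to the localization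
  have hfu : ∀ y : Submonoid.powers f, IsUnit (ψ₀ y) := by
    rintro ⟨y, n, rfl⟩
    rw [map_pow]
    refine IsUnit.pow _ (IsUnit.mk0 _ ?_)
    exact fun h => hfQ h
  let ψ₀' : Localization.Away f →ₐ[R] ResidueField R :=
    IsLocalization.liftAlgHom (M := Submonoid.powers f) (f := ψ₀) hfu
  have hψ₀' : ψ₀'.comp (IsScalarTower.toAlgHom R B (Localization.Away f)) = ψ₀ := by
    ext b
    exact IsLocalization.lift_eq _ _
  let a₀ : ResidueField R := ψ₀' P.x
  have hmap : P.HasMap a₀ := P.hasMap.map ψ₀'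
  have hder : IsUnit (aeval a₀ (derivative P.f)) := hmap.isUnit_derivative_f
  have hH : ∀ f : R[X], f.Monic → ∀ a₀ : ResidueField R, aeval a₀ f = 0 →
      aeval a₀ (derivative f) ≠ 0 → ∃ a : R, f.IsRoot a ∧ residue R a = a₀ :=
    ((HenselianLocalRing.TFAE R).out 0 1).mp ‹HenselianLocalRing R›
  obtain ⟨a, ha, haa⟩ := hH P.f P.monic_f a₀ hmap.1 hder.ne_zero
  have hga : IsUnit (aeval a P.g) := by
    have h1 : residue R (aeval a P.g) = aeval a₀ P.g := by
      rw [← haa]
      simp only [aeval_def, ResidueField.algebraMap_eq, Algebra.algebraMap_self, eval₂_id]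
      rw [← Polynomial.eval₂_at_apply]
    by_contra hnu
    have h2 : residue R (aeval a P.g) = 0 := (residue_eq_zero_iff _).mpr hnu
    rw [h1] at h2
    exact hmap.2.ne_zero h2
  have hmapa : P.HasMap a := ⟨by simpa [aeval_def] using ha, hga⟩
  let ψ' : Localization.Away f →ₐ[R] R := (P.lift a hmapa).comp P.equivRing.toAlgHom
  refine ⟨ψ'.comp (IsScalarTower.toAlgHom R B (Localization.Away f)), ?_⟩
  rw [← AlgHom.comp_assoc, ← hψ₀']
  congr 1
  apply P.hom_ext
  show (Algebra.ofId R (ResidueField R)) ((P.lift a hmapa) (P.equivRing P.x)) = ψ₀' P.x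
  rw [P.equivRing_x, P.lift_X]
  exact haa


end alg

section uniq

variable {R : Type u} [CommRing R] [IsLocalRing R]

/-- the closed point of `Spec R` as a morphism from the spectrum of the residue field. -/
noncomputable abbrev cpt (R : Type u) [CommRing R] [IsLocalRing R] :
    Spec (CommRingCat.of (ResidueField R)) ⟶ Spec (CommRingCat.of R) :=
  Spec.map (CommRingCat.ofHom (residue R))

/-- an open immersion into a local scheme hitting the closed point is an isomorphism. -/
theorem isIso_of_closedPoint_mem {Z : Scheme.{u}} (j : Z ⟶ Spec (CommRingCat.of R))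
    [IsOpenImmersion j] (h : closedPoint R ∈ Set.range j) : IsIso j := by
  rw [isIso_iff_isOpenImmersion_and_surjective]
  refine ⟨inferInstance, ⟨fun p => ?_⟩⟩
  have hopen : IsOpen (Set.range j) := j.isOpenEmbedding.isOpen_range
  exact hopen.stableUnderGeneralization (specializes_closedPoint p) h

/-- **uniqueness of sections of an unramified scheme over a local ring with given value at the
closed point**. -/
theorem section_unique {X : Scheme.{u}} (π : X ⟶ Spec (CommRingCat.of R))
    [LocallyOfFiniteType π] [FormallyUnramified π]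
    (σ₁ σ₂ : Spec (CommRingCat.of R) ⟶ X) (h₁ : σ₁ ≫ π = 𝟙 _) (h₂ : σ₂ ≫ π = 𝟙 _)
    (h : cpt R ≫ σ₁ = cpt R ≫ σ₂) : σ₁ = σ₂ := by
  let d := pullback.diagonal π
  let l : Spec (CommRingCat.of R) ⟶ pullback π π := pullback.lift σ₁ σ₂ (by rw [h₁, h₂])
  let j := pullback.snd d l
  haveI : IsOpenImmersion j := inferInstance
  let c' : Spec (CommRingCat.of (ResidueField R)) ⟶ pullback d l :=
    pullback.lift (cpt R ≫ σ₁) (cpt R) (by
      apply pullback.hom_ext
      · simp only [d, l, Category.assoc, pullback.diagonal_fst, pullback.lift_fst, Category.comp_id]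
      · simp only [d, l, Category.assoc, pullback.diagonal_snd, pullback.lift_snd, Category.comp_id, h])
  have hc : c' ≫ j = cpt R := pullback.lift_snd _ _ _
  have hmem : closedPoint R ∈ Set.range j := by
    let pt : Spec (CommRingCat.of (ResidueField R)) := closedPoint (ResidueField R)
    refine ⟨c' pt, ?_⟩
    rw [← Scheme.Hom.comp_apply, hc]
    exact PrimeSpectrum.comap_residue R pt
  haveI : IsIso j := isIso_of_closedPoint_mem j hmem
  have hl : l = inv j ≫ pullback.fst d l ≫ d := by
    rw [IsIso.eq_inv_comp]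
    exact pullback.condition.symm
  have e1 : σ₁ = l ≫ pullback.fst π π := (pullback.lift_fst _ _ _).symm
  have e2 : σ₂ = l ≫ pullback.snd π π := (pullback.lift_snd _ _ _).symm
  rw [e1, e2, hl]
  simp [d]

end uniq

section exist

variable {R : Type u} [CommRing R] [HenselianLocalRing R]

lemma equivAlgHom_symm_val {X : Scheme.{u}} [IsAffine X] (π : X ⟶ Spec (CommRingCat.of R))
    (L : Type u) [CommRing L] [Algebra R L] [Algebra R Γ(X, ⊤)]
    (halg : algebraMap R Γ(X, ⊤) = (structHom π).hom) (χ : Γ(X, ⊤) →ₐ[R] L) :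
    ((equivAlgHom π L halg).symm χ).1 =
      Spec.map (CommRingCat.ofHom χ.toRingHom) ≫ X.isoSpec.inv := rfl

/-- **existence of sections of an étale scheme over a henselian local ring through a rational
point of the closed fibre**. -/
theorem exists_section {X : Scheme.{u}} (π : X ⟶ Spec (CommRingCat.of R)) [Etale π]
    (φ₀ : Spec (CommRingCat.of (ResidueField R)) ⟶ X) (hφ₀ : φ₀ ≫ π = cpt R) :
    ∃ σ : Spec (CommRingCat.of R) ⟶ X, σ ≫ π = 𝟙 _ ∧ cpt R ≫ σ = φ₀ := by
  let pt : Spec (CommRingCat.of (ResidueField R)) := closedPoint (ResidueField R)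
  obtain ⟨_, ⟨U₀, hU, rfl⟩, hxU, -⟩ :=
    X.isBasis_affineOpens.exists_subset_of_mem_open (Set.mem_univ (φ₀ pt)) isOpen_univ
  obtain ⟨U, rfl⟩ : ∃ U : X.Opens, U = U₀ := ⟨U₀, rfl⟩
  haveI : IsAffine (U : Scheme.{u}) := hU
  have hrange : Set.range φ₀ ⊆ Set.range U.ι := by
    rintro _ ⟨y, rfl⟩
    rw [Scheme.Opens.range_ι]
    have : y = pt := Subsingleton.elim _ _
    rw [this]
    exact hxU
  let φ₀' : Spec (CommRingCat.of (ResidueField R)) ⟶ (U : Scheme.{u}) :=
    IsOpenImmersion.lift U.ι φ₀ hrange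
  have hφ₀' : φ₀' ≫ U.ι = φ₀ := IsOpenImmersion.lift_fac _ _ _
  let πU : (U : Scheme.{u}) ⟶ Spec (CommRingCat.of R) := U.ι ≫ π
  haveI : Etale πU := inferInstance
  letI : Algebra R Γ((U : Scheme.{u}), ⊤) := (structHom πU).hom.toAlgebra
  have halg : algebraMap R Γ((U : Scheme.{u}), ⊤) = (structHom πU).hom := rfl
  haveI : Algebra.Etale R Γ((U : Scheme.{u}), ⊤) := by
    have h1 : Etale (Spec.map (structHom πU)) := by
      rw [← MorphismProperty.cancel_left_of_respectsIso @Etale (U : Scheme.{u}).isoSpec.hom,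
        ← hom_eq]
      infer_instance
    exact (HasRingHomProperty.Spec_iff (P := @Etale)).mp h1
  let ψ₀ : Γ((U : Scheme.{u}), ⊤) →ₐ[R] ResidueField R :=
    equivAlgHom πU (ResidueField R) halg ⟨φ₀', by
      show φ₀' ≫ U.ι ≫ π = _
      rw [← Category.assoc, hφ₀', hφ₀]
      rfl⟩
  obtain ⟨ψ, hψ⟩ := exists_lift R Γ((U : Scheme.{u}), ⊤) ψ₀
  let σ' := (equivAlgHom πU R halg).symm ψ
  refine ⟨σ'.1 ≫ U.ι, ?_, ?_⟩
  · have h2 := σ'.2
    rw [Category.assoc]
    refine h2.trans ?_
    show Spec.map (CommRingCat.ofHom (RingHom.id R)) = 𝟙 _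
    exact Spec.map_id _
  · have h3 : cpt R ≫ σ'.1 = φ₀' := by
      have h4 : φ₀' = ((equivAlgHom πU (ResidueField R) halg).symm ψ₀).1 := by
        simp only [ψ₀, Equiv.symm_apply_apply]
      rw [h4, equivAlgHom_symm_val, equivAlgHom_symm_val, ← hψ, ← Category.assoc, ← Spec.map_comp]
      rfl
    rw [← Category.assoc, h3, hφ₀']

end exist

end Groth.Agent.Lib.Helper3.HensLift
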