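import Mathlib
import Groth.Agent.Lib.Helper3HenselLF
import Groth.Agent.Lib.Helper3HensSec

set_option autoImplicit false
set_option linter.style.haveILetI false
set_option linter.unusedSectionVars false

universe u v

open CategoryTheory CategoryTheory.Limits AlgebraicGeometry IsLocalRing

namespace Groth.Agent.Lib.Helper3.HensLoc

open Groth.Agent.Lib.Helper3.Hensel Groth.Agent.Lib.Helper3.TorsKer
  Groth.Agent.Lib.Helper3.HensLift

-- Over a henselian local ring `R`, if a finite type algebra `S` is quasi-finite at a prime `q`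
-- over the maximal ideal, then `S_q = S/(1-e)` for an idempotent `e`, finite over `R`.
theorem exists_idempotent_atPrime {R : Type u} [CommRing R] [HenselianLocalRing R]
    {S : Type v} [CommRing S] [Algebra R S] [Algebra.FiniteType R S] (q : Ideal S) [q.IsPrime]
    [q.LiesOver (maximalIdeal R)] [Algebra.QuasiFiniteAt R q] :
    ∃ e : S, IsIdempotentElem e ∧ e ∉ q ∧
      Module.Finite R (S ⧸ Ideal.span ({1 - e} : Set S)) ∧
      IsLocalization.AtPrime (S ⧸ Ideal.span ({1 - e} : Set S)) q := by
  obtain ⟨e, he, heq, hfin, huniq⟩ := exists_idempotent_of_quasiFiniteAt (R := R) q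
  refine ⟨e, he, heq, hfin, ?_⟩
  let T := S ⧸ Ideal.span ({1 - e} : Set S)
  have h1e : 1 - e ∈ q := by
    have : e * (1 - e) ∈ q := by
      rw [mul_sub, mul_one, he.eq, sub_self]; exact q.zero_mem
    exact (Ideal.IsPrime.mem_or_mem inferInstance this).resolve_left heq
  haveI : Algebra.IsIntegral R T := Algebra.IsIntegral.of_finite R T
  refine ⟨⟨?_, ?_, ?_⟩⟩
  · rintro ⟨s, hs⟩
    show IsUnit (algebraMap S T s)
    by_contra hnu
    obtain ⟨M, hM, hsM⟩ := exists_max_ideal_of_mem_nonunits hnu
    let M' := M.comap (Ideal.Quotient.mk (Ideal.span ({1 - e} : Set S)))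
    haveI hM'max : M'.IsMaximal := Ideal.comap_isMaximal_of_surjective _ Ideal.Quotient.mk_surjective
    have hM'l : M'.LiesOver (maximalIdeal R) := by
      constructor
      have hmax : (M.comap (algebraMap R T)).IsMaximal :=
        Ideal.isMaximal_comap_of_isIntegral_of_isMaximal M
      have := IsLocalRing.eq_maximalIdeal hmax
      rw [← this]
      rfl
    have heM' : e ∉ M' := by
      intro hmem
      have h1 : (1 - e) ∈ M' := by
        show Ideal.Quotient.mk _ (1 - e) ∈ M
        rw [Ideal.Quotient.eq_zero_iff_mem.mpr (Ideal.mem_span_singleton_self _)]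
        exact M.zero_mem
      have : (1 : S) ∈ M' := by
        have := M'.add_mem hmem h1
        simpa using this
      exact hM'max.ne_top ((Ideal.eq_top_iff_one _).mpr this)
    have := huniq M' inferInstance hM'l heM'
    apply hs
    rw [← this]
    exact hsM
  · intro z
    obtain ⟨s, rfl⟩ := Ideal.Quotient.mk_surjective z
    exact ⟨(s, 1), by simp⟩
  · intro a b hab
    have hab' : Ideal.Quotient.mk (Ideal.span ({1 - e} : Set S)) a
        = Ideal.Quotient.mk (Ideal.span ({1 - e} : Set S)) b := hab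
    rw [Ideal.Quotient.mk_eq_mk_iff_sub_mem, Ideal.mem_span_singleton'] at hab'
    obtain ⟨w, hw⟩ := hab'
    refine ⟨⟨e, heq⟩, ?_⟩
    show e * a = e * b
    have : e * (a - b) = 0 := by
      rw [← hw, mul_comm w, ← mul_assoc, mul_sub, mul_one, he.eq, sub_self, zero_mul]
    rw [mul_sub, sub_eq_zero] at this
    exact this

-- local structure of an etale scheme over a henselian local ring at a point of the closed fibre
theorem exists_local_openImmersion {R : Type u} [CommRing R] [HenselianLocalRing R]
    {X : Scheme.{u}} (p : X ⟶ Spec (CommRingCat.of R)) [Etale p] (x : X)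
    (hx : p x = closedPoint R) :
    ∃ (T : CommRingCat.{u}) (_ : IsLocalRing T) (g : Spec T ⟶ X),
      IsOpenImmersion g ∧ g (closedPoint T) = x ∧ IsFinite (g ≫ p) := by
  obtain ⟨_, ⟨W₀, hW, rfl⟩, hxW, -⟩ :=
    X.isBasis_affineOpens.exists_subset_of_mem_open (Set.mem_univ x) isOpen_univ
  obtain ⟨W, rfl⟩ : ∃ W : X.Opens, W = W₀ := ⟨W₀, rfl⟩
  haveI : IsAffine (W : Scheme.{u}) := hW
  let πW : (W : Scheme.{u}) ⟶ Spec (CommRingCat.of R) := W.ι ≫ p
  haveI : Etale πW := inferInstance
  letI : Algebra R Γ((W : Scheme.{u}), ⊤) := (structHom πW).hom.toAlgebra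
  have halg : algebraMap R Γ((W : Scheme.{u}), ⊤) = (structHom πW).hom := rfl
  haveI : Algebra.Etale R Γ((W : Scheme.{u}), ⊤) := by
    have h1 : Etale (Spec.map (structHom πW)) := by
      rw [← MorphismProperty.cancel_left_of_respectsIso @Etale (W : Scheme.{u}).isoSpec.hom,
        ← hom_eq]
      infer_instance
    exact (HasRingHomProperty.Spec_iff (P := @Etale)).mp h1
  let x' : (W : Scheme.{u}) := ⟨x, hxW⟩
  let Q : PrimeSpectrum Γ((W : Scheme.{u}), ⊤) := (W : Scheme.{u}).isoSpec.hom x'
  have hQ : Spec.map (structHom πW) Q = closedPoint R := by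
    have h1 : πW x' = closedPoint R := by
      show (W.ι ≫ p) x' = _
      rw [Scheme.Hom.comp_apply]
      exact hx
    rw [hom_eq πW, Scheme.Hom.comp_apply] at h1
    exact h1
  haveI : Q.asIdeal.LiesOver (maximalIdeal R) := by
    constructor
    have := congrArg PrimeSpectrum.asIdeal hQ
    exact this.symm
  obtain ⟨e, he, heQ, hfin, hloc⟩ := exists_idempotent_atPrime (R := R) Q.asIdeal
  let T := Γ((W : Scheme.{u}), ⊤) ⧸ Ideal.span ({1 - e} : Set Γ((W : Scheme.{u}), ⊤))
  haveI hTloc : IsLocalRing T := IsLocalization.AtPrime.isLocalRing T Q.asIdeal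
  let mk : Γ((W : Scheme.{u}), ⊤) ⟶ CommRingCat.of T :=
    CommRingCat.ofHom (Ideal.Quotient.mk (Ideal.span ({1 - e} : Set Γ((W : Scheme.{u}), ⊤))))
  haveI hoi : IsOpenImmersion (Spec.map mk) :=
    (isOpenImmersion_SpecMap_iff_of_surjective mk Ideal.Quotient.mk_surjective).mpr
      ⟨1 - e, he.one_sub, Ideal.mk_ker⟩
  refine ⟨CommRingCat.of T, hTloc, Spec.map mk ≫ (W : Scheme.{u}).isoSpec.inv ≫ W.ι,
    inferInstance, ?_, ?_⟩
  · have h1 : Spec.map mk (closedPoint (CommRingCat.of T)) = Q := by
      apply PrimeSpectrum.ext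
      exact IsLocalization.AtPrime.under_maximalIdeal T Q.asIdeal
    rw [Scheme.Hom.comp_apply, h1, Scheme.Hom.comp_apply]
    show W.ι ((W : Scheme.{u}).isoSpec.inv ((W : Scheme.{u}).isoSpec.hom x')) = x
    rw [← Scheme.Hom.comp_apply (W : Scheme.{u}).isoSpec.hom (W : Scheme.{u}).isoSpec.inv,
      Iso.hom_inv_id]
    rfl
  · have h1 : (Spec.map mk ≫ (W : Scheme.{u}).isoSpec.inv ≫ W.ι) ≫ p =
        Spec.map (structHom πW ≫ mk) := by
      rw [Spec.map_comp, Category.assoc, Category.assoc]
      congr 1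
      show (W : Scheme.{u}).isoSpec.inv ≫ πW = _
      rw [Iso.inv_comp_eq]
      exact hom_eq πW
    rw [h1, IsFinite.SpecMap_iff]
    show (algebraMap R T).Finite
    exact (RingHom.finite_algebraMap).mpr hfin

-- the canonical morphism from the local scheme at the image of the closed point of an open
-- immersion from a local affine scheme is that open immersion up to an isomorphism
theorem fromSpecStalk_eq_of_openImmersion {X : Scheme.{u}} (T : CommRingCat.{u}) [IsLocalRing T]
    (g : Spec T ⟶ X) [IsOpenImmersion g] :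
    ∃ e : Spec (X.presheaf.stalk (g (closedPoint T))) ⟶ Spec T, IsIso e ∧
      X.fromSpecStalk (g (closedPoint T)) = e ≫ g := by
  have h1 := Scheme.SpecMap_stalkMap_fromSpecStalk g (x := closedPoint T)
  have h2 := Spec_stalkClosedPointIso T
  haveI : IsIso (Spec.map (g.stalkMap (closedPoint T))) := inferInstance
  refine ⟨inv (Spec.map (g.stalkMap (closedPoint T))) ≫ Spec.map (stalkClosedPointIso T).inv,
    inferInstance, ?_⟩
  rw [Category.assoc, h2, ← h1, IsIso.inv_hom_id_assoc]

-- structure of an etale separated scheme over a henselian local ring at a point of the closed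
-- fibre
theorem structure_at_closedFibre {R : Type u} [CommRing R] [HenselianLocalRing R]
    {X : Scheme.{u}} (p : X ⟶ Spec (CommRingCat.of R)) [Etale p] [IsSeparated p] (x : X)
    (hx : p x = closedPoint R) :
    IsOpenImmersion (X.fromSpecStalk x) ∧ IsClosedImmersion (X.fromSpecStalk x) ∧
      IsFinite (X.fromSpecStalk x ≫ p) ∧ Etale (X.fromSpecStalk x ≫ p) ∧
      Surjective (X.fromSpecStalk x ≫ p) := by
  obtain ⟨T, hT, g, hg, hgx, hfin⟩ := exists_local_openImmersion p x hx
  subst hgx
  obtain ⟨e, he, hee⟩ := fromSpecStalk_eq_of_openImmersion T g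
  rw [hee]
  haveI h1 : IsOpenImmersion (e ≫ g) := inferInstance
  haveI h3 : IsFinite ((e ≫ g) ≫ p) := by
    rw [Category.assoc]; infer_instance
  haveI h4 : Etale ((e ≫ g) ≫ p) := inferInstance
  haveI h5 : IsFinite (e ≫ g) := IsFinite.of_comp (e ≫ g) p
  have h2 : IsClosedImmersion (e ≫ g) :=
    IsClosedImmersion.of_isPreimmersion _ (e ≫ g).isClosedMap.isClosed_range
  refine ⟨h1, h2, h3, h4, ⟨fun s => ?_⟩⟩
  have hopen : IsOpen (Set.range ((e ≫ g) ≫ p)) := ((e ≫ g) ≫ p).isOpenMap.isOpen_range
  refine hopen.stableUnderGeneralization (specializes_closedPoint s) ?_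
  refine ⟨inv e (closedPoint T), ?_⟩
  rw [Scheme.Hom.comp_apply, Scheme.Hom.comp_apply, ← Scheme.Hom.comp_apply (inv e) e,
    IsIso.inv_hom_id]
  exact hx

-- every point lies in the local scheme of exactly one point of the closed fibre
theorem existsUnique_closedFibre_point {R : Type u} [CommRing R] [HenselianLocalRing R]
    {X : Scheme.{u}} (p : X ⟶ Spec (CommRingCat.of R)) [Etale p] [IsSeparated p]
    (hsp : SpecializingMap p) (y : X) :
    ∃! x : X, p x = closedPoint R ∧ y ∈ Set.range (X.fromSpecStalk x) := by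
  obtain ⟨x, hyx, hx⟩ := hsp (specializes_closedPoint (p y))
  refine ⟨x, ⟨hx, ?_⟩, ?_⟩
  · rw [Scheme.range_fromSpecStalk]
    exact hyx
  · rintro x' ⟨hx', hyx'⟩
    rw [Scheme.range_fromSpecStalk] at hyx'
    have hyx' : y ⤳ x' := hyx'
    have key : ∀ a b : X, p a = closedPoint R → y ⤳ a → y ⤳ b → b ⤳ a := by
      intro a b ha hya hyb
      obtain ⟨-, hcl, -⟩ := structure_at_closedFibre p a ha
      have hclosed : IsClosed (Set.range (X.fromSpecStalk a)) :=
        (X.fromSpecStalk a).isClosedEmbedding.isClosed_range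
      have hy : y ∈ Set.range (X.fromSpecStalk a) := by
        rw [Scheme.range_fromSpecStalk]; exact hya
      have hb : b ∈ Set.range (X.fromSpecStalk a) := by
        have : b ∈ closure {y} := hyb.mem_closure
        exact (hclosed.closure_subset_iff.mpr (Set.singleton_subset_iff.mpr hy)) this
      rw [Scheme.range_fromSpecStalk] at hb
      exact hb
    exact ((key x x' hx hyx hyx').antisymm (key x' x hx' hyx' hyx)).eq

end Groth.Agent.Lib.Helper3.HensLoc
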