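import Mathlib
import Groth.Agent.Lib.Helper3HenselG

set_option autoImplicit false
universe u v

namespace Groth.Agent.Lib.Helper3.Hensel

open Polynomial IsLocalRing TensorProduct

/-- a finite local algebra over a local ring is local over it -/
theorem isLocalHom_of_finite {R A₀ : Type*} [CommRing R] [IsLocalRing R] [CommRing A₀]
    [IsLocalRing A₀] [Algebra R A₀] [Module.Finite R A₀] : IsLocalHom (algebraMap R A₀) := by
  haveI : Algebra.IsIntegral R A₀ := Algebra.IsIntegral.of_finite R A₀
  have h := IsLocalRing.eq_maximalIdeal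
    (Ideal.isMaximal_comap_of_isIntegral_of_isMaximal (R := R) (maximalIdeal A₀))
  exact ((IsLocalRing.local_hom_TFAE (algebraMap R A₀)).out 0 4).mpr h

/-- **Lemma U**: a finite, formally unramified local algebra over a local ring with separably
closed residue field is a quotient of it. -/
theorem algebraMap_surjective_of_unramified {R : Type*} [CommRing R] [IsLocalRing R]
    [IsSepClosed (ResidueField R)] {A₀ : Type*} [CommRing A₀] [IsLocalRing A₀] [Algebra R A₀]
    [Module.Finite R A₀] [Algebra.FormallyUnramified R A₀] :
    Function.Surjective (algebraMap R A₀) := by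
  haveI : Algebra.IsIntegral R A₀ := Algebra.IsIntegral.of_finite R A₀
  haveI hloc : IsLocalHom (algebraMap R A₀) := isLocalHom_of_finite
  set I := (maximalIdeal R).map (algebraMap R A₀) with hI
  have hrad : I.IsRadical := Algebra.FormallyUnramified.isRadical_map_isMaximal R A₀ (maximalIdeal R)
  have hIle : I ≤ maximalIdeal A₀ :=
    ((IsLocalRing.local_hom_TFAE (algebraMap R A₀)).out 0 2).mp hloc
  have hImax : maximalIdeal A₀ ≤ I := by
    intro x hx
    rw [← hrad.radical, Ideal.radical_eq_sInf, Ideal.mem_sInf]
    rintro J ⟨hIJ, hJ⟩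
    haveI := hJ
    have hJl : J.LiesOver (maximalIdeal R) := under_eq_of_map_le J hIJ
    haveI : J.IsMaximal := Ideal.IsMaximal.of_liesOver_isMaximal J (maximalIdeal R)
    rw [IsLocalRing.eq_maximalIdeal ‹J.IsMaximal›]
    exact hx
  -- residue fields
  let κ := ResidueField R
  let L := ResidueField A₀
  haveI : Module.Finite R L :=
    Module.Finite.of_surjective (IsScalarTower.toAlgHom R A₀ L).toLinearMap residue_surjective
  haveI : Module.Finite κ L := Module.Finite.of_restrictScalars_finite R κ L
  haveI : Algebra.FormallyUnramified R L :=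
    Algebra.FormallyUnramified.of_surjective (IsScalarTower.toAlgHom R A₀ L) residue_surjective
  haveI : Algebra.FormallyUnramified κ L := Algebra.FormallyUnramified.of_restrictScalars R κ L
  haveI : Algebra.IsSeparable κ L := Algebra.FormallyUnramified.isSeparable κ L
  have hκL : Function.Surjective (algebraMap κ L) := IsSepClosed.algebraMap_surjective κ L
  -- Nakayama
  let N : Submodule R A₀ := LinearMap.range (Algebra.linearMap R A₀)
  have key : (⊤ : Submodule R A₀) ≤ N ⊔ (maximalIdeal R) • (⊤ : Submodule R A₀) := by
    intro a _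
    obtain ⟨r, hr⟩ := hκL (residue A₀ a)
    obtain ⟨r, rfl⟩ := residue_surjective r
    have h1 : residue A₀ (algebraMap R A₀ r) = residue A₀ a := by
      rw [← hr]; rfl
    have h2 : a - algebraMap R A₀ r ∈ I := by
      apply hImax
      rw [← residue_eq_zero_iff, map_sub, h1, sub_self]
    have h3 : a = algebraMap R A₀ r + (a - algebraMap R A₀ r) := by ring
    rw [h3]
    refine Submodule.add_mem_sup ⟨r, rfl⟩ ?_
    rw [Ideal.smul_top_eq_map]
    exact h2
  have hN : (⊤ : Submodule R A₀) ≤ N :=
    Submodule.le_of_le_smul_of_le_jacobson_bot Module.Finite.fg_top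
      (IsLocalRing.maximalIdeal_le_jacobson _) key
  intro a
  obtain ⟨r, hr⟩ := hN (Submodule.mem_top (x := a))
  exact ⟨r, hr⟩

end Groth.Agent.Lib.Helper3.Hensel
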