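import Mathlib
import Groth.Agent.Lib.Helper3HenselK

set_option autoImplicit false
universe u v

namespace Groth.Agent.Lib.Helper3.Hensel

open Polynomial IsLocalRing TensorProduct

/-- **Lemma V**: maps from an étale algebra to a henselian local algebra are the same as maps to its
residue field. -/
theorem existsUnique_algHom_residue {R : Type*} [CommRing R] {S : Type*} [CommRing S]
    [HenselianLocalRing S] [Algebra R S] {A : Type*} [CommRing A] [Algebra R A]
    [Algebra.Etale R A] (χ : A →ₐ[R] ResidueField S) :
    ∃! f : A →ₐ[R] S, ∀ a, residue S (f a) = χ a := by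
  let q : Ideal A := RingHom.ker χ.toRingHom
  haveI : q.IsPrime := RingHom.ker_isPrime χ.toRingHom
  let τ : q.ResidueField →ₐ[R] ResidueField S :=
    Ideal.ResidueField.liftₐ q χ le_rfl (by
      intro a ha
      rw [Submonoid.mem_comap, IsUnit.mem_submonoid_iff]
      exact IsUnit.mk0 _ (fun h0 => ha h0))
  have hτ : ∀ a, τ (algebraMap A q.ResidueField a) = χ a := fun a =>
    Ideal.ResidueField.liftₐ_algebraMap q χ _ _ a
  obtain ⟨f, hf, huniq⟩ := existsUnique_algHom_of_etale (R := R) (S := S) q τ
  refine ⟨f, fun a => by rw [hf, hτ], fun f' hf' => huniq f' (fun a => by rw [hf', hτ])⟩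

/-- **Lemma W**: a map from an unramified algebra over a separably closed field `K` to a field
extension has image in `K`. -/
theorem mem_range_algebraMap_of_unramified {K : Type*} [Field K] [IsSepClosed K] {A : Type*}
    [CommRing A] [Algebra K A] [Algebra.FormallyUnramified K A] [Algebra.EssFiniteType K A]
    {L : Type*} [Field L] [Algebra K L] (χ : A →ₐ[K] L) (x : A) :
    χ x ∈ (algebraMap K L).range := by
  haveI : Module.Free K A := Module.Free.of_divisionRing K A
  haveI : Module.Finite K A := Algebra.FormallyUnramified.finite_of_free K A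
  let L' : Subalgebra K L := χ.range
  haveI : Module.Finite K L' :=
    Module.Finite.of_surjective χ.rangeRestrict.toLinearMap χ.rangeRestrict_surjective
  haveI : IsArtinianRing L' := IsArtinianRing.of_finite K L'
  letI : Field L' := (IsArtinianRing.isField_of_isDomain L').toField
  haveI : Algebra.FormallyUnramified K L' :=
    Algebra.FormallyUnramified.of_surjective χ.rangeRestrict χ.rangeRestrict_surjective
  haveI : Algebra.IsSeparable K L' := Algebra.FormallyUnramified.isSeparable K L'
  obtain ⟨c, hc⟩ := IsSepClosed.algebraMap_surjective K L' ⟨χ x, x, rfl⟩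
  refine ⟨c, ?_⟩
  have := congrArg (Subtype.val) hc
  exact this

end Groth.Agent.Lib.Helper3.Hensel
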