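import Mathlib
import Groth.Agent.Lib.Helper3HenselL
import Groth.Agent.Lib.Helper3HenselK
import Groth.Agent.Lib.Helper3HenselC
import Groth.Agent.S0505

/-!
# Hensel N (helper3): lifting algebra maps from étale algebras along `C → C/I` for finite `C`
-/

namespace Groth.Agent.Lib.Helper3.Hensel

open IsLocalRing TensorProduct

universe u

/-- An idempotent in the Jacobson radical vanishes. -/
lemma eq_zero_of_isIdempotentElem_of_mem_jacobson {Q : Type*} [CommRing Q] {ε : Q}
    (he : IsIdempotentElem ε) (hj : ε ∈ Ideal.jacobson (⊥ : Ideal Q)) : ε = 0 := by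
  have hu : IsUnit (ε * (-1) + 1) := Ideal.mem_jacobson_bot.mp hj (-1)
  have h0 : (ε * (-1) + 1) * ε = (ε * (-1) + 1) * 0 := by
    have := he.eq
    ring_nf
    rw [pow_two, this]
    ring
  exact hu.mul_left_cancel h0

/-- **Lemma D''**: two algebra maps out of an unramified algebra which agree modulo the Jacobson
radical are equal. -/
theorem algHom_eq_of_sub_mem_jacobson {A E Q : Type*} [CommRing A] [CommRing E] [Algebra A E]
    [Algebra.EssFiniteType A E] [Algebra.FormallyUnramified A E] [CommRing Q]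
    [Algebra A Q] (f g : E →ₐ[A] Q) (h : ∀ c, f c - g c ∈ Ideal.jacobson (⊥ : Ideal Q)) :
    f = g := by
  obtain ⟨e, he, hsp⟩ : ∃ e, IsIdempotentElem e ∧ KaehlerDifferential.ideal A E = Ideal.span {e} :=
    (Ideal.isIdempotentElem_iff_of_fg _ (KaehlerDifferential.ideal_fg A E)).mp <|
      (Ideal.cotangent_subsingleton_iff _).mp <| inferInstanceAs <| Subsingleton Ω[E⁄A]
  let φ : E ⊗[A] E →ₐ[A] Q := Algebra.TensorProduct.productMap f g
  have key : ∀ x : E ⊗[A] E,
      φ x - f (Algebra.TensorProduct.lmul' A x) ∈ Ideal.jacobson (⊥ : Ideal Q) := by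
    intro x
    induction x using TensorProduct.induction_on with
    | zero => simp
    | tmul a b =>
      have : φ (a ⊗ₜ b) - f (Algebra.TensorProduct.lmul' A (a ⊗ₜ b)) = -(f a * (f b - g b)) := by
        simp [φ]; ring
      rw [this]
      exact Ideal.neg_mem_iff _ |>.mpr (Ideal.mul_mem_left _ _ (h b))
    | add x y hx hy =>
      have : φ (x + y) - f (Algebra.TensorProduct.lmul' A (x + y)) =
          (φ x - f (Algebra.TensorProduct.lmul' A x)) +
            (φ y - f (Algebra.TensorProduct.lmul' A y)) := by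
        simp only [map_add]; ring
      rw [this]
      exact Ideal.add_mem _ hx hy
  have he0 : Algebra.TensorProduct.lmul' A e = 0 := by
    have : e ∈ KaehlerDifferential.ideal A E := hsp ▸ Ideal.subset_span rfl
    exact this
  have hφe : φ e = 0 := by
    apply eq_zero_of_isIdempotentElem_of_mem_jacobson (he.map φ)
    have := key e
    rwa [he0, map_zero, sub_zero] at this
  ext c
  have hmem : ((1 : E) ⊗ₜ[A] c - c ⊗ₜ[A] (1 : E)) ∈ KaehlerDifferential.ideal A E :=
    KaehlerDifferential.one_smul_sub_smul_one_mem_ideal A c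
  rw [hsp, Ideal.mem_span_singleton'] at hmem
  obtain ⟨x, hx⟩ := hmem
  have h2 := congrArg φ hx
  rw [map_mul, hφe, mul_zero] at h2
  simp only [φ, map_sub, Algebra.TensorProduct.productMap_apply_tmul, map_one, one_mul,
    mul_one] at h2
  exact (sub_eq_zero.mp h2.symm).symm

/-- **Lemma J**: an element of a finite product of local rings all of whose components are
non-units lies in the Jacobson radical. -/
lemma mem_jacobson_of_forall_mem_maximalIdeal {C : Type*} [CommRing C] {ι : Type*}
    {B : ι → Type*} [∀ i, CommRing (B i)] [∀ i, IsLocalRing (B i)] (Φ : C ≃+* (∀ i, B i))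
    (z : C) (hz : ∀ i, Φ z i ∈ maximalIdeal (B i)) : z ∈ Ideal.jacobson (⊥ : Ideal C) := by
  rw [Ideal.mem_jacobson_bot]
  intro y
  have : IsUnit (Φ (z * y + 1)) := by
    rw [Pi.isUnit_iff]
    intro i
    have h1 : Φ (z * y + 1) i = Φ z i * Φ y i + 1 := by simp
    rw [h1]
    have h2 : Φ z i * Φ y i ∈ maximalIdeal (B i) := Ideal.mul_mem_right _ _ (hz i)
    by_contra hnu
    have h3 : Φ z i * Φ y i + 1 ∈ maximalIdeal (B i) := hnu
    have h4 : (1 : B i) ∈ maximalIdeal (B i) := by
      have := Ideal.sub_mem _ h3 h2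
      simp at this
    exact (maximalIdeal.isMaximal (B i)).ne_top ((Ideal.eq_top_iff_one _).mpr h4)
  exact (MulEquiv.isUnit_map Φ).mp this

lemma map_mem_jacobson_of_surjective {C Q : Type*} [CommRing C] [CommRing Q] (f : C →+* Q)
    (hf : Function.Surjective f) {z : C} (hz : z ∈ Ideal.jacobson (⊥ : Ideal C)) :
    f z ∈ Ideal.jacobson (⊥ : Ideal Q) := by
  rw [Ideal.mem_jacobson_bot] at hz ⊢
  intro y
  obtain ⟨y, rfl⟩ := hf y
  have := (hz y).map f
  simpa using this

set_option maxHeartbeats 1000000 in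
/-- Over a henselian local ring `A`, for a finite `A`-algebra `C` and an étale `A`-algebra `E`,
`Hom_A(E, C) → Hom_A(E, C/mC)` is bijective. -/
theorem algHom_quotient_bijective (A : Type u) [CommRing A] [HenselianLocalRing A]
    (C : Type u) [CommRing C] [Algebra A C] [Module.Finite A C]
    (E : Type u) [CommRing E] [Algebra A E] [Algebra.Etale A E] :
    Function.Bijective (fun φ : E →ₐ[A] C =>
      (Ideal.Quotient.mkₐ A (Ideal.map (algebraMap A C) (maximalIdeal A))).comp φ) := by
  classical
  obtain ⟨ι, _, B, _, hloc, ⟨Φ⟩⟩ := exists_pi_isLocalRing_of_finite A C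
  letI : ∀ i, Algebra A (B i) := fun i =>
    ((Pi.evalRingHom B i).comp (Φ.toRingHom.comp (algebraMap A C))).toAlgebra
  let ρ : ∀ i, C →ₐ[A] B i := fun i =>
    { (Pi.evalRingHom B i).comp Φ.toRingHom with commutes' := fun a => rfl }
  have hρ : ∀ i z, ρ i z = Φ z i := fun i z => rfl
  have hρsurj : ∀ i, Function.Surjective (ρ i) := by
    intro i y
    refine ⟨Φ.symm (Pi.single i y), ?_⟩
    rw [hρ, RingEquiv.apply_symm_apply, Pi.single_eq_same]
  haveI : ∀ i, Module.Finite A (B i) := fun i =>
    Module.Finite.of_surjective (ρ i).toLinearMap (hρsurj i)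
  haveI : ∀ i, HenselianLocalRing (B i) := fun i => Groth.Agent.S0505.result A (B i)
  haveI : ∀ i, IsLocalHom (algebraMap A (B i)) := fun i => isLocalHom_of_finite
  set I := Ideal.map (algebraMap A C) (maximalIdeal A) with hIdef
  have hI : ∀ z ∈ I, ∀ i, ρ i z ∈ maximalIdeal (B i) := by
    intro z hz i
    have hle : I ≤ (maximalIdeal (B i)).comap (ρ i).toRingHom := by
      rw [hIdef, Ideal.map_le_iff_le_comap, Ideal.comap_comap]
      have : (ρ i).toRingHom.comp (algebraMap A C) = algebraMap A (B i) := (ρ i).comp_algebraMap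
      rw [this]
      exact ((local_hom_TFAE (algebraMap A (B i))).out 0 3 rfl rfl).mp inferInstance
    exact hle hz
  constructor
  · intro φ₁ φ₂ h
    apply algHom_eq_of_sub_mem_jacobson
    intro c
    apply mem_jacobson_of_forall_mem_maximalIdeal Φ
    intro i
    have h1 : φ₁ c - φ₂ c ∈ I := by
      have := congrArg (fun ψ => ψ c) h
      simp only [AlgHom.comp_apply, Ideal.Quotient.mkₐ_eq_mk] at this
      exact Ideal.Quotient.eq.mp this
    exact hI _ h1 i
  · intro χ
    let π : ∀ i, C ⧸ I →ₐ[A] ResidueField (B i) := fun i =>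
      Ideal.Quotient.liftₐ I ((IsScalarTower.toAlgHom A (B i) (ResidueField (B i))).comp (ρ i))
        (fun z hz => (residue_eq_zero_iff _).mpr (hI z hz i))
    have hπ : ∀ i z, π i (Ideal.Quotient.mk I z) = residue (B i) (ρ i z) := fun i z => rfl
    have hex : ∀ i, ∃ f : E →ₐ[A] B i, ∀ a, residue (B i) (f a) = (π i).comp χ a := fun i =>
      (existsUnique_algHom_residue (R := A) (S := B i) ((π i).comp χ)).exists
    choose fi hfi using hex
    let Φₐ : C ≃ₐ[A] ∀ i, B i := AlgEquiv.ofRingEquiv (f := Φ) (fun a => rfl)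
    have hΦₐ : ∀ z, Φₐ z = Φ z := fun _ => rfl
    let f : E →ₐ[A] C := Φₐ.symm.toAlgHom.comp (AlgHom.pi fi)
    have hf : ∀ c i, Φ (f c) i = fi i c := by
      intro c i
      have : Φₐ (f c) = AlgHom.pi fi c := by
        simp only [f, AlgHom.comp_apply]
        exact Φₐ.apply_symm_apply _
      rw [← hΦₐ, this]
      rfl
    refine ⟨f, ?_⟩
    apply algHom_eq_of_sub_mem_jacobson
    intro c
    obtain ⟨w, hw⟩ := Ideal.Quotient.mk_surjective (χ c)
    have h1 : (Ideal.Quotient.mkₐ A I).comp f c - χ c = Ideal.Quotient.mk I (f c - w) := by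
      rw [map_sub, hw]
      rfl
    rw [h1]
    apply map_mem_jacobson_of_surjective _ Ideal.Quotient.mk_surjective
    apply mem_jacobson_of_forall_mem_maximalIdeal Φ
    intro i
    rw [map_sub, Pi.sub_apply, hf, ← residue_eq_zero_iff, map_sub, hfi, AlgHom.comp_apply, ← hw,
      hπ, hρ, sub_self]

end Groth.Agent.Lib.Helper3.Hensel
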