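import Mathlib
import Groth.Agent.Lib.Helper3HzP
import Groth.Agent.Lib.Helper3TensorLocal

set_option autoImplicit false
set_option linter.unusedSectionVars false

namespace Groth.Agent.Lib.Helper3.HzTensor

open IsLocalRing TensorProduct Algebra.TensorProduct

universe u

section core

variable {R S Ah Bh : Type u} [CommRing R] [CommRing S] [Algebra R S]
  [CommRing Ah] [IsLocalRing Ah] [Algebra R Ah]
  [CommRing Bh] [IsLocalRing Bh] [Algebra S Bh] [Algebra R Bh] [IsScalarTower R S Bh]
  [Algebra Ah Bh] [IsScalarTower R Ah Bh] [IsLocalHom (algebraMap Ah Bh)]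

variable (R S Ah Bh) in
/-- the canonical map `Ah ⊗[R] S → Bh`. -/
noncomputable abbrev phi : Ah ⊗[R] S →ₐ[R] Bh :=
  Algebra.TensorProduct.lift (IsScalarTower.toAlgHom R Ah Bh) (IsScalarTower.toAlgHom R S Bh)
    (fun _ _ => Commute.all _ _)

variable (R S Ah Bh) in
/-- the prime `Q` of `Ah ⊗[R] S`. -/
noncomputable abbrev Q : Ideal (Ah ⊗[R] S) := Ideal.comap (phi R S Ah Bh) (maximalIdeal Bh)

theorem isUnit_phi (y : (Q R S Ah Bh).primeCompl) : IsUnit (phi R S Ah Bh y) := by
  by_contra h
  exact y.2 h

variable (R S Ah Bh) in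
/-- the induced map on the localization. -/
noncomputable def phiL : Localization.AtPrime (Q R S Ah Bh) →+* Bh :=
  IsLocalization.lift (M := (Q R S Ah Bh).primeCompl) isUnit_phi

theorem phiL_algebraMap (d : Ah ⊗[R] S) :
    phiL R S Ah Bh (algebraMap _ _ d) = phi R S Ah Bh d :=
  IsLocalization.lift_eq isUnit_phi d

theorem isLocalHom_phiL : IsLocalHom (phiL R S Ah Bh) := by
  refine ⟨fun x hx => ?_⟩
  obtain ⟨c, s, rfl⟩ := IsLocalization.exists_mk'_eq (Q R S Ah Bh).primeCompl x
  have h1 : phiL R S Ah Bh (IsLocalization.mk' _ c s) * phi R S Ah Bh s = phi R S Ah Bh c := by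
    rw [← phiL_algebraMap, ← phiL_algebraMap, ← map_mul, IsLocalization.mk'_spec]
  have h2 : IsUnit (phi R S Ah Bh c) := by
    rw [← h1]; exact hx.mul (isUnit_phi s)
  have h3 : c ∈ (Q R S Ah Bh).primeCompl := fun hc => hc h2
  have h4 : IsUnit (algebraMap (Ah ⊗[R] S) (Localization.AtPrime (Q R S Ah Bh)) c) :=
    IsLocalization.map_units _ ⟨c, h3⟩
  have h5 := IsLocalization.mk'_spec (Localization.AtPrime (Q R S Ah Bh)) c s
  have h6 : IsUnit (IsLocalization.mk' (Localization.AtPrime (Q R S Ah Bh)) c s
      * algebraMap (Ah ⊗[R] S) _ s) := by rw [h5]; exact h4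
  exact isUnit_of_mul_isUnit_left h6

/-- **Core**: `Bh` has the universal property of a henselization of `(Ah ⊗[R] S)_Q`. -/
theorem universal
    (UA : ∀ (T : Type u) [CommRing T] [HenselianLocalRing T] (u v : Ah →+* T), IsLocalHom u →
      u.comp (algebraMap R Ah) = v.comp (algebraMap R Ah) → u = v)
    (UB : ∀ (T : Type u) [CommRing T] [HenselianLocalRing T] (w : S →+* T),
      (maximalIdeal T).comap w = (maximalIdeal Bh).comap (algebraMap S Bh) →
      ∃! β : Bh →+* T, β.comp (algebraMap S Bh) = w)
    (T : Type u) [CommRing T] [HenselianLocalRing T]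
    (f : Localization.AtPrime (Q R S Ah Bh) →+* T) (hf : IsLocalHom f) :
    ∃! g : Bh →+* T, g.comp (phiL R S Ah Bh) = f := by
  let ι : Ah ⊗[R] S →+* Localization.AtPrime (Q R S Ah Bh) := algebraMap _ _
  haveI : IsLocalRing (Localization.AtPrime (Q R S Ah Bh)) := inferInstance
  let w : S →+* T := f.comp (ι.comp (includeRight : S →ₐ[R] Ah ⊗[R] S).toRingHom)
  have hmemQ : ∀ d : Ah ⊗[R] S, IsUnit (f (ι d)) ↔ IsUnit (phi R S Ah Bh d) := by
    intro d
    constructor
    · intro h
      have h1 : IsUnit (ι d) := isUnit_of_map_unit f _ h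
      have h2 := h1.map (phiL R S Ah Bh)
      rwa [phiL_algebraMap] at h2
    · intro h
      have h3 : d ∈ (Q R S Ah Bh).primeCompl := fun hc => hc h
      exact (IsLocalization.map_units (Localization.AtPrime (Q R S Ah Bh)) ⟨d, h3⟩).map f
  have hw : (maximalIdeal T).comap w = (maximalIdeal Bh).comap (algebraMap S Bh) := by
    ext s
    rw [Ideal.mem_comap, Ideal.mem_comap, mem_maximalIdeal, mem_maximalIdeal, mem_nonunits_iff,
      mem_nonunits_iff, not_iff_not]
    show IsUnit (f (ι (1 ⊗ₜ s))) ↔ _
    rw [hmemQ]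
    simp [phi]
  obtain ⟨β, hβ, hβuniq⟩ := UB T w hw
  have key : β.comp (phiL R S Ah Bh) = f := by
    apply IsLocalization.ringHom_ext (Q R S Ah Bh).primeCompl
    -- the `Ah`-part
    let u : Ah →+* T := f.comp (ι.comp (includeLeftRingHom : Ah →+* Ah ⊗[R] S))
    let v : Ah →+* T := β.comp (algebraMap Ah Bh)
    have hu : IsLocalHom u := by
      refine ⟨fun a ha => ?_⟩
      have h1 : IsUnit (f (ι (a ⊗ₜ 1))) := ha
      rw [hmemQ] at h1
      have h2 : phi R S Ah Bh (a ⊗ₜ 1) = algebraMap Ah Bh a := by simp [phi]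
      rw [h2] at h1
      exact isUnit_of_map_unit (algebraMap Ah Bh) a h1
    have huv : u = v := by
      apply UA T u v hu
      ext r
      show f (ι ((algebraMap R Ah r) ⊗ₜ 1)) = β (algebraMap Ah Bh (algebraMap R Ah r))
      have e1 : ((algebraMap R Ah r) ⊗ₜ[R] (1 : S) : Ah ⊗[R] S) = 1 ⊗ₜ (algebraMap R S r) := by
        rw [Algebra.algebraMap_eq_smul_one, Algebra.algebraMap_eq_smul_one,
          TensorProduct.smul_tmul]
      rw [e1]
      have e2 : f (ι (1 ⊗ₜ (algebraMap R S r))) = w (algebraMap R S r) := rfl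
      rw [e2, ← hβ, RingHom.comp_apply, ← IsScalarTower.algebraMap_apply R S Bh,
        ← IsScalarTower.algebraMap_apply R Ah Bh]
    apply RingHom.ext
    intro d
    show β (phiL R S Ah Bh (ι d)) = f (ι d)
    rw [phiL_algebraMap]
    induction d with
    | zero => simp
    | tmul a s =>
      have e1 : (a ⊗ₜ[R] s : Ah ⊗[R] S) = (a ⊗ₜ 1) * (1 ⊗ₜ s) := by simp
      rw [e1, map_mul, map_mul, map_mul, map_mul]
      congr 1
      · have : phi R S Ah Bh (a ⊗ₜ 1) = algebraMap Ah Bh a := by simp [phi]
        rw [this]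
        exact (RingHom.congr_fun huv a).symm
      · have : phi R S Ah Bh (1 ⊗ₜ s) = algebraMap S Bh s := by simp [phi]
        rw [this]
        exact RingHom.congr_fun hβ s
    | add x y hx hy => simp only [map_add, hx, hy]
  refine ⟨β, key, fun g' hg' => ?_⟩
  apply hβuniq
  ext s
  show g' (algebraMap S Bh s) = f (ι (1 ⊗ₜ s))
  rw [← hg', RingHom.comp_apply, phiL_algebraMap]
  simp [phi]

end core

section concrete

/-- lifts of maps local at `q` are local homomorphisms. -/
theorem isLocalHom_lift {S T : Type*} [CommRing S] [CommRing T] [IsLocalRing T] (q : Ideal S)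
    [q.IsPrime] (w : S →+* T) (hw : (maximalIdeal T).comap w = q)
    (hunits : ∀ y : q.primeCompl, IsUnit (w y)) :
    IsLocalHom (IsLocalization.lift (M := q.primeCompl) (S := Localization.AtPrime q) hunits) := by
  refine ⟨fun x hx => ?_⟩
  obtain ⟨c, s, rfl⟩ := IsLocalization.exists_mk'_eq q.primeCompl x
  have h1 : IsLocalization.lift (M := q.primeCompl) (S := Localization.AtPrime q) hunits
      (IsLocalization.mk' _ c s) * w s = w c := by
    conv_rhs => rw [← IsLocalization.lift_eq (M := q.primeCompl)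
      (S := Localization.AtPrime q) hunits c]
    conv_lhs => rw [← IsLocalization.lift_eq (M := q.primeCompl)
      (S := Localization.AtPrime q) hunits (s : S)]
    rw [← map_mul, IsLocalization.mk'_spec]
  have h2 : IsUnit (w c) := by
    rw [← h1]; exact hx.mul (hunits s)
  have h3 : c ∈ q.primeCompl := by
    intro hc
    have hc' : c ∈ Ideal.comap w (maximalIdeal T) := by rw [hw]; exact hc
    exact hc' h2
  have h4 : IsUnit (algebraMap S (Localization.AtPrime q) c) :=
    IsLocalization.map_units _ ⟨c, h3⟩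
  have h5 := IsLocalization.mk'_spec (Localization.AtPrime q) c s
  have h6 : IsUnit (IsLocalization.mk' (Localization.AtPrime q) c s
      * algebraMap S _ s) := by rw [h5]; exact h4
  exact isUnit_of_mul_isUnit_left h6

variable (R : Type u) [CommRing R] (p : Ideal R) [p.IsPrime]
  (Rh : Type u) [CommRing Rh] [IsLocalRing Rh] [Algebra (Localization.AtPrime p) Rh]
  [IsLocalHom (algebraMap (Localization.AtPrime p) Rh)]
  [Hensel.IsHenselization (Localization.AtPrime p) Rh] [Algebra R Rh]
  [IsScalarTower R (Localization.AtPrime p) Rh]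

include p in
theorem comap_maximalIdeal :
    (maximalIdeal Rh).comap (algebraMap R Rh) = p := by
  rw [IsScalarTower.algebraMap_eq R (Localization.AtPrime p) Rh, ← Ideal.comap_comap,
    IsLocalRing.maximalIdeal_comap (algebraMap (Localization.AtPrime p) Rh)]
  exact IsLocalization.AtPrime.under_maximalIdeal (Localization.AtPrime p) p

include p in
theorem UA_of_hz (T : Type u) [CommRing T] [HenselianLocalRing T] (u v : Rh →+* T)
    (hu : IsLocalHom u) (h : u.comp (algebraMap R Rh) = v.comp (algebraMap R Rh)) : u = v := by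
  have h1 : u.comp (algebraMap (Localization.AtPrime p) Rh)
      = v.comp (algebraMap (Localization.AtPrime p) Rh) := by
    apply IsLocalization.ringHom_ext p.primeCompl
    rw [RingHom.comp_assoc, RingHom.comp_assoc,
      ← IsScalarTower.algebraMap_eq R (Localization.AtPrime p) Rh]
    exact h
  haveI : IsLocalHom (u.comp (algebraMap (Localization.AtPrime p) Rh)) :=
    RingHom.isLocalHom_comp _ _
  obtain ⟨g, -, huniq⟩ := Hensel.IsHenselization.universal (R := Localization.AtPrime p)
    (S := Rh) T (u.comp (algebraMap (Localization.AtPrime p) Rh)) inferInstance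
  rw [huniq u rfl, huniq v h1.symm]

include p in
theorem UB_of_hz (T : Type u) [CommRing T] [HenselianLocalRing T] (w : R →+* T)
    (hw : (maximalIdeal T).comap w = (maximalIdeal Rh).comap (algebraMap R Rh)) :
    ∃! β : Rh →+* T, β.comp (algebraMap R Rh) = w := by
  rw [comap_maximalIdeal R p Rh] at hw
  have hunits : ∀ y : p.primeCompl, IsUnit (w y) := by
    intro y
    by_contra h
    apply y.2
    have h' : (y : R) ∈ Ideal.comap w (maximalIdeal T) := h
    rwa [hw] at h'
  let w' : Localization.AtPrime p →+* T := IsLocalization.lift (M := p.primeCompl) hunits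
  have hw' : w'.comp (algebraMap R (Localization.AtPrime p)) = w := IsLocalization.lift_comp hunits
  haveI : IsLocalHom w' := isLocalHom_lift p w hw hunits
  obtain ⟨β, hβ, hβuniq⟩ := Hensel.IsHenselization.universal (R := Localization.AtPrime p)
    (S := Rh) T w' inferInstance
  refine ⟨β, ?_, fun β' hβ' => ?_⟩
  · show β.comp (algebraMap R Rh) = w
    rw [IsScalarTower.algebraMap_eq R (Localization.AtPrime p) Rh, ← RingHom.comp_assoc, hβ, hw']
  · apply hβuniq
    apply IsLocalization.ringHom_ext p.primeCompl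
    rw [RingHom.comp_assoc, ← IsScalarTower.algebraMap_eq R (Localization.AtPrime p) Rh, hβ', hw']

variable (S : Type u) [CommRing S] [Algebra R S] (q : Ideal S) [q.IsPrime] [q.LiesOver p]
  (Sh : Type u) [CommRing Sh] [IsLocalRing Sh] [Algebra (Localization.AtPrime q) Sh]
  [IsLocalHom (algebraMap (Localization.AtPrime q) Sh)]
  [Hensel.IsHenselization (Localization.AtPrime q) Sh] [Algebra S Sh]
  [IsScalarTower S (Localization.AtPrime q) Sh] [Algebra R Sh] [IsScalarTower R S Sh]
  [Algebra Rh Sh] [IsScalarTower R Rh Sh]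

include p q in
theorem isLocalHom_algebraMap : IsLocalHom (algebraMap Rh Sh) := by
  refine ((IsLocalRing.local_hom_TFAE (algebraMap Rh Sh)).out 2 0).mp ?_
  rw [← HzP.hz_map_maximalIdeal (Localization.AtPrime p) Rh,
    ← Localization.AtPrime.map_eq_maximalIdeal, Ideal.map_map, Ideal.map_map,
    RingHom.comp_assoc, ← IsScalarTower.algebraMap_eq R (Localization.AtPrime p) Rh,
    ← IsScalarTower.algebraMap_eq R Rh Sh, IsScalarTower.algebraMap_eq R S Sh, ← Ideal.map_map]
  have h1 : p.map (algebraMap R S) ≤ q := by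
    rw [Ideal.map_le_iff_le_comap, ← Ideal.under_def, ← Ideal.over_def q p]
  refine (Ideal.map_mono h1).trans ?_
  rw [Ideal.map_le_iff_le_comap, comap_maximalIdeal S q Sh]

end concrete

end Groth.Agent.Lib.Helper3.HzTensor
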