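import Mathlib
import Groth.Prelude.Def_ProCons

set_option autoImplicit false
set_option linter.style.haveILetI false
universe u
open Topology Set

namespace Groth.Agent.Lib.Helper3.IndConsPt

variable {X : Type*} [TopologicalSpace X]

/-- every point of a constructible set lies in a locally closed subset of it. -/
theorem exists_isLocallyClosed_of_isConstructible {C : Set X} (hC : IsConstructible C) :
    (∀ x ∈ C, ∃ L : Set X, IsLocallyClosed L ∧ x ∈ L ∧ L ⊆ C) ∧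
    (∀ x ∈ Cᶜ, ∃ L : Set X, IsLocallyClosed L ∧ x ∈ L ∧ L ⊆ Cᶜ) := by
  induction hC using IsConstructible.empty_union_induction with
  | open_retrocompact U hU _ =>
    exact ⟨fun x hx => ⟨U, hU.isLocallyClosed, hx, subset_rfl⟩,
      fun x hx => ⟨Uᶜ, hU.isClosed_compl.isLocallyClosed, hx, subset_rfl⟩⟩
  | union s _ t _ ihs iht =>
    refine ⟨?_, ?_⟩
    · rintro x (hx | hx)
      · obtain ⟨L, h1, h2, h3⟩ := ihs.1 x hx
        exact ⟨L, h1, h2, h3.trans subset_union_left⟩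
      · obtain ⟨L, h1, h2, h3⟩ := iht.1 x hx
        exact ⟨L, h1, h2, h3.trans subset_union_right⟩
    · intro x hx
      rw [compl_union] at hx
      obtain ⟨L, h1, h2, h3⟩ := ihs.2 x hx.1
      obtain ⟨L', h1', h2', h3'⟩ := iht.2 x hx.2
      refine ⟨L ∩ L', h1.inter h1', ⟨h2, h2'⟩, ?_⟩
      rw [compl_union]
      exact inter_subset_inter h3 h3'
  | compl s _ ih =>
    refine ⟨ih.2, ?_⟩
    rw [compl_compl]
    exact ih.1

/-- every point of an ind-constructible set lies in a locally closed subset of it. -/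
theorem exists_isLocallyClosed_of_isIndConstructible {E : Set X}
    (hE : ProCons.IsIndConstructible E) {x : X} (hx : x ∈ E) :
    ∃ L : Set X, IsLocallyClosed L ∧ x ∈ L ∧ L ⊆ E := by
  obtain ⟨U, hU, hxU, S, hS, hES⟩ := hE x
  have hx' : (⟨x, hxU⟩ : ↥U) ∈ (Subtype.val ⁻¹' E : Set ↥U) := hx
  rw [hES] at hx'
  obtain ⟨T, hTS, hxT⟩ := hx'
  obtain ⟨U', hU'n, hU', hC⟩ := hS T hTS ⟨x, hxU⟩
  have hxU' : (⟨x, hxU⟩ : ↥U) ∈ U' := mem_of_mem_nhds hU'n
  obtain ⟨L, hL, hxL, hLC⟩ :=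
    (exists_isLocallyClosed_of_isConstructible hC).1 ⟨⟨x, hxU⟩, hxU'⟩ hxT
  have e1 : IsOpenEmbedding (Subtype.val : ↥U' → ↥U) := hU'.isOpenEmbedding_subtypeVal
  have e2 : IsOpenEmbedding (Subtype.val : ↥U → X) := hU.isOpenEmbedding_subtypeVal
  have e : IsOpenEmbedding (fun y : ↥U' => ((y : ↥U) : X)) := e2.comp e1
  refine ⟨(fun y : ↥U' => ((y : ↥U) : X)) '' L, hL.image e.isInducing e.isOpen_range.isLocallyClosed,
    ⟨⟨⟨x, hxU⟩, hxU'⟩, hxL, rfl⟩, ?_⟩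
  rintro _ ⟨y, hy, rfl⟩
  have h1 : (y : ↥U) ∈ T := hLC hy
  have h2 : (y : ↥U) ∈ (Subtype.val ⁻¹' E : Set ↥U) := by
    rw [hES]; exact ⟨T, hTS, h1⟩
  exact h2

/-- in a Jacobson space, a closed set meeting two ind-constructible sets in a common point
contains a closed point lying in both. -/
theorem exists_isClosed_singleton_mem [JacobsonSpace X] {E₁ E₂ F : Set X}
    (h₁ : ProCons.IsIndConstructible E₁) (h₂ : ProCons.IsIndConstructible E₂) (hF : IsClosed F)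
    {x : X} (hx₁ : x ∈ E₁) (hx₂ : x ∈ E₂) (hxF : x ∈ F) :
    ∃ w : X, IsClosed ({w} : Set X) ∧ w ∈ E₁ ∧ w ∈ E₂ ∧ w ∈ F := by
  obtain ⟨L₁, hL₁, hxL₁, hLE₁⟩ := exists_isLocallyClosed_of_isIndConstructible h₁ hx₁
  obtain ⟨L₂, hL₂, hxL₂, hLE₂⟩ := exists_isLocallyClosed_of_isIndConstructible h₂ hx₂
  obtain ⟨w, ⟨⟨hw1, hw2⟩, hw3⟩, hw⟩ := nonempty_inter_closedPoints (Z := (L₁ ∩ L₂) ∩ F)
    ⟨x, ⟨hxL₁, hxL₂⟩, hxF⟩ ((hL₁.inter hL₂).inter hF.isLocallyClosed)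
  exact ⟨w, hw, hLE₁ hw1, hLE₂ hw2, hw3⟩

end Groth.Agent.Lib.Helper3.IndConsPt
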