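import Mathlib
import Groth.Agent.Lib.Helper3IsoFib

set_option autoImplicit false
set_option linter.unusedVariables false
set_option linter.unusedSectionVars false
set_option linter.style.haveILetI false

open CategoryTheory CategoryTheory.Limits AlgebraicGeometry TensorProduct

universe u

namespace Groth.Agent.Lib.Helper3.IsoFib

/-- if `f` is an isomorphism over `h⁻¹ U` then the fibre maps over points of `U` are isos. -/
theorem isIso_fiberMapOver_of_isIso_morphismRestrict {X Y Z : Scheme.{u}} (f : X ⟶ Y) (h : Y ⟶ Z)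
    (U : Z.Opens) [IsIso (f ∣_ (h ⁻¹ᵁ U))] (z : Z) (hz : z ∈ U) :
    IsIso (CohIII.fiberMapOver f (f ≫ h) h rfl z) := by
  let FM := CohIII.fiberMapOver f (f ≫ h) h rfl z
  let V₁ : Y.Opens := h ⁻¹ᵁ U
  let f₁ := f ∣_ V₁
  let ιX := (f ≫ h).fiberι z
  let ιY := h.fiberι z
  have hιY : ∀ y', ιY y' ∈ V₁ := by
    intro y'
    show h (ιY y') ∈ U
    have : ιY y' ∈ Set.range ιY := ⟨y', rfl⟩
    rw [Scheme.Hom.range_fiberι] at this
    rw [show h (ιY y') = z from this]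
    exact hz
  have hιX : ∀ x', ιX x' ∈ f ⁻¹ᵁ V₁ := by
    intro x'
    show h (f (ιX x')) ∈ U
    have : ιX x' ∈ Set.range ιX := ⟨x', rfl⟩
    rw [Scheme.Hom.range_fiberι] at this
    have h2 : h (f (ιX x')) = z := by
      rw [← Scheme.Hom.comp_apply]; exact this
    rw [h2]
    exact hz
  let lY := IsOpenImmersion.lift V₁.ι ιY (by
    rintro _ ⟨y', rfl⟩
    rw [Scheme.Opens.range_ι]
    exact hιY y')
  let lX := IsOpenImmersion.lift (f ⁻¹ᵁ V₁).ι ιX (by
    rintro _ ⟨x', rfl⟩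
    rw [Scheme.Opens.range_ι]
    exact hιX x')
  have hlY : lY ≫ V₁.ι = ιY := IsOpenImmersion.lift_fac _ _ _
  have hlX : lX ≫ (f ⁻¹ᵁ V₁).ι = ιX := IsOpenImmersion.lift_fac _ _ _
  have hsq := Groth.Agent.Lib.Helper20.FlatDesc.isPullback_fiberMapOver f h z
  have hcomm : lX ≫ f₁ = FM ≫ lY := by
    rw [← cancel_mono V₁.ι, Category.assoc, Category.assoc, hlY, morphismRestrict_ι,
      ← Category.assoc, hlX]
    exact hsq.w
  have hpb : IsPullback lX FM f₁ lY := by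
    refine IsPullback.of_right ?_ hcomm (isPullback_morphismRestrict f V₁).flip
    rw [hlX, hlY]
    exact hsq
  exact hpb.isIso_snd_of_isIso

/-- being an isomorphism over opens is inherited by smaller opens. -/
theorem isIso_morphismRestrict_of_le {X Y : Scheme.{u}} (f : X ⟶ Y) {V V' : Y.Opens}
    (hle : V ≤ V') [IsIso (f ∣_ V')] : IsIso (f ∣_ V) := by
  have h1 : IsIso (f ∣_ V' ∣_ (V'.ι ⁻¹ᵁ V)) := inferInstance
  have e1 := morphismRestrictRestrict f V' (V'.ι ⁻¹ᵁ V)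
  have hV : V'.ι ''ᵁ (V'.ι ⁻¹ᵁ V) = V := by
    rw [Scheme.Hom.image_preimage_eq_opensRange_inf, Scheme.Opens.opensRange_ι]
    exact inf_eq_right.mpr hle
  have e2 := morphismRestrictEq f hV
  exact ((MorphismProperty.isomorphisms Scheme).arrow_mk_iso_iff (e1 ≪≫ e2)).mp h1

/-- being an isomorphism over opens is local. -/
theorem isIso_morphismRestrict_of_forall_exists {X Y : Scheme.{u}} (f : X ⟶ Y) (V : Y.Opens)
    (H : ∀ y ∈ V, ∃ V' : Y.Opens, y ∈ V' ∧ IsIso (f ∣_ V')) : IsIso (f ∣_ V) := by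
  show (MorphismProperty.isomorphisms Scheme) (f ∣_ V)
  refine IsZariskiLocalAtTarget.of_forall_exists_morphismRestrict (fun y => ?_)
  obtain ⟨V', hyV', hV'⟩ := H y.1 y.2
  refine ⟨V.ι ⁻¹ᵁ V', hyV', ?_⟩
  have e1 := morphismRestrictRestrict f V (V.ι ⁻¹ᵁ V')
  have hV : V.ι ''ᵁ (V.ι ⁻¹ᵁ V') = V ⊓ V' := by
    rw [Scheme.Hom.image_preimage_eq_opensRange_inf, Scheme.Opens.opensRange_ι]
  have e2 := morphismRestrictEq f hV
  haveI : IsIso (f ∣_ (V ⊓ V')) := isIso_morphismRestrict_of_le f (inf_le_right : V ⊓ V' ≤ V')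
  exact ((MorphismProperty.isomorphisms Scheme).arrow_mk_iso_iff (e1 ≪≫ e2)).mpr
    (inferInstance : IsIso (f ∣_ (V ⊓ V')))

end Groth.Agent.Lib.Helper3.IsoFib
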