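import Mathlib
import Groth.Agent.Lib.Helper22LimBC2
import Groth.Agent.Lib.Helper3DiagBC

/-!
# Diagonals of the stage morphisms `bcMor` (helper3)
-/

set_option autoImplicit false
set_option linter.style.haveILetI false

universe u

open CategoryTheory CategoryTheory.Limits AlgebraicGeometry

namespace Groth.Agent.Lib.Helper3.LimDiag

open Groth.Agent.Lib.Helper22.LimBC Groth.Agent.Lib.Helper3.DiagBC

variable {I : Type u} [Category.{u} I] (D : I ⥤ Scheme.{u})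
  (i₀ : I) {X₀ Y₀ : Scheme.{u}} (f₀ : X₀ ⟶ Y₀) (g₀ : Y₀ ⟶ D.obj i₀)

/-- A base-change-stable property of the stage-`l` base change of `Δ_{f₀}` passes to the diagonal
of the stage-`l` base change of `f₀`. -/
theorem diagonal_bcMor_of_bcMor_diagonal (P : MorphismProperty Scheme.{u})
    [P.IsStableUnderBaseChange] (l : Over i₀)
    (hl : P (bcMor D i₀ (pullback.diagonal f₀) (pullback.fst f₀ f₀ ≫ f₀ ≫ g₀) l)) :
    P (pullback.diagonal (bcMor D i₀ f₀ g₀ l)) := by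
  have hXl := isPullback_bcMor D i₀ f₀ g₀ l
  have hD := isPullback_diagonal hXl
  have hB := isPullback_dmap_base (isPullback_d D i₀ g₀ l) hXl
  let n : pullback (bcMor D i₀ f₀ g₀ l) (bcMor D i₀ f₀ g₀ l) ⟶
      (bcDiagram D i₀ (pullback.fst f₀ f₀ ≫ f₀ ≫ g₀)).obj l :=
    dLift l (dmap hXl) (pullback.fst _ _ ≫ bcMor D i₀ f₀ g₀ l ≫ dSnd D i₀ g₀ l) hB.w
  have hn : n ≫ dFst D i₀ (pullback.fst f₀ f₀ ≫ f₀ ≫ g₀) l = dmap hXl := dLift_fst _ _ _ _
  have hR := isPullback_bcMor D i₀ (pullback.diagonal f₀) (pullback.fst f₀ f₀ ≫ f₀ ≫ g₀) l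
  rw [← hn] at hD
  have hw : (hR.lift (dFst D i₀ (f₀ ≫ g₀) l) (pullback.diagonal (bcMor D i₀ f₀ g₀ l) ≫ n) hD.w) ≫
      bcMor D i₀ (pullback.diagonal f₀) (pullback.fst f₀ f₀ ≫ f₀ ≫ g₀) l =
      pullback.diagonal (bcMor D i₀ f₀ g₀ l) ≫ n := hR.lift_snd _ _ _
  have hL : IsPullback (hR.lift (dFst D i₀ (f₀ ≫ g₀) l)
      (pullback.diagonal (bcMor D i₀ f₀ g₀ l) ≫ n) hD.w)
      (pullback.diagonal (bcMor D i₀ f₀ g₀ l))
      (bcMor D i₀ (pullback.diagonal f₀) (pullback.fst f₀ f₀ ≫ f₀ ≫ g₀) l) n := by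
    have e : hR.lift (dFst D i₀ (f₀ ≫ g₀) l)
        (pullback.diagonal (bcMor D i₀ f₀ g₀ l) ≫ n) hD.w ≫
        dFst D i₀ (pullback.diagonal f₀ ≫ pullback.fst f₀ f₀ ≫ f₀ ≫ g₀) l =
        dFst D i₀ (f₀ ≫ g₀) l := hR.lift_fst _ _ _
    refine IsPullback.of_right ?_ hw hR
    rw [e]
    exact hD
  exact P.of_isPullback hL hl

/-- A base-change-stable property of the diagonal of a stage morphism passes to finer stages. -/
theorem diagonal_bcMor_of_map (P : MorphismProperty Scheme.{u})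
    [P.IsStableUnderBaseChange] {k l : Over i₀} (a : k ⟶ l)
    (hl : P (pullback.diagonal (bcMor D i₀ f₀ g₀ l))) :
    P (pullback.diagonal (bcMor D i₀ f₀ g₀ k)) :=
  P.of_isPullback (isPullback_diagonal (isPullback_map_bcMor D i₀ f₀ g₀ a)) hl

/-- A base-change-stable property of a stage morphism passes to finer stages. -/
theorem bcMor_of_map (P : MorphismProperty Scheme.{u})
    [P.IsStableUnderBaseChange] {k l : Over i₀} (a : k ⟶ l)
    (hl : P (bcMor D i₀ f₀ g₀ l)) : P (bcMor D i₀ f₀ g₀ k) :=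
  P.of_isPullback (isPullback_map_bcMor D i₀ f₀ g₀ a) hl

end Groth.Agent.Lib.Helper3.LimDiag
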