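import Mathlib
import Groth.Agent.Lib.Helper3TwcF
import Groth.Agent.Lib.Helper6UniB

set_option autoImplicit false
set_option linter.style.haveILetI false
set_option linter.unusedSectionVars false

universe u

open CategoryTheory AlgebraicGeometry Limits

namespace Groth.Agent.Lib.Helper3.LocIrr

open Groth.Agent.Lib.Helper3.TwcA Groth.Agent.Lib.Helper3.TwcB Groth.Agent.Lib.Helper3.TwcF
  Groth.Agent.Lib.Helper3.IrrTop

section top

variable {X : Type*} [TopologicalSpace X]

-- an irreducible open set meeting an irreducible component is contained in it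
theorem subset_of_mem_irreducibleComponents {Z U : Set X} (hZ : Z ∈ irreducibleComponents X)
    (hU : IsOpen U) (hUi : IsIrreducible U) (h : (Z ∩ U).Nonempty) : U ⊆ Z := by
  have h1 : Z ⊆ closure (Z ∩ U) :=
    subset_closure_inter_of_isPreirreducible_of_isOpen hZ.1.isPreirreducible hU h
  have h2 : Z ⊆ closure U := h1.trans (closure_mono Set.inter_subset_right)
  have h3 : closure U ⊆ Z := hZ.2 hUi.closure h2
  exact subset_closure.trans h3

-- in a locally irreducible space the connected components are open and irreducible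
theorem isOpen_and_isIrreducible_connectedComponent
    (h : ∀ x : X, ∃ U : Set X, IsOpen U ∧ x ∈ U ∧ IsIrreducible U) (x : X) :
    IsOpen (connectedComponent x) ∧ IsIrreducible (connectedComponent x) := by
  have hZ := irreducibleComponent_mem_irreducibleComponents x
  have hopen : IsOpen (irreducibleComponent x) := by
    rw [isOpen_iff_forall_mem_open]
    intro y hy
    obtain ⟨U, hU, hyU, hUi⟩ := h y
    exact ⟨U, subset_of_mem_irreducibleComponents hZ hU hUi ⟨y, hy, hyU⟩, hU, hyU⟩
  have hclopen : IsClopen (irreducibleComponent x) :=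
    ⟨isClosed_of_mem_irreducibleComponents _ hZ, hopen⟩
  have heq : irreducibleComponent x = connectedComponent x :=
    le_antisymm
      (hZ.1.isPreirreducible.isPreconnected.subset_connectedComponent mem_irreducibleComponent)
      (hclopen.connectedComponent_subset mem_irreducibleComponent)
  rw [← heq]
  exact ⟨hopen, hZ.1⟩

end top

section sch

-- the nilradical of a polynomial ring over a ring with prime nilradical is prime
theorem nilradical_mvPolynomial_isPrime (A : Type u) [CommRing A] (σ : Type*)
    (h : (nilradical A).IsPrime) : (nilradical (MvPolynomial σ A)).IsPrime := by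
  haveI := h
  let π : MvPolynomial σ A →+* MvPolynomial σ (A ⧸ nilradical A) :=
    MvPolynomial.map (Ideal.Quotient.mk _)
  haveI hp : (RingHom.ker π).IsPrime := RingHom.ker_isPrime π
  have hker : RingHom.ker π = nilradical (MvPolynomial σ A) := by
    apply le_antisymm
    · rw [MvPolynomial.ker_map, Ideal.mk_ker, Ideal.map_le_iff_le_comap]
      intro a ha
      rw [Ideal.mem_comap, mem_nilradical]
      exact (mem_nilradical.mp ha).map _
    · exact nilradical_le_prime _
  rw [← hker]; exact hp

open Groth.Agent.Lib.Helper3.EtGUSch in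
-- a scheme smooth over an irreducible scheme with geometrically unibranch local rings is
-- locally irreducible
theorem exists_isIrreducible_nhds_of_smooth {P S : Scheme.{u}} (f : P ⟶ S) [Smooth f]
    [IrreducibleSpace S] (hS : ∀ s : S, CAlg2.IsGeomUnibranch (S.presheaf.stalk s)) (x : P) :
    ∃ U : Set P, IsOpen U ∧ x ∈ U ∧ IsIrreducible U := by
  obtain ⟨V, hV, U, hU, e, hxU, -⟩ := exists_affine_nhds f x ⊤ trivial
  let A := Γ(S, V)
  let B := Γ(P, U)
  letI algAB : Algebra A B := (f.appLE V U e).hom.toAlgebra
  haveI : Algebra.Smooth A B := by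
    have h := HasRingHomProperty.appLE @Smooth f inferInstance ⟨V, hV⟩ ⟨U, hU⟩ e
    exact h
  let q : Ideal B := (hU.primeIdealOf ⟨x, hxU⟩).asIdeal
  haveI : Algebra.FinitePresentation A B := Algebra.Smooth.finitePresentation
  haveI : Algebra.IsSmoothAt A q := inferInstance
  obtain ⟨g, hgq, n, alg, htower, hse⟩ :=
    Algebra.IsSmoothAt.exists_isStandardEtale_mvPolynomial (R := A) (p := q)
  letI := alg
  haveI := htower
  haveI : Algebra.Etale (MvPolynomial (Fin n) A) (Localization.Away g) := inferInstance
  -- irreducibility of `Spec A`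
  have hVne : (V : Set S).Nonempty := ⟨f x, e hxU⟩
  have hVirr : IsIrreducible (V : Set S) :=
    ⟨hVne, (IrreducibleSpace.isIrreducible_univ S).isPreirreducible.open_subset V.isOpen
      (Set.subset_univ _)⟩
  haveI : IrreducibleSpace V := Subtype.irreducibleSpace hVirr
  have hAirr : IrreducibleSpace (PrimeSpectrum A) := by
    rw [irreducibleSpace_def]
    have h1 := (IrreducibleSpace.isIrreducible_univ V).image hV.isoSpec.hom
      hV.isoSpec.hom.continuous.continuousOn
    have h2 : hV.isoSpec.hom '' (Set.univ : Set V) = Set.univ := by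
      rw [Set.image_univ, Set.range_eq_univ]
      exact hV.isoSpec.hom.surjective
    rw [h2] at h1
    exact h1
  have hAnil : (nilradical A).IsPrime :=
    PrimeSpectrum.irreducibleSpace_iff_isPrime_nilradical.mp hAirr
  have hCnil : (nilradical (MvPolynomial (Fin n) A)).IsPrime :=
    nilradical_mvPolynomial_isPrime A (Fin n) hAnil
  haveI hWirr : IrreducibleSpace (Spec (.of (MvPolynomial (Fin n) A))) :=
    PrimeSpectrum.irreducibleSpace_iff_isPrime_nilradical.mpr hCnil
  -- geometrically unibranch local rings of `Spec A[T]`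
  have hW : ∀ w : Spec (.of (MvPolynomial (Fin n) A)), CAlg2.IsGeomUnibranch
      ((Spec (.of (MvPolynomial (Fin n) A))).presheaf.stalk w) := by
    intro w
    let p' : PrimeSpectrum A := ⟨w.asIdeal.comap (MvPolynomial.C : A →+* MvPolynomial (Fin n) A),
      Ideal.comap_isPrime _ _⟩
    have h1 : CAlg2.IsGeomUnibranch (Localization.AtPrime p'.asIdeal) :=
      Groth.Agent.Lib.Helper6.Uni.isGeomUnibranch_localization_of_stalk V hV p' (hS _)
    have h2 : CAlg2.IsGeomUnibranch (Localization.AtPrime w.asIdeal) :=
      Groth.Agent.Lib.Helper6.Uni.isGeomUnibranch_mvPolynomial_localization' w.asIdeal p'.asIdeal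
        rfl h1
    exact Groth.Agent.Lib.Helper4.Unibranch.isGeomUnibranch_of_ringEquiv
      (StructureSheaf.stalkIso (MvPolynomial (Fin n) A) w).toRingEquiv h2
  -- the etale morphism
  let h : Spec (.of (Localization.Away g)) ⟶ Spec (.of (MvPolynomial (Fin n) A)) :=
    Spec.map (CommRingCat.ofHom (algebraMap (MvPolynomial (Fin n) A) (Localization.Away g)))
  haveI : Etale h := by
    rw [HasRingHomProperty.Spec_iff (P := @Etale)]
    exact RingHom.etale_algebraMap.mpr inferInstance
  have hyp := hyp_of_etale h (EUB.of_isGeomUnibranch hW)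
  -- the open immersion into `P`
  let j : Spec (.of (Localization.Away g)) ⟶ P :=
    Spec.map (CommRingCat.ofHom (algebraMap B (Localization.Away g))) ≫ hU.fromSpec
  haveI : IsOpenImmersion j := inferInstance
  obtain ⟨y, hy⟩ : ∃ y : Spec (.of (Localization.Away g)), j y = x := by
    have h1 : hU.primeIdealOf ⟨x, hxU⟩ ∈ (PrimeSpectrum.basicOpen g : Set (PrimeSpectrum B)) := hgq
    rw [← PrimeSpectrum.localization_away_comap_range (Localization.Away g) g] at h1
    obtain ⟨y, hy⟩ := h1
    refine ⟨y, ?_⟩
    rw [Scheme.Hom.comp_apply]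
    have h2 : Spec.map (CommRingCat.ofHom (algebraMap B (Localization.Away g))) y =
        hU.primeIdealOf ⟨x, hxU⟩ := hy
    rw [h2, hU.fromSpec_primeIdealOf]
  obtain ⟨Z, ⟨hZ, hyZ⟩, -⟩ := hyp.existsUnique_component y
  have hZo : IsOpen Z := hyp.isOpen_component hZ
  exact ⟨j '' Z, j.isOpenEmbedding.isOpenMap Z hZo, ⟨y, hyZ, hy⟩,
    hZ.1.image j j.continuous.continuousOn⟩

end sch

end Groth.Agent.Lib.Helper3.LocIrr
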