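import Mathlib
import Groth.Agent.Lib.Helper3LocusConstrB
import Groth.Agent.Lib.Helper3FibreConstr

set_option autoImplicit false
set_option linter.style.haveILetI false
universe u
open CategoryTheory CategoryTheory.Limits AlgebraicGeometry Topology TensorProduct

namespace Groth.Agent.Lib.Helper3.LocusConstr

/-- For `h : X ⟶ S`, `s : S`, `T : Set X`: the fibre over `s` lands in `T` iff `s ∉ h '' Tᶜ`. -/
theorem preimage_fst_eq_univ_iff {X S : Scheme.{u}} (h : X ⟶ S) (s : S) (T : Set X) :
    (pullback.fst h (S.fromSpecResidueField s)) ⁻¹' T = Set.univ ↔ s ∉ h '' Tᶜ := by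
  have h2 := Scheme.image_preimage_eq_of_isPullback
    (IsPullback.of_hasPullback h (S.fromSpecResidueField s)).flip Set.univ
  rw [Set.preimage_univ, Set.image_univ, Set.image_univ, Scheme.range_fromSpecResidueField] at h2
  constructor
  · rintro hT ⟨x, hx, rfl⟩
    have hx' : x ∈ Set.range (pullback.fst h (S.fromSpecResidueField (h x))) := by rw [h2]; rfl
    obtain ⟨x', hx'⟩ := hx'
    have : x' ∈ (pullback.fst h (S.fromSpecResidueField (h x))) ⁻¹' T := hT ▸ Set.mem_univ x'
    rw [Set.mem_preimage, hx'] at this
    exact hx this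
  · intro hs
    rw [Set.eq_univ_iff_forall]
    intro x'
    by_contra hx
    apply hs
    refine ⟨pullback.fst h (S.fromSpecResidueField s) x', hx, ?_⟩
    have : pullback.fst h (S.fromSpecResidueField s) x' ∈
      Set.range (pullback.fst h (S.fromSpecResidueField s)) := ⟨x', rfl⟩
    rw [h2] at this
    exact this

/-- The set of points `s` over which the locus `L` of the fibre map `f_s` is everything is
locally constructible (for `L` base-change invariant, local on the source and constructible over
Noetherian bases). -/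
theorem isLocallyConstructible_fibre_locus
    (L : ∀ {X Y : Scheme.{u}} (_ : X ⟶ Y), Set X)
    (hbc : ∀ {X Y X' Y' : Scheme.{u}} (f : X ⟶ Y) (g : Y' ⟶ Y) (g' : X' ⟶ X) (f' : X' ⟶ Y'),
      LocallyOfFinitePresentation f → IsPullback g' f' f g → L f' = g' ⁻¹' L f)
    (hoi : ∀ {X Y U : Scheme.{u}} (f : X ⟶ Y) (j : U ⟶ X), IsOpenImmersion j →
      LocallyOfFinitePresentation f → L (j ≫ f) = j ⁻¹' L f)
    (hN : ∀ {A B : CommRingCat.{u}} (φ : A ⟶ B), IsNoetherianRing A → φ.hom.FinitePresentation →
      IsConstructible (L (Spec.map φ)))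
    {X Y S : Scheme.{u}} (f : X ⟶ Y) (g : Y ⟶ S) [LocallyOfFinitePresentation f]
    [LocallyOfFinitePresentation (f ≫ g)] [QuasiCompact (f ≫ g)] :
    IsLocallyConstructible {s : S |
      L (pullback.lift (pullback.fst (f ≫ g) (S.fromSpecResidueField s) ≫ f)
        (pullback.snd (f ≫ g) (S.fromSpecResidueField s))
        ((Category.assoc _ _ _).trans pullback.condition) :
        pullback (f ≫ g) (S.fromSpecResidueField s) ⟶ pullback g (S.fromSpecResidueField s)) =
          Set.univ} := by
  have h1 : IsLocallyConstructible ((f ≫ g) '' (L f)ᶜ)ᶜ := by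
    apply Groth.Agent.Lib.Helper5.isLocallyConstructible_compl
    apply (f ≫ g).isLocallyConstructible_image
    apply Groth.Agent.Lib.Helper5.isLocallyConstructible_compl
    exact isLocallyConstructible_locus L hbc hoi hN f
  convert h1 using 1
  ext s
  rw [Set.mem_ofPred_eq, hbc _ _ _ _ inferInstance
    (Groth.Agent.Lib.Helper3.FibreConstr.isPullback_fibreMap f g s)]
  exact preimage_fst_eq_univ_iff (f ≫ g) s (L f)

end Groth.Agent.Lib.Helper3.LocusConstr
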