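import Mathlib

set_option autoImplicit false
set_option linter.style.haveILetI false
set_option linter.unusedVariables false
set_option linter.unusedSectionVars false

universe u

open IsLocalRing

namespace Groth.Agent.Lib.Helper3.Tan

section Alg

variable {K O : Type u} [Field K] [CommRing O] [IsLocalRing O]
  (σ : K →+* O) (s : O →+* K) (hs : s.comp σ = RingHom.id K)

include hs in
theorem s_sigma (a : K) : s (σ a) = a := by
  have := congrArg (fun f => f a) hs
  simpa using this

include hs in
theorem ker_s : RingHom.ker s = maximalIdeal O := by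
  have hsurj : Function.Surjective s := fun a => ⟨σ a, s_sigma σ s hs a⟩
  haveI : (RingHom.ker s).IsMaximal := RingHom.ker_isMaximal_of_surjective s hsurj
  exact IsLocalRing.eq_maximalIdeal inferInstance

/-- data of a "tangent functional": an additive map `O → K`, `K`-linear through `σ`, killing `1`
and `𝔪²`. -/
structure TanFun where
  toFun : O →+ K
  map_smul : ∀ (a : K) (t : O), toFun (σ a * t) = a * toFun t
  map_one : toFun 1 = 0
  map_sq : ∀ m m' : O, s m = 0 → s m' = 0 → toFun (m * m') = 0

variable {σ s}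

theorem TanFun.map_sigma (l : TanFun σ s) (a : K) : l.toFun (σ a) = 0 := by
  have := l.map_smul a 1
  rw [mul_one, l.map_one, mul_zero] at this
  exact this

include hs in
theorem TanFun.map_mul (l : TanFun σ s) (t t' : O) :
    l.toFun (t * t') = s t * l.toFun t' + s t' * l.toFun t := by
  have ht : s (t - σ (s t)) = 0 := by rw [map_sub, s_sigma σ s hs, sub_self]
  have ht' : s (t' - σ (s t')) = 0 := by rw [map_sub, s_sigma σ s hs, sub_self]
  have e : t * t' = σ (s t * s t') + σ (s t) * (t' - σ (s t')) + σ (s t') * (t - σ (s t))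
      + (t - σ (s t)) * (t' - σ (s t')) := by
    rw [_root_.map_mul]; ring
  rw [e, map_add, map_add, map_add, l.map_sigma, l.map_smul, l.map_smul, l.map_sq _ _ ht ht',
    map_sub, map_sub, l.map_sigma, l.map_sigma]
  ring

include hs in
/-- the ring homomorphism `O → K[ε]`, `t ↦ s t + l t ε`. -/
noncomputable def TanFun.toRingHom (l : TanFun σ s) : O →+* DualNumber K where
  toFun t := TrivSqZeroExt.inl (s t) + TrivSqZeroExt.inr (l.toFun t)
  map_one' := by
    rw [_root_.map_one, l.map_one]; simp
  map_mul' t t' := by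
    rw [l.map_mul hs]
    apply TrivSqZeroExt.ext
    · simp
    · simp [mul_comm]
  map_zero' := by simp
  map_add' t t' := by
    apply TrivSqZeroExt.ext
    · simp
    · simp

include hs in
@[simp] theorem TanFun.toRingHom_fst (l : TanFun σ s) (t : O) :
    (l.toRingHom hs t).fst = s t := by
  simp [TanFun.toRingHom]

include hs in
@[simp] theorem TanFun.toRingHom_snd (l : TanFun σ s) (t : O) :
    (l.toRingHom hs t).snd = l.toFun t := by
  simp [TanFun.toRingHom]

include hs in
theorem TanFun.toRingHom_sigma (l : TanFun σ s) (a : K) :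
    l.toRingHom hs (σ a) = algebraMap K (DualNumber K) a := by
  apply TrivSqZeroExt.ext
  · simp [s_sigma σ s hs, TrivSqZeroExt.algebraMap_eq_inl']
  · simp [l.map_sigma, TrivSqZeroExt.algebraMap_eq_inl']

include hs in
theorem TanFun.isLocalHom (l : TanFun σ s) : IsLocalHom (l.toRingHom hs) := by
  constructor
  intro t ht
  have h1 : IsUnit ((l.toRingHom hs t).fst) := by
    have := ht.map (TrivSqZeroExt.fstHom K K K)
    simpa using this
  rw [TanFun.toRingHom_fst] at h1
  by_contra hnu
  have hm : t ∈ maximalIdeal O := (mem_maximalIdeal t).mpr (mem_nonunits_iff.mpr hnu)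
  rw [← ker_s σ s hs, RingHom.mem_ker] at hm
  rw [hm] at h1
  exact not_isUnit_zero h1

include hs in
/-- enough tangent functionals: they separate `𝔪` from `𝔪²`. -/
theorem exists_tanFun (x : O) (hx : x ∈ maximalIdeal O) (hx2 : x ∉ maximalIdeal O ^ 2) :
    ∃ l : TanFun σ s, l.toFun x ≠ 0 := by
  letI : Module K O := Module.compHom O σ
  have smul_def : ∀ (a : K) (t : O), a • t = σ a * t := fun a t => rfl
  let N : Submodule K O :=
    { carrier := {t | ∃ a : K, t - σ a ∈ maximalIdeal O ^ 2}
      add_mem' := by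
        rintro t t' ⟨a, ha⟩ ⟨a', ha'⟩
        refine ⟨a + a', ?_⟩
        have : t + t' - σ (a + a') = (t - σ a) + (t' - σ a') := by rw [map_add]; ring
        rw [this]
        exact Ideal.add_mem _ ha ha'
      zero_mem' := ⟨0, by simp⟩
      smul_mem' := by
        rintro c t ⟨a, ha⟩
        refine ⟨c * a, ?_⟩
        have : c • t - σ (c * a) = σ c * (t - σ a) := by rw [smul_def, map_mul]; ring
        rw [this]
        exact Ideal.mul_mem_left _ _ ha }
  have hxN : x ∉ N := by
    rintro ⟨a, ha⟩
    have h1 : x - σ a ∈ maximalIdeal O := Ideal.pow_le_self two_ne_zero ha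
    have h2 : σ a ∈ maximalIdeal O := by
      have := Ideal.sub_mem _ hx h1
      simpa using this
    rw [← ker_s σ s hs, RingHom.mem_ker, s_sigma σ s hs] at h2
    rw [h2, map_zero, sub_zero] at ha
    exact hx2 ha
  obtain ⟨f, hfx, hfN⟩ := Submodule.exists_dual_map_eq_bot_of_notMem hxN inferInstance
  have hN0 : ∀ t ∈ N, f t = 0 := by
    intro t ht
    have : f t ∈ N.map f := Submodule.mem_map_of_mem ht
    rw [hfN] at this
    exact (Submodule.mem_bot K).mp this
  refine ⟨⟨f.toAddMonoidHom, ?_, ?_, ?_⟩, hfx⟩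
  · intro a t
    have := f.map_smul a t
    rw [smul_def] at this
    simpa using this
  · exact hN0 1 ⟨1, by simp⟩
  · intro m m' hm hm'
    refine hN0 _ ⟨0, ?_⟩
    rw [map_zero, sub_zero, pow_two]
    refine Ideal.mul_mem_mul ?_ ?_
    · rw [← ker_s σ s hs]; exact hm
    · rw [← ker_s σ s hs]; exact hm'

include hs in
/-- **Key algebraic lemma**: if a ring endomorphism `φ` of `O` satisfies
`ψ_l ∘ φ = (ε ↦ dε) ∘ ψ_l` for all tangent functionals, then `φ t ≡ d t` mod `𝔪²` on `𝔪`. -/
theorem sub_mem_sq_of_forall (φ : O →+* O) (d : K)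
    (h : ∀ (l : TanFun σ s) (t : O), s (φ t) = s t ∧ l.toFun (φ t) = d * l.toFun t)
    (t : O) (ht : t ∈ maximalIdeal O) : φ t - σ d * t ∈ maximalIdeal O ^ 2 := by
  by_contra hx2
  have hst : s t = 0 := by rw [← RingHom.mem_ker, ker_s σ s hs]; exact ht
  have h0 : ∀ l : TanFun σ s, s (φ t) = s t := by
    intro l; exact (h l t).1
  have hx : φ t - σ d * t ∈ maximalIdeal O := by
    rw [← ker_s σ s hs, RingHom.mem_ker, map_sub, map_mul, hst, mul_zero, sub_zero]
    -- need a functional to use `h`; use the zero functional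
    let l0 : TanFun σ s := ⟨0, by simp, by simp, by simp⟩
    rw [(h l0 t).1, hst]
  obtain ⟨l, hl⟩ := exists_tanFun hs _ hx hx2
  apply hl
  rw [map_sub, l.map_smul, (h l t).2, sub_self]

end Alg

end Groth.Agent.Lib.Helper3.Tan
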