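import Mathlib
import Groth.Prelude.Def_LieS
import Groth.Agent.S8357
import Groth.Agent.Lib.Helper3TanA

set_option autoImplicit false
set_option linter.style.haveILetI false
set_option linter.unusedVariables false
set_option linter.unusedSectionVars false

universe u

open CategoryTheory CategoryTheory.Limits MonoidalCategory CartesianMonoidalCategory MonObj GrpObj
  AlgebraicGeometry IsLocalRing LieS

namespace Groth.Agent.Lib.Helper3.Tan

section Sch

variable (K : Type u) [Field K] (A : Over (Spec (CommRingCat.of K))) [GrpObj A]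

/-- the unit point -/
noncomputable abbrev e0 : A.left := η[A].left (IsLocalRing.closedPoint K)

/-- the local ring at the unit point -/
noncomputable abbrev OO : CommRingCat.{u} := A.left.presheaf.stalk (e0 K A)

/-- evaluation at the unit -/
noncomputable def sHom : OO K A ⟶ CommRingCat.of K := Scheme.stalkClosedPointTo η[A].left

/-- structure map -/
noncomputable def sigHom : CommRingCat.of K ⟶ OO K A :=
  Spec.preimage (A.left.fromSpecStalk (e0 K A) ≫ A.hom)

lemma specMap_sigHom : Spec.map (sigHom K A) = A.left.fromSpecStalk (e0 K A) ≫ A.hom :=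
  Spec.map_preimage _

lemma specMap_sHom : Spec.map (sHom K A) ≫ A.left.fromSpecStalk (e0 K A) = η[A].left :=
  Scheme.Spec_stalkClosedPointTo_fromSpecStalk _

lemma unit_hom : η[A].left ≫ A.hom = 𝟙 _ := by
  have := Over.w η[A]
  exact this

lemma sig_s : sigHom K A ≫ sHom K A = 𝟙 _ := by
  apply Spec.map_injective
  rw [Spec.map_comp, specMap_sigHom, ← Category.assoc, specMap_sHom, unit_hom, Spec.map_id]
  rfl

/-- `sHom` as a plain ring hom -/
noncomputable def sR : (A.left.presheaf.stalk (e0 K A)) →+* K := (sHom K A).hom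

/-- `sigHom` as a plain ring hom -/
noncomputable def sigR : K →+* (A.left.presheaf.stalk (e0 K A)) := (sigHom K A).hom

lemma hs : (sR K A).comp (sigR K A) = RingHom.id K := by
  have := sig_s K A
  exact congrArg CommRingCat.Hom.hom this

variable {K A}
variable (l : TanFun (sigR K A) (sR K A))

/-- the ring map `O → K[ε]` of a tangent functional, in `CommRingCat`. -/
noncomputable def psiR : (A.left.presheaf.stalk (e0 K A)) →+* DualNumber K :=
  l.toRingHom (hs K A)

/-- the ring map `O → K[ε]` of a tangent functional, in `CommRingCat`. -/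
noncomputable def psi : OO K A ⟶ CommRingCat.of (DualNumber K) :=
  CommRingCat.ofHom (psiR l)

instance isLocalHom_psi : IsLocalHom (psi l).hom := l.isLocalHom (hs K A)

lemma sig_psi : sigHom K A ≫ psi l = CommRingCat.ofHom (algebraMap K (DualNumber K)) := by
  apply CommRingCat.hom_ext
  apply RingHom.ext
  intro a
  exact l.toRingHom_sigma (hs K A) a

lemma psi_fst : psi l ≫ CommRingCat.ofHom (TrivSqZeroExt.fstHom K K K).toRingHom = sHom K A := by
  apply CommRingCat.hom_ext
  apply RingHom.ext
  intro t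
  exact l.toRingHom_fst (hs K A) t

/-- the tangent vector attached to a tangent functional -/
noncomputable def vec : dpt K (𝟙 (Spec (CommRingCat.of K))) ⟶ A :=
  Over.homMk (Spec.map (psi l) ≫ A.left.fromSpecStalk (e0 K A)) (by
    change (Spec.map (psi l) ≫ A.left.fromSpecStalk (e0 K A)) ≫ A.hom = Spec.map _ ≫ 𝟙 _
    rw [Category.assoc, ← specMap_sigHom, ← Spec.map_comp, sig_psi, Category.comp_id])

lemma vec_left : (vec l).left = Spec.map (psi l) ≫ A.left.fromSpecStalk (e0 K A) := rfl

lemma zeroSec_vec : zeroSec K (𝟙 (Spec (CommRingCat.of K))) ≫ vec l = 1 := by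
  apply Over.OverMorphism.ext
  change Spec.map _ ≫ Spec.map (psi l) ≫ A.left.fromSpecStalk (e0 K A) = _
  rw [← Category.assoc, ← Spec.map_comp, psi_fst, specMap_sHom, Hom.one_def]
  simp

variable (d : ℤ)

lemma vec_pow : vec l ≫ (𝟙 A) ^ d = scale K (𝟙 (Spec (CommRingCat.of K))) (d : K) ≫ vec l := by
  have h1 : vec l ≫ (𝟙 A) ^ d = (vec l) ^ d := by rw [GrpObj.comp_zpow, Category.comp_id]
  have hmem : vec l ∈ Lie A K (𝟙 (Spec (CommRingCat.of K))) :=
    (mem_Lie_iff A K (𝟙 (Spec (CommRingCat.of K))) (vec l)).2 (zeroSec_vec l)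
  have h2 := Groth.Agent.S8357.result _ A K (𝟙 (Spec (CommRingCat.of K))) ⟨vec l, hmem⟩ d
  have h3 := congrArg Subtype.val h2
  rw [Subgroup.coe_zpow, smul_val] at h3
  rw [h1]
  exact h3

variable (A) in
lemma unit_pow : η[A] ≫ (𝟙 A) ^ d = η[A] := by
  rw [GrpObj.comp_zpow, Category.comp_id, MonObj.one_eq_one, one_zpow]

variable (K A) in
lemma pow_e0 : ((𝟙 A) ^ d : A ⟶ A).left (e0 K A) = e0 K A := by
  have := congrArg (fun m => m.left (IsLocalRing.closedPoint K)) (unit_pow A d)
  simpa using this

variable (K A) in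
/-- the endomorphism of the local ring at the unit induced by the `d`-th power map -/
noncomputable def phi : OO K A ⟶ OO K A :=
  A.left.presheaf.stalkSpecializes (specializes_of_eq (pow_e0 K A d)) ≫
    ((𝟙 A) ^ d : A ⟶ A).left.stalkMap (e0 K A)

lemma fromSpecStalk_pow :
    A.left.fromSpecStalk (e0 K A) ≫ ((𝟙 A) ^ d : A ⟶ A).left =
      Spec.map (phi K A d) ≫ A.left.fromSpecStalk (e0 K A) := by
  rw [phi, Spec.map_comp, Category.assoc, Scheme.SpecMap_stalkSpecializes_fromSpecStalk,
    Scheme.SpecMap_stalkMap_fromSpecStalk]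

theorem eq_of_specMap_fromSpecStalk_eq {X : Scheme.{u}} {R : CommRingCat.{u}} [IsLocalRing R]
    (x : X) (f g : X.presheaf.stalk x ⟶ R) [hf : IsLocalHom f.hom] [hg : IsLocalHom g.hom]
    (h : Spec.map f ≫ X.fromSpecStalk x = Spec.map g ≫ X.fromSpecStalk x) : f = g := by
  have h1 := (SpecToEquivOfLocalRing X R).symm.injective (a₁ := ⟨x, f, hf⟩) (a₂ := ⟨x, g, hg⟩) h
  obtain ⟨h2, h3⟩ := SpecToEquivOfLocalRing_eq_iff.mp h1
  simpa using h3

theorem isIso_stalkSpecializes_of_eq {X : Scheme.{u}} {x y : X} (h : x = y) :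
    IsIso (X.presheaf.stalkSpecializes (specializes_of_eq h)) := by
  subst h
  rw [TopCat.Presheaf.stalkSpecializes_refl]
  infer_instance

instance isLocalHom_phi : IsLocalHom (phi K A d).hom := by
  haveI := isIso_stalkSpecializes_of_eq (X := A.left) (pow_e0 K A d)
  haveI : IsLocalHom (A.left.presheaf.stalkSpecializes (specializes_of_eq (pow_e0 K A d))).hom :=
    isLocalHom_of_isIso _
  rw [phi, CommRingCat.hom_comp]
  exact RingHom.isLocalHom_comp _ _

/-- scaling a tangent functional -/
def TanFun.smul {K O : Type u} [Field K] [CommRing O] [IsLocalRing O] {σ : K →+* O} {s : O →+* K}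
    (l : TanFun σ s) (c : K) : TanFun σ s where
  toFun := (AddMonoidHom.mulLeft c).comp l.toFun
  map_smul a t := by
    simp only [AddMonoidHom.coe_comp, Function.comp_apply, AddMonoidHom.coe_mulLeft, l.map_smul]
    ring
  map_one := by simp [l.map_one]
  map_sq m m' hm hm' := by simp [l.map_sq m m' hm hm']

@[simp] lemma TanFun.smul_toFun {K O : Type u} [Field K] [CommRing O] [IsLocalRing O]
    {σ : K →+* O} {s : O →+* K} (l : TanFun σ s) (c : K) (t : O) :
    (l.smul c).toFun t = c * l.toFun t := rfl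

lemma psi_smul (c : K) : psi (l.smul c) = psi l ≫ CommRingCat.ofHom (scaleHom c) := by
  apply CommRingCat.hom_ext
  apply RingHom.ext
  intro t
  change (l.smul c).toRingHom (hs K A) t = scaleHom c (l.toRingHom (hs K A) t)
  apply TrivSqZeroExt.ext
  · simp [scaleHom, TrivSqZeroExt.algebraMap_eq_inl']
  · simp [scaleHom, TrivSqZeroExt.algebraMap_eq_inl', mul_comm]

/-- the key identity `ψ_l ∘ φ_d = ψ_{d l}`. -/
theorem phi_psi : phi K A d ≫ psi l = psi (l.smul (d : K)) := by
  haveI : IsLocalHom (phi K A d ≫ psi l).hom := by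
    rw [CommRingCat.hom_comp]
    exact RingHom.isLocalHom_comp _ _
  apply eq_of_specMap_fromSpecStalk_eq (e0 K A)
  have h : (Spec.map (psi l) ≫ A.left.fromSpecStalk (e0 K A)) ≫ ((𝟙 A) ^ d : A ⟶ A).left =
      Spec.map (CommRingCat.ofHom (scaleHom (d : K))) ≫
        Spec.map (psi l) ≫ A.left.fromSpecStalk (e0 K A) :=
    congrArg (fun m => m.left) (vec_pow l d)
  rw [Category.assoc, fromSpecStalk_pow, ← Category.assoc, ← Spec.map_comp] at h
  rw [h, psi_smul, Spec.map_comp, Category.assoc]

variable (K A) in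
/-- **Lemma A**: the `d`-th power map acts as multiplication by `d` on the cotangent space at
the unit point. -/
theorem phi_sub_mem_sq (t : A.left.presheaf.stalk (e0 K A))
    (ht : t ∈ maximalIdeal (A.left.presheaf.stalk (e0 K A))) :
    (phi K A d).hom t - sigR K A (d : K) * t ∈
      maximalIdeal (A.left.presheaf.stalk (e0 K A)) ^ 2 := by
  refine sub_mem_sq_of_forall (hs K A) (phi K A d).hom (d : K) ?_ t ht
  intro l t
  have h : (l.toRingHom (hs K A)) ((phi K A d).hom t) = ((l.smul (d : K)).toRingHom (hs K A)) t :=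
    congrArg (fun m => m.hom t) (phi_psi l d)
  constructor
  · have := congrArg TrivSqZeroExt.fst h
    rw [TanFun.toRingHom_fst, TanFun.toRingHom_fst] at this
    exact this
  · have := congrArg TrivSqZeroExt.snd h
    rw [TanFun.toRingHom_snd, TanFun.toRingHom_snd, TanFun.smul_toFun] at this
    exact this

end Sch

end Groth.Agent.Lib.Helper3.Tan
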