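import Mathlib
import Groth.Prelude.Def_Curv2
import Groth.Agent.Lib.Helper6SmRegSch
import Groth.Agent.Lib.Helper6RegSm2
import Groth.Agent.Lib.Helper20SmoothDescSch

set_option autoImplicit false
universe u
open CategoryTheory CategoryTheory.Limits AlgebraicGeometry

namespace Groth.Agent.Lib.Helper6.GeomRegAt

/-- Regularity at points over a smooth point, after any base field extension. -/
theorem isRegularLocalRing_stalk_of_mem_smoothLocus (k : Type u) [Field k] (X : Scheme.{u})
    (f : X ⟶ Spec (CommRingCat.of k)) [LocallyOfFinitePresentation f]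
    (K : Type u) [Field K] (g : Spec (CommRingCat.of K) ⟶ Spec (CommRingCat.of k))
    (x' : ↑(pullback f g)) (hx : pullback.fst f g x' ∈ f.smoothLocus) :
    IsRegularLocalRing ((pullback f g).presheaf.stalk x') := by
  obtain ⟨U, hxU, hU⟩ := Groth.Agent.Lib.Helper20.FlatDesc.exists_smooth_nbhd f _ hx
  let W : (pullback f g).Opens := (pullback.fst f g) ⁻¹ᵁ U
  have hx'W : x' ∈ W := hxU
  have hpb : IsPullback (pullback.fst f g ∣_ U) (W.ι ≫ pullback.snd f g) (U.ι ≫ f) g :=
    ((isPullback_morphismRestrict (pullback.fst f g) U).flip.paste_horiz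
      (IsPullback.of_hasPullback f g).flip).flip
  haveI : Smooth (W.ι ≫ pullback.snd f g) :=
    MorphismProperty.of_isPullback (P := @Smooth) hpb hU
  haveI := Groth.Agent.Lib.Helper6.SmRegSch.isRegularLocalRing_stalk_of_smooth_over_field K W
    (W.ι ≫ pullback.snd f g) ⟨x', hx'W⟩
  exact IsRegularLocalRing.of_ringEquiv
    (asIso (W.ι.stalkMap ⟨x', hx'W⟩)).commRingCatIsoToRingEquiv.symm

open Groth.Agent.Lib.Helper6.RegSm

/-- A regular rational point of a scheme locally of finite presentation over a field is a smooth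
point. -/
theorem mem_smoothLocus_of_section (K : Type u) [Field K] (Y : Scheme.{u})
    (g : Y ⟶ Spec (CommRingCat.of K)) [LocallyOfFinitePresentation g]
    (s : Spec (CommRingCat.of K) ⟶ Y) (hs : s ≫ g = 𝟙 _) (pt : Spec (CommRingCat.of K))
    [IsRegularLocalRing (Y.presheaf.stalk (s pt))] : s pt ∈ g.smoothLocus := by
  obtain ⟨W, hW, hxW, -⟩ := exists_isAffineOpen_mem_and_subset (X := Y) (x := s pt)
    (U := ⊤) trivial
  have hU := isAffineOpen_top (Spec (CommRingCat.of K))
  have hWU : W ≤ g ⁻¹ᵁ ⊤ := le_top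
  have hfp := g.finitePresentation_appLE hU hW hWU
  rw [Scheme.Hom.mem_smoothLocus, formallySmooth_stalkMap_iff ⊤ hU W hW hWU hxW]
  let e : K ≃+* Γ(Spec (CommRingCat.of K), ⊤) :=
    (Scheme.ΓSpecIso (CommRingCat.of K)).commRingCatIsoToRingEquiv.symm
  letI : Field Γ(Spec (CommRingCat.of K), ⊤) :=
    (e.symm.toMulEquiv.isField (Field.toIsField K)).toField
  algebraize [(g.appLE ⊤ W hWU).hom]
  -- the retraction
  have hsub : ∀ p : Spec (CommRingCat.of K), p = pt := fun p => Subsingleton.elim _ _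
  have hle : (⊤ : (Spec (CommRingCat.of K)).Opens) ≤ s ⁻¹ᵁ W := by
    intro p _
    change s p ∈ W
    rw [hsub p]; exact hxW
  let σ : Γ(Y, W) →+* Γ(Spec (CommRingCat.of K), ⊤) := (s.appLE W ⊤ hle).hom
  have hσ : ∀ c, σ (algebraMap Γ(Spec (CommRingCat.of K), ⊤) Γ(Y, W) c) = c := by
    intro c
    change ((g.appLE ⊤ W hWU) ≫ (s.appLE W ⊤ hle)) c = c
    rw [Scheme.Hom.appLE_comp_appLE]
    have key : ∀ (h : Spec (CommRingCat.of K) ⟶ Spec (CommRingCat.of K)) (_ : h = 𝟙 _)
        (e : (⊤ : (Spec (CommRingCat.of K)).Opens) ≤ h ⁻¹ᵁ ⊤), h.appLE ⊤ ⊤ e = 𝟙 _ := by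
      rintro h rfl e
      simp [Scheme.Hom.appLE]
    rw [key _ hs]
    rfl
  have hσsurj : Function.Surjective σ := fun c => ⟨_, hσ c⟩
  set q' : Ideal Γ(Y, W) := (hW.primeIdealOf ⟨s pt, hxW⟩).asIdeal with hq'
  have hker : q' = RingHom.ker σ := by
    have h1 := IsAffineOpen.comap_primeIdealOf_appLE (f := s) (x := pt) W hW ⊤ hU hle trivial
    have h2 : (hU.primeIdealOf ⟨pt, trivial⟩).asIdeal = ⊥ :=
      ((hU.primeIdealOf ⟨pt, trivial⟩).asIdeal.eq_bot_or_top).resolve_right
        (hU.primeIdealOf ⟨pt, trivial⟩).isPrime.ne_top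
    rw [hq', ← h1]
    change Ideal.comap σ (hU.primeIdealOf ⟨pt, trivial⟩).asIdeal = _
    rw [h2]
    rfl
  haveI hq'max : q'.IsMaximal := by
    rw [hker]; exact RingHom.ker_isMaximal_of_surjective σ hσsurj
  have hbij : Function.Bijective (algebraMap Γ(Spec (CommRingCat.of K), ⊤) q'.ResidueField) := by
    refine ⟨RingHom.injective _, ?_⟩
    intro y
    obtain ⟨z, rfl⟩ := Ideal.bijective_algebraMap_quotient_residueField q' |>.2 y
    obtain ⟨w, rfl⟩ := Ideal.Quotient.mk_surjective z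
    refine ⟨σ w, ?_⟩
    have : Ideal.Quotient.mk q' (algebraMap Γ(Spec (CommRingCat.of K), ⊤) _ (σ w)) =
        Ideal.Quotient.mk q' w := by
      rw [Ideal.Quotient.eq, hker, RingHom.mem_ker, map_sub, hσ, sub_self]
    rw [← this]
    rfl
  haveI : Algebra.FormallySmooth Γ(Spec (CommRingCat.of K), ⊤) q'.ResidueField :=
    Algebra.FormallySmooth.of_equiv
      (AlgEquiv.ofBijective (Algebra.ofId Γ(Spec (CommRingCat.of K), ⊤) _) hbij)
  have key := isSmoothAt_iff_isRegularLocalRing Γ(Spec (CommRingCat.of K), ⊤) Γ(Y, W) q'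
  change Algebra.IsSmoothAt _ q'
  rw [key]
  letI := Y.presheaf.algebra_section_stalk ⟨s pt, hxW⟩
  haveI := hW.isLocalization_stalk ⟨s pt, hxW⟩
  let e' := IsLocalization.algEquiv q'.primeCompl
    (Localization.AtPrime q') (Y.presheaf.stalk (s pt))
  exact IsRegularLocalRing.of_ringEquiv e'.toRingEquiv.symm

theorem mem_smoothLocus_of_isGeomRegularAt (k : Type u) [Field k] (X : Scheme.{u})
    [X.Over (Spec (CommRingCat.of k))]
    [LocallyOfFinitePresentation (X ↘ (Spec (CommRingCat.of k)))] (x : X)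
    (h : Curv2.IsGeomRegularAt k X x) : x ∈ (X ↘ (Spec (CommRingCat.of k))).smoothLocus := by
  set f := X ↘ (Spec (CommRingCat.of k)) with hf
  obtain ⟨V, hV, hxV, -⟩ := exists_isAffineOpen_mem_and_subset (X := X) (x := x)
    (U := ⊤) trivial
  have hU := isAffineOpen_top (Spec (CommRingCat.of k))
  have hVU : V ≤ f ⁻¹ᵁ ⊤ := le_top
  have hfp := f.finitePresentation_appLE hU hV hVU
  algebraize [(f.appLE ⊤ V hVU).hom]
  set q : Ideal Γ(X, V) := (hV.primeIdealOf ⟨x, hxV⟩).asIdeal with hq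
  let φ : k →+* q.ResidueField :=
    ((algebraMap Γ(X, V) q.ResidueField).comp (f.appLE ⊤ V hVU).hom).comp
      (Scheme.ΓSpecIso (CommRingCat.of k)).inv.hom
  letI : Algebra k q.ResidueField := φ.toAlgebra
  letI : Algebra k Γ(Spec (CommRingCat.of k), ⊤) :=
    (Scheme.ΓSpecIso (CommRingCat.of k)).inv.hom.toAlgebra
  haveI : IsScalarTower k Γ(Spec (CommRingCat.of k), ⊤) q.ResidueField :=
    IsScalarTower.of_algebraMap_eq fun c => rfl
  haveI : Algebra.FiniteType k Γ(Spec (CommRingCat.of k), ⊤) :=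
    Algebra.FiniteType.of_surjective (Algebra.ofId k _)
      (Scheme.ΓSpecIso (CommRingCat.of k)).commRingCatIsoToRingEquiv.symm.surjective
  haveI : Algebra.EssFiniteType Γ(Spec (CommRingCat.of k), ⊤) q.ResidueField :=
    Algebra.EssFiniteType.comp Γ(Spec (CommRingCat.of k), ⊤) Γ(X, V) _
  haveI : Algebra.EssFiniteType k q.ResidueField :=
    Algebra.EssFiniteType.comp k Γ(Spec (CommRingCat.of k), ⊤) _
  have hFG : (⊤ : IntermediateField k q.ResidueField).FG := IntermediateField.fg_top_iff.mpr ‹_›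
  let g : Spec (CommRingCat.of q.ResidueField) ⟶ Spec (CommRingCat.of k) :=
    Spec.map (CommRingCat.ofHom (algebraMap k q.ResidueField))
  let s₀ : Spec (CommRingCat.of q.ResidueField) ⟶ X :=
    Spec.map (CommRingCat.ofHom (algebraMap Γ(X, V) q.ResidueField)) ≫ hV.fromSpec
  have hs₀ : s₀ ≫ f = g := by
    simp only [s₀, g, Category.assoc]
    rw [← IsAffineOpen.SpecMap_appLE_fromSpec f hU hV hVU, IsAffineOpen.fromSpec_top,
      Scheme.isoSpec_Spec_inv, ← Spec.map_comp, ← Spec.map_comp]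
    rfl
  let s : Spec (CommRingCat.of q.ResidueField) ⟶ pullback f g :=
    pullback.lift s₀ (𝟙 _) (by rw [hs₀, Category.id_comp])
  let pt : Spec (CommRingCat.of q.ResidueField) := IsLocalRing.closedPoint q.ResidueField
  have hfst : pullback.fst f g (s pt) = x := by
    rw [← Scheme.Hom.comp_apply, pullback.lift_fst]
    simp only [s₀, Scheme.Hom.comp_apply]
    have : Spec.map (CommRingCat.ofHom (algebraMap Γ(X, V) q.ResidueField)) pt =
        hV.primeIdealOf ⟨x, hxV⟩ := by
      apply PrimeSpectrum.ext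
      ext a
      change algebraMap Γ(X, V) q.ResidueField a ∈ IsLocalRing.maximalIdeal q.ResidueField ↔ a ∈ q
      rw [IsLocalRing.maximalIdeal_eq_bot, Ideal.mem_bot,
        Ideal.algebraMap_residueField_eq_zero]
    rw [this, hV.fromSpec_primeIdealOf]
  haveI : IsRegularLocalRing ((pullback f g).presheaf.stalk (s pt)) :=
    h q.ResidueField hFG (s pt) hfst
  have hsm := mem_smoothLocus_of_section q.ResidueField (pullback f g) (pullback.snd f g) s
    (pullback.lift_snd _ _ _) pt
  haveI : Flat g := by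
    rw [Flat.SpecMap_iff]
    change Module.Flat k q.ResidueField
    infer_instance
  have := Groth.Agent.Lib.Helper20.FlatDesc.formallySmooth_stalkMap_of_flat_baseChange f g
    (s pt) hsm
  rw [hfst] at this
  exact this

theorem isGeomRegularAt_iff (k : Type u) [Field k] (X : Scheme.{u})
    [X.Over (Spec (CommRingCat.of k))]
    [LocallyOfFinitePresentation (X ↘ (Spec (CommRingCat.of k)))] (x : X) :
    Curv2.IsGeomRegularAt k X x ↔ x ∈ (X ↘ (Spec (CommRingCat.of k))).smoothLocus := by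
  refine ⟨mem_smoothLocus_of_isGeomRegularAt k X x, fun hx k' _ _ _ x' hx' => ?_⟩
  subst hx'
  exact isRegularLocalRing_stalk_of_mem_smoothLocus k X _ k' _ x' hx

end Groth.Agent.Lib.Helper6.GeomRegAt
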