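import Mathlib
import Groth.Agent.Lib.Helper3GrpLocusC
import Groth.Agent.Lib.Helper3GrpFibDim
import Groth.Agent.Lib.Helper3CompDim
import Groth.Agent.Lib.Helper4DimFormulaAL
import Groth.Agent.Lib.Helper7TopDim
import Groth.Agent.Lib.Helper6GeomRegAt
import Groth.Agent.Lib.Helper6SmRegSch
import Groth.Agent.Lib.Helper20SmoothDescSch

set_option autoImplicit false
set_option linter.style.haveILetI false
set_option linter.unusedVariables false
set_option linter.unusedSectionVars false
universe u
open CategoryTheory CategoryTheory.Limits MonoidalCategory CartesianMonoidalCategory MonObj GrpObj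
  AlgebraicGeometry TopologicalSpace Topology IsLocalRing

namespace Groth.Agent.Lib.Helper6.GrpSm

variable (k : Type u) [Field k] (G : Over (Spec (CommRingCat.of k))) [GrpObj G]
  [LocallyOfFiniteType G.hom]

/-- the unit section -/
noncomputable abbrev sec : Spec (CommRingCat.of k) ⟶ G.left := η[G].left

/-- the unit point -/
noncomputable abbrev ept : G.left := η[G].left (IsLocalRing.closedPoint k)

lemma sec_hom : sec k G ≫ G.hom = 𝟙 _ := by
  have := Over.w η[G]
  simpa using this

lemma isField_of : IsField (CommRingCat.of k) := Field.toIsField k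

instance : Subsingleton (Spec (CommRingCat.of k)) :=
  Groth.Agent.Lib.Helper3.CompDim.subsingleton_Spec_of_isField (isField_of k)

lemma lft_sec : LocallyOfFiniteType (sec k G) := by
  have : LocallyOfFiniteType (sec k G ≫ G.hom) := by rw [sec_hom]; infer_instance
  exact locallyOfFiniteType_of_comp (sec k G) G.hom

open Groth.Agent.Lib.Helper4.DimFormula in
lemma ptTrdeg_ept : ptTrdeg G.hom (ept k G) = 0 := by
  haveI := lft_sec k G
  have hcl : IsClosed ({IsLocalRing.closedPoint k} : Set (Spec (CommRingCat.of k))) :=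
    IsLocalRing.isClosed_singleton_closedPoint k
  have h0 := ptTrdeg_eq_zero_of_isClosed (sec k G ≫ G.hom) (IsLocalRing.closedPoint k) hcl
  rw [ptTrdeg_comp (sec k G) G.hom] at h0
  have : ptTrdeg G.hom ((sec k G).base (IsLocalRing.closedPoint k)) = 0 := by omega
  exact this

lemma localDim_ept :
    FlatMor.localDim G.left (ept k G) = ringKrullDim (G.left.presheaf.stalk (ept k G)) := by
  rw [Groth.Agent.Lib.Helper3.CompDim.localDim_eq_stalk_add_ptTrdeg (isField_of k) G.hom (ept k G),
    ptTrdeg_ept]
  simp

lemma localDim_eq (x : G.left) :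
    FlatMor.localDim G.left x = FlatMor.localDim G.left (ept k G) := by
  rw [← Groth.Agent.S5341.fibreDimAt_eq_localDim_of_subsingleton G.hom,
    ← Groth.Agent.S5341.fibreDimAt_eq_localDim_of_subsingleton G.hom]
  exact Groth.Agent.Lib.Helper3.GrpFibDim.fibreDimAt_eq_of_base_eq G _ _ (Subsingleton.elim _ _)

theorem dim_eq :
    topologicalKrullDim G.left = ringKrullDim (G.left.presheaf.stalk (ept k G)) := by
  rw [Groth.Agent.Lib.Helper7.TopDim.topologicalKrullDim_eq_iSup_localDim, ← localDim_ept]
  apply le_antisymm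
  · exact iSup_le fun x => (localDim_eq k G x).le
  · exact le_iSup (fun x => FlatMor.localDim G.left x) (ept k G)


lemma isLocallyNoetherian_left : IsLocallyNoetherian G.left :=
  LocallyOfFiniteType.isLocallyNoetherian G.hom

lemma lfp_hom : LocallyOfFinitePresentation G.hom :=
  LocallyOfFinitePresentation.iff_locallyOfFiniteType.mpr inferInstance

open Groth.Agent.Lib.Helper3.GrpLocus in
theorem smooth_of_locus_nonempty (hne : (locus @Smooth G.hom).Nonempty) : Smooth G.hom := by
  have h := of_locus_nonempty G (𝟙_ _) (toUnit G) @Smooth hne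
  exact h

open Groth.Agent.Lib.Helper3.GrpLocus in
theorem smooth_iff_regular :
    Smooth G.hom ↔ IsRegularLocalRing (G.left.presheaf.stalk (ept k G)) := by
  constructor
  · intro h
    exact Groth.Agent.Lib.Helper6.SmRegSch.isRegularLocalRing_stalk_of_smooth_over_field k G.left
      G.hom (ept k G)
  · intro h
    haveI := lfp_hom k G
    have hmem : ept k G ∈ G.hom.smoothLocus :=
      Groth.Agent.Lib.Helper6.GeomRegAt.mem_smoothLocus_of_section k G.left G.hom (sec k G)
        (sec_hom k G) (IsLocalRing.closedPoint k)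
    obtain ⟨U, hxU, hU⟩ := Groth.Agent.Lib.Helper20.FlatDesc.exists_smooth_nbhd G.hom _ hmem
    exact smooth_of_locus_nonempty k G ⟨ept k G, U, hxU, hU⟩

open Groth.Agent.Lib.Helper3.GrpLocus in
theorem smooth_iff_exists_nbhd :
    Smooth G.hom ↔ ∃ U : G.left.Opens, ept k G ∈ U ∧ Smooth (U.ι ≫ G.hom) := by
  constructor
  · intro h
    exact ⟨⊤, trivial, IsZariskiLocalAtSource.comp (P := @Smooth) h _⟩
  · rintro ⟨U, hxU, hU⟩
    exact smooth_of_locus_nonempty k G ⟨ept k G, U, hxU, hU⟩

theorem main :
    (topologicalKrullDim G.left ≤ ((Module.finrank (IsLocalRing.ResidueField (G.left.presheaf.stalk (η[G].left (IsLocalRing.closedPoint k))))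
        (IsLocalRing.CotangentSpace (G.left.presheaf.stalk (η[G].left (IsLocalRing.closedPoint k)))) : ℕ∞) : WithBot ℕ∞)) ∧
    (Smooth G.hom ↔ topologicalKrullDim G.left = ((Module.finrank (IsLocalRing.ResidueField (G.left.presheaf.stalk (η[G].left (IsLocalRing.closedPoint k))))
        (IsLocalRing.CotangentSpace (G.left.presheaf.stalk (η[G].left (IsLocalRing.closedPoint k)))) : ℕ∞) : WithBot ℕ∞)) ∧
    (Smooth G.hom ↔ ∃ U : G.left.Opens, η[G].left (IsLocalRing.closedPoint k) ∈ U ∧ Smooth (U.ι ≫ G.hom)) := by
  haveI := isLocallyNoetherian_left k G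
  set A := G.left.presheaf.stalk (η[G].left (IsLocalRing.closedPoint k)) with hA
  have hdim : topologicalKrullDim G.left = ringKrullDim A := dim_eq k G
  have hcast : ((Module.finrank (IsLocalRing.ResidueField A) (IsLocalRing.CotangentSpace A) : ℕ∞) : WithBot ℕ∞)
      = ((Module.finrank (IsLocalRing.ResidueField A) (IsLocalRing.CotangentSpace A) : ℕ) : WithBot ℕ∞) := rfl
  have hspan := IsLocalRing.spanFinrank_maximalIdeal_eq_finrank_cotangentSpace (R := A)
  refine ⟨?_, ?_, smooth_iff_exists_nbhd k G⟩
  · rw [hdim, hcast, ← hspan]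
    exact ringKrullDim_le_spanFinrank_maximalIdeal A
  · rw [smooth_iff_regular k G, hdim, hcast, IsRegularLocalRing.iff_finrank_cotangentSpace]
    exact eq_comm

end Groth.Agent.Lib.Helper6.GrpSm
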