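import Mathlib
import Groth.Agent.Lib.Helper3TanB
import Groth.Agent.Lib.Helper20EtLocalSch
import Groth.Agent.Lib.Helper5TfaeCMReg
import Groth.Agent.Lib.Helper5FiberStalk
import Groth.Agent.Lib.Helper5RLR3
import Groth.Agent.Lib.Helper6GrpSm
import Groth.Agent.Lib.Helper6SmRegSch
import Groth.Agent.Lib.Helper3GrpLocusC

set_option autoImplicit false
set_option linter.style.haveILetI false
set_option linter.unusedVariables false
set_option linter.unusedSectionVars false

universe u

open CategoryTheory CategoryTheory.Limits MonoidalCategory CartesianMonoidalCategory MonObj GrpObj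
  AlgebraicGeometry IsLocalRing LieS

namespace Groth.Agent.Lib.Helper3.Tan

section Cast

variable {X : Scheme.{u}}

lemma map_maximalIdeal_cast {x y : X} (h : y = x) (g : X.presheaf.stalk y ⟶ X.presheaf.stalk x) :
    (maximalIdeal (X.presheaf.stalk y)).map g.hom =
      (maximalIdeal (X.presheaf.stalk x)).map
        (X.presheaf.stalkSpecializes (specializes_of_eq h) ≫ g).hom := by
  subst h
  rw [TopCat.Presheaf.stalkSpecializes_refl, Category.id_comp]

lemma ringKrullDim_stalk_cast {x y : X} (h : y = x) :
    ringKrullDim (X.presheaf.stalk y) = ringKrullDim (X.presheaf.stalk x) := by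
  subst h
  rfl

end Cast

section Main

variable (K : Type u) [Field K] (A : Over (Spec (CommRingCat.of K))) [GrpObj A]
  [LocallyOfFiniteType A.hom] (d : ℤ)

/-- the `d`-th power map on underlying schemes -/
noncomputable abbrev pw : A.left ⟶ A.left := ((𝟙 A) ^ d : A ⟶ A).left

lemma pw_hom : pw K A d ≫ A.hom = A.hom := Over.w ((𝟙 A) ^ d : A ⟶ A)

instance lft_pw : LocallyOfFiniteType (pw K A d) := by
  haveI : LocallyOfFiniteType (pw K A d ≫ A.hom) := by rw [pw_hom]; infer_instance
  exact locallyOfFiniteType_of_comp (pw K A d) A.hom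

lemma isLocallyNoetherian_left : IsLocallyNoetherian A.left :=
  LocallyOfFiniteType.isLocallyNoetherian A.hom

lemma map_stalkMap_eq :
    (maximalIdeal (A.left.presheaf.stalk (pw K A d (e0 K A)))).map
        ((pw K A d).stalkMap (e0 K A)).hom =
      (maximalIdeal (A.left.presheaf.stalk (e0 K A))).map (phi K A d).hom :=
  map_maximalIdeal_cast (pow_e0 K A d) _

lemma sig_phi : sigHom K A ≫ phi K A d = sigHom K A := by
  apply Spec.map_injective
  rw [Spec.map_comp, specMap_sigHom, ← Category.assoc, ← fromSpecStalk_pow, Category.assoc]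
  congr 1
  exact pw_hom K A d

lemma phi_sigR (a : K) : (phi K A d).hom (sigR K A a) = sigR K A a := by
  have := congrArg (fun m => m.hom a) (sig_phi K A d)
  exact this

lemma sigR_mul_inv (a : K) (ha : a ≠ 0) : sigR K A a⁻¹ * sigR K A a = 1 := by
  rw [← map_mul, inv_mul_cancel₀ ha, map_one]

/-- `d ≠ 0` in `K`: the maximal ideal at the unit is generated by the image of itself. -/
theorem map_phi_eq (hd : (d : K) ≠ 0) :
    (maximalIdeal (A.left.presheaf.stalk (e0 K A))).map (phi K A d).hom =
      maximalIdeal (A.left.presheaf.stalk (e0 K A)) := by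
  haveI := isLocallyNoetherian_left K A
  apply le_antisymm
  · exact Ideal.map_le_iff_le_comap.mpr (IsLocalRing.maximalIdeal_comap (phi K A d).hom).ge
  · refine Submodule.le_of_le_smul_of_le_jacobson_bot (I := maximalIdeal _)
      (IsNoetherian.noetherian _) (IsLocalRing.maximalIdeal_le_jacobson ⊥) ?_
    intro t ht
    have h1 := phi_sub_mem_sq K A d t ht
    have e : t = sigR K A ((d : K))⁻¹ * (phi K A d).hom t -
        sigR K A ((d : K))⁻¹ * ((phi K A d).hom t - sigR K A (d : K) * t) := by
      have := sigR_mul_inv K A (d : K) hd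
      linear_combination (-t) * this
    rw [e]
    refine Submodule.sub_mem _ (Submodule.mem_sup_left ?_) (Submodule.mem_sup_right ?_)
    · exact Ideal.mul_mem_left _ _ (Ideal.mem_map_of_mem _ ht)
    · have : maximalIdeal (A.left.presheaf.stalk (e0 K A)) ^ 2 =
          maximalIdeal (A.left.presheaf.stalk (e0 K A)) •
            maximalIdeal (A.left.presheaf.stalk (e0 K A)) := by
        rw [pow_two, smul_eq_mul]
      rw [← this]
      exact Ideal.mul_mem_left _ _ h1

/-- `d = 0` in `K`: the image of the maximal ideal lies in its square. -/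
theorem map_phi_le_sq (hd : (d : K) = 0) :
    (maximalIdeal (A.left.presheaf.stalk (e0 K A))).map (phi K A d).hom ≤
      maximalIdeal (A.left.presheaf.stalk (e0 K A)) ^ 2 := by
  rw [Ideal.map_le_iff_le_comap]
  intro t ht
  have h1 := phi_sub_mem_sq K A d t ht
  rw [hd, map_zero, zero_mul, sub_zero] at h1
  exact h1

end Main

end Groth.Agent.Lib.Helper3.Tan
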