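import Mathlib
import Groth.Agent.Lib.Helper3TanC

set_option autoImplicit false
set_option linter.style.haveILetI false
set_option linter.unusedVariables false
set_option linter.unusedSectionVars false

universe u

open CategoryTheory CategoryTheory.Limits MonoidalCategory CartesianMonoidalCategory MonObj GrpObj
  AlgebraicGeometry IsLocalRing LieS

namespace Groth.Agent.Lib.Helper3.Tan

section Main

variable (K : Type u) [Field K] (A : Over (Spec (CommRingCat.of K))) [GrpObj A]
  [LocallyOfFiniteType A.hom] (d : ℤ)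

/-- `d = 0` in `K` and positive dimension: the `d`-th power map is not étale. -/
theorem not_etale_of_zero (hdim : 0 < topologicalKrullDim A.left) (hd : (d : K) = 0) :
    ¬ Etale (pw K A d) := by
  intro hE
  haveI := isLocallyNoetherian_left K A
  haveI : FormallyUnramified ((⊤ : A.left.Opens).ι ≫ pw K A d) := inferInstance
  have hun := Groth.Agent.Lib.Helper20.EtLocal.formallyUnramified_stalkMap_of_nbhd (pw K A d)
    (e0 K A) ⊤ trivial
  have h1 := ((Groth.Agent.Lib.Helper20.EtLocal.formallyUnramified_stalkMap_iff_local (pw K A d)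
    (e0 K A)).mp hun).1
  change (maximalIdeal (A.left.presheaf.stalk (pw K A d (e0 K A)))).map
    ((pw K A d).stalkMap (e0 K A)).hom = _ at h1
  rw [map_stalkMap_eq] at h1
  have h2 : maximalIdeal (A.left.presheaf.stalk (e0 K A)) ≤
      maximalIdeal (A.left.presheaf.stalk (e0 K A)) •
        (maximalIdeal (A.left.presheaf.stalk (e0 K A))) := by
    have := map_phi_le_sq K A d hd
    rw [h1, pow_two] at this
    exact this
  have h3 : maximalIdeal (A.left.presheaf.stalk (e0 K A)) = ⊥ :=
    Submodule.eq_bot_of_le_smul_of_le_jacobson_bot _ _ (IsNoetherian.noetherian _) h2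
      (IsLocalRing.maximalIdeal_le_jacobson ⊥)
  have h4 : IsField (A.left.presheaf.stalk (e0 K A)) :=
    IsLocalRing.isField_iff_maximalIdeal_eq.mpr h3
  have h5 : ringKrullDim (A.left.presheaf.stalk (e0 K A)) = 0 := ringKrullDim_eq_zero_of_isField h4
  have h6 := Groth.Agent.Lib.Helper6.GrpSm.dim_eq K A
  rw [h6] at hdim
  change 0 < ringKrullDim (A.left.presheaf.stalk (e0 K A)) at hdim
  rw [h5] at hdim
  exact lt_irrefl _ hdim

/-- the residue field map of the power map at the unit point is surjective -/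
lemma residueFieldMap_surjective :
    Function.Surjective ((pw K A d).residueFieldMap (e0 K A)).hom := by
  intro y
  obtain ⟨t, rfl⟩ := IsLocalRing.residue_surjective y
  -- t ≡ σ (s t) mod 𝔪
  have hker := ker_s (sigR K A) (sR K A) (hs K A)
  have ht : t - sigR K A (sR K A t) ∈ maximalIdeal (A.left.presheaf.stalk (e0 K A)) := by
    rw [← hker, RingHom.mem_ker, map_sub, s_sigma (sigR K A) (sR K A) (hs K A), sub_self]
  have h1 : IsLocalRing.residue (A.left.presheaf.stalk (e0 K A)) t =
      IsLocalRing.residue _ (sigR K A (sR K A t)) := by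
    rw [← sub_eq_zero, ← map_sub]
    exact (IsLocalRing.residue_eq_zero_iff _).mpr ht
  set u := (A.left.presheaf.stalkSpecializes (specializes_of_eq (pow_e0 K A d))).hom
    (sigR K A (sR K A t)) with hu
  have h2 : ((pw K A d).stalkMap (e0 K A)).hom u = sigR K A (sR K A t) :=
    phi_sigR K A d (sR K A t)
  refine ⟨IsLocalRing.residue _ u, ?_⟩
  have h3 := congrArg (fun m => (CommRingCat.Hom.hom m) u)
    (Scheme.residue_residueFieldMap (pw K A d) (e0 K A))
  change ((pw K A d).residueFieldMap (e0 K A)).hom (IsLocalRing.residue _ u) =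
    IsLocalRing.residue _ (((pw K A d).stalkMap (e0 K A)).hom u) at h3
  rw [h3, h2]
  exact h1.symm

theorem formallyUnramified_stalkMap (hd : (d : K) ≠ 0) :
    ((pw K A d).stalkMap (e0 K A)).hom.FormallyUnramified := by
  rw [Groth.Agent.Lib.Helper20.EtLocal.formallyUnramified_stalkMap_iff_local]
  refine ⟨?_, ?_⟩
  · change (maximalIdeal (A.left.presheaf.stalk (pw K A d (e0 K A)))).map
      ((pw K A d).stalkMap (e0 K A)).hom = _
    rw [map_stalkMap_eq, map_phi_eq K A d hd]
  · letI := ((pw K A d).residueFieldMap (e0 K A)).hom.toAlgebra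
    have hsurj : Function.Surjective
        (algebraMap (A.left.residueField (pw K A d (e0 K A))) (A.left.residueField (e0 K A))) :=
      residueFieldMap_surjective K A d
    refine ⟨?_, ?_⟩
    · exact Module.Finite.of_surjective (Algebra.linearMap _ _) hsurj
    · refine ⟨fun y => ?_⟩
      obtain ⟨a, rfl⟩ := hsurj y
      exact isSeparable_algebraMap a

theorem flat_stalkMap [Smooth A.hom] (hd : (d : K) ≠ 0) :
    ((pw K A d).stalkMap (e0 K A)).hom.Flat := by
  haveI := isLocallyNoetherian_left K A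
  have hreg : IsRegularLocalRing (A.left.presheaf.stalk ((pw K A d).base (e0 K A))) :=
    Groth.Agent.Lib.Helper6.SmRegSch.isRegularLocalRing_stalk_of_smooth_over_field K A.left
      A.hom _
  have hreg' : IsRegularLocalRing (A.left.presheaf.stalk (e0 K A)) :=
    Groth.Agent.Lib.Helper6.SmRegSch.isRegularLocalRing_stalk_of_smooth_over_field K A.left
      A.hom _
  have hCM : LocCoh.IsCohenMacaulayLocalRing (A.left.presheaf.stalk (e0 K A)) :=
    Groth.Agent.Lib.Helper5.isCohenMacaulayLocalRing_of_isRegularLocalRing _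
  refine ((Groth.Agent.Lib.Helper5.TfaeCMReg.tfae (pw K A d) (e0 K A) hreg hCM).out 4 1).mp ?_
  obtain ⟨e⟩ := Groth.Agent.Lib.Helper5.FiberStalk.nonempty_stalk_asFiber_equiv (pw K A d) (e0 K A)
  have hI : (maximalIdeal (A.left.presheaf.stalk ((pw K A d) (e0 K A)))).map
      ((pw K A d).stalkMap (e0 K A)).hom = maximalIdeal (A.left.presheaf.stalk (e0 K A)) := by
    rw [map_stalkMap_eq, map_phi_eq K A d hd]
  have h0 : ringKrullDim (((pw K A d).fiber ((pw K A d) (e0 K A))).presheaf.stalk
      ((pw K A d).asFiber (e0 K A))) = 0 := by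
    rw [ringKrullDim_eq_of_ringEquiv e, ringKrullDim_eq_of_ringEquiv (Ideal.quotEquivOfEq hI)]
    exact ringKrullDim_eq_zero_of_isField
      ((Ideal.Quotient.maximal_ideal_iff_isField_quotient _).mp (maximalIdeal.isMaximal _))
  change ringKrullDim (A.left.presheaf.stalk (e0 K A)) =
    ringKrullDim (A.left.presheaf.stalk ((pw K A d) (e0 K A))) +
      ringKrullDim (((pw K A d).fiber ((pw K A d) (e0 K A))).presheaf.stalk
        ((pw K A d).asFiber (e0 K A)))
  rw [h0, add_zero, ringKrullDim_stalk_cast (pow_e0 K A d)]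

instance isMonHom_zpow [IsCommMonObj A] : IsMonHom ((𝟙 A) ^ d : A ⟶ A) where
  one_hom := unit_pow A d
  mul_hom := by
    have e1 : (((𝟙 A) ^ d : A ⟶ A) ⊗ₘ ((𝟙 A) ^ d : A ⟶ A)) =
        lift (fst A A ≫ ((𝟙 A) ^ d : A ⟶ A)) (snd A A ≫ ((𝟙 A) ^ d : A ⟶ A)) := by
      ext <;> simp
    rw [e1, ← Hom.mul_def, GrpObj.comp_zpow, GrpObj.comp_zpow, GrpObj.comp_zpow, Category.comp_id,
      Category.comp_id, Category.comp_id, MonObj.mul_eq_mul, mul_zpow]

/-- `d ≠ 0` in `K`, `A` smooth commutative: the `d`-th power map is étale. -/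
theorem etale_of_ne_zero [Smooth A.hom] [IsCommMonObj A] (hd : (d : K) ≠ 0) :
    Etale (pw K A d) := by
  haveI := isLocallyNoetherian_left K A
  haveI : LocallyOfFinitePresentation (pw K A d) :=
    LocallyOfFinitePresentation.iff_locallyOfFiniteType.mpr inferInstance
  obtain ⟨U, hxU, hU⟩ := Groth.Agent.Lib.Helper20.EtLocal.exists_etale_nbhd (pw K A d) (e0 K A)
    (formallyUnramified_stalkMap K A d hd) (flat_stalkMap K A d hd)
  exact Groth.Agent.Lib.Helper3.GrpLocus.of_locus_nonempty A A ((𝟙 A) ^ d : A ⟶ A) @Etale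
    ⟨e0 K A, U, hxU, hU⟩

end Main

end Groth.Agent.Lib.Helper3.Tan
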