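import Mathlib
import Groth.Agent.Lib.Helper3TanD
import Groth.Agent.Lib.Helper3GrpLocusC

set_option autoImplicit false
set_option linter.style.haveILetI false

universe u

open CategoryTheory CategoryTheory.Limits MonoidalCategory CartesianMonoidalCategory MonObj GrpObj
  AlgebraicGeometry

namespace Groth.Agent.Lib.Helper3.MulEtale

open scoped Obj

/-- **multiplication by a unit is étale** on a smooth commutative group scheme over any base. -/
theorem etale_zpow {S : Scheme.{u}} (G : Over S) [GrpObj G] [IsCommMonObj G] [Smooth G.hom]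
    (n : ℤ) (hn : IsUnit (n : Γ(S, ⊤))) : Etale ((𝟙 G ^ n : G ⟶ G).left) := by
  rw [← Groth.Agent.Lib.Helper3.GrpLocus.locus_eq_univ_iff @Etale]
  rw [Set.eq_univ_iff_forall]
  intro x
  apply Groth.Agent.Lib.Helper3.GrpLocus.mem_locus_etale_of_fibre G G (𝟙 G ^ n : G ⟶ G) x
  let s := G.hom x
  let t := S.fromSpecResidueField s
  let Gs : Over (Spec (CommRingCat.of (S.residueField s))) := (Over.pullback t).obj G
  have e1 : (Over.pullback t).map (𝟙 G ^ n : G ⟶ G) = (𝟙 Gs ^ n : Gs ⟶ Gs) := by
    have := map_zpow (Functor.homMonoidHom (Over.pullback t) (X := G) (M := G)) (𝟙 G) n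
    simpa using this
  show Etale ((Over.pullback t).map (𝟙 G ^ n : G ⟶ G)).left
  rw [e1]
  haveI : Smooth Gs.hom := inferInstanceAs (Smooth (pullback.snd G.hom t))
  haveI : LocallyOfFiniteType Gs.hom := inferInstance
  haveI : IsCommMonObj Gs := inferInstanceAs (IsCommMonObj ((Over.pullback t).obj G))
  refine Groth.Agent.Lib.Helper3.Tan.etale_of_ne_zero (S.residueField s) Gs n ?_
  let φ : Γ(S, ⊤) →+* S.residueField s := (S.presheaf.germ ⊤ s trivial ≫ S.residue s).hom
  have h1 : IsUnit (φ (n : Γ(S, ⊤))) := hn.map φ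
  rw [map_intCast] at h1
  exact h1.ne_zero

end Groth.Agent.Lib.Helper3.MulEtale
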