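import Mathlib

/-!
# A quasi-isomorphism criterion for two-term complexes of modules (helper3)
-/

set_option autoImplicit false
set_option linter.style.haveILetI false
universe u

open CategoryTheory CategoryTheory.Limits HomologicalComplex

namespace Groth.Agent.Lib.Helper3.NLQis

section SC

variable {R : Type u} [Ring R] {S₁ S₂ : ShortComplex (ModuleCat.{u} R)} (ψ : S₁ ⟶ S₂)

/-- kernel criterion -/
theorem quasiIso_of_ker (hf₁ : S₁.f = 0) (hf₂ : S₂.f = 0)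
    (hsurj : ∀ y : S₂.X₂, S₂.g y = 0 → ∃ x : S₁.X₂, S₁.g x = 0 ∧ ψ.τ₂ x = y)
    (hinj : ∀ x : S₁.X₂, S₁.g x = 0 → ψ.τ₂ x = 0 → x = 0) :
    ShortComplex.QuasiIso ψ := by
  let h₁ := ShortComplex.LeftHomologyData.ofIsLimitKernelFork S₁ hf₁ (ModuleCat.kernelCone S₁.g)
    (ModuleCat.kernelIsLimit S₁.g)
  let h₂ := ShortComplex.LeftHomologyData.ofIsLimitKernelFork S₂ hf₂ (ModuleCat.kernelCone S₂.g)
    (ModuleCat.kernelIsLimit S₂.g)
  have hmem : ∀ x ∈ LinearMap.ker S₁.g.hom, ψ.τ₂.hom x ∈ LinearMap.ker S₂.g.hom := by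
    intro x hx
    rw [LinearMap.mem_ker] at hx ⊢
    have := congr($(ψ.comm₂₃).hom x)
    simp only [ModuleCat.hom_comp, LinearMap.comp_apply] at this
    rw [this, hx, map_zero]
  let φK : h₁.K ⟶ h₂.K := ModuleCat.ofHom (ψ.τ₂.hom.restrict hmem)
  let γ : ShortComplex.LeftHomologyMapData ψ h₁ h₂ :=
    { φK := φK
      φH := φK
      commi := rfl
      commf' := by
        rw [ShortComplex.LeftHomologyData.ofIsLimitKernelFork_f',
          ShortComplex.LeftHomologyData.ofIsLimitKernelFork_f', zero_comp, comp_zero]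
      commπ := by
        show 𝟙 _ ≫ φK = φK ≫ 𝟙 _
        rw [Category.id_comp, Category.comp_id] }
  rw [γ.quasiIso_iff]
  show IsIso φK
  rw [ConcreteCategory.isIso_iff_bijective]
  constructor
  · intro a b hab
    have h1 : ψ.τ₂.hom (a.1 - b.1) = 0 := by
      rw [map_sub, sub_eq_zero]
      exact congrArg Subtype.val hab
    have h2 : S₁.g (a.1 - b.1) = 0 := by
      have ha : S₁.g.hom a.1 = 0 := a.2
      have hb : S₁.g.hom b.1 = 0 := b.2
      show S₁.g.hom (a.1 - b.1) = 0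
      rw [map_sub, ha, hb, sub_zero]
    exact Subtype.ext (sub_eq_zero.mp (hinj _ h2 h1))
  · intro y
    obtain ⟨x, hx, hxy⟩ := hsurj y.1 y.2
    exact ⟨⟨x, hx⟩, Subtype.ext hxy⟩

/-- cokernel criterion -/
theorem quasiIso_of_coker (hg₁ : S₁.g = 0) (hg₂ : S₂.g = 0)
    (hsurj : ∀ n : S₂.X₂, ∃ (m : S₁.X₂) (n₁ : S₂.X₁), n = ψ.τ₂ m + S₂.f n₁)
    (hinj : ∀ m : S₁.X₂, (∃ n₁ : S₂.X₁, ψ.τ₂ m = S₂.f n₁) → ∃ m₁ : S₁.X₁, m = S₁.f m₁) :
    ShortComplex.QuasiIso ψ := by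
  let h₁ := ShortComplex.LeftHomologyData.ofIsColimitCokernelCofork S₁ hg₁
    (ModuleCat.cokernelCocone S₁.f) (ModuleCat.cokernelIsColimit S₁.f)
  let h₂ := ShortComplex.LeftHomologyData.ofIsColimitCokernelCofork S₂ hg₂
    (ModuleCat.cokernelCocone S₂.f) (ModuleCat.cokernelIsColimit S₂.f)
  have hmem : LinearMap.range S₁.f.hom ≤ (LinearMap.range S₂.f.hom).comap ψ.τ₂.hom := by
    rintro _ ⟨x, rfl⟩
    rw [Submodule.mem_comap]
    refine ⟨ψ.τ₁.hom x, ?_⟩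
    have := congr($(ψ.comm₁₂).hom x)
    simp only [ModuleCat.hom_comp, LinearMap.comp_apply] at this
    exact this
  let φH : h₁.H ⟶ h₂.H := ModuleCat.ofHom (Submodule.mapQ _ _ ψ.τ₂.hom hmem)
  let γ : ShortComplex.LeftHomologyMapData ψ h₁ h₂ :=
    { φK := ψ.τ₂
      φH := φH
      commi := by
        show ψ.τ₂ ≫ 𝟙 _ = 𝟙 _ ≫ ψ.τ₂
        rw [Category.id_comp, Category.comp_id]
      commf' := by
        rw [ShortComplex.LeftHomologyData.ofIsColimitCokernelCofork_f',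
          ShortComplex.LeftHomologyData.ofIsColimitCokernelCofork_f']
        exact ψ.comm₁₂.symm
      commπ := rfl }
  rw [γ.quasiIso_iff]
  show IsIso φH
  rw [ConcreteCategory.isIso_iff_bijective]
  constructor
  · show Function.Injective (Submodule.mapQ _ _ ψ.τ₂.hom hmem)
    rw [injective_iff_map_eq_zero]
    intro a ha
    obtain ⟨m, rfl⟩ := Submodule.mkQ_surjective _ a
    have h1 : Submodule.mkQ (LinearMap.range S₂.f.hom) (ψ.τ₂.hom m) = 0 := ha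
    rw [Submodule.mkQ_apply, Submodule.Quotient.mk_eq_zero] at h1
    obtain ⟨n₁, hn₁⟩ := h1
    obtain ⟨m₁, hm₁⟩ := hinj m ⟨n₁, hn₁.symm⟩
    rw [Submodule.mkQ_apply, Submodule.Quotient.mk_eq_zero]
    exact ⟨m₁, hm₁.symm⟩
  · show Function.Surjective (Submodule.mapQ _ _ ψ.τ₂.hom hmem)
    intro y
    obtain ⟨n, rfl⟩ := Submodule.mkQ_surjective _ y
    obtain ⟨m, n₁, hmn⟩ := hsurj n
    refine ⟨Submodule.mkQ _ m, ?_⟩
    show Submodule.mkQ (LinearMap.range S₂.f.hom) (ψ.τ₂.hom m) = Submodule.mkQ _ n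
    have h2 : Submodule.mkQ (LinearMap.range S₂.f.hom) (S₂.f.hom n₁) = 0 := by
      rw [Submodule.mkQ_apply, Submodule.Quotient.mk_eq_zero]
      exact ⟨n₁, rfl⟩
    have h3 : n = ψ.τ₂.hom m + S₂.f.hom n₁ := hmn
    rw [h3, map_add, h2, add_zero]

end SC

section Cx

variable {R : Type u} [Ring R] {K L : CochainComplex (ModuleCat.{u} R) ℤ} (φ : K ⟶ L)

/-- A map of complexes concentrated in degrees `-1, 0` which is bijective on the kernels and
cokernels of the differential is a quasi-isomorphism. -/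
theorem quasiIso_of_twoTerm
    (hK : ∀ i : ℤ, i ≠ -1 → i ≠ 0 → IsZero (K.X i))
    (hL : ∀ i : ℤ, i ≠ -1 → i ≠ 0 → IsZero (L.X i))
    (h1s : ∀ y : L.X (-1), L.d (-1) 0 y = 0 → ∃ x : K.X (-1), K.d (-1) 0 x = 0 ∧ φ.f (-1) x = y)
    (h1i : ∀ x : K.X (-1), K.d (-1) 0 x = 0 → φ.f (-1) x = 0 → x = 0)
    (h0s : ∀ n : L.X 0, ∃ (m : K.X 0) (n₁ : L.X (-1)), n = φ.f 0 m + L.d (-1) 0 n₁)
    (h0i : ∀ m : K.X 0, (∃ n₁ : L.X (-1), φ.f 0 m = L.d (-1) 0 n₁) →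
      ∃ m₁ : K.X (-1), m = K.d (-1) 0 m₁) :
    QuasiIso φ := by
  refine ⟨fun i => ?_⟩
  by_cases hi1 : i = -1
  · subst hi1
    rw [quasiIsoAt_iff' φ (-2) (-1) 0 (by simp) (by simp)]
    refine quasiIso_of_ker _ ?_ ?_ h1s h1i
    · exact (hK (-2) (by decide) (by decide)).eq_of_src _ _
    · exact (hL (-2) (by decide) (by decide)).eq_of_src _ _
  by_cases hi0 : i = 0
  · subst hi0
    rw [quasiIsoAt_iff' φ (-1) 0 1 (by simp) (by simp)]
    refine quasiIso_of_coker _ ?_ ?_ h0s h0i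
    · exact (hK 1 (by decide) (by decide)).eq_of_tgt _ _
    · exact (hL 1 (by decide) (by decide)).eq_of_tgt _ _
  · have eK : K.ExactAt i := ShortComplex.exact_of_isZero_X₂ _ (hK i hi1 hi0)
    have eL : L.ExactAt i := ShortComplex.exact_of_isZero_X₂ _ (hL i hi1 hi0)
    rw [quasiIsoAt_iff_exactAt φ i eK]
    exact eL

end Cx

section Dbl

theorem rel : (ComplexShape.up ℤ).Rel (-1) 0 := by simp
theorem ne10 : (-1 : ℤ) ≠ 0 := by decide

variable {R : Type u} [Ring R] {M₁ M₀ N₁ N₀ : Type u} [AddCommGroup M₁] [Module R M₁]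
  [AddCommGroup M₀] [Module R M₀] [AddCommGroup N₁] [Module R N₁] [AddCommGroup N₀] [Module R N₀]
  (d : M₁ →ₗ[R] M₀) (e : N₁ →ₗ[R] N₀) (a : M₁ →ₗ[R] N₁) (b : M₀ →ₗ[R] N₀)

theorem quasiIso_of_double
    (φ : double (ModuleCat.ofHom d) rel ⟶ double (ModuleCat.ofHom e) rel)
    (hφ0 : φ.f (-1) = (doubleXIso₀ (ModuleCat.ofHom d) rel).hom ≫ ModuleCat.ofHom a ≫
      (doubleXIso₀ (ModuleCat.ofHom e) rel).inv)
    (hφ1 : φ.f 0 = (doubleXIso₁ (ModuleCat.ofHom d) rel ne10).hom ≫ ModuleCat.ofHom b ≫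
      (doubleXIso₁ (ModuleCat.ofHom e) rel ne10).inv)
    (h1s : ∀ y, e y = 0 → ∃ x, d x = 0 ∧ a x = y)
    (h1i : ∀ x, d x = 0 → a x = 0 → x = 0)
    (h0s : ∀ n, ∃ m n₁, n = b m + e n₁)
    (h0i : ∀ m, (∃ n₁, b m = e n₁) → ∃ m₁, m = d m₁) : QuasiIso φ := by
  set i0 := doubleXIso₀ (ModuleCat.ofHom d) rel with hi0
  set i1 := doubleXIso₁ (ModuleCat.ofHom d) rel ne10 with hi1
  set j0 := doubleXIso₀ (ModuleCat.ofHom e) rel with hj0
  set j1 := doubleXIso₁ (ModuleCat.ofHom e) rel ne10 with hj1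
  have hdK : (double (ModuleCat.ofHom d) rel).d (-1) 0 = i0.hom ≫ ModuleCat.ofHom d ≫ i1.inv :=
    double_d _ _ ne10
  have hdL : (double (ModuleCat.ofHom e) rel).d (-1) 0 = j0.hom ≫ ModuleCat.ofHom e ≫ j1.inv :=
    double_d _ _ ne10
  -- elementwise forms
  have hdK' : ∀ x, (double (ModuleCat.ofHom d) rel).d (-1) 0 x = i1.inv (d (i0.hom x)) := by
    intro x; rw [hdK]; rfl
  have hdL' : ∀ x, (double (ModuleCat.ofHom e) rel).d (-1) 0 x = j1.inv (e (j0.hom x)) := by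
    intro x; rw [hdL]; rfl
  have hφ0' : ∀ x, φ.f (-1) x = j0.inv (a (i0.hom x)) := by
    intro x; rw [hφ0]; rfl
  have hφ1' : ∀ x, φ.f 0 x = j1.inv (b (i1.hom x)) := by
    intro x; rw [hφ1]; rfl
  have inj_inv : ∀ {X Y : ModuleCat.{u} R} (i : X ≅ Y) (y : Y), i.inv y = 0 → y = 0 := by
    intro X Y i y hy
    have := congrArg i.hom hy
    rwa [Iso.inv_hom_id_apply, map_zero] at this
  have inj_hom : ∀ {X Y : ModuleCat.{u} R} (i : X ≅ Y) (x : X), i.hom x = 0 → x = 0 := by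
    intro X Y i x hx
    have := congrArg i.inv hx
    rwa [Iso.hom_inv_id_apply, map_zero] at this
  refine quasiIso_of_twoTerm φ (fun i h1 h0 => isZero_double_X _ _ i h1 h0)
    (fun i h1 h0 => isZero_double_X _ _ i h1 h0) ?_ ?_ ?_ ?_
  · intro y hy
    rw [hdL'] at hy
    obtain ⟨x, hx, hxy⟩ := h1s (j0.hom y) (inj_inv j1 _ hy)
    refine ⟨i0.inv x, ?_, ?_⟩
    · rw [hdK', Iso.inv_hom_id_apply, hx, map_zero]
    · rw [hφ0', Iso.inv_hom_id_apply, hxy, Iso.hom_inv_id_apply]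
  · intro x hx hx'
    rw [hdK'] at hx
    rw [hφ0'] at hx'
    exact inj_hom i0 _ (h1i _ (inj_inv i1 _ hx) (inj_inv j0 _ hx'))
  · intro n
    obtain ⟨m, n₁, h⟩ := h0s (j1.hom n)
    refine ⟨i1.inv m, j0.inv n₁, ?_⟩
    rw [hφ1', hdL', Iso.inv_hom_id_apply, Iso.inv_hom_id_apply, ← map_add, ← h,
      Iso.hom_inv_id_apply]
  · rintro m ⟨n₁, h⟩
    rw [hφ1', hdL'] at h
    have h' : b (i1.hom m) = e (j0.hom n₁) := by
      have := congrArg j1.hom h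
      rwa [Iso.inv_hom_id_apply, Iso.inv_hom_id_apply] at this
    obtain ⟨m₁, hm₁⟩ := h0i _ ⟨_, h'⟩
    refine ⟨i0.inv m₁, ?_⟩
    rw [hdK', Iso.inv_hom_id_apply, ← hm₁, Iso.hom_inv_id_apply]

end Dbl

end Groth.Agent.Lib.Helper3.NLQis
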