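import Mathlib
import Groth.Prelude.Def_SheafNL
import Groth.Agent.Lib.Helper10NLFlat
import Groth.Agent.Lib.Helper3NLQisA

set_option autoImplicit false
set_option linter.unusedSectionVars false
set_option linter.style.haveILetI false
universe u

open CategoryTheory Algebra TensorProduct

namespace Groth.Agent.Lib.Helper3.NLQis

section Crit

variable {R S R' S' : Type u} [CommRing R] [CommRing S] [CommRing R'] [CommRing S']
  [Algebra R S] [Algebra R' S'] [Algebra R R'] [Algebra S S'] [Algebra R S']
  [IsScalarTower R R' S'] [IsScalarTower R S S']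
  {P : Extension.{u} R S} {P' : Extension.{u} R' S'} (f : P.Hom P')

theorem toKaehler_cotangentSpaceMap (x : P.CotangentSpace) :
    P'.toKaehler (Extension.CotangentSpace.map f x) =
      KaehlerDifferential.map R R' S S' (P.toKaehler x) := by
  induction x using TensorProduct.induction_on with
  | zero => simp only [map_zero]
  | add x y hx hy => simp only [map_add, hx, hy]
  | tmul s y =>
    obtain ⟨y, rfl⟩ := KaehlerDifferential.tensorProductTo_surjective _ _ y
    induction y with
    | zero => simp only [map_zero, tmul_zero]
    | add a b ha hb => simp only [map_add, tmul_add, ha, hb]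
    | tmul a b =>
      simp only [Derivation.tensorProductTo_tmul, tmul_smul, smul_tmul',
        Extension.CotangentSpace.map_tmul, Extension.toKaehler,
        KaehlerDifferential.mapBaseChange_tmul, KaehlerDifferential.map_D,
        Extension.Hom.toAlgHom_apply, f.algebraMap_toRingHom]
      generalize a • s = t
      rw [LinearMap.map_smul, KaehlerDifferential.map_D, algebraMap_smul]

theorem cotangentMap_comp_h1ι :
    (Extension.Cotangent.map f).liftBaseChange S' ∘ₗ Extension.h1Cotangentι.baseChange S' =
      Extension.h1Cotangentι ∘ₗ (Extension.H1Cotangent.map f).liftBaseChange S' := by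
  ext x
  simp

theorem d_comp_cotangentMap :
    P'.cotangentComplex ∘ₗ (Extension.Cotangent.map f).liftBaseChange S' =
      (Extension.CotangentSpace.map f).liftBaseChange S' ∘ₗ P.cotangentComplex.baseChange S' := by
  ext y
  simpa using (Extension.CotangentSpace.map_cotangentComplex f y).symm

theorem toKaehler_comp_cotangentSpaceMap :
    P'.toKaehler ∘ₗ (Extension.CotangentSpace.map f).liftBaseChange S' =
      NLCx.bcH0Map R S R' S' ∘ₗ P.toKaehler.baseChange S' := by
  ext x
  simpa [NLCx.bcH0Map] using toKaehler_cotangentSpaceMap f x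

theorem exact_baseChange_h1ι [Module.Flat S S'] :
    Function.Exact (Extension.h1Cotangentι.baseChange S' : S' ⊗[S] P.H1Cotangent →ₗ[S'] _)
      (P.cotangentComplex.baseChange S') :=
  Module.Flat.lTensor_exact S' (LinearMap.exact_subtype_ker_map _)

theorem exact_baseChange_toKaehler :
    Function.Exact (P.cotangentComplex.baseChange S') (P.toKaehler.baseChange S') :=
  lTensor_exact S' P.exact_cotangentComplex_toKaehler P.toKaehler_surjective

theorem baseChange_toKaehler_surjective :
    Function.Surjective (P.toKaehler.baseChange S') :=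
  LinearMap.lTensor_surjective S' P.toKaehler_surjective

open Groth.Agent.Lib.Helper10.NLFlat in
/-- **Criterion**: for `S'` flat over `S`, the base change map `NL(P) ⊗_S S' → NL(P')` is a
quasi-isomorphism as soon as it is bijective on `H¹` and on Kähler differentials. -/
theorem quasiIso_bcMap_of_bijective [Module.Flat S S']
    (h1 : Function.Bijective ((Extension.H1Cotangent.map f).liftBaseChange S'))
    (h0 : Function.Bijective (NLCx.bcH0Map R S R' S')) :
    QuasiIso (NLCx.bcMap (S' := S') f) := by
  refine quasiIso_of_double (P.cotangentComplex.baseChange S') P'.cotangentComplex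
    ((Extension.Cotangent.map f).liftBaseChange S')
    ((Extension.CotangentSpace.map f).liftBaseChange S') (NLCx.bcMap (S' := S') f)
    (bcMap_f0 f) (bcMap_f1 f) ?_ ?_ ?_ ?_
  · intro y hy
    obtain ⟨z, hz⟩ := h1.2 ⟨y, hy⟩
    refine ⟨Extension.h1Cotangentι.baseChange S' z, ?_, ?_⟩
    · exact (exact_baseChange_h1ι (P := P) (S' := S')).apply_apply_eq_zero z
    · have := congr($(cotangentMap_comp_h1ι f) z)
      simp only [LinearMap.comp_apply] at this
      rw [this, hz]
      rfl
  · intro x hx hx'
    obtain ⟨z, rfl⟩ := (exact_baseChange_h1ι (P := P) (S' := S') x).mp hx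
    have := congr($(cotangentMap_comp_h1ι f) z)
    simp only [LinearMap.comp_apply] at this
    rw [this] at hx'
    have hz : (Extension.H1Cotangent.map f).liftBaseChange S' z = 0 :=
      Extension.h1Cotangentι_injective (by rw [hx', map_zero])
    rw [h1.1 (hz.trans (map_zero _).symm), map_zero]
  · intro n
    obtain ⟨w, hw⟩ := h0.2 (P'.toKaehler n)
    obtain ⟨m, rfl⟩ := baseChange_toKaehler_surjective (P := P) (S' := S') w
    have hk : P'.toKaehler (n - (Extension.CotangentSpace.map f).liftBaseChange S' m) = 0 := by
      have := congr($(toKaehler_comp_cotangentSpaceMap f) m)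
      simp only [LinearMap.comp_apply] at this
      rw [map_sub, this, hw, sub_self]
    obtain ⟨n₁, hn₁⟩ := (P'.exact_cotangentComplex_toKaehler _).mp hk
    exact ⟨m, n₁, by rw [hn₁]; abel⟩
  · rintro m ⟨n₁, hm⟩
    have hk : NLCx.bcH0Map R S R' S' (P.toKaehler.baseChange S' m) = 0 := by
      have := congr($(toKaehler_comp_cotangentSpaceMap f) m)
      simp only [LinearMap.comp_apply] at this
      rw [← this, hm]
      exact P'.exact_cotangentComplex_toKaehler.apply_apply_eq_zero n₁
    have hk' : P.toKaehler.baseChange S' m = 0 := h0.1 (hk.trans (map_zero _).symm)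
    obtain ⟨m₁, hm₁⟩ := (exact_baseChange_toKaehler (P := P) (S' := S') m).mp hk'
    exact ⟨m₁, hm₁.symm⟩

end Crit

end Groth.Agent.Lib.Helper3.NLQis
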