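import Mathlib
import Groth.Agent.Lib.Helper3IndEtLift
import Groth.Agent.Lib.Helper3IndEtFlat
import Groth.Agent.Lib.Helper3IndEtDesc

/-!
# Ind-étale base change of `H¹` of the naive cotangent complex (helper3)

* `formallyEtale_of_factor`: ind-étale algebras are formally étale;
* `exists_lift_of_surjective`: ind-étale algebras lift along surjections of rings;
* `h1_liftBaseChange_bijective_of_factor`: for `T` ind-étale over `S`,
  `T ⊗_S H¹(L_{S/R}) → H¹(L_{T/R})` is bijective.
-/

set_option autoImplicit false
set_option linter.style.haveILetI false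
set_option linter.unusedSectionVars false
universe u

open CategoryTheory Algebra TensorProduct

namespace Groth.Agent.Lib.Helper3.NLQis

open Groth.Agent.Lib.Helper3.IndEt

/-- ind-étale algebras are formally étale -/
theorem formallyEtale_of_factor {A B : Type u} [CommRing A] [CommRing B] [Algebra A B]
    (H : Obj.Factor A B) : Algebra.FormallyEtale A B := by
  rw [Algebra.FormallyEtale.iff_comp_bijective]
  intro C _ _ I hI
  have hbij : ∀ j : Obj A B, Function.Bijective
      ((Ideal.Quotient.mkₐ A I).comp : (j.E →ₐ[A] C) → j.E →ₐ[A] C ⧸ I) :=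
    fun j => Algebra.FormallyEtale.comp_bijective A j.E I hI
  constructor
  · intro G₁ G₂ h12
    obtain ⟨F, -, huniq⟩ := Obj.existsUnique_desc H C (fun j => G₁.comp j.φ)
      (by intro j k g; rw [AlgHom.comp_assoc, g.2])
    rw [huniq G₁ (fun j => rfl)]
    refine (huniq G₂ (fun j => ?_)).symm
    apply (hbij j).1
    show (Ideal.Quotient.mkₐ A I).comp (G₂.comp j.φ) = (Ideal.Quotient.mkₐ A I).comp (G₁.comp j.φ)
    rw [← AlgHom.comp_assoc, ← AlgHom.comp_assoc]
    exact congrArg (fun t => AlgHom.comp t j.φ) h12.symm
  · intro g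
    have hex : ∀ j : Obj A B, ∃ f : j.E →ₐ[A] C, (Ideal.Quotient.mkₐ A I).comp f = g.comp j.φ :=
      fun j => (hbij j).2 _
    choose f hf using hex
    have hcompat : ∀ {j k : Obj A B} (g' : j ⟶ k), (f k).comp g'.1 = f j := by
      intro j k g'
      apply (hbij j).1
      show (Ideal.Quotient.mkₐ A I).comp ((f k).comp g'.1) = (Ideal.Quotient.mkₐ A I).comp (f j)
      rw [← AlgHom.comp_assoc, hf k, hf j, AlgHom.comp_assoc, g'.2]
    obtain ⟨F, hF, -⟩ := Obj.existsUnique_desc H C f hcompat
    refine ⟨F, ?_⟩
    obtain ⟨G, -, hGuniq⟩ := Obj.existsUnique_desc H (C ⧸ I) (fun j => g.comp j.φ)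
      (by intro j k g'; rw [AlgHom.comp_assoc, g'.2])
    show (Ideal.Quotient.mkₐ A I).comp F = g
    rw [hGuniq ((Ideal.Quotient.mkₐ A I).comp F) (fun j => by rw [AlgHom.comp_assoc, hF, hf]),
      hGuniq g (fun j => rfl)]

/-- transport of the factorization property along an isomorphism of base rings -/
theorem factor_of_ringEquiv {S S₀ T : Type u} [CommRing S] [CommRing S₀] [CommRing T]
    [Algebra S T] [Algebra S₀ T] (e : S₀ ≃+* S)
    (he : ∀ x, algebraMap S₀ T x = algebraMap S T (e x)) (H : Obj.Factor S T) :
    Obj.Factor S₀ T := by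
  intro P _ _ _ ψ
  letI algSP : Algebra S P := ((algebraMap S₀ P).comp e.symm.toRingHom).toAlgebra
  have hSP : ∀ s, algebraMap S P s = algebraMap S₀ P (e.symm s) := fun s => rfl
  haveI : Algebra.FinitePresentation S P := by
    have h1 : (algebraMap S₀ P).FinitePresentation :=
      RingHom.finitePresentation_algebraMap.mpr inferInstance
    have h2 : (e.symm.toRingHom).FinitePresentation :=
      RingHom.FinitePresentation.of_bijective e.symm.bijective
    exact RingHom.finitePresentation_algebraMap.mp (h1.comp h2)
  let ψ' : P →ₐ[S] T :=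
    { ψ.toRingHom with
      commutes' := fun s => by
        show ψ (algebraMap S P s) = algebraMap S T s
        rw [hSP, ψ.commutes, he, e.apply_symm_apply] }
  obtain ⟨E, _, _, _, u, v, huv⟩ := H P ψ'
  letI algS₀E : Algebra S₀ E := ((algebraMap S E).comp e.toRingHom).toAlgebra
  have hS₀E : ∀ x, algebraMap S₀ E x = algebraMap S E (e x) := fun x => rfl
  haveI : Algebra.Etale S₀ E := by
    have h1 : (algebraMap S E).Etale := RingHom.etale_algebraMap.mpr inferInstance
    have h2 : (e.toRingHom).Etale := RingHom.Etale.of_bijective e.bijective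
    exact RingHom.etale_algebraMap.mp (RingHom.Etale.stableUnderComposition _ _ h2 h1)
  let u₀ : P →ₐ[S₀] E :=
    { u.toRingHom with
      commutes' := fun x => by
        show u (algebraMap S₀ P x) = algebraMap S₀ E x
        have : algebraMap S₀ P x = algebraMap S P (e x) := by rw [hSP, e.symm_apply_apply]
        rw [this, u.commutes, hS₀E] }
  let v₀ : E →ₐ[S₀] T :=
    { v.toRingHom with
      commutes' := fun x => by
        show v (algebraMap S₀ E x) = algebraMap S₀ T x
        rw [hS₀E, v.commutes, he] }
  refine ⟨E, inferInstance, algS₀E, inferInstance, u₀, v₀, ?_⟩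
  apply AlgHom.ext
  intro p
  exact congr($huv p)

/-- lifting an ind-étale algebra along a surjection of rings -/
theorem exists_lift_of_surjective (A S T : Type u) [CommRing A] [CommRing S] [CommRing T]
    [Algebra A S] (hsurj : Function.Surjective (algebraMap A S)) [Algebra S T] [Algebra A T]
    [IsScalarTower A S T] (H : Obj.Factor S T) :
    ∃ (C : Type u) (_ : CommRing C) (_ : Algebra A C) (q : C →ₐ[A] T),
      Obj.Factor A C ∧ Function.Surjective q ∧
        RingHom.ker q.toRingHom = (RingHom.ker (algebraMap A S)).map (algebraMap A C) := by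
  let I : Ideal A := RingHom.ker (algebraMap A S)
  let e : (A ⧸ I) ≃+* S := RingHom.quotientKerEquivOfSurjective hsurj
  have he : ∀ a : A, e (Ideal.Quotient.mk I a) = algebraMap A S a := fun a => rfl
  letI algQT : Algebra (A ⧸ I) T := ((algebraMap S T).comp e.toRingHom).toAlgebra
  have hQT : ∀ x, algebraMap (A ⧸ I) T x = algebraMap S T (e x) := fun x => rfl
  have HQ : Obj.Factor (A ⧸ I) T := factor_of_ringEquiv e hQT H
  obtain ⟨C, _, _, hC, ⟨ε⟩⟩ := exists_indEtale_lift A I T (isIndEtale_of_factor HQ)
  let q₀ : C →+* T := (ε : (C ⧸ I.map (algebraMap A C)) →+* T).comp (Ideal.Quotient.mk _)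
  have hq₀ : ∀ c, q₀ c = ε (Ideal.Quotient.mk _ c) := fun c => rfl
  let q : C →ₐ[A] T :=
    { q₀ with
      commutes' := fun a => by
        show q₀ (algebraMap A C a) = algebraMap A T a
        rw [hq₀]
        have h1 : Ideal.Quotient.mk (I.map (algebraMap A C)) (algebraMap A C a) =
            algebraMap (A ⧸ I) (C ⧸ I.map (algebraMap A C)) (Ideal.Quotient.mk I a) := rfl
        rw [h1, ε.commutes, hQT, he, ← IsScalarTower.algebraMap_apply] }
  refine ⟨C, inferInstance, inferInstance, q, factor_of_isIndEtale hC, ?_, ?_⟩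
  · intro t
    obtain ⟨c, hc⟩ := Ideal.Quotient.mk_surjective (ε.symm t)
    exact ⟨c, by show q₀ c = t; rw [hq₀, hc, ε.apply_symm_apply]⟩
  · ext c
    rw [RingHom.mem_ker]
    show q₀ c = 0 ↔ _
    rw [hq₀, map_eq_zero_iff _ ε.injective, Ideal.Quotient.eq_zero_iff_mem]

/-- for a flat algebra `C` over `A` and an ideal `I`, `C ⊗ I ≃ I C` -/
theorem liftBaseChange_bijective_of_flat {A C : Type u} [CommRing A] [CommRing C] [Algebra A C]
    [Module.Flat A C] (I : Ideal A) (J : Ideal C) (hJ : J = I.map (algebraMap A C))
    (φ : I →ₗ[A] J) (hφ : ∀ x : I, (φ x : C) = algebraMap A C x) :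
    Function.Bijective (φ.liftBaseChange C) := by
  let μ : C ⊗[A] I →ₗ[A] C := (TensorProduct.rid A C).toLinearMap ∘ₗ I.subtype.lTensor C
  have hμ : Function.Injective μ :=
    (TensorProduct.rid A C).injective.comp
      (Module.Flat.lTensor_preserves_injective_linearMap _ Subtype.val_injective)
  have hcomp : ∀ x : C ⊗[A] I, ((φ.liftBaseChange C x : J) : C) = μ x := by
    intro x
    induction x with
    | zero => simp
    | add x y hx hy => rw [map_add, map_add, Submodule.coe_add, hx, hy]
    | tmul c k =>
      simp only [LinearMap.liftBaseChange_tmul, μ, LinearMap.comp_apply, LinearMap.lTensor_tmul,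
        LinearEquiv.coe_coe, TensorProduct.rid_tmul, Submodule.subtype_apply]
      rw [Submodule.coe_smul, hφ, smul_eq_mul, Algebra.smul_def, mul_comm]
  constructor
  · intro x y hxy
    apply hμ
    rw [← hcomp, ← hcomp, hxy]
  · rintro ⟨y, hy⟩
    have hy' : y ∈ I.map (algebraMap A C) := hJ ▸ hy
    suffices h : ∃ x, ((φ.liftBaseChange C x : J) : C) = y by
      obtain ⟨x, hx⟩ := h
      exact ⟨x, Subtype.ext hx⟩
    refine Submodule.span_induction (p := fun y _ => ∃ x, ((φ.liftBaseChange C x : J) : C) = y)
      ?_ ?_ ?_ ?_ hy'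
    · rintro _ ⟨k, hk, rfl⟩
      exact ⟨1 ⊗ₜ ⟨k, hk⟩, by rw [LinearMap.liftBaseChange_tmul, one_smul, hφ]⟩
    · exact ⟨0, by simp⟩
    · rintro a b _ _ ⟨x, hx⟩ ⟨x', hx'⟩
      exact ⟨x + x', by rw [map_add, Submodule.coe_add, hx, hx']⟩
    · rintro c a _ ⟨x, hx⟩
      exact ⟨c • x, by rw [map_smul, Submodule.coe_smul, hx]⟩

set_option backward.isDefEq.respectTransparency false in
/-- **Ind-étale base change of `H¹(L)`**: for `T` ind-étale over `S`,
`T ⊗_S H¹(L_{S/R}) → H¹(L_{T/R})` is bijective. -/
theorem h1_liftBaseChange_bijective_of_factor (R S T : Type u) [CommRing R] [CommRing S]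
    [CommRing T] [Algebra R S] [Algebra S T] [Algebra R T] [IsScalarTower R S T]
    (H : Obj.Factor S T) :
    Function.Bijective ((Algebra.H1Cotangent.map R R S T).liftBaseChange T) := by
  let P : Extension.{u} R S := (Generators.self R S).toExtension
  letI algPT : Algebra P.Ring T := ((algebraMap S T).comp (algebraMap P.Ring S)).toAlgebra
  haveI : IsScalarTower P.Ring S T := .of_algebraMap_eq' rfl
  haveI : IsScalarTower R P.Ring T := .of_algebraMap_eq fun r => by
    rw [IsScalarTower.algebraMap_apply P.Ring S T, ← IsScalarTower.algebraMap_apply R P.Ring S,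
      ← IsScalarTower.algebraMap_apply R S T]
  obtain ⟨C, _, _, q, HC, hq, hker⟩ :=
    exists_lift_of_surjective P.Ring S T P.algebraMap_surjective H
  letI algRC : Algebra R C := ((algebraMap P.Ring C).comp (algebraMap R P.Ring)).toAlgebra
  haveI : IsScalarTower R P.Ring C := .of_algebraMap_eq' rfl
  let qR : C →ₐ[R] T := q.restrictScalars R
  let Q : Extension.{u} R T := Extension.ofSurjective qR hq
  let f : P.Hom Q :=
    { toRingHom := algebraMap P.Ring C
      toRingHom_algebraMap := fun x => rfl
      algebraMap_toRingHom := fun x => q.commutes x }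
  haveI : Module.Flat S T := flat_of_factor' H
  haveI : Module.Flat P.Ring C := flat_of_factor' HC
  haveI : Algebra.FormallyEtale P.Ring C := formallyEtale_of_factor HC
  letI alg : Algebra P.Ring Q.Ring := (inferInstance : Algebra P.Ring C)
  have H₁ : f.toRingHom.FormallyEtale :=
    RingHom.formallyEtale_algebraMap.mpr (formallyEtale_of_factor HC)
  have halg : algebraMap P.Ring Q.Ring = f.toRingHom := rfl
  have H₂ : Function.Bijective ((f.mapKer halg).liftBaseChange Q.Ring) := by
    refine liftBaseChange_bijective_of_flat (A := P.Ring) (C := C) P.ker Q.ker ?_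
      (f.mapKer halg) (fun x => rfl)
    exact hker
  have hb1 : Function.Bijective ((Extension.H1Cotangent.map f).liftBaseChange T) :=
    (Extension.tensorH1CotangentOfFormallyEtale f halg H₁ H₂).bijective
  haveI : FormallySmooth R P.Ring := inferInstanceAs (FormallySmooth R (MvPolynomial _ _))
  haveI : FormallySmooth P.Ring Q.Ring := inferInstanceAs (FormallySmooth P.Ring C)
  haveI : IsScalarTower R P.Ring Q.Ring := inferInstanceAs (IsScalarTower R P.Ring C)
  haveI : FormallySmooth R Q.Ring := FormallySmooth.comp R P.Ring Q.Ring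
  haveI : FormallySmooth R (Generators.self R T).toExtension.Ring :=
    inferInstanceAs (FormallySmooth R (MvPolynomial _ _))
  let g : (Generators.self R T).toExtension.Hom Q :=
  { toRingHom := (MvPolynomial.aeval Q.σ).toRingHom
    toRingHom_algebraMap := (MvPolynomial.aeval Q.σ).commutes
    algebraMap_toRingHom := by
      have : (IsScalarTower.toAlgHom R Q.Ring T).comp (MvPolynomial.aeval Q.σ) =
          IsScalarTower.toAlgHom _ (Generators.self R T).toExtension.Ring _ := by
        ext i
        change _ = algebraMap (Generators.self R T).Ring _ (.X i)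
        simp
      exact DFunLike.congr_fun this }
  have hb2 : Function.Bijective (Extension.H1Cotangent.map g) := by
    have h := Extension.H1Cotangent.equivOfFormallySmooth_toLinearMap g
    have h' : ⇑(Extension.H1Cotangent.map g) =
        ⇑(Extension.H1Cotangent.equivOfFormallySmooth (Generators.self R T).toExtension Q) := by
      rw [← h]
      rfl
    rw [h']
    exact (Extension.H1Cotangent.equivOfFormallySmooth _ _).bijective
  have key : ∀ x : H1Cotangent R S, Extension.H1Cotangent.map g
      (Algebra.H1Cotangent.map R R S T x) = Extension.H1Cotangent.map f x := by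
    intro x
    rw [Algebra.H1Cotangent.map, ← (Extension.H1Cotangent.map g).coe_restrictScalars S,
      ← LinearMap.comp_apply, ← Extension.H1Cotangent.map_comp]
    exact congr($(Extension.H1Cotangent.map_eq _ f) x)
  have hcomp : ⇑((Extension.H1Cotangent.map f).liftBaseChange T) =
      ⇑(Extension.H1Cotangent.map g) ∘ ⇑((Algebra.H1Cotangent.map R R S T).liftBaseChange T) := by
    funext z
    induction z with
    | zero => simp
    | add x y hx hy => simp only [map_add, Function.comp_apply] at hx hy ⊢; rw [hx, hy]
    | tmul t x =>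
      simp only [Function.comp_apply, LinearMap.liftBaseChange_tmul, map_smul, key]
  rw [hcomp] at hb1
  exact (Function.Bijective.of_comp_iff' hb2 _).mp hb1

end Groth.Agent.Lib.Helper3.NLQis
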