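import Mathlib
import Groth.Prelude.Def_SheafNL
import Groth.Agent.Lib.Helper18NL5
import Groth.Agent.Lib.Helper3NLQisB
import Groth.Agent.Lib.Helper3NLQisC

/-!
# The naive cotangent complex and ind-étale base change (helper3)

`quasiIso_bcMapSelf_of_factor`: for a commutative square `A → B`, `A' → B'` with `A'` ind-étale over
`A` and `B'` ind-étale over `B`, the canonical map `NL_{B/A} ⊗_B B' → NL_{B'/A'}` is a
quasi-isomorphism.
-/

set_option autoImplicit false
set_option linter.style.haveILetI false
set_option linter.unusedSectionVars false
universe u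

open CategoryTheory Algebra TensorProduct

namespace Groth.Agent.Lib.Helper3.NLQis

open Groth.Agent.Lib.Helper3.IndEt

section H0

variable (A B A' B' : Type u) [CommRing A] [CommRing B] [CommRing A'] [CommRing B']
  [Algebra A B] [Algebra A' B'] [Algebra A A'] [Algebra B B'] [Algebra A B']
  [IsScalarTower A A' B'] [IsScalarTower A B B']

theorem kaehler_map_comp (x : Ω[B⁄A]) :
    KaehlerDifferential.map A A' B' B' (KaehlerDifferential.map A A B B' x) =
      KaehlerDifferential.map A A' B B' x := by
  obtain ⟨y, rfl⟩ := KaehlerDifferential.tensorProductTo_surjective _ _ x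
  induction y with
  | zero => simp only [map_zero]
  | add a b ha hb => simp only [map_add, ha, hb]
  | tmul a b =>
    simp only [Derivation.tensorProductTo_tmul, LinearMap.map_smul, KaehlerDifferential.map_D]
    rw [← algebraMap_smul B' a, LinearMap.map_smul, KaehlerDifferential.map_D,
      Algebra.algebraMap_self, RingHom.id_apply, algebraMap_smul]

theorem bcH0Map_eq :
    NLCx.bcH0Map A B A' B' =
      KaehlerDifferential.map A A' B' B' ∘ₗ KaehlerDifferential.mapBaseChange A B B' := by
  ext x
  simp [NLCx.bcH0Map, kaehler_map_comp]

theorem kaehler_map_bijective_of_formallyUnramified [Algebra.FormallyUnramified A A'] :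
    Function.Bijective (KaehlerDifferential.map A A' B' B') := by
  refine ⟨?_, KaehlerDifferential.map_surjective A A' B'⟩
  rw [injective_iff_map_eq_zero]
  intro x hx
  obtain ⟨y, rfl⟩ := (KaehlerDifferential.exact_mapBaseChange_map A A' B' x).mp hx
  rw [Subsingleton.elim y 0, map_zero]

theorem bcH0Map_bijective [Algebra.FormallyUnramified A A'] [Algebra.FormallyEtale B B'] :
    Function.Bijective (NLCx.bcH0Map A B A' B') := by
  rw [bcH0Map_eq]
  exact (kaehler_map_bijective_of_formallyUnramified A A' B').comp
    (KaehlerDifferential.tensorKaehlerEquivOfFormallyEtale A B B').bijective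

end H0


section Main

variable (A B A' B' : Type u) [CommRing A] [CommRing B] [CommRing A'] [CommRing B']
  [Algebra A B] [Algebra A' B'] [Algebra A A'] [Algebra B B'] [Algebra A B']
  [IsScalarTower A A' B'] [IsScalarTower A B B']

theorem h1_bijective_of_factor (HA : Obj.Factor A A') (HB : Obj.Factor B B') :
    Function.Bijective ((Algebra.H1Cotangent.map A A' B B').liftBaseChange B') := by
  haveI := formallyEtale_of_factor HA
  have hb1 := h1_liftBaseChange_bijective_of_factor A B B' HB
  have hb2 := Groth.Agent.Helper18NL.h1map_bijective_of_formallyEtale A A' B'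
  have hcomp : ⇑((Algebra.H1Cotangent.map A A' B B').liftBaseChange B') =
      ⇑(Algebra.H1Cotangent.map A A' B' B') ∘
        ⇑((Algebra.H1Cotangent.map A A B B').liftBaseChange B') := by
    funext z
    induction z with
    | zero => simp
    | add x y hx hy => simp only [map_add, Function.comp_apply] at hx hy ⊢; rw [hx, hy]
    | tmul t x =>
      simp only [Function.comp_apply, LinearMap.liftBaseChange_tmul, map_smul]
      rw [Groth.Agent.Helper18NL.h1map_comp_apply A A A' B B' B' x]
  rw [hcomp]
  exact hb2.comp hb1

/-- **Main theorem**: the base change map of naive cotangent complexes is a quasi-isomorphism for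
ind-étale vertical maps. -/
theorem quasiIso_bcMapSelf_of_factor (HA : Obj.Factor A A') (HB : Obj.Factor B B') :
    QuasiIso (NLCx.bcMapSelf A B A' B') := by
  haveI : Module.Flat B B' := flat_of_factor' HB
  haveI : Algebra.FormallyEtale A A' := formallyEtale_of_factor HA
  haveI : Algebra.FormallyEtale B B' := formallyEtale_of_factor HB
  exact quasiIso_bcMap_of_bijective _ (h1_bijective_of_factor A B A' B' HA HB)
    (bcH0Map_bijective A B A' B')

end Main

end Groth.Agent.Lib.Helper3.NLQis
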