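import Mathlib
import Groth.Prelude.Def_W4bk4git07Quot
import Groth.Agent.Lib.Helper10OrbitBC
import Groth.Agent.Lib.Helper12Cart
import Groth.Agent.Lib.Helper3OrbitA

set_option autoImplicit false
set_option linter.style.haveILetI false
universe u

namespace Groth.Agent.Lib.Helper3.NRClosed

open CategoryTheory AlgebraicGeometry Limits Topology
open MonoidalCategory CartesianMonoidalCategory MonObj GrpObj
open Groth.Agent.Lib.Helper3.Orbit

variable {S : Scheme.{u}} {H N Q X Y : Over S} [GrpObj H] [GrpObj N] [GrpObj Q]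

/-- `psi` in terms of `smul`. -/
lemma psi_eq {G X T : Over S} [GrpObj G] (a : AlgGrp.Action G X) (x : T ⟶ X) :
    GIT.psi a x = lift (smul a (fst G T) (snd G T ≫ x)) (snd G T) := by
  unfold GIT.psi smul
  congr 1

/-- equivariance of the orbit maps. -/
lemma psi_comp_whiskerRight (a : AlgGrp.Action H X) (π : X ⟶ Y) (q : H ⟶ Q)
    (aQ : AlgGrp.Action Q Y) (hequiv : (q ⊗ₘ π) ≫ aQ.act = a.act ≫ π) {T : Over S} (x : T ⟶ X) :
    GIT.psi a x ≫ (π ▷ T) = (q ▷ T) ≫ GIT.psi aQ (x ≫ π) := by
  unfold GIT.psi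
  apply CartesianMonoidalCategory.hom_ext
  · simp only [Category.assoc, whiskerRight_fst, lift_fst_assoc, lift_fst]
    rw [← hequiv]
    simp only [← Category.assoc]
    congr 1
    apply CartesianMonoidalCategory.hom_ext <;> simp
  · simp

/-- the action of `N` on `X ⊗ T`. -/
noncomputable def actT (aN : AlgGrp.Action N X) (T : Over S) : N ⊗ (X ⊗ T) ⟶ X ⊗ T :=
  lift ((N ◁ fst X T) ≫ aN.act) (snd N (X ⊗ T) ≫ snd X T)

lemma actT_comp (aN : AlgGrp.Action N X) (π : X ⟶ Y) (hinv : GIT.IsInvariant aN π) (T : Over S) :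
    actT aN T ≫ (π ▷ T) = snd N (X ⊗ T) ≫ (π ▷ T) := by
  unfold actT
  apply CartesianMonoidalCategory.hom_ext
  · simp only [Category.assoc, whiskerRight_fst, lift_fst_assoc]
    rw [hinv]
    simp
  · simp

/-- the base change of `(σ, p₂)` to `T` is surjective. -/
lemma surjective_lift_actT (aN : AlgGrp.Action N X) (π : X ⟶ Y) (hinv : GIT.IsInvariant aN π)
    (horb : Function.Surjective (GIT.PsiY aN π hinv).base) (T : Over S) :
    Function.Surjective (pullback.lift (actT aN T).left (snd N (X ⊗ T)).left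
      (by rw [← Over.comp_left, ← Over.comp_left, actT_comp aN π hinv T] :
        (actT aN T).left ≫ (π ▷ T).left = (snd N (X ⊗ T)).left ≫ (π ▷ T).left)).base := by
  have H0 := (Groth.Agent.Lib.Helper12.isPullback_whiskerRight T π).map (Over.forget S)
  have HW0 := (Groth.Agent.Lib.Helper12.isPullback_whiskerLeft N (fst X T)).map (Over.forget S)
  simp only [Over.forget_obj, Over.forget_map] at H0 HW0
  have h1 : (actT aN T).left ≫ (fst X T).left = (N ◁ fst X T).left ≫ aN.act.left := by
    rw [← Over.comp_left, ← Over.comp_left]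
    congr 1
    unfold actT
    simp
  have key := Groth.Agent.Lib.Helper10.OrbitBC.isPullback_lift_lift (hσs := hinv.left) H0 HW0 h1
    (by rw [← Over.comp_left, ← Over.comp_left, actT_comp aN π hinv T] :
        (actT aN T).left ≫ (π ▷ T).left = (snd N (X ⊗ T)).left ≫ (π ▷ T).left)
  have hs : Surjective (GIT.PsiY aN π hinv) := ⟨horb⟩
  have : Surjective (pullback.lift (actT aN T).left (snd N (X ⊗ T)).left
      (by rw [← Over.comp_left, ← Over.comp_left, actT_comp aN π hinv T] :
        (actT aN T).left ≫ (π ▷ T).left = (snd N (X ⊗ T)).left ≫ (π ▷ T).left)) :=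
    MorphismProperty.of_isPullback (P := @Surjective) key.flip hs
  exact this.surj

/-- left multiplication of `N` on `H ⊗ T`. -/
noncomputable def mulT (i : N ⟶ H) (T : Over S) : N ⊗ (H ⊗ T) ⟶ H ⊗ T :=
  lift ((fst N (H ⊗ T) ≫ i) * (snd N (H ⊗ T) ≫ fst H T)) (snd N (H ⊗ T) ≫ snd H T)

lemma whiskerLeft_psi_comp_actT (a : AlgGrp.Action H X) (aN : AlgGrp.Action N X) (i : N ⟶ H)
    (haN : aN.act = (i ▷ X) ≫ a.act) {T : Over S} (x : T ⟶ X) :
    (N ◁ GIT.psi a x) ≫ actT aN T = mulT i T ≫ GIT.psi a x := by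
  rw [psi_eq]
  unfold actT mulT
  apply CartesianMonoidalCategory.hom_ext
  · simp only [Category.assoc, lift_fst]
    rw [comp_smul, lift_fst, lift_snd_assoc, Orbit.mul_smul]
    rw [haN]
    have e1 : (N ◁ lift (smul a (fst H T) (snd H T ≫ x)) (snd H T)) ≫ (N ◁ fst X T) ≫ (i ▷ X) ≫ a.act
        = smul a (fst N (H ⊗ T) ≫ i) (snd N (H ⊗ T) ≫ smul a (fst H T) (snd H T ≫ x)) := by
      unfold smul
      simp only [← Category.assoc]
      congr 1
      apply CartesianMonoidalCategory.hom_ext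
      · simp
      · simp only [Category.assoc, whiskerLeft_snd_assoc, whiskerLeft_snd, lift_snd, lift_fst_assoc,
          whiskerRight_snd]
        rw [← Category.assoc (snd N (H ⊗ T)), comp_lift]
        simp
    rw [e1, comp_smul]
    simp
  · simp

lemma exists_preimage_of_isPullback {P A B C : Scheme.{u}} {p₁ : P ⟶ A} {p₂ : P ⟶ B} {f : A ⟶ C}
    {g : B ⟶ C} (h : IsPullback p₁ p₂ f g) (x : A) (y : B) (hxy : f.base x = g.base y) :
    ∃ z : P, p₁.base z = x ∧ p₂.base z = y := by
  obtain ⟨z, hz1, hz2⟩ := Scheme.Pullback.exists_preimage_pullback (f := f) (g := g) x y hxy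
  refine ⟨h.isoPullback.inv.base z, ?_, ?_⟩
  · rw [← Scheme.Hom.comp_apply, h.isoPullback_inv_fst]; exact hz1
  · rw [← Scheme.Hom.comp_apply, h.isoPullback_inv_snd]; exact hz2

/-- the `H`-orbit of `x` is the preimage of the `Q`-orbit of `π(x)`. -/
theorem range_psi_eq_preimage (a : AlgGrp.Action H X) (aN : AlgGrp.Action N X) (i : N ⟶ H)
    (haN : aN.act = (i ▷ X) ≫ a.act) (π : X ⟶ Y) (hinv : GIT.IsInvariant aN π)
    (horb : Function.Surjective (GIT.PsiY aN π hinv).base)
    (q : H ⟶ Q) [Surjective q.left]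
    (aQ : AlgGrp.Action Q Y) (hequiv : (q ⊗ₘ π) ≫ aQ.act = a.act ≫ π) {T : Over S} (x : T ⟶ X) :
    Set.range (GIT.psi a x).left.base =
      (π ▷ T).left.base ⁻¹' Set.range (GIT.psi aQ (x ≫ π)).left.base := by
  have hE := congrArg CommaMorphism.left (psi_comp_whiskerRight a π q aQ hequiv x)
  simp only [Over.comp_left] at hE
  ext z
  constructor
  · rintro ⟨h, rfl⟩
    refine ⟨(q ▷ T).left.base h, ?_⟩
    rw [← Scheme.Hom.comp_apply, ← hE, Scheme.Hom.comp_apply]
  · rintro ⟨w, hw⟩
    have hqs : Surjective (q ▷ T).left := by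
      have H0 := (Groth.Agent.Lib.Helper12.isPullback_whiskerRight T q).map (Over.forget S)
      simp only [Over.forget_obj, Over.forget_map] at H0
      exact MorphismProperty.of_isPullback (P := @Surjective) H0.flip inferInstance
    obtain ⟨h, rfl⟩ := hqs.surj w
    set z' := (GIT.psi a x).left.base h with hz'
    have hzz' : (π ▷ T).left.base z = (π ▷ T).left.base z' := by
      rw [← hw, hz', ← Scheme.Hom.comp_apply, ← Scheme.Hom.comp_apply, hE]
    obtain ⟨p, hp1, hp2⟩ := Scheme.Pullback.exists_preimage_pullback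
      (f := (π ▷ T).left) (g := (π ▷ T).left) z z' hzz'
    obtain ⟨d, rfl⟩ := surjective_lift_actT aN π hinv horb T p
    have hd1 : (actT aN T).left.base d = z := by
      rw [← hp1, ← Scheme.Hom.comp_apply, pullback.lift_fst]
    have hd2 : (snd N (X ⊗ T)).left.base d = z' := by
      rw [← hp2, ← Scheme.Hom.comp_apply, pullback.lift_snd]
    have HP := (Groth.Agent.Lib.Helper12.isPullback_whiskerLeft N (GIT.psi a x)).map (Over.forget S)
    simp only [Over.forget_obj, Over.forget_map] at HP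
    obtain ⟨e, he1, he2⟩ := exists_preimage_of_isPullback HP d h hd2
    refine ⟨(mulT i T).left.base e, ?_⟩
    rw [← Scheme.Hom.comp_apply, ← Over.comp_left, ← whiskerLeft_psi_comp_actT a aN i haN x,
      Over.comp_left, Scheme.Hom.comp_apply, he1, hd1]

/-- geometric points lift along surjective morphisms locally of finite type. -/
theorem exists_lift_geomPoint {Ω : Type u} [Field Ω] [IsAlgClosed Ω] {X Y T : Over S} (π : X ⟶ Y)
    [LocallyOfFiniteType π.left] (hs : Function.Surjective π.left.base)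
    (e : T.left ≅ Spec (CommRingCat.of Ω)) (y : T ⟶ Y) : ∃ x : T ⟶ X, x ≫ π = y := by
  let f : pullback π.left y.left ⟶ T.left := pullback.snd π.left y.left
  have hsurj : Surjective π.left := ⟨hs⟩
  have hfs : Surjective f := inferInstance
  have t₀ : ↥T.left := e.inv (IsLocalRing.closedPoint Ω)
  obtain ⟨u₀, -⟩ := hfs.surj t₀
  have hlft' : LocallyOfFiniteType (f ≫ e.hom) := inferInstance
  have hJ : JacobsonSpace ↥(pullback π.left y.left) := LocallyOfFiniteType.jacobsonSpace (f ≫ e.hom)
  obtain ⟨x', -, hx'⟩ := nonempty_inter_closedPoints (X := ↥(pullback π.left y.left)) (Z := Set.univ)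
    ⟨u₀, trivial⟩ isOpen_univ.isLocallyClosed
  let τ : Spec (CommRingCat.of Ω) ⟶ pullback π.left y.left := pointOfClosedPoint (f ≫ e.hom) x' hx'
  have hτ : τ ≫ f ≫ e.hom = 𝟙 _ := pointOfClosedPoint_comp (f ≫ e.hom) x' hx'
  have hsec : (e.hom ≫ τ) ≫ f = 𝟙 T.left := by
    rw [← cancel_mono e.hom, Category.assoc, Category.assoc, hτ]
    simp
  have hx : (e.hom ≫ τ ≫ pullback.fst π.left y.left) ≫ π.left = y.left := by
    rw [Category.assoc, Category.assoc, pullback.condition, ← Category.assoc, ← Category.assoc]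
    change ((e.hom ≫ τ) ≫ f) ≫ y.left = y.left
    rw [hsec, Category.id_comp]
  refine ⟨Over.homMk (e.hom ≫ τ ≫ pullback.fst π.left y.left) ?_, ?_⟩
  · rw [← Over.w π, ← Category.assoc, hx, Over.w y]
  · apply Over.OverMorphism.ext
    exact hx

/-- closedness of orbits passes up and down a geometric quotient by a normal subgroup. -/
theorem isClosedAction_iff (a : AlgGrp.Action H X) (aN : AlgGrp.Action N X) (i : N ⟶ H)
    (haN : aN.act = (i ▷ X) ≫ a.act) (π : X ⟶ Y) [LocallyOfFiniteType π.left]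
    (hπ : GIT.IsGeomQuot aN π)
    (q : H ⟶ Q) [Surjective q.left]
    (aQ : AlgGrp.Action Q Y) (hequiv : (q ⊗ₘ π) ≫ aQ.act = a.act ≫ π) :
    GIT.IsClosedAction aQ ↔ GIT.IsClosedAction a := by
  have hquot : ∀ T : Over S, IsQuotientMap (π ▷ T).left.base := by
    intro T
    have H0 := (Groth.Agent.Lib.Helper12.isPullback_whiskerRight T π).map (Over.forget S)
    simp only [Over.forget_obj, Over.forget_map] at H0
    exact hπ.subm _ _ _ H0
  constructor
  · intro hQ Ω _ _ T e x
    rw [range_psi_eq_preimage a aN i haN π hπ.inv hπ.orbit q aQ hequiv x]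
    exact (hQ Ω T e (x ≫ π)).preimage (π ▷ T).left.continuous
  · intro hH Ω _ _ T e y
    obtain ⟨x, rfl⟩ := exists_lift_geomPoint π hπ.surj e y
    rw [← (hquot T).isClosed_preimage, ← range_psi_eq_preimage a aN i haN π hπ.inv hπ.orbit q aQ hequiv x]
    exact hH Ω T e x

end Groth.Agent.Lib.Helper3.NRClosed
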