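import Mathlib
import Groth.Agent.S5338
/-!
# Finite type modulo a finitely generated nilpotent ideal of the algebra (helper3)

* `finiteType_of_quotient_fg_nilpotent`: `I ⊂ B` f.g. nilpotent, `B/I` f.t. over `A` ⇒ `B` f.t. over `A`.
* `finiteType_of_comp_surjective`: ring hom form.
-/
set_option autoImplicit false
set_option linter.style.haveILetI false
universe u

namespace Groth.Agent.Lib.Helper3.NilFT

theorem finiteType_of_quotient_fg_nilpotent {A B : Type*} [CommRing A] [CommRing B] [Algebra A B]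
    (I : Ideal B) (hfg : I.FG) (hnil : IsNilpotent I) (h : Algebra.FiniteType A (B ⧸ I)) :
    Algebra.FiniteType A B := by
  classical
  obtain ⟨s, hs⟩ := h.out
  obtain ⟨u, hu⟩ := hfg
  let lift : B ⧸ I → B := Function.surjInv Ideal.Quotient.mk_surjective
  have hlift : ∀ y, Ideal.Quotient.mk I (lift y) = y := Function.surjInv_eq _
  let t : Finset B := s.image lift ∪ u
  let C' := Algebra.adjoin A (t : Set B)
  have hmem : ∀ y ∈ Algebra.adjoin A (s : Set (B ⧸ I)), ∃ c' ∈ C', Ideal.Quotient.mk I c' = y := by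
    intro y hy
    induction hy using Algebra.adjoin_induction with
    | mem y hy =>
      refine ⟨lift y, Algebra.subset_adjoin ?_, hlift y⟩
      exact Finset.mem_coe.mpr (Finset.mem_union_left _ (Finset.mem_image_of_mem _ hy))
    | algebraMap r =>
      exact ⟨algebraMap A B r, Subalgebra.algebraMap_mem _ r, rfl⟩
    | add x y _ _ hx hy =>
      obtain ⟨x', hx', rfl⟩ := hx
      obtain ⟨y', hy', rfl⟩ := hy
      exact ⟨x' + y', C'.add_mem hx' hy', map_add _ _ _⟩
    | mul x y _ _ hx hy =>
      obtain ⟨x', hx', rfl⟩ := hx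
      obtain ⟨y', hy', rfl⟩ := hy
      exact ⟨x' * y', C'.mul_mem hx' hy', map_mul _ _ _⟩
  have huC : ∀ x ∈ u, x ∈ C' := fun x hx =>
    Algebra.subset_adjoin (Finset.mem_coe.mpr (Finset.mem_union_right _ hx))
  let J' : Ideal C' := Ideal.span {x : C' | (x : B) ∈ u}
  let N' : Submodule C' B := LinearMap.range (Algebra.linearMap C' B)
  have hJ'map : J'.map (algebraMap C' B) ≤ I := by
    rw [Ideal.map_span, Ideal.span_le]
    rintro _ ⟨x, hx, rfl⟩
    rw [← hu]
    exact Ideal.subset_span hx
  have hJ'nil : IsNilpotent J' := by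
    obtain ⟨k, hk⟩ := hnil
    refine ⟨k, ?_⟩
    rw [Ideal.zero_eq_bot, eq_bot_iff]
    intro x hx
    have h1 : algebraMap C' B x ∈ (J' ^ k).map (algebraMap C' B) := Ideal.mem_map_of_mem _ hx
    rw [Ideal.map_pow] at h1
    have h2 : algebraMap C' B x ∈ I ^ k := Ideal.pow_right_mono hJ'map k h1
    rw [hk, Ideal.zero_eq_bot, Ideal.mem_bot] at h2
    rw [Ideal.mem_bot]
    exact Subtype.ext h2
  have hI : ∀ x ∈ I, x ∈ (J' • ⊤ : Submodule C' B) := by
    intro x hx
    rw [← hu] at hx
    refine Submodule.span_induction (p := fun x _ => x ∈ (J' • ⊤ : Submodule C' B)) ?_ ?_ ?_ ?_ hx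
    · intro x hx
      have h1 : (⟨x, huC x hx⟩ : C') ∈ J' := Ideal.subset_span hx
      have h2 : (⟨x, huC x hx⟩ : C') • (1 : B) ∈ (J' • ⊤ : Submodule C' B) :=
        Submodule.smul_mem_smul h1 Submodule.mem_top
      have h3 : (⟨x, huC x hx⟩ : C') • (1 : B) = x := by
        rw [Algebra.smul_def, mul_one]; rfl
      rwa [h3] at h2
    · exact Submodule.zero_mem _
    · intro x y _ _ hx hy
      exact Submodule.add_mem _ hx hy
    · intro b x _ hx
      refine Submodule.smul_induction_on hx ?_ ?_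
      · intro j hj m _
        have : b • j • m = j • (b * m) := by
          rw [smul_eq_mul, Algebra.smul_def, Algebra.smul_def, mul_left_comm]
        rw [this]
        exact Submodule.smul_mem_smul hj Submodule.mem_top
      · intro x y hx hy
        rw [smul_add]
        exact Submodule.add_mem _ hx hy
  have htop : (⊤ : Submodule C' B) ≤ N' ⊔ J' • (⊤ : Submodule C' B) := by
    intro b _
    have hb : Ideal.Quotient.mk I b ∈ Algebra.adjoin A (s : Set (B ⧸ I)) := by rw [hs]; trivial
    obtain ⟨c', hc', hc'b⟩ := hmem _ hb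
    have h1 : b - c' ∈ I := by
      rw [← Ideal.Quotient.eq_zero_iff_mem, map_sub, hc'b, sub_self]
    have h2 : b = c' + (b - c') := by ring
    rw [h2]
    refine Submodule.add_mem_sup ?_ (hI _ h1)
    exact ⟨⟨c', hc'⟩, rfl⟩
  have hN : (⊤ : Submodule C' B) ≤ N' := Groth.Agent.S5338.le_of_le_sup_smul J' hJ'nil N' ⊤ htop
  refine ⟨⟨t, ?_⟩⟩
  rw [eq_top_iff]
  intro b _
  obtain ⟨c, hc⟩ := hN (Submodule.mem_top : b ∈ ⊤)
  rw [← hc]
  exact c.2

theorem finiteType_of_comp_surjective {A B B₀ : Type*} [CommRing A] [CommRing B] [CommRing B₀]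
    (φ : A →+* B) (π : B →+* B₀) (hπ : Function.Surjective π) (hfg : (RingHom.ker π).FG)
    (hnil : IsNilpotent (RingHom.ker π)) (h : (π.comp φ).FiniteType) : φ.FiniteType := by
  letI : Algebra A B := φ.toAlgebra
  letI : Algebra A B₀ := (π.comp φ).toAlgebra
  haveI : Algebra.FiniteType A B₀ := h
  let e : (B ⧸ RingHom.ker π) ≃ₐ[A] B₀ :=
    { RingHom.quotientKerEquivOfSurjective hπ with
      commutes' := fun a => rfl }
  haveI : Algebra.FiniteType A (B ⧸ RingHom.ker π) := Algebra.FiniteType.equiv inferInstance e.symm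
  exact finiteType_of_quotient_fg_nilpotent (RingHom.ker π) hfg hnil inferInstance

end Groth.Agent.Lib.Helper3.NilFT
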