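import Mathlib
import Groth.Prelude.Def_CurvBase
import Groth.Agent.Lib.Helper3NodeEtB
import Groth.Agent.Lib.Helper3FibreConstr
import Groth.Agent.Lib.Helper4DimFormulaAL

/-!
# At-worst-nodal singularities and nodal families under étale maps (helper3)
-/

set_option autoImplicit false
set_option linter.style.haveILetI false
universe u

open CategoryTheory CategoryTheory.Limits AlgebraicGeometry IsLocalRing

namespace Groth.Agent.Lib.Helper3.NodeEtC

section awn

variable (k : Type u) [Field k] {X Y : Scheme.{u}} (sX : X ⟶ Spec (CommRingCat.of k))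
  (sY : Y ⟶ Spec (CommRingCat.of k)) (π : Y ⟶ X) (hπ : π ≫ sX = sY)

include hπ in
/-- at-worst-nodal singularities pull back along étale maps. -/
theorem atWorstNodal_of_etale [LocallyOfFiniteType sX] [Etale π]
    (h : @Curv2.AtWorstNodal k _ X ⟨sX⟩) : @Curv2.AtWorstNodal k _ Y ⟨sY⟩ := by
  letI iX : X.Over (Spec (CommRingCat.of k)) := ⟨sX⟩
  letI iY : Y.Over (Spec (CommRingCat.of k)) := ⟨sY⟩
  intro y hy
  haveI : JacobsonSpace X := LocallyOfFiniteType.jacobsonSpace sX
  have hx : IsClosed ({π y} : Set X) := π.closePoints_subset_preimage_closedPoints hy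
  rcases h (π y) hx with ⟨U, hxU, hsm⟩ | hnode
  · refine Or.inl ⟨π ⁻¹ᵁ U, hxU, ?_⟩
    change Smooth ((π ⁻¹ᵁ U).ι ≫ sY)
    have hsm' : Smooth (U.ι ≫ sX) := hsm
    rw [← hπ, ← Category.assoc, ← morphismRestrict_ι, Category.assoc]
    infer_instance
  · exact Or.inr ((Groth.Agent.Lib.Helper3.NodeEtB.isNode_iff k sX sY π hπ y).mp hnode)

end awn

section fibre

variable {X Y S : Scheme.{u}} (g : Y ⟶ X) (f : X ⟶ S) (s : S)

/-- the map between the fibres over `s` induced by `g : Y ⟶ X` over `S`. -/
noncomputable def fibreMap : (g ≫ f).fiber s ⟶ f.fiber s :=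
  pullback.lift (pullback.fst (g ≫ f) (S.fromSpecResidueField s) ≫ g)
    (pullback.snd (g ≫ f) (S.fromSpecResidueField s))
    ((Category.assoc _ _ _).trans pullback.condition)

theorem fibreMap_fiberι : fibreMap g f s ≫ f.fiberι s = (g ≫ f).fiberι s ≫ g :=
  pullback.lift_fst _ _ _

theorem fibreMap_toSpec :
    fibreMap g f s ≫ f.fiberToSpecResidueField s = (g ≫ f).fiberToSpecResidueField s :=
  pullback.lift_snd _ _ _

instance [Etale g] : Etale (fibreMap g f s) :=
  MorphismProperty.of_isPullback
    (Groth.Agent.Lib.Helper3.FibreConstr.isPullback_fibreMap g f s) inferInstance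

end fibre

section dim

open Groth.Agent.Lib.Helper4.DimFormula

variable {X Y S : Scheme.{u}} (g : Y ⟶ X) (f : X ⟶ S)

theorem ptTrdeg_eq_zero_of_etale [Etale g] (y : Y) : ptTrdeg g y = 0 := by
  have h1 := trdeg_eq_ptTrdeg g y
  letI : Algebra (X.residueField (g y)) (Y.residueField y) := (g.residueFieldMap y).hom.toAlgebra
  haveI : Algebra.IsSeparable (X.residueField (g y)) (Y.residueField y) := inferInstance
  haveI : Algebra.IsAlgebraic (X.residueField (g y)) (Y.residueField y) :=
    Algebra.IsSeparable.isAlgebraic _ _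
  have h2 : Algebra.trdeg (X.residueField (g y)) (Y.residueField y) = 0 := _root_.trdeg_eq_zero
  rw [h2] at h1
  exact_mod_cast h1.symm

/-- the fibres of `g ≫ f` (with `g` étale) have the same component dimensions as those of `f`. -/
theorem topologicalKrullDim_eq_of_etale [Etale g] [LocallyOfFiniteType f] (n : ℕ) (s : S)
    (h : ∀ Z ∈ irreducibleComponents (f.fiber s : Type u), topologicalKrullDim Z = n) :
    ∀ Z ∈ irreducibleComponents ((g ≫ f).fiber s : Type u), topologicalKrullDim Z = n := by
  intro Z hZ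
  obtain ⟨y, hys, hymax, hdimZ⟩ := exists_point_of_mem_irreducibleComponents (g ≫ f) s Z hZ
  rw [hdimZ, ptTrdeg_comp g f y, ptTrdeg_eq_zero_of_etale g y, add_zero]
  have hmax : ∀ x' : X, f x' = f (g y) → x' ⤳ g y → x' = g y := by
    intro x' hx' hsp
    obtain ⟨y', hy', hgy'⟩ := Flat.generalizingMap g hsp
    have : y' = y := by
      refine hymax y' ?_ hy'
      change f (g y') = f (g y)
      rw [hgy', hx']
    rw [← hgy', this]
  obtain ⟨Z', hZ', hdim'⟩ := exists_mem_irreducibleComponents_of_maximal f s (g y) hys hmax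
  rw [← hdim']
  exact h Z' hZ'

end dim

end Groth.Agent.Lib.Helper3.NodeEtC
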