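import Mathlib
import Groth.Prelude.Def_CurvBase
import Groth.Agent.Lib.Helper3NodeEtC
import Groth.Agent.Lib.Helper4DimFormulaY
import Groth.Agent.Lib.Helper12SmoothSrc
import Groth.Agent.Lib.Helper12FPDescent
import Groth.Agent.Lib.Helper12Flat

/-!
# At-worst-nodal families are étale-local on the source (helper3)
-/

set_option autoImplicit false
set_option linter.style.haveILetI false
universe u

open CategoryTheory CategoryTheory.Limits AlgebraicGeometry IsLocalRing

namespace Groth.Agent.Lib.Helper3.NodeEtD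

section smooth

/-- smoothness of an open neighbourhood descends along étale maps: if `V ⊆ Y` is open with
`V → T` smooth and `π : Y ⟶ X` is étale over `T`, then the open image `π(V)` is smooth over `T`. -/
theorem exists_smooth_opens_of_etale {X Y T : Scheme.{u}} (sX : X ⟶ T) (π : Y ⟶ X) [Etale π]
    (V : Y.Opens) (hsm : Smooth (V.ι ≫ π ≫ sX)) (y : Y) (hy : y ∈ V) :
    ∃ W : X.Opens, π y ∈ W ∧ Smooth (W.ι ≫ sX) := by
  let W : X.Opens := ⟨π '' (V : Set Y), π.isOpenMap _ V.2⟩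
  have hle : V ≤ π ⁻¹ᵁ W := fun v hv => ⟨v, hv, rfl⟩
  refine ⟨W, ⟨y, hy, rfl⟩, ?_⟩
  let e : V.toScheme ⟶ W.toScheme := π.resLE W V hle
  have he : e ≫ W.ι = V.ι ≫ π := Scheme.Hom.resLE_comp_ι _ _
  haveI : Etale e := inferInstance
  haveI : Surjective e := by
    refine ⟨fun w => ?_⟩
    obtain ⟨v, hv, hvw⟩ := w.2
    refine ⟨⟨v, hv⟩, ?_⟩
    apply W.ι.isEmbedding.injective
    rw [← Scheme.Hom.comp_apply, he, Scheme.Hom.comp_apply]
    exact hvw
  haveI : Smooth (e ≫ W.ι ≫ sX) := by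
    rw [← Category.assoc, he, Category.assoc]
    exact hsm
  exact Groth.Agent.Lib.Helper12.SmoothSrc.smooth_of_etale_cover_source e (W.ι ≫ sX)

end smooth

section awn

variable (k : Type u) [Field k] {X : Scheme.{u}} (sX : X ⟶ Spec (CommRingCat.of k))
  {ι : Type*} (U : ι → Scheme.{u}) (sU : ∀ i, U i ⟶ Spec (CommRingCat.of k))
  (π : ∀ i, U i ⟶ X) (hπ : ∀ i, π i ≫ sX = sU i)

include hπ in
/-- at-worst-nodal singularities can be checked on an étale cover. -/
theorem atWorstNodal_of_etale_cover [LocallyOfFiniteType sX] [∀ i, Etale (π i)]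
    (hsurj : ∀ x : X, ∃ i, x ∈ Set.range (π i))
    (h : ∀ i, @Curv2.AtWorstNodal k _ (U i) ⟨sU i⟩) : @Curv2.AtWorstNodal k _ X ⟨sX⟩ := by
  letI iX : X.Over (Spec (CommRingCat.of k)) := ⟨sX⟩
  intro x hx
  obtain ⟨i, z, rfl⟩ := hsurj x
  letI iU : (U i).Over (Spec (CommRingCat.of k)) := ⟨sU i⟩
  have hz : IsClosed ({z} : Set (U i)) :=
    Groth.Agent.Lib.Helper12.Jac.isClosed_singleton_of_etale (π i) z hx
  rcases h i z hz with ⟨V, hzV, hsm⟩ | hnode
  · left
    have hsm' : Smooth (V.ι ≫ π i ≫ sX) := by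
      rw [hπ i]
      exact hsm
    exact exists_smooth_opens_of_etale sX (π i) V hsm' z hzV
  · right
    exact (Groth.Agent.Lib.Helper3.NodeEtB.isNode_iff k sX (sU i) (π i) (hπ i) z).mpr hnode

end awn

section dim

open Groth.Agent.Lib.Helper4.DimFormula Groth.Agent.Lib.Helper3.NodeEtC

variable {X Y S : Scheme.{u}} (g : Y ⟶ X) (f : X ⟶ S)

/-- a point of the fibre of `g ≫ f` over a maximal point of the fibre of `f` generalises to
a maximal point of the fibre of `g ≫ f` with the same image. -/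
theorem topologicalKrullDim_eq_of_etale_of_mem_range [Etale g] [LocallyOfFiniteType f] (n : ℕ)
    (s : S)
    (h : ∀ Z ∈ irreducibleComponents ((g ≫ f).fiber s : Type u), topologicalKrullDim Z = n)
    (x : X) (hxs : f x = s) (hmax : ∀ x' : X, f x' = f x → x' ⤳ x → x' = x)
    (hx : x ∈ Set.range g) : (ptTrdeg f x : WithBot ℕ∞) = n := by
  obtain ⟨u, rfl⟩ := hx
  have hus : (g ≫ f) u = s := hxs
  have : u ∈ Set.range ((g ≫ f).fiberι s) := by rw [(g ≫ f).range_fiberι]; exact hus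
  obtain ⟨z, rfl⟩ := this
  obtain ⟨ξ, hξz, hξmax⟩ := exists_maximal_specializes ((g ≫ f).fiber s) z
  set u' := (g ≫ f).fiberι s ξ with hu'
  have hu's : (g ≫ f) u' = s := by
    have : u' ∈ Set.range ((g ≫ f).fiberι s) := ⟨ξ, rfl⟩
    rw [(g ≫ f).range_fiberι] at this
    exact this
  have hsp : u' ⤳ (g ≫ f).fiberι s z :=
    ((g ≫ f).fiberι s).isEmbedding.isInducing.specializes_iff.mpr hξz
  have hgu' : g u' = g ((g ≫ f).fiberι s z) := by
    refine hmax (g u') ?_ (hsp.map g.continuous)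
    change (g ≫ f) u' = (g ≫ f) ((g ≫ f).fiberι s z)
    rw [hu's, hus]
  have hu'max : ∀ w : Y, (g ≫ f) w = (g ≫ f) u' → w ⤳ u' → w = u' := by
    intro w hw hwsp
    have : w ∈ Set.range ((g ≫ f).fiberι s) := by
      rw [(g ≫ f).range_fiberι]; exact hw.trans hu's
    obtain ⟨w₀, rfl⟩ := this
    have hw₀ : w₀ ⤳ ξ := ((g ≫ f).fiberι s).isEmbedding.isInducing.specializes_iff.mp hwsp
    rw [hξmax w₀ hw₀]
  obtain ⟨Z', hZ', hdim'⟩ :=
    exists_mem_irreducibleComponents_of_maximal (g ≫ f) s u' hu's hu'max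
  rw [ptTrdeg_comp g f u', ptTrdeg_eq_zero_of_etale g u', add_zero, hgu'] at hdim'
  rw [← hdim']
  exact h Z' hZ'

theorem topologicalKrullDim_eq_of_etale_cover {ι : Type*} (U : ι → Scheme.{u})
    (g : ∀ i, U i ⟶ X) [∀ i, Etale (g i)] [LocallyOfFiniteType f]
    (hsurj : ∀ x : X, ∃ i, x ∈ Set.range (g i)) (n : ℕ) (s : S)
    (h : ∀ i, ∀ Z ∈ irreducibleComponents ((g i ≫ f).fiber s : Type u),
      topologicalKrullDim Z = n) :
    ∀ Z ∈ irreducibleComponents (f.fiber s : Type u), topologicalKrullDim Z = n := by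
  intro Z hZ
  obtain ⟨x, hxs, hxmax, hdimZ⟩ := exists_point_of_mem_irreducibleComponents f s Z hZ
  obtain ⟨i, hi⟩ := hsurj x
  rw [hdimZ]
  exact topologicalKrullDim_eq_of_etale_of_mem_range (g i) f n s (h i) x hxs hxmax hi

end dim

end Groth.Agent.Lib.Helper3.NodeEtD
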