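import Mathlib
import Groth.Prelude.Def_CurvBase
import Groth.Agent.Lib.Helper3NodeEtD
import Groth.Agent.Lib.Helper3NodeEtE

/-!
# At-worst-nodal families and étale maps on the base (helper3)
-/

set_option autoImplicit false
set_option linter.style.haveILetI false
universe u

open CategoryTheory CategoryTheory.Limits AlgebraicGeometry IsLocalRing

namespace Groth.Agent.Lib.Helper3.NodeEtF

section resfield

variable {S' S : Scheme.{u}} (e : S' ⟶ S) [Etale e] (s' : S')

/-- residue field extensions of an étale morphism are étale. -/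
theorem etale_specMap_residueFieldMap : Etale (Spec.map (e.residueFieldMap s')) := by
  algebraize [(e.stalkMap s').hom]
  have : IsLocalHom (algebraMap (S.presheaf.stalk (e s')) (S'.presheaf.stalk s')) :=
    inferInstanceAs <| IsLocalHom (e.stalkMap s').hom
  have : Algebra.EssFiniteType (S.presheaf.stalk (e s')) (S'.presheaf.stalk s') := by
    rw [← RingHom.essFiniteType_algebraMap, RingHom.algebraMap_toAlgebra]
    exact LocallyOfFiniteType.stalkMap e s'
  have : Algebra.FormallyUnramified (S.presheaf.stalk (e s')) (S'.presheaf.stalk s') := by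
    rw [← RingHom.formallyUnramified_algebraMap, RingHom.algebraMap_toAlgebra]
    exact FormallyUnramified.stalkMap e s'
  have hfin : Module.Finite (ResidueField (S.presheaf.stalk (e s')))
      (ResidueField (S'.presheaf.stalk s')) := inferInstance
  have hsep : Algebra.IsSeparable (ResidueField (S.presheaf.stalk (e s')))
      (ResidueField (S'.presheaf.stalk s')) := inferInstance
  have het : Algebra.Etale (ResidueField (S.presheaf.stalk (e s')))
      (ResidueField (S'.presheaf.stalk s')) :=
    ⟨Algebra.FormallyEtale.of_isSeparable _ _,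
      Algebra.FinitePresentation.of_finiteType.mp inferInstance⟩
  rw [HasRingHomProperty.Spec_iff (P := @Etale)]
  have h : (e.residueFieldMap s').hom = algebraMap (ResidueField (S.presheaf.stalk (e s')))
      (ResidueField (S'.presheaf.stalk s')) := by
    refine RingHom.ext fun y => ?_
    obtain ⟨y, rfl⟩ := residue_surjective y
    rfl
  rw [h]
  exact (RingHom.etale_algebraMap (R := ResidueField (S.presheaf.stalk (e s')))
    (S := ResidueField (S'.presheaf.stalk s'))).mpr het

end resfield

section subfield

variable (k k' : Type u) [Field k] [Field k'] [Algebra k k'] [Algebra.IsAlgebraic k k']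
  [Etale (Spec.map (CommRingCat.ofHom (algebraMap k k')))]
  {X : Scheme.{u}} (sX : X ⟶ Spec (CommRingCat.of k'))

theorem atWorstNodal_subfield (h : @Curv2.AtWorstNodal k' _ X ⟨sX⟩) :
    @Curv2.AtWorstNodal k _ X ⟨sX ≫ Spec.map (CommRingCat.ofHom (algebraMap k k'))⟩ := by
  letI iX' : X.Over (Spec (CommRingCat.of k')) := ⟨sX⟩
  intro x hx
  rcases h x hx with ⟨U, hxU, hsm⟩ | hnode
  · refine Or.inl ⟨U, hxU, ?_⟩
    change Smooth (U.ι ≫ sX ≫ Spec.map (CommRingCat.ofHom (algebraMap k k')))
    have hsm' : Smooth (U.ι ≫ sX) := hsm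
    rw [← Category.assoc]
    infer_instance
  · exact Or.inr ((Groth.Agent.Lib.Helper3.NodeEtE.isNode_iff_subfield k k' sX x).mp hnode)

end subfield

section fibre

variable {X S' S : Scheme.{u}} (f : X ⟶ S') (e : S' ⟶ S) (s' : S')

/-- the fibre of `f` over `s'` maps to the fibre of `f ≫ e` over `e s'`. -/
noncomputable def fibreIncl : f.fiber s' ⟶ (f ≫ e).fiber (e s') :=
  pullback.lift (f.fiberι s') (f.fiberToSpecResidueField s' ≫ Spec.map (e.residueFieldMap s'))
    (by
      rw [← Category.assoc, f.fiber_fac s', Category.assoc, Category.assoc,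
        Scheme.Hom.SpecMap_residueFieldMap_fromSpecResidueField])

theorem fibreIncl_fiberι : fibreIncl f e s' ≫ (f ≫ e).fiberι (e s') = f.fiberι s' :=
  pullback.lift_fst _ _ _

theorem fibreIncl_toSpec : fibreIncl f e s' ≫ (f ≫ e).fiberToSpecResidueField (e s') =
    f.fiberToSpecResidueField s' ≫ Spec.map (e.residueFieldMap s') :=
  pullback.lift_snd _ _ _

theorem isPullback_fibreIncl :
    IsPullback (fibreIncl f e s') (f.fiberToSpecResidueField s')
      (Groth.Agent.Lib.Helper3.NodeEtC.fibreMap f e (e s')) (e.asFiberHom s') := by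
  have hcomm : fibreIncl f e s' ≫ Groth.Agent.Lib.Helper3.NodeEtC.fibreMap f e (e s') =
      f.fiberToSpecResidueField s' ≫ e.asFiberHom s' := by
    refine pullback.hom_ext (f := e) (g := S.fromSpecResidueField (e s')) ?_ ?_
    · change (fibreIncl f e s' ≫ Groth.Agent.Lib.Helper3.NodeEtC.fibreMap f e (e s')) ≫
        e.fiberι (e s') = (f.fiberToSpecResidueField s' ≫ e.asFiberHom s') ≫ e.fiberι (e s')
      rw [Category.assoc, Groth.Agent.Lib.Helper3.NodeEtC.fibreMap_fiberι, ← Category.assoc,
        fibreIncl_fiberι, Category.assoc, e.asFiberHom_fiberι, f.fiber_fac]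
    · change (fibreIncl f e s' ≫ Groth.Agent.Lib.Helper3.NodeEtC.fibreMap f e (e s')) ≫
        e.fiberToSpecResidueField (e s') =
        (f.fiberToSpecResidueField s' ≫ e.asFiberHom s') ≫ e.fiberToSpecResidueField (e s')
      rw [Category.assoc, Groth.Agent.Lib.Helper3.NodeEtC.fibreMap_toSpec, fibreIncl_toSpec,
        Category.assoc, e.asFiberHom_fiberToSpecResidueField]
  have hright : IsPullback ((f ≫ e).fiberι (e s'))
      (Groth.Agent.Lib.Helper3.NodeEtC.fibreMap f e (e s')) f (e.fiberι (e s')) :=
    Groth.Agent.Lib.Helper3.FibreConstr.isPullback_fibreMap f e (e s')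
  refine IsPullback.of_right ?_ hcomm hright
  rw [fibreIncl_fiberι, e.asFiberHom_fiberι]
  exact IsPullback.of_hasPullback f (S'.fromSpecResidueField s')

theorem etale_fibreIncl [Etale e] : Etale (fibreIncl f e s') := by
  haveI := etale_specMap_residueFieldMap e s'
  haveI : Etale (e.fiberToSpecResidueField (e s')) :=
    MorphismProperty.pullback_snd _ _ inferInstance
  haveI : Etale (e.asFiberHom s' ≫ e.fiberToSpecResidueField (e s')) := by
    rw [e.asFiberHom_fiberToSpecResidueField]; infer_instance
  haveI : Etale (e.asFiberHom s') :=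
    MorphismProperty.of_postcomp (W := @Etale) (W' := @Etale) _
      (e.fiberToSpecResidueField (e s')) inferInstance inferInstance
  exact MorphismProperty.of_isPullback (isPullback_fibreIncl f e s').flip inferInstance

end fibre

section main

open Groth.Agent.Lib.Helper4.DimFormula Groth.Agent.Lib.Helper3.NodeEtC

variable {X S' S : Scheme.{u}} (f : X ⟶ S') (e : S' ⟶ S)

theorem topologicalKrullDim_comp_etale [Etale e] [LocallyOfFiniteType f] (n : ℕ)
    (h : ∀ s' : S', ∀ Z ∈ irreducibleComponents (f.fiber s' : Type u), topologicalKrullDim Z = n)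
    (s : S) :
    ∀ Z ∈ irreducibleComponents ((f ≫ e).fiber s : Type u), topologicalKrullDim Z = n := by
  intro Z hZ
  obtain ⟨x, hxs, hxmax, hdimZ⟩ := exists_point_of_mem_irreducibleComponents (f ≫ e) s Z hZ
  rw [hdimZ, ptTrdeg_comp f e x, ptTrdeg_eq_zero_of_etale e (f x), zero_add]
  have hmax' : ∀ x' : X, f x' = f x → x' ⤳ x → x' = x := fun x' hx' hsp =>
    hxmax x' (by change e (f x') = e (f x); rw [hx']) hsp
  obtain ⟨Z', hZ', hdim'⟩ := exists_mem_irreducibleComponents_of_maximal f (f x) x rfl hmax'
  rw [← hdim']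
  exact h (f x) Z' hZ'

theorem atWorstNodal_key [Etale e] [LocallyOfFiniteType f] (s' : S')
    (h : @Curv2.AtWorstNodal (S'.residueField s') _ (f.fiber s')
      ⟨f.fiberToSpecResidueField s'⟩)
    (s : S) (hs : e s' = s) (z : ↥((f ≫ e).fiber s)) (hz : f ((f ≫ e).fiberι s z) = s')
    (hcl : IsClosed ({z} : Set ↥((f ≫ e).fiber s))) :
    (∃ U : ((f ≫ e).fiber s).Opens, z ∈ U ∧
        Smooth (U.ι ≫ (f ≫ e).fiberToSpecResidueField s)) ∨
      @Curv2.IsNode (S.residueField s) _ ((f ≫ e).fiber s)
        ⟨(f ≫ e).fiberToSpecResidueField s⟩ z := by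
  subst hs
  letI alg : Algebra (S.residueField (e s')) (S'.residueField s') :=
    (e.residueFieldMap s').hom.toAlgebra
  haveI : Algebra.IsSeparable (S.residueField (e s')) (S'.residueField s') := inferInstance
  haveI : Algebra.IsAlgebraic (S.residueField (e s')) (S'.residueField s') :=
    Algebra.IsSeparable.isAlgebraic _ _
  haveI het : Etale (Spec.map (CommRingCat.ofHom
      (algebraMap (S.residueField (e s')) (S'.residueField s')))) :=
    etale_specMap_residueFieldMap e s'
  have hF' := atWorstNodal_subfield (S.residueField (e s')) (S'.residueField s')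
    (f.fiberToSpecResidueField s') h
  haveI := etale_fibreIncl f e s'
  have hmem : (f ≫ e).fiberι (e s') z ∈ Set.range (f.fiberι s') := by
    rw [f.range_fiberι]; exact hz
  obtain ⟨w, hw⟩ := hmem
  have hjw : fibreIncl f e s' w = z := by
    apply ((f ≫ e).fiberι (e s')).isEmbedding.injective
    rw [← Scheme.Hom.comp_apply, fibreIncl_fiberι]
    exact hw
  have hwcl : IsClosed ({w} : Set ↥(f.fiber s')) :=
    Groth.Agent.Lib.Helper12.Jac.isClosed_singleton_of_etale (fibreIncl f e s') w
      (by rw [hjw]; exact hcl)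
  rcases hF' w hwcl with ⟨V, hwV, hsm⟩ | hnode
  · left
    have hsm' : Smooth (V.ι ≫ fibreIncl f e s' ≫ (f ≫ e).fiberToSpecResidueField (e s')) := by
      rw [fibreIncl_toSpec]
      exact hsm
    obtain ⟨W, hW, hWsm⟩ := Groth.Agent.Lib.Helper3.NodeEtD.exists_smooth_opens_of_etale
      ((f ≫ e).fiberToSpecResidueField (e s')) (fibreIncl f e s') V hsm' w hwV
    rw [hjw] at hW
    exact ⟨W, hW, hWsm⟩
  · right
    have := (Groth.Agent.Lib.Helper3.NodeEtB.isNode_iff (S.residueField (e s'))
      ((f ≫ e).fiberToSpecResidueField (e s'))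
      (f.fiberToSpecResidueField s' ≫ Spec.map (CommRingCat.ofHom
        (algebraMap (S.residueField (e s')) (S'.residueField s'))))
      (fibreIncl f e s') (fibreIncl_toSpec f e s') w).mpr hnode
    rw [hjw] at this
    exact this

end main

end Groth.Agent.Lib.Helper3.NodeEtF
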