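import Mathlib
import Groth.Agent.Lib.Helper3AffFP
import Groth.Agent.Lib.Helper2PullbackSec
import Groth.Agent.Lib.Helper2FlatOver
import Groth.Agent.Lib.Helper20PullbackAff
import Groth.Agent.Lib.Helper23FinType2
import Groth.Agent.Lib.Helper1Extend
/-!
# From a ring-level model to a scheme-level model (helper3)

For affine `X`, `S`, `f : X ⟶ S`, a quasi-coherent `F` on `X`, and ring-level data
`R₀ → B₀`, `R₀ → Γ(S)`, `B₀ → Γ(X)` forming a pushout square together with a `B₀`-module `M₀` and a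
`Γ(X)`-linear iso `Γ(X) ⊗_{B₀} M₀ ≃ Γ(F)`, we get the cartesian square of schemes and the
isomorphism `g'^* (M₀)^~ ≅ F`.
-/
set_option autoImplicit false
set_option linter.style.haveILetI false
universe u
open CategoryTheory Limits AlgebraicGeometry TopologicalSpace Opposite TensorProduct

namespace Groth.Agent.Lib.Helper3.NoethApprox

open Groth.Agent.Lib.Helper23.FinType Groth.Agent.Lib.Helper23.QCohLocal
open Groth.Agent.Lib.Helper20.OmegaAff Groth.Agent.Lib.Helper20.PullbackAff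
open Groth.Agent.Lib.Helper20.Thickening Groth.Agent.Lib.Helper2.PullbackSec

variable {X S : Scheme.{u}} (f : X ⟶ S) [IsAffine X] [IsAffine S]

theorem isPullback_of_isPushout {R₀ B₀ : CommRingCat.{u}} (φ₀ : R₀ ⟶ B₀) (a : R₀ ⟶ Γ(S, ⊤))
    (b : B₀ ⟶ Γ(X, ⊤)) (hpo : IsPushout a φ₀ f.appTop b) :
    IsPullback (X.toSpecΓ ≫ Spec.map b) f (Spec.map φ₀) (S.toSpecΓ ≫ Spec.map a) := by
  have h1 : IsPullback (Spec.map b) (Spec.map f.appTop) (Spec.map φ₀) (Spec.map a) :=
    (isPullback_SpecMap_of_isPushout a φ₀ f.appTop b hpo).flip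
  have h2 : IsPullback X.toSpecΓ f (Spec.map f.appTop) S.toSpecΓ :=
    IsPullback.of_horiz_isIso ⟨(Scheme.toSpecΓ_naturality f).symm⟩
  exact h2.paste_horiz h1

variable (F : X.Modules) [F.IsQuasicoherent]

/-- `F` is the pullback along `X ≅ Spec Γ(X)` of the tilde of its global sections. -/
noncomputable def isoPullbackTilde :
    (Scheme.Modules.pullback X.toSpecΓ).obj (tilde (ΓU F (isAffineOpen_top X))) ≅ F :=
  (Scheme.Modules.pullback X.toSpecΓ).mapIso (pullbackFromSpecIso F (isAffineOpen_top X)).symm ≪≫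
    ((Scheme.Modules.pullbackComp X.toSpecΓ (isAffineOpen_top X).fromSpec).app F) ≪≫
    (Scheme.Modules.pullbackCongr (by
      rw [IsAffineOpen.fromSpec_top]; exact X.toSpecΓ_isoSpec_inv)).app F ≪≫
    (Scheme.Modules.pullbackId X).app F

/-- the pullback of `(M₀)^~` along `X ≅ Spec Γ(X) → Spec B₀` is `F`, given a base change iso on
global sections. -/
noncomputable def pullbackTildeIso' {B₀ : CommRingCat.{u}} (b : B₀ ⟶ Γ(X, ⊤)) (M₀ : ModuleCat.{u} B₀)
    (e : (ModuleCat.extendScalars b.hom).obj M₀ ≅ ΓU F (isAffineOpen_top X)) :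
    (Scheme.Modules.pullback (X.toSpecΓ ≫ Spec.map b)).obj (tilde M₀) ≅ F :=
  ((Scheme.Modules.pullbackComp X.toSpecΓ (Spec.map b)).app (tilde M₀)).symm ≪≫
    (Scheme.Modules.pullback X.toSpecΓ).mapIso (pullbackTildeObjIso b M₀) ≪≫
    (Scheme.Modules.pullback X.toSpecΓ).mapIso ((tilde.functor _).mapIso e) ≪≫
    isoPullbackTilde F

end Groth.Agent.Lib.Helper3.NoethApprox
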