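import Mathlib

set_option autoImplicit false
set_option linter.style.haveILetI false
universe u

namespace Groth.Agent.Lib.Helper3.NSC

open TensorProduct

section

variable (A : Type u) [CommRing A] [IsDomain A] [IsIntegrallyClosed A]
  (K : Type u) [Field K] [Algebra A K] [IsFractionRing A K]
  (E : Type u) [CommRing E] [Algebra A E] [Algebra.Etale A E]

/-- elements of `E ⊗ integralClosure A K` are of the form `e ⊗ 1` inside `E ⊗ K` -/
theorem exists_eq_tmul_one (t : E ⊗[A] integralClosure A K) :
    ∃ e : E, ((TensorProduct.toIntegralClosure A E K t : integralClosure E (E ⊗[A] K)) : E ⊗[A] K)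
      = e ⊗ₜ[A] (1 : K) := by
  have hval : ∀ t : E ⊗[A] integralClosure A K,
      ((TensorProduct.toIntegralClosure A E K t : integralClosure E (E ⊗[A] K)) : E ⊗[A] K) =
      Algebra.TensorProduct.map (AlgHom.id E E) (integralClosure A K).val t := fun t => rfl
  rw [hval]
  induction t using TensorProduct.induction_on with
  | zero => exact ⟨0, by simp⟩
  | tmul x y =>
    obtain ⟨a, ha⟩ := IsIntegrallyClosed.algebraMap_eq_of_integral (R := A) (K := K) y.2
    refine ⟨a • x, ?_⟩
    rw [Algebra.TensorProduct.map_tmul]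
    show x ⊗ₜ[A] (y : K) = _
    rw [← ha, Algebra.algebraMap_eq_smul_one, TensorProduct.smul_tmul]
  | add t₁ t₂ h₁ h₂ =>
    obtain ⟨e₁, h₁⟩ := h₁
    obtain ⟨e₂, h₂⟩ := h₂
    exact ⟨e₁ + e₂, by rw [map_add, h₁, h₂, TensorProduct.add_tmul]⟩

/-- idempotents of `K ⊗ E` come from `E` -/
theorem exists_of_isIdempotentElem (ε : K ⊗[A] E) (hε : IsIdempotentElem ε) :
    ∃ e : E, (1 : K) ⊗ₜ[A] e = ε := by
  let c : K ⊗[A] E ≃ₐ[A] E ⊗[A] K := Algebra.TensorProduct.comm A K E
  have hc : IsIdempotentElem (c ε) := by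
    show c ε * c ε = c ε
    rw [← map_mul, hε.eq]
  have hint : IsIntegral E (c ε) := by
    refine ⟨Polynomial.X * (Polynomial.X - Polynomial.C 1), ?_, ?_⟩
    · exact Polynomial.monic_X.mul (Polynomial.monic_X_sub_C 1)
    · simp [mul_sub, hc.eq]
  obtain ⟨t, ht⟩ := (TensorProduct.toIntegralClosure_bijective_of_smooth
    (R := A) (S := E) (B := K)).2 ⟨c ε, hint⟩
  obtain ⟨e, he⟩ := exists_eq_tmul_one A K E t
  refine ⟨e, ?_⟩
  rw [ht] at he
  have : c ε = e ⊗ₜ[A] (1 : K) := he
  apply c.injective
  rw [this]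
  exact Algebra.TensorProduct.comm_tmul A (1 : K) e

set_option maxHeartbeats 1000000 in
/-- **Key lemma**: an étale algebra over a normal domain with separably closed fraction field
splits by finitely many idempotents into pieces embedding into the fraction field. -/
theorem exists_idempotents [IsSepClosed K] :
    ∃ (I : Type u) (_ : Fintype I) (e : I → E) (χ : I → (E →ₐ[A] K)),
      CompleteOrthogonalIdempotents e ∧ (∀ i, χ i (e i) = 1) ∧
      ∀ i x, χ i x = 0 → e i * x = 0 := by
  classical
  obtain ⟨I, hI, Ai, _, _, eq, hsep⟩ :=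
    (Algebra.FormallyEtale.iff_exists_algEquiv_prod K (K ⊗[A] E)).mp inferInstance
  haveI := Fintype.ofFinite I
  have hbij : ∀ i, Function.Bijective (Algebra.ofId K (Ai i)) := fun i =>
    ⟨(algebraMap K (Ai i)).injective, IsSepClosed.algebraMap_surjective K (Ai i)⟩
  let κ : ∀ i, Ai i ≃ₐ[K] K := fun i => (AlgEquiv.ofBijective (Algebra.ofId K (Ai i)) (hbij i)).symm
  have hκ : ∀ i (y : Ai i), κ i y = 0 → y = 0 := fun i y hy => by
    have := (κ i).injective (hy.trans (map_zero (κ i)).symm)
    exact this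
  let φ : ∀ i, K ⊗[A] E →ₐ[K] K := fun i =>
    (κ i : Ai i →ₐ[K] K).comp ((Pi.evalAlgHom K Ai i).comp (eq : K ⊗[A] E →ₐ[K] ∀ i, Ai i))
  have hφ : ∀ i z, φ i z = κ i (eq z i) := fun i z => rfl
  let ε : I → K ⊗[A] E := fun i => eq.symm (Pi.single i 1)
  have hεeq : ∀ i, eq (ε i) = Pi.single i 1 := fun i => eq.apply_symm_apply _
  have hε : ∀ i, IsIdempotentElem (ε i) := fun i => by
    show ε i * ε i = ε i
    apply eq.injective
    rw [map_mul, hεeq, ← Pi.single_mul, one_mul]
  choose e he using fun i => exists_of_isIdempotentElem A K E (ε i) (hε i)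
  have hinj : Function.Injective (Algebra.TensorProduct.includeRight : E →ₐ[A] K ⊗[A] E) :=
    Algebra.TensorProduct.includeRight_injective (IsFractionRing.injective A K)
  have hir : ∀ x : E, (Algebra.TensorProduct.includeRight : E →ₐ[A] K ⊗[A] E) x = 1 ⊗ₜ x :=
    fun x => rfl
  let χ : I → (E →ₐ[A] K) := fun i =>
    ((φ i).restrictScalars A).comp Algebra.TensorProduct.includeRight
  have hχ : ∀ i x, χ i x = κ i (eq ((1 : K) ⊗ₜ[A] x) i) := fun i x => rfl
  refine ⟨I, inferInstance, e, χ, ⟨⟨fun i => ?_, fun i j hij => ?_⟩, ?_⟩, fun i => ?_, fun i x hx => ?_⟩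
  · apply hinj
    rw [map_mul, hir, he, (hε i).eq]
  · apply hinj
    rw [map_mul, hir, hir, he, he, map_zero]
    apply eq.injective
    rw [map_mul, hεeq, hεeq, map_zero]
    funext k
    rw [Pi.mul_apply]
    by_cases hk : k = i
    · subst hk
      rw [Pi.single_eq_of_ne hij, mul_zero]
      rfl
    · rw [Pi.single_eq_of_ne hk, zero_mul]
      rfl
  · apply hinj
    rw [map_sum, map_one]
    simp_rw [hir, he]
    apply eq.injective
    rw [map_sum, map_one]
    simp_rw [hεeq]
    exact Finset.univ_sum_single (1 : ∀ i, Ai i)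
  · rw [hχ, he, hεeq, Pi.single_eq_same]
    exact map_one (κ i)
  · apply hinj
    rw [map_mul, hir, hir, he, map_zero]
    apply eq.injective
    rw [map_mul, hεeq, map_zero]
    have h0 : eq ((1 : K) ⊗ₜ[A] x) i = 0 := hκ i _ (by rw [← hχ]; exact hx)
    funext j
    by_cases hj : j = i
    · subst hj
      rw [Pi.mul_apply, h0, mul_zero]
      rfl
    · rw [Pi.mul_apply, Pi.single_eq_of_ne hj, zero_mul]
      rfl

set_option maxHeartbeats 1000000 in
/-- The piece cut out by an idempotent embedding into the fraction field is an epimorphic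
extension of `A`. -/
theorem isEpi_away (e : E) (χ : E →ₐ[A] K) (h1 : χ e = 1) (h0 : ∀ x, χ x = 0 → e * x = 0) :
    Algebra.IsEpi A (Localization.Away e) := by
  haveI : Algebra.Etale A (Localization.Away e) := Algebra.Etale.comp A E (Localization.Away e)
  have hu : IsUnit (χ e) := by rw [h1]; exact isUnit_one
  let χ' : Localization.Away e →ₐ[A] K := IsLocalization.Away.liftAlgHom e (f := χ) hu
  have hχ' : ∀ y : E, χ' (algebraMap E (Localization.Away e) y) = χ y := fun y =>
    IsLocalization.Away.lift_eq e hu y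
  have hinj : Function.Injective χ' := by
    rw [injective_iff_map_eq_zero]
    intro x hx
    obtain ⟨⟨y, s⟩, hy⟩ := IsLocalization.surj (Submonoid.powers e) x
    have h2 : χ y = 0 := by
      rw [← hχ', ← hy, map_mul, hx, zero_mul]
    have h3 : algebraMap E (Localization.Away e) y = 0 := by
      have h4 := congrArg (algebraMap E (Localization.Away e)) (h0 y h2)
      rw [map_mul, map_zero] at h4
      exact ((IsLocalization.Away.algebraMap_isUnit e).mul_right_eq_zero).mp h4
    rw [h3] at hy
    exact ((IsLocalization.map_units (Localization.Away e) s).mul_left_eq_zero).mp hy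
  rw [Algebra.isEpi_iff_forall_one_tmul_eq]
  intro x
  obtain ⟨⟨b, a⟩, hab⟩ := IsLocalization.surj (nonZeroDivisors A) (χ' x)
  have ha0 : (a : A) ≠ 0 := nonZeroDivisors.ne_zero a.2
  have hax : (a : A) • x = b • (1 : Localization.Away e) := by
    apply hinj
    rw [map_smul, map_smul, map_one, Algebra.smul_def, Algebra.smul_def, mul_one, mul_comm]
    exact hab
  have hreg : Function.Injective
      (fun z : Localization.Away e ⊗[A] Localization.Away e => (a : A) • z) := by
    have h := Module.Flat.isSMulRegular_of_nonZeroDivisors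
      (M := Localization.Away e ⊗[A] Localization.Away e) a.2
    intro u v huv
    exact h huv
  apply hreg
  show (a : A) • ((1 : Localization.Away e) ⊗ₜ[A] x) = (a : A) • (x ⊗ₜ[A] (1 : Localization.Away e))
  rw [TensorProduct.smul_tmul', TensorProduct.smul_tmul', hax, TensorProduct.smul_tmul, hax,
    ← TensorProduct.smul_tmul]

end

end Groth.Agent.Lib.Helper3.NSC
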