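import Mathlib
import Groth.Agent.Lib.Helper3NormalSepClosed
import Groth.Agent.Lib.Helper3EtLift

set_option autoImplicit false
set_option linter.style.haveILetI false
universe u

open CategoryTheory CategoryTheory.Limits AlgebraicGeometry

namespace Groth.Agent.Lib.Helper3.NSC

/-- **Lemma G**: a scheme covered by pairwise disjoint open pieces, each mapping by an open
immersion to `Z`, is a disjoint union of open subschemes of `Z`. -/
theorem exists_sigma_iso_of_cover {V Z : Scheme.{u}} (φ : V ⟶ Z) {ι : Type u}
    (Vj : ι → Scheme.{u}) (v : ∀ j, Vj j ⟶ V) [∀ j, IsOpenImmersion (v j)]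
    [∀ j, IsOpenImmersion (v j ≫ φ)]
    (hcov : ∀ x : V, ∃ j, x ∈ Set.range (v j))
    (hdisj : ∀ i j, i ≠ j → Disjoint (Set.range (v i)) (Set.range (v j))) :
    ∃ (W : ι → Z.Opens) (e : (∐ fun k => (W k : Scheme.{u})) ≅ V),
      ∀ k, Sigma.ι (fun k => (W k : Scheme.{u})) k ≫ e.hom ≫ φ = (W k).ι := by
  let W : ι → Z.Opens := fun k => (v k ≫ φ).opensRange
  let f : ∀ k, (W k : Scheme.{u}) ⟶ V := fun k => (v k ≫ φ).isoOpensRange.inv ≫ v k
  have hfr : ∀ k, (f k).opensRange = (v k).opensRange := fun k => by
    apply TopologicalSpace.Opens.ext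
    show Set.range (f k) = Set.range (v k)
    simp only [f, Scheme.Hom.comp_base, TopCat.coe_comp]
    rw [Set.range_comp, Set.range_eq_univ.mpr, Set.image_univ]
    exact (ConcreteCategory.bijective_of_isIso ((v k ≫ φ).isoOpensRange.inv.base)).surjective
  obtain ⟨hc⟩ := nonempty_isColimit_cofanMk_of f
    (by
      simp_rw [hfr]
      rw [eq_top_iff]
      intro x _
      obtain ⟨j, hj⟩ := hcov x
      rw [TopologicalSpace.Opens.mem_iSup]
      exact ⟨j, hj⟩)
    (by
      intro j k hjk
      show Disjoint (f j).opensRange (f k).opensRange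
      rw [hfr, hfr, disjoint_iff]
      apply TopologicalSpace.Opens.ext
      show Set.range (v j) ∩ Set.range (v k) = ∅
      exact Set.disjoint_iff_inter_eq_empty.mp (hdisj j k hjk))
  let e : (∐ fun k => (W k : Scheme.{u})) ≅ V :=
    (coproductIsCoproduct (fun k => (W k : Scheme.{u}))).coconePointUniqueUpToIso hc
  refine ⟨W, e, fun k => ?_⟩
  have h1 : Sigma.ι (fun k => (W k : Scheme.{u})) k ≫ e.hom = f k :=
    (coproductIsCoproduct (fun k => (W k : Scheme.{u}))).comp_coconePointUniqueUpToIso_hom hc ⟨k⟩
  rw [← Category.assoc, h1]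
  show ((v k ≫ φ).isoOpensRange.inv ≫ v k) ≫ φ = _
  rw [Category.assoc, Scheme.Hom.isoOpensRange_inv_comp]

/-- `Spec` of a ring epimorphism is a monomorphism of schemes. -/
theorem mono_spec_of_epi {R S : CommRingCat.{u}} (f : R ⟶ S) [Epi f] : Mono (Spec.map f) := by
  haveI : Mono f.op := inferInstance
  exact (inferInstance : Mono (Scheme.Spec.map f.op))

/-- `Spec` of an étale, epimorphic algebra is an open immersion. -/
theorem isOpenImmersion_spec_of_etale_of_isEpi (R S : Type u) [CommRing R] [CommRing S]
    [Algebra R S] [Algebra.Etale R S] (h : Epi (CommRingCat.ofHom (algebraMap R S))) :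
    IsOpenImmersion (Spec.map (CommRingCat.ofHom (algebraMap R S))) := by
  haveI : AlgebraicGeometry.Etale (Spec.map (CommRingCat.ofHom (algebraMap R S))) := by
    rw [HasRingHomProperty.Spec_iff (P := @AlgebraicGeometry.Etale)]
    exact RingHom.etale_algebraMap.mpr inferInstance
  haveI := mono_spec_of_epi (CommRingCat.ofHom (algebraMap R S))
  exact IsOpenImmersion.of_flat_of_mono _

theorem away_map_surjective {R P : Type*} [CommRing R] [CommRing P] (g : R →+* P)
    (hg : Function.Surjective g) (r : R) :
    Function.Surjective (IsLocalization.Away.map (Localization.Away r) (Localization.Away (g r))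
      g r) := by
  intro y
  obtain ⟨⟨c, s⟩, hy⟩ := IsLocalization.surj (Submonoid.powers (g r)) y
  obtain ⟨n, hn⟩ := s.2
  obtain ⟨x, rfl⟩ := hg c
  refine ⟨IsLocalization.mk' (Localization.Away r) x (⟨r ^ n, n, rfl⟩ : Submonoid.powers r), ?_⟩
  rw [IsLocalization.Away.map, IsLocalization.map_mk']
  rw [IsLocalization.mk'_eq_iff_eq_mul, ← hy]
  congr 2
  show (s : P) = g (r ^ n)
  rw [map_pow]
  exact hn.symm

set_option maxHeartbeats 1600000 in
/-- **Core (Spec level)**: an étale algebra over a quotient of a normal domain with separably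
closed fraction field is, on spectra, a finite disjoint union of open subschemes. -/
theorem core_spec (A : Type u) [CommRing A] [IsDomain A] [IsIntegrallyClosed A]
    (K : Type u) [Field K] [Algebra A K] [IsFractionRing A K] [IsSepClosed K]
    (I : Ideal A) (C : Type u) [CommRing C] [Algebra (A ⧸ I) C] [Algebra.Etale (A ⧸ I) C] :
    ∃ (ι : Type u) (_ : Finite ι) (Vj : ι → Scheme.{u}) (v : ∀ j, Vj j ⟶ Spec (.of C)),
      (∀ j, IsOpenImmersion (v j)) ∧
      (∀ j, IsOpenImmersion (v j ≫ Spec.map (CommRingCat.ofHom (algebraMap (A ⧸ I) C)))) ∧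
      (∀ x : Spec (.of C), ∃ j, x ∈ Set.range (v j)) ∧
      (∀ i j, i ≠ j → Disjoint (Set.range (v i)) (Set.range (v j))) := by
  classical
  letI algAC : Algebra A C := ((algebraMap (A ⧸ I) C).comp (Ideal.Quotient.mk I)).toAlgebra
  haveI : IsScalarTower A (A ⧸ I) C := IsScalarTower.of_algebraMap_eq' rfl
  obtain ⟨E, _, _, _, ψ, hψs, -⟩ := Groth.Agent.Lib.Helper3.EtLift.exists_etale_lift A I C
  obtain ⟨J, _, e, χ, hcoi, h1, h0⟩ := exists_idempotents A K E
  have hcoi' : CompleteOrthogonalIdempotents (fun j => ψ (e j)) := hcoi.map ψ.toRingHom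
  refine ⟨J, inferInstance, fun j => Spec (.of (Localization.Away (ψ (e j)))),
    fun j => Spec.map (CommRingCat.ofHom (algebraMap C (Localization.Away (ψ (e j))))),
    fun j => inferInstance, fun j => ?_, ?_, ?_⟩
  · -- open immersion to Spec (A ⧸ I)
    rw [← Spec.map_comp]
    have hcomp : CommRingCat.ofHom (algebraMap (A ⧸ I) C) ≫
        CommRingCat.ofHom (algebraMap C (Localization.Away (ψ (e j)))) =
        CommRingCat.ofHom (algebraMap (A ⧸ I) (Localization.Away (ψ (e j)))) := by
      ext x
      exact (IsScalarTower.algebraMap_apply (A ⧸ I) C (Localization.Away (ψ (e j))) x).symm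
    rw [hcomp]
    haveI : Algebra.Etale (A ⧸ I) (Localization.Away (ψ (e j))) :=
      Algebra.Etale.comp (A ⧸ I) C (Localization.Away (ψ (e j)))
    apply isOpenImmersion_spec_of_etale_of_isEpi
    -- epi
    haveI hepi1 : Epi (CommRingCat.ofHom (algebraMap A (Localization.Away (e j)))) :=
      CommRingCat.epi_iff_epi.mpr (isEpi_away A K E (e j) (χ j) (h1 j) (h0 j))
    let ψj : Localization.Away (e j) →+* Localization.Away (ψ (e j)) :=
      IsLocalization.Away.map (Localization.Away (e j)) (Localization.Away (ψ.toRingHom (e j)))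
        ψ.toRingHom (e j)
    haveI hepi2 : Epi (CommRingCat.ofHom ψj) :=
      ConcreteCategory.epi_of_surjective _ (away_map_surjective ψ.toRingHom hψs (e j))
    have hsq : CommRingCat.ofHom (algebraMap A (Localization.Away (e j))) ≫ CommRingCat.ofHom ψj =
        CommRingCat.ofHom (Ideal.Quotient.mk I) ≫
          CommRingCat.ofHom (algebraMap (A ⧸ I) (Localization.Away (ψ (e j)))) := by
      ext a
      show ψj (algebraMap A (Localization.Away (e j)) a) =
        algebraMap (A ⧸ I) (Localization.Away (ψ (e j))) (Ideal.Quotient.mk I a)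
      rw [IsScalarTower.algebraMap_apply A E (Localization.Away (e j)),
        IsScalarTower.algebraMap_apply (A ⧸ I) C (Localization.Away (ψ (e j)))]
      show IsLocalization.Away.map _ _ ψ.toRingHom (e j) _ = _
      rw [IsLocalization.Away.map, IsLocalization.map_eq]
      congr 1
      show ψ (algebraMap A E a) = algebraMap (A ⧸ I) C (Ideal.Quotient.mk I a)
      rw [ψ.commutes]
      rfl
    haveI : Epi (CommRingCat.ofHom (Ideal.Quotient.mk I) ≫
        CommRingCat.ofHom (algebraMap (A ⧸ I) (Localization.Away (ψ (e j))))) := by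
      rw [← hsq]
      exact epi_comp _ _
    exact epi_of_epi (CommRingCat.ofHom (Ideal.Quotient.mk I)) _
  · -- covering
    intro x
    have hx : ∃ j, ψ (e j) ∉ x.asIdeal := by
      by_contra hcon
      push Not at hcon
      have : (1 : C) ∈ x.asIdeal := by
        rw [← hcoi'.complete]
        exact Ideal.sum_mem _ (fun j _ => hcon j)
      exact x.2.ne_top ((Ideal.eq_top_iff_one _).mpr this)
    obtain ⟨j, hj⟩ := hx
    have hr : x ∈ Set.range (PrimeSpectrum.comap (algebraMap C (Localization.Away (ψ (e j))))) := by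
      rw [PrimeSpectrum.localization_away_comap_range (Localization.Away (ψ (e j))) (ψ (e j))]
      exact hj
    exact ⟨j, hr⟩
  · intro i j hij
    rw [Set.disjoint_iff_inter_eq_empty, Set.eq_empty_iff_forall_notMem]
    rintro x ⟨hx1, hx2⟩
    have h1' : x ∈ Set.range (PrimeSpectrum.comap (algebraMap C (Localization.Away (ψ (e i))))) :=
      hx1
    have h2' : x ∈ Set.range (PrimeSpectrum.comap (algebraMap C (Localization.Away (ψ (e j))))) :=
      hx2
    rw [PrimeSpectrum.localization_away_comap_range (Localization.Away (ψ (e i))) (ψ (e i))] at h1'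
    rw [PrimeSpectrum.localization_away_comap_range (Localization.Away (ψ (e j))) (ψ (e j))] at h2'
    have hz : ψ (e i) * ψ (e j) = 0 := hcoi'.ortho hij
    have : ψ (e i) * ψ (e j) ∈ x.asIdeal := by rw [hz]; exact zero_mem _
    rcases x.2.mem_or_mem this with h | h
    · exact h1' h
    · exact h2' h

end Groth.Agent.Lib.Helper3.NSC
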