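import Mathlib
import Groth.Agent.Lib.Helper3NormalSepClosed2
import Groth.Agent.Lib.Helper4NormIso

set_option autoImplicit false
set_option linter.style.haveILetI false
universe u

open CategoryTheory CategoryTheory.Limits AlgebraicGeometry

namespace Groth.Agent.Lib.Helper3.NSC

/-- A morphism which is source-locally an open immersion and injective is an open immersion. -/
theorem isOpenImmersion_of_local_of_injective {X Y : Scheme.{u}} (f : X ⟶ Y)
    (hloc : ∀ x : X, ∃ U : X.Opens, x ∈ U ∧ IsOpenImmersion (U.ι ≫ f))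
    (hinj : Function.Injective f) : IsOpenImmersion f := by
  rw [IsOpenImmersion.iff_isIso_stalkMap]
  constructor
  · refine Topology.IsOpenEmbedding.of_continuous_injective_isOpenMap f.continuous hinj ?_
    intro O hO
    rw [isOpen_iff_forall_mem_open]
    rintro _ ⟨x, hxO, rfl⟩
    obtain ⟨U, hxU, hU⟩ := hloc x
    refine ⟨(U.ι ≫ f) '' (U.ι ⁻¹' O), ?_, ?_, ?_⟩
    · rintro _ ⟨y, hy, rfl⟩
      exact ⟨U.ι y, hy, rfl⟩
    · exact (U.ι ≫ f).isOpenEmbedding.isOpenMap _ (hO.preimage U.ι.continuous)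
    · exact ⟨⟨x, hxU⟩, hxO, rfl⟩
  · intro x
    obtain ⟨U, hxU, hU⟩ := hloc x
    have h1 := Scheme.Hom.stalkMap_comp U.ι f ⟨x, hxU⟩
    have h3 : IsIso ((U.ι ≫ f).stalkMap ⟨x, hxU⟩) :=
      (IsOpenImmersion.iff_isIso_stalkMap.mp hU).2 _
    have h4 : IsIso (U.ι.stalkMap ⟨x, hxU⟩) :=
      (IsOpenImmersion.iff_isIso_stalkMap.mp (inferInstance : IsOpenImmersion U.ι)).2 _
    have h2 : IsIso (f.stalkMap (U.ι ⟨x, hxU⟩) ≫ U.ι.stalkMap ⟨x, hxU⟩) := by
      rw [← h1]; exact h3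
    exact @IsIso.of_isIso_comp_right _ _ _ _ _ (f.stalkMap (U.ι ⟨x, hxU⟩))
      (U.ι.stalkMap ⟨x, hxU⟩) h4 h2

section agree

variable {U X : Scheme.{u}} (g : U ⟶ X)

/-- the local section associated to an open on which `g` is an open immersion -/
noncomputable def sec (G : U.Opens) [IsOpenImmersion (G.ι ≫ g)] :
    ((G.ι ≫ g).opensRange : Scheme.{u}) ⟶ U :=
  (G.ι ≫ g).isoOpensRange.inv ≫ G.ι

theorem sec_comp (G : U.Opens) [IsOpenImmersion (G.ι ≫ g)] :
    sec g G ≫ g = (G.ι ≫ g).opensRange.ι := by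
  rw [sec, Category.assoc, Scheme.Hom.isoOpensRange_inv_comp]

theorem sec_mem (G : U.Opens) [IsOpenImmersion (G.ι ≫ g)] (v : ((G.ι ≫ g).opensRange : Scheme.{u})) :
    sec g G v ∈ G := by
  rw [sec, Scheme.Hom.comp_apply]
  exact ((G.ι ≫ g).isoOpensRange.inv v).2

theorem g_sec (G : U.Opens) [IsOpenImmersion (G.ι ≫ g)] (v : ((G.ι ≫ g).opensRange : Scheme.{u})) :
    g (sec g G v) = v.1 := by
  rw [← Scheme.Hom.comp_apply, sec_comp]
  rfl

theorem injOn_of_isOpenImmersion (G : U.Opens) [IsOpenImmersion (G.ι ≫ g)] {x y : U}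
    (hx : x ∈ G) (hy : y ∈ G) (hxy : g x = g y) : x = y := by
  have hinj : Function.Injective (G.ι ≫ g) := (G.ι ≫ g).isOpenEmbedding.injective
  have : (⟨x, hx⟩ : G) = ⟨y, hy⟩ := hinj (by
    rw [Scheme.Hom.comp_apply, Scheme.Hom.comp_apply]; exact hxy)
  exact congrArg Subtype.val this

theorem mem_opensRange_of_mem (G : U.Opens) [IsOpenImmersion (G.ι ≫ g)] {x : U} (hx : x ∈ G) :
    g x ∈ (G.ι ≫ g).opensRange := ⟨⟨x, hx⟩, by rw [Scheme.Hom.comp_apply]; rfl⟩

set_option maxHeartbeats 1600000 in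
/-- **Agreement lemma**: `g` separated over an integral scheme, open immersion on each of two
overlapping opens, is injective on their union. -/
theorem eq_of_overlap [IsIntegral X] [IsSeparated g]
    (G G' : U.Opens) [IsOpenImmersion (G.ι ≫ g)] [IsOpenImmersion (G'.ι ≫ g)]
    (hne : ((G : Set U) ∩ (G' : Set U)).Nonempty) {x y : U} (hx : x ∈ G) (hy : y ∈ G')
    (hxy : g x = g y) : x = y := by
  obtain ⟨VG, hVG⟩ : ∃ VG : X.Opens, VG = (G.ι ≫ g).opensRange := ⟨_, rfl⟩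
  obtain ⟨VG', hVG'⟩ : ∃ VG' : X.Opens, VG' = (G'.ι ≫ g).opensRange := ⟨_, rfl⟩
  let V : X.Opens := (G.ι ≫ g).opensRange ⊓ (G'.ι ≫ g).opensRange
  have hzV : g x ∈ V := ⟨mem_opensRange_of_mem g G hx, hxy ▸ mem_opensRange_of_mem g G' hy⟩
  haveI : Nonempty V := ⟨⟨g x, hzV⟩⟩
  let a : (V : Scheme.{u}) ⟶ U := X.homOfLE inf_le_left ≫ sec g G
  let b : (V : Scheme.{u}) ⟶ U := X.homOfLE inf_le_right ≫ sec g G'
  have ha : a ≫ g = V.ι := by
    show (X.homOfLE inf_le_left ≫ sec g G) ≫ g = V.ι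
    rw [Category.assoc, sec_comp, Scheme.homOfLE_ι]
  have hb : b ≫ g = V.ι := by
    show (X.homOfLE inf_le_right ≫ sec g G') ≫ g = V.ι
    rw [Category.assoc, sec_comp, Scheme.homOfLE_ι]
  have haG : ∀ v : V, a v ∈ G := fun v => by
    show (X.homOfLE inf_le_left ≫ sec g G) v ∈ G
    rw [Scheme.Hom.comp_apply]; exact sec_mem g G _
  have hbG : ∀ v : V, b v ∈ G' := fun v => by
    show (X.homOfLE inf_le_right ≫ sec g G') v ∈ G'
    rw [Scheme.Hom.comp_apply]; exact sec_mem g G' _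
  have hga : ∀ v : V, g (a v) = v.1 := fun v => by
    rw [← Scheme.Hom.comp_apply, ha]; rfl
  have hgb : ∀ v : V, g (b v) = v.1 := fun v => by
    rw [← Scheme.Hom.comp_apply, hb]; rfl
  -- the key equality
  have hab : a = b := by
    let P : U.Opens := G ⊓ G'
    let V'' : (V : Scheme.{u}).Opens := a ⁻¹ᵁ P ⊓ b ⁻¹ᵁ P
    -- nonempty
    obtain ⟨p, hpG, hpG'⟩ := hne
    have hwV : g p ∈ V := ⟨mem_opensRange_of_mem g G hpG, mem_opensRange_of_mem g G' hpG'⟩
    have hap : a ⟨g p, hwV⟩ = p :=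
      injOn_of_isOpenImmersion g G (haG _) hpG (hga _)
    have hbp : b ⟨g p, hwV⟩ = p :=
      injOn_of_isOpenImmersion g G' (hbG _) hpG' (hgb _)
    have hV''ne : (V'' : Set V).Nonempty := by
      refine ⟨⟨g p, hwV⟩, ?_, ?_⟩
      · show a ⟨g p, hwV⟩ ∈ P
        rw [hap]; exact ⟨hpG, hpG'⟩
      · show b ⟨g p, hwV⟩ ∈ P
        rw [hbp]; exact ⟨hpG, hpG'⟩
    haveI : IsDominant V''.ι := by
      constructor
      show Dense (Set.range V''.ι)
      rw [Scheme.Opens.range_ι]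
      exact V''.isOpen.dense hV''ne
    have hra : Set.range (V''.ι ≫ a) ⊆ Set.range P.ι := by
      rw [Scheme.Opens.range_ι]
      rintro _ ⟨v, rfl⟩
      rw [Scheme.Hom.comp_apply]
      exact v.2.1
    have hrb : Set.range (V''.ι ≫ b) ⊆ Set.range P.ι := by
      rw [Scheme.Opens.range_ι]
      rintro _ ⟨v, rfl⟩
      rw [Scheme.Hom.comp_apply]
      exact v.2.2
    have hPι : P.ι = U.homOfLE (inf_le_left : P ≤ G) ≫ G.ι := (Scheme.homOfLE_ι _ _).symm
    haveI : IsOpenImmersion (P.ι ≫ g) := by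
      rw [hPι, Category.assoc]; infer_instance
    have hlift : IsOpenImmersion.lift P.ι (V''.ι ≫ a) hra = IsOpenImmersion.lift P.ι (V''.ι ≫ b) hrb := by
      have e1 : IsOpenImmersion.lift P.ι (V''.ι ≫ a) hra ≫ (P.ι ≫ g) = V''.ι ≫ V.ι := by
        rw [← Category.assoc, IsOpenImmersion.lift_fac, Category.assoc, ha]
      have e2 : IsOpenImmersion.lift P.ι (V''.ι ≫ b) hrb ≫ (P.ι ≫ g) = V''.ι ≫ V.ι := by
        rw [← Category.assoc, IsOpenImmersion.lift_fac, Category.assoc, hb]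
      rw [← cancel_mono (P.ι ≫ g), e1, e2]
    have hres : V''.ι ≫ a = V''.ι ≫ b := by
      rw [← IsOpenImmersion.lift_fac P.ι (V''.ι ≫ a) hra, hlift, IsOpenImmersion.lift_fac]
    exact ext_of_isDominant_of_isSeparated g (ha.trans hb.symm) V''.ι hres
  have hax : a ⟨g x, hzV⟩ = x := injOn_of_isOpenImmersion g G (haG _) hx (hga _)
  have hby : b ⟨g x, hzV⟩ = y := injOn_of_isOpenImmersion g G' (hbG _) hy ((hgb _).trans hxy)
  rw [← hax, ← hby, hab]

end agree

/-- version of `core_spec` for a surjection `A → Ā` in place of a quotient -/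
theorem core_spec' (A : Type u) [CommRing A] [IsDomain A] [IsIntegrallyClosed A]
    (K : Type u) [Field K] [Algebra A K] [IsFractionRing A K] [IsSepClosed K]
    (Abar C : Type u) [CommRing Abar] [CommRing C] (f : A →+* Abar) (hf : Function.Surjective f)
    (g : Abar →+* C) (hg : g.Etale) :
    ∃ (ι : Type u) (_ : Finite ι) (Vj : ι → Scheme.{u}) (v : ∀ j, Vj j ⟶ Spec (.of C)),
      (∀ j, IsOpenImmersion (v j)) ∧
      (∀ j, IsOpenImmersion (v j ≫ Spec.map (CommRingCat.ofHom g))) ∧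
      (∀ x : Spec (.of C), ∃ j, x ∈ Set.range (v j)) ∧
      (∀ i j, i ≠ j → Disjoint (Set.range (v i)) (Set.range (v j))) := by
  obtain ⟨I, hI⟩ : ∃ I : Ideal A, I = RingHom.ker f := ⟨_, rfl⟩
  let eq : (A ⧸ I) ≃+* Abar := (Ideal.quotEquivOfEq hI).trans
    (RingHom.quotientKerEquivOfSurjective hf)
  letI algAbC : Algebra Abar C := g.toAlgebra
  haveI : Algebra.Etale Abar C := hg
  letI algQAb : Algebra (A ⧸ I) Abar := eq.toRingHom.toAlgebra
  letI algQC : Algebra (A ⧸ I) C := ((algebraMap Abar C).comp (algebraMap (A ⧸ I) Abar)).toAlgebra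
  haveI : IsScalarTower (A ⧸ I) Abar C := IsScalarTower.of_algebraMap_eq' rfl
  haveI : Algebra.Etale (A ⧸ I) Abar := by
    let e' : (A ⧸ I) ≃ₐ[A ⧸ I] Abar := AlgEquiv.ofRingEquiv (f := eq) (fun x => rfl)
    exact Algebra.Etale.of_equiv e'
  haveI : Algebra.Etale (A ⧸ I) C := Algebra.Etale.comp (A ⧸ I) Abar C
  obtain ⟨ι, hι, Vj, v, h1, h2, h3, h4⟩ := core_spec A K I C
  refine ⟨ι, hι, Vj, v, h1, fun j => ?_, h3, h4⟩
  haveI := h2 j
  have hcomp : Spec.map (CommRingCat.ofHom (algebraMap (A ⧸ I) C)) =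
      Spec.map (CommRingCat.ofHom g) ≫ Spec.map (CommRingCat.ofHom eq.toRingHom) := by
    rw [← Spec.map_comp]
    rfl
  haveI : IsIso (Spec.map (CommRingCat.ofHom eq.toRingHom)) := by
    haveI : IsIso (CommRingCat.ofHom eq.toRingHom) :=
      (eq.toCommRingCatIso).isIso_hom
    infer_instance
  haveI : IsOpenImmersion ((v j ≫ Spec.map (CommRingCat.ofHom g)) ≫
      Spec.map (CommRingCat.ofHom eq.toRingHom)) := by
    rw [Category.assoc, ← hcomp]
    infer_instance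
  exact IsOpenImmersion.of_comp _ (Spec.map (CommRingCat.ofHom eq.toRingHom))

set_option maxHeartbeats 1600000 in
/-- every point of an étale scheme over a normal integral scheme with separably closed function
field has an open neighbourhood mapping by an open immersion to the base -/
theorem exists_good_open {U X : Scheme.{u}} [IsIntegral X]
    (hN : ∀ x : X, IsIntegrallyClosed (X.presheaf.stalk x)) [IsSepClosed X.functionField]
    (g : U ⟶ X) [AlgebraicGeometry.Etale g] (x : U) :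
    ∃ G : U.Opens, x ∈ G ∧ IsOpenImmersion (G.ι ≫ g) := by
  obtain ⟨_, ⟨S, hS, rfl⟩, hxS, -⟩ := X.isBasis_affineOpens.exists_subset_of_mem_open
    (Set.mem_univ (g x)) isOpen_univ
  obtain ⟨_, ⟨T, hT, rfl⟩, hxT, hTS⟩ := U.isBasis_affineOpens.exists_subset_of_mem_open
    (show x ∈ (g ⁻¹ᵁ S : Set U) from hxS) (g ⁻¹ᵁ S).isOpen
  haveI : Nonempty S := ⟨⟨g x, hxS⟩⟩
  haveI : IsDomain Γ(X, S) := IsIntegral.component_integral S
  haveI : IsIntegrallyClosed Γ(X, S) :=
    Groth.Agent.Lib.Helper4.NormIso.isIntegrallyClosed_sections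
      (fun x => ⟨inferInstance, hN x⟩) S hS
  haveI : IsFractionRing Γ(X, S) X.functionField :=
    functionField_isFractionRing_of_isAffineOpen X S hS
  have hg : (g.appLE S T hTS).hom.Etale :=
    HasRingHomProperty.appLE @AlgebraicGeometry.Etale g inferInstance ⟨S, hS⟩ ⟨T, hT⟩ hTS
  obtain ⟨ι, hι, Vj, v, h1, h2, h3, -⟩ := core_spec' Γ(X, S) X.functionField Γ(X, S) Γ(U, T)
    (RingHom.id _) Function.surjective_id (g.appLE S T hTS).hom hg
  obtain ⟨j, y, hy⟩ := h3 (hT.primeIdealOf ⟨x, hxT⟩)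
  haveI := h1 j
  haveI h2' : IsOpenImmersion (v j ≫ Spec.map (g.appLE S T hTS)) := h2 j
  refine ⟨(v j ≫ hT.fromSpec).opensRange, ⟨y, ?_⟩, ?_⟩
  · rw [Scheme.Hom.comp_apply, hy]
    exact hT.fromSpec_primeIdealOf ⟨x, hxT⟩
  · have h4 : (v j ≫ hT.fromSpec).opensRange.ι ≫ g =
        (v j ≫ hT.fromSpec).isoOpensRange.inv ≫ (v j ≫ Spec.map (g.appLE S T hTS)) ≫ hS.fromSpec := by
      rw [← Scheme.Hom.isoOpensRange_inv_comp, Category.assoc, Category.assoc, Category.assoc,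
        ← IsAffineOpen.SpecMap_appLE_fromSpec g hS hT hTS]
    rw [h4]
    infer_instance

end Groth.Agent.Lib.Helper3.NSC
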