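import Mathlib

set_option autoImplicit false

universe u

namespace Groth.Agent.Lib.Helper3.OEtSh

section fp

variable {R P T : Type*} [CommRing R] [CommRing P] [Algebra R P] [Algebra.FinitePresentation R P]
  [CommRing T] [Algebra R T]
  {K : Type*} (Tα : K → Type*) [∀ α, CommRing (Tα α)] [∀ α, Algebra R (Tα α)]
  (θ : ∀ α, Tα α →ₐ[R] T)

/-- A map from a finitely presented algebra to a "filtered union" (given by a family of algebras
with finite joint surjectivity and a kernel-killing condition) factors through a member. -/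
theorem exists_factor_of_family
    (surj : ∀ (n : ℕ) (x : Fin n → T), ∃ α, ∃ y : Fin n → Tα α, ∀ k, θ α (y k) = x k)
    (inj : ∀ α (y : Tα α), θ α y = 0 →
      ∃ β, ∃ ρ : Tα α →ₐ[R] Tα β, (θ β).comp ρ = θ α ∧ ρ y = 0)
    (ψ : P →ₐ[R] T) : ∃ α, ∃ ψα : P →ₐ[R] Tα α, (θ α).comp ψα = ψ := by
  classical
  obtain ⟨n, π, hπ, s, hs⟩ := Algebra.FinitePresentation.out (R := R) (A := P)
  obtain ⟨α, y, hy⟩ := surj n (fun k => ψ (π (MvPolynomial.X k)))
  let ev : MvPolynomial (Fin n) R →ₐ[R] Tα α := MvPolynomial.aeval y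
  have hev : (θ α).comp ev = ψ.comp π := by
    apply MvPolynomial.algHom_ext
    intro k
    simp only [AlgHom.comp_apply, ev, MvPolynomial.aeval_X]
    exact hy k
  have hkill : ∀ s' : Finset (MvPolynomial (Fin n) R), (∀ f ∈ s', π f = 0) →
      ∃ β, ∃ ρ : Tα α →ₐ[R] Tα β, (θ β).comp ρ = θ α ∧ ∀ f ∈ s', ρ (ev f) = 0 := by
    intro s'
    induction s' using Finset.induction_on with
    | empty =>
      intro _
      exact ⟨α, AlgHom.id R _, AlgHom.comp_id _, fun f hf => absurd hf (Finset.notMem_empty f)⟩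
    | insert f s'' hf ih =>
      intro h
      obtain ⟨β, ρ, hρ, hρ0⟩ := ih (fun g hg => h g (Finset.mem_insert_of_mem hg))
      have h0 : θ β (ρ (ev f)) = 0 := by
        have h1 := congr($hρ (ev f))
        rw [AlgHom.comp_apply] at h1
        rw [h1]
        have h2 := congr($hev f)
        rw [AlgHom.comp_apply, AlgHom.comp_apply] at h2
        rw [h2, h f (Finset.mem_insert_self f s''), map_zero]
      obtain ⟨γ, ρ', hρ', hρ'0⟩ := inj β (ρ (ev f)) h0
      refine ⟨γ, ρ'.comp ρ, ?_, ?_⟩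
      · rw [← AlgHom.comp_assoc, hρ', hρ]
      · intro g hg
        rcases Finset.mem_insert.1 hg with rfl | hg
        · exact hρ'0
        · rw [AlgHom.comp_apply, hρ0 g hg, map_zero]
  have hsker : ∀ f ∈ s, π f = 0 := by
    intro f hf
    have hf' : f ∈ RingHom.ker π.toRingHom := by
      rw [← hs]; exact Ideal.subset_span hf
    exact hf'
  obtain ⟨β, ρ, hρ, hρ0⟩ := hkill s hsker
  let ev' : MvPolynomial (Fin n) R →ₐ[R] Tα β := ρ.comp ev
  have hle : RingHom.ker π.toRingHom ≤ RingHom.ker ev'.toRingHom := by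
    rw [← hs, Ideal.span_le]
    intro f hf
    exact hρ0 f hf
  let e := Ideal.quotientKerAlgEquivOfSurjective hπ
  have hle' : ∀ a ∈ RingHom.ker π, ev' a = 0 := fun a ha => hle ha
  let ψβ : P →ₐ[R] Tα β :=
    (Ideal.Quotient.liftₐ (RingHom.ker π) ev' hle').comp (e.symm : P →ₐ[R] _)
  refine ⟨β, ψβ, ?_⟩
  apply AlgHom.ext
  intro p
  obtain ⟨q, rfl⟩ := hπ p
  have h1 : (e.symm : P →ₐ[R] _) (π q) = Ideal.Quotient.mk (RingHom.ker π) q := by
    apply e.injective
    show e (e.symm (π q)) = e (Ideal.Quotient.mk _ q)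
    rw [e.apply_symm_apply]
    rfl
  show θ β (Ideal.Quotient.liftₐ (RingHom.ker π) ev' hle' ((e.symm : P →ₐ[R] _) (π q))) = ψ (π q)
  rw [h1]
  show θ β (ρ (ev q)) = ψ (π q)
  have h2 := congr($hρ (ev q))
  rw [AlgHom.comp_apply] at h2
  rw [h2]
  exact congr($hev q)

end fp

end Groth.Agent.Lib.Helper3.OEtSh
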