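import Mathlib

/-!
# Étale refinements of a field-valued point of a scheme (helper9)

For a scheme `U` and `l : Spec Ω ⟶ U` with `Ω` a field:
* `evAt l : Γ(U, ⊤) →+* Ω`, evaluation of global functions;
* `exists_unit_refinement`: a function with nonzero value becomes a unit on an open neighbourhood
  through which `l` factors;
* `exists_root_refinement`: a monic polynomial over `Γ(U, ⊤)` with a simple root `α₀ ∈ Ω` of its
  image acquires a root with value `α₀` on an étale neighbourhood through which `l` factors.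
-/

set_option autoImplicit false
set_option backward.isDefEq.respectTransparency false

universe u

open CategoryTheory CategoryTheory.Limits AlgebraicGeometry Polynomial

namespace Groth.Agent.Lib.Helper9.Hens

variable {U : Scheme.{u}} {Ω : Type u} [Field Ω]

/-- evaluation of global functions at a field-valued point -/
noncomputable def evAt (l : Spec (CommRingCat.of Ω) ⟶ U) : Γ(U, ⊤) →+* Ω :=
  (l.appTop ≫ (Scheme.ΓSpecIso (CommRingCat.of Ω)).hom).hom

lemma evAt_comp {U' : Scheme.{u}} (g : U' ⟶ U) (l' : Spec (CommRingCat.of Ω) ⟶ U')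
    (s : Γ(U, ⊤)) : evAt (l' ≫ g) s = evAt l' (g.appTop s) := by
  simp [evAt]

lemma evAt_specMap {B : CommRingCat.{u}} (f : B ⟶ CommRingCat.of Ω) (b : B) :
    evAt (Spec.map f) ((Scheme.ΓSpecIso B).inv b) = f b := by
  have h := Scheme.ΓSpecIso_naturality f
  have h2 := congrArg (fun k => k.hom ((Scheme.ΓSpecIso B).inv b)) h
  simp only [CommRingCat.hom_comp, RingHom.coe_comp, Function.comp_apply] at h2
  rw [evAt]
  simp only [CommRingCat.hom_comp, RingHom.coe_comp, Function.comp_apply]
  rw [h2]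
  congr 1
  exact congrArg (fun k => k.hom b) (Scheme.ΓSpecIso B).inv_hom_id

lemma comp_toSpecΓ (l : Spec (CommRingCat.of Ω) ⟶ U) :
    l ≫ U.toSpecΓ = Spec.map (CommRingCat.ofHom (evAt l)) := by
  rw [Scheme.toSpecΓ_naturality, ← AlgebraicGeometry.SpecMap_ΓSpecIso_hom, ← Spec.map_comp]
  rfl

/-- a function with nonzero value becomes a unit on an open neighbourhood of the point -/
lemma exists_unit_refinement (l : Spec (CommRingCat.of Ω) ⟶ U) (a : Γ(U, ⊤))
    (ha : evAt l a ≠ 0) :
    ∃ (U' : Scheme.{u}) (j : U' ⟶ U) (_ : IsOpenImmersion j) (l' : Spec (CommRingCat.of Ω) ⟶ U'),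
      l' ≫ j = l ∧ IsUnit (j.appTop a) := by
  have hunit : IsUnit (l.appTop a) := by
    have h1 : IsUnit (evAt l a) := isUnit_iff_ne_zero.2 ha
    have h2 := h1.map (Scheme.ΓSpecIso (CommRingCat.of Ω)).inv.hom
    have h3 : (Scheme.ΓSpecIso (CommRingCat.of Ω)).inv.hom (evAt l a) = l.appTop a := by
      rw [evAt]
      simp only [CommRingCat.hom_comp, RingHom.coe_comp, Function.comp_apply]
      exact congrArg (fun k => k.hom (l.appTop a)) (Scheme.ΓSpecIso (CommRingCat.of Ω)).hom_inv_id
    rwa [h3] at h2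
  have hrange : Set.range l ⊆ Set.range (U.basicOpen a).ι := by
    rintro _ ⟨s, rfl⟩
    rw [Scheme.Opens.range_ι]
    have h1 : s ∈ l ⁻¹ᵁ U.basicOpen a := by
      rw [Scheme.preimage_basicOpen_top, Scheme.basicOpen_of_isUnit _ hunit]
      trivial
    exact h1
  refine ⟨(U.basicOpen a).toScheme, (U.basicOpen a).ι, inferInstance,
    IsOpenImmersion.lift (U.basicOpen a).ι l hrange, IsOpenImmersion.lift_fac _ _ _, ?_⟩
  apply RingedSpace.isUnit_of_isUnit_germ
  intro x
  have hx : x ∈ (U.basicOpen a).toScheme.basicOpen ((U.basicOpen a).ι.appTop a) := by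
    rw [← Scheme.preimage_basicOpen_top]
    exact x.2
  intro _
  exact (Scheme.mem_basicOpen_top (X := (U.basicOpen a).toScheme) _ x).1 hx

/-- a monic polynomial with a simple root at the point acquires a root on an étale neighbourhood -/
lemma exists_root_refinement (l : Spec (CommRingCat.of Ω) ⟶ U) (q : (Γ(U, ⊤))[X]) (hq : q.Monic)
    (α₀ : Ω) (h0 : (q.map (evAt l)).eval α₀ = 0)
    (h1 : (q.map (evAt l)).derivative.eval α₀ ≠ 0) :
    ∃ (U' : Scheme.{u}) (g : U' ⟶ U) (_ : Etale g) (l' : Spec (CommRingCat.of Ω) ⟶ U')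
      (t : Γ(U', ⊤)), l' ≫ g = l ∧ (q.map g.appTop.hom).eval t = 0 ∧ evAt l' t = α₀ := by
  let A : CommRingCat.{u} := Γ(U, ⊤)
  let P : StandardEtalePair A := ⟨q, hq, derivative q, ⟨1, 0, 1, by simp⟩⟩
  let B : CommRingCat.{u} := CommRingCat.of P.Ring
  let φ : A ⟶ B := CommRingCat.ofHom (algebraMap A P.Ring)
  letI : Algebra A Ω := (evAt l).toAlgebra
  have hmap : P.HasMap α₀ := by
    refine ⟨?_, ?_⟩
    · change aeval α₀ q = 0
      rw [aeval_def, eval₂_eq_eval_map]
      exact h0
    · change IsUnit (aeval α₀ (derivative q))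
      rw [aeval_def, eval₂_eq_eval_map, ← Polynomial.derivative_map]
      exact isUnit_iff_ne_zero.2 h1
  let ψ : P.Ring →ₐ[A] Ω := P.lift α₀ hmap
  have hφ : Etale (Spec.map φ) := by
    rw [HasRingHomProperty.Spec_iff (P := @Etale)]
    change (algebraMap A P.Ring).Etale
    rw [RingHom.etale_algebraMap]
    infer_instance
  let U' : Scheme.{u} := pullback U.toSpecΓ (Spec.map φ)
  have hg : Etale (pullback.fst U.toSpecΓ (Spec.map φ)) :=
    MorphismProperty.pullback_fst (P := @Etale) _ _ hφ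
  have hcomm : l ≫ U.toSpecΓ = Spec.map (CommRingCat.ofHom ψ.toRingHom) ≫ Spec.map φ := by
    rw [comp_toSpecΓ, ← Spec.map_comp]
    congr 1
    ext a
    exact (ψ.commutes a).symm
  let l' : Spec (CommRingCat.of Ω) ⟶ U' :=
    pullback.lift l (Spec.map (CommRingCat.ofHom ψ.toRingHom)) hcomm
  let θ : B ⟶ Γ(U', ⊤) :=
    (Scheme.ΓSpecIso B).inv ≫ (pullback.snd U.toSpecΓ (Spec.map φ)).appTop
  have hθ : (pullback.fst U.toSpecΓ (Spec.map φ)).appTop = φ ≫ θ := by
    have hc := congrArg (fun k => Scheme.Hom.appTop k)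
      (pullback.condition (f := U.toSpecΓ) (g := Spec.map φ))
    simp only [Scheme.Hom.comp_appTop, Scheme.toSpecΓ_appTop] at hc
    have hn := Scheme.ΓSpecIso_inv_naturality φ
    change _ = φ ≫ (Scheme.ΓSpecIso B).inv ≫ _
    rw [← Category.assoc, hn, Category.assoc, ← hc, ← Category.assoc, Iso.inv_hom_id,
      Category.id_comp]
  refine ⟨U', pullback.fst _ _, hg, l', θ.hom P.X, pullback.lift_fst _ _ _, ?_, ?_⟩
  · rw [hθ]
    have h2 : (q.map (φ ≫ θ).hom) = (q.map φ.hom).map θ.hom := by
      rw [Polynomial.map_map]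
      rfl
    rw [h2, Polynomial.eval_map_apply]
    have h3 : (q.map φ.hom).eval P.X = 0 := by
      have := (StandardEtalePair.hasMap_X (P := P)).1
      rw [aeval_def, eval₂_eq_eval_map] at this
      exact this
    rw [h3, map_zero]
  · change evAt l' ((pullback.snd U.toSpecΓ (Spec.map φ)).appTop ((Scheme.ΓSpecIso B).inv P.X)) = α₀
    rw [← evAt_comp, pullback.lift_snd, evAt_specMap]
    exact P.lift_X α₀ hmap

end Groth.Agent.Lib.Helper9.Hens
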