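import Mathlib

/-!
# A criterion for a ring of germs to be strictly henselian (helper9)

`R` is a ring all of whose elements are germs `g i a` of elements of rings `A i`, with an evaluation
`ev : R →+* Ω` into a separably closed field such that
* finitely many elements of `R` come from a common `A i`;
* a germ with nonzero value is a unit;
* a monic polynomial over some `A i` with a simple root `α₀ ∈ Ω` of its image has a root in `R`
  with value `α₀`.
Then `R` is a strictly henselian local ring with maximal ideal `ker ev`.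
-/

set_option autoImplicit false

universe u v w u'

open Polynomial IsLocalRing

namespace Groth.Agent.Lib.Helper9.Hens

variable {R : Type u} [CommRing R] {Ω : Type v} [Field Ω]
  {ι : Type w} {A : ι → Type u'} [∀ i, CommRing (A i)]
  (g : ∀ i, A i →+* R) (ev : R →+* Ω)

section

variable (hsurj : ∀ (n : ℕ) (r : Fin n → R), ∃ i, ∃ a : Fin n → A i, ∀ k, g i (a k) = r k)
  (hunit : ∀ i (a : A i), ev (g i a) ≠ 0 → IsUnit (g i a))

include hsurj hunit in
lemma isUnit_iff (r : R) : IsUnit r ↔ ev r ≠ 0 := by
  constructor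
  · intro h hr
    have := h.map ev
    rw [hr] at this
    exact not_isUnit_zero this
  · intro h
    obtain ⟨i, a, ha⟩ := hsurj 1 (fun _ => r)
    rw [← ha 0] at h ⊢
    exact hunit i _ h

include hsurj hunit in
lemma isLocalRing : IsLocalRing R := by
  haveI : Nontrivial R := ev.domain_nontrivial
  refine IsLocalRing.of_nonunits_add ?_
  intro a b ha hb
  rw [mem_nonunits_iff, isUnit_iff g ev hsurj hunit, not_not] at ha hb ⊢
  rw [map_add, ha, hb, add_zero]

include hsurj hunit in
lemma mem_maximalIdeal_iff [IsLocalRing R] (r : R) : r ∈ maximalIdeal R ↔ ev r = 0 := by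
  rw [mem_maximalIdeal, mem_nonunits_iff, isUnit_iff g ev hsurj hunit, not_not]

include hsurj in
lemma exists_monic_lift (f : R[X]) (hf : f.Monic) :
    ∃ i, ∃ q : (A i)[X], q.Monic ∧ q.map (g i) = f := by
  obtain ⟨i, a, ha⟩ := hsurj f.natDegree (fun k => f.coeff k)
  refine ⟨i, X ^ f.natDegree + ∑ k : Fin f.natDegree, C (a k) * X ^ (k : ℕ), ?_, ?_⟩
  · exact Polynomial.monic_X_pow_add (Polynomial.degree_sum_fin_lt _)
  · rw [Polynomial.map_add, Polynomial.map_pow, map_X, Polynomial.map_sum]
    simp only [Polynomial.map_mul, map_C, Polynomial.map_pow, map_X, ha]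
    conv_rhs => rw [hf.as_sum]
    rw [Finset.sum_range]

variable (hhens : ∀ i (q : (A i)[X]), q.Monic → ∀ α₀ : Ω, ((q.map (g i)).map ev).eval α₀ = 0 →
    ((q.map (g i)).map ev).derivative.eval α₀ ≠ 0 → ∃ r : R, (q.map (g i)).eval r = 0 ∧ ev r = α₀)

include hsurj hunit hhens in
theorem henselianLocalRing : HenselianLocalRing R := by
  haveI := isLocalRing g ev hsurj hunit
  refine ⟨fun f hf a₀ h₁ h₂ => ?_⟩
  obtain ⟨i, q, hq, rfl⟩ := exists_monic_lift g hsurj f hf
  have h1 : ev ((q.map (g i)).eval a₀) = 0 := (mem_maximalIdeal_iff g ev hsurj hunit _).1 h₁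
  have h2 : ev ((q.map (g i)).derivative.eval a₀) ≠ 0 := (isUnit_iff g ev hsurj hunit _).1 h₂
  obtain ⟨r, hr, hr'⟩ := hhens i q hq (ev a₀)
    (by rw [Polynomial.eval_map_apply]; exact h1)
    (by rw [Polynomial.derivative_map, Polynomial.eval_map_apply]; exact h2)
  refine ⟨r, hr, ?_⟩
  rw [mem_maximalIdeal_iff g ev hsurj hunit, map_sub, hr', sub_self]

include hsurj hunit hhens in
theorem isSepClosed_residueField [IsSepClosed Ω] [IsLocalRing R] :
    IsSepClosed (ResidueField R) := by
  haveI : IsLocalHom ev := ⟨fun r hr => (isUnit_iff g ev hsurj hunit r).2 hr.ne_zero⟩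
  let evk : ResidueField R →+* Ω := IsLocalRing.ResidueField.lift ev
  have hevk : ∀ r : R, evk (residue R r) = ev r := fun r => IsLocalRing.ResidueField.lift_residue_apply ev r
  apply IsSepClosed.of_exists_root
  intro p hp hirr hsep
  have hlift : p ∈ Polynomial.lifts (residue R) := by
    rw [Polynomial.lifts_iff_coeff_lifts]
    intro n
    exact Set.mem_range.2 (residue_surjective _)
  obtain ⟨f, hfp, -, hf⟩ := Polynomial.lifts_and_natDegree_eq_and_monic hlift hp
  have hmap : f.map ev = p.map evk := by
    rw [← hfp, Polynomial.map_map]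
    congr 1
  have hsep' : (p.map evk).Separable := hsep.map
  have hdeg : (p.map evk).degree ≠ 0 := by
    rw [Polynomial.degree_map]
    exact Polynomial.degree_pos_of_irreducible hirr |>.ne'
  obtain ⟨α₀, hα⟩ := IsSepClosed.exists_root (p.map evk) hdeg hsep'
  have hα' : (p.map evk).derivative.eval α₀ ≠ 0 := by
    intro h0
    obtain ⟨a, b, hab⟩ := hsep'
    have := congrArg (Polynomial.eval α₀) hab
    rw [Polynomial.eval_add, Polynomial.eval_mul, Polynomial.eval_mul, h0, hα.eq_zero, mul_zero,
      mul_zero, add_zero, Polynomial.eval_one] at this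
    exact zero_ne_one this
  obtain ⟨i, q, hq, hqf⟩ := exists_monic_lift g hsurj f hf
  obtain ⟨r, hr, hr'⟩ := hhens i q hq α₀ (by rw [hqf, hmap]; exact hα) (by rw [hqf, hmap]; exact hα')
  refine ⟨residue R r, ?_⟩
  rw [← hfp, Polynomial.eval_map_apply, ← hqf, hr, map_zero]

end

end Groth.Agent.Lib.Helper9.Hens
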