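import Mathlib
import Groth.Agent.Lib.Helper9Hens1

/-!
# Fibres of presheaves of rings at a point of a site: a strictly henselian criterion (helper9)
-/

set_option autoImplicit false
set_option backward.isDefEq.respectTransparency false

universe w w' v u₁ v₁

open CategoryTheory CategoryTheory.Limits Opposite Polynomial

namespace Groth.Agent.Lib.Helper9.Hens

variable {C : Type u₁} [Category.{v₁} C] {J : GrothendieckTopology C}
  (Φ : GrothendieckTopology.Point.{w} J) [LocallySmall.{w} C]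
  (P : Cᵒᵖ ⥤ CommRingCat.{w'}) [HasColimitsOfSize.{w, w} CommRingCat.{w'}]
  [PreservesFilteredColimitsOfSize.{w, w} (forget CommRingCat.{w'})]

/-- the germ maps, as ring homomorphisms indexed by pairs -/
noncomputable def germ (i : Σ X : C, Φ.fiber.obj X) :
    P.obj (op i.1) →+* (Φ.presheafFiber (A := CommRingCat.{w'})).obj P :=
  (Φ.toPresheafFiber i.1 i.2 P).hom

lemma germ_map {X Y : C} (f : X ⟶ Y) (x : Φ.fiber.obj X) (y : Φ.fiber.obj Y)
    (h : Φ.fiber.map f x = y) (a : P.obj (op Y)) :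
    germ Φ P ⟨X, x⟩ (P.map f.op a) = germ Φ P ⟨Y, y⟩ a := by
  subst h
  exact Φ.toPresheafFiber_w_apply f x P a

lemma germ_comp_map {X Y : C} (f : X ⟶ Y) (x : Φ.fiber.obj X) (y : Φ.fiber.obj Y)
    (h : Φ.fiber.map f x = y) :
    (germ Φ P ⟨X, x⟩).comp (P.map f.op).hom = germ Φ P ⟨Y, y⟩ :=
  RingHom.ext (germ_map Φ P f x y h)

lemma germ_surjective_fin (n : ℕ) (r : Fin n → (Φ.presheafFiber (A := CommRingCat.{w'})).obj P) :
    ∃ i : (Σ X : C, Φ.fiber.obj X), ∃ a : Fin n → P.obj (op i.1), ∀ k, germ Φ P i (a k) = r k := by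
  induction n with
  | zero =>
    obtain ⟨e⟩ := (IsCofiltered.nonempty : Nonempty Φ.fiber.Elements)
    exact ⟨⟨e.1, e.2⟩, fun k => k.elim0, fun k => k.elim0⟩
  | succ n ih =>
    obtain ⟨i, a, ha⟩ := ih (fun k => r k.succ)
    obtain ⟨Y, y, b, hb⟩ := Φ.toPresheafFiber_jointly_surjective (P := P) (r 0)
    let ei : Φ.fiber.Elements := ⟨i.1, i.2⟩
    let ej : Φ.fiber.Elements := ⟨Y, y⟩
    let m := IsCofiltered.min ei ej
    let fi : m ⟶ ei := IsCofiltered.minToLeft ei ej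
    let fj : m ⟶ ej := IsCofiltered.minToRight ei ej
    refine ⟨⟨m.1, m.2⟩, Fin.cons (P.map fj.1.op b) (fun k => P.map fi.1.op (a k)), ?_⟩
    intro k
    refine Fin.cases ?_ (fun k => ?_) k
    · rw [Fin.cons_zero]
      rw [germ_map Φ P fj.1 m.2 y fj.2]
      exact hb
    · rw [Fin.cons_succ]
      rw [germ_map Φ P fi.1 m.2 i.2 fi.2]
      exact ha k

variable {Ω : Type v} [Field Ω] [IsSepClosed Ω] (EV : (Φ.presheafFiber (A := CommRingCat.{w'})).obj P →+* Ω)

include EV in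
/-- The fibre of a presheaf of rings at a point of a site is a strictly henselian local ring as
soon as nonvanishing functions are locally units and simple roots lift locally. -/
theorem strictlyHenselian_presheafFiber
    (hunit : ∀ (X : C) (x : Φ.fiber.obj X) (a : P.obj (op X)),
      EV (germ Φ P ⟨X, x⟩ a) ≠ 0 →
      ∃ (Y : C) (f : Y ⟶ X) (y : Φ.fiber.obj Y), Φ.fiber.map f y = x ∧ IsUnit (P.map f.op a))
    (hhens : ∀ (X : C) (x : Φ.fiber.obj X) (q : (P.obj (op X))[X]), q.Monic → ∀ α₀ : Ω,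
      ((q.map (germ Φ P ⟨X, x⟩)).map EV).eval α₀ = 0 →
      ((q.map (germ Φ P ⟨X, x⟩)).map EV).derivative.eval α₀ ≠ 0 →
      ∃ (Y : C) (f : Y ⟶ X) (y : Φ.fiber.obj Y) (t : P.obj (op Y)), Φ.fiber.map f y = x ∧
        (q.map (P.map f.op).hom).eval t = 0 ∧ EV (germ Φ P ⟨Y, y⟩ t) = α₀) :
    IsLocalRing ((Φ.presheafFiber (A := CommRingCat.{w'})).obj P) ∧
      ∃ _ : HenselianLocalRing ((Φ.presheafFiber (A := CommRingCat.{w'})).obj P),
        IsSepClosed (IsLocalRing.ResidueField ((Φ.presheafFiber (A := CommRingCat.{w'})).obj P)) := by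
  have hsurj := germ_surjective_fin Φ P
  have hunit' : ∀ (i : Σ X : C, Φ.fiber.obj X) (a : P.obj (op i.1)),
      EV (germ Φ P i a) ≠ 0 → IsUnit (germ Φ P i a) := by
    rintro ⟨X, x⟩ a ha
    obtain ⟨Y, f, y, hfy, hu⟩ := hunit X x a ha
    rw [← germ_map Φ P f y x hfy]
    exact hu.map _
  have hhens' : ∀ (i : Σ X : C, Φ.fiber.obj X) (q : (P.obj (op i.1))[X]), q.Monic → ∀ α₀ : Ω,
      ((q.map (germ Φ P i)).map EV).eval α₀ = 0 →
      ((q.map (germ Φ P i)).map EV).derivative.eval α₀ ≠ 0 →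
      ∃ r : (Φ.presheafFiber (A := CommRingCat.{w'})).obj P, (q.map (germ Φ P i)).eval r = 0 ∧ EV r = α₀ := by
    rintro ⟨X, x⟩ q hq α₀ h0 h1
    obtain ⟨Y, f, y, t, hfy, ht, hEV⟩ := hhens X x q hq α₀ h0 h1
    refine ⟨germ Φ P ⟨Y, y⟩ t, ?_, hEV⟩
    rw [← germ_comp_map Φ P f y x hfy, ← Polynomial.map_map, Polynomial.eval_map_apply, ht,
      map_zero]
  haveI := isLocalRing (germ Φ P) EV hsurj hunit'
  exact ⟨inferInstance, henselianLocalRing (germ Φ P) EV hsurj hunit' hhens',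
    isSepClosed_residueField (germ Φ P) EV hsurj hunit' hhens'⟩

end Groth.Agent.Lib.Helper9.Hens
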