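import Mathlib
import Groth.Prelude.Def_AlgSpOX3
import Groth.Prelude.Def_EtBase
import Groth.Agent.Lib.Helper9SpPoint
import Groth.Agent.Lib.Helper9Hens2
import Groth.Agent.Lib.Helper9Hens3

/-!
# The étale local ring of an algebraic space at a geometric point is strictly henselian (helper9)
-/

set_option autoImplicit false
set_option linter.style.haveILetI false
set_option backward.isDefEq.respectTransparency false
open CategoryTheory CategoryTheory.Limits AlgebraicGeometry Opposite Polynomial
universe u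

namespace Groth.Agent.Lib.Helper9.Hens

open AlgSp

variable {S : Scheme.{u}} {X : Sp S}

/-- refinement of an object of the small étale site along an étale morphism of schemes -/
noncomputable def refineObj (E : EtOver X) {U' : Scheme.{u}} (g : U' ⟶ E.obj.left.left)
    (hg : Etale g) : EtOver X :=
  EtOver.mk (U := Over.mk (g ≫ E.obj.left.hom))
    ((yon S).map (Over.homMk g rfl : Over.mk (g ≫ E.obj.left.hom) ⟶ E.obj.left) ≫ E.obj.hom)
    ((repWith_isMultiplicative (S := S) @Etale).comp_mem _ _
      ((repWith_yon_map_iff _ _).2 hg) E.property)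

/-- the structure morphism of the refinement -/
noncomputable def refineHom (E : EtOver X) {U' : Scheme.{u}} (g : U' ⟶ E.obj.left.left)
    (hg : Etale g) : refineObj E g hg ⟶ E :=
  EtOver.homMk (Over.homMk g rfl) rfl

/-- the lift of the point to the refinement -/
noncomputable def refineLift (p : FieldPt X) (E : EtOver X) (l : (FieldPt.liftsTo p).obj E)
    {U' : Scheme.{u}} (g : U' ⟶ E.obj.left.left) (hg : Etale g)
    (l' : Spec (CommRingCat.of p.K) ⟶ U') (h : l' ≫ g = l.1.left) :
    (FieldPt.liftsTo p).obj (refineObj E g hg) :=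
  ⟨Over.homMk l' (by
      change l' ≫ g ≫ E.obj.left.hom = p.str
      rw [← Category.assoc, h]
      exact Over.w l.1), by
    change (yon S).map _ ≫ (yon S).map _ ≫ E.obj.hom = p.toHom
    rw [← Category.assoc, ← Functor.map_comp]
    refine Eq.trans ?_ l.2
    congr 2
    exact Over.OverMorphism.ext h⟩

lemma refineLift_map (p : FieldPt X) (E : EtOver X) (l : (FieldPt.liftsTo p).obj E)
    {U' : Scheme.{u}} (g : U' ⟶ E.obj.left.left) (hg : Etale g)
    (l' : Spec (CommRingCat.of p.K) ⟶ U') (h : l' ≫ g = l.1.left) :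
    (FieldPt.liftsTo p).map (refineHom E g hg) (refineLift p E l g hg l' h) = l :=
  Subtype.ext (Over.OverMorphism.ext h)

/-- The étale local ring of an algebraic space at a geometric point is a strictly henselian local
ring. -/
theorem strictlyHenselian_OEtStalk (X : AlgSp.Space S) (p : FieldPt X.obj) (hp : p.IsGeometric) :
    IsLocalRing ↥(OEtStalk p) ∧ EtCoh.IsStrictlyHenselianLocalRing ↥(OEtStalk p) := by
  haveI : IsAlgClosed p.K := hp
  haveI : IsSepClosed p.K := inferInstance
  obtain ⟨⟨fib, cof, ism, js⟩, rfl⟩ := Groth.Agent.Lib.Helper9.SpPoint.main X p hp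
  let Φ : GrothendieckTopology.Point.{u} (etTop X.obj) := ⟨FieldPt.liftsTo p, cof, ism, js⟩
  haveI : HasColimitsOfSize.{u, u} CommRingCat.{u + 1} :=
    hasColimitsOfSizeShrink.{u, u, u + 1, u + 1} _
  haveI : PreservesFilteredColimitsOfSize.{u, u} (forget CommRingCat.{u + 1}) :=
    preservesFilteredColimitsOfSize_shrink.{u, u + 1, u, u + 1} _
  let P : (EtOver X.obj)ᵒᵖ ⥤ CommRingCat.{u + 1} := (OEt X.obj).obj
  let T : CommRingCat.{u + 1} := CommRingCat.of (ULift.{u + 1} p.K)
  let φ : ∀ (E : EtOver X.obj) (_ : Φ.fiber.obj E), P.obj (op E) ⟶ T := fun E l =>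
    CommRingCat.ofHom ((ULift.ringEquiv.{u, u + 1} (R := p.K)).symm.toRingHom.comp
      ((evAt l.1.left).comp (ULift.ringEquiv.{u, u + 1} (R := Γ(E.obj.left.left, ⊤))).toRingHom))
  have hφ : ∀ ⦃E E' : EtOver X.obj⦄ (f : E ⟶ E') (l : Φ.fiber.obj E),
      P.map f.op ≫ φ E l = φ E' (Φ.fiber.map f l) := by
    intro E E' f l
    ext a
    change evAt l.1.left (f.hom.left.left.appTop.hom a.down) =
      evAt (l.1 ≫ f.hom.left).left a.down
    rw [Over.comp_left, evAt_comp]
  let EV : (Φ.presheafFiber (A := CommRingCat.{u + 1})).obj P →+* p.K :=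
    (ULift.ringEquiv.{u, u + 1} (R := p.K)).toRingHom.comp (Φ.presheafFiberDesc φ hφ).hom
  have hEV : ∀ (E : EtOver X.obj) (l : Φ.fiber.obj E) (a : P.obj (op E)),
      EV (germ Φ P ⟨E, l⟩ a) = evAt l.1.left a.down := by
    intro E l a
    have h1 := Φ.toPresheafFiber_presheafFiberDesc φ hφ E l
    have h2 := congrArg (fun k => k.hom a) h1
    simp only [CommRingCat.hom_comp, RingHom.coe_comp, Function.comp_apply] at h2
    change (Φ.presheafFiberDesc φ hφ).hom ((Φ.toPresheafFiber E l P).hom a) = _ at h2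
    change ((Φ.presheafFiberDesc φ hφ).hom ((Φ.toPresheafFiber E l P).hom a)).down = _
    rw [h2]
    rfl
  have key := strictlyHenselian_presheafFiber Φ P EV ?_ ?_
  · exact key
  · intro E l a ha
    rw [hEV] at ha
    obtain ⟨U', j, hj, l', hl', hu⟩ := exists_unit_refinement l.1.left a.down ha
    have hjet : Etale j := inferInstance
    refine ⟨refineObj E j hjet, refineHom E j hjet, refineLift p E l j hjet l' hl',
      refineLift_map p E l j hjet l' hl', ?_⟩
    change IsUnit (ULift.up.{u + 1} (j.appTop.hom a.down))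
    exact hu.map (ULift.ringEquiv.{u, u + 1} (R := Γ(U', ⊤))).symm.toRingHom
  · intro E l q hq α₀ h0 h1
    let ρ : P.obj (op E) →+* Γ(E.obj.left.left, ⊤) :=
      (ULift.ringEquiv.{u, u + 1} (R := Γ(E.obj.left.left, ⊤))).toRingHom
    have hcomp : EV.comp (germ Φ P ⟨E, l⟩) = (evAt l.1.left).comp ρ :=
      RingHom.ext (fun a => hEV E l a)
    have hmm : (q.map (germ Φ P ⟨E, l⟩)).map EV = (q.map ρ).map (evAt l.1.left) := by
      rw [Polynomial.map_map, Polynomial.map_map, hcomp]
    rw [hmm] at h0 h1
    obtain ⟨U', g, hg, l', t, hl', ht, hev⟩ :=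
      exists_root_refinement l.1.left (q.map ρ) (hq.map ρ) α₀ h0 h1
    refine ⟨refineObj E g hg, refineHom E g hg, refineLift p E l g hg l' hl', ULift.up.{u + 1} t,
      refineLift_map p E l g hg l' hl', ?_, ?_⟩
    · let ρ' : P.obj (op (refineObj E g hg)) →+* Γ(U', ⊤) :=
        (ULift.ringEquiv.{u, u + 1} (R := Γ(U', ⊤))).toRingHom
      have hinj : Function.Injective ρ' := (ULift.ringEquiv.{u, u + 1} (R := Γ(U', ⊤))).injective
      apply hinj
      rw [map_zero, ← Polynomial.eval_map_apply, Polynomial.map_map]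
      have hc : ρ'.comp (P.map (refineHom E g hg).op).hom = g.appTop.hom.comp ρ := rfl
      rw [hc, ← Polynomial.map_map]
      exact ht
    · rw [hEV]
      exact hev

end Groth.Agent.Lib.Helper9.Hens
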