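import Mathlib
import Groth.Prelude.Def_AlgSpOX3
import Groth.Agent.Lib.Helper9Hens4
import Groth.Agent.Lib.Helper9SpPoint5

set_option autoImplicit false
set_option linter.style.haveILetI false
set_option backward.isDefEq.respectTransparency false
open CategoryTheory CategoryTheory.Limits AlgebraicGeometry Opposite
universe u

namespace Groth.Agent.Lib.Helper3.OEtSh

open AlgSp Groth.Agent.Lib.Helper9.Hens

section Basic

variable {S : Scheme.{u}} {X : Sp S} (p : FieldPt X)

/-- the germ map from global functions on an etale neighbourhood to the etale local ring -/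
noncomputable def germR (E : EtOver X) (l : (FieldPt.liftsTo p).obj E) :
    Γ(E.obj.left.left, ⊤) →+* ↥(OEtStalk p) :=
  (stalkEtι p (OEt X) ⟨E, l⟩).hom.comp
    ((ULift.ringEquiv.{u, u + 1} (R := Γ(E.obj.left.left, ⊤))).symm.toRingHom)

lemma germR_apply (E : EtOver X) (l : (FieldPt.liftsTo p).obj E) (a : Γ(E.obj.left.left, ⊤)) :
    germR p E l a = (stalkEtι p (OEt X) ⟨E, l⟩).hom (ULift.up a) := rfl

lemma germR_map {E' E : EtOver X} (f : E' ⟶ E) (l' : (FieldPt.liftsTo p).obj E')
    (l : (FieldPt.liftsTo p).obj E) (h : (FieldPt.liftsTo p).map f l' = l)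
    (a : Γ(E.obj.left.left, ⊤)) :
    germR p E' l' (f.hom.left.left.appTop.hom a) = germR p E l a := by
  let e' : EtNbhd p := ⟨E', l'⟩
  let e : EtNbhd p := ⟨E, l⟩
  let φ : e' ⟶ e := ⟨f, h⟩
  have h1 := colimit.w (stalkEtDiagram p (OEt X)) φ.op
  have h2 := congrArg (fun k => k.hom (ULift.up a)) h1
  exact h2


/-- evaluation of germs at the point: the cocone -/
noncomputable def evCocone : Cocone (stalkEtDiagram p (OEt X)) where
  pt := CommRingCat.of (ULift.{u + 1} p.K)
  ι :=
    { app := fun N => CommRingCat.ofHom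
        ((ULift.ringEquiv.{u, u + 1} (R := p.K)).symm.toRingHom.comp
          ((evAt N.unop.2.1.left).comp
            (ULift.ringEquiv.{u, u + 1} (R := Γ(N.unop.1.obj.left.left, ⊤))).toRingHom))
      naturality := by
        intro N N' f
        ext a
        have := f.unop.2
        change ULift.up (evAt N'.unop.2.1.left (f.unop.1.hom.left.left.appTop.hom a.down)) =
          ULift.up (evAt N.unop.2.1.left a.down)
        have h2 : N'.unop.2.1 ≫ f.unop.1.hom.left = N.unop.2.1 := congrArg Subtype.val this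
        have h3 : N'.unop.2.1.left ≫ f.unop.1.hom.left.left = N.unop.2.1.left :=
          congrArg (fun k => k.left) h2
        rw [← evAt_comp, h3] }

/-- evaluation of the etale local ring at the point -/
noncomputable def EVR : ↥(OEtStalk p) →+* p.K :=
  (ULift.ringEquiv.{u, u + 1} (R := p.K)).toRingHom.comp (colimit.desc _ (evCocone p)).hom

lemma EVR_germR (E : EtOver X) (l : (FieldPt.liftsTo p).obj E) (a : Γ(E.obj.left.left, ⊤)) :
    EVR p (germR p E l a) = evAt l.1.left a := by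
  let e : EtNbhd p := ⟨E, l⟩
  have h1 := colimit.ι_desc (evCocone p) (op e)
  have h2 := congrArg (fun k => k.hom (ULift.up a)) h1
  simp only [CommRingCat.hom_comp, RingHom.coe_comp, Function.comp_apply] at h2
  exact congrArg ULift.down h2


end Basic

section Geom

variable {S : Scheme.{u}} (X : AlgSp.Space S) (p : FieldPt X.obj) (hp : p.IsGeometric)

include hp in
lemma germR_surjective_fin (n : ℕ) (r : Fin n → ↥(OEtStalk p)) :
    ∃ (E : EtOver X.obj) (l : (FieldPt.liftsTo p).obj E) (a : Fin n → Γ(E.obj.left.left, ⊤)),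
      ∀ k, germR p E l (a k) = r k := by
  obtain ⟨⟨fib, cof, ism, js⟩, rfl⟩ := Groth.Agent.Lib.Helper9.SpPoint.main X p hp
  let Φ : GrothendieckTopology.Point.{u} (etTop X.obj) := ⟨FieldPt.liftsTo p, cof, ism, js⟩
  haveI : HasColimitsOfSize.{u, u} CommRingCat.{u + 1} :=
    hasColimitsOfSizeShrink.{u, u, u + 1, u + 1} _
  haveI : PreservesFilteredColimitsOfSize.{u, u} (forget CommRingCat.{u + 1}) :=
    preservesFilteredColimitsOfSize_shrink.{u, u + 1, u, u + 1} _
  obtain ⟨i, a, ha⟩ := germ_surjective_fin Φ (OEt X.obj).obj n r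
  exact ⟨i.1, i.2, fun k => (a k).down, ha⟩

include hp in
lemma germR_eq_zero (E : EtOver X.obj) (l : (FieldPt.liftsTo p).obj E) (a : Γ(E.obj.left.left, ⊤))
    (h : germR p E l a = 0) :
    ∃ (E' : EtOver X.obj) (f : E' ⟶ E) (l' : (FieldPt.liftsTo p).obj E'),
      (FieldPt.liftsTo p).map f l' = l ∧ f.hom.left.left.appTop.hom a = 0 := by
  obtain ⟨⟨fib, cof, ism, js⟩, rfl⟩ := Groth.Agent.Lib.Helper9.SpPoint.main X p hp
  let Φ : GrothendieckTopology.Point.{u} (etTop X.obj) := ⟨FieldPt.liftsTo p, cof, ism, js⟩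
  haveI : HasColimitsOfSize.{u, u} CommRingCat.{u + 1} :=
    hasColimitsOfSizeShrink.{u, u, u + 1, u + 1} _
  haveI : PreservesFilteredColimitsOfSize.{u, u} (forget CommRingCat.{u + 1}) :=
    preservesFilteredColimitsOfSize_shrink.{u, u + 1, u, u + 1} _
  have h1 : Φ.toPresheafFiber E l (OEt X.obj).obj (ULift.up a) =
      Φ.toPresheafFiber E l (OEt X.obj).obj (ULift.up 0) := by
    refine Eq.trans h ?_
    exact (map_zero (Φ.toPresheafFiber E l (OEt X.obj).obj).hom).symm
  rw [GrothendieckTopology.Point.toPresheafFiber_eq_iff'] at h1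
  obtain ⟨E', f, l', hl', hf⟩ := h1
  refine ⟨E', f, l', hl', ?_⟩
  have h2 := congrArg ULift.down hf
  refine Eq.trans h2 ?_
  exact map_zero f.hom.left.left.appTop.hom

lemma isUnit_germR_iff (E : EtOver X.obj) (l : (FieldPt.liftsTo p).obj E)
    (a : Γ(E.obj.left.left, ⊤)) : IsUnit (germR p E l a) ↔ evAt l.1.left a ≠ 0 := by
  constructor
  · intro h h0
    have h1 := h.map (EVR p)
    rw [EVR_germR, h0] at h1
    exact not_isUnit_zero h1
  · intro ha
    obtain ⟨U', j, hj, l', hl', hu⟩ := exists_unit_refinement l.1.left a ha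
    have hjet : Etale j := inferInstance
    rw [← germR_map p (refineHom E j hjet) (refineLift p E l j hjet l' hl') l
      (refineLift_map p E l j hjet l' hl') a]
    exact hu.map (germR p (refineObj E j hjet) (refineLift p E l j hjet l' hl'))


include hp in
/-- the etale local ring at a geometric point is `u`-small -/
lemma small_OEtStalk : Small.{u} ↥(OEtStalk p) := by
  obtain ⟨⟨fib, cof, ism, js⟩, rfl⟩ := Groth.Agent.Lib.Helper9.SpPoint.main X p hp
  haveI := ism
  obtain ⟨s₀, hs₀small, hs₀⟩ :=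
    InitiallySmall.exists_small_weakly_initial_set.{u} (FieldPt.liftsTo p).Elements
  haveI := hs₀small
  let F : (Σ j : s₀, Γ(j.1.1.obj.left.left, ⊤)) → ↥(OEtStalk p) :=
    fun x => germR p x.1.1.1 x.1.1.2 x.2
  refine small_of_surjective (f := F) ?_
  intro t
  obtain ⟨E, l, a, ha⟩ := germR_surjective_fin X p hp 1 (fun _ => t)
  obtain ⟨j, hj, ⟨φ⟩⟩ := hs₀ ⟨E, l⟩
  refine ⟨⟨⟨j, hj⟩, φ.1.hom.left.left.appTop.hom (a 0)⟩, ?_⟩
  change germR p j.1 j.2 (φ.1.hom.left.left.appTop.hom (a 0)) = t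
  rw [germR_map p φ.1 j.2 l φ.2, ha 0]

/-- common refinement of two etale neighbourhoods -/
lemma exists_common (E₁ E₂ : EtOver X.obj) (l₁ : (FieldPt.liftsTo p).obj E₁)
    (l₂ : (FieldPt.liftsTo p).obj E₂) :
    ∃ (E₃ : EtOver X.obj) (l₃ : (FieldPt.liftsTo p).obj E₃) (f₁ : E₃ ⟶ E₁) (f₂ : E₃ ⟶ E₂),
      (FieldPt.liftsTo p).map f₁ l₃ = l₁ ∧ (FieldPt.liftsTo p).map f₂ l₃ = l₂ := by
  let e₁ : (FieldPt.liftsTo p).Elements := ⟨E₁, l₁⟩
  let e₂ : (FieldPt.liftsTo p).Elements := ⟨E₂, l₂⟩
  obtain ⟨W, f, g, -⟩ := IsCofilteredOrEmpty.cone_objs e₁ e₂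
  exact ⟨W.1, W.2, f.1, g.1, f.2, g.2⟩

/-- refinement to an affine neighbourhood -/
lemma exists_affine_refinement (E : EtOver X.obj) (l : (FieldPt.liftsTo p).obj E) :
    ∃ (E' : EtOver X.obj) (f : E' ⟶ E) (l' : (FieldPt.liftsTo p).obj E'),
      (FieldPt.liftsTo p).map f l' = l ∧ IsAffine E'.obj.left.left ∧
        IsOpenImmersion f.hom.left.left := by
  let U := E.obj.left.left
  let u : U := l.1.left (default : Spec (CommRingCat.of p.K))
  obtain ⟨_, ⟨W₀, hW, rfl⟩, huW, -⟩ := U.isBasis_affineOpens.exists_subset_of_mem_open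
    (Set.mem_univ u) isOpen_univ
  let W : U.Opens := W₀
  have hrange : Set.range l.1.left ⊆ Set.range W.ι := by
    rintro _ ⟨s, rfl⟩
    rw [Scheme.Opens.range_ι]
    have : s = (default : Spec (CommRingCat.of p.K)) :=
      Subsingleton.elim (α := Spec (CommRingCat.of p.K)) _ _
    rw [this]
    exact huW
  have hjet : Etale W.ι := inferInstance
  let l' : Spec (CommRingCat.of p.K) ⟶ W.toScheme := IsOpenImmersion.lift W.ι l.1.left hrange
  have hl' : l' ≫ W.ι = l.1.left := IsOpenImmersion.lift_fac _ _ _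
  refine ⟨refineObj E W.ι hjet, refineHom E W.ι hjet, refineLift p E l W.ι hjet l' hl',
    refineLift_map p E l W.ι hjet l' hl', ?_, ?_⟩
  · exact hW
  · change IsOpenImmersion W.ι
    infer_instance

end Geom

end Groth.Agent.Lib.Helper3.OEtSh
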