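import Mathlib
import Groth.Agent.Lib.Helper9Hens2

set_option autoImplicit false
set_option linter.style.haveILetI false
set_option backward.isDefEq.respectTransparency false
open CategoryTheory CategoryTheory.Limits AlgebraicGeometry Opposite
universe u

namespace Groth.Agent.Lib.Helper3.OEtSh

open Groth.Agent.Lib.Helper9.Hens

section Sch

variable {U : Scheme.{u}} {Ω : Type u} [Field Ω]

lemma evAt_ne_zero_iff (l : Spec (CommRingCat.of Ω) ⟶ U) (a : Γ(U, ⊤)) :
    evAt l a ≠ 0 ↔ l (default : Spec (CommRingCat.of Ω)) ∈ U.basicOpen a := by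
  have h3 : (Scheme.ΓSpecIso (CommRingCat.of Ω)).inv.hom (evAt l a) = l.appTop a := by
    rw [evAt]
    simp only [CommRingCat.hom_comp, RingHom.coe_comp, Function.comp_apply]
    exact congrArg (fun k => k.hom (l.appTop a)) (Scheme.ΓSpecIso (CommRingCat.of Ω)).hom_inv_id
  constructor
  · intro ha
    have hunit : IsUnit (l.appTop a) := by
      have h1 : IsUnit (evAt l a) := isUnit_iff_ne_zero.2 ha
      have h2 := h1.map (Scheme.ΓSpecIso (CommRingCat.of Ω)).inv.hom
      rwa [h3] at h2
    have h1 : (default : Spec (CommRingCat.of Ω)) ∈ l ⁻¹ᵁ U.basicOpen a := by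
      rw [Scheme.preimage_basicOpen_top, Scheme.basicOpen_of_isUnit _ hunit]
      trivial
    exact h1
  · intro h
    have h1 : (default : Spec (CommRingCat.of Ω)) ∈ l ⁻¹ᵁ U.basicOpen a := h
    rw [Scheme.preimage_basicOpen_top] at h1
    have hunit : IsUnit (l.appTop a) := by
      apply RingedSpace.isUnit_of_isUnit_germ
      intro x _
      have hx : x = (default : Spec (CommRingCat.of Ω)) :=
        Subsingleton.elim (α := Spec (CommRingCat.of Ω)) _ _
      rw [hx] at *
      exact (Scheme.mem_basicOpen_top (X := Spec (CommRingCat.of Ω)) _ _).1 h1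
    have h2 := hunit.map (Scheme.ΓSpecIso (CommRingCat.of Ω)).hom.hom
    have h4 : (Scheme.ΓSpecIso (CommRingCat.of Ω)).hom.hom (l.appTop a) = evAt l a := rfl
    rw [h4] at h2
    exact h2.ne_zero


lemma mem_primeCompl_iff [IsAffine U] (u : U) (a : Γ(U, ⊤)) :
    a ∈ ((isAffineOpen_top U).primeIdealOf ⟨u, trivial⟩).asIdeal.primeCompl ↔
      u ∈ U.basicOpen a := by
  letI := TopCat.Presheaf.algebra_section_stalk U.presheaf (⟨u, trivial⟩ : ↥(⊤ : U.Opens))
  haveI := (isAffineOpen_top U).isLocalization_stalk ⟨u, trivial⟩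
  rw [← IsLocalization.AtPrime.isUnit_to_map_iff (U.presheaf.stalk u)
    ((isAffineOpen_top U).primeIdealOf ⟨u, trivial⟩).asIdeal a, Scheme.mem_basicOpen_top]
  rfl

end Sch

end Groth.Agent.Lib.Helper3.OEtSh
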