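import Mathlib
import Groth.Agent.Lib.Helper3OEtShA
import Groth.Agent.Lib.Helper3OEtShB
import Groth.Agent.Lib.Helper3IndEt
import Groth.Agent.Lib.Helper3FldBCa
import Groth.Agent.Lib.Helper16HenselInv
import Groth.Agent.Lib.Helper3OEtShC

set_option autoImplicit false
set_option linter.style.haveILetI false
set_option backward.isDefEq.respectTransparency false
open CategoryTheory CategoryTheory.Limits AlgebraicGeometry Opposite
universe u

namespace Groth.Agent.Lib.Helper3.OEtSh

open AlgSp Groth.Agent.Lib.Helper9.Hens Groth.Agent.Lib.Helper3.IndEt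

section Aff

variable {S : Scheme.{u}} (X : AlgSp.Space S) (p : FieldPt X.obj) (hp : p.IsGeometric)
  (E : EtOver X.obj) (l : (FieldPt.liftsTo p).obj E)

/-- affine etale neighbourhoods of the point refining `(E, l)` -/
structure Nb where
  E' : EtOver X.obj
  f : E' ⟶ E
  l' : (FieldPt.liftsTo p).obj E'
  hl : (FieldPt.liftsTo p).map f l' = l
  aff : IsAffine E'.obj.left.left

variable {X p E l} in
/-- the ring of functions of an affine neighbourhood -/
def Nb.ring (α : Nb X p E l) : Type u := Γ(α.E'.obj.left.left, ⊤)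

noncomputable instance (α : Nb X p E l) : CommRing α.ring :=
  inferInstanceAs (CommRing Γ(α.E'.obj.left.left, ⊤))

noncomputable instance (α : Nb X p E l) : Algebra Γ(E.obj.left.left, ⊤) α.ring :=
  (α.f.hom.left.left.appTop).hom.toAlgebra

lemma Nb.algebraMap_apply (α : Nb X p E l) (a : Γ(E.obj.left.left, ⊤)) :
    algebraMap Γ(E.obj.left.left, ⊤) α.ring a = α.f.hom.left.left.appTop.hom a := rfl

instance [IsAffine E.obj.left.left] (α : Nb X p E l) :
    Algebra.Etale Γ(E.obj.left.left, ⊤) α.ring := by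
  haveI := α.aff
  have h1 : Etale α.f.hom.left.left := EtOver.etale_left α.f
  have h2 := (HasRingHomProperty.iff_of_isAffine (P := @Etale)).1 h1
  exact RingHom.etale_algebraMap.1 h2

/-- refining an affine neighbourhood -/
lemma Nb.refine (α : Nb X p E l) (E₂ : EtOver X.obj) (h : E₂ ⟶ α.E')
    (l₂ : (FieldPt.liftsTo p).obj E₂) (hl₂ : (FieldPt.liftsTo p).map h l₂ = α.l')
    (haff : IsAffine E₂.obj.left.left) :
    ∃ β : Nb X p E l, ∃ ρ : α.ring →ₐ[Γ(E.obj.left.left, ⊤)] β.ring,
      (∀ z, germR p β.E' β.l' (ρ z) = germR p α.E' α.l' z) ∧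
        ∀ y, h.hom.left.left.appTop.hom y = 0 → ρ y = 0 := by
  have hl : (FieldPt.liftsTo p).map (h ≫ α.f) l₂ = l := by
    rw [Functor.map_comp]
    change (FieldPt.liftsTo p).map α.f ((FieldPt.liftsTo p).map h l₂) = l
    rw [hl₂, α.hl]
  refine ⟨⟨E₂, h ≫ α.f, l₂, hl, haff⟩,
    { h.hom.left.left.appTop.hom with
      commutes' := by
        intro a
        rfl }, ?_, ?_⟩
  · intro z
    exact germR_map p h l₂ α.l' hl₂ z
  · intro y hy
    exact hy

include hp in
/-- maps from finitely presented algebras over the functions of an affine neighbourhood to the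
etale local ring factor through an etale algebra -/
theorem factor_affine [IsAffine E.obj.left.left] (T₀ : Type u) [CommRing T₀]
    (e : T₀ ≃+* ↥(OEtStalk p)) [Algebra Γ(E.obj.left.left, ⊤) T₀]
    (halg : ∀ a, e (algebraMap Γ(E.obj.left.left, ⊤) T₀ a) = germR p E l a) :
    Obj.Factor Γ(E.obj.left.left, ⊤) T₀ := by
  intro P _ _ _ ψ
  let θ : ∀ α : Nb X p E l, α.ring →ₐ[Γ(E.obj.left.left, ⊤)] T₀ := fun α =>
    { (e.symm : ↥(OEtStalk p) →+* T₀).comp (germR p α.E' α.l') with
      commutes' := by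
        intro a
        apply e.injective
        change e (e.symm (germR p α.E' α.l' (α.f.hom.left.left.appTop.hom a))) = _
        rw [e.apply_symm_apply, halg, germR_map p α.f α.l' l α.hl] }
  have hθ : ∀ (α : Nb X p E l) (y : α.ring), e (θ α y) = germR p α.E' α.l' y := by
    intro α y
    change e (e.symm (germR p α.E' α.l' y)) = _
    rw [e.apply_symm_apply]
  have hsurj : ∀ (n : ℕ) (x : Fin n → T₀), ∃ α : Nb X p E l, ∃ y : Fin n → α.ring,
      ∀ k, θ α (y k) = x k := by
    -- joint surjectivity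
    intro n x
    obtain ⟨E₁, l₁, a, ha⟩ := germR_surjective_fin X p hp n (fun k => e (x k))
    obtain ⟨E₂, l₂, f₁, f₂, h₁, h₂⟩ := exists_common X p E₁ E l₁ l
    obtain ⟨E₃, g, l₃, h₃, haff, -⟩ := exists_affine_refinement X p E₂ l₂
    have hl : (FieldPt.liftsTo p).map (g ≫ f₂) l₃ = l := by
      rw [Functor.map_comp]
      change (FieldPt.liftsTo p).map f₂ ((FieldPt.liftsTo p).map g l₃) = l
      rw [h₃, h₂]
    have hl₁ : (FieldPt.liftsTo p).map (g ≫ f₁) l₃ = l₁ := by
      rw [Functor.map_comp]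
      change (FieldPt.liftsTo p).map f₁ ((FieldPt.liftsTo p).map g l₃) = l₁
      rw [h₃, h₁]
    refine ⟨⟨E₃, g ≫ f₂, l₃, hl, haff⟩, fun k => (g ≫ f₁).hom.left.left.appTop.hom (a k), ?_⟩
    intro k
    apply e.injective
    rw [hθ]
    change germR p E₃ l₃ ((g ≫ f₁).hom.left.left.appTop.hom (a k)) = _
    rw [germR_map p (g ≫ f₁) l₃ l₁ hl₁, ha]
  have hinj : ∀ (α : Nb X p E l) (y : α.ring), θ α y = 0 →
      ∃ β : Nb X p E l, ∃ ρ : α.ring →ₐ[Γ(E.obj.left.left, ⊤)] β.ring,
        (θ β).comp ρ = θ α ∧ ρ y = 0 := by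
    -- killing kernels
    intro α y hy
    have h0 : germR p α.E' α.l' y = 0 := by
      rw [← hθ, hy, map_zero]
    obtain ⟨E₁, f₁, l₁, h₁, hf₁⟩ := germR_eq_zero X p hp α.E' α.l' y h0
    obtain ⟨E₂, g, l₂, h₂, haff, -⟩ := exists_affine_refinement X p E₁ l₁
    have hl' : (FieldPt.liftsTo p).map (g ≫ f₁) l₂ = α.l' := by
      rw [Functor.map_comp]
      change (FieldPt.liftsTo p).map f₁ ((FieldPt.liftsTo p).map g l₂) = α.l'
      rw [h₂, h₁]
    obtain ⟨β, ρ, hρ1, hρ2⟩ := Nb.refine X p E l α E₂ (g ≫ f₁) l₂ hl' haff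
    refine ⟨β, ρ, ?_, ?_⟩
    · apply AlgHom.ext
      intro z
      apply e.injective
      rw [AlgHom.comp_apply, hθ, hθ]
      exact hρ1 z
    · apply hρ2
      change g.hom.left.left.appTop.hom (f₁.hom.left.left.appTop.hom y) = 0
      rw [hf₁, map_zero]
  obtain ⟨α, ψα, hψ⟩ := exists_factor_of_family (fun α : Nb X p E l => α.ring) θ hsurj hinj ψ
  exact ⟨α.ring, inferInstance, inferInstance, inferInstance, ψα, θ α, hψ⟩


include hp in
/-- the etale local ring at a geometric point is a strict henselization of the local ring of an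
affine etale neighbourhood -/
theorem exists_sh_affine [IsAffine E.obj.left.left] :
    ∃ (T₀ : Type u) (_ : CommRing T₀) (_ : IsLocalRing T₀) (e : T₀ ≃+* ↥(OEtStalk p))
      (_ : Algebra ↥(E.obj.left.left.presheaf.stalk
        (l.1.left (default : Spec (CommRingCat.of p.K)))) T₀)
      (_ : IsLocalHom (algebraMap ↥(E.obj.left.left.presheaf.stalk
        (l.1.left (default : Spec (CommRingCat.of p.K)))) T₀)),
      Hensel.IsStrictHenselization ↥(E.obj.left.left.presheaf.stalk
        (l.1.left (default : Spec (CommRingCat.of p.K)))) T₀ ∧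
      ∀ a : Γ(E.obj.left.left, ⊤),
        e (algebraMap ↥(E.obj.left.left.presheaf.stalk
          (l.1.left (default : Spec (CommRingCat.of p.K)))) T₀
          (E.obj.left.left.presheaf.germ ⊤ (l.1.left (default : Spec (CommRingCat.of p.K)))
            trivial a)) = germR p E l a := by
  haveI : IsAlgClosed p.K := hp
  haveI : IsSepClosed p.K := inferInstance
  haveI := small_OEtStalk X p hp
  let U := E.obj.left.left
  let u : U := l.1.left (default : Spec (CommRingCat.of p.K))
  let A := Γ(U, ⊤)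
  let R := U.presheaf.stalk u
  let T₀ := Shrink.{u} ↥(OEtStalk p)
  let e : T₀ ≃+* ↥(OEtStalk p) := Shrink.ringEquiv ↥(OEtStalk p)
  obtain ⟨hloc, hH, hsc⟩ := strictlyHenselian_OEtStalk X p hp
  haveI := hloc
  haveI := hH
  haveI := hsc
  haveI : HenselianLocalRing T₀ := Groth.Agent.Lib.Helper16HenselInv.henselian_of_ringEquiv e.symm
  haveI : IsSepClosed (IsLocalRing.ResidueField T₀) :=
    Groth.Agent.Lib.Helper16HenselInv.isSepClosed_of_ringEquiv
      (IsLocalRing.ResidueField.mapEquiv e.symm)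
  let φA : A →+* T₀ := (e.symm : ↥(OEtStalk p) →+* T₀).comp (germR p E l)
  have hφA : ∀ a, e (φA a) = germR p E l a := fun a => e.apply_symm_apply _
  let hU := isAffineOpen_top U
  let x₀ : ↥(⊤ : U.Opens) := ⟨u, trivial⟩
  let 𝔭 : Ideal A := (hU.primeIdealOf x₀).asIdeal
  letI algAR : Algebra A R := TopCat.Presheaf.algebra_section_stalk U.presheaf x₀
  haveI hlocAR : IsLocalization.AtPrime R 𝔭 := hU.isLocalization_stalk x₀
  have hkey : ∀ a : A, a ∈ 𝔭.primeCompl ↔ evAt l.1.left a ≠ 0 := by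
    intro a
    rw [evAt_ne_zero_iff]
    exact mem_primeCompl_iff u a
  have hunits : ∀ y : 𝔭.primeCompl, IsUnit (φA y) := by
    intro y
    have h1 : IsUnit (germR p E l y) := (isUnit_germR_iff X p E l y).2 ((hkey y).1 y.2)
    exact h1.map (e.symm : ↥(OEtStalk p) →+* T₀)
  let ψ : R →+* T₀ := IsLocalization.lift (M := 𝔭.primeCompl) (g := φA) hunits
  have hψ : ∀ a : A, ψ (algebraMap A R a) = φA a := fun a => IsLocalization.lift_eq hunits a
  letI algAT : Algebra A T₀ := φA.toAlgebra
  letI algRT : Algebra R T₀ := ψ.toAlgebra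
  haveI : IsScalarTower A R T₀ := IsScalarTower.of_algebraMap_eq (fun a => (hψ a).symm)
  haveI hlocal : IsLocalHom (algebraMap R T₀) := by
    refine ⟨fun r hr => ?_⟩
    obtain ⟨a, s, rfl⟩ := IsLocalization.exists_mk'_eq 𝔭.primeCompl r
    have h1 : ψ (IsLocalization.mk' R a s) * φA s = φA a := by
      rw [← hψ, ← hψ a, ← map_mul, IsLocalization.mk'_spec]
    have h2 : IsUnit (φA a) := by
      rw [← h1]
      exact hr.mul (hunits s)
    have h3 : IsUnit (germR p E l a) := by
      have := h2.map (e : T₀ →+* ↥(OEtStalk p))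
      rwa [RingHom.coe_coe, hφA] at this
    have h4 : a ∈ 𝔭.primeCompl := (hkey a).2 ((isUnit_germR_iff X p E l a).1 h3)
    have h5 : IsUnit (algebraMap A R a) := IsLocalization.map_units R ⟨a, h4⟩
    rw [← IsLocalization.mk'_spec R a s] at h5
    exact isUnit_of_mul_isUnit_left h5
  have hfac : Obj.Factor A T₀ := factor_affine X p hp E l T₀ e hφA
  have hind : EtPBC.IsIndEtale A T₀ := isIndEtale_of_factor hfac
  have hindR : EtPBC.IsIndEtale R T₀ :=
    Groth.Agent.Lib.Helper3.FldBC.isIndEtale_of_isLocalization A 𝔭.primeCompl R T₀ hind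
  refine ⟨T₀, inferInstance, inferInstance, e, algRT, hlocal,
    Groth.Agent.Lib.Helper3.FldBC.isStrictHenselization_of_isIndEtale R T₀ hindR, ?_⟩
  intro a
  change e (ψ (algebraMap A R a)) = _
  rw [hψ, hφA]

end Aff

end Groth.Agent.Lib.Helper3.OEtSh
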