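import Mathlib
import Groth.Agent.Lib.Helper3OEtShD
import Groth.Agent.Lib.Helper3GeomUnibranch

set_option autoImplicit false
set_option linter.style.haveILetI false
set_option backward.isDefEq.respectTransparency false
open CategoryTheory CategoryTheory.Limits AlgebraicGeometry Opposite
universe u

namespace Groth.Agent.Lib.Helper3.OEtSh

open AlgSp Groth.Agent.Lib.Helper9.Hens Groth.Agent.Lib.Helper3.IndEt

section Gen

variable {S : Scheme.{u}} (X : AlgSp.Space S) (p : FieldPt X.obj) (hp : p.IsGeometric)
  (E : EtOver X.obj) (l : (FieldPt.liftsTo p).obj E)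

include hp in
/-- the etale local ring at a geometric point is a strict henselization of the local ring of any
etale neighbourhood -/
theorem exists_sh :
    ∃ (T₀ : Type u) (_ : CommRing T₀) (_ : IsLocalRing T₀) (e : T₀ ≃+* ↥(OEtStalk p))
      (_ : Algebra ↥(E.obj.left.left.presheaf.stalk
        (l.1.left (default : Spec (CommRingCat.of p.K)))) T₀)
      (_ : IsLocalHom (algebraMap ↥(E.obj.left.left.presheaf.stalk
        (l.1.left (default : Spec (CommRingCat.of p.K)))) T₀)),
      Hensel.IsStrictHenselization ↥(E.obj.left.left.presheaf.stalk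
        (l.1.left (default : Spec (CommRingCat.of p.K)))) T₀ ∧
      ∀ a : Γ(E.obj.left.left, ⊤),
        e (algebraMap ↥(E.obj.left.left.presheaf.stalk
          (l.1.left (default : Spec (CommRingCat.of p.K)))) T₀
          (E.obj.left.left.presheaf.germ ⊤ (l.1.left (default : Spec (CommRingCat.of p.K)))
            trivial a)) = germR p E l a := by
  obtain ⟨E', f, l', hl, haff, hopen⟩ := exists_affine_refinement X p E l
  subst hl
  haveI := haff
  haveI := hopen
  obtain ⟨T₀, hT₀, hT₀loc, e, alg', hloc', hsh', hcompat'⟩ := exists_sh_affine X p hp E' l'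
  let U := E.obj.left.left
  let U' := E'.obj.left.left
  let j : U' ⟶ U := f.hom.left.left
  let u' : U' := l'.1.left (default : Spec (CommRingCat.of p.K))
  let R := U.presheaf.stalk (j u')
  let R' := U'.presheaf.stalk u'
  let σ : R ≃+* R' := (asIso (j.stalkMap u')).commRingCatIsoToRingEquiv
  have hσ : ∀ r : R, σ r = (j.stalkMap u').hom r := fun r => rfl
  letI algRT : Algebra R T₀ := ((algebraMap R' T₀).comp (σ : R →+* R')).toAlgebra
  have halg : ∀ r : R, algebraMap R T₀ r = algebraMap R' T₀ (σ r) := fun r => rfl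
  haveI hlocal : IsLocalHom (algebraMap R T₀) := by
    refine ⟨fun r hr => ?_⟩
    rw [halg] at hr
    have h1 : IsUnit (σ r) := isUnit_of_map_unit (algebraMap R' T₀) _ hr
    have h2 := h1.map (σ.symm : R' →+* R)
    rwa [RingHom.coe_coe, σ.symm_apply_apply] at h2
  have hsh : Hensel.IsStrictHenselization R T₀ :=
    Groth.Agent.Lib.Helper3.GeomUnibranch.isStrictHenselization_of_ringEquiv (R := R') (R₂ := R)
      (S := T₀) σ.symm (fun r => by rw [halg, σ.apply_symm_apply])
  refine ⟨T₀, hT₀, hT₀loc, e, algRT, hlocal, hsh, ?_⟩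
  intro a
  change e (algebraMap R' T₀ (σ (U.presheaf.germ ⊤ (j u') trivial a))) = _
  rw [hσ]
  have h1 : (j.stalkMap u').hom (U.presheaf.germ ⊤ (j u') trivial a) =
      U'.presheaf.germ ⊤ u' trivial (j.appTop.hom a) :=
    Scheme.Hom.germ_stalkMap_apply j ⊤ u' trivial a
  rw [h1, hcompat']
  exact germR_map p f l' _ rfl a

end Gen

end Groth.Agent.Lib.Helper3.OEtSh
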