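import Mathlib
import Groth.Prelude.Def_CAlgX

set_option autoImplicit false

universe u v

namespace Groth.Agent.Lib.Helper3.OEtSh

section MinPrimes

variable {A : Type u} {B : Type v} [CommRing A] [CommRing B]

lemma comap_mem_minimalPrimes (e : A ≃+* B) {q : Ideal B} (hq : q ∈ minimalPrimes B) :
    q.comap (e : A →+* B) ∈ minimalPrimes A := by
  have h1 := Ideal.minimalPrimes_comap_of_surjective (f := (e : A →+* B)) e.surjective
    (I := ⊥) hq
  have h2 : Ideal.comap (e : A →+* B) ⊥ = ⊥ :=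
    Ideal.comap_bot_of_injective (e : A →+* B) e.injective
  rw [h2] at h1
  exact h1

/-- minimal primes correspond under a ring isomorphism -/
noncomputable def minimalPrimesEquiv (e : A ≃+* B) : ↥(minimalPrimes B) ≃ ↥(minimalPrimes A) where
  toFun q := ⟨q.1.comap (e : A →+* B), comap_mem_minimalPrimes e q.2⟩
  invFun q := ⟨q.1.comap (e.symm : B →+* A), comap_mem_minimalPrimes e.symm q.2⟩
  left_inv q := by
    apply Subtype.ext
    change (q.1.comap (e : A →+* B)).comap (e.symm : B →+* A) = q.1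
    rw [Ideal.comap_comap]
    have : (e : A →+* B).comp (e.symm : B →+* A) = RingHom.id B := by
      ext x; simp
    rw [this, Ideal.comap_id]
  right_inv q := by
    apply Subtype.ext
    change (q.1.comap (e.symm : B →+* A)).comap (e : A →+* B) = q.1
    rw [Ideal.comap_comap]
    have : (e.symm : B →+* A).comp (e : A →+* B) = RingHom.id A := by
      ext x; simp
    rw [this, Ideal.comap_id]

lemma encard_minimalPrimes_eq (e : A ≃+* B) :
    (minimalPrimes A).encard = (minimalPrimes B).encard := by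
  rw [Set.encard, Set.encard]
  exact (ENat.card_congr (minimalPrimesEquiv e)).symm

lemma hasUniqueMinimalPrime_of_ringEquiv (e : A ≃+* B) (h : CAlgX.HasUniqueMinimalPrime A) :
    CAlgX.HasUniqueMinimalPrime B := by
  obtain ⟨𝔭, h𝔭, huniq⟩ := h
  refine ⟨((minimalPrimesEquiv e).symm ⟨𝔭, h𝔭⟩).1, ((minimalPrimesEquiv e).symm ⟨𝔭, h𝔭⟩).2, ?_⟩
  intro q hq
  have h1 := huniq ((minimalPrimesEquiv e) ⟨q, hq⟩).1 ((minimalPrimesEquiv e) ⟨q, hq⟩).2
  have h2 : (minimalPrimesEquiv e) ⟨q, hq⟩ = ⟨𝔭, h𝔭⟩ := Subtype.ext h1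
  rw [← h2, Equiv.symm_apply_apply]

lemma hasUniqueMinimalPrime_iff_encard (A : Type u) [CommRing A] :
    CAlgX.HasUniqueMinimalPrime A ↔ (minimalPrimes A).encard = 1 := by
  rw [Set.encard_eq_one]
  constructor
  · rintro ⟨𝔭, h𝔭, huniq⟩
    refine ⟨𝔭, ?_⟩
    ext q
    constructor
    · intro hq; exact huniq q hq
    · rintro rfl; exact h𝔭
  · rintro ⟨𝔭, h𝔭⟩
    refine ⟨𝔭, ?_, ?_⟩
    · rw [h𝔭]; rfl
    · intro q hq
      rw [h𝔭] at hq
      exact hq

end MinPrimes

end Groth.Agent.Lib.Helper3.OEtSh
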