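import Mathlib
import Groth.Agent.Lib.Helper3OEtShE
import Groth.Agent.S0541
import Groth.Agent.S2747
import Groth.Agent.S0540
import Groth.Agent.S2743
import Groth.Agent.S2135
import Groth.Agent.S9238
import Groth.Agent.Lib.Helper3OEtShF
import Groth.Agent.Lib.Helper3Branch
import Groth.Agent.Lib.Helper3HzP

set_option autoImplicit false
set_option linter.style.haveILetI false
set_option backward.isDefEq.respectTransparency false
open CategoryTheory CategoryTheory.Limits AlgebraicGeometry Opposite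
universe u

namespace Groth.Agent.Lib.Helper3.OEtSh

open AlgSp

section Transfer

variable {S : Scheme.{u}} (X : AlgSp.Space S) (p : FieldPt X.obj) (hp : p.IsGeometric)
  (E : EtOver X.obj) (l : (FieldPt.liftsTo p).obj E)

include hp in
theorem ringKrullDim_eq :
    ringKrullDim ↥(OEtStalk p) = ringKrullDim ↥(E.obj.left.left.presheaf.stalk
      (l.1.left (default : Spec (CommRingCat.of p.K)))) := by
  obtain ⟨T₀, _, _, e, _, _, hsh, -⟩ := exists_sh X p hp E l
  haveI := hsh
  rw [← ringKrullDim_eq_of_ringEquiv e]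
  exact Groth.Agent.S0541.result _ T₀

include hp in
theorem isReduced_iff :
    IsReduced ↥(OEtStalk p) ↔ IsReduced ↥(E.obj.left.left.presheaf.stalk
      (l.1.left (default : Spec (CommRingCat.of p.K)))) := by
  obtain ⟨T₀, _, _, e, _, _, hsh, -⟩ := exists_sh X p hp E l
  haveI := hsh
  rw [← Groth.Agent.S2747.result _ T₀]
  constructor
  · intro h
    exact isReduced_of_injective (e : T₀ →+* ↥(OEtStalk p)) e.injective
  · intro h
    exact isReduced_of_injective (e.symm : ↥(OEtStalk p) →+* T₀) e.symm.injective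

include hp in
theorem isNoetherianRing_iff :
    IsNoetherianRing ↥(OEtStalk p) ↔ IsNoetherianRing ↥(E.obj.left.left.presheaf.stalk
      (l.1.left (default : Spec (CommRingCat.of p.K)))) := by
  obtain ⟨T₀, _, _, e, _, _, hsh, -⟩ := exists_sh X p hp E l
  haveI := hsh
  rw [Groth.Agent.S0540.result _ T₀]
  constructor
  · intro h
    exact isNoetherianRing_of_ringEquiv _ e.symm
  · intro h
    exact isNoetherianRing_of_ringEquiv _ e

include hp in
theorem isRegularLocalRing_iff :
    IsRegularLocalRing ↥(OEtStalk p) ↔ IsRegularLocalRing ↥(E.obj.left.left.presheaf.stalk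
      (l.1.left (default : Spec (CommRingCat.of p.K)))) := by
  obtain ⟨T₀, _, _, e, _, _, hsh, -⟩ := exists_sh X p hp E l
  haveI := hsh
  constructor
  · intro h
    haveI : IsRegularLocalRing T₀ := IsRegularLocalRing.of_ringEquiv e.symm
    haveI : IsNoetherianRing T₀ := inferInstance
    haveI : IsNoetherianRing ↥(E.obj.left.left.presheaf.stalk
      (l.1.left (default : Spec (CommRingCat.of p.K)))) :=
      (Groth.Agent.S0540.result _ T₀).2 inferInstance
    exact (Groth.Agent.S2743.result _ T₀).1 inferInstance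
  · intro h
    haveI := h
    haveI : IsNoetherianRing ↥(E.obj.left.left.presheaf.stalk
      (l.1.left (default : Spec (CommRingCat.of p.K)))) := inferInstance
    haveI : IsRegularLocalRing T₀ := (Groth.Agent.S2743.result _ T₀).2 h
    exact IsRegularLocalRing.of_ringEquiv e

include hp in
theorem isLocalRing : IsLocalRing ↥(OEtStalk p) :=
  (Groth.Agent.Lib.Helper9.Hens.strictlyHenselian_OEtStalk X p hp).1

include hp in
theorem hasUniqueMinimalPrime_iff :
    CAlgX.HasUniqueMinimalPrime ↥(OEtStalk p) ↔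
      CAlg2.IsGeomUnibranch ↥(E.obj.left.left.presheaf.stalk
        (l.1.left (default : Spec (CommRingCat.of p.K)))) := by
  obtain ⟨T₀, _, _, e, _, _, hsh, -⟩ := exists_sh X p hp E l
  haveI := hsh
  rw [Groth.Agent.S2135.result (Ash := T₀)]
  exact ⟨hasUniqueMinimalPrime_of_ringEquiv e.symm, hasUniqueMinimalPrime_of_ringEquiv e⟩

include hp in
theorem encard_minimalPrimes_OEtStalk :
    (minimalPrimes ↥(OEtStalk p)).encard =
      Brnch.numGeomBranches ↥(E.obj.left.left.presheaf.stalk
        (l.1.left (default : Spec (CommRingCat.of p.K)))) := by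
  obtain ⟨T₀, _, _, e, _, _, hsh, -⟩ := exists_sh X p hp E l
  haveI := hsh
  rw [← Groth.Agent.S9238.result _ T₀, ← encard_minimalPrimes_eq e]
  rfl

include hp in
theorem encard_stalk_le :
    (minimalPrimes ↥(E.obj.left.left.presheaf.stalk
      (l.1.left (default : Spec (CommRingCat.of p.K))))).encard ≤
      (minimalPrimes ↥(OEtStalk p)).encard := by
  obtain ⟨T₀, _, _, e, _, _, hsh, -⟩ := exists_sh X p hp E l
  haveI := hsh
  haveI : Module.FaithfullyFlat ↥(E.obj.left.left.presheaf.stalk
      (l.1.left (default : Spec (CommRingCat.of p.K)))) T₀ :=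
    Groth.Agent.Lib.Helper3.HzP.sh_faithfullyFlat _ T₀
  rw [← encard_minimalPrimes_eq e]
  exact Groth.Agent.Lib.Helper3.Branch.card_minimalPrimes_le_of_faithfullyFlat _ T₀

include hp in
theorem hasUniqueMinimalPrime_stalk (h : CAlgX.HasUniqueMinimalPrime ↥(OEtStalk p)) :
    CAlgX.HasUniqueMinimalPrime ↥(E.obj.left.left.presheaf.stalk
      (l.1.left (default : Spec (CommRingCat.of p.K)))) := by
  rw [hasUniqueMinimalPrime_iff_encard] at h ⊢
  apply le_antisymm
  · rw [← h]
    exact encard_stalk_le X p hp E l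
  · rw [Set.one_le_encard_iff_nonempty]
    have := Ideal.nonempty_minimalPrimes (I := (⊥ : Ideal ↥(E.obj.left.left.presheaf.stalk
      (l.1.left (default : Spec (CommRingCat.of p.K)))))) bot_ne_top
    exact Set.nonempty_coe_sort.1 this

end Transfer

section Sep

variable {S : Scheme.{u}} (X : AlgSp.Space S) (p : FieldPt X.obj) (hp : p.IsGeometric)

include hp in
lemma germR_surjective_finite {ι : Type*} [Finite ι] (r : ι → ↥(OEtStalk p)) :
    ∃ (E : EtOver X.obj) (l : (FieldPt.liftsTo p).obj E) (a : ι → Γ(E.obj.left.left, ⊤)),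
      ∀ i, germR p E l (a i) = r i := by
  obtain ⟨n, ⟨eq⟩⟩ := Finite.exists_equiv_fin ι
  obtain ⟨E, l, a, ha⟩ := germR_surjective_fin X p hp n (fun k => r (eq.symm k))
  refine ⟨E, l, fun i => a (eq i), fun i => ?_⟩
  rw [ha, eq.symm_apply_apply]

include hp in
/-- finitely many minimal primes of the etale local ring are separated in the local ring of some
etale neighbourhood -/
theorem exists_nbhd_encard_ge (n : ℕ) (hn : (n : ℕ∞) ≤ (minimalPrimes ↥(OEtStalk p)).encard) :
    ∃ (E : EtOver X.obj) (l : (FieldPt.liftsTo p).obj E),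
      (n : ℕ∞) ≤ (minimalPrimes ↥(E.obj.left.left.presheaf.stalk
        (l.1.left (default : Spec (CommRingCat.of p.K))))).encard := by
  classical
  obtain ⟨t, htsub, htcard⟩ := Set.exists_subset_encard_eq hn
  have htfin : t.Finite := Set.finite_of_encard_eq_coe htcard
  have hsep : ∀ q ∈ t, ∀ q' ∈ t, q ≠ q' → ∃ x, x ∈ q ∧ x ∉ q' := by
    intro q hq q' hq' hne
    by_contra hcon
    push Not at hcon
    have hle : q ≤ q' := fun x hx => hcon x hx
    have := (htsub hq').2 ⟨(htsub hq).1.1, bot_le⟩ hle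
    exact hne (le_antisymm hle this)
  let I : Set (Ideal ↥(OEtStalk p) × Ideal ↥(OEtStalk p)) :=
    {pr | pr.1 ∈ t ∧ pr.2 ∈ t ∧ pr.1 ≠ pr.2}
  have hIfin : I.Finite := (htfin.prod htfin).subset (fun pr hpr => ⟨hpr.1, hpr.2.1⟩)
  haveI : Finite ↥I := hIfin.to_subtype
  let r : ↥I → ↥(OEtStalk p) := fun i => (hsep i.1.1 i.2.1 i.1.2 i.2.2.1 i.2.2.2).choose
  have hr : ∀ i : ↥I, r i ∈ i.1.1 ∧ r i ∉ i.1.2 :=
    fun i => (hsep i.1.1 i.2.1 i.1.2 i.2.2.1 i.2.2.2).choose_spec
  obtain ⟨E, l, a, ha⟩ := germR_surjective_finite X p hp r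
  refine ⟨E, l, ?_⟩
  obtain ⟨T₀, _, _, e, _, _, hsh, hcompat⟩ := exists_sh X p hp E l
  haveI := hsh
  haveI : Module.FaithfullyFlat ↥(E.obj.left.left.presheaf.stalk
      (l.1.left (default : Spec (CommRingCat.of p.K)))) T₀ :=
    Groth.Agent.Lib.Helper3.HzP.sh_faithfullyFlat _ T₀
  let f : Ideal ↥(OEtStalk p) → Ideal ↥(E.obj.left.left.presheaf.stalk
      (l.1.left (default : Spec (CommRingCat.of p.K)))) :=
    fun q => (q.comap (e : T₀ →+* ↥(OEtStalk p))).comap (algebraMap _ T₀)
  have hmem : ∀ (q : Ideal ↥(OEtStalk p)) (b : Γ(E.obj.left.left, ⊤)),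
      E.obj.left.left.presheaf.germ ⊤ (l.1.left (default : Spec (CommRingCat.of p.K))) trivial b
        ∈ f q ↔ germR p E l b ∈ q := by
    intro q b
    change e (algebraMap _ T₀ _) ∈ q ↔ _
    rw [hcompat]
  have hmaps : f '' t ⊆ minimalPrimes ↥(E.obj.left.left.presheaf.stalk
      (l.1.left (default : Spec (CommRingCat.of p.K)))) := by
    rintro _ ⟨q, hq, rfl⟩
    exact Groth.Agent.Lib.Helper3.Branch.mapsTo_comap_minimalPrimes_of_flat _ T₀
      (comap_mem_minimalPrimes e (htsub hq))
  have hinj : Set.InjOn f t := by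
    intro q hq q' hq' hqq'
    by_contra hne
    let i : ↥I := ⟨(q, q'), hq, hq', hne⟩
    have h1 := (hmem q (a i)).2 (by rw [ha]; exact (hr i).1)
    rw [hqq'] at h1
    have h2 := (hmem q' (a i)).1 h1
    rw [ha] at h2
    exact (hr i).2 h2
  calc (n : ℕ∞) = t.encard := htcard.symm
    _ = (f '' t).encard := (hinj.encard_image).symm
    _ ≤ _ := Set.encard_le_encard hmaps

end Sep

end Groth.Agent.Lib.Helper3.OEtSh
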