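import Mathlib
import Groth.Agent.Lib.Helper3OEtShG
import Groth.Agent.Lib.Helper9SpPoint8

set_option autoImplicit false
set_option linter.style.haveILetI false
set_option backward.isDefEq.respectTransparency false
open CategoryTheory CategoryTheory.Limits AlgebraicGeometry Opposite
universe u

namespace Groth.Agent.Lib.Helper3.OEtSh

open AlgSp

section Dict

variable {S : Scheme.{u}} (X : AlgSp.Space S) (p : FieldPt X.obj) (hp : p.IsGeometric)

include hp in
/-- a geometric point has an etale neighbourhood -/
lemma exists_nbhd : ∃ (E : EtOver X.obj), Nonempty ((FieldPt.liftsTo p).obj E) := by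
  obtain ⟨⟨fib, cof, ism, js⟩, rfl⟩ := Groth.Agent.Lib.Helper9.SpPoint.main X p hp
  haveI := cof
  obtain ⟨e⟩ := (IsCofiltered.nonempty : Nonempty (FieldPt.liftsTo p).Elements)
  exact ⟨e.1, ⟨e.2⟩⟩

end Dict

end Groth.Agent.Lib.Helper3.OEtSh
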