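import Mathlib
import Groth.Agent.Lib.Helper3OEtShH
import Groth.Agent.Lib.Helper9SpPoint6

set_option autoImplicit false
set_option linter.style.haveILetI false
set_option backward.isDefEq.respectTransparency false
open CategoryTheory CategoryTheory.Limits AlgebraicGeometry Opposite
universe u

namespace Groth.Agent.Lib.Helper3.OEtSh

open AlgSp Groth.Agent.Lib.Helper9.SpPoint

section Dict2

variable {S : Scheme.{u}} (X : AlgSp.Space S)

/-- every point of an etale chart lies under a geometric point with a lift through it -/
lemma exists_geometric_chart_point {U : Over S} (a : (yon S).obj U ⟶ X.obj)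
    (ha : RepWith @Etale a) (u : U.left) :
    ∃ (p : FieldPt X.obj) (_ : p.IsGeometric) (l : (FieldPt.liftsTo p).obj (EtOver.mk a ha)),
      l.1.left (default : Spec (CommRingCat.of p.K)) = u ∧ Points.mk p = Points.ofPt a u := by
  obtain ⟨p, hp, l, hl⟩ := exists_geometric_lift (EtOver.mk a ha) u
  refine ⟨p, hp, l, hl, ?_⟩
  have := ofPt_lift p (EtOver.mk a ha) l default
  rw [hl] at this
  exact this.symm

variable (p : FieldPt X.obj) (hp : p.IsGeometric)

include hp in
/-- the etale local ring has at least one minimal prime -/
lemma one_le_encard_minimalPrimes : 1 ≤ (minimalPrimes ↥(OEtStalk p)).encard := by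
  haveI := isLocalRing X p hp
  rw [Set.one_le_encard_iff_nonempty]
  have := Ideal.nonempty_minimalPrimes (I := (⊥ : Ideal ↥(OEtStalk p))) bot_ne_top
  exact Set.nonempty_coe_sort.1 this

include hp in
/-- if all chart local rings over the point have at most `n` minimal primes, so does the etale
local ring -/
lemma encard_minimalPrimes_le (n : ℕ)
    (h : ∀ (E : EtOver X.obj) (l : (FieldPt.liftsTo p).obj E),
      (minimalPrimes ↥(E.obj.left.left.presheaf.stalk
        (l.1.left (default : Spec (CommRingCat.of p.K))))).encard ≤ n) :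
    (minimalPrimes ↥(OEtStalk p)).encard ≤ n := by
  by_contra hcon
  rw [not_le] at hcon
  have h1 : ((n + 1 : ℕ) : ℕ∞) ≤ (minimalPrimes ↥(OEtStalk p)).encard := by
    rw [Nat.cast_add, Nat.cast_one]
    exact Order.add_one_le_of_lt hcon
  obtain ⟨E, l, hE⟩ := exists_nbhd_encard_ge X p hp (n + 1) h1
  have h2 := hE.trans (h E l)
  rw [Nat.cast_le] at h2
  omega

end Dict2

end Groth.Agent.Lib.Helper3.OEtSh
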