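import Mathlib
import Groth.Agent.Lib.Helper3OrbitE
import Groth.Agent.Lib.Helper3GrpRedD
import Groth.Agent.Lib.Helper12Descent
import Groth.Agent.Lib.Helper8Grp

/-!
# Properness of orbit maps: closed orbit + proper stabilizer
-/

set_option autoImplicit false
set_option linter.style.haveILetI false
universe u

namespace Groth.Agent.Lib.Helper3.GoodQuot

open CategoryTheory AlgebraicGeometry Limits TopologicalSpace Opposite Topology IsLocalRing
open MonoidalCategory CartesianMonoidalCategory MonObj GrpObj
open Groth.Agent.Lib.Helper3.Orbit Groth.Agent.Lib.Helper12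

section Gen

variable {S : Scheme.{u}} {G X : Over S} [GrpObj G] (a : AlgGrp.Action G X)
  (x : 𝟙_ (Over S) ⟶ X)

lemma comp_orbitMap' {T : Over S} (g : T ⟶ G) :
    g ≫ a.orbitMap x = smul a g (toUnit T ≫ x) := by
  rw [orbitMap_eq, comp_smul, Category.comp_id, ← Category.assoc]
  congr 2
  exact toUnit_unique _ _

/-- the base change of an orbit map along itself is `G × Stab → G`. -/
theorem isPullback_fst_mulStab {St : Over S} (iSt : St ⟶ G)
    (hSt : IsPullback iSt (toUnit St) (a.orbitMap x) x) :
    IsPullback (fst G St) (fst G St * (snd G St ≫ iSt)) (a.orbitMap x) (a.orbitMap x) := by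
  have hw : fst G St ≫ a.orbitMap x = (fst G St * (snd G St ≫ iSt)) ≫ a.orbitMap x := by
    rw [comp_orbitMap', comp_orbitMap', Orbit.mul_smul, ← comp_orbitMap' a x (snd G St ≫ iSt),
      Category.assoc, hSt.w, ← Category.assoc]
    congr 2
    exact toUnit_unique _ _
  have key : ∀ {T : Over S} (u v : T ⟶ G), u ≫ a.orbitMap x = v ≫ a.orbitMap x →
      (u⁻¹ * v) ≫ a.orbitMap x = toUnit T ≫ x := by
    intro T u v huv
    rw [comp_orbitMap', Orbit.mul_smul, ← comp_orbitMap' a x v, ← huv, comp_orbitMap',
      ← Orbit.mul_smul, _root_.inv_mul_cancel, Orbit.one_smul]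
  refine ⟨⟨hw⟩, ⟨PullbackCone.IsLimit.mk _
    (fun c => lift c.fst (hSt.lift (c.fst⁻¹ * c.snd) (toUnit _) (key _ _ c.condition))) ?_ ?_ ?_⟩⟩
  · intro c
    exact lift_fst _ _
  · intro c
    rw [MonObj.comp_mul, lift_fst, ← Category.assoc, lift_snd, hSt.lift_fst,
      ← _root_.mul_assoc, _root_.mul_inv_cancel, _root_.one_mul]
  · intro c m hm1 hm2
    apply CartesianMonoidalCategory.hom_ext
    · rw [lift_fst]; exact hm1
    · rw [lift_snd]
      apply hSt.hom_ext
      · rw [hSt.lift_fst, ← hm1, ← hm2, MonObj.comp_mul, ← _root_.mul_assoc,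
          _root_.inv_mul_cancel, _root_.one_mul, Category.assoc]
      · exact toUnit_unique _ _

end Gen

section Main

variable {k : Type u} [Field k] [IsAlgClosed k] {G X : Over (Spec (CommRingCat.of k))} [GrpObj G]
  [LocallyOfFiniteType G.hom] [QuasiCompact G.hom] [LocallyOfFiniteType X.hom] [QuasiCompact X.hom]
  (a : AlgGrp.Action G X) (x : 𝟙_ (Over (Spec (CommRingCat.of k))) ⟶ X)

omit [IsAlgClosed k] [LocallyOfFiniteType G.hom] [QuasiCompact G.hom] [LocallyOfFiniteType X.hom]
  [QuasiCompact X.hom] in
lemma kpoint_mem_orbit' : x.left.base (closedPoint k) ∈ orb a x := by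
  refine ⟨η[G].left.base (closedPoint k), ?_⟩
  have h3 : η[G] ≫ a.orbitMap x = x := by
    rw [point_comp_orbitMap, MonObj.one_eq_one, tau_one, Category.comp_id]
  exact congr($(h3).left.base (closedPoint k))

/-- **An orbit map with closed image and proper stabilizer is proper.** -/
theorem isProper_orbitMap (hO : IsClosed (orb a x))
    (hst : IsProper (pullback.snd (a.orbitMap x).left x.left)) : IsProper (a.orbitMap x).left := by
  haveI : PerfectField k := inferInstance
  obtain ⟨Gr, instGr, i, hmon, hci, hsurj, hred, hlft⟩ :=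
    Groth.Agent.Lib.Helper3.GrpRed.exists_red G
  -- the reduced orbit
  let Zc : TopologicalSpace.Closeds X.left := ⟨orb a x, hO⟩
  let I := Scheme.IdealSheafData.vanishingIdeal Zc
  let Xr : Over (Spec (CommRingCat.of k)) := Over.mk (I.subschemeι ≫ X.hom)
  let jX : Xr ⟶ X := Over.homMk I.subschemeι rfl
  haveI : IsClosedImmersion jX.left := inferInstanceAs (IsClosedImmersion I.subschemeι)
  haveI : IsReduced Xr.left := inferInstanceAs (IsReduced I.subscheme)
  haveI : LocallyOfFiniteType Xr.hom :=
    inferInstanceAs (LocallyOfFiniteType (I.subschemeι ≫ X.hom))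
  have hr : Set.range jX.left = orb a x := by
    change Set.range I.subschemeι = orb a x
    rw [Groth.Agent.Lib.Helper11RedCl.range_subschemeι_vanishingIdeal]
    rfl
  haveI : Mono jX := by
    haveI : Mono jX.left := inferInstance
    exact Over.mono_of_mono_left jX
  have lift_over : ∀ (T : Over (Spec (CommRingCat.of k))) [IsReduced T.left] (f : T ⟶ X),
      Set.range f.left ⊆ Set.range jX.left → ∃ f' : T ⟶ Xr, f' ≫ jX = f := by
    intro T _ f hf
    obtain ⟨l, hl⟩ :=
      Groth.Agent.Lib.Helper11OrbitSubR.exists_lift_closedImmersion' f.left jX.left hf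
    refine ⟨Over.homMk l ?_, ?_⟩
    · rw [← Over.w jX, ← Category.assoc, hl, Over.w]
    · ext1
      exact hl
  -- the action of `Gr` on `X`, and its orbit
  let aH := pullAction a i
  have horb : Set.range (aH.orbitMap x).left.base = orb a x := by
    rw [pullAction_orbitMap, Over.comp_left]
    show Set.range ((a.orbitMap x).left.base ∘ i.left.base) = _
    rw [Set.range_comp, Set.range_eq_univ.mpr i.left.surjective, Set.image_univ]
    rfl
  have hinv : NRQuot.IsInvariantSet aH (orb a x) := by
    rw [← horb]; exact isInvariantSet_range_orbitMap aH x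
  -- the action of `Gr` on the reduced orbit
  haveI : IsReduced (Gr ⊗ Xr).left := Groth.Agent.Lib.Helper3.GrpRed.isReduced_tensor Gr Xr
  obtain ⟨act', hact'⟩ := lift_over (Gr ⊗ Xr) ((Gr ◁ jX) ≫ aH.act) (by
    rintro _ ⟨p, rfl⟩
    rw [hr, Over.comp_left]
    show aH.act.left.base ((Gr ◁ jX).left.base p) ∈ orb a x
    apply hinv
    have h1 := congr($(whiskerLeft_snd Gr jX).left.base p)
    rw [Over.comp_left, Over.comp_left] at h1
    change (snd Gr X).left.base ((Gr ◁ jX).left.base p) = jX.left.base _ at h1
    rw [h1, ← hr]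
    exact ⟨_, rfl⟩)
  let a' := restrictAction aH jX act' hact'
  haveI : IsReduced (𝟙_ (Over (Spec (CommRingCat.of k)))).left :=
    inferInstanceAs (IsReduced (Spec (CommRingCat.of k)))
  obtain ⟨x', hx'⟩ := lift_over _ x (by
    rintro _ ⟨p, rfl⟩
    rw [hr, eq_closedPoint p]
    exact kpoint_mem_orbit' a x)
  have hα' : a'.orbitMap x' ≫ jX = i ≫ a.orbitMap x := by
    rw [orbitMap_comp aH jX a' hact' x', hx', pullAction_orbitMap]
  -- surjectivity and flatness
  have hsurj' : Surjective (a'.orbitMap x').left := by
    constructor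
    intro w
    have hw : jX.left.base w ∈ Set.range (aH.orbitMap x).left.base := by
      rw [horb, ← hr]; exact ⟨w, rfl⟩
    rw [pullAction_orbitMap, ← hα'] at hw
    obtain ⟨g', hg'⟩ := hw
    refine ⟨g', ?_⟩
    apply jX.left.isClosedEmbedding.injective
    exact hg'
  haveI : Flat (a'.orbitMap x').left :=
    Groth.Agent.Lib.Helper11Orbit.flat_orbitMap_of_surjective k a' x' hsurj'
  -- compactness
  haveI : CompactSpace G.left := QuasiCompact.compactSpace_of_compactSpace G.hom
  haveI : CompactSpace X.left := QuasiCompact.compactSpace_of_compactSpace X.hom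
  haveI : CompactSpace Gr.left := QuasiCompact.compactSpace_of_compactSpace i.left
  haveI : IsLocallyNoetherian Xr.left := LocallyOfFiniteType.isLocallyNoetherian Xr.hom
  haveI : IsLocallyNoetherian X.left := LocallyOfFiniteType.isLocallyNoetherian X.hom
  haveI : QuasiCompact (a'.orbitMap x').left := inferInstance
  -- the stabilizer of `x'` in `Gr`
  let St : Over (Spec (CommRingCat.of k)) := Limits.pullback (a'.orbitMap x') x'
  let iSt : St ⟶ Gr := pullback.fst (a'.orbitMap x') x'
  have hSt : IsPullback iSt (toUnit St) (a'.orbitMap x') x' := by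
    have h := IsPullback.of_hasPullback (a'.orbitMap x') x'
    have e : pullback.snd (a'.orbitMap x') x' = toUnit St := toUnit_unique _ _
    rwa [e] at h
  have hsq := Functor.map_isPullback (Over.forget _) (isPullback_fst_mulStab a' x' iSt hSt)
  -- the stabilizer is proper
  have hSt' := Functor.map_isPullback (Over.forget _) hSt
  have houter : IsPullback iSt.left (toUnit St).left (i.left ≫ (a.orbitMap x).left) x.left := by
    haveI : Mono jX.left := inferInstance
    have hSt'' : IsPullback iSt.left (toUnit St).left (a'.orbitMap x').left x'.left := hSt'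
    have h := Groth.Agent.Lib.Helper3.GrpRed.isPullback_comp_mono hSt'' jX.left
    have e1 : (a'.orbitMap x').left ≫ jX.left = i.left ≫ (a.orbitMap x).left :=
      congr($(hα').left)
    have e2 : x'.left ≫ jX.left = x.left := congr($(hx').left)
    rw [e1, e2] at h
    exact h
  have hR := IsPullback.of_hasPullback (a.orbitMap x).left x.left
  let c : St.left ⟶ pullback (a.orbitMap x).left x.left :=
    hR.lift (iSt.left ≫ i.left) (toUnit St).left (by rw [Category.assoc]; exact houter.w)
  have hc1 : c ≫ pullback.fst (a.orbitMap x).left x.left = iSt.left ≫ i.left := hR.lift_fst _ _ _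
  have hc2 : c ≫ pullback.snd (a.orbitMap x).left x.left = (toUnit St).left := hR.lift_snd _ _ _
  have hleft : IsPullback c iSt.left (pullback.fst (a.orbitMap x).left x.left) i.left := by
    refine IsPullback.of_right ?_ hc1 hR.flip
    rw [hc2]
    exact houter.flip
  haveI : IsClosedImmersion i.left := hci
  haveI : IsClosedImmersion c :=
    MorphismProperty.of_isPullback (P := @IsClosedImmersion) hleft.flip ‹IsClosedImmersion i.left›
  haveI : IsProper (toUnit St).left := by
    rw [← hc2]; infer_instance
  haveI : IsProper St.hom := by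
    have e : (toUnit St).left ≫ (𝟙_ (Over (Spec (CommRingCat.of k)))).hom = St.hom :=
      Over.w (toUnit St)
    haveI : IsIso (𝟙_ (Over (Spec (CommRingCat.of k)))).hom := by
      rw [Over.tensorUnit_hom]; exact IsIso.id _
    rw [← e]
    infer_instance
  haveI : IsProper (fst Gr St).left := by
    have : (fst Gr St).left = pullback.fst Gr.hom St.hom := rfl
    rw [this]; infer_instance
  -- descent of properness
  have hprop' : IsProper (a'.orbitMap x').left := by
    have := Groth.Agent.Lib.Helper12.descendsAlong_isProper.{u}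
    exact MorphismProperty.of_isPullback_of_descendsAlong (P := @IsProper)
      (Q := (@Surjective ⊓ @Flat ⊓ @QuasiCompact : MorphismProperty Scheme.{u})) hsq
      ⟨⟨hsurj', ‹Flat (a'.orbitMap x').left›⟩, ‹QuasiCompact (a'.orbitMap x').left›⟩
      ‹IsProper (fst Gr St).left›
  haveI := hprop'
  haveI : IsProper (i.left ≫ (a.orbitMap x).left) := by
    have e1 : (a'.orbitMap x').left ≫ jX.left = i.left ≫ (a.orbitMap x).left :=
      congr($(hα').left)
    rw [← e1]; infer_instance
  haveI : Surjective i.left := hsurj
  haveI : UniversallyClosed (a.orbitMap x).left :=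
    UniversallyClosed.of_comp_surjective i.left (a.orbitMap x).left
  haveI : IsSeparated G.hom := Groth.Agent.Lib.Helper8.isSeparated_of_discrete G
  haveI : IsSeparated ((a.orbitMap x).left ≫ X.hom) := by rw [Over.w]; infer_instance
  haveI : IsSeparated (a.orbitMap x).left := IsSeparated.of_comp (a.orbitMap x).left X.hom
  haveI := lft_orbitMap a x
  exact {}

omit [IsAlgClosed k] [LocallyOfFiniteType G.hom] [QuasiCompact G.hom] [LocallyOfFiniteType X.hom]
  [QuasiCompact X.hom] in
lemma psi_comp_rightUnitor :
    GIT.psi a x ≫ (ρ_ X).hom = (ρ_ G).hom ≫ a.orbitMap x := by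
  rw [rightUnitor_hom, rightUnitor_hom, GIT.psi, lift_fst, orbitMap_eq, comp_smul, Category.comp_id]
  unfold smul
  congr 1
  apply CartesianMonoidalCategory.hom_ext
  · rw [whiskerLeft_fst, lift_fst]
  · rw [whiskerLeft_snd, lift_snd, ← Category.assoc]
    congr 1
    exact toUnit_unique _ _

/-- **`ψ_x` is proper iff the orbit is closed and the stabilizer is proper.** -/
theorem isProper_psi_iff :
    IsProper (GIT.psi a x).left ↔
      IsClosed (Set.range (GIT.psi a x).left.base) ∧
        IsProper (Limits.pullback.snd (GIT.psi a x).left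
          (lift x (𝟙 (𝟙_ (Over (Spec (CommRingCat.of k)))))).left ≫
          (𝟙_ (Over (Spec (CommRingCat.of k)))).hom) := by
  haveI hiso1 : IsIso (𝟙_ (Over (Spec (CommRingCat.of k)))).hom := by
    rw [Over.tensorUnit_hom]; exact IsIso.id _
  have hkey := psi_comp_rightUnitor a x
  have hkeyL : (GIT.psi a x).left ≫ (ρ_ X).hom.left = (ρ_ G).hom.left ≫ (a.orbitMap x).left :=
    congr($(hkey).left)
  haveI : IsIso (ρ_ X).hom.left := inferInstanceAs (IsIso ((Over.forget _).map (ρ_ X).hom))
  haveI : IsIso (ρ_ G).hom.left := inferInstanceAs (IsIso ((Over.forget _).map (ρ_ G).hom))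
  constructor
  · intro hp
    refine ⟨(GIT.psi a x).left.isClosedMap.isClosed_range, ?_⟩
    infer_instance
  · rintro ⟨hcl, hst⟩
    -- the orbit is closed
    have hO : IsClosed (orb a x) := by
      have h1 : orb a x = (ρ_ X).hom.left.base '' Set.range (GIT.psi a x).left.base := by
        rw [← Set.range_comp]
        have h2 : (ρ_ X).hom.left.base ∘ (GIT.psi a x).left.base =
            (a.orbitMap x).left.base ∘ (ρ_ G).hom.left.base := by
          ext p
          exact congr($(hkeyL).base p)
        have h3 : Set.range (ρ_ G).hom.left.base = Set.univ :=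
          Set.range_eq_univ.mpr (ρ_ G).hom.left.homeomorph.surjective
        rw [h2, Set.range_comp, h3, Set.image_univ]
        rfl
      rw [h1]
      exact (ρ_ X).hom.left.homeomorph.isClosedMap _ hcl
    -- the stabilizer is proper
    let l := lift x (𝟙 (𝟙_ (Over (Spec (CommRingCat.of k)))))
    have hst' : IsProper (pullback.snd (GIT.psi a x).left l.left) :=
      (MorphismProperty.cancel_right_of_respectsIso @IsProper _ _).mp hst
    have hl : l.left ≫ (ρ_ X).hom.left = x.left := by
      have : l ≫ (ρ_ X).hom = x := by rw [rightUnitor_hom]; exact lift_fst _ _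
      exact congr($(this).left)
    have hpb : IsPullback (pullback.fst (GIT.psi a x).left l.left ≫ (ρ_ G).hom.left)
        (pullback.snd (GIT.psi a x).left l.left) (a.orbitMap x).left x.left := by
      refine IsPullback.of_iso (IsPullback.of_hasPullback (GIT.psi a x).left l.left)
        (Iso.refl _) (asIso (ρ_ G).hom.left) (Iso.refl _) (asIso (ρ_ X).hom.left) ?_ ?_ ?_ ?_
      · simp
      · simp
      · simpa using hkeyL
      · simpa using hl
    have hsnd : pullback.snd (a.orbitMap x).left x.left =
        hpb.isoPullback.inv ≫ pullback.snd (GIT.psi a x).left l.left := by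
      rw [Iso.eq_inv_comp]; exact hpb.isoPullback_hom_snd
    haveI : IsProper (pullback.snd (a.orbitMap x).left x.left) := by
      rw [hsnd]; infer_instance
    haveI := isProper_orbitMap a x hO inferInstance
    have hpsi : (GIT.psi a x).left =
        (ρ_ G).hom.left ≫ (a.orbitMap x).left ≫ inv (ρ_ X).hom.left := by
      rw [← Category.assoc, ← hkeyL, Category.assoc, IsIso.hom_inv_id, Category.comp_id]
    rw [hpsi]
    infer_instance

end Main

end Groth.Agent.Lib.Helper3.GoodQuot
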