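import Mathlib
import Groth.Prelude.Def_NonAbH2
import Groth.Agent.Lib.Helper12Torsor
import Groth.Agent.Lib.Helper12AffineDescent
import Groth.Agent.Lib.Helper20SmoothSec

set_option autoImplicit false
set_option linter.style.haveILetI false
universe u
open CategoryTheory MonoidalCategory CartesianMonoidalCategory MonObj GrpObj AlgebraicGeometry PowerSeries
open NonAbH1 Limits

namespace Groth.Agent.Lib.Helper3.PSTors


-- a property of the group, stable under base change and descending along fpqc coverings,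
-- passes to its fpqc torsors
theorem prop_of_isTorsorFor_fpqc {S : Scheme.{u}} {G X : Over S} [GrpObj G] (a : AlgGrp.Action G X)
    (Pr : MorphismProperty Scheme.{u}) [Pr.IsStableUnderBaseChange] [IsZariskiLocalAtTarget Pr]
    (hPr : Pr.DescendsAlong (@Surjective ⊓ @Flat ⊓ @QuasiCompact : MorphismProperty Scheme.{u}))
    (h : NonAbH1.IsTorsorFor Scheme.fpqcPrecoverage a) (hG : Pr G.hom) : Pr X.hom := by
  obtain ⟨h1, R, hR, hsec⟩ := h
  refine Groth.Agent.Lib.Helper12.of_mem_fpqcPrecoverage hPr X.hom R hR ?_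
  intro Y' f hf
  exact Groth.Agent.Lib.Helper12.pullback_snd_of_hasSectionOver a h1 hG f (hsec f hf)

-- the structure morphism of a group scheme is surjective
theorem surjective_of_grpObj {S : Scheme.{u}} (G : Over S) [GrpObj G] : Surjective G.hom := by
  have h : (η[G] : 𝟙_ (Over S) ⟶ G).left ≫ G.hom = 𝟙 S := by
    simp
  refine ⟨fun s => ⟨(η[G] : 𝟙_ (Over S) ⟶ G).left s, ?_⟩⟩
  rw [← Scheme.Hom.comp_apply, h]
  rfl



theorem exists_etale_local_section (R : Type u) [CommRing R]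
    (P : Over (Spec (CommRingCat.of R⟦X⟧)))
    [Smooth P.hom] [Surjective P.hom] (p : PrimeSpectrum R) :
    ∃ (A : Type u) (_ : CommRing A) (_ : Algebra R A) (_ : Algebra.Etale R A)
      (t : Spec (CommRingCat.of A) ⟶ P.left),
      t ≫ P.hom = Spec.map (CommRingCat.ofHom
        ((algebraMap R A).comp (constantCoeff (R := R)))) ∧
      p ∈ Set.range (PrimeSpectrum.comap (algebraMap R A)) ∧
      IsOpen (Set.range (PrimeSpectrum.comap (algebraMap R A))) := by
  obtain ⟨c, hc⟩ : ∃ c : Spec (CommRingCat.of R) ⟶ Spec (CommRingCat.of R⟦X⟧),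
    c = Spec.map (CommRingCat.ofHom (constantCoeff (R := R))) := ⟨_, rfl⟩
  obtain ⟨x, hx⟩ := (pullback.snd P.hom c).surjective p
  obtain ⟨S', g, s', hg, hgs, h, hh⟩ :=
    Groth.Agent.Lib.Helper20.SmoothSec.exists_etale_section_of_smooth (pullback.snd P.hom c) x
  obtain ⟨_, ⟨U, hU : IsAffineOpen U, rfl⟩, hsU, -⟩ :=
    S'.isBasis_affineOpens.exists_subset_of_mem_open (Set.mem_univ s') isOpen_univ
  obtain ⟨α, hα⟩ : ∃ α : CommRingCat.of R ⟶ Γ(S', U), Spec.map α = hU.fromSpec ≫ g :=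
    ⟨Spec.preimage (hU.fromSpec ≫ g), Spec.map_preimage _⟩
  have hEt : Etale (Spec.map α) := by rw [hα]; infer_instance
  have hEt' : α.hom.Etale := (HasRingHomProperty.Spec_iff (P := @Etale)).mp hEt
  letI : Algebra R Γ(S', U) := α.hom.toAlgebra
  have hA : Algebra.Etale R Γ(S', U) := hEt'
  refine ⟨Γ(S', U), inferInstance, inferInstance, hA,
    hU.fromSpec ≫ h ≫ pullback.fst P.hom c, ?_, ?_, ?_⟩
  · rw [Category.assoc, Category.assoc, pullback.condition, ← Category.assoc h, hh,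
      ← Category.assoc, ← hα, hc, ← Spec.map_comp]
    rfl
  · refine ⟨hU.primeIdealOf ⟨s', hsU⟩, ?_⟩
    have h1 : hU.fromSpec (hU.primeIdealOf ⟨s', hsU⟩) = s' := hU.fromSpec_primeIdealOf ⟨s', hsU⟩
    have h2 : (Spec.map α) (hU.primeIdealOf ⟨s', hsU⟩) = p := by
      rw [hα, Scheme.Hom.comp_apply, h1, hgs, hx]
    exact h2
  · have := (Spec.map α).isOpenMap.isOpen_range
    exact this



theorem exists_lift_powerSeries (R R' Q : Type u) [CommRing R] [CommRing R'] [CommRing Q]
    [Algebra R R'] [Algebra R⟦X⟧ Q] [Algebra.FormallySmooth R⟦X⟧ Q]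
    (ψ : Q →+* R')
    (hψ : ψ.comp (algebraMap R⟦X⟧ Q) = (algebraMap R R').comp (constantCoeff (R := R))) :
    ∃ g : Q →+* R'⟦X⟧, g.comp (algebraMap R⟦X⟧ Q) = PowerSeries.map (algebraMap R R') := by
  let I : Ideal R'⟦X⟧ := Ideal.span {X}
  have hmk : ∀ s : R'⟦X⟧, Ideal.Quotient.mk I (C (constantCoeff s)) = Ideal.Quotient.mk I s := by
    intro s
    rw [Ideal.Quotient.eq, Ideal.mem_span_singleton, X_dvd_iff, map_sub, constantCoeff_C, sub_self]
  let f : Q →ₐ[R⟦X⟧] (R'⟦X⟧ ⧸ I) :=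
    { toRingHom := (Ideal.Quotient.mk I).comp ((C : R' →+* R'⟦X⟧).comp ψ)
      commutes' := by
        intro a
        have h1 : ψ (algebraMap R⟦X⟧ Q a) = algebraMap R R' (constantCoeff a) :=
          congrArg (fun t => t a) hψ
        change Ideal.Quotient.mk I (C (ψ (algebraMap R⟦X⟧ Q a))) = _
        rw [h1, IsScalarTower.algebraMap_apply R⟦X⟧ R'⟦X⟧ (R'⟦X⟧ ⧸ I),
          Ideal.Quotient.algebraMap_eq, algebraMap_apply'' R' a,
          ← hmk (map (algebraMap R R') a)]
        congr 2 }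
  obtain ⟨g, -⟩ := Algebra.FormallySmooth.exists_mkₐ_comp_eq_of_isAdicComplete f
  refine ⟨g.toRingHom, ?_⟩
  ext1 a
  exact g.commutes a

theorem exists_etale_cover_section (R : Type u) [CommRing R] (Q : Type u) [CommRing Q]
    [Algebra R⟦X⟧ Q]
    (H : ∀ p : PrimeSpectrum R, ∃ (A : Type u) (_ : CommRing A) (_ : Algebra R A)
      (_ : Algebra.Etale R A) (ψ : Q →+* A),
      ψ.comp (algebraMap R⟦X⟧ Q) = (algebraMap R A).comp (constantCoeff (R := R)) ∧
      p ∈ Set.range (PrimeSpectrum.comap (algebraMap R A)) ∧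
      IsOpen (Set.range (PrimeSpectrum.comap (algebraMap R A)))) :
    ∃ (R' : Type u) (_ : CommRing R') (_ : Algebra R R'), Algebra.Etale R R' ∧
      Module.FaithfullyFlat R R' ∧ ∃ ψ : Q →+* R',
        ψ.comp (algebraMap R⟦X⟧ Q) = (algebraMap R R').comp (constantCoeff (R := R)) := by
  choose A hA1 hA2 hA3 ψ hψ hmem hopen using H
  letI : ∀ p, CommRing (A p) := hA1
  letI : ∀ p, Algebra R (A p) := hA2
  haveI : ∀ p, Algebra.Etale R (A p) := hA3
  obtain ⟨t, ht⟩ := isCompact_univ.elim_finite_subcover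
    (fun p => Set.range (PrimeSpectrum.comap (algebraMap R (A p)))) hopen
    (fun x _ => Set.mem_iUnion.2 ⟨x, hmem x⟩)
  refine ⟨Π p : t, A p, inferInstance, inferInstance, inferInstance, ?_,
    RingHom.pi (fun p => ψ p), ?_⟩
  · haveI : Module.Flat R (Π p : t, A p) := inferInstance
    refine Module.FaithfullyFlat.of_comap_surjective ?_
    intro q
    have hq := ht (Set.mem_univ q)
    simp only [Set.mem_iUnion] at hq
    obtain ⟨p, hp, q', hq'⟩ := hq
    refine ⟨PrimeSpectrum.comap (Pi.evalRingHom (fun p : t => A p) ⟨p, hp⟩) q', ?_⟩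
    rw [← hq']
    rfl
  · ext1 a
    funext p
    exact congrArg (fun t => t a) (hψ p)

end Groth.Agent.Lib.Helper3.PSTors
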