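import Mathlib
import Groth.Agent.Lib.Helper4Unibranch

set_option autoImplicit false
set_option linter.style.haveILetI false

namespace Groth.Agent.Lib.Helper3.PiBr

universe u
open IsLocalRing TensorProduct

-- unibranchness descends along an integral birational injection of local domains
theorem isUnibranch_of_integral_birational (E E'' : Type u) [CommRing E] [IsLocalRing E]
    [IsDomain E] [CommRing E''] [IsLocalRing E''] [IsDomain E''] [Algebra E E'']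
    [Algebra.IsIntegral E E'']
    (hinj : Function.Injective (algebraMap E E''))
    (hbir : ∀ z : E'', ∃ b : E, b ≠ 0 ∧ ∃ e : E, algebraMap E E'' b * z = algebraMap E E'' e)
    (h : CAlg2.IsUnibranch E'') (K : Type u) [Field K] [Algebra E'' K] [IsFractionRing E'' K] :
    CAlg2.IsUnibranch E := by
  letI : Algebra E K :=
    ((algebraMap E'' K).comp (algebraMap E E'')).toAlgebra
  haveI : IsScalarTower E E'' K := IsScalarTower.of_algebraMap_eq (fun _ => rfl)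
  have hinjK : Function.Injective (algebraMap E K) :=
    (IsFractionRing.injective E'' K).comp hinj
  haveI : FaithfulSMul E K :=
    (faithfulSMul_iff_algebraMap_injective E K).mpr hinjK
  haveI : IsFractionRing E K := by
    apply IsFractionRing.of_field
    intro z
    obtain ⟨u, v, hv, rfl⟩ := IsFractionRing.div_surjective (A := E'') z
    have hv0 : v ≠ 0 := nonZeroDivisors.ne_zero hv
    obtain ⟨b₁, hb₁, e₁, he₁⟩ := hbir u
    obtain ⟨b₂, hb₂, e₂, he₂⟩ := hbir v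
    refine ⟨e₁ * b₂, e₂ * b₁, ?_⟩
    have hb₁' : algebraMap E K b₁ ≠ 0 :=
      (map_ne_zero_iff _ hinjK).mpr hb₁
    have hb₂' : algebraMap E K b₂ ≠ 0 :=
      (map_ne_zero_iff _ hinjK).mpr hb₂
    have hv' : algebraMap E'' K v ≠ 0 :=
      (map_ne_zero_iff _ (IsFractionRing.injective E'' K)).mpr hv0
    have h1 : algebraMap E K e₁ =
        algebraMap E K b₁ * algebraMap E'' K u := by
      rw [IsScalarTower.algebraMap_apply E E'' K,
        IsScalarTower.algebraMap_apply E E'' K, ← he₁, map_mul]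
    have h2 : algebraMap E K e₂ =
        algebraMap E K b₂ * algebraMap E'' K v := by
      rw [IsScalarTower.algebraMap_apply E E'' K,
        IsScalarTower.algebraMap_apply E E'' K, ← he₂, map_mul]
    rw [map_mul, map_mul, h1, h2]
    field_simp
  rw [Groth.Agent.Lib.Helper4.Unibranch.isUnibranch_iff_of_isDomain E K]
  have h2 := (Groth.Agent.Lib.Helper4.Unibranch.isUnibranch_iff_of_isDomain E''
    K).mp h
  have hset : (integralClosure E'' K).toSubring =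
      (integralClosure E K).toSubring := by
    ext x
    constructor
    · intro hx
      exact isIntegral_trans (R := E) (A := E'') x hx
    · intro hx
      exact IsIntegral.tower_top (A := E'') hx
  exact (RingEquiv.subringCongr hset).isLocalRing

-- Frobenius-type congruence in tensor products
theorem exists_pow_sub_tmul_mem {D D' S' : Type*} [CommRing D] [CommRing D'] [CommRing S']
    [Algebra D D'] [Algebra D S'] (p : ℕ) (hp : p = 1 ∨ p.Prime)
    (Q' : Ideal S')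
    (hpi : ∀ x : S', ∃ (n : ℕ) (r : D), x ^ p ^ n - algebraMap D S' r ∈ Q')
    (I : Ideal (D' ⊗[D] S')) (hpI : p = 1 ∨ (p : D' ⊗[D] S') ∈ I)
    (hQI : ∀ s ∈ Q', (1 : D') ⊗ₜ[D] s ∈ I) (z : D' ⊗[D] S') :
    ∃ (n : ℕ) (δ : D'), z ^ p ^ n - δ ⊗ₜ[D] (1 : S') ∈ I := by
  induction z with
  | zero => exact ⟨0, 0, by simp⟩
  | tmul d s =>
    obtain ⟨n, r, hr⟩ := hpi s
    refine ⟨n, r • d ^ p ^ n, ?_⟩
    have h1 : (d ⊗ₜ[D] s) ^ p ^ n - (r • d ^ p ^ n) ⊗ₜ[D] (1 : S') =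
        ((d ^ p ^ n) ⊗ₜ[D] (1 : S')) * ((1 : D') ⊗ₜ[D] (s ^ p ^ n - algebraMap D S' r)) := by
      rw [Algebra.TensorProduct.tmul_pow, Algebra.TensorProduct.tmul_mul_tmul, mul_one, one_mul,
        TensorProduct.tmul_sub, TensorProduct.smul_tmul, Algebra.algebraMap_eq_smul_one]
    rw [h1]
    exact I.mul_mem_left _ (hQI _ hr)
  | add x y hx hy =>
    obtain ⟨n₁, δ₁, h₁⟩ := hx
    obtain ⟨n₂, δ₂, h₂⟩ := hy
    refine ⟨n₁ + n₂, δ₁ ^ p ^ n₂ + δ₂ ^ p ^ n₁, ?_⟩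
    have e1 : x ^ p ^ (n₁ + n₂) - (δ₁ ^ p ^ n₂) ⊗ₜ[D] (1 : S') ∈ I := by
      have : x ^ p ^ (n₁ + n₂) - (δ₁ ^ p ^ n₂) ⊗ₜ[D] (1 : S') =
          (x ^ p ^ n₁) ^ p ^ n₂ - (δ₁ ⊗ₜ[D] (1 : S')) ^ p ^ n₂ := by
        rw [pow_add, pow_mul, Algebra.TensorProduct.tmul_pow, one_pow]
      rw [this]
      exact Ideal.mem_of_dvd _ (sub_dvd_pow_sub_pow _ _ _) h₁
    have e2 : y ^ p ^ (n₁ + n₂) - (δ₂ ^ p ^ n₁) ⊗ₜ[D] (1 : S') ∈ I := by
      have : y ^ p ^ (n₁ + n₂) - (δ₂ ^ p ^ n₁) ⊗ₜ[D] (1 : S') =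
          (y ^ p ^ n₂) ^ p ^ n₁ - (δ₂ ⊗ₜ[D] (1 : S')) ^ p ^ n₁ := by
        rw [add_comm n₁ n₂, pow_add, pow_mul, Algebra.TensorProduct.tmul_pow, one_pow]
      rw [this]
      exact Ideal.mem_of_dvd _ (sub_dvd_pow_sub_pow _ _ _) h₂
    rcases hp with hp1 | hpp
    · subst hp1
      simp only [one_pow, pow_one] at e1 e2 ⊢
      have : x + y - (δ₁ + δ₂) ⊗ₜ[D] (1 : S') =
          (x - δ₁ ⊗ₜ[D] (1 : S')) + (y - δ₂ ⊗ₜ[D] (1 : S')) := by
        rw [TensorProduct.add_tmul]; ring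
      rw [this]
      exact I.add_mem e1 e2
    · have hpI' : (p : D' ⊗[D] S') ∈ I := by
        rcases hpI with h | h
        · exact absurd h hpp.ne_one
        · exact h
      haveI : Fact p.Prime := ⟨hpp⟩
      obtain ⟨r, hr⟩ := exists_add_pow_prime_pow_eq hpp x y (n₁ + n₂)
      have : (x + y) ^ p ^ (n₁ + n₂) - (δ₁ ^ p ^ n₂ + δ₂ ^ p ^ n₁) ⊗ₜ[D] (1 : S') =
          (x ^ p ^ (n₁ + n₂) - (δ₁ ^ p ^ n₂) ⊗ₜ[D] (1 : S')) +
          (y ^ p ^ (n₁ + n₂) - (δ₂ ^ p ^ n₁) ⊗ₜ[D] (1 : S')) + (p : D' ⊗[D] S') * (x * y * r) := by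
        rw [hr, TensorProduct.add_tmul]; ring
      rw [this]
      exact I.add_mem (I.add_mem e1 e2) (I.mul_mem_right _ hpI')

-- uniqueness of the prime of `D' ⊗ S'` over a prime with purely inseparable residue field
theorem prime_eq_of_comap_eq {D D' S' : Type*} [CommRing D] [CommRing D'] [CommRing S']
    [Algebra D D'] [Algebra D S'] (p : ℕ) (hp : p = 1 ∨ p.Prime)
    (Q' : Ideal S') (hpQ : p = 1 ∨ (p : S') ∈ Q')
    (hpi : ∀ x : S', ∃ (n : ℕ) (r : D), x ^ p ^ n - algebraMap D S' r ∈ Q')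
    (Q₁ Q₂ : Ideal (D' ⊗[D] S')) [Q₁.IsPrime] [Q₂.IsPrime]
    (h₁ : Q₁.comap (Algebra.TensorProduct.includeRight : S' →ₐ[D] D' ⊗[D] S') = Q')
    (h₂ : Q₂.comap (Algebra.TensorProduct.includeRight : S' →ₐ[D] D' ⊗[D] S') = Q')
    (h : Q₁.comap (algebraMap D' (D' ⊗[D] S')) = Q₂.comap (algebraMap D' (D' ⊗[D] S'))) :
    Q₁ = Q₂ := by
  have hppos : 0 < p := by
    rcases hp with h | h
    · omega
    · exact h.pos
  have key : ∀ (Q₁ Q₂ : Ideal (D' ⊗[D] S')) [Q₁.IsPrime] [Q₂.IsPrime],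
      Q₁.comap (Algebra.TensorProduct.includeRight : S' →ₐ[D] D' ⊗[D] S') = Q' →
      Q₂.comap (Algebra.TensorProduct.includeRight : S' →ₐ[D] D' ⊗[D] S') = Q' →
      Q₁.comap (algebraMap D' (D' ⊗[D] S')) = Q₂.comap (algebraMap D' (D' ⊗[D] S')) →
      Q₁ ≤ Q₂ := by
    intro Q₁ Q₂ _ _ h₁ h₂ h z hz
    have hpI : p = 1 ∨ (p : D' ⊗[D] S') ∈ Q₁ ⊓ Q₂ := by
      rcases hpQ with h | h
      · exact Or.inl h
      · right
        have e : (p : D' ⊗[D] S') =
            (Algebra.TensorProduct.includeRight : S' →ₐ[D] D' ⊗[D] S') (p : S') := by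
          rw [map_natCast]
        rw [e]
        refine ⟨?_, ?_⟩
        · have : (p : S') ∈ Q₁.comap
              (Algebra.TensorProduct.includeRight : S' →ₐ[D] D' ⊗[D] S') := by rw [h₁]; exact h
          exact this
        · have : (p : S') ∈ Q₂.comap
              (Algebra.TensorProduct.includeRight : S' →ₐ[D] D' ⊗[D] S') := by rw [h₂]; exact h
          exact this
    have hQI : ∀ s ∈ Q', (1 : D') ⊗ₜ[D] s ∈ Q₁ ⊓ Q₂ := by
      intro s hs
      refine ⟨?_, ?_⟩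
      · have : s ∈ Q₁.comap
            (Algebra.TensorProduct.includeRight : S' →ₐ[D] D' ⊗[D] S') := by rw [h₁]; exact hs
        exact this
      · have : s ∈ Q₂.comap
            (Algebra.TensorProduct.includeRight : S' →ₐ[D] D' ⊗[D] S') := by rw [h₂]; exact hs
        exact this
    obtain ⟨n, δ, hδ⟩ := exists_pow_sub_tmul_mem p hp Q' hpi (Q₁ ⊓ Q₂) hpI hQI z
    have hz1 : z ^ p ^ n ∈ Q₁ := Ideal.pow_mem_of_mem _ hz _ (pow_pos hppos n)
    have hδ1 : δ ⊗ₜ[D] (1 : S') ∈ Q₁ := by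
      have := Q₁.sub_mem hz1 hδ.1
      simpa using this
    have hδ2 : δ ∈ Q₂.comap (algebraMap D' (D' ⊗[D] S')) := by
      rw [← h]
      exact hδ1
    have hδ3 : δ ⊗ₜ[D] (1 : S') ∈ Q₂ := hδ2
    have hz2 : z ^ p ^ n ∈ Q₂ := by
      have := Q₂.add_mem hδ.2 hδ3
      simpa using this
    exact Ideal.IsPrime.mem_of_pow_mem inferInstance _ hz2
  exact le_antisymm (key Q₁ Q₂ h₁ h₂ h) (key Q₂ Q₁ h₂ h₁ h.symm)

end Groth.Agent.Lib.Helper3.PiBr
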