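import Mathlib
import Groth.Agent.Lib.Helper3PiBrA
import Groth.Agent.Lib.Helper3SmGU
import Groth.Agent.Lib.Helper3TensorLocal
import Groth.Agent.S9812
import Groth.Agent.S1964

set_option autoImplicit false
set_option linter.style.haveILetI false

namespace Groth.Agent.Lib.Helper3.PiBr

universe u
open IsLocalRing TensorProduct Groth.Agent.Lib.Helper3

section Aux

variable (D : Type u) [CommRing D] [IsDomain D] [IsLocalRing D]
  (D' : Type u) [CommRing D'] [IsDomain D'] [IsLocalRing D'] [IsIntegrallyClosed D']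
  [Algebra D D'] [Algebra.IsIntegral D D']
  (S' : Type u) [CommRing S'] [Algebra D S']

-- a prime of `D' ⊗ S'` over a prime of `S'` over the closed point lies over the closed point of `D'`
theorem comap_algebraMap_eq_maximalIdeal (Q' : Ideal S') [Q'.IsPrime]
    (hQ' : (maximalIdeal D).map (algebraMap D S') ≤ Q')
    (P : Ideal (D' ⊗[D] S')) [P.IsPrime]
    (hP : P.comap (Algebra.TensorProduct.includeRight : S' →ₐ[D] D' ⊗[D] S') = Q') :
    P.comap (algebraMap D' (D' ⊗[D] S')) = maximalIdeal D' := by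
  have h0 : Q'.comap (algebraMap D S') = maximalIdeal D :=
    ((maximalIdeal.isMaximal D).eq_of_le
      (Ideal.comap_ne_top _ (Ideal.IsPrime.ne_top inferInstance))
      (Ideal.map_le_iff_le_comap.mp hQ')).symm
  have h1 : (P.comap (algebraMap D' (D' ⊗[D] S'))).comap (algebraMap D D') = maximalIdeal D := by
    rw [← h0, ← hP]
    ext d
    simp only [Ideal.mem_comap]
    rw [← IsScalarTower.algebraMap_apply D D' (D' ⊗[D] S'),
      AlgHom.commutes (Algebra.TensorProduct.includeRight : S' →ₐ[D] D' ⊗[D] S') d]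
  haveI : (P.comap (algebraMap D' (D' ⊗[D] S'))).IsPrime := Ideal.comap_isPrime _ _
  have hmax : (P.comap (algebraMap D' (D' ⊗[D] S'))).IsMaximal :=
    Ideal.isMaximal_of_isIntegral_of_isMaximal_comap (R := D) _
      (by rw [h1]; exact maximalIdeal.isMaximal D)
  exact eq_maximalIdeal hmax

set_option maxHeartbeats 3200000 in
theorem isDomain_and_isUnibranch_aux [Algebra.Smooth D S']
    (hinjD : Function.Injective (algebraMap D D'))
    (hfrac : ∀ d : D', ∃ b : D, b ≠ 0 ∧ ∃ a : D, algebraMap D D' b * d = algebraMap D D' a)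
    (Q' : Ideal S') [Q'.IsPrime] (hQ' : (maximalIdeal D).map (algebraMap D S') ≤ Q')
    (p : ℕ) (hp : p = 1 ∨ p.Prime) (hpQ : p = 1 ∨ (p : S') ∈ Q')
    (hpi : ∀ x : S', ∃ (n : ℕ) (r : D), x ^ p ^ n - algebraMap D S' r ∈ Q') :
    IsDomain (Localization.AtPrime Q') ∧ CAlg2.IsUnibranch (Localization.AtPrime Q') := by
  haveI : Algebra.Smooth D' (D' ⊗[D] S') := inferInstance
  haveI : Module.Flat D S' := inferInstance
  have hιint : (Algebra.TensorProduct.includeRight : S' →ₐ[D] D' ⊗[D] S').toRingHom.IsIntegral :=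
    TensorLocal.includeRight_isIntegral
  have hιinj : Function.Injective (Algebra.TensorProduct.includeRight : S' →ₐ[D] D' ⊗[D] S') :=
    Algebra.TensorProduct.includeRight_injective hinjD
  -- existence of a prime over `Q'`
  obtain ⟨Q'', hQ''p, hQ''c⟩ : ∃ Q'' : Ideal (D' ⊗[D] S'), Q''.IsPrime ∧
      Q''.comap (Algebra.TensorProduct.includeRight : S' →ₐ[D] D' ⊗[D] S') = Q' := by
    letI : Algebra S' (D' ⊗[D] S') :=
      (Algebra.TensorProduct.includeRight : S' →ₐ[D] D' ⊗[D] S').toRingHom.toAlgebra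
    haveI : Algebra.IsIntegral S' (D' ⊗[D] S') := ⟨hιint⟩
    have hker : (⊥ : Ideal (D' ⊗[D] S')).comap (algebraMap S' (D' ⊗[D] S')) ≤ Q' := by
      have h0 : RingHom.ker (algebraMap S' (D' ⊗[D] S')) = ⊥ :=
        (RingHom.injective_iff_ker_eq_bot (algebraMap S' (D' ⊗[D] S'))).mp hιinj
      rw [← RingHom.ker_eq_comap_bot, h0]
      exact bot_le
    obtain ⟨Q, -, hQp, hQc⟩ := Ideal.exists_ideal_over_prime_of_isIntegral Q' ⊥ hker
    exact ⟨Q, hQp, hQc⟩
  haveI := hQ''p
  have hQ''D := comap_algebraMap_eq_maximalIdeal D D' S' Q' hQ' Q'' hQ''c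
  -- the local ring at `Q''` is a geometrically unibranch domain
  have hGU' : CAlg2.IsGeomUnibranch D' := Groth.Agent.S9812.result D'
  let e : D' ≃ₐ[D'] Localization.AtPrime (maximalIdeal D') :=
    IsLocalization.atUnits D' (maximalIdeal D').primeCompl (fun x hx => by
      by_contra h
      exact hx ((mem_maximalIdeal x).mpr h))
  have hGU : CAlg2.IsGeomUnibranch (Localization.AtPrime (maximalIdeal D')) :=
    Groth.Agent.Lib.Helper4.Unibranch.isGeomUnibranch_of_ringEquiv e.toRingEquiv hGU'
  obtain ⟨hdomE', hguE'⟩ := SmGU.isDomain_and_isGeomUnibranch_of_smooth D' (D' ⊗[D] S') Q''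
    (maximalIdeal D') hQ''D hGU
  -- the tensor model `D' ⊗ E`
  haveI : Module.Flat D (Localization.AtPrime Q') :=
    Module.Flat.trans D S' (Localization.AtPrime Q')
  obtain ⟨g, hg⟩ : ∃ g : D' ⊗[D] S' →ₐ[D'] D' ⊗[D] Localization.AtPrime Q',
      g = Algebra.TensorProduct.map (AlgHom.id D' D')
        (IsScalarTower.toAlgHom D S' (Localization.AtPrime Q')) := ⟨_, rfl⟩
  letI : Algebra (D' ⊗[D] S') (D' ⊗[D] Localization.AtPrime Q') := g.toRingHom.toAlgebra
  haveI : IsScalarTower D' (D' ⊗[D] S') (D' ⊗[D] Localization.AtPrime Q') :=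
    IsScalarTower.of_algebraMap_eq (fun a => (g.commutes a).symm)
  have hH : (algebraMap (D' ⊗[D] S') (D' ⊗[D] Localization.AtPrime Q')).comp
      (Algebra.TensorProduct.includeRight : S' →ₐ[D] D' ⊗[D] S').toRingHom =
      (Algebra.TensorProduct.includeRight :
        Localization.AtPrime Q' →ₐ[D] D' ⊗[D] Localization.AtPrime Q').toRingHom.comp
        (algebraMap S' (Localization.AtPrime Q')) := by
    ext s
    show g ((1 : D') ⊗ₜ[D] s) = (1 : D') ⊗ₜ[D] algebraMap S' (Localization.AtPrime Q') s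
    rw [hg, Algebra.TensorProduct.map_tmul]
    simp
  have hloc1 := IsLocalization.tensorProduct_tensorProduct_right D D' Q'.primeCompl
    (Localization.AtPrime Q') hH
  have hEint : (Algebra.TensorProduct.includeRight :
      Localization.AtPrime Q' →ₐ[D] D' ⊗[D] Localization.AtPrime Q').toRingHom.IsIntegral :=
    TensorLocal.includeRight_isIntegral
  have hEinj : Function.Injective (Algebra.TensorProduct.includeRight :
      Localization.AtPrime Q' →ₐ[D] D' ⊗[D] Localization.AtPrime Q') :=
    Algebra.TensorProduct.includeRight_injective hinjD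
  have hle : Q'.primeCompl.map
      (Algebra.TensorProduct.includeRight : S' →ₐ[D] D' ⊗[D] S') ≤ Q''.primeCompl := by
    rintro _ ⟨s, hs, rfl⟩
    intro hmem
    apply hs
    rw [← hQ''c]
    exact hmem
  have hunits : ∀ t ∈ Q''.primeCompl,
      IsUnit (algebraMap (D' ⊗[D] S') (D' ⊗[D] Localization.AtPrime Q') t) := by
    intro t ht
    by_contra hnu
    obtain ⟨M, hM, htM⟩ := exists_max_ideal_of_mem_nonunits (mem_nonunits_iff.mpr hnu)
    haveI := hM
    obtain ⟨P, hP⟩ : ∃ P : Ideal (D' ⊗[D] S'),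
        P = M.comap (algebraMap (D' ⊗[D] S') (D' ⊗[D] Localization.AtPrime Q')) := ⟨_, rfl⟩
    haveI : P.IsPrime := by rw [hP]; exact Ideal.comap_isPrime _ _
    have hMmax : (M.comap (Algebra.TensorProduct.includeRight :
        Localization.AtPrime Q' →ₐ[D] D' ⊗[D] Localization.AtPrime Q').toRingHom).IsMaximal :=
      Ideal.isMaximal_comap_of_isIntegral_of_isMaximal' _ hEint M
    have hMm := eq_maximalIdeal hMmax
    have hPc : P.comap (Algebra.TensorProduct.includeRight : S' →ₐ[D] D' ⊗[D] S') = Q' := by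
      have h1 : P.comap (Algebra.TensorProduct.includeRight : S' →ₐ[D] D' ⊗[D] S').toRingHom =
          (maximalIdeal (Localization.AtPrime Q')).comap
            (algebraMap S' (Localization.AtPrime Q')) := by
        rw [hP, Ideal.comap_comap, hH, ← Ideal.comap_comap, hMm]
      have h2 := IsLocalization.AtPrime.under_maximalIdeal (Localization.AtPrime Q') Q'
      rw [Ideal.under_def] at h2
      rw [h2] at h1
      exact h1
    have hPD := comap_algebraMap_eq_maximalIdeal D D' S' Q' hQ' P hPc
    have hPQ : P = Q'' := prime_eq_of_comap_eq p hp Q' hpQ hpi P Q'' hPc hQ''c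
      (by rw [hPD, hQ''D])
    apply ht
    rw [← hPQ, hP]
    exact htM
  haveI hloc2 : IsLocalization.AtPrime (D' ⊗[D] Localization.AtPrime Q') Q'' :=
    IsLocalization.of_le (Q'.primeCompl.map
      (Algebra.TensorProduct.includeRight : S' →ₐ[D] D' ⊗[D] S')) Q''.primeCompl hle hunits
  let e₂ : Localization.AtPrime Q'' ≃ₐ[D' ⊗[D] S'] D' ⊗[D] Localization.AtPrime Q' :=
    IsLocalization.algEquiv Q''.primeCompl _ _
  haveI : IsLocalRing (D' ⊗[D] Localization.AtPrime Q') := e₂.toRingEquiv.isLocalRing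
  haveI : IsDomain (D' ⊗[D] Localization.AtPrime Q') :=
    e₂.symm.toRingEquiv.toMulEquiv.isDomain _
  have hgu₂ : CAlg2.IsGeomUnibranch (D' ⊗[D] Localization.AtPrime Q') :=
    Groth.Agent.Lib.Helper4.Unibranch.isGeomUnibranch_of_ringEquiv e₂.toRingEquiv hguE'
  -- descend to `E`
  letI : Algebra (Localization.AtPrime Q') (D' ⊗[D] Localization.AtPrime Q') :=
    (Algebra.TensorProduct.includeRight :
      Localization.AtPrime Q' →ₐ[D] D' ⊗[D] Localization.AtPrime Q').toRingHom.toAlgebra
  haveI : Algebra.IsIntegral (Localization.AtPrime Q') (D' ⊗[D] Localization.AtPrime Q') :=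
    ⟨hEint⟩
  have hinjE : Function.Injective
      (algebraMap (Localization.AtPrime Q') (D' ⊗[D] Localization.AtPrime Q')) := hEinj
  haveI : IsDomain (Localization.AtPrime Q') :=
    Function.Injective.isDomain
      (algebraMap (Localization.AtPrime Q') (D' ⊗[D] Localization.AtPrime Q')) hinjE
  -- `D → E` is injective
  haveI : IsLocalHom (algebraMap D (Localization.AtPrime Q')) := by
    refine ⟨fun a ha => ?_⟩
    rw [IsScalarTower.algebraMap_apply D S' (Localization.AtPrime Q'),
      IsLocalization.AtPrime.isUnit_to_map_iff (Localization.AtPrime Q') Q'] at ha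
    by_contra hna
    exact ha (hQ' (Ideal.mem_map_of_mem _ ((mem_maximalIdeal a).mpr hna)))
  haveI : Module.FaithfullyFlat D (Localization.AtPrime Q') :=
    Module.FaithfullyFlat.of_flat_of_isLocalHom
  have hinjDE : Function.Injective (algebraMap D (Localization.AtPrime Q')) :=
    FaithfulSMul.algebraMap_injective D (Localization.AtPrime Q')
  have hbir0 : ∀ z : D' ⊗[D] Localization.AtPrime Q', ∃ b : D, b ≠ 0 ∧
      ∃ x : Localization.AtPrime Q', b • z = (1 : D') ⊗ₜ[D] x := by
    intro z
    induction z with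
    | zero => exact ⟨1, one_ne_zero, 0, by simp⟩
    | tmul d x =>
      obtain ⟨b, hb, a, hab⟩ := hfrac d
      refine ⟨b, hb, a • x, ?_⟩
      rw [TensorProduct.smul_tmul', Algebra.smul_def, hab, Algebra.algebraMap_eq_smul_one,
        TensorProduct.smul_tmul]
    | add x y hx hy =>
      obtain ⟨b₁, hb₁, x₁, h₁⟩ := hx
      obtain ⟨b₂, hb₂, x₂, h₂⟩ := hy
      refine ⟨b₁ * b₂, mul_ne_zero hb₁ hb₂, b₂ • x₁ + b₁ • x₂, ?_⟩
      have e1 : (b₁ * b₂) • x = b₂ • (b₁ • x) := by rw [mul_comm, mul_smul]
      have e2 : (b₁ * b₂) • y = b₁ • (b₂ • y) := by rw [mul_smul]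
      rw [smul_add, e1, e2, h₁, h₂, TensorProduct.tmul_add, TensorProduct.tmul_smul,
        TensorProduct.tmul_smul]
  have hbir : ∀ z : D' ⊗[D] Localization.AtPrime Q', ∃ b : Localization.AtPrime Q', b ≠ 0 ∧
      ∃ x : Localization.AtPrime Q',
        algebraMap (Localization.AtPrime Q') (D' ⊗[D] Localization.AtPrime Q') b * z =
        algebraMap (Localization.AtPrime Q') (D' ⊗[D] Localization.AtPrime Q') x := by
    intro z
    obtain ⟨b, hb, x, hx⟩ := hbir0 z
    refine ⟨algebraMap D (Localization.AtPrime Q') b, (map_ne_zero_iff _ hinjDE).mpr hb, x, ?_⟩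
    show ((1 : D') ⊗ₜ[D] (algebraMap D (Localization.AtPrime Q') b)) * z = (1 : D') ⊗ₜ[D] x
    rw [← hx]
    have e3 : b • z = algebraMap D (D' ⊗[D] Localization.AtPrime Q') b * z := Algebra.smul_def b z
    rw [e3, ← (Algebra.TensorProduct.includeRight :
      Localization.AtPrime Q' →ₐ[D] D' ⊗[D] Localization.AtPrime Q').commutes b]
    rfl
  exact ⟨inferInstance, isUnibranch_of_integral_birational (Localization.AtPrime Q')
    (D' ⊗[D] Localization.AtPrime Q') hinjE hbir hgu₂.1
    (FractionRing (D' ⊗[D] Localization.AtPrime Q'))⟩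

end Aux

set_option maxHeartbeats 1600000 in
-- smooth algebras over a henselian local domain: local rings at primes over the closed point
-- with purely inseparable residue field are unibranch domains
theorem isDomain_and_isUnibranch_of_smooth_of_henselian (D : Type u) [CommRing D] [IsDomain D]
    [HenselianLocalRing D] (S' : Type u) [CommRing S'] [Algebra D S'] [Algebra.Smooth D S']
    (Q' : Ideal S') [Q'.IsPrime] (hQ' : (maximalIdeal D).map (algebraMap D S') ≤ Q')
    (p : ℕ) (hp : p = 1 ∨ p.Prime) (hpQ : p = 1 ∨ (p : S') ∈ Q')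
    (hpi : ∀ x : S', ∃ (n : ℕ) (r : D), x ^ p ^ n - algebraMap D S' r ∈ Q') :
    IsDomain (Localization.AtPrime Q') ∧ CAlg2.IsUnibranch (Localization.AtPrime Q') := by
  obtain ⟨D', hD'⟩ : ∃ D' : Subalgebra D (FractionRing D),
      D' = integralClosure D (FractionRing D) := ⟨_, rfl⟩
  haveI : IsDomain D' := inferInstance
  haveI : Algebra.IsIntegral D D' := by rw [hD']; infer_instance
  haveI : IsIntegrallyClosed D' := by
    rw [hD']
    exact integralClosure.isIntegrallyClosedOfFiniteExtension (FractionRing D)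
  obtain ⟨hH, hloc, -⟩ := Groth.Agent.S1964.result D D'
  haveI := hH
  haveI : IsLocalRing D' := inferInstance
  have hinjD : Function.Injective (algebraMap D D') := by
    intro a b hab
    have := congrArg (fun z : D' => (z : FractionRing D)) hab
    exact IsFractionRing.injective D (FractionRing D) this
  have hfrac : ∀ d : D', ∃ b : D, b ≠ 0 ∧ ∃ a : D,
      algebraMap D D' b * d = algebraMap D D' a := by
    intro d
    obtain ⟨a, b, hb, hab⟩ := IsFractionRing.div_surjective (A := D) (d : FractionRing D)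
    have hb0 : b ≠ 0 := nonZeroDivisors.ne_zero hb
    refine ⟨b, hb0, a, Subtype.ext ?_⟩
    show algebraMap D (FractionRing D) b * (d : FractionRing D) = algebraMap D (FractionRing D) a
    rw [← hab]
    have : algebraMap D (FractionRing D) b ≠ 0 :=
      (map_ne_zero_iff _ (IsFractionRing.injective D (FractionRing D))).mpr hb0
    field_simp
  exact isDomain_and_isUnibranch_aux D D' S' hinjD hfrac Q' hQ' p hp hpQ hpi

end Groth.Agent.Lib.Helper3.PiBr
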