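import Mathlib
import Groth.Agent.Lib.Helper3PiBrB
import Groth.Agent.Lib.Helper3SmPrime
import Groth.Agent.Lib.Helper6UniA
import Groth.Agent.S2749
import Groth.Agent.S13598

set_option autoImplicit false
set_option linter.style.haveILetI false

namespace Groth.Agent.Lib.Helper3.PiBr

universe u
open IsLocalRing TensorProduct Groth.Agent.Lib.Helper3

-- henselization of a local ring whose quotient is a unibranch domain
theorem isPrime_map_of_isUnibranch_quotient (A S : Type u) [CommRing A] [IsLocalRing A]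
    [CommRing S] [IsLocalRing S] [Algebra A S] [IsLocalHom (algebraMap A S)]
    [Hensel.IsHenselization A S] (J : Ideal A) [IsLocalRing (A ⧸ J)] [IsDomain (A ⧸ J)]
    (hu : CAlg2.IsUnibranch (A ⧸ J)) : (J.map (algebraMap A S)).IsPrime := by
  have hJ : J ≠ ⊤ := FibBr.ne_top_of_isLocalRing_quot J
  haveI : IsLocalRing (S ⧸ J.map (algebraMap A S)) := FibBr.isLocalRing_quot_map J hJ
  haveI : IsLocalHom (algebraMap (A ⧸ J) (S ⧸ J.map (algebraMap A S))) :=
    FibBr.isLocalHom_quot_map J
  haveI : Hensel.IsHenselization (A ⧸ J) (S ⧸ J.map (algebraMap A S)) :=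
    Groth.Agent.S13598.result J (le_maximalIdeal hJ)
  have hdom : IsDomain (S ⧸ J.map (algebraMap A S)) :=
    (Groth.Agent.S2749.result (A ⧸ J) (S ⧸ J.map (algebraMap A S))).mp ⟨inferInstance, hu⟩
  exact (Ideal.Quotient.isDomain_iff_prime _).mp hdom

set_option maxHeartbeats 1600000 in
-- a prime ideal of a henselian local ring extends to a prime ideal of the henselization of a
-- local ring of a smooth algebra at a prime with purely inseparable residue field
theorem isPrime_map_hz_of_smooth (R R' T : Type u) [CommRing R] [HenselianLocalRing R]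
    [CommRing R'] [Algebra R R'] [Algebra.Smooth R R']
    (q : Ideal R') [q.IsPrime] (hq : (maximalIdeal R).map (algebraMap R R') ≤ q)
    (p : ℕ) (hp : p = 1 ∨ p.Prime) (hpQ : p = 1 ∨ (p : R') ∈ q)
    (hpi : ∀ x : R', ∃ (n : ℕ) (r : R), x ^ p ^ n - algebraMap R R' r ∈ q)
    [CommRing T] [IsLocalRing T] [Algebra (Localization.AtPrime q) T]
    [IsLocalHom (algebraMap (Localization.AtPrime q) T)]
    [Hensel.IsHenselization (Localization.AtPrime q) T]
    (I : Ideal R) [hIprime : I.IsPrime] :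
    (((I.map (algebraMap R R')).map (algebraMap R' (Localization.AtPrime q))).map
      (algebraMap (Localization.AtPrime q) T)).IsPrime := by
  have hIm : I ≤ maximalIdeal R := le_maximalIdeal hIprime.ne_top
  haveI : IsDomain (R ⧸ I) := Ideal.Quotient.isDomain I
  haveI : IsLocalRing (R ⧸ I) :=
    IsLocalRing.of_surjective' (Ideal.Quotient.mk I) Ideal.Quotient.mk_surjective
  haveI : HenselianLocalRing (R ⧸ I) := Groth.Agent.S13598.henselian_quotient I
  haveI : Algebra.Smooth (R ⧸ I) (R' ⧸ I.map (algebraMap R R')) :=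
    Algebra.Smooth.of_equiv (Algebra.TensorProduct.quotIdealMapEquivQuotTensor R' I).symm
  have hI'q : I.map (algebraMap R R') ≤ q := (Ideal.map_mono hIm).trans hq
  obtain ⟨q₁, hq₁⟩ : ∃ q₁ : Ideal (R' ⧸ I.map (algebraMap R R')),
      q₁ = q.map (Ideal.Quotient.mk _) := ⟨_, rfl⟩
  haveI hq₁p : q₁.IsPrime := by
    rw [hq₁]
    exact Ideal.map_isPrime_of_surjective Ideal.Quotient.mk_surjective
      (by rw [Ideal.mk_ker]; exact hI'q)
  have hq₁c : q₁.comap (Ideal.Quotient.mk (I.map (algebraMap R R'))) = q := by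
    rw [hq₁, Ideal.comap_map_of_surjective' _ Ideal.Quotient.mk_surjective, Ideal.mk_ker,
      sup_eq_left]
    exact hI'q
  have hq₁m : (maximalIdeal (R ⧸ I)).map
      (algebraMap (R ⧸ I) (R' ⧸ I.map (algebraMap R R'))) ≤ q₁ := by
    rw [Ideal.map_le_iff_le_comap]
    intro x hx
    obtain ⟨r, rfl⟩ := Ideal.Quotient.mk_surjective x
    have hr : r ∈ maximalIdeal R := by
      rw [mem_maximalIdeal, mem_nonunits_iff]
      intro hu
      exact ((mem_maximalIdeal _).mp hx) (hu.map _)
    rw [Ideal.mem_comap, hq₁]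
    have : algebraMap (R ⧸ I) (R' ⧸ I.map (algebraMap R R')) (Ideal.Quotient.mk I r)
        = Ideal.Quotient.mk _ (algebraMap R R' r) := rfl
    rw [this]
    exact Ideal.mem_map_of_mem _ (hq (Ideal.mem_map_of_mem _ hr))
  have hpQ₁ : p = 1 ∨ (p : R' ⧸ I.map (algebraMap R R')) ∈ q₁ := by
    rcases hpQ with h | h
    · exact Or.inl h
    · right
      have : (p : R' ⧸ I.map (algebraMap R R')) =
          Ideal.Quotient.mk (I.map (algebraMap R R')) (p : R') := by rw [map_natCast]
      rw [this, hq₁]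
      exact Ideal.mem_map_of_mem _ h
  have hpi₁ : ∀ x : R' ⧸ I.map (algebraMap R R'), ∃ (n : ℕ) (r : R ⧸ I),
      x ^ p ^ n - algebraMap (R ⧸ I) (R' ⧸ I.map (algebraMap R R')) r ∈ q₁ := by
    intro x
    obtain ⟨x, rfl⟩ := Ideal.Quotient.mk_surjective x
    obtain ⟨n, r, hr⟩ := hpi x
    refine ⟨n, Ideal.Quotient.mk I r, ?_⟩
    have : algebraMap (R ⧸ I) (R' ⧸ I.map (algebraMap R R')) (Ideal.Quotient.mk I r)
        = Ideal.Quotient.mk _ (algebraMap R R' r) := rfl
    rw [this, ← map_pow, ← map_sub, hq₁]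
    exact Ideal.mem_map_of_mem _ hr
  obtain ⟨hdom₁, hu₁⟩ := isDomain_and_isUnibranch_of_smooth_of_henselian (R ⧸ I)
    (R' ⧸ I.map (algebraMap R R')) q₁ hq₁m p hp hpQ₁ hpi₁
  -- the local ring `Lq / I Lq`
  haveI hloc2 := SmGU.isLocalization_atPrime_quotient (I.map (algebraMap R R')) q hI'q q₁ hq₁
  let e₁ : Localization.AtPrime q₁ ≃ₐ[R' ⧸ I.map (algebraMap R R')]
      (Localization.AtPrime q ⧸
        (I.map (algebraMap R R')).map (algebraMap R' (Localization.AtPrime q))) :=
    IsLocalization.algEquiv q₁.primeCompl _ _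
  haveI : IsLocalRing (Localization.AtPrime q ⧸
      (I.map (algebraMap R R')).map (algebraMap R' (Localization.AtPrime q))) :=
    e₁.toRingEquiv.isLocalRing
  haveI : IsDomain (Localization.AtPrime q ⧸
      (I.map (algebraMap R R')).map (algebraMap R' (Localization.AtPrime q))) :=
    e₁.symm.toRingEquiv.toMulEquiv.isDomain _
  have hu₂ : CAlg2.IsUnibranch (Localization.AtPrime q ⧸
      (I.map (algebraMap R R')).map (algebraMap R' (Localization.AtPrime q))) :=
    Groth.Agent.Lib.Helper6.Uni.isUnibranch_of_ringEquiv e₁.toRingEquiv hu₁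
  exact isPrime_map_of_isUnibranch_quotient (Localization.AtPrime q) T
    ((I.map (algebraMap R R')).map (algebraMap R' (Localization.AtPrime q))) hu₂

end Groth.Agent.Lib.Helper3.PiBr
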