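import Mathlib

set_option autoImplicit false
set_option linter.style.haveILetI false

namespace Groth.Agent.Lib.Helper3.PiBr

universe u
open IsLocalRing TensorProduct

-- Frobenius-type congruence in tensor products, general form
theorem exists_pow_sub_tmul_mem' {D D' S' : Type*} [CommRing D] [CommRing D'] [CommRing S']
    [Algebra D D'] [Algebra D S'] (p : ℕ) (hp : p = 1 ∨ p.Prime)
    (I : Ideal (D' ⊗[D] S')) (hpI : p = 1 ∨ (p : D' ⊗[D] S') ∈ I)
    (hpi : ∀ s : S', ∃ (n : ℕ) (δ : D'), ((1 : D') ⊗ₜ[D] s) ^ p ^ n - δ ⊗ₜ[D] (1 : S') ∈ I)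
    (z : D' ⊗[D] S') :
    ∃ (n : ℕ) (δ : D'), z ^ p ^ n - δ ⊗ₜ[D] (1 : S') ∈ I := by
  induction z with
  | zero => exact ⟨0, 0, by simp⟩
  | tmul d s =>
    obtain ⟨n, δ, hδ⟩ := hpi s
    refine ⟨n, d ^ p ^ n * δ, ?_⟩
    have h1 : (d ⊗ₜ[D] s) ^ p ^ n - (d ^ p ^ n * δ) ⊗ₜ[D] (1 : S') =
        ((d ^ p ^ n) ⊗ₜ[D] (1 : S')) * (((1 : D') ⊗ₜ[D] s) ^ p ^ n - δ ⊗ₜ[D] (1 : S')) := by
      rw [mul_sub, Algebra.TensorProduct.tmul_pow, Algebra.TensorProduct.tmul_pow,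
        Algebra.TensorProduct.tmul_mul_tmul, Algebra.TensorProduct.tmul_mul_tmul, one_pow, mul_one,
        one_mul, mul_one]
    rw [h1]
    exact I.mul_mem_left _ hδ
  | add x y hx hy =>
    obtain ⟨n₁, δ₁, h₁⟩ := hx
    obtain ⟨n₂, δ₂, h₂⟩ := hy
    refine ⟨n₁ + n₂, δ₁ ^ p ^ n₂ + δ₂ ^ p ^ n₁, ?_⟩
    have e1 : x ^ p ^ (n₁ + n₂) - (δ₁ ^ p ^ n₂) ⊗ₜ[D] (1 : S') ∈ I := by
      have : x ^ p ^ (n₁ + n₂) - (δ₁ ^ p ^ n₂) ⊗ₜ[D] (1 : S') =
          (x ^ p ^ n₁) ^ p ^ n₂ - (δ₁ ⊗ₜ[D] (1 : S')) ^ p ^ n₂ := by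
        rw [pow_add, pow_mul, Algebra.TensorProduct.tmul_pow, one_pow]
      rw [this]
      exact Ideal.mem_of_dvd _ (sub_dvd_pow_sub_pow _ _ _) h₁
    have e2 : y ^ p ^ (n₁ + n₂) - (δ₂ ^ p ^ n₁) ⊗ₜ[D] (1 : S') ∈ I := by
      have : y ^ p ^ (n₁ + n₂) - (δ₂ ^ p ^ n₁) ⊗ₜ[D] (1 : S') =
          (y ^ p ^ n₂) ^ p ^ n₁ - (δ₂ ⊗ₜ[D] (1 : S')) ^ p ^ n₁ := by
        rw [add_comm n₁ n₂, pow_add, pow_mul, Algebra.TensorProduct.tmul_pow, one_pow]
      rw [this]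
      exact Ideal.mem_of_dvd _ (sub_dvd_pow_sub_pow _ _ _) h₂
    rcases hp with hp1 | hpp
    · subst hp1
      simp only [one_pow, pow_one] at e1 e2 ⊢
      have : x + y - (δ₁ + δ₂) ⊗ₜ[D] (1 : S') =
          (x - δ₁ ⊗ₜ[D] (1 : S')) + (y - δ₂ ⊗ₜ[D] (1 : S')) := by
        rw [TensorProduct.add_tmul]; ring
      rw [this]
      exact I.add_mem e1 e2
    · have hpI' : (p : D' ⊗[D] S') ∈ I := by
        rcases hpI with h | h
        · exact absurd h hpp.ne_one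
        · exact h
      obtain ⟨r, hr⟩ := exists_add_pow_prime_pow_eq hpp x y (n₁ + n₂)
      have : (x + y) ^ p ^ (n₁ + n₂) - (δ₁ ^ p ^ n₂ + δ₂ ^ p ^ n₁) ⊗ₜ[D] (1 : S') =
          (x ^ p ^ (n₁ + n₂) - (δ₁ ^ p ^ n₂) ⊗ₜ[D] (1 : S')) +
          (y ^ p ^ (n₁ + n₂) - (δ₂ ^ p ^ n₁) ⊗ₜ[D] (1 : S')) +
          (p : D' ⊗[D] S') * (x * y * r) := by
        rw [hr, TensorProduct.add_tmul]; ring
      rw [this]
      exact I.add_mem (I.add_mem e1 e2) (I.mul_mem_right _ hpI')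

-- unpacking a purely inseparable residue field extension
theorem exists_of_isPurelyInseparable {R S : Type u} [CommRing R] [CommRing S] [Algebra R S]
    (q : Ideal S) [q.IsPrime] (p : Ideal R) [p.IsPrime] [q.LiesOver p]
    (hpi : @IsPurelyInseparable p.ResidueField q.ResidueField _ _
      (Ideal.ResidueField.mapₐ p q (Algebra.ofId R S) (q.over_def p)).toRingHom.toAlgebra) :
    ∃ p₀ : ℕ, (p₀ = 1 ∨ p₀.Prime) ∧ (p₀ = 1 ∨ (p₀ : R) ∈ p) ∧
      ∀ s : S, ∃ (n : ℕ) (a b : R), b ∉ p ∧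
        algebraMap R S b * s ^ p₀ ^ n - algebraMap R S a ∈ q := by
  letI : Algebra p.ResidueField q.ResidueField :=
    (Ideal.ResidueField.mapₐ p q (Algebra.ofId R S) (q.over_def p)).toRingHom.toAlgebra
  haveI : IsPurelyInseparable p.ResidueField q.ResidueField := hpi
  obtain ⟨p₀, hp₀⟩ : ∃ p₀, ExpChar p.ResidueField p₀ :=
    ⟨ringExpChar p.ResidueField, inferInstance⟩
  haveI := hp₀
  have hcomm : ∀ r : R, algebraMap p.ResidueField q.ResidueField (algebraMap R p.ResidueField r) =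
      algebraMap S q.ResidueField (algebraMap R S r) := by
    intro r
    show Ideal.ResidueField.mapₐ p q (Algebra.ofId R S) (q.over_def p)
      (algebraMap R p.ResidueField r) = _
    rw [Ideal.ResidueField.mapₐ_apply, Ideal.ResidueField.map_algebraMap]
    rfl
  refine ⟨p₀, (expChar_is_prime_or_one p.ResidueField p₀).symm, ?_, ?_⟩
  · cases hp₀ with
    | zero => exact Or.inl rfl
    | prime hprime =>
      right
      rw [← Ideal.algebraMap_residueField_eq_zero (I := p), map_natCast]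
      exact CharP.cast_eq_zero _ _
  · intro s
    obtain ⟨n, y, hy⟩ := IsPurelyInseparable.pow_mem p.ResidueField p₀
      (algebraMap S q.ResidueField s)
    obtain ⟨a', b', hb', rfl⟩ := IsFractionRing.div_surjective (A := R ⧸ p) y
    obtain ⟨a, rfl⟩ := Ideal.Quotient.mk_surjective a'
    obtain ⟨b, rfl⟩ := Ideal.Quotient.mk_surjective b'
    have hb0 : Ideal.Quotient.mk p b ≠ 0 := nonZeroDivisors.ne_zero hb'
    have hbp : b ∉ p := fun h => hb0 (Ideal.Quotient.eq_zero_iff_mem.mpr h)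
    refine ⟨n, a, b, hbp, ?_⟩
    rw [← Ideal.algebraMap_residueField_eq_zero (I := q), map_sub, map_mul, map_pow, ← hy,
      map_div₀, Ideal.algebraMap_quotient_residueField_mk, Ideal.algebraMap_quotient_residueField_mk,
      hcomm, hcomm]
    have hne : algebraMap S q.ResidueField (algebraMap R S b) ≠ 0 := by
      rw [Ne, Ideal.algebraMap_residueField_eq_zero]
      intro hmem
      apply hbp
      have : b ∈ q.under R := hmem
      rwa [← q.over_def p] at this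
    field_simp
    ring

end Groth.Agent.Lib.Helper3.PiBr
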