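import Mathlib

set_option autoImplicit false
set_option linter.style.haveILetI false
universe u v w

namespace Groth.Agent.Lib.Helper3.ProdEtale

variable (A : Type u) (E : Type v) (F : Type v) [CommRing A] [CommRing E] [CommRing F]
  [Algebra A E] [Algebra A F]

/-- The two-member family `E, F` indexed by `Bool`. -/
def Fam : Bool → Type v
  | true => E
  | false => F

instance instCommRingFam : ∀ i, CommRing (Fam E F i)
  | true => inferInstanceAs (CommRing E)
  | false => inferInstanceAs (CommRing F)

instance instAlgebraFam : ∀ i, Algebra A (Fam E F i)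
  | true => inferInstanceAs (Algebra A E)
  | false => inferInstanceAs (Algebra A F)

instance instEtaleFam [Algebra.Etale A E] [Algebra.Etale A F] : ∀ i, Algebra.Etale A (Fam E F i)
  | true => inferInstanceAs (Algebra.Etale A E)
  | false => inferInstanceAs (Algebra.Etale A F)

/-- The product over the two-member family is the binary product. -/
def famEquiv : (∀ i, Fam E F i) ≃ₐ[A] E × F where
  toFun x := (x true, x false)
  invFun y := fun i => match i with
    | true => y.1
    | false => y.2
  left_inv x := by funext i; cases i <;> rfl
  right_inv y := rfl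
  map_mul' _ _ := rfl
  map_add' _ _ := rfl
  commutes' a := rfl

/-- A binary product of étale algebras is étale. -/
theorem etale_prod [Algebra.Etale A E] [Algebra.Etale A F] : Algebra.Etale A (E × F) :=
  Algebra.Etale.of_equiv (famEquiv A E F)

/-- If the images of `Spec E` and `Spec F` cover `Spec A`, then `Spec (E × F) → Spec A` is
surjective. -/
theorem comap_prod_surjective
    (h : ∀ p : PrimeSpectrum A, p ∈ Set.range (PrimeSpectrum.comap (algebraMap A E)) ∨
      p ∈ Set.range (PrimeSpectrum.comap (algebraMap A F))) :
    Function.Surjective (PrimeSpectrum.comap (algebraMap A (E × F))) := by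
  intro p
  rcases h p with ⟨q, hq⟩ | ⟨q, hq⟩
  · refine ⟨PrimeSpectrum.comap (RingHom.fst E F) q, ?_⟩
    rw [← hq]
    rfl
  · refine ⟨PrimeSpectrum.comap (RingHom.snd E F) q, ?_⟩
    rw [← hq]
    rfl

/-- A binary product of étale algebras whose spectra jointly cover is faithfully flat. -/
theorem faithfullyFlat_prod [Algebra.Etale A E] [Algebra.Etale A F]
    (h : ∀ p : PrimeSpectrum A, p ∈ Set.range (PrimeSpectrum.comap (algebraMap A E)) ∨
      p ∈ Set.range (PrimeSpectrum.comap (algebraMap A F))) :
    Module.FaithfullyFlat A (E × F) := by
  haveI := etale_prod A E F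
  exact Module.FaithfullyFlat.of_comap_surjective (comap_prod_surjective A E F h)

end Groth.Agent.Lib.Helper3.ProdEtale
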