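import Mathlib

set_option linter.style.haveILetI false
set_option autoImplicit false

universe u

open CategoryTheory AlgebraicGeometry TopologicalSpace

namespace Groth.Agent.Lib.Helper3.ProfImgA

section Top
variable {X : Type*} [TopologicalSpace X]

-- the intersection of all clopen sets containing x
def qcomp (x : X) : Set X := ⋂ s : { s : Set X // IsClopen s ∧ x ∈ s }, (s : Set X)

theorem mem_qcomp (x : X) : x ∈ qcomp x := by
  simp only [qcomp, Set.mem_iInter]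
  exact fun s => s.2.2

theorem isClosed_qcomp (x : X) : IsClosed (qcomp x) :=
  isClosed_iInter fun s => s.2.1.1

-- compactness: if a compact set misses the quasi-component, it misses some clopen containing x
theorem exists_clopen_disjoint (x : X) {K : Set X} (hK : IsCompact K)
    (h : K ∩ qcomp x = ∅) : ∃ Z : Set X, IsClopen Z ∧ x ∈ Z ∧ K ∩ Z = ∅ := by
  classical
  by_contra hcon
  push Not at hcon
  have := hK.inter_iInter_nonempty (fun s : { s : Set X // IsClopen s ∧ x ∈ s } => (s : Set X))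
    (fun s => s.2.1.1) (by
      intro u
      have hcl : IsClopen (⋂ i ∈ u, (i : Set X)) :=
        isClopen_biInter_finset fun i _ => i.2.1
      have hx : x ∈ ⋂ i ∈ u, (i : Set X) := by
        simp only [Set.mem_iInter]
        exact fun i _ => i.2.2
      exact hcon _ hcl hx)
  rw [Set.nonempty_iff_ne_empty] at this
  exact this h

variable [CompactSpace X] [QuasiSeparatedSpace X] [PrespectralSpace X]

theorem qcomp_subset_of_mem {x : X} {a b : Set X} (ha : IsClosed a) (hb : IsClosed b)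
    (hab : Disjoint a b) (hS : qcomp x ⊆ a ∪ b) (hx : x ∈ a) : qcomp x ⊆ a := by
  set S := qcomp x with hSdef
  have hScl : IsClosed S := isClosed_qcomp x
  set B := S ∩ a with hB
  set C := S ∩ b with hC
  have hBcl : IsClosed B := hScl.inter ha
  have hCcl : IsClosed C := hScl.inter hb
  have hBC : Disjoint B C := hab.mono Set.inter_subset_right Set.inter_subset_right
  obtain ⟨U', hU'c, hU'o, hBU', hU'C⟩ := PrespectralSpace.exists_isCompact_and_isOpen_between
    hBcl.isCompact hCcl.isOpen_compl (Disjoint.subset_compl_right hBC)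
  obtain ⟨V', hV'c, hV'o, hCV', hV'B⟩ := PrespectralSpace.exists_isCompact_and_isOpen_between
    hCcl.isCompact hBcl.isOpen_compl (Disjoint.subset_compl_left hBC)
  have hSU : S ∩ U' ⊆ B := by
    rintro y ⟨hyS, hyU⟩
    rcases hS hyS with hya | hyb
    · exact ⟨hyS, hya⟩
    · exact absurd ⟨hyS, hyb⟩ (hU'C hyU)
  have hSV : S ∩ V' ⊆ C := by
    rintro y ⟨hyS, hyV⟩
    rcases hS hyS with hya | hyb
    · exact absurd ⟨hyS, hya⟩ (hV'B hyV)
    · exact ⟨hyS, hyb⟩
  have h1 : (U' ∩ V') ∩ S = ∅ := by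
    ext y
    simp only [Set.mem_inter_iff, Set.mem_empty_iff_false, iff_false]
    rintro ⟨⟨hyU, hyV⟩, hyS⟩
    exact Set.disjoint_left.mp hBC (hSU ⟨hyS, hyU⟩) (hSV ⟨hyS, hyV⟩)
  have h2 : (U' ∪ V')ᶜ ∩ S = ∅ := by
    ext y
    simp only [Set.mem_inter_iff, Set.mem_empty_iff_false, iff_false]
    rintro ⟨hy, hyS⟩
    apply hy
    rcases hS hyS with hya | hyb
    · exact Or.inl (hBU' ⟨hyS, hya⟩)
    · exact Or.inr (hCV' ⟨hyS, hyb⟩)
  obtain ⟨Z₁, hZ₁, hxZ₁, hZ₁e⟩ := exists_clopen_disjoint x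
    (QuasiSeparatedSpace.inter_isCompact U' V' hU'o hU'c hV'o hV'c) h1
  obtain ⟨Z₂, hZ₂, hxZ₂, hZ₂e⟩ := exists_clopen_disjoint x
    ((hU'o.union hV'o).isClosed_compl.isCompact) h2
  -- Z := Z₁ ∩ Z₂
  have hZcl : IsClopen (Z₁ ∩ Z₂) := hZ₁.inter hZ₂
  have hZsub : Z₁ ∩ Z₂ ⊆ U' ∪ V' := by
    intro y hy
    by_contra hcon
    have : y ∈ (U' ∪ V')ᶜ ∩ Z₂ := ⟨hcon, hy.2⟩
    rw [hZ₂e] at this
    exact this
  have hZdis : (Z₁ ∩ Z₂) ∩ U' ∩ V' = ∅ := by
    ext y
    simp only [Set.mem_inter_iff, Set.mem_empty_iff_false, iff_false]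
    rintro ⟨⟨⟨hy1, _⟩, hyU⟩, hyV⟩
    have : y ∈ (U' ∩ V') ∩ Z₁ := ⟨⟨hyU, hyV⟩, hy1⟩
    rw [hZ₁e] at this
    exact this
  have hW : IsClopen ((Z₁ ∩ Z₂) ∩ U') := by
    refine ⟨?_, hZcl.2.inter hU'o⟩
    have : (Z₁ ∩ Z₂) ∩ U' = (Z₁ ∩ Z₂) ∩ V'ᶜ := by
      ext y
      constructor
      · rintro ⟨hyZ, hyU⟩
        refine ⟨hyZ, fun hyV => ?_⟩
        have : y ∈ (Z₁ ∩ Z₂) ∩ U' ∩ V' := ⟨⟨hyZ, hyU⟩, hyV⟩
        rw [hZdis] at this
        exact this
      · rintro ⟨hyZ, hyV⟩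
        rcases hZsub hyZ with h | h
        · exact ⟨hyZ, h⟩
        · exact absurd h hyV
    rw [this]
    exact hZcl.1.inter hV'o.isClosed_compl
  have hxW : x ∈ (Z₁ ∩ Z₂) ∩ U' := ⟨⟨hxZ₁, hxZ₂⟩, hBU' ⟨mem_qcomp x, hx⟩⟩
  have hSW : S ⊆ (Z₁ ∩ Z₂) ∩ U' := by
    intro y hy
    have := Set.mem_iInter.mp hy ⟨_, hW, hxW⟩
    exact this
  intro y hy
  exact (hSU ⟨hy, (hSW hy).2⟩).2

theorem isPreconnected_qcomp (x : X) : IsPreconnected (qcomp x) := by
  rw [isPreconnected_iff_subset_of_fully_disjoint_closed (isClosed_qcomp x)]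
  intro a b ha hb hS hab
  rcases hS (mem_qcomp x) with hx | hx
  · exact Or.inl (qcomp_subset_of_mem ha hb hab hS hx)
  · exact Or.inr (qcomp_subset_of_mem hb ha hab.symm (by rwa [Set.union_comm]) hx)

theorem connectedComponent_eq_qcomp (x : X) : connectedComponent x = qcomp x :=
  Set.Subset.antisymm connectedComponent_subset_iInter_isClopen
    ((isPreconnected_qcomp x).subset_connectedComponent (mem_qcomp x))

-- separation: a point outside the connected component of x is separated from x by a clopen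
theorem exists_clopen_of_not_mem_connectedComponent {x y : X} (h : y ∉ connectedComponent x) :
    ∃ Z : Set X, IsClopen Z ∧ x ∈ Z ∧ y ∉ Z := by
  rw [connectedComponent_eq_qcomp] at h
  simp only [qcomp, Set.mem_iInter, not_forall] at h
  obtain ⟨s, hs⟩ := h
  exact ⟨s, s.2.1, s.2.2, hs⟩

end Top

section Aff

-- shrinking an affine open around a closed set inside an open set
theorem exists_isAffineOpen_between {X : Scheme.{u}} {V : X.Opens} (hV : IsAffineOpen V)
    {Y : Set X} (hY : IsClosed Y) {O : Set X} (hO : IsOpen O) (h : Y ∩ (V : Set X) ⊆ O) :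
    ∃ D : X.Opens, IsAffineOpen D ∧ D ≤ V ∧ (D : Set X) ⊆ O ∧ Y ∩ (V : Set X) ⊆ (D : Set X) := by
  have hcont : Continuous (hV.fromSpec : Spec Γ(X, V) → X) := hV.fromSpec.continuous
  have hY' : IsClosed ((hV.fromSpec : Spec Γ(X, V) → X) ⁻¹' Y) := hY.preimage hcont
  have hC' : IsClosed ((hV.fromSpec : Spec Γ(X, V) → X) ⁻¹' Oᶜ) :=
    hO.isClosed_compl.preimage hcont
  obtain ⟨I, hI⟩ := (PrimeSpectrum.isClosed_iff_zeroLocus_ideal _).mp hY'
  obtain ⟨J, hJ⟩ := (PrimeSpectrum.isClosed_iff_zeroLocus_ideal _).mp hC'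
  have hrange : ∀ p : Spec Γ(X, V), (hV.fromSpec : Spec Γ(X, V) → X) p ∈ (V : Set X) := by
    intro p
    have : (hV.fromSpec : Spec Γ(X, V) → X) p ∈ Set.range (hV.fromSpec : Spec Γ(X, V) → X) :=
      ⟨p, rfl⟩
    rwa [hV.range_fromSpec] at this
  have hIJ : I ⊔ J = ⊤ := by
    rw [← PrimeSpectrum.zeroLocus_empty_iff_eq_top, PrimeSpectrum.zeroLocus_sup, ← hI, ← hJ]
    ext p
    simp only [Set.mem_inter_iff, Set.mem_empty_iff_false, iff_false, not_and]
    intro hp hp2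
    exact hp2 (h ⟨hp, hrange p⟩)
  obtain ⟨i, hi, j, hj, hij⟩ := Submodule.mem_sup.mp ((Ideal.eq_top_iff_one _).mp hIJ)
  refine ⟨X.basicOpen j, hV.basicOpen j, X.basicOpen_le j, ?_, ?_⟩
  · intro d hd
    have hdV : d ∈ (V : Set X) := X.basicOpen_le j hd
    rw [← hV.range_fromSpec] at hdV
    obtain ⟨p, rfl⟩ := hdV
    have hp : p ∈ (hV.fromSpec ⁻¹ᵁ X.basicOpen j : (Spec Γ(X, V)).Opens) := hd
    rw [hV.fromSpec_preimage_basicOpen] at hp
    by_contra hcon
    have : p ∈ (hV.fromSpec : Spec Γ(X, V) → X) ⁻¹' Oᶜ := hcon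
    rw [hJ] at this
    exact hp (this hj)
  · rintro y ⟨hyY, hyV⟩
    rw [← hV.range_fromSpec] at hyV
    obtain ⟨p, rfl⟩ := hyV
    have hp : p ∈ (hV.fromSpec : Spec Γ(X, V) → X) ⁻¹' Y := hyY
    rw [hI] at hp
    have hip : i ∈ p.asIdeal := hp hi
    have hjp : j ∉ p.asIdeal := by
      intro hjp
      have : (1 : Γ(X, V)) ∈ p.asIdeal := by
        rw [← hij]; exact p.asIdeal.add_mem hip hjp
      exact p.isPrime.ne_top ((Ideal.eq_top_iff_one _).mpr this)
    have : p ∈ (hV.fromSpec ⁻¹ᵁ X.basicOpen j : (Spec Γ(X, V)).Opens) := by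
      rw [hV.fromSpec_preimage_basicOpen]
      exact hjp
    exact this

end Aff

end Groth.Agent.Lib.Helper3.ProfImgA
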