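import Mathlib
import Groth.Agent.Lib.Helper3ProfImgA

set_option linter.style.haveILetI false
set_option autoImplicit false

universe u

open TopologicalSpace

namespace Groth.Agent.Lib.Helper3.ProfImgC

open Groth.Agent.Lib.Helper3.ProfImgA

-- Let `f : T → X` be continuous, `T` compact, `X` quasi-separated prespectral.  If for each `t` a
-- compact open `V t` of `X` contains all `f s` lying in the connected component of `f t`, then
-- `T` is covered by finitely many pairwise disjoint opens `O j` such that `f s ∈ O j` implies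
-- `f s ∈ V (τ j)`.
theorem exists_disjoint_cover {X T : Type*} [TopologicalSpace X] [TopologicalSpace T]
    [CompactSpace T] [QuasiSeparatedSpace X] [PrespectralSpace X] (f : T → X) (hf : Continuous f)
    (V : T → Opens X) (hVc : ∀ t, IsCompact (V t : Set X))
    (hV : ∀ t s, f s ∈ connectedComponent (f t) → f s ∈ V t) :
    ∃ (m : ℕ) (τ : Fin m → T) (O : Fin m → Opens X), Pairwise (Function.onFun Disjoint O) ∧
      (∀ s : T, ∃ j, f s ∈ O j) ∧ (∀ j s, f s ∈ O j → f s ∈ V (τ j)) := by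
  classical
  -- first finite cover
  obtain ⟨F, hF⟩ := CompactSpace.elim_nhds_subcover (fun t : T => f ⁻¹' (V t : Set X))
    (fun t => ((V t).isOpen.preimage hf).mem_nhds
      (hV t t mem_connectedComponent))
  obtain ⟨Q, hQdef⟩ : ∃ Q : Set X, Q = ⋃ t ∈ F, (V t : Set X) := ⟨_, rfl⟩
  have hQopen : IsOpen Q := by
    rw [hQdef]; exact isOpen_biUnion fun t _ => (V t).isOpen
  have hQc : IsCompact Q := by
    rw [hQdef]; exact F.isCompact_biUnion fun t _ => hVc t
  have hfQ : ∀ s, f s ∈ Q := by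
    intro s
    have : s ∈ ⋃ t ∈ F, f ⁻¹' (V t : Set X) := by rw [hF]; trivial
    simp only [Set.mem_iUnion, Set.mem_preimage] at this
    obtain ⟨t, ht, hs⟩ := this
    rw [hQdef]
    simp only [Set.mem_iUnion]
    exact ⟨t, ht, hs⟩
  haveI : CompactSpace Q := isCompact_iff_compactSpace.mp hQc
  haveI : QuasiSeparatedSpace Q := hQopen.isOpenEmbedding_subtypeVal.quasiSeparatedSpace
  haveI : PrespectralSpace Q := hQopen.isOpenEmbedding_subtypeVal.prespectralSpace
  obtain ⟨fQ, hfQdef⟩ : ∃ fQ : T → Q, ∀ s, (fQ s : X) = f s := ⟨fun s => ⟨f s, hfQ s⟩, fun _ => rfl⟩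
  have hfQc : Continuous fQ := by
    rw [continuous_induced_rng]
    have : (Subtype.val ∘ fQ) = f := funext hfQdef
    rw [this]; exact hf
  -- clopens
  have hZ : ∀ t : T, ∃ Z : Set Q, IsClopen Z ∧ fQ t ∈ Z ∧ ∀ s, fQ s ∈ Z → f s ∈ V t := by
    intro t
    have hKc : IsCompact (fQ '' (f ⁻¹' (V t : Set X))ᶜ) :=
      (((V t).isOpen.preimage hf).isClosed_compl.isCompact).image hfQc
    have hdisj : fQ '' (f ⁻¹' (V t : Set X))ᶜ ∩ qcomp (fQ t) = ∅ := by
      rw [Set.eq_empty_iff_forall_notMem]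
      rintro y ⟨⟨s, hs, rfl⟩, hy⟩
      rw [← connectedComponent_eq_qcomp] at hy
      apply hs
      have h1 := continuous_subtype_val.image_connectedComponent_subset (fQ t) ⟨fQ s, hy, rfl⟩
      rw [hfQdef, hfQdef] at h1
      exact hV t s h1
    obtain ⟨Z, hZcl, hZt, hZK⟩ := exists_clopen_disjoint (fQ t) hKc hdisj
    refine ⟨Z, hZcl, hZt, fun s hs => ?_⟩
    by_contra hne
    have : fQ s ∈ fQ '' (f ⁻¹' (V t : Set X))ᶜ ∩ Z := ⟨⟨s, hne, rfl⟩, hs⟩
    rw [hZK] at this
    exact this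
  choose Z hZcl hZt hZV using hZ
  -- second finite cover
  obtain ⟨F', hF'⟩ := CompactSpace.elim_nhds_subcover (fun t : T => fQ ⁻¹' (Z t))
    (fun t => ((hZcl t).2.preimage hfQc).mem_nhds (hZt t))
  obtain ⟨τ, hτ⟩ : ∃ τ : Fin F'.card → T, ∀ t ∈ F', ∃ j, τ j = t := by
    refine ⟨fun j => (F'.equivFin.symm j : T), fun t ht => ⟨F'.equivFin ⟨t, ht⟩, ?_⟩⟩
    simp
  obtain ⟨W, hWdef⟩ : ∃ W : Fin F'.card → Set Q, W = disjointed (fun j => Z (τ j)) := ⟨_, rfl⟩
  have hWclopen : ∀ j, IsClopen (W j) := by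
    intro j
    rw [hWdef]
    exact disjointedRec (f := fun j => Z (τ j)) (p := IsClopen)
      (fun t i ht => ht.diff (hZcl (τ i))) (hZcl (τ j))
  have hWdisj : Pairwise (Function.onFun Disjoint W) := by
    rw [hWdef]; exact disjoint_disjointed _
  have hWle : ∀ j, W j ⊆ Z (τ j) := by
    intro j; rw [hWdef]; exact disjointed_subset _ j
  have hWcover : ∀ s, ∃ j, fQ s ∈ W j := by
    intro s
    have h1 : s ∈ ⋃ t ∈ F', fQ ⁻¹' (Z t) := by rw [hF']; trivial
    simp only [Set.mem_iUnion, Set.mem_preimage] at h1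
    obtain ⟨t, ht, hs⟩ := h1
    obtain ⟨j, rfl⟩ := hτ t ht
    have h2 : fQ s ∈ ⋃ j, (fun j => Z (τ j)) j := Set.mem_iUnion.mpr ⟨j, hs⟩
    rw [← iUnion_disjointed, ← hWdef] at h2
    exact Set.mem_iUnion.mp h2
  refine ⟨F'.card, τ, fun j => ⟨Subtype.val '' W j,
    hQopen.isOpenMap_subtype_val _ (hWclopen j).2⟩, ?_, ?_, ?_⟩
  · intro i j hij
    have := hWdisj hij
    change Disjoint (W i) (W j) at this
    change Disjoint (⟨Subtype.val '' W i, _⟩ : Opens X) ⟨Subtype.val '' W j, _⟩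
    rw [← Opens.coe_disjoint]
    exact (Set.disjoint_image_iff Subtype.val_injective).mpr this
  · intro s
    obtain ⟨j, hj⟩ := hWcover s
    exact ⟨j, ⟨fQ s, hj, hfQdef s⟩⟩
  · rintro j s ⟨y, hy, hys⟩
    have : y = fQ s := Subtype.val_injective (hys.trans (hfQdef s).symm)
    rw [this] at hy
    exact hZV _ s (hWle j hy)

end Groth.Agent.Lib.Helper3.ProfImgC
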