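import Mathlib
import Groth.Agent.Lib.Helper3PuncConnA
import Groth.Agent.Lib.Helper4Unibranch
import Groth.Agent.S2135

set_option linter.style.haveILetI false
set_option autoImplicit false

open TensorProduct IsLocalRing

universe u

namespace Groth.Agent.Lib.Helper3.PuncConn

/-- A Noetherian local ring whose punctured spectrum is connected, and in which every non-maximal
prime contains exactly one minimal prime, has a unique minimal prime. -/
theorem hasUniqueMinimalPrime_of_connected (S : Type u) [CommRing S] [IsLocalRing S]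
    [IsNoetherianRing S]
    (hconn : ConnectedSpace ↥({closedPoint S}ᶜ : Set (PrimeSpectrum S)))
    (huniq : ∀ q : Ideal S, q.IsPrime → q ≠ maximalIdeal S → ∀ P P' : Ideal S,
      P ∈ minimalPrimes S → P' ∈ minimalPrimes S → P ≤ q → P' ≤ q → P = P') :
    CAlgX.HasUniqueMinimalPrime S := by
  classical
  obtain ⟨q0, hq0⟩ := hconn.toNonempty
  have hq0m : q0.asIdeal ≠ maximalIdeal S := by
    intro h
    apply hq0
    rw [Set.mem_singleton_iff]
    exact PrimeSpectrum.ext h
  have hne : ∀ P ∈ minimalPrimes S, P ≠ maximalIdeal S := by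
    intro P hP hPm
    have h1 : q0.asIdeal ≤ P := hPm ▸ le_maximalIdeal q0.2.ne_top
    have h2 : P ≤ q0.asIdeal := hP.2 ⟨q0.2, bot_le⟩ h1
    exact hq0m ((le_antisymm h1 h2).trans hPm)
  obtain ⟨P1, hP1, -⟩ := Ideal.exists_minimalPrimes_le (I := (⊥ : Ideal S)) (J := q0.asIdeal) bot_le
  refine ⟨P1, hP1, ?_⟩
  intro P2 hP2
  by_contra hne12
  have hfin : (minimalPrimes S).Finite := minimalPrimes.finite_of_isNoetherianRing S
  have hpre : IsPreconnected ({closedPoint S}ᶜ : Set (PrimeSpectrum S)) :=
    isPreconnected_iff_preconnectedSpace.mpr inferInstance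
  let t : Set (PrimeSpectrum S) := PrimeSpectrum.zeroLocus (P1 : Set S)
  let t' : Set (PrimeSpectrum S) :=
    ⋃ P' ∈ (minimalPrimes S \ {P1}), PrimeSpectrum.zeroLocus (P' : Set S)
  have ht : IsClosed t := PrimeSpectrum.isClosed_zeroLocus _
  have ht' : IsClosed t' :=
    Set.Finite.isClosed_biUnion (hfin.subset Set.sdiff_subset)
      (fun _ _ => PrimeSpectrum.isClosed_zeroLocus _)
  have hcov : ({closedPoint S}ᶜ : Set (PrimeSpectrum S)) ⊆ t ∪ t' := by
    intro q _
    obtain ⟨P, hP, hPq⟩ :=
      Ideal.exists_minimalPrimes_le (I := (⊥ : Ideal S)) (J := q.asIdeal) bot_le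
    by_cases hPP : P = P1
    · left
      subst hPP
      exact (PrimeSpectrum.mem_zeroLocus _ _).mpr hPq
    · right
      exact Set.mem_biUnion (⟨hP, hPP⟩ : P ∈ minimalPrimes S \ {P1})
        ((PrimeSpectrum.mem_zeroLocus _ _).mpr hPq)
  have hpt : ∀ P (hP : P ∈ minimalPrimes S),
      (⟨P, hP.1.1⟩ : PrimeSpectrum S) ∈ ({closedPoint S}ᶜ : Set (PrimeSpectrum S)) := by
    intro P hP h
    rw [Set.mem_singleton_iff] at h
    exact hne P hP (congrArg PrimeSpectrum.asIdeal h)
  have hn1 : (({closedPoint S}ᶜ : Set (PrimeSpectrum S)) ∩ t).Nonempty :=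
    ⟨⟨P1, hP1.1.1⟩, hpt P1 hP1, (PrimeSpectrum.mem_zeroLocus _ _).mpr le_rfl⟩
  have hn2 : (({closedPoint S}ᶜ : Set (PrimeSpectrum S)) ∩ t').Nonempty :=
    ⟨⟨P2, hP2.1.1⟩, hpt P2 hP2, Set.mem_biUnion (⟨hP2, hne12⟩ : P2 ∈ minimalPrimes S \ {P1})
      ((PrimeSpectrum.mem_zeroLocus _ _).mpr le_rfl)⟩
  obtain ⟨q, hqU, hqt, hqt'⟩ := isPreconnected_closed_iff.mp hpre t t' ht ht' hcov hn1 hn2
  obtain ⟨P', hP', hqP'⟩ := Set.mem_iUnion₂.mp hqt'
  have hqm : q.asIdeal ≠ maximalIdeal S := by
    intro h
    apply hqU
    rw [Set.mem_singleton_iff]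
    exact PrimeSpectrum.ext h
  have := huniq q.asIdeal q.2 hqm P' P1 hP'.1 hP1 ((PrimeSpectrum.mem_zeroLocus _ _).mp hqP')
    ((PrimeSpectrum.mem_zeroLocus _ _).mp hqt)
  exact hP'.2 this

/-- A zero-dimensional local ring is geometrically unibranch. -/
theorem isGeomUnibranch_of_maximalIdeal_le_nilradical (A : Type u) [CommRing A] [IsLocalRing A]
    (h : maximalIdeal A ≤ nilradical A) : CAlg2.IsGeomUnibranch A := by
  obtain ⟨S, _, _, _, _, _⟩ := Groth.Agent.Lib.Helper3.Branch.exists_isStrictHenselization A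
  rw [Groth.Agent.S2135.result (A := A) (Ash := S)]
  have hmS : maximalIdeal S ≤ nilradical S := by
    rw [← Groth.Agent.Lib.Helper3.HzP.sh_map_maximalIdeal A S, Ideal.map_le_iff_le_comap]
    intro a ha
    rw [Ideal.mem_comap, mem_nilradical]
    exact (mem_nilradical.mp (h ha)).map _
  have hall : ∀ q : Ideal S, q.IsPrime → q = maximalIdeal S := by
    intro q hq
    exact le_antisymm (le_maximalIdeal hq.ne_top) (hmS.trans (nilradical_le_prime q))
  refine ⟨maximalIdeal S, ⟨⟨inferInstance, bot_le⟩, ?_⟩, ?_⟩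
  · rintro q ⟨hq, -⟩ _
    exact (hall q hq).ge
  · intro q hq
    exact hall q hq.1.1


/-- **Ring-level form of the punctured-spectrum criterion.** Let `R` be a Noetherian ring such
that for every non-minimal prime `P` the punctured spectrum of every strict henselization of `R_P`
is connected. Then all local rings of `R` are geometrically unibranch. -/
theorem isGeomUnibranch_localization_of_connected (R : Type u) [CommRing R] [IsNoetherianRing R]
    (H : ∀ (P : Ideal R) [P.IsPrime], P ∉ minimalPrimes R →
      ∀ (S : Type u) [CommRing S] [IsLocalRing S] [Algebra (Localization.AtPrime P) S]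
        [IsLocalHom (algebraMap (Localization.AtPrime P) S)]
        [Hensel.IsStrictHenselization (Localization.AtPrime P) S],
        ConnectedSpace ↥({closedPoint S}ᶜ : Set (PrimeSpectrum S)))
    (P : Ideal R) [P.IsPrime] : CAlg2.IsGeomUnibranch (Localization.AtPrime P) := by
  suffices h : ∀ n : ℕ, ∀ (P : Ideal R) [P.IsPrime], P.height = n →
      CAlg2.IsGeomUnibranch (Localization.AtPrime P) by
    obtain ⟨n, hn⟩ := ENat.ne_top_iff_exists.mp (P.height_ne_top Ideal.IsPrime.ne_top')
    exact h n P hn.symm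
  intro n
  induction n using Nat.strong_induction_on with
  | _ n ih =>
    intro P _ hPn
    have IH : ∀ (P' : Ideal R) [P'.IsPrime], P' < P →
        CAlg2.IsGeomUnibranch (Localization.AtPrime P') := by
      intro P' _ hlt
      obtain ⟨m, hm⟩ := ENat.ne_top_iff_exists.mp (P'.height_ne_top Ideal.IsPrime.ne_top')
      have h1 : P'.height < P.height := Ideal.height_strict_mono_of_isPrime hlt
      rw [hPn, ← hm] at h1
      exact ih m (by exact_mod_cast h1) P' hm.symm
    let A := Localization.AtPrime P
    by_cases hmin : P ∈ minimalPrimes R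
    · apply isGeomUnibranch_of_maximalIdeal_le_nilradical
      rw [nilradical_eq_sInf]
      refine le_sInf ?_
      intro J hJ
      have hJ' : J.IsPrime := hJ
      have hcm : (maximalIdeal A).comap (algebraMap R A) = P :=
        IsLocalization.AtPrime.under_maximalIdeal A P
      have h1 : J.comap (algebraMap R A) ≤ P :=
        (Ideal.comap_mono (le_maximalIdeal hJ'.ne_top)).trans hcm.le
      have h2 : P ≤ J.comap (algebraMap R A) :=
        hmin.2 ⟨Ideal.comap_isPrime _ _, bot_le⟩ h1
      have h3 : J.comap (algebraMap R A) = P := le_antisymm h1 h2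
      have h4 : J = maximalIdeal A := by
        rw [← IsLocalization.map_under P.primeCompl A J]
        change Ideal.map (algebraMap R A) (J.comap (algebraMap R A)) = _
        rw [h3]
        exact Localization.AtPrime.map_eq_maximalIdeal
      exact h4.ge
    · obtain ⟨S, _, _, _, _, _⟩ := Groth.Agent.Lib.Helper3.Branch.exists_isStrictHenselization A
      rw [Groth.Agent.S2135.result (A := A) (Ash := S)]
      haveI : IsNoetherianRing A := IsLocalization.isNoetherianRing P.primeCompl A inferInstance
      haveI : IsNoetherianRing S := Groth.Agent.Lib.Helper3.HzP.sh_isNoetherianRing A S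
      apply hasUniqueMinimalPrime_of_connected S (H P hmin S)
      intro q hq hqm P1 P2 hP1 hP2 h1 h2
      let p : Ideal A := q.comap (algebraMap A S)
      haveI : p.IsPrime := Ideal.comap_isPrime _ _
      have hpm : p ≠ maximalIdeal A := by
        intro hp
        apply hqm
        refine le_antisymm (le_maximalIdeal hq.ne_top) ?_
        rw [← Groth.Agent.Lib.Helper3.HzP.sh_map_maximalIdeal A S, Ideal.map_le_iff_le_comap, ← hp]
      let P' : Ideal R := p.comap (algebraMap R A)
      haveI : P'.IsPrime := Ideal.comap_isPrime _ _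
      have hcm : (maximalIdeal A).comap (algebraMap R A) = P :=
        IsLocalization.AtPrime.under_maximalIdeal A P
      have hP'le : P' ≤ P :=
        (Ideal.comap_mono (le_maximalIdeal (Ideal.IsPrime.ne_top'))).trans hcm.le
      have hP'ne : P' ≠ P := by
        intro hP'
        apply hpm
        rw [← IsLocalization.map_under P.primeCompl A p]
        change Ideal.map (algebraMap R A) P' = _
        rw [hP']
        exact Localization.AtPrime.map_eq_maximalIdeal
      have hgu' : CAlg2.IsGeomUnibranch (Localization.AtPrime P') := IH P' (lt_of_le_of_ne hP'le hP'ne)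
      let e : Localization.AtPrime P' ≃ₐ[R] Localization.AtPrime p :=
        IsLocalization.localizationLocalizationAtPrimeIsoLocalization P.primeCompl p
      have hgu : CAlg2.IsGeomUnibranch (Localization.AtPrime p) :=
        Groth.Agent.Lib.Helper4.Unibranch.isGeomUnibranch_of_ringEquiv e.toRingEquiv hgu'
      obtain ⟨P0, -, hP0⟩ := existsUnique_minimalPrimes_le_of_sh A S q hgu
      rw [hP0 P1 ⟨hP1, h1⟩, hP0 P2 ⟨hP2, h2⟩]

end Groth.Agent.Lib.Helper3.PuncConn
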