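import Mathlib
import Groth.Agent.Lib.Helper3TwcC
import Groth.Agent.Lib.Helper3IrrTopE
import Groth.Agent.Lib.Helper3EtGUSchF

set_option autoImplicit false
set_option linter.style.haveILetI false
set_option linter.unusedSectionVars false

universe u

open CategoryTheory AlgebraicGeometry Limits

namespace Groth.Agent.Lib.Helper3.RatSecA

open Groth.Agent.Lib.Helper3.TwcA Groth.Agent.Lib.Helper3.IrrTop Groth.Agent.Lib.Helper3.EtGUSch

-- uniqueness of the generization in the generic fibre at a point whose local ring has a prime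
-- nilradical
theorem eq_of_specializes_of_generic {X Y : Scheme.{u}} (f : X ⟶ Y) [IrreducibleSpace Y]
    [LocallyQuasiFinite f] (x : X) (hmin : (nilradical (X.presheaf.stalk x)).IsPrime)
    (ξ ξ' : X) (hξ : f ξ = genericPoint Y) (hξ' : f ξ' = genericPoint Y) (h : ξ ⤳ x)
    (h' : ξ' ⤳ x) : ξ = ξ' := by
  haveI := hmin
  let K : PrimeSpectrum (X.presheaf.stalk x) := ⟨nilradical _, hmin⟩
  suffices key : ∀ ζ : X, f ζ = genericPoint Y → ζ ⤳ x → ζ = X.fromSpecStalk x K by
    rw [key ξ hξ h, key ξ' hξ' h']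
  intro ζ hζ hs
  obtain ⟨P, rfl⟩ : ζ ∈ Set.range (X.fromSpecStalk x) := by
    rw [Scheme.range_fromSpecStalk]; exact hs
  have hKP : K ⤳ P := by
    rw [← PrimeSpectrum.le_iff_specializes]
    change nilradical _ ≤ P.asIdeal
    exact nilradical_le_prime P.asIdeal
  have h2 : X.fromSpecStalk x K ⤳ X.fromSpecStalk x P := hKP.map (X.fromSpecStalk x).continuous
  have h3 : f (X.fromSpecStalk x K) = f (X.fromSpecStalk x P) := by
    have h4 : f (X.fromSpecStalk x K) ⤳ f (X.fromSpecStalk x P) := h2.map f.continuous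
    rw [hζ] at h4 ⊢
    exact (h4.antisymm ((genericPoint_spec Y).specializes (Set.mem_univ _))).eq
  exact (eq_of_specializes_of_fiber f h2 h3).symm

-- an etale separated morphism with a single point over the generic point, with trivial residue
-- field extension, is a monomorphism
theorem mono_of_unique_generic_point {N Y : Scheme.{u}} [IrreducibleSpace Y] (g : N ⟶ Y)
    [Etale g] [IsSeparated g] (ξ : N)
    (huniq : ∀ w : N, g w = genericPoint Y → w = ξ)
    (hbij : Function.Bijective (g.residueFieldMap ξ).hom) : Mono g := by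
  haveI : IsOpenImmersion (pullback.diagonal g) := inferInstance
  haveI : IsClosedImmersion (pullback.diagonal g) := inferInstance
  have hfst : pullback.diagonal g ≫ pullback.fst g g = 𝟙 N := pullback.diagonal_fst g
  have hsnd : pullback.diagonal g ≫ pullback.snd g g = 𝟙 N := pullback.diagonal_snd g
  have hcl : IsClosed (Set.range (pullback.diagonal g)) :=
    (pullback.diagonal g).isClosedEmbedding.isClosed_range
  haveI : Surjective (pullback.diagonal g) := by
    refine ⟨fun d => ?_⟩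
    haveI : Flat (pullback.fst g g ≫ g) := inferInstance
    have h1 : genericPoint Y ⤳ (pullback.fst g g ≫ g) d :=
      (genericPoint_spec Y).specializes (Set.mem_univ _)
    obtain ⟨d', hd', hgd'⟩ := Flat.generalizingMap (pullback.fst g g ≫ g) h1
    have e1 : pullback.fst g g d' = ξ := by
      apply huniq
      rw [← Scheme.Hom.comp_apply]; exact hgd'
    have e2 : pullback.snd g g d' = ξ := by
      apply huniq
      rw [← Scheme.Hom.comp_apply, ← pullback.condition]; exact hgd'
    have e3 : pullback.fst g g (pullback.diagonal g ξ) = ξ := by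
      rw [← Scheme.Hom.comp_apply, hfst]; rfl
    have e4 : pullback.snd g g (pullback.diagonal g ξ) = ξ := by
      rw [← Scheme.Hom.comp_apply, hsnd]; rfl
    have hd'eq : d' = pullback.diagonal g ξ := by
      apply eq_of_fst_eq_of_snd_eq g g
      · rw [e1, e3]
      · rw [e2, e4]
      · exact Groth.Agent.Lib.Helper3.TwcC.residueFieldMap_bijective_of_eq g e3.symm hbij
    have hmem : d' ∈ Set.range (pullback.diagonal g) := ⟨ξ, hd'eq.symm⟩
    exact hd'.mem_closed hcl hmem
  haveI : IsIso (pullback.diagonal g) :=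
    (isIso_iff_isOpenImmersion_and_surjective _).mpr ⟨inferInstance, inferInstance⟩
  have heq : pullback.fst g g = pullback.snd g g := by
    rw [← cancel_epi (pullback.diagonal g), hfst, hsnd]
  refine ⟨fun {W} a b hab => ?_⟩
  have ha : pullback.lift a b hab ≫ pullback.fst g g = a := pullback.lift_fst _ _ _
  have hb : pullback.lift a b hab ≫ pullback.snd g g = b := pullback.lift_snd _ _ _
  exact ha.symm.trans ((congrArg (fun φ => pullback.lift a b hab ≫ φ) heq).trans hb)

-- the local structure at a point of the closure of a rational section: an open neighbourhood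
-- mapping isomorphically onto an open of the base
theorem exists_openImmersion_nhds {X Y : Scheme.{u}} [IsIntegral Y] (f : X ⟶ Y) [IsSeparated f]
    [LocallyOfFiniteType f] [FormallyUnramified f] (ξ z : X) (hξ : f ξ = genericPoint Y)
    (hs : ξ ⤳ z) (hbij : Function.Bijective (f.residueFieldMap ξ).hom)
    (hy : CAlg2.IsGeomUnibranch (Y.presheaf.stalk (f z))) :
    ∃ N : X.Opens, z ∈ N ∧ ξ ∈ N ∧ IsOpenImmersion (N.ι ≫ f) := by
  have hinj := stalkMap_injective_of_specializes f z ξ hs hξ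
  obtain ⟨W, hzW, hét⟩ := exists_etale_nhd_of_integral f z hy hinj
    ⟨⊤, trivial,
      HasRingHomProperty.comp_of_isOpenImmersion (P := @FormallyUnramified) _ _ inferInstance⟩
  haveI := hét
  obtain ⟨g, hg⟩ : ∃ g : (W : Scheme.{u}) ⟶ Y, g = W.ι ≫ f := ⟨_, rfl⟩
  haveI : Etale g := by rw [hg]; exact hét
  haveI : IsSeparated g := by rw [hg]; infer_instance
  haveI : IrreducibleSpace Y := inferInstance
  haveI : LocallyQuasiFinite g := locallyQuasiFinite_of_unramified g
  have hξW : ξ ∈ W := hs.mem_open W.isOpen hzW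
  obtain ⟨zW, hzWdef⟩ : ∃ zW : (W : Scheme.{u}), zW = ⟨z, hzW⟩ := ⟨_, rfl⟩
  obtain ⟨ξW, hξWdef⟩ : ∃ ξW : (W : Scheme.{u}), ξW = ⟨ξ, hξW⟩ := ⟨_, rfl⟩
  have hgξ : g ξW = genericPoint Y := by
    rw [hg, Scheme.Hom.comp_apply, hξWdef]; exact hξ
  have hgz : g zW = f z := by
    rw [hg, Scheme.Hom.comp_apply, hzWdef]; rfl
  have hsW : ξW ⤳ zW := by
    rw [hξWdef, hzWdef]
    exact (subtype_specializes_iff (⟨ξ, hξW⟩ : W) ⟨z, hzW⟩).mpr hs
  have hy' : CAlg2.IsGeomUnibranch (Y.presheaf.stalk (g zW)) := by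
    rw [hgz]; exact hy
  have hmin : (nilradical ((W : Scheme.{u}).presheaf.stalk zW)).IsPrime :=
    nilradical_isPrime_stalk_of_etale_nhd g zW hy' ⟨⊤, trivial, inferInstance⟩
  obtain ⟨N₀, hN₀o, hzN₀, hfin⟩ := exists_open_finite_fiber g (genericPoint Y) zW
  -- remove the closures of the other points of the generic fibre
  obtain ⟨F, hF⟩ : ∃ F : Set (W : Scheme.{u}),
      F = (g ⁻¹' {genericPoint Y} ∩ N₀) \ {ξW} := ⟨_, rfl⟩
  have hFfin : F.Finite := by rw [hF]; exact hfin.subset Set.sdiff_subset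
  obtain ⟨C, hCdef⟩ : ∃ C : Set (W : Scheme.{u}), C = ⋃ ξ' ∈ F, closure {ξ'} := ⟨_, rfl⟩
  have hC : IsClosed C := by
    rw [hCdef]; exact hFfin.isClosed_biUnion (fun _ _ => isClosed_closure)
  have hzC : zW ∉ C := by
    intro h
    rw [hCdef] at h
    simp only [Set.mem_iUnion] at h
    obtain ⟨ξ', hξ'F, hz'⟩ := h
    rw [hF] at hξ'F
    obtain ⟨⟨hξ'G, _⟩, hne⟩ := hξ'F
    exact hne (eq_of_specializes_of_generic g zW hmin ξ' ξW hξ'G hgξ
      (specializes_iff_mem_closure.mpr hz') hsW)
  obtain ⟨N, hNdef⟩ : ∃ N : (W : Scheme.{u}).Opens, (N : Set (W : Scheme.{u})) = N₀ \ C :=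
    ⟨⟨N₀ \ C, hN₀o.sdiff hC⟩, rfl⟩
  have hzN : zW ∈ N := by
    change zW ∈ (N : Set (W : Scheme.{u}))
    rw [hNdef]; exact ⟨hzN₀, hzC⟩
  have hξN : ξW ∈ N := hsW.mem_open N.isOpen hzN
  obtain ⟨g', hg'⟩ : ∃ g' : (N : Scheme.{u}) ⟶ Y, g' = N.ι ≫ g := ⟨_, rfl⟩
  haveI : Etale g' := by rw [hg']; infer_instance
  haveI : IsSeparated g' := by rw [hg']; infer_instance
  obtain ⟨ξN, hξNdef⟩ : ∃ ξN : (N : Scheme.{u}), ξN = ⟨ξW, hξN⟩ := ⟨_, rfl⟩
  have huniq : ∀ w : (N : Scheme.{u}), g' w = genericPoint Y → w = ξN := by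
    intro w hw
    by_contra hne
    have hwG : N.ι w ∈ g ⁻¹' {genericPoint Y} := by
      change g (N.ι w) = genericPoint Y
      rw [← Scheme.Hom.comp_apply, ← hg']; exact hw
    have hwN : N.ι w ∈ N₀ \ C := by
      rw [← hNdef]; exact w.2
    have hwF : N.ι w ∈ F := by
      rw [hF]
      refine ⟨⟨hwG, hwN.1⟩, fun h => hne ?_⟩
      rw [hξNdef]
      exact Subtype.ext h
    apply hwN.2
    rw [hCdef]
    exact Set.mem_biUnion hwF (subset_closure rfl)
  have hbij' : Function.Bijective (g'.residueFieldMap ξN).hom := by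
    rw [hg']
    apply Groth.Agent.Lib.Helper3.TwcC.residueFieldMap_bijective_comp
    · exact ConcreteCategory.bijective_of_isIso _
    · rw [hg]
      apply Groth.Agent.Lib.Helper3.TwcC.residueFieldMap_bijective_comp
      · exact ConcreteCategory.bijective_of_isIso _
      · have e : ξ = W.ι (N.ι ξN) := by
          have h1 : N.ι ξN = ξW := by rw [hξNdef]; rfl
          rw [h1, hξWdef]; rfl
        exact Groth.Agent.Lib.Helper3.TwcC.residueFieldMap_bijective_of_eq f e hbij
  haveI : Mono g' := mono_of_unique_generic_point g' ξN huniq hbij'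
  haveI : IsOpenImmersion g' := IsOpenImmersion.of_flat_of_mono g'
  refine ⟨W.ι ''ᵁ N, ⟨zW, hzN, by rw [hzWdef]; rfl⟩, ⟨ξW, hξN, by rw [hξWdef]; rfl⟩, ?_⟩
  have heq : (W.ι ''ᵁ N).ι ≫ f = (W.ι.isoImage N).inv ≫ g' := by
    rw [hg', hg, ← Scheme.Hom.isoImage_inv_ι, Category.assoc, Category.assoc]
  rw [heq]
  infer_instance

end Groth.Agent.Lib.Helper3.RatSecA
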