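import Mathlib
import Groth.Agent.Lib.Helper3RatSecA
import Groth.Agent.Lib.Helper3TwcE

set_option autoImplicit false
set_option linter.style.haveILetI false
set_option linter.unusedSectionVars false

universe u

open CategoryTheory AlgebraicGeometry Limits

namespace Groth.Agent.Lib.Helper3.RatSecB

open Groth.Agent.Lib.Helper3.TwcA Groth.Agent.Lib.Helper3.IrrTop Groth.Agent.Lib.Helper3.EtGUSch
  Groth.Agent.Lib.Helper3.RatSecA

-- an irreducible open neighbourhood of a point whose local ring has a prime nilradical, when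
-- the irreducible components are locally finite
theorem exists_irreducible_open_nhds {Y : Scheme.{u}}
    (hcomp : LocallyFinite (fun Z : ↥(irreducibleComponents ↥Y) => (Z : Set ↥Y)))
    (y : Y) (hmin : (nilradical (Y.presheaf.stalk y)).IsPrime) :
    ∃ Y₀ : Y.Opens, y ∈ Y₀ ∧ IsIrreducible (Y₀ : Set Y) := by
  haveI := hmin
  let K : PrimeSpectrum (Y.presheaf.stalk y) := ⟨nilradical _, hmin⟩
  have key : ∀ Z ∈ irreducibleComponents Y, y ∈ Z → Z = closure {Y.fromSpecStalk y K} := by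
    intro Z hZ hsZ
    have hcl : IsClosed Z := isClosed_of_mem_irreducibleComponents Z hZ
    let ζ := hZ.1.genericPoint
    have hζ : closure {ζ} = Z := (hZ.1.isGenericPoint_genericPoint hcl).def
    have hζs : ζ ⤳ y := by
      rw [specializes_iff_mem_closure, hζ]; exact hsZ
    obtain ⟨P, hP⟩ : ζ ∈ Set.range (Y.fromSpecStalk y) := by
      rw [Scheme.range_fromSpecStalk]; exact hζs
    have hKP : K ⤳ P := by
      rw [← PrimeSpectrum.le_iff_specializes]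
      change nilradical _ ≤ P.asIdeal
      exact nilradical_le_prime P.asIdeal
    have h2 : Y.fromSpecStalk y K ⤳ ζ := by
      rw [← hP]; exact hKP.map (Y.fromSpecStalk y).continuous
    have hle : Z ⊆ closure {Y.fromSpecStalk y K} := by
      rw [← hζ, isClosed_closure.closure_subset_iff, Set.singleton_subset_iff]
      exact specializes_iff_mem_closure.mp h2
    exact le_antisymm hle (hZ.2 isIrreducible_singleton.closure hle)
  obtain ⟨N, hN, hNfin⟩ := hcomp y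
  obtain ⟨𝒵, h𝒵⟩ : ∃ 𝒵 : Set ↥(irreducibleComponents ↥Y),
      𝒵 = {Z : ↥(irreducibleComponents ↥Y) | ((Z : Set Y) ∩ N).Nonempty ∧ y ∉ (Z : Set Y)} :=
    ⟨_, rfl⟩
  have h𝒵fin : 𝒵.Finite := by
    rw [h𝒵]; exact hNfin.subset (fun Z hZ => hZ.1)
  obtain ⟨C, hCdef⟩ : ∃ C : Set Y, C = ⋃ Z ∈ 𝒵, (Z : Set Y) := ⟨_, rfl⟩
  have hC : IsClosed C := by
    rw [hCdef]
    exact h𝒵fin.isClosed_biUnion (fun Z _ => isClosed_of_mem_irreducibleComponents Z.1 Z.2)
  have hyC : y ∉ C := by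
    intro h
    rw [hCdef] at h
    simp only [Set.mem_iUnion] at h
    obtain ⟨Z, hZ𝒵, hyZ⟩ := h
    rw [h𝒵] at hZ𝒵
    exact hZ𝒵.2 hyZ
  refine ⟨⟨interior N \ C, isOpen_interior.sdiff hC⟩,
    ⟨mem_interior_iff_mem_nhds.mpr hN, hyC⟩,
    ⟨⟨y, mem_interior_iff_mem_nhds.mpr hN, hyC⟩, ?_⟩⟩
  have hsub : (interior N \ C) ⊆ closure {Y.fromSpecStalk y K} := by
    intro w hw
    have hZw := irreducibleComponent_mem_irreducibleComponents w
    have hyw : y ∈ irreducibleComponent w := by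
      by_contra hny
      apply hw.2
      rw [hCdef]
      refine Set.mem_biUnion (x := (⟨irreducibleComponent w, hZw⟩ : ↥(irreducibleComponents ↥Y)))
        ?_ mem_irreducibleComponent
      rw [h𝒵]
      exact ⟨⟨w, mem_irreducibleComponent, interior_subset hw.1⟩, hny⟩
    rw [← key _ hZw hyw]; exact mem_irreducibleComponent
  exact (isIrreducible_singleton.closure.isPreirreducible).open_subset
    (isOpen_interior.sdiff hC) hsub

-- the stalk of an open subscheme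
theorem isGeomUnibranch_stalk_opens' {S : Scheme.{u}} (V : S.Opens) (y : V)
    (h : CAlg2.IsGeomUnibranch (S.presheaf.stalk y.1)) :
    CAlg2.IsGeomUnibranch ((V : Scheme.{u}).presheaf.stalk y) :=
  Groth.Agent.Lib.Helper4.Unibranch.isGeomUnibranch_of_ringEquiv
    (V.stalkIso y).symm.commRingCatIsoToRingEquiv h

theorem isGeomUnibranch_stalk_congr {Y : Scheme.{u}} (y y' : Y) (h : y = y')
    (hy : CAlg2.IsGeomUnibranch (Y.presheaf.stalk y)) :
    CAlg2.IsGeomUnibranch (Y.presheaf.stalk y') := by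
  subst h; exact hy

-- if a composite and its second factor induce bijections on residue fields, so does the first
lemma residueFieldMap_bijective_of_comp_right {A B C : Scheme.{u}} (g : A ⟶ B) (f : B ⟶ C)
    (a : A) (h : Function.Bijective ((g ≫ f).residueFieldMap a).hom) :
    Function.Bijective (g.residueFieldMap a).hom := by
  have key : ∀ w, ((g ≫ f).residueFieldMap a).hom w =
      (g.residueFieldMap a).hom ((f.residueFieldMap (g a)).hom w) := by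
    intro w
    have e := Scheme.residueFieldMap_comp g f a
    exact congrArg (fun φ => φ.hom w) e
  refine ⟨RingHom.injective _, ?_⟩
  intro z
  obtain ⟨w, hw⟩ := h.2 z
  exact ⟨(f.residueFieldMap (g a)).hom w, (key w).symm.trans hw⟩

-- extension of a rational section at a geometrically unibranch point
theorem exists_extension {X Y : Scheme.{u}} [IsReduced Y]
    (hcomp : LocallyFinite (fun Z : ↥(irreducibleComponents ↥Y) => (Z : Set ↥Y)))
    (f : X ⟶ Y) [IsSeparated f] [LocallyOfFiniteType f] [FormallyUnramified f]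
    (U : Y.Opens) (hU : Dense (U : Set ↥Y)) (u : (U : Scheme.{u}) ⟶ X) (hu : u ≫ f = U.ι)
    (y : Y) (hy : CAlg2.IsGeomUnibranch (Y.presheaf.stalk y))
    (hZ : (closure (Set.range u) ∩ f ⁻¹' {y}).Nonempty) :
    ∃ (V : Y.Opens) (v : (V : Scheme.{u}) ⟶ X), y ∈ V ∧ v ≫ f = V.ι ∧
      Y.homOfLE (inf_le_left : U ⊓ V ≤ U) ≫ u = Y.homOfLE (inf_le_right : U ⊓ V ≤ V) ≫ v := by
  obtain ⟨z, hzcl, hzy'⟩ := hZ
  have hzy : f z = y := hzy'
  have hmin := Groth.Agent.Lib.Helper3.TwcE.nilradical_isPrime_of_isGeomUnibranch _ hy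
  obtain ⟨Y₀, hyY₀, hirr⟩ := exists_irreducible_open_nhds hcomp y hmin
  haveI : IrreducibleSpace Y₀ := Subtype.irreducibleSpace hirr
  haveI : IrreducibleSpace (Y₀ : Scheme.{u}) := ‹IrreducibleSpace Y₀›
  haveI : IsReduced (Y₀ : Scheme.{u}) := inferInstance
  haveI : IsIntegral (Y₀ : Scheme.{u}) := isIntegral_of_irreducibleSpace_of_isReduced _
  obtain ⟨f₀, hf₀⟩ : ∃ f₀ : (f ⁻¹ᵁ Y₀ : Scheme.{u}) ⟶ (Y₀ : Scheme.{u}), f₀ = f ∣_ Y₀ := ⟨_, rfl⟩
  have hf₀ι : f₀ ≫ Y₀.ι = (f ⁻¹ᵁ Y₀).ι ≫ f := by rw [hf₀, morphismRestrict_ι]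
  haveI : IsSeparated f₀ := by rw [hf₀]; infer_instance
  haveI : LocallyOfFiniteType f₀ := by rw [hf₀]; infer_instance
  haveI : FormallyUnramified f₀ := by
    rw [hf₀]
    exact MorphismProperty.of_isPullback (P := @FormallyUnramified)
      (isPullback_morphismRestrict f Y₀).flip inferInstance
  -- the generic point
  obtain ⟨η₀, hη₀⟩ : ∃ η₀ : (Y₀ : Scheme.{u}), η₀ = genericPoint (Y₀ : Scheme.{u}) := ⟨_, rfl⟩
  have hηgen : ∀ t : Y, t ∈ Y₀ → η₀.1 ⤳ t := by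
    intro t ht
    have h1 : η₀ ⤳ (⟨t, ht⟩ : (Y₀ : Scheme.{u})) := by
      rw [hη₀]; exact (genericPoint_spec _).specializes (Set.mem_univ _)
    exact (subtype_specializes_iff η₀ (⟨t, ht⟩ : Y₀)).mp h1
  have hηU : η₀.1 ∈ U := by
    obtain ⟨t, htY₀, htU⟩ := (dense_iff_inter_open.mp hU) Y₀ Y₀.isOpen ⟨y, hyY₀⟩
    exact (hηgen t htY₀).mem_open U.isOpen htU
  obtain ⟨ξ, hξdef⟩ : ∃ ξ : X, ξ = u ⟨η₀.1, hηU⟩ := ⟨_, rfl⟩
  have hfu : ∀ t : (U : Scheme.{u}), f (u t) = t.1 := by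
    intro t
    rw [← Scheme.Hom.comp_apply, hu]; rfl
  have hfξ : f ξ = η₀.1 := by rw [hξdef, hfu]
  -- the point `z` is a specialisation of `ξ`
  have hzo : z ∈ f ⁻¹ᵁ Y₀ := by
    change f z ∈ Y₀
    rw [hzy]; exact hyY₀
  have hξz : ξ ⤳ z := by
    rw [specializes_iff_mem_closure]
    have h1 : z ∈ closure (Set.range u ∩ (f ⁻¹ᵁ Y₀ : Set X)) := by
      rw [mem_closure_iff]
      intro O hO hzO
      have h2 := (mem_closure_iff.mp hzcl) (O ∩ (f ⁻¹ᵁ Y₀ : Set X))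
        (hO.inter (f ⁻¹ᵁ Y₀).isOpen) ⟨hzO, hzo⟩
      obtain ⟨w, ⟨hwO, hwY⟩, hwu⟩ := h2
      exact ⟨w, hwO, hwu, hwY⟩
    refine closure_minimal ?_ isClosed_closure h1
    rintro _ ⟨⟨t, rfl⟩, ht⟩
    have htY₀ : t.1 ∈ Y₀ := by
      have : f (u t) ∈ Y₀ := ht
      rwa [hfu] at this
    have h3 : (⟨η₀.1, hηU⟩ : U) ⤳ t := (subtype_specializes_iff _ _).mpr (hηgen t.1 htY₀)
    rw [hξdef]
    exact specializes_iff_mem_closure.mp (h3.map u.continuous)
  -- the points of the restriction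
  have hξo : ξ ∈ f ⁻¹ᵁ Y₀ := by
    change f ξ ∈ Y₀
    rw [hfξ]; exact η₀.2
  obtain ⟨z₀, hz₀⟩ : ∃ z₀ : (f ⁻¹ᵁ Y₀ : Scheme.{u}), z₀ = ⟨z, hzo⟩ := ⟨_, rfl⟩
  obtain ⟨ξ₀, hξ₀⟩ : ∃ ξ₀ : (f ⁻¹ᵁ Y₀ : Scheme.{u}), ξ₀ = ⟨ξ, hξo⟩ := ⟨_, rfl⟩
  have hf₀val : ∀ w : (f ⁻¹ᵁ Y₀ : Scheme.{u}), (f₀ w).1 = f w.1 := by
    intro w
    have h1 : Y₀.ι (f₀ w) = f ((f ⁻¹ᵁ Y₀).ι w) := by
      rw [← Scheme.Hom.comp_apply, hf₀ι, Scheme.Hom.comp_apply]
    exact h1
  have hf₀ξ : f₀ ξ₀ = genericPoint (Y₀ : Scheme.{u}) := by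
    rw [← hη₀]
    apply Subtype.ext
    rw [hf₀val, hξ₀]
    exact hfξ
  have hξ₀z₀ : ξ₀ ⤳ z₀ := by
    rw [hξ₀, hz₀]
    exact (subtype_specializes_iff (⟨ξ, hξo⟩ : (f ⁻¹ᵁ Y₀)) ⟨z, hzo⟩).mpr hξz
  -- the residue field extension at `ξ` is trivial
  have hbijξ : Function.Bijective (f.residueFieldMap ξ).hom := by
    rw [hξdef]
    apply residueFieldMap_bijective_of_comp u f
    haveI : IsOpenImmersion (u ≫ f) := by rw [hu]; infer_instance
    exact ConcreteCategory.bijective_of_isIso _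
  have hbij₀ : Function.Bijective (f₀.residueFieldMap ξ₀).hom := by
    apply residueFieldMap_bijective_of_comp_right f₀ Y₀.ι
    rw [hf₀ι]
    apply Groth.Agent.Lib.Helper3.TwcC.residueFieldMap_bijective_comp
    · exact ConcreteCategory.bijective_of_isIso _
    · have e : ξ = (f ⁻¹ᵁ Y₀).ι ξ₀ := by rw [hξ₀]; rfl
      exact Groth.Agent.Lib.Helper3.TwcC.residueFieldMap_bijective_of_eq f e hbijξ
  have hy₀ : CAlg2.IsGeomUnibranch ((Y₀ : Scheme.{u}).presheaf.stalk (f₀ z₀)) := by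
    apply isGeomUnibranch_stalk_opens'
    have e : y = (f₀ z₀).1 := by rw [hf₀val, hz₀]; exact hzy.symm
    exact isGeomUnibranch_stalk_congr y _ e hy
  obtain ⟨N, hzN, hξN, hopen⟩ := exists_openImmersion_nhds f₀ ξ₀ z₀ hf₀ξ hξ₀z₀ hbij₀ hy₀
  haveI := hopen
  -- the open immersion of `N` into `Y`
  obtain ⟨k, hk⟩ : ∃ k : (N : Scheme.{u}) ⟶ X, k = N.ι ≫ (f ⁻¹ᵁ Y₀).ι := ⟨_, rfl⟩
  haveI : IsOpenImmersion k := by rw [hk]; infer_instance
  obtain ⟨g, hg⟩ : ∃ g : (N : Scheme.{u}) ⟶ Y, g = k ≫ f := ⟨_, rfl⟩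
  have hg' : g = (N.ι ≫ f₀) ≫ Y₀.ι := by
    rw [hg, hk, Category.assoc, Category.assoc, hf₀ι]
  haveI : IsOpenImmersion g := by rw [hg']; infer_instance
  have hfk : k ≫ f = g := hg.symm
  refine ⟨g.opensRange, g.isoOpensRange.inv ≫ k, ?_, ?_, ?_⟩
  · refine ⟨⟨z₀, hzN⟩, ?_⟩
    rw [hg, Scheme.Hom.comp_apply, hk, Scheme.Hom.comp_apply]
    have h1 : (f ⁻¹ᵁ Y₀).ι (N.ι ⟨z₀, hzN⟩) = z := by
      have h2 : N.ι ⟨z₀, hzN⟩ = z₀ := rfl
      rw [h2, hz₀]; rfl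
    rw [h1]
    exact hzy
  · rw [Category.assoc, hfk, Scheme.Hom.isoOpensRange_inv_comp]
  · -- agreement on the intersection
    obtain ⟨s₁, hs₁⟩ : ∃ s₁ : ((U ⊓ g.opensRange : Y.Opens) : Scheme.{u}) ⟶ X,
        s₁ = Y.homOfLE (inf_le_left : U ⊓ g.opensRange ≤ U) ≫ u := ⟨_, rfl⟩
    obtain ⟨s₂, hs₂⟩ : ∃ s₂ : ((U ⊓ g.opensRange : Y.Opens) : Scheme.{u}) ⟶ X,
        s₂ = Y.homOfLE (inf_le_right : U ⊓ g.opensRange ≤ g.opensRange) ≫
          g.isoOpensRange.inv ≫ k := ⟨_, rfl⟩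
    rw [← hs₁, ← hs₂]
    have hs₁f : s₁ ≫ f = (U ⊓ g.opensRange).ι := by
      rw [hs₁, Category.assoc, hu, Scheme.homOfLE_ι]
    have hs₂f : s₂ ≫ f = (U ⊓ g.opensRange).ι := by
      rw [hs₂, Category.assoc, Category.assoc, hfk, Scheme.Hom.isoOpensRange_inv_comp,
        Scheme.homOfLE_ι]
    -- the open subset where the first section lands in `N`
    obtain ⟨T', hT'⟩ : ∃ T' : ((U ⊓ g.opensRange : Y.Opens) : Scheme.{u}).Opens,
        T' = s₁ ⁻¹ᵁ k.opensRange := ⟨_, rfl⟩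
    have hr₁ : Set.range (T'.ι ≫ s₁) ⊆ Set.range k := by
      rintro _ ⟨t, rfl⟩
      rw [Scheme.Hom.comp_apply]
      have : t.1 ∈ s₁ ⁻¹ᵁ k.opensRange := by rw [← hT']; exact t.2
      exact this
    have hr₂ : Set.range (T'.ι ≫ s₂) ⊆ Set.range k := by
      rintro _ ⟨t, rfl⟩
      rw [hs₂, Scheme.Hom.comp_apply, Scheme.Hom.comp_apply, Scheme.Hom.comp_apply]
      exact ⟨_, rfl⟩
    have e1 : IsOpenImmersion.lift k (T'.ι ≫ s₁) hr₁ ≫ g = T'.ι ≫ (U ⊓ g.opensRange).ι := by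
      have h1 : IsOpenImmersion.lift k (T'.ι ≫ s₁) hr₁ ≫ g =
          (IsOpenImmersion.lift k (T'.ι ≫ s₁) hr₁ ≫ k) ≫ f := by rw [Category.assoc, hfk]
      rw [h1, IsOpenImmersion.lift_fac, Category.assoc, hs₁f]
    have e2 : IsOpenImmersion.lift k (T'.ι ≫ s₂) hr₂ ≫ g = T'.ι ≫ (U ⊓ g.opensRange).ι := by
      have h1 : IsOpenImmersion.lift k (T'.ι ≫ s₂) hr₂ ≫ g =
          (IsOpenImmersion.lift k (T'.ι ≫ s₂) hr₂ ≫ k) ≫ f := by rw [Category.assoc, hfk]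
      rw [h1, IsOpenImmersion.lift_fac, Category.assoc, hs₂f]
    have hmono : IsOpenImmersion.lift k (T'.ι ≫ s₁) hr₁ = IsOpenImmersion.lift k (T'.ι ≫ s₂) hr₂ := by
      rw [← cancel_mono g, e1, e2]
    have hagree : T'.ι ≫ s₁ = T'.ι ≫ s₂ := by
      rw [← IsOpenImmersion.lift_fac k (T'.ι ≫ s₁) hr₁, ← IsOpenImmersion.lift_fac k (T'.ι ≫ s₂) hr₂,
        hmono]
    -- `T'` is dense
    have hkξ : k ⟨ξ₀, hξN⟩ = ξ := by
      rw [hk, Scheme.Hom.comp_apply]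
      have h2 : N.ι ⟨ξ₀, hξN⟩ = ξ₀ := rfl
      rw [h2, hξ₀]; rfl
    have hηV : η₀.1 ∈ g.opensRange := by
      refine ⟨⟨ξ₀, hξN⟩, ?_⟩
      rw [hg, Scheme.Hom.comp_apply, hkξ]
      exact hfξ
    obtain ⟨ηT, hηT⟩ : ∃ ηT : ((U ⊓ g.opensRange : Y.Opens) : Scheme.{u}),
        ηT = ⟨η₀.1, hηU, hηV⟩ := ⟨_, rfl⟩
    have hs₁η : s₁ ηT = ξ := by
      rw [hs₁, Scheme.Hom.comp_apply, hξdef]
      congr 1
      apply U.ι.injective
      rw [← Scheme.Hom.comp_apply, Scheme.homOfLE_ι, hηT]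
      rfl
    have hηT' : ηT ∈ T' := by
      rw [hT']
      change s₁ ηT ∈ k.opensRange
      rw [hs₁η]
      exact ⟨⟨ξ₀, hξN⟩, hkξ⟩
    have hVsub : ∀ t : Y, t ∈ g.opensRange → t ∈ Y₀ := by
      rintro _ ⟨w, rfl⟩
      rw [hg', Scheme.Hom.comp_apply]
      exact ((N.ι ≫ f₀) w).2
    haveI : IsDominant T'.ι := by
      refine ⟨?_⟩
      rw [DenseRange, Scheme.Opens.range_ι]
      intro t
      rw [mem_closure_iff]
      intro O hO htO
      -- `ηT` specialises to `t`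
      have h1 : η₀.1 ⤳ t.1 := hηgen t.1 (hVsub t.1 t.2.2)
      have h2 : ηT ⤳ t := by
        rw [hηT]
        exact (subtype_specializes_iff (⟨η₀.1, hηU, hηV⟩ : ↥(U ⊓ g.opensRange)) t).mpr h1
      exact ⟨ηT, h2.mem_open hO htO, hηT'⟩
    exact ext_of_isDominant_of_isSeparated f (hs₁f.trans hs₂f.symm) T'.ι hagree

-- when images of closed irreducible sets are closed, the closure of the image of a rational
-- section meets every fibre over a point with prime nilradical local ring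
theorem closure_range_inter_fiber_nonempty {X Y : Scheme.{u}}
    (hcomp : LocallyFinite (fun Z : ↥(irreducibleComponents ↥Y) => (Z : Set ↥Y)))
    (f : X ⟶ Y) (U : Y.Opens) (hU : Dense (U : Set ↥Y)) (u : (U : Scheme.{u}) ⟶ X)
    (hu : u ≫ f = U.ι)
    (hcl : ∀ T : Set ↥X, IsClosed T → IsIrreducible T → IsClosed (f '' T))
    (y : Y) (hmin : (nilradical (Y.presheaf.stalk y)).IsPrime) :
    (closure (Set.range u) ∩ f ⁻¹' {y}).Nonempty := by
  obtain ⟨Y₀, hyY₀, hirr⟩ := exists_irreducible_open_nhds hcomp y hmin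
  haveI : IrreducibleSpace Y₀ := Subtype.irreducibleSpace hirr
  haveI : IrreducibleSpace (Y₀ : Scheme.{u}) := ‹IrreducibleSpace Y₀›
  obtain ⟨η₀, hη₀⟩ : ∃ η₀ : (Y₀ : Scheme.{u}), η₀ = genericPoint (Y₀ : Scheme.{u}) := ⟨_, rfl⟩
  have hηgen : ∀ t : Y, t ∈ Y₀ → η₀.1 ⤳ t := by
    intro t ht
    have h1 : η₀ ⤳ (⟨t, ht⟩ : (Y₀ : Scheme.{u})) := by
      rw [hη₀]; exact (genericPoint_spec _).specializes (Set.mem_univ _)
    exact (subtype_specializes_iff η₀ (⟨t, ht⟩ : Y₀)).mp h1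
  have hηU : η₀.1 ∈ U := by
    obtain ⟨t, htY₀, htU⟩ := (dense_iff_inter_open.mp hU) Y₀ Y₀.isOpen ⟨y, hyY₀⟩
    exact (hηgen t htY₀).mem_open U.isOpen htU
  have hfu : f (u ⟨η₀.1, hηU⟩) = η₀.1 := by
    rw [← Scheme.Hom.comp_apply, hu]; rfl
  have h1 := hcl (closure {u ⟨η₀.1, hηU⟩}) isClosed_closure isIrreducible_singleton.closure
  have h2 : y ∈ f '' closure {u ⟨η₀.1, hηU⟩} := by
    have h3 : η₀.1 ∈ f '' closure {u ⟨η₀.1, hηU⟩} := ⟨_, subset_closure rfl, hfu⟩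
    have h4 : closure {η₀.1} ⊆ f '' closure {u ⟨η₀.1, hηU⟩} :=
      h1.closure_subset_iff.mpr (Set.singleton_subset_iff.mpr h3)
    exact h4 (specializes_iff_mem_closure.mp (hηgen y hyY₀))
  obtain ⟨z, hz, hzy⟩ := h2
  refine ⟨z, closure_mono ?_ hz, hzy⟩
  rintro _ rfl
  exact ⟨_, rfl⟩

-- a section of an unramified morphism locally of finite type over an open is an open immersion
theorem isOpenImmersion_of_section {X Y : Scheme.{u}} (f : X ⟶ Y) [LocallyOfFiniteType f]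
    [FormallyUnramified f] (U : Y.Opens) (u : (U : Scheme.{u}) ⟶ X) (hu : u ≫ f = U.ι) :
    IsOpenImmersion u := by
  haveI : MorphismProperty.HasOfPostcompProperty @IsOpenImmersion
      (@FormallyUnramified ⊓ @LocallyOfFiniteType : MorphismProperty Scheme.{u}) :=
    MorphismProperty.hasOfPostcompProperty_iff_le_diagonal.mpr (by
      intro A B g hg
      haveI := hg.1
      haveI := hg.2
      exact inferInstanceAs (IsOpenImmersion (pullback.diagonal g)))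
  exact MorphismProperty.of_postcomp (W := @IsOpenImmersion)
    (W' := (@FormallyUnramified ⊓ @LocallyOfFiniteType : MorphismProperty Scheme.{u})) u f
    ⟨inferInstance, inferInstance⟩ (by rw [hu]; infer_instance)

-- the image of a section of a separated morphism over an open `U` is closed in the preimage of
-- `U`
theorem mem_range_of_mem_closure {X Y : Scheme.{u}} (f : X ⟶ Y) [IsSeparated f] (U : Y.Opens)
    (u : (U : Scheme.{u}) ⟶ X) (hu : u ≫ f = U.ι) (z : X) (hz : z ∈ closure (Set.range u))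
    (hzU : f z ∈ U) : z ∈ Set.range u := by
  have hr : Set.range u ⊆ Set.range (f ⁻¹ᵁ U).ι := by
    rw [Scheme.Opens.range_ι]
    rintro _ ⟨t, rfl⟩
    change f (u t) ∈ U
    rw [← Scheme.Hom.comp_apply, hu]
    exact t.2
  obtain ⟨u', hu'⟩ : ∃ u' : (U : Scheme.{u}) ⟶ (f ⁻¹ᵁ U : Scheme.{u}), u' ≫ (f ⁻¹ᵁ U).ι = u :=
    ⟨IsOpenImmersion.lift _ _ hr, IsOpenImmersion.lift_fac _ _ _⟩
  have hsec : u' ≫ (f ∣_ U) = 𝟙 _ := by
    rw [← cancel_mono U.ι, Category.assoc, morphismRestrict_ι, ← Category.assoc, hu', hu,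
      Category.id_comp]
  haveI : IsClosedImmersion (u' ≫ (f ∣_ U)) := by rw [hsec]; infer_instance
  haveI : IsSeparated (f ∣_ U) := inferInstance
  haveI : IsClosedImmersion u' := IsClosedImmersion.of_comp u' (f ∣_ U)
  have hcl : IsClosed (Set.range u') := u'.isClosedEmbedding.isClosed_range
  have himg : (f ⁻¹ᵁ U).ι '' Set.range u' = Set.range u := by
    rw [← hu', Scheme.Hom.comp_base, TopCat.coe_comp, Set.range_comp]
  have hz' : (⟨z, hzU⟩ : (f ⁻¹ᵁ U : Scheme.{u})) ∈ closure (Set.range u') := by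
    rw [(f ⁻¹ᵁ U).ι.isOpenEmbedding.isInducing.closure_eq_preimage_closure_image, himg]
    exact hz
  rw [hcl.closure_eq] at hz'
  obtain ⟨t, ht⟩ := hz'
  refine ⟨t, ?_⟩
  rw [← hu', Scheme.Hom.comp_apply, ht]
  rfl

end Groth.Agent.Lib.Helper3.RatSecB
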