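import Mathlib
import Groth.Agent.Lib.Helper22RegFib4

/-!
# Flatness from a regular element with flat quotient: abstract lemmas (helper3, for S1703)
-/

set_option autoImplicit false
set_option linter.style.haveILetI false
set_option linter.unusedSectionVars false

open scoped Pointwise TensorProduct

namespace Groth.Agent.Lib.Helper3.RegFlat

open Groth.Agent.Lib.Helper3.FlatLoc Groth.Agent.Lib.Helper28 Groth.Agent.Lib.Helper22.RegFib

universe u

-- If the cokernel of an endomorphism `φ` is flat, the kernel of `φ ⊗ X` is generated by `ker φ`.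
theorem mem_range_ker_rTensor {A : Type*} [CommRing A] {L Q : Type*} [AddCommGroup L]
    [Module A L] [AddCommGroup Q] [Module A Q] [Module.Flat A Q]
    (φ : L →ₗ[A] L) (π : L →ₗ[A] Q) (hπ : Function.Surjective π) (hex : Function.Exact φ π)
    (X : Type*) [AddCommGroup X] [Module A X] (u : L ⊗[A] X) (hu : φ.rTensor X u = 0) :
    u ∈ LinearMap.range ((LinearMap.ker φ).subtype.rTensor X) := by
  have hfac : φ = (LinearMap.range φ).subtype ∘ₗ φ.rangeRestrict := by
    ext l
    rfl
  have hexI : Function.Exact (LinearMap.range φ).subtype π := by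
    intro l
    rw [hex l]
    constructor
    · rintro ⟨l', rfl⟩
      exact ⟨⟨φ l', l', rfl⟩, rfl⟩
    · rintro ⟨⟨_, l', rfl⟩, rfl⟩
      exact ⟨l', rfl⟩
  have hinj : Function.Injective ((LinearMap.range φ).subtype.rTensor X) := by
    rw [← LinearMap.lTensor_inj_iff_rTensor_inj]
    exact LinearMap.lTensor_injective_of_exact_of_flat π hπ (LinearMap.range φ).subtype
      (LinearMap.range φ).injective_subtype hexI X
  have hex' : Function.Exact (LinearMap.ker φ).subtype φ.rangeRestrict := by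
    intro l
    constructor
    · intro hl
      refine ⟨⟨l, ?_⟩, rfl⟩
      rw [LinearMap.mem_ker]
      have := congrArg Subtype.val hl
      simpa using this
    · rintro ⟨⟨l', hl'⟩, rfl⟩
      apply Subtype.ext
      simpa using hl'
  have hE := rTensor_exact X hex' (LinearMap.surjective_rangeRestrict φ)
  have h0 : φ.rangeRestrict.rTensor X u = 0 := by
    apply hinj
    rw [map_zero, ← LinearMap.comp_apply, ← LinearMap.rTensor_comp, ← hfac]
    exact hu
  exact (hE u).mp h0

section Ascent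

variable {A₀ R P₀ P : Type u} [CommRing A₀] [CommRing R] [CommRing P₀] [CommRing P]
  [Algebra A₀ R] [Algebra A₀ P₀] [Algebra A₀ P] [Algebra R P] [Algebra P₀ P]
  [IsScalarTower A₀ P₀ P] [IsScalarTower A₀ R P] [Algebra.IsPushout A₀ R P₀ P]
  {N₀ N : Type u} [AddCommGroup N₀] [AddCommGroup N] [Module P₀ N₀] [Module A₀ N₀]
  [IsScalarTower A₀ P₀ N₀]
  [Module P N] [Module R N] [IsScalarTower R P N] [Module P₀ N] [IsScalarTower P₀ P N]
  [Module A₀ N] [IsScalarTower A₀ P₀ N] [IsScalarTower A₀ R N]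

-- Ascent of regularity: if the quotient by `g₀` is flat at level `0` and the (saturated) kernel of
-- `g₀` at level `0` dies in the localized module at the upper level, then `g₀` is regular on the
-- localized module at the upper level.
variable (R) in
include R in
theorem ascent_regular (φ : N₀ →ₗ[P₀] N) (hφ : IsBaseChange P φ)
    (T₀ : Submonoid P₀) (T : Submonoid P) (hT : ∀ s ∈ T₀, algebraMap P₀ P s ∈ T) (g₀ : P₀)
    (h0 : ∀ x : N₀, (∃ t ∈ T₀, t • g₀ • x = 0) → ∃ s ∈ T, s • φ x = 0)
    (h2 : Module.Flat A₀ (QuotSMulTop g₀ (LocalizedModule T₀ N₀))) :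
    IsSMulRegular (LocalizedModule T N) (algebraMap P₀ P g₀) := by
  have hN : IsBaseChange R (φ.restrictScalars A₀) :=
    isBaseChange_restrictScalars_of_isPushout φ hφ
  have hcomm : ∀ (r : R) (s : P₀) (m : N), r • s • m = s • r • m := by
    intro r s m
    rw [← algebraMap_smul P s m, ← algebraMap_smul P r, smul_smul, ← algebraMap_smul P s (r • m),
      ← algebraMap_smul P r m, smul_smul, mul_comm]
  let ψ : N₀ ⊗[A₀] R →ₗ[A₀] N :=
    ((TensorProduct.rid R N).toLinearMap.restrictScalars A₀) ∘ₗ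
      bcMap (R := R) (φ.restrictScalars A₀) R
  have hψbij : Function.Bijective ψ :=
    (TensorProduct.rid R N).bijective.comp (bcMap_bijective (φ.restrictScalars A₀) hN R)
  have hψtmul : ∀ (n : N₀) (r : R), ψ (n ⊗ₜ[A₀] r) = r • φ n := by
    intro n r
    simp only [ψ, LinearMap.coe_comp, LinearMap.coe_restrictScalars, LinearEquiv.coe_coe,
      Function.comp_apply, bcMap_tmul, TensorProduct.rid_tmul]
  have hψ : ∀ (s : P₀) (z : N₀ ⊗[A₀] R), ψ (s • z) = s • ψ z := by
    intro s z
    induction z using TensorProduct.induction_on with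
    | zero => simp
    | add a b ha hb => simp only [smul_add, map_add, ha, hb]
    | tmul n r =>
      rw [TensorProduct.smul_tmul', hψtmul, hψtmul, map_smul]
      exact hcomm r s (φ n)
  -- the saturation of `0` in `N`
  set Z : Submodule P N := sat T (⊥ : Submodule P N) with hZ
  have hZP₀ : ∀ (s : P₀) (n : N), n ∈ Z → s • n ∈ Z := by
    intro s n hn
    rw [← algebraMap_smul P s n]
    exact Z.smul_mem _ hn
  have hZR : ∀ (r : R) (n : N), n ∈ Z → r • n ∈ Z := by
    intro r n hn
    rw [← algebraMap_smul P r n]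
    exact Z.smul_mem _ hn
  have hZT₀ : ∀ (s : P₀) (n : N), s ∈ T₀ → s • n ∈ Z → n ∈ Z := by
    intro s n hs hn
    rw [← algebraMap_smul P s n] at hn
    exact (smul_mem_sat_iff (hT s hs)).mp hn
  -- the localization map at level `0`, tensored with `R`
  let locP : N₀ ⊗[A₀] R →ₗ[P₀] LocalizedModule T₀ N₀ ⊗[A₀] R :=
    TensorProduct.AlgebraTensorModule.rTensor A₀ R (LocalizedModule.mkLinearMap T₀ N₀)
  have hloc : ∀ z, locP z =
      ((LocalizedModule.mkLinearMap T₀ N₀).restrictScalars A₀).rTensor R z := fun z => rfl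
  let φL : LocalizedModule T₀ N₀ →ₗ[A₀] LocalizedModule T₀ N₀ :=
    ymap A₀ (LocalizedModule T₀ N₀) g₀
  -- the main claim on `ker φL ⊗ R`
  have hC : ∀ ζ : (LinearMap.ker φL) ⊗[A₀] R, ∃ t ∈ T₀, ∃ z' : N₀ ⊗[A₀] R,
      t • ((LinearMap.ker φL).subtype.rTensor R ζ) = locP z' ∧ ψ z' ∈ Z := by
    intro ζ
    induction ζ using TensorProduct.induction_on with
    | zero => exact ⟨1, T₀.one_mem, 0, by simp, by simp⟩
    | add a b ha hb =>
      obtain ⟨t₁, ht₁, z₁, e₁, m₁⟩ := ha
      obtain ⟨t₂, ht₂, z₂, e₂, m₂⟩ := hb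
      refine ⟨t₁ * t₂, T₀.mul_mem ht₁ ht₂, t₂ • z₁ + t₁ • z₂, ?_, ?_⟩
      · rw [map_add, smul_add, map_add, map_smul, map_smul, ← e₁, ← e₂, smul_smul, smul_smul,
          mul_comm t₂ t₁]
      · rw [map_add, hψ, hψ]
        exact Z.add_mem (hZP₀ _ _ m₁) (hZP₀ _ _ m₂)
    | tmul k r =>
      obtain ⟨l, hl⟩ := k
      obtain ⟨⟨x, t⟩, hxt⟩ := IsLocalizedModule.surj T₀ (LocalizedModule.mkLinearMap T₀ N₀) l
      refine ⟨t, t.2, x ⊗ₜ[A₀] r, ?_, ?_⟩
      · rw [LinearMap.rTensor_tmul, Submodule.subtype_apply, TensorProduct.smul_tmul', hloc,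
          LinearMap.rTensor_tmul, LinearMap.coe_restrictScalars]
        congr 1
      · rw [hψtmul]
        apply hZR
        have hgl : g₀ • l = 0 := hl
        have h1 : LocalizedModule.mk (g₀ • x) (1 : T₀) = 0 := by
          have := congrArg (fun y => g₀ • y) hxt
          simp only at this
          rw [smul_comm, hgl, smul_zero] at this
          rw [← LocalizedModule.mkLinearMap_apply, map_smul, ← this]
        rw [mk_eq_zero_iff] at h1
        obtain ⟨t', ht', h⟩ := h1
        rw [Submodule.mem_bot] at h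
        obtain ⟨s, hs, hsx⟩ := h0 x ⟨t', ht', h⟩
        exact ⟨s, hs, by rw [Submodule.mem_bot]; exact hsx⟩
  have key : ∀ y : N, (algebraMap P₀ P g₀) • y = 0 → y ∈ Z := by
    intro y hy
    obtain ⟨z, rfl⟩ := hψbij.2 y
    have hz : (ymap A₀ N₀ g₀).rTensor R z = 0 := by
      apply hψbij.1
      rw [← smul_eq_rTensor_ymap, hψ, map_zero, ← algebraMap_smul P g₀]
      exact hy
    have hlz : φL.rTensor R (locP z) = 0 := by
      rw [hloc, ← LinearMap.comp_apply, ← LinearMap.rTensor_comp]
      have : φL ∘ₗ (LocalizedModule.mkLinearMap T₀ N₀).restrictScalars A₀ =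
          (LocalizedModule.mkLinearMap T₀ N₀).restrictScalars A₀ ∘ₗ ymap A₀ N₀ g₀ := by
        ext n
        simp only [φL, LinearMap.coe_comp, LinearMap.coe_restrictScalars, Function.comp_apply,
          ymap_apply, map_smul]
      rw [this, LinearMap.rTensor_comp, LinearMap.comp_apply, hz, map_zero]
    obtain ⟨ζ, hζ⟩ := mem_range_ker_rTensor φL (quotSMulTopMkR (R := A₀) g₀)
      (quotSMulTopMkR_surjective g₀) (exact_ymap_quotSMulTopMkR g₀) R (locP z) hlz
    obtain ⟨t, ht, z', e, m⟩ := hC ζ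
    rw [hζ, ← map_smul] at e
    obtain ⟨t', ht'⟩ := (IsLocalizedModule.eq_iff_exists T₀ locP).mp e
    have h3 : ψ ((t' : P₀) • t • z) = ψ ((t' : P₀) • z') := congrArg ψ ht'
    rw [hψ, hψ, hψ] at h3
    have h4 : (t' : P₀) • t • ψ z ∈ Z := by
      rw [h3]
      exact hZP₀ _ _ m
    exact hZT₀ _ _ ht (hZT₀ _ _ t'.2 h4)
  rw [isSMulRegular_localizedModule_iff]
  rintro x ⟨t, ht, htx⟩
  rw [Submodule.mem_bot] at htx
  have h3 : algebraMap P₀ P g₀ • (t • x) = 0 := by rw [smul_comm]; exact htx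
  have := key (t • x) h3
  exact (smul_mem_sat_iff ht).mp this

end Ascent

end Groth.Agent.Lib.Helper3.RegFlat
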