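import Mathlib
import Groth.Agent.Lib.Helper3RegFlatA
import Groth.Agent.Lib.Helper5FlatReg
import Groth.Agent.Lib.Helper3FlatModelMod

set_option autoImplicit false
set_option linter.style.haveILetI false

open scoped Pointwise TensorProduct

namespace Groth.Agent.Lib.Helper3.RegFlat

open Groth.Agent.Lib.Helper3.FlatLoc Groth.Agent.Lib.Helper28 Groth.Agent.Lib.Helper22.RegFib
  Groth.Agent.Lib.Helper3.FlatDesc Groth.Agent.Lib.Helper3.FlatOpen
  Groth.Agent.Lib.Helper3.FlatModelMod

universe u

-- Noetherian local case: regular element with flat quotient.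
theorem flat_localizedModule_of_regular_noeth {A P : Type u} [CommRing A] [CommRing P]
    [Algebra A P] [IsNoetherianRing A] [IsNoetherianRing P]
    (N : Type u) [AddCommGroup N] [Module P N] [Module A N] [IsScalarTower A P N]
    [Module.Finite P N] (q : Ideal P) [q.IsPrime] (g : P) (hg : g ∈ q)
    (hreg : IsSMulRegular (LocalizedModule q.primeCompl N) g)
    (hflat : Module.Flat A (LocalizedModule q.primeCompl (QuotSMulTop g N))) :
    Module.Flat A (LocalizedModule q.primeCompl N) := by
  haveI : IsScalarTower A (Localization.AtPrime q) (LocalizedModule q.primeCompl N) :=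
    IsScalarTower.of_algebraMap_smul (fun a x => by
      induction x using LocalizedModule.induction_on with
      | h x s =>
        rw [IsScalarTower.algebraMap_apply A P (Localization.AtPrime q), algebraMap_smul,
          algebraMap_smul])
  have hf : algebraMap P (Localization.AtPrime q) g ∈
      (⊥ : Ideal (Localization.AtPrime q)).jacobson := by
    rw [IsLocalRing.jacobson_eq_maximalIdeal ⊥ bot_ne_top,
      ← Localization.AtPrime.map_eq_maximalIdeal]
    exact Ideal.mem_map_of_mem _ hg
  have hreg' : IsSMulRegular (LocalizedModule q.primeCompl N)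
      (algebraMap P (Localization.AtPrime q) g) :=
    (isSMulRegular_algebraMap_iff (Localization.AtPrime q)).mpr hreg
  refine Groth.Agent.Lib.Helper5.flat_of_isSMulRegular_of_flat_quotient
    (A := A) (B := Localization.AtPrime q) (LocalizedModule q.primeCompl N)
    (algebraMap P (Localization.AtPrime q) g) hf hreg' ?_
  have h1 : Module.Flat A (QuotSMulTop g (LocalizedModule q.primeCompl N)) :=
    Module.Flat.of_linearEquiv ((quotSMulTopLocalizedEquiv q.primeCompl g N).restrictScalars A)
  have hKK : ((Ideal.span {algebraMap P (Localization.AtPrime q) g}) •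
      (⊤ : Submodule (Localization.AtPrime q) (LocalizedModule q.primeCompl N))).restrictScalars A =
      (g • (⊤ : Submodule P (LocalizedModule q.primeCompl N))).restrictScalars A := by
    ext z
    simp only [Submodule.restrictScalars_mem, Submodule.mem_smul_pointwise_iff_exists,
      Submodule.mem_top, true_and, Submodule.ideal_span_singleton_smul, algebraMap_smul]
  exact Module.Flat.of_linearEquiv
    ((Submodule.Quotient.restrictScalarsEquiv A _).symm ≪≫ₗ
      (Submodule.quotEquivOfEq _ _ hKK) ≪≫ₗ
      (Submodule.Quotient.restrictScalarsEquiv A _))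


section Aug

variable {T₀ : Type*} [CommRing T₀] {ι κ : Type*} [Fintype κ] [Fintype ι]
  [DecidableEq ι] (w : κ → ι → T₀) (g₀ : T₀)

variable (T : Type*) [CommRing T] [Algebra T₀ T]

theorem KT_wAug_eq_sup :
    KT (wAug w (fun _ : Unit => g₀)) T =
      KT w T ⊔ (algebraMap T₀ T g₀) • (⊤ : Submodule T (ι → T)) := by
  apply le_antisymm
  · rw [KT_eq_span (wAug w (fun _ : Unit => g₀)), Submodule.span_le]
    rintro _ ⟨p | ⟨j, i⟩, rfl⟩
    · apply Submodule.mem_sup_left
      rw [KT_eq_span]
      exact Submodule.subset_span ⟨p, rfl⟩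
    · apply Submodule.mem_sup_right
      have heq : wT (wAug w (fun _ : Unit => g₀)) T (Sum.inr (j, i)) =
          algebraMap T₀ T g₀ • (Pi.single i 1 : ι → T) := by
        funext i'
        by_cases hi : i' = i
        · subst hi; simp [wT, wAug]
        · simp [wT, wAug, hi]
      rw [heq]
      exact Submodule.smul_mem_pointwise_smul _ _ _ Submodule.mem_top
  · apply sup_le (KT_le_KT_wAug w _ T)
    intro x hx
    rw [Submodule.mem_smul_pointwise_iff_exists] at hx
    obtain ⟨y, -, rfl⟩ := hx
    exact smul_mem_KT_wAug w (fun _ : Unit => g₀) T () y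

/-- The module presented by the augmented matrix is the quotient by `g₀`. -/
noncomputable def augEquiv :
    ((ι → T) ⧸ KT (wAug w (fun _ : Unit => g₀)) T) ≃ₗ[T]
      QuotSMulTop (algebraMap T₀ T g₀) ((ι → T) ⧸ KT w T) :=
  have h1 : ((algebraMap T₀ T g₀) • (⊤ : Submodule T (ι → T))).map (KT w T).mkQ =
      (algebraMap T₀ T g₀) • (⊤ : Submodule T ((ι → T) ⧸ KT w T)) := by
    rw [Submodule.map_pointwise_smul, Submodule.map_top, Submodule.range_mkQ]
  (Submodule.quotEquivOfEq _ _ (KT_wAug_eq_sup w g₀ T)).trans
    ((Submodule.quotientQuotientEquivQuotientSup (KT w T)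
      ((algebraMap T₀ T g₀) • (⊤ : Submodule T (ι → T)))).symm.trans
      (Submodule.quotEquivOfEq _ _ h1))

end Aug

section WT

variable {T₀ : Type*} [CommRing T₀] {ι κ : Type*} [Fintype κ] (w : κ → ι → T₀)
  (T₁ T : Type*) [CommRing T₁] [CommRing T] [Algebra T₀ T₁] [Algebra T₀ T] [Algebra T₁ T]
  [IsScalarTower T₀ T₁ T]

theorem wT_wT : wT (wT w T₁) T = wT w T := by
  funext j i
  simp [wT, ← IsScalarTower.algebraMap_apply]

theorem KT_wT : KT (wT w T₁) T = KT w T := by
  rw [KT, KT, WT, WT, wT_wT]

end WT

end Groth.Agent.Lib.Helper3.RegFlat
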