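import Mathlib
import Groth.Agent.Lib.Helper3RegFlatB
import Groth.Agent.Lib.Helper22RegFib5

set_option autoImplicit false
set_option linter.style.haveILetI false

open scoped Pointwise TensorProduct

namespace Groth.Agent.Lib.Helper3.RegFlat

open Groth.Agent.Lib.Helper3.FlatLoc Groth.Agent.Lib.Helper28 Groth.Agent.Lib.Helper22.RegFib
  Groth.Agent.Lib.Helper3.FlatDesc Groth.Agent.Lib.Helper3.FlatOpen
  Groth.Agent.Lib.Helper3.FlatModelMod MvPolynomial

universe u

attribute [local instance] MvPolynomial.algebraMvPolynomial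

section Model

variable {Λ R : Type u} [CommRing Λ] [CommRing R] [Algebra Λ R] [IsNoetherianRing Λ]
  {σ ι κ : Type} [Finite σ] [Fintype ι] [DecidableEq ι] [Fintype κ]
  (w : κ → ι → MvPolynomial σ Λ)

set_option maxHeartbeats 1600000 in
-- Level lemma: the quotient by `g₀` is flat already over the Noetherian ring `Λ`.
theorem core_level (q : Ideal (MvPolynomial σ R)) [q.IsPrime] (g₀ : MvPolynomial σ Λ)
    (hgq : algebraMap (MvPolynomial σ Λ) (MvPolynomial σ R) g₀ ∈ q)
    (hflat₀ : Module.Flat Λ (QuotSMulTop g₀ (LocalizedModule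
      (q.comap (algebraMap (MvPolynomial σ Λ) (MvPolynomial σ R))).primeCompl
      ((ι → MvPolynomial σ Λ) ⧸ KT w (MvPolynomial σ Λ)))))
    (hreg : IsSMulRegular (LocalizedModule q.primeCompl
      ((ι → MvPolynomial σ R) ⧸ KT w (MvPolynomial σ R)))
      (algebraMap (MvPolynomial σ Λ) (MvPolynomial σ R) g₀)) :
    Module.Flat R (LocalizedModule q.primeCompl
      ((ι → MvPolynomial σ R) ⧸ KT w (MvPolynomial σ R))) := by
  classical
  set qΛ : Ideal (MvPolynomial σ Λ) :=
    q.comap (algebraMap (MvPolynomial σ Λ) (MvPolynomial σ R)) with hqΛ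
  let K₀ : Submodule (MvPolynomial σ Λ) ((ι → MvPolynomial σ Λ) ⧸ KT w (MvPolynomial σ Λ)) :=
    sat qΛ.primeCompl (LinearMap.ker (LinearMap.lsmul (MvPolynomial σ Λ)
      ((ι → MvPolynomial σ Λ) ⧸ KT w (MvPolynomial σ Λ)) g₀))
  obtain ⟨G, hG⟩ : K₀.FG := IsNoetherian.noetherian K₀
  have hex : ∀ y : (ι → MvPolynomial σ Λ) ⧸ KT w (MvPolynomial σ Λ),
      ∃ (x : ι → MvPolynomial σ Λ) (s : MvPolynomial σ R) (b : κ → MvPolynomial σ R),
        Submodule.Quotient.mk x = y ∧ (y ∈ G → s ∈ q.primeCompl ∧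
          WT w (MvPolynomial σ R) b = s • Fmap (MvPolynomial σ Λ) (MvPolynomial σ R) ι x) := by
    intro y
    obtain ⟨x, rfl⟩ := Submodule.Quotient.mk_surjective _ y
    by_cases hy : (Submodule.Quotient.mk x : (ι → MvPolynomial σ Λ) ⧸ KT w (MvPolynomial σ Λ)) ∈ G
    · have hK : (Submodule.Quotient.mk x : (ι → MvPolynomial σ Λ) ⧸ KT w (MvPolynomial σ Λ)) ∈ K₀ :=
        hG ▸ Submodule.subset_span hy
      obtain ⟨t, ht, htg⟩ := hK
      rw [LinearMap.mem_ker, LinearMap.lsmul_apply] at htg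
      have h1 : (algebraMap (MvPolynomial σ Λ) (MvPolynomial σ R) g₀) •
          (Mmap w (MvPolynomial σ Λ) (MvPolynomial σ R) (Submodule.Quotient.mk x)) ∈
          sat q.primeCompl (⊥ : Submodule (MvPolynomial σ R) _) := by
        refine ⟨algebraMap (MvPolynomial σ Λ) (MvPolynomial σ R) t, ht, ?_⟩
        rw [Submodule.mem_bot, algebraMap_smul, algebraMap_smul, ← map_smul, ← map_smul,
          smul_comm, htg, map_zero]
      obtain ⟨s, hs, hs0⟩ := (isSMulRegular_localizedModule_iff q.primeCompl _).mp hreg _ h1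
      rw [Submodule.mem_bot, Mmap_mk, ← Submodule.Quotient.mk_smul,
        Submodule.Quotient.mk_eq_zero] at hs0
      obtain ⟨b, hb⟩ := hs0
      exact ⟨x, s, b, rfl, fun _ => ⟨hs, hb⟩⟩
    · exact ⟨x, 0, 0, rfl, fun h => absurd h hy⟩
  choose xx s b hxx hsb using hex
  let cs : Finset R := G.biUnion fun y =>
    (s y).coeffs ∪ Finset.univ.biUnion fun l => (b y l).coeffs
  let A : Subalgebra Λ R := Algebra.adjoin Λ (cs : Set R)
  have hAfg : A.FG := Subalgebra.fg_adjoin_finset cs
  have hcsA : ∀ c ∈ cs, c ∈ A := fun c hc => Algebra.subset_adjoin hc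
  have hlift : ∀ f : MvPolynomial σ R, f.coeffs ⊆ cs →
      ∃ f' : MvPolynomial σ A, algebraMap (MvPolynomial σ A) (MvPolynomial σ R) f' = f := by
    intro f hf
    rw [MvPolynomial.algebraMap_def]
    apply MvPolynomial.mem_range_map_iff_coeffs_subset.mpr
    intro c hc
    exact ⟨⟨c, hcsA c (hf hc)⟩, rfl⟩
  haveI : Algebra.FiniteType Λ A := (Subalgebra.fg_iff_finiteType A).mp hAfg
  haveI : IsNoetherianRing A := Algebra.FiniteType.isNoetherianRing Λ A
  haveI := isScalarTower_mvPolynomial (σ := σ) Λ A R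
  set qA : Ideal (MvPolynomial σ A) :=
    q.comap (algebraMap (MvPolynomial σ A) (MvPolynomial σ R)) with hqA
  have hinj : Function.Injective (Fmap (MvPolynomial σ A) (MvPolynomial σ R) ι) := by
    intro a b hab
    ext i : 1
    have := congrFun hab i
    rw [Fmap_apply, Fmap_apply, MvPolynomial.algebraMap_def] at this
    exact MvPolynomial.map_injective _ Subtype.val_injective this
  have hlifts : ∀ y ∈ G, ∃ (s' : MvPolynomial σ A) (b' : κ → MvPolynomial σ A),
      s' ∈ qA.primeCompl ∧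
        WT w (MvPolynomial σ A) b' = s' • Fmap (MvPolynomial σ Λ) (MvPolynomial σ A) ι (xx y) := by
    intro y hy
    obtain ⟨hs, hb⟩ := hsb y hy
    obtain ⟨s', hs'⟩ := hlift (s y) (fun c hc =>
      Finset.mem_biUnion.mpr ⟨y, hy, Finset.mem_union_left _ hc⟩)
    have hl : ∀ l, ∃ f' : MvPolynomial σ A,
        algebraMap (MvPolynomial σ A) (MvPolynomial σ R) f' = b y l := fun l =>
      hlift (b y l) (fun c hc => Finset.mem_biUnion.mpr ⟨y, hy, Finset.mem_union_right _
          (Finset.mem_biUnion.mpr ⟨l, Finset.mem_univ l, hc⟩)⟩)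
    choose b' hb' using hl
    refine ⟨s', b', ?_, ?_⟩
    · intro h
      apply hs
      rw [← hs']
      exact h
    · apply hinj
      rw [← WT_Fmap, Fmap_smul', Fmap_Fmap, hs', ← hb]
      congr 1
      ext l : 1
      exact hb' l
  have hT : ∀ t ∈ qΛ.primeCompl,
      algebraMap (MvPolynomial σ Λ) (MvPolynomial σ A) t ∈ qA.primeCompl := by
    intro t ht hmem
    apply ht
    change algebraMap (MvPolynomial σ Λ) (MvPolynomial σ R) t ∈ q
    rw [IsScalarTower.algebraMap_apply (MvPolynomial σ Λ) (MvPolynomial σ A) (MvPolynomial σ R)]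
    exact hmem
  have hregA : IsSMulRegular (LocalizedModule qA.primeCompl
      ((ι → MvPolynomial σ A) ⧸ KT w (MvPolynomial σ A)))
      (algebraMap (MvPolynomial σ Λ) (MvPolynomial σ A) g₀) := by
    refine ascent_regular (A₀ := Λ) A (Mmap w (MvPolynomial σ Λ) (MvPolynomial σ A))
      (isBaseChange_Mmap w _ _) qΛ.primeCompl qA.primeCompl hT g₀ ?_ hflat₀
    rintro x ⟨t, ht, htx⟩
    have hxK : x ∈ K₀ := ⟨t, ht, by
      rw [LinearMap.mem_ker, LinearMap.lsmul_apply, smul_comm]; exact htx⟩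
    let Z' : Submodule (MvPolynomial σ Λ) ((ι → MvPolynomial σ Λ) ⧸ KT w (MvPolynomial σ Λ)) :=
      Submodule.comap (Mmap w (MvPolynomial σ Λ) (MvPolynomial σ A))
        ((sat qA.primeCompl (⊥ : Submodule (MvPolynomial σ A)
          ((ι → MvPolynomial σ A) ⧸ KT w (MvPolynomial σ A)))).restrictScalars (MvPolynomial σ Λ))
    have hGZ : (G : Set ((ι → MvPolynomial σ Λ) ⧸ KT w (MvPolynomial σ Λ))) ⊆ Z' := by
      intro y hy
      obtain ⟨s', b', hs', hb'⟩ := hlifts y hy
      refine ⟨s', hs', ?_⟩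
      rw [Submodule.mem_bot, ← hxx y, Mmap_mk, ← Submodule.Quotient.mk_smul,
        Submodule.Quotient.mk_eq_zero]
      exact ⟨b', hb'⟩
    have hKZ : K₀ ≤ Z' := by
      rw [← hG]
      exact Submodule.span_le.mpr hGZ
    obtain ⟨s, hs, h⟩ := hKZ hxK
    exact ⟨s, hs, by rwa [Submodule.mem_bot] at h⟩
  have hflatA : Module.Flat A (LocalizedModule qA.primeCompl
      (QuotSMulTop (algebraMap (MvPolynomial σ Λ) (MvPolynomial σ A) g₀)
        ((ι → MvPolynomial σ A) ⧸ KT w (MvPolynomial σ A)))) :=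
    ascent_flat (A₀ := Λ) (R := A) (Mmap w (MvPolynomial σ Λ) (MvPolynomial σ A))
      (isBaseChange_Mmap w _ _) qΛ.primeCompl qA.primeCompl hT g₀ hflat₀
  have hgA : algebraMap (MvPolynomial σ Λ) (MvPolynomial σ A) g₀ ∈ qA := by
    change algebraMap (MvPolynomial σ A) (MvPolynomial σ R)
      (algebraMap (MvPolynomial σ Λ) (MvPolynomial σ A) g₀) ∈ q
    rw [← IsScalarTower.algebraMap_apply]
    exact hgq
  have hNA := flat_localizedModule_of_regular_noeth
    ((ι → MvPolynomial σ A) ⧸ KT w (MvPolynomial σ A)) qA _ hgA hregA hflatA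
  exact flat_of_flat_subalgebra w A q hNA

set_option maxHeartbeats 1600000 in
-- Model lemma: `g` regular at `q` and quotient by `g` flat at `q` imply flat at `q`.
theorem core_model (q : Ideal (MvPolynomial σ R)) [q.IsPrime] (g₀ : MvPolynomial σ Λ)
    (hgq : algebraMap (MvPolynomial σ Λ) (MvPolynomial σ R) g₀ ∈ q)
    (hreg : IsSMulRegular (LocalizedModule q.primeCompl
      ((ι → MvPolynomial σ R) ⧸ KT w (MvPolynomial σ R)))
      (algebraMap (MvPolynomial σ Λ) (MvPolynomial σ R) g₀))
    (hflat : Module.Flat R (LocalizedModule q.primeCompl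
      (QuotSMulTop (algebraMap (MvPolynomial σ Λ) (MvPolynomial σ R) g₀)
        ((ι → MvPolynomial σ R) ⧸ KT w (MvPolynomial σ R))))) :
    Module.Flat R (LocalizedModule q.primeCompl
      ((ι → MvPolynomial σ R) ⧸ KT w (MvPolynomial σ R))) := by
  classical
  -- flatness of the augmented model at the top level
  have hflat' : Module.Flat R (LocalizedModule q.primeCompl
      ((ι → MvPolynomial σ R) ⧸ KT (wAug w (fun _ : Unit => g₀)) (MvPolynomial σ R))) :=
    flat_localizedModule_of_linearEquiv (augEquiv w g₀ (MvPolynomial σ R)).symm q.primeCompl hflat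
  obtain ⟨A₀, hA₀fg, -, hA₀flat⟩ :=
    exists_fg_subalgebra_flat (wAug w (fun _ : Unit => g₀)) q hflat' ∅
  haveI : Algebra.FiniteType Λ A₀ := (Subalgebra.fg_iff_finiteType A₀).mp hA₀fg
  haveI : IsNoetherianRing A₀ := Algebra.FiniteType.isNoetherianRing Λ A₀
  haveI := isScalarTower_mvPolynomial (σ := σ) Λ A₀ R
  set q₀ : Ideal (MvPolynomial σ A₀) :=
    q.comap (algebraMap (MvPolynomial σ A₀) (MvPolynomial σ R)) with hq₀
  set g₁ : MvPolynomial σ A₀ := algebraMap (MvPolynomial σ Λ) (MvPolynomial σ A₀) g₀ with hg₁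
  have hg₁R : algebraMap (MvPolynomial σ A₀) (MvPolynomial σ R) g₁ =
      algebraMap (MvPolynomial σ Λ) (MvPolynomial σ R) g₀ := by
    rw [hg₁, ← IsScalarTower.algebraMap_apply]
  -- flatness of the quotient at level `A₀`
  have h1 : Module.Flat A₀ (LocalizedModule q₀.primeCompl
      (QuotSMulTop g₁ ((ι → MvPolynomial σ A₀) ⧸ KT w (MvPolynomial σ A₀)))) :=
    flat_localizedModule_of_linearEquiv (augEquiv w g₀ (MvPolynomial σ A₀)) q₀.primeCompl hA₀flat
  have h2 : Module.Flat A₀ (QuotSMulTop g₁ (LocalizedModule q₀.primeCompl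
      ((ι → MvPolynomial σ A₀) ⧸ KT w (MvPolynomial σ A₀)))) :=
    Module.Flat.of_linearEquiv ((quotSMulTopLocalizedEquiv q₀.primeCompl g₁
      ((ι → MvPolynomial σ A₀) ⧸ KT w (MvPolynomial σ A₀))).restrictScalars A₀)
  have key := core_level (Λ := A₀) (R := R) (wT w (MvPolynomial σ A₀)) q g₁
    (by rw [hg₁R]; exact hgq)
  rw [KT_wT w (MvPolynomial σ A₀) (MvPolynomial σ A₀), KT_wT w (MvPolynomial σ A₀)
    (MvPolynomial σ R), hg₁R] at key
  exact key h2 hreg

end Model

section CoreFP

theorem core_poly {A : Type u} [CommRing A] {n : ℕ} (M : Type u) [AddCommGroup M]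
    [Module (MvPolynomial (Fin n) A) M] [Module A M] [IsScalarTower A (MvPolynomial (Fin n) A) M]
    [Module.FinitePresentation (MvPolynomial (Fin n) A) M]
    (q : Ideal (MvPolynomial (Fin n) A)) [q.IsPrime] (g : MvPolynomial (Fin n) A) (hgq : g ∈ q)
    (hreg : IsSMulRegular (LocalizedModule q.primeCompl M) g)
    (hflat : Module.Flat A (LocalizedModule q.primeCompl (QuotSMulTop g M))) :
    Module.Flat A (LocalizedModule q.primeCompl M) := by
  classical
  obtain ⟨k', m, Λ, hΛ, w, relΛ, hrel, ⟨e⟩⟩ :=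
    exists_model_equiv' (R := A) (n := n) (M := M) (fun _ : Fin 1 => g)
  haveI : Algebra.FiniteType ℤ Λ := (Subalgebra.fg_iff_finiteType Λ).mp hΛ
  haveI : IsNoetherianRing Λ := Algebra.FiniteType.isNoetherianRing ℤ Λ
  have hg : algebraMap (MvPolynomial (Fin n) Λ) (MvPolynomial (Fin n) A) (relΛ 0) = g := by
    rw [MvPolynomial.algebraMap_def]
    exact hrel 0
  have hreg' := ((localizedCongr q.primeCompl e).isSMulRegular_congr g).mpr hreg
  have hflat' := flat_localizedModule_of_linearEquiv (R := A) (QuotSMulTop.congr g e).symm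
    q.primeCompl hflat
  rw [← hg] at hreg' hflat' hgq
  have h := core_model w q (relΛ 0) hgq hreg' hflat'
  exact flat_localizedModule_of_linearEquiv e q.primeCompl h

theorem core_fp {A B : Type u} [CommRing A] [CommRing B] [Algebra A B]
    [Algebra.FinitePresentation A B]
    (M : Type u) [AddCommGroup M] [Module B M] [Module A M] [IsScalarTower A B M]
    [Module.FinitePresentation B M] (q : Ideal B) [q.IsPrime] (g : B) (hgq : g ∈ q)
    (hreg : IsSMulRegular (LocalizedModule q.primeCompl M) g)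
    (hflat : Module.Flat A (LocalizedModule q.primeCompl (QuotSMulTop g M))) :
    Module.Flat A (LocalizedModule q.primeCompl M) := by
  obtain ⟨n, f, hf, hker⟩ := Algebra.FinitePresentation.out (R := A) (A := B)
  letI : Algebra (MvPolynomial (Fin n) A) B := f.toRingHom.toAlgebra
  haveI : IsScalarTower A (MvPolynomial (Fin n) A) B :=
    .of_algebraMap_eq' f.comp_algebraMap.symm
  letI : Module (MvPolynomial (Fin n) A) M := Module.compHom M f.toRingHom
  haveI : IsScalarTower (MvPolynomial (Fin n) A) B M :=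
    ⟨fun p s m => by
      change (f p * s) • m = f p • (s • m)
      rw [mul_smul]⟩
  haveI : IsScalarTower A (MvPolynomial (Fin n) A) M :=
    ⟨fun r p m => by
      change f (r • p) • m = r • (f p • m)
      rw [map_smul, smul_assoc]⟩
  haveI : Module.FinitePresentation (MvPolynomial (Fin n) A) B :=
    Module.finitePresentation_of_surjective (Algebra.linearMap (MvPolynomial (Fin n) A) B) hf
      hker
  haveI : Module.FinitePresentation (MvPolynomial (Fin n) A) M :=
    Module.FinitePresentation.trans (MvPolynomial (Fin n) A) M B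
  have hsurj : Function.Surjective (algebraMap (MvPolynomial (Fin n) A) B) := hf
  obtain ⟨g', rfl⟩ := hsurj g
  have hreg' := (isSMulRegular_localizedModule_comap_iff (X := M) hsurj q g').mpr hreg
  have h3 := (flat_localizedModule_comap_iff (R := A) (P := MvPolynomial (Fin n) A)
    hsurj q).mpr hflat
  have hflat' := flat_localizedModule_of_linearEquiv (R := A)
    (quotSMulTopAlgebraMapEquiv (S := B) (X := M) g').symm _ h3
  have h := core_poly M (q.comap (algebraMap (MvPolynomial (Fin n) A) B)) g' hgq hreg' hflat'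
  exact (flat_localizedModule_comap_iff (R := A) (P := MvPolynomial (Fin n) A)
    (M := M) hsurj q).mp h

end CoreFP

end Groth.Agent.Lib.Helper3.RegFlat
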