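import Mathlib
import Groth.Agent.Lib.Helper3RosB
import Groth.Agent.Lib.Helper25IdComp
import Groth.Agent.Lib.Helper12Reduced
import Groth.Prelude.Def_AlgGrp

set_option autoImplicit false
set_option linter.style.haveILetI false
universe u

namespace Groth.Agent.Lib.Helper3.RosC

open CategoryTheory AlgebraicGeometry Limits MonoidalCategory CartesianMonoidalCategory MonObj GrpObj
open Groth.Agent.Lib.Helper3.RosB

variable {k : Type u} [Field k] [IsAlgClosed k]

/-- a smooth connected group scheme over a field is integral. -/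
theorem isIntegral_of_smooth_connected {k : Type u} [Field k] (G : Over (Spec (CommRingCat.of k))) [GrpObj G]
    [Smooth G.hom] [ConnectedSpace G.left] : IsIntegral G.left := by
  haveI : IsReduced G.left := Groth.Agent.Lib.Helper12.Reduced.isReduced_of_smooth G.hom
  haveI : IrreducibleSpace G.left := Groth.Agent.Lib.Helper25.IdComp.irreducibleSpace_of_connectedSpace G
  exact isIntegral_of_irreducibleSpace_of_isReduced _

lemma pb_toUnit_comp {S : Scheme.{u}} {X Y : Over S} (f : X ⟶ Y) (s : Γ((𝟙_ (Over S)).left, ⊤)) :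
    pb f (pb (toUnit Y) s) = pb (toUnit X) s := by
  rw [← pb_comp, toUnit_unique (f ≫ toUnit Y) (toUnit X)]

lemma pb_id {S : Scheme.{u}} {X : Over S} (s : Γ(X.left, ⊤)) : pb (𝟙 X) s = s := by
  simp [pb]

/-- a unit on an integral group scheme with value `1` at the identity is a character. -/
theorem character_of_unit (G : Over (Spec (CommRingCat.of k))) [GrpObj G] [IsIntegral G.left]
    [LocallyOfFiniteType G.hom] (f : Γ(G.left, ⊤)) (hf : IsUnit f) (he : pb η[G] f = 1) :
    pb μ[G] f = pb (fst G G) f * pb (snd G G) f := by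
  obtain ⟨g, h, hg, hh, hgh⟩ := units_prod G G (pb μ[G] f) (hf.map (pb μ[G]))
  have h1 : f = g * pb (toUnit G) (pb η[G] h) := by
    have e : lift (𝟙 G) (toUnit G ≫ η[G]) ≫ μ[G] = 𝟙 G := lift_comp_one_right _ _
    have := congrArg (pb (lift (𝟙 G) (toUnit G ≫ η[G]))) hgh
    rw [← pb_comp, e, pb_id, map_mul, ← pb_comp, ← pb_comp, lift_fst, lift_snd, pb_id, pb_comp] at this
    exact this
  have h2 : f = pb (toUnit G) (pb η[G] g) * h := by
    have e : lift (toUnit G ≫ η[G]) (𝟙 G) ≫ μ[G] = 𝟙 G := lift_comp_one_left _ _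
    have := congrArg (pb (lift (toUnit G ≫ η[G]) (𝟙 G))) hgh
    rw [← pb_comp, e, pb_id, map_mul, ← pb_comp, ← pb_comp, lift_fst, lift_snd, pb_id, pb_comp] at this
    exact this
  have h3 : pb η[G] g * pb η[G] h = 1 := by
    have e : lift η[G] η[G] ≫ μ[G] = η[G] := by
      have := lift_comp_one_right (η[G]) (𝟙 (𝟙_ _))
      simpa using this
    have := congrArg (pb (lift η[G] η[G])) hgh
    rw [← pb_comp, e, he, map_mul, ← pb_comp, ← pb_comp, lift_fst, lift_snd] at this
    exact this.symm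
  have h4 : pb (toUnit (G ⊗ G)) (pb η[G] h) * pb (toUnit (G ⊗ G)) (pb η[G] g) = 1 := by
    rw [← map_mul, _root_.mul_comm, h3, map_one]
  calc pb μ[G] f = pb (fst G G) g * pb (snd G G) h := hgh
    _ = pb (fst G G) g * pb (snd G G) h *
        (pb (toUnit (G ⊗ G)) (pb η[G] h) * pb (toUnit (G ⊗ G)) (pb η[G] g)) := by rw [h4, _root_.mul_one]
    _ = pb (fst G G) (g * pb (toUnit G) (pb η[G] h)) * pb (snd G G) (pb (toUnit G) (pb η[G] g) * h) := by
        rw [map_mul, map_mul, pb_toUnit_comp, pb_toUnit_comp]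
        ring
    _ = pb (fst G G) f * pb (snd G G) f := by rw [← h1, ← h2]

/-- units on `G × X` are `character × unit`. -/
theorem unit_on_group_prod (G X : Over (Spec (CommRingCat.of k))) [GrpObj G] [IsIntegral G.left]
    [LocallyOfFiniteType G.hom] [IsIntegral X.left] [LocallyOfFiniteType X.hom]
    (f : Γ((G ⊗ X).left, ⊤)) (hf : IsUnit f) :
    ∃ (χ : Γ(G.left, ⊤)) (u : Γ(X.left, ⊤)), IsUnit χ ∧ pb η[G] χ = 1 ∧
      pb μ[G] χ = pb (fst G G) χ * pb (snd G G) χ ∧ IsUnit u ∧
      f = pb (fst G X) χ * pb (snd G X) u := by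
  obtain ⟨g, h, hg, hh, hgh⟩ := units_prod G X f hf
  obtain ⟨g', hgg'⟩ := hg.exists_right_inv
  let c := pb η[G] g
  let c' := pb η[G] g'
  have hcc' : c * c' = 1 := by
    change pb η[G] g * pb η[G] g' = 1
    rw [← map_mul, hgg', map_one]
  have hc : IsUnit c := IsUnit.of_mul_eq_one _ hcc'
  have hc' : IsUnit c' := IsUnit.of_mul_eq_one _ (by rw [_root_.mul_comm]; exact hcc')
  let χ := g * pb (toUnit G) c'
  let u := h * pb (toUnit X) c
  have hχ : IsUnit χ := hg.mul (hc'.map (pb (toUnit G)))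
  have hu : IsUnit u := hh.mul (hc.map (pb (toUnit X)))
  have hχe : pb η[G] χ = 1 := by
    change pb η[G] (g * pb (toUnit G) c') = 1
    rw [map_mul, pb_toUnit_comp, toUnit_unique (toUnit (𝟙_ _)) (𝟙 _), pb_id]
    exact hcc'
  refine ⟨χ, u, hχ, hχe, character_of_unit G χ hχ hχe, hu, ?_⟩
  change f = pb (fst G X) (g * pb (toUnit G) c') * pb (snd G X) (h * pb (toUnit X) c)
  rw [map_mul, map_mul, pb_toUnit_comp, pb_toUnit_comp, hgh]
  have : pb (toUnit (G ⊗ X)) c' * pb (toUnit (G ⊗ X)) c = 1 := by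
    rw [← map_mul, _root_.mul_comm, hcc', map_one]
  calc pb (fst G X) g * pb (snd G X) h
      = pb (fst G X) g * pb (snd G X) h * (pb (toUnit (G ⊗ X)) c' * pb (toUnit (G ⊗ X)) c) := by
        rw [this, _root_.mul_one]
    _ = _ := by ring

/-- units on `X` are semi-invariant under an integral group. -/
theorem existsUnique_character (G X : Over (Spec (CommRingCat.of k))) [GrpObj G] [IsIntegral G.left]
    [LocallyOfFiniteType G.hom] [IsIntegral X.left] [LocallyOfFiniteType X.hom]
    (a : AlgGrp.Action G X) (f : Γ(X.left, ⊤)) (hf : IsUnit f) :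
    ∃! χ : Γ(G.left, ⊤), IsUnit χ ∧ pb η[G] χ = 1 ∧
      pb μ[G] χ = pb (fst G G) χ * pb (snd G G) χ ∧
      pb a.act f = pb (fst G X) χ * pb (snd G X) f := by
  obtain ⟨χ, u, hχ, hχe, hχm, hu, hfu⟩ := unit_on_group_prod G X (pb a.act f) (hf.map (pb a.act))
  have huf : u = f := by
    have e : lift (toUnit X ≫ η[G]) (𝟙 X) ≫ a.act = 𝟙 X := by
      have h1 : lift (toUnit X ≫ η[G]) (𝟙 X) = (λ_ X).inv ≫ (η[G] ▷ X) := by
        apply CartesianMonoidalCategory.hom_ext <;> simp
      rw [h1, Category.assoc, a.one_act, Iso.inv_hom_id]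
    have := congrArg (pb (lift (toUnit X ≫ η[G]) (𝟙 X))) hfu
    rw [← pb_comp, e, pb_id, map_mul, ← pb_comp, ← pb_comp, lift_fst, lift_snd, pb_id, pb_comp, hχe,
      map_one, _root_.one_mul] at this
    exact this.symm
  refine ⟨χ, ⟨hχ, hχe, hχm, by rw [hfu, huf]⟩, ?_⟩
  rintro χ' ⟨-, -, -, hχ'⟩
  obtain ⟨x₀⟩ := exists_point (k := k) X
  have hinj : Function.Injective (pb (fst G X)) := by
    intro s s' hss'
    have := congrArg (pb (lift (𝟙 G) (toUnit G ≫ x₀))) hss'
    rwa [← pb_comp, ← pb_comp, lift_fst, pb_id, pb_id] at this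
  apply hinj
  have hunit : IsUnit (pb (snd G X) f) := hf.map (pb (snd G X))
  have : pb (fst G X) χ' * pb (snd G X) f = pb (fst G X) χ * pb (snd G X) f := by
    rw [← hχ', hfu, huf]
  exact hunit.mul_left_injective this

end Groth.Agent.Lib.Helper3.RosC
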