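import Mathlib
import Groth.Prelude

set_option autoImplicit false
set_option linter.style.haveILetI false

namespace Groth.Agent.Lib.Helper3.ShFT

universe u
open IsLocalRing TensorProduct

-- lifting a transcendence basis of the residue ring `B ⧸ P` over the residue field of `Λ`
set_option maxHeartbeats 1600000 in
theorem exists_transcendence_chart (Λ : Type u) [CommRing Λ] [IsLocalRing Λ]
    (B : Type u) [CommRing B] [Algebra Λ B] (P : Ideal B) [P.IsPrime]
    [P.LiesOver (maximalIdeal Λ)] :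
    ∃ (ι : Type u) (b : ι → B),
      P.comap ((MvPolynomial.aeval b : MvPolynomial ι Λ →ₐ[Λ] B) : MvPolynomial ι Λ →+* B) =
        (maximalIdeal Λ).map (MvPolynomial.C : Λ →+* MvPolynomial ι Λ) ∧
      ∀ s : B, ∃ f : Polynomial (MvPolynomial ι Λ),
        (∃ n, f.coeff n ∉ (maximalIdeal Λ).map (MvPolynomial.C : Λ →+* MvPolynomial ι Λ)) ∧
        Polynomial.eval₂
          ((MvPolynomial.aeval b : MvPolynomial ι Λ →ₐ[Λ] B) : MvPolynomial ι Λ →+* B) s f ∈ P := by
  classical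
  letI : Field (Λ ⧸ maximalIdeal Λ) := Ideal.Quotient.field _
  haveI : FaithfulSMul (Λ ⧸ maximalIdeal Λ) (B ⧸ P) :=
    (faithfulSMul_iff_algebraMap_injective _ _).mpr (algebraMap (Λ ⧸ maximalIdeal Λ) (B ⧸ P)).injective
  obtain ⟨ι, x, hx⟩ := exists_isTranscendenceBasis' (Λ ⧸ maximalIdeal Λ) (B ⧸ P)
  have hsurj : ∀ i, ∃ b : B, Ideal.Quotient.mk P b = x i := fun i => Ideal.Quotient.mk_surjective _
  choose b hb using hsurj
  refine ⟨ι, b, ?_⟩
  obtain ⟨φ, hφ⟩ : ∃ φ : MvPolynomial ι Λ →+* B,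
      φ = ((MvPolynomial.aeval b : MvPolynomial ι Λ →ₐ[Λ] B) : MvPolynomial ι Λ →+* B) := ⟨_, rfl⟩
  rw [← hφ]
  have key : (Ideal.Quotient.mk P).comp φ =
      ((MvPolynomial.aeval x : MvPolynomial ι (Λ ⧸ maximalIdeal Λ) →ₐ[Λ ⧸ maximalIdeal Λ] (B ⧸ P)) :
        MvPolynomial ι (Λ ⧸ maximalIdeal Λ) →+* (B ⧸ P)).comp
        (MvPolynomial.map (Ideal.Quotient.mk (maximalIdeal Λ))) := by
    rw [hφ]
    apply MvPolynomial.ringHom_ext
    · intro a
      simp only [RingHom.comp_apply, RingHom.coe_coe, MvPolynomial.aeval_C, MvPolynomial.map_C]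
      rfl
    · intro i
      simp only [RingHom.comp_apply, RingHom.coe_coe, MvPolynomial.aeval_X, MvPolynomial.map_X, hb]
  have hinj : Function.Injective (MvPolynomial.aeval x :
      MvPolynomial ι (Λ ⧸ maximalIdeal Λ) →ₐ[Λ ⧸ maximalIdeal Λ] (B ⧸ P)) := hx.1
  have hcomap : P.comap φ = (maximalIdeal Λ).map (MvPolynomial.C : Λ →+* MvPolynomial ι Λ) := by
    have h1 : P.comap φ = RingHom.ker ((Ideal.Quotient.mk P).comp φ) := by
      rw [← RingHom.comap_ker, Ideal.mk_ker]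
    rw [h1, key, ← RingHom.comap_ker]
    have h2 : RingHom.ker ((MvPolynomial.aeval x :
        MvPolynomial ι (Λ ⧸ maximalIdeal Λ) →ₐ[Λ ⧸ maximalIdeal Λ] (B ⧸ P)) :
        MvPolynomial ι (Λ ⧸ maximalIdeal Λ) →+* (B ⧸ P)) = ⊥ :=
      (RingHom.injective_iff_ker_eq_bot _).mp hinj
    rw [h2, ← RingHom.ker_eq_comap_bot, MvPolynomial.ker_map, Ideal.mk_ker]
  refine ⟨hcomap, fun s => ?_⟩
  haveI hAlg : Algebra.IsAlgebraic (Algebra.adjoin (Λ ⧸ maximalIdeal Λ) (Set.range x)) (B ⧸ P) :=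
    hx.isAlgebraic
  obtain ⟨p, hp0, hp⟩ := hAlg.isAlgebraic (Ideal.Quotient.mk P s)
  have hmem : ∀ r, ((Ideal.Quotient.mk P).comp φ) r ∈
      Algebra.adjoin (Λ ⧸ maximalIdeal Λ) (Set.range x) := by
    intro r
    rw [key, Algebra.adjoin_range_eq_range_aeval]
    exact ⟨_, rfl⟩
  obtain ⟨F, hF⟩ : ∃ F : MvPolynomial ι Λ →+* Algebra.adjoin (Λ ⧸ maximalIdeal Λ) (Set.range x),
      F = RingHom.codRestrict ((Ideal.Quotient.mk P).comp φ) _ hmem := ⟨_, rfl⟩
  have hFval : ∀ r, ((F r : Algebra.adjoin (Λ ⧸ maximalIdeal Λ) (Set.range x)) : B ⧸ P) =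
      Ideal.Quotient.mk P (φ r) := by
    intro r; rw [hF]; rfl
  have hFsurj : Function.Surjective F := by
    rintro ⟨y, hy⟩
    rw [Algebra.adjoin_range_eq_range_aeval] at hy
    obtain ⟨g, rfl⟩ := hy
    obtain ⟨r, rfl⟩ := MvPolynomial.map_surjective (Ideal.Quotient.mk (maximalIdeal Λ))
      Ideal.Quotient.mk_surjective g
    refine ⟨r, Subtype.ext ?_⟩
    rw [hFval]
    exact RingHom.congr_fun key r
  obtain ⟨q, rfl⟩ := Polynomial.map_surjective F hFsurj p
  refine ⟨q, ?_, ?_⟩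
  · by_contra hcon
    push Not at hcon
    apply hp0
    ext n
    rw [Polynomial.coeff_map, Polynomial.coeff_zero]
    rw [hFval, ZeroMemClass.coe_zero]
    have := hcon n
    rw [← hcomap, Ideal.mem_comap] at this
    rw [Ideal.Quotient.eq_zero_iff_mem]
    exact this
  · rw [← Ideal.Quotient.eq_zero_iff_mem, Polynomial.hom_eval₂]
    rw [Polynomial.aeval_def, Polynomial.eval₂_map] at hp
    rw [← hp]
    congr 1
    refine RingHom.ext fun r => ?_
    exact (hFval r).symm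

-- a prime of `T₀ ⊗[R] S` over the closed point of `T₀` and over a prime `q` of `S` whose residue
-- ring is algebraic over that of `p = q ∩ R` is maximal
set_option maxHeartbeats 1600000 in
theorem isMaximal_of_algebraic (R : Type u) [CommRing R] (p : Ideal R)
    (S : Type u) [CommRing S] [Algebra R S] (q : Ideal S)
    (halg : ∀ s : S, ∃ f : Polynomial R, (∃ n, f.coeff n ∉ p) ∧
      Polynomial.eval₂ (algebraMap R S) s f ∈ q)
    (T₀ : Type u) [CommRing T₀] [IsLocalRing T₀] [Algebra R T₀]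
    (hT₀ : (maximalIdeal T₀).comap (algebraMap R T₀) ≤ p)
    (q'' : Ideal (T₀ ⊗[R] S)) [q''.IsPrime]
    (h1 : (maximalIdeal T₀).map (algebraMap T₀ (T₀ ⊗[R] S)) ≤ q'')
    (h2 : ∀ s ∈ q, (1 : T₀) ⊗ₜ[R] s ∈ q'') : q''.IsMaximal := by
  classical
  letI : Field (T₀ ⧸ maximalIdeal T₀) := Ideal.Quotient.field _
  obtain ⟨j, hj⟩ : ∃ j : T₀ →+* (T₀ ⊗[R] S) ⧸ q'',
      j = (Ideal.Quotient.mk q'').comp (algebraMap T₀ (T₀ ⊗[R] S)) := ⟨_, rfl⟩
  have hjm : ∀ a ∈ maximalIdeal T₀, j a = 0 := by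
    intro a ha
    rw [hj, RingHom.comp_apply, Ideal.Quotient.eq_zero_iff_mem]
    exact h1 (Ideal.mem_map_of_mem _ ha)
  letI : Algebra (T₀ ⧸ maximalIdeal T₀) ((T₀ ⊗[R] S) ⧸ q'') :=
    (Ideal.Quotient.lift (maximalIdeal T₀) j hjm).toAlgebra
  have halgmap : ∀ t : T₀, algebraMap (T₀ ⧸ maximalIdeal T₀) ((T₀ ⊗[R] S) ⧸ q'')
      (Ideal.Quotient.mk _ t) = Ideal.Quotient.mk q'' (t ⊗ₜ[R] (1 : S)) := by
    intro t
    show Ideal.Quotient.lift (maximalIdeal T₀) j hjm (Ideal.Quotient.mk _ t) = _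
    rw [Ideal.Quotient.lift_mk, hj, RingHom.comp_apply, Algebra.TensorProduct.algebraMap_apply,
      Algebra.algebraMap_self_apply]
  have hint1 : ∀ s : S, IsIntegral (T₀ ⧸ maximalIdeal T₀)
      (Ideal.Quotient.mk q'' ((1 : T₀) ⊗ₜ[R] s)) := by
    intro s
    obtain ⟨f, ⟨n, hn⟩, hf⟩ := halg s
    apply IsAlgebraic.isIntegral
    refine ⟨f.map ((Ideal.Quotient.mk (maximalIdeal T₀)).comp (algebraMap R T₀)), ?_, ?_⟩
    · intro h0
      have := congrArg (fun g => Polynomial.coeff g n) h0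
      simp only [Polynomial.coeff_map, Polynomial.coeff_zero, RingHom.comp_apply] at this
      rw [Ideal.Quotient.eq_zero_iff_mem] at this
      exact hn (hT₀ this)
    · rw [Polynomial.aeval_def, Polynomial.eval₂_map]
      have hcomp : (algebraMap (T₀ ⧸ maximalIdeal T₀) ((T₀ ⊗[R] S) ⧸ q'')).comp
          ((Ideal.Quotient.mk (maximalIdeal T₀)).comp (algebraMap R T₀)) =
          ((Ideal.Quotient.mk q'').comp
            (Algebra.TensorProduct.includeRight : S →ₐ[R] T₀ ⊗[R] S).toRingHom).comp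
              (algebraMap R S) := by
        refine RingHom.ext fun r => ?_
        simp only [RingHom.comp_apply]
        rw [halgmap]
        simp only [AlgHom.toRingHom_eq_coe, RingHom.coe_coe, AlgHom.commutes,
          Algebra.TensorProduct.algebraMap_apply]
      have hs : Ideal.Quotient.mk q'' ((1 : T₀) ⊗ₜ[R] s) =
          ((Ideal.Quotient.mk q'').comp
            (Algebra.TensorProduct.includeRight : S →ₐ[R] T₀ ⊗[R] S).toRingHom) s := rfl
      rw [hcomp, hs, ← Polynomial.hom_eval₂, RingHom.comp_apply, Ideal.Quotient.eq_zero_iff_mem]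
      exact h2 _ hf
  haveI : Algebra.IsIntegral (T₀ ⧸ maximalIdeal T₀) ((T₀ ⊗[R] S) ⧸ q'') := by
    refine ⟨fun d => ?_⟩
    obtain ⟨w, rfl⟩ := Ideal.Quotient.mk_surjective d
    induction w with
    | zero => rw [map_zero]; exact isIntegral_zero
    | add a b ha hb => rw [map_add]; exact ha.add hb
    | tmul t s =>
      have : t ⊗ₜ[R] s = (t ⊗ₜ[R] (1 : S)) * ((1 : T₀) ⊗ₜ[R] s) := by
        rw [Algebra.TensorProduct.tmul_mul_tmul, mul_one, one_mul]
      rw [this, map_mul, ← halgmap]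
      exact isIntegral_algebraMap.mul (hint1 s)
  have hfield : IsField ((T₀ ⊗[R] S) ⧸ q'') :=
    isField_of_isIntegral_of_isField' (R := T₀ ⧸ maximalIdeal T₀) (Field.toIsField _)
  exact Ideal.Quotient.maximal_of_isField q'' hfield

end Groth.Agent.Lib.Helper3.ShFT
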