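import Mathlib
import Groth.Prelude
import Groth.Agent.Lib.Helper3ShFTa
import Groth.Agent.Lib.Helper3ShBC
import Groth.Agent.Lib.Helper3GeomUnibranch
import Groth.Agent.Lib.Helper3ValGauss
import Groth.Agent.Lib.Helper6BcBridge

set_option autoImplicit false
set_option linter.style.haveILetI false

namespace Groth.Agent.Lib.Helper3.ShFT

universe u
open IsLocalRing TensorProduct CategoryTheory AlgebraicGeometry

-- the strict henselization of `S_q` is the strict henselization of the local ring of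
-- `R_p^sh ⊗ S` at a MAXIMAL ideal over the closed point, when the residue ring of `q` is
-- algebraic over that of `p`
set_option maxHeartbeats 1600000 in
theorem exists_maximal_sh_baseChange
    (R S : Type u) [CommRing R] [CommRing S] [Algebra R S] (q : Ideal S) [q.IsPrime]
    (p : Ideal R) [p.IsPrime] [q.LiesOver p]
    (halg : ∀ s : S, ∃ f : Polynomial R, (∃ n, f.coeff n ∉ p) ∧
      Polynomial.eval₂ (algebraMap R S) s f ∈ q)
    (T₀ : Type u) [CommRing T₀] [IsLocalRing T₀] [Algebra (Localization.AtPrime p) T₀]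
    [IsLocalHom (algebraMap (Localization.AtPrime p) T₀)]
    [Hensel.IsStrictHenselization (Localization.AtPrime p) T₀]
    (T : Type u) [CommRing T] [IsLocalRing T] [Algebra (Localization.AtPrime q) T]
    [IsLocalHom (algebraMap (Localization.AtPrime q) T)]
    [Hensel.IsStrictHenselization (Localization.AtPrime q) T]
    [Algebra R T₀] [IsScalarTower R (Localization.AtPrime p) T₀] :
    ∃ (q'' : Ideal (T₀ ⊗[R] S)) (_ : q''.IsMaximal) (c : Localization.AtPrime q'' →+* T),
      (letI := c.toAlgebra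
        ∃ _ : IsLocalHom (algebraMap (Localization.AtPrime q'') T),
          Hensel.IsStrictHenselization (Localization.AtPrime q'') T) ∧
      q''.comap (algebraMap T₀ (T₀ ⊗[R] S)) = maximalIdeal T₀ := by
  obtain ⟨q'', hq''prime, c, hsh, hle, hcS, hcR⟩ := ShBC.exists_sh_baseChange R S q p T₀ T
  haveI := hq''prime
  have hT₀ : (maximalIdeal T₀).comap (algebraMap R T₀) ≤ p := by
    intro r hr
    rw [Ideal.mem_comap, IsScalarTower.algebraMap_apply R (Localization.AtPrime p) T₀] at hr
    by_contra hrp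
    have hu : IsUnit (algebraMap R (Localization.AtPrime p) r) :=
      IsLocalization.map_units (Localization.AtPrime p) (⟨r, hrp⟩ : p.primeCompl)
    exact hr (hu.map (algebraMap (Localization.AtPrime p) T₀))
  have h2 : ∀ s ∈ q, (1 : T₀) ⊗ₜ[R] s ∈ q'' := by
    intro s hs
    by_contra hcon
    have hu : IsUnit (algebraMap (T₀ ⊗[R] S) (Localization.AtPrime q'') ((1 : T₀) ⊗ₜ[R] s)) :=
      IsLocalization.map_units (Localization.AtPrime q'') (⟨_, hcon⟩ : q''.primeCompl)
    have hu2 := hu.map c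
    rw [hcS] at hu2
    have hu3 : IsUnit (algebraMap S (Localization.AtPrime q) s) :=
      isUnit_of_map_unit (algebraMap (Localization.AtPrime q) T) _ hu2
    have := (IsLocalization.AtPrime.isUnit_to_map_iff (Localization.AtPrime q) q s).mp hu3
    exact this hs
  have hmax : q''.IsMaximal := isMaximal_of_algebraic R p S q halg T₀ hT₀ q'' hle h2
  refine ⟨q'', hmax, c, hsh, ?_⟩
  have hle' : maximalIdeal T₀ ≤ q''.comap (algebraMap T₀ (T₀ ⊗[R] S)) :=
    Ideal.map_le_iff_le_comap.mp hle
  have hne : q''.comap (algebraMap T₀ (T₀ ⊗[R] S)) ≠ ⊤ := (Ideal.comap_isPrime _ _).ne_top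
  exact ((IsLocalRing.maximalIdeal.isMaximal T₀).eq_of_le hne hle').symm

-- an affine chart of finite type around a point
theorem exists_chart_finiteType (Λ : Type u) [CommRing Λ] {X : Scheme.{u}}
    (f : X ⟶ Spec (CommRingCat.of Λ)) [LocallyOfFiniteType f] (x : X) :
    ∃ (B : Type u) (_ : CommRing B) (_ : Algebra Λ B) (_ : Algebra.FiniteType Λ B)
      (j : Spec (CommRingCat.of B) ⟶ X) (_ : IsOpenImmersion j)
      (_ : j ≫ f = Spec.map (CommRingCat.ofHom (algebraMap Λ B)))
      (z : PrimeSpectrum B), j z = x := by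
  let 𝒜 := X.affineOpenCover
  obtain ⟨z, hz⟩ := 𝒜.covers x
  let B : Type u := 𝒜.X (𝒜.idx x)
  let j : Spec (CommRingCat.of B) ⟶ X := 𝒜.f (𝒜.idx x)
  haveI : IsOpenImmersion j := inferInstanceAs (IsOpenImmersion (𝒜.f (𝒜.idx x)))
  let φ : CommRingCat.of Λ ⟶ CommRingCat.of B := Spec.preimage (j ≫ f)
  letI : Algebra Λ B := φ.hom.toAlgebra
  have hj : j ≫ f = Spec.map (CommRingCat.ofHom (algebraMap Λ B)) := (Spec.map_preimage _).symm
  have hft : LocallyOfFiniteType (Spec.map (CommRingCat.ofHom (algebraMap Λ B))) := by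
    rw [← hj]; infer_instance
  rw [HasRingHomProperty.Spec_iff (P := @LocallyOfFiniteType)] at hft
  have hft' : Algebra.FiniteType Λ B := RingHom.finiteType_algebraMap.mp hft
  exact ⟨B, inferInstance, inferInstance, hft', j, inferInstance, hj, z, hz⟩

set_option maxHeartbeats 3200000 in
-- the scheme-level model: the strict henselization of a local ring of a scheme of finite type
-- over a local ring `Λ`, at a point over the closed point, is the strict henselization at a
-- CLOSED point of a scheme of finite type over the strict henselization of a Gauss localization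
-- of a polynomial ring over `Λ`
theorem exists_scheme_model (Λ : Type u) [CommRing Λ] [IsLocalRing Λ] {X : Scheme.{u}}
    (f : X ⟶ Spec (CommRingCat.of Λ)) [LocallyOfFiniteType f] (x : X)
    (hx : f.base x = ((IsLocalRing.closedPoint Λ : PrimeSpectrum Λ) : ↥(Spec (CommRingCat.of Λ))))
    (A : Type u) [CommRing A] [IsLocalRing A] [Algebra (X.presheaf.stalk x) A]
    [IsLocalHom (algebraMap (X.presheaf.stalk x) A)]
    [Hensel.IsStrictHenselization (X.presheaf.stalk x) A] :
    ∃ (ι : Type u), ∀ (T₀ : Type u) [CommRing T₀] [IsLocalRing T₀]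
      [Algebra (Localization.AtPrime
        ((maximalIdeal Λ).map (MvPolynomial.C : Λ →+* MvPolynomial ι Λ))) T₀]
      [IsLocalHom (algebraMap (Localization.AtPrime
        ((maximalIdeal Λ).map (MvPolynomial.C : Λ →+* MvPolynomial ι Λ))) T₀)]
      [Hensel.IsStrictHenselization (Localization.AtPrime
        ((maximalIdeal Λ).map (MvPolynomial.C : Λ →+* MvPolynomial ι Λ))) T₀],
      ∃ (X' : Scheme.{u}) (f' : X' ⟶ Spec (CommRingCat.of T₀)) (_ : LocallyOfFiniteType f')
        (_ : QuasiCompact f') (x' : X') (_ : IsClosed ({x'} : Set X'))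
        (_ : f'.base x' =
          ((IsLocalRing.closedPoint T₀ : PrimeSpectrum T₀) : ↥(Spec (CommRingCat.of T₀))))
        (_ : Algebra (X'.presheaf.stalk x') A)
        (_ : IsLocalHom (algebraMap (X'.presheaf.stalk x') A)),
        Hensel.IsStrictHenselization (X'.presheaf.stalk x') A := by
  obtain ⟨B, _, _, hft, j, _, hj, z, rfl⟩ := exists_chart_finiteType Λ f x
  -- the prime of the chart lies over the closed point
  haveI hlies : z.asIdeal.LiesOver (maximalIdeal Λ) := by
    constructor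
    have h1 : (j ≫ f).base z = f.base (j.base z) := rfl
    rw [hj] at h1
    rw [hx] at h1
    have h2 := congrArg PrimeSpectrum.asIdeal h1
    exact h2.symm
  -- transport the strict henselization to the chart
  obtain ⟨e₀, he₀⟩ : ∃ e₀ : X.presheaf.stalk (j.base z) ≃+* Localization.AtPrime z.asIdeal,
      e₀ = Groth.Agent.Lib.Helper6.BcBridge.stalkEquivSpec j z := ⟨_, rfl⟩
  letI algA : Algebra (Localization.AtPrime z.asIdeal) A :=
    ((algebraMap (X.presheaf.stalk (j.base z)) A).comp (e₀.symm : _ →+* _)).toAlgebra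
  have halgA : ∀ r, algebraMap (Localization.AtPrime z.asIdeal) A (e₀ r) =
      algebraMap (X.presheaf.stalk (j.base z)) A r := by
    intro r
    show algebraMap (X.presheaf.stalk (j.base z)) A (e₀.symm (e₀ r)) = _
    rw [RingEquiv.symm_apply_apply]
  haveI : IsLocalHom (algebraMap (Localization.AtPrime z.asIdeal) A) := by
    refine ⟨fun a ha => ?_⟩
    have h1 : IsUnit (algebraMap (X.presheaf.stalk (j.base z)) A (e₀.symm a)) := ha
    have h2 := isUnit_of_map_unit (algebraMap (X.presheaf.stalk (j.base z)) A) _ h1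
    have h3 := h2.map e₀.toRingHom
    simpa using h3
  haveI : Hensel.IsStrictHenselization (Localization.AtPrime z.asIdeal) A :=
    GeomUnibranch.isStrictHenselization_of_ringEquiv e₀ halgA
  -- the transcendence chart
  obtain ⟨ι, b, hcomap, halg⟩ := exists_transcendence_chart Λ B z.asIdeal
  refine ⟨ι, ?_⟩
  intro T₀ _ _ _ _ _
  letI algRB : Algebra (MvPolynomial ι Λ) B :=
    ((MvPolynomial.aeval b : MvPolynomial ι Λ →ₐ[Λ] B) : MvPolynomial ι Λ →+* B).toAlgebra
  haveI : IsScalarTower Λ (MvPolynomial ι Λ) B := by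
    refine IsScalarTower.of_algebraMap_eq (fun a => ?_)
    show algebraMap Λ B a = (MvPolynomial.aeval b : MvPolynomial ι Λ →ₐ[Λ] B)
      (algebraMap Λ (MvPolynomial ι Λ) a)
    rw [AlgHom.commutes]
  haveI : Algebra.FiniteType (MvPolynomial ι Λ) B :=
    Algebra.FiniteType.of_restrictScalars_finiteType Λ (MvPolynomial ι Λ) B
  haveI : z.asIdeal.LiesOver
      ((maximalIdeal Λ).map (MvPolynomial.C : Λ →+* MvPolynomial ι Λ)) := ⟨hcomap.symm⟩
  letI algRT : Algebra (MvPolynomial ι Λ) T₀ :=
    ((algebraMap (Localization.AtPrime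
      ((maximalIdeal Λ).map (MvPolynomial.C : Λ →+* MvPolynomial ι Λ))) T₀).comp
      (algebraMap (MvPolynomial ι Λ) _)).toAlgebra
  haveI : IsScalarTower (MvPolynomial ι Λ) (Localization.AtPrime
      ((maximalIdeal Λ).map (MvPolynomial.C : Λ →+* MvPolynomial ι Λ))) T₀ :=
    IsScalarTower.of_algebraMap_eq (fun _ => rfl)
  obtain ⟨q'', hmax, c, ⟨hcloc, hcsh⟩, hq''⟩ := exists_maximal_sh_baseChange (MvPolynomial ι Λ) B
    z.asIdeal ((maximalIdeal Λ).map (MvPolynomial.C : Λ →+* MvPolynomial ι Λ)) halg T₀ A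
  haveI hq''prime : q''.IsPrime := hmax.isPrime
  obtain ⟨x', hx'⟩ : ∃ x' : PrimeSpectrum (T₀ ⊗[MvPolynomial ι Λ] B), x' = ⟨q'', hq''prime⟩ :=
    ⟨_, rfl⟩
  obtain ⟨e₁, he₁⟩ : ∃ e₁ : (Spec (CommRingCat.of (T₀ ⊗[MvPolynomial ι Λ] B))).presheaf.stalk x' ≃+*
      Localization.AtPrime x'.asIdeal,
      e₁ = (Spec.stalkIso (CommRingCat.of (T₀ ⊗[MvPolynomial ι Λ] B)) x').commRingCatIsoToRingEquiv :=
    ⟨_, rfl⟩
  subst hx'
  letI algA' : Algebra ((Spec (CommRingCat.of (T₀ ⊗[MvPolynomial ι Λ] B))).presheaf.stalk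
      (⟨q'', hq''prime⟩ : PrimeSpectrum (T₀ ⊗[MvPolynomial ι Λ] B))) A :=
    (c.comp (e₁ : _ →+* _)).toAlgebra
  letI := c.toAlgebra
  haveI := hcloc
  haveI := hcsh
  have hloc' : IsLocalHom (algebraMap ((Spec (CommRingCat.of
      (T₀ ⊗[MvPolynomial ι Λ] B))).presheaf.stalk
      (⟨q'', hq''prime⟩ : PrimeSpectrum (T₀ ⊗[MvPolynomial ι Λ] B))) A) := by
    refine ⟨fun a ha => ?_⟩
    have h1 : IsUnit (algebraMap (Localization.AtPrime q'') A (e₁ a)) := ha
    have h2 := isUnit_of_map_unit (algebraMap (Localization.AtPrime q'') A) _ h1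
    have h3 := h2.map e₁.symm.toRingHom
    simpa using h3
  haveI := hloc'
  refine ⟨Spec (CommRingCat.of (T₀ ⊗[MvPolynomial ι Λ] B)),
    Spec.map (CommRingCat.ofHom (algebraMap T₀ (T₀ ⊗[MvPolynomial ι Λ] B))), ?_, inferInstance,
    ⟨q'', hq''prime⟩, ?_, ?_, algA', hloc', ?_⟩
  · rw [HasRingHomProperty.Spec_iff (P := @LocallyOfFiniteType)]
    exact RingHom.finiteType_algebraMap.mpr inferInstance
  · exact (PrimeSpectrum.isClosed_singleton_iff_isMaximal _).mpr hmax
  · apply PrimeSpectrum.ext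
    exact hq''
  · refine GeomUnibranch.isStrictHenselization_of_ringEquiv
      (R := Localization.AtPrime q'') e₁.symm (fun r => ?_)
    show c (e₁ (e₁.symm r)) = _
    rw [RingEquiv.apply_symm_apply]
    rfl

end Groth.Agent.Lib.Helper3.ShFT
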