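import Mathlib
import Groth.Agent.Lib.Helper3HzTensor
import Groth.Agent.Lib.Helper3ShTensor

set_option autoImplicit false
set_option linter.unusedSectionVars false

namespace Groth.Agent.Lib.Helper3.ShTensor2

open IsLocalRing TensorProduct Algebra.TensorProduct HzTensor

universe u

section core

variable {R S Ah Bh : Type u} [CommRing R] [CommRing S] [Algebra R S]
  [CommRing Ah] [IsLocalRing Ah] [Algebra R Ah]
  [CommRing Bh] [IsLocalRing Bh] [Algebra S Bh] [Algebra R Bh] [IsScalarTower R S Bh]
  [Algebra Ah Bh] [IsScalarTower R Ah Bh] [IsLocalHom (algebraMap Ah Bh)]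

/-- **Core (strict)**: `Bh` has the universal property of a strict henselization of
`(Ah ⊗[R] S)_Q`. -/
theorem universal
    (UA : ∀ (T : Type u) [CommRing T] [HenselianLocalRing T] (u v : Ah →+* T), IsLocalHom u →
      u.comp (algebraMap R Ah) = v.comp (algebraMap R Ah) →
      (∀ x, residue T (v x) = residue T (u x)) → u = v)
    (UB : ∀ (T : Type u) [CommRing T] [HenselianLocalRing T] (w : S →+* T),
      (maximalIdeal T).comap w = (maximalIdeal Bh).comap (algebraMap S Bh) →
      ∀ τ : ResidueField Bh →+* ResidueField T,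
      (∀ s, τ (residue Bh (algebraMap S Bh s)) = residue T (w s)) →
      ∃! β : Bh →+* T, β.comp (algebraMap S Bh) = w ∧ ∀ x, residue T (β x) = τ (residue Bh x))
    (T : Type u) [CommRing T] [HenselianLocalRing T]
    (f : Localization.AtPrime (Q R S Ah Bh) →+* T) [hf : IsLocalHom f]
    (τ : ResidueField Bh →+* ResidueField T)
    (hτ : ∀ x, τ (residue Bh (phiL R S Ah Bh x)) = residue T (f x)) :
    ∃! g : Bh →+* T, g.comp (phiL R S Ah Bh) = f ∧ ∀ x, residue T (g x) = τ (residue Bh x) := by
  let ι : Ah ⊗[R] S →+* Localization.AtPrime (Q R S Ah Bh) := algebraMap _ _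
  haveI : IsLocalRing (Localization.AtPrime (Q R S Ah Bh)) := inferInstance
  let w : S →+* T := f.comp (ι.comp (includeRight : S →ₐ[R] Ah ⊗[R] S).toRingHom)
  have hmemQ : ∀ d : Ah ⊗[R] S, IsUnit (f (ι d)) ↔ IsUnit (phi R S Ah Bh d) := by
    intro d
    constructor
    · intro h
      have h1 : IsUnit (ι d) := isUnit_of_map_unit f _ h
      have h2 := h1.map (phiL R S Ah Bh)
      rwa [phiL_algebraMap] at h2
    · intro h
      have h3 : d ∈ (Q R S Ah Bh).primeCompl := fun hc => hc h
      exact (IsLocalization.map_units (Localization.AtPrime (Q R S Ah Bh)) ⟨d, h3⟩).map f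
  have hw : (maximalIdeal T).comap w = (maximalIdeal Bh).comap (algebraMap S Bh) := by
    ext s
    rw [Ideal.mem_comap, Ideal.mem_comap, mem_maximalIdeal, mem_maximalIdeal, mem_nonunits_iff,
      mem_nonunits_iff, not_iff_not]
    show IsUnit (f (ι (1 ⊗ₜ s))) ↔ _
    rw [hmemQ]
    simp [phi]
  have hphiS : ∀ s : S, phi R S Ah Bh (1 ⊗ₜ s) = algebraMap S Bh s := fun s => by simp [phi]
  have hphiA : ∀ a : Ah, phi R S Ah Bh (a ⊗ₜ 1) = algebraMap Ah Bh a := fun a => by simp [phi]
  have hwτ : ∀ s, τ (residue Bh (algebraMap S Bh s)) = residue T (w s) := by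
    intro s
    rw [← hphiS, ← phiL_algebraMap, hτ]
    rfl
  obtain ⟨β, ⟨hβ, hβres⟩, hβuniq⟩ := UB T w hw τ hwτ
  have key : β.comp (phiL R S Ah Bh) = f := by
    apply IsLocalization.ringHom_ext (Q R S Ah Bh).primeCompl
    let u : Ah →+* T := f.comp (ι.comp (includeLeftRingHom : Ah →+* Ah ⊗[R] S))
    let v : Ah →+* T := β.comp (algebraMap Ah Bh)
    have hu : IsLocalHom u := by
      refine ⟨fun a ha => ?_⟩
      have h1 : IsUnit (f (ι (a ⊗ₜ 1))) := ha
      rw [hmemQ, hphiA] at h1
      exact isUnit_of_map_unit (algebraMap Ah Bh) a h1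
    have huv : u = v := by
      apply UA T u v hu
      · ext r
        show f (ι ((algebraMap R Ah r) ⊗ₜ 1)) = β (algebraMap Ah Bh (algebraMap R Ah r))
        have e1 : ((algebraMap R Ah r) ⊗ₜ[R] (1 : S) : Ah ⊗[R] S) = 1 ⊗ₜ (algebraMap R S r) := by
          rw [Algebra.algebraMap_eq_smul_one, Algebra.algebraMap_eq_smul_one,
            TensorProduct.smul_tmul]
        rw [e1]
        have e2 : f (ι (1 ⊗ₜ (algebraMap R S r))) = w (algebraMap R S r) := rfl
        rw [e2, ← hβ, RingHom.comp_apply, ← IsScalarTower.algebraMap_apply R S Bh,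
          ← IsScalarTower.algebraMap_apply R Ah Bh]
      · intro a
        show residue T (β (algebraMap Ah Bh a)) = residue T (f (ι (a ⊗ₜ 1)))
        rw [hβres, ← hphiA, ← phiL_algebraMap, hτ]
    apply RingHom.ext
    intro d
    show β (phiL R S Ah Bh (ι d)) = f (ι d)
    rw [phiL_algebraMap]
    induction d with
    | zero => simp
    | tmul a s =>
      have e1 : (a ⊗ₜ[R] s : Ah ⊗[R] S) = (a ⊗ₜ 1) * (1 ⊗ₜ s) := by simp
      rw [e1, map_mul, map_mul, map_mul, map_mul]
      congr 1
      · rw [hphiA]
        exact (RingHom.congr_fun huv a).symm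
      · rw [hphiS]
        exact RingHom.congr_fun hβ s
    | add x y hx hy => simp only [map_add, hx, hy]
  refine ⟨β, ⟨key, hβres⟩, fun g' hg' => ?_⟩
  apply hβuniq
  refine ⟨?_, hg'.2⟩
  ext s
  show g' (algebraMap S Bh s) = f (ι (1 ⊗ₜ s))
  rw [← hg'.1, RingHom.comp_apply, phiL_algebraMap, hphiS]

end core

section concrete

theorem comap_maximalIdeal' (R : Type u) [CommRing R] (p : Ideal R) [p.IsPrime]
    (Rh : Type u) [CommRing Rh] [IsLocalRing Rh] [Algebra (Localization.AtPrime p) Rh]
    [IsLocalHom (algebraMap (Localization.AtPrime p) Rh)] [Algebra R Rh]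
    [IsScalarTower R (Localization.AtPrime p) Rh] :
    (maximalIdeal Rh).comap (algebraMap R Rh) = p := by
  rw [IsScalarTower.algebraMap_eq R (Localization.AtPrime p) Rh, ← Ideal.comap_comap,
    IsLocalRing.maximalIdeal_comap (algebraMap (Localization.AtPrime p) Rh)]
  exact IsLocalization.AtPrime.under_maximalIdeal (Localization.AtPrime p) p

variable (R : Type u) [CommRing R] (p : Ideal R) [p.IsPrime]
  (Rh : Type u) [CommRing Rh] [IsLocalRing Rh] [Algebra (Localization.AtPrime p) Rh]
  [IsLocalHom (algebraMap (Localization.AtPrime p) Rh)]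
  [Hensel.IsStrictHenselization (Localization.AtPrime p) Rh] [Algebra R Rh]
  [IsScalarTower R (Localization.AtPrime p) Rh]

include p in
theorem UA_of_sh (T : Type u) [CommRing T] [HenselianLocalRing T] (u v : Rh →+* T)
    (hu : IsLocalHom u) (h : u.comp (algebraMap R Rh) = v.comp (algebraMap R Rh))
    (hres : ∀ x, residue T (v x) = residue T (u x)) : u = v := by
  have h1 : u.comp (algebraMap (Localization.AtPrime p) Rh)
      = v.comp (algebraMap (Localization.AtPrime p) Rh) := by
    apply IsLocalization.ringHom_ext p.primeCompl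
    rw [RingHom.comp_assoc, RingHom.comp_assoc,
      ← IsScalarTower.algebraMap_eq R (Localization.AtPrime p) Rh]
    exact h
  haveI : IsLocalHom (u.comp (algebraMap (Localization.AtPrime p) Rh)) :=
    RingHom.isLocalHom_comp _ _
  obtain ⟨g, -, huniq⟩ := Hensel.IsStrictHenselization.universal (R := Localization.AtPrime p)
    (S := Rh) T (u.comp (algebraMap (Localization.AtPrime p) Rh)) (ResidueField.map u)
    (ResidueField.map_comp _ _).symm
  rw [huniq u ⟨rfl, fun x => rfl⟩, huniq v ⟨h1.symm, fun x => hres x⟩]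

include p in
theorem UB_of_sh (T : Type u) [CommRing T] [HenselianLocalRing T] (w : R →+* T)
    (hw : (maximalIdeal T).comap w = (maximalIdeal Rh).comap (algebraMap R Rh))
    (τ : ResidueField Rh →+* ResidueField T)
    (hτ : ∀ s, τ (residue Rh (algebraMap R Rh s)) = residue T (w s)) :
    ∃! β : Rh →+* T, β.comp (algebraMap R Rh) = w ∧ ∀ x, residue T (β x) = τ (residue Rh x) := by
  rw [comap_maximalIdeal' R p Rh] at hw
  have hunits : ∀ y : p.primeCompl, IsUnit (w y) := by
    intro y
    by_contra h
    apply y.2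
    have h' : (y : R) ∈ Ideal.comap w (maximalIdeal T) := h
    rwa [hw] at h'
  let w' : Localization.AtPrime p →+* T := IsLocalization.lift (M := p.primeCompl) hunits
  have hw' : w'.comp (algebraMap R (Localization.AtPrime p)) = w := IsLocalization.lift_comp hunits
  haveI : IsLocalHom w' := isLocalHom_lift p w hw hunits
  have hcompat : τ.comp (ResidueField.map (algebraMap (Localization.AtPrime p) Rh))
      = ResidueField.map w' := by
    apply Ideal.Quotient.ringHom_ext
    apply IsLocalization.ringHom_ext p.primeCompl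
    ext r
    show τ (residue Rh (algebraMap (Localization.AtPrime p) Rh
      (algebraMap R (Localization.AtPrime p) r))) = residue T (w' (algebraMap R _ r))
    rw [← IsScalarTower.algebraMap_apply R (Localization.AtPrime p) Rh, hτ,
      ← RingHom.comp_apply w', hw']
  obtain ⟨β, ⟨hβ, hβres⟩, hβuniq⟩ := Hensel.IsStrictHenselization.universal
    (R := Localization.AtPrime p) (S := Rh) T w' τ hcompat
  refine ⟨β, ⟨?_, hβres⟩, fun β' hβ' => ?_⟩
  · rw [IsScalarTower.algebraMap_eq R (Localization.AtPrime p) Rh, ← RingHom.comp_assoc, hβ, hw']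
  · apply hβuniq
    refine ⟨?_, hβ'.2⟩
    apply IsLocalization.ringHom_ext p.primeCompl
    rw [RingHom.comp_assoc, ← IsScalarTower.algebraMap_eq R (Localization.AtPrime p) Rh, hβ'.1, hw']

variable (S : Type u) [CommRing S] [Algebra R S] (q : Ideal S) [q.IsPrime] [q.LiesOver p]
  (Sh : Type u) [CommRing Sh] [IsLocalRing Sh] [Algebra (Localization.AtPrime q) Sh]
  [IsLocalHom (algebraMap (Localization.AtPrime q) Sh)]
  [Hensel.IsStrictHenselization (Localization.AtPrime q) Sh] [Algebra S Sh]
  [IsScalarTower S (Localization.AtPrime q) Sh] [Algebra R Sh] [IsScalarTower R S Sh]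
  [Algebra Rh Sh] [IsScalarTower R Rh Sh]

include p q in
theorem isLocalHom_algebraMap : IsLocalHom (algebraMap Rh Sh) := by
  refine ((IsLocalRing.local_hom_TFAE (algebraMap Rh Sh)).out 2 0).mp ?_
  rw [← HzP.sh_map_maximalIdeal (Localization.AtPrime p) Rh,
    ← Localization.AtPrime.map_eq_maximalIdeal, Ideal.map_map, Ideal.map_map,
    RingHom.comp_assoc, ← IsScalarTower.algebraMap_eq R (Localization.AtPrime p) Rh,
    ← IsScalarTower.algebraMap_eq R Rh Sh, IsScalarTower.algebraMap_eq R S Sh, ← Ideal.map_map]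
  have h1 : p.map (algebraMap R S) ≤ q := by
    rw [Ideal.map_le_iff_le_comap, ← Ideal.under_def, ← Ideal.over_def q p]
  refine (Ideal.map_mono h1).trans ?_
  rw [Ideal.map_le_iff_le_comap, comap_maximalIdeal' S q Sh]

include p q in
/-- `Sh` is a strict henselization of `(Rh ⊗[R] S)_Q`. -/
theorem isStrictHenselization [IsLocalHom (algebraMap Rh Sh)] :
    letI : Algebra (Localization.AtPrime (Q R S Rh Sh)) Sh := (phiL R S Rh Sh).toAlgebra
    haveI : IsLocalHom (algebraMap (Localization.AtPrime (Q R S Rh Sh)) Sh) := isLocalHom_phiL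
    Hensel.IsStrictHenselization (Localization.AtPrime (Q R S Rh Sh)) Sh := by
  letI : Algebra (Localization.AtPrime (Q R S Rh Sh)) Sh := (phiL R S Rh Sh).toAlgebra
  haveI : IsLocalHom (algebraMap (Localization.AtPrime (Q R S Rh Sh)) Sh) := isLocalHom_phiL
  haveI hSh := Hensel.IsStrictHenselization.isSepClosure (R := Localization.AtPrime q) (S := Sh)
  refine ⟨Hensel.IsStrictHenselization.henselian (R := Localization.AtPrime q), ?_, ?_⟩
  · refine ⟨hSh.sep_closed, ?_⟩
    -- the map `S_q → L`
    have hunits : ∀ y : q.primeCompl, IsUnit ((algebraMap (Rh ⊗[R] S)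
        (Localization.AtPrime (Q R S Rh Sh))).comp
        (includeRight : S →ₐ[R] Rh ⊗[R] S).toRingHom y) := by
      intro y
      have h1 : (1 : Rh) ⊗ₜ[R] (y : S) ∈ (Q R S Rh Sh).primeCompl := by
        intro hmem
        have h2 : phi R S Rh Sh (1 ⊗ₜ (y : S)) ∈ maximalIdeal Sh := hmem
        have h3 : phi R S Rh Sh (1 ⊗ₜ (y : S)) = algebraMap S Sh y := by simp [phi]
        rw [h3] at h2
        have h4 : (y : S) ∈ (maximalIdeal Sh).comap (algebraMap S Sh) := h2
        rw [comap_maximalIdeal' S q Sh] at h4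
        exact y.2 h4
      exact IsLocalization.map_units (Localization.AtPrime (Q R S Rh Sh)) ⟨_, h1⟩
    let σ : Localization.AtPrime q →+* Localization.AtPrime (Q R S Rh Sh) :=
      IsLocalization.lift (M := q.primeCompl) hunits
    have hσ : (phiL R S Rh Sh).comp σ = algebraMap (Localization.AtPrime q) Sh := by
      apply IsLocalization.ringHom_ext q.primeCompl
      rw [RingHom.comp_assoc, IsLocalization.lift_comp,
        ← IsScalarTower.algebraMap_eq S (Localization.AtPrime q) Sh]
      ext s
      show phiL R S Rh Sh (algebraMap (Rh ⊗[R] S) _ ((1 : Rh) ⊗ₜ[R] s)) = _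
      rw [phiL_algebraMap]
      simp [phi]
    haveI hσloc : IsLocalHom σ := by
      haveI : IsLocalHom ((phiL R S Rh Sh).comp σ) := by rw [hσ]; infer_instance
      exact isLocalHom_of_comp σ (phiL R S Rh Sh)
    letI : Algebra (ResidueField (Localization.AtPrime q))
        (ResidueField (Localization.AtPrime (Q R S Rh Sh))) := (ResidueField.map σ).toAlgebra
    haveI : IsScalarTower (ResidueField (Localization.AtPrime q))
        (ResidueField (Localization.AtPrime (Q R S Rh Sh))) (ResidueField Sh) := by
      refine IsScalarTower.of_algebraMap_eq (fun x => ?_)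
      have : ResidueField.map (algebraMap (Localization.AtPrime q) Sh)
          = (ResidueField.map (phiL R S Rh Sh)).comp (ResidueField.map σ) := by
        rw [← ResidueField.map_comp]
        congr 1
        exact hσ.symm
      exact RingHom.congr_fun this x
    haveI : Algebra.IsSeparable (ResidueField (Localization.AtPrime q)) (ResidueField Sh) :=
      hSh.separable
    exact Algebra.isSeparable_tower_top_of_isSeparable (ResidueField (Localization.AtPrime q))
      (ResidueField (Localization.AtPrime (Q R S Rh Sh))) (ResidueField Sh)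
  · intro T _ _ f _ τ hτ
    refine universal (R := R) (S := S) (Ah := Rh) (Bh := Sh)
      (fun T _ _ u v hu h hres => UA_of_sh R p Rh T u v hu h hres)
      (fun T _ _ w hw τ hτ => UB_of_sh S q Sh T w hw τ hτ) T f τ ?_
    intro x
    exact RingHom.congr_fun hτ (residue _ x)

end concrete

end Groth.Agent.Lib.Helper3.ShTensor2
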