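import Mathlib
import Groth.Agent.Lib.Helper3ShTensor2
import Groth.Agent.Lib.Helper3HenselLF
import Groth.Agent.Lib.Helper3HenselInt
import Groth.Agent.S1964
import Groth.Agent.Lib.Helper3GeomUnibranch

set_option autoImplicit false

namespace Groth.Agent.Lib.Helper3.ShInt

open IsLocalRing TensorProduct Algebra.TensorProduct

universe u

section finset

variable {R S Rh : Type*} [CommRing R] [CommRing S] [Algebra R S] [CommRing Rh] [Algebra R Rh]

theorem exists_finset (d : Rh ⊗[R] S) : ∃ s : Finset S, ∀ S₀ : Subalgebra R S, (↑s : Set S) ⊆ ↑S₀ →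
    d ∈ Set.range (Algebra.TensorProduct.map (AlgHom.id Rh Rh) S₀.val) := by
  classical
  induction d with
  | zero => exact ⟨∅, fun S₀ _ => ⟨0, map_zero _⟩⟩
  | tmul a b =>
    refine ⟨{b}, fun S₀ h => ⟨a ⊗ₜ ⟨b, h (by simp)⟩, by simp⟩⟩
  | add x y hx hy =>
    obtain ⟨s₁, h₁⟩ := hx
    obtain ⟨s₂, h₂⟩ := hy
    refine ⟨s₁ ∪ s₂, fun S₀ h => ?_⟩
    obtain ⟨x₀, hx₀⟩ := h₁ S₀ (fun z hz => h (by simp [Finset.mem_coe.mp hz]))
    obtain ⟨y₀, hy₀⟩ := h₂ S₀ (fun z hz => h (by simp [Finset.mem_coe.mp hz]))
    exact ⟨x₀ + y₀, by rw [map_add, hx₀, hy₀]⟩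

end finset

section integral

variable {R S : Type u} [CommRing R] [CommRing S] [Algebra R S]
  {Rh : Type u} [CommRing Rh] [HenselianLocalRing Rh] [Algebra R Rh]

set_option maxHeartbeats 1000000 in
/-- **Lemma INT**: if `S` is a directed union of quasi-finite `R`-subalgebras of finite type,
then the local ring of `Rh ⊗[R] S` at a prime over the closed point of the henselian local ring
`Rh` is integral over `Rh`. -/
theorem isIntegral_localization
    (hS : ∀ s : Finset S, ∃ S₀ : Subalgebra R S, (↑s : Set S) ⊆ ↑S₀ ∧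
      Algebra.FiniteType R ↥S₀ ∧ Algebra.QuasiFinite R ↥S₀)
    (Q : Ideal (Rh ⊗[R] S)) [Q.IsPrime] [Q.LiesOver (maximalIdeal Rh)]
    (x : Localization.AtPrime Q) : IsIntegral Rh x := by
  classical
  obtain ⟨d, t, rfl⟩ := IsLocalization.exists_mk'_eq Q.primeCompl x
  obtain ⟨s₁, h₁⟩ := exists_finset (Rh := Rh) d
  obtain ⟨s₂, h₂⟩ := exists_finset (Rh := Rh) (t : Rh ⊗[R] S)
  obtain ⟨S₀, hS₀, hft, hqf⟩ := hS (s₁ ∪ s₂)
  haveI := hft
  haveI := hqf
  let j : Rh ⊗[R] S₀ →ₐ[Rh] Rh ⊗[R] S := Algebra.TensorProduct.map (AlgHom.id Rh Rh) S₀.val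
  obtain ⟨d₀, hd₀⟩ := h₁ S₀ (fun z hz => hS₀ (by simp [Finset.mem_coe.mp hz]))
  obtain ⟨t₀, ht₀⟩ := h₂ S₀ (fun z hz => hS₀ (by simp [Finset.mem_coe.mp hz]))
  let Q₀ : Ideal (Rh ⊗[R] S₀) := Q.comap j.toRingHom
  haveI : Q₀.IsPrime := Ideal.comap_isPrime _ _
  haveI : Q₀.LiesOver (maximalIdeal Rh) := by
    constructor
    rw [Ideal.over_def Q (maximalIdeal Rh)]
    ext a
    simp only [Ideal.under_def, Ideal.mem_comap, Q₀]
    rw [show j.toRingHom (algebraMap Rh (Rh ⊗[R] S₀) a) = algebraMap Rh (Rh ⊗[R] S) a from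
      j.commutes a]
  haveI : Module.Finite Rh (Localization.AtPrime Q₀) :=
    Hensel.finite_localization_of_quasiFiniteAt (R := Rh) Q₀
  let ρ : Localization.AtPrime Q₀ →+* Localization.AtPrime Q :=
    Localization.localRingHom Q₀ Q j.toRingHom rfl
  have hρc : ∀ a : Rh, ρ (algebraMap Rh (Localization.AtPrime Q₀) a)
      = algebraMap Rh (Localization.AtPrime Q) a := by
    intro a
    rw [IsScalarTower.algebraMap_apply Rh (Rh ⊗[R] S₀) (Localization.AtPrime Q₀),
      Localization.localRingHom_to_map,
      IsScalarTower.algebraMap_apply Rh (Rh ⊗[R] S) (Localization.AtPrime Q)]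
    congr 1
  let ρA : Localization.AtPrime Q₀ →ₐ[Rh] Localization.AtPrime Q :=
    { ρ with commutes' := hρc }
  have ht₀Q : t₀ ∈ Q₀.primeCompl := by
    intro hmem
    apply t.2
    have : j t₀ ∈ Q := hmem
    rwa [ht₀] at this
  have hx : IsLocalization.mk' (Localization.AtPrime Q) d t
      = ρA (IsLocalization.mk' (Localization.AtPrime Q₀) d₀ ⟨t₀, ht₀Q⟩) := by
    show _ = ρ _
    rw [Localization.localRingHom_mk']
    congr 1
    · exact hd₀.symm
    · exact Subtype.ext ht₀.symm
  rw [hx]
  exact (Algebra.IsIntegral.isIntegral (R := Rh) _).map ρA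

end integral


section surj

open Groth.Agent.Lib.Helper3

set_option maxHeartbeats 2000000 in
/-- **Lemma SURJ**: in the setting of a compatible local map `Rh → Sh` of strict henselizations
of `R_p → S_q`, if the local ring of `Rh ⊗[R] S` at the relevant prime is integral over `Rh`,
then `Sh` is integral over `Rh`. -/
theorem isIntegral_sh_of_localization (R : Type u) [CommRing R] (S : Type u)
    [CommRing S] [Algebra R S] (p : Ideal R) [p.IsPrime] (q : Ideal S)
    [q.IsPrime] [q.LiesOver p]
    (Rh : Type u) [CommRing Rh] [IsLocalRing Rh] [Algebra (Localization.AtPrime p) Rh]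
    [IsLocalHom (algebraMap (Localization.AtPrime p) Rh)]
    [Hensel.IsStrictHenselization (Localization.AtPrime p) Rh] [Algebra R Rh]
    [IsScalarTower R (Localization.AtPrime p) Rh]
    (Sh : Type u) [CommRing Sh] [IsLocalRing Sh] [Algebra (Localization.AtPrime q) Sh]
    [IsLocalHom (algebraMap (Localization.AtPrime q) Sh)]
    [Hensel.IsStrictHenselization (Localization.AtPrime q) Sh] [Algebra S Sh]
    [IsScalarTower S (Localization.AtPrime q) Sh] [Algebra R Sh] [IsScalarTower R S Sh]
    [Algebra Rh Sh] [IsScalarTower R Rh Sh] [IsLocalHom (algebraMap Rh Sh)]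
    (hint : ∀ x : Localization.AtPrime (HzTensor.Q R S Rh Sh), IsIntegral Rh x) :
    Algebra.IsIntegral Rh Sh := by
  haveI hRh : HenselianLocalRing Rh :=
    Hensel.IsStrictHenselization.henselian (R := Localization.AtPrime p)
  haveI hRhsep := Hensel.IsStrictHenselization.isSepClosure (R := Localization.AtPrime p) (S := Rh)
  haveI : IsSepClosed (ResidueField Rh) := hRhsep.sep_closed
  let L := Localization.AtPrime (HzTensor.Q R S Rh Sh)
  haveI : Algebra.IsIntegral Rh L := ⟨hint⟩
  haveI : HenselianLocalRing L := HenselInt.henselian_of_isIntegral Rh L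
  haveI : IsLocalHom (algebraMap Rh L) := Groth.Agent.S1964.isLocalHom_of_isIntegral_of_isLocalRing
  haveI : IsSepClosed (ResidueField L) := by
    letI := (ResidueField.map (algebraMap Rh L)).toAlgebra
    haveI : Algebra.IsAlgebraic (ResidueField Rh) (ResidueField L) :=
      Groth.Agent.S1964.isAlgebraic_residueField
    exact Algebra.IsAlgebraic.isSepClosed (F := ResidueField Rh)
  letI : Algebra L Sh := (HzTensor.phiL R S Rh Sh).toAlgebra
  haveI : IsLocalHom (algebraMap L Sh) := HzTensor.isLocalHom_phiL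
  haveI hst : Hensel.IsStrictHenselization L Sh := ShTensor2.isStrictHenselization R p Rh S q Sh
  haveI hSh : HenselianLocalRing Sh := hst.henselian
  haveI : Algebra.IsSeparable (ResidueField L) (ResidueField Sh) := hst.isSepClosure.separable
  have hκbij : Function.Bijective (ResidueField.map (algebraMap L Sh)) :=
    IsSepClosed.algebraMap_bijective (ResidueField L) (ResidueField Sh)
  let κe : ResidueField L ≃+* ResidueField Sh := RingEquiv.ofBijective _ hκbij
  let τ : ResidueField Sh →+* ResidueField L := (κe.symm : ResidueField Sh →+* ResidueField L)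
  have hτ : τ.comp (ResidueField.map (algebraMap L Sh)) = ResidueField.map (RingHom.id L) := by
    rw [ResidueField.map_id]
    apply RingHom.ext
    intro x
    show κe.symm (κe x) = x
    rw [κe.symm_apply_apply]
  obtain ⟨g, ⟨hg1, hg2⟩, -⟩ := hst.universal L (RingHom.id L) τ hτ
  obtain ⟨g', -, huniq⟩ := hst.universal Sh (algebraMap L Sh) (RingHom.id _)
    (RingHom.id_comp _)
  have h1 : (algebraMap L Sh).comp g = RingHom.id Sh := by
    rw [huniq ((algebraMap L Sh).comp g) ⟨by rw [RingHom.comp_assoc, hg1, RingHom.comp_id],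
        fun x => by
          show residue Sh (algebraMap L Sh (g x)) = residue Sh x
          have : residue Sh (algebraMap L Sh (g x)) = κe (residue L (g x)) := rfl
          rw [this, hg2]
          show κe (κe.symm _) = _
          rw [κe.apply_symm_apply]⟩,
      huniq (RingHom.id Sh) ⟨RingHom.id_comp _, fun x => rfl⟩]
  let ψ : L →ₐ[Rh] Sh :=
    { (HzTensor.phiL R S Rh Sh) with
      commutes' := fun a => by
        show HzTensor.phiL R S Rh Sh (algebraMap Rh L a) = algebraMap Rh Sh a
        rw [IsScalarTower.algebraMap_apply Rh (Rh ⊗[R] S) L, HzTensor.phiL_algebraMap]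
        simp [HzTensor.phi] }
  refine ⟨fun y => ?_⟩
  have hy : y = ψ (g y) := (RingHom.congr_fun h1 y).symm
  rw [hy]
  exact (hint (g y)).map ψ

/-- If `S` is a directed union of quasi-finite `R`-subalgebras of finite type then `Sh` is
integral over `Rh`. -/
theorem isIntegral_sh (R : Type u) [CommRing R] (S : Type u)
    [CommRing S] [Algebra R S] (p : Ideal R) [p.IsPrime] (q : Ideal S)
    [q.IsPrime] [q.LiesOver p]
    (Rh : Type u) [CommRing Rh] [IsLocalRing Rh] [Algebra (Localization.AtPrime p) Rh]
    [IsLocalHom (algebraMap (Localization.AtPrime p) Rh)]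
    [Hensel.IsStrictHenselization (Localization.AtPrime p) Rh] [Algebra R Rh]
    [IsScalarTower R (Localization.AtPrime p) Rh]
    (Sh : Type u) [CommRing Sh] [IsLocalRing Sh] [Algebra (Localization.AtPrime q) Sh]
    [IsLocalHom (algebraMap (Localization.AtPrime q) Sh)]
    [Hensel.IsStrictHenselization (Localization.AtPrime q) Sh] [Algebra S Sh]
    [IsScalarTower S (Localization.AtPrime q) Sh] [Algebra R Sh] [IsScalarTower R S Sh]
    [Algebra Rh Sh] [IsScalarTower R Rh Sh] [IsLocalHom (algebraMap Rh Sh)]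
    (hS : ∀ s : Finset S, ∃ S₀ : Subalgebra R S, (↑s : Set S) ⊆ ↑S₀ ∧
      Algebra.FiniteType R ↥S₀ ∧ Algebra.QuasiFinite R ↥S₀) :
    Algebra.IsIntegral Rh Sh := by
  haveI hRh : HenselianLocalRing Rh :=
    Hensel.IsStrictHenselization.henselian (R := Localization.AtPrime p)
  haveI hQl : (HzTensor.Q R S Rh Sh).LiesOver (maximalIdeal Rh) := by
    constructor
    ext a
    rw [Ideal.under_def, Ideal.mem_comap, HzTensor.Q, Ideal.mem_comap]
    have : HzTensor.phi R S Rh Sh (algebraMap Rh (Rh ⊗[R] S) a) = algebraMap Rh Sh a := by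
      simp [HzTensor.phi]
    rw [this, mem_maximalIdeal, mem_maximalIdeal, mem_nonunits_iff, mem_nonunits_iff, not_iff_not]
    exact ⟨fun h => h.map _, fun h => isUnit_of_map_unit (algebraMap Rh Sh) a h⟩
  exact isIntegral_sh_of_localization R S p q Rh Sh
    (fun x => isIntegral_localization hS (HzTensor.Q R S Rh Sh) x)

end surj
section loc

/-- The localization of a local ring at its maximal ideal is the ring itself. -/
noncomputable def atMaximalEquiv (R : Type u) [CommRing R] [IsLocalRing R] :
    R ≃ₐ[R] Localization.AtPrime (maximalIdeal R) :=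
  IsLocalization.atUnits R (maximalIdeal R).primeCompl (by
    intro x hx
    have : x ∉ maximalIdeal R := hx
    rw [mem_maximalIdeal, mem_nonunits_iff, not_not] at this
    exact this)

set_option maxHeartbeats 1000000 in
/-- Version of `isIntegral_sh` for a local homomorphism of local rings `R → S` and strict
henselizations `Rh`, `Sh` of `R`, `S` with a compatible local map `Rh → Sh`. -/
theorem isIntegral_sh_local (R S : Type u) [CommRing R] [IsLocalRing R] [CommRing S] [IsLocalRing S]
    [Algebra R S] [IsLocalHom (algebraMap R S)]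
    (Rh : Type u) [CommRing Rh] [IsLocalRing Rh] [Algebra R Rh] [IsLocalHom (algebraMap R Rh)]
    [Hensel.IsStrictHenselization R Rh]
    (Sh : Type u) [CommRing Sh] [IsLocalRing Sh] [Algebra S Sh] [IsLocalHom (algebraMap S Sh)]
    [Hensel.IsStrictHenselization S Sh]
    [Algebra Rh Sh] [IsLocalHom (algebraMap Rh Sh)]
    (hcomm : (algebraMap Rh Sh).comp (algebraMap R Rh) = (algebraMap S Sh).comp (algebraMap R S))
    (hS : ∀ s : Finset S, ∃ S₀ : Subalgebra R S, (↑s : Set S) ⊆ ↑S₀ ∧
      Algebra.FiniteType R ↥S₀ ∧ Algebra.QuasiFinite R ↥S₀) :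
    Algebra.IsIntegral Rh Sh := by
  let eR := atMaximalEquiv R
  let eS := atMaximalEquiv S
  haveI : (maximalIdeal S).LiesOver (maximalIdeal R) := by
    constructor
    have h5 : (maximalIdeal S).comap (algebraMap R S) = maximalIdeal R :=
      ((local_hom_TFAE (algebraMap R S)).out 0 4).mp (by infer_instance)
    exact h5.symm
  letI a1 : Algebra (Localization.AtPrime (maximalIdeal R)) Rh :=
    ((algebraMap R Rh).comp (eR.symm : Localization.AtPrime (maximalIdeal R) →+* R)).toAlgebra
  have ha1 : ∀ x, algebraMap (Localization.AtPrime (maximalIdeal R)) Rh x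
      = algebraMap R Rh (eR.symm x) := fun x => rfl
  haveI : IsLocalHom (algebraMap (Localization.AtPrime (maximalIdeal R)) Rh) := by
    refine ⟨fun x hx => ?_⟩
    rw [ha1] at hx
    have h2 := isUnit_of_map_unit (algebraMap R Rh) _ hx
    have h3 := h2.map (eR : R →+* Localization.AtPrime (maximalIdeal R))
    simpa using h3
  haveI : Hensel.IsStrictHenselization (Localization.AtPrime (maximalIdeal R)) Rh :=
    GeomUnibranch.isStrictHenselization_of_ringEquiv (R := R) eR.toRingEquiv (fun r => by
      rw [ha1]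
      congr 1
      exact eR.symm_apply_apply r)
  haveI : IsScalarTower R (Localization.AtPrime (maximalIdeal R)) Rh :=
    IsScalarTower.of_algebraMap_eq (fun r => by
      rw [ha1]
      congr 1
      rw [← eR.commutes r]
      exact (eR.symm_apply_apply _).symm)
  letI a2 : Algebra (Localization.AtPrime (maximalIdeal S)) Sh :=
    ((algebraMap S Sh).comp (eS.symm : Localization.AtPrime (maximalIdeal S) →+* S)).toAlgebra
  have ha2 : ∀ x, algebraMap (Localization.AtPrime (maximalIdeal S)) Sh x
      = algebraMap S Sh (eS.symm x) := fun x => rfl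
  haveI : IsLocalHom (algebraMap (Localization.AtPrime (maximalIdeal S)) Sh) := by
    refine ⟨fun x hx => ?_⟩
    rw [ha2] at hx
    have h2 := isUnit_of_map_unit (algebraMap S Sh) _ hx
    have h3 := h2.map (eS : S →+* Localization.AtPrime (maximalIdeal S))
    simpa using h3
  haveI : Hensel.IsStrictHenselization (Localization.AtPrime (maximalIdeal S)) Sh :=
    GeomUnibranch.isStrictHenselization_of_ringEquiv (R := S) eS.toRingEquiv (fun r => by
      rw [ha2]
      congr 1
      exact eS.symm_apply_apply r)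
  haveI : IsScalarTower S (Localization.AtPrime (maximalIdeal S)) Sh :=
    IsScalarTower.of_algebraMap_eq (fun r => by
      rw [ha2]
      congr 1
      rw [← eS.commutes r]
      exact (eS.symm_apply_apply _).symm)
  letI a3 : Algebra R Sh := ((algebraMap S Sh).comp (algebraMap R S)).toAlgebra
  haveI : IsScalarTower R S Sh := IsScalarTower.of_algebraMap_eq (fun r => rfl)
  haveI : IsScalarTower R Rh Sh := IsScalarTower.of_algebraMap_eq (fun r =>
    (RingHom.congr_fun hcomm r).symm)
  exact isIntegral_sh R S (maximalIdeal R) (maximalIdeal S) Rh Sh hS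

end loc

end Groth.Agent.Lib.Helper3.ShInt
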