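import Mathlib
import Groth.Agent.Lib.Helper3HzP
import Groth.Agent.Lib.Helper3ShN
import Groth.Agent.Lib.Helper3EssEt

set_option linter.style.haveILetI false
set_option autoImplicit false

open IsLocalRing

universe u

namespace Groth.Agent.Lib.Helper3.ShLocalHom

open Groth.Agent.Lib.Helper3 Groth.Agent.Lib.Helper3.EssEt

variable {R : Type u} [CommRing R] [IsLocalRing R] {Ω : Type u} [Field Ω] [Algebra R Ω]
  [Algebra (ResidueField R) Ω] [IsScalarTower R (ResidueField R) Ω]

/-- Every local `R`-algebra homomorphism from an essentially étale local `R`-algebra to the model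
`Rsh R Ω` of the strict henselization is one of the canonical maps `ofL i`. -/
theorem exists_idx_of_isLocalHom (L' : Type u) [CommRing L'] [IsLocalRing L'] [Algebra R L']
    [IsLocalHom (algebraMap R L')] (hL' : EGA4loc.IsEssentiallyEtale R L')
    (γ : L' →ₐ[R] Sh.Rsh R Ω) [IsLocalHom γ.toRingHom] :
    ∃ (i : Sh.Idx R Ω) (e' : L' ≃ₐ[R] i.L), ∀ x, γ x = Sh.ofL i (e' x) := by
  obtain ⟨C, _, _, q, _, hEt, hq, ⟨e⟩⟩ := id hL'
  let κγ : ResidueField L' →+* ResidueField (Sh.Rsh R Ω) := ResidueField.map γ.toRingHom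
  let β : ResidueField L' →ₐ[R] Ω :=
    { toRingHom := (Sh.embΩ (R := R) (Ω := Ω)).toRingHom.comp κγ
      commutes' := by
        intro r
        have h1 : algebraMap R (ResidueField L') r = residue L' (algebraMap R L' r) := rfl
        show Sh.embΩ (κγ (algebraMap R (ResidueField L') r)) = _
        rw [h1]
        show Sh.embΩ (ResidueField.map γ.toRingHom (residue L' (algebraMap R L' r))) = _
        rw [ResidueField.map_residue]
        show Sh.embΩ (residue _ (γ (algebraMap R L' r))) = _
        rw [γ.commutes, Sh.embΩ_residue, Sh.toΩ_algebraMap] }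
  have hβ : ∀ x : L', β (residue L' x) = Sh.toΩ (γ x) := by
    intro x
    show Sh.embΩ (ResidueField.map γ.toRingHom (residue L' x)) = _
    rw [ResidueField.map_residue]
    exact Sh.embΩ_residue _
  obtain ⟨i, e', he'⟩ := Sh.exists_idx (Ω := Ω) L' C q hq e β
  refine ⟨i, e', ?_⟩
  have hα : κγ.comp (ResidueField.map (algebraMap R L')) =
      ResidueField.map (algebraMap R (Sh.Rsh R Ω)) := by
    rw [← ResidueField.map_comp]
    congr 1
    exact γ.comp_algebraMap
  obtain ⟨ψ, -, huniq⟩ := existsUnique_lift R L' hL' (Sh.Rsh R Ω) (algebraMap R (Sh.Rsh R Ω)) κγ hα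
  have h1 : γ.toRingHom = ψ := by
    apply huniq
    refine ⟨inferInstance, γ.comp_algebraMap, fun x => ?_⟩
    exact (ResidueField.map_residue γ.toRingHom x).symm
  have h2 : (Sh.ofL i).comp (e' : L' →+* i.L) = ψ := by
    apply huniq
    refine ⟨?_, ?_, fun x => ?_⟩
    · haveI : IsLocalHom (e' : L' →+* i.L) := by
        refine ⟨fun a ha => ?_⟩
        have := ha.map (e'.symm : i.L →+* L')
        simpa using this
      exact RingHom.isLocalHom_comp _ _
    · ext r
      show Sh.ofL i (e' (algebraMap R L' r)) = _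
      rw [e'.commutes]
      exact congrArg (fun φ => φ r) (Sh.ofL_comp_algebraMap i)
    · show residue _ (Sh.ofL i (e' x)) = κγ (residue L' x)
      apply Sh.toΩ_injective_residue (R := R) (Ω := Ω)
      rw [Sh.embΩ_residue, Sh.toΩ_ofL, he', hβ]
      show _ = Sh.embΩ (ResidueField.map γ.toRingHom (residue L' x))
      rw [ResidueField.map_residue]
      exact (Sh.embΩ_residue _).symm
  intro x
  have := congrArg (fun φ => φ x) (h1.trans h2.symm)
  exact this


theorem ofL_injective [IsSepClosure (ResidueField R) Ω] (i : Sh.Idx R Ω) : Function.Injective (Sh.ofL i) := by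
  letI := (Sh.ofL i).toAlgebra
  haveI : IsLocalHom (algebraMap i.L (Sh.Rsh R Ω)) := inferInstanceAs (IsLocalHom (Sh.ofL i))
  haveI := Sh.isStrictHenselization_L (R := R) (Ω := Ω) i
  haveI : Module.FaithfullyFlat i.L (Sh.Rsh R Ω) := HzP.sh_faithfullyFlat i.L (Sh.Rsh R Ω)
  exact FaithfulSMul.algebraMap_injective i.L (Sh.Rsh R Ω)

/-- A local homomorphism of `A`-algebras from an essentially étale local `A`-algebra to a strict
henselization of `A` is injective. -/
theorem injective_of_isLocalHom (A S : Type u) [CommRing A] [IsLocalRing A] [CommRing S]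
    [IsLocalRing S] [Algebra A S] [IsLocalHom (algebraMap A S)]
    [Hensel.IsStrictHenselization A S] (L' : Type u) [CommRing L'] [IsLocalRing L'] [Algebra A L']
    [IsLocalHom (algebraMap A L')] (hL' : EGA4loc.IsEssentiallyEtale A L')
    (γ : L' →ₐ[A] S) [IsLocalHom γ.toRingHom] : Function.Injective γ := by
  obtain ⟨Ω, _, _, _, _, _, ⟨e⟩⟩ := HzP.sh_exists_model A S
  let γ₂ : L' →ₐ[A] Sh.Rsh A Ω := (e : S →ₐ[A] Sh.Rsh A Ω).comp γ
  haveI : IsLocalHom γ₂.toRingHom := by
    refine ⟨fun a ha => ?_⟩
    have h1 : IsUnit (e (γ a)) := ha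
    have h2 : IsUnit (e.symm (e (γ a))) := h1.map e.symm
    rw [AlgEquiv.symm_apply_apply] at h2
    exact isUnit_of_map_unit γ.toRingHom a h2
  obtain ⟨i, e', he'⟩ := exists_idx_of_isLocalHom L' hL' γ₂
  intro a b hab
  apply e'.injective
  apply ofL_injective i
  rw [← he', ← he']
  show e (γ a) = e (γ b)
  rw [hab]

end Groth.Agent.Lib.Helper3.ShLocalHom
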