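import Mathlib
import Groth.Agent.Lib.Helper3ShTensor2
import Groth.Agent.Lib.Helper3GeomUnibranch
import Groth.Agent.S5072

set_option autoImplicit false

namespace Groth.Agent.Lib.Helper3.ShProd

open IsLocalRing TensorProduct Algebra.TensorProduct

universe u

set_option maxHeartbeats 4000000 in
/-- **Theorem G**: if `B^sh` is integral over `A^sh`, then `B^sh ⊗_{A^sh} C^sh → D^sh` is
bijective (`D = B ⊗_A C`). -/
theorem bijective_lift (A B C : Type u) [CommRing A] [CommRing B]
    [CommRing C] [Algebra A B] [Algebra A C]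
    (pA : Ideal A) [pA.IsPrime] (pB : Ideal B) [pB.IsPrime] [pB.LiesOver pA]
    (pC : Ideal C) [pC.IsPrime] [pC.LiesOver pA]
    (pD : Ideal (B ⊗[A] C)) [pD.IsPrime] [pD.LiesOver pB]
    (hDC : pD.comap (Algebra.TensorProduct.includeRight : C →ₐ[A] B ⊗[A] C).toRingHom = pC)
    (Ash : Type u) [CommRing Ash] [IsLocalRing Ash] [Algebra (Localization.AtPrime pA) Ash]
    [IsLocalHom (algebraMap (Localization.AtPrime pA) Ash)]
    [Hensel.IsStrictHenselization (Localization.AtPrime pA) Ash] [Algebra A Ash]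
    [IsScalarTower A (Localization.AtPrime pA) Ash]
    (Bsh : Type u) [CommRing Bsh] [IsLocalRing Bsh] [Algebra (Localization.AtPrime pB) Bsh]
    [IsLocalHom (algebraMap (Localization.AtPrime pB) Bsh)]
    [Hensel.IsStrictHenselization (Localization.AtPrime pB) Bsh] [Algebra B Bsh]
    [IsScalarTower B (Localization.AtPrime pB) Bsh] [Algebra A Bsh] [IsScalarTower A B Bsh]
    [Algebra Ash Bsh] [IsScalarTower A Ash Bsh] [IsLocalHom (algebraMap Ash Bsh)]
    (Csh : Type u) [CommRing Csh] [IsLocalRing Csh] [Algebra (Localization.AtPrime pC) Csh]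
    [IsLocalHom (algebraMap (Localization.AtPrime pC) Csh)]
    [Hensel.IsStrictHenselization (Localization.AtPrime pC) Csh] [Algebra C Csh]
    [IsScalarTower C (Localization.AtPrime pC) Csh] [Algebra A Csh] [IsScalarTower A C Csh]
    [Algebra Ash Csh] [IsScalarTower A Ash Csh] [IsLocalHom (algebraMap Ash Csh)]
    (Dsh : Type u) [CommRing Dsh] [IsLocalRing Dsh] [Algebra (Localization.AtPrime pD) Dsh]
    [IsLocalHom (algebraMap (Localization.AtPrime pD) Dsh)]
    [Hensel.IsStrictHenselization (Localization.AtPrime pD) Dsh] [Algebra (B ⊗[A] C) Dsh]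
    [IsScalarTower (B ⊗[A] C) (Localization.AtPrime pD) Dsh]
    [Algebra Bsh Dsh] [IsLocalHom (algebraMap Bsh Dsh)] [Algebra B Dsh] [IsScalarTower B Bsh Dsh]
    [IsScalarTower B (B ⊗[A] C) Dsh]
    [Algebra Csh Dsh] [IsLocalHom (algebraMap Csh Dsh)]
    (hC : ∀ c : C, algebraMap Csh Dsh (algebraMap C Csh c) = algebraMap (B ⊗[A] C) Dsh (1 ⊗ₜ[A] c))
    [Algebra Ash Dsh] [IsScalarTower Ash Bsh Dsh] [IsScalarTower Ash Csh Dsh]
    [Algebra.IsIntegral Ash Bsh] :
    Function.Bijective (Algebra.TensorProduct.lift (IsScalarTower.toAlgHom Ash Bsh Dsh)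
      (IsScalarTower.toAlgHom Ash Csh Dsh) (fun _ _ => Commute.all _ _)) := by
  set Φ : Bsh ⊗[Ash] Csh →ₐ[Ash] Dsh :=
    Algebra.TensorProduct.lift (IsScalarTower.toAlgHom Ash Bsh Dsh)
      (IsScalarTower.toAlgHom Ash Csh Dsh) (fun _ _ => Commute.all _ _) with hΦdef
  have hΦB : ∀ b : Bsh, Φ (b ⊗ₜ 1) = algebraMap Bsh Dsh b := fun b => by simp [Φ]
  have hΦC : ∀ c : Csh, Φ (1 ⊗ₜ c) = algebraMap Csh Dsh c := fun c => by simp [Φ]
  -- basic instances
  haveI hAsh : HenselianLocalRing Ash :=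
    Hensel.IsStrictHenselization.henselian (R := Localization.AtPrime pA)
  haveI hCsh : HenselianLocalRing Csh :=
    Hensel.IsStrictHenselization.henselian (R := Localization.AtPrime pC)
  haveI hDsh : HenselianLocalRing Dsh :=
    Hensel.IsStrictHenselization.henselian (R := Localization.AtPrime pD)
  haveI : IsSepClosed (ResidueField Ash) :=
    (Hensel.IsStrictHenselization.isSepClosure (R := Localization.AtPrime pA) (S := Ash)).sep_closed
  haveI : IsSepClosed (ResidueField Csh) :=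
    (Hensel.IsStrictHenselization.isSepClosure (R := Localization.AtPrime pC) (S := Csh)).sep_closed
  haveI : Nontrivial (Bsh ⊗[Ash] Csh) := Φ.toRingHom.domain_nontrivial
  -- purely inseparable residue extension
  let q := ringExpChar (ResidueField Ash)
  haveI : ExpChar (ResidueField Ash) q := ringExpChar.expChar _
  haveI : ExpChar (ResidueField Bsh) q :=
    expChar_of_injective_ringHom (ResidueField.map (algebraMap Ash Bsh)).injective q
  have hpi : ∀ b : Bsh, ∃ (n : ℕ) (a : Ash), b ^ q ^ n - algebraMap Ash Bsh a ∈ maximalIdeal Bsh := by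
    letI : Algebra (ResidueField Ash) (ResidueField Bsh) :=
      (ResidueField.map (algebraMap Ash Bsh)).toAlgebra
    haveI : Algebra.IsAlgebraic (ResidueField Ash) (ResidueField Bsh) :=
      Groth.Agent.S1964.isAlgebraic_residueField
    haveI hpiK : IsPurelyInseparable (ResidueField Ash) (ResidueField Bsh) := inferInstance
    intro b
    obtain ⟨n, y, hy⟩ := (isPurelyInseparable_iff_pow_mem (ResidueField Ash) q).mp hpiK
      (residue Bsh b)
    obtain ⟨a, rfl⟩ := residue_surjective y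
    refine ⟨n, a, ?_⟩
    rw [← residue_eq_zero_iff, map_sub, map_pow, ← hy, sub_eq_zero]
    rfl
  haveI hEloc : IsLocalRing (Bsh ⊗[Ash] Csh) := TensorPI.isLocalRing_tensor q hpi
  haveI hEh : HenselianLocalRing (Bsh ⊗[Ash] Csh) := TensorLocal.henselian_tensor
  letI : Algebra Csh (Bsh ⊗[Ash] Csh) := Algebra.TensorProduct.rightAlgebra
  haveI : Algebra.IsIntegral Csh (Bsh ⊗[Ash] Csh) := by
    rw [← algebraMap_isIntegral_iff]
    exact TensorLocal.includeRight_isIntegral
  haveI : IsLocalHom (algebraMap Csh (Bsh ⊗[Ash] Csh)) :=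
    Groth.Agent.S1964.isLocalHom_of_isIntegral_of_isLocalRing
  haveI : IsSepClosed (ResidueField (Bsh ⊗[Ash] Csh)) := by
    letI := (ResidueField.map (algebraMap Csh (Bsh ⊗[Ash] Csh))).toAlgebra
    haveI : Algebra.IsAlgebraic (ResidueField Csh) (ResidueField (Bsh ⊗[Ash] Csh)) :=
      Groth.Agent.S1964.isAlgebraic_residueField
    exact Algebra.IsAlgebraic.isSepClosed (F := ResidueField Csh)
  -- `Φ` is local
  haveI hΦloc : IsLocalHom Φ.toRingHom := by
    let P := (maximalIdeal Dsh).comap Φ.toRingHom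
    haveI : P.IsPrime := Ideal.comap_isPrime _ _
    have hP2 : P.comap (algebraMap Csh (Bsh ⊗[Ash] Csh)) = maximalIdeal Csh := by
      ext c
      rw [Ideal.mem_comap, Ideal.mem_comap]
      show Φ (1 ⊗ₜ c) ∈ maximalIdeal Dsh ↔ _
      rw [hΦC, mem_maximalIdeal, mem_maximalIdeal, mem_nonunits_iff, mem_nonunits_iff, not_iff_not]
      exact ⟨fun h => isUnit_of_map_unit (algebraMap Csh Dsh) c h, fun h => h.map _⟩
    have hPmax : P.IsMaximal := by
      apply Ideal.isMaximal_of_isIntegral_of_isMaximal_comap (R := Csh) P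
      rw [hP2]; infer_instance
    have hPeq : P = maximalIdeal _ := IsLocalRing.eq_maximalIdeal hPmax
    refine ⟨fun x hx => ?_⟩
    by_contra hnu
    have : x ∈ P := by rw [hPeq]; exact hnu
    exact this hx
  -- the map `D → E`
  let fB : B →ₐ[A] Bsh ⊗[Ash] Csh :=
    { (includeLeftRingHom : Bsh →+* Bsh ⊗[Ash] Csh).comp (algebraMap B Bsh) with
      commutes' := fun a => by
        show (algebraMap B Bsh (algebraMap A B a)) ⊗ₜ[Ash] (1 : Csh)
          = algebraMap A (Bsh ⊗[Ash] Csh) a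
        rw [← IsScalarTower.algebraMap_apply A B Bsh, Algebra.TensorProduct.algebraMap_apply] }
  let fC : C →ₐ[A] Bsh ⊗[Ash] Csh :=
    { (includeRight : Csh →ₐ[Ash] Bsh ⊗[Ash] Csh).toRingHom.comp (algebraMap C Csh) with
      commutes' := fun a => by
        show (1 : Bsh) ⊗ₜ[Ash] (algebraMap C Csh (algebraMap A C a))
          = algebraMap A (Bsh ⊗[Ash] Csh) a
        rw [← IsScalarTower.algebraMap_apply A C Csh, IsScalarTower.algebraMap_apply A Ash Csh,
          Algebra.TensorProduct.algebraMap_apply, IsScalarTower.algebraMap_apply A Ash Bsh,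
          Algebra.algebraMap_eq_smul_one (algebraMap A Ash a),
          Algebra.algebraMap_eq_smul_one (algebraMap A Ash a), TensorProduct.smul_tmul] }
  let ν : B ⊗[A] C →ₐ[A] Bsh ⊗[Ash] Csh :=
    Algebra.TensorProduct.lift fB fC (fun _ _ => Commute.all _ _)
  have hνB : ∀ b : B, ν (b ⊗ₜ 1) = (algebraMap B Bsh b) ⊗ₜ 1 := fun b => by
    simp [ν, fB, fC]
  have hνC : ∀ c : C, ν (1 ⊗ₜ c) = 1 ⊗ₜ (algebraMap C Csh c) := fun c => by
    simp [ν, fB, fC]
  have hΦν : ∀ d, Φ (ν d) = algebraMap (B ⊗[A] C) Dsh d := by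
    intro d
    induction d with
    | zero => simp
    | tmul b c =>
      have e1 : (b ⊗ₜ[A] c : B ⊗[A] C) = (b ⊗ₜ 1) * (1 ⊗ₜ c) := by simp
      rw [e1, map_mul, map_mul, map_mul, hνB, hνC, hΦB, hΦC, hC,
        ← IsScalarTower.algebraMap_apply B Bsh Dsh,
        IsScalarTower.algebraMap_apply B (B ⊗[A] C) Dsh]
      rfl
    | add x y hx hy => simp only [map_add, hx, hy]
  have hunits : ∀ y : pD.primeCompl, IsUnit (ν y) := by
    intro y
    have h1 : IsUnit (algebraMap (B ⊗[A] C) Dsh y) := by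
      rw [IsScalarTower.algebraMap_apply (B ⊗[A] C) (Localization.AtPrime pD) Dsh]
      exact (IsLocalization.map_units (Localization.AtPrime pD) y).map _
    rw [← hΦν] at h1
    exact isUnit_of_map_unit Φ.toRingHom _ h1
  let ν' : Localization.AtPrime pD →+* Bsh ⊗[Ash] Csh :=
    IsLocalization.lift (M := pD.primeCompl) (g := ν.toRingHom) hunits
  have hν' : ∀ d, ν' (algebraMap (B ⊗[A] C) _ d) = ν d := fun d => IsLocalization.lift_eq hunits d
  letI : Algebra (Localization.AtPrime pD) (Bsh ⊗[Ash] Csh) := ν'.toAlgebra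
  have hΦν' : Φ.toRingHom.comp ν' = algebraMap (Localization.AtPrime pD) Dsh := by
    apply IsLocalization.ringHom_ext pD.primeCompl
    apply RingHom.ext
    intro d
    show Φ (ν' (algebraMap (B ⊗[A] C) _ d)) = algebraMap _ Dsh (algebraMap (B ⊗[A] C) _ d)
    rw [hν', hΦν, ← IsScalarTower.algebraMap_apply]
  haveI : IsLocalHom (algebraMap (Localization.AtPrime pD) (Bsh ⊗[Ash] Csh)) := by
    haveI : IsLocalHom (Φ.toRingHom.comp ν') := by rw [hΦν']; infer_instance
    exact isLocalHom_of_comp ν' Φ.toRingHom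
  let φ : Bsh ⊗[Ash] Csh →ₐ[Localization.AtPrime pD] Dsh :=
    { Φ.toRingHom with commutes' := fun x => RingHom.congr_fun hΦν' x }
  haveI : IsLocalHom φ.toRingHom := hΦloc
  have hbij : Function.Bijective φ := by
    apply ShTensor.bijective_of_rigid φ
    intro θ hθ hres
    have hθν : ∀ d : B ⊗[A] C, θ (ν d) = ν d := by
      intro d
      rw [← hν']
      exact RingHom.congr_fun hθ _
    -- the `Bsh`-part
    have hB : θ.comp (includeLeftRingHom : Bsh →+* Bsh ⊗[Ash] Csh)
        = (includeLeftRingHom : Bsh →+* Bsh ⊗[Ash] Csh) := by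
      symm
      apply ShTensor2.UA_of_sh B pB Bsh (Bsh ⊗[Ash] Csh)
      · refine ⟨fun b hb => ?_⟩
        have h1 : IsUnit (Φ (b ⊗ₜ 1)) := hb.map Φ
        rw [hΦB] at h1
        exact isUnit_of_map_unit (algebraMap Bsh Dsh) b h1
      · ext b
        show (algebraMap B Bsh b) ⊗ₜ[Ash] (1 : Csh) = θ ((algebraMap B Bsh b) ⊗ₜ[Ash] (1 : Csh))
        rw [← hνB, hθν]
      · intro x
        exact hres _
    have hCc : θ.comp (includeRight : Csh →ₐ[Ash] Bsh ⊗[Ash] Csh).toRingHom
        = (includeRight : Csh →ₐ[Ash] Bsh ⊗[Ash] Csh).toRingHom := by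
      symm
      apply ShTensor2.UA_of_sh C pC Csh (Bsh ⊗[Ash] Csh)
      · exact ‹IsLocalHom (algebraMap Csh (Bsh ⊗[Ash] Csh))›
      · ext c
        show (1 : Bsh) ⊗ₜ[Ash] (algebraMap C Csh c) = θ ((1 : Bsh) ⊗ₜ[Ash] (algebraMap C Csh c))
        rw [← hνC, hθν]
      · intro x
        exact hres _
    apply RingHom.ext
    intro e
    induction e with
    | zero => simp
    | tmul b c =>
      have e1 : (b ⊗ₜ[Ash] c : Bsh ⊗[Ash] Csh) = (b ⊗ₜ 1) * (1 ⊗ₜ c) := by simp
      rw [e1, map_mul, RingHom.id_apply]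
      congr 1
      · exact RingHom.congr_fun hB b
      · exact RingHom.congr_fun hCc c
    | add x y hx hy => rw [map_add, hx, hy, RingHom.id_apply, RingHom.id_apply, RingHom.id_apply]
  exact hbij

end Groth.Agent.Lib.Helper3.ShProd
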