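import Mathlib

set_option autoImplicit false

open TensorProduct

namespace Groth.Agent.Lib.Helper6.FSLoc

/-- Products of flat modules are flat. -/
theorem flat_prod {R : Type*} [CommRing R] {M N : Type*} [AddCommGroup M] [AddCommGroup N]
    [Module R M] [Module R N] [Module.Flat R M] [Module.Flat R N] : Module.Flat R (M × N) := by
  rw [Module.Flat.iff_rTensor_injective]
  intro I _
  have hM := Module.Flat.rTensor_preserves_injective_linearMap (M := M) I.subtype
    I.injective_subtype
  have hN := Module.Flat.rTensor_preserves_injective_linearMap (M := N) I.subtype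
    I.injective_subtype
  have key : (TensorProduct.prodRight R R R M N).toLinearMap ∘ₗ (I.subtype.rTensor (M × N)) =
      (LinearMap.prodMap (I.subtype.rTensor M) (I.subtype.rTensor N)) ∘ₗ
        (TensorProduct.prodRight R R I M N).toLinearMap := by
    apply TensorProduct.ext'
    intro i x
    simp
  have h1 : Function.Injective ((TensorProduct.prodRight R R R M N).toLinearMap ∘ₗ
      (I.subtype.rTensor (M × N))) := by
    rw [key]
    exact (Function.Injective.prodMap hM hN).comp (TensorProduct.prodRight R R I M N).injective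
  exact Function.Injective.of_comp h1

/-- Core retraction lemma: `K ≤ FT ≤ F` with `FT` a finite free retract of `F`, `K` finitely
generated and `F ⧸ K` flat. Then `F → F ⧸ K` has a section. -/
theorem exists_section_of_flat_quotient {R : Type*} [CommRing R] {F : Type*} [AddCommGroup F]
    [Module R F] (K FT : Submodule R F) (hK : K ≤ FT) (hKfg : K.FG)
    [Module.Finite R FT] [Module.Free R FT]
    (resT : F →ₗ[R] FT) (hres : ∀ x : FT, resT (FT.subtype x) = x)
    [Module.Flat R (F ⧸ K)] :
    ∃ σ : (F ⧸ K) →ₗ[R] F, K.mkQ ∘ₗ σ = LinearMap.id := by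
  let ιT : FT →ₗ[R] F := FT.subtype
  have hres' : ∀ k ∈ FT, ιT (resT k) = k := fun k hk => by
    have := hres ⟨k, hk⟩
    exact congrArg ιT this
  let KT : Submodule R FT := K.comap ιT
  let a : (FT ⧸ KT) →ₗ[R] (F ⧸ K) := KT.mapQ K ιT le_rfl
  have hKres : K ≤ KT.comap resT := by
    intro k hk
    change ιT (resT k) ∈ K
    rw [hres' k (hK hk)]
    exact hk
  let b : (F ⧸ K) →ₗ[R] (FT ⧸ KT) := K.mapQ KT resT hKres
  haveI hQ''flat : Module.Flat R (FT ⧸ KT) := by
    refine Module.Flat.of_retract (M := F ⧸ K) a b ?_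
    apply LinearMap.ext
    intro x
    obtain ⟨g, rfl⟩ := KT.mkQ_surjective x
    change KT.mkQ (resT (ιT g)) = KT.mkQ g
    rw [hres]
  have hKTfg : KT.FG := by
    apply Submodule.fg_of_fg_map_injective ιT FT.injective_subtype
    have : KT.map ιT = K := by
      rw [Submodule.map_comap_eq]
      simpa [ιT] using hK
    rw [this]
    exact hKfg
  haveI : Module.FinitePresentation R (FT ⧸ KT) :=
    Module.finitePresentation_of_free_of_surjective KT.mkQ KT.mkQ_surjective
      (by rwa [Submodule.ker_mkQ])
  haveI : Module.Projective R (FT ⧸ KT) := Module.Flat.projective_of_finitePresentation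
  obtain ⟨σ'', hσ''⟩ := Module.projective_lifting_property KT.mkQ
    (LinearMap.id : (FT ⧸ KT) →ₗ[R] (FT ⧸ KT)) KT.mkQ_surjective
  let θ : F →ₗ[R] F := ιT ∘ₗ σ'' ∘ₗ KT.mkQ ∘ₗ resT + (LinearMap.id - ιT ∘ₗ resT)
  have hθK : K ≤ LinearMap.ker θ := by
    intro k hk
    have hk' : resT k ∈ KT := hKres hk
    have h0 : KT.mkQ (resT k) = 0 := (Submodule.Quotient.mk_eq_zero KT).mpr hk'
    simp only [LinearMap.mem_ker, θ, LinearMap.add_apply, LinearMap.comp_apply,
      LinearMap.sub_apply, LinearMap.id_apply, hres' k (hK hk), h0]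
    simp
  refine ⟨K.liftQ θ hθK, ?_⟩
  apply LinearMap.ext
  intro x
  obtain ⟨f, rfl⟩ := K.mkQ_surjective x
  change K.mkQ (θ f) = K.mkQ f
  rw [← sub_eq_zero, ← map_sub]
  change Submodule.Quotient.mk _ = 0
  rw [Submodule.Quotient.mk_eq_zero]
  have h3 : θ f - f = ιT (σ'' (KT.mkQ (resT f)) - resT f) := by
    simp only [θ, LinearMap.add_apply, LinearMap.comp_apply, LinearMap.sub_apply,
      LinearMap.id_apply, map_sub]
    abel
  rw [h3]
  have h4 : σ'' (KT.mkQ (resT f)) - resT f ∈ KT := by
    have h5 : KT.mkQ (σ'' (KT.mkQ (resT f)) - resT f) = 0 := by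
      rw [map_sub]
      have := LinearMap.congr_fun hσ'' (KT.mkQ (resT f))
      simp only [LinearMap.comp_apply, LinearMap.id_apply] at this
      rw [this, sub_self]
    exact (Submodule.Quotient.mk_eq_zero KT).mp h5
  exact h4

/-- A flat module which is the cokernel of a map from a finitely generated module to a projective
module is projective. -/
theorem projective_of_flat_of_exact {R : Type*} [CommRing R] {N P Q : Type*}
    [AddCommGroup N] [AddCommGroup P] [AddCommGroup Q] [Module R N] [Module R P] [Module R Q]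
    [Module.Finite R N] [Module.Projective R P] [Module.Flat R Q]
    (u : N →ₗ[R] P) (π : P →ₗ[R] Q) (hex : Function.Exact u π) (hπ : Function.Surjective π) :
    Module.Projective R Q := by
  classical
  obtain ⟨s, hs⟩ := Module.projective_def'.mp ‹Module.Projective R P›
  set r : (P →₀ R) →ₗ[R] P := Finsupp.linearCombination R id with hr
  have hrs : ∀ p, r (s p) = p := fun p => by
    have := LinearMap.congr_fun hs p
    simpa using this
  let K : Submodule R (P →₀ R) := LinearMap.range (s ∘ₗ u)
  have hKfg : K.FG := by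
    have : Module.Finite R K := Module.Finite.range _
    exact Module.Finite.iff_fg.mp this
  -- the finite support
  obtain ⟨T, hT⟩ : ∃ T : Finset P, K ≤ Finsupp.supported R R (T : Set P) := by
    obtain ⟨G, hG⟩ := hKfg
    refine ⟨G.biUnion Finsupp.support, ?_⟩
    rw [← hG, Submodule.span_le]
    intro g hg
    rw [SetLike.mem_coe, Finsupp.mem_supported]
    intro x hx
    simp only [Finset.coe_biUnion, Set.mem_iUnion]
    exact ⟨g, hg, hx⟩
  -- i₁ : Q' → Q and j₁ : Q → Q'
  have hK_le : K ≤ LinearMap.ker (π ∘ₗ r) := by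
    rintro _ ⟨n, rfl⟩
    simp only [LinearMap.mem_ker, LinearMap.comp_apply, hrs]
    exact (hex (u n)).mpr ⟨n, rfl⟩
  let i₁ : ((P →₀ R) ⧸ K) →ₗ[R] Q := K.liftQ (π ∘ₗ r) hK_le
  have hker_le : LinearMap.ker π ≤ LinearMap.ker (K.mkQ ∘ₗ s) := by
    intro p hp
    obtain ⟨n, rfl⟩ := (hex p).mp hp
    simp only [LinearMap.mem_ker, LinearMap.comp_apply, Submodule.mkQ_apply,
      Submodule.Quotient.mk_eq_zero]
    exact ⟨n, rfl⟩
  let j₀ : (P ⧸ LinearMap.ker π) →ₗ[R] ((P →₀ R) ⧸ K) :=
    (LinearMap.ker π).liftQ (K.mkQ ∘ₗ s) hker_le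
  let eQ : (P ⧸ LinearMap.ker π) ≃ₗ[R] Q := LinearMap.quotKerEquivOfSurjective π hπ
  let j₁ : Q →ₗ[R] ((P →₀ R) ⧸ K) := j₀ ∘ₗ eQ.symm.toLinearMap
  have hj₁ : ∀ p, j₁ (π p) = K.mkQ (s p) := by
    intro p
    have : eQ.symm (π p) = (LinearMap.ker π).mkQ p := by
      rw [LinearEquiv.symm_apply_eq]
      rfl
    simp only [j₁, LinearMap.comp_apply, LinearEquiv.coe_coe, this]
    rfl
  have hi₁j₁ : i₁ ∘ₗ j₁ = LinearMap.id := by
    ext q
    obtain ⟨p, rfl⟩ := hπ q
    rw [LinearMap.comp_apply, hj₁]
    change π (r (s p)) = π p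
    rw [hrs]
  -- Q' is flat: retract of Q × F
  have hK_le2 : K ≤ LinearMap.ker (LinearMap.id - s ∘ₗ r : (P →₀ R) →ₗ[R] (P →₀ R)) := by
    rintro _ ⟨n, rfl⟩
    simp [hrs]
  let i₂ : ((P →₀ R) ⧸ K) →ₗ[R] (P →₀ R) := K.liftQ (LinearMap.id - s ∘ₗ r) hK_le2
  haveI : Module.Flat R (Q × (P →₀ R)) := flat_prod
  haveI hQ'flat : Module.Flat R ((P →₀ R) ⧸ K) := by
    refine Module.Flat.of_retract (M := Q × (P →₀ R)) (i₁.prod i₂)
      (j₁.coprod K.mkQ) ?_
    apply LinearMap.ext
    intro x
    obtain ⟨f, rfl⟩ := K.mkQ_surjective x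
    change j₁ (i₁ (K.mkQ f)) + K.mkQ (i₂ (K.mkQ f)) = K.mkQ f
    have h1 : i₁ (K.mkQ f) = π (r f) := rfl
    have h2 : i₂ (K.mkQ f) = f - s (r f) := rfl
    rw [h1, h2, hj₁, ← map_add]
    congr 1
    abel
  haveI : Module.Finite R (Finsupp.supported R R (T : Set P)) :=
    Module.Finite.equiv (Finsupp.supportedEquivFinsupp (M := R) (R := R) (T : Set P)).symm
  haveI : Module.Free R (Finsupp.supported R R (T : Set P)) :=
    Module.Free.of_equiv (Finsupp.supportedEquivFinsupp (M := R) (R := R) (T : Set P)).symm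
  obtain ⟨σ, hσ⟩ := exists_section_of_flat_quotient K (Finsupp.supported R R (T : Set P)) hT hKfg
    (Finsupp.restrictDom R R (T : Set P))
    (fun x => LinearMap.congr_fun
      (Finsupp.restrictDom_comp_subtype (M := R) (R := R) (s := (T : Set P))) x)
  haveI : Module.Projective R ((P →₀ R) ⧸ K) := Module.Projective.of_split σ K.mkQ hσ
  exact Module.Projective.of_split j₁ i₁ hi₁j₁

section S4577

open KaehlerDifferential

universe u

variable {A B C : Type u} [CommRing A] [CommRing B] [CommRing C]
  [Algebra A B] [Algebra B C] [Algebra A C] [IsScalarTower A B C]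

/-- `Ω[C⁄A]` is projective as soon as it is flat, when `C` is a quotient of a formally smooth
`A`-algebra `B` by an ideal `J` with `J/J²` finitely generated. -/
theorem projective_kaehler_of_flat [Algebra.FormallySmooth A B]
    (hsurj : Function.Surjective (algebraMap B C))
    [Module.Finite B (RingHom.ker (algebraMap B C)).Cotangent]
    [Module.Flat C Ω[C⁄A]] : Module.Projective C Ω[C⁄A] := by
  let P' : Algebra.Extension A C := ⟨B, _, Function.surjInv_eq hsurj⟩
  haveI : Algebra.FormallySmooth A P'.Ring := ‹_›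
  haveI : Module.Finite P'.Ring P'.Cotangent :=
    Module.Finite.equiv (R := P'.Ring) (M := P'.ker.Cotangent) P'.cotangentEquivCotangentKer.symm
  haveI : Module.Finite C P'.Cotangent := Module.Finite.of_restrictScalars_finite P'.Ring _ _
  haveI : Module.Projective P'.Ring Ω[P'.Ring⁄A] := inferInstance
  haveI : Module.Projective C P'.CotangentSpace := inferInstance
  exact projective_of_flat_of_exact P'.cotangentComplex P'.toKaehler
    P'.exact_cotangentComplex_toKaehler P'.toKaehler_surjective

theorem formallySmooth_of_forall_isMaximal [Algebra.FormallySmooth A B]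
    (hsurj : Function.Surjective (algebraMap B C))
    [Module.Finite B (RingHom.ker (algebraMap B C)).Cotangent]
    (H : ∀ (m : Ideal C) [m.IsMaximal], Algebra.FormallySmooth A (Localization.AtPrime m)) :
    Algebra.FormallySmooth A C := by
  haveI hflat : Module.Flat C Ω[C⁄A] := by
    refine Module.flat_of_isLocalized_maximal C Ω[C⁄A]
      (fun m _ => Ω[Localization.AtPrime m⁄A])
      (fun m _ => KaehlerDifferential.map A A C (Localization.AtPrime m)) ?_
    intro m hm
    haveI := H m
    haveI : Module.Flat C (Localization.AtPrime m) := IsLocalization.flat _ m.primeCompl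
    exact Module.Flat.trans C (Localization.AtPrime m) _
  refine ⟨projective_kaehler_of_flat hsurj, ?_⟩
  refine Module.subsingleton_of_localization_maximal (R := C)
    (fun m _ => Localization.AtPrime m ⊗[C] Algebra.H1Cotangent A C)
    (fun m _ => TensorProduct.mk C (Localization.AtPrime m) (Algebra.H1Cotangent A C) 1) ?_
  intro m hm
  haveI := H m
  exact (Algebra.tensorH1CotangentOfIsLocalization A (Localization.AtPrime m)
    m.primeCompl).subsingleton

theorem formallySmooth_localization_of_formallySmooth [Algebra.FormallySmooth A C]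
    (M : Submonoid C) : Algebra.FormallySmooth A (Localization M) := by
  haveI : Algebra.FormallyEtale C (Localization M) := Algebra.FormallyEtale.of_isLocalization M
  exact Algebra.FormallySmooth.comp A C (Localization M)

theorem main4577 [Algebra.FormallySmooth A B]
    (hsurj : Function.Surjective (algebraMap B C))
    [Module.Finite B (RingHom.ker (algebraMap B C)).Cotangent] :
    Algebra.FormallySmooth A C ↔
      ∀ (m : Ideal C) [m.IsMaximal], Algebra.FormallySmooth A (Localization.AtPrime m) :=
  ⟨fun _ m _ => formallySmooth_localization_of_formallySmooth m.primeCompl,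
    fun H => formallySmooth_of_forall_isMaximal hsurj H⟩

end S4577

end Groth.Agent.Lib.Helper6.FSLoc
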