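import Mathlib
import Groth.Agent.Lib.Helper6FSLoc

set_option autoImplicit false

open TensorProduct

namespace Groth.Agent.Lib.Helper6.FSLoc2

/-- Reduction to a finite free target: a map from a finitely generated module to a projective
module factors (both ways) through a map to a finite free module. -/
theorem exists_finite_free_factor {R : Type*} [CommRing R] {N P : Type*}
    [AddCommGroup N] [AddCommGroup P] [Module R N] [Module R P]
    [Module.Finite R N] [Module.Projective R P] (u : N →ₗ[R] P) :
    ∃ (T : Finset P) (w : N →ₗ[R] (T →₀ R)) (a : P →ₗ[R] (T →₀ R)) (b : (T →₀ R) →ₗ[R] P),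
      w = a ∘ₗ u ∧ u = b ∘ₗ w := by
  classical
  obtain ⟨s, hs⟩ := Module.projective_def'.mp ‹Module.Projective R P›
  set r : (P →₀ R) →ₗ[R] P := Finsupp.linearCombination R id with hr
  have hrs : ∀ p, r (s p) = p := fun p => by
    have := LinearMap.congr_fun hs p
    simpa using this
  let K : Submodule R (P →₀ R) := LinearMap.range (s ∘ₗ u)
  have hKfg : K.FG := by
    have : Module.Finite R K := Module.Finite.range _
    exact Module.Finite.iff_fg.mp this
  obtain ⟨T, hT⟩ : ∃ T : Finset P, K ≤ Finsupp.supported R R (T : Set P) := by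
    obtain ⟨G, hG⟩ := hKfg
    refine ⟨G.biUnion Finsupp.support, ?_⟩
    rw [← hG, Submodule.span_le]
    intro g hg
    rw [SetLike.mem_coe, Finsupp.mem_supported]
    intro x hx
    simp only [Finset.coe_biUnion, Set.mem_iUnion]
    exact ⟨g, hg, hx⟩
  let e : Finsupp.supported R R (T : Set P) ≃ₗ[R] (T →₀ R) :=
    Finsupp.supportedEquivFinsupp (M := R) (R := R) (T : Set P)
  let resT : (P →₀ R) →ₗ[R] Finsupp.supported R R (T : Set P) :=
    Finsupp.restrictDom R R (T : Set P)
  let ιT : Finsupp.supported R R (T : Set P) →ₗ[R] (P →₀ R) := Submodule.subtype _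
  have hres : ∀ k ∈ Finsupp.supported R R (T : Set P), ιT (resT k) = k := fun k hk => by
    have := LinearMap.congr_fun
      (Finsupp.restrictDom_comp_subtype (M := R) (R := R) (s := (T : Set P))) ⟨k, hk⟩
    exact congrArg ιT this
  refine ⟨T, e.toLinearMap ∘ₗ resT ∘ₗ s ∘ₗ u, e.toLinearMap ∘ₗ resT ∘ₗ s,
    r ∘ₗ ιT ∘ₗ e.symm.toLinearMap, rfl, ?_⟩
  apply LinearMap.ext
  intro n
  simp only [LinearMap.comp_apply, LinearEquiv.coe_coe, LinearEquiv.symm_apply_apply]
  have hmem : s (u n) ∈ Finsupp.supported R R (T : Set P) := hT ⟨n, rfl⟩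
  rw [hres _ hmem, hrs]

/-- Compatibility of `lTensor` by the residue field with base change to the localization. -/
theorem cancelBaseChange_lTensor {R : Type*} [CommRing R] (p : Ideal R) [p.IsPrime] {M₁ M₂ : Type*}
    [AddCommGroup M₁] [AddCommGroup M₂] [Module R M₁] [Module R M₂] (v : M₁ →ₗ[R] M₂)
    (x : p.ResidueField ⊗[Localization.AtPrime p] (Localization.AtPrime p ⊗[R] M₁)) :
    AlgebraTensorModule.cancelBaseChange R (Localization.AtPrime p) p.ResidueField
        p.ResidueField M₂ (((v.baseChange (Localization.AtPrime p)).lTensor p.ResidueField) x) =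
      (v.lTensor p.ResidueField) (AlgebraTensorModule.cancelBaseChange R (Localization.AtPrime p)
        p.ResidueField p.ResidueField M₁ x) := by
  induction x using TensorProduct.induction_on with
  | zero => simp
  | add x y hx hy => simp only [map_add, hx, hy]
  | tmul a y =>
    induction y using TensorProduct.induction_on with
    | zero => simp
    | add y z hy hz => simp only [tmul_add, map_add, hy, hz]
    | tmul b m => simp

theorem injective_lTensor_baseChange_iff {R : Type*} [CommRing R] (p : Ideal R) [p.IsPrime]
    {M₁ M₂ : Type*} [AddCommGroup M₁] [AddCommGroup M₂] [Module R M₁] [Module R M₂]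
    (v : M₁ →ₗ[R] M₂) :
    Function.Injective ((v.baseChange (Localization.AtPrime p)).lTensor p.ResidueField) ↔
      Function.Injective (v.lTensor p.ResidueField) := by
  constructor
  · intro h x y hxy
    let e₁ := AlgebraTensorModule.cancelBaseChange R (Localization.AtPrime p) p.ResidueField
        p.ResidueField M₁
    have := cancelBaseChange_lTensor p v (e₁.symm x)
    have h2 := cancelBaseChange_lTensor p v (e₁.symm y)
    simp only [e₁, LinearEquiv.apply_symm_apply] at this h2
    rw [← this, ← h2] at hxy
    have h3 := h ((LinearEquiv.injective _) hxy)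
    exact e₁.symm.injective h3
  · intro h x y hxy
    have := cancelBaseChange_lTensor p v x
    have h2 := cancelBaseChange_lTensor p v y
    rw [hxy, h2] at this
    exact (LinearEquiv.injective _) (h this.symm)

/-- Finite free case: if `κ(p) ⊗ w` is injective then `w` has a retraction up to an element
outside `p`. -/
theorem exists_retraction_up_to_of_finite_free {R : Type*} [CommRing R] (p : Ideal R) [p.IsPrime]
    {N F : Type*} [AddCommGroup N] [AddCommGroup F] [Module R N] [Module R F]
    [Module.Finite R N] [Module.Finite R F] [Module.Free R F]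
    (w : N →ₗ[R] F) (hw : Function.Injective (w.lTensor p.ResidueField)) :
    ∃ (l : F →ₗ[R] N) (g : R), g ∉ p ∧ l ∘ₗ w = g • LinearMap.id := by
  let Rp := Localization.AtPrime p
  let wp : Rp ⊗[R] N →ₗ[Rp] Rp ⊗[R] F := w.baseChange Rp
  have hwp : Function.Injective (wp.lTensor (IsLocalRing.ResidueField Rp)) :=
    (injective_lTensor_baseChange_iff p w).mpr hw
  obtain ⟨l', hl'⟩ :=
    (IsLocalRing.split_injective_iff_lTensor_residueField_injective wp).mpr hwp
  let fN : N →ₗ[R] Rp ⊗[R] N := TensorProduct.mk R Rp N 1
  let fF : F →ₗ[R] Rp ⊗[R] F := TensorProduct.mk R Rp F 1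
  haveI : IsLocalizedModule p.primeCompl fN := IsLocalization.tensorProduct_isLocalizedModule ..
  haveI : Module.FinitePresentation R F := Module.finitePresentation_of_projective R F
  obtain ⟨h, s, hs⟩ := Module.FinitePresentation.exists_lift_of_isLocalizedModule p.primeCompl fN
    ((l'.restrictScalars R) ∘ₗ fF)
  have h1 : fN ∘ₗ (h ∘ₗ w) = fN ∘ₗ ((s : R) • (LinearMap.id : N →ₗ[R] N)) := by
    rw [← LinearMap.comp_assoc, hs]
    apply LinearMap.ext
    intro n
    have h2 : fF (w n) = wp (fN n) := by
      simp [fF, fN, wp]
    have h3 : l' (wp (fN n)) = fN n := LinearMap.congr_fun hl' (fN n)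
    simp only [LinearMap.comp_apply, LinearMap.smul_apply, LinearMap.coe_restrictScalars,
      LinearMap.id_apply, h2, h3, map_smul]
    rfl
  obtain ⟨t, ht⟩ := Module.Finite.exists_smul_of_comp_eq_of_isLocalizedModule p.primeCompl fN
    _ _ h1
  refine ⟨(t : R) • h, (t : R) * (s : R), ?_, ?_⟩
  · exact (p.primeCompl.mul_mem t.2 s.2)
  · rw [LinearMap.smul_comp, mul_smul]
    exact ht

section ModAB

variable {R : Type*} [CommRing R] (R' : Type*) [CommRing R'] [Algebra R R'] [Module.Flat R R']
  {N P Q : Type*} [AddCommGroup N] [AddCommGroup P] [AddCommGroup Q]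
  [Module R N] [Module R P] [Module R Q]

theorem baseChange_exact (u : N →ₗ[R] P) (π : P →ₗ[R] Q) (hex : Function.Exact u π) :
    Function.Exact (u.baseChange R') (π.baseChange R') := by
  have := Module.Flat.lTensor_exact R' hex
  intro x
  exact this x

theorem baseChange_surjective (π : P →ₗ[R] Q) (hπ : Function.Surjective π) :
    Function.Surjective (π.baseChange R') :=
  LinearMap.lTensor_surjective R' hπ

theorem baseChange_injective (u : N →ₗ[R] P) (hu : Function.Injective u) :
    Function.Injective (u.baseChange R') :=
  Module.Flat.lTensor_preserves_injective_linearMap (M := R') u hu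

/-- Split injectivity after flat base change kills the kernel and makes the cokernel projective. -/
theorem subsingleton_and_projective_of_split [Module.Projective R P]
    (u : N →ₗ[R] P) (π : P →ₗ[R] Q) (hex : Function.Exact u π) (hπ : Function.Surjective π)
    (l : R' ⊗[R] P →ₗ[R'] R' ⊗[R] N) (hl : l ∘ₗ u.baseChange R' = LinearMap.id) :
    Subsingleton (R' ⊗[R] LinearMap.ker u) ∧ Module.Projective R' (R' ⊗[R] Q) := by
  constructor
  · have hinj := baseChange_injective R' (LinearMap.ker u).subtype (LinearMap.ker u).injective_subtype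
    refine ⟨fun x y => hinj ?_⟩
    have h0 : ∀ z, (u.baseChange R') (((LinearMap.ker u).subtype.baseChange R') z) = 0 := by
      intro z
      rw [← LinearMap.comp_apply, ← LinearMap.baseChange_comp, LinearMap.comp_ker_subtype,
        LinearMap.baseChange_zero, LinearMap.zero_apply]
    have h1 : ∀ z, ((LinearMap.ker u).subtype.baseChange R') z = 0 := by
      intro z
      have := LinearMap.congr_fun hl (((LinearMap.ker u).subtype.baseChange R') z)
      simp only [LinearMap.comp_apply, h0, map_zero, LinearMap.id_apply] at this
      exact this.symm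
    rw [h1 x, h1 y]
  · have hexb := baseChange_exact R' u π hex
    have hsurj := baseChange_surjective R' π hπ
    obtain ⟨-, σ, hσ⟩ := ((Function.Exact.split_tfae' hexb).out 1 0 rfl rfl).mp ⟨hsurj, l, hl⟩
    exact Module.Projective.of_split σ (π.baseChange R') hσ

/-- Conversely, if the kernel dies and the cokernel becomes projective after flat base change,
the base change is split injective. -/
theorem exists_retraction_of_subsingleton_of_projective
    (u : N →ₗ[R] P) (π : P →ₗ[R] Q) (hex : Function.Exact u π) (hπ : Function.Surjective π)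
    [Subsingleton (R' ⊗[R] LinearMap.ker u)] [Module.Projective R' (R' ⊗[R] Q)] :
    ∃ l : R' ⊗[R] P →ₗ[R'] R' ⊗[R] N, l ∘ₗ u.baseChange R' = LinearMap.id := by
  have hexb := baseChange_exact R' u π hex
  have hsurj := baseChange_surjective R' π hπ
  have hexk := baseChange_exact R' (LinearMap.ker u).subtype u (LinearMap.exact_subtype_ker_map u)
  have hinj : Function.Injective (u.baseChange R') := by
    rw [injective_iff_map_eq_zero]
    intro x hx
    obtain ⟨y, rfl⟩ := (hexk x).mp hx
    rw [Subsingleton.elim y 0, map_zero]
  obtain ⟨σ, hσ⟩ := Module.projective_lifting_property (π.baseChange R')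
    (LinearMap.id : R' ⊗[R] Q →ₗ[R'] R' ⊗[R] Q) hsurj
  exact (((Function.Exact.split_tfae' hexb).out 0 1 rfl rfl).mp ⟨hinj, σ, hσ⟩).2

end ModAB

section UpTo

variable {R : Type*} [CommRing R] {N P : Type*} [AddCommGroup N] [AddCommGroup P]
  [Module R N] [Module R P]

/-- General case: `N` finitely generated, `P` projective. If `κ(p) ⊗ u` is injective then `u` has
a retraction up to an element outside `p`. -/
theorem exists_retraction_up_to (p : Ideal R) [p.IsPrime]
    [Module.Finite R N] [Module.Projective R P]
    (u : N →ₗ[R] P) (hu : Function.Injective (u.lTensor p.ResidueField)) :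
    ∃ (l : P →ₗ[R] N) (g : R), g ∉ p ∧ l ∘ₗ u = g • LinearMap.id := by
  obtain ⟨T, w, a, b, hw, hu'⟩ := exists_finite_free_factor u
  have hwinj : Function.Injective (w.lTensor p.ResidueField) := by
    have h1 : u.lTensor p.ResidueField = (b.lTensor p.ResidueField) ∘ₗ (w.lTensor p.ResidueField) := by
      rw [← LinearMap.lTensor_comp, ← hu']
    rw [h1, LinearMap.coe_comp] at hu
    exact Function.Injective.of_comp hu
  obtain ⟨l, g, hg, hl⟩ := exists_retraction_up_to_of_finite_free p w hwinj
  refine ⟨l ∘ₗ a, g, hg, ?_⟩
  rw [LinearMap.comp_assoc, ← hw, hl]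

/-- A retraction up to `g` becomes a genuine retraction after base change to an algebra in which
`g` is invertible. -/
theorem exists_retraction_baseChange (R' : Type*) [CommRing R'] [Algebra R R']
    (u : N →ₗ[R] P) (l : P →ₗ[R] N) (g : R) (hl : l ∘ₗ u = g • LinearMap.id)
    (hg : IsUnit (algebraMap R R' g)) :
    ∃ l' : R' ⊗[R] P →ₗ[R'] R' ⊗[R] N, l' ∘ₗ u.baseChange R' = LinearMap.id := by
  obtain ⟨c, hc⟩ := hg
  refine ⟨(↑c⁻¹ : R') • l.baseChange R', ?_⟩
  rw [LinearMap.smul_comp, ← LinearMap.baseChange_comp, hl, LinearMap.baseChange_smul,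
    LinearMap.baseChange_id]
  apply LinearMap.ext
  intro x
  simp only [LinearMap.smul_apply, LinearMap.id_apply]
  rw [← algebraMap_smul R' g x, ← hc, smul_smul]
  simp

theorem injective_lTensor_of_retraction_up_to (p : Ideal R) [p.IsPrime]
    (u : N →ₗ[R] P) (l : P →ₗ[R] N) (g : R) (hg : g ∉ p) (hl : l ∘ₗ u = g • LinearMap.id) :
    Function.Injective (u.lTensor p.ResidueField) := by
  have hunit : IsUnit (algebraMap R (Localization.AtPrime p) g) :=
    IsLocalization.map_units (Localization.AtPrime p) (⟨g, hg⟩ : p.primeCompl)
  obtain ⟨l', hl'⟩ := exists_retraction_baseChange (Localization.AtPrime p) u l g hl hunit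
  rw [← injective_lTensor_baseChange_iff]
  have : (l'.lTensor p.ResidueField) ∘ₗ ((u.baseChange (Localization.AtPrime p)).lTensor
      p.ResidueField) = LinearMap.id := by
    rw [← LinearMap.lTensor_comp, hl', LinearMap.lTensor_id]
  exact Function.HasLeftInverse.injective ⟨_, LinearMap.congr_fun this⟩

end UpTo

section Conv2

variable {B C : Type*} [CommRing B] [CommRing C] [Algebra B C]

theorem compatibleSMul_of_surjective (hsurj : Function.Surjective (algebraMap B C))
    (K M : Type*) [AddCommGroup K] [AddCommGroup M] [Module B K] [Module C K] [IsScalarTower B C K]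
    [Module B M] [Module C M] [IsScalarTower B C M] : TensorProduct.CompatibleSMul B C K M :=
  ⟨fun c k m => by
    obtain ⟨b, rfl⟩ := hsurj c
    rw [algebraMap_smul, algebraMap_smul, TensorProduct.smul_tmul]⟩

/-- For `B → C` surjective, injectivity of `K ⊗ v` does not depend on whether the tensor product
is taken over `B` or over `C`. -/
theorem injective_lTensor_restrictScalars_iff (hsurj : Function.Surjective (algebraMap B C))
    {K M₁ M₂ : Type*} [AddCommGroup K] [AddCommGroup M₁] [AddCommGroup M₂]
    [Module B K] [Module C K] [IsScalarTower B C K]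
    [Module B M₁] [Module C M₁] [IsScalarTower B C M₁]
    [Module B M₂] [Module C M₂] [IsScalarTower B C M₂] (v : M₁ →ₗ[C] M₂) :
    Function.Injective ((v.restrictScalars B).lTensor K) ↔ Function.Injective (v.lTensor K) := by
  haveI := compatibleSMul_of_surjective hsurj K M₁
  haveI := compatibleSMul_of_surjective hsurj K M₂
  let e₁ : K ⊗[B] M₁ ≃ₗ[B] K ⊗[C] M₁ := TensorProduct.equivOfCompatibleSMul C B B K M₁
  let e₂ : K ⊗[B] M₂ ≃ₗ[B] K ⊗[C] M₂ := TensorProduct.equivOfCompatibleSMul C B B K M₂
  have sq : ∀ x, e₂ (((v.restrictScalars B).lTensor K) x) = (v.lTensor K) (e₁ x) := by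
    intro x
    induction x using TensorProduct.induction_on with
    | zero => simp
    | add x y hx hy => simp only [map_add, hx, hy]
    | tmul k m => rfl
  constructor
  · intro h x y hxy
    have hx := sq (e₁.symm x)
    have hy := sq (e₁.symm y)
    rw [LinearEquiv.apply_symm_apply] at hx hy
    rw [← hx, ← hy] at hxy
    exact e₁.symm.injective (h (e₂.injective hxy))
  · intro h x y hxy
    have hx := sq x
    have hy := sq y
    rw [hxy, hy] at hx
    exact e₁.injective (h hx.symm)

end Conv2

section RingLevel

open KaehlerDifferential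

universe u

variable {A B C : Type u} [CommRing A] [CommRing B] [CommRing C]
  [Algebra A B] [Algebra B C] [Algebra A C] [IsScalarTower A B C]

/-- The extension of `C` given by a surjection from `B`. -/
noncomputable def ext (hsurj : Function.Surjective (algebraMap B C)) : Algebra.Extension A C :=
  ⟨B, _, Function.surjInv_eq hsurj⟩

instance (hsurj : Function.Surjective (algebraMap B C)) [Algebra.FormallySmooth A B] :
    Algebra.FormallySmooth A (ext (A := A) hsurj).Ring := ‹_›

instance (hsurj : Function.Surjective (algebraMap B C)) [Algebra.FormallySmooth A B] :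
    Module.Projective C (ext (A := A) hsurj).CotangentSpace := by
  haveI : Module.Projective (ext (A := A) hsurj).Ring Ω[(ext (A := A) hsurj).Ring⁄A] :=
    inferInstance
  infer_instance

theorem finite_cotangent (hsurj : Function.Surjective (algebraMap B C))
    [Module.Finite B (RingHom.ker (algebraMap B C)).Cotangent] :
    Module.Finite C (ext (A := A) hsurj).Cotangent := by
  let P' := ext (A := A) hsurj
  haveI h0 : Module.Finite P'.Ring P'.ker.Cotangent :=
    ‹Module.Finite B (RingHom.ker (algebraMap B C)).Cotangent›
  haveI : Module.Finite P'.Ring P'.Cotangent :=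
    Module.Finite.equiv (R := P'.Ring) (M := P'.ker.Cotangent) P'.cotangentEquivCotangentKer.symm
  exact Module.Finite.of_restrictScalars_finite P'.Ring _ _

variable (R' : Type u) [CommRing R'] [Algebra C R'] [Algebra A R'] [IsScalarTower A C R']
  (M : Submonoid C) [IsLocalization M R']

include M in
theorem formallySmooth_of_split [Algebra.FormallySmooth A B]
    (hsurj : Function.Surjective (algebraMap B C))
    (l : R' ⊗[C] (ext (A := A) hsurj).CotangentSpace →ₗ[R'] R' ⊗[C] (ext (A := A) hsurj).Cotangent)
    (hl : l ∘ₗ (ext (A := A) hsurj).cotangentComplex.baseChange R' = LinearMap.id) :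
    Algebra.FormallySmooth A R' := by
  let P' := ext (A := A) hsurj
  haveI : Module.Flat C R' := IsLocalization.flat R' M
  haveI : Algebra.FormallyEtale C R' := Algebra.FormallyEtale.of_isLocalization M
  obtain ⟨h1, h2⟩ := subsingleton_and_projective_of_split R' P'.cotangentComplex P'.toKaehler
    P'.exact_cotangentComplex_toKaehler P'.toKaehler_surjective l hl
  refine ⟨?_, ?_⟩
  · exact Module.Projective.of_equiv (tensorKaehlerEquivOfFormallyEtale A C R')
  · have e1 := (Algebra.tensorH1CotangentOfIsLocalization A R' M)
    have e2 : R' ⊗[C] P'.H1Cotangent ≃ₗ[R'] R' ⊗[C] Algebra.H1Cotangent A C :=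
      LinearEquiv.baseChange C R' _ _ (P'.equivH1CotangentOfFormallySmooth)
    haveI : Subsingleton (R' ⊗[C] P'.H1Cotangent) := h1
    exact (e1.symm.toEquiv.trans e2.symm.toEquiv).subsingleton

include M in
theorem exists_retraction_of_formallySmooth [Algebra.FormallySmooth A B]
    (hsurj : Function.Surjective (algebraMap B C)) [Algebra.FormallySmooth A R'] :
    ∃ l : R' ⊗[C] (ext (A := A) hsurj).CotangentSpace →ₗ[R']
        R' ⊗[C] (ext (A := A) hsurj).Cotangent,
      l ∘ₗ (ext (A := A) hsurj).cotangentComplex.baseChange R' = LinearMap.id := by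
  let P' := ext (A := A) hsurj
  haveI : Module.Flat C R' := IsLocalization.flat R' M
  haveI : Algebra.FormallyEtale C R' := Algebra.FormallyEtale.of_isLocalization M
  haveI : Module.Projective R' (R' ⊗[C] Ω[C⁄A]) :=
    Module.Projective.of_equiv (tensorKaehlerEquivOfFormallyEtale A C R').symm
  have e1 := (Algebra.tensorH1CotangentOfIsLocalization A R' M)
  have e2 : R' ⊗[C] P'.H1Cotangent ≃ₗ[R'] R' ⊗[C] Algebra.H1Cotangent A C :=
    LinearEquiv.baseChange C R' _ _ (P'.equivH1CotangentOfFormallySmooth)
  haveI h1 : Subsingleton (R' ⊗[C] P'.H1Cotangent) :=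
    (e2.toEquiv.trans e1.toEquiv).subsingleton
  haveI : Subsingleton (R' ⊗[C] LinearMap.ker P'.cotangentComplex) := h1
  exact exists_retraction_of_subsingleton_of_projective R' P'.cotangentComplex P'.toKaehler
    P'.exact_cotangentComplex_toKaehler P'.toKaehler_surjective

end RingLevel

section RingLevel2

open KaehlerDifferential

universe u

variable {A B C : Type u} [CommRing A] [CommRing B] [CommRing C]
  [Algebra A B] [Algebra B C] [Algebra A C] [IsScalarTower A B C]

theorem injective_kerCotangentToTensor_lTensor_iff
    (hsurj : Function.Surjective (algebraMap B C)) (p : Ideal C) [p.IsPrime] :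
    Function.Injective ((kerCotangentToTensor A B C).lTensor p.ResidueField) ↔
      Function.Injective ((ext (A := A) hsurj).cotangentComplex.lTensor p.ResidueField) := by
  rw [← injective_lTensor_restrictScalars_iff hsurj]
  let P' := ext (A := A) hsurj
  let e : P'.Cotangent ≃ₗ[B] (RingHom.ker (algebraMap B C)).Cotangent :=
    P'.cotangentEquivCotangentKer
  have h3 : ∀ x, ((P'.cotangentComplex.restrictScalars B).lTensor p.ResidueField) x =
      ((kerCotangentToTensor A B C).lTensor p.ResidueField)
        ((LinearEquiv.lTensor p.ResidueField e) x) := by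
    intro x
    induction x using TensorProduct.induction_on with
    | zero => simp only [map_zero]; rfl
    | add x y hx hy => simp only [map_add, hx, hy]; rfl
    | tmul k m => rfl
  change _ ↔ Function.Injective ((P'.cotangentComplex.restrictScalars B).lTensor p.ResidueField)
  constructor
  · intro hinj x y hxy
    rw [h3, h3] at hxy
    exact (LinearEquiv.lTensor p.ResidueField e).injective (hinj hxy)
  · intro hinj x y hxy
    obtain ⟨x, rfl⟩ := (LinearEquiv.lTensor p.ResidueField e).surjective x
    obtain ⟨y, rfl⟩ := (LinearEquiv.lTensor p.ResidueField e).surjective y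
    rw [← h3, ← h3] at hxy
    rw [hinj hxy]

theorem formallySmooth_atPrime_of_away (p : Ideal C) [p.IsPrime] (f : C) (hf : f ∉ p)
    [Algebra.FormallySmooth A (Localization.Away f)] :
    Algebra.FormallySmooth A (Localization.AtPrime p) := by
  have hle : Submonoid.powers f ≤ p.primeCompl := Submonoid.powers_le.mpr hf
  letI : Algebra (Localization.Away f) (Localization.AtPrime p) :=
    IsLocalization.localizationAlgebraOfSubmonoidLe _ _ (Submonoid.powers f) p.primeCompl hle
  haveI : IsScalarTower C (Localization.Away f) (Localization.AtPrime p) :=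
    IsLocalization.localization_isScalarTower_of_submonoid_le _ _ (Submonoid.powers f)
      p.primeCompl hle
  haveI : IsLocalization (p.primeCompl.map (algebraMap C (Localization.Away f)))
      (Localization.AtPrime p) :=
    IsLocalization.isLocalization_of_submonoid_le _ _ (Submonoid.powers f) p.primeCompl hle
  haveI : Algebra.FormallyEtale (Localization.Away f) (Localization.AtPrime p) :=
    Algebra.FormallyEtale.of_isLocalization (p.primeCompl.map (algebraMap C (Localization.Away f)))
  haveI : IsScalarTower A (Localization.Away f) (Localization.AtPrime p) := by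
    refine IsScalarTower.of_algebraMap_eq' ?_
    rw [IsScalarTower.algebraMap_eq A C (Localization.AtPrime p),
      IsScalarTower.algebraMap_eq A C (Localization.Away f), ← RingHom.comp_assoc,
      ← IsScalarTower.algebraMap_eq C (Localization.Away f) (Localization.AtPrime p)]
  exact Algebra.FormallySmooth.comp A (Localization.Away f) (Localization.AtPrime p)

end RingLevel2

section Main2463

open KaehlerDifferential

universe u

variable {A B C : Type u} [CommRing A] [CommRing B] [CommRing C]
  [Algebra A B] [Algebra B C] [Algebra A C] [IsScalarTower A B C]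

theorem main2463 [Algebra.FormallySmooth A B] (hsurj : Function.Surjective (algebraMap B C))
    [Module.Finite B (RingHom.ker (algebraMap B C)).Cotangent] (p : Ideal C) [p.IsPrime] :
    [Algebra.FormallySmooth A (Localization.AtPrime p),
     Function.Injective ((kerCotangentToTensor A B C).lTensor p.ResidueField),
     ∃ f : C, f ∉ p ∧ Algebra.FormallySmooth A (Localization.Away f)].TFAE := by
  let P' := ext (A := A) hsurj
  haveI := finite_cotangent (A := A) hsurj
  tfae_have 1 → 2 := by
    intro h
    obtain ⟨l, hl⟩ := exists_retraction_of_formallySmooth (A := A) (Localization.AtPrime p)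
      p.primeCompl hsurj
    rw [injective_kerCotangentToTensor_lTensor_iff hsurj, ← injective_lTensor_baseChange_iff]
    have : (l.lTensor p.ResidueField) ∘ₗ
        ((P'.cotangentComplex.baseChange (Localization.AtPrime p)).lTensor p.ResidueField) =
        LinearMap.id := by
      rw [← LinearMap.lTensor_comp, hl, LinearMap.lTensor_id]
    exact Function.HasLeftInverse.injective ⟨_, LinearMap.congr_fun this⟩
  tfae_have 2 → 3 := by
    intro h
    rw [injective_kerCotangentToTensor_lTensor_iff hsurj] at h
    obtain ⟨l, g, hg, hl⟩ := exists_retraction_up_to p P'.cotangentComplex h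
    refine ⟨g, hg, ?_⟩
    obtain ⟨l', hl'⟩ := exists_retraction_baseChange (Localization.Away g) P'.cotangentComplex
      l g hl (IsLocalization.Away.algebraMap_isUnit g)
    exact formallySmooth_of_split (Localization.Away g) (Submonoid.powers g) hsurj l' hl'
  tfae_have 3 → 1 := by
    rintro ⟨f, hf, h⟩
    exact formallySmooth_atPrime_of_away p f hf
  tfae_finish

end Main2463

end Groth.Agent.Lib.Helper6.FSLoc2
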