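import Mathlib
import Groth.Agent.Lib.Helper6FSLoc2
import Groth.Agent.Lib.Helper6FSReg
import Groth.Agent.Lib.Helper19FSQuot
import Groth.Agent.Lib.Helper19FSAdicFormal

set_option autoImplicit false

open TensorProduct KaehlerDifferential IsLocalRing

namespace Groth.Agent.Lib.Helper6.FSLoc3

universe u

/-- Adic formal smoothness over `A'` implies adic formal smoothness over `A` when `A'` is
(discretely) formally smooth over `A`. -/
theorem isAdicFormallySmooth_of_tower {A A' S : Type u} [CommRing A] [CommRing A'] [CommRing S]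
    [Algebra A A'] [Algebra A' S] [Algebra A S] [IsScalarTower A A' S]
    [Algebra.FormallySmooth A A'] (𝔫 : Ideal S) (h : CAlgX.IsAdicFormallySmooth A' S 𝔫) :
    CAlgX.IsAdicFormallySmooth A S 𝔫 := by
  rw [Groth.Agent.Lib.Helper19.isAdicFormallySmooth_iff_isFormallySmoothAdic_bot] at h ⊢
  exact Groth.Agent.Lib.Helper19.isFormallySmoothAdic_trans ⊥ ⊥ 𝔫 ⟨1, by simp⟩
    (Groth.Agent.Lib.Helper6.FSReg.isFormallySmoothAdic_of_formallySmooth A A' ⊥ ⊥) h

/-- Transport of adic formal smoothness along an algebra isomorphism. -/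
theorem isAdicFormallySmooth_of_algEquiv {A S S' : Type u} [CommRing A] [CommRing S] [CommRing S']
    [Algebra A S] [Algebra A S'] (e : S' ≃ₐ[A] S) (𝔫 : Ideal S) (𝔫' : Ideal S')
    (hn : ∀ x ∈ 𝔫, e.symm x ∈ 𝔫') (h : CAlgX.IsAdicFormallySmooth A S 𝔫) :
    CAlgX.IsAdicFormallySmooth A S' 𝔫' := by
  intro E _ _ N hN ψ' hψ'
  obtain ⟨k, hk⟩ := hψ'
  have hpow : ∀ x ∈ 𝔫 ^ k, e.symm x ∈ 𝔫' ^ k := by
    intro x hx
    have h1 : 𝔫.map (e.symm : S →+* S') ≤ 𝔫' := by
      rw [Ideal.map_le_iff_le_comap]
      intro y hy
      exact hn y hy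
    have h2 := Ideal.mem_map_of_mem (e.symm : S →+* S') hx
    rw [Ideal.map_pow] at h2
    exact Ideal.pow_right_mono h1 k h2
  obtain ⟨χ, hχ⟩ := h E N hN (ψ'.comp e.symm.toAlgHom) ⟨k, fun x hx => hk _ (hpow x hx)⟩
  refine ⟨χ.comp e.toAlgHom, ?_⟩
  rw [← AlgHom.comp_assoc, hχ]
  ext x
  simp

/-- A derivation retracting the conormal map after base change to `K` forces `K ⊗ (J/J² → C' ⊗ Ω)`
to be injective. -/
theorem injective_lTensor_of_derivation {A B' C' : Type u} [CommRing A] [CommRing B'] [CommRing C']
    [Algebra A B'] [Algebra B' C'] [Algebra A C'] [IsScalarTower A B' C']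
    (K : Type u) [CommRing K] [Algebra C' K] [Algebra B' K] [IsScalarTower B' C' K] [Algebra A K]
    [IsScalarTower A B' K]
    (D' : Derivation A B' (K ⊗[B'] (RingHom.ker (algebraMap B' C')).Cotangent))
    (hD' : ∀ x : RingHom.ker (algebraMap B' C'),
      D' x = (1 : K) ⊗ₜ[B'] (RingHom.ker (algebraMap B' C')).toCotangent x) :
    Function.Injective ((kerCotangentToTensor A B' C').lTensor K) := by
  let d' : Ω[B'⁄A] →ₗ[B'] K ⊗[B'] (RingHom.ker (algebraMap B' C')).Cotangent :=
    D'.liftKaehlerDifferential
  let l₁ : C' ⊗[B'] Ω[B'⁄A] →ₗ[C'] K ⊗[B'] (RingHom.ker (algebraMap B' C')).Cotangent :=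
    d'.liftBaseChange C'
  let lam : K ⊗[B'] (C' ⊗[B'] Ω[B'⁄A]) →ₗ[K] K ⊗[B'] (RingHom.ker (algebraMap B' C')).Cotangent :=
    (l₁.restrictScalars B').liftBaseChange K
  have key : ∀ x, lam (((kerCotangentToTensor A B' C').lTensor K) x) = x := by
    intro x
    induction x using TensorProduct.induction_on with
    | zero => simp
    | add x y hx hy => simp only [map_add, hx, hy]
    | tmul k m =>
      obtain ⟨j, rfl⟩ := Ideal.toCotangent_surjective _ m
      rw [LinearMap.lTensor_tmul, kerCotangentToTensor_toCotangent]
      simp only [lam, l₁, d', LinearMap.liftBaseChange_tmul, LinearMap.coe_restrictScalars,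
        one_smul, Derivation.liftKaehlerDifferential_comp_D, hD' j]
      rw [TensorProduct.smul_tmul', smul_eq_mul, mul_one]
  exact Function.LeftInverse.injective key

/-- Local form: `C'` a local quotient of a Noetherian local `A`-algebra `B'`, adically formally
smooth over `A`. Then the conormal map stays injective after tensoring with any field `K`
receiving the residue field of `C'`. -/
theorem injective_of_isAdicFormallySmooth_local {A B' C' : Type u} [CommRing A] [CommRing B']
    [CommRing C'] [Algebra A B'] [Algebra B' C'] [Algebra A C'] [IsScalarTower A B' C']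
    [IsNoetherianRing B'] [IsLocalRing B'] [IsLocalRing C']
    (hsurj : Function.Surjective (algebraMap B' C'))
    (K : Type u) [CommRing K] [Algebra C' K] [Algebra B' K] [IsScalarTower B' C' K] [Algebra A K]
    [IsScalarTower A B' K]
    (hK : maximalIdeal C' ≤ RingHom.ker (algebraMap C' K))
    (h : CAlgX.IsAdicFormallySmooth A C' (maximalIdeal C')) :
    Function.Injective ((kerCotangentToTensor A B' C').lTensor K) := by
  haveI : IsLocalHom (algebraMap B' C') := IsLocalHom.of_surjective _ hsurj
  have hmax : ∀ b : B', b ∈ maximalIdeal B' ↔ algebraMap B' C' b ∈ maximalIdeal C' := by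
    intro b
    rw [mem_maximalIdeal, mem_maximalIdeal, mem_nonunits_iff, mem_nonunits_iff, not_iff_not]
    exact (isUnit_map_iff (algebraMap B' C') b).symm
  let e : (B' ⧸ RingHom.ker (algebraMap B' C')) ≃ₐ[A] C' :=
    Ideal.quotientKerAlgEquivOfSurjective (f := IsScalarTower.toAlgHom A B' C') hsurj
  have he : ∀ b : B', e (Ideal.Quotient.mk _ b) = algebraMap B' C' b := fun b => rfl
  have hC : CAlgX.IsAdicFormallySmooth A (B' ⧸ RingHom.ker (algebraMap B' C'))
      ((maximalIdeal B').map (Ideal.Quotient.mk (RingHom.ker (algebraMap B' C')))) := by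
    refine isAdicFormallySmooth_of_algEquiv e (maximalIdeal C') _ ?_ h
    intro x hx
    obtain ⟨y, rfl⟩ := e.surjective x
    obtain ⟨b, rfl⟩ := Ideal.Quotient.mk_surjective y
    rw [AlgEquiv.symm_apply_apply]
    rw [he, ← hmax] at hx
    exact Ideal.mem_map_of_mem _ hx
  have hJ : RingHom.ker (algebraMap B' C') ≤ RingHom.ker (algebraMap B' K) := by
    intro b hb
    rw [RingHom.mem_ker] at hb ⊢
    rw [IsScalarTower.algebraMap_apply B' C' K, hb, map_zero]
  have hI : ∃ n : ℕ, (maximalIdeal B') ^ n ≤ RingHom.ker (algebraMap B' K) := by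
    refine ⟨1, ?_⟩
    rw [pow_one]
    intro b hb
    rw [RingHom.mem_ker, IsScalarTower.algebraMap_apply B' C' K]
    exact hK ((hmax b).mp hb)
  obtain ⟨D', hD'⟩ :=
    Groth.Agent.Lib.Helper19.FSQuot.exists_derivation_of_isAdicFormallySmooth_quotient
      (maximalIdeal B') (RingHom.ker (algebraMap B' C')) K hJ hI hC
  exact injective_lTensor_of_derivation K D' hD'

section ThmX

variable {A B C : Type u} [CommRing A] [CommRing B] [CommRing C]
  [Algebra A B] [Algebra B C] [Algebra A C] [IsScalarTower A B C]

/-- A local ring which is formally smooth after localizing at its maximal ideal is formally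
smooth. -/
theorem formallySmooth_of_localization_maximalIdeal {A R : Type u} [CommRing A] [CommRing R]
    [Algebra A R] [IsLocalRing R]
    [Algebra.FormallySmooth A (Localization.AtPrime (maximalIdeal R))] :
    Algebra.FormallySmooth A R := by
  have hle : (maximalIdeal R).primeCompl ≤ IsUnit.submonoid R := by
    intro x hx
    exact (IsLocalRing.notMem_maximalIdeal.mp hx)
  let e : R ≃ₐ[R] Localization.AtPrime (maximalIdeal R) :=
    IsLocalization.atUnits R (maximalIdeal R).primeCompl hle
  exact Algebra.FormallySmooth.of_equiv (e.restrictScalars A).symm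

/-- **Adic formal smoothness implies discrete formal smoothness** for local rings of quotients of
Noetherian formally smooth algebras. -/
theorem formallySmooth_of_isAdicFormallySmooth [IsNoetherianRing B] [Algebra.FormallySmooth A B]
    (hsurj : Function.Surjective (algebraMap B C)) (p : Ideal C) [p.IsPrime]
    (h : CAlgX.IsAdicFormallySmooth A (Localization.AtPrime p)
      (maximalIdeal (Localization.AtPrime p))) :
    Algebra.FormallySmooth A (Localization.AtPrime p) := by
  let q' : Ideal B := p.comap (algebraMap B C)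
  let B' := Localization.AtPrime q'
  let Cp := Localization.AtPrime p
  letI algB'Cp : Algebra B' Cp :=
    (Localization.localRingHom q' p (algebraMap B C) rfl).toAlgebra
  have halg : ∀ x : B', algebraMap B' Cp x =
      Localization.localRingHom q' p (algebraMap B C) rfl x := fun _ => rfl
  haveI : IsScalarTower B B' Cp := by
    refine IsScalarTower.of_algebraMap_eq fun b => ?_
    rw [halg, Localization.localRingHom_to_map, ← IsScalarTower.algebraMap_apply]
  haveI : IsScalarTower A B' Cp := by
    refine IsScalarTower.of_algebraMap_eq fun a => ?_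
    rw [IsScalarTower.algebraMap_apply A B B', ← IsScalarTower.algebraMap_apply B B' Cp,
      ← IsScalarTower.algebraMap_apply A B Cp]
  have hsurj' : Function.Surjective (algebraMap B' Cp) := by
    intro x
    obtain ⟨c, ⟨s, hs⟩, rfl⟩ := IsLocalization.exists_mk'_eq p.primeCompl x
    obtain ⟨b, rfl⟩ := hsurj c
    obtain ⟨t, rfl⟩ := hsurj s
    refine ⟨IsLocalization.mk' B' b (⟨t, hs⟩ : q'.primeCompl), ?_⟩
    rw [halg, Localization.localRingHom_mk']
  haveI : Algebra.FormallySmooth B B' := Algebra.FormallySmooth.of_isLocalization q'.primeCompl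
  haveI : Algebra.FormallySmooth A B' := Algebra.FormallySmooth.comp A B B'
  haveI : Module.Finite B' (RingHom.ker (algebraMap B' Cp)).Cotangent :=
    Module.Finite.of_surjective (RingHom.ker (algebraMap B' Cp)).toCotangent
      (Ideal.toCotangent_surjective _)
  let p' : Ideal Cp := maximalIdeal Cp
  have hK : maximalIdeal Cp ≤ RingHom.ker (algebraMap Cp p'.ResidueField) := by
    intro x hx
    rw [RingHom.mem_ker]
    exact (Ideal.algebraMap_residueField_eq_zero (I := p')).mpr hx
  have h2 := injective_of_isAdicFormallySmooth_local (A := A) hsurj' p'.ResidueField hK h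
  have h1 := ((Groth.Agent.Lib.Helper6.FSLoc2.main2463 (A := A) hsurj' p').out 1 0).mp h2
  haveI := h1
  exact formallySmooth_of_localization_maximalIdeal

end ThmX

section Main4606

variable {A B C : Type u} [CommRing A] [CommRing B] [CommRing C]
  [Algebra A B] [Algebra B C] [Algebra A C] [IsScalarTower A B C]

theorem main4606 [IsNoetherianRing B] [Algebra.FormallySmooth A B]
    (hsurj : Function.Surjective (algebraMap B C)) (p : Ideal C) [p.IsPrime]
    [Algebra (Localization.AtPrime (p.comap (algebraMap A C))) (Localization.AtPrime p)]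
    [IsScalarTower A (Localization.AtPrime (p.comap (algebraMap A C))) (Localization.AtPrime p)] :
    CAlgX.IsAdicFormallySmooth (Localization.AtPrime (p.comap (algebraMap A C)))
        (Localization.AtPrime p) (maximalIdeal (Localization.AtPrime p)) ↔
      Function.Injective ((kerCotangentToTensor A B C).lTensor p.ResidueField) := by
  haveI : Module.Finite B (RingHom.ker (algebraMap B C)).Cotangent :=
    Module.Finite.of_surjective (RingHom.ker (algebraMap B C)).toCotangent
      (Ideal.toCotangent_surjective _)
  haveI : Algebra.FormallySmooth A (Localization.AtPrime (p.comap (algebraMap A C))) :=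
    Algebra.FormallySmooth.of_isLocalization (p.comap (algebraMap A C)).primeCompl
  constructor
  · intro h
    have h' := isAdicFormallySmooth_of_tower (A := A) _ h
    haveI := formallySmooth_of_isAdicFormallySmooth hsurj p h'
    exact ((Groth.Agent.Lib.Helper6.FSLoc2.main2463 (A := A) hsurj p).out 0 1).mp ‹_›
  · intro h
    haveI : Algebra.FormallySmooth A (Localization.AtPrime p) :=
      ((Groth.Agent.Lib.Helper6.FSLoc2.main2463 (A := A) hsurj p).out 1 0).mp h
    haveI : Algebra.FormallyUnramified A (Localization.AtPrime (p.comap (algebraMap A C))) :=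
      Algebra.FormallyUnramified.of_isLocalization (p.comap (algebraMap A C)).primeCompl
    haveI : Algebra.FormallySmooth (Localization.AtPrime (p.comap (algebraMap A C)))
        (Localization.AtPrime p) :=
      Algebra.FormallySmooth.of_restrictScalars A _ _
    exact Groth.Agent.Lib.Helper6.FSReg.isAdicFormallySmooth_of_formallySmooth _ _ _

end Main4606

end Groth.Agent.Lib.Helper6.FSLoc3
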