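import Mathlib
import Groth.Agent.Lib.Helper6FSLoc
import Groth.Agent.Lib.Helper6FSLoc2
import Groth.Agent.Lib.Helper6FSLoc3
import Groth.Agent.Lib.Helper6FSReg
import Groth.Agent.Lib.Helper19FSFlat
import Groth.Agent.Lib.Helper19FSGeomReg
import Groth.Agent.Lib.Helper19GRLoc

set_option autoImplicit false

open TensorProduct KaehlerDifferential IsLocalRing

namespace Groth.Agent.Lib.Helper6.FSLoc4

universe u

section Field

variable {k₀ k C : Type u} [Field k₀] [Field k] [Algebra k₀ k]
  [Algebra.FormallySmooth k₀ k] [CommRing C] [Algebra k C] [Algebra k₀ C] [IsScalarTower k₀ k C]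
  [Algebra.FiniteType k C]

include k in
/-- Presentation data: a Noetherian formally smooth `k₀`-algebra surjecting onto `C`. -/
theorem exists_presentation :
    ∃ (B : Type u) (_ : CommRing B) (_ : Algebra k₀ B) (_ : Algebra B C)
      (_ : IsScalarTower k₀ B C) (_ : IsNoetherianRing B) (_ : Algebra.FormallySmooth k₀ B),
      Function.Surjective (algebraMap B C) := by
  obtain ⟨n, f, hf⟩ := Algebra.FiniteType.iff_quotient_mvPolynomial''.mp ‹Algebra.FiniteType k C›
  letI : Algebra (MvPolynomial (Fin n) k) C := f.toRingHom.toAlgebra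
  haveI : IsScalarTower k (MvPolynomial (Fin n) k) C :=
    IsScalarTower.of_algebraMap_eq fun a => (f.commutes a).symm
  haveI : IsScalarTower k₀ (MvPolynomial (Fin n) k) C := by
    refine IsScalarTower.of_algebraMap_eq fun a => ?_
    rw [IsScalarTower.algebraMap_apply k₀ k C, IsScalarTower.algebraMap_apply k₀ k
      (MvPolynomial (Fin n) k), ← IsScalarTower.algebraMap_apply k (MvPolynomial (Fin n) k) C]
  haveI : Algebra.FormallySmooth k₀ (MvPolynomial (Fin n) k) :=
    Algebra.FormallySmooth.comp k₀ k _
  exact ⟨MvPolynomial (Fin n) k, inferInstance, inferInstance, inferInstance, inferInstance,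
    inferInstance, inferInstance, hf⟩

include k in
theorem isNoetherianRing_of_finiteType : IsNoetherianRing C :=
  Algebra.FiniteType.isNoetherianRing k C

include k in
theorem main4578 (p : Ideal C) [p.IsPrime] :
    [Algebra.FormallySmooth k₀ (Localization.AtPrime p),
     CAlgX.IsAdicFormallySmooth k₀ (Localization.AtPrime p) (maximalIdeal (Localization.AtPrime p)),
     ∃ f : C, f ∉ p ∧ Algebra.FormallySmooth k₀ (Localization.Away f),
     CAlg.IsGeometricallyRegular k₀ (Localization.AtPrime p)].TFAE := by
  obtain ⟨B, _, _, _, _, _, _, hsurj⟩ := exists_presentation (k₀ := k₀) (k := k) (C := C)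
  haveI : IsNoetherianRing C := isNoetherianRing_of_finiteType (k := k)
  haveI : Module.Finite B (RingHom.ker (algebraMap B C)).Cotangent :=
    Module.Finite.of_surjective (RingHom.ker (algebraMap B C)).toCotangent
      (Ideal.toCotangent_surjective _)
  have T := Groth.Agent.Lib.Helper6.FSLoc2.main2463 (A := k₀) hsurj p
  tfae_have 1 → 2 := fun h =>
    Groth.Agent.Lib.Helper6.FSReg.isAdicFormallySmooth_of_formallySmooth _ _ _
  tfae_have 2 → 1 := fun h =>
    Groth.Agent.Lib.Helper6.FSLoc3.formallySmooth_of_isAdicFormallySmooth hsurj p h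
  tfae_have 1 ↔ 3 := T.out 0 2
  tfae_have 2 → 4 := fun h =>
    (Groth.Agent.Lib.Helper19.FSGeomReg.isGeometricallyRegular_and_completion_of_isAdicFormallySmooth
      h).1
  tfae_have 4 → 2 := fun h =>
    Groth.Agent.Lib.Helper19.FSFlat.isAdicFormallySmooth_of_isGeometricallyRegular h
  tfae_finish

end Field

section GeomReg

variable {k₀ C : Type u} [Field k₀] [CommRing C] [Algebra k₀ C]

theorem isNoetherianRing_tensor_of_finite [IsNoetherianRing C] (k' : Type u) [Field k']
    [Algebra k₀ k'] [Module.Finite k₀ k'] : IsNoetherianRing (k' ⊗[k₀] C) := by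
  haveI : IsNoetherianRing (C ⊗[k₀] k') := IsNoetherianRing.of_finite C (C ⊗[k₀] k')
  exact isNoetherianRing_of_ringEquiv (C ⊗[k₀] k') (Algebra.TensorProduct.comm k₀ C k').toRingEquiv

theorem isGeometricallyRegular_of_formallySmooth [IsNoetherianRing C]
    [Algebra.FormallySmooth k₀ C] : CAlg.IsGeometricallyRegular k₀ C := by
  intro k' _ _ hfin
  haveI := hfin
  haveI := isNoetherianRing_tensor_of_finite (k₀ := k₀) (C := C) k'
  exact Groth.Agent.Lib.Helper6.FSReg.isRegularRing_of_formallySmooth k' (k' ⊗[k₀] C)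

theorem isGeometricallyRegular_localization (M : Submonoid C)
    (h : CAlg.IsGeometricallyRegular k₀ C) : CAlg.IsGeometricallyRegular k₀ (Localization M) := by
  intro k' _ _ hfin
  haveI : IsRegularRing (k' ⊗[k₀] C) := h k' hfin
  letI : Algebra (k' ⊗[k₀] C) (k' ⊗[k₀] Localization M) :=
    (Algebra.TensorProduct.map (AlgHom.id k' k')
      (IsScalarTower.toAlgHom k₀ C (Localization M))).toRingHom.toAlgebra
  haveI : IsScalarTower k' (k' ⊗[k₀] C) (k' ⊗[k₀] Localization M) :=
    IsScalarTower.of_algebraMap_eq fun a => by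
      change _ = (Algebra.TensorProduct.map (AlgHom.id k' k')
        (IsScalarTower.toAlgHom k₀ C (Localization M))) (algebraMap k' (k' ⊗[k₀] C) a)
      rw [AlgHom.commutes]
  haveI := IsLocalization.tensorProduct_tensorProduct_right k₀ k' M (Localization M) (by
    ext c
    change (Algebra.TensorProduct.map (AlgHom.id k' k')
        (IsScalarTower.toAlgHom k₀ C (Localization M))) (1 ⊗ₜ c) = 1 ⊗ₜ (algebraMap C _ c)
    simp)
  exact Groth.Agent.Lib.Helper19.GR.isRegularRing_of_isLocalization
    (M.map (Algebra.TensorProduct.includeRight (R := k₀) (A := k')))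

end GeomReg

section Main4579

variable {k₀ k C : Type u} [Field k₀] [Field k] [Algebra k₀ k]
  [Algebra.FormallySmooth k₀ k] [CommRing C] [Algebra k C] [Algebra k₀ C] [IsScalarTower k₀ k C]
  [Algebra.FiniteType k C]

include k in
theorem main4579 :
    [Algebra.FormallySmooth k₀ C,
     ∀ (p : Ideal C) [p.IsPrime], Algebra.FormallySmooth k₀ (Localization.AtPrime p),
     ∀ (m : Ideal C) [m.IsMaximal], Algebra.FormallySmooth k₀ (Localization.AtPrime m),
     CAlg.IsGeometricallyRegular k₀ C].TFAE := by
  obtain ⟨B, _, _, _, _, _, _, hsurj⟩ := exists_presentation (k₀ := k₀) (k := k) (C := C)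
  haveI : IsNoetherianRing C := isNoetherianRing_of_finiteType (k := k)
  haveI : Module.Finite B (RingHom.ker (algebraMap B C)).Cotangent :=
    Module.Finite.of_surjective (RingHom.ker (algebraMap B C)).toCotangent
      (Ideal.toCotangent_surjective _)
  tfae_have 1 → 2 := fun h p _ =>
    Groth.Agent.Lib.Helper6.FSLoc.formallySmooth_localization_of_formallySmooth p.primeCompl
  tfae_have 2 → 3 := fun h m _ => h m
  tfae_have 3 → 1 := fun h =>
    Groth.Agent.Lib.Helper6.FSLoc.formallySmooth_of_forall_isMaximal hsurj h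
  tfae_have 1 → 4 := fun h => isGeometricallyRegular_of_formallySmooth
  tfae_have 4 → 2 := fun h p _ =>
    ((main4578 (k₀ := k₀) (k := k) p).out 3 0).mp (isGeometricallyRegular_localization _ h)
  tfae_finish

end Main4579

end Groth.Agent.Lib.Helper6.FSLoc4
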