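import Mathlib
import Groth.Prelude.Def_CurvBase
import Groth.Prelude.Def_Found
import Groth.Agent.Lib.Helper5FiberStalk
import Groth.Prelude.Def_EGA43
import Groth.Prelude.Def_FDesc
import Groth.Agent.Lib.Helper6FSLoc4
import Groth.Agent.Lib.Helper6HomBC
import Groth.Agent.Lib.Helper6BcBridge
import Groth.Agent.Lib.Helper6BcRed
import Groth.Agent.Lib.Helper7ExcDim1
import Groth.Agent.Lib.Helper22VC15
import Groth.Agent.Lib.Helper20SmoothFiberSch
import Groth.Agent.Lib.Helper5FibSmConstr
import Groth.Agent.Lib.Helper19SmoothNhd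
import Groth.Agent.Lib.Helper7UnivOpen
import Groth.Agent.S4926
set_option autoImplicit false
set_option linter.style.haveILetI false
universe u

namespace Groth.Agent.Lib.Helper3.SmUO

open CategoryTheory Limits AlgebraicGeometry IsLocalRing
open Groth.Agent.Lib.Helper5.FiberStalk

variable {X Y : Scheme.{u}} (f : X ⟶ Y) (x : X)

theorem toFiber_closedPoint_eq : toFiber f x (closedPoint (Q f x)) = f.asFiber x :=
  (f.fiberι (f x)).isEmbedding.injective
    ((fiberι_toFiber_closedPoint f x).trans (f.fiberι_asFiber x).symm)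

theorem toFiber_snd : toFiber f x ≫ f.fiberToSpecResidueField (f x) = Spec.map (toQ f x) :=
  pullback.lift_snd _ _ _

/-- the fibre as a scheme over the residue field -/
noncomputable abbrev fibOver (y : Y) :
    (f.fiber y).Over (Spec (CommRingCat.of (Y.residueField y))) :=
  ⟨f.fiberToSpecResidueField y⟩

attribute [local instance] fibOver

/-- compatibility of the stalk iso with the structure maps from the residue field -/
theorem stalkMap_stalkClosedPointTo_toFiber :
    CommRingCat.ofHom (Curv2.stalkMap (Y.residueField (f x)) (f.fiber (f x))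
        (toFiber f x (closedPoint (Q f x)))) ≫ Scheme.stalkClosedPointTo (toFiber f x) =
      toQ f x := by
  have h1 : CommRingCat.ofHom (Curv2.stalkMap (Y.residueField (f x)) (f.fiber (f x))
        (toFiber f x (closedPoint (Q f x)))) =
      (Scheme.ΓSpecIso (CommRingCat.of (Y.residueField (f x)))).inv ≫
        (f.fiberToSpecResidueField (f x)).appTop ≫
        (f.fiber (f x)).presheaf.germ ⊤ (toFiber f x (closedPoint (Q f x))) trivial := by
    ext c
    rfl
  rw [h1]
  simp only [Category.assoc]
  rw [Scheme.germ_stalkClosedPointTo]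
  have h2 : (f.fiberToSpecResidueField (f x)).appTop ≫ (toFiber f x).app ⊤ =
      (Spec.map (toQ f x)).appTop := by
    rw [← toFiber_snd]
    rfl
  rw [reassoc_of% h2]
  simp only [Iso.trans_hom, Functor.mapIso_hom, Iso.op_hom, eqToIso.hom, eqToHom_op]
  change _ ≫ _ ≫ (Spec (Q f x)).presheaf.map (𝟙 _) ≫ _ = _
  rw [CategoryTheory.Functor.map_id, Category.id_comp, Scheme.ΓSpecIso_naturality]
  exact Iso.inv_hom_id_assoc (Scheme.ΓSpecIso (Y.residueField (f x))) _

/-- the `κ(f x)`-algebra structure on `O_{X,x} ⧸ 𝔪 O_{X,x}` used in S5028 -/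
noncomputable abbrev algQ : Algebra (Y.residueField (f x))
    (X.presheaf.stalk x ⧸ (maximalIdeal (Y.presheaf.stalk (f x))).map (f.stalkMap x).hom) :=
  (Ideal.quotientMap ((maximalIdeal (Y.presheaf.stalk (f x))).map (f.stalkMap x).hom)
    (f.stalkMap x).hom Ideal.le_comap_map).toAlgebra

attribute [local instance] algQ Curv2.stalkAlgebra

/-- the stalk of the fibre at `x` is `O_{X,x} ⧸ 𝔪 O_{X,x}`, as algebras over the residue field -/
theorem nonempty_stalk_asFiber_algEquiv :
    Nonempty ((f.fiber (f x)).presheaf.stalk (f.asFiber x) ≃ₐ[Y.residueField (f x)]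
      (X.presheaf.stalk x ⧸ (maximalIdeal (Y.presheaf.stalk (f x))).map (f.stalkMap x).hom)) := by
  rw [← toFiber_closedPoint_eq]
  refine ⟨{ RingEquiv.ofBijective (Scheme.stalkClosedPointTo (toFiber f x)).hom
      ⟨stalkClosedPointTo_toFiber_injective f x, stalkClosedPointTo_toFiber_surjective f x⟩ with
    commutes' := fun c => ?_ }⟩
  have := congrArg (fun φ => φ.hom c) (stalkMap_stalkClosedPointTo_toFiber f x)
  exact this

section P3

open Groth.Agent.Lib.Helper6.BcBridge

variable {k : Type u} [Field k]

/-- the canonical map from a field to the stalk of its spectrum at a point is bijective -/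
theorem bijective_toStalk_field (p : Spec (CommRingCat.of k)) :
    Function.Bijective ((Scheme.ΓSpecIso (CommRingCat.of k)).inv ≫
      (Spec (CommRingCat.of k)).presheaf.germ ⊤ p trivial).hom := by
  have h1 : ((Scheme.ΓSpecIso (CommRingCat.of k)).inv ≫
      (Spec (CommRingCat.of k)).presheaf.germ ⊤ p trivial) ≫
      (Spec.stalkIso (CommRingCat.of k) p).hom =
      CommRingCat.ofHom (algebraMap k (Localization.AtPrime p.asIdeal)) := by
    rw [Category.assoc, Spec.germ_stalkMapIso_hom, Iso.inv_hom_id_assoc]
  have h2 : Function.Bijective (algebraMap k (Localization.AtPrime p.asIdeal)) := by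
    have e : k ≃ₐ[k] Localization.AtPrime p.asIdeal :=
      IsLocalization.atUnits k p.asIdeal.primeCompl (fun a ha => by
        have : a ≠ 0 := fun h => ha (h ▸ p.asIdeal.zero_mem)
        exact (isUnit_iff_ne_zero.mpr this))
    have he : (algebraMap k (Localization.AtPrime p.asIdeal)) = e.toRingEquiv.toRingHom := by
      ext a
      exact (e.commutes a).symm
    rw [he]
    exact e.toRingEquiv.bijective
  have h3 : ((Scheme.ΓSpecIso (CommRingCat.of k)).inv ≫
      (Spec (CommRingCat.of k)).presheaf.germ ⊤ p trivial) =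
      CommRingCat.ofHom (algebraMap k (Localization.AtPrime p.asIdeal)) ≫
        (Spec.stalkIso (CommRingCat.of k) p).inv := by
    rw [← h1, Category.assoc, Iso.hom_inv_id, Category.comp_id]
  rw [h3, CommRingCat.hom_comp]
  exact (ConcreteCategory.bijective_of_isIso (Spec.stalkIso (CommRingCat.of k) p).inv).comp h2

variable {Z : Scheme.{u}} [Z.Over (Spec (CommRingCat.of k))]

attribute [local instance] Curv2.stalkAlgebra

/-- formal smoothness of the stalk map of the structure morphism is formal smoothness of the
stalk as a `k`-algebra -/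
theorem formallySmooth_stalkMap_iff_algebra (z : Z) :
    ((Z ↘ Spec (CommRingCat.of k)).stalkMap z).hom.FormallySmooth ↔
      Algebra.FormallySmooth k (Z.presheaf.stalk z) := by
  rw [← RingHom.formallySmooth_algebraMap]
  set φ := (Z ↘ Spec (CommRingCat.of k)) with hφ
  have h1 : CommRingCat.ofHom (algebraMap k (Z.presheaf.stalk z)) =
      ((Scheme.ΓSpecIso (CommRingCat.of k)).inv ≫
        (Spec (CommRingCat.of k)).presheaf.germ ⊤ (φ z) trivial) ≫ φ.stalkMap z := by
    rw [Category.assoc, Scheme.Hom.germ_stalkMap]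
    ext c
    rfl
  have hb := bijective_toStalk_field (k := k) (φ z)
  haveI : IsIso ((Scheme.ΓSpecIso (CommRingCat.of k)).inv ≫
      (Spec (CommRingCat.of k)).presheaf.germ ⊤ (φ z) trivial) :=
    (ConcreteCategory.isIso_iff_bijective _).mpr hb
  have h2 := RingHom.FormallySmooth.respectsIso.cancel_left_isIso
    ((Scheme.ΓSpecIso (CommRingCat.of k)).inv ≫
      (Spec (CommRingCat.of k)).presheaf.germ ⊤ (φ z) trivial) (φ.stalkMap z)
  have h3 : algebraMap k (Z.presheaf.stalk z) =
      (φ.stalkMap z).hom.comp ((Scheme.ΓSpecIso (CommRingCat.of k)).inv ≫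
        (Spec (CommRingCat.of k)).presheaf.germ ⊤ (φ z) trivial).hom := by
    have := congrArg CommRingCat.Hom.hom h1
    rw [CommRingCat.hom_comp] at this
    exact this
  rw [h3]
  exact h2.symm

/-- for a scheme locally of finite type over a field, a local ring is geometrically regular iff
it is formally smooth over the field -/
theorem geomRegular_stalk_iff_formallySmooth
    [LocallyOfFiniteType (Z ↘ Spec (CommRingCat.of k))] (z : Z) :
    CAlg.IsGeometricallyRegular k (Z.presheaf.stalk z) ↔
      Algebra.FormallySmooth k (Z.presheaf.stalk z) := by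
  obtain ⟨C, _, _, ι, _, hι, z', rfl⟩ := exists_chart k Z z
  let e := stalkAlgEquiv k Z ι hι z'
  haveI : Algebra.FiniteType k C := by
    have h1 : LocallyOfFiniteType (ι ≫ (Z ↘ Spec (CommRingCat.of k))) := inferInstance
    rw [hι] at h1
    have h2 : (CommRingCat.ofHom (algebraMap k C)).hom.FiniteType :=
      HasRingHomProperty.Spec_iff.mp h1
    exact RingHom.finiteType_algebraMap.mp h2
  have T := Groth.Agent.Lib.Helper6.FSLoc4.main4578 (k₀ := k) (k := k) (C := C) z'.asIdeal
  have h03 := T.out 0 3
  constructor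
  · intro h
    have h1 := Groth.Agent.Lib.Helper6.HomBC.geomRegular_of_algEquiv e h
    haveI := h03.mpr h1
    exact Algebra.FormallySmooth.of_equiv e.symm
  · intro h
    haveI := h
    haveI : Algebra.FormallySmooth k (Localization.AtPrime z'.asIdeal) :=
      Algebra.FormallySmooth.of_equiv e
    exact Groth.Agent.Lib.Helper6.HomBC.geomRegular_of_algEquiv e.symm (h03.mp inferInstance)

end P3

section Main

open Groth.Agent.Lib.Helper6.BcBridge

attribute [local instance] Curv2.stalkAlgebra

/-- geometric regularity of a local ring implies geometric reducedness at the point -/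
theorem isGeomReducedAt_of_geomRegular {k : Type u} [Field k] {Z : Scheme.{u}}
    (φ : Z ⟶ Spec (CommRingCat.of k)) (z : Z)
    (h : letI : Z.Over (Spec (CommRingCat.of k)) := ⟨φ⟩
      CAlg.IsGeometricallyRegular k (Z.presheaf.stalk z)) :
    FBase.IsGeomReducedAt φ z := by
  letI : Z.Over (Spec (CommRingCat.of k)) := ⟨φ⟩
  haveI := Groth.Agent.Lib.Helper7.ExcDim1.isGeometricallyReduced_of_isGeometricallyRegular k
    (Z.presheaf.stalk z) h
  have h2 := Groth.Agent.Lib.Helper6.BcRed.isGeomReducedAt_of_isGeometricallyReduced_stalk k Z z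
  exact fun K _ _ x' hx' => h2 K x' hx'

theorem formallySmooth_stalkMap_congr_pt {X Y : Scheme.{u}} (f : X ⟶ Y) {x x' : X} (h : x = x')
    (hx : (f.stalkMap x).hom.FormallySmooth) : (f.stalkMap x').hom.FormallySmooth := by
  subst h; exact hx

theorem flat_stalkMap_congr_pt {X Y : Scheme.{u}} (f : X ⟶ Y) {x x' : X} (h : x = x')
    (hx : (f.stalkMap x).hom.Flat) : (f.stalkMap x').hom.Flat := by
  subst h; exact hx

end Main

end Groth.Agent.Lib.Helper3.SmUO
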