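import Mathlib
import Groth.Prelude.Def_SGA1
import Groth.Agent.Lib.Helper3HenselLF
import Groth.Agent.Lib.Helper3Branch

/-!
# Quasi-finite points over a henselian local base (helper3)
-/

set_option autoImplicit false
set_option linter.style.haveILetI false
universe u

open CategoryTheory CategoryTheory.Limits AlgebraicGeometry IsLocalRing

namespace Groth.Agent.Lib.Helper3.SubmA

/-- a finite Jacobson `T0` space is discrete. -/
theorem discreteTopology_of_finite_jacobson (X : Type*) [TopologicalSpace X] [Finite X]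
    [JacobsonSpace X] : DiscreteTopology X := by
  haveI : T1Space X := by
    refine ⟨fun z => ?_⟩
    have h1 := JacobsonSpace.closure_inter_closedPoints (isClosed_closure (s := ({z} : Set X)))
    have hfin : (closure ({z} : Set X) ∩ closedPoints X).Finite := Set.toFinite _
    have hcl : IsClosed (closure ({z} : Set X) ∩ closedPoints X) := by
      rw [← Set.biUnion_of_singleton (closure ({z} : Set X) ∩ closedPoints X)]
      exact hfin.isClosed_biUnion fun y hy => hy.2
    rw [hcl.closure_eq] at h1
    have hz : z ∈ closure ({z} : Set X) ∩ closedPoints X := by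
      rw [h1]; exact subset_closure rfl
    exact hz.2
  infer_instance

/-- ring form of quasi-finiteness at a point of a morphism of affine schemes. -/
theorem quasiFiniteAt_specMap {R S : CommRingCat.{u}} (φ : R ⟶ S) (x : Spec S)
    (h : (Spec.map φ).QuasiFiniteAt x) :
    letI := φ.hom.toAlgebra
    Algebra.QuasiFiniteAt R x.asIdeal := by
  algebraize [φ.hom]
  let := Localization.AtPrime.algebraOfLiesOver (x.asIdeal.under R) x.asIdeal
  have h1 : Algebra.QuasiFinite (Localization.AtPrime (x.asIdeal.under R))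
      (Localization.AtPrime x.asIdeal) := by
    rw [← RingHom.quasiFinite_algebraMap]
    exact (RingHom.QuasiFinite.respectsIso.arrow_mk_iso_iff
      (Scheme.arrowStalkMapSpecIso ..)).mp h
  exact .trans _ (Localization.AtPrime (x.asIdeal.under R)) _

/-- over a henselian local base, a point of the closed fibre at which a morphism locally of finite
type is quasi-finite has an affine neighbourhood (containing all its generizations) finite over the
base. -/
theorem exists_finite_nhd {A : Type u} [CommRing A] [HenselianLocalRing A] {S' : Scheme.{u}}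
    (g : S' ⟶ Spec (CommRingCat.of A)) [LocallyOfFiniteType g] (x : S')
    (hx : g x = closedPoint A) (hqf : g.QuasiFiniteAt x) :
    ∃ (B : Type u) (_ : CommRing B) (_ : Algebra A B) (_ : Module.Finite A B)
      (j : Spec (CommRingCat.of B) ⟶ S'),
      j ≫ g = Spec.map (CommRingCat.ofHom (algebraMap A B)) ∧
        ∀ t : S', t ⤳ x → t ∈ Set.range j := by
  obtain ⟨V, hV, hxV, -⟩ := exists_isAffineOpen_mem_and_subset (U := ⊤) (x := x) trivial
  let φ : CommRingCat.of A ⟶ Γ(S', V) := Spec.preimage (hV.fromSpec ≫ g)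
  have hφ : Spec.map φ = hV.fromSpec ≫ g := Spec.map_preimage _
  have hlft : LocallyOfFiniteType (Spec.map φ) := by rw [hφ]; infer_instance
  have hft : φ.hom.FiniteType := (HasRingHomProperty.Spec_iff (P := @LocallyOfFiniteType)).mp hlft
  let x' : Spec Γ(S', V) := hV.primeIdealOf ⟨x, hxV⟩
  have hfx' : hV.fromSpec x' = x := hV.fromSpec_primeIdealOf ⟨x, hxV⟩
  have hqf' : (Spec.map φ).QuasiFiniteAt x' := by
    rw [hφ, Scheme.Hom.quasiFiniteAt_comp_iff_of_isOpenImmersion, hfx']
    exact hqf
  have hqa := quasiFiniteAt_specMap φ x' hqf'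
  algebraize [φ.hom]
  haveI : x'.asIdeal.LiesOver (maximalIdeal A) := by
    constructor
    have h1 : (Spec.map φ) x' = closedPoint A := by
      rw [hφ, Scheme.Hom.comp_apply, hfx', hx]
    exact (congrArg PrimeSpectrum.asIdeal h1).symm
  haveI : Algebra.QuasiFiniteAt A x'.asIdeal := hqa
  obtain ⟨e, he, heq, hfin, -⟩ :=
    Groth.Agent.Lib.Helper3.Hensel.exists_idempotent_of_quasiFiniteAt (R := A) x'.asIdeal
  refine ⟨Γ(S', V) ⧸ Ideal.span {1 - e}, inferInstance, inferInstance, hfin,
    Spec.map (CommRingCat.ofHom (Ideal.Quotient.mk (Ideal.span {1 - e}))) ≫ hV.fromSpec, ?_, ?_⟩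
  · rw [Category.assoc, ← hφ, ← Spec.map_comp]
    rfl
  · intro t ht
    have htV : t ∈ V := ht.mem_open V.2 hxV
    let t' : Spec Γ(S', V) := hV.primeIdealOf ⟨t, htV⟩
    have hft' : hV.fromSpec t' = t := hV.fromSpec_primeIdealOf ⟨t, htV⟩
    have hsp : t' ⤳ x' := by
      rw [← hV.fromSpec.isOpenEmbedding.isInducing.specializes_iff, hft', hfx']
      exact ht
    have hle : t'.asIdeal ≤ x'.asIdeal := (PrimeSpectrum.le_iff_specializes t' x').mpr hsp
    have het : e ∉ t'.asIdeal := fun h => heq (hle h)
    have h1e : 1 - e ∈ t'.asIdeal := by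
      have : e * (1 - e) ∈ t'.asIdeal := by
        rw [mul_sub, mul_one, he.eq, sub_self]; exact t'.asIdeal.zero_mem
      exact (t'.isPrime.mem_or_mem this).resolve_left het
    have hrange : t' ∈ Set.range
        (Spec.map (CommRingCat.ofHom (Ideal.Quotient.mk (Ideal.span {1 - e})))) := by
      change t' ∈ Set.range (PrimeSpectrum.comap (Ideal.Quotient.mk (Ideal.span {1 - e})))
      rw [_root_.range_comap_of_surjective _ _ Ideal.Quotient.mk_surjective, Ideal.mk_ker]
      refine (PrimeSpectrum.mem_zeroLocus (t' : PrimeSpectrum Γ(S', V)) _).mpr ?_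
      change Ideal.span {1 - e} ≤ t'.asIdeal
      rw [Ideal.span_le]
      intro z hz
      rw [Set.mem_singleton_iff] at hz
      rw [hz]
      exact h1e
    obtain ⟨b, hb⟩ := hrange
    exact ⟨b, by rw [Scheme.Hom.comp_apply, hb, hft']⟩

/-- bundled form of `exists_finite_nhd`. -/
theorem exists_finite_nhd' {A : Type u} [CommRing A] [HenselianLocalRing A] {S' : Scheme.{u}}
    (g : S' ⟶ Spec (CommRingCat.of A)) [LocallyOfFiniteType g] (x : S')
    (hx : g x = closedPoint A) (hqf : g.QuasiFiniteAt x) :
    ∃ (B : CommRingCat.{u}) (ψ : CommRingCat.of A ⟶ B) (j : Spec B ⟶ S'),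
      ψ.hom.Finite ∧ j ≫ g = Spec.map ψ ∧ ∀ t : S', t ⤳ x → t ∈ Set.range j := by
  obtain ⟨B, _, _, hfin, j, hj, hr⟩ := exists_finite_nhd g x hx hqf
  refine ⟨CommRingCat.of B, CommRingCat.ofHom (algebraMap A B), j, ?_, hj, hr⟩
  exact RingHom.finite_algebraMap.mpr hfin

/-- a universally closed surjective morphism is universally submersive. -/
theorem univSubmersive_of_universallyClosed {X Y : Scheme.{u}} (f : X ⟶ Y) [UniversallyClosed f]
    [Surjective f] : SGA1.UnivSubmersive f := by
  intro X' Y' i₁ i₂ f' H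
  have h1 : IsClosedMap f' := UniversallyClosed.universally_isClosedMap _ _ _ H
  have h2 : Surjective f' := MorphismProperty.of_isPullback (P := @Surjective) H.flip inferInstance
  exact h1.isQuotientMap f'.continuous h2.surj

/-- finite families of finite morphisms from affine schemes to an affine scheme: the induced map
from the coproduct is finite. -/
theorem isFinite_sigmaDesc_specMap {ι : Type u} [Finite ι] (R : CommRingCat.{u})
    (B : ι → CommRingCat.{u}) (ψ : ∀ i, R ⟶ B i) (hψ : ∀ i, (ψ i).hom.Finite) :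
    IsFinite (Sigma.desc fun i => Spec.map (ψ i)) := by
  let Ψ : R ⟶ CommRingCat.of (Π i, B i) := CommRingCat.ofHom (RingHom.pi fun i => (ψ i).hom)
  have hfac : (Sigma.desc fun i => Spec.map (ψ i)) = sigmaSpec B ≫ Spec.map Ψ := by
    refine Sigma.hom_ext _ _ fun i => ?_
    rw [Sigma.ι_desc, ← Category.assoc, ι_sigmaSpec, ← Spec.map_comp]
    rfl
  have hΨ : Ψ.hom.Finite := by
    letI : ∀ i, Algebra R (B i) := fun i => (ψ i).hom.toAlgebra
    haveI : ∀ i, Module.Finite R (B i) := fun i => hψ i
    have : Module.Finite R (Π i, B i) := inferInstance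
    exact this
  haveI : IsFinite (Spec.map Ψ) := (IsFinite.SpecMap_iff Ψ).mpr hΨ
  rw [hfac]
  infer_instance

end Groth.Agent.Lib.Helper3.SubmA
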