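import Mathlib
import Groth.Agent.S0422
import Groth.Agent.Lib.Helper2Thick
import Groth.Agent.Lib.Helper26LimDescend
import Groth.Agent.Lib.Helper2FlatOver
/-!
# Flatness lifts along nil thickenings (ring level) — helper3

* `flat_quot_tensor_of_flat`: transport of flatness along a surjection `A → A₁` with kernel `J`
  and a semilinear surjection `N → N₁` with kernel `J N`.
* `flat_of_isPushout_nil`: CommRingCat form of Stacks 37.10 (flatness part): `R' → B' → C'` with
  `B'` f.t., `C'` f.p. flat over `R'`, `R' → R` surjective with nil kernel, `B = B' ⊗ R`,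
  `C = C' ⊗ R`; if `B → C` is flat then `B' → C'` is flat.
-/
set_option autoImplicit false
set_option linter.style.haveILetI false
universe u
open CategoryTheory Limits TensorProduct

namespace Groth.Agent.Lib.Helper3.ThickFlat

theorem flat_quot_tensor_of_flat {A A₁ N N₁ : Type u} [CommRing A] [CommRing A₁] [AddCommGroup N]
    [Module A N] [AddCommGroup N₁] [Module A₁ N₁]
    (π : A →+* A₁) (hπ : Function.Surjective π) (J : Ideal A) (hJ : RingHom.ker π = J)
    (p : N →+ N₁) (hp : Function.Surjective p) (hps : ∀ (a : A) (n : N), p (a • n) = π a • p n)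
    (hker : ∀ n, p n = 0 → n ∈ (J • ⊤ : Submodule A N))
    (hfl : Module.Flat A₁ N₁) : Module.Flat (A ⧸ J) ((A ⧸ J) ⊗[A] N) := by
  subst hJ
  let σ : (A ⧸ RingHom.ker π) ≃+* A₁ := RingHom.quotientKerEquivOfSurjective hπ
  letI : Module A N₁ := Module.compHom N₁ π
  let pₗ : N →ₗ[A] N₁ :=
    { toFun := p
      map_add' := p.map_add
      map_smul' := fun a n => hps a n }
  have hpₗ : Function.Surjective pₗ := hp
  have hk : (RingHom.ker π • ⊤ : Submodule A N) = LinearMap.ker pₗ := by
    apply le_antisymm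
    · rw [Submodule.smul_le]
      intro a ha n _
      rw [LinearMap.mem_ker]
      change p (a • n) = 0
      rw [hps, (RingHom.mem_ker).1 ha, zero_smul]
    · intro n hn
      exact hker n hn
  let e₁ : ((A ⧸ RingHom.ker π) ⊗[A] N) ≃ₗ[A] N ⧸ (RingHom.ker π • ⊤ : Submodule A N) :=
    TensorProduct.quotTensorEquivQuotSMul N (RingHom.ker π)
  let e₂ : (N ⧸ (RingHom.ker π • ⊤ : Submodule A N)) ≃ₗ[A] N₁ :=
    (Submodule.quotEquivOfEq _ _ hk).trans (pₗ.quotKerEquivOfSurjective hpₗ)
  let e : ((A ⧸ RingHom.ker π) ⊗[A] N) ≃+ N₁ := (e₁.trans e₂).toAddEquiv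
  refine (Groth.Agent.Lib.Helper2.FlatOver.flat_iff_of_semilinear_equiv σ e ?_).2 hfl
  intro q z
  obtain ⟨a, rfl⟩ := Ideal.Quotient.mk_surjective q
  have h1 : (Ideal.Quotient.mk (RingHom.ker π) a) • z = a • z := by
    rw [← Ideal.Quotient.algebraMap_eq, algebraMap_smul]
  rw [h1]
  change (e₁.trans e₂) (a • z) = σ (Ideal.Quotient.mk (RingHom.ker π) a) • (e₁.trans e₂) z
  rw [LinearEquiv.map_smul]
  rfl

theorem flat_of_isPushout_nil {R' R B' B C' C : CommRingCat.{u}} {ρ : R' ⟶ R} {β' : R' ⟶ B'}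
    {γ' : B' ⟶ C'} {δ' : R' ⟶ C'} {πB : B' ⟶ B} {βR : R ⟶ B} {πC : C' ⟶ C} {γR : R ⟶ C} {γ : B ⟶ C}
    (hδ : β' ≫ γ' = δ')
    (hpoB : IsPushout β' ρ πB βR) (hpoC : IsPushout δ' ρ πC γR)
    (h1 : πB ≫ γ = γ' ≫ πC)
    (hρ : Function.Surjective ρ.hom) (hnil : ∀ x ∈ RingHom.ker ρ.hom, IsNilpotent x)
    (hft : β'.hom.FiniteType) (hfp : δ'.hom.FinitePresentation) (hfl : δ'.hom.Flat)
    (hγ : γ.hom.Flat) : γ'.hom.Flat := by
  letI algRB : Algebra R' B' := β'.hom.toAlgebra
  letI algBC : Algebra B' C' := γ'.hom.toAlgebra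
  letI algRC : Algebra R' C' := δ'.hom.toAlgebra
  haveI tow : IsScalarTower R' B' C' := IsScalarTower.of_algebraMap_eq (fun x => by
    change δ'.hom x = γ'.hom (β'.hom x)
    rw [← hδ]; rfl)
  haveI : Algebra.FiniteType R' B' := hft
  haveI : Algebra.FinitePresentation R' C' := hfp
  haveI : Module.Flat R' C' := hfl
  set I : Ideal R' := RingHom.ker ρ.hom with hI
  set J : Ideal B' := I.map (algebraMap R' B') with hJ
  -- surjectivity of the projections
  have hπB : Function.Surjective πB.hom := by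
    refine Groth.Agent.Lib.Helper26.LimDescend.surjective_of_isPushout hpoB.flip ∅ ?_ (by simp)
    rw [Set.union_empty, Set.range_eq_univ.2 hρ, Subring.closure_univ]
  have hπC : Function.Surjective πC.hom := by
    refine Groth.Agent.Lib.Helper26.LimDescend.surjective_of_isPushout hpoC.flip ∅ ?_ (by simp)
    rw [Set.union_empty, Set.range_eq_univ.2 hρ, Subring.closure_univ]
  -- the kernels
  have hkB : RingHom.ker πB.hom = J := by
    apply le_antisymm
    · exact Groth.Agent.Lib.Helper2.Thick.ker_le_map hpoB hρ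
    · rw [hJ, Ideal.map_le_iff_le_comap]
      intro x hx
      rw [Ideal.mem_comap, RingHom.mem_ker]
      have hw := congr($(hpoB.w).hom x)
      change πB.hom (β'.hom x) = βR.hom (ρ.hom x) at hw
      change πB.hom (β'.hom x) = 0
      rw [hw, (RingHom.mem_ker).1 hx, map_zero]
  have hkC : RingHom.ker πC.hom ≤ I.map δ'.hom :=
    Groth.Agent.Lib.Helper2.Thick.ker_le_map hpoC hρ
  letI modBC : Module B C := Module.compHom C γ.hom
  have hflat : Module.Flat B C := by
    have := hγ
    exact this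
  have key : Module.Flat (B' ⧸ J) ((B' ⧸ J) ⊗[B'] C') := by
    refine flat_quot_tensor_of_flat (N₁ := C) πB.hom hπB J hkB πC.hom.toAddMonoidHom hπC ?_ ?_ hflat
    · intro b c
      change πC.hom (γ'.hom b * c) = γ.hom (πB.hom b) * πC.hom c
      rw [map_mul]
      congr 1
      exact (congr($(h1).hom b)).symm
    · intro c hc
      have h2 : c ∈ I.map δ'.hom := hkC ((RingHom.mem_ker).2 hc)
      have h3 : I.map δ'.hom = J.map (algebraMap B' C') := by
        rw [hJ, Ideal.map_map]
        congr 1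
        rw [← hδ]; rfl
      rw [h3] at h2
      rw [Ideal.smul_top_eq_map]
      exact h2
  exact Groth.Agent.S0422.result (R := R') (S := B') (S' := C') (M := C') I hnil key

end Groth.Agent.Lib.Helper3.ThickFlat
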