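import Mathlib
import Groth.Agent.S1381
import Groth.Agent.Lib.Helper2Thick
import Groth.Agent.Lib.Helper1Thickening
import Groth.Agent.Lib.Helper6LfpComp
/-!
# Deformation of properties of morphisms along arbitrary thickenings (helper3)

Setting (Stacks 37.10): `iS : S ⟶ S'` a thickening, `X' ⟶ Y' ⟶ S'` with `X'` flat and locally of
finite presentation over `S'`, `Y'` locally of finite type over `S'`, and `X ⟶ Y ⟶ S` the base
change.  Then flat / étale / open immersion / isomorphism lift from `f` to `f'`.
-/
set_option autoImplicit false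
set_option linter.style.haveILetI false
universe u
open CategoryTheory Limits AlgebraicGeometry

namespace Groth.Agent.Lib.Helper3.ThickDeform

variable {X X' Y Y' S S' : Scheme.{u}} (iX : X ⟶ X') (iY : Y ⟶ Y') (iS : S ⟶ S')
    (f : X ⟶ Y) (f' : X' ⟶ Y') (g : Y ⟶ S) (g' : Y' ⟶ S')

include g g' in
theorem isPullback_top (hcX : IsPullback iX (f ≫ g) (f' ≫ g') iS) (hcY : IsPullback iY g g' iS)
    (w : iX ≫ f' = f ≫ iY) : IsPullback iX f f' iY := IsPullback.of_bot hcX w hcY

theorem isThickening_of_isPullback {T T' Z Z' : Scheme.{u}} {iT : T ⟶ T'} {iZ : Z ⟶ Z'}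
    {h : T ⟶ Z} {h' : T' ⟶ Z'} (hc : IsPullback iT h h' iZ) (hZ : MoreMor.IsThickening iZ) :
    MoreMor.IsThickening iT :=
  ⟨MorphismProperty.of_isPullback (P := @IsClosedImmersion) hc.flip hZ.1,
    MorphismProperty.of_isPullback (P := @Surjective) hc.flip hZ.2⟩

variable (hS : MoreMor.IsThickening iS) (hcX : IsPullback iX (f ≫ g) (f' ≫ g') iS)
    (hcY : IsPullback iY g g' iS) (w : iX ≫ f' = f ≫ iY)

include hS hcX hcY w

theorem lfp' [LocallyOfFinitePresentation (f' ≫ g')] [LocallyOfFiniteType g'] :
    LocallyOfFinitePresentation f' :=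
  Groth.Agent.Lib.Helper6.locallyOfFinitePresentation_of_comp (g := g') inferInstance inferInstance

theorem flat' [Flat (f' ≫ g')] [LocallyOfFinitePresentation (f' ≫ g')] [LocallyOfFiniteType g']
    [Flat f] : Flat f' :=
  (Groth.Agent.S1381.result iX iY iS f f' g g' hS hcX hcY w).1 inferInstance

theorem fu' [LocallyOfFinitePresentation (f' ≫ g')] [LocallyOfFiniteType g']
    [FormallyUnramified f] : FormallyUnramified f' := by
  haveI := lfp' iX iY iS f f' g g' hS hcX hcY w
  exact Groth.Agent.Lib.Helper2.Thick.fu_of_thick iX iY f f'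
    (isThickening_of_isPullback hcY hS) (isPullback_top iX iY iS f f' g g' hcX hcY w)

theorem etale' [Flat (f' ≫ g')] [LocallyOfFinitePresentation (f' ≫ g')] [LocallyOfFiniteType g']
    [Etale f] : Etale f' := by
  haveI := lfp' iX iY iS f f' g g' hS hcX hcY w
  haveI := flat' iX iY iS f f' g g' hS hcX hcY w
  haveI := fu' iX iY iS f f' g g' hS hcX hcY w
  exact Etale.of_formallyUnramified_of_flat f'

theorem surjective' [Surjective f] : Surjective f' := by
  have hY := isThickening_of_isPullback hcY hS
  haveI : Surjective iY := hY.2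
  constructor
  intro y'
  obtain ⟨y, rfl⟩ := iY.surjective y'
  obtain ⟨x, rfl⟩ := f.surjective y
  exact ⟨iX x, congr($(w) x)⟩

theorem universallyInjective' [UniversallyInjective f] : UniversallyInjective f' := by
  have hY := isThickening_of_isPullback hcY hS
  have hX := isThickening_of_isPullback (isPullback_top iX iY iS f f' g g' hcX hcY w) hY
  haveI : IsClosedImmersion iY := hY.1
  haveI : Surjective iX := hX.2
  haveI : UniversallyInjective (iX ≫ f') := by
    rw [w]
    haveI : UniversallyInjective iY := inferInstance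
    exact MorphismProperty.comp_mem (W := @UniversallyInjective) f iY inferInstance inferInstance
  exact Groth.Agent.Lib.Helper1.universallyInjective_of_comp_surjective iX f'

theorem isOpenImmersion' [Flat (f' ≫ g')] [LocallyOfFinitePresentation (f' ≫ g')]
    [LocallyOfFiniteType g'] [IsOpenImmersion f] : IsOpenImmersion f' := by
  haveI := lfp' iX iY iS f f' g g' hS hcX hcY w
  haveI := flat' iX iY iS f f' g g' hS hcX hcY w
  haveI := fu' iX iY iS f f' g g' hS hcX hcY w
  haveI := universallyInjective' iX iY iS f f' g g' hS hcX hcY w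
  haveI : Surjective (pullback.diagonal f') := (UniversallyInjective.iff_diagonal f').1 inferInstance
  haveI : IsOpenImmersion (pullback.diagonal f') := inferInstance
  haveI : IsIso (pullback.diagonal f') := by
    rw [isIso_iff_isOpenImmersion_and_epi_base]
    refine ⟨inferInstance, ?_⟩
    rw [TopCat.epi_iff_surjective]
    exact (pullback.diagonal f').surjective
  haveI : Mono f' := (pullback.isIso_diagonal_iff f').1 inferInstance
  exact IsOpenImmersion.of_flat_of_mono f'

theorem isIso' [Flat (f' ≫ g')] [LocallyOfFinitePresentation (f' ≫ g')]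
    [LocallyOfFiniteType g'] [IsIso f] : IsIso f' := by
  haveI := isOpenImmersion' iX iY iS f f' g g' hS hcX hcY w
  haveI := surjective' iX iY iS f f' g g' hS hcX hcY w
  rw [isIso_iff_isOpenImmersion_and_epi_base]
  refine ⟨inferInstance, ?_⟩
  rw [TopCat.epi_iff_surjective]
  exact f'.surjective

end Groth.Agent.Lib.Helper3.ThickDeform
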