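import Mathlib
import Groth.Agent.Lib.Helper3ThickDeform
/-!
# Smoothness lifts along nil thickenings (helper3)

* `smooth_of_isPushout_nil`: `B' → C'` flat of finite presentation, `B' → B` surjective with nil
  kernel, `C = B ⊗_{B'} C'`; if `B → C` is smooth then `B' → C'` is smooth (via smooth fibres).
-/
set_option autoImplicit false
set_option linter.style.haveILetI false
universe u
open CategoryTheory Limits TensorProduct

namespace Groth.Agent.Lib.Helper3.ThickSmooth

theorem smooth_of_pushout_nil {B' B C' C : Type u} [CommRing B'] [CommRing B] [CommRing C']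
    [CommRing C] [Algebra B' B] [Algebra B' C'] [Algebra B C] [Algebra C' C] [Algebra B' C]
    [IsScalarTower B' B C] [IsScalarTower B' C' C] [Algebra.IsPushout B' B C' C]
    (hπ : Function.Surjective (algebraMap B' B))
    (hnil : ∀ x ∈ RingHom.ker (algebraMap B' B), IsNilpotent x)
    [Module.Flat B' C'] [Algebra.FinitePresentation B' C'] [Algebra.Smooth B C] :
    Algebra.Smooth B' C' := by
  refine Algebra.Smooth.of_formallySmooth_fiber (fun P _ => ?_)
  -- `κ(P)` as a `B`-algebra
  have hker : RingHom.ker (algebraMap B' B) ≤ RingHom.ker (algebraMap B' P.ResidueField) := by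
    intro x hx
    rw [RingHom.mem_ker]
    obtain ⟨n, hn⟩ := hnil x hx
    have : (algebraMap B' P.ResidueField x) ^ n = 0 := by rw [← map_pow, hn, map_zero]
    exact eq_zero_of_pow_eq_zero this
  let φ : B →+* P.ResidueField :=
    RingHom.liftOfSurjective (algebraMap B' B) hπ ⟨algebraMap B' P.ResidueField, hker⟩
  have hφ : φ.comp (algebraMap B' B) = algebraMap B' P.ResidueField :=
    RingHom.liftOfRightInverse_comp _ _ _ ⟨algebraMap B' P.ResidueField, hker⟩
  letI : Algebra B P.ResidueField := φ.toAlgebra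
  haveI : IsScalarTower B' B P.ResidueField := IsScalarTower.of_algebraMap_eq' hφ.symm
  let e₁ : B ⊗[B'] C' ≃ₐ[B] C := Algebra.IsPushout.equiv B' B C' C
  let e₂ : P.ResidueField ⊗[B] C ≃ₐ[P.ResidueField] P.ResidueField ⊗[B] (B ⊗[B'] C') :=
    Algebra.TensorProduct.congr AlgEquiv.refl e₁.symm
  let e₃ : P.ResidueField ⊗[B] (B ⊗[B'] C') ≃ₐ[P.ResidueField] P.ResidueField ⊗[B'] C' :=
    Algebra.TensorProduct.cancelBaseChange B' B P.ResidueField P.ResidueField C'
  haveI : Algebra.FormallySmooth B C := inferInstance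
  haveI : Algebra.FormallySmooth P.ResidueField (P.ResidueField ⊗[B] C) := inferInstance
  exact Algebra.FormallySmooth.of_equiv (e₂.trans e₃)

theorem smooth_of_isPushout_nil {B' B C' C : CommRingCat.{u}} {γ' : B' ⟶ C'} {π : B' ⟶ B}
    {πC : C' ⟶ C} {γ : B ⟶ C} (hpo : IsPushout γ' π πC γ)
    (hπ : Function.Surjective π.hom) (hnil : ∀ x ∈ RingHom.ker π.hom, IsNilpotent x)
    (hfl : γ'.hom.Flat) (hfp : γ'.hom.FinitePresentation) (hγ : γ.hom.Smooth) :
    γ'.hom.Smooth := by
  letI : Algebra B' B := π.hom.toAlgebra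
  letI : Algebra B' C' := γ'.hom.toAlgebra
  letI : Algebra B C := γ.hom.toAlgebra
  letI : Algebra C' C := πC.hom.toAlgebra
  letI : Algebra B' C := (γ.hom.comp π.hom).toAlgebra
  haveI : IsScalarTower B' B C := IsScalarTower.of_algebraMap_eq' rfl
  haveI : IsScalarTower B' C' C := IsScalarTower.of_algebraMap_eq' (by
    change γ.hom.comp π.hom = πC.hom.comp γ'.hom
    rw [← CommRingCat.hom_comp, ← CommRingCat.hom_comp, hpo.w])
  haveI : Algebra.IsPushout B' B C' C := by
    exact (CommRingCat.isPushout_iff_isPushout.1 hpo).symm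
  haveI : Module.Flat B' C' := hfl
  haveI : Algebra.FinitePresentation B' C' := hfp
  haveI : Algebra.Smooth B C := hγ
  exact smooth_of_pushout_nil (B := B) (C := C) hπ hnil

end Groth.Agent.Lib.Helper3.ThickSmooth
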