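import Mathlib

set_option linter.style.haveILetI false
set_option autoImplicit false

open IsLocalRing

universe u

namespace Groth.Agent.Lib.Helper3.TotFrac

/-- In a reduced ring, a zero divisor lies in some minimal prime. -/
theorem exists_minimalPrimes_mem_of_notMem_nonZeroDivisors {A : Type*} [CommRing A] [IsReduced A]
    {x : A} (hx : x ∉ nonZeroDivisors A) : ∃ p ∈ minimalPrimes A, x ∈ p := by
  rw [mem_nonZeroDivisors_iff_right] at hx
  push Not at hx
  obtain ⟨y, hxy, hy⟩ := hx
  have hy' : y ∉ sInf (minimalPrimes A) := by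
    show y ∉ sInf (⊥ : Ideal A).minimalPrimes
    rw [Ideal.sInf_minimalPrimes]
    intro hmem
    have : y ∈ nilradical A := hmem
    rw [nilradical_eq_zero, Ideal.zero_eq_bot, Ideal.mem_bot] at this
    exact hy this
  rw [Submodule.mem_sInf] at hy'
  push Not at hy'
  obtain ⟨p, hp, hyp⟩ := hy'
  refine ⟨p, hp, ?_⟩
  have hpp : Ideal.IsPrime p := hp.1.1
  have h0 : y * x ∈ p := hxy ▸ Submodule.zero_mem p
  exact (Ideal.IsPrime.mem_or_mem hpp h0).resolve_left hyp

/-- In a reduced ring with finitely many minimal primes, an ideal not contained in any minimal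
prime contains a non-zero-divisor. -/
theorem exists_mem_nonZeroDivisors_of_not_le {A : Type*} [CommRing A] [IsReduced A]
    (hmin : (minimalPrimes A).Finite) (I : Ideal A) (hI : ∀ p ∈ minimalPrimes A, ¬ I ≤ p) :
    ∃ a ∈ I, a ∈ nonZeroDivisors A := by
  classical
  by_contra hcon
  push Not at hcon
  have hsub : (I : Set A) ⊆ ⋃ p ∈ (↑hmin.toFinset : Set (Ideal A)), (id p : Ideal A) := by
    intro a ha
    obtain ⟨p, hp, hap⟩ := exists_minimalPrimes_mem_of_notMem_nonZeroDivisors (hcon a ha)
    simp only [id, Set.mem_iUnion]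
    exact ⟨p, Finset.mem_coe.mpr (hmin.mem_toFinset.mpr hp), hap⟩
  obtain ⟨p, hp, hle⟩ := (Ideal.subset_union_prime (s := hmin.toFinset) (f := id) ⊥ ⊥
    (fun p hp _ _ => (hmin.mem_toFinset.mp hp).1.1)).mp hsub
  exact hI p (hmin.mem_toFinset.mp hp) hle

/-- In a reduced ring with finitely many minimal primes, a prime consisting of zero divisors is a
minimal prime. -/
theorem mem_minimalPrimes_of_disjoint_nonZeroDivisors {A : Type*} [CommRing A] [IsReduced A]
    (hmin : (minimalPrimes A).Finite) (P : Ideal A) [P.IsPrime]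
    (hP : Disjoint (nonZeroDivisors A : Set A) (P : Set A)) : P ∈ minimalPrimes A := by
  by_contra hcon
  have h1 : ∀ p ∈ minimalPrimes A, ¬ P ≤ p := by
    intro p hp hle
    have : p ≤ P := hp.2 ⟨inferInstance, bot_le⟩ hle
    exact hcon ((le_antisymm hle this) ▸ hp)
  obtain ⟨a, haP, ha⟩ := exists_mem_nonZeroDivisors_of_not_le hmin P h1
  exact Set.disjoint_left.mp hP ha haP


/-- The total ring of fractions of a reduced ring with finitely many minimal primes is Artinian
(a finite product of fields). -/
theorem isArtinianRing_of_isLocalization_nonZeroDivisors (A : Type u) [CommRing A] [IsReduced A]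
    (hmin : (minimalPrimes A).Finite) (K : Type u) [CommRing K] [Algebra A K]
    [IsLocalization (nonZeroDivisors A) K] : IsArtinianRing K := by
  haveI : IsReduced K := isReduced_localizationPreserves (nonZeroDivisors A) K inferInstance
  have hcomap : ∀ Q : Ideal K, Q.IsPrime → Q.comap (algebraMap A K) ∈ minimalPrimes A := by
    intro Q hQ
    obtain ⟨h1, h2⟩ := (IsLocalization.isPrime_iff_isPrime_disjoint (nonZeroDivisors A) K Q).mp hQ
    haveI := h1
    exact mem_minimalPrimes_of_disjoint_nonZeroDivisors hmin _ h2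
  have hinj : ∀ Q Q' : Ideal K, Q.comap (algebraMap A K) = Q'.comap (algebraMap A K) → Q = Q' := by
    intro Q Q' h
    have h1 := IsLocalization.map_under (nonZeroDivisors A) K Q
    have h2 := IsLocalization.map_under (nonZeroDivisors A) K Q'
    rw [← h1, ← h2]
    exact congrArg (Ideal.map (algebraMap A K)) h
  haveI hfin : Finite (PrimeSpectrum K) := by
    haveI : Finite (minimalPrimes A) := hmin
    refine Finite.of_injective (β := minimalPrimes A)
      (fun Q : PrimeSpectrum K => ⟨Q.asIdeal.comap (algebraMap A K), hcomap _ Q.2⟩) ?_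
    intro Q Q' h
    exact PrimeSpectrum.ext (hinj _ _ (congrArg Subtype.val h))
  haveI hdim : Ring.KrullDimLE 0 K := by
    refine Ring.KrullDimLE.mk₀ fun Q hQ => ?_
    obtain ⟨Q', hQ', hle⟩ := Ideal.exists_le_maximal Q hQ.ne_top
    have h1 := hcomap Q hQ
    have h2 := hcomap Q' hQ'.isPrime
    have h3 : Q.comap (algebraMap A K) = Q'.comap (algebraMap A K) :=
      le_antisymm (Ideal.comap_mono hle) (h2.2 h1.1 (Ideal.comap_mono hle))
    rw [hinj _ _ h3]
    exact hQ'
  haveI : DiscreteTopology (PrimeSpectrum K) :=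
    PrimeSpectrum.discreteTopology_iff_finite_and_krullDimLE_zero.mpr ⟨hfin, hdim⟩
  haveI : Finite (MaximalSpectrum K) :=
    Finite.of_injective MaximalSpectrum.toPrimeSpectrum MaximalSpectrum.toPrimeSpectrum_injective
  haveI : ∀ m : MaximalSpectrum K, IsArtinianRing (Localization.AtPrime m.asIdeal) := by
    intro m
    have hm : m.asIdeal ∈ minimalPrimes K := by
      refine ⟨⟨m.isMaximal.isPrime, bot_le⟩, fun q hq hle => ?_⟩
      haveI := hq.1
      have hqmax : q.IsMaximal := Ideal.isMaximal_of_isPrime q
      exact (hqmax.eq_of_le m.isMaximal.ne_top hle).ge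
    haveI : Ring.KrullDimLE 0 (Localization.AtPrime m.asIdeal) :=
      Ring.KrullDimLE.of_isLocalization m.asIdeal hm _
    have hF : IsField (Localization.AtPrime m.asIdeal) := Ring.KrullDimLE.isField_of_isReduced
    letI := hF.toField
    infer_instance
  exact RingEquiv.isArtinianRing (MaximalSpectrum.toPiLocalizationEquiv K).symm.toRingEquiv

end Groth.Agent.Lib.Helper3.TotFrac
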