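import Mathlib
import Groth.Agent.Lib.Helper3TotFracA

set_option linter.style.haveILetI false
set_option autoImplicit false

open IsLocalRing

universe u

namespace Groth.Agent.Lib.Helper3.TotFrac

section

variable (A : Type u) [CommRing A] [IsReduced A] (hmin : (minimalPrimes A).Finite)
  (E : Type u) [CommRing E] [Algebra A E] [Module.Flat A E] [Algebra.EssFiniteType A E]
  [Algebra.FormallyUnramified A E]

/-- `E ⊗_A K_A` as a localization of `E`. -/
abbrev KE : Type u := Localization (Algebra.algebraMapSubmonoid E (nonZeroDivisors A))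

include hmin in
theorem finite_KE : Module.Finite (Localization (nonZeroDivisors A)) (KE A E) := by
  haveI : IsArtinianRing (Localization (nonZeroDivisors A)) :=
    isArtinianRing_of_isLocalization_nonZeroDivisors A hmin _
  haveI : Algebra.EssFiniteType E (KE A E) :=
    Algebra.EssFiniteType.of_isLocalization _ (Algebra.algebraMapSubmonoid E (nonZeroDivisors A))
  haveI : Algebra.EssFiniteType A (KE A E) := Algebra.EssFiniteType.comp A E (KE A E)
  haveI : Algebra.EssFiniteType (Localization (nonZeroDivisors A)) (KE A E) :=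
    Algebra.EssFiniteType.of_comp A _ _
  haveI : Algebra.FormallyUnramified E (KE A E) :=
    Algebra.FormallyUnramified.of_isLocalization (Algebra.algebraMapSubmonoid E (nonZeroDivisors A))
  haveI : Algebra.FormallyUnramified A (KE A E) := Algebra.FormallyUnramified.comp A E (KE A E)
  haveI : Algebra.FormallyUnramified (Localization (nonZeroDivisors A)) (KE A E) :=
    Algebra.FormallyUnramified.of_restrictScalars A _ _
  exact Module.Finite.of_quasiFinite


omit [IsReduced A] [Algebra.EssFiniteType A E] [Algebra.FormallyUnramified A E] in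
theorem algebraMapSubmonoid_le_nonZeroDivisors :
    Algebra.algebraMapSubmonoid E (nonZeroDivisors A) ≤ nonZeroDivisors E := by
  rintro _ ⟨a, ha, rfl⟩
  have h1 : IsSMulRegular A a := by
    intro x y hxy
    simp only [smul_eq_mul] at hxy
    exact mul_cancel_left_mem_nonZeroDivisors ha |>.mp hxy
  have h2 : IsSMulRegular E (algebraMap A E a) := IsSMulRegular.of_flat h1
  rw [mem_nonZeroDivisors_iff_right]
  intro x hx
  apply h2
  simp only [smul_eq_mul, mul_zero]
  rw [mul_comm]
  exact hx

include hmin in
theorem isArtinianRing_KE : IsArtinianRing (KE A E) := by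
  haveI : IsArtinianRing (Localization (nonZeroDivisors A)) :=
    isArtinianRing_of_isLocalization_nonZeroDivisors A hmin _
  haveI := finite_KE A hmin E
  exact IsArtinianRing.of_finite (Localization (nonZeroDivisors A)) (KE A E)

include hmin in
theorem isUnit_algebraMap_KE {s : E} (hs : s ∈ nonZeroDivisors E) :
    IsUnit (algebraMap E (KE A E) s) := by
  haveI := isArtinianRing_KE A hmin E
  apply IsArtinianRing.isUnit_of_mem_nonZeroDivisors
  exact IsLocalization.map_nonZeroDivisors_le
    (Algebra.algebraMapSubmonoid E (nonZeroDivisors A)) (KE A E) ⟨s, hs, rfl⟩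

include hmin in
/-- `E ⊗_A K_A` is the total ring of fractions of `E`. -/
theorem isFractionRing_KE : IsFractionRing E (KE A E) := by
  refine ⟨⟨?_, ?_, ?_⟩⟩
  · rintro ⟨s, hs⟩
    exact isUnit_algebraMap_KE A hmin E hs
  · intro z
    obtain ⟨⟨e, m⟩, h⟩ := IsLocalization.surj (Algebra.algebraMapSubmonoid E (nonZeroDivisors A)) z
    exact ⟨⟨e, ⟨m.1, algebraMapSubmonoid_le_nonZeroDivisors A E m.2⟩⟩, h⟩
  · intro x y hxy
    obtain ⟨c, hc⟩ := (IsLocalization.eq_iff_exists
      (Algebra.algebraMapSubmonoid E (nonZeroDivisors A)) (KE A E)).mp hxy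
    exact ⟨⟨c.1, algebraMapSubmonoid_le_nonZeroDivisors A E c.2⟩, hc⟩


include hmin in
/-- `E ⊗_A K_A` is finite over `K_A`, stated over `A`. -/
theorem exists_finset_span_KE :
    ∃ t : Finset (KE A E), ∀ x : KE A E, ∃ a ∈ nonZeroDivisors A,
      algebraMap A (KE A E) a * x ∈ Submodule.span A (t : Set (KE A E)) := by
  classical
  haveI := finite_KE A hmin E
  obtain ⟨t, ht⟩ := (Module.Finite.fg_top :
    (⊤ : Submodule (Localization (nonZeroDivisors A)) (KE A E)).FG)
  refine ⟨t, fun x => ?_⟩
  have hx : x ∈ Submodule.span (Localization (nonZeroDivisors A)) (t : Set (KE A E)) := by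
    rw [ht]; trivial
  obtain ⟨f, -, hf⟩ := Submodule.mem_span_finset.mp hx
  obtain ⟨b, hb⟩ := IsLocalization.exist_integer_multiples_of_finset (nonZeroDivisors A)
    (t.image f)
  refine ⟨b.1, b.2, ?_⟩
  have h1 : algebraMap A (KE A E) b.1 * x = ∑ j ∈ t, (b.1 • f j) • j := by
    rw [← hf, Finset.mul_sum]
    refine Finset.sum_congr rfl fun j _ => ?_
    rw [smul_assoc, Algebra.smul_def b.1 (f j • j)]
  rw [h1]
  refine Submodule.sum_mem _ fun j hj => ?_
  obtain ⟨a, ha⟩ := hb (f j) (Finset.mem_image_of_mem f hj)
  have h2 : (b.1 • f j) • j = a • j := by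
    have h3 : (b : A) • f j = algebraMap A (Localization (nonZeroDivisors A)) a := ha.symm
    rw [h3, algebraMap_smul]
  rw [h2]
  exact Submodule.smul_mem _ _ (Submodule.subset_span hj)

end

end Groth.Agent.Lib.Helper3.TotFrac
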