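import Mathlib
import Groth.Prelude.Def_EGA43
import Groth.Agent.Lib.Helper4Unibranch
import Groth.Agent.Lib.Helper6UniA

/-!
# Openness of integral / quasi-finite maps at unibranch points (helper3)

* `exists_prime_notMem_of_coeff_notMem` : primes of a normal domain outside the zero locus of the
  lower coefficients of the minimal polynomial of `b` lift to primes not containing `b`.
* `prime_over_unique_of_isUnibranch` : a unibranch point has a unique preimage in the normalization.
* `isOpenAt_of_isDomain`, `isOpenAt_of_isIntegral`, `isOpenAt_of_quasiFiniteAt`,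
  `isOpenAt_of_isolated` : openness at a point above a unibranch point.
-/

set_option autoImplicit false
set_option linter.style.haveILetI false
universe u
open Polynomial

namespace Groth.Agent.Lib.Helper3.UniOpen

/-- Step A: `R` integrally closed domain, `D` a domain integral over `R` (injectively), `b : D` with
minimal polynomial `P`; if some non-leading coefficient of `P` is outside the prime `p`, then there
is a prime of `D` over `p` not containing `b`. -/
theorem exists_prime_notMem_of_coeff_notMem {R D : Type u} [CommRing R] [IsDomain R]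
    [IsIntegrallyClosed R] [CommRing D] [IsDomain D] [Algebra R D] [Algebra.IsIntegral R D]
    (hinj : Function.Injective (algebraMap R D)) (b : D) (p : Ideal R) [p.IsPrime]
    (i : ℕ) (hi : i < (minpoly R b).natDegree) (hc : (minpoly R b).coeff i ∉ p) :
    ∃ Q : Ideal D, Q.IsPrime ∧ b ∉ Q ∧ Q.comap (algebraMap R D) = p := by
  haveI : Module.IsTorsionFree R D := Module.isTorsionFree_iff_algebraMap_injective.mpr hinj
  have hb : IsIntegral R b := Algebra.IsIntegral.isIntegral b
  set P := minpoly R b with hP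
  have hPm : P.Monic := minpoly.monic hb
  let κ := p.ResidueField
  let Pb : κ[X] := P.map (algebraMap R κ)
  have hPbm : Pb.Monic := hPm.map _
  have hdeg : Pb.natDegree = P.natDegree := hPm.natDegree_map _
  have hci : Pb.coeff i ≠ 0 := by
    rw [Polynomial.coeff_map]
    intro h0
    exact hc ((Ideal.algebraMap_residueField_eq_zero).mp h0)
  have hndvd : ∀ m : ℕ, ¬ Pb ∣ X ^ m := by
    intro m hdvd
    obtain ⟨j, -, hj⟩ := (dvd_prime_pow (Polynomial.prime_X (R := κ)) m).1 hdvd
    have heq : Pb = X ^ j := Polynomial.eq_of_monic_of_associated hPbm (monic_X_pow j) hj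
    have hjd : j = P.natDegree := by
      rw [← hdeg, heq, natDegree_X_pow]
    apply hci
    rw [heq, coeff_X_pow, if_neg]
    omega
  let S := AdjoinRoot Pb
  have hroot : ¬ IsNilpotent (AdjoinRoot.root Pb) := by
    rintro ⟨m, hm⟩
    apply hndvd m
    rw [← AdjoinRoot.mk_eq_zero, map_pow, AdjoinRoot.mk_X]
    exact hm
  rw [nilpotent_iff_mem_prime] at hroot
  push Not at hroot
  obtain ⟨J, hJ, hJr⟩ := hroot
  let ψ : R[X] →+* S := (AdjoinRoot.mk Pb).comp (Polynomial.mapRingHom (algebraMap R κ))
  let Q : Ideal R[X] := J.comap ψ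
  haveI : Q.IsPrime := Ideal.comap_isPrime _ _
  have hPQ : P ∈ Q := by
    change ψ P ∈ J
    have : ψ P = 0 := by
      change AdjoinRoot.mk Pb (P.map (algebraMap R κ)) = 0
      exact AdjoinRoot.mk_self
    rw [this]; exact J.zero_mem
  have hXQ : (X : R[X]) ∉ Q := by
    intro h
    apply hJr
    have : ψ X = AdjoinRoot.root Pb := by
      change AdjoinRoot.mk Pb ((X : R[X]).map (algebraMap R κ)) = _
      rw [Polynomial.map_X, AdjoinRoot.mk_X]
    rw [← this]; exact h
  have hQC : Q.comap (C : R →+* R[X]) = p := by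
    ext a
    have hψ : ψ (C a) = AdjoinRoot.of Pb (algebraMap R κ a) := by
      change AdjoinRoot.mk Pb ((C a : R[X]).map (algebraMap R κ)) = _
      rw [Polynomial.map_C, AdjoinRoot.mk_C]
    rw [Ideal.mem_comap]
    change ψ (C a) ∈ J ↔ _
    rw [hψ]
    constructor
    · intro h
      by_contra hap
      have hne : algebraMap R κ a ≠ 0 := fun h0 =>
        hap ((Ideal.algebraMap_residueField_eq_zero).mp h0)
      have hu : IsUnit (AdjoinRoot.of Pb (algebraMap R κ a)) := (isUnit_iff_ne_zero.mpr hne).map _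
      exact hJ.ne_top (Ideal.eq_top_of_isUnit_mem _ h hu)
    · intro hap
      rw [(Ideal.algebraMap_residueField_eq_zero).mpr hap, map_zero]
      exact J.zero_mem
  let φ : R[X] →ₐ[R] D := Polynomial.aeval b
  letI : Algebra R[X] D := φ.toRingHom.toAlgebra
  haveI : IsScalarTower R R[X] D := IsScalarTower.of_algebraMap_eq (fun r => (φ.commutes r).symm)
  haveI : Algebra.IsIntegral R[X] D := Algebra.IsIntegral.tower_top (R := R)
  have hker : RingHom.ker (algebraMap R[X] D) ≤ Q := by
    have h1 : RingHom.ker (algebraMap R[X] D) = Ideal.span {P} := minpoly.ker_eval hb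
    rw [h1, Ideal.span_singleton_le_iff_mem]
    exact hPQ
  obtain ⟨Q', hQ'p, hQ'⟩ := Ideal.exists_ideal_over_prime_of_isIntegral_of_isDomain (S := D) Q hker
  refine ⟨Q', hQ'p, ?_, ?_⟩
  · intro hbQ
    apply hXQ
    rw [← hQ', Ideal.mem_comap]
    have : algebraMap R[X] D X = b := Polynomial.aeval_X b
    rw [this]; exact hbQ
  · rw [IsScalarTower.algebraMap_eq R R[X] D, ← Ideal.comap_comap, hQ']
    exact hQC

open Groth.Agent.Lib.Helper4.Unibranch

section
attribute [local instance] Groth.Agent.Lib.Helper4.Unibranch.inclAlgebra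

/-- Uniqueness of the prime of the normalization over a unibranch point. -/
theorem prime_over_unique_of_isUnibranch (A : Type u) [CommRing A] [IsDomain A] (p : Ideal A)
    [p.IsPrime] (hU : CAlg2.IsUnibranch (Localization.AtPrime p))
    (P₁ P₂ : Ideal (integralClosure A (FractionRing A))) [P₁.IsPrime] [P₂.IsPrime]
    (h₁ : P₁.comap (algebraMap A _) = p) (h₂ : P₂.comap (algebraMap A _) = p) : P₁ = P₂ := by
  rw [isUnibranch_iff_of_isDomain (Localization.AtPrime p) (FractionRing A)] at hU
  haveI := hU
  haveI := isLocalization_incl A p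
  let At := integralClosure A (FractionRing A)
  let N := integralClosure (Localization.AtPrime p) (FractionRing A)
  let M : Submonoid At := Algebra.algebraMapSubmonoid At p.primeCompl
  let M₀ : Ideal At := (IsLocalRing.maximalIdeal N).comap (algebraMap At N)
  haveI : M₀.IsPrime := Ideal.comap_isPrime _ _
  have key : ∀ (P : Ideal At) [P.IsPrime], P.comap (algebraMap A At) = p → P = M₀ := by
    intro P hP hPp
    have hdisj : Disjoint (M : Set At) (P : Set At) := by
      rw [Set.disjoint_left]
      rintro _ ⟨s, hs, rfl⟩ hmem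
      have : s ∈ P.comap (algebraMap A At) := hmem
      rw [hPp] at this
      exact hs this
    have hPN : (P.map (algebraMap At N)).IsPrime :=
      IsLocalization.isPrime_of_isPrime_disjoint M N P hP hdisj
    have hcm : (P.map (algebraMap At N)).comap (algebraMap At N) = P :=
      IsLocalization.under_map_of_isPrime_disjoint M N hP hdisj
    have hle : P ≤ M₀ := by
      rw [← hcm]
      exact Ideal.comap_mono (IsLocalRing.le_maximalIdeal hPN.ne_top)
    have hM₀ : M₀.comap (algebraMap A At) = p := by
      apply le_antisymm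
      · intro a ha
        by_contra hap
        have hu : IsUnit (algebraMap At N (algebraMap A At a)) :=
          IsLocalization.map_units N (⟨algebraMap A At a, a, hap, rfl⟩ : M)
        exact (IsLocalRing.mem_maximalIdeal _).mp ha hu
      · rw [← hPp]
        exact Ideal.comap_mono hle
    by_contra hne
    have hlt : P < M₀ := lt_of_le_of_ne hle hne
    have := Ideal.IsIntegral.comap_lt_comap (R := A) hlt
    rw [hPp, hM₀] at this
    exact lt_irrefl _ this
  rw [key P₁ h₁, key P₂ h₂]

end

/-- core: the normalisation-level statement -/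
theorem isOpenAt_aux {A B C D : Type u} [CommRing A] [CommRing B] [CommRing C]
    [CommRing D] [IsDomain A] [IsDomain D] [IsDomain C] [IsIntegrallyClosed C]
    [Algebra A B] [Algebra A C] [Algebra A D] [Algebra B D] [Algebra C D]
    [IsScalarTower A B D] [IsScalarTower A C D]
    [Algebra.IsIntegral A D] [Algebra.IsIntegral A C]
    (hAC : Function.Injective (algebraMap A C))
    (hCD : Function.Injective (algebraMap C D)) (hBD : Function.Injective (algebraMap B D))
    (q : PrimeSpectrum B)
    (huniq : ∀ (P₁ P₂ : Ideal C) [P₁.IsPrime] [P₂.IsPrime],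
      P₁.comap (algebraMap A C) = q.asIdeal.comap (algebraMap A B) →
      P₂.comap (algebraMap A C) = q.asIdeal.comap (algebraMap A B) → P₁ = P₂) :
    EGA43.IsOpenAt (PrimeSpectrum.comap (algebraMap A B)) q := by
  haveI : Algebra.IsIntegral B D := Algebra.IsIntegral.tower_top (R := A)
  haveI : Algebra.IsIntegral C D := Algebra.IsIntegral.tower_top (R := A)
  intro U hU
  obtain ⟨_, ⟨b, rfl⟩, hqb, hbU⟩ :=
    PrimeSpectrum.isTopologicalBasis_basic_opens.mem_nhds_iff.mp hU
  have hbq : b ∉ q.asIdeal := hqb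
  let bD : D := algebraMap B D b
  have hbDi : IsIntegral C bD := Algebra.IsIntegral.isIntegral bD
  let P := minpoly C bD
  have hPm : P.Monic := minpoly.monic hbDi
  let Zs : Set C := {c | ∃ i < P.natDegree, P.coeff i = c}
  let Z : Set (PrimeSpectrum C) := PrimeSpectrum.zeroLocus Zs
  let W : Set (PrimeSpectrum A) := (PrimeSpectrum.comap (algebraMap A C) '' Z)ᶜ
  have hWo : IsOpen W := by
    apply isOpen_compl_iff.mpr
    exact PrimeSpectrum.isClosedMap_comap_of_isIntegral (algebraMap A C)
      (algebraMap_isIntegral_iff.mpr inferInstance) _ (PrimeSpectrum.isClosed_zeroLocus _)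
  -- Claim 1
  have hpW : PrimeSpectrum.comap (algebraMap A B) q ∈ W := by
    rintro ⟨Pt, hPtZ, hPt⟩
    obtain ⟨qt, hqtp, hqt⟩ := Ideal.exists_ideal_over_prime_of_isIntegral_of_isDomain (S := D)
      q.asIdeal (by rw [(RingHom.injective_iff_ker_eq_bot _).1 hBD]; exact bot_le)
    let Pt' : Ideal C := qt.comap (algebraMap C D)
    haveI : Pt'.IsPrime := Ideal.comap_isPrime _ _
    have h1 : Pt'.comap (algebraMap A C) = q.asIdeal.comap (algebraMap A B) := by
      rw [← hqt, Ideal.comap_comap, Ideal.comap_comap, ← IsScalarTower.algebraMap_eq,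
        ← IsScalarTower.algebraMap_eq]
    have h2 : Pt.asIdeal.comap (algebraMap A C) = q.asIdeal.comap (algebraMap A B) :=
      congrArg PrimeSpectrum.asIdeal hPt
    have heq : Pt' = Pt.asIdeal := huniq Pt' Pt.asIdeal h1 h2
    have hcoef : ∀ i < P.natDegree, algebraMap C D (P.coeff i) ∈ qt := by
      intro i hi
      have : P.coeff i ∈ Pt.asIdeal := by
        have := (PrimeSpectrum.mem_zeroLocus _ _).mp hPtZ
        exact this ⟨i, hi, rfl⟩
      rw [← heq] at this
      exact this
    have hpow : bD ^ P.natDegree ∈ qt := by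
      have h0 : Polynomial.aeval bD P = 0 := minpoly.aeval C bD
      rw [hPm.as_sum] at h0
      simp only [map_add, map_pow, aeval_X, map_sum, map_mul, aeval_C] at h0
      rw [eq_neg_of_add_eq_zero_left h0]
      apply Ideal.neg_mem_iff _ |>.mpr
      apply Ideal.sum_mem
      intro i hi
      exact Ideal.mul_mem_right _ _ (hcoef i (Finset.mem_range.mp hi))
    have hbqt : bD ∈ qt := hqtp.mem_of_pow_mem _ hpow
    apply hbq
    rw [← hqt]
    exact hbqt
  -- Claim 2
  have hWsub : W ⊆ PrimeSpectrum.comap (algebraMap A B) '' U := by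
    intro p₁ hp₁
    obtain ⟨Pt, hPtp, hPt⟩ := Ideal.exists_ideal_over_prime_of_isIntegral_of_isDomain (S := C)
      p₁.asIdeal (by rw [(RingHom.injective_iff_ker_eq_bot _).1 hAC]; exact bot_le)
    haveI := hPtp
    have hnZ : (⟨Pt, hPtp⟩ : PrimeSpectrum C) ∉ Z := by
      intro hZ
      apply hp₁
      refine ⟨⟨Pt, hPtp⟩, hZ, ?_⟩
      ext1
      exact hPt
    rw [PrimeSpectrum.mem_zeroLocus, Set.not_subset] at hnZ
    obtain ⟨_, ⟨i, hi, rfl⟩, hci⟩ := hnZ
    obtain ⟨Q, hQp, hbQ, hQc⟩ := exists_prime_notMem_of_coeff_notMem hCD bD Pt i hi hci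
    haveI := hQp
    refine ⟨⟨Q.comap (algebraMap B D), inferInstance⟩, hbU ?_, ?_⟩
    · exact hbQ
    · ext1
      change (Q.comap (algebraMap B D)).comap (algebraMap A B) = p₁.asIdeal
      rw [Ideal.comap_comap, ← IsScalarTower.algebraMap_eq, IsScalarTower.algebraMap_eq A C D,
        ← Ideal.comap_comap, hQc, hPt]
  exact Filter.mem_of_superset (hWo.mem_nhds hpW) hWsub

/-- (i): integral extension of domains, unibranch point. -/
theorem isOpenAt_of_isDomain (A B : Type u) [CommRing A] [IsDomain A] [CommRing B] [IsDomain B]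
    [Algebra A B] (hinj : Function.Injective (algebraMap A B)) [Algebra.IsIntegral A B]
    (q : PrimeSpectrum B)
    (hU : CAlg2.IsUnibranch (Localization.AtPrime (q.asIdeal.comap (algebraMap A B)))) :
    EGA43.IsOpenAt (PrimeSpectrum.comap (algebraMap A B)) q := by
  let K := FractionRing A
  let C := integralClosure A K
  haveI : IsIntegrallyClosed C := integralClosure.isIntegrallyClosedOfFiniteExtension K
  have hAL : Function.Injective (algebraMap A (FractionRing B)) := by
    rw [IsScalarTower.algebraMap_eq A B (FractionRing B)]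
    exact (IsFractionRing.injective B (FractionRing B)).comp hinj
  let f1 : K →+* FractionRing B := IsFractionRing.lift hAL
  have hf1 : Function.Injective f1 := f1.injective
  letI algCL : Algebra C (FractionRing B) := (f1.comp (algebraMap C K)).toAlgebra
  have hCL : Function.Injective (algebraMap C (FractionRing B)) :=
    hf1.comp Subtype.val_injective
  haveI : IsScalarTower A C (FractionRing B) := by
    refine IsScalarTower.of_algebraMap_eq (fun a => ?_)
    change _ = f1 (algebraMap C K (algebraMap A C a))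
    rw [← IsScalarTower.algebraMap_apply A C K]
    exact (IsFractionRing.lift_algebraMap hAL a).symm
  have hAC : Function.Injective (algebraMap A C) := by
    have h1 : Function.Injective (algebraMap A (FractionRing B)) := hAL
    rw [IsScalarTower.algebraMap_eq A C (FractionRing B), RingHom.coe_comp] at h1
    exact Function.Injective.of_comp h1
  let D := integralClosure A (FractionRing B)
  letI algBD : Algebra B D := (IsIntegralClosure.lift A D (FractionRing B) : B →ₐ[A] D).toAlgebra
  letI algCD : Algebra C D := (IsIntegralClosure.lift A D (FractionRing B) : C →ₐ[A] D).toAlgebra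
  haveI : IsScalarTower A B D := IsScalarTower.of_algebraMap_eq (fun a =>
    ((IsIntegralClosure.lift A D (FractionRing B) : B →ₐ[A] D).commutes a).symm)
  haveI : IsScalarTower A C D := IsScalarTower.of_algebraMap_eq (fun a =>
    ((IsIntegralClosure.lift A D (FractionRing B) : C →ₐ[A] D).commutes a).symm)
  have hBD : Function.Injective (algebraMap B D) := by
    intro x y hxy
    have := congrArg (algebraMap D (FractionRing B)) hxy
    change algebraMap D (FractionRing B) (IsIntegralClosure.lift A D (FractionRing B) x) =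
      algebraMap D (FractionRing B) (IsIntegralClosure.lift A D (FractionRing B) y) at this
    rw [IsIntegralClosure.algebraMap_lift, IsIntegralClosure.algebraMap_lift] at this
    exact IsFractionRing.injective B (FractionRing B) this
  have hCD : Function.Injective (algebraMap C D) := by
    intro x y hxy
    have := congrArg (algebraMap D (FractionRing B)) hxy
    change algebraMap D (FractionRing B) (IsIntegralClosure.lift A D (FractionRing B) x) =
      algebraMap D (FractionRing B) (IsIntegralClosure.lift A D (FractionRing B) y) at this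
    rw [IsIntegralClosure.algebraMap_lift, IsIntegralClosure.algebraMap_lift] at this
    exact hCL this
  refine isOpenAt_aux (C := C) (D := D) hAC hCD hBD q ?_
  intro P₁ P₂ _ _ h₁ h₂
  exact prime_over_unique_of_isUnibranch A _ hU P₁ P₂ h₁ h₂

open Groth.Agent.Lib.Helper3.GURed

/-- unibranchness of `A_m` passes to `(A/nil A)_{m/nil A}` -/
theorem isUnibranch_localization_quotient_nilradical (A : Type u) [CommRing A] (m : Ideal A)
    [m.IsPrime] (m₀ : Ideal (A ⧸ nilradical A)) [m₀.IsPrime]
    (hm₀ : m₀.comap (Ideal.Quotient.mk (nilradical A)) = m)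
    (h : CAlg2.IsUnibranch (Localization.AtPrime m)) :
    CAlg2.IsUnibranch (Localization.AtPrime m₀) := by
  let Am := Localization.AtPrime m
  let I := nilradical A
  let J : Ideal Am := I.map (algebraMap A Am)
  have hJ : J = nilradical Am := by
    have := IsLocalization.map_radical m.primeCompl Am (⊥ : Ideal A)
    rw [Ideal.map_bot] at this
    exact this
  have hsub : Algebra.algebraMapSubmonoid (A ⧸ I) m.primeCompl = m₀.primeCompl := by
    ext x
    obtain ⟨a, rfl⟩ := Ideal.Quotient.mk_surjective x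
    constructor
    · rintro ⟨s, hs, hsa⟩
      change Ideal.Quotient.mk I a ∉ m₀
      rw [← hsa]
      intro hmem
      apply hs
      rw [← hm₀]
      exact hmem
    · intro ha
      refine ⟨a, ?_, rfl⟩
      intro ham
      apply ha
      rw [← hm₀] at ham
      exact ham
  haveI : IsLocalization m₀.primeCompl (Am ⧸ J) := by
    rw [← hsub]
    infer_instance
  let e₁ : Localization.AtPrime m₀ ≃ₐ[A ⧸ I] (Am ⧸ J) :=
    IsLocalization.algEquiv m₀.primeCompl _ _
  let e₂ : (Am ⧸ J) ≃+* CAlg2.red Am := Ideal.quotEquivOfEq hJ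
  have h1 := Groth.Agent.Lib.Helper6.Uni.isUnibranch_red Am h
  exact Groth.Agent.Lib.Helper6.Uni.isUnibranch_of_ringEquiv
    (e₂.symm.trans e₁.symm.toRingEquiv) h1

/-- topological transfer of openness at a point along a commutative square -/
theorem isOpenAt_of_square {α β α₀ β₀ : Type*} [TopologicalSpace α] [TopologicalSpace β]
    [TopologicalSpace α₀] [TopologicalSpace β₀] (f : α → β) (f₀ : α₀ → β₀) (cS : α₀ → α)
    (cA : β₀ → β) (hcS : Continuous cS) (hcA : IsOpenMap cA) (hsq : ∀ z, f (cS z) = cA (f₀ z))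
    (x₀ : α₀) (h : EGA43.IsOpenAt f₀ x₀) : EGA43.IsOpenAt f (cS x₀) := by
  intro U hU
  have h1 : cS ⁻¹' U ∈ nhds x₀ := hcS.continuousAt hU
  have h2 := h _ h1
  have h3 := hcA.image_mem_nhds h2
  rw [← hsq] at h3
  refine Filter.mem_of_superset h3 ?_
  rintro _ ⟨_, ⟨z, hz, rfl⟩, rfl⟩
  exact ⟨cS z, hz, hsq z⟩

/-- integral, possibly non-reduced version -/
theorem isOpenAt_of_isIntegral {A S : Type u} [CommRing A] [CommRing S]
    [Algebra A S] [Algebra.IsIntegral A S] (hS : (nilradical S).IsPrime)
    (hker : ∀ a : A, IsNilpotent (algebraMap A S a) → IsNilpotent a)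
    (n : PrimeSpectrum S)
    (hU : CAlg2.IsUnibranch (Localization.AtPrime (n.asIdeal.comap (algebraMap A S)))) :
    EGA43.IsOpenAt (PrimeSpectrum.comap (algebraMap A S)) n := by
  haveI := hS
  have hnilA : nilradical A = (nilradical S).comap (algebraMap A S) := by
    ext a
    rw [Ideal.mem_comap, mem_nilradical, mem_nilradical]
    exact ⟨fun h => h.map _, hker a⟩
  haveI hAp : (nilradical A).IsPrime := by
    rw [hnilA]; exact Ideal.comap_isPrime _ _
  let A₀ := A ⧸ nilradical A
  let S₀ := S ⧸ nilradical S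
  let φ₀ : A₀ →+* S₀ := Ideal.quotientMap (nilradical S) (algebraMap A S) (le_of_eq hnilA)
  letI : Algebra A₀ S₀ := φ₀.toAlgebra
  have hφ₀ : ∀ a : A, algebraMap A₀ S₀ (Ideal.Quotient.mk _ a) =
      Ideal.Quotient.mk _ (algebraMap A S a) := fun a => rfl
  have hinj : Function.Injective (algebraMap A₀ S₀) :=
    Ideal.quotientMap_injective' (le_of_eq hnilA.symm)
  haveI : Algebra.IsIntegral A₀ S₀ := by
    refine ⟨fun x => ?_⟩
    obtain ⟨s, rfl⟩ := Ideal.Quotient.mk_surjective x
    obtain ⟨P, hP, hPs⟩ := Algebra.IsIntegral.isIntegral (R := A) s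
    refine ⟨P.map (Ideal.Quotient.mk (nilradical A)), hP.map _, ?_⟩
    rw [Polynomial.eval₂_map]
    have : (algebraMap A₀ S₀).comp (Ideal.Quotient.mk (nilradical A)) =
        (Ideal.Quotient.mk (nilradical S)).comp (algebraMap A S) := by
      ext a; rfl
    rw [this, ← Polynomial.hom_eval₂, hPs, map_zero]
  have hcS : IsHomeomorph (PrimeSpectrum.comap (Ideal.Quotient.mk (nilradical S))) :=
    PrimeSpectrum.isHomeomorph_comap _
      (fun x => ⟨1, one_pos, by rw [pow_one]; exact Ideal.Quotient.mk_surjective x⟩)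
      (by rw [Ideal.mk_ker])
  have hcA : IsHomeomorph (PrimeSpectrum.comap (Ideal.Quotient.mk (nilradical A))) :=
    PrimeSpectrum.isHomeomorph_comap _
      (fun x => ⟨1, one_pos, by rw [pow_one]; exact Ideal.Quotient.mk_surjective x⟩)
      (by rw [Ideal.mk_ker])
  obtain ⟨n₀, rfl⟩ := hcS.surjective n
  have hsq : ∀ z : PrimeSpectrum S₀, PrimeSpectrum.comap (algebraMap A S)
      (PrimeSpectrum.comap (Ideal.Quotient.mk (nilradical S)) z) =
      PrimeSpectrum.comap (Ideal.Quotient.mk (nilradical A))
        (PrimeSpectrum.comap (algebraMap A₀ S₀) z) := by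
    intro z
    ext1
    change (z.asIdeal.comap (Ideal.Quotient.mk (nilradical S))).comap (algebraMap A S) =
      (z.asIdeal.comap (algebraMap A₀ S₀)).comap (Ideal.Quotient.mk (nilradical A))
    rw [Ideal.comap_comap, Ideal.comap_comap]
    rfl
  refine isOpenAt_of_square _ (PrimeSpectrum.comap (algebraMap A₀ S₀)) _ _ hcS.continuous
    hcA.isOpenMap hsq n₀ ?_
  apply isOpenAt_of_isDomain A₀ S₀ hinj n₀
  refine isUnibranch_localization_quotient_nilradical A _ _ ?_ hU
  have := congrArg PrimeSpectrum.asIdeal (hsq n₀)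
  exact this.symm

theorem isUnibranch_congr {A : Type u} [CommRing A] (m m' : Ideal A) [m.IsPrime] [m'.IsPrime]
    (h : m = m') (hU : CAlg2.IsUnibranch (Localization.AtPrime m)) :
    CAlg2.IsUnibranch (Localization.AtPrime m') := by
  subst h; exact hU

/-- ZMT: primes of the integral closure not containing `r` lift to `B`. -/
theorem exists_prime_comap_eq_of_zariski {A B : Type u} [CommRing A] [CommRing B] [Algebra A B]
    (r : B) (hr : IsIntegral A r)
    (hZ : ∀ x : B, ∃ k : ℕ, IsIntegral A (r ^ k * x))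
    (q : Ideal (integralClosure A B)) [q.IsPrime] (hrq : (⟨r, hr⟩ : integralClosure A B) ∉ q) :
    ∃ Q : Ideal B, Q.IsPrime ∧ Q.comap (algebraMap (integralClosure A B) B) = q := by
  let S' := integralClosure A B
  let r' : S' := ⟨r, hr⟩
  let Br := Localization.Away r
  haveI : IsScalarTower S' B Br := inferInstance
  have hloc : IsLocalization (Submonoid.powers r') Br := by
    rw [isLocalization_iff]
    refine ⟨?_, ?_, ?_⟩
    · rintro ⟨_, k, rfl⟩
      have : algebraMap S' Br (r' ^ k) = algebraMap B Br (r ^ k) := by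
        rw [IsScalarTower.algebraMap_apply S' B Br]
        rfl
      rw [this]
      exact IsLocalization.map_units Br (⟨r ^ k, k, rfl⟩ : Submonoid.powers r)
    · intro z
      obtain ⟨b, ⟨_, j, rfl⟩, rfl⟩ := IsLocalization.exists_mk'_eq (Submonoid.powers r) z
      obtain ⟨k, hk⟩ := hZ b
      refine ⟨⟨⟨r ^ k * b, hk⟩, ⟨r' ^ (j + k), j + k, rfl⟩⟩, ?_⟩
      have e1 : algebraMap S' Br (r' ^ (j + k)) = algebraMap B Br (r ^ (j + k)) := by
        rw [IsScalarTower.algebraMap_apply S' B Br]
        rfl
      have e2 : algebraMap S' Br (⟨r ^ k * b, hk⟩ : S') = algebraMap B Br (r ^ k * b) := by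
        rw [IsScalarTower.algebraMap_apply S' B Br]
        rfl
      show _ * algebraMap S' Br (r' ^ (j + k)) = algebraMap S' Br ⟨r ^ k * b, hk⟩
      rw [e1, e2, pow_add, map_mul, ← mul_assoc]
      have e3 : IsLocalization.mk' Br b (⟨r ^ j, j, rfl⟩ : Submonoid.powers r) *
          algebraMap B Br (r ^ j) = algebraMap B Br b :=
        IsLocalization.mk'_spec Br b (⟨r ^ j, j, rfl⟩ : Submonoid.powers r)
      rw [e3, ← map_mul, mul_comm]
    · intro x y hxy
      have hxy' : algebraMap B Br x.1 = algebraMap B Br y.1 := by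
        have h1 := hxy
        rw [IsScalarTower.algebraMap_apply S' B Br, IsScalarTower.algebraMap_apply S' B Br] at h1
        exact h1
      obtain ⟨⟨_, j, rfl⟩, hc⟩ := (IsLocalization.eq_iff_exists (Submonoid.powers r) Br).mp hxy'
      refine ⟨⟨r' ^ j, j, rfl⟩, ?_⟩
      apply Subtype.ext
      exact hc
  have hdisj : Disjoint (Submonoid.powers r' : Set S') (q : Set S') := by
    rw [Set.disjoint_left]
    rintro _ ⟨k, rfl⟩ hmem
    exact hrq (Ideal.IsPrime.mem_of_pow_mem inferInstance k hmem)
  haveI hqB : (q.map (algebraMap S' Br)).IsPrime :=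
    IsLocalization.isPrime_of_isPrime_disjoint (Submonoid.powers r') Br q inferInstance hdisj
  have hqc : (q.map (algebraMap S' Br)).comap (algebraMap S' Br) = q :=
    IsLocalization.under_map_of_isPrime_disjoint (Submonoid.powers r') Br inferInstance hdisj
  refine ⟨(q.map (algebraMap S' Br)).comap (algebraMap B Br), inferInstance, ?_⟩
  rw [Ideal.comap_comap, ← IsScalarTower.algebraMap_eq]
  exact hqc

/-- quasi-finite version (ring form) -/
theorem isOpenAt_of_quasiFiniteAt {A B : Type u} [CommRing A] [CommRing B] [Algebra A B]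
    [Algebra.FiniteType A B] (P : PrimeSpectrum B) [Algebra.QuasiFiniteAt A P.asIdeal]
    (hB : (nilradical B).IsPrime)
    (hker : ∀ a : A, IsNilpotent (algebraMap A B a) → IsNilpotent a)
    (hU : CAlg2.IsUnibranch (Localization.AtPrime (P.asIdeal.comap (algebraMap A B)))) :
    EGA43.IsOpenAt (PrimeSpectrum.comap (algebraMap A B)) P := by
  obtain ⟨r, hrP, hZ⟩ := Algebra.zariskisMainProperty_iff'.mp
    (Algebra.ZariskisMainProperty.of_finiteType (R := A) P.asIdeal)
  have hr : IsIntegral A r := by
    obtain ⟨k, hk⟩ := hZ r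
    rw [← pow_succ] at hk
    exact (IsIntegral.pow_iff (by simp)).mp hk
  let S' := integralClosure A B
  have hnil : nilradical S' = (nilradical B).comap (algebraMap S' B) := by
    ext x
    rw [Ideal.mem_comap, mem_nilradical, mem_nilradical]
    constructor
    · intro h
      exact h.map (algebraMap S' B)
    · rintro ⟨k, hk⟩
      refine ⟨k, Subtype.ext ?_⟩
      have : algebraMap S' B (x ^ k) = 0 := by rw [map_pow]; exact hk
      exact this
  have hS' : (nilradical S').IsPrime := by
    rw [hnil]
    haveI := hB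
    exact Ideal.comap_isPrime _ _
  have hker' : ∀ a : A, IsNilpotent (algebraMap A S' a) → IsNilpotent a := by
    intro a ha
    apply hker a
    have := ha.map (algebraMap S' B)
    rwa [← IsScalarTower.algebraMap_apply A S' B] at this
  let n : PrimeSpectrum S' := PrimeSpectrum.comap (algebraMap S' B) P
  have hn : n.asIdeal.comap (algebraMap A S') = P.asIdeal.comap (algebraMap A B) := by
    change (P.asIdeal.comap (algebraMap S' B)).comap (algebraMap A S') = _
    rw [Ideal.comap_comap, ← IsScalarTower.algebraMap_eq]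
  have hopen := isOpenAt_of_isIntegral hS' hker' n (isUnibranch_congr _ _ hn.symm hU)
  intro U hU'
  obtain ⟨_, ⟨b, rfl⟩, hPb, hbU⟩ :=
    PrimeSpectrum.isTopologicalBasis_basic_opens.mem_nhds_iff.mp hU'
  have hbP : b ∉ P.asIdeal := hPb
  obtain ⟨k, hk⟩ := hZ b
  let r' : S' := ⟨r, hr⟩
  let b' : S' := ⟨r ^ k * b, hk⟩
  let c : S' := r' * b'
  have hcn : n ∈ (PrimeSpectrum.basicOpen c : Set (PrimeSpectrum S')) := by
    change c ∉ P.asIdeal.comap (algebraMap S' B)
    rw [Ideal.mem_comap]
    change ¬ (r * (r ^ k * b) ∈ P.asIdeal)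
    intro h
    rcases P.2.mem_or_mem h with h | h
    · exact hrP h
    · rcases P.2.mem_or_mem h with h | h
      · exact hrP (P.2.mem_of_pow_mem _ h)
      · exact hbP h
  have h1 := hopen _ ((PrimeSpectrum.basicOpen c).isOpen.mem_nhds hcn)
  have h2 : PrimeSpectrum.comap (algebraMap A S') n = PrimeSpectrum.comap (algebraMap A B) P := by
    ext1; exact hn
  rw [h2] at h1
  refine Filter.mem_of_superset h1 ?_
  rintro _ ⟨Q', hQ'c, rfl⟩
  have hcQ' : c ∉ Q'.asIdeal := hQ'c
  have hr'Q' : r' ∉ Q'.asIdeal := fun h => hcQ' (Ideal.mul_mem_right _ _ h)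
  obtain ⟨Q, hQp, hQc⟩ := exists_prime_comap_eq_of_zariski r hr hZ Q'.asIdeal hr'Q'
  refine ⟨⟨Q, hQp⟩, hbU ?_, ?_⟩
  · change b ∉ Q
    intro hbQ
    apply hcQ'
    rw [← hQc, Ideal.mem_comap]
    change r * (r ^ k * b) ∈ Q
    exact Ideal.mul_mem_left _ _ (Ideal.mul_mem_left _ _ hbQ)
  · ext1
    change Q.comap (algebraMap A B) = Q'.asIdeal.comap (algebraMap A S')
    rw [← hQc, Ideal.comap_comap, ← IsScalarTower.algebraMap_eq]

open CategoryTheory AlgebraicGeometry Groth.Agent.Lib.Helper6.Uni

/-- (ii): scheme version -/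
theorem isOpenAt_of_isolated {X Y : Scheme.{u}} (f : X ⟶ Y) [IrreducibleSpace X]
    [IrreducibleSpace Y] [LocallyOfFiniteType f] (hd : DenseRange f.base) (x : X)
    (hx : nhdsWithin x (f.base ⁻¹' {f.base x}) = pure x)
    (hy : CAlg2.IsUnibranch (Y.presheaf.stalk (f.base x))) : EGA43.IsOpenAt f.base x := by
  haveI : IsDominant f := ⟨hd⟩
  -- quasi-finite at x
  have hqfx : f.QuasiFiniteAt x := by
    rw [Scheme.Hom.quasiFiniteAt_iff_isOpen_singleton_asFiber]
    rw [← (f.fiberHomeo (f x)).isOpen_image]
    simp only [Set.image_singleton, Scheme.Hom.asFiber, Homeomorph.apply_symm_apply]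
    rw [isOpen_singleton_iff_nhds_eq_pure]
    have hxm : x ∈ f.base ⁻¹' {f.base x} := rfl
    have h1 := nhdsWithin_eq_map_subtype_coe hxm
    rw [hx] at h1
    have h2 : Filter.map (Subtype.val : (f.base ⁻¹' {f.base x}) → X)
        (pure (⟨x, hxm⟩ : (f.base ⁻¹' {f.base x}))) = pure x := Filter.map_pure _ _
    rw [← h2] at h1
    exact (Filter.map_injective Subtype.val_injective h1).symm
  obtain ⟨_, ⟨V, hV : IsAffineOpen V, rfl⟩, hyV, -⟩ :=
    Y.isBasis_affineOpens.exists_subset_of_mem_open (Set.mem_univ (f.base x)) isOpen_univ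
  obtain ⟨_, ⟨W, hW : IsAffineOpen W, rfl⟩, hxW, hWV⟩ :=
    X.isBasis_affineOpens.exists_subset_of_mem_open (show x ∈ ((f ⁻¹ᵁ V : X.Opens) : Set X) from hyV)
      (f ⁻¹ᵁ V).isOpen
  have e : W ≤ f ⁻¹ᵁ V := hWV
  let φ : Γ(Y, V) ⟶ Γ(X, W) := f.appLE V W e
  letI : Algebra Γ(Y, V) Γ(X, W) := φ.hom.toAlgebra
  have hft : Algebra.FiniteType Γ(Y, V) Γ(X, W) := by
    have := HasRingHomProperty.appLE (P := @LocallyOfFiniteType) f inferInstance ⟨V, hV⟩ ⟨W, hW⟩ e
    exact (RingHom.finiteType_algebraMap (A := Γ(Y, V)) (B := Γ(X, W))).mp this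
  have hcomm : Spec.map φ ≫ hV.fromSpec = hW.fromSpec ≫ f :=
    IsAffineOpen.SpecMap_appLE_fromSpec f hV hW e
  let P : PrimeSpectrum Γ(X, W) := hW.primeIdealOf ⟨x, hxW⟩
  have hPx : hW.fromSpec.base P = x := hW.fromSpec_primeIdealOf ⟨x, hxW⟩
  have hqf : Algebra.QuasiFiniteAt Γ(Y, V) P.asIdeal := hqfx.quasiFiniteAt hW hV e hxW
  have hsq : ∀ z : PrimeSpectrum Γ(X, W), f.base (hW.fromSpec.base z) =
      hV.fromSpec.base (PrimeSpectrum.comap (algebraMap Γ(Y, V) Γ(X, W)) z) := by
    intro z
    rw [← Scheme.Hom.comp_apply, ← hcomm, Scheme.Hom.comp_apply]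
    rfl
  have hfx : f.base x = hV.fromSpec.base (PrimeSpectrum.comap (algebraMap Γ(Y, V) Γ(X, W)) P) := by
    rw [← hPx]; exact hsq P
  -- irreducibility of `Spec Γ(X, W)`
  have hB : (nilradical Γ(X, W)).IsPrime := by
    rw [← PrimeSpectrum.irreducibleSpace_iff_isPrime_nilradical]
    have hirr : IrreducibleSpace ↥W := Subtype.irreducibleSpace
      ⟨⟨_, hxW⟩, (IrreducibleSpace.isIrreducible_univ X).2.open_subset W.isOpen (Set.subset_univ _)⟩
    exact (hW.isoSpec.hom.homeomorph.irreducibleSpace_iff).mp hirr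
  -- dominance
  have hker : ∀ a : Γ(Y, V), IsNilpotent (algebraMap Γ(Y, V) Γ(X, W) a) → IsNilpotent a := by
    intro a ha
    rw [Scheme.isNilpotent_iff_basicOpen_eq_bot_of_isCompact hV.isCompact]
    rw [Scheme.isNilpotent_iff_basicOpen_eq_bot_of_isCompact hW.isCompact] at ha
    have ha' : X.basicOpen (f.appLE V W e a) = ⊥ := ha
    rw [Scheme.basicOpen_appLE] at ha'
    by_contra hne
    have hne' : ((Y.basicOpen a : Y.Opens) : Set Y).Nonempty := by
      rw [Set.nonempty_iff_ne_empty]
      intro h0
      apply hne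
      ext z
      simp only [TopologicalSpace.Opens.coe_bot]
      rw [h0]
    have hWd : Dense (W : Set X) := W.isOpen.dense ⟨_, hxW⟩
    have hfW : Dense (f.base '' (W : Set X)) := f.denseRange.dense_image f.continuous hWd
    obtain ⟨_, hz, ⟨w, hwW, rfl⟩⟩ := hfW.inter_open_nonempty _ (Y.basicOpen a).isOpen hne'
    have : w ∈ ((W ⊓ f ⁻¹ᵁ (Y.basicOpen a) : X.Opens) : Set X) := ⟨hwW, hz⟩
    rw [ha'] at this
    exact this
  have hU : CAlg2.IsUnibranch (Localization.AtPrime
      (P.asIdeal.comap (algebraMap Γ(Y, V) Γ(X, W)))) := by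
    have h1 := isUnibranch_localization_of_stalk V hV
      (PrimeSpectrum.comap (algebraMap Γ(Y, V) Γ(X, W)) P) (hfx ▸ hy)
    exact h1
  have hmain := isOpenAt_of_quasiFiniteAt P hB hker hU
  have := isOpenAt_of_square f.base _ hW.fromSpec.base hV.fromSpec.base hW.fromSpec.continuous
    hV.fromSpec.isOpenEmbedding.isOpenMap hsq P hmain
  rw [hPx] at this
  exact this

end Groth.Agent.Lib.Helper3.UniOpen
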