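import Mathlib
import Groth.Agent.Lib.Helper14WEFlat
import Groth.Agent.Lib.Helper14WEField
import Groth.Agent.Lib.Helper3ValEt
import Groth.Agent.Lib.Helper3ValEt2

set_option autoImplicit false
set_option linter.style.haveILetI false

universe u

namespace Groth.Agent.Lib.Helper3.ValEt

open TensorProduct

/-- a nontrivial flat algebra over a domain has injective structure map -/
theorem algebraMap_injective_of_flat (A V : Type*) [CommRing A] [IsDomain A] [CommRing V]
    [Nontrivial V] [Algebra A V] [Module.Flat A V] : Function.Injective (algebraMap A V) := by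
  rw [injective_iff_map_eq_zero]
  intro a ha
  by_contra hne
  have h1 : (1 : V) ∈ Submodule.torsion A V := by
    rw [Submodule.mem_torsion_iff]
    exact ⟨⟨a, mem_nonZeroDivisors_of_ne_zero hne⟩, by
      show a • (1 : V) = 0
      rw [Algebra.smul_def, mul_one, ha]⟩
  rw [Module.Flat.torsion_eq_bot, Submodule.mem_bot] at h1
  exact one_ne_zero h1

/-- elements of a flat quasi-finite algebra over a domain are algebraic -/
theorem isAlgebraic_of_quasiFinite (A R : Type*) [CommRing A] [IsDomain A] [CommRing R]
    [Algebra A R] [Algebra.QuasiFinite A R] [Module.Flat A R] (y : R) : IsAlgebraic A y := by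
  haveI : Module.Finite (FractionRing A) (FractionRing A ⊗[A] R) := Module.Finite.of_quasiFinite
  haveI : Algebra.IsAlgebraic (FractionRing A) (FractionRing A ⊗[A] R) :=
    Algebra.IsAlgebraic.of_finite _ _
  have h1 : IsAlgebraic (FractionRing A) ((1 : FractionRing A) ⊗ₜ[A] y) :=
    Algebra.IsAlgebraic.isAlgebraic _
  rw [← IsFractionRing.isAlgebraic_iff A (FractionRing A) (FractionRing A ⊗[A] R)] at h1
  obtain ⟨p, hp0, hp⟩ := h1
  refine ⟨p, hp0, ?_⟩
  have hinj : Function.Injective
      (Algebra.TensorProduct.includeRight : R →ₐ[A] FractionRing A ⊗[A] R) :=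
    Algebra.TensorProduct.includeRight_injective (IsFractionRing.injective A (FractionRing A))
  apply hinj
  rw [map_zero, ← Polynomial.aeval_algHom_apply]
  exact hp

set_option maxHeartbeats 1600000 in
/-- a weakly etale, algebraic, local extension of valuation rings is weakly unramified:
every nonzero element is a unit multiple of an element of the base -/
theorem weaklyUnramified (A : Type u) [CommRing A] [IsDomain A] [ValuationRing A]
    (R : Type u) [CommRing R] [IsLocalRing R] [IsDomain R] [ValuationRing R] [Algebra A R]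
    [Algebra.WeaklyEtale A R] (halg : ∀ y : R, IsAlgebraic A y) (y : R) (hy : y ≠ 0) :
    ∃ (a : A) (u : Rˣ), y = u * algebraMap A R a := by
  have hinj : Function.Injective (algebraMap A R) := algebraMap_injective_of_flat A R
  obtain ⟨n, f, w, hn, hf, hyn⟩ := exists_pow_eq_unit_mul hinj y hy (halg y)
  -- the key membership in R ⊗ R
  have hmem : y ⊗ₜ[A] (1 : R) ∈ Ideal.span {(1 : R) ⊗ₜ[A] y} := by
    apply Ideal.mem_of_localization_maximal
    intro P hP
    rw [Ideal.map_span, Set.image_singleton, Ideal.mem_span_singleton]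
    haveI : Algebra.WeaklyEtale A (R ⊗[A] R) := Algebra.WeaklyEtale.trans A R (R ⊗[A] R)
    haveI : Algebra.WeaklyEtale (R ⊗[A] R) (Localization.AtPrime P) :=
      Groth.Agent.Lib.Helper14.WEField.weaklyEtale_of_isLocalization P.primeCompl _
    haveI : Algebra.WeaklyEtale A (Localization.AtPrime P) :=
      Algebra.WeaklyEtale.trans A (R ⊗[A] R) (Localization.AtPrime P)
    haveI : IsDomain (Localization.AtPrime P) := isDomain_of_local A _
    haveI : ValuationRing (Localization.AtPrime P) := valuationRing_of_local A _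
    have hinjV : Function.Injective (algebraMap A (Localization.AtPrime P)) :=
      algebraMap_injective_of_flat A _
    obtain ⟨lam, hlam⟩ : ∃ lam : R →+* Localization.AtPrime P, lam =
      (algebraMap (R ⊗[A] R) (Localization.AtPrime P)).comp
        (Algebra.TensorProduct.includeLeft : R →ₐ[A] R ⊗[A] R).toRingHom := ⟨_, rfl⟩
    obtain ⟨rho, hrho⟩ : ∃ rho : R →+* Localization.AtPrime P, rho =
      (algebraMap (R ⊗[A] R) (Localization.AtPrime P)).comp
        (Algebra.TensorProduct.includeRight : R →ₐ[A] R ⊗[A] R).toRingHom := ⟨_, rfl⟩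
    have hlamA : ∀ a : A, lam (algebraMap A R a) = algebraMap A (Localization.AtPrime P) a := by
      intro a
      rw [hlam, IsScalarTower.algebraMap_apply A (R ⊗[A] R) (Localization.AtPrime P)]
      simp
    have hrhoA : ∀ a : A, rho (algebraMap A R a) = algebraMap A (Localization.AtPrime P) a := by
      intro a
      rw [hrho, IsScalarTower.algebraMap_apply A (R ⊗[A] R) (Localization.AtPrime P)]
      simp
    show algebraMap (R ⊗[A] R) (Localization.AtPrime P) ((1 : R) ⊗ₜ[A] y) ∣
      algebraMap (R ⊗[A] R) (Localization.AtPrime P) (y ⊗ₜ[A] (1 : R))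
    have e1 : algebraMap (R ⊗[A] R) (Localization.AtPrime P) ((1 : R) ⊗ₜ[A] y) = rho y := by
      rw [hrho]; rfl
    have e2 : algebraMap (R ⊗[A] R) (Localization.AtPrime P) (y ⊗ₜ[A] (1 : R)) = lam y := by
      rw [hlam]; rfl
    rw [e1, e2]
    rcases ValuationRing.dvd_total (rho y) (lam y) with h | ⟨c, hc⟩
    · exact h
    · -- rho y = lam y * c, show c is a unit
      have h1 : lam y ^ n = lam w * algebraMap A (Localization.AtPrime P) f := by
        rw [← map_pow, hyn, map_mul, hlamA]
      have h2 : rho y ^ n = rho w * algebraMap A (Localization.AtPrime P) f := by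
        rw [← map_pow, hyn, map_mul, hrhoA]
      have hfV : algebraMap A (Localization.AtPrime P) f ≠ 0 := fun h0 =>
        hf (hinjV (by rw [h0, map_zero]))
      have h3 : c ^ n * lam w = rho w := by
        apply mul_right_cancel₀ hfV
        rw [← h2, hc, mul_pow, h1]
        ring
      have hcu : IsUnit (c ^ n) := by
        have hlw : IsUnit (lam w) := w.isUnit.map lam
        have hrw : IsUnit (rho w) := w.isUnit.map rho
        have : c ^ n = rho w * ((hlw.unit⁻¹ : (Localization.AtPrime P)ˣ) : _) := by
          rw [← h3, mul_assoc, IsUnit.mul_val_inv, mul_one]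
        rw [this]
        exact hrw.mul (Units.isUnit _)
      have hcu' : IsUnit c := (isUnit_pow_iff hn.ne').mp hcu
      rw [hc]
      obtain ⟨c', hc'⟩ := hcu'
      refine ⟨(c'⁻¹ : (Localization.AtPrime P)ˣ), ?_⟩
      rw [← hc', mul_assoc, Units.mul_inv, mul_one]
  have h3 := mem_map_comap_of_tmul_mem (A := A) y hmem
  -- extract the element of A
  have key : ∀ z ∈ ((Ideal.span {y}).comap (algebraMap A R)).map (algebraMap A R),
      ∃ a ∈ (Ideal.span {y}).comap (algebraMap A R), algebraMap A R a ∣ z := by
    intro z hz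
    refine Submodule.span_induction ?_ ?_ ?_ ?_ hz
    · rintro _ ⟨a, ha, rfl⟩
      exact ⟨a, ha, dvd_rfl⟩
    · exact ⟨0, Ideal.zero_mem _, by simp⟩
    · rintro z₁ z₂ _ _ ⟨a₁, ha₁, h₁⟩ ⟨a₂, ha₂, h₂⟩
      rcases ValuationRing.dvd_total a₁ a₂ with h | h
      · refine ⟨a₁, ha₁, dvd_add h₁ (dvd_trans ?_ h₂)⟩
        exact map_dvd (algebraMap A R) h
      · refine ⟨a₂, ha₂, dvd_add (dvd_trans ?_ h₁) h₂⟩
        exact map_dvd (algebraMap A R) h
    · rintro r z _ ⟨a, ha, h⟩
      exact ⟨a, ha, Dvd.dvd.mul_left h r⟩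
  obtain ⟨a, ha, hay⟩ := key y h3
  have hya : y ∣ algebraMap A R a := Ideal.mem_span_singleton.mp ha
  obtain ⟨u, hu⟩ := associated_of_dvd_dvd hya hay
  exact ⟨a, u⁻¹, by rw [← hu]; simp [mul_comm]⟩

end Groth.Agent.Lib.Helper3.ValEt
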