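import Mathlib
import Groth.Agent.Lib.Helper3GoingDownFib
import Groth.Agent.Lib.Helper6EquiSubC
set_option autoImplicit false
set_option linter.style.haveILetI false
universe u

namespace Groth.Agent.Lib.Helper3.ValTrdeg

open Groth.Agent.Lib.Helper3.GoingDownFib

theorem exists_dvd_all {A : Type*} [CommRing A] (hdvd : ∀ a b : A, a ∣ b ∨ b ∣ a) {ι : Type*}
    (s : Finset ι) (hs : s.Nonempty) (a : ι → A) : ∃ i ∈ s, ∀ j ∈ s, a i ∣ a j := by
  classical
  induction hs using Finset.Nonempty.cons_induction with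
  | singleton i => exact ⟨i, Finset.mem_singleton_self i, fun j hj => by
      rw [Finset.mem_singleton.mp hj]⟩
  | cons i s hi hs ih =>
    obtain ⟨k, hk, hkall⟩ := ih
    rcases hdvd (a i) (a k) with h | h
    · refine ⟨i, Finset.mem_cons_self i s, fun j hj => ?_⟩
      rcases Finset.mem_cons.mp hj with rfl | hj
      · exact dvd_rfl
      · exact h.trans (hkall j hj)
    · refine ⟨k, Finset.mem_cons.mpr (Or.inr hk), fun j hj => ?_⟩
      rcases Finset.mem_cons.mp hj with rfl | hj
      · exact h
      · exact hkall j hj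

/-- over a valuation ring (divisibility is total), algebraic independence modulo a prime `Q`
implies algebraic independence modulo any smaller prime `P`. -/
theorem algebraicIndependent_mk_of_le {A B : Type u} [CommRing A] [CommRing B] [Algebra A B]
    (hdvd : ∀ a b : A, a ∣ b ∨ b ∣ a)
    (P Q : Ideal B) [P.IsPrime] [Q.IsPrime] (hPQ : P ≤ Q) {d : ℕ} (t : Fin d → B)
    (ht : AlgebraicIndependent (A ⧸ Q.under A) (fun i => Ideal.Quotient.mk Q (t i))) :
    AlgebraicIndependent (A ⧸ P.under A) (fun i => Ideal.Quotient.mk P (t i)) := by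
  classical
  rw [algebraicIndependent_mk_iff] at ht ⊢
  apply le_antisymm
  · intro g hg
    rw [Ideal.mem_comap] at hg
    rw [MvPolynomial.mem_map_C_iff]
    by_contra hcon
    push Not at hcon
    obtain ⟨m₀, hm₀⟩ := hcon
    have hsupp : g.support.Nonempty := ⟨m₀, by
      rw [MvPolynomial.mem_support_iff]
      intro h0
      rw [h0] at hm₀
      exact hm₀ (Ideal.zero_mem _)⟩
    obtain ⟨I₀, hI₀, hall⟩ := exists_dvd_all hdvd g.support hsupp (fun m => g.coeff m)
    have hI₀p : g.coeff I₀ ∉ P.under A := by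
      intro h
      apply hm₀
      by_cases hm : m₀ ∈ g.support
      · obtain ⟨c, hc⟩ := hall m₀ hm
        rw [hc]
        exact Ideal.mul_mem_right _ _ h
      · rw [MvPolynomial.notMem_support_iff.mp hm]
        exact Ideal.zero_mem _
    choose! b hb using hall
    let g' : MvPolynomial (Fin d) A := ∑ m ∈ g.support, MvPolynomial.monomial m (b m)
    have hg' : g = MvPolynomial.C (g.coeff I₀) * g' := by
      ext m
      rw [MvPolynomial.coeff_C_mul, MvPolynomial.coeff_sum]
      simp only [MvPolynomial.coeff_monomial]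
      rw [Finset.sum_ite_eq' g.support m]
      split_ifs with hm
      · exact hb m hm
      · rw [MvPolynomial.notMem_support_iff.mp hm, mul_zero]
    have hcoeff : g'.coeff I₀ = b I₀ := by
      rw [MvPolynomial.coeff_sum]
      simp only [MvPolynomial.coeff_monomial]
      rw [Finset.sum_ite_eq' g.support I₀, if_pos hI₀]
    have hev : MvPolynomial.aeval t g = algebraMap A B (g.coeff I₀) * MvPolynomial.aeval t g' := by
      conv_lhs => rw [hg']
      rw [map_mul, MvPolynomial.aeval_C]
    have hg'P : MvPolynomial.aeval t g' ∈ P := by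
      have h1 : algebraMap A B (g.coeff I₀) * MvPolynomial.aeval t g' ∈ P := by
        rw [← hev]; exact hg
      rcases Ideal.IsPrime.mem_or_mem inferInstance h1 with h | h
      · exact absurd h hI₀p
      · exact h
    have hg'Q : g' ∈ Q.comap (MvPolynomial.aeval (R := A) t).toRingHom := by
      rw [Ideal.mem_comap]
      exact hPQ hg'P
    rw [ht, MvPolynomial.mem_map_C_iff] at hg'Q
    have hbq : b I₀ ∈ Q.under A := by
      have := hg'Q I₀
      rwa [hcoeff] at this
    have h1 : g.coeff I₀ * (1 - b I₀) ∈ P.under A := by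
      have : g.coeff I₀ * (1 - b I₀) = 0 := by
        rw [mul_sub, mul_one, ← hb I₀ hI₀, sub_self]
      rw [this]
      exact Ideal.zero_mem _
    have h2 : 1 - b I₀ ∈ P.under A := by
      rcases Ideal.IsPrime.mem_or_mem inferInstance h1 with h | h
      · exact absurd h hI₀p
      · exact h
    have h3 : 1 - b I₀ ∈ Q.under A := Ideal.comap_mono hPQ h2
    have h4 : (1 : A) ∈ Q.under A := by
      have := Ideal.add_mem _ h3 hbq
      rwa [sub_add_cancel] at this
    exact (inferInstance : (Q.under A).IsPrime).ne_top ((Ideal.eq_top_iff_one _).mpr h4)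
  · refine Ideal.map_le_iff_le_comap.mpr fun a ha => ?_
    rw [Ideal.mem_comap, Ideal.mem_comap]
    have h1 : (MvPolynomial.aeval (R := A) t).toRingHom (MvPolynomial.C a) = algebraMap A B a :=
      MvPolynomial.aeval_C t a
    rw [h1]
    exact ha


open AlgebraicGeometry CategoryTheory Groth.Agent.Lib.Helper4.DimFormula
  Groth.Agent.Lib.Helper4.VarDim in
/-- affine-local form: over an affine open `V` of the base whose ring has total divisibility,
`trdeg κ(x)/κ(f x)` does not drop under generization. -/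
theorem ptTrdeg_le_of_specializes_of_dvd_total {X S : Scheme.{u}} (f : X ⟶ S)
    [LocallyOfFiniteType f] {V : S.Opens} {U : X.Opens} (hU : IsAffineOpen U) (hV : IsAffineOpen V)
    (e : U ≤ f ⁻¹ᵁ V) (hdvd : ∀ a b : Γ(S, V), a ∣ b ∨ b ∣ a) (x x' : X) (hx : x ∈ U)
    (hsp : x' ⤳ x) : ptTrdeg f x ≤ ptTrdeg f x' := by
  have hx' : x' ∈ U := hsp.mem_open U.isOpen hx
  letI alg : Algebra Γ(S, V) Γ(X, U) := (f.appLE V U e).hom.toAlgebra
  set Q : Ideal Γ(X, U) := (hU.primeIdealOf ⟨x, hx⟩).asIdeal with hQ
  set P : Ideal Γ(X, U) := (hU.primeIdealOf ⟨x', hx'⟩).asIdeal with hP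
  have hPQ : P ≤ Q := (primeIdealOf_le_iff hU x' x hx' hx).mpr hsp
  have hQu : Q.under Γ(S, V) = (hV.primeIdealOf ⟨f x, e hx⟩).asIdeal :=
    primeIdealOf_comap_appLE f hU hV e x hx
  have hPu : P.under Γ(S, V) = (hV.primeIdealOf ⟨f x', e hx'⟩).asIdeal :=
    primeIdealOf_comap_appLE f hU hV e x' hx'
  have htr := trdeg_residueFieldMap_eq_trdeg_quotient f hU hV e x hx (Q.under Γ(S, V)) Q rfl hQu
  rw [trdeg_eq_ptTrdeg f x] at htr
  obtain ⟨t, ht⟩ := exists_lift_algebraicIndependent Q (ptTrdeg f x) htr.symm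
  have htP := algebraicIndependent_mk_of_le hdvd P Q hPQ t ht
  have htr' := trdeg_residueFieldMap_eq_trdeg_quotient f hU hV e x' hx' (P.under Γ(S, V)) P rfl hPu
  rw [trdeg_eq_ptTrdeg f x'] at htr'
  have hcard := htP.lift_cardinalMk_le_trdeg
  rw [← htr'] at hcard
  simpa using hcard

open AlgebraicGeometry CategoryTheory Groth.Agent.Lib.Helper4.DimFormula in
/-- over a valuation ring, `trdeg κ(x)/κ(φ x)` does not drop under generization. -/
theorem ptTrdeg_le_of_specializes_of_valuationRing (R : Type u) [CommRing R] [IsDomain R]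
    [ValuationRing R] {X : Scheme.{u}} (φ : X ⟶ Spec (CommRingCat.of R)) [LocallyOfFiniteType φ]
    (x x' : X) (hsp : x' ⤳ x) : ptTrdeg φ x ≤ ptTrdeg φ x' := by
  obtain ⟨_, ⟨U, hU, rfl⟩, hxU, -⟩ := X.isBasis_affineOpens.exists_subset_of_mem_open
    (Set.mem_univ x) isOpen_univ
  refine ptTrdeg_le_of_specializes_of_dvd_total φ hU (isAffineOpen_top _) le_top ?_ x x' hxU hsp
  intro a b
  let ε : Γ(Spec (CommRingCat.of R), ⊤) ≃+* R :=
    (Scheme.ΓSpecIso (CommRingCat.of R)).commRingCatIsoToRingEquiv
  rcases ValuationRing.dvd_total (ε a) (ε b) with h | h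
  · left
    have := map_dvd ε.symm h
    simpa using this
  · right
    have := map_dvd ε.symm h
    simpa using this

end Groth.Agent.Lib.Helper3.ValTrdeg
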