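import Mathlib

set_option autoImplicit false
set_option linter.style.haveILetI false

namespace Groth.Agent.Lib.Helper3.WEProd

open TensorProduct

/-- binary products of flat modules are flat -/
theorem flat_prod (R M N : Type*) [CommRing R] [AddCommGroup M] [AddCommGroup N] [Module R M]
    [Module R N] [Module.Flat R M] [Module.Flat R N] : Module.Flat R (M × N) := by
  rw [Module.Flat.iff_lTensor_preserves_injective_linearMap]
  intro P P' _ _ _ _ f hf
  have h1 : Function.Injective (f.lTensor M) :=
    Module.Flat.lTensor_preserves_injective_linearMap f hf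
  have h2 : Function.Injective (f.lTensor N) :=
    Module.Flat.lTensor_preserves_injective_linearMap f hf
  have hcomm : (TensorProduct.prodLeft R R M N P').toLinearMap ∘ₗ f.lTensor (M × N) =
      (LinearMap.prodMap (f.lTensor M) (f.lTensor N)) ∘ₗ
        (TensorProduct.prodLeft R R M N P).toLinearMap := by
    ext <;> simp
  have h3 : Function.Injective ((TensorProduct.prodLeft R R M N P').toLinearMap ∘ₗ
      f.lTensor (M × N)) := by
    rw [hcomm]
    exact (Function.Injective.prodMap h1 h2).comp (TensorProduct.prodLeft R R M N P).injective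
  rw [LinearMap.coe_comp] at h3
  exact Function.Injective.of_comp h3

/-- the product of two flat ring maps out of the same ring is flat -/
theorem ringHomFlat_prod {M N₁ N₂ : Type*} [CommRing M] [CommRing N₁] [CommRing N₂]
    {φ₁ : M →+* N₁} {φ₂ : M →+* N₂} (h₁ : φ₁.Flat) (h₂ : φ₂.Flat) : (φ₁.prod φ₂).Flat := by
  algebraize [φ₁, φ₂]
  have h : Module.Flat M (N₁ × N₂) := flat_prod M N₁ N₂
  letI alg : Algebra M (N₁ × N₂) := (φ₁.prod φ₂).toAlgebra
  show Module.Flat M (N₁ × N₂)
  let e : @LinearEquiv M M _ _ (RingHom.id M) (RingHom.id M) _ _ (N₁ × N₂) (N₁ × N₂) _ _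
      alg.toModule Prod.instModule :=
    { toFun := id
      invFun := id
      map_add' := fun _ _ => rfl
      map_smul' := fun m x => by
        show (φ₁.prod φ₂) m * x = (φ₁ m * x.1, φ₂ m * x.2)
        rfl
      left_inv := fun _ => rfl
      right_inv := fun _ => rfl }
  exact @Module.Flat.of_linearEquiv M (N₁ × N₂) (N₁ × N₂) _ _ Prod.instModule _ alg.toModule h e

/-- the first projection of a product of rings is flat -/
theorem ringHomFlat_fst (S T : Type*) [CommRing S] [CommRing T] : (RingHom.fst S T).Flat := by
  algebraize [RingHom.fst S T]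
  show Module.Flat (S × T) S
  let i : S →ₗ[S × T] S × T :=
    { toFun := fun s => (s, 0)
      map_add' := fun a b => by simp
      map_smul' := fun m x => by
        show ((RingHom.fst S T) m * x, (0 : T)) = m * (x, 0)
        ext <;> simp }
  let r : S × T →ₗ[S × T] S :=
    { toFun := Prod.fst
      map_add' := fun a b => rfl
      map_smul' := fun m x => rfl }
  exact Module.Flat.of_retract i r (by ext; rfl)

/-- the second projection of a product of rings is flat -/
theorem ringHomFlat_snd (S T : Type*) [CommRing S] [CommRing T] : (RingHom.snd S T).Flat := by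
  algebraize [RingHom.snd S T]
  show Module.Flat (S × T) T
  let i : T →ₗ[S × T] S × T :=
    { toFun := fun t => (0, t)
      map_add' := fun a b => by simp
      map_smul' := fun m x => by
        show ((0 : S), (RingHom.snd S T) m * x) = m * (0, x)
        ext <;> simp }
  let r : S × T →ₗ[S × T] T :=
    { toFun := Prod.snd
      map_add' := fun a b => rfl
      map_smul' := fun m x => rfl }
  exact Module.Flat.of_retract i r (by ext; rfl)

/-- binary products of weakly etale algebras are weakly etale -/
theorem weaklyEtale_prod (R S T : Type*) [CommRing R] [CommRing S] [CommRing T] [Algebra R S]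
    [Algebra R T] [Algebra.WeaklyEtale R S] [Algebra.WeaklyEtale R T] :
    Algebra.WeaklyEtale R (S × T) where
  flat := flat_prod R S T
  flat_lmul' := by
    have hπ₁ : (Algebra.TensorProduct.map (AlgHom.fst R S T) (AlgHom.fst R S T)).Flat :=
      RingHom.Flat.tensorProductMap (ringHomFlat_fst S T) (ringHomFlat_fst S T)
    have hπ₂ : (Algebra.TensorProduct.map (AlgHom.snd R S T) (AlgHom.snd R S T)).Flat :=
      RingHom.Flat.tensorProductMap (ringHomFlat_snd S T) (ringHomFlat_snd S T)
    have h1 : ((Algebra.TensorProduct.lmul' R (S := S)).comp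
        (Algebra.TensorProduct.map (AlgHom.fst R S T) (AlgHom.fst R S T))).Flat :=
      RingHom.Flat.comp hπ₁ (Algebra.WeaklyEtale.flat_lmul' R S)
    have h2 : ((Algebra.TensorProduct.lmul' R (S := T)).comp
        (Algebra.TensorProduct.map (AlgHom.snd R S T) (AlgHom.snd R S T))).Flat :=
      RingHom.Flat.comp hπ₂ (Algebra.WeaklyEtale.flat_lmul' R T)
    have heq : Algebra.TensorProduct.lmul' R (S := S × T) =
        AlgHom.prod ((Algebra.TensorProduct.lmul' R (S := S)).comp
          (Algebra.TensorProduct.map (AlgHom.fst R S T) (AlgHom.fst R S T)))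
          ((Algebra.TensorProduct.lmul' R (S := T)).comp
          (Algebra.TensorProduct.map (AlgHom.snd R S T) (AlgHom.snd R S T))) := by
      ext <;> simp
    rw [heq]
    exact ringHomFlat_prod h1 h2

end Groth.Agent.Lib.Helper3.WEProd
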