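import Mathlib
import Groth.Prelude.Def_PBC
import Groth.Prelude.Def_ProEtW
import Groth.Agent.Lib.Helper3WLocal
import Groth.Agent.Lib.Helper3LCSpec
import Groth.Agent.Lib.Helper3LCIndZar
import Groth.Agent.Lib.Helper3WLoc
import Groth.Agent.Lib.Helper3WLocUniv

set_option autoImplicit false
set_option linter.style.haveILetI false

universe u

namespace Groth.Agent.Lib.Helper3.WLocUniv

open TopologicalSpace Groth.Agent.Lib.Helper3.LCSpec Groth.Agent.Lib.Helper3.LCIndZar
open Groth.Agent.Lib.Helper3.WLoc Groth.Agent.Lib.Helper3.WLocal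

section functorial

variable {A B : Type u} [CommRing A] [CommRing B] [Algebra A B]
  {TA : Type u} [TopologicalSpace TA] {TB : Type u} [TopologicalSpace TB]
  (ρA : TA → PrimeSpectrum A) (hρA : ∀ f : A, IsClopen {t | f ∈ (ρA t).asIdeal})
  (ρB : TB → PrimeSpectrum B) (hρB : ∀ f : B, IsClopen {t | f ∈ (ρB t).asIdeal})
  (κ : C(TB, TA)) (hκ : ∀ t, ρA (κ t) = PrimeSpectrum.comap (algebraMap A B) (ρB t))

/-- the map on locally constant functions -/
noncomputable def Θ₀ : LocallyConstant TA A →+* LocallyConstant TB B :=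
  (LocallyConstant.comapRingHom κ).comp (LocallyConstant.mapRingHom (algebraMap A B))

omit [Algebra A B] in
theorem Θ₀_apply [Algebra A B] (h : LocallyConstant TA A) (t : TB) :
    Θ₀ (A := A) (B := B) κ h t = algebraMap A B (h (κ t)) := rfl

include hκ in
theorem Θ₀_gf (a : A) : Θ₀ κ (gf ρA hρA a) = gf ρB hρB (algebraMap A B a) := by
  ext t
  rw [Θ₀_apply]
  by_cases h : algebraMap A B a ∈ (ρB t).asIdeal
  · have h' : a ∈ (ρA (κ t)).asIdeal := by rw [hκ]; exact h
    rw [gf_apply_of_mem ρA hρA h', gf_apply_of_mem ρB hρB h, map_one]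
  · have h' : a ∉ (ρA (κ t)).asIdeal := by rw [hκ]; exact h
    rw [gf_apply_of_notMem ρA hρA h', gf_apply_of_notMem ρB hρB h]

include hκ in
theorem M_le_comap : M ρA hρA ≤ (M ρB hρB).comap (Θ₀ (A := A) (B := B) κ) := by
  apply Submonoid.closure_le.mpr
  rintro _ ⟨a, rfl⟩
  show Θ₀ κ (gf ρA hρA a) ∈ M ρB hρB
  rw [Θ₀_gf ρA hρA ρB hρB κ hκ]
  exact Submonoid.subset_closure ⟨_, rfl⟩

/-- the induced map on w-localizations -/
noncomputable def Θ : Aw ρA hρA →+* Aw ρB hρB :=
  IsLocalization.map (Aw ρB hρB) (Θ₀ (A := A) (B := B) κ) (M_le_comap ρA hρA ρB hρB κ hκ)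

theorem Θ_algebraMap (h : LocallyConstant TA A) :
    Θ ρA hρA ρB hρB κ hκ (algebraMap (LocallyConstant TA A) (Aw ρA hρA) h) =
      algebraMap (LocallyConstant TB B) (Aw ρB hρB) (Θ₀ κ h) :=
  IsLocalization.map_eq _ h

theorem Θ_algebraMap' (a : A) :
    Θ ρA hρA ρB hρB κ hκ (algebraMap A (Aw ρA hρA) a) =
      algebraMap B (Aw ρB hρB) (algebraMap A B a) := by
  rw [IsScalarTower.algebraMap_apply A (LocallyConstant TA A) (Aw ρA hρA), Θ_algebraMap,
    IsScalarTower.algebraMap_apply B (LocallyConstant TB B) (Aw ρB hρB)]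
  congr 1

omit [Algebra A B] in
theorem comap_Θ₀_pt [Algebra A B] (q : PrimeSpectrum B) (t : TB) :
    PrimeSpectrum.comap (Θ₀ (A := A) (B := B) κ) (pt q t) =
      pt (PrimeSpectrum.comap (algebraMap A B) q) (κ t) := by
  ext h
  rfl

variable [CompactSpace TA] [T2Space TA] [TotallyDisconnectedSpace TA]
  [CompactSpace TB] [T2Space TB] [TotallyDisconnectedSpace TB]

theorem comap_eq_pt_Ψ (y : PrimeSpectrum (Aw ρB hρB)) :
    PrimeSpectrum.comap (algebraMap (LocallyConstant TB B) (Aw ρB hρB)) y =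
      pt (Ψ ρB hρB y).1 (Ψ ρB hρB y).2 := by
  have := (specHomeo (T := TB) (A := B)).apply_symm_apply
    (PrimeSpectrum.comap (algebraMap (LocallyConstant TB B) (Aw ρB hρB)) y)
  rw [← this]
  rfl

theorem Ψ_comap_Θ (y : PrimeSpectrum (Aw ρB hρB)) :
    Ψ ρA hρA (PrimeSpectrum.comap (Θ ρA hρA ρB hρB κ hκ) y) =
      (PrimeSpectrum.comap (algebraMap A B) (Ψ ρB hρB y).1, κ (Ψ ρB hρB y).2) := by
  have h1 : PrimeSpectrum.comap (algebraMap (LocallyConstant TA A) (Aw ρA hρA))
      (PrimeSpectrum.comap (Θ ρA hρA ρB hρB κ hκ) y) =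
      PrimeSpectrum.comap (Θ₀ (A := A) (B := B) κ)
        (PrimeSpectrum.comap (algebraMap (LocallyConstant TB B) (Aw ρB hρB)) y) := by
    ext h
    show Θ ρA hρA ρB hρB κ hκ (algebraMap _ _ h) ∈ y.asIdeal ↔
      algebraMap _ _ (Θ₀ κ h) ∈ y.asIdeal
    rw [Θ_algebraMap]
  rw [Ψ, h1, comap_eq_pt_Ψ, comap_Θ₀_pt, ← specHomeo_apply, Homeomorph.symm_apply_apply]

end functorial

section uniqueness

variable {T : Type u} [TopologicalSpace T] [CompactSpace T] {A : Type u} [CommRing A]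

/-- algebra maps out of `LocallyConstant T A` are determined by characteristic functions -/
theorem algHom_ext_chi {R : Type*} [CommRing R] [Algebra A R]
    (u v : LocallyConstant T A →ₐ[A] R) (h : ∀ c : Clopens T, u (chi c) = v (chi c)) : u = v := by
  classical
  apply AlgHom.ext
  intro f
  obtain ⟨S, hS⟩ : ∃ S : DiscreteQuotient T, S = f.discreteQuotient := ⟨_, rfl⟩
  haveI : Fintype S := Fintype.ofFinite S
  obtain ⟨c, hc⟩ := mem_range_G S f (hS ▸ le_refl _)
  have hsum : f = ∑ s : S, c s • chi ⟨S.proj ⁻¹' {s}, S.isClopen_preimage {s}⟩ := by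
    ext t
    rw [← hc, G_apply]
    have hev : ∀ (g : S → LocallyConstant T A), (∑ s, g s) t = ∑ s, g s t :=
      fun g => map_sum (LocallyConstant.evalRingHom t) g Finset.univ
    rw [hev]
    simp only [LocallyConstant.smul_apply]
    rw [Finset.sum_eq_single (S.proj t)]
    · rw [chi_apply_of_mem (c := ⟨S.proj ⁻¹' {S.proj t}, S.isClopen_preimage _⟩) rfl, smul_eq_mul,
        mul_one]
    · intro s _ hs
      rw [chi_apply_of_notMem (c := ⟨S.proj ⁻¹' {s}, S.isClopen_preimage _⟩)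
        (fun h' => hs (Set.mem_singleton_iff.mp h').symm), smul_zero]
    · intro h'
      exact absurd (Finset.mem_univ _) h'
  rw [hsum, map_sum, map_sum]
  refine Finset.sum_congr rfl (fun s _ => ?_)
  rw [map_smul, map_smul, h]

end uniqueness

end Groth.Agent.Lib.Helper3.WLocUniv
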