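import Groth.Agent.Lib.Helper9NormDVRAlg
import Groth.Agent.Lib.Helper4NormFinite

set_option autoImplicit false
set_option linter.style.haveILetI false
universe u

open CategoryTheory AlgebraicGeometry TopologicalSpace Opposite

namespace Groth.Agent.Lib.Helper9.NormDVR

variable {X Y : Scheme.{u}} (f : Y ⟶ X) [QuasiCompact f] [QuasiSeparated f]

set_option backward.isDefEq.respectTransparency false in
/-- For an affine open `V ≤ f⁻¹U`, the composite `Spec Γ(Y,V) → Y → X'` is induced by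
`C → Γ(Y, f⁻¹U) → Γ(Y,V)`. -/
theorem fromSpec_toNormalization (U : X.affineOpens) (V : Y.Opens) (hV : IsAffineOpen V)
    (hVU : V ≤ f ⁻¹ᵁ U.1) :
    letI := (f.app U.1).hom.toAlgebra
    hV.fromSpec ≫ f.toNormalization =
      Spec.map (Y.presheaf.map (homOfLE hVU).op) ≫
      Spec.map (CommRingCat.ofHom (integralClosure Γ(X, U.1) Γ(Y, f ⁻¹ᵁ U.1)).val.toRingHom) ≫
        f.normalizationOpenCover.f U := by
  letI := (f.app U.1).hom.toAlgebra
  have h1 : hV.fromSpec = hV.isoSpec.inv ≫ Y.homOfLE hVU ≫ (f ⁻¹ᵁ U.1).ι := by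
    rw [Scheme.homOfLE_ι, IsAffineOpen.isoSpec_inv_ι]
  rw [h1, Category.assoc, Category.assoc, f.ι_toNormalization U,
    ← Scheme.Opens.toSpecΓ_SpecMap_presheaf_map_assoc, ← IsAffineOpen.isoSpec_hom hV,
    Iso.inv_hom_id_assoc]

/-- On a qcqs open `W`, if `D(s) ⊆ D(g)` then `g` divides a power of `s` in `Γ(Y, W)`. -/
theorem exists_mul_eq_pow_of_basicOpen_le {Y : Scheme.{u}} {W : Y.Opens} (hc : IsCompact W.1)
    (hqs : IsQuasiSeparated W.1) (s g : Γ(Y, W)) (h : Y.basicOpen s ≤ Y.basicOpen g) :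
    ∃ (n : ℕ) (b : Γ(Y, W)), g * b = s ^ n := by
  have hu : IsUnit (g |_ Y.basicOpen s) := by
    have h1 := RingedSpace.isUnit_res_basicOpen Y.toRingedSpace g
    have h2 : IsUnit ((Y.presheaf.map (homOfLE (Y.basicOpen_le g)).op ≫
        Y.presheaf.map (homOfLE h).op) g) := h1.map (Y.presheaf.map (homOfLE h).op).hom
    rw [← Functor.map_comp] at h2
    exact h2
  obtain ⟨w, hw⟩ := hu.exists_right_inv
  obtain ⟨n, y, hy⟩ := exists_eq_pow_mul_of_isCompact_of_isQuasiSeparated Y W hc hqs s w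
  have h3 : (g * y) |_ Y.basicOpen s = (s ^ n) |_ Y.basicOpen s := by
    simp only [TopCat.Presheaf.restrictOpenCommRingCat_apply] at hy hw ⊢
    rw [map_mul, hy, map_pow, mul_left_comm, hw, mul_one]
  obtain ⟨m, hm⟩ := exists_of_res_eq_of_qcqs hc hqs h3
  exact ⟨m + n, s ^ m * y, by rw [pow_add]; linear_combination hm⟩

/-- Local criterion for `D(s) ⊆ D(g)`. -/
theorem basicOpen_le_of_local {Y : Scheme.{u}} {W : Y.Opens} (s g : Γ(Y, W))
    (h : ∀ y ∈ W, ∃ (V : Y.Opens) (hVW : V ≤ W), y ∈ V ∧ ∃ a c d : Γ(Y, V),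
      Y.presheaf.map (homOfLE hVW).op s = a * c ∧ a = Y.presheaf.map (homOfLE hVW).op g * d) :
    Y.basicOpen s ≤ Y.basicOpen g := by
  intro y hy
  obtain ⟨V, hVW, hyV, a, c, d, h1, h2⟩ := h y (Y.basicOpen_le s hy)
  have h3 : y ∈ Y.basicOpen (Y.presheaf.map (homOfLE hVW).op s) := by
    rw [Scheme.basicOpen_res]; exact ⟨hyV, hy⟩
  rw [h1, Scheme.basicOpen_mul, h2, Scheme.basicOpen_mul, Scheme.basicOpen_res] at h3
  exact h3.1.1.2

/-- Abstract form of the geometric input: if `p` is not in the image of `Spec Γ(Y,V) → Spec C`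
for every affine open `V ⊆ W` and `g` lies in no prime strictly below `p`, then `g` divides (the
image of) some `s ∉ p` in `Γ(Y, W)`. -/
theorem exists_dvd_of_forall_affine {Y : Scheme.{u}} {W : Y.Opens} (hc : IsCompact W.1)
    (hqs : IsQuasiSeparated W.1) {C : Type*} [CommRing C] (φ : C →+* Γ(Y, W)) (p : Ideal C)
    [p.IsPrime] (g : C) (hg : ∀ q : Ideal C, q.IsPrime → q ≤ p → g ∈ q → q = p)
    (hp : ∀ (V : Y.Opens) (hVW : V ≤ W), IsAffineOpen V → ∀ Q : Ideal Γ(Y, V), Q.IsPrime →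
      Q.comap ((Y.presheaf.map (homOfLE hVW).op).hom.comp φ) ≠ p) :
    ∃ s, s ∉ p ∧ ∃ b : Γ(Y, W), φ g * b = φ s := by
  classical
  obtain ⟨S, hS, hcov⟩ := isCompact_iff_finite_and_eq_biUnion_affineOpens.mp hc
  haveI : Fintype S := hS.fintype
  have hle : ∀ V : S, (V.1 : Y.Opens) ≤ W := by
    intro V
    rw [hcov]
    exact le_iSup₂ (f := fun (i : Y.affineOpens) (_ : i ∈ S) => (i : Y.Opens)) V.1 V.2
  have key : ∀ V : S, ∃ s, s ∉ p ∧ ∃ d : Γ(Y, (V.1 : Y.Opens)),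
      ((Y.presheaf.map (homOfLE (hle V)).op).hom.comp φ) s =
        ((Y.presheaf.map (homOfLE (hle V)).op).hom.comp φ) g * d :=
    fun V => exists_notMem_of_notMem_range _ p g hg (hp V.1 (hle V) V.1.2)
  choose sV hsV dV hdV using key
  have hs : (∏ V : S, sV V) ∉ p := by
    intro h
    obtain ⟨V, -, hV⟩ := (Ideal.IsPrime.prod_mem_iff).mp h
    exact hsV V hV
  have hbo : Y.basicOpen (φ (∏ V : S, sV V)) ≤ Y.basicOpen (φ g) := by
    apply basicOpen_le_of_local
    intro y hy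
    have hy' : y ∈ ⨆ i ∈ S, (i : Y.Opens) := hcov ▸ hy
    simp only [Opens.mem_iSup] at hy'
    obtain ⟨V, hVS, hyV⟩ := hy'
    obtain ⟨c, hc'⟩ : sV ⟨V, hVS⟩ ∣ ∏ V : S, sV V := Finset.dvd_prod_of_mem sV (Finset.mem_univ _)
    refine ⟨V.1, hle ⟨V, hVS⟩, hyV,
      ((Y.presheaf.map (homOfLE (hle ⟨V, hVS⟩)).op).hom.comp φ) (sV ⟨V, hVS⟩),
      ((Y.presheaf.map (homOfLE (hle ⟨V, hVS⟩)).op).hom.comp φ) c, dV ⟨V, hVS⟩, ?_, hdV ⟨V, hVS⟩⟩
    rw [hc', map_mul, map_mul]; rfl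
  obtain ⟨n, b, hb⟩ := exists_mul_eq_pow_of_basicOpen_le hc hqs _ _ hbo
  exact ⟨(∏ V : S, sV V) ^ n, fun h => hs (Ideal.IsPrime.mem_of_pow_mem inferInstance n h), b,
    by rw [hb, map_pow]⟩

set_option backward.isDefEq.respectTransparency false in
/-- The stalk of `N` at the image of a point of an affine chart is the localization. -/
theorem nonempty_stalk_ringEquiv {N : Scheme.{u}} {D : Type u} [CommRing D]
    (j : Spec (CommRingCat.of D) ⟶ N) [IsOpenImmersion j] (P : Spec (CommRingCat.of D)) :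
    Nonempty (N.presheaf.stalk (j P) ≃+* Localization.AtPrime P.asIdeal) := by
  letI k : Algebra D ↑((Spec (.of D)).presheaf.stalk P) := StructureSheaf.stalkAlgebra D P
  haveI : IsLocalization.AtPrime ((Spec (.of D)).presheaf.stalk P) P.asIdeal :=
    StructureSheaf.IsLocalization.to_stalk D P
  exact ⟨(asIso (j.stalkMap P)).commRingCatIsoToRingEquiv.trans
    (IsLocalization.algEquiv P.asIdeal.primeCompl _ _).toRingEquiv⟩

set_option backward.isDefEq.respectTransparency false in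
theorem isDVR_stalk_normalization [LocallyOfFiniteType f] [IsReduced Y]
    (hX : ∀ U : X.affineOpens, CAlg.IsNagata Γ(X, U))
    (x' : ↥f.normalization) (hdim : ringKrullDim (f.normalization.presheaf.stalk x') = 1)
    (hx' : x' ∉ Set.range f.toNormalization.base) :
    ∃ _ : IsDomain (f.normalization.presheaf.stalk x'),
      IsDiscreteValuationRing (f.normalization.presheaf.stalk x') := by
  obtain ⟨_, ⟨U, hU, rfl⟩, hxU, -⟩ := X.isBasis_affineOpens.exists_subset_of_mem_open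
    (Set.mem_univ (f.fromNormalization x')) isOpen_univ
  let U' : X.affineOpens := ⟨U, hU⟩
  letI := (f.app U).hom.toAlgebra
  have hmem : x' ∈ (f.normalizationOpenCover.f U').opensRange := by
    rw [← f.fromNormalization_preimage U']; exact hxU
  obtain ⟨P, rfl⟩ := hmem
  -- the ring `C`
  haveI : IsNoetherianRing Γ(X, U) := (hX U').1
  haveI hfinC : Module.Finite Γ(X, U) (integralClosure Γ(X, U) Γ(Y, f ⁻¹ᵁ U)) :=
    Groth.Agent.Lib.Helper4.NormFinite.finite_integralClosure_sections f U hU (hX U')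
  haveI : IsNoetherianRing (integralClosure Γ(X, U) Γ(Y, f ⁻¹ᵁ U)) :=
    IsNoetherianRing.of_finite Γ(X, U) _
  haveI : IsReduced (integralClosure Γ(X, U) Γ(Y, f ⁻¹ᵁ U)) :=
    isReduced_of_injective (integralClosure Γ(X, U) Γ(Y, f ⁻¹ᵁ U)).val Subtype.val_injective
  have hinj : Function.Injective
      (algebraMap (integralClosure Γ(X, U) Γ(Y, f ⁻¹ᵁ U)) Γ(Y, f ⁻¹ᵁ U)) :=
    Subtype.val_injective
  have hic : ∀ b : Γ(Y, f ⁻¹ᵁ U), IsIntegral (integralClosure Γ(X, U) Γ(Y, f ⁻¹ᵁ U)) b →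
      b ∈ (algebraMap (integralClosure Γ(X, U) Γ(Y, f ⁻¹ᵁ U)) Γ(Y, f ⁻¹ᵁ U)).range := by
    intro b hb
    have hb' : IsIntegral Γ(X, U) b := isIntegral_trans b hb
    exact ⟨⟨b, hb'⟩, rfl⟩
  let P' : Spec (CommRingCat.of (integralClosure Γ(X, U) Γ(Y, f ⁻¹ᵁ U))) := P
  obtain ⟨e₀⟩ := nonempty_stalk_ringEquiv (f.normalizationOpenCover.f U') P'
  obtain ⟨p, hpP⟩ : ∃ p : Ideal (integralClosure Γ(X, U) Γ(Y, f ⁻¹ᵁ U)), p = P'.asIdeal := ⟨_, rfl⟩
  haveI hpp : p.IsPrime := hpP ▸ P'.isPrime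
  obtain ⟨e⟩ : Nonempty (f.normalization.presheaf.stalk ((f.normalizationOpenCover.f U') P) ≃+*
      Localization.AtPrime p) := by
    subst hpP; exact ⟨e₀⟩
  have hdim' : ringKrullDim (Localization.AtPrime p) = 1 :=
    (ringKrullDim_eq_of_ringEquiv e).symm.trans hdim
  have hht : p.height = 1 := by
    have := IsLocalization.AtPrime.ringKrullDim_eq_height p (Localization.AtPrime p)
    rw [hdim'] at this
    exact_mod_cast this.symm
  obtain ⟨g, hgp, hg⟩ := exists_mem_forall_eq p hht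
  have hpV : ∀ (V : Y.Opens) (hVW : V ≤ f ⁻¹ᵁ U), IsAffineOpen V → ∀ Q : Ideal Γ(Y, V), Q.IsPrime →
      Q.comap ((Y.presheaf.map (homOfLE hVW).op).hom.comp
        (integralClosure Γ(X, U) Γ(Y, f ⁻¹ᵁ U)).val.toRingHom) ≠ p := by
    intro V hVW hV Q hQ hcon
    apply hx'
    refine ⟨hV.fromSpec ⟨Q, hQ⟩, ?_⟩
    have h3 := fromSpec_toNormalization f U' V hV hVW
    have h4 := congr($(h3).base ⟨Q, hQ⟩)
    have h5 : (Spec.map (CommRingCat.ofHom (integralClosure Γ(X, U) Γ(Y, f ⁻¹ᵁ U)).val.toRingHom)).base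
        ((Spec.map (Y.presheaf.map (homOfLE hVW).op)).base ⟨Q, hQ⟩) = P' := by
      apply PrimeSpectrum.ext
      rw [← hpP, ← hcon]
      rfl
    simp only [Scheme.Hom.comp_base, TopCat.hom_comp, ContinuousMap.comp_apply] at h4
    exact h4.trans (congrArg (f.normalizationOpenCover.f U').base h5)
  obtain ⟨s, hs, b, hb⟩ := exists_dvd_of_forall_affine (f.isCompact_preimage hU.isCompact)
    (f.isQuasiSeparated_preimage hU.isQuasiSeparated)
    (integralClosure Γ(X, U) Γ(Y, f ⁻¹ᵁ U)).val.toRingHom p g hg hpV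
  obtain ⟨h1, h2⟩ := isDomain_isIntegrallyClosed_atPrime hinj hic p hdim'.le g hgp s hs b hb
  haveI := h1
  haveI := h2
  haveI hd : IsDomain (f.normalization.presheaf.stalk ((f.normalizationOpenCover.f U') P)) :=
    e.toMulEquiv.isDomain (Localization.AtPrime p)
  haveI : IsDiscreteValuationRing (Localization.AtPrime p) :=
    Groth.Agent.Lib.Helper9.ValCritEss.isDiscreteValuationRing_of_dim_one _ hdim'
  exact ⟨hd, IsDiscreteValuationRing.RingEquivClass.isDiscreteValuationRing e.symm⟩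

end Groth.Agent.Lib.Helper9.NormDVR
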