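/-
Helper library (helper9): ingredients for "the normalization of `X` in a normal scheme `Y` with
locally finitely many irreducible components is normal":
* algebra: if `B ≃ ∏ N i` is a finite product of normal domains then all localizations of the
  integral closure of `A` in `B` at primes are normal domains;
* sheaf theory: sections over a finite disjoint union of opens form the product;
* sections of a normal scheme over an irreducible open form a normal domain.
-/
import Groth.Agent.Lib.Helper4TotalFrac
import Groth.Agent.Lib.Helper4NormGlobal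
import Groth.Prelude.Def_Pi1

set_option autoImplicit false
set_option linter.style.haveILetI false
universe u

open CategoryTheory AlgebraicGeometry TopologicalSpace Opposite

namespace Groth.Agent.Lib.Helper9.NormProd

section Algebra

/-- The integral closure of `A` in a normal domain is a normal domain. -/
theorem isIntegrallyClosed_integralClosure {A N : Type*} [CommRing A] [CommRing N] [IsDomain N]
    [IsIntegrallyClosed N] [Algebra A N] : IsIntegrallyClosed (integralClosure A N) :=
  IsIntegrallyClosed.of_isIntegrallyClosed_of_isIntegrallyClosedIn (R := integralClosure A N)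
    (S := N)

/-- If `B` is a finite product of normal domains, all localizations of the integral closure of
`A` in `B` at primes are normal domains. -/
theorem normal_localization_integralClosure {A B : Type*} [CommRing A] [CommRing B] [Algebra A B]
    {ι : Type*} [Finite ι] (N : ι → Type*) [∀ i, CommRing (N i)] [∀ i, IsDomain (N i)]
    [∀ i, IsIntegrallyClosed (N i)] (e : B ≃+* ∀ i, N i)
    (P : Ideal (integralClosure A B)) [P.IsPrime] :
    IsDomain (Localization.AtPrime P) ∧ IsIntegrallyClosed (Localization.AtPrime P) := by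
  letI : ∀ i, Algebra A (N i) := fun i =>
    ((Pi.evalRingHom N i).comp (e.toRingHom.comp (algebraMap A B))).toAlgebra
  let e' : B ≃ₐ[A] ∀ i, N i := AlgEquiv.ofRingEquiv (f := e) (fun a => by funext i; rfl)
  let ψ : integralClosure A B ≃ₐ[A] ∀ i, integralClosure A (N i) :=
    (AlgEquiv.mapIntegralClosure e').trans
      (Groth.Agent.Lib.Helper4.TotalFrac.integralClosurePiEquiv A N)
  haveI : ∀ i, IsIntegrallyClosed (integralClosure A (N i)) :=
    fun i => isIntegrallyClosed_integralClosure
  exact Groth.Agent.Lib.Helper4.TotalFrac.isDomain_isIntegrallyClosed_localization_of_ringEquiv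
    ψ.toRingEquiv P (fun Q _ =>
      Groth.Agent.Lib.Helper4.TotalFrac.isDomain_isIntegrallyClosed_localization_pi _ Q)

end Algebra

section Gluing

variable {Y : Scheme.{u}}

/-- Sections over a disjoint union of opens form the product of the sections. -/
theorem bijective_pi_res {ι : Type*} (V : Y.Opens) (W : ι → Y.Opens) (hle : ∀ i, W i ≤ V)
    (hcov : V ≤ ⨆ i, W i) (hdis : ∀ i j, i ≠ j → W i ⊓ W j = ⊥) :
    Function.Bijective
      (RingHom.pi (fun i => (Y.presheaf.map (homOfLE (hle i)).op).hom) :
        Γ(Y, V) →+* ∀ i, Γ(Y, W i)) := by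
  have key : ∀ t : ∀ i, Γ(Y, W i), ∃! s : Γ(Y, V),
      ∀ i, Y.presheaf.map (homOfLE (hle i)).op s = t i := by
    intro t
    have hcompat : TopCat.Presheaf.IsCompatible Y.presheaf W t := by
      intro i j
      by_cases hij : i = j
      · subst hij; rfl
      · haveI : Subsingleton Γ(Y, W i ⊓ W j) := by rw [hdis i j hij]; infer_instance
        exact Subsingleton.elim _ _
    exact Y.sheaf.existsUnique_gluing' W V (fun i => homOfLE (hle i)) hcov t hcompat
  constructor
  · intro s s' hss'
    obtain ⟨s₀, -, hs₀⟩ := key (fun i => Y.presheaf.map (homOfLE (hle i)).op s)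
    rw [hs₀ s (fun i => rfl), hs₀ s' (fun i => (congrFun hss' i).symm)]
  · intro t
    obtain ⟨s, hs, -⟩ := key t
    exact ⟨s, funext hs⟩

/-- A section which is `1` on `W₁` and `0` on the rest has basic open `W₁`. -/
theorem basicOpen_eq_of_res {ι : Type*} (V : Y.Opens) (W : ι → Y.Opens) (hle : ∀ i, W i ≤ V)
    (hcov : V ≤ ⨆ i, W i) (i₀ : ι) (s : Γ(Y, V))
    (h1 : Y.presheaf.map (homOfLE (hle i₀)).op s = 1)
    (h0 : ∀ i, i ≠ i₀ → Y.presheaf.map (homOfLE (hle i)).op s = 0) :
    Y.basicOpen s = W i₀ := by
  apply le_antisymm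
  · intro y hy
    have hyV : y ∈ V := Y.basicOpen_le s hy
    obtain ⟨i, hi⟩ := Opens.mem_iSup.mp (hcov hyV)
    by_cases hii : i = i₀
    · subst hii; exact hi
    · exfalso
      have h2 : y ∈ Y.basicOpen (Y.presheaf.map (homOfLE (hle i)).op s) := by
        rw [Scheme.basicOpen_res]; exact ⟨hi, hy⟩
      rw [h0 i hii, Scheme.basicOpen_zero] at h2
      exact h2
  · have h2 : Y.basicOpen (Y.presheaf.map (homOfLE (hle i₀)).op s) = W i₀ := by
      rw [h1]; exact Scheme.basicOpen_of_isUnit _ isUnit_one
    rw [Scheme.basicOpen_res] at h2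
    rw [← h2]
    exact inf_le_right

end Gluing

section Sections

/-- Normality passes to open subschemes. -/
theorem isNormalScheme_of_isOpenImmersion {X Y : Scheme.{u}} (j : X ⟶ Y) [IsOpenImmersion j]
    (hY : Pi1.IsNormalScheme Y) : Pi1.IsNormalScheme X := by
  intro x
  obtain ⟨h1, h2⟩ := hY (j x)
  let e : Y.presheaf.stalk (j x) ≃+* X.presheaf.stalk x :=
    (asIso (j.stalkMap x)).commRingCatIsoToRingEquiv
  exact ⟨e.symm.toMulEquiv.isDomain _, IsIntegrallyClosed.of_equiv e⟩

/-- A normal scheme is reduced. -/
theorem isReduced_of_isNormalScheme {Y : Scheme.{u}} (hY : Pi1.IsNormalScheme Y) :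
    IsReduced Y := by
  haveI : ∀ y : Y, _root_.IsReduced (Y.presheaf.stalk y) := fun y => by
    haveI := (hY y).1
    infer_instance
  exact isReduced_of_isReduced_stalk Y

set_option backward.isDefEq.respectTransparency false in
/-- Sections of a normal scheme over an irreducible open subset form a normal domain. -/
theorem isDomain_isIntegrallyClosed_sections {Y : Scheme.{u}} (hY : Pi1.IsNormalScheme Y)
    (W : Y.Opens) (hW : IsIrreducible (W : Set Y)) :
    IsDomain Γ(Y, W) ∧ IsIntegrallyClosed Γ(Y, W) := by
  haveI : IsReduced Y := isReduced_of_isNormalScheme hY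
  haveI : IrreducibleSpace (W.toScheme : Type u) :=
    (isIrreducible_iff_irreducibleSpace (s := (W : Set Y))).mp hW
  haveI : IsIntegral W.toScheme := isIntegral_of_irreducibleSpace_of_isReduced _
  have hN : Pi1.IsNormalScheme W.toScheme := isNormalScheme_of_isOpenImmersion W.ι hY
  haveI hne : Nonempty (⊤ : W.toScheme.Opens) := ⟨⟨Classical.arbitrary _, trivial⟩⟩
  haveI hic := Groth.Agent.Lib.Helper4.NormGlobal.isIntegrallyClosedIn_top_functionField
    W.toScheme hN
  have hinj : Function.Injective (algebraMap Γ(W.toScheme, ⊤) W.toScheme.functionField) :=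
    W.toScheme.germToFunctionField_injective ⊤
  haveI : FaithfulSMul Γ(W.toScheme, ⊤) W.toScheme.functionField :=
    (faithfulSMul_iff_algebraMap_injective _ _).mpr hinj
  haveI hd : IsDomain Γ(W.toScheme, ⊤) := IsIntegral.component_integral ⊤
  haveI : IsIntegrallyClosed Γ(W.toScheme, ⊤) :=
    IsIntegrallyClosed.of_isIntegrallyClosedIn Γ(W.toScheme, ⊤) W.toScheme.functionField
  let e : Γ(W.toScheme, ⊤) ≃+* Γ(Y, W) := W.topIso.commRingCatIsoToRingEquiv
  exact ⟨e.symm.toMulEquiv.isDomain _, IsIntegrallyClosed.of_equiv e⟩

end Sections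

end Groth.Agent.Lib.Helper9.NormProd
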