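/-
Helper library (helper9): the normalization of `X` in a normal scheme `Y` with locally finitely
many irreducible components: local structure.
-/
import Groth.Agent.Lib.Helper9NormProd
import Groth.Agent.Lib.Helper9NormDVRSch
import Groth.Agent.Lib.Helper4EtNormalSch
import Groth.Agent.Lib.Helper14IrrComp
import Groth.Agent.S9672

set_option autoImplicit false
set_option linter.style.haveILetI false
universe u

open CategoryTheory AlgebraicGeometry TopologicalSpace Opposite

namespace Groth.Agent.Lib.Helper9.NormProd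

section Top

variable {Y : Scheme.{u}}

/-- Distinct irreducible components of a normal scheme are disjoint. -/
theorem disjoint_of_ne (hY : Pi1.IsNormalScheme Y) {Z Z' : Set Y}
    (hZ : Z ∈ irreducibleComponents Y) (hZ' : Z' ∈ irreducibleComponents Y) (hne : Z ≠ Z') :
    Disjoint Z Z' := by
  rw [Set.disjoint_iff]
  rintro x ⟨hx, hx'⟩
  haveI := (hY x).1
  exact hne (Groth.Agent.Lib.Helper4.EtNormalSch.irreducibleComponents_eq_of_mem x hZ hZ' hx hx')

/-- Irreducible components of a normal scheme with locally finitely many components are open. -/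
theorem isOpen_of_mem_irreducibleComponents (hY : Pi1.IsNormalScheme Y)
    (hfin : LocallyFinite (fun Z : ↥(irreducibleComponents ↥Y) => (Z : Set ↥Y)))
    {Z : Set Y} (hZ : Z ∈ irreducibleComponents Y) : IsOpen Z := by
  have hcl : IsClosed (⋃ Z' : {Z' : ↥(irreducibleComponents ↥Y) // Z'.1 ≠ Z}, (Z'.1.1 : Set Y)) :=
    LocallyFinite.isClosed_iUnion
      (f := fun Z' : {Z' : ↥(irreducibleComponents ↥Y) // Z'.1 ≠ Z} => (Z'.1.1 : Set Y))
      (hfin.comp_injective Subtype.val_injective)
      (fun Z' => isClosed_of_mem_irreducibleComponents _ Z'.1.2)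
  have heq : Z = (⋃ Z' : {Z' : ↥(irreducibleComponents ↥Y) // Z'.1 ≠ Z}, (Z'.1.1 : Set Y))ᶜ := by
    ext y
    simp only [Set.mem_compl_iff, Set.mem_iUnion, not_exists]
    constructor
    · intro hy Z' hyZ'
      exact Set.disjoint_iff.mp (disjoint_of_ne hY hZ Z'.1.2 (Ne.symm Z'.2)) ⟨hy, hyZ'⟩
    · intro h
      by_contra hy
      refine h ⟨⟨irreducibleComponent y, irreducibleComponent_mem_irreducibleComponents y⟩, ?_⟩
        mem_irreducibleComponent
      intro heq
      exact hy (heq ▸ mem_irreducibleComponent)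
  rw [heq]
  exact hcl.isOpen_compl

/-- Local decomposition of a quasi-compact open of a normal scheme with locally finitely many
irreducible components. -/
theorem exists_decomposition (hY : Pi1.IsNormalScheme Y)
    (hfin : LocallyFinite (fun Z : ↥(irreducibleComponents ↥Y) => (Z : Set ↥Y)))
    (V : Y.Opens) (hV : IsCompact (V : Set Y)) :
    ∃ (ι : Type u) (_ : Finite ι) (W : ι → Y.Opens),
      (∀ i, W i ≤ V) ∧ (V ≤ ⨆ i, W i) ∧ (∀ i j, i ≠ j → W i ⊓ W j = ⊥) ∧
      (∀ i, IsIrreducible (W i : Set Y)) ∧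
      (∀ i, ∃ Z ∈ irreducibleComponents Y, (W i : Set Y) ⊆ Z ∧
        ∀ y ∈ W i, closure {y} ∈ irreducibleComponents Y → closure {y} = Z) := by
  have hfinV := hfin.finite_nonempty_inter_compact hV
  let ι : Type u := ↥{Z : ↥(irreducibleComponents ↥Y) | ((Z : Set ↥Y) ∩ (V : Set Y)).Nonempty}
  haveI : Finite ι := hfinV.to_subtype
  let W : ι → Y.Opens := fun i =>
    ⟨i.1.1, isOpen_of_mem_irreducibleComponents hY hfin i.1.2⟩ ⊓ V
  have hW : ∀ i : ι, (W i : Set Y) = i.1.1 ∩ (V : Set Y) := fun i => rfl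
  refine ⟨ι, inferInstance, W, fun i => inf_le_right, ?_, ?_, ?_, ?_⟩
  · intro y hy
    refine Opens.mem_iSup.mpr ⟨⟨⟨irreducibleComponent y,
      irreducibleComponent_mem_irreducibleComponents y⟩, ⟨y, mem_irreducibleComponent, hy⟩⟩, ?_⟩
    exact ⟨mem_irreducibleComponent, hy⟩
  · intro i j hij
    ext y
    simp only [Opens.coe_inf, Opens.coe_bot, Set.mem_empty_iff_false, iff_false]
    rintro ⟨hyi, hyj⟩
    have hyi' : y ∈ i.1.1 := ((hW i) ▸ hyi).1
    have hyj' : y ∈ j.1.1 := ((hW j) ▸ hyj).1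
    have hne : i.1.1 ≠ j.1.1 := fun h => hij (Subtype.ext (Subtype.ext h))
    exact Set.disjoint_iff.mp (disjoint_of_ne hY i.1.2 j.1.2 hne) ⟨hyi', hyj'⟩
  · intro i
    obtain ⟨y, hy⟩ := i.2
    exact ⟨⟨y, hy⟩, i.1.2.1.isPreirreducible.open_subset (W i).isOpen Set.inter_subset_left⟩
  · intro i
    refine ⟨i.1.1, i.1.2, Set.inter_subset_left, fun y hy hgen => ?_⟩
    by_contra hne
    have hyi : y ∈ i.1.1 := hy.1
    exact Set.disjoint_iff.mp (disjoint_of_ne hY hgen i.1.2 hne) ⟨subset_closure rfl, hyi⟩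

end Top

section Chart

variable {X Y : Scheme.{u}} (f : Y ⟶ X) [QuasiCompact f] [QuasiSeparated f]

set_option backward.isDefEq.respectTransparency false in
/-- Pairwise orthogonal integral sections over `f⁻¹U` give pairwise disjoint opens of the
normalization, whose preimages in `Y` are the basic opens of the sections. -/
theorem exists_opens_of_orthogonal (U : X.affineOpens) {ι : Type*} (e : ι → Γ(Y, f ⁻¹ᵁ U.1))
    (hint : ∀ i, (f.app U.1).hom.IsIntegralElem (e i))
    (hmul : ∀ i j, i ≠ j → e i * e j = 0) :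
    ∃ O : ι → f.normalization.Opens, (∀ i j, i ≠ j → O i ⊓ O j = ⊥) ∧
      ∀ i, f.toNormalization ⁻¹ᵁ (O i) = Y.basicOpen (e i) := by
  letI := (f.app U.1).hom.toAlgebra
  let a : ι → integralClosure Γ(X, U.1) Γ(Y, f ⁻¹ᵁ U.1) := fun i => ⟨e i, hint i⟩
  let s : ι → Γ(f.normalization, f.fromNormalization ⁻¹ᵁ U.1) :=
    fun i => (f.normalizationObjIso U.2).inv (a i)
  refine ⟨fun i => f.normalization.basicOpen (s i), fun i j hij => ?_, fun i => ?_⟩
  · have h0 : s i * s j = 0 := by
      have : a i * a j = 0 := Subtype.ext (hmul i j hij)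
      simp only [s]
      rw [← map_mul, this, map_zero]
    rw [← Scheme.basicOpen_mul, h0, Scheme.basicOpen_zero]
  · rw [Scheme.preimage_basicOpen]
    have h1 := f.toNormalization_app_preimage U
    have h2 : (f.toNormalization.app (f.fromNormalization ⁻¹ᵁ U.1)) (s i) =
        (Y.presheaf.map (eqToHom (by simp [← Scheme.Hom.comp_preimage])).op) (e i) := by
      rw [h1]
      simp only [s, CommRingCat.comp_apply]
      rw [← CommRingCat.comp_apply (f.normalizationObjIso U.2).inv, Iso.inv_hom_id]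
      rfl
    rw [h2, Scheme.basicOpen_res_eq]

end Chart

section Main

variable {X Y : Scheme.{u}} (f : Y ⟶ X) [QuasiCompact f] [QuasiSeparated f]

set_option backward.isDefEq.respectTransparency false in
/-- The normalization of `X` in a normal scheme with locally finitely many components is
normal. -/
theorem isNormalScheme_normalization (hY : Pi1.IsNormalScheme Y)
    (hfin : LocallyFinite (fun Z : ↥(irreducibleComponents ↥Y) => (Z : Set ↥Y))) :
    Pi1.IsNormalScheme f.normalization := by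
  intro x'
  obtain ⟨_, ⟨U, hU, rfl⟩, hxU, -⟩ := X.isBasis_affineOpens.exists_subset_of_mem_open
    (Set.mem_univ (f.fromNormalization x')) isOpen_univ
  let U' : X.affineOpens := ⟨U, hU⟩
  letI := (f.app U).hom.toAlgebra
  have hmem : x' ∈ (f.normalizationOpenCover.f U').opensRange := by
    rw [← f.fromNormalization_preimage U']; exact hxU
  obtain ⟨P, rfl⟩ := hmem
  let P' : Spec (CommRingCat.of (integralClosure Γ(X, U) Γ(Y, f ⁻¹ᵁ U))) := P
  obtain ⟨e₀⟩ := Groth.Agent.Lib.Helper9.NormDVR.nonempty_stalk_ringEquiv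
    (f.normalizationOpenCover.f U') P'
  obtain ⟨p, hpP⟩ : ∃ p : Ideal (integralClosure Γ(X, U) Γ(Y, f ⁻¹ᵁ U)), p = P'.asIdeal := ⟨_, rfl⟩
  haveI hpp : p.IsPrime := hpP ▸ P'.isPrime
  obtain ⟨e⟩ : Nonempty (f.normalization.presheaf.stalk ((f.normalizationOpenCover.f U') P) ≃+*
      Localization.AtPrime p) := by
    subst hpP; exact ⟨e₀⟩
  obtain ⟨ι, _, W, hle, hcov, hdis, hirr, -⟩ := exists_decomposition hY hfin (f ⁻¹ᵁ U)
    (f.isCompact_preimage hU.isCompact)
  have hN : ∀ i, IsDomain Γ(Y, W i) ∧ IsIntegrallyClosed Γ(Y, W i) :=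
    fun i => isDomain_isIntegrallyClosed_sections hY (W i) (hirr i)
  haveI := fun i => (hN i).1
  haveI := fun i => (hN i).2
  let ρ : Γ(Y, f ⁻¹ᵁ U) ≃+* ∀ i, Γ(Y, W i) :=
    RingEquiv.ofBijective _ (bijective_pi_res (f ⁻¹ᵁ U) W hle hcov hdis)
  obtain ⟨h1, h2⟩ := normal_localization_integralClosure (A := Γ(X, U))
    (fun i => Γ(Y, W i)) ρ p
  haveI := h1
  haveI := h2
  exact ⟨e.toMulEquiv.isDomain _, IsIntegrallyClosed.of_equiv e.symm⟩

/-- `f = ν ∘ f'` on points. -/
theorem fromNormalization_toNormalization_apply (y : Y) :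
    f.fromNormalization (f.toNormalization y) = f y := by
  rw [← Scheme.Hom.comp_apply, f.toNormalization_fromNormalization]

/-- The irreducible components of the normalization are locally finite. -/
theorem locallyFinite_normalization
    (hfin : LocallyFinite (fun Z : ↥(irreducibleComponents ↥Y) => (Z : Set ↥Y))) :
    LocallyFinite (fun Z : ↥(irreducibleComponents ↥f.normalization) =>
      (Z : Set ↥f.normalization)) := by
  intro x'
  obtain ⟨_, ⟨U, hU, rfl⟩, hxU, -⟩ := X.isBasis_affineOpens.exists_subset_of_mem_open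
    (Set.mem_univ (f.fromNormalization x')) isOpen_univ
  refine ⟨(f.fromNormalization ⁻¹ᵁ U : Set f.normalization),
    (f.fromNormalization ⁻¹ᵁ U).isOpen.mem_nhds hxU, ?_⟩
  have hfinY := hfin.finite_nonempty_inter_compact (f.isCompact_preimage hU.isCompact)
  let Φ : ↥(irreducibleComponents ↥Y) → Set f.normalization :=
    fun Z => closure (f.toNormalization '' Z.1)
  refine Set.Finite.of_finite_image (f := Subtype.val) ?_ Subtype.val_injective.injOn
  refine (hfinY.image Φ).subset ?_
  rintro _ ⟨Z', ⟨x, hxZ', hxU'⟩, rfl⟩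
  obtain ⟨ξ, hξ⟩ := Groth.Agent.Lib.Helper14.exists_closure_eq_of_mem_irreducibleComponents Z'.2
  have hξU : ξ ∈ (f.fromNormalization ⁻¹ᵁ U : Set f.normalization) := by
    have hx : x ∈ closure ({ξ} : Set f.normalization) := hξ ▸ hxZ'
    obtain ⟨z, hz1, hz2⟩ := mem_closure_iff.mp hx _ (f.fromNormalization ⁻¹ᵁ U).isOpen hxU'
    rw [Set.mem_singleton_iff] at hz2
    exact hz2 ▸ hz1
  obtain ⟨y, hy, hyξ⟩ := Groth.Agent.S9672.result f ξ (hξ ▸ Z'.2)
  refine ⟨⟨closure {y}, hy⟩, ⟨y, subset_closure rfl, ?_⟩, ?_⟩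
  · show f y ∈ U
    rw [← fromNormalization_toNormalization_apply, hyξ]
    exact hξU
  · show closure (f.toNormalization '' closure {y}) = Z'.1
    rw [closure_image_closure f.toNormalization.continuous, Set.image_singleton, hyξ, hξ]

/-- Local structure: opens of `Y` and of the normalization. -/
theorem exists_opens (hY : Pi1.IsNormalScheme Y)
    (hfin : LocallyFinite (fun Z : ↥(irreducibleComponents ↥Y) => (Z : Set ↥Y)))
    (U : X.affineOpens) :
    ∃ (ι : Type u) (W : ι → Y.Opens) (O : ι → f.normalization.Opens),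
      (f ⁻¹ᵁ U.1 ≤ ⨆ i, W i) ∧ (∀ i j, i ≠ j → O i ⊓ O j = ⊥) ∧
      (∀ i, f.toNormalization ⁻¹ᵁ O i = W i) ∧
      (∀ i, ∃ Z ∈ irreducibleComponents Y, (W i : Set Y) ⊆ Z ∧
        ∀ y ∈ W i, closure {y} ∈ irreducibleComponents Y → closure {y} = Z) := by
  classical
  obtain ⟨ι, _, W, hle, hcov, hdis, hirr, hgen⟩ := exists_decomposition hY hfin (f ⁻¹ᵁ U.1)
    (f.isCompact_preimage U.2.isCompact)
  let ρ : Γ(Y, f ⁻¹ᵁ U.1) ≃+* ∀ i, Γ(Y, W i) :=
    RingEquiv.ofBijective _ (bijective_pi_res (f ⁻¹ᵁ U.1) W hle hcov hdis)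
  have hρ : ∀ (s : Γ(Y, f ⁻¹ᵁ U.1)) (i : ι),
      ρ s i = Y.presheaf.map (homOfLE (hle i)).op s := fun s i => rfl
  let e : ι → Γ(Y, f ⁻¹ᵁ U.1) := fun i => ρ.symm (Pi.single i 1)
  have he : ∀ i, ρ (e i) = Pi.single i 1 := fun i => ρ.apply_symm_apply _
  have hmul : ∀ i j, i ≠ j → e i * e j = 0 := by
    intro i j hij
    apply ρ.injective
    rw [map_mul, he, he, map_zero]
    funext k
    by_cases hk : k = i
    · subst hk
      simp [Pi.single_eq_of_ne hij]
    · simp [Pi.single_eq_of_ne hk]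
  have hidem : ∀ i, e i * e i = e i := by
    intro i
    apply ρ.injective
    rw [map_mul, he]
    funext k
    by_cases hk : k = i
    · subst hk; simp
    · simp [Pi.single_eq_of_ne hk]
  have hint : ∀ i, (f.app U.1).hom.IsIntegralElem (e i) := by
    intro i
    refine ⟨(Polynomial.X - Polynomial.C 1) * Polynomial.X,
      (Polynomial.monic_X_sub_C 1).mul Polynomial.monic_X, ?_⟩
    simp only [Polynomial.eval₂_mul, Polynomial.eval₂_sub, Polynomial.eval₂_X,
      Polynomial.eval₂_one, map_one]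
    rw [sub_mul, one_mul, hidem, sub_self]
  obtain ⟨O, hO, hpre⟩ := exists_opens_of_orthogonal f U e hint hmul
  refine ⟨ι, W, O, hcov, hO, fun i => ?_, hgen⟩
  rw [hpre]
  refine basicOpen_eq_of_res (f ⁻¹ᵁ U.1) W hle hcov i (e i) ?_ ?_
  · rw [← hρ, he, Pi.single_eq_same]
  · intro k hk
    rw [← hρ, he, Pi.single_eq_of_ne hk]

/-- Generic points of `Y` map to generic points of the normalization. -/
theorem closure_toNormalization_mem (hY : Pi1.IsNormalScheme Y)
    (hfin : LocallyFinite (fun Z : ↥(irreducibleComponents ↥Y) => (Z : Set ↥Y)))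
    (y : Y) (hy : closure {y} ∈ irreducibleComponents ↥Y) :
    closure {f.toNormalization y} ∈ irreducibleComponents ↥f.normalization := by
  obtain ⟨_, ⟨U, hU, rfl⟩, hxU, -⟩ := X.isBasis_affineOpens.exists_subset_of_mem_open
    (Set.mem_univ (f y)) isOpen_univ
  obtain ⟨ι, W, O, hcov, hO, hpre, hgen⟩ := exists_opens f hY hfin ⟨U, hU⟩
  obtain ⟨i, hi⟩ := Opens.mem_iSup.mp (hcov (show y ∈ f ⁻¹ᵁ U from hxU))
  obtain ⟨Z, hZ, hWZ, hZgen⟩ := hgen i
  have hyZ : closure {y} = Z := hZgen y hi hy
  rw [Groth.Agent.Lib.Helper14.closure_mem_irreducibleComponents_iff]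
  intro p hp
  have hx'O : f.toNormalization y ∈ O i := by
    have : y ∈ f.toNormalization ⁻¹ᵁ O i := by rw [hpre]; exact hi
    exact this
  have hpO : p ∈ O i := hp.mem_open (O i).isOpen hx'O
  have hdense : closure (Set.range f.toNormalization) = Set.univ :=
    f.toNormalization.denseRange.closure_range
  have h1 : p ∈ closure ((O i : Set f.normalization) ∩ Set.range f.toNormalization) :=
    (O i).isOpen.inter_closure ⟨hpO, hdense ▸ Set.mem_univ p⟩
  have h2 : (O i : Set f.normalization) ∩ Set.range f.toNormalization ⊆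
      closure {f.toNormalization y} := by
    rintro _ ⟨hq, z, rfl⟩
    have hz : z ∈ W i := by
      have : z ∈ f.toNormalization ⁻¹ᵁ O i := hq
      rwa [hpre] at this
    have hz' : z ∈ closure ({y} : Set Y) := hyZ ▸ hWZ hz
    have := image_closure_subset_closure_image f.toNormalization.continuous
      (Set.mem_image_of_mem _ hz')
    rwa [Set.image_singleton] at this
  have h3 : p ∈ closure ({f.toNormalization y} : Set f.normalization) :=
    closure_minimal h2 isClosed_closure h1
  have h4 : f.toNormalization y ⤳ p := specializes_iff_mem_closure.mpr h3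
  exact (hp.antisymm h4).eq

/-- Over a point of the normalization there is at most one generic point of `Y`. -/
theorem eq_of_toNormalization_eq (hY : Pi1.IsNormalScheme Y)
    (hfin : LocallyFinite (fun Z : ↥(irreducibleComponents ↥Y) => (Z : Set ↥Y)))
    (y y' : Y) (hy : closure {y} ∈ irreducibleComponents ↥Y)
    (hy' : closure {y'} ∈ irreducibleComponents ↥Y)
    (h : f.toNormalization y = f.toNormalization y') : y = y' := by
  obtain ⟨_, ⟨U, hU, rfl⟩, hxU, -⟩ := X.isBasis_affineOpens.exists_subset_of_mem_open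
    (Set.mem_univ (f y)) isOpen_univ
  have hxU' : f y' ∈ U := by
    rw [← fromNormalization_toNormalization_apply, ← h, fromNormalization_toNormalization_apply]
    exact hxU
  obtain ⟨ι, W, O, hcov, hO, hpre, hgen⟩ := exists_opens f hY hfin ⟨U, hU⟩
  obtain ⟨i, hi⟩ := Opens.mem_iSup.mp (hcov (show y ∈ f ⁻¹ᵁ U from hxU))
  obtain ⟨i', hi'⟩ := Opens.mem_iSup.mp (hcov (show y' ∈ f ⁻¹ᵁ U from hxU'))
  have hii' : i = i' := by
    by_contra hne
    have h1 : f.toNormalization y ∈ O i := by
      have : y ∈ f.toNormalization ⁻¹ᵁ O i := by rw [hpre]; exact hi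
      exact this
    have h2 : f.toNormalization y ∈ O i' := by
      have : y' ∈ f.toNormalization ⁻¹ᵁ O i' := by rw [hpre]; exact hi'
      rw [h]; exact this
    have h3 : f.toNormalization y ∈ O i ⊓ O i' := ⟨h1, h2⟩
    rw [hO i i' hne] at h3
    exact h3
  subst hii'
  obtain ⟨Z, hZ, hWZ, hZgen⟩ := hgen i
  have h1 : closure {y} = closure {y'} := (hZgen y hi hy).trans (hZgen y' hi' hy').symm
  exact ((inseparable_iff_closure_eq).mpr h1).eq

end Main

end Groth.Agent.Lib.Helper9.NormProd
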