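import Mathlib
open CategoryTheory

namespace Groth.Agent.Lib.Helper4.BC
universe v1 v2 v3 v4 u1 u2 u3 u4
variable {A : Type u1} {B : Type u2} {A' : Type u3} {B' : Type u4}
  [Category.{v1} A] [Category.{v2} B] [Category.{v3} A'] [Category.{v4} B']
  {F : A ⥤ B} {F' : A' ⥤ B'} {G : B' ⥤ B} {G' : A' ⥤ A} {L : B ⥤ B'} {L' : A ⥤ A'}
  {a : B ⥤ A} {a' : B' ⥤ A'}

/-- abstract `xi` -/
noncomputable def xi (adj : F ⊣ a) (adj' : F' ⊣ a') (e : G' ⋙ F ≅ F' ⋙ G) (M : B') :
    G'.obj (a'.obj M) ⟶ a.obj (G.obj M) :=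
  (adj.homEquiv _ _) (e.hom.app (a'.obj M) ≫ G.map (adj'.counit.app M))

lemma map_xi_counit (adj : F ⊣ a) (adj' : F' ⊣ a') (e : G' ⋙ F ≅ F' ⋙ G) (M : B') :
    F.map (xi adj adj' e M) ≫ adj.counit.app (G.obj M) =
      e.hom.app (a'.obj M) ≫ G.map (adj'.counit.app M) := by
  simp [xi, Adjunction.homEquiv_unit]

lemma xi_naturality (adj : F ⊣ a) (adj' : F' ⊣ a') (e : G' ⋙ F ≅ F' ⋙ G) {M N : B'} (φ : M ⟶ N) :
    G'.map (a'.map φ) ≫ xi adj adj' e N = xi adj adj' e M ≫ a.map (G.map φ) := by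
  simp only [xi, Adjunction.homEquiv_unit, Functor.map_comp, Category.assoc]
  have h1 := adj.unit.naturality (G'.map (a'.map φ))
  simp only [Functor.id_obj, Functor.id_map, Functor.comp_obj, Functor.comp_map] at h1
  rw [reassoc_of% h1]
  congr 1
  simp only [← Functor.map_comp]
  congr 1
  have h2 := e.hom.naturality (a'.map φ)
  simp only [Functor.comp_obj, Functor.comp_map] at h2
  rw [reassoc_of% h2]
  congr 1
  simp only [← Functor.map_comp]
  congr 1
  exact adj'.counit.naturality φ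

theorem trace_compat (adj : F ⊣ a) (adj' : F' ⊣ a') (e : G' ⋙ F ≅ F' ⋙ G)
    (adjg : L ⊣ G) (adjg' : L' ⊣ G') (K : B) [IsIso (xi adj adj' e (L.obj K))] :
    (adjg.homEquiv _ _).symm (F.map (adjg'.unit.app (a.obj K)) ≫ e.hom.app (L'.obj (a.obj K))) ≫
      F'.map (L'.map (a.map (adjg.unit.app K)) ≫ L'.map (inv (xi adj adj' e (L.obj K))) ≫
        adjg'.counit.app (a'.obj (L.obj K))) ≫ adj'.counit.app (L.obj K) =
      L.map (adj.counit.app K) := by
  apply (adjg.homEquiv _ _).injective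
  rw [Adjunction.homEquiv_naturality_right, Equiv.apply_symm_apply]
  rw [Adjunction.homEquiv_unit]
  have hnat : adjg.unit.app (F.obj (a.obj K)) ≫ G.map (L.map (adj.counit.app K)) =
      adj.counit.app K ≫ adjg.unit.app K := (adjg.unit.naturality (adj.counit.app K)).symm
  dsimp only [Functor.id_obj]
  rw [hnat]
  set ξ := xi adj adj' e (L.obj K) with hξdef
  set φ : a.obj K ⟶ G'.obj (a'.obj (L.obj K)) := a.map (adjg.unit.app K) ≫ inv ξ with hφ
  have hL' : L'.map (a.map (adjg.unit.app K)) ≫ L'.map (inv ξ) ≫ adjg'.counit.app (a'.obj (L.obj K)) =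
      L'.map φ ≫ adjg'.counit.app (a'.obj (L.obj K)) := by
    rw [hφ, Functor.map_comp, Category.assoc]
  rw [hL']
  -- naturality of e and η'
  have h1 : F.map (adjg'.unit.app (a.obj K)) ≫ e.hom.app (L'.obj (a.obj K)) ≫
      G.map (F'.map (L'.map φ ≫ adjg'.counit.app (a'.obj (L.obj K)))) =
      F.map φ ≫ e.hom.app (a'.obj (L.obj K)) := by
    have h2 := e.hom.naturality (L'.map φ ≫ adjg'.counit.app (a'.obj (L.obj K)))
    simp only [Functor.comp_obj, Functor.comp_map] at h2
    rw [← h2, ← Category.assoc, ← F.map_comp]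
    congr 1
    congr 1
    have h3 := adjg'.unit.naturality φ
    simp only [Functor.id_obj, Functor.id_map, Functor.comp_obj, Functor.comp_map] at h3
    rw [G'.map_comp, ← Category.assoc, ← h3, Category.assoc]
    have h4 := adjg'.right_triangle_components (a'.obj (L.obj K))
    rw [h4, Category.comp_id]
  simp only [Functor.map_comp, Category.assoc] at h1 ⊢
  rw [reassoc_of% h1]
  have h5 := map_xi_counit adj adj' e (L.obj K)
  rw [← h5]
  rw [← Category.assoc, ← F.map_comp]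
  have h6 : φ ≫ xi adj adj' e (L.obj K) = a.map (adjg.unit.app K) := by
    rw [hφ, Category.assoc, ← hξdef, IsIso.inv_hom_id, Category.comp_id]
  rw [h6]
  exact adj.counit.naturality (adjg.unit.app K)

lemma unit_xi (adj : F ⊣ a) (adj' : F' ⊣ a') (e : G' ⋙ F ≅ F' ⋙ G) (P : A') :
    G'.map (adj'.unit.app P) ≫ xi adj adj' e (F'.obj P) =
      adj.unit.app (G'.obj P) ≫ a.map (e.hom.app P) := by
  simp only [xi, Adjunction.homEquiv_unit, Functor.map_comp]
  have h1 := adj.unit.naturality (G'.map (adj'.unit.app P))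
  simp only [Functor.id_obj, Functor.id_map, Functor.comp_obj, Functor.comp_map] at h1
  rw [reassoc_of% h1]
  congr 1
  simp only [← Functor.map_comp]
  congr 1
  have h2 := e.hom.naturality (adj'.unit.app P)
  simp only [Functor.comp_obj, Functor.comp_map, Functor.id_obj] at h2
  rw [reassoc_of% h2]
  rw [← G.map_comp]
  have h4 := adj'.left_triangle_components P
  rw [h4]
  simp

theorem unit_compat_aux (adj : F ⊣ a) (adj' : F' ⊣ a') (e : G' ⋙ F ≅ F' ⋙ G)
    (adjg : L ⊣ G) (adjg' : L' ⊣ G') (M : A) [IsIso (xi adj adj' e (L.obj (F.obj M)))]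
    [IsIso (xi adj adj' e (F'.obj (L'.obj M)))] (b : L.obj (F.obj M) ⟶ F'.obj (L'.obj M))
    (hb' : adjg.unit.app (F.obj M) ≫ G.map b = F.map (adjg'.unit.app M) ≫ e.hom.app (L'.obj M)) :
    adj'.unit.app (L'.obj M) =
      L'.map (adj.unit.app M) ≫
        (L'.map (a.map (adjg.unit.app (F.obj M))) ≫ L'.map (inv (xi adj adj' e (L.obj (F.obj M)))) ≫
          adjg'.counit.app (a'.obj (L.obj (F.obj M)))) ≫
        a'.map b := by
  set ψ : M ⟶ G'.obj (a'.obj (L.obj (F.obj M))) :=
    adj.unit.app M ≫ a.map (adjg.unit.app (F.obj M)) ≫ inv (xi adj adj' e (L.obj (F.obj M))) with hψ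
  have hR : L'.map (adj.unit.app M) ≫
        (L'.map (a.map (adjg.unit.app (F.obj M))) ≫ L'.map (inv (xi adj adj' e (L.obj (F.obj M)))) ≫
          adjg'.counit.app (a'.obj (L.obj (F.obj M)))) ≫ a'.map b =
      L'.map ψ ≫ adjg'.counit.app (a'.obj (L.obj (F.obj M))) ≫ a'.map b := by
    rw [hψ]
    simp only [Functor.map_comp, Category.assoc, Functor.id_obj, Functor.comp_obj]
  rw [hR]
  apply (adjg'.homEquiv _ _).injective
  rw [Adjunction.homEquiv_naturality_left, Adjunction.homEquiv_naturality_right]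
  have hc : (adjg'.homEquiv _ _) (adjg'.counit.app (a'.obj (L.obj (F.obj M)))) = 𝟙 _ := by
    rw [Adjunction.homEquiv_unit]; exact adjg'.right_triangle_components _
  rw [hc, Category.id_comp, Adjunction.homEquiv_unit]
  rw [← cancel_mono (xi adj adj' e (F'.obj (L'.obj M)))]
  simp only [Category.assoc]
  rw [unit_xi, xi_naturality]
  rw [hψ]
  simp only [Category.assoc, IsIso.inv_hom_id_assoc]
  rw [← a.map_comp, hb']
  have h1 := adj.unit.naturality (adjg'.unit.app M)
  simp only [Functor.id_obj, Functor.id_map, Functor.comp_obj, Functor.comp_map] at h1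
  rw [reassoc_of% h1, a.map_comp]

theorem unit_compat (adj : F ⊣ a) (adj' : F' ⊣ a') (e : G' ⋙ F ≅ F' ⋙ G)
    (adjg : L ⊣ G) (adjg' : L' ⊣ G') (M : A) [IsIso (xi adj adj' e (L.obj (F.obj M)))]
    [IsIso (xi adj adj' e (F'.obj (L'.obj M)))] :
    adj'.unit.app (L'.obj M) =
      L'.map (adj.unit.app M) ≫
        (L'.map (a.map (adjg.unit.app (F.obj M))) ≫ L'.map (inv (xi adj adj' e (L.obj (F.obj M)))) ≫
          adjg'.counit.app (a'.obj (L.obj (F.obj M)))) ≫
        a'.map ((adjg.homEquiv (F.obj M) (F'.obj (L'.obj M))).symm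
          (F.map (adjg'.unit.app M) ≫ e.hom.app (L'.obj M))) := by
  apply unit_compat_aux
  have := (adjg.homEquiv (F.obj M) (F'.obj (L'.obj M))).apply_symm_apply
    (F.map (adjg'.unit.app M) ≫ e.hom.app (L'.obj M))
  rw [Adjunction.homEquiv_unit] at this
  exact this

end Groth.Agent.Lib.Helper4.BC
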