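/-
Helper library (helper4): for a proper birational morphism `f : X ⟶ Y` of integral schemes with `Y`
normal and locally Noetherian, the largest open `V` over which `f` is an isomorphism has complement
of codimension ≥ 2, and the fibres over points outside `V` have no isolated points.
-/
import Mathlib
import Groth.Agent.Lib.Helper4BirDimOne

set_option autoImplicit false
set_option linter.style.haveILetI false
universe u

open AlgebraicGeometry CategoryTheory

namespace Groth.Agent.Lib.Helper4.BirLocalIso

/-- Being an isomorphism over each member of a family of opens implies being an isomorphism over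
their union. -/
theorem isIso_morphismRestrict_sSup {X Y : Scheme.{u}} (f : X ⟶ Y) (S : Set Y.Opens)
    (hS : ∀ V' ∈ S, IsIso (f ∣_ V')) : IsIso (f ∣_ sSup S) := by
  change (MorphismProperty.isomorphisms Scheme) (f ∣_ sSup S)
  apply IsZariskiLocalAtTarget.of_forall_exists_morphismRestrict
  intro x
  have hx : x.1 ∈ sSup S := x.2
  rw [TopologicalSpace.Opens.mem_sSup] at hx
  obtain ⟨V', hV'S, hxV'⟩ := hx
  refine ⟨(sSup S).ι ⁻¹ᵁ V', hxV', ?_⟩
  rw [(MorphismProperty.isomorphisms Scheme).arrow_mk_iso_iff (morphismRestrictRestrict f _ _)]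
  have e : (sSup S).ι ''ᵁ ((sSup S).ι ⁻¹ᵁ V') = V' := by
    rw [Scheme.Hom.image_preimage_eq_opensRange_inf, Scheme.Opens.opensRange_ι]
    exact inf_eq_right.mpr (le_sSup hV'S)
  rw [(MorphismProperty.isomorphisms Scheme).arrow_mk_iso_iff (morphismRestrictEq f e)]
  exact hS V' hV'S

/-- An isolated point of a fibre is a point at which the morphism is quasi-finite. -/
theorem quasiFiniteAt_of_isOpen_singleton_fiber {X Y : Scheme.{u}} (f : X ⟶ Y)
    [LocallyOfFiniteType f] (y : Y) (x : ↥(f.fiber y)) (hx : IsOpen ({x} : Set ↥(f.fiber y))) :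
    f.QuasiFiniteAt (f.fiberι y x) := by
  have key : ∀ (x₀ : X) (y : Y) (_ : f x₀ = y) (x : ↥(f.fiber y)), f.fiberι y x = x₀ →
      IsOpen ({x} : Set ↥(f.fiber y)) → f.QuasiFiniteAt x₀ := by
    intro x₀ y h
    subst h
    intro x hx hopen
    have : x = f.asFiber x₀ := by
      apply (f.fiberι _).isEmbedding.injective
      rw [hx, f.fiberι_asFiber]
    rw [this] at hopen
    exact Scheme.Hom.quasiFiniteAt_iff_isOpen_singleton_asFiber.mpr hopen
  have hy : f (f.fiberι y x) = y := by
    have : f.fiberι y x ∈ Set.range (f.fiberι y) := ⟨x, rfl⟩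
    rw [f.range_fiberι] at this
    exact this
  exact key _ y hy x rfl hx

/-- **Codimension-two theorem for proper birational morphisms to a normal scheme.** -/
theorem exists_open_isIso_codim_two {X Y : Scheme.{u}} (f : X ⟶ Y)
    [LocallyOfFiniteType f] [IsSeparated f] (hval : ValuativeCriterion.Existence f)
    [IsIntegral X] [IsIntegral Y] [IsLocallyNoetherian Y]
    (hY : ∀ y : Y, IsIntegrallyClosed (Y.presheaf.stalk y))
    (hbir : Function.Bijective (f.stalkMap (genericPoint ↥X))) :
    ∃ V : Y.Opens, IsIso (f ∣_ V) ∧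
      (∀ y : Y, y ∉ (V : Set Y) → ∀ x : ↥(f.fiber y), ¬ IsOpen ({x} : Set ↥(f.fiber y))) ∧
      (∀ y : Y, y ∉ (V : Set Y) → 2 ≤ ringKrullDim (Y.presheaf.stalk y)) := by
  have hiso : IsIso (f.stalkMap (genericPoint X)) :=
    (ConcreteCategory.isIso_iff_bijective _).mpr hbir
  let S : Set Y.Opens := {V' | IsIso (f ∣_ V')}
  have hmem : ∀ V' : Y.Opens, IsIso (f ∣_ V') → V' ≤ sSup S := fun V' h => le_sSup h
  -- iso over a nonempty open
  have hqfη : f.QuasiFiniteAt (genericPoint X) :=
    RingHom.QuasiFinite.of_finite (RingHom.Finite.of_surjective _ hbir.2)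
  haveI := hY (f (genericPoint X))
  obtain ⟨V₀, hηV₀, hV₀⟩ := exists_isIso_morphismRestrict_of_birational f hiso _ hqfη
  refine ⟨sSup S, isIso_morphismRestrict_sSup f S (fun _ h => h), ?_, ?_⟩
  · intro y hy x hx
    apply hy
    have hqf := quasiFiniteAt_of_isOpen_singleton_fiber f y x hx
    have hfx : f (f.fiberι y x) = y := by
      have : f.fiberι y x ∈ Set.range (f.fiberι y) := ⟨x, rfl⟩
      rw [f.range_fiberι] at this
      exact this
    haveI := hY (f (f.fiberι y x))
    obtain ⟨V', hV', hV'iso⟩ := exists_isIso_morphismRestrict_of_birational f hiso _ hqf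
    rw [hfx] at hV'
    exact hmem V' hV'iso hV'
  · intro y hy
    by_contra hdim
    apply hy
    have hle : ringKrullDim (Y.presheaf.stalk y) ≤ 1 := by
      rw [not_le] at hdim
      revert hdim
      generalize ringKrullDim (Y.presheaf.stalk y) = d
      intro hdim
      induction d using WithBot.recBotCoe with
      | bot => exact bot_le
      | coe n =>
        have h' : n < 2 := WithBot.coe_lt_coe.mp hdim
        exact WithBot.coe_le_coe.mpr (ENat.lt_two_iff.mp h')
    haveI := hY y
    haveI : ValuationRing (Y.presheaf.stalk y) := valuationRing_of_normal_dim_le_one _ hle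
    obtain ⟨V', hV', hV'iso⟩ := exists_isIso_morphismRestrict_of_valuationRing f hval V₀
      ⟨_, hηV₀⟩ hV₀ y
    exact hmem V' hV'iso hV'

end Groth.Agent.Lib.Helper4.BirLocalIso
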