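/-
Helper library (helper4): birational schemes over a base from isomorphic local rings at the
generic points (spreading out), and conversely.
-/
import Mathlib

set_option autoImplicit false
set_option linter.style.haveILetI false
universe u
open CategoryTheory CategoryTheory.Limits AlgebraicGeometry

namespace Groth.Agent.Lib.Helper4.BirIso

open IsLocalRing

/-- Pure category-theoretic core: local inverses give an isomorphism of pullbacks. -/
theorem exists_iso_of_local_inverses {X Y A B A₁ B₁ : Scheme.{u}} (a : A ⟶ X) (b : B ⟶ Y)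
    [Mono a] [Mono b]
    (f : A ⟶ Y) (g : B ⟶ X) (i : A₁ ⟶ A) (f₁ : A₁ ⟶ B) (j : B₁ ⟶ B) (g₁ : B₁ ⟶ A)
    (hf₁b : f₁ ≫ b = i ≫ f) (hf₁g : f₁ ≫ g = i ≫ a)
    (hg₁a : g₁ ≫ a = j ≫ g) (hg₁f : g₁ ≫ f = j ≫ b) :
    ∃ h : pullback f₁ j ≅ pullback g₁ i,
      h.hom ≫ pullback.fst g₁ i = pullback.snd f₁ j ∧
      h.hom ≫ pullback.snd g₁ i = pullback.fst f₁ j := by
  have c1 : pullback.snd f₁ j ≫ g₁ = pullback.fst f₁ j ≫ i := by
    rw [← cancel_mono a, Category.assoc, Category.assoc, hg₁a, ← hf₁g,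
      ← Category.assoc, ← Category.assoc, pullback.condition]
  have c2 : pullback.snd g₁ i ≫ f₁ = pullback.fst g₁ i ≫ j := by
    rw [← cancel_mono b, Category.assoc, Category.assoc, hf₁b, ← hg₁f,
      ← Category.assoc, ← Category.assoc, pullback.condition]
  refine ⟨⟨pullback.lift (pullback.snd f₁ j) (pullback.fst f₁ j) c1,
    pullback.lift (pullback.snd g₁ i) (pullback.fst g₁ i) c2, ?_, ?_⟩, ?_, ?_⟩
  · apply pullback.hom_ext
    · rw [Category.assoc, pullback.lift_fst, pullback.lift_snd, Category.id_comp]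
    · rw [Category.assoc, pullback.lift_snd, pullback.lift_fst, Category.id_comp]
  · apply pullback.hom_ext
    · rw [Category.assoc, pullback.lift_fst, pullback.lift_snd, Category.id_comp]
    · rw [Category.assoc, pullback.lift_snd, pullback.lift_fst, Category.id_comp]
  · exact pullback.lift_fst _ _ _
  · exact pullback.lift_snd _ _ _

theorem fromSpecStalkOfMem_closedPoint {X : Scheme.{u}} (U : X.Opens) (x : X) (hxU : x ∈ U) :
    U.fromSpecStalkOfMem x hxU (closedPoint (X.presheaf.stalk x)) = ⟨x, hxU⟩ := by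
  apply U.ι.isOpenEmbedding.injective
  have h1 : U.ι (U.fromSpecStalkOfMem x hxU (closedPoint (X.presheaf.stalk x))) =
      X.fromSpecStalk x (closedPoint (X.presheaf.stalk x)) :=
    congrArg (fun φ : Spec (X.presheaf.stalk x) ⟶ X => φ (closedPoint _))
      (Scheme.Opens.fromSpecStalkOfMem_ι U x hxU)
  rw [Scheme.fromSpecStalk_closedPoint] at h1
  exact h1

/-- for any morphism `j : A ⟶ X` and `w : A` with `j w = x₀`, the canonical morphism from the
local scheme of `A` at `w` to `X` factors through the local scheme of `X` at `x₀`. -/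
theorem exists_fromSpecStalk_comp {A X : Scheme.{u}} (j : A ⟶ X) (w : A) (x₀ : X) (h : j w = x₀) :
    ∃ ρ : X.presheaf.stalk x₀ ⟶ A.presheaf.stalk w,
      A.fromSpecStalk w ≫ j = Spec.map ρ ≫ X.fromSpecStalk x₀ := by
  subst h
  exact ⟨j.stalkMap w, (Scheme.SpecMap_stalkMap_fromSpecStalk j).symm⟩

theorem apply_eq_of_fromSpecStalk_eq {X Y : Scheme.{u}} (U : X.Opens) (f : U.toScheme ⟶ Y)
    (x₀ : X) (hx₀ : x₀ ∈ U) (y₀ : Y)
    (θ : Y.presheaf.stalk y₀ ≅ X.presheaf.stalk x₀)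
    (h1 : U.fromSpecStalkOfMem x₀ hx₀ ≫ f = Spec.map θ.hom ≫ Y.fromSpecStalk y₀) :
    f ⟨x₀, hx₀⟩ = y₀ := by
  have h : f (U.fromSpecStalkOfMem x₀ hx₀ (closedPoint (X.presheaf.stalk x₀))) =
      Y.fromSpecStalk y₀ (Spec.map θ.hom (closedPoint (X.presheaf.stalk x₀))) :=
    congrArg (fun φ : Spec (X.presheaf.stalk x₀) ⟶ Y => φ (closedPoint _)) h1
  haveI : IsLocalHom θ.hom.hom := isLocalHom_of_isIso θ.hom
  rw [fromSpecStalkOfMem_closedPoint, Spec_closedPoint, Scheme.fromSpecStalk_closedPoint] at h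
  exact h

theorem exists_open_comp_eq {X Y : Scheme.{u}} (U : X.Opens) (V : Y.Opens)
    (f : U.toScheme ⟶ Y) (g : V.toScheme ⟶ X)
    (x₀ : X) (hx₀ : x₀ ∈ U) (y₀ : Y) (hy₀ : y₀ ∈ V) [X.IsGermInjectiveAt x₀]
    (θ : Y.presheaf.stalk y₀ ≅ X.presheaf.stalk x₀)
    (h1 : U.fromSpecStalkOfMem x₀ hx₀ ≫ f = Spec.map θ.hom ≫ Y.fromSpecStalk y₀)
    (h2 : V.fromSpecStalkOfMem y₀ hy₀ ≫ g = Spec.map θ.inv ≫ X.fromSpecStalk x₀) :
    ∃ (W : (pullback f V.ι).Opens) (w : ↑(pullback f V.ι)), w ∈ W ∧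
      pullback.fst f V.ι w = ⟨x₀, hx₀⟩ ∧ pullback.snd f V.ι w = ⟨y₀, hy₀⟩ ∧
      W.ι ≫ pullback.snd f V.ι ≫ g = W.ι ≫ pullback.fst f V.ι ≫ U.ι := by
  have hfx : f ⟨x₀, hx₀⟩ = y₀ := apply_eq_of_fromSpecStalk_eq U f x₀ hx₀ y₀ θ h1
  obtain ⟨w, hw1, hw2⟩ := Scheme.Pullback.exists_preimage_pullback (f := f) (g := V.ι)
    ⟨x₀, hx₀⟩ ⟨y₀, hy₀⟩ hfx
  have hjw : (pullback.fst f V.ι ≫ U.ι) w = x₀ := by
    rw [Scheme.Hom.comp_apply, hw1]; rfl
  haveI : X.IsGermInjectiveAt ((pullback.fst f V.ι ≫ U.ι) w) := by rw [hjw]; infer_instance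
  haveI : (pullback f V.ι).IsGermInjectiveAt w :=
    (isGermInjectiveAt_iff_of_isOpenImmersion (f := pullback.fst f V.ι ≫ U.ι) (x := w)).mp
      inferInstance
  obtain ⟨ρ, hρ⟩ := exists_fromSpecStalk_comp (pullback.fst f V.ι ≫ U.ι) w x₀ hjw
  -- ε ≫ fst
  have e1 : (pullback f V.ι).fromSpecStalk w ≫ pullback.fst f V.ι =
      Spec.map ρ ≫ U.fromSpecStalkOfMem x₀ hx₀ := by
    rw [← cancel_mono U.ι, Category.assoc, hρ, Category.assoc, Scheme.Opens.fromSpecStalkOfMem_ι]
  have e2 : (pullback f V.ι).fromSpecStalk w ≫ pullback.snd f V.ι =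
      Spec.map ρ ≫ Spec.map θ.hom ≫ V.fromSpecStalkOfMem y₀ hy₀ := by
    rw [← cancel_mono V.ι, Category.assoc, ← pullback.condition, ← Category.assoc, e1,
      Category.assoc, h1, Category.assoc, Category.assoc, Scheme.Opens.fromSpecStalkOfMem_ι]
  have e3 : (pullback f V.ι).fromSpecStalk w ≫ pullback.snd f V.ι ≫ g =
      (pullback f V.ι).fromSpecStalk w ≫ pullback.fst f V.ι ≫ U.ι := by
    rw [← Category.assoc, e2, Category.assoc, Category.assoc, h2, ← Category.assoc (Spec.map θ.hom),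
      ← Spec.map_comp, Iso.inv_hom_id, Spec.map_id, Category.id_comp, hρ]
  obtain ⟨W, hwW, hW⟩ := spread_out_unique_of_isGermInjective' _ _ e3
  exact ⟨W, w, hwW, hw1, hw2, hW⟩

theorem exists_partialIso {X Y : Scheme.{u}} [IrreducibleSpace X] [IrreducibleSpace Y]
    (U : X.Opens) (V : Y.Opens) (f : U.toScheme ⟶ Y) (g : V.toScheme ⟶ X)
    (x₀ : X) (hx₀ : x₀ ∈ U) (y₀ : Y) (hy₀ : y₀ ∈ V) [X.IsGermInjectiveAt x₀]
    [Y.IsGermInjectiveAt y₀]
    (θ : Y.presheaf.stalk y₀ ≅ X.presheaf.stalk x₀)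
    (h1 : U.fromSpecStalkOfMem x₀ hx₀ ≫ f = Spec.map θ.hom ≫ Y.fromSpecStalk y₀)
    (h2 : V.fromSpecStalkOfMem y₀ hy₀ ≫ g = Spec.map θ.inv ≫ X.fromSpecStalk x₀) :
    ∃ (P : X.PartialIso Y) (hP : P.source ≤ U),
      P.iso.hom ≫ P.target.ι = X.homOfLE hP ≫ f := by
  obtain ⟨W, w, hwW, hw1, hw2, hW⟩ := exists_open_comp_eq U V f g x₀ hx₀ y₀ hy₀ θ h1 h2
  obtain ⟨W', w', hw'W', hw'1, hw'2, hW'⟩ :=
    exists_open_comp_eq V U g f y₀ hy₀ x₀ hx₀ θ.symm h2 h1
  obtain ⟨i, hi⟩ : ∃ i : W.toScheme ⟶ U.toScheme, i = W.ι ≫ pullback.fst f V.ι := ⟨_, rfl⟩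
  obtain ⟨f₁, hf₁⟩ : ∃ f₁ : W.toScheme ⟶ V.toScheme, f₁ = W.ι ≫ pullback.snd f V.ι := ⟨_, rfl⟩
  obtain ⟨j, hj⟩ : ∃ j : W'.toScheme ⟶ V.toScheme, j = W'.ι ≫ pullback.fst g U.ι := ⟨_, rfl⟩
  obtain ⟨g₁, hg₁⟩ : ∃ g₁ : W'.toScheme ⟶ U.toScheme, g₁ = W'.ι ≫ pullback.snd g U.ι := ⟨_, rfl⟩
  have hf₁b : f₁ ≫ V.ι = i ≫ f := by
    rw [hf₁, hi, Category.assoc, Category.assoc, pullback.condition]
  have hf₁g : f₁ ≫ g = i ≫ U.ι := by
    rw [hf₁, hi, Category.assoc, Category.assoc]; exact hW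
  have hg₁a : g₁ ≫ U.ι = j ≫ g := by
    rw [hg₁, hj, Category.assoc, Category.assoc, pullback.condition]
  have hg₁f : g₁ ≫ f = j ≫ V.ι := by
    rw [hg₁, hj, Category.assoc, Category.assoc]; exact hW'
  obtain ⟨h, hh1, hh2⟩ := exists_iso_of_local_inverses U.ι V.ι f g i f₁ j g₁ hf₁b hf₁g hg₁a hg₁f
  haveI : IsOpenImmersion i := by rw [hi]; infer_instance
  haveI : IsOpenImmersion j := by rw [hj]; infer_instance
  let α : pullback f₁ j ⟶ X := pullback.fst f₁ j ≫ i ≫ U.ι
  let β : pullback g₁ i ⟶ Y := pullback.fst g₁ i ≫ j ≫ V.ι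
  -- a point
  have hpt : f₁ ⟨w, hwW⟩ = j ⟨w', hw'W'⟩ := by
    have e1 : f₁ ⟨w, hwW⟩ = pullback.snd f V.ι w := by rw [hf₁]; rfl
    have e2 : j ⟨w', hw'W'⟩ = pullback.fst g U.ι w' := by rw [hj]; rfl
    rw [e1, e2, hw2, hw'1]
  obtain ⟨z, hz1, hz2⟩ := Scheme.Pullback.exists_preimage_pullback (f := f₁) (g := j) _ _ hpt
  have hαne : (α.opensRange : Set X).Nonempty := ⟨α z, z, rfl⟩
  have hβne : (β.opensRange : Set Y).Nonempty := ⟨β (h.hom z), h.hom z, rfl⟩
  have hαU : α.opensRange ≤ U := by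
    rintro _ ⟨z', rfl⟩
    exact ((pullback.fst f₁ j ≫ i) z').2
  refine ⟨{ source := α.opensRange
            dense_source := α.opensRange.2.dense hαne
            target := β.opensRange
            dense_target := β.opensRange.2.dense hβne
            iso := α.isoOpensRange.symm ≪≫ h ≪≫ β.isoOpensRange }, hαU, ?_⟩
  show (α.isoOpensRange.inv ≫ h.hom ≫ β.isoOpensRange.hom) ≫ β.opensRange.ι = _
  have e1 : h.hom ≫ β = (pullback.fst f₁ j ≫ i) ≫ f := by
    show h.hom ≫ pullback.fst g₁ i ≫ j ≫ V.ι = _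
    rw [← Category.assoc, hh1, ← Category.assoc, ← pullback.condition, Category.assoc, hf₁b,
      Category.assoc]
  have e2 : α.isoOpensRange.inv ≫ pullback.fst f₁ j ≫ i = X.homOfLE hαU := by
    rw [← cancel_mono U.ι, Scheme.homOfLE_ι]
    have := α.isoOpensRange_inv_comp
    simp only [Category.assoc]
    exact this
  rw [Category.assoc, Category.assoc, Scheme.Hom.isoOpensRange_hom_ι, e1, ← Category.assoc, e2]

theorem isIso_residue_genericPoint (X : Scheme.{u}) [IsIntegral X] :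
    IsIso (X.residue (genericPoint X)) := by
  rw [ConcreteCategory.isIso_iff_bijective]
  refine ⟨?_, X.residue_surjective _⟩
  exact ((X.residue (genericPoint X)).hom : X.functionField →+* _).injective

/-- From stalk isomorphism data at points to a partial isomorphism over `S`. -/
theorem birationalOver_of_stalk_iso {S X Y : Scheme.{u}} [IrreducibleSpace X] [IrreducibleSpace Y]
    (sX : X ⟶ S) (sY : Y ⟶ S) [LocallyOfFiniteType sX] [LocallyOfFiniteType sY]
    (x₀ : X) (y₀ : Y) [X.IsGermInjectiveAt x₀] [Y.IsGermInjectiveAt y₀]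
    (hs : sX x₀ = sY y₀) (θ : Y.presheaf.stalk y₀ ≅ X.presheaf.stalk x₀)
    (hθ : sY.stalkMap y₀ ≫ θ.hom =
      S.presheaf.stalkSpecializes (Inseparable.of_eq hs).specializes ≫ sX.stalkMap x₀) :
    Scheme.BirationalOver sX sY := by
  obtain ⟨U, hxU, f, hf1, hf2⟩ := spread_out_of_isGermInjective sX sY hs θ.hom hθ
  have hθ' : sX.stalkMap x₀ ≫ θ.inv =
      S.presheaf.stalkSpecializes (Inseparable.of_eq hs.symm).specializes ≫ sY.stalkMap y₀ := by
    rw [Iso.comp_inv_eq, Category.assoc, hθ, ← Category.assoc,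
      TopCat.Presheaf.stalkSpecializes_comp, TopCat.Presheaf.stalkSpecializes_refl,
      Category.id_comp]
  obtain ⟨V, hyV, g, hg1, hg2⟩ := spread_out_of_isGermInjective sY sX hs.symm θ.inv hθ'
  obtain ⟨P, hP, hPf⟩ := exists_partialIso U V f g x₀ hxU y₀ hyV θ hf1.symm hg1.symm
  refine ⟨P, ?_⟩
  show P.iso.hom ≫ P.target.ι ≫ sY = P.source.ι ≫ sX
  rw [← Category.assoc, hPf, Category.assoc, hf2, ← Category.assoc, Scheme.homOfLE_ι]

theorem birationalOver_of_residueField_iso {S X Y : Scheme.{u}}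
    [IsIntegral X] [IsIntegral Y] (sX : X ⟶ S) (sY : Y ⟶ S)
    [LocallyOfFiniteType sX] [LocallyOfFiniteType sY]
    (hs : sX (genericPoint ↥X) = sY (genericPoint ↥Y))
    (e : X.residueField (genericPoint ↥X) ≅ Y.residueField (genericPoint ↥Y))
    (he : sX.residueFieldMap (genericPoint ↥X) ≫ e.hom =
          (S.residueFieldCongr hs).hom ≫ sY.residueFieldMap (genericPoint ↥Y)) :
    Scheme.BirationalOver sX sY := by
  haveI := isIso_residue_genericPoint X
  haveI := isIso_residue_genericPoint Y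
  let θ : Y.presheaf.stalk (genericPoint Y) ≅ X.presheaf.stalk (genericPoint X) :=
    asIso (Y.residue (genericPoint Y)) ≪≫ e.symm ≪≫ (asIso (X.residue (genericPoint X))).symm
  refine birationalOver_of_stalk_iso sX sY (genericPoint X) (genericPoint Y) hs θ ?_
  have he' : sY.residueFieldMap (genericPoint Y) ≫ e.inv =
      (S.residueFieldCongr hs.symm).hom ≫ sX.residueFieldMap (genericPoint X) := by
    rw [Iso.comp_inv_eq, Category.assoc, he, ← Category.assoc,
      Scheme.residueFieldCongr_trans_hom, Scheme.residueFieldCongr_refl, Iso.refl_hom,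
      Category.id_comp]
  rw [← cancel_mono (X.residue (genericPoint X))]
  show sY.stalkMap (genericPoint Y) ≫ (Y.residue (genericPoint Y) ≫ e.inv ≫
    inv (X.residue (genericPoint X))) ≫ X.residue (genericPoint X) = _
  rw [Category.assoc, Category.assoc, Category.assoc, IsIso.inv_hom_id, Category.comp_id,
    ← Category.assoc, ← Scheme.residue_residueFieldMap, Category.assoc, he',
    ← Category.assoc, Scheme.residue_residueFieldCongr, Category.assoc,
    Scheme.residue_residueFieldMap]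
  rfl

theorem residueFieldMap_comm_aux {S X Y U : Scheme.{u}} (ι : U ⟶ X) (v : U ⟶ Y) (sX : X ⟶ S)
    (sY : Y ⟶ S) (hcomm : ι ≫ sX = v ≫ sY) (x : U) [IsIso (v.residueFieldMap x)]
    (h : sX (ι x) = sY (v x)) :
    sX.residueFieldMap (ι x) ≫ ι.residueFieldMap x ≫ inv (v.residueFieldMap x) =
      (S.residueFieldCongr h).hom ≫ sY.residueFieldMap (v x) := by
  rw [← cancel_mono (v.residueFieldMap x)]
  simp only [Category.assoc, IsIso.inv_hom_id, Category.comp_id]
  have h1 := Scheme.residueFieldMap_comp ι sX x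
  have h2 := Scheme.residueFieldMap_comp v sY x
  have h3 := Scheme.Hom.residueFieldMap_congr hcomm x
  rw [← h1, h3, h2]
  rfl

theorem residueField_iso_of_birationalOver {S X Y : Scheme.{u}}
    [IsIntegral X] [IsIntegral Y] (sX : X ⟶ S) (sY : Y ⟶ S)
    (h : Scheme.BirationalOver sX sY) :
    ∃ (hs : sX (genericPoint ↥X) = sY (genericPoint ↥Y))
      (e : X.residueField (genericPoint ↥X) ≅ Y.residueField (genericPoint ↥Y)),
      sX.residueFieldMap (genericPoint ↥X) ≫ e.hom =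
          (S.residueFieldCongr hs).hom ≫ sY.residueFieldMap (genericPoint ↥Y) := by
  obtain ⟨P, hP⟩ := h
  have hP' : P.iso.hom ≫ P.target.ι ≫ sY = P.source.ι ≫ sX := hP
  have hηU : genericPoint X ∈ P.source :=
    ((genericPoint_spec X).mem_open_set_iff P.source.isOpen).mpr
      (by simpa using P.dense_source.nonempty)
  have hηV : genericPoint Y ∈ P.target :=
    ((genericPoint_spec Y).mem_open_set_iff P.target.isOpen).mpr
      (by simpa using P.dense_target.nonempty)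
  let x : P.source.toScheme := ⟨genericPoint X, hηU⟩
  obtain ⟨u, hu⟩ : ∃ u : P.source.toScheme ⟶ Y, u = P.iso.hom ≫ P.target.ι := ⟨_, rfl⟩
  haveI : IsOpenImmersion u := by rw [hu]; infer_instance
  have hcomm : P.source.ι ≫ sX = u ≫ sY := by rw [hu, Category.assoc]; exact hP'.symm
  have hux : u x = genericPoint Y := by
    obtain ⟨x', hx'⟩ : ∃ x', u x' = genericPoint Y := by
      refine ⟨P.iso.inv ⟨genericPoint Y, hηV⟩, ?_⟩
      rw [hu]
      show P.target.ι ((P.iso.inv ≫ P.iso.hom) ⟨genericPoint Y, hηV⟩) = _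
      rw [Iso.inv_hom_id]
      rfl
    have h1 : x ⤳ x' := by
      rw [← P.source.ι.isOpenEmbedding.isInducing.specializes_iff]
      exact (genericPoint_spec X).specializes trivial
    have h2 : u x ⤳ u x' := u.base.hom.map_specializes h1
    rw [hx'] at h2
    exact (h2.antisymm ((genericPoint_spec Y).specializes trivial)).eq
  have hs : sX (genericPoint X) = sY (genericPoint Y) := by
    have : (P.source.ι ≫ sX) x = (u ≫ sY) x := by rw [hcomm]
    rw [← hux]
    exact this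
  haveI hi1 : IsIso (P.source.ι.residueFieldMap x) := inferInstance
  haveI hi2 : IsIso (u.residueFieldMap x) := inferInstance
  have hιx : P.source.ι x = genericPoint X := rfl
  let e : X.residueField (genericPoint X) ≅ Y.residueField (genericPoint Y) :=
    (X.residueFieldCongr hιx).symm ≪≫ asIso (P.source.ι.residueFieldMap x) ≪≫
      (asIso (u.residueFieldMap x)).symm ≪≫ Y.residueFieldCongr hux
  refine ⟨hs, e, ?_⟩
  show sX.residueFieldMap (P.source.ι x) ≫ P.source.ι.residueFieldMap x ≫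
    inv (u.residueFieldMap x) ≫ (Y.residueFieldCongr hux).hom = _
  have hsx : sX (P.source.ι x) = sY (u x) := by rw [hux]; exact hs
  have h4 := residueFieldMap_comm_aux P.source.ι u sX sY hcomm x hsx
  rw [← Category.assoc, ← Category.assoc, Category.assoc (sX.residueFieldMap (P.source.ι x)), h4,
    Category.assoc, Scheme.Hom.residueFieldMap_congr' hux, ← Category.assoc,
    Scheme.residueFieldCongr_trans_hom]
  rfl

end Groth.Agent.Lib.Helper4.BirIso
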