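import Mathlib.AlgebraicGeometry.SpreadingOut
import Mathlib.AlgebraicGeometry.Birational.RationalMap

open AlgebraicGeometry CategoryTheory TopologicalSpace Limits

universe u

namespace Groth.Agent.Lib.Helper6

lemma mem_finset_inf_opens {α ι : Type*} [TopologicalSpace α] (f : ι → Opens α) (s : Finset ι)
    (x : α) : x ∈ s.inf f ↔ ∀ i ∈ s, x ∈ f i := by
  classical
  induction s using Finset.induction_on with
  | empty => simp
  | insert a s ha ih => simp [ih]

set_option backward.isDefEq.respectTransparency.types false in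
theorem spread_out_unique_of_locallyOfFiniteType
    {X Y S : Scheme.{u}} (sX : X ⟶ S) (sY : Y ⟶ S) [LocallyOfFiniteType sY]
    (f g : X ⟶ Y) (hf : f ≫ sY = sX) (hg : g ≫ sY = sX) {x : X} (e : f x = g x)
    (H : f.stalkMap x =
      Y.presheaf.stalkSpecializes (Inseparable.of_eq e.symm).specializes ≫ g.stalkMap x) :
    ∃ U : X.Opens, x ∈ U ∧ U.ι ≫ f = U.ι ≫ g := by
  classical
  obtain ⟨_, ⟨W : S.Opens, hW, rfl⟩, hxW, -⟩ :=
    S.isBasis_affineOpens.exists_subset_of_mem_open (Set.mem_univ (sY (f x))) isOpen_univ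
  obtain ⟨_, ⟨V : Y.Opens, hV, rfl⟩, hxV, hVW⟩ :=
    Y.isBasis_affineOpens.exists_subset_of_mem_open (show f x ∈ sY ⁻¹ᵁ W from hxW) (sY ⁻¹ᵁ W).2
  have hxV' : g x ∈ V := e ▸ hxV
  have hft : (sY.appLE W V hVW).hom.FiniteType :=
    HasRingHomProperty.appLE @LocallyOfFiniteType sY inferInstance ⟨W, hW⟩ ⟨V, hV⟩ hVW
  set U₀ : X.Opens := f ⁻¹ᵁ V ⊓ g ⁻¹ᵁ V with hU₀
  have hxU₀ : x ∈ U₀ := ⟨hxV, hxV'⟩
  -- germs agree
  have hgerm : f.appLE V U₀ inf_le_left ≫ X.presheaf.germ U₀ x hxU₀ =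
      g.appLE V U₀ inf_le_right ≫ X.presheaf.germ U₀ x hxU₀ := by
    simp only [Scheme.Hom.appLE, Category.assoc, X.presheaf.germ_res', ← Scheme.Hom.germ_stalkMap, H]
    simp only [TopCat.Presheaf.germ_stalkSpecializes_assoc, Scheme.Hom.germ_stalkMap]
  have hloc : ∀ b : Γ(Y, V), ∃ (Ub : X.Opens), x ∈ Ub ∧ ∃ (hle : Ub ≤ U₀),
      X.presheaf.map (homOfLE hle).op ((f.appLE V U₀ inf_le_left).hom b) =
        X.presheaf.map (homOfLE hle).op ((g.appLE V U₀ inf_le_right).hom b) := by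
    intro b
    have h1 : X.presheaf.germ U₀ x hxU₀ ((f.appLE V U₀ inf_le_left).hom b) =
        X.presheaf.germ U₀ x hxU₀ ((g.appLE V U₀ inf_le_right).hom b) :=
      congr($hgerm b)
    obtain ⟨Ub, hxUb, i1, i2, hb⟩ := X.presheaf.germ_eq x hxU₀ hxU₀ _ _ h1
    exact ⟨Ub, hxUb, i1.le, hb⟩
  choose Ub hxUb hUble hUb using hloc
  obtain ⟨s, hs⟩ := hft.out
  let _ : Algebra Γ(S, W) Γ(Y, V) := (sY.appLE W V hVW).hom.toAlgebra
  have hs' : Subring.closure (Set.range (sY.appLE W V hVW).hom ∪ (s : Set Γ(Y, V))) = ⊤ := by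
    have h1 := Algebra.adjoin_eq_ring_closure (R := Γ(S, W)) (s : Set Γ(Y, V))
    rw [hs, Algebra.top_toSubring] at h1
    exact h1.symm
  set U : X.Opens := U₀ ⊓ s.inf Ub with hU
  have hxU : x ∈ U := ⟨hxU₀, (mem_finset_inf_opens _ _ _).2 fun b _ => hxUb b⟩
  have hUf : U ≤ f ⁻¹ᵁ V := inf_le_left.trans inf_le_left
  have hUg : U ≤ g ⁻¹ᵁ V := inf_le_left.trans inf_le_right
  have HU : f.appLE V U hUf = g.appLE V U hUg := by
    ext b
    have hmem : b ∈ RingHom.eqLocus (f.appLE V U hUf).hom (g.appLE V U hUg).hom := by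
      have : (⊤ : Subring Γ(Y, V)) ≤ RingHom.eqLocus (f.appLE V U hUf).hom (g.appLE V U hUg).hom := by
        rw [← hs', Subring.closure_le]
        rintro b (⟨a, rfl⟩ | hb)
        · -- base ring
          change (sY.appLE W V hVW ≫ f.appLE V U hUf) a = (sY.appLE W V hVW ≫ g.appLE V U hUg) a
          rw [Scheme.Hom.appLE_comp_appLE, Scheme.Hom.appLE_comp_appLE]
          subst hf
          simp only [hg]
        · -- generators
          change (f.appLE V U hUf).hom b = (g.appLE V U hUg).hom b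
          have hUle : U ≤ Ub b := inf_le_right.trans (Finset.inf_le hb)
          have h1 : f.appLE V U hUf = f.appLE V U₀ inf_le_left ≫
              X.presheaf.map (homOfLE (hUble b)).op ≫ X.presheaf.map (homOfLE hUle).op := by
            rw [← Functor.map_comp, Scheme.Hom.appLE_map]
          have h2 : g.appLE V U hUg = g.appLE V U₀ inf_le_right ≫
              X.presheaf.map (homOfLE (hUble b)).op ≫ X.presheaf.map (homOfLE hUle).op := by
            rw [← Functor.map_comp, Scheme.Hom.appLE_map]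
          rw [h1, h2]
          simp only [CommRingCat.hom_comp, RingHom.coe_comp, Function.comp_apply]
          rw [hUb b]
      exact this trivial
    exact hmem
  refine ⟨U, hxU, ?_⟩
  rw [← Scheme.Hom.resLE_comp_ι _ hUf, ← Scheme.Hom.resLE_comp_ι _ hUg]
  congr 1
  have : IsAffine V := hV
  suffices ∀ (U₁ V₁) (eU : U = U₁) (eV : V = V₁),
      f.appLE V₁ U₁ (eU ▸ eV ▸ hUf) = g.appLE V₁ U₁ (eU ▸ eV ▸ hUg) by
    rw [← cancel_mono V.toScheme.isoSpec.hom]
    simp only [Scheme.isoSpec, asIso_hom, Scheme.toSpecΓ_naturality,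
      Scheme.Hom.app_eq_appLE, Scheme.Hom.resLE_appLE]
    congr 2
    apply this <;> simp
  rintro U₁ V₁ rfl rfl
  exact HU

set_option backward.isDefEq.respectTransparency.types false in
lemma spread_out_unique_of_locallyOfFiniteType'
    {X Y S : Scheme.{u}} (sX : X ⟶ S) (sY : Y ⟶ S) [LocallyOfFiniteType sY]
    (f g : X ⟶ Y) (hf : f ≫ sY = sX) (hg : g ≫ sY = sX) {x : X}
    (e : X.fromSpecStalk x ≫ f = X.fromSpecStalk x ≫ g) :
    ∃ (U : X.Opens), x ∈ U ∧ U.ι ≫ f = U.ι ≫ g := by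
  fapply spread_out_unique_of_locallyOfFiniteType sX sY f g hf hg
  · simpa using congr($e (IsLocalRing.closedPoint _))
  · apply Spec.map_injective
    rw [← cancel_mono (Y.fromSpecStalk _)]
    simpa [Scheme.SpecMap_stalkSpecializes_fromSpecStalk]

set_option backward.defeqAttrib.useBackward true in
set_option backward.isDefEq.respectTransparency false in
lemma equiv_of_fromSpecStalkOfMem_eq_of_locallyOfFiniteType {X Y S : Scheme.{u}}
    [X.Over S] [Y.Over S] [LocallyOfFiniteType (Y ↘ S)] [IrreducibleSpace X]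
    {x : X} (f g : X.PartialMap Y) [f.IsOver S] [g.IsOver S]
    (hxf : x ∈ f.domain) (hxg : x ∈ g.domain)
    (H : f.fromSpecStalkOfMem hxf = g.fromSpecStalkOfMem hxg) : f.equiv g := by
  have hdense : Dense ((f.domain ⊓ g.domain) : Set X) :=
    f.dense_domain.inter_of_isOpen_left g.dense_domain f.domain.2
  have := spread_out_unique_of_locallyOfFiniteType' (X := (f.domain ⊓ g.domain).toScheme)
    ((f.domain ⊓ g.domain).ι ≫ (X ↘ S)) (Y ↘ S)
    (X.homOfLE inf_le_left ≫ f.hom) (X.homOfLE inf_le_right ≫ g.hom)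
    (by rw [Category.assoc, comp_over, ← Scheme.Opens.ι_comp_over,
      ← Category.assoc, Scheme.homOfLE_ι])
    (by rw [Category.assoc, comp_over, ← Scheme.Opens.ι_comp_over,
      ← Category.assoc, Scheme.homOfLE_ι]) (x := ⟨x, hxf, hxg⟩) ?_
  · obtain ⟨U, hxU, e⟩ := this
    refine ⟨(f.domain ⊓ g.domain).ι ''ᵁ U, ((f.domain ⊓ g.domain).ι ''ᵁ U).2.dense
      ⟨_, ⟨_, hxU, rfl⟩⟩,
      ((Set.image_subset_range _ _).trans_eq (Subtype.range_val)).trans inf_le_left,
      ((Set.image_subset_range _ _).trans_eq (Subtype.range_val)).trans inf_le_right, ?_⟩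
    rw [← cancel_epi (Scheme.Hom.isoImage _ _).hom]
    simp only [Scheme.PartialMap.restrict_hom, ← Category.assoc] at e ⊢
    convert! e using 2 <;> rw [← cancel_mono (Scheme.Opens.ι _)] <;> simp
  · rw [← f.fromSpecStalkOfMem_restrict hdense inf_le_left ⟨hxf, hxg⟩,
      ← g.fromSpecStalkOfMem_restrict hdense inf_le_right ⟨hxf, hxg⟩] at H
    simpa only [Scheme.PartialMap.fromSpecStalkOfMem, Scheme.PartialMap.restrict_domain,
      Scheme.Opens.fromSpecStalkOfMem, Spec.map_inv,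
      Scheme.PartialMap.restrict_hom, Category.assoc, IsIso.eq_inv_comp,
      IsIso.hom_inv_id_assoc] using H

theorem eq_of_fromFunctionField_eq_of_irreducible
    (S X Y : Scheme.{u}) [X.Over S] [Y.Over S] [IrreducibleSpace X]
    [LocallyOfFiniteType (Y ↘ S)] (f g : X ⤏ Y) [f.IsOver S] [g.IsOver S]
    (h : f.fromFunctionField = g.fromFunctionField) : f = g := by
  obtain ⟨f', hf'S, rfl⟩ := f.exists_partialMap_over S
  obtain ⟨g', hg'S, rfl⟩ := g.exists_partialMap_over S
  refine Scheme.PartialMap.toRationalMap_eq_iff.mpr ?_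
  exact equiv_of_fromSpecStalkOfMem_eq_of_locallyOfFiniteType (S := S) _ _ _ _ h

end Groth.Agent.Lib.Helper6
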