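/-
Helper library (helper4): birationality over a base from isomorphic local rings at points, for
schemes locally of finite presentation over the base (no germ-injectivity needed), and conversely.
-/
import Mathlib
import Groth.Agent.Lib.Helper4BirIso
import Groth.Agent.Lib.Helper4SpreadFP
import Groth.Agent.Lib.Helper6SpreadOut

set_option autoImplicit false
set_option linter.style.haveILetI false
universe u
open CategoryTheory CategoryTheory.Limits AlgebraicGeometry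

namespace Groth.Agent.Lib.Helper4.BirIsoFP

open IsLocalRing Groth.Agent.Lib.Helper4.BirIso

theorem exists_open_comp_eq_of_lft {S X Y : Scheme.{u}} (sX : X ⟶ S) (sY : Y ⟶ S)
    [LocallyOfFiniteType sX] (U : X.Opens) (V : Y.Opens)
    (f : U.toScheme ⟶ Y) (g : V.toScheme ⟶ X)
    (hf : f ≫ sY = U.ι ≫ sX) (hg : g ≫ sX = V.ι ≫ sY)
    (x₀ : X) (hx₀ : x₀ ∈ U) (y₀ : Y) (hy₀ : y₀ ∈ V)
    (θ : Y.presheaf.stalk y₀ ≅ X.presheaf.stalk x₀)
    (h1 : U.fromSpecStalkOfMem x₀ hx₀ ≫ f = Spec.map θ.hom ≫ Y.fromSpecStalk y₀)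
    (h2 : V.fromSpecStalkOfMem y₀ hy₀ ≫ g = Spec.map θ.inv ≫ X.fromSpecStalk x₀) :
    ∃ (W : (pullback f V.ι).Opens) (w : ↑(pullback f V.ι)), w ∈ W ∧
      pullback.fst f V.ι w = ⟨x₀, hx₀⟩ ∧ pullback.snd f V.ι w = ⟨y₀, hy₀⟩ ∧
      W.ι ≫ pullback.snd f V.ι ≫ g = W.ι ≫ pullback.fst f V.ι ≫ U.ι := by
  have hfx : f ⟨x₀, hx₀⟩ = y₀ := apply_eq_of_fromSpecStalk_eq U f x₀ hx₀ y₀ θ h1
  obtain ⟨w, hw1, hw2⟩ := Scheme.Pullback.exists_preimage_pullback (f := f) (g := V.ι)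
    ⟨x₀, hx₀⟩ ⟨y₀, hy₀⟩ hfx
  have hjw : (pullback.fst f V.ι ≫ U.ι) w = x₀ := by
    rw [Scheme.Hom.comp_apply, hw1]; rfl
  obtain ⟨ρ, hρ⟩ := exists_fromSpecStalk_comp (pullback.fst f V.ι ≫ U.ι) w x₀ hjw
  have e1 : (pullback f V.ι).fromSpecStalk w ≫ pullback.fst f V.ι =
      Spec.map ρ ≫ U.fromSpecStalkOfMem x₀ hx₀ := by
    rw [← cancel_mono U.ι, Category.assoc, hρ, Category.assoc, Scheme.Opens.fromSpecStalkOfMem_ι]
  have e2 : (pullback f V.ι).fromSpecStalk w ≫ pullback.snd f V.ι =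
      Spec.map ρ ≫ Spec.map θ.hom ≫ V.fromSpecStalkOfMem y₀ hy₀ := by
    rw [← cancel_mono V.ι, Category.assoc, ← pullback.condition, ← Category.assoc, e1,
      Category.assoc, h1, Category.assoc, Category.assoc, Scheme.Opens.fromSpecStalkOfMem_ι]
  have e3 : (pullback f V.ι).fromSpecStalk w ≫ pullback.snd f V.ι ≫ g =
      (pullback f V.ι).fromSpecStalk w ≫ pullback.fst f V.ι ≫ U.ι := by
    rw [← Category.assoc, e2, Category.assoc, Category.assoc, h2, ← Category.assoc (Spec.map θ.hom),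
      ← Spec.map_comp, Iso.inv_hom_id, Spec.map_id, Category.id_comp, hρ]
  have hS : (pullback.snd f V.ι ≫ g) ≫ sX = (pullback.fst f V.ι ≫ U.ι) ≫ sX := by
    rw [Category.assoc, hg, ← Category.assoc, ← pullback.condition, Category.assoc, hf,
      Category.assoc]
  obtain ⟨W, hwW, hW⟩ := Groth.Agent.Lib.Helper6.spread_out_unique_of_locallyOfFiniteType'
    ((pullback.fst f V.ι ≫ U.ι) ≫ sX) sX (pullback.snd f V.ι ≫ g) (pullback.fst f V.ι ≫ U.ι)
    hS rfl (x := w) e3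
  exact ⟨W, w, hwW, hw1, hw2, hW⟩

theorem exists_partialIso_of_lft {S X Y : Scheme.{u}} [IrreducibleSpace X] [IrreducibleSpace Y]
    (sX : X ⟶ S) (sY : Y ⟶ S) [LocallyOfFiniteType sX] [LocallyOfFiniteType sY]
    (U : X.Opens) (V : Y.Opens) (f : U.toScheme ⟶ Y) (g : V.toScheme ⟶ X)
    (hf : f ≫ sY = U.ι ≫ sX) (hg : g ≫ sX = V.ι ≫ sY)
    (x₀ : X) (hx₀ : x₀ ∈ U) (y₀ : Y) (hy₀ : y₀ ∈ V)
    (θ : Y.presheaf.stalk y₀ ≅ X.presheaf.stalk x₀)
    (h1 : U.fromSpecStalkOfMem x₀ hx₀ ≫ f = Spec.map θ.hom ≫ Y.fromSpecStalk y₀)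
    (h2 : V.fromSpecStalkOfMem y₀ hy₀ ≫ g = Spec.map θ.inv ≫ X.fromSpecStalk x₀) :
    ∃ (P : X.PartialIso Y) (hP : P.source ≤ U),
      P.iso.hom ≫ P.target.ι = X.homOfLE hP ≫ f := by
  obtain ⟨W, w, hwW, hw1, hw2, hW⟩ :=
    exists_open_comp_eq_of_lft sX sY U V f g hf hg x₀ hx₀ y₀ hy₀ θ h1 h2
  obtain ⟨W', w', hw'W', hw'1, hw'2, hW'⟩ :=
    exists_open_comp_eq_of_lft sY sX V U g f hg hf y₀ hy₀ x₀ hx₀ θ.symm h2 h1
  obtain ⟨i, hi⟩ : ∃ i : W.toScheme ⟶ U.toScheme, i = W.ι ≫ pullback.fst f V.ι := ⟨_, rfl⟩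
  obtain ⟨f₁, hf₁⟩ : ∃ f₁ : W.toScheme ⟶ V.toScheme, f₁ = W.ι ≫ pullback.snd f V.ι := ⟨_, rfl⟩
  obtain ⟨j, hj⟩ : ∃ j : W'.toScheme ⟶ V.toScheme, j = W'.ι ≫ pullback.fst g U.ι := ⟨_, rfl⟩
  obtain ⟨g₁, hg₁⟩ : ∃ g₁ : W'.toScheme ⟶ U.toScheme, g₁ = W'.ι ≫ pullback.snd g U.ι := ⟨_, rfl⟩
  have hf₁b : f₁ ≫ V.ι = i ≫ f := by
    rw [hf₁, hi, Category.assoc, Category.assoc, pullback.condition]
  have hf₁g : f₁ ≫ g = i ≫ U.ι := by
    rw [hf₁, hi, Category.assoc, Category.assoc]; exact hW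
  have hg₁a : g₁ ≫ U.ι = j ≫ g := by
    rw [hg₁, hj, Category.assoc, Category.assoc, pullback.condition]
  have hg₁f : g₁ ≫ f = j ≫ V.ι := by
    rw [hg₁, hj, Category.assoc, Category.assoc]; exact hW'
  obtain ⟨h, hh1, hh2⟩ := exists_iso_of_local_inverses U.ι V.ι f g i f₁ j g₁ hf₁b hf₁g hg₁a hg₁f
  haveI : IsOpenImmersion i := by rw [hi]; infer_instance
  haveI : IsOpenImmersion j := by rw [hj]; infer_instance
  let α : pullback f₁ j ⟶ X := pullback.fst f₁ j ≫ i ≫ U.ι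
  let β : pullback g₁ i ⟶ Y := pullback.fst g₁ i ≫ j ≫ V.ι
  have hpt : f₁ ⟨w, hwW⟩ = j ⟨w', hw'W'⟩ := by
    have e1 : f₁ ⟨w, hwW⟩ = pullback.snd f V.ι w := by rw [hf₁]; rfl
    have e2 : j ⟨w', hw'W'⟩ = pullback.fst g U.ι w' := by rw [hj]; rfl
    rw [e1, e2, hw2, hw'1]
  obtain ⟨z, hz1, hz2⟩ := Scheme.Pullback.exists_preimage_pullback (f := f₁) (g := j) _ _ hpt
  have hαne : (α.opensRange : Set X).Nonempty := ⟨α z, z, rfl⟩
  have hβne : (β.opensRange : Set Y).Nonempty := ⟨β (h.hom z), h.hom z, rfl⟩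
  have hαU : α.opensRange ≤ U := by
    rintro _ ⟨z', rfl⟩
    exact ((pullback.fst f₁ j ≫ i) z').2
  refine ⟨{ source := α.opensRange
            dense_source := α.opensRange.2.dense hαne
            target := β.opensRange
            dense_target := β.opensRange.2.dense hβne
            iso := α.isoOpensRange.symm ≪≫ h ≪≫ β.isoOpensRange }, hαU, ?_⟩
  show (α.isoOpensRange.inv ≫ h.hom ≫ β.isoOpensRange.hom) ≫ β.opensRange.ι = _
  have e1 : h.hom ≫ β = (pullback.fst f₁ j ≫ i) ≫ f := by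
    show h.hom ≫ pullback.fst g₁ i ≫ j ≫ V.ι = _
    rw [← Category.assoc, hh1, ← Category.assoc, ← pullback.condition, Category.assoc, hf₁b,
      Category.assoc]
  have e2 : α.isoOpensRange.inv ≫ pullback.fst f₁ j ≫ i = X.homOfLE hαU := by
    rw [← cancel_mono U.ι, Scheme.homOfLE_ι]
    have := α.isoOpensRange_inv_comp
    simp only [Category.assoc]
    exact this
  rw [Category.assoc, Category.assoc, Scheme.Hom.isoOpensRange_hom_ι, e1, ← Category.assoc, e2]

/-- From stalk isomorphism data at points to a partial isomorphism over `S`, for schemes locally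
of finite presentation over `S` (no germ-injectivity). -/
theorem birationalOver_of_stalk_iso_of_lfp {S X Y : Scheme.{u}} [IrreducibleSpace X]
    [IrreducibleSpace Y]
    (sX : X ⟶ S) (sY : Y ⟶ S) [LocallyOfFinitePresentation sX] [LocallyOfFinitePresentation sY]
    (x₀ : X) (y₀ : Y)
    (hs : sX x₀ = sY y₀) (θ : Y.presheaf.stalk y₀ ≅ X.presheaf.stalk x₀)
    (hθ : sY.stalkMap y₀ ≫ θ.hom =
      S.presheaf.stalkSpecializes (Inseparable.of_eq hs).specializes ≫ sX.stalkMap x₀) :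
    Scheme.BirationalOver sX sY := by
  obtain ⟨U, hxU, f, hf1, hf2⟩ :=
    Groth.Agent.Lib.Helper4.SpreadFP.spread_out_of_finitePresentation sX sY hs θ.hom hθ
  have hθ' : sX.stalkMap x₀ ≫ θ.inv =
      S.presheaf.stalkSpecializes (Inseparable.of_eq hs.symm).specializes ≫ sY.stalkMap y₀ := by
    rw [Iso.comp_inv_eq, Category.assoc, hθ, ← Category.assoc,
      TopCat.Presheaf.stalkSpecializes_comp, TopCat.Presheaf.stalkSpecializes_refl,
      Category.id_comp]
  obtain ⟨V, hyV, g, hg1, hg2⟩ :=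
    Groth.Agent.Lib.Helper4.SpreadFP.spread_out_of_finitePresentation sY sX hs.symm θ.inv hθ'
  obtain ⟨P, hP, hPf⟩ :=
    exists_partialIso_of_lft sX sY U V f g hf2 hg2 x₀ hxU y₀ hyV θ hf1.symm hg1.symm
  refine ⟨P, ?_⟩
  show P.iso.hom ≫ P.target.ι ≫ sY = P.source.ι ≫ sX
  rw [← Category.assoc, hPf, Category.assoc, hf2, ← Category.assoc, Scheme.homOfLE_ι]

theorem eqToHom_stalk {X : TopCat.{u}} (F : X.Presheaf CommRingCat.{u}) {a b : X} (h : a = b) :
    eqToHom (congrArg F.stalk h) = F.stalkSpecializes (Inseparable.of_eq h.symm).specializes := by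
  subst h
  simp

set_option backward.isDefEq.respectTransparency false in
theorem stalk_iso_of_birationalOver {S X Y : Scheme.{u}} [IrreducibleSpace X] [IrreducibleSpace Y]
    (sX : X ⟶ S) (sY : Y ⟶ S) (h : Scheme.BirationalOver sX sY) :
    ∃ (hs : sX (genericPoint ↥X) = sY (genericPoint ↥Y))
      (e : X.presheaf.stalk (genericPoint ↥X) ≅ Y.presheaf.stalk (genericPoint ↥Y)),
      sX.stalkMap (genericPoint ↥X) ≫ e.hom =
        S.presheaf.stalkSpecializes (Inseparable.of_eq hs.symm).specializes ≫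
          sY.stalkMap (genericPoint ↥Y) := by
  obtain ⟨P, hP⟩ := h
  have hP' : P.iso.hom ≫ P.target.ι ≫ sY = P.source.ι ≫ sX := hP
  have hηU : genericPoint X ∈ P.source :=
    ((genericPoint_spec X).mem_open_set_iff P.source.isOpen).mpr
      (by simpa using P.dense_source.nonempty)
  have hηV : genericPoint Y ∈ P.target :=
    ((genericPoint_spec Y).mem_open_set_iff P.target.isOpen).mpr
      (by simpa using P.dense_target.nonempty)
  let x : P.source.toScheme := ⟨genericPoint X, hηU⟩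
  obtain ⟨u, hu⟩ : ∃ u : P.source.toScheme ⟶ Y, u = P.iso.hom ≫ P.target.ι := ⟨_, rfl⟩
  haveI : IsOpenImmersion u := by rw [hu]; infer_instance
  have hcomm : P.source.ι ≫ sX = u ≫ sY := by rw [hu, Category.assoc]; exact hP'.symm
  have hux : u x = genericPoint Y := by
    obtain ⟨x', hx'⟩ : ∃ x', u x' = genericPoint Y := by
      refine ⟨P.iso.inv ⟨genericPoint Y, hηV⟩, ?_⟩
      rw [hu]
      show P.target.ι ((P.iso.inv ≫ P.iso.hom) ⟨genericPoint Y, hηV⟩) = _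
      rw [Iso.inv_hom_id]
      rfl
    have h1 : x ⤳ x' := by
      rw [← P.source.ι.isOpenEmbedding.isInducing.specializes_iff]
      exact (genericPoint_spec X).specializes trivial
    have h2 : u x ⤳ u x' := u.base.hom.map_specializes h1
    rw [hx'] at h2
    exact (h2.antisymm ((genericPoint_spec Y).specializes trivial)).eq
  have hs : sX (genericPoint X) = sY (genericPoint Y) := by
    have : (P.source.ι ≫ sX) x = (u ≫ sY) x := by rw [hcomm]
    rw [← hux]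
    exact this
  have hιx : P.source.ι x = genericPoint X := rfl
  let e : X.presheaf.stalk (genericPoint X) ≅ Y.presheaf.stalk (genericPoint Y) :=
    X.presheaf.stalkCongr (.of_eq hιx.symm) ≪≫ asIso (P.source.ι.stalkMap x) ≪≫
      (asIso (u.stalkMap x)).symm ≪≫ Y.presheaf.stalkCongr (.of_eq hux)
  refine ⟨hs, e, ?_⟩
  show sX.stalkMap (genericPoint X) ≫ (X.presheaf.stalkCongr (.of_eq hιx.symm)).hom ≫
    P.source.ι.stalkMap x ≫ inv (u.stalkMap x) ≫ (Y.presheaf.stalkCongr (.of_eq hux)).hom = _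
  have ha := Scheme.Hom.stalkMap_congr_point sX (genericPoint X) (P.source.ι x) hιx.symm
  have hb := Scheme.Hom.stalkMap_comp P.source.ι sX x
  have hc := Scheme.Hom.stalkMap_congr_hom _ _ hcomm x
  have hd := Scheme.Hom.stalkMap_comp u sY x
  have hf := Scheme.Hom.stalkMap_congr_point sY (u x) (genericPoint Y) hux
  rw [← Category.assoc, ha, Category.assoc, ← Category.assoc (sX.stalkMap _), ← hb, hc, hd]
  simp only [Category.assoc, IsIso.hom_inv_id_assoc]
  rw [hf]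
  simp only [TopCat.Presheaf.stalkCongr_hom, ← Category.assoc,
    TopCat.Presheaf.stalkSpecializes_comp]

end Groth.Agent.Lib.Helper4.BirIsoFP
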