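/-
Helper library (helper4): a birational morphism (bijection on generic points + stalk isos there)
is an isomorphism between dense opens.
-/
import Mathlib
import Groth.Agent.Lib.Helper4BirIsoFP

set_option autoImplicit false
set_option linter.style.haveILetI false
universe u
open CategoryTheory CategoryTheory.Limits AlgebraicGeometry

namespace Groth.Agent.Lib.Helper4.BirOpen

open IsLocalRing Groth.Agent.Lib.Helper4.BirIso Groth.Agent.Lib.Helper4.BirIsoFP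

/-- pointed version of `exists_partialIso_of_lft`, without irreducibility -/
theorem exists_local_iso_of_lft {S X Y : Scheme.{u}}
    (sX : X ⟶ S) (sY : Y ⟶ S) [LocallyOfFiniteType sX] [LocallyOfFiniteType sY]
    (U : X.Opens) (V : Y.Opens) (f : U.toScheme ⟶ Y) (g : V.toScheme ⟶ X)
    (hf : f ≫ sY = U.ι ≫ sX) (hg : g ≫ sX = V.ι ≫ sY)
    (x₀ : X) (hx₀ : x₀ ∈ U) (y₀ : Y) (hy₀ : y₀ ∈ V)
    (θ : Y.presheaf.stalk y₀ ≅ X.presheaf.stalk x₀)
    (h1 : U.fromSpecStalkOfMem x₀ hx₀ ≫ f = Spec.map θ.hom ≫ Y.fromSpecStalk y₀)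
    (h2 : V.fromSpecStalkOfMem y₀ hy₀ ≫ g = Spec.map θ.inv ≫ X.fromSpecStalk x₀) :
    ∃ (A : X.Opens) (B : Y.Opens) (e : A.toScheme ≅ B.toScheme) (hA : A ≤ U),
      x₀ ∈ A ∧ y₀ ∈ B ∧ B ≤ V ∧ e.hom ≫ B.ι = X.homOfLE hA ≫ f := by
  obtain ⟨W, w, hwW, hw1, hw2, hW⟩ :=
    exists_open_comp_eq_of_lft sX sY U V f g hf hg x₀ hx₀ y₀ hy₀ θ h1 h2
  obtain ⟨W', w', hw'W', hw'1, hw'2, hW'⟩ :=
    exists_open_comp_eq_of_lft sY sX V U g f hg hf y₀ hy₀ x₀ hx₀ θ.symm h2 h1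
  obtain ⟨i, hi⟩ : ∃ i : W.toScheme ⟶ U.toScheme, i = W.ι ≫ pullback.fst f V.ι := ⟨_, rfl⟩
  obtain ⟨f₁, hf₁⟩ : ∃ f₁ : W.toScheme ⟶ V.toScheme, f₁ = W.ι ≫ pullback.snd f V.ι := ⟨_, rfl⟩
  obtain ⟨j, hj⟩ : ∃ j : W'.toScheme ⟶ V.toScheme, j = W'.ι ≫ pullback.fst g U.ι := ⟨_, rfl⟩
  obtain ⟨g₁, hg₁⟩ : ∃ g₁ : W'.toScheme ⟶ U.toScheme, g₁ = W'.ι ≫ pullback.snd g U.ι := ⟨_, rfl⟩
  have hf₁b : f₁ ≫ V.ι = i ≫ f := by
    rw [hf₁, hi, Category.assoc, Category.assoc, pullback.condition]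
  have hf₁g : f₁ ≫ g = i ≫ U.ι := by
    rw [hf₁, hi, Category.assoc, Category.assoc]; exact hW
  have hg₁a : g₁ ≫ U.ι = j ≫ g := by
    rw [hg₁, hj, Category.assoc, Category.assoc, pullback.condition]
  have hg₁f : g₁ ≫ f = j ≫ V.ι := by
    rw [hg₁, hj, Category.assoc, Category.assoc]; exact hW'
  obtain ⟨h, hh1, hh2⟩ := exists_iso_of_local_inverses U.ι V.ι f g i f₁ j g₁ hf₁b hf₁g hg₁a hg₁f
  haveI : IsOpenImmersion i := by rw [hi]; infer_instance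
  haveI : IsOpenImmersion j := by rw [hj]; infer_instance
  let α : pullback f₁ j ⟶ X := pullback.fst f₁ j ≫ i ≫ U.ι
  let β : pullback g₁ i ⟶ Y := pullback.fst g₁ i ≫ j ≫ V.ι
  have hpt : f₁ ⟨w, hwW⟩ = j ⟨w', hw'W'⟩ := by
    have e1 : f₁ ⟨w, hwW⟩ = pullback.snd f V.ι w := by rw [hf₁]; rfl
    have e2 : j ⟨w', hw'W'⟩ = pullback.fst g U.ι w' := by rw [hj]; rfl
    rw [e1, e2, hw2, hw'1]
  obtain ⟨z, hz1, hz2⟩ := Scheme.Pullback.exists_preimage_pullback (f := f₁) (g := j) _ _ hpt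
  have hαz : α z = x₀ := by
    show U.ι (i (pullback.fst f₁ j z)) = x₀
    rw [hz1]
    have : i ⟨w, hwW⟩ = pullback.fst f V.ι w := by rw [hi]; rfl
    rw [this, hw1]
    rfl
  have hβz : β (h.hom z) = y₀ := by
    show V.ι (j (pullback.fst g₁ i (h.hom z))) = y₀
    have e1 : pullback.fst g₁ i (h.hom z) = pullback.snd f₁ j z := by
      rw [← hh1]; rfl
    rw [e1, hz2]
    have : j ⟨w', hw'W'⟩ = pullback.fst g U.ι w' := by rw [hj]; rfl
    rw [this, hw'1]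
    rfl
  have hαU : α.opensRange ≤ U := by
    rintro _ ⟨z', rfl⟩
    exact ((pullback.fst f₁ j ≫ i) z').2
  have hβV : β.opensRange ≤ V := by
    rintro _ ⟨z', rfl⟩
    exact ((pullback.fst g₁ i ≫ j) z').2
  refine ⟨α.opensRange, β.opensRange, α.isoOpensRange.symm ≪≫ h ≪≫ β.isoOpensRange, hαU,
    ⟨z, hαz⟩, ⟨h.hom z, hβz⟩, hβV, ?_⟩
  show (α.isoOpensRange.inv ≫ h.hom ≫ β.isoOpensRange.hom) ≫ β.opensRange.ι = _
  have e1 : h.hom ≫ β = (pullback.fst f₁ j ≫ i) ≫ f := by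
    show h.hom ≫ pullback.fst g₁ i ≫ j ≫ V.ι = _
    rw [← Category.assoc, hh1, ← Category.assoc, ← pullback.condition, Category.assoc, hf₁b,
      Category.assoc]
  have e2 : α.isoOpensRange.inv ≫ pullback.fst f₁ j ≫ i = X.homOfLE hαU := by
    rw [← cancel_mono U.ι, Scheme.homOfLE_ι]
    have := α.isoOpensRange_inv_comp
    simp only [Category.assoc]
    exact this
  rw [Category.assoc, Category.assoc, Scheme.Hom.isoOpensRange_hom_ι, e1, ← Category.assoc, e2]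

/-- the complement of the other irreducible components -/
theorem exists_open_subset_component {Y : Type*} [TopologicalSpace Y]
    (hfin : (irreducibleComponents Y).Finite) (η : Y)
    (hη : closure {η} ∈ irreducibleComponents Y) :
    ∃ V₀ : TopologicalSpace.Opens Y, η ∈ V₀ ∧ (V₀ : Set Y) ⊆ closure {η} ∧
      ∀ Z' ∈ irreducibleComponents Y, Z' ≠ closure {η} → Disjoint (V₀ : Set Y) Z' := by
  classical
  let T : Set Y := ⋃ Z' ∈ (irreducibleComponents Y \ {closure {η}}), Z'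
  have hT : IsClosed T :=
    Set.Finite.isClosed_biUnion (hfin.subset Set.sdiff_subset) fun s hs =>
      isClosed_of_mem_irreducibleComponents s hs.1
  have hηT : η ∉ T := by
    intro h
    simp only [T, Set.mem_iUnion] at h
    obtain ⟨Z', ⟨hZ', hne⟩, hηZ'⟩ := h
    apply hne
    have hsub : closure {η} ⊆ Z' :=
      (isClosed_of_mem_irreducibleComponents Z' hZ').closure_subset_iff.mpr
        (Set.singleton_subset_iff.mpr hηZ')
    exact (hη.eq_of_subset hZ'.1 hsub).symm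
  refine ⟨⟨Tᶜ, hT.isOpen_compl⟩, hηT, ?_, ?_⟩
  · intro y hy
    by_contra hyZ
    apply hy
    simp only [T, Set.mem_iUnion]
    refine ⟨irreducibleComponent y, ⟨irreducibleComponent_mem_irreducibleComponents y, ?_⟩,
      mem_irreducibleComponent⟩
    intro h
    apply hyZ
    have : y ∈ irreducibleComponent y := mem_irreducibleComponent
    rw [h] at this
    exact this
  · intro Z' hZ' hne
    rw [Set.disjoint_left]
    intro y hy hyZ'
    apply hy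
    simp only [T, Set.mem_iUnion]
    exact ⟨Z', ⟨hZ', hne⟩, hyZ'⟩

theorem isGermInjectiveAt_of_isReduced_of_finite (Y : Scheme.{u}) [IsReduced Y]
    (hfin : (irreducibleComponents ↥Y).Finite) (η : Y)
    (hη : closure {η} ∈ irreducibleComponents ↥Y) : Y.IsGermInjectiveAt η := by
  obtain ⟨V₀', hηV, hsub, -⟩ := exists_open_subset_component hfin η hη
  obtain ⟨V₀, rfl⟩ : ∃ V₀ : Y.Opens, V₀ = V₀' := ⟨V₀', rfl⟩
  have hirr : IsIrreducible (V₀ : Set Y) :=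
    ⟨⟨η, hηV⟩, hη.1.isPreirreducible.open_subset V₀.2 hsub⟩
  haveI : IrreducibleSpace V₀.toScheme := Subtype.irreducibleSpace hirr
  haveI : IsIntegral V₀.toScheme := isIntegral_of_irreducibleSpace_of_isReduced _
  have hgi : V₀.toScheme.IsGermInjective := inferInstance
  exact (isGermInjectiveAt_iff_of_isOpenImmersion (f := V₀.ι) (x := ⟨η, hηV⟩)).mpr (hgi _)

theorem local_iso {X Y : Scheme.{u}} (f : X ⟶ Y) [LocallyOfFiniteType f] (ξ : X)
    [IsIso (f.stalkMap ξ)]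
    (hsec : ∃ (V : Y.Opens) (hV : f ξ ∈ V) (g : V.toScheme ⟶ X), g ≫ f = V.ι ∧
      V.fromSpecStalkOfMem (f ξ) hV ≫ g = Spec.map (inv (f.stalkMap ξ)) ≫ X.fromSpecStalk ξ)
    (U₀ : X.Opens) (hξ : ξ ∈ U₀) (V₀ : Y.Opens) (hη : f ξ ∈ V₀) :
    ∃ (A : X.Opens) (B : Y.Opens) (e : A.toScheme ≅ B.toScheme),
      ξ ∈ A ∧ f ξ ∈ B ∧ A ≤ U₀ ∧ B ≤ V₀ ∧ e.hom ≫ B.ι = A.ι ≫ f := by
  obtain ⟨V, hV, g, hg1, hg2⟩ := hsec
  obtain ⟨V', hV'def⟩ : ∃ V' : Y.Opens, V' = V ⊓ V₀ := ⟨_, rfl⟩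
  have hV'V : V' ≤ V := hV'def ▸ inf_le_left
  have hV'V₀ : V' ≤ V₀ := hV'def ▸ inf_le_right
  have hV' : f ξ ∈ V' := hV'def ▸ ⟨hV, hη⟩
  obtain ⟨g', hg'def⟩ : ∃ g' : V'.toScheme ⟶ X, g' = Y.homOfLE hV'V ≫ g := ⟨_, rfl⟩
  have hg'1 : g' ≫ f = V'.ι ≫ 𝟙 Y := by
    rw [hg'def, Category.assoc, hg1, Scheme.homOfLE_ι, Category.comp_id]
  have hg'2 : V'.fromSpecStalkOfMem (f ξ) hV' ≫ g' =
      Spec.map (inv (f.stalkMap ξ)) ≫ X.fromSpecStalk ξ := by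
    rw [← hg2, hg'def, ← Category.assoc]
    congr 1
    rw [← cancel_mono V.ι, Category.assoc, Scheme.homOfLE_ι,
      Scheme.Opens.fromSpecStalkOfMem_ι, Scheme.Opens.fromSpecStalkOfMem_ι]
  have h1 : U₀.fromSpecStalkOfMem ξ hξ ≫ U₀.ι ≫ f =
      Spec.map (asIso (f.stalkMap ξ)).hom ≫ Y.fromSpecStalk (f ξ) := by
    rw [← Category.assoc, Scheme.Opens.fromSpecStalkOfMem_ι]
    exact (Scheme.SpecMap_stalkMap_fromSpecStalk f).symm
  obtain ⟨A, B, e, hA, hξA, hηB, hBV, he⟩ := exists_local_iso_of_lft f (𝟙 Y) U₀ V' (U₀.ι ≫ f) g'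
    (by rw [Category.comp_id]) hg'1 ξ hξ (f ξ) hV' (asIso (f.stalkMap ξ)) h1 hg'2
  exact ⟨A, B, e, hξA, hηB, hA, hBV.trans hV'V₀, by
    rw [he, ← Category.assoc, Scheme.homOfLE_ι]⟩

section LocalIso

variable {X Y : Scheme.{u}} (f : X ⟶ Y) (A : X.Opens) (B : Y.Opens)
  (e : A.toScheme ≅ B.toScheme) (he : e.hom ≫ B.ι = A.ι ≫ f)

include he in
theorem li_isOpenImmersion : IsOpenImmersion (A.ι ≫ f) := by
  rw [← he]; infer_instance

include he in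
theorem li_maps {x : X} (hx : x ∈ A) : f x ∈ B := by
  have : (A.ι ≫ f) ⟨x, hx⟩ = (e.hom ≫ B.ι) ⟨x, hx⟩ := by rw [he]
  have h2 : f x = B.ι (e.hom ⟨x, hx⟩) := this
  rw [h2]
  exact (e.hom ⟨x, hx⟩).2

include he in
theorem li_inj {x x' : X} (hx : x ∈ A) (hx' : x' ∈ A) (h : f x = f x') : x = x' := by
  haveI := li_isOpenImmersion f A B e he
  have : (A.ι ≫ f) ⟨x, hx⟩ = (A.ι ≫ f) ⟨x', hx'⟩ := h
  exact congrArg Subtype.val ((A.ι ≫ f).isOpenEmbedding.injective this)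

include he in
theorem li_surj {y : Y} (hy : y ∈ B) : ∃ x ∈ A, f x = y := by
  refine ⟨(e.inv ⟨y, hy⟩).1, (e.inv ⟨y, hy⟩).2, ?_⟩
  have h1 : (A.ι ≫ f) (e.inv ⟨y, hy⟩) = (e.hom ≫ B.ι) (e.inv ⟨y, hy⟩) := by rw [he]
  have h2 : (e.hom ≫ B.ι) (e.inv ⟨y, hy⟩) = B.ι ((e.inv ≫ e.hom) ⟨y, hy⟩) := rfl
  rw [Iso.inv_hom_id] at h2
  exact h1.trans h2

include he in
theorem li_stalk {x : X} (hx : x ∈ A) : IsIso (f.stalkMap x) := by
  haveI := li_isOpenImmersion f A B e he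
  let a : A.toScheme := ⟨x, hx⟩
  have h1 : IsIso ((A.ι ≫ f).stalkMap a) := inferInstance
  rw [Scheme.Hom.stalkMap_comp] at h1
  have h2 : IsIso (A.ι.stalkMap a) := inferInstance
  exact @IsIso.of_isIso_comp_right _ _ _ _ _ (f.stalkMap (A.ι a)) (A.ι.stalkMap a) h2 h1

include he in
theorem li_open {W : Set X} (hWA : W ⊆ A) (hW : IsOpen W) : IsOpen (f '' W) := by
  haveI := li_isOpenImmersion f A B e he
  have h1 : IsOpen ((A.ι ≫ f) '' (A.ι ⁻¹' W)) :=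
    (A.ι ≫ f).isOpenEmbedding.isOpenMap _ (hW.preimage A.ι.continuous)
  convert h1 using 1
  ext y
  constructor
  · rintro ⟨x, hx, rfl⟩
    exact ⟨⟨x, hWA hx⟩, hx, rfl⟩
  · rintro ⟨z, hz, rfl⟩
    exact ⟨z.1, hz, rfl⟩

end LocalIso

/-- gluing local isomorphisms with pairwise disjoint targets -/
theorem isIso_resLE_iSup {X Y : Scheme.{u}} (f : X ⟶ Y) {ι : Type*} (A : ι → X.Opens)
    (B : ι → Y.Opens) (e : ∀ i, (A i).toScheme ≅ (B i).toScheme)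
    (he : ∀ i, (e i).hom ≫ (B i).ι = (A i).ι ≫ f)
    (hdisj : ∀ i j, i ≠ j → Disjoint ((B i : Y.Opens) : Set Y) (B j)) :
    ∃ hUV : (⨆ i, A i) ≤ f ⁻¹ᵁ (⨆ i, B i), IsIso (f.resLE (⨆ i, B i) (⨆ i, A i) hUV) := by
  classical
  have hUV : (⨆ i, A i) ≤ f ⁻¹ᵁ (⨆ i, B i) := by
    intro x hx
    obtain ⟨i, hi⟩ := TopologicalSpace.Opens.mem_iSup.mp hx
    exact TopologicalSpace.Opens.mem_iSup.mpr ⟨i, li_maps f _ _ (e i) (he i) hi⟩
  refine ⟨hUV, ?_⟩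
  set U : X.Opens := ⨆ i, A i with hU
  set V : Y.Opens := ⨆ i, B i with hV
  have hinj : Function.Injective (U.ι ≫ f) := by
    intro u u' h
    obtain ⟨i, hi⟩ := TopologicalSpace.Opens.mem_iSup.mp u.2
    obtain ⟨j, hj⟩ := TopologicalSpace.Opens.mem_iSup.mp u'.2
    have h' : f u.1 = f u'.1 := h
    have hij : i = j := by
      by_contra hne
      have h1 := li_maps f _ _ (e i) (he i) hi
      have h2 := li_maps f _ _ (e j) (he j) hj
      rw [h'] at h1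
      exact Set.disjoint_left.mp (hdisj i j hne) h1 h2
    subst hij
    exact Subtype.ext (li_inj f _ _ (e i) (he i) hi hj h')
  have hopen : IsOpenMap (U.ι ≫ f) := by
    intro W' hW'
    have hW : IsOpen (U.ι '' W') := U.ι.isOpenEmbedding.isOpenMap _ hW'
    have hWU : U.ι '' W' ⊆ U := by rintro _ ⟨z, -, rfl⟩; exact z.2
    have heq : (U.ι ≫ f) '' W' = ⋃ i, f '' ((U.ι '' W') ∩ A i) := by
      ext y
      simp only [Set.mem_iUnion]
      constructor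
      · rintro ⟨z, hz, rfl⟩
        obtain ⟨i, hi⟩ := TopologicalSpace.Opens.mem_iSup.mp z.2
        exact ⟨i, z.1, ⟨⟨z, hz, rfl⟩, hi⟩, rfl⟩
      · rintro ⟨i, x, ⟨⟨z, hz, rfl⟩, -⟩, rfl⟩
        exact ⟨z, hz, rfl⟩
    rw [heq]
    exact isOpen_iUnion fun i =>
      li_open f _ _ (e i) (he i) Set.inter_subset_right (hW.inter (A i).2)
  haveI : ∀ u, IsIso ((U.ι ≫ f).stalkMap u) := by
    intro u
    obtain ⟨i, hi⟩ := TopologicalSpace.Opens.mem_iSup.mp u.2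
    rw [Scheme.Hom.stalkMap_comp]
    haveI h1 : IsIso (f.stalkMap (U.ι u)) := li_stalk f _ _ (e i) (he i) hi
    haveI h2 : IsIso (U.ι.stalkMap u) := inferInstance
    exact @IsIso.comp_isIso _ _ _ _ _ _ _ h1 h2
  haveI hoi : IsOpenImmersion (U.ι ≫ f) :=
    IsOpenImmersion.of_isIso_stalkMap _
      (Topology.IsOpenEmbedding.of_continuous_injective_isOpenMap (U.ι ≫ f).continuous hinj hopen)
  haveI : IsOpenImmersion (f.resLE V U hUV ≫ V.ι) := by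
    rw [Scheme.Hom.resLE_comp_ι]; exact hoi
  haveI : IsOpenImmersion (f.resLE V U hUV) := IsOpenImmersion.of_comp _ V.ι
  have hsurj : Function.Surjective (f.resLE V U hUV) := by
    intro v
    obtain ⟨i, hi⟩ := TopologicalSpace.Opens.mem_iSup.mp v.2
    obtain ⟨x, hxA, hx⟩ := li_surj f _ _ (e i) (he i) hi
    refine ⟨⟨x, TopologicalSpace.Opens.mem_iSup.mpr ⟨i, hxA⟩⟩, ?_⟩
    apply V.ι.isOpenEmbedding.injective
    have : (f.resLE V U hUV ≫ V.ι) ⟨x, TopologicalSpace.Opens.mem_iSup.mpr ⟨i, hxA⟩⟩ = f x := by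
      rw [Scheme.Hom.resLE_comp_ι]; rfl
    exact this.trans hx
  exact (isIso_iff_isOpenImmersion_and_epi_base _).mpr
    ⟨inferInstance, (TopCat.epi_iff_surjective _).mpr hsurj⟩

end Groth.Agent.Lib.Helper4.BirOpen
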