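/-
Helper library (helper4): birational morphisms and local rings at generic points.
-/
import Groth.Agent.Lib.Helper6StalkIso
import Groth.Agent.Lib.Helper14IrrComp

set_option autoImplicit false
set_option linter.style.haveILetI false
universe u
open CategoryTheory CategoryTheory.Limits AlgebraicGeometry

namespace Groth.Agent.Lib.Helper4.BirStalk

open IsLocalRing

theorem eq_of_stalkSpecializes_surjective (X : Scheme.{u}) {ξ x' : X} (h : ξ ⤳ x')
    (hs : Function.Surjective (X.presheaf.stalkSpecializes h).hom) : ξ = x' := by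
  haveI : IsLocalHom (X.presheaf.stalkSpecializes h).hom := IsLocalHom.of_surjective _ hs
  have h1 := Scheme.SpecMap_stalkSpecializes_fromSpecStalk h
  have h2 : X.fromSpecStalk x' (Spec.map (X.presheaf.stalkSpecializes h)
      (closedPoint (X.presheaf.stalk ξ))) = X.fromSpecStalk ξ (closedPoint (X.presheaf.stalk ξ)) := by
    rw [← h1]; rfl
  rw [Spec_closedPoint, Scheme.fromSpecStalk_closedPoint, Scheme.fromSpecStalk_closedPoint] at h2
  exact h2.symm

theorem isIso_stalkSpecializes_of_eq (X : Scheme.{u}) {a b : X} (h : a ⤳ b) (hab : a = b) :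
    IsIso (X.presheaf.stalkSpecializes h) := by
  subst hab
  rw [TopCat.Presheaf.stalkSpecializes_refl]
  infer_instance

/-- If `ξ ⤳ x'`, `f ξ = f x'` and `f.stalkMap ξ` is an isomorphism then `ξ = x'`. -/
theorem eq_of_isIso_stalkMap {X Y : Scheme.{u}} (f : X ⟶ Y) {ξ x' : X} (h : ξ ⤳ x')
    (hf : f ξ = f x') (hiso : IsIso (f.stalkMap ξ)) : ξ = x' := by
  apply eq_of_stalkSpecializes_surjective X h
  have hnat := Scheme.Hom.stalkSpecializes_stalkMap f ξ x' h
  haveI := isIso_stalkSpecializes_of_eq Y (f.base.hom.map_specializes h) hf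
  have h1 : IsIso (f.stalkMap x' ≫ X.presheaf.stalkSpecializes h) := by
    rw [← hnat]; infer_instance
  have h2 : Function.Bijective (f.stalkMap x' ≫ X.presheaf.stalkSpecializes h).hom :=
    ConcreteCategory.bijective_of_isIso _
  rw [CommRingCat.hom_comp] at h2
  exact Function.Surjective.of_comp h2.surjective

open Groth.Agent.Lib.Helper14 Groth.Agent.Lib.Helper6

theorem isIso_of_comp3 {C : Type*} [Category C] {A B D E : C} (a : A ⟶ B) (b : B ⟶ D) (c : D ⟶ E)
    (ha : IsIso a) (hb : IsIso b) (h : IsIso (a ≫ b ≫ c)) : IsIso c := by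
  haveI : IsIso (b ≫ c) := IsIso.of_isIso_comp_left a (b ≫ c)
  exact IsIso.of_isIso_comp_left b c

theorem isIso_snd_fromSpecStalk {X Y : Scheme.{u}} (f : X ⟶ Y)
    (hbij : Set.BijOn (fun x : X => f.base x) {x : X | closure {x} ∈ irreducibleComponents ↥X}
      {y : Y | closure {y} ∈ irreducibleComponents ↥Y})
    (hiso : ∀ x : X, closure {x} ∈ irreducibleComponents ↥X → IsIso (f.stalkMap x))
    (y : Y) (hy : closure {y} ∈ irreducibleComponents ↥Y) :
    IsIso (pullback.snd f (Y.fromSpecStalk y)) := by
  have hymin : ∀ y' : Y, y' ⤳ y → y' = y := (closure_mem_irreducibleComponents_iff y).mp hy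
  have hjt : ∀ t, Y.fromSpecStalk y t = y := fun t => hymin _ (fromSpecStalk_specializes Y y t)
  have hTsub : ∀ t t' : Spec (Y.presheaf.stalk y), t = t' := fun t t' =>
    (Y.fromSpecStalk y).isEmbedding.injective ((hjt t).trans (hjt t').symm)
  have hcond : ∀ w : ↑(pullback f (Y.fromSpecStalk y)),
      f (pullback.fst f (Y.fromSpecStalk y) w) = y := by
    intro w
    have h1 : (pullback.fst f (Y.fromSpecStalk y) ≫ f) w =
        (pullback.snd f (Y.fromSpecStalk y) ≫ Y.fromSpecStalk y) w := by
      rw [pullback.condition]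
    exact h1.trans (hjt _)
  -- every point of the pullback lies over a generic point
  have hgen : ∀ w : ↑(pullback f (Y.fromSpecStalk y)),
      closure {pullback.fst f (Y.fromSpecStalk y) w} ∈ irreducibleComponents ↥X := by
    intro w
    set x' := pullback.fst f (Y.fromSpecStalk y) w with hx'
    have hirr : IsIrreducible (irreducibleComponent x') := isIrreducible_irreducibleComponent
    have hcl : IsClosed (irreducibleComponent x') := isClosed_irreducibleComponent
    set ξ := hirr.genericPoint with hξ
    have hgenξ : IsGenericPoint ξ (irreducibleComponent x') := hirr.isGenericPoint_genericPoint hcl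
    have hξx' : ξ ⤳ x' := by
      rw [specializes_iff_mem_closure, hgenξ.def]
      exact mem_irreducibleComponent
    have hξcomp : closure {ξ} ∈ irreducibleComponents ↥X := by
      rw [hgenξ.def]
      exact irreducibleComponent_mem_irreducibleComponents x'
    have hfξ : f ξ = f x' := by
      rw [hcond w]
      apply hymin
      rw [← hcond w]
      exact f.base.hom.map_specializes hξx'
    have := eq_of_isIso_stalkMap f hξx' hfξ (hiso ξ hξcomp)
    rw [← this]
    exact hξcomp
  obtain ⟨x, hxgen, hxy⟩ := hbij.surjOn hy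
  have hxy' : f x = y := hxy
  have hp₁ : ∀ w, pullback.fst f (Y.fromSpecStalk y) w = x := fun w =>
    hbij.injOn (hgen w) hxgen ((hcond w).trans hxy'.symm)
  have hWsub : ∀ w w' : ↑(pullback f (Y.fromSpecStalk y)), w = w' := fun w w' =>
    (pullback.fst f (Y.fromSpecStalk y)).isEmbedding.injective ((hp₁ w).trans (hp₁ w').symm)
  let t₀ : Spec (Y.presheaf.stalk y) := closedPoint (Y.presheaf.stalk y)
  obtain ⟨w₀, -, -⟩ := Scheme.Pullback.exists_preimage_pullback (f := f) (g := Y.fromSpecStalk y)
    x t₀ (hxy'.trans (hjt t₀).symm)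
  rw [isIso_iff_isIso_stalkMap]
  refine ⟨?_, fun w => ?_⟩
  · apply TopCat.isIso_of_bijective_of_isOpenMap
    · refine ⟨fun w w' _ => hWsub w w', fun t => ⟨w₀, hTsub _ _⟩⟩
    · intro s hs
      by_cases hw : w₀ ∈ s
      · convert isOpen_univ
        rw [Set.eq_univ_iff_forall]
        intro t
        exact ⟨w₀, hw, hTsub _ _⟩
      · convert isOpen_empty
        rw [Set.eq_empty_iff_forall_notMem]
        rintro t ⟨w, hws, -⟩
        exact hw (hWsub w w₀ ▸ hws)
  · have h1 := Scheme.Hom.stalkMap_congr_hom _ _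
      (pullback.condition (f := f) (g := Y.fromSpecStalk y)) w
    rw [Scheme.Hom.stalkMap_comp, Scheme.Hom.stalkMap_comp] at h1
    haveI : IsIso (f.stalkMap (pullback.fst f (Y.fromSpecStalk y) w)) := hiso _ (hgen w)
    haveI : IsIso ((pullback.fst f (Y.fromSpecStalk y)).stalkMap w) :=
      isIso_stalkMap_fst_pullback_fromSpecStalk f y w
    haveI : IsIso ((Y.fromSpecStalk y).stalkMap (pullback.snd f (Y.fromSpecStalk y) w)) :=
      isIso_stalkMap_of_flat_of_isPreimmersion _ _
    have h2 : IsIso (f.stalkMap (pullback.fst f (Y.fromSpecStalk y) w) ≫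
        (pullback.fst f (Y.fromSpecStalk y)).stalkMap w) := inferInstance
    rw [h1] at h2
    exact isIso_of_comp3 _ _ _ (Iso.isIso_hom _) this h2

end Groth.Agent.Lib.Helper4.BirStalk
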