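/-
Helper library (helper4): local isomorphisms at generic points of a birational morphism.
-/
import Mathlib
import Groth.Agent.Lib.Helper4BirOpen
import Groth.Agent.Lib.Helper12ClosureImage
import Groth.Agent.Lib.Helper14IrrComp
import Groth.Agent.Lib.Helper4BirStalk

set_option autoImplicit false
set_option linter.style.haveILetI false
universe u
open CategoryTheory CategoryTheory.Limits AlgebraicGeometry

namespace Groth.Agent.Lib.Helper4.BirOpen

/-- local isomorphisms at all generic points for a birational morphism -/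
theorem exists_local_isos {X Y : Scheme.{u}} (f : X ⟶ Y)
    (hYfin : (irreducibleComponents ↥Y).Finite)
    (hmaps : ∀ x : X, closure {x} ∈ irreducibleComponents ↥X →
      closure {f x} ∈ irreducibleComponents ↥Y)
    (hiso : ∀ x : X, closure {x} ∈ irreducibleComponents ↥X → IsIso (f.stalkMap x))
    (hf : (LocallyOfFiniteType f ∧ IsReduced Y) ∨ LocallyOfFinitePresentation f) :
    ∃ (A : {x : X // closure {x} ∈ irreducibleComponents ↥X} → X.Opens)
      (B : {x : X // closure {x} ∈ irreducibleComponents ↥X} → Y.Opens)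
      (e : ∀ ξ, (A ξ).toScheme ≅ (B ξ).toScheme),
      (∀ ξ, ξ.1 ∈ A ξ) ∧ (∀ ξ, f ξ.1 ∈ B ξ) ∧
      (∀ ξ, ∀ Z' ∈ irreducibleComponents ↥Y, Z' ≠ closure {f ξ.1} →
        Disjoint ((B ξ : Y.Opens) : Set Y) Z') ∧
      (∀ ξ, ((B ξ : Y.Opens) : Set Y) ⊆ closure {f ξ.1}) ∧
      ∀ ξ, (e ξ).hom ≫ (B ξ).ι = (A ξ).ι ≫ f := by
  classical
  haveI hlft : LocallyOfFiniteType f := by
    rcases hf with ⟨h, -⟩ | h
    · exact h
    · infer_instance
  haveI hI : ∀ ξ : {x : X // closure {x} ∈ irreducibleComponents ↥X}, IsIso (f.stalkMap ξ.1) :=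
    fun ξ => hiso ξ.1 ξ.2
  have hsec : ∀ ξ : {x : X // closure {x} ∈ irreducibleComponents ↥X},
      ∃ (V : Y.Opens) (hV : f ξ.1 ∈ V) (g : V.toScheme ⟶ X), g ≫ f = V.ι ∧
      V.fromSpecStalkOfMem (f ξ.1) hV ≫ g =
        Spec.map (inv (f.stalkMap ξ.1)) ≫ X.fromSpecStalk ξ.1 := by
    intro ξ
    have hcond : f.stalkMap ξ.1 ≫ inv (f.stalkMap ξ.1) =
        Y.presheaf.stalkSpecializes
          (Inseparable.of_eq (rfl : (𝟙 Y : Y ⟶ Y) (f ξ.1) = f ξ.1)).specializes ≫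
          (𝟙 Y : Y ⟶ Y).stalkMap (f ξ.1) := by
      rw [IsIso.hom_inv_id]
      erw [Scheme.Hom.stalkMap_id, TopCat.Presheaf.stalkSpecializes_refl, Category.comp_id]
      rfl
    rcases hf with ⟨_, hred⟩ | hfp
    · haveI := hred
      haveI : Y.IsGermInjectiveAt (f ξ.1) :=
        isGermInjectiveAt_of_isReduced_of_finite Y hYfin (f ξ.1) (hmaps _ ξ.2)
      obtain ⟨V, hV, g, hg1, hg2⟩ := spread_out_of_isGermInjective (𝟙 Y) f (x := f ξ.1)
        (y := ξ.1) rfl (inv (f.stalkMap ξ.1)) hcond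
      exact ⟨V, hV, g, by rw [hg2, Category.comp_id], hg1.symm⟩
    · haveI := hfp
      obtain ⟨V, hV, g, hg1, hg2⟩ :=
        Groth.Agent.Lib.Helper4.SpreadFP.spread_out_of_finitePresentation (𝟙 Y) f (x := f ξ.1)
          (y := ξ.1) rfl (inv (f.stalkMap ξ.1)) hcond
      exact ⟨V, hV, g, by rw [hg2, Category.comp_id], hg1.symm⟩
  have hloc : ∀ ξ : {x : X // closure {x} ∈ irreducibleComponents ↥X},
      ∃ (A : X.Opens) (B : Y.Opens) (e : A.toScheme ≅ B.toScheme),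
      ξ.1 ∈ A ∧ f ξ.1 ∈ B ∧
      (∀ Z' ∈ irreducibleComponents ↥Y, Z' ≠ closure {f ξ.1} → Disjoint (B : Set Y) Z') ∧
      (B : Set Y) ⊆ closure {f ξ.1} ∧ e.hom ≫ B.ι = A.ι ≫ f := by
    intro ξ
    obtain ⟨V₀', hηV₀, hV₀sub, hV₀d⟩ :=
      exists_open_subset_component hYfin (f ξ.1) (hmaps _ ξ.2)
    obtain ⟨V₀, rfl⟩ : ∃ V₀ : Y.Opens, V₀ = V₀' := ⟨V₀', rfl⟩
    obtain ⟨A, B, e, h1, h2, -, h4, h5⟩ := local_iso f ξ.1 (hsec ξ) ⊤ trivial V₀ hηV₀
    exact ⟨A, B, e, h1, h2,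
      fun Z' hZ' hne => (hV₀d Z' hZ' hne).mono_left h4, fun y hy => hV₀sub (h4 hy), h5⟩
  choose A B e hξA hηB hBd hBsub he using hloc
  exact ⟨A, B, e, hξA, hηB, hBd, hBsub, he⟩

/-- for separated `f`, the source of a local isomorphism is closed in the preimage of the
target (a section of a separated morphism is a closed immersion). -/
theorem li_isClosed {X Y : Scheme.{u}} (f : X ⟶ Y) [IsSeparated f] (A : X.Opens) (B : Y.Opens)
    (e : A.toScheme ≅ B.toScheme) (he : e.hom ≫ B.ι = A.ι ≫ f) :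
    IsClosed ((f ⁻¹ᵁ B).ι ⁻¹' (A : Set X)) := by
  have hAW : A ≤ f ⁻¹ᵁ B := fun x hx => li_maps f A B e he hx
  obtain ⟨s, hs⟩ : ∃ s : B.toScheme ⟶ (f ⁻¹ᵁ B).toScheme, s = e.inv ≫ X.homOfLE hAW := ⟨_, rfl⟩
  have hsp : s ≫ (f ∣_ B) = 𝟙 _ := by
    rw [← cancel_mono B.ι, Category.assoc, morphismRestrict_ι, hs, Category.assoc,
      ← Category.assoc (X.homOfLE hAW), Scheme.homOfLE_ι, ← he, Iso.inv_hom_id_assoc,
      Category.id_comp]
  haveI : IsClosedImmersion (s ≫ (f ∣_ B)) := by rw [hsp]; infer_instance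
  haveI : IsClosedImmersion s := IsClosedImmersion.of_comp s (f ∣_ B)
  have hrange : Set.range s = (f ⁻¹ᵁ B).ι ⁻¹' (A : Set X) := by
    ext w
    constructor
    · rintro ⟨b, rfl⟩
      have : (f ⁻¹ᵁ B).ι (s b) = A.ι (e.inv b) := by
        rw [hs]
        show ((e.inv ≫ X.homOfLE hAW) ≫ (f ⁻¹ᵁ B).ι) b = _
        rw [Category.assoc, Scheme.homOfLE_ι]
        rfl
      show (f ⁻¹ᵁ B).ι (s b) ∈ A
      rw [this]
      exact (e.inv b).2
    · intro hw
      let a : A.toScheme := ⟨(f ⁻¹ᵁ B).ι w, hw⟩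
      refine ⟨e.hom a, ?_⟩
      apply (f ⁻¹ᵁ B).ι.isOpenEmbedding.injective
      have : (f ⁻¹ᵁ B).ι (s (e.hom a)) = A.ι ((e.hom ≫ e.inv) a) := by
        rw [hs]
        show ((e.inv ≫ X.homOfLE hAW) ≫ (f ⁻¹ᵁ B).ι) (e.hom a) = _
        rw [Category.assoc, Scheme.homOfLE_ι]
        rfl
      rw [this, Iso.hom_inv_id]
      rfl
  rw [← hrange]
  exact s.isClosedEmbedding.isClosed_range

/-- (copy of helper12's lemma) for quasi-compact `f` and closed `Z`, points of the closure of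
`f '' Z` are specializations of points of `f '' Z`. -/
theorem exists_specializes_of_mem_closure_image {X Y : Scheme.{u}} (f : X ⟶ Y) [QuasiCompact f]
    (Z : Set X) (hZ : IsClosed Z)
    (z : Y) (hz : z ∈ closure (f.base '' Z)) : ∃ x ∈ Z, f.base x ⤳ z := by
  let I := Scheme.IdealSheafData.vanishingIdeal (X := X) ⟨Z, hZ⟩
  have hr : Set.range I.subschemeι.base = Z := by
    rw [Scheme.IdealSheafData.range_subschemeι, Scheme.IdealSheafData.coe_support_vanishingIdeal]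
    rfl
  have hrange : Set.range (I.subschemeι ≫ f).base = f.base '' Z := by
    rw [← hr, ← Set.range_comp]
    rfl
  obtain ⟨w, hw⟩ := Groth.Agent.Lib.Helper12.exists_specializes_of_mem_closure_range
    (I.subschemeι ≫ f) z (by rw [hrange]; exact hz)
  refine ⟨I.subschemeι.base w, ?_, hw⟩
  rw [← hr]
  exact ⟨w, rfl⟩

end Groth.Agent.Lib.Helper4.BirOpen
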