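import Groth.Agent.Lib.Helper4CICohC
import Groth.Agent.Lib.Helper27MinPres3
import Groth.Agent.Lib.Helper6CurveConn
import Groth.Agent.Lib.Helper4CurvePt
import Groth.Agent.Lib.Helper27GlobGenPn
import Groth.Agent.Lib.Helper27ProjSpaceFibres

/-!
# Complete intersections (helper4): `h^0(O_X) = 1` and geometric connectedness

* `H0le I` : `H^0(V(I), O(0)|_{V(I)})` is finite of rank `≤ 1`;
* `h0le_step`, `h0le_ciIdeal`;
* `geometricallyConnected_of_h0le`.
-/

set_option autoImplicit false
set_option linter.style.haveILetI false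
universe u

open CategoryTheory CategoryTheory.Limits AlgebraicGeometry TopologicalSpace Opposite
  HomogeneousLocalization MvPolynomial

namespace Groth.Agent.Lib.Helper4.CICoh

open Groth.Agent.Lib.Helper27SerreVan Groth.Agent.Lib.Helper27LesLin
  Groth.Agent.Lib.Helper4.HypIdeal Groth.Agent.Lib.Helper4.CIChart
  Groth.Agent.Lib.Helper4.CIAlg Groth.Agent.Lib.Helper4.CIPull Groth.Agent.Lib.Helper4.CIDim
  Groth.Agent.Lib.Helper27SerreVanPn Groth.Agent.Lib.Helper23.PB

variable {n : ℕ} {k : Type u} [Field k]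

/-- `H^0(V(I), O(0)|_{V(I)})` is finite of rank `≤ 1`. -/
def H0le (I : (CohB1.ProjSpace n k).IdealSheafData) : Prop :=
  letI : I.subscheme.Over (Spec (CommRingCat.of k)) :=
    ⟨I.subschemeι ≫ CohB1.ProjSpace.toSpec n k⟩
  Module.Finite k (Coh.HH I.subscheme
      ((Scheme.Modules.pullback I.subschemeι).obj (Twist.twistProjSpace n k 0)) 0) ∧
    Module.finrank k (Coh.HH I.subscheme
      ((Scheme.Modules.pullback I.subschemeι).obj (Twist.twistProjSpace n k 0)) 0) ≤ 1

theorem h0le_bot : H0le (⊥ : (CohB1.ProjSpace n k).IdealSheafData) := by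
  letI : (⊥ : (CohB1.ProjSpace n k).IdealSheafData).subscheme.Over (Spec (CommRingCat.of k)) :=
    ⟨(⊥ : (CohB1.ProjSpace n k).IdealSheafData).subschemeι ≫ CohB1.ProjSpace.toSpec n k⟩
  obtain ⟨e⟩ := nonempty_HH_pullback_iso_linearEquiv k
    (⊥ : (CohB1.ProjSpace n k).IdealSheafData).subschemeι rfl (Twist.twistProjSpace n k 0) 0
  have h1 := Groth.Agent.Lib.Helper27MinPres.finrank_HH_zero_unit k n
  haveI hfin : Module.Finite k (Coh.HH (CohB1.ProjSpace n k) (Twist.twistProjSpace n k 0) 0) :=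
    Module.finite_of_finrank_pos (by rw [h1]; exact Nat.one_pos)
  refine ⟨Module.Finite.equiv e.symm, ?_⟩
  rw [e.finrank_eq, h1]

section Step

variable (K : (CohB1.ProjSpace n k).IdealSheafData) {a : ℕ} (G : LefPen.Form n k a)
  (hreg : ∀ (i : Fin (n + 1)) (b : Γ(CohB1.ProjSpace n k, LefPen.chart n k i)),
    b * LefPen.dehom G i ∈ K.ideal ⟨LefPen.chart n k i, isAffineOpen_chart i⟩ →
      b ∈ K.ideal ⟨LefPen.chart n k i, isAffineOpen_chart i⟩)

include hreg in
theorem h0le_step (hK : Van K 2) (h0 : H0le K) : H0le (K ⊔ LefPen.hypIdeal G) := by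
  letI instY : K.subscheme.Over (Spec (CommRingCat.of k)) :=
    ⟨K.subschemeι ≫ CohB1.ProjSpace.toSpec n k⟩
  letI instX : (K ⊔ LefPen.hypIdeal G).subscheme.Over (Spec (CommRingCat.of k)) :=
    ⟨(K ⊔ LefPen.hypIdeal G).subschemeι ≫ CohB1.ProjSpace.toSpec n k⟩
  letI instJ : (jj K G).ker.subscheme.Over (Spec (CommRingCat.of k)) :=
    ⟨(jj K G).ker.subschemeι ≫ (K.subscheme ↘ Spec (CommRingCat.of k))⟩
  obtain ⟨hfin, hle⟩ := h0
  obtain ⟨e⟩ := nonempty_idealMod_ker_jj_iso K G hreg
  set L := (Scheme.Modules.pullback K.subschemeι).obj (Twist.twistProjSpace n k 0) with hL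
  have hLinv : PicF.IsInvertible L := isInvertible_pullback K.subschemeι _ (isInvertible_twist n k 0)
  obtain ⟨e1⟩ := nonempty_idealMod_tensor_iso K G e 0
  have h1 : Subsingleton (Coh.HH K.subscheme (CohB1.tensorMod (ClSub.idealMod (jj K G).ker) L) 1) :=
    subsingleton_HH_of_iso e1 1 (hK (0 - a) 1 (by omega) (by omega))
  obtain ⟨hfin3, hle3⟩ := finrank_HH_zero_subscheme_pullback_le k (jj K G).ker rfl L hLinv h1 hfin
  have hj : jj K G ≫ (K.subscheme ↘ Spec (CommRingCat.of k)) =
      (K ⊔ LefPen.hypIdeal G).subscheme ↘ Spec (CommRingCat.of k) := by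
    change jj K G ≫ K.subschemeι ≫ CohB1.ProjSpace.toSpec n k = _
    rw [← Category.assoc, jj_ι]
    rfl
  obtain ⟨e2⟩ := nonempty_HH_pullback_closedImmersion_linearEquiv k (jj K G) hj rfl L 0
  let e3 := (HHequiv k (pullJJIso K G (Twist.twistProjSpace n k 0)) 0).symm ≪≫ₗ e2
  refine ⟨Module.Finite.equiv e3.symm, ?_⟩
  rw [e3.finrank_eq]
  exact hle3.trans hle

end Step

/-- global complete intersections of dimension `≤ n - r`, `r + 1 ≤ n`, have `h^0(O) ≤ 1`. -/
theorem h0le_ciIdeal : ∀ (r : ℕ) (_ : r + 1 ≤ n) (a : Fin r → ℕ) (_ : ∀ j, 1 ≤ a j)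
    (G : ∀ j, LefPen.Form n k (a j))
    (_ : topologicalKrullDim ↥(LefPen.ciIdeal G).subscheme ≤ ((n - r : ℕ) : WithBot ℕ∞)),
    H0le (LefPen.ciIdeal G) := by
  intro r
  induction r with
  | zero =>
    intro _ a _ G _
    rw [ciIdeal_fin_zero G]
    exact h0le_bot
  | succ r ih =>
    intro hr a ha G hdim
    have h1 := dim_ciIdeal_castSucc_le (by omega) ha G hdim
    have h2 := ih (by omega) (fun j => a j.castSucc) (fun j => ha _)
      (fun j : Fin r => G j.castSucc) h1
    have h3 := van_ciIdeal r (by omega) (fun j => a j.castSucc) (fun j => ha _)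
      (fun j : Fin r => G j.castSucc) h1
    rw [ciIdeal_succ G]
    exact h0le_step _ _ (regular_chart (by omega) G hdim) (van_mono (by omega) h3) h2

/-- a nonempty closed subscheme of `P^n_k` with `h^0(O) ≤ 1` is geometrically connected. -/
theorem geometricallyConnected_of_h0le (I : (CohB1.ProjSpace n k).IdealSheafData)
    [Nonempty ↥I.subscheme] (h : H0le I) :
    GeometricallyConnected (I.subschemeι ≫ CohB1.ProjSpace.toSpec n k) := by
  letI inst : I.subscheme.Over (Spec (CommRingCat.of k)) :=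
    ⟨I.subschemeι ≫ CohB1.ProjSpace.toSpec n k⟩
  obtain ⟨hfin, hle⟩ := h
  obtain ⟨e0⟩ : Nonempty (Twist.twistProjSpace n k 0 ≅
      Coh.structureModule (CohB1.ProjSpace n k)) := by
    rw [Groth.Agent.Lib.Helper27TwistEq.twistProjSpace_apply]
    exact Groth.Agent.Lib.Helper27GlobGenPn.nonempty_OO_zero_iso n k
  let e1 : (Scheme.Modules.pullback I.subschemeι).obj (Twist.twistProjSpace n k 0) ≅
      Coh.structureModule I.subscheme :=
    (Scheme.Modules.pullback I.subschemeι).mapIso e0 ≪≫ pullbackUnitIso I.subschemeι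
  haveI hfin' : Module.Finite k (Coh.HH I.subscheme (Coh.structureModule I.subscheme) 0) :=
    Module.Finite.equiv (HHequiv k e1 0)
  have hle' : Module.finrank k (Coh.HH I.subscheme (Coh.structureModule I.subscheme) 0) ≤ 1 := by
    rw [← (HHequiv k e1 0).finrank_eq]
    exact hle
  haveI hnt0 : Nontrivial Γ(I.subscheme, ⊤) :=
    @Scheme.component_nontrivial I.subscheme ⊤ ⟨⟨Classical.arbitrary _, trivial⟩⟩
  haveI hnt : Nontrivial (Coh.HH I.subscheme (Coh.structureModule I.subscheme) 0) :=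
    @Equiv.nontrivial _ _
      (Groth.Agent.Lib.Helper27PnSections.hh0Equiv I.subscheme
        (Coh.structureModule I.subscheme)).toEquiv hnt0
  have hpos : 0 < Module.finrank k (Coh.HH I.subscheme (Coh.structureModule I.subscheme) 0) :=
    Module.finrank_pos
  have h1 : Module.finrank k (Coh.HH I.subscheme (Coh.structureModule I.subscheme) 0) = 1 := by
    omega
  have h2 := Groth.Agent.Lib.Helper27PushLin.finrank_HH_push (k := k) I.subschemeι rfl
    (Coh.structureModule I.subscheme) 0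
  rw [h1, Groth.Agent.Lib.Helper4.CurvePt.finrank_hh0_push I.subschemeι k] at h2
  haveI : IsProper (CohB1.ProjSpace.toSpec n k) :=
    Groth.Agent.Lib.Helper27ProjSpaceFibres.isProper_projSpace_toSpec n k
  exact Groth.Agent.Lib.Helper6.CurveConn.geometricallyConnected_of_finrank_eq_one k _ h2.symm

end Groth.Agent.Lib.Helper4.CICoh
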