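import Groth.Agent.Lib.Helper4CISurjB
import Groth.Agent.Lib.Helper6Euler
import Groth.Agent.Lib.Helper6CurveDeg
import Groth.Agent.Lib.Helper4CurveAsym

/-!
# Complete intersections (helper4): `h^0` and Euler characteristic of twists, the hypersurface step

For a closed subscheme `V(I)` of `P^n_k` put `h0 I e = h^0(V(I), O(e))`, `chi I e = χ(V(I), O(e))`.
If `G` (of degree `a`) is regular modulo `K` on the charts then
* `chi_step` : `chi (K ⊔ (G)) e = chi K e - chi K (e - a)`;
* `h0_step` : `h0 (K ⊔ (G)) e = h0 K e - h0 K (e - a)` when `H^1(V(K), O(i)) = 0` for all `i`.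
-/

set_option autoImplicit false
set_option linter.style.haveILetI false
universe u

open CategoryTheory CategoryTheory.Limits AlgebraicGeometry TopologicalSpace Opposite
  HomogeneousLocalization MvPolynomial

namespace Groth.Agent.Lib.Helper4.CIEuler

open Groth.Agent.Lib.Helper27SerreVan Groth.Agent.Lib.Helper27LesLin
  Groth.Agent.Lib.Helper27LesDim
  Groth.Agent.Lib.Helper4.HypIdeal Groth.Agent.Lib.Helper4.CIChart
  Groth.Agent.Lib.Helper4.CIAlg Groth.Agent.Lib.Helper4.CIPull Groth.Agent.Lib.Helper4.CIDim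
  Groth.Agent.Lib.Helper27SerreVanPn Groth.Agent.Lib.Helper23.PB
  Groth.Agent.Lib.Helper4.CICoh Groth.Agent.Lib.Helper27PushLin

section General

variable (k : Type u) [Field k]

theorem euler_congr {X X' : Scheme.{u}} [X.Over (Spec (CommRingCat.of k))]
    [X'.Over (Spec (CommRingCat.of k))] (M : X.Modules) (M' : X'.Modules)
    (h : ∀ p, Nonempty (Coh.HH X M p ≃ₗ[k] Coh.HH X' M' p)) :
    Curv2.euler k X M = Curv2.euler k X' M' := by
  unfold Curv2.euler
  refine finsum_congr (fun p => ?_)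
  obtain ⟨e⟩ := h p
  rw [e.finrank_eq]

theorem euler_of_iso {X : Scheme.{u}} [X.Over (Spec (CommRingCat.of k))] {M M' : X.Modules}
    (e : M ≅ M') : Curv2.euler k X M = Curv2.euler k X M' :=
  euler_congr k M M' (fun p => ⟨HHequiv k e p⟩)

end General

variable {n : ℕ} {k : Type u} [Field k]

/-- the `k`-structure of a closed subscheme of `P^n_k`. -/
@[reducible] noncomputable def overInst (I : (CohB1.ProjSpace n k).IdealSheafData) :
    I.subscheme.Over (Spec (CommRingCat.of k)) :=
  ⟨I.subschemeι ≫ CohB1.ProjSpace.toSpec n k⟩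

attribute [local instance] overInst

instance isProper_subscheme (I : (CohB1.ProjSpace n k).IdealSheafData) :
    IsProper (I.subscheme ↘ Spec (CommRingCat.of k)) := by
  haveI : IsProper (CohB1.ProjSpace.toSpec n k) :=
    Groth.Agent.Lib.Helper27ProjSpaceFibres.isProper_projSpace_toSpec n k
  change IsProper (I.subschemeι ≫ CohB1.ProjSpace.toSpec n k)
  infer_instance

/-- `h^0(V(I), O(e))`. -/
noncomputable def h0 (I : (CohB1.ProjSpace n k).IdealSheafData) (e : ℤ) : ℤ :=
  (Module.finrank k (Coh.HH I.subscheme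
    ((Scheme.Modules.pullback I.subschemeι).obj (Twist.twistProjSpace n k e)) 0) : ℤ)

/-- `χ(V(I), O(e))`. -/
noncomputable def chi (I : (CohB1.ProjSpace n k).IdealSheafData) (e : ℤ) : ℤ :=
  Curv2.euler k I.subscheme
    ((Scheme.Modules.pullback I.subschemeι).obj (Twist.twistProjSpace n k e))

theorem isCoh_pullback_twist (I : (CohB1.ProjSpace n k).IdealSheafData) (e : ℤ) :
    Coh.IsCoh ((Scheme.Modules.pullback I.subschemeι).obj (Twist.twistProjSpace n k e)) :=
  Groth.Agent.Lib.Helper6.CurveDeg.isCoh_of_isInvertible _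
    (isInvertible_pullback I.subschemeι _ (isInvertible_twist n k e))

section Step

variable (K : (CohB1.ProjSpace n k).IdealSheafData) {a : ℕ} (G : LefPen.Form n k a)

theorem nonempty_HH_step_linearEquiv (e : ℤ) (p : ℕ) :
    Nonempty (Coh.HH (K ⊔ LefPen.hypIdeal G).subscheme
        ((Scheme.Modules.pullback (K ⊔ LefPen.hypIdeal G).subschemeι).obj
          (Twist.twistProjSpace n k e)) p ≃ₗ[k]
      Coh.HH K.subscheme (tS (jj K G).ker
        ((Scheme.Modules.pullback K.subschemeι).obj (Twist.twistProjSpace n k e))).X₃ p) := by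
  letI instJ : (jj K G).ker.subscheme.Over (Spec (CommRingCat.of k)) :=
    ⟨(jj K G).ker.subschemeι ≫ (K.subscheme ↘ Spec (CommRingCat.of k))⟩
  set L := (Scheme.Modules.pullback K.subschemeι).obj (Twist.twistProjSpace n k e) with hL
  have hLinv : PicF.IsInvertible L := isInvertible_pullback K.subschemeι _ (isInvertible_twist n k e)
  have hj : jj K G ≫ (K.subscheme ↘ Spec (CommRingCat.of k)) =
      (K ⊔ LefPen.hypIdeal G).subscheme ↘ Spec (CommRingCat.of k) := by
    change jj K G ≫ K.subschemeι ≫ CohB1.ProjSpace.toSpec n k = _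
    rw [← Category.assoc, jj_ι]
    rfl
  obtain ⟨e2⟩ := nonempty_HH_pullback_closedImmersion_linearEquiv k (jj K G) hj rfl L p
  obtain ⟨e3⟩ := nonempty_HH_subscheme_pullback_linearEquiv k (jj K G).ker rfl L hLinv p
  exact ⟨(HHequiv k (pullJJIso K G (Twist.twistProjSpace n k e)) p).symm ≪≫ₗ e2 ≪≫ₗ e3⟩

variable (hreg : ∀ (i : Fin (n + 1)) (b : Γ(CohB1.ProjSpace n k, LefPen.chart n k i)),
    b * LefPen.dehom G i ∈ K.ideal ⟨LefPen.chart n k i, isAffineOpen_chart i⟩ →
      b ∈ K.ideal ⟨LefPen.chart n k i, isAffineOpen_chart i⟩)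

include hreg in
theorem chi_step (e : ℤ) :
    chi (K ⊔ LefPen.hypIdeal G) e = chi K e - chi K (e - a) := by
  obtain ⟨e0⟩ := nonempty_idealMod_ker_jj_iso K G hreg
  set L := (Scheme.Modules.pullback K.subschemeι).obj (Twist.twistProjSpace n k e) with hL
  have hLinv : PicF.IsInvertible L := isInvertible_pullback K.subschemeι _ (isInvertible_twist n k e)
  obtain ⟨e1⟩ := nonempty_idealMod_tensor_iso K G e0 e
  obtain ⟨e2⟩ := nonempty_tS_X₂_iso (jj K G).ker L
  have hS := tS_shortExact (jj K G).ker L hLinv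
  have hL' : Coh.IsCoh L := isCoh_pullback_twist K e
  have h1 : Coh.IsCoh (tS (jj K G).ker L).X₁ :=
    Groth.Agent.Lib.Helper4.Dev.isCoh_of_iso e1.symm (isCoh_pullback_twist K (e - a))
  have h2 : Coh.IsCoh (tS (jj K G).ker L).X₂ :=
    Groth.Agent.Lib.Helper4.Dev.isCoh_of_iso e2.symm hL'
  have h3 : Coh.IsCoh (tS (jj K G).ker L).X₃ :=
    Groth.Agent.Lib.Helper4.CurveAsym.isCoh_tensorMod K.subscheme _ _
      (Groth.Agent.Lib.Helper4.CurvePt.isCoh_quotMod k K.subscheme (jj K G).ker) hL'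
  have hadd := Groth.Agent.Lib.Helper6.Euler.euler_additive k K.subscheme
    (tS (jj K G).ker L) hS h1 h2 h3
  have hx1 : Curv2.euler k K.subscheme (tS (jj K G).ker L).X₁ = chi K (e - a) :=
    euler_of_iso k e1
  have hx2 : Curv2.euler k K.subscheme (tS (jj K G).ker L).X₂ = chi K e := euler_of_iso k e2
  have hx3 : chi (K ⊔ LefPen.hypIdeal G) e =
      Curv2.euler k K.subscheme (tS (jj K G).ker L).X₃ :=
    euler_congr k _ _ (fun p => nonempty_HH_step_linearEquiv K G e p)
  rw [hx3]
  rw [hx1, hx2] at hadd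
  omega

include hreg in
theorem h0_step (hK : Van K 2) (e : ℤ) :
    h0 (K ⊔ LefPen.hypIdeal G) e = h0 K e - h0 K (e - a) := by
  obtain ⟨e0⟩ := nonempty_idealMod_ker_jj_iso K G hreg
  set L := (Scheme.Modules.pullback K.subschemeι).obj (Twist.twistProjSpace n k e) with hL
  have hLinv : PicF.IsInvertible L := isInvertible_pullback K.subschemeι _ (isInvertible_twist n k e)
  obtain ⟨e1⟩ := nonempty_idealMod_tensor_iso K G e0 e
  obtain ⟨e2⟩ := nonempty_tS_X₂_iso (jj K G).ker L
  have hS := tS_shortExact (jj K G).ker L hLinv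
  have hL' : Coh.IsCoh L := isCoh_pullback_twist K e
  have h2 : Coh.IsCoh (tS (jj K G).ker L).X₂ :=
    Groth.Agent.Lib.Helper4.Dev.isCoh_of_iso e2.symm hL'
  have h1 : Coh.IsCoh (tS (jj K G).ker L).X₁ :=
    Groth.Agent.Lib.Helper4.Dev.isCoh_of_iso e1.symm (isCoh_pullback_twist K (e - a))
  haveI v1 : Subsingleton (Coh.HH K.subscheme (tS (jj K G).ker L).X₁ (0 + 1)) :=
    subsingleton_HH_of_iso e1 1 (hK (e - a) 1 (by omega) (by omega))
  haveI v2 : Subsingleton (Coh.HH K.subscheme (tS (jj K G).ker L).X₂ (0 + 1)) :=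
    subsingleton_HH_of_iso e2 1 (hK e 1 (by omega) (by omega))
  haveI f2 : Module.Finite k (Coh.HH K.subscheme (tS (jj K G).ker L).X₂ 0) :=
    Groth.Agent.S0002.result k K.subscheme _ h2 0
  haveI f1 : Module.Finite k (Coh.HH K.subscheme (tS (jj K G).ker L).X₁ (0 + 1)) :=
    Groth.Agent.S0002.result k K.subscheme _ h1 1
  have hinj := injective_HHlin_f_zero k (tS (jj K G).ker L) hS
  have hsurj : Function.Surjective (Canon.HHlin k (tS (jj K G).ker L).f (0 + 1)) :=
    fun y => ⟨0, Subsingleton.elim _ _⟩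
  obtain ⟨-, hfr⟩ := finrank_X₃ k (tS (jj K G).ker L) hS 0 hinj hsurj f2 f1
  rw [Module.finrank_zero_of_subsingleton (M := Coh.HH K.subscheme (tS (jj K G).ker L).X₁ (0 + 1)),
    Module.finrank_zero_of_subsingleton (M := Coh.HH K.subscheme (tS (jj K G).ker L).X₂ (0 + 1)),
    Nat.sub_zero, Nat.add_zero] at hfr
  have hle : Module.finrank k (Coh.HH K.subscheme (tS (jj K G).ker L).X₁ 0) ≤
      Module.finrank k (Coh.HH K.subscheme (tS (jj K G).ker L).X₂ 0) :=
    LinearMap.finrank_le_finrank_of_injective hinj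
  obtain ⟨e3⟩ := nonempty_HH_step_linearEquiv K G e 0
  have hx1 : Module.finrank k (Coh.HH K.subscheme (tS (jj K G).ker L).X₁ 0) =
      Module.finrank k (Coh.HH K.subscheme
        ((Scheme.Modules.pullback K.subschemeι).obj (Twist.twistProjSpace n k (e - a))) 0) :=
    (HHequiv k e1 0).finrank_eq
  have hx2 : Module.finrank k (Coh.HH K.subscheme (tS (jj K G).ker L).X₂ 0) =
      Module.finrank k (Coh.HH K.subscheme L 0) := (HHequiv k e2 0).finrank_eq
  unfold h0
  rw [e3.finrank_eq, hfr, ← hx1, ← hx2]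
  omega

end Step

end Groth.Agent.Lib.Helper4.CIEuler
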