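import Mathlib

/-!
# Numerics of complete intersections (helper4)

* `mono n u = C(u + n, n)` : the number of monomials of degree `u` in `n + 1` variables;
* `D d f u = f u - f (u - d)`; `Afn n r a` : iterated differences of `mono n` (the Hilbert function
  of a complete intersection of multidegree `a` in `P^n`);
* `Afn_pos`, `Afn_eq_zero` : positivity in degrees `≥ 0`, vanishing in degrees `< 0`, when `r < n`;
* `sym_step` : the inductive step of the "Serre duality" symmetry `h^0 - χ = ± h^0(c - e)`.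
-/

set_option autoImplicit false

namespace Groth.Agent.Lib.Helper4.CINum

/-- the number of monomials of degree `u` in `n + 1` variables (`n ≥ 1`). -/
def mono (n : ℕ) (u : ℤ) : ℤ := (Nat.choose (u + n).toNat n : ℤ)

/-- the difference operator. -/
def D (d : ℕ) (f : ℤ → ℤ) : ℤ → ℤ := fun u => f u - f (u - d)

theorem D_apply (d : ℕ) (f : ℤ → ℤ) (u : ℤ) : D d f u = f u - f (u - d) := rfl

theorem D_comm (d d' : ℕ) (f : ℤ → ℤ) : D d (D d' f) = D d' (D d f) := by
  funext u
  simp only [D_apply]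
  have h : u - (d : ℤ) - d' = u - d' - d := by ring
  rw [h]
  ring

theorem mono_of_neg (n : ℕ) (hn : 1 ≤ n) (u : ℤ) (hu : u < 0) : mono n u = 0 := by
  unfold mono
  have h : (u + n).toNat < n := by omega
  rw [Nat.choose_eq_zero_of_lt h]
  rfl

theorem mono_pos (n : ℕ) (u : ℤ) (hu : 0 ≤ u) : 1 ≤ mono n u := by
  unfold mono
  have h : n ≤ (u + n).toNat := by omega
  have := Nat.choose_pos h
  exact_mod_cast this

theorem D_one_mono (n : ℕ) (hn : 1 ≤ n) : D 1 (mono (n + 1)) = mono n := by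
  funext u
  simp only [D_apply, mono]
  by_cases hu : 0 ≤ u
  · obtain ⟨v, rfl⟩ := Int.eq_ofNat_of_zero_le hu
    have h1 : ((v : ℤ) + ((n + 1 : ℕ) : ℤ)).toNat = (v + n) + 1 := by omega
    have h3 : ((v : ℤ) + (n : ℤ)).toNat = v + n := by omega
    rw [h1, h3]
    rcases Nat.eq_zero_or_pos v with hv | hv
    · subst hv
      have h2 : ((0 : ℕ) : ℤ) - ((1 : ℕ) : ℤ) + ((n + 1 : ℕ) : ℤ) = (n : ℤ) := by push_cast; ring
      rw [h2, Int.toNat_natCast, Nat.choose_eq_zero_of_lt (Nat.lt_succ_self n)]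
      simp
    · have h2 : ((v : ℤ) - ((1 : ℕ) : ℤ) + ((n + 1 : ℕ) : ℤ)).toNat = v + n := by omega
      rw [h2, Nat.choose_succ_succ' (v + n) n]
      push_cast
      ring
  · push Not at hu
    have h1 : (u + ((n + 1 : ℕ) : ℤ)).toNat < n + 1 := by omega
    have h2 : (u - ((1 : ℕ) : ℤ) + ((n + 1 : ℕ) : ℤ)).toNat < n + 1 := by omega
    have h3 : (u + (n : ℤ)).toNat < n := by omega
    rw [Nat.choose_eq_zero_of_lt h1, Nat.choose_eq_zero_of_lt h2, Nat.choose_eq_zero_of_lt h3]
    simp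

theorem D_eq_sum (d : ℕ) (f : ℤ → ℤ) (u : ℤ) :
    D d f u = ∑ j ∈ Finset.range d, D 1 f (u - j) := by
  induction d with
  | zero => simp [D_apply]
  | succ d ih =>
    rw [Finset.sum_range_succ, ← ih]
    simp only [D_apply]
    push_cast
    have h : u - (d : ℤ) - 1 = u - ((d : ℤ) + 1) := by ring
    rw [h]
    ring

/-- the Hilbert function of a complete intersection of multidegree `a` in `P^n`. -/
def Afn (n : ℕ) : ∀ r : ℕ, (Fin r → ℕ) → ℤ → ℤ
  | 0, _ => mono n
  | r + 1, a => D (a (Fin.last r)) (Afn n r (fun j => a j.castSucc))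

theorem Afn_zero (n : ℕ) (a : Fin 0 → ℕ) : Afn n 0 a = mono n := rfl

theorem Afn_succ (n r : ℕ) (a : Fin (r + 1) → ℕ) :
    Afn n (r + 1) a = D (a (Fin.last r)) (Afn n r (fun j => a j.castSucc)) := rfl

theorem D_one_Afn (n : ℕ) (hn : 1 ≤ n) : ∀ (r : ℕ) (a : Fin r → ℕ),
    D 1 (Afn (n + 1) r a) = Afn n r a := by
  intro r
  induction r with
  | zero => intro a; exact D_one_mono n hn
  | succ r ih =>
    intro a
    rw [Afn_succ, Afn_succ, D_comm, ih]

theorem Afn_succ_eq_sum (n : ℕ) (hn : 1 ≤ n) (r : ℕ) (a : Fin (r + 1) → ℕ) (u : ℤ) :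
    Afn (n + 1) (r + 1) a u =
      ∑ j ∈ Finset.range (a (Fin.last r)), Afn n r (fun j => a j.castSucc) (u - j) := by
  rw [Afn_succ, D_eq_sum, D_one_Afn n hn]

theorem Afn_facts : ∀ (r : ℕ) (n : ℕ) (_ : 1 ≤ n) (a : Fin r → ℕ) (_ : ∀ j, 1 ≤ a j),
    (∀ u : ℤ, 0 ≤ Afn (n + r) r a u) ∧ (∀ u : ℤ, u < 0 → Afn (n + r) r a u = 0) ∧
      (∀ u : ℤ, 0 ≤ u → 1 ≤ Afn (n + r) r a u) := by
  intro r
  induction r with
  | zero =>
    intro n hn a _
    refine ⟨fun u => ?_, fun u hu => mono_of_neg n hn u hu, fun u hu => mono_pos n u hu⟩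
    by_cases hu : 0 ≤ u
    · exact le_trans zero_le_one (mono_pos n u hu)
    · push Not at hu
      exact (mono_of_neg n hn u hu).ge
  | succ r ih =>
    intro n hn a ha
    obtain ⟨h0, h1, h2⟩ := ih n hn (fun j => a j.castSucc) (fun j => ha _)
    have hn' : 1 ≤ n + r := by omega
    have key : ∀ u : ℤ, Afn (n + (r + 1)) (r + 1) a u =
        ∑ j ∈ Finset.range (a (Fin.last r)), Afn (n + r) r (fun j => a j.castSucc) (u - j) :=
      fun u => Afn_succ_eq_sum (n + r) hn' r a u
    refine ⟨fun u => ?_, fun u hu => ?_, fun u hu => ?_⟩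
    · rw [key]
      exact Finset.sum_nonneg (fun j _ => h0 _)
    · rw [key]
      refine Finset.sum_eq_zero (fun j _ => h1 _ ?_)
      have : (0 : ℤ) ≤ j := Int.natCast_nonneg j
      omega
    · rw [key]
      have hmem : 0 ∈ Finset.range (a (Fin.last r)) := Finset.mem_range.mpr (ha _)
      have h3 := Finset.single_le_sum (f := fun j : ℕ =>
        Afn (n + r) r (fun j => a j.castSucc) (u - j)) (fun j _ => h0 _) hmem
      refine le_trans ?_ h3
      have h4 := h2 u hu
      simpa using h4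

/-- vanishing in negative degrees, positivity in degrees `≥ 0`, for `r < n`. -/
theorem Afn_eq_zero_iff (n r : ℕ) (hr : r + 1 ≤ n) (a : Fin r → ℕ) (ha : ∀ j, 1 ≤ a j) (u : ℤ) :
    Afn n r a u = 0 ↔ u < 0 := by
  obtain ⟨n', rfl⟩ : ∃ n', n = n' + r := ⟨n - r, by omega⟩
  obtain ⟨-, h1, h2⟩ := Afn_facts r n' (by omega) a ha
  constructor
  · intro h
    by_contra hu
    push Not at hu
    have := h2 u hu
    omega
  · exact h1 u

/-- the inductive step of the symmetry `h^0 - χ = ± h^0(c - e)`. -/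
theorem sym_step (d : ℕ) (A X : ℤ → ℤ) (σ c : ℤ)
    (h : ∀ e, A e - X e = σ * A (c - e)) (e : ℤ) :
    D d A e - D d X e = (-σ) * D d A (c + d - e) := by
  simp only [D_apply]
  have h1 := h e
  have h2 := h (e - d)
  have e1 : c - (e - (d : ℤ)) = c + d - e := by ring
  have e2 : c + (d : ℤ) - e - d = c - e := by ring
  rw [e1] at h2
  rw [e2]
  linear_combination h1 - h2

end Groth.Agent.Lib.Helper4.CINum
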