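import Groth.Agent.Lib.Helper4CIEulerA
import Groth.Agent.Lib.Helper4CINum
import Groth.Agent.Lib.Helper4CurveRR
import Groth.Agent.S0022

/-!
# Complete intersections (helper4): Hilbert function and the symmetry `h^0 - χ = ± h^0(c - e)`

* `ci_numerics` : for a global complete intersection `X = V(G_1..G_r)` of dimension `≤ n - r`,
  `r + 1 ≤ n`: `h^0(X, O_X(e)) = Afn n r a e` and
  `h^0(X, O_X(e)) - χ(X, O_X(e)) = (-1)^(n+1+r) h^0(X, O_X(Σ a_j - n - 1 - e))`;
* `h1_curve` : for a complete intersection curve, `h^1(X, O_X(e)) = Afn n r a (Σ a_j - n - 1 - e)`;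
* `h1_curve_subsingleton_iff`.
-/

set_option autoImplicit false
set_option linter.style.haveILetI false
universe u

open CategoryTheory CategoryTheory.Limits AlgebraicGeometry TopologicalSpace Opposite
  HomogeneousLocalization MvPolynomial

namespace Groth.Agent.Lib.Helper4.CIEuler

open Groth.Agent.Lib.Helper27SerreVan Groth.Agent.Lib.Helper27LesLin
  Groth.Agent.Lib.Helper4.HypIdeal Groth.Agent.Lib.Helper4.CIChart
  Groth.Agent.Lib.Helper4.CIDim Groth.Agent.Lib.Helper4.CICoh Groth.Agent.Lib.Helper4.CINum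

variable {n : ℕ} {k : Type u} [Field k]

attribute [local instance] overInst

theorem nonempty_HH_bot_linearEquiv (e : ℤ) (p : ℕ) :
    Nonempty (Coh.HH (⊥ : (CohB1.ProjSpace n k).IdealSheafData).subscheme
        ((Scheme.Modules.pullback (⊥ : (CohB1.ProjSpace n k).IdealSheafData).subschemeι).obj
          (Twist.twistProjSpace n k e)) p ≃ₗ[k]
      Coh.HH (CohB1.ProjSpace n k) (Twist.twistProjSpace n k e) p) :=
  nonempty_HH_pullback_iso_linearEquiv k
    (⊥ : (CohB1.ProjSpace n k).IdealSheafData).subschemeι rfl (Twist.twistProjSpace n k e) p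

theorem h0_bot (hn : 1 ≤ n) (e : ℤ) :
    h0 (⊥ : (CohB1.ProjSpace n k).IdealSheafData) e = mono n e := by
  obtain ⟨l⟩ := nonempty_HH_bot_linearEquiv (n := n) (k := k) e 0
  unfold h0 mono
  rw [l.finrank_eq, (Groth.Agent.Lib.Helper27HypDim.finrank_HH_zero k n hn e).2]

theorem chi_bot (hn : 1 ≤ n) (e : ℤ) :
    chi (⊥ : (CohB1.ProjSpace n k).IdealSheafData) e =
      mono n e + (-1) ^ n * mono n (-(n : ℤ) - 1 - e) := by
  have h1 : chi (⊥ : (CohB1.ProjSpace n k).IdealSheafData) e =
      Curv2.euler k (CohB1.ProjSpace n k) (Twist.twistProjSpace n k e) :=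
    euler_congr k _ _ (fun p => nonempty_HH_bot_linearEquiv e p)
  rw [h1, Groth.Agent.Lib.Helper6.Euler.euler_eq_sum k (CohB1.ProjSpace n k)
    (Twist.twistProjSpace n k e) (n + 1) (fun p hp => by
      haveI : Coh.IsQCoh (Twist.twistProjSpace n k e) :=
        (Groth.Agent.Lib.Helper27TwistCoh.isCoh_twist n k e).1
      exact Groth.Agent.S0022.result n k _ p (by omega))]
  have h0n : (0 : ℕ) ≠ n := by omega
  rw [Finset.sum_eq_add (0 : ℕ) n h0n]
  · rw [(Groth.Agent.Lib.Helper27HypDim.finrank_HH_zero k n hn e).2,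
      (Groth.Agent.Lib.Helper27HypDim.finrank_HH_top k n hn e).2]
    unfold mono
    have h2 : (-(n : ℤ) - 1 - e + n) = -e - 1 := by ring
    rw [h2]
    simp
  · intro c _ hc
    haveI := Groth.Agent.Lib.Helper27PnCohVanish.subsingleton_HH n k e c
      (fun h => hc.1 h.1) (fun h => hc.2 h.1)
    rw [Module.finrank_zero_of_subsingleton]
    simp
  · intro h
    exact absurd (Finset.mem_range.mpr (by omega)) h
  · intro h
    exact absurd (Finset.mem_range.mpr (by omega)) h

/-- Hilbert function and symmetry for global complete intersections of positive dimension. -/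
theorem ci_numerics : ∀ (r : ℕ) (_ : r + 1 ≤ n) (a : Fin r → ℕ) (_ : ∀ j, 1 ≤ a j)
    (G : ∀ j, LefPen.Form n k (a j))
    (_ : topologicalKrullDim ↥(LefPen.ciIdeal G).subscheme ≤ ((n - r : ℕ) : WithBot ℕ∞)),
    (∀ e : ℤ, h0 (LefPen.ciIdeal G) e = Afn n r a e) ∧
      (∀ e : ℤ, h0 (LefPen.ciIdeal G) e - chi (LefPen.ciIdeal G) e =
        (-1) ^ (n + 1 + r) * h0 (LefPen.ciIdeal G) ((∑ j, (a j : ℤ)) - n - 1 - e)) := by
  intro r
  induction r with
  | zero =>
    intro hr a _ G _
    rw [ciIdeal_fin_zero G]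
    refine ⟨fun e => h0_bot (by omega) e, fun e => ?_⟩
    rw [chi_bot (by omega), h0_bot (by omega), h0_bot (by omega)]
    simp only [Finset.univ_eq_empty, Finset.sum_empty, zero_sub, add_zero]
    rw [pow_succ]
    ring
  | succ r ih =>
    intro hr a ha G hdim
    have h1 := dim_ciIdeal_castSucc_le (by omega) ha G hdim
    obtain ⟨ihA, ihS⟩ := ih (by omega) (fun j => a j.castSucc) (fun j => ha _)
      (fun j : Fin r => G j.castSucc) h1
    have h3 := van_ciIdeal r (by omega) (fun j => a j.castSucc) (fun j => ha _)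
      (fun j : Fin r => G j.castSucc) h1
    have hv : Van (LefPen.ciIdeal (fun j : Fin r => G j.castSucc)) 2 := van_mono (by omega) h3
    have hreg := regular_chart (by omega) G hdim
    have hA : ∀ e : ℤ, h0 (LefPen.ciIdeal G) e =
        D (a (Fin.last r)) (h0 (LefPen.ciIdeal (fun j : Fin r => G j.castSucc))) e := by
      intro e
      rw [ciIdeal_succ G]
      exact h0_step _ _ hreg hv e
    have hX : ∀ e : ℤ, chi (LefPen.ciIdeal G) e =
        D (a (Fin.last r)) (chi (LefPen.ciIdeal (fun j : Fin r => G j.castSucc))) e := by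
      intro e
      rw [ciIdeal_succ G]
      exact chi_step _ _ hreg e
    refine ⟨fun e => ?_, fun e => ?_⟩
    · rw [hA, Afn_succ]
      simp only [D_apply]
      rw [ihA, ihA]
    · rw [hA, hX, sym_step (a (Fin.last r)) _ _ _ _ ihS e, hA]
      have hs : (∑ j : Fin (r + 1), (a j : ℤ)) =
          (∑ j : Fin r, (a j.castSucc : ℤ)) + (a (Fin.last r) : ℤ) := Fin.sum_univ_castSucc _
      rw [hs]
      have e1 : (∑ j : Fin r, (a j.castSucc : ℤ)) - (n : ℤ) - 1 + (a (Fin.last r) : ℤ) - e =
          (∑ j : Fin r, (a j.castSucc : ℤ)) + (a (Fin.last r) : ℤ) - n - 1 - e := by ring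
      rw [e1]
      have e2 : (-1 : ℤ) ^ (n + 1 + (r + 1)) = -(-1) ^ (n + 1 + r) := by
        rw [← add_assoc, pow_succ]
        ring
      rw [e2]

/-- `h^1` of the twists of a complete intersection curve. -/
theorem h1_curve (r : ℕ) (hr : r + 1 = n) (a : Fin r → ℕ) (ha : ∀ j, 1 ≤ a j)
    (G : ∀ j, LefPen.Form n k (a j))
    (hdim : topologicalKrullDim ↥(LefPen.ciIdeal G).subscheme ≤ 1) (e : ℤ) :
    (Module.finrank k (Coh.HH (LefPen.ciIdeal G).subscheme
      ((Scheme.Modules.pullback (LefPen.ciIdeal G).subschemeι).obj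
        (Twist.twistProjSpace n k e)) 1) : ℤ) =
      Afn n r a ((∑ j, (a j : ℤ)) - n - 1 - e) := by
  have hdim' : topologicalKrullDim ↥(LefPen.ciIdeal G).subscheme ≤
      ((n - r : ℕ) : WithBot ℕ∞) := by
    have : n - r = 1 := by omega
    rw [this]
    exact hdim
  obtain ⟨hA, hS⟩ := ci_numerics r (by omega) a ha G hdim'
  have h1 := Groth.Agent.Lib.Helper4.CurveRR.euler_eq_h0_sub_h1 k (LefPen.ciIdeal G).subscheme
    hdim _ (isCoh_pullback_twist (LefPen.ciIdeal G) e)
  have h2 := hS e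
  rw [hA ((∑ j, (a j : ℤ)) - n - 1 - e)] at h2
  have h3 : (-1 : ℤ) ^ (n + 1 + r) = 1 := by
    have : n + 1 + r = 2 * n := by omega
    rw [this, pow_mul]
    simp
  rw [h3, one_mul] at h2
  unfold chi at h2
  unfold h0 at h2
  rw [h1] at h2
  linarith

theorem h1_curve_subsingleton_iff (r : ℕ) (hr : r + 1 = n) (a : Fin r → ℕ) (ha : ∀ j, 1 ≤ a j)
    (G : ∀ j, LefPen.Form n k (a j))
    (hdim : topologicalKrullDim ↥(LefPen.ciIdeal G).subscheme ≤ 1) (e : ℤ) :
    Subsingleton (Coh.HH (LefPen.ciIdeal G).subscheme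
      ((Scheme.Modules.pullback (LefPen.ciIdeal G).subschemeι).obj
        (Twist.twistProjSpace n k e)) 1) ↔ (∑ j, (a j : ℤ)) - n - 1 < e := by
  have h1 := h1_curve r hr a ha G hdim e
  have h2 := Afn_eq_zero_iff n r (by omega) a ha ((∑ j, (a j : ℤ)) - n - 1 - e)
  haveI hfin : Module.Finite k (Coh.HH (LefPen.ciIdeal G).subscheme
      ((Scheme.Modules.pullback (LefPen.ciIdeal G).subschemeι).obj
        (Twist.twistProjSpace n k e)) 1) :=
    Groth.Agent.S0002.result k (LefPen.ciIdeal G).subscheme _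
      (isCoh_pullback_twist (LefPen.ciIdeal G) e) 1
  constructor
  · intro hs
    rw [Module.finrank_zero_of_subsingleton, Nat.cast_zero] at h1
    have := h2.mp h1.symm
    omega
  · intro he
    have h3 := h2.mpr (by omega)
    rw [h3] at h1
    have h4 : Module.finrank k (Coh.HH (LefPen.ciIdeal G).subscheme
      ((Scheme.Modules.pullback (LefPen.ciIdeal G).subschemeι).obj
        (Twist.twistProjSpace n k e)) 1) = 0 := by exact_mod_cast h1
    exact Module.finrank_zero_iff.mp h4

end Groth.Agent.Lib.Helper4.CIEuler
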