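import Groth.Agent.Lib.Helper4CICohD
import Groth.Agent.Lib.Helper27MinPres

/-!
# Surjectivity of the unit `F → f_* f^* F` on global sections (helper4)

* `surjective_unit_app_top` : if *some* morphism `φ : F ⟶ f_* f^* F` is surjective on global
  sections and `H^0(f_* f^* F)` is finite-dimensional, then the unit is surjective on global
  sections (a surjective endomorphism of a finite-dimensional space is injective).
* `nonempty_push_pull_comp_iso`, `nonempty_push_pull_toImage_iso`.
-/

set_option autoImplicit false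
set_option linter.style.haveILetI false
universe u

open CategoryTheory CategoryTheory.Limits AlgebraicGeometry TopologicalSpace Opposite

namespace Groth.Agent.Lib.Helper4.CISurj

open Groth.Agent.Lib.Helper27PnSections Groth.Agent.Lib.Helper27MinPres
  Groth.Agent.Lib.Helper27LesLin

section General

variable {Y Z : Scheme.{u}} (k : Type u) [Field k] [Y.Over (Spec (CommRingCat.of k))]

theorem surjective_app_top_of_HHlin {M N : Y.Modules} (φ : M ⟶ N)
    (h : Function.Surjective (Canon.HHlin k φ 0)) : Function.Surjective (φ.app ⊤) := by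
  intro y
  obtain ⟨x, hx⟩ := h ((hh0Equiv Y N).symm y)
  refine ⟨hh0Equiv Y M x, ?_⟩
  rw [← hh0Equiv_HHlin k φ x, hx]
  exact (hh0Equiv Y N).apply_symm_apply y

theorem injective_app_top_of_HHlin {M N : Y.Modules} (φ : M ⟶ N)
    (h : Function.Injective (Canon.HHlin k φ 0)) : Function.Injective (φ.app ⊤) := by
  intro a b hab
  have h1 : (hh0Equiv Y M).symm a = (hh0Equiv Y M).symm b := by
    apply h
    apply (hh0Equiv Y N).injective
    rw [hh0Equiv_HHlin, hh0Equiv_HHlin]
    have ha : hh0Equiv Y M ((hh0Equiv Y M).symm a) = a := (hh0Equiv Y M).apply_symm_apply a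
    have hb : hh0Equiv Y M ((hh0Equiv Y M).symm b) = b := (hh0Equiv Y M).apply_symm_apply b
    exact ((congrArg (φ.app ⊤) ha).trans hab).trans (congrArg (φ.app ⊤) hb).symm
  exact (hh0Equiv Y M).symm.injective h1

theorem surjective_unit_app_top (f : Z ⟶ Y) (F : Y.Modules)
    (φ : F ⟶ (Scheme.Modules.pushforward f).obj ((Scheme.Modules.pullback f).obj F))
    (hφ : Function.Surjective (φ.app ⊤))
    (hfin : Module.Finite k
      (Coh.HH Y ((Scheme.Modules.pushforward f).obj ((Scheme.Modules.pullback f).obj F)) 0)) :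
    Function.Surjective (((Scheme.Modules.pullbackPushforwardAdjunction f).unit.app F).app ⊤) := by
  set adj := Scheme.Modules.pullbackPushforwardAdjunction f with hadj
  let u := (adj.homEquiv F ((Scheme.Modules.pullback f).obj F)).symm φ
  have h1 : φ = adj.unit.app F ≫ (Scheme.Modules.pushforward f).map u := by
    exact ((adj.homEquiv F _).apply_symm_apply φ).symm.trans (adj.homEquiv_unit ..)
  set v := (Scheme.Modules.pushforward f).map u with hv
  have hvs : Function.Surjective (v.app ⊤) := by
    intro y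
    obtain ⟨x, hx⟩ := hφ y
    refine ⟨(adj.unit.app F).app ⊤ x, ?_⟩
    rw [h1] at hx
    exact hx
  have hvs' : Function.Surjective (Canon.HHlin k v 0) := surjective_HHlin_zero k v hvs
  have hvi' : Function.Injective (Canon.HHlin k v 0) :=
    LinearMap.injective_iff_surjective.mpr hvs'
  have hvi : Function.Injective (v.app ⊤) := injective_app_top_of_HHlin k v hvi'
  intro y
  obtain ⟨x, hx⟩ := hφ (v.app ⊤ y)
  refine ⟨x, hvi ?_⟩
  rw [h1] at hx
  exact hx

theorem bijective_app_top_of_iso {M N : Y.Modules} (e : M ≅ N) :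
    Function.Bijective (e.hom.app ⊤) := by
  refine ⟨fun a b hab => ?_, fun y => ⟨e.inv.app ⊤ y, ?_⟩⟩
  · have h1 : (e.hom ≫ e.inv).app ⊤ a = (e.hom ≫ e.inv).app ⊤ b := congrArg (e.inv.app ⊤) hab
    rw [e.hom_inv_id] at h1
    exact h1
  · have h1 : (e.inv ≫ e.hom).app ⊤ y = y := by
      rw [e.inv_hom_id]
      rfl
    exact h1

/-- variant with an auxiliary target `N ≅ f_* f^* F`. -/
theorem surjective_unit_app_top_of_iso (f : Z ⟶ Y) (F N : Y.Modules)
    (Ψ : N ≅ (Scheme.Modules.pushforward f).obj ((Scheme.Modules.pullback f).obj F))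
    (φ : F ⟶ N) (hφ : Function.Surjective (φ.app ⊤))
    (hfin : Module.Finite k
      (Coh.HH Y ((Scheme.Modules.pushforward f).obj ((Scheme.Modules.pullback f).obj F)) 0)) :
    Function.Surjective (((Scheme.Modules.pullbackPushforwardAdjunction f).unit.app F).app ⊤) := by
  refine surjective_unit_app_top k f F (φ ≫ Ψ.hom) ?_ hfin
  exact (bijective_app_top_of_iso Ψ).2.comp hφ

end General

section Isos

variable {X Y P : Scheme.{u}}

theorem nonempty_push_pull_comp_iso (g : X ⟶ Y) (h : Y ⟶ P) (F : P.Modules) :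
    Nonempty ((Scheme.Modules.pushforward h).obj ((Scheme.Modules.pushforward g).obj
        ((Scheme.Modules.pullback g).obj ((Scheme.Modules.pullback h).obj F))) ≅
      (Scheme.Modules.pushforward (g ≫ h)).obj ((Scheme.Modules.pullback (g ≫ h)).obj F)) :=
  ⟨(Scheme.Modules.pushforwardComp g h).app _ ≪≫
    (Scheme.Modules.pushforward (g ≫ h)).mapIso ((Scheme.Modules.pullbackComp g h).app F)⟩

theorem nonempty_push_pull_congr {g g' : X ⟶ Y} (h : g = g') (F : Y.Modules) :
    Nonempty ((Scheme.Modules.pushforward g).obj ((Scheme.Modules.pullback g).obj F) ≅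
      (Scheme.Modules.pushforward g').obj ((Scheme.Modules.pullback g').obj F)) := by
  subst h
  exact ⟨Iso.refl _⟩

theorem nonempty_push_pull_of_isIso (t : X ⟶ Y) [IsIso t] (M : Y.Modules) :
    Nonempty (M ≅ (Scheme.Modules.pushforward t).obj ((Scheme.Modules.pullback t).obj M)) := by
  haveI := Groth.Agent.Lib.Helper4.PPSch.isIso_unit_app t M
  exact ⟨asIso ((Scheme.Modules.pullbackPushforwardAdjunction t).unit.app M)⟩

theorem nonempty_push_pull_toImage_iso (j : X ⟶ Y) [IsClosedImmersion j] (M : Y.Modules) :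
    Nonempty ((Scheme.Modules.pushforward j.ker.subschemeι).obj
        ((Scheme.Modules.pullback j.ker.subschemeι).obj M) ≅
      (Scheme.Modules.pushforward j).obj ((Scheme.Modules.pullback j).obj M)) := by
  obtain ⟨e1⟩ := nonempty_push_pull_of_isIso j.toImage
    ((Scheme.Modules.pullback j.ker.subschemeι).obj M)
  obtain ⟨e2⟩ := nonempty_push_pull_comp_iso j.toImage j.ker.subschemeι M
  obtain ⟨e3⟩ := nonempty_push_pull_congr j.toImage_imageι M
  exact ⟨(Scheme.Modules.pushforward j.ker.subschemeι).mapIso e1 ≪≫ e2 ≪≫ e3⟩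

end Isos

end Groth.Agent.Lib.Helper4.CISurj
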