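import Groth.Agent.Lib.Helper4CISurjA
import Groth.Agent.Lib.Helper27HypDim

/-!
# Complete intersections (helper4): `H^0(P^n, O(i)) → H^0(X, O_X(i))` is surjective

* `Sur I` : `H^0(V(I), O(i)|_{V(I)})` is finite and the unit `O(i) → ι_* ι^* O(i)` is surjective
  on global sections, for all `i`;
* `sur_step`, `sur_ciIdeal`.
-/

set_option autoImplicit false
set_option linter.style.haveILetI false
universe u

open CategoryTheory CategoryTheory.Limits AlgebraicGeometry TopologicalSpace Opposite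
  HomogeneousLocalization MvPolynomial

namespace Groth.Agent.Lib.Helper4.CISurj

open Groth.Agent.Lib.Helper27SerreVan Groth.Agent.Lib.Helper27LesLin
  Groth.Agent.Lib.Helper27LesDim
  Groth.Agent.Lib.Helper4.HypIdeal Groth.Agent.Lib.Helper4.CIChart
  Groth.Agent.Lib.Helper4.CIAlg Groth.Agent.Lib.Helper4.CIPull Groth.Agent.Lib.Helper4.CIDim
  Groth.Agent.Lib.Helper27SerreVanPn Groth.Agent.Lib.Helper23.PB
  Groth.Agent.Lib.Helper4.CICoh Groth.Agent.Lib.Helper27PushLin

variable {n : ℕ} {k : Type u} [Field k]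

/-- finiteness of `H^0(V(I), O(i))` and surjectivity of the restriction from `P^n`. -/
def Sur (I : (CohB1.ProjSpace n k).IdealSheafData) : Prop :=
  letI : I.subscheme.Over (Spec (CommRingCat.of k)) :=
    ⟨I.subschemeι ≫ CohB1.ProjSpace.toSpec n k⟩
  ∀ i : ℤ, Module.Finite k (Coh.HH I.subscheme
      ((Scheme.Modules.pullback I.subschemeι).obj (Twist.twistProjSpace n k i)) 0) ∧
    Function.Surjective (((Scheme.Modules.pullbackPushforwardAdjunction I.subschemeι).unit.app
      (Twist.twistProjSpace n k i)).app ⊤)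

theorem sur_bot (hn : 1 ≤ n) : Sur (⊥ : (CohB1.ProjSpace n k).IdealSheafData) := by
  letI : (⊥ : (CohB1.ProjSpace n k).IdealSheafData).subscheme.Over (Spec (CommRingCat.of k)) :=
    ⟨(⊥ : (CohB1.ProjSpace n k).IdealSheafData).subschemeι ≫ CohB1.ProjSpace.toSpec n k⟩
  intro i
  obtain ⟨e⟩ := nonempty_HH_pullback_iso_linearEquiv k
    (⊥ : (CohB1.ProjSpace n k).IdealSheafData).subschemeι rfl (Twist.twistProjSpace n k i) 0
  haveI hfin := (Groth.Agent.Lib.Helper27HypDim.finrank_HH_zero k n hn i).1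
  refine ⟨Module.Finite.equiv e.symm, ?_⟩
  haveI := Groth.Agent.Lib.Helper4.PPSch.isIso_unit_app
    (⊥ : (CohB1.ProjSpace n k).IdealSheafData).subschemeι (Twist.twistProjSpace n k i)
  exact (bijective_app_top_of_iso (asIso ((Scheme.Modules.pullbackPushforwardAdjunction
    (⊥ : (CohB1.ProjSpace n k).IdealSheafData).subschemeι).unit.app
      (Twist.twistProjSpace n k i)))).2

section Step

variable (K : (CohB1.ProjSpace n k).IdealSheafData) {a : ℕ} (G : LefPen.Form n k a)
  (hreg : ∀ (i : Fin (n + 1)) (b : Γ(CohB1.ProjSpace n k, LefPen.chart n k i)),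
    b * LefPen.dehom G i ∈ K.ideal ⟨LefPen.chart n k i, isAffineOpen_chart i⟩ →
      b ∈ K.ideal ⟨LefPen.chart n k i, isAffineOpen_chart i⟩)

include hreg in
theorem sur_step (hK : Van K 2) (hS : Sur K) : Sur (K ⊔ LefPen.hypIdeal G) := by
  letI instY : K.subscheme.Over (Spec (CommRingCat.of k)) :=
    ⟨K.subschemeι ≫ CohB1.ProjSpace.toSpec n k⟩
  letI instX : (K ⊔ LefPen.hypIdeal G).subscheme.Over (Spec (CommRingCat.of k)) :=
    ⟨(K ⊔ LefPen.hypIdeal G).subschemeι ≫ CohB1.ProjSpace.toSpec n k⟩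
  letI instJ : (jj K G).ker.subscheme.Over (Spec (CommRingCat.of k)) :=
    ⟨(jj K G).ker.subschemeι ≫ (K.subscheme ↘ Spec (CommRingCat.of k))⟩
  intro i
  obtain ⟨hfin, hsur⟩ := hS i
  obtain ⟨e⟩ := nonempty_idealMod_ker_jj_iso K G hreg
  set F := Twist.twistProjSpace n k i with hF
  set L := (Scheme.Modules.pullback K.subschemeι).obj F with hL
  have hLinv : PicF.IsInvertible L := isInvertible_pullback K.subschemeι _ (isInvertible_twist n k i)
  obtain ⟨e1⟩ := nonempty_idealMod_tensor_iso K G e i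
  have h1 : Subsingleton (Coh.HH K.subscheme (CohB1.tensorMod (ClSub.idealMod (jj K G).ker) L) 1) :=
    subsingleton_HH_of_iso e1 1 (hK (i - a) 1 (by omega) (by omega))
  obtain ⟨hfin3, -⟩ := finrank_HH_zero_subscheme_pullback_le k (jj K G).ker rfl L hLinv h1 hfin
  have hj : jj K G ≫ (K.subscheme ↘ Spec (CommRingCat.of k)) =
      (K ⊔ LefPen.hypIdeal G).subscheme ↘ Spec (CommRingCat.of k) := by
    change jj K G ≫ K.subschemeι ≫ CohB1.ProjSpace.toSpec n k = _
    rw [← Category.assoc, jj_ι]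
    rfl
  obtain ⟨e2⟩ := nonempty_HH_pullback_closedImmersion_linearEquiv k (jj K G) hj rfl L 0
  let e3 := (HHequiv k (pullJJIso K G F) 0).symm ≪≫ₗ e2
  haveI hfinX : Module.Finite k (Coh.HH (K ⊔ LefPen.hypIdeal G).subscheme
      ((Scheme.Modules.pullback (K ⊔ LefPen.hypIdeal G).subschemeι).obj F) 0) :=
    Module.Finite.equiv e3.symm
  refine ⟨hfinX, ?_⟩
  -- the auxiliary morphism
  have hS' := tS_shortExact (jj K G).ker L hLinv
  have hgs : Function.Surjective (Canon.HHlin k (tS (jj K G).ker L).g 0) := by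
    rw [← LinearMap.range_eq_top, range_g_eq_ker_delta k (tS (jj K G).ker L) hS' 0,
      LinearMap.ker_eq_top]
    ext x
    exact Subsingleton.elim
      (α := Coh.HH K.subscheme (CohB1.tensorMod (ClSub.idealMod (jj K G).ker) L) (0 + 1)) _ _
  have hgs' := surjective_app_top_of_HHlin k (tS (jj K G).ker L).g hgs
  obtain ⟨e4⟩ := nonempty_tS_X₂_iso (jj K G).ker L
  let ψ : L ⟶ (tS (jj K G).ker L).X₃ := e4.inv ≫ (tS (jj K G).ker L).g
  have hψ : Function.Surjective (ψ.app ⊤) := hgs'.comp (bijective_app_top_of_iso e4.symm).2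
  let φ : F ⟶ (Scheme.Modules.pushforward K.subschemeι).obj (tS (jj K G).ker L).X₃ :=
    (Scheme.Modules.pullbackPushforwardAdjunction K.subschemeι).unit.app F ≫
      (Scheme.Modules.pushforward K.subschemeι).map ψ
  have hφ : Function.Surjective (φ.app ⊤) := by
    intro y
    obtain ⟨x, hx⟩ := hψ y
    obtain ⟨z, hz⟩ := hsur x
    refine ⟨z, ?_⟩
    change ψ.app ⊤ (((Scheme.Modules.pullbackPushforwardAdjunction K.subschemeι).unit.app F).app ⊤ z)
      = y
    rw [hz]
    exact hx
  -- the identification of the target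
  obtain ⟨i1⟩ := nonempty_push_pullback_iso (jj K G).ker L hLinv
  obtain ⟨i2⟩ := nonempty_push_pull_toImage_iso (jj K G) L
  obtain ⟨i3⟩ := nonempty_push_pull_comp_iso (jj K G) K.subschemeι F
  obtain ⟨i4⟩ := nonempty_push_pull_congr (jj_ι K G) F
  let Ψ : (Scheme.Modules.pushforward K.subschemeι).obj (tS (jj K G).ker L).X₃ ≅
      (Scheme.Modules.pushforward (K ⊔ LefPen.hypIdeal G).subschemeι).obj
        ((Scheme.Modules.pullback (K ⊔ LefPen.hypIdeal G).subschemeι).obj F) :=
    (Scheme.Modules.pushforward K.subschemeι).mapIso (i1.symm ≪≫ i2) ≪≫ i3 ≪≫ i4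
  obtain ⟨e5⟩ := nonempty_HH_push_linearEquiv k (K ⊔ LefPen.hypIdeal G).subschemeι rfl
    ((Scheme.Modules.pullback (K ⊔ LefPen.hypIdeal G).subschemeι).obj F) 0
  exact surjective_unit_app_top_of_iso k (K ⊔ LefPen.hypIdeal G).subschemeι F _ Ψ φ hφ
    (Module.Finite.equiv e5)

end Step

/-- global complete intersections of dimension `≤ n - r`, `r + 1 ≤ n`: restriction of sections
of `O(i)` from `P^n` is surjective. -/
theorem sur_ciIdeal : ∀ (r : ℕ) (_ : r + 1 ≤ n) (a : Fin r → ℕ) (_ : ∀ j, 1 ≤ a j)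
    (G : ∀ j, LefPen.Form n k (a j))
    (_ : topologicalKrullDim ↥(LefPen.ciIdeal G).subscheme ≤ ((n - r : ℕ) : WithBot ℕ∞)),
    Sur (LefPen.ciIdeal G) := by
  intro r
  induction r with
  | zero =>
    intro h0 a _ G _
    rw [ciIdeal_fin_zero G]
    exact sur_bot (by omega)
  | succ r ih =>
    intro hr a ha G hdim
    have h1 := dim_ciIdeal_castSucc_le (by omega) ha G hdim
    have h2 := ih (by omega) (fun j => a j.castSucc) (fun j => ha _)
      (fun j : Fin r => G j.castSucc) h1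
    have h3 := van_ciIdeal r (by omega) (fun j => a j.castSucc) (fun j => ha _)
      (fun j : Fin r => G j.castSucc) h1
    rw [ciIdeal_succ G]
    exact sur_step _ _ (regular_chart (by omega) G hdim) (van_mono (by omega) h3) h2

end Groth.Agent.Lib.Helper4.CISurj
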