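import Groth.Agent.Lib.Helper4NegTwistC
import Groth.Agent.Lib.Helper21SheafHomFree
import Groth.Agent.Lib.Helper21ModTensor7
import Groth.Agent.Lib.Helper4DevI

/-!
# A natural multiplication `B ⊗ D ⟶ B` by a section of an inverse of `D` (helper4; S5638, S5639)

`nuApp P D s e B : B ⊗ D ⟶ B` is natural in `B` (`nuApp_naturality`), bijective on the stalks at the points of
the generating locus of `s`, and maps into `𝔪_x · B_x` at the other points.
-/

set_option autoImplicit false
set_option linter.style.haveILetI false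
set_option backward.isDefEq.respectTransparency.types false
universe u
open CategoryTheory CategoryTheory.Limits AlgebraicGeometry TopologicalSpace Opposite TensorProduct MonoidalCategory

namespace Groth.Agent.Lib.Helper4.NegTwist

open Groth.Agent.Lib.Helper4.Dev Groth.Agent.Lib.Helper1.StalkTensor Groth.Agent.Lib.Helper4.KTensor
  Groth.Agent.Lib.Helper23.ResProp
open Groth.Agent.Lib.Helper21.ModTensor3 Groth.Agent.Lib.Helper21.ModTensor5
  Groth.Agent.Lib.Helper21.ModTensor6 Groth.Agent.Lib.Helper21.ModTensor7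
  Groth.Agent.Lib.Helper21.SheafHomFree

variable {X : Scheme.{u}}

/-- left tensoring as a morphism of `X.Modules` -/
noncomputable def tmapL (P : X.Modules) {A B : X.Modules} (φ : A ⟶ B) :
    CohB1.tensorMod P A ⟶ CohB1.tensorMod P B :=
  (tL X.sheaf P).map (X := (A : ModSite.Mod X.sheaf)) (Y := (B : ModSite.Mod X.sheaf)) φ

/-- `B ≅ O ⊗ B`, the natural one -/
noncomputable def unitInv (B : X.Modules) : B ⟶ CohB1.tensorMod (Coh.structureModule X) B :=
  (tLUnitIso X.sheaf).inv.app (B : ModSite.Mod X.sheaf)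

instance (B : X.Modules) : IsIso (unitInv B) :=
  (((tLUnitIso X.sheaf).symm.app (B : ModSite.Mod X.sheaf))).isIso_hom

theorem unitInv_naturality {B B' : X.Modules} (φ : B ⟶ B') :
    φ ≫ unitInv B' = unitInv B ≫ tmapL (Coh.structureModule X) φ :=
  (tLUnitIso X.sheaf).inv.naturality (X := (B : ModSite.Mod X.sheaf)) (Y := (B' : ModSite.Mod X.sheaf)) φ

theorem tmapL_tmapR {P P' : X.Modules} (s : P ⟶ P') {B B' : X.Modules} (φ : B ⟶ B') :
    tmapL P φ ≫ tmapR s B' = tmapR s B ≫ tmapL P' φ :=
  ((ModSite.tensorBi X.sheaf).map (X := (P : ModSite.Mod X.sheaf)) (Y := (P' : ModSite.Mod X.sheaf)) s).naturality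
    (X := (B : ModSite.Mod X.sheaf)) (Y := (B' : ModSite.Mod X.sheaf)) φ

/-- multiplication by the section `s` of `P`: `B ⟶ P ⊗ B`, natural in `B` -/
noncomputable def secApp (P : X.Modules) (s : Coh.structureModule X ⟶ P) (B : X.Modules) :
    B ⟶ CohB1.tensorMod P B :=
  unitInv B ≫ tmapR s B

theorem secApp_naturality (P : X.Modules) (s : Coh.structureModule X ⟶ P) {B B' : X.Modules} (φ : B ⟶ B') :
    φ ≫ secApp P s B' = secApp P s B ≫ tmapL P φ := by
  unfold secApp
  rw [← Category.assoc, unitInv_naturality, Category.assoc, tmapL_tmapR, Category.assoc]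

/-- `(P ⊗ B) ⊗ D ≅ B`, naturally in `B`, when `P ⊗ D ≅ O` -/
noncomputable def untwNat (P D : X.Modules) (e : CohB1.tensorMod P D ≅ Coh.structureModule X) :
    tL X.sheaf P ⋙ tR X.sheaf D ≅ 𝟭 (ModSite.Mod X.sheaf) :=
  Functor.isoWhiskerRight ((brd X.sheaf).app (P : ModSite.Mod X.sheaf)) (tR X.sheaf D) ≪≫
    tRTensorIso X.sheaf P D ≪≫
    (ModSite.tensorBi X.sheaf).flip.mapIso
      (X := (CohB1.tensorMod P D : ModSite.Mod X.sheaf)) (Y := (Coh.structureModule X : ModSite.Mod X.sheaf)) e ≪≫
    tRUnitIso X.sheaf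

/-- the component of `untwNat` -/
noncomputable def untwApp (P D : X.Modules) (e : CohB1.tensorMod P D ≅ Coh.structureModule X) (B : X.Modules) :
    CohB1.tensorMod (CohB1.tensorMod P B) D ⟶ B :=
  (untwNat P D e).hom.app (B : ModSite.Mod X.sheaf)

instance (P D : X.Modules) (e : CohB1.tensorMod P D ≅ Coh.structureModule X) (B : X.Modules) :
    IsIso (untwApp P D e B) :=
  (((untwNat P D e).app (B : ModSite.Mod X.sheaf))).isIso_hom

theorem untwApp_naturality (P D : X.Modules) (e : CohB1.tensorMod P D ≅ Coh.structureModule X)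
    {B B' : X.Modules} (φ : B ⟶ B') :
    tmapR (tmapL P φ) D ≫ untwApp P D e B' = untwApp P D e B ≫ φ :=
  (untwNat P D e).hom.naturality (X := (B : ModSite.Mod X.sheaf)) (Y := (B' : ModSite.Mod X.sheaf)) φ

theorem tmapR_comp {A B C : X.Modules} (φ : A ⟶ B) (ψ : B ⟶ C) (D : X.Modules) :
    tmapR (φ ≫ ψ) D = tmapR φ D ≫ tmapR ψ D :=
  (tR X.sheaf D).map_comp (X := (A : ModSite.Mod X.sheaf)) (Y := (B : ModSite.Mod X.sheaf))
    (Z := (C : ModSite.Mod X.sheaf)) φ ψ

/-- the natural multiplication `B ⊗ D ⟶ B` by the section `s` of the inverse `P` of `D` -/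
noncomputable def nuApp (P D : X.Modules) (s : Coh.structureModule X ⟶ P)
    (e : CohB1.tensorMod P D ≅ Coh.structureModule X) (B : X.Modules) : CohB1.tensorMod B D ⟶ B :=
  tmapR (secApp P s B) D ≫ untwApp P D e B

theorem nuApp_naturality (P D : X.Modules) (s : Coh.structureModule X ⟶ P)
    (e : CohB1.tensorMod P D ≅ Coh.structureModule X) {B B' : X.Modules} (φ : B ⟶ B') :
    tmapR φ D ≫ nuApp P D s e B' = nuApp P D s e B ≫ φ := by
  unfold nuApp
  rw [← Category.assoc, ← tmapR_comp, secApp_naturality, tmapR_comp, Category.assoc, untwApp_naturality,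
    Category.assoc]

theorem bijective_stalkL_secApp (P : X.Modules) (s : Coh.structureModule X ⟶ P) (B : X.Modules)
    (x : X) (hx : x ∈ CohB1.genLocus P s) : Function.Bijective (stalkL (secApp P s B) x) :=
  bijective_stalkL_comp _ _ x (bijective_stalkL_of_isIso _ x)
    (bijective_stalkL_tmapR s B x (bijective_stalkL_of_mem_genLocus P s x hx))

theorem bijective_stalkL_nuApp (P D : X.Modules) (s : Coh.structureModule X ⟶ P)
    (e : CohB1.tensorMod P D ≅ Coh.structureModule X) (B : X.Modules) (x : X)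
    (hx : x ∈ CohB1.genLocus P s) : Function.Bijective (stalkL (nuApp P D s e B) x) :=
  bijective_stalkL_comp _ _ x (bijective_stalkL_tmapR _ D x (bijective_stalkL_secApp P s B x hx))
    (bijective_stalkL_of_isIso _ x)

theorem intoPow_stalkL_secApp (P : X.Modules) (hP : PicF.IsInvertible P) (s : Coh.structureModule X ⟶ P)
    (B : X.Modules) (x : X) (hx : x ∉ CohB1.genLocus P s) : IntoPow (mx x) 1 (stalkL (secApp P s B) x) := by
  unfold secApp
  rw [stalkL_comp]
  exact IntoPow.of_equiv_left (mx x)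
    (intoPow_stalkL_tmapR s B x 1 (intoPow_stalkL_of_notMem_genLocus P hP s x hx)) _

theorem intoPow_stalkL_nuApp (P D : X.Modules) (hP : PicF.IsInvertible P) (s : Coh.structureModule X ⟶ P)
    (e : CohB1.tensorMod P D ≅ Coh.structureModule X) (B : X.Modules) (x : X)
    (hx : x ∉ CohB1.genLocus P s) : IntoPow (mx x) 1 (stalkL (nuApp P D s e B) x) := by
  unfold nuApp
  rw [stalkL_comp]
  exact IntoPow.of_equiv_right (mx x)
    (intoPow_stalkL_tmapR _ D x 1 (intoPow_stalkL_secApp P hP s B x hx)) _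

end Groth.Agent.Lib.Helper4.NegTwist
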