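import Mathlib
import Groth.Agent.Lib.Helper4NegTwistD
import Groth.Agent.Lib.Helper12GPKeyB
import Groth.Agent.Lib.Helper21ExtCartier2
import Groth.Agent.Lib.Helper20IdealModSec
import Groth.Agent.Lib.Helper13ModAffine

/-!
# `O/I₁ ⊗ O/I₂ ≅ O/(I₁ + I₂)` for quasi-coherent ideal sheaves (helper4)

* `unitors_eq` : the two unit isomorphisms `O ⊗ O ≅ O` agree.
* `idealModι_sup_comp_eq_zero` : a morphism out of `O` killing `I₁` and `I₂` kills `I₁ ⊔ I₂`.
* `nonempty_tensor_quotMod_iso` : `O/I₁ ⊗ O/I₂ ≅ O/(I₁ ⊔ I₂)`.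
-/

set_option autoImplicit false
set_option linter.style.haveILetI false
set_option backward.isDefEq.respectTransparency.types false
universe u
open CategoryTheory CategoryTheory.Limits AlgebraicGeometry TopologicalSpace Opposite MonoidalCategory

namespace Groth.Agent.Lib.Helper4.TensorQuot

open Groth.Agent.Lib.Helper23.ResProp Groth.Agent.Lib.Helper4.NegTwist
open Groth.Agent.Lib.Helper21.ModTensor2 Groth.Agent.Lib.Helper21.ModTensor3 Groth.Agent.Lib.Helper21.ModTensor5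
  Groth.Agent.Lib.Helper21.ModTensor6 Groth.Agent.Lib.Helper21.ModTensor7
  Groth.Agent.Lib.Helper21.SheafHomFree Groth.Agent.Lib.Helper21.ExtCartier
  Groth.Agent.Lib.Helper20.IdealModSec

section site

variable {C : Type u} [SmallCategory C] {J : GrothendieckTopology C} (O : Sheaf J CommRingCat.{u})

/-- the right and left unit isomorphisms agree on `O ⊗ O` -/
theorem unitors_eq :
    (tRUnitIso O).hom.app (ModSite.unit O) = (tLUnitIso O).hom.app (ModSite.unit O) := by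
  have h1 : (β_ (𝟙_ (PM O)) (𝟙_ (PM O))).hom ≫ (λ_ (𝟙_ (PM O))).hom = (λ_ (𝟙_ (PM O))).hom := by
    rw [braiding_leftUnitor, unitors_equal]
  have h2 : (β_ (𝟙_ (PM O)) (𝟙_ (PM O))).inv ≫ (λ_ (𝟙_ (PM O))).hom = (λ_ (𝟙_ (PM O))).hom := by
    rw [Iso.inv_comp_eq, h1]
  change (shf O).map (β_ (𝟙_ (PM O)) (𝟙_ (PM O))).inv ≫
    ((shf O).map (λ_ (𝟙_ (PM O))).hom ≫ (adj O).counit.app (ModSite.unit O)) =
    (shf O).map (λ_ (𝟙_ (PM O))).hom ≫ (adj O).counit.app (ModSite.unit O)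
  rw [← Category.assoc, ← Functor.map_comp, h2]

end site

variable {X : Scheme.{u}}

/-- `ρ_B : B ⊗ O ⟶ B` -/
noncomputable def rho (B : X.Modules) : CohB1.tensorMod B (Coh.structureModule X) ⟶ B :=
  (tRUnitIso X.sheaf).hom.app (B : ModSite.Mod X.sheaf)

/-- `λ_B : O ⊗ B ⟶ B` -/
noncomputable def lam (B : X.Modules) : CohB1.tensorMod (Coh.structureModule X) B ⟶ B :=
  (tLUnitIso X.sheaf).hom.app (B : ModSite.Mod X.sheaf)

instance (B : X.Modules) : IsIso (rho B) :=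
  (((tRUnitIso X.sheaf).app (B : ModSite.Mod X.sheaf))).isIso_hom

instance (B : X.Modules) : IsIso (lam B) :=
  (((tLUnitIso X.sheaf).app (B : ModSite.Mod X.sheaf))).isIso_hom

theorem rho_naturality {B B' : X.Modules} (φ : B ⟶ B') :
    tmapR φ (Coh.structureModule X) ≫ rho B' = rho B ≫ φ :=
  (tRUnitIso X.sheaf).hom.naturality (X := (B : ModSite.Mod X.sheaf)) (Y := (B' : ModSite.Mod X.sheaf)) φ

theorem lam_naturality {B B' : X.Modules} (φ : B ⟶ B') :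
    tmapL (Coh.structureModule X) φ ≫ lam B' = lam B ≫ φ :=
  (tLUnitIso X.sheaf).hom.naturality (X := (B : ModSite.Mod X.sheaf)) (Y := (B' : ModSite.Mod X.sheaf)) φ

theorem rho_unit : rho (Coh.structureModule X) = lam (Coh.structureModule X) :=
  unitors_eq X.sheaf

theorem tmapL_comp (P : X.Modules) {A B C : X.Modules} (φ : A ⟶ B) (ψ : B ⟶ C) :
    tmapL P (φ ≫ ψ) = tmapL P φ ≫ tmapL P ψ :=
  (tL X.sheaf P).map_comp (X := (A : ModSite.Mod X.sheaf)) (Y := (B : ModSite.Mod X.sheaf))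
    (Z := (C : ModSite.Mod X.sheaf)) φ ψ

theorem tmapL_zero (P A B : X.Modules) : tmapL P (0 : A ⟶ B) = 0 :=
  (tL X.sheaf P).map_zero (A : ModSite.Mod X.sheaf) (B : ModSite.Mod X.sheaf)

theorem tmapR_zero (A B D : X.Modules) : tmapR (0 : A ⟶ B) D = 0 :=
  (tR X.sheaf D).map_zero (A : ModSite.Mod X.sheaf) (B : ModSite.Mod X.sheaf)

instance epi_tmapL (P : X.Modules) {A B : X.Modules} (p : A ⟶ B) [hp : Epi p] : Epi (tmapL P p) := by
  haveI : (tL X.sheaf P).PreservesEpimorphisms := inferInstance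
  exact @Functor.map_epi _ _ _ _ (tL X.sheaf P) _ (A : ModSite.Mod X.sheaf) (B : ModSite.Mod X.sheaf) p hp

/-- right exactness of `P ⊗ -` on short complexes -/
theorem exact_tmapL (S : ShortComplex X.Modules) (hS : S.Exact) [hg : Epi S.g] (P : X.Modules) :
    ∃ h : tmapL P S.f ≫ tmapL P S.g = 0,
      (ShortComplex.mk (tmapL P S.f) (tmapL P S.g) h).Exact := by
  let S' : ShortComplex (ModSite.Mod X.sheaf) := S
  have hS' : S'.Exact := hS
  have hg' : Epi S'.g := hg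
  have hex := hS'.map_of_epi_of_preservesCokernel (tL X.sheaf P) hg' inferInstance
  exact ⟨(S'.map (tL X.sheaf P)).zero, hex⟩


section abelian

variable {𝒜 : Type*} [Category 𝒜] [Abelian 𝒜]

/-- two quotients of the same object with the same kernel are isomorphic -/
theorem nonempty_iso_of_epi_of_kernel {A B C : 𝒜} (p : A ⟶ B) (q : A ⟶ C) [Epi p] [Epi q]
    (h1 : kernel.ι p ≫ q = 0) (h2 : kernel.ι q ≫ p = 0) : Nonempty (B ≅ C) := by
  refine ⟨⟨Abelian.epiDesc p q h1, Abelian.epiDesc q p h2, ?_, ?_⟩⟩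
  · rw [← cancel_epi p, ← Category.assoc, Abelian.comp_epiDesc, Abelian.comp_epiDesc, Category.comp_id]
  · rw [← cancel_epi q, ← Category.assoc, Abelian.comp_epiDesc, Abelian.comp_epiDesc, Category.comp_id]

end abelian

theorem toSubscheme_app_eq_zero_iff (I : X.IdealSheafData) (V : X.affineOpens) (a : Γ(X, V.1)) :
    (ClSub.toSubscheme I).app V.1 (a : Γ(Coh.structureModule X, V.1)) = 0 ↔ a ∈ I.ideal V := by
  rw [← I.ker_subschemeι_app V, RingHom.mem_ker]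
  rfl

theorem comp_app_apply {A B C : X.Modules} (f : A ⟶ B) (g : B ⟶ C) (V : X.Opens) (a : Γ(A, V)) :
    (f ≫ g).app V a = g.app V (f.app V a) := rfl

theorem zero_app_apply {A B : X.Modules} (V : X.Opens) (a : Γ(A, V)) :
    (0 : A ⟶ B).app V a = 0 := rfl

/-- `I ⟶ O ⟶ O/J` vanishes when `I ≤ J` -/
theorem idealModι_comp_toSubscheme_of_le {I J : X.IdealSheafData} (h : I ≤ J) :
    ClSub.idealModι I ≫ ClSub.toSubscheme J = 0 := by
  apply Groth.Agent.Helper13ModAffine.hom_ext_affine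
  intro U hU
  ext j
  rw [comp_app_apply, zero_app_apply]
  have h0 := ι_toSubscheme I U j
  rw [toSubscheme_app_eq_zero_iff I ⟨U, hU⟩] at h0
  rw [toSubscheme_app_eq_zero_iff J ⟨U, hU⟩]
  exact Scheme.IdealSheafData.ideal_mono h ⟨U, hU⟩ h0

/-- a morphism out of `O` killing `I₁` and `I₂` kills `I₁ ⊔ I₂` -/
theorem idealModι_sup_comp_eq_zero (I₁ I₂ : X.IdealSheafData) {W : X.Modules}
    (h : Coh.structureModule X ⟶ W)
    (h1 : ClSub.idealModι I₁ ≫ h = 0) (h2 : ClSub.idealModι I₂ ≫ h = 0) :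
    ClSub.idealModι (I₁ ⊔ I₂) ≫ h = 0 := by
  apply Groth.Agent.Helper13ModAffine.hom_ext_affine
  intro U hU
  ext j
  rw [comp_app_apply, zero_app_apply]
  have h0 := ι_toSubscheme (I₁ ⊔ I₂) U j
  rw [toSubscheme_app_eq_zero_iff (I₁ ⊔ I₂) ⟨U, hU⟩] at h0
  obtain ⟨a, ha⟩ : ∃ a : Γ(X, U), a = (ClSub.idealModι (I₁ ⊔ I₂)).app U j := ⟨_, rfl⟩
  have h0' : a ∈ (I₁.ideal ⟨U, hU⟩ ⊔ I₂.ideal ⟨U, hU⟩ : Ideal Γ(X, U)) := ha ▸ h0
  obtain ⟨a1, ha1, a2, ha2, hsum⟩ := Submodule.mem_sup.1 h0'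
  obtain ⟨j1, hj1⟩ := exists_eq_ι I₁ U (a1 : Γ(Coh.structureModule X, U))
    ((toSubscheme_app_eq_zero_iff I₁ ⟨U, hU⟩ a1).2 ha1)
  obtain ⟨j2, hj2⟩ := exists_eq_ι I₂ U (a2 : Γ(Coh.structureModule X, U))
    ((toSubscheme_app_eq_zero_iff I₂ ⟨U, hU⟩ a2).2 ha2)
  have e1 : h.app U ((ClSub.idealModι I₁).app U j1) = 0 := by
    rw [← comp_app_apply, h1, zero_app_apply]
  have e2 : h.app U ((ClSub.idealModι I₂).app U j2) = 0 := by
    rw [← comp_app_apply, h2, zero_app_apply]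
  have hs : (ClSub.idealModι (I₁ ⊔ I₂)).app U j =
      (ClSub.idealModι I₁).app U j1 + (ClSub.idealModι I₂).app U j2 := by
    rw [hj1, hj2, ← ha]
    exact hsum.symm
  rw [hs, map_add, e1, e2, add_zero]

section Main

variable (I₁ I₂ : X.IdealSheafData)

/-- the natural quotient map `O/I₁ ⟶ O/(I₁ ⊔ I₂)` -/
noncomputable def quotLeft : ClSub.quotMod I₁ ⟶ ClSub.quotMod (I₁ ⊔ I₂) :=
  Abelian.epiDesc (ClSub.toSubscheme I₁) (ClSub.toSubscheme (I₁ ⊔ I₂))
    (idealModι_comp_toSubscheme_of_le (le_sup_left : I₁ ≤ I₁ ⊔ I₂))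

theorem toSubscheme_quotLeft :
    ClSub.toSubscheme I₁ ≫ quotLeft I₁ I₂ = ClSub.toSubscheme (I₁ ⊔ I₂) :=
  Abelian.comp_epiDesc _ _ _

/-- the quotient map `O ⟶ O/I₁ ⊗ O/I₂` -/
noncomputable def theta : Coh.structureModule X ⟶ CohB1.tensorMod (ClSub.quotMod I₁) (ClSub.quotMod I₂) :=
  unitInv (Coh.structureModule X) ≫ tmapR (ClSub.toSubscheme I₁) (Coh.structureModule X) ≫
    tmapL (ClSub.quotMod I₁) (ClSub.toSubscheme I₂)

instance : Epi (theta I₁ I₂) := by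
  unfold theta
  infer_instance

theorem unitInv_lam (B : X.Modules) : unitInv B ≫ lam B = 𝟙 B :=
  (tLUnitIso X.sheaf).inv_hom_id_app (B : ModSite.Mod X.sheaf)

theorem unitInv_eq_inv_rho : unitInv (Coh.structureModule X) = inv (rho (Coh.structureModule X)) := by
  apply IsIso.eq_inv_of_inv_hom_id
  rw [rho_unit]
  exact unitInv_lam _

theorem idealModι₂_theta : ClSub.idealModι I₂ ≫ theta I₁ I₂ = 0 := by
  unfold theta
  rw [← Category.assoc, unitInv_naturality, Category.assoc, ← Category.assoc (tmapL _ _),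
    tmapL_tmapR, Category.assoc, ← tmapL_comp]
  have h0 : ClSub.idealModι I₂ ≫ ClSub.toSubscheme I₂ = 0 := kernel.condition _
  rw [h0, tmapL_zero, comp_zero, comp_zero]

theorem idealModι₁_theta : ClSub.idealModι I₁ ≫ theta I₁ I₂ = 0 := by
  unfold theta
  have hnat := rho_naturality (ClSub.idealModι I₁)
  have h1 : ClSub.idealModι I₁ ≫ inv (rho (Coh.structureModule X)) =
      inv (rho (ClSub.idealMod I₁)) ≫ tmapR (ClSub.idealModι I₁) (Coh.structureModule X) := by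
    rw [IsIso.comp_inv_eq, Category.assoc, hnat, IsIso.inv_hom_id_assoc]
  rw [unitInv_eq_inv_rho, ← Category.assoc, h1, Category.assoc, ← Category.assoc (tmapR _ _),
    ← tmapR_comp]
  have h0 : ClSub.idealModι I₁ ≫ ClSub.toSubscheme I₁ = 0 := kernel.condition _
  rw [h0, tmapR_zero, zero_comp, comp_zero]

/-- `O/I₁ ⊗ O ⟶ O/(I₁ ⊔ I₂)` -/
noncomputable def g₂ : CohB1.tensorMod (ClSub.quotMod I₁) (Coh.structureModule X) ⟶ ClSub.quotMod (I₁ ⊔ I₂) :=
  rho (ClSub.quotMod I₁) ≫ quotLeft I₁ I₂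

theorem tmapL_idealModι_g₂ :
    tmapL (ClSub.quotMod I₁) (ClSub.idealModι I₂) ≫ g₂ I₁ I₂ = 0 := by
  rw [← cancel_epi (tmapR (ClSub.toSubscheme I₁) (ClSub.idealMod I₂))]
  unfold g₂
  rw [comp_zero, ← Category.assoc, ← tmapL_tmapR, Category.assoc, ← Category.assoc (tmapR _ _),
    rho_naturality, Category.assoc, toSubscheme_quotLeft, rho_unit, ← Category.assoc, lam_naturality,
    Category.assoc, idealModι_comp_toSubscheme_of_le (le_sup_right : I₂ ≤ I₁ ⊔ I₂), comp_zero]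

theorem exists_psi : ∃ ψ : CohB1.tensorMod (ClSub.quotMod I₁) (ClSub.quotMod I₂) ⟶ ClSub.quotMod (I₁ ⊔ I₂),
    theta I₁ I₂ ≫ ψ = ClSub.toSubscheme (I₁ ⊔ I₂) := by
  haveI : Epi (idealSES I₂).g := (idealSES_shortExact I₂).epi_g
  obtain ⟨hz, hex⟩ := exact_tmapL (idealSES I₂) (idealSES_shortExact I₂).exact (ClSub.quotMod I₁)
  haveI : Epi (ShortComplex.mk (tmapL (ClSub.quotMod I₁) (idealSES I₂).f)
      (tmapL (ClSub.quotMod I₁) (idealSES I₂).g) hz).g :=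
    epi_tmapL (ClSub.quotMod I₁) (idealSES I₂).g
  refine ⟨hex.desc (g₂ I₁ I₂) (tmapL_idealModι_g₂ I₁ I₂), ?_⟩
  have hd : tmapL (ClSub.quotMod I₁) (ClSub.toSubscheme I₂) ≫
      hex.desc (g₂ I₁ I₂) (tmapL_idealModι_g₂ I₁ I₂) = g₂ I₁ I₂ := hex.g_desc _ _
  unfold theta
  rw [Category.assoc, Category.assoc, hd]
  unfold g₂
  rw [← Category.assoc (tmapR _ _), rho_naturality, Category.assoc, toSubscheme_quotLeft, rho_unit,
    ← Category.assoc, unitInv_lam, Category.id_comp]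

/-- `O/I₁ ⊗ O/I₂ ≅ O/(I₁ ⊔ I₂)` -/
theorem nonempty_tensor_quotMod_iso :
    Nonempty (CohB1.tensorMod (ClSub.quotMod I₁) (ClSub.quotMod I₂) ≅ ClSub.quotMod (I₁ ⊔ I₂)) := by
  obtain ⟨ψ, hψ⟩ := exists_psi I₁ I₂
  refine nonempty_iso_of_epi_of_kernel (theta I₁ I₂) (ClSub.toSubscheme (I₁ ⊔ I₂)) ?_ ?_
  · rw [← hψ, ← Category.assoc, kernel.condition, zero_comp]
  · exact idealModι_sup_comp_eq_zero I₁ I₂ (theta I₁ I₂) (idealModι₁_theta I₁ I₂) (idealModι₂_theta I₁ I₂)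

end Main

end Groth.Agent.Lib.Helper4.TensorQuot
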