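import Mathlib
import Groth.Agent.Lib.Helper4TensorQuot
import Groth.Agent.Lib.Helper23UnitStalk
import Groth.Agent.Lib.Helper4DevA
import Groth.Agent.Lib.Helper28Unmixed
import Groth.Agent.Lib.Helper28CMFib1
import Groth.Prelude.Def_FGA

/-!
# An effective Cartier divisor on a Cohen–Macaulay scheme has no embedded points (helper4)

* `quotStalkMap D x : O_{X,x} → (O_X/I_D)_x`, surjective with kernel generated by a local equation of `D`.
* `not_isAssPoint_quotMod` : if `O_{X,x}` is Cohen–Macaulay of dimension `≥ 2` and `D` is an effective Cartier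
  divisor, then `x` is not an associated point of `O_D`.
-/

set_option autoImplicit false
set_option linter.style.haveILetI false
universe u
open CategoryTheory CategoryTheory.Limits AlgebraicGeometry TopologicalSpace Opposite

namespace Groth.Agent.Lib.Helper4.CartAss

open Groth.Agent.Lib.Helper4.Dev Groth.Agent.Lib.Helper23.UnitStalk Groth.Agent.Lib.Helper23.GenLocus
  Groth.Agent.Lib.Helper4.TensorQuot

variable {X : Scheme.{u}}

theorem app_map {A B : X.Modules} (m : A ⟶ B) {W W' : X.Opens} (i : W' ⟶ W) (s : Γ(A, W)) :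
    m.app W' (A.presheaf.map i.op s) = B.presheaf.map i.op (m.app W s) := by
  have := m.mapPresheaf.naturality i.op
  exact congrArg (fun φ => φ s) this

/-- `O_{X,x} ⟶ (O_X/I_D)_x` -/
noncomputable def quotStalkMap (D : X.IdealSheafData) (x : X) :
    X.presheaf.stalk x →ₗ[X.presheaf.stalk x] (ClSub.quotMod D).presheaf.stalk x :=
  (stalkL (ClSub.toSubscheme D) x).comp (toUnitStalk x)

theorem quotStalkMap_germ (D : X.IdealSheafData) (x : X) (W : X.Opens) (hx : x ∈ W) (a : Γ(X, W)) :
    quotStalkMap D x (X.presheaf.germ W x hx a) =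
      (ClSub.quotMod D).presheaf.germ W x hx ((ClSub.toSubscheme D).app W (toS W a)) := by
  unfold quotStalkMap
  rw [LinearMap.comp_apply, toUnitStalk_germ, stalkL_germ]

theorem quotStalkMap_surjective (D : X.IdealSheafData) (x : X) :
    Function.Surjective (quotStalkMap D x) :=
  (stalkL_surjective_of_epi (ClSub.toSubscheme D) x).comp (toUnitStalk_surjective x)

theorem ker_quotStalkMap (D : X.IdealSheafData) (U : X.affineOpens) (x : X) (hxU : x ∈ U.1)
    (b : Γ(X, U.1)) (hb : D.ideal U = Ideal.span {b}) :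
    LinearMap.ker (quotStalkMap D x) = Ideal.span {X.presheaf.germ U.1 x hxU b} := by
  apply le_antisymm
  · intro r hr
    rw [LinearMap.mem_ker] at hr
    obtain ⟨V, hxV, s, rfl⟩ := X.presheaf.exists_germ_eq (x := x) r
    rw [quotStalkMap_germ] at hr
    -- the section vanishes on a smaller open
    have h0 : (ClSub.quotMod D).presheaf.germ V x hxV ((ClSub.toSubscheme D).app V (toS V s)) =
        (ClSub.quotMod D).presheaf.germ V x hxV 0 := by rw [hr, map_zero]
    obtain ⟨W, hxW, iV, iV', hW⟩ := TopCat.Presheaf.germ_eq (ClSub.quotMod D).presheaf x hxV hxV _ _ h0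
    rw [map_zero] at hW
    -- a basic open of `U` inside `W`
    obtain ⟨f, hfW, hxf0⟩ := U.2.exists_basicOpen_le (V := W) ⟨x, hxW⟩ hxU
    have hxf : x ∈ X.basicOpen f := hxf0
    have hW'V : X.basicOpen f ≤ V := hfW.trans iV.le
    obtain ⟨s', hs'⟩ : ∃ s' : Γ(X, X.basicOpen f), s' = X.presheaf.map (homOfLE hW'V).op s := ⟨_, rfl⟩
    have hzero : (ClSub.toSubscheme D).app (X.basicOpen f) (toS (X.basicOpen f) s') = 0 := by
      have e1 : toS (X.basicOpen f) s' =
          (Coh.structureModule X).presheaf.map (homOfLE hW'V).op (toS V s) := by rw [hs']; rfl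
      rw [e1, app_map]
      have e2 : (homOfLE hW'V) = homOfLE hfW ≫ iV := rfl
      rw [e2, op_comp, Functor.map_comp]
      change (ClSub.quotMod D).presheaf.map (homOfLE hfW).op
        ((ClSub.quotMod D).presheaf.map iV.op ((ClSub.toSubscheme D).app V (toS V s))) = 0
      rw [hW, map_zero]
    have hmem : s' ∈ D.ideal (X.affineBasicOpen f) :=
      (toSubscheme_app_eq_zero_iff D (X.affineBasicOpen f) s').1 hzero
    have hmap := D.map_ideal_basicOpen U f
    rw [hb, Ideal.map_span, Set.image_singleton] at hmap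
    have hmem' : s' ∈ Ideal.span {(X.presheaf.map (homOfLE (X.basicOpen_le f)).op).hom b} := by
      rw [hmap]
      exact hmem
    obtain ⟨c, hc⟩ := Ideal.mem_span_singleton'.1 hmem'
    have hg : X.presheaf.germ V x hxV s = X.presheaf.germ (X.basicOpen f) x hxf s' := by
      rw [hs']
      exact (X.presheaf.germ_res_apply (homOfLE hW'V) x hxf s).symm
    have hb' : X.presheaf.germ (X.basicOpen f) x hxf
        ((X.presheaf.map (homOfLE (X.basicOpen_le f)).op).hom b) = X.presheaf.germ U.1 x hxU b :=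
      X.presheaf.germ_res_apply (homOfLE (X.basicOpen_le f)) x hxf b
    have hfin : X.presheaf.germ V x hxV s =
        X.presheaf.germ (X.basicOpen f) x hxf c * X.presheaf.germ U.1 x hxU b := by
      rw [hg, ← hc, map_mul, hb']
    rw [hfin]
    exact Ideal.mul_mem_left _ _ (Ideal.subset_span rfl)
  · rw [Ideal.span_le, Set.singleton_subset_iff, SetLike.mem_coe, LinearMap.mem_ker, quotStalkMap_germ]
    have : (ClSub.toSubscheme D).app U.1 (toS U.1 b) = 0 := by
      apply (toSubscheme_app_eq_zero_iff D U b).2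
      rw [hb]
      exact Ideal.subset_span rfl
    rw [this, map_zero]

/-- local algebra: in a Cohen–Macaulay local ring of dimension `≥ 2`, the maximal ideal is not associated to
`R/(b)` for a nonzerodivisor `b` -/
theorem not_isAssociatedPrime_quot_span_singleton {R : Type u} [CommRing R]
    [hR : LocCoh.IsCohenMacaulayLocalRing R] (hdim : (2 : WithBot ℕ∞) ≤ ringKrullDim R)
    (b : R) (hb : b ∈ nonZeroDivisors R) :
    ¬ IsAssociatedPrime (IsLocalRing.maximalIdeal R) (R ⧸ (Ideal.span {b} : Ideal R)) := by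
  intro hass
  haveI : LocCoh.IsCohenMacaulayRing R :=
    Groth.Agent.Lib.Helper28.CMFib.isCohenMacaulayRing_of_isCohenMacaulayLocalRing R
  have hof : (Ideal.ofList [b] • ⊤ : Submodule R R) = (Ideal.span {b} : Ideal R) := by
    rw [smul_eq_mul, Ideal.mul_top]
    simp [Ideal.ofList]
  let e : (R ⧸ (Ideal.span {b} : Ideal R)) ≃ₗ[R] (R ⧸ (Ideal.ofList [b] • ⊤ : Submodule R R)) :=
    Submodule.quotEquivOfEq _ _ hof.symm
  have hass' : IsLocalRing.maximalIdeal R ∈
      associatedPrimes R (R ⧸ (Ideal.ofList [b] • ⊤ : Submodule R R)) :=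
    (e.isAssociatedPrime_iff).1 hass
  have hlen : (([b] : List R).length : ℕ∞) ≤ (Ideal.ofList [b]).height := by
    have h1 := Ideal.one_le_height_span_singleton_of_mem_nonZeroDivisors hb
    have h2 : Ideal.ofList [b] = Ideal.span {b} := by simp [Ideal.ofList]
    rw [h2]
    simpa using h1
  have hht := Groth.Agent.Lib.Helper28.height_eq_length_of_mem_associatedPrimes_quot_ofList [b] hlen hass'
  rw [← IsLocalRing.maximalIdeal_height_eq_ringKrullDim, hht] at hdim
  simp only [List.length_singleton, Nat.cast_one] at hdim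
  have : ((2 : ℕ∞) : WithBot ℕ∞) ≤ ((1 : ℕ∞) : WithBot ℕ∞) := hdim
  rw [WithBot.coe_le_coe] at this
  exact absurd this (by decide)

/-- **no embedded points**: if `O_{X,x}` is Cohen–Macaulay of dimension `≥ 2`, then `x` is not an associated point of
an effective Cartier divisor -/
theorem not_isAssPoint_quotMod (D : X.IdealSheafData) (hD : FGA.IsEffCartier D) (x : X)
    (hCM : LocCoh.IsCohenMacaulayLocalRing (X.presheaf.stalk x))
    (hdim : (2 : WithBot ℕ∞) ≤ ringKrullDim (X.presheaf.stalk x)) :
    ¬ Curv2.IsAssPoint (ClSub.quotMod D) x := by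
  obtain ⟨U, hxU, b, hb, hDb⟩ := hD x
  intro hass
  have hker := ker_quotStalkMap D U x hxU b hDb
  letI alg : Algebra Γ(X, U.1) (X.presheaf.stalk x) := X.presheaf.algebra_section_stalk ⟨x, hxU⟩
  haveI loc : IsLocalization.AtPrime (X.presheaf.stalk x) (U.2.primeIdealOf ⟨x, hxU⟩).asIdeal :=
    U.2.isLocalization_stalk ⟨x, hxU⟩
  have hnzd : X.presheaf.germ U.1 x hxU b ∈ nonZeroDivisors (X.presheaf.stalk x) :=
    IsLocalization.map_nonZeroDivisors_le (U.2.primeIdealOf ⟨x, hxU⟩).asIdeal.primeCompl
      (X.presheaf.stalk x) ⟨b, hb, rfl⟩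
  let e1 : (X.presheaf.stalk x ⧸ LinearMap.ker (quotStalkMap D x)) ≃ₗ[X.presheaf.stalk x]
      (ClSub.quotMod D).presheaf.stalk x :=
    (quotStalkMap D x).quotKerEquivOfSurjective (quotStalkMap_surjective D x)
  let e2 : (X.presheaf.stalk x ⧸ LinearMap.ker (quotStalkMap D x)) ≃ₗ[X.presheaf.stalk x]
      (X.presheaf.stalk x ⧸ (Ideal.span {X.presheaf.germ U.1 x hxU b} : Ideal (X.presheaf.stalk x))) :=
    Submodule.quotEquivOfEq _ _ hker
  have h1 : IsAssociatedPrime (IsLocalRing.maximalIdeal (X.presheaf.stalk x))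
      (X.presheaf.stalk x ⧸ (Ideal.span {X.presheaf.germ U.1 x hxU b} : Ideal (X.presheaf.stalk x))) :=
    (e2.isAssociatedPrime_iff).1 ((e1.isAssociatedPrime_iff).2 hass)
  exact not_isAssociatedPrime_quot_span_singleton hdim _ hnzd h1

end Groth.Agent.Lib.Helper4.CartAss
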