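import Groth.Agent.Lib.Helper4TwoChart
import Mathlib.AlgebraicGeometry.AffineScheme
import Mathlib.AlgebraicGeometry.FunctionField

/-!
# Dictionary for an affine chart `ι : Spec R ⟶ X` (helper4)

`chartOpen ι = ι ''ᵁ ⊤`, `chartIso ι : Γ(X, chartOpen ι) ≅ R`, `chart_fac`, `primeIdealOf_chart`,
`exists_of_mem_basicOpen`, `chartIso_kappa`, `chartIso_comp`, `algebraMap_mul_eq_one`.
-/

set_option autoImplicit false
set_option linter.style.haveILetI false
universe u

open CategoryTheory AlgebraicGeometry TopologicalSpace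

namespace Groth.Agent.Lib.Helper4.Chart

variable {X : Scheme.{u}} {R : CommRingCat.{u}} (ι : Spec R ⟶ X) [IsOpenImmersion ι]

noncomputable abbrev chartOpen : X.Opens := ι ''ᵁ ⊤

lemma isAffineOpen_chartOpen : IsAffineOpen (chartOpen ι) :=
  (isAffineOpen_top (Spec R)).image_of_isOpenImmersion ι

lemma mem_chartOpen (p : Spec R) : ι p ∈ chartOpen ι := ⟨p, trivial, rfl⟩

lemma exists_of_mem_chartOpen {x : X} (hx : x ∈ chartOpen ι) : ∃ p : Spec R, ι p = x := by
  obtain ⟨p, -, rfl⟩ := hx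
  exact ⟨p, rfl⟩

lemma top_le_preimage : (⊤ : (Spec R).Opens) ≤ ι ⁻¹ᵁ chartOpen ι :=
  fun p _ => mem_chartOpen ι p

noncomputable def chartIso : Γ(X, chartOpen ι) ≅ R :=
  ι.appIso ⊤ ≪≫ Scheme.ΓSpecIso R

lemma chartIso_hom :
    (chartIso ι).hom = ι.appLE (chartOpen ι) ⊤ (top_le_preimage ι) ≫ (Scheme.ΓSpecIso R).hom := by
  unfold chartIso
  rw [Iso.trans_hom, Scheme.Hom.appIso_hom']

lemma chart_fac :
    Spec.map (chartIso ι).hom ≫ (isAffineOpen_chartOpen ι).fromSpec = ι := by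
  rw [chartIso_hom, Spec.map_comp, Category.assoc,
    IsAffineOpen.SpecMap_appLE_fromSpec ι (isAffineOpen_chartOpen ι) (isAffineOpen_top _),
    IsAffineOpen.fromSpec_top, Scheme.isoSpec_Spec_inv, ← Category.assoc, ← Spec.map_comp,
    Iso.inv_hom_id, Spec.map_id, Category.id_comp]

lemma primeIdealOf_chart (p : Spec R) :
    (isAffineOpen_chartOpen ι).primeIdealOf ⟨ι p, mem_chartOpen ι p⟩ =
      Spec.map (chartIso ι).hom p := by
  apply (isAffineOpen_chartOpen ι).fromSpec.isOpenEmbedding.injective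
  rw [(isAffineOpen_chartOpen ι).fromSpec_primeIdealOf, ← Scheme.Hom.comp_apply, chart_fac]

/-- Points of the basic open of a section over the chart. -/
lemma exists_of_mem_basicOpen (s : R) {x : X}
    (hx : x ∈ X.basicOpen ((chartIso ι).inv.hom s)) :
    ∃ p : Spec R, s ∉ p.asIdeal ∧ ι p = x := by
  obtain ⟨p, rfl⟩ := exists_of_mem_chartOpen ι (X.basicOpen_le _ hx)
  refine ⟨p, ?_, rfl⟩
  have h1 : ι p = (isAffineOpen_chartOpen ι).fromSpec (Spec.map (chartIso ι).hom p) := by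
    rw [← Scheme.Hom.comp_apply, chart_fac]
  rw [h1] at hx
  have h2 : Spec.map (chartIso ι).hom p ∈
      (isAffineOpen_chartOpen ι).fromSpec ⁻¹ᵁ X.basicOpen ((chartIso ι).inv.hom s) := hx
  rw [(isAffineOpen_chartOpen ι).fromSpec_preimage_basicOpen] at h2
  intro hs
  apply h2
  change (chartIso ι).hom.hom ((chartIso ι).inv.hom s) ∈ p.asIdeal
  have : (chartIso ι).hom.hom ((chartIso ι).inv.hom s) = s := by
    rw [← RingHom.comp_apply, ← CommRingCat.hom_comp, Iso.inv_hom_id]; rfl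
  rw [this]
  exact hs

/-- The structure map of the chart. -/
lemma chartIso_kappa {k : Type u} [Field k] (f : X ⟶ Spec (CommRingCat.of k))
    (ψ : CommRingCat.of k ⟶ R) (h : ι ≫ f = Spec.map ψ) (c : k) :
    (chartIso ι).hom.hom (TwoChart.kappa f (chartOpen ι) c) = ψ.hom c := by
  have key : ∀ (g : Spec R ⟶ Spec (CommRingCat.of k)), g = Spec.map ψ → ∀ e,
      g.appLE ⊤ ⊤ e ≫ (Scheme.ΓSpecIso R).hom = (Scheme.ΓSpecIso (CommRingCat.of k)).hom ≫ ψ := by
    rintro _ rfl e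
    rw [← Scheme.ΓSpecIso_naturality]
    congr 1
  unfold TwoChart.kappa
  rw [chartIso_hom]
  have h2 := Scheme.Hom.appLE_comp_appLE ι f ⊤ (chartOpen ι) ⊤
    (fun _ _ => Opens.mem_top _) (top_le_preimage ι)
  have h3 := key (ι ≫ f) h (fun _ _ => Opens.mem_top _)
  rw [← h2, Category.assoc] at h3
  have := congrArg (fun φ => φ.hom ((Scheme.ΓSpecIso (CommRingCat.of k)).inv.hom c)) h3
  simp only [CommRingCat.hom_comp, RingHom.comp_apply] at this ⊢
  rw [this]
  congr 1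
  rw [← RingHom.comp_apply, ← CommRingCat.hom_comp, Iso.inv_hom_id]; rfl

lemma appLE_top_ΓSpecIso {C : CommRingCat.{u}} (φ : R ⟶ C) (e) :
    (Spec.map φ).appLE ⊤ ⊤ e ≫ (Scheme.ΓSpecIso C).hom = (Scheme.ΓSpecIso R).hom ≫ φ := by
  rw [← Scheme.ΓSpecIso_naturality]
  congr 1

lemma chartOpen_comp_le {C : CommRingCat.{u}} (φ : R ⟶ C) [IsOpenImmersion (Spec.map φ)] :
    chartOpen (Spec.map φ ≫ ι) ≤ chartOpen ι := by
  rintro _ ⟨q, -, rfl⟩
  exact ⟨Spec.map φ q, trivial, (Scheme.Hom.comp_apply _ _ _).symm⟩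

/-- restriction to a smaller chart -/
lemma chartIso_comp {C : CommRingCat.{u}} (φ : R ⟶ C) [IsOpenImmersion (Spec.map φ)] :
    X.presheaf.map (homOfLE (chartOpen_comp_le ι φ)).op ≫ (chartIso (Spec.map φ ≫ ι)).hom =
      (chartIso ι).hom ≫ φ := by
  rw [chartIso_hom, chartIso_hom, Scheme.Hom.map_appLE_assoc, Category.assoc,
    ← appLE_top_ΓSpecIso φ (fun _ _ => Opens.mem_top _), ← Category.assoc]
  congr 1

lemma chartIso_comp' {C : CommRingCat.{u}} (φ : R ⟶ C) [IsOpenImmersion (Spec.map φ)]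
    (j : Spec C ⟶ X) [IsOpenImmersion j] (hj : j = Spec.map φ ≫ ι)
    (hle : chartOpen j ≤ chartOpen ι) :
    X.presheaf.map (homOfLE hle).op ≫ (chartIso j).hom = (chartIso ι).hom ≫ φ := by
  subst hj
  exact chartIso_comp ι φ

lemma chartIso_hom_inv_apply (s : R) : (chartIso ι).hom.hom ((chartIso ι).inv.hom s) = s := by
  rw [← RingHom.comp_apply, ← CommRingCat.hom_comp, Iso.inv_hom_id]; rfl

/-- the function field can be computed from a smaller open -/
lemma algebraMap_res [IsIntegral X] {U W : X.Opens} [Nonempty U] [Nonempty W] (h : W ≤ U)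
    (a : Γ(X, U)) :
    algebraMap Γ(X, W) X.functionField ((X.presheaf.map (homOfLE h).op).hom a) =
      algebraMap Γ(X, U) X.functionField a := by
  change (X.germToFunctionField W).hom _ = (X.germToFunctionField U).hom a
  exact TopCat.Presheaf.germ_res_apply _ _ _ _ _

theorem algebraMap_mul_eq_one [IsIntegral X] {R₁ C : CommRingCat.{u}}
    (ι₁ : Spec R₁ ⟶ X) [IsOpenImmersion ι₁] (φ₀ : R ⟶ C) (φ₁ : R₁ ⟶ C)
    [IsOpenImmersion (Spec.map φ₀)] [IsOpenImmersion (Spec.map φ₁)]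
    (hglue : Spec.map φ₀ ≫ ι = Spec.map φ₁ ≫ ι₁) [Nonempty (Spec C)]
    [Nonempty (chartOpen ι)] [Nonempty (chartOpen ι₁)]
    (s₀ : R) (s₁ : R₁) (hs : φ₀.hom s₀ * φ₁.hom s₁ = 1) :
    algebraMap Γ(X, chartOpen ι) X.functionField ((chartIso ι).inv.hom s₀) *
      algebraMap Γ(X, chartOpen ι₁) X.functionField ((chartIso ι₁).inv.hom s₁) = 1 := by
  let j : Spec C ⟶ X := Spec.map φ₀ ≫ ι
  have hle₀ : chartOpen j ≤ chartOpen ι := chartOpen_comp_le ι φ₀
  have hle₁ : chartOpen j ≤ chartOpen ι₁ := by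
    rintro _ ⟨q, -, rfl⟩
    refine ⟨Spec.map φ₁ q, trivial, ?_⟩
    change ι₁ (Spec.map φ₁ q) = (Spec.map φ₀ ≫ ι) q
    rw [hglue, Scheme.Hom.comp_apply]
  haveI : Nonempty (chartOpen j) := ⟨⟨j (Classical.arbitrary _), mem_chartOpen j _⟩⟩
  rw [← algebraMap_res hle₀, ← algebraMap_res hle₁, ← map_mul]
  have h0 := congrArg (fun ψ => ψ.hom ((chartIso ι).inv.hom s₀)) (chartIso_comp' ι φ₀ j rfl hle₀)
  have h1 := congrArg (fun ψ => ψ.hom ((chartIso ι₁).inv.hom s₁))
    (chartIso_comp' ι₁ φ₁ j hglue hle₁)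
  simp only [CommRingCat.hom_comp, RingHom.comp_apply, chartIso_hom_inv_apply] at h0 h1
  have h2 : (chartIso j).hom.hom
      ((X.presheaf.map (homOfLE hle₀).op).hom ((chartIso ι).inv.hom s₀) *
        (X.presheaf.map (homOfLE hle₁).op).hom ((chartIso ι₁).inv.hom s₁)) =
      (chartIso j).hom.hom 1 := by
    rw [map_mul, h0, h1, hs, map_one]
  have hinj : Function.Injective (chartIso j).hom.hom := by
    intro a b hab
    have := congrArg (chartIso j).inv.hom hab
    simpa [← RingHom.comp_apply, ← CommRingCat.hom_comp] using this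
  rw [hinj h2, map_one]

end Groth.Agent.Lib.Helper4.Chart
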