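import Groth.Agent.Lib.Helper4Chart
import Groth.Prelude.Def_CurvBase
import Mathlib.AlgebraicGeometry.Morphisms.FiniteType
import Mathlib.AlgebraicGeometry.Morphisms.QuasiCompact
import Mathlib.AlgebraicGeometry.FunctionField
import Mathlib.AlgebraicGeometry.Cover.Open
import Mathlib.RingTheory.DedekindDomain.Dvr
import Mathlib.RingTheory.DiscreteValuationRing.TFAE
import Mathlib.RingTheory.KrullDimension.Basic

/-!
# More on affine charts `ι : Spec R ⟶ X` (helper4)

* `nonempty_stalkEquiv ι p : Nonempty (X.presheaf.stalk (ι p) ≃+* Localization.AtPrime p.asIdeal)`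
* `isMaximal_of_isClosed_singleton`, `isDomain_stalk_chart`, `isIntegrallyClosed_stalk_chart`,
  `ringKrullDim_stalk_chart` (Dedekind chart: closed points have one-dimensional local rings)
* `irreducibleSpace_of_two_charts`, `twoCover`, `isReduced_of_two_charts`,
  `compactSpace_of_two_charts`, `locallyOfFiniteType_of_two_charts`
* `mem_chartOpen_of_notMem`, `isIntegral_chart`, `locallyOfFiniteType_chart`
* `germ_toGlobal`, `exists_functionField_equiv`
-/

set_option autoImplicit false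
set_option linter.style.haveILetI false
set_option linter.overlappingInstances false
universe u

open CategoryTheory AlgebraicGeometry TopologicalSpace

namespace Groth.Agent.Lib.Helper4.Chart

section A


variable {X : Scheme.{u}} {R : CommRingCat.{u}} (ι : Spec R ⟶ X) [IsOpenImmersion ι]

/-- the local ring at a point of a chart is the localization of the coordinate ring. -/
theorem nonempty_stalkEquiv (p : Spec R) :
    haveI : p.asIdeal.IsPrime := p.isPrime
    Nonempty (X.presheaf.stalk (ι p) ≃+* Localization.AtPrime p.asIdeal) := by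
  haveI : p.asIdeal.IsPrime := p.isPrime
  let e₁ : X.presheaf.stalk (ι p) ≃+* (Spec R).presheaf.stalk p :=
    (asIso (ι.stalkMap p)).commRingCatIsoToRingEquiv
  letI : Algebra ↑R ↑((Spec R).presheaf.stalk p) := StructureSheaf.stalkAlgebra (↑R) p
  haveI : IsLocalization.AtPrime (↑((Spec R).presheaf.stalk p)) p.asIdeal :=
    StructureSheaf.IsLocalization.to_stalk R p
  let e₂ : (Spec R).presheaf.stalk p ≃ₐ[R] Localization.AtPrime p.asIdeal :=
    IsLocalization.algEquiv p.asIdeal.primeCompl _ _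
  exact ⟨e₁.trans e₂.toRingEquiv⟩

lemma isMaximal_of_isClosed_singleton (p : Spec R) (h : IsClosed ({ι p} : Set X)) :
    p.asIdeal.IsMaximal := by
  have h1 : IsClosed ({p} : Set (Spec R)) := by
    have : ({p} : Set (Spec R)) = ι ⁻¹' {ι p} := by
      ext q
      simp only [Set.mem_singleton_iff, Set.mem_preimage]
      exact ⟨fun h => by rw [h], fun h => ι.isOpenEmbedding.injective h⟩
    rw [this]
    exact h.preimage ι.continuous
  exact (PrimeSpectrum.isClosed_singleton_iff_isMaximal p).mp h1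


end A

section E

variable {X : Scheme.{u}} {R : CommRingCat.{u}} (ι : Spec R ⟶ X) [IsOpenImmersion ι]

lemma isDomain_stalk_chart [IsDomain R] (p : Spec R) : IsDomain (X.presheaf.stalk (ι p)) := by
  haveI : p.asIdeal.IsPrime := p.isPrime
  obtain ⟨e⟩ := nonempty_stalkEquiv ι p
  exact e.toMulEquiv.isDomain _

lemma isIntegrallyClosed_stalk_chart [IsDomain R] [IsIntegrallyClosed R] (p : Spec R) :
    IsIntegrallyClosed (X.presheaf.stalk (ι p)) := by
  haveI : p.asIdeal.IsPrime := p.isPrime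
  obtain ⟨e⟩ := nonempty_stalkEquiv ι p
  haveI : IsIntegrallyClosed (Localization.AtPrime p.asIdeal) :=
    isIntegrallyClosed_of_isLocalization _ p.asIdeal.primeCompl p.asIdeal.primeCompl_le_nonZeroDivisors
  exact IsIntegrallyClosed.of_equiv e.symm

lemma ringKrullDim_stalk_chart [IsDomain R] [IsDedekindDomain R] (hF : ¬ IsField R) (p : Spec R)
    (hp : IsClosed ({ι p} : Set X)) : ringKrullDim (X.presheaf.stalk (ι p)) = 1 := by
  haveI : p.asIdeal.IsPrime := p.isPrime
  obtain ⟨e⟩ := nonempty_stalkEquiv ι p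
  haveI := isMaximal_of_isClosed_singleton ι p hp
  have hne : p.asIdeal ≠ ⊥ := Ring.ne_bot_of_isMaximal_of_not_isField inferInstance hF
  haveI : IsDiscreteValuationRing (Localization.AtPrime p.asIdeal) :=
    IsLocalization.AtPrime.isDiscreteValuationRing_of_dedekind_domain R hne _
  rw [ringKrullDim_eq_of_ringEquiv e]
  exact IsDiscreteValuationRing.ringKrullDim_eq_one _


end E

section B


variable {X : Scheme.{u}}

theorem irreducibleSpace_of_two_charts {R₀ R₁ RC : CommRingCat.{u}} [IsDomain R₀] [IsDomain R₁]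
    [Nonempty (Spec RC)]
    (ι₀ : Spec R₀ ⟶ X) (ι₁ : Spec R₁ ⟶ X) [IsOpenImmersion ι₀] [IsOpenImmersion ι₁]
    (g₀ : Spec RC ⟶ Spec R₀) (g₁ : Spec RC ⟶ Spec R₁) (hglue : g₀ ≫ ι₀ = g₁ ≫ ι₁)
    (hcov : ∀ x : X, x ∈ Set.range ι₀ ∨ x ∈ Set.range ι₁) : IrreducibleSpace X := by
  let η₀ : Spec R₀ := genericPoint (Spec R₀)
  let η₁ : Spec R₁ := genericPoint (Spec R₁)
  have hη₀ : closure ({η₀} : Set (Spec R₀)) = Set.univ := (genericPoint_spec (Spec R₀))
  have hη₁ : closure ({η₁} : Set (Spec R₁)) = Set.univ := (genericPoint_spec (Spec R₁))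
  have h₀ : Set.range ι₀ ⊆ closure {ι₀ η₀} := by
    rw [← Set.image_univ, ← hη₀, ← Set.image_singleton]
    exact image_closure_subset_closure_image ι₀.continuous
  have h₁ : Set.range ι₁ ⊆ closure {ι₁ η₁} := by
    rw [← Set.image_univ, ← hη₁, ← Set.image_singleton]
    exact image_closure_subset_closure_image ι₁.continuous
  obtain ⟨q⟩ := ‹Nonempty (Spec RC)›
  have hx : ι₀ (g₀ q) = ι₁ (g₁ q) := by
    rw [← Scheme.Hom.comp_apply, ← Scheme.Hom.comp_apply, hglue]
  -- ξ₁ specializes to x ∈ range ι₀ which is open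
  have hspec : ι₁ η₁ ⤳ ι₀ (g₀ q) := by
    rw [specializes_iff_mem_closure, hx]
    exact h₁ ⟨_, rfl⟩
  have hmem : ι₁ η₁ ∈ Set.range ι₀ :=
    hspec.mem_open ι₀.isOpenEmbedding.isOpen_range ⟨_, rfl⟩
  have h₂ : closure {ι₁ η₁} ⊆ closure {ι₀ η₀} :=
    closure_minimal (Set.singleton_subset_iff.mpr (h₀ hmem)) isClosed_closure
  have huniv : closure ({ι₀ η₀} : Set X) = Set.univ := by
    apply Set.eq_univ_of_forall
    intro x
    rcases hcov x with h | h
    · exact h₀ h
    · exact h₂ (h₁ h)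
  rw [irreducibleSpace_def]
  have : IsIrreducible (closure ({ι₀ η₀} : Set X)) := isIrreducible_singleton.closure
  rw [huniv] at this
  exact this


end B

section C


variable {X : Scheme.{u}}

/-- objects of the two-chart cover -/
def twoObj (Y₀ Y₁ : Scheme.{u}) : Bool → Scheme.{u}
  | false => Y₀
  | true => Y₁

/-- maps of the two-chart cover -/
def twoMap {Y₀ Y₁ : Scheme.{u}} (ι₀ : Y₀ ⟶ X) (ι₁ : Y₁ ⟶ X) : (b : Bool) → (twoObj Y₀ Y₁ b ⟶ X)
  | false => ι₀
  | true => ι₁

/-- the open cover by two charts -/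
noncomputable def twoCover {Y₀ Y₁ : Scheme.{u}} (ι₀ : Y₀ ⟶ X) (ι₁ : Y₁ ⟶ X)
    [h₀ : IsOpenImmersion ι₀] [h₁ : IsOpenImmersion ι₁]
    (hcov : ∀ x : X, x ∈ Set.range ι₀ ∨ x ∈ Set.range ι₁) : X.OpenCover :=
  Scheme.Cover.mkOfCovers Bool (twoObj Y₀ Y₁) (twoMap ι₀ ι₁)
    (fun x => by
      rcases hcov x with ⟨y, hy⟩ | ⟨y, hy⟩
      · exact ⟨false, y, hy⟩
      · exact ⟨true, y, hy⟩)
    (fun b => match b with
      | false => h₀
      | true => h₁)

variable {Y₀ Y₁ : Scheme.{u}} (ι₀ : Y₀ ⟶ X) (ι₁ : Y₁ ⟶ X)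
    [h₀ : IsOpenImmersion ι₀] [h₁ : IsOpenImmersion ι₁]
    (hcov : ∀ x : X, x ∈ Set.range ι₀ ∨ x ∈ Set.range ι₁)
include hcov

lemma isReduced_of_two_charts [IsReduced Y₀] [IsReduced Y₁] : IsReduced X := by
  haveI : ∀ i, IsReduced ((twoCover ι₀ ι₁ hcov).X i) := by
    rintro (_ | _)
    · exact inferInstanceAs (IsReduced Y₀)
    · exact inferInstanceAs (IsReduced Y₁)
  exact IsReduced.of_openCover X (twoCover ι₀ ι₁ hcov)

lemma compactSpace_of_two_charts [CompactSpace Y₀] [CompactSpace Y₁] : CompactSpace X := by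
  haveI : ∀ i, CompactSpace ((twoCover ι₀ ι₁ hcov).X i) := by
    rintro (_ | _)
    · exact inferInstanceAs (CompactSpace Y₀)
    · exact inferInstanceAs (CompactSpace Y₁)
  haveI : Finite (twoCover ι₀ ι₁ hcov).I₀ := inferInstanceAs (Finite Bool)
  exact Scheme.OpenCover.compactSpace (twoCover ι₀ ι₁ hcov)

set_option backward.isDefEq.respectTransparency false in
lemma locallyOfFiniteType_of_two_charts {S : Scheme.{u}} (f : X ⟶ S)
    (hf₀ : LocallyOfFiniteType (ι₀ ≫ f)) (hf₁ : LocallyOfFiniteType (ι₁ ≫ f)) :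
    LocallyOfFiniteType f := by
  refine IsZariskiLocalAtSource.of_openCover (P := @LocallyOfFiniteType.{u}) (twoCover ι₀ ι₁ hcov) ?_
  rintro (_ | _)
  · exact hf₀
  · exact hf₁


end C

section D


variable {X : Scheme.{u}}

lemma mem_chartOpen_of_notMem {R R' RC : CommRingCat.{u}} (ι : Spec R ⟶ X) (ι' : Spec R' ⟶ X)
    [IsOpenImmersion ι] [IsOpenImmersion ι']
    (Φ : R ⟶ RC) (Φ' : R' ⟶ RC) (hglue : Spec.map Φ ≫ ι = Spec.map Φ' ≫ ι') (s : R)
    (hloc : @IsLocalization.Away R _ s RC _ Φ.hom.toAlgebra) (x : X) (hx : x ∈ chartOpen ι)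
    (h : (chartIso ι).inv.hom s ∉ ((isAffineOpen_chartOpen ι).primeIdealOf ⟨x, hx⟩).asIdeal) :
    x ∈ chartOpen ι' := by
  obtain ⟨p, rfl⟩ := exists_of_mem_chartOpen ι hx
  have h1 : s ∉ p.asIdeal := by
    intro hs
    apply h
    have := primeIdealOf_chart ι p
    rw [this]
    change (chartIso ι).hom.hom ((chartIso ι).inv.hom s) ∈ p.asIdeal
    rw [chartIso_hom_inv_apply]
    exact hs
  letI := Φ.hom.toAlgebra
  have h2 : ∃ q : Spec RC, Spec.map Φ q = p := by
    have : (p : PrimeSpectrum R) ∈ Set.range (PrimeSpectrum.comap (algebraMap R RC)) := by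
      rw [PrimeSpectrum.localization_away_comap_range RC s]
      exact h1
    obtain ⟨q, hq⟩ := this
    exact ⟨q, hq⟩
  obtain ⟨q, h3⟩ := h2
  have h4 : ι p = ι' (Spec.map Φ' q) := by
    rw [← h3, ← Scheme.Hom.comp_apply, hglue, Scheme.Hom.comp_apply]
  rw [h4]
  exact mem_chartOpen ι' _

lemma isIntegral_chart {k : Type u} [Field k] {R : CommRingCat.{u}} (ι : Spec R ⟶ X)
    [IsOpenImmersion ι] (f : X ⟶ Spec (CommRingCat.of k)) (ψ : CommRingCat.of k ⟶ R)
    (hf : ι ≫ f = Spec.map ψ) (s : R)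
    (hint : ∀ a : R, IsIntegral (Subring.closure (Set.range ψ.hom ∪ {s})) a)
    (a : Γ(X, chartOpen ι)) :
    IsIntegral (Subring.closure (Set.range (TwoChart.kappa f (chartOpen ι)) ∪
      {(chartIso ι).inv.hom s})) a := by
  let e : R →+* Γ(X, chartOpen ι) := (chartIso ι).inv.hom
  have he : ∀ b : Γ(X, chartOpen ι), e ((chartIso ι).hom.hom b) = b := by
    intro b
    change ((chartIso ι).hom ≫ (chartIso ι).inv).hom b = b
    rw [Iso.hom_inv_id]; rfl
  set T : Subring R := Subring.closure (Set.range ψ.hom ∪ {s}) with hT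
  set T' : Subring Γ(X, chartOpen ι) := Subring.closure (Set.range (TwoChart.kappa f (chartOpen ι)) ∪
      {(chartIso ι).inv.hom s}) with hT'
  have hle : T ≤ T'.comap e := by
    rw [hT, Subring.closure_le]
    rintro z (⟨c, rfl⟩ | rfl)
    · change e (ψ.hom c) ∈ T'
      rw [← chartIso_kappa ι f ψ hf c, he]
      exact Subring.subset_closure (Or.inl ⟨c, rfl⟩)
    · exact Subring.subset_closure (Or.inr rfl)
  let φ : T →+* T' := (e.comp T.subtype).codRestrict T' (fun z => hle z.2)
  have := IsIntegral.map_of_comp_eq φ e (by ext; rfl) (hint ((chartIso ι).hom.hom a))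
  rwa [he] at this

set_option backward.isDefEq.respectTransparency false in
lemma locallyOfFiniteType_chart {k : Type u} [Field k] {R : CommRingCat.{u}} (ι : Spec R ⟶ X)
    (f : X ⟶ Spec (CommRingCat.of k)) (ψ : CommRingCat.of k ⟶ R)
    (hf : ι ≫ f = Spec.map ψ) (hft : ψ.hom.FiniteType) : LocallyOfFiniteType (ι ≫ f) := by
  rw [hf, HasRingHomProperty.Spec_iff (P := @LocallyOfFiniteType)]
  exact hft


end D

section F


variable {X : Scheme.{u}} {R : CommRingCat.{u}} (ι : Spec R ⟶ X) [IsOpenImmersion ι]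

lemma germ_toGlobal [IsIntegral X] {k : Type u} [Field k] (f : X ⟶ Spec (CommRingCat.of k))
    (U : X.Opens) [Nonempty U] (c : k) :
    (X.presheaf.germ ⊤ (genericPoint X) trivial).hom (Coh.toGlobal f c) =
      algebraMap Γ(X, U) X.functionField (TwoChart.kappa f U c) := by
  change _ = (X.germToFunctionField U).hom _
  unfold TwoChart.kappa Coh.toGlobal Scheme.Hom.appLE Scheme.germToFunctionField
  simp only [CommRingCat.hom_comp, RingHom.comp_apply]
  rw [TopCat.Presheaf.germ_res_apply]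
  rfl

theorem exists_functionField_equiv [IsIntegral X] {k K : Type u} [Field k] [Field K] [Algebra k K]
    [IsDomain R] (f : X ⟶ Spec (CommRingCat.of k)) (ψ : CommRingCat.of k ⟶ R)
    (hf : ι ≫ f = Spec.map ψ)
    (θ : R →+* K) (hθ : @IsFractionRing R _ K _ θ.toAlgebra)
    (hθψ : ∀ c, θ (ψ.hom c) = algebraMap k K c) :
    ∃ e : X.presheaf.stalk (genericPoint X) ≃+* K, ∀ c : k,
      e ((X.presheaf.germ ⊤ (genericPoint X) trivial).hom (Coh.toGlobal f c)) =
        algebraMap k K c := by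
  haveI : Nonempty (Spec R) := inferInstance
  haveI : Nonempty (chartOpen ι) := ⟨⟨ι (Classical.arbitrary _), mem_chartOpen ι _⟩⟩
  haveI : IsFractionRing Γ(X, chartOpen ι) X.functionField :=
    functionField_isFractionRing_of_isAffineOpen X (chartOpen ι) (isAffineOpen_chartOpen ι)
  letI := θ.toAlgebra
  let E : Γ(X, chartOpen ι) ≃+* R := (chartIso ι).commRingCatIsoToRingEquiv
  let e : X.functionField ≃+* K := IsFractionRing.ringEquivOfRingEquiv E
  refine ⟨e, fun c => ?_⟩
  rw [germ_toGlobal f (chartOpen ι) c]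
  have h1 := IsFractionRing.ringEquivOfRingEquiv_algebraMap (K := X.functionField) (L := K) E
    (TwoChart.kappa f (chartOpen ι) c)
  rw [h1]
  have h2 : E (TwoChart.kappa f (chartOpen ι) c) = ψ.hom c := chartIso_kappa ι f ψ hf c
  rw [h2]
  exact hθψ c


end F

end Groth.Agent.Lib.Helper4.Chart
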