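import Mathlib

/-!
# Polynomial rings over integrally closed domains, evaluation primes, contents (helper4)

* `isIntegrallyClosed_mvPolynomial_fin`;
* `comap_aeval_eq`: if `y i ∈ 𝔫` then `𝔫.comap (aeval y) = (𝔫.comap (algebraMap V D)).comap constantCoeff`;
* `ker_eval_le`, `comap_C_ker_eval`;
* `exists_mem_notMem_map_C`: over a valuation ring, a nonzero ideal `𝔞` of `V[Y]` such that `V[Y]/𝔞` is
  `V`-torsion free contains a polynomial with a unit coefficient.
-/

set_option autoImplicit false
set_option linter.style.haveILetI false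

universe u v

open MvPolynomial

namespace Groth.Agent.Lib.Helper4.ClosedPts

theorem isIntegrallyClosed_mvPolynomial_fin (R : Type u) [CommRing R] [IsDomain R]
    [IsIntegrallyClosed R] : ∀ n : ℕ, IsIntegrallyClosed (MvPolynomial (Fin n) R) := by
  intro n
  induction n with
  | zero => exact IsIntegrallyClosed.of_equiv (MvPolynomial.isEmptyRingEquiv R (Fin 0)).symm
  | succ n ih =>
    haveI := ih
    exact IsIntegrallyClosed.of_equiv (MvPolynomial.finSuccEquiv R n).symm.toRingEquiv

section Eval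

variable {V : Type u} [CommRing V] {D : Type v} [CommRing D] [Algebra V D] {σ : Type*}

/-- modulo an ideal containing the `y i`, `aeval y P` is the constant coefficient of `P`. -/
theorem aeval_sub_constantCoeff_mem (𝔫 : Ideal D) (y : σ → D) (hy : ∀ i, y i ∈ 𝔫)
    (P : MvPolynomial σ V) :
    aeval y P - algebraMap V D (constantCoeff P) ∈ 𝔫 := by
  rw [← Ideal.Quotient.eq_zero_iff_mem, map_sub, sub_eq_zero]
  have h1 : (Ideal.Quotient.mk 𝔫).comp (aeval y : MvPolynomial σ V →ₐ[V] D).toRingHom =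
      eval₂Hom ((Ideal.Quotient.mk 𝔫).comp (algebraMap V D)) (fun _ => 0) := by
    apply MvPolynomial.ringHom_ext
    · intro a
      simp
    · intro i
      simp [Ideal.Quotient.eq_zero_iff_mem.mpr (hy i)]
  have h2 := congrFun (congrArg DFunLike.coe h1) P
  simp only [RingHom.comp_apply, AlgHom.toRingHom_eq_coe, RingHom.coe_coe, coe_eval₂Hom] at h2
  rw [h2, eval₂_zero'_apply]
  rfl

theorem comap_aeval_eq (𝔫 : Ideal D) (y : σ → D) (hy : ∀ i, y i ∈ 𝔫) :
    𝔫.comap (aeval y : MvPolynomial σ V →ₐ[V] D) =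
      (𝔫.comap (algebraMap V D)).comap (constantCoeff : MvPolynomial σ V →+* V) := by
  ext P
  rw [Ideal.mem_comap, Ideal.mem_comap, Ideal.mem_comap]
  have h := aeval_sub_constantCoeff_mem 𝔫 y hy P
  constructor
  · intro hP
    have := 𝔫.sub_mem hP h
    rwa [sub_sub_cancel] at this
  · intro hP
    have := 𝔫.add_mem h hP
    rwa [sub_add_cancel] at this

theorem ker_eval_le (m : Ideal V) (c : σ → V) (hc : ∀ i, c i ∈ m) :
    RingHom.ker (eval c : MvPolynomial σ V →+* V) ≤
      m.comap (constantCoeff : MvPolynomial σ V →+* V) := by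
  intro P hP
  rw [RingHom.mem_ker] at hP
  rw [Ideal.mem_comap]
  have h := aeval_sub_constantCoeff_mem (V := V) (D := V) m c hc P
  rw [Algebra.algebraMap_self, RingHom.id_apply, aeval_eq_eval, hP, zero_sub] at h
  simpa using m.neg_mem h

theorem comap_C_ker_eval (c : σ → V) :
    (RingHom.ker (eval c : MvPolynomial σ V →+* V)).comap (C : V →+* MvPolynomial σ V) = ⊥ := by
  ext a
  rw [Ideal.mem_comap, RingHom.mem_ker, eval_C, Ideal.mem_bot]

theorem X_sub_C_mem_ker_eval (c : σ → V) (i : σ) :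
    (X i - C (c i) : MvPolynomial σ V) ∈ RingHom.ker (eval c : MvPolynomial σ V →+* V) := by
  rw [RingHom.mem_ker, map_sub, eval_X, eval_C, sub_self]

end Eval

section Content

variable {V : Type u} [CommRing V] [IsDomain V] [ValuationRing V] {σ : Type*}

/-- Over a valuation ring, every nonzero polynomial is a nonzero constant times a polynomial one of
whose coefficients is a unit. -/
theorem exists_eq_C_mul (P : MvPolynomial σ V) (hP : P ≠ 0) :
    ∃ (c₀ : V) (P₁ : MvPolynomial σ V), c₀ ≠ 0 ∧ P = C c₀ * P₁ ∧ ∃ m, IsUnit (coeff m P₁) := by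
  classical
  have hfg : (Ideal.span ((fun m => coeff m P) '' (P.support : Set (σ →₀ ℕ)))).FG :=
    ⟨P.support.image (fun m => coeff m P), by rw [Finset.coe_image]⟩
  have hprin : (Ideal.span ((fun m => coeff m P) '' (P.support : Set (σ →₀ ℕ)))).IsPrincipal :=
    IsBezout.isPrincipal_of_FG _ hfg
  obtain ⟨c₀, hc₀⟩ := hprin.principal
  have hc₀' : Ideal.span ((fun m => coeff m P) '' (P.support : Set (σ →₀ ℕ))) = Ideal.span {c₀} := hc₀
  have hcoeff : ∀ m, coeff m P ∈ Ideal.span {c₀} := by
    intro m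
    by_cases hm : m ∈ P.support
    · rw [← hc₀']
      exact Ideal.subset_span ⟨m, hm, rfl⟩
    · rw [MvPolynomial.notMem_support_iff.mp hm]
      exact Ideal.zero_mem _
  have hc₀0 : c₀ ≠ 0 := by
    rintro rfl
    apply hP
    ext m
    have := hcoeff m
    rw [Ideal.span_singleton_eq_bot.mpr rfl, Ideal.mem_bot] at this
    rw [this, coeff_zero]
  have hmem : P ∈ Ideal.map (C : V →+* MvPolynomial σ V) (Ideal.span {c₀}) :=
    MvPolynomial.mem_map_C_iff.mpr hcoeff
  rw [Ideal.map_span, Set.image_singleton, Ideal.mem_span_singleton'] at hmem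
  obtain ⟨P₁, hP₁⟩ := hmem
  refine ⟨c₀, P₁, hc₀0, by rw [← hP₁, mul_comm], ?_⟩
  by_contra hcon
  push Not at hcon
  -- all coefficients of `P₁` are nonunits, so `c₀ ∈ c₀ m_V`
  have hc₀mem : c₀ ∈ Ideal.span ((fun m => coeff m P) '' (P.support : Set (σ →₀ ℕ))) := by
    rw [hc₀']
    exact Ideal.subset_span rfl
  have hle : Ideal.span ((fun m => coeff m P) '' (P.support : Set (σ →₀ ℕ))) ≤
      Ideal.span {c₀} * IsLocalRing.maximalIdeal V := by
    rw [Ideal.span_le]
    rintro _ ⟨m, -, rfl⟩
    have : coeff m P = c₀ * coeff m P₁ := by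
      rw [← hP₁, mul_comm, coeff_C_mul]
    change coeff m P ∈ _
    rw [this]
    exact Ideal.mul_mem_mul (Ideal.subset_span rfl) (hcon m)
  have h1 := hle hc₀mem
  rw [Ideal.mem_span_singleton_mul] at h1
  obtain ⟨u, hu, hcu⟩ := h1
  have h2 : c₀ * (u - 1) = 0 := by rw [mul_sub, hcu, mul_one, sub_self]
  have h3 : u = 1 := by
    rcases mul_eq_zero.mp h2 with h | h
    · exact absurd h hc₀0
    · exact sub_eq_zero.mp h
  rw [h3] at hu
  exact (IsLocalRing.maximalIdeal.isMaximal V).ne_top ((Ideal.eq_top_iff_one _).mpr hu)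

end Content

end Groth.Agent.Lib.Helper4.ClosedPts
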