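import Mathlib
import Groth.Agent.Lib.Helper4ClosedPtsA

/-!
# Parameters at a maximal ideal of a finite type algebra (helper4)

* `isNoetherianRing_of_finiteType_of_maximal`: a finite type algebra killed by a maximal ideal of the
  base is Noetherian.
* `aeval_injective_of_minimalPrimes`: over a field `κ`, if a prime `𝔫` of a Noetherian `κ`-algebra `F`
  of height `d` is minimal over `(ȳ₁, …, ȳ_d)`, then `κ[Y₁, …, Y_d] → F` is injective.
-/

set_option autoImplicit false
set_option linter.style.haveILetI false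

universe u v

open MvPolynomial

namespace Groth.Agent.Lib.Helper4.ClosedPts

theorem isNoetherianRing_of_finiteType_of_maximal {R : Type u} {B : Type v} [CommRing R] [CommRing B]
    [Algebra R B] [Algebra.FiniteType R B] (𝔪 : Ideal R) [h𝔪 : 𝔪.IsMaximal]
    (h : ∀ a ∈ 𝔪, algebraMap R B a = 0) : IsNoetherianRing B := by
  letI : Field (R ⧸ 𝔪) := Ideal.Quotient.field 𝔪
  letI : Algebra (R ⧸ 𝔪) B := (Ideal.Quotient.lift 𝔪 (algebraMap R B) h).toAlgebra
  haveI : IsScalarTower R (R ⧸ 𝔪) B := IsScalarTower.of_algebraMap_eq (fun x => rfl)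
  haveI : Algebra.FiniteType (R ⧸ 𝔪) B := Algebra.FiniteType.of_restrictScalars_finiteType R (R ⧸ 𝔪) B
  exact Algebra.FiniteType.isNoetherianRing (R ⧸ 𝔪) B

section Field

variable {κ : Type u} [Field κ] {F : Type v} [CommRing F] [Algebra κ F] [IsNoetherianRing F]

/-- If the prime `𝔫` of height `d` is minimal over the ideal generated by `d` elements `ȳ i`, then the
`ȳ i` are algebraically independent over the base field. -/
theorem aeval_injective_of_minimalPrimes (𝔫 : Ideal F) [h𝔫 : 𝔫.IsPrime] (d : ℕ) (y : Fin d → F)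
    (hmin : 𝔫 ∈ (Ideal.span (Set.range y)).minimalPrimes) (hht : 𝔫.height = d) :
    Function.Injective (aeval y : MvPolynomial (Fin d) κ →ₐ[κ] F) := by
  rw [← AlgHom.coe_toRingHom, RingHom.injective_iff_ker_eq_bot]
  by_contra hker
  set φ : MvPolynomial (Fin d) κ →+* F := (aeval y : MvPolynomial (Fin d) κ →ₐ[κ] F).toRingHom with hφ
  obtain ⟨a, haK, ha0⟩ := Submodule.exists_mem_ne_zero_of_ne_bot hker
  set ψ : MvPolynomial (Fin d) κ ⧸ RingHom.ker φ →+* F := RingHom.kerLift φ with hψ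
  letI : Algebra (MvPolynomial (Fin d) κ ⧸ RingHom.ker φ) F := ψ.toAlgebra
  have halg : algebraMap (MvPolynomial (Fin d) κ ⧸ RingHom.ker φ) F = ψ := rfl
  set p : Ideal (MvPolynomial (Fin d) κ ⧸ RingHom.ker φ) := 𝔫.comap ψ with hp
  haveI hpprime : p.IsPrime := Ideal.comap_isPrime ψ 𝔫
  haveI : 𝔫.LiesOver p := ⟨rfl⟩
  have hle := Ideal.height_le_height_add_of_liesOver p 𝔫
  -- the height of `p` is at most `d - 1`
  have hdimR : ringKrullDim (MvPolynomial (Fin d) κ ⧸ RingHom.ker φ) + 1 ≤ (d : WithBot ℕ∞) := by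
    have h1 : ringKrullDim (MvPolynomial (Fin d) κ ⧸ Ideal.span {a}) + 1 ≤
        ringKrullDim (MvPolynomial (Fin d) κ) :=
      ringKrullDim_quotient_succ_le_of_nonZeroDivisor (mem_nonZeroDivisors_of_ne_zero ha0)
    have h2 : ringKrullDim (MvPolynomial (Fin d) κ) = d := by
      rw [MvPolynomial.ringKrullDim_of_isNoetherianRing, ringKrullDim_eq_zero_of_field, zero_add,
        Nat.card_eq_fintype_card, Fintype.card_fin]
    have h3 : Ideal.span {a} ≤ RingHom.ker φ := by
      rw [Ideal.span_le, Set.singleton_subset_iff]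
      exact haK
    have h4 : ringKrullDim (MvPolynomial (Fin d) κ ⧸ RingHom.ker φ) ≤
        ringKrullDim (MvPolynomial (Fin d) κ ⧸ Ideal.span {a}) :=
      ringKrullDim_le_of_surjective (Ideal.Quotient.factor h3) (Ideal.Quotient.factor_surjective h3)
    rw [← h2]
    exact le_trans (add_le_add h4 le_rfl) h1
  have hhtp : (p.height : WithBot ℕ∞) + 1 ≤ (d : WithBot ℕ∞) :=
    le_trans (add_le_add (Ideal.height_le_ringKrullDim_of_ne_top hpprime.ne_top) le_rfl) hdimR
  have hhtp' : p.height + 1 ≤ (d : ℕ∞) := by exact_mod_cast hhtp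
  -- the image of `𝔫` in `F / pF` has height zero
  have hyp : ∀ i, y i ∈ p.map (algebraMap (MvPolynomial (Fin d) κ ⧸ RingHom.ker φ) F) := by
    intro i
    have h1 : ψ (Ideal.Quotient.mk _ (X i)) = y i := by
      rw [hψ, RingHom.kerLift_mk, hφ]
      simp
    have h2 : Ideal.Quotient.mk (RingHom.ker φ) (X i) ∈ p := by
      rw [hp, Ideal.mem_comap, h1]
      exact hmin.1.2 (Ideal.subset_span ⟨i, rfl⟩)
    rw [← h1]
    exact Ideal.mem_map_of_mem _ h2
  set J : Ideal F := p.map (algebraMap (MvPolynomial (Fin d) κ ⧸ RingHom.ker φ) F) with hJ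
  have hJle : J ≤ 𝔫 := by
    rw [hJ, halg, hp]
    exact Ideal.map_comap_le
  have hspan : Ideal.span (Set.range y) ≤ J := by
    rw [Ideal.span_le]
    rintro _ ⟨i, rfl⟩
    exact hyp i
  have hJmin : 𝔫 ∈ J.minimalPrimes := by
    refine ⟨⟨h𝔫, hJle⟩, ?_⟩
    rintro 𝔮 ⟨h𝔮prime, hJ𝔮⟩ h𝔮le
    exact hmin.2 ⟨h𝔮prime, hspan.trans hJ𝔮⟩ h𝔮le
  rw [Ideal.minimalPrimes_eq_comap] at hJmin
  obtain ⟨𝔮', h𝔮'min, h𝔮'eq⟩ := hJmin
  have hmap : 𝔫.map (Ideal.Quotient.mk J) = 𝔮' := by
    rw [← h𝔮'eq, Ideal.map_comap_of_surjective _ Ideal.Quotient.mk_surjective]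
  haveI : (𝔫.map (Ideal.Quotient.mk J)).IsPrime := by
    rw [hmap]
    exact h𝔮'min.1.1
  have hzero : (𝔫.map (Ideal.Quotient.mk J)).height = 0 := by
    rw [Ideal.height_eq_zero_iff, hmap]
    exact h𝔮'min
  rw [hzero, add_zero, hht] at hle
  have h5 : p.height + 1 ≤ p.height := hhtp'.trans hle
  have h6 : p.height ≠ ⊤ := by
    intro htop
    rw [htop] at hhtp'
    exact absurd hhtp' (by simp)
  exact absurd h5 (by
    rw [not_le]
    exact ENat.lt_add_one_iff h6 |>.mpr le_rfl)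

end Field

section Val

variable {V : Type u} [CommRing V] {D : Type v} [CommRing D] [Algebra V D]

/-- `aeval` commutes with reduction modulo an ideal of the base. -/
theorem mk_aeval_eq (I : Ideal V) {σ : Type*} (y : σ → D) (P : MvPolynomial σ V) :
    Ideal.Quotient.mk (I.map (algebraMap V D)) (aeval y P) =
      aeval (R := V ⧸ I) (fun i => Ideal.Quotient.mk (I.map (algebraMap V D)) (y i))
        (map (Ideal.Quotient.mk I) P) := by
  have h : (Ideal.Quotient.mk (I.map (algebraMap V D))).comp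
      (aeval y : MvPolynomial σ V →ₐ[V] D).toRingHom =
      (aeval (R := V ⧸ I) (fun i => Ideal.Quotient.mk (I.map (algebraMap V D)) (y i)) :
        MvPolynomial σ (V ⧸ I) →ₐ[V ⧸ I] D ⧸ I.map (algebraMap V D)).toRingHom.comp
        (map (Ideal.Quotient.mk I)) := by
    apply MvPolynomial.ringHom_ext
    · intro a
      simp only [RingHom.comp_apply, AlgHom.toRingHom_eq_coe, RingHom.coe_coe, aeval_C, map_C]
      rfl
    · intro i
      simp only [RingHom.comp_apply, AlgHom.toRingHom_eq_coe, RingHom.coe_coe, aeval_X, map_X]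
  exact congrFun (congrArg DFunLike.coe h) P

variable [IsDomain V] [ValuationRing V] [IsDomain D] [FaithfulSMul V D] [Algebra.FiniteType V D]

/-- Parameters at a maximal ideal `𝔫` of a finite type domain over a valuation ring `V`, lying over the
maximal ideal: there are `y₁, …, y_d ∈ 𝔫`, algebraically independent over `V`, such that `𝔫` is a
minimal prime over `(m_V, y₁, …, y_d)`. -/
theorem exists_params (𝔫 : Ideal D) [h𝔫 : 𝔫.IsMaximal]
    (hover : 𝔫.comap (algebraMap V D) = IsLocalRing.maximalIdeal V) :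
    ∃ (d : ℕ) (y : Fin d → D), (∀ i, y i ∈ 𝔫) ∧
      Function.Injective (aeval y : MvPolynomial (Fin d) V →ₐ[V] D) ∧
      ∀ 𝔮 : Ideal D, 𝔮.IsPrime → 𝔮 ≤ 𝔫 → (IsLocalRing.maximalIdeal V).map (algebraMap V D) ≤ 𝔮 →
        (∀ i, y i ∈ 𝔮) → 𝔮 = 𝔫 := by
  classical
  set I : Ideal D := (IsLocalRing.maximalIdeal V).map (algebraMap V D) with hI
  have hI𝔫 : I ≤ 𝔫 := by
    rw [hI, Ideal.map_le_iff_le_comap]
    exact hover.ge
  haveI : IsNoetherianRing (D ⧸ I) := by
    apply isNoetherianRing_of_finiteType_of_maximal (IsLocalRing.maximalIdeal V)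
    intro a ha
    have : algebraMap V (D ⧸ I) a = Ideal.Quotient.mk I (algebraMap V D a) := rfl
    rw [this, Ideal.Quotient.eq_zero_iff_mem]
    exact Ideal.mem_map_of_mem _ ha
  haveI h𝔫prime : 𝔫.IsPrime := h𝔫.isPrime
  set 𝔫' : Ideal (D ⧸ I) := 𝔫.map (Ideal.Quotient.mk I) with h𝔫'
  haveI h𝔫'prime : 𝔫'.IsPrime := Ideal.isPrime_map_quotientMk_of_isPrime hI𝔫
  have hcomap : ∀ 𝔮 : Ideal D, I ≤ 𝔮 → (𝔮.map (Ideal.Quotient.mk I)).comap (Ideal.Quotient.mk I) = 𝔮 := by
    intro 𝔮 h𝔮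
    rw [Ideal.comap_map_of_surjective _ Ideal.Quotient.mk_surjective, ← RingHom.ker_eq_comap_bot,
      Ideal.mk_ker]
    exact sup_eq_left.mpr h𝔮
  obtain ⟨s, hsmin, hscard⟩ := Ideal.exists_finset_card_eq_height_of_isNoetherianRing 𝔫'
  set d := s.card with hd
  set y' : Fin d → D ⧸ I := fun i => ((s.equivFin.symm i : s) : D ⧸ I) with hy'
  have hrange : Set.range y' = (s : Set (D ⧸ I)) := by
    ext z
    constructor
    · rintro ⟨i, rfl⟩
      exact (s.equivFin.symm i).2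
    · intro hz
      exact ⟨s.equivFin ⟨z, hz⟩, by simp [hy']⟩
  have hsurj : ∀ i, ∃ b : D, Ideal.Quotient.mk I b = y' i := fun i => Ideal.Quotient.mk_surjective _
  choose y hy using hsurj
  have hy𝔫 : ∀ i, y i ∈ 𝔫 := by
    intro i
    rw [← hcomap 𝔫 hI𝔫, Ideal.mem_comap, hy]
    apply hsmin.1.2
    apply Ideal.subset_span
    rw [← hrange]
    exact ⟨i, rfl⟩
  refine ⟨d, y, hy𝔫, ?_, ?_⟩
  · -- injectivity
    letI : Field (V ⧸ IsLocalRing.maximalIdeal V) := Ideal.Quotient.field _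
    have hinj' : Function.Injective
        (aeval (R := V ⧸ IsLocalRing.maximalIdeal V) y' :
          MvPolynomial (Fin d) (V ⧸ IsLocalRing.maximalIdeal V) →ₐ[V ⧸ IsLocalRing.maximalIdeal V]
            D ⧸ I) := by
      apply aeval_injective_of_minimalPrimes 𝔫' d y'
      · rw [hrange]
        exact hsmin
      · rw [← hscard]
    rw [← AlgHom.coe_toRingHom, injective_iff_map_eq_zero]
    intro P hP
    by_contra hP0
    obtain ⟨c₀, P₁, hc₀, hPeq, m, hm⟩ := exists_eq_C_mul P hP0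
    have h1 : (aeval y : MvPolynomial (Fin d) V →ₐ[V] D) P₁ = 0 := by
      have h2 : (aeval y : MvPolynomial (Fin d) V →ₐ[V] D) P = 0 := hP
      rw [hPeq, map_mul, aeval_C] at h2
      rcases mul_eq_zero.mp h2 with h3 | h3
      · exact absurd ((map_eq_zero_iff _ (FaithfulSMul.algebraMap_injective V D)).mp h3) hc₀
      · exact h3
    have h4 := mk_aeval_eq (IsLocalRing.maximalIdeal V) y P₁
    rw [h1, map_zero] at h4
    have h5 : (fun i => Ideal.Quotient.mk ((IsLocalRing.maximalIdeal V).map (algebraMap V D)) (y i)) =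
        y' := funext hy
    rw [h5] at h4
    have h6 : map (Ideal.Quotient.mk (IsLocalRing.maximalIdeal V)) P₁ = 0 :=
      hinj' (by rw [← h4, map_zero])
    have h7 := congrArg (coeff m) h6
    rw [coeff_map, coeff_zero, Ideal.Quotient.eq_zero_iff_mem] at h7
    exact (IsLocalRing.mem_maximalIdeal _).mp h7 hm
  · intro 𝔮 h𝔮prime h𝔮le hI𝔮 hy𝔮
    apply le_antisymm h𝔮le
    haveI := h𝔮prime
    haveI : (𝔮.map (Ideal.Quotient.mk I)).IsPrime := Ideal.isPrime_map_quotientMk_of_isPrime hI𝔮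
    have h1 : Ideal.span (s : Set (D ⧸ I)) ≤ 𝔮.map (Ideal.Quotient.mk I) := by
      rw [Ideal.span_le, ← hrange]
      rintro _ ⟨i, rfl⟩
      rw [← hy i]
      exact Ideal.mem_map_of_mem _ (hy𝔮 i)
    have h2 : 𝔮.map (Ideal.Quotient.mk I) ≤ 𝔫' := Ideal.map_mono h𝔮le
    have h3 : 𝔫' ≤ 𝔮.map (Ideal.Quotient.mk I) := hsmin.2 ⟨inferInstance, h1⟩ h2
    have h4 := Ideal.comap_mono (f := Ideal.Quotient.mk I) h3
    rwa [hcomap 𝔫 hI𝔫, hcomap 𝔮 hI𝔮] at h4

end Val

end Groth.Agent.Lib.Helper4.ClosedPts
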