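/-
Helper library (helper4): birational form of Zariski's main theorem over an integrally closed local
domain (EGA III 4.4.8-style): an isolated point of the closed fibre forces `A = B`.
-/
import Mathlib

set_option autoImplicit false
set_option linter.style.haveILetI false
universe u

namespace Groth.Agent.Lib.Helper4.ZMTBirational

/-- A prime of a Noetherian algebra which is maximal and minimal in its fibre is isolated in the
fibre. -/
theorem isOpen_singleton_fiber {A B : Type*} [CommRing A] [CommRing B] [Algebra A B]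
    [IsNoetherianRing B] (m : Ideal A) [hm : m.IsMaximal] (n : Ideal B) [hn' : n.IsMaximal]
    (hn : n.comap (algebraMap A B) = m)
    (hmin : ∀ q : Ideal B, q.IsPrime → q.comap (algebraMap A B) = m → q ≤ n → q = n) :
    let q : PrimeSpectrum B := ⟨n, hn'.isPrime⟩
    IsOpen (X := PrimeSpectrum.comap (algebraMap A B) ⁻¹' {q.comap (algebraMap A B)}) {⟨q, rfl⟩} := by
  intro q
  have hq : q.comap (algebraMap A B) = ⟨m, hm.isPrime⟩ := PrimeSpectrum.ext hn
  -- primes over `m` contain `mB` and contract to `m`
  have hover : ∀ p : Ideal B, p.IsPrime → m.map (algebraMap A B) ≤ p →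
      p.comap (algebraMap A B) = m := by
    intro p hp hle
    have h1 : m ≤ p.comap (algebraMap A B) := Ideal.map_le_iff_le_comap.mp hle
    have h2 : p.comap (algebraMap A B) ≠ ⊤ := (Ideal.comap_isPrime _ p).ne_top
    exact (hm.eq_of_le h2 h1).symm
  have hfin : (m.map (algebraMap A B)).minimalPrimes.Finite :=
    Ideal.finite_minimalPrimes_of_isNoetherianRing B _
  let T : Set (Ideal B) := {p ∈ (m.map (algebraMap A B)).minimalPrimes | p ≠ n}
  have hTfin : T.Finite := hfin.subset (fun p hp => hp.1)
  let C : Set (PrimeSpectrum B) := ⋃ p ∈ T, PrimeSpectrum.zeroLocus (p : Set B)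
  have hC : IsClosed C := hTfin.isClosed_biUnion (fun p _ => PrimeSpectrum.isClosed_zeroLocus _)
  have hopen : IsOpen (Subtype.val ⁻¹' Cᶜ :
      Set (PrimeSpectrum.comap (algebraMap A B) ⁻¹' {q.comap (algebraMap A B)})) :=
    hC.isOpen_compl.preimage continuous_subtype_val
  convert hopen using 1
  ext ⟨p, hp⟩
  simp only [Set.mem_singleton_iff, Set.mem_preimage, Set.mem_compl_iff]
  rw [Subtype.ext_iff]
  show p = q ↔ p ∉ C
  have hp' : p.asIdeal.comap (algebraMap A B) = m := by
    have : p.comap (algebraMap A B) = q.comap (algebraMap A B) := hp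
    rw [hq] at this
    exact congrArg PrimeSpectrum.asIdeal this
  constructor
  · rintro rfl
    simp only [C, Set.mem_iUnion, not_exists]
    intro p' hp'T hmem
    have hle : p' ≤ n := by
      rw [PrimeSpectrum.mem_zeroLocus] at hmem
      exact hmem
    have hp'prime : p'.IsPrime := hp'T.1.1.1
    exact hp'T.2 (hmin p' hp'prime (hover p' hp'prime hp'T.1.1.2) hle)
  · intro hnotC
    have hle : m.map (algebraMap A B) ≤ p.asIdeal := Ideal.map_le_iff_le_comap.mpr hp'.ge
    obtain ⟨p', hp'min, hp'le⟩ := Ideal.exists_minimalPrimes_le hle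
    by_cases hp'n : p' = n
    · subst hp'n
      exact PrimeSpectrum.ext (hn'.eq_of_le p.isPrime.ne_top hp'le).symm
    · exfalso
      apply hnotC
      simp only [C, Set.mem_iUnion]
      exact ⟨p', ⟨hp'min, hp'n⟩, by rw [PrimeSpectrum.mem_zeroLocus]; exact hp'le⟩

end Groth.Agent.Lib.Helper4.ZMTBirational

namespace Groth.Agent.Lib.Helper4.ZMTBirational

theorem bijective_of_isolated (A B K : Type u) [CommRing A]
    [IsDomain A] [IsNoetherianRing A] [IsLocalRing A] [IsIntegrallyClosed A] [CommRing B] [IsDomain B]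
    [Field K] [Algebra A B] [Algebra B K] [Algebra A K] [IsScalarTower A B K] [IsFractionRing A K]
    [IsFractionRing B K] [Algebra.FiniteType A B] (n : Ideal B) [hn' : n.IsMaximal]
    (hn : n.comap (algebraMap A B) = IsLocalRing.maximalIdeal A)
    (hmin : ∀ q : Ideal B, q.IsPrime → q.comap (algebraMap A B) = IsLocalRing.maximalIdeal A →
      q ≤ n → q = n) :
    Function.Bijective (algebraMap A B) := by
  haveI : IsNoetherianRing B := Algebra.FiniteType.isNoetherianRing A B
  have hopen := isOpen_singleton_fiber (IsLocalRing.maximalIdeal A) n hn hmin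
  haveI : n.IsPrime := hn'.isPrime
  haveI : Algebra.QuasiFiniteAt A n :=
    Algebra.QuasiFiniteAt.of_isOpen_singleton_fiber ⟨n, hn'.isPrime⟩ hopen
  have hZ := Algebra.ZariskisMainProperty.of_finiteType (R := A) n
  rw [Algebra.zariskisMainProperty_iff] at hZ
  obtain ⟨r, hrn, hrint, hr⟩ := hZ
  have hint : ∀ b : B, IsIntegral A b → ∃ a : A, algebraMap A B a = b := by
    intro b hb
    have h1 : IsIntegral A (algebraMap B K b) := hb.map (IsScalarTower.toAlgHom A B K)
    obtain ⟨a, ha⟩ := IsIntegrallyClosed.isIntegral_iff.mp h1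
    refine ⟨a, ?_⟩
    apply IsFractionRing.injective B K
    rw [← IsScalarTower.algebraMap_apply, ha]
  obtain ⟨a, rfl⟩ := hint r hrint
  have ha : IsUnit a := by
    by_contra hnu
    have h1 : a ∈ IsLocalRing.maximalIdeal A := (IsLocalRing.mem_maximalIdeal a).mpr hnu
    rw [← hn] at h1
    exact hrn h1
  constructor
  · intro x y hxy
    apply IsFractionRing.injective A K
    rw [IsScalarTower.algebraMap_apply A B K, hxy, ← IsScalarTower.algebraMap_apply A B K]
  · intro x
    obtain ⟨k, hk⟩ := hr x
    obtain ⟨c, hc⟩ := hint _ hk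
    obtain ⟨u, rfl⟩ := ha
    refine ⟨↑(u⁻¹ ^ k) * c, ?_⟩
    rw [map_mul, hc, ← mul_assoc, ← map_pow, ← map_mul, ← Units.val_pow_eq_pow_val, ← Units.val_mul,
      ← mul_pow, inv_mul_cancel, one_pow, Units.val_one, map_one, one_mul]

end Groth.Agent.Lib.Helper4.ZMTBirational
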