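import Mathlib
import Groth.Agent.Lib.Helper4ClosedPtsB
import Groth.Agent.Lib.Helper4ZMTBirational

/-!
# Generizations of a closed point of the special fibre over a valuation ring (helper4)

* `weaklyQuasiFiniteAt_of_minimal`: a maximal ideal over a maximal ideal which is a minimal prime of its
  fibre is (weakly) quasi-finite.
* `exists_prime_under_eq`: going down through Zariski's main theorem.
* `exists_prime_le_of_valuationRing`: the main result over a valuation ring.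
-/

set_option autoImplicit false
set_option linter.style.haveILetI false

universe u v

open MvPolynomial

namespace Groth.Agent.Lib.Helper4.ClosedPts

section QF

variable {R : Type u} {S : Type v} [CommRing R] [CommRing S] [Algebra R S] [Algebra.FiniteType R S]

theorem weaklyQuasiFiniteAt_of_minimal (𝔫 : Ideal S) [h𝔫 : 𝔫.IsMaximal]
    (h𝔪 : (𝔫.under R).IsMaximal)
    (hmin : ∀ 𝔮 : Ideal S, 𝔮.IsPrime → 𝔮 ≤ 𝔫 → (𝔫.under R).map (algebraMap R S) ≤ 𝔮 → 𝔮 = 𝔫) :
    haveI := h𝔫.isPrime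
    Algebra.WeaklyQuasiFiniteAt R 𝔫 := by
  haveI := h𝔫.isPrime
  set I : Ideal S := (𝔫.under R).map (algebraMap R S) with hI
  have hI𝔫 : I ≤ 𝔫 := by
    rw [hI, Ideal.map_le_iff_le_comap]
  haveI : IsNoetherianRing (S ⧸ I) := by
    apply isNoetherianRing_of_finiteType_of_maximal (𝔫.under R)
    intro a ha
    have : algebraMap R (S ⧸ I) a = Ideal.Quotient.mk I (algebraMap R S a) := rfl
    rw [this, Ideal.Quotient.eq_zero_iff_mem]
    exact Ideal.mem_map_of_mem _ ha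
  have hcomap : ∀ 𝔮 : Ideal S, I ≤ 𝔮 →
      (𝔮.map (Ideal.Quotient.mk I)).comap (Ideal.Quotient.mk I) = 𝔮 := by
    intro 𝔮 h𝔮
    rw [Ideal.comap_map_of_surjective _ Ideal.Quotient.mk_surjective, ← RingHom.ker_eq_comap_bot,
      Ideal.mk_ker]
    exact sup_eq_left.mpr h𝔮
  set 𝔫B : Ideal (S ⧸ I) := 𝔫.map (Ideal.Quotient.mk I) with h𝔫B
  haveI h𝔫Bmax : 𝔫B.IsMaximal :=
    Ideal.IsMaximal.map_of_surjective_of_ker_le Ideal.Quotient.mk_surjective
      (by rw [Ideal.mk_ker]; exact hI𝔫)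
  have hn : 𝔫B.comap (algebraMap R (S ⧸ I)) = 𝔫.under R := by
    have : algebraMap R (S ⧸ I) = (Ideal.Quotient.mk I).comp (algebraMap R S) := rfl
    rw [this, ← Ideal.comap_comap, hcomap 𝔫 hI𝔫]
  have hmin' : ∀ q : Ideal (S ⧸ I), q.IsPrime → q.comap (algebraMap R (S ⧸ I)) = 𝔫.under R →
      q ≤ 𝔫B → q = 𝔫B := by
    intro q hq _ hle
    have h1 : I ≤ q.comap (Ideal.Quotient.mk I) := by
      intro z hz
      rw [Ideal.mem_comap, Ideal.Quotient.eq_zero_iff_mem.mpr hz]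
      exact q.zero_mem
    have h2 : q.comap (Ideal.Quotient.mk I) ≤ 𝔫 := by
      rw [← hcomap 𝔫 hI𝔫]
      exact Ideal.comap_mono hle
    have h3 := hmin _ (Ideal.comap_isPrime _ q) h2 h1
    rw [h𝔫B, ← h3, Ideal.map_comap_of_surjective _ Ideal.Quotient.mk_surjective]
  have hopen := ZMTBirational.isOpen_singleton_fiber (𝔫.under R) 𝔫B hn hmin'
  exact Algebra.QuasiFiniteAt.of_isOpen_singleton_fiber ⟨𝔫B, h𝔫Bmax.isPrime⟩ hopen

end QF

section GoingDown

variable {E : Type u} [CommRing E] [IsDomain E] [IsIntegrallyClosed E]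
  {D : Type v} [CommRing D] [IsDomain D] [Algebra E D] [FaithfulSMul E D]

omit [IsDomain E] in
/-- Going down through the conclusion of Zariski's main theorem. -/
theorem exists_prime_under_eq (𝔫 : Ideal D) [h𝔫 : 𝔫.IsPrime] (r : D) (hr𝔫 : r ∉ 𝔫)
    (hrint : IsIntegral E r) (hr : ∀ x : D, ∃ m : ℕ, IsIntegral E (r ^ m * x))
    (𝔭 : Ideal E) [h𝔭 : 𝔭.IsPrime] (hle : 𝔭 ≤ 𝔫.under E) :
    ∃ 𝔮 : Ideal D, 𝔮.IsPrime ∧ 𝔮 ≤ 𝔫 ∧ 𝔮.under E = 𝔭 := by
  classical
  set E' : Subalgebra E D := integralClosure E D with hE'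
  haveI : FaithfulSMul E E' := by
    rw [faithfulSMul_iff_algebraMap_injective]
    intro a b hab
    exact FaithfulSMul.algebraMap_injective E D (congrArg Subtype.val hab)
  set 𝔫' : Ideal E' := 𝔫.comap (algebraMap E' D) with h𝔫'
  haveI : 𝔫'.IsPrime := Ideal.comap_isPrime _ 𝔫
  haveI : (𝔫.under E).IsPrime := Ideal.comap_isPrime _ 𝔫
  haveI : 𝔫'.LiesOver (𝔫.under E) := ⟨by
    ext a
    rfl⟩
  obtain ⟨P, hP𝔫', hPprime, hPover⟩ := Ideal.exists_ideal_le_liesOver_of_le (p := 𝔭) (q := 𝔫.under E) 𝔫' hle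
  set r' : E' := ⟨r, hrint⟩ with hr'
  have hr'P : r' ∉ P := fun h => hr𝔫 (hP𝔫' h)
  have hpowP : ∀ (m : ℕ) (z : E'), r' ^ m * z ∈ P → z ∈ P := by
    intro m z hz
    rcases hPprime.mem_or_mem hz with h | h
    · exact absurd (hPprime.mem_of_pow_mem m h) hr'P
    · exact h
  let 𝔮 : Ideal D :=
    { carrier := {x : D | ∃ m : ℕ, ∃ z ∈ P, (z : D) = r ^ m * x}
      zero_mem' := ⟨0, 0, P.zero_mem, by simp⟩
      add_mem' := by
        rintro x₁ x₂ ⟨m₁, z₁, hz₁, h₁⟩ ⟨m₂, z₂, hz₂, h₂⟩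
        refine ⟨m₁ + m₂, r' ^ m₂ * z₁ + r' ^ m₁ * z₂,
          P.add_mem (P.mul_mem_left _ hz₁) (P.mul_mem_left _ hz₂), ?_⟩
        push_cast
        rw [h₁, h₂, hr']
        simp only
        ring
      smul_mem' := by
        rintro a x ⟨m, z, hz, h⟩
        obtain ⟨k, hk⟩ := hr a
        refine ⟨m + k, (⟨r ^ k * a, hk⟩ : E') * z, P.mul_mem_left _ hz, ?_⟩
        push_cast
        rw [h, smul_eq_mul]
        ring }
  have hmem : ∀ x : D, x ∈ 𝔮 ↔ ∃ m : ℕ, ∃ z ∈ P, (z : D) = r ^ m * x := fun x => Iff.rfl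
  have hmemE' : ∀ z : E', (z : D) ∈ 𝔮 ↔ z ∈ P := by
    intro z
    rw [hmem]
    constructor
    · rintro ⟨m, w, hw, h⟩
      apply hpowP m z
      have : r' ^ m * z = w := by
        apply Subtype.ext
        push_cast
        rw [h]
      rw [this]
      exact hw
    · intro hz
      exact ⟨0, z, hz, by simp⟩
  have h𝔮prime : 𝔮.IsPrime := by
    refine ⟨?_, ?_⟩
    · intro htop
      have h1 : ((1 : E') : D) ∈ 𝔮 := by
        rw [htop]
        exact Submodule.mem_top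
      rw [hmemE'] at h1
      exact hPprime.ne_top ((Ideal.eq_top_iff_one _).mpr h1)
    · intro x₁ x₂ h12
      obtain ⟨k₁, hk₁⟩ := hr x₁
      obtain ⟨k₂, hk₂⟩ := hr x₂
      have h1 : (((⟨r ^ k₁ * x₁, hk₁⟩ : E') * (⟨r ^ k₂ * x₂, hk₂⟩ : E') : E') : D) ∈ 𝔮 := by
        have : (((⟨r ^ k₁ * x₁, hk₁⟩ : E') * (⟨r ^ k₂ * x₂, hk₂⟩ : E') : E') : D) =
            (r ^ k₁ * r ^ k₂) * (x₁ * x₂) := by
          push_cast
          ring
        rw [this]
        exact 𝔮.mul_mem_left _ h12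
      rw [hmemE'] at h1
      rcases hPprime.mem_or_mem h1 with h | h
      · left
        exact ⟨k₁, _, h, rfl⟩
      · right
        exact ⟨k₂, _, h, rfl⟩
  refine ⟨𝔮, h𝔮prime, ?_, ?_⟩
  · rintro x ⟨m, z, hz, h⟩
    have h1 : (z : D) ∈ 𝔫 := hP𝔫' hz
    rw [h] at h1
    rcases h𝔫.mem_or_mem h1 with h2 | h2
    · exact absurd (h𝔫.mem_of_pow_mem m h2) hr𝔫
    · exact h2
  · ext e
    rw [Ideal.under_def, Ideal.mem_comap]
    have h1 : algebraMap E D e = ((algebraMap E E' e : E') : D) := rfl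
    rw [h1, hmemE', hPover.over]
    rfl

omit [IsIntegrallyClosed E] [FaithfulSMul E D] in
/-- A nonzero element avoids every prime not containing `r` whose contraction avoids a suitable nonzero
element of `E`. -/
theorem exists_ne_zero_forall_notMem (r : D) (hr0 : r ≠ 0)
    (hr : ∀ x : D, ∃ m : ℕ, IsIntegral E (r ^ m * x)) (h : D) (hh : h ≠ 0) :
    ∃ e₀ : E, e₀ ≠ 0 ∧ ∀ 𝔮 : Ideal D, 𝔮.IsPrime → algebraMap E D e₀ ∉ 𝔮 → h ∉ 𝔮 := by
  obtain ⟨m₀, hm₀⟩ := hr h
  set E' : Subalgebra E D := integralClosure E D with hE'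
  set g : E' := ⟨r ^ m₀ * h, hm₀⟩ with hg
  have hg0 : g ≠ 0 := by
    intro h0
    have : r ^ m₀ * h = 0 := congrArg Subtype.val h0
    exact mul_ne_zero (pow_ne_zero _ hr0) hh this
  have hspan : Ideal.span {g} ≠ ⊥ := by
    rw [Ne, Ideal.span_singleton_eq_bot]
    exact hg0
  have hcomap : (Ideal.span {g}).comap (algebraMap E E') ≠ ⊥ := fun h0 =>
    hspan (Ideal.eq_bot_of_comap_eq_bot h0)
  obtain ⟨e₀, he₀mem, he₀0⟩ := Submodule.exists_mem_ne_zero_of_ne_bot hcomap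
  refine ⟨e₀, he₀0, ?_⟩
  intro 𝔮 h𝔮 he₀ hh𝔮
  apply he₀
  rw [Ideal.mem_comap, Ideal.mem_span_singleton'] at he₀mem
  obtain ⟨b, hb⟩ := he₀mem
  have h1 : algebraMap E D e₀ = (b : D) * (r ^ m₀ * h) := by
    have h2 : ((b * g : E') : D) = ((algebraMap E E' e₀ : E') : D) := congrArg Subtype.val hb
    exact h2.symm
  rw [h1]
  exact 𝔮.mul_mem_left _ (𝔮.mul_mem_left _ hh𝔮)

end GoingDown

section Alg

/-- In a domain, `w` is algebraic as soon as `ρ` and `ρ ^ k * w` are, with `ρ ≠ 0`. -/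
theorem isAlgebraic_of_pow_mul {V Q : Type*} [CommRing V] [IsDomain V] [CommRing Q] [IsDomain Q]
    [Algebra V Q] (ρ w : Q) (k : ℕ) (hρ0 : ρ ≠ 0) (hρ : IsAlgebraic V ρ)
    (hw : IsAlgebraic V (ρ ^ k * w)) : IsAlgebraic V w := by
  rw [← isAlgebraic_algebraMap_iff (A := FractionRing Q) (IsFractionRing.injective Q (FractionRing Q))]
  have h1 : algebraMap Q (FractionRing Q) w =
      algebraMap Q (FractionRing Q) (ρ ^ k * w) * (algebraMap Q (FractionRing Q) ρ ^ k)⁻¹ := by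
    have hne : algebraMap Q (FractionRing Q) ρ ^ k ≠ 0 :=
      pow_ne_zero _ ((map_ne_zero_iff _ (IsFractionRing.injective Q (FractionRing Q))).mpr hρ0)
    rw [map_mul, map_pow, mul_comm (algebraMap Q (FractionRing Q) ρ ^ k), mul_assoc,
      mul_inv_cancel₀ hne, mul_one]
  rw [h1]
  have h2 : IsAlgebraic V (algebraMap Q (FractionRing Q) ρ) := hρ.algebraMap
  have h3 : IsAlgebraic V (algebraMap Q (FractionRing Q) (ρ ^ k * w)) := hw.algebraMap
  exact h3.mul (h2.pow k).inv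

end Alg

section Core

variable {V : Type u} [CommRing V] [IsDomain V] [ValuationRing V]
  {D : Type v} [CommRing D] [IsDomain D] [Algebra V D] [FaithfulSMul V D] [Algebra.FiniteType V D]

theorem infinite_maximalIdeal (hV : IsLocalRing.maximalIdeal V ≠ ⊥) :
    ((IsLocalRing.maximalIdeal V : Ideal V) : Set V).Infinite := by
  obtain ⟨t, htm, ht0⟩ := Submodule.exists_mem_ne_zero_of_ne_bot hV
  have htu : ¬IsUnit t := (IsLocalRing.mem_maximalIdeal t).mp htm
  have hinj : Function.Injective (fun n : ℕ => t ^ (n + 1)) := by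
    intro a b hab
    have := pow_injective_of_not_isUnit htu ht0 hab
    omega
  exact Set.infinite_of_injective_forall_mem hinj
    (fun n => Ideal.pow_mem_of_mem _ htm _ (Nat.succ_pos n))

/-- **Main result over a valuation ring**: if `D` is a domain of finite type over a valuation ring `V`
(which is not a field), `𝔫` a maximal ideal of `D` over the maximal ideal of `V` and `h ≠ 0`, there is a
prime `𝔮 ⊆ 𝔫` of `D` with `𝔮 ∩ V = 0`, `h ∉ 𝔮` and `D / 𝔮` algebraic over `V`. -/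
theorem exists_prime_le_of_valuationRing (hV : IsLocalRing.maximalIdeal V ≠ ⊥)
    (𝔫 : Ideal D) [h𝔫 : 𝔫.IsMaximal]
    (hover : 𝔫.comap (algebraMap V D) = IsLocalRing.maximalIdeal V) (h : D) (hh : h ≠ 0) :
    ∃ 𝔮 : Ideal D, 𝔮.IsPrime ∧ 𝔮 ≤ 𝔫 ∧ 𝔮.comap (algebraMap V D) = ⊥ ∧ h ∉ 𝔮 ∧
      Algebra.IsAlgebraic V (D ⧸ 𝔮) := by
  classical
  obtain ⟨d, y, hy𝔫, hinj, hmin⟩ := exists_params 𝔫 hover
  haveI h𝔫prime : 𝔫.IsPrime := h𝔫.isPrime
  letI algED : Algebra (MvPolynomial (Fin d) V) D :=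
    (aeval y : MvPolynomial (Fin d) V →ₐ[V] D).toRingHom.toAlgebra
  have halg : ∀ P : MvPolynomial (Fin d) V, algebraMap (MvPolynomial (Fin d) V) D P = aeval y P :=
    fun P => rfl
  haveI : IsScalarTower V (MvPolynomial (Fin d) V) D := IsScalarTower.of_algebraMap_eq (fun a => by
    rw [halg, MvPolynomial.algebraMap_eq, aeval_C])
  haveI : Algebra.FiniteType (MvPolynomial (Fin d) V) D :=
    Algebra.FiniteType.of_restrictScalars_finiteType V (MvPolynomial (Fin d) V) D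
  haveI : FaithfulSMul (MvPolynomial (Fin d) V) D :=
    (faithfulSMul_iff_algebraMap_injective _ _).mpr hinj
  haveI : IsIntegrallyClosed (MvPolynomial (Fin d) V) := isIntegrallyClosed_mvPolynomial_fin V d
  -- the contraction of `𝔫`
  have hunder : 𝔫.under (MvPolynomial (Fin d) V) =
      (IsLocalRing.maximalIdeal V).comap (constantCoeff : MvPolynomial (Fin d) V →+* V) := by
    rw [← hover]
    exact comap_aeval_eq 𝔫 y hy𝔫
  have hundermax : (𝔫.under (MvPolynomial (Fin d) V)).IsMaximal := by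
    rw [hunder]
    exact Ideal.comap_isMaximal_of_surjective _ (fun a => ⟨C a, constantCoeff_C _ a⟩)
  have hCmem : ∀ a ∈ IsLocalRing.maximalIdeal V, (C a : MvPolynomial (Fin d) V) ∈
      𝔫.under (MvPolynomial (Fin d) V) := by
    intro a ha
    rw [hunder, Ideal.mem_comap, constantCoeff_C]
    exact ha
  have hXmem : ∀ i, (X i : MvPolynomial (Fin d) V) ∈ 𝔫.under (MvPolynomial (Fin d) V) := by
    intro i
    rw [hunder, Ideal.mem_comap, constantCoeff_X]
    exact Ideal.zero_mem _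
  haveI hWQF : Algebra.WeaklyQuasiFiniteAt (MvPolynomial (Fin d) V) 𝔫 := by
    apply weaklyQuasiFiniteAt_of_minimal 𝔫 hundermax
    intro 𝔮 h𝔮prime h𝔮le hmap
    apply hmin 𝔮 h𝔮prime h𝔮le
    · rw [Ideal.map_le_iff_le_comap]
      intro a ha
      rw [Ideal.mem_comap]
      have h1 : algebraMap V D a = algebraMap (MvPolynomial (Fin d) V) D (C a) := by
        rw [halg, aeval_C]
      rw [h1]
      exact hmap (Ideal.mem_map_of_mem _ (hCmem a ha))
    · intro i
      have h1 : y i = algebraMap (MvPolynomial (Fin d) V) D (X i) := by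
        rw [halg, aeval_X]
      rw [h1]
      exact hmap (Ideal.mem_map_of_mem _ (hXmem i))
  have hZ := Algebra.ZariskisMainProperty.of_finiteType_of_weaklyQuasiFiniteAt
    (R := MvPolynomial (Fin d) V) 𝔫
  rw [Algebra.zariskisMainProperty_iff] at hZ
  obtain ⟨r, hr𝔫, hrint, hr⟩ := hZ
  have hr0 : r ≠ 0 := fun h0 => hr𝔫 (h0 ▸ 𝔫.zero_mem)
  obtain ⟨e₀, he₀0, he₀⟩ := exists_ne_zero_forall_notMem (E := MvPolynomial (Fin d) V) r hr0 hr h hh
  -- choose `c` with `e₀(c) ≠ 0`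
  obtain ⟨c, hc, hce₀⟩ : ∃ c : Fin d → V, (∀ i, c i ∈ IsLocalRing.maximalIdeal V) ∧
      eval c e₀ ≠ 0 := by
    by_contra hcon
    push Not at hcon
    apply he₀0
    apply MvPolynomial.funext_set (fun _ => ((IsLocalRing.maximalIdeal V : Ideal V) : Set V))
      (fun _ => infinite_maximalIdeal hV)
    intro c hc
    rw [map_zero]
    exact hcon c (fun i => hc i (Set.mem_univ i))
  set 𝔭 : Ideal (MvPolynomial (Fin d) V) := RingHom.ker (eval c : MvPolynomial (Fin d) V →+* V)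
    with h𝔭
  haveI h𝔭prime : 𝔭.IsPrime := RingHom.ker_isPrime _
  have h𝔭le : 𝔭 ≤ 𝔫.under (MvPolynomial (Fin d) V) := by
    rw [hunder]
    exact ker_eval_le _ c hc
  obtain ⟨𝔮, h𝔮prime, h𝔮le, h𝔮under⟩ := exists_prime_under_eq 𝔫 r hr𝔫 hrint hr 𝔭 h𝔭le
  have hr𝔮 : r ∉ 𝔮 := fun h1 => hr𝔫 (h𝔮le h1)
  have hcomapV : 𝔮.comap (algebraMap V D) = ⊥ := by
    rw [IsScalarTower.algebraMap_eq V (MvPolynomial (Fin d) V) D, ← Ideal.comap_comap]
    have : 𝔮.comap (algebraMap (MvPolynomial (Fin d) V) D) = 𝔭 := h𝔮under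
    rw [this, MvPolynomial.algebraMap_eq, h𝔭]
    exact comap_C_ker_eval c
  refine ⟨𝔮, h𝔮prime, h𝔮le, hcomapV, ?_, ?_⟩
  · apply he₀ 𝔮 h𝔮prime
    intro hmem
    have h1 : e₀ ∈ 𝔮.under (MvPolynomial (Fin d) V) := hmem
    rw [h𝔮under, h𝔭, RingHom.mem_ker] at h1
    exact hce₀ h1
  · -- algebraicity
    haveI := h𝔮prime
    letI algEV : Algebra (MvPolynomial (Fin d) V) V := (eval c : MvPolynomial (Fin d) V →+* V).toAlgebra
    haveI : IsScalarTower (MvPolynomial (Fin d) V) V (D ⧸ 𝔮) := by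
      apply IsScalarTower.of_algebraMap_eq
      intro P
      have h1 : algebraMap (MvPolynomial (Fin d) V) (D ⧸ 𝔮) P = Ideal.Quotient.mk 𝔮 (aeval y P) := rfl
      have h2 : algebraMap (MvPolynomial (Fin d) V) V P = eval c P := rfl
      have h3 : algebraMap V (D ⧸ 𝔮) (eval c P) =
          Ideal.Quotient.mk 𝔮 (aeval y (C (eval c P) : MvPolynomial (Fin d) V)) := by
        rw [aeval_C]
        rfl
      rw [h1, h2, h3, ← sub_eq_zero, ← map_sub, ← map_sub, Ideal.Quotient.eq_zero_iff_mem]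
      have h4 : P - C (eval c P) ∈ 𝔮.under (MvPolynomial (Fin d) V) := by
        rw [h𝔮under, h𝔭, RingHom.mem_ker, map_sub, eval_C, sub_self]
      exact h4
    have hintV : ∀ z : D, IsIntegral (MvPolynomial (Fin d) V) z →
        IsAlgebraic V (Ideal.Quotient.mk 𝔮 z) := by
      intro z hz
      have h1 : IsIntegral (MvPolynomial (Fin d) V) (Ideal.Quotient.mk 𝔮 z) :=
        hz.map (Ideal.Quotient.mkₐ (MvPolynomial (Fin d) V) 𝔮)
      exact (IsIntegral.tower_top (A := V) h1).isAlgebraic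
    constructor
    intro w
    obtain ⟨x, rfl⟩ := Ideal.Quotient.mk_surjective w
    obtain ⟨k, hk⟩ := hr x
    apply isAlgebraic_of_pow_mul (Ideal.Quotient.mk 𝔮 r) (Ideal.Quotient.mk 𝔮 x) k
    · rwa [Ne, Ideal.Quotient.eq_zero_iff_mem]
    · exact hintV r hrint
    · rw [← map_pow, ← map_mul]
      exact hintV _ hk

end Core

end Groth.Agent.Lib.Helper4.ClosedPts
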