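import Mathlib
import Groth.Agent.Lib.Helper4ClosedPtsC

/-!
# Generizations of a point which is closed in its fibre: the case of domains (helper4)

Via a valuation ring dominating the local ring of the point.
-/

set_option autoImplicit false
set_option linter.style.haveILetI false

universe u v w w'

namespace Groth.Agent.Lib.Helper4.ClosedPts

/-- `C / 𝔮` is algebraic over `A / φ⁻¹ 𝔮` (elementary formulation). -/
def AlgMod {A C : Type*} [CommRing A] [CommRing C] (φ : A →+* C) (𝔮 : Ideal C) : Prop :=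
  ∀ c : C, ∃ P : Polynomial A, (∃ i, φ (P.coeff i) ∉ 𝔮) ∧ Polynomial.eval₂ φ c P ∈ 𝔮

theorem mem_maximalIdeal_valuationSubring_iff {K : Type*} [Field K] (W : ValuationSubring K) (x : W) :
    x ∈ IsLocalRing.maximalIdeal W ↔ (x : K) = 0 ∨ (x : K)⁻¹ ∉ W := by
  rw [IsLocalRing.mem_maximalIdeal, mem_nonunits_iff]
  constructor
  · intro hnu
    by_contra hcon
    push Not at hcon
    obtain ⟨h0, hinv⟩ := hcon
    apply hnu
    exact isUnit_iff_exists_inv.mpr ⟨⟨(x : K)⁻¹, hinv⟩, Subtype.ext (mul_inv_cancel₀ h0)⟩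
  · rintro (h0 | hinv) hu
    · have : x = 0 := Subtype.ext h0
      rw [this] at hu
      exact not_isUnit_zero hu
    · obtain ⟨y, hy⟩ := isUnit_iff_exists_inv.mp hu
      have h1 : (x : K) * (y : K) = 1 := congrArg Subtype.val hy
      have h2 : (x : K)⁻¹ = y := (eq_inv_of_mul_eq_one_right h1).symm
      exact hinv (h2 ▸ y.2)

/-- A prime over a maximal ideal `m` such that the quotient is generated by elements algebraic over
`V / m` is maximal. -/
theorem isMaximal_of_adjoin {V D : Type*} [CommRing V] [CommRing D] [Algebra V D] (m : Ideal V)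
    [hm : m.IsMaximal] (𝔫 : Ideal D) [h𝔫 : 𝔫.IsPrime] [hlies : 𝔫.LiesOver m] (T : Set D)
    (hT : Algebra.adjoin V T = ⊤)
    (halg : ∀ t ∈ T, ∃ P : Polynomial V, (∃ i, P.coeff i ∉ m) ∧ Polynomial.aeval t P ∈ 𝔫) :
    𝔫.IsMaximal := by
  have hint : ∀ x : D, IsIntegral (V ⧸ m) (Ideal.Quotient.mk 𝔫 x) := by
    intro x
    have hx : x ∈ Algebra.adjoin V T := by
      rw [hT]
      exact Algebra.mem_top
    induction hx using Algebra.adjoin_induction with
    | mem t ht =>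
      obtain ⟨P, ⟨i, hi⟩, hP⟩ := halg t ht
      letI : Field (V ⧸ m) := Ideal.Quotient.field _
      apply IsAlgebraic.isIntegral
      refine ⟨P.map (Ideal.Quotient.mk m), ?_, ?_⟩
      · intro h0
        have h1 := congrArg (fun q => q.coeff i) h0
        simp only [Polynomial.coeff_map, Polynomial.coeff_zero] at h1
        rw [Ideal.Quotient.eq_zero_iff_mem] at h1
        exact hi h1
      · rw [Polynomial.aeval_def, Polynomial.eval₂_map]
        have hcomp : (algebraMap (V ⧸ m) (D ⧸ 𝔫)).comp (Ideal.Quotient.mk m) =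
            (Ideal.Quotient.mk 𝔫).comp (algebraMap V D) := by
          ext a
          simp only [RingHom.comp_apply]
          rw [Ideal.Quotient.algebraMap_mk_of_liesOver]
        rw [hcomp]
        have h3 : Polynomial.eval₂ ((Ideal.Quotient.mk 𝔫).comp (algebraMap V D))
            (Ideal.Quotient.mk 𝔫 t) P = Ideal.Quotient.mk 𝔫 (Polynomial.eval₂ (algebraMap V D) t P) :=
          (Polynomial.hom_eval₂ P (algebraMap V D) (Ideal.Quotient.mk 𝔫) t).symm
        rw [h3, Ideal.Quotient.eq_zero_iff_mem]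
        exact hP
    | algebraMap v =>
      have h1 : Ideal.Quotient.mk 𝔫 (algebraMap V D v) =
          algebraMap (V ⧸ m) (D ⧸ 𝔫) (Ideal.Quotient.mk m v) := by
        rw [Ideal.Quotient.algebraMap_mk_of_liesOver]
      rw [h1]
      exact isIntegral_algebraMap
    | add x y _ _ hx' hy' =>
      rw [map_add]
      exact hx'.add hy'
    | mul x y _ _ hx' hy' =>
      rw [map_mul]
      exact hx'.mul hy'
  haveI : Algebra.IsIntegral (V ⧸ m) (D ⧸ 𝔫) := ⟨fun w => by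
    obtain ⟨x, rfl⟩ := Ideal.Quotient.mk_surjective w
    exact hint x⟩
  haveI : IsDomain (D ⧸ 𝔫) := Ideal.Quotient.isDomain 𝔫
  exact Ideal.Quotient.maximal_of_isField 𝔫
    (isField_of_isIntegral_of_isField' (R := V ⧸ m)
      ((Ideal.Quotient.maximal_ideal_iff_isField_quotient _).mp hm))

section Glue

theorem exists_prime_of_domain_aux {A : Type u} {C : Type v} [CommRing A] [IsDomain A] [CommRing C]
    [IsDomain C] [Algebra A C] [FaithfulSMul A C] [Algebra.FiniteType A C]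
    (K : Type w) (L : Type w') [Field K] [Field L] [Algebra A K] [IsFractionRing A K] [Algebra C L]
    [IsFractionRing C L] [Algebra K L] [Algebra A L] [IsScalarTower A K L] [IsScalarTower A C L]
    (𝔮' : Ideal C) [h𝔮' : 𝔮'.IsPrime]
    (hne : 𝔮'.comap (algebraMap A C) ≠ ⊥) (halg : AlgMod (algebraMap A C) 𝔮') (h : C) (hh : h ≠ 0) :
    ∃ 𝔮₁ : Ideal C, 𝔮₁.IsPrime ∧ 𝔮₁ ≤ 𝔮' ∧ 𝔮₁.comap (algebraMap A C) = ⊥ ∧ h ∉ 𝔮₁ ∧
      AlgMod (algebraMap A C) 𝔮₁ := by
  classical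
  -- a valuation ring `W` of `L` dominating `C_𝔮'`
  have hunit : ∀ y : 𝔮'.primeCompl, IsUnit (algebraMap C L (y : C)) := by
    intro y
    apply IsUnit.mk0
    rw [Ne, map_eq_zero_iff _ (IsFractionRing.injective C L)]
    intro h0
    exact y.2 (h0 ▸ 𝔮'.zero_mem)
  set f : Localization.AtPrime 𝔮' →+* L := IsLocalization.lift hunit with hf
  have hfeq : ∀ c : C, f (algebraMap C (Localization.AtPrime 𝔮') c) = algebraMap C L c :=
    fun c => IsLocalization.lift_eq hunit c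
  obtain ⟨W, hW, hloc⟩ := IsLocalRing.exists_factor_valuationRing f
  have hCW : ∀ c : C, algebraMap C L c ∈ W := fun c => by
    rw [← hfeq]
    exact hW _
  have hmemW : ∀ c : C, c ∈ 𝔮' ↔ (algebraMap C L c = 0 ∨ (algebraMap C L c)⁻¹ ∉ W) := by
    intro c
    rw [← IsLocalization.AtPrime.to_map_mem_maximal_iff (Localization.AtPrime 𝔮') 𝔮' c,
      IsLocalRing.mem_maximalIdeal, mem_nonunits_iff]
    constructor
    · intro hnu
      by_contra hcon
      push Not at hcon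
      obtain ⟨h0, hinv⟩ := hcon
      apply hnu
      apply hloc.map_nonunit
      refine isUnit_iff_exists_inv.mpr ⟨⟨(algebraMap C L c)⁻¹, hinv⟩, Subtype.ext ?_⟩
      change f (algebraMap C (Localization.AtPrime 𝔮') c) * (algebraMap C L c)⁻¹ = 1
      rw [hfeq, mul_inv_cancel₀ h0]
    · rintro hor hu
      obtain ⟨y, hy⟩ := isUnit_iff_exists_inv.mp hu
      have h1 : algebraMap C L c * f y = 1 := by
        rw [← hfeq, ← map_mul, hy, map_one]
      rcases hor with h0 | hinv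
      · rw [h0, zero_mul] at h1
        exact zero_ne_one h1
      · apply hinv
        rw [← eq_inv_of_mul_eq_one_right h1]
        exact hW y
  -- the valuation ring `V = W ∩ K`
  set V : ValuationSubring K := W.comap (algebraMap K L) with hV
  have hAL : ∀ a : A, algebraMap K L (algebraMap A K a) = algebraMap C L (algebraMap A C a) := by
    intro a
    rw [← IsScalarTower.algebraMap_apply A K L, ← IsScalarTower.algebraMap_apply A C L]
  have hAV : ∀ a : A, algebraMap A K a ∈ V := by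
    intro a
    rw [hV, ValuationSubring.mem_comap, hAL]
    exact hCW _
  set ρ : A →+* V := (algebraMap A K).codRestrict V hAV with hρ
  have hρcoe : ∀ a : A, ((ρ a : V) : K) = algebraMap A K a := fun a => rfl
  have hρinj : Function.Injective ρ := by
    intro a b hab
    apply IsFractionRing.injective A K
    rw [← hρcoe, ← hρcoe, hab]
  -- the `V`-algebra `D` generated by `C`
  obtain ⟨s, hs⟩ := (Algebra.FiniteType.out : (⊤ : Subalgebra A C).FG)
  set D : Subalgebra V L := Algebra.adjoin V ((algebraMap C L) '' (s : Set C)) with hD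
  have hVL : ∀ v : V, algebraMap V L v = algebraMap K L (v : K) := fun v => rfl
  have hCD : ∀ c : C, algebraMap C L c ∈ D := by
    intro c
    have hc : c ∈ Algebra.adjoin A (s : Set C) := by
      rw [hs]
      exact Algebra.mem_top
    induction hc using Algebra.adjoin_induction with
    | mem x hx => exact Algebra.subset_adjoin ⟨x, hx, rfl⟩
    | algebraMap a =>
      have : algebraMap C L (algebraMap A C a) = algebraMap V L (ρ a) := by
        rw [hVL, hρcoe, hAL]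
      rw [this]
      exact D.algebraMap_mem _
    | add x y _ _ hx hy =>
      rw [map_add]
      exact D.add_mem hx hy
    | mul x y _ _ hx hy =>
      rw [map_mul]
      exact D.mul_mem hx hy
  have hDW : ∀ x : L, x ∈ D → x ∈ W := by
    intro x hx
    induction hx using Algebra.adjoin_induction with
    | mem x hx =>
      obtain ⟨c, -, rfl⟩ := hx
      exact hCW c
    | algebraMap v =>
      rw [hVL]
      exact ValuationSubring.mem_comap.mp v.2
    | add x y _ _ hx hy => exact W.add_mem _ _ hx hy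
    | mul x y _ _ hx hy => exact W.mul_mem _ _ hx hy
  haveI : Algebra.FiniteType V D := by
    rw [← Subalgebra.fg_iff_finiteType, hD, ← Finset.coe_image]
    exact Subalgebra.fg_adjoin_finset _
  set ιD : C →+* D := (algebraMap C L).codRestrict D hCD with hιD
  have hιDcoe : ∀ c : C, ((ιD c : D) : L) = algebraMap C L c := fun c => rfl
  set j : D →+* W := (D.val : D →ₐ[V] L).toRingHom.codRestrict W (fun x => hDW x x.2) with hj
  have hjcoe : ∀ x : D, ((j x : W) : L) = (x : L) := fun x => rfl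
  set 𝔫 : Ideal D := (IsLocalRing.maximalIdeal W).comap j with h𝔫
  haveI h𝔫prime : 𝔫.IsPrime := Ideal.comap_isPrime j _
  have hmem𝔫 : ∀ x : D, x ∈ 𝔫 ↔ ((x : L) = 0 ∨ (x : L)⁻¹ ∉ W) := by
    intro x
    rw [h𝔫, Ideal.mem_comap, mem_maximalIdeal_valuationSubring_iff, hjcoe]
  have hover : 𝔫.comap (algebraMap V D) = IsLocalRing.maximalIdeal V := by
    ext v
    rw [Ideal.mem_comap, hmem𝔫, mem_maximalIdeal_valuationSubring_iff]
    have h1 : ((algebraMap V D v : D) : L) = algebraMap K L (v : K) := rfl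
    have h2 : ((v : K)⁻¹ ∈ V) ↔ (algebraMap K L (v : K))⁻¹ ∈ W := by
      rw [← map_inv₀]
      exact ValuationSubring.mem_comap
    rw [h1, map_eq_zero_iff _ (algebraMap K L).injective, h2]
  have h𝔫C : ∀ c : C, ιD c ∈ 𝔫 ↔ c ∈ 𝔮' := by
    intro c
    rw [hmem𝔫, hιDcoe, hmemW]
  have hρD : ∀ a : A, algebraMap V D (ρ a) = ιD (algebraMap A C a) := fun a => Subtype.ext (hAL a)
  -- `𝔫` is maximal
  haveI hlies : 𝔫.LiesOver (IsLocalRing.maximalIdeal V) := ⟨hover.symm⟩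
  haveI h𝔫max : 𝔫.IsMaximal := by
    apply isMaximal_of_adjoin (IsLocalRing.maximalIdeal V) 𝔫
      ((Subtype.val : D → L) ⁻¹' ((algebraMap C L) '' (s : Set C)))
      Algebra.adjoin_adjoin_coe_preimage
    rintro t ⟨c, -, hct⟩
    have htc : t = ιD c := Subtype.ext hct.symm
    obtain ⟨P, ⟨i, hi⟩, hP⟩ := halg c
    refine ⟨P.map ρ, ⟨i, ?_⟩, ?_⟩
    · rw [Polynomial.coeff_map, ← hover, Ideal.mem_comap, hρD, h𝔫C]
      exact hi
    · rw [Polynomial.aeval_def, Polynomial.eval₂_map, htc]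
      have hcomp : (algebraMap V D).comp ρ = ιD.comp (algebraMap A C) := by
        ext a
        simp only [RingHom.comp_apply]
        rw [hρD]
      rw [hcomp]
      have h3 : Polynomial.eval₂ (ιD.comp (algebraMap A C)) (ιD c) P =
          ιD (Polynomial.eval₂ (algebraMap A C) c P) :=
        (Polynomial.hom_eval₂ P (algebraMap A C) ιD c).symm
      rw [h3, h𝔫C]
      exact hP
  -- `V` is not a field
  have hmV : IsLocalRing.maximalIdeal V ≠ ⊥ := by
    obtain ⟨a, ha𝔮, ha0⟩ := Submodule.exists_mem_ne_zero_of_ne_bot hne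
    intro hbot
    have h1 : ρ a ∈ IsLocalRing.maximalIdeal V := by
      rw [← hover, Ideal.mem_comap, hρD, h𝔫C]
      exact ha𝔮
    rw [hbot, Ideal.mem_bot] at h1
    exact ha0 (hρinj (h1.trans (map_zero ρ).symm))
  have hιDinj : Function.Injective ιD := by
    intro a b hab
    apply IsFractionRing.injective C L
    rw [← hιDcoe, ← hιDcoe, hab]
  obtain ⟨𝔮, h𝔮prime, h𝔮le, h𝔮V, hh𝔮, h𝔮alg⟩ := exists_prime_le_of_valuationRing hmV 𝔫 hover (ιD h)
    ((map_ne_zero_iff ιD hιDinj).mpr hh)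
  have hcomapA : (𝔮.comap ιD).comap (algebraMap A C) = ⊥ := by
    rw [eq_bot_iff]
    intro a ha
    rw [Ideal.mem_comap, Ideal.mem_comap, ← hρD] at ha
    have h1 : ρ a ∈ 𝔮.comap (algebraMap V D) := ha
    rw [h𝔮V, Ideal.mem_bot] at h1
    rw [Ideal.mem_bot]
    exact hρinj (h1.trans (map_zero ρ).symm)
  refine ⟨𝔮.comap ιD, Ideal.comap_isPrime ιD 𝔮, ?_, hcomapA, hh𝔮, ?_⟩
  · intro c hc
    rw [← h𝔫C]
    exact h𝔮le hc
  · -- algebraicity
    intro c
    haveI := h𝔮prime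
    letI algAV : Algebra A V := ρ.toAlgebra
    letI algAQ : Algebra A (D ⧸ 𝔮) := ((algebraMap V (D ⧸ 𝔮)).comp ρ).toAlgebra
    haveI : IsScalarTower A V (D ⧸ 𝔮) := IsScalarTower.of_algebraMap_eq (fun _ => rfl)
    haveI : IsScalarTower A V K := IsScalarTower.of_algebraMap_eq (fun _ => rfl)
    haveI : Algebra.IsAlgebraic A K := IsLocalization.isAlgebraic K (nonZeroDivisors A)
    haveI : Algebra.IsAlgebraic A V := ⟨fun v => by
      rw [← isAlgebraic_algebraMap_iff (A := K) (FaithfulSMul.algebraMap_injective V K)]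
      exact Algebra.IsAlgebraic.isAlgebraic _⟩
    have h1 : IsAlgebraic A (Ideal.Quotient.mk 𝔮 (ιD c)) :=
      (h𝔮alg.isAlgebraic (Ideal.Quotient.mk 𝔮 (ιD c))).restrictScalars A
    obtain ⟨P, hP0, hP⟩ := h1
    obtain ⟨i, hi⟩ : ∃ i, P.coeff i ≠ 0 := by
      by_contra hcon
      push Not at hcon
      exact hP0 (Polynomial.ext (fun i => by rw [hcon i, Polynomial.coeff_zero]))
    refine ⟨P, ⟨i, ?_⟩, ?_⟩
    · intro hmem
      have h2 : P.coeff i ∈ (𝔮.comap ιD).comap (algebraMap A C) := hmem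
      rw [hcomapA, Ideal.mem_bot] at h2
      exact hi h2
    · rw [Ideal.mem_comap, ← Ideal.Quotient.eq_zero_iff_mem, ← hP, Polynomial.aeval_def]
      have hcomp : algebraMap A (D ⧸ 𝔮) = ((Ideal.Quotient.mk 𝔮).comp ιD).comp (algebraMap A C) := by
        ext a
        change algebraMap V (D ⧸ 𝔮) (ρ a) = _
        simp only [RingHom.comp_apply]
        rw [← hρD]
        rfl
      rw [hcomp]
      exact Polynomial.hom_eval₂ P (algebraMap A C) ((Ideal.Quotient.mk 𝔮).comp ιD) c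

end Glue

section General

/-- **Ring-level main theorem.** Let `φ : A₀ → C` be of finite type, `𝔮x ⊆ 𝔮'` primes of `C` lying over
different primes of `A₀`, such that `C / 𝔮'` is algebraic over `A₀ / φ⁻¹ 𝔮'`, and `h₀ ∉ 𝔮x`. Then there is
a prime `𝔮x ⊆ 𝔮₁ ⊆ 𝔮'` in the fibre of `𝔮x`, not containing `h₀`, with `C / 𝔮₁` algebraic over
`A₀ / φ⁻¹ 𝔮x`. -/
theorem exists_prime_between {A₀ : Type u} {C : Type v} [CommRing A₀] [CommRing C] (φ : A₀ →+* C)
    (hφ : φ.FiniteType) (𝔮x 𝔮' : Ideal C) [h𝔮x : 𝔮x.IsPrime] [h𝔮' : 𝔮'.IsPrime] (hle : 𝔮x ≤ 𝔮')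
    (hne : 𝔮x.comap φ ≠ 𝔮'.comap φ) (halg : AlgMod φ 𝔮') (h₀ : C) (hh₀ : h₀ ∉ 𝔮x) :
    ∃ 𝔮₁ : Ideal C, 𝔮₁.IsPrime ∧ 𝔮x ≤ 𝔮₁ ∧ 𝔮₁ ≤ 𝔮' ∧ 𝔮₁.comap φ = 𝔮x.comap φ ∧ h₀ ∉ 𝔮₁ ∧
      AlgMod φ 𝔮₁ := by
  haveI : (𝔮x.comap φ).IsPrime := Ideal.comap_isPrime φ 𝔮x
  set ψ : A₀ ⧸ 𝔮x.comap φ →+* C ⧸ 𝔮x := Ideal.quotientMap 𝔮x φ le_rfl with hψ
  have hψmk : ∀ a : A₀, ψ (Ideal.Quotient.mk _ a) = Ideal.Quotient.mk 𝔮x (φ a) := fun a =>
    Ideal.quotientMap_mk
  have hψinj : Function.Injective ψ := Ideal.quotientMap_injective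
  have hψft : ψ.FiniteType := by
    have h1 : ((Ideal.Quotient.mk 𝔮x).comp φ).FiniteType :=
      (RingHom.FiniteType.of_surjective _ Ideal.Quotient.mk_surjective).comp hφ
    have h2 : (Ideal.Quotient.mk 𝔮x).comp φ = ψ.comp (Ideal.Quotient.mk (𝔮x.comap φ)) := by
      ext a
      simp only [RingHom.comp_apply]
      rw [hψmk]
    rw [h2] at h1
    exact RingHom.FiniteType.of_comp_finiteType h1
  letI algAC : Algebra (A₀ ⧸ 𝔮x.comap φ) (C ⧸ 𝔮x) := ψ.toAlgebra
  haveI : Algebra.FiniteType (A₀ ⧸ 𝔮x.comap φ) (C ⧸ 𝔮x) := hψft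
  haveI : FaithfulSMul (A₀ ⧸ 𝔮x.comap φ) (C ⧸ 𝔮x) :=
    (faithfulSMul_iff_algebraMap_injective _ _).mpr hψinj
  haveI : FaithfulSMul (A₀ ⧸ 𝔮x.comap φ) (FractionRing (C ⧸ 𝔮x)) := by
    rw [faithfulSMul_iff_algebraMap_injective,
      IsScalarTower.algebraMap_eq (A₀ ⧸ 𝔮x.comap φ) (C ⧸ 𝔮x) (FractionRing (C ⧸ 𝔮x))]
    exact (IsFractionRing.injective (C ⧸ 𝔮x) (FractionRing (C ⧸ 𝔮x))).comp hψinj
  letI algKL : Algebra (FractionRing (A₀ ⧸ 𝔮x.comap φ)) (FractionRing (C ⧸ 𝔮x)) :=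
    FractionRing.liftAlgebra _ _
  haveI : IsScalarTower (A₀ ⧸ 𝔮x.comap φ) (FractionRing (A₀ ⧸ 𝔮x.comap φ))
      (FractionRing (C ⧸ 𝔮x)) := FractionRing.isScalarTower_liftAlgebra _ _
  have hcomap' : (𝔮'.map (Ideal.Quotient.mk 𝔮x)).comap (Ideal.Quotient.mk 𝔮x) = 𝔮' := by
    rw [Ideal.comap_map_of_surjective _ Ideal.Quotient.mk_surjective, ← RingHom.ker_eq_comap_bot,
      Ideal.mk_ker]
    exact sup_eq_left.mpr hle
  haveI h𝔮'bar : (𝔮'.map (Ideal.Quotient.mk 𝔮x)).IsPrime :=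
    Ideal.isPrime_map_quotientMk_of_isPrime hle
  have hmem' : ∀ c : C, Ideal.Quotient.mk 𝔮x c ∈ 𝔮'.map (Ideal.Quotient.mk 𝔮x) ↔ c ∈ 𝔮' := by
    intro c
    rw [← Ideal.mem_comap, hcomap']
  have hevalbar : ∀ (P : Polynomial A₀) (c : C),
      Polynomial.eval₂ ψ (Ideal.Quotient.mk 𝔮x c) (P.map (Ideal.Quotient.mk (𝔮x.comap φ))) =
        Ideal.Quotient.mk 𝔮x (Polynomial.eval₂ φ c P) := by
    intro P c
    rw [Polynomial.eval₂_map, Polynomial.hom_eval₂]
    congr 1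
  -- the hypotheses of the domain case
  have hne' : (𝔮'.map (Ideal.Quotient.mk 𝔮x)).comap (algebraMap (A₀ ⧸ 𝔮x.comap φ) (C ⧸ 𝔮x)) ≠ ⊥ := by
    have hle' : 𝔮x.comap φ ≤ 𝔮'.comap φ := Ideal.comap_mono hle
    obtain ⟨a, ha', hax⟩ : ∃ a, a ∈ 𝔮'.comap φ ∧ a ∉ 𝔮x.comap φ := by
      by_contra hcon
      push Not at hcon
      exact hne (le_antisymm hle' hcon)
    intro hbot
    have h1 : Ideal.Quotient.mk (𝔮x.comap φ) a ∈
        (𝔮'.map (Ideal.Quotient.mk 𝔮x)).comap (algebraMap (A₀ ⧸ 𝔮x.comap φ) (C ⧸ 𝔮x)) := by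
      rw [Ideal.mem_comap]
      change ψ _ ∈ _
      rw [hψmk, hmem']
      exact ha'
    rw [hbot, Ideal.mem_bot, Ideal.Quotient.eq_zero_iff_mem] at h1
    exact hax h1
  have halg' : AlgMod (algebraMap (A₀ ⧸ 𝔮x.comap φ) (C ⧸ 𝔮x)) (𝔮'.map (Ideal.Quotient.mk 𝔮x)) := by
    intro cbar
    obtain ⟨c, rfl⟩ := Ideal.Quotient.mk_surjective cbar
    obtain ⟨P, ⟨i, hi⟩, hP⟩ := halg c
    refine ⟨P.map (Ideal.Quotient.mk (𝔮x.comap φ)), ⟨i, ?_⟩, ?_⟩
    · rw [Polynomial.coeff_map]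
      change ψ _ ∉ _
      rw [hψmk, hmem']
      exact hi
    · change Polynomial.eval₂ ψ _ _ ∈ _
      rw [hevalbar, hmem']
      exact hP
  have hh₀' : Ideal.Quotient.mk 𝔮x h₀ ≠ 0 := by
    rwa [Ne, Ideal.Quotient.eq_zero_iff_mem]
  obtain ⟨𝔮b, h𝔮bprime, h𝔮ble, h𝔮bcomap, hh𝔮b, h𝔮balg⟩ :=
    exists_prime_of_domain_aux (FractionRing (A₀ ⧸ 𝔮x.comap φ)) (FractionRing (C ⧸ 𝔮x))
      (𝔮'.map (Ideal.Quotient.mk 𝔮x)) hne' halg' (Ideal.Quotient.mk 𝔮x h₀) hh₀'
  have hcomapφ : (𝔮b.comap (Ideal.Quotient.mk 𝔮x)).comap φ = 𝔮x.comap φ := by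
    ext a
    rw [Ideal.mem_comap, Ideal.mem_comap, ← hψmk]
    have h1 : ψ (Ideal.Quotient.mk (𝔮x.comap φ) a) ∈ 𝔮b ↔
        Ideal.Quotient.mk (𝔮x.comap φ) a ∈ 𝔮b.comap (algebraMap (A₀ ⧸ 𝔮x.comap φ) (C ⧸ 𝔮x)) := Iff.rfl
    rw [h1, h𝔮bcomap, Ideal.mem_bot, Ideal.Quotient.eq_zero_iff_mem]
  refine ⟨𝔮b.comap (Ideal.Quotient.mk 𝔮x), Ideal.comap_isPrime _ 𝔮b, ?_, ?_, hcomapφ, hh𝔮b, ?_⟩
  · intro c hc
    rw [Ideal.mem_comap, Ideal.Quotient.eq_zero_iff_mem.mpr hc]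
    exact 𝔮b.zero_mem
  · rw [← hcomap']
    exact Ideal.comap_mono h𝔮ble
  · intro c
    obtain ⟨Pb, ⟨i, hi⟩, hPb⟩ := h𝔮balg (Ideal.Quotient.mk 𝔮x c)
    obtain ⟨P, rfl⟩ := Polynomial.map_surjective (Ideal.Quotient.mk (𝔮x.comap φ))
      Ideal.Quotient.mk_surjective Pb
    refine ⟨P, ⟨i, ?_⟩, ?_⟩
    · rw [Polynomial.coeff_map] at hi
      change ψ _ ∉ _ at hi
      rw [hψmk] at hi
      exact hi
    · change Polynomial.eval₂ ψ _ _ ∈ _ at hPb
      rw [hevalbar] at hPb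
      exact hPb

end General

end Groth.Agent.Lib.Helper4.ClosedPts
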