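import Groth.Agent.Lib.Helper4ClosedPtsD
import Groth.Agent.Lib.Helper4VarDim12

/-!
# Points closed in their fibre (helper4)

For `f : X ⟶ S` locally of finite type:
* `isClosed_fibre_iff`: `x` is closed in `f ⁻¹' {f x}` iff `κ(x)` is algebraic over `κ(f x)`;
* `trdeg_eq_zero_iff_algMod`: this is equivalent to the ring-level condition `AlgMod` in affine charts.
-/

set_option autoImplicit false
set_option linter.style.haveILetI false
universe u

open AlgebraicGeometry CategoryTheory TopologicalSpace Topology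

namespace Groth.Agent.Lib.Helper4.ClosedPts

open Groth.Agent.Lib.Helper4.VarDim

attribute [local instance] Curv2.resAlgebra

theorem isClosed_fibre_iff {X S : Scheme.{u}} (f : X ⟶ S) [LocallyOfFiniteType f] (x : X) :
    IsClosed (Subtype.val ⁻¹' {x} : Set ↑(f ⁻¹' {f x})) ↔
      @Algebra.trdeg (S.residueField (f x)) (X.residueField x) _ _
        (f.residueFieldMap x).hom.toAlgebra = 0 := by
  letI : (f.fiber (f x)).Over (Spec (CommRingCat.of (S.residueField (f x)))) :=
    ⟨f.fiberToSpecResidueField (f x)⟩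
  haveI : LocallyOfFiniteType ((f.fiber (f x)) ↘ Spec (CommRingCat.of (S.residueField (f x)))) :=
    locallyOfFiniteType_fiberToSpecResidueField f (f x)
  have h1 := trdeg_residueFieldMap_eq_trdegNat_fiber f (f x) (f.asFiber x) x (f.fiberι_asFiber x)
  rw [h1, Nat.cast_eq_zero]
  have h2 : (Subtype.val ⁻¹' {x} : Set ↑(f ⁻¹' {f x})) =
      (f.fiberHomeo (f x)) '' {f.asFiber x} := by
    rw [Set.image_singleton]
    ext ⟨y, hy⟩
    simp only [Set.mem_preimage, Set.mem_singleton_iff]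
    rw [Scheme.Hom.asFiber, Homeomorph.apply_symm_apply]
    exact ⟨fun h => Subtype.ext h, fun h => congrArg Subtype.val h⟩
  rw [h2, (f.fiberHomeo (f x)).isClosed_image]
  constructor
  · intro hcl
    have h3 := trdeg_eq_zero_of_isClosed (S.residueField (f x)) (f.fiber (f x)) (f.asFiber x) hcl
    unfold trdegNat
    rw [h3, Cardinal.zero_toNat]
  · intro h0
    rw [← closure_subset_iff_isClosed]
    intro z' hz'
    have hsp : f.asFiber x ⤳ z' := specializes_iff_mem_closure.mpr hz'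
    by_contra hne
    have := trdegNat_lt_of_specializes (S.residueField (f x)) (f.fiber (f x)) (f.asFiber x) z' hsp
      (fun h => hne (h ▸ rfl))
    omega

theorem comap_appLE_primeIdealOf {X S : Scheme.{u}} (f : X ⟶ S) {V : S.Opens} {U : X.Opens}
    (hV : IsAffineOpen V) (hU : IsAffineOpen U) (e : U ≤ f ⁻¹ᵁ V) (x : X) (hx : x ∈ U) :
    (hU.primeIdealOf ⟨x, hx⟩).asIdeal.comap (f.appLE V U e).hom =
      (hV.primeIdealOf ⟨f x, show f x ∈ V from e hx⟩).asIdeal := by
  ext a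
  rw [Ideal.mem_comap, mem_primeIdealOf_iff hU, mem_primeIdealOf_iff hV (f x) (e hx)]
  change (X.evaluation U x hx).hom ((f.appLE V U e).hom a) = 0 ↔
    (S.evaluation V (f x) (e hx)).hom a = 0
  rw [appLE_evaluation f e x hx a]
  exact map_eq_zero_iff _ (f.residueFieldMap x).hom.injective

/-- Clearing denominators of a polynomial over a residue field of an affine open. -/
theorem exists_clear_denominators {S : Scheme.{u}} {V : S.Opens} (hV : IsAffineOpen V) (y : S)
    (hy : y ∈ V) (p : Polynomial (S.residueField y)) :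
    ∃ (t : Γ(S, V)) (P : Polynomial Γ(S, V)), (S.evaluation V y hy).hom t ≠ 0 ∧
      P.map (S.evaluation V y hy).hom = Polynomial.C ((S.evaluation V y hy).hom t) * p := by
  induction p using Polynomial.induction_on' with
  | add p q hp hq =>
    obtain ⟨t₁, P₁, ht₁, hP₁⟩ := hp
    obtain ⟨t₂, P₂, ht₂, hP₂⟩ := hq
    refine ⟨t₁ * t₂, Polynomial.C t₂ * P₁ + Polynomial.C t₁ * P₂, ?_, ?_⟩
    · rw [map_mul]
      exact mul_ne_zero ht₁ ht₂
    · rw [Polynomial.map_add, Polynomial.map_mul, Polynomial.map_mul, Polynomial.map_C,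
        Polynomial.map_C, hP₁, hP₂, map_mul, Polynomial.C_mul]
      ring
  | monomial n z =>
    obtain ⟨a, t, hz⟩ := evaluation_frac hV y hy z
    by_cases ht : (S.evaluation V y hy).hom t = 0
    · refine ⟨1, 0, by rw [map_one]; exact one_ne_zero, ?_⟩
      rw [ht, div_zero] at hz
      rw [hz, Polynomial.map_zero, Polynomial.monomial_zero_right, mul_zero]
    · refine ⟨t, Polynomial.monomial n a, ht, ?_⟩
      rw [Polynomial.map_monomial, Polynomial.C_mul_monomial, hz, mul_div_cancel₀ _ ht]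

theorem trdeg_eq_zero_iff_algMod {X S : Scheme.{u}} (f : X ⟶ S) {V : S.Opens} {U : X.Opens}
    (hV : IsAffineOpen V) (hU : IsAffineOpen U) (e : U ≤ f ⁻¹ᵁ V) (x : X) (hx : x ∈ U) :
    @Algebra.trdeg (S.residueField (f x)) (X.residueField x) _ _
      (f.residueFieldMap x).hom.toAlgebra = 0 ↔
      AlgMod (f.appLE V U e).hom (hU.primeIdealOf ⟨x, hx⟩).asIdeal := by
  letI : Algebra (S.residueField (f x)) (X.residueField x) := (f.residueFieldMap x).hom.toAlgebra
  have hker : ∀ c : Γ(X, U), c ∈ (hU.primeIdealOf ⟨x, hx⟩).asIdeal ↔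
      (X.evaluation U x hx).hom c = 0 := fun c => mem_primeIdealOf_iff hU x hx c
  have hnat : ∀ a : Γ(S, V), (X.evaluation U x hx).hom ((f.appLE V U e).hom a) =
      algebraMap (S.residueField (f x)) (X.residueField x) ((S.evaluation V (f x) (e hx)).hom a) :=
    fun a => appLE_evaluation f e x hx a
  have heval : ∀ (P : Polynomial Γ(S, V)) (c : Γ(X, U)),
      (X.evaluation U x hx).hom (Polynomial.eval₂ (f.appLE V U e).hom c P) =
        Polynomial.aeval ((X.evaluation U x hx).hom c)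
          (P.map (S.evaluation V (f x) (e hx)).hom) := by
    intro P c
    rw [Polynomial.hom_eval₂, Polynomial.aeval_def, Polynomial.eval₂_map]
    congr 1
    ext a
    exact hnat a
  have hinj : Function.Injective (algebraMap (S.residueField (f x)) (X.residueField x)) :=
    (f.residueFieldMap x).hom.injective
  rw [trdeg_eq_zero_iff]
  constructor
  · intro halg c
    obtain ⟨p, hp0, hp⟩ := halg.isAlgebraic ((X.evaluation U x hx).hom c)
    obtain ⟨t, P, ht, hP⟩ := exists_clear_denominators hV (f x) (e hx) p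
    have hP0 : P.map (S.evaluation V (f x) (e hx)).hom ≠ 0 := by
      rw [hP]
      exact mul_ne_zero (by rwa [Ne, Polynomial.C_eq_zero]) hp0
    obtain ⟨i, hi⟩ : ∃ i, (P.map (S.evaluation V (f x) (e hx)).hom).coeff i ≠ 0 := by
      by_contra hcon
      push Not at hcon
      exact hP0 (Polynomial.ext (fun i => by rw [hcon i, Polynomial.coeff_zero]))
    refine ⟨P, ⟨i, ?_⟩, ?_⟩
    · rw [hker, hnat, map_eq_zero_iff _ hinj]
      rwa [Polynomial.coeff_map] at hi
    · rw [hker, heval, hP, map_mul, hp, mul_zero]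
  · intro halg
    have hc : ∀ c : Γ(X, U), IsAlgebraic (S.residueField (f x)) ((X.evaluation U x hx).hom c) := by
      intro c
      obtain ⟨P, ⟨i, hi⟩, hP⟩ := halg c
      refine ⟨P.map (S.evaluation V (f x) (e hx)).hom, ?_, ?_⟩
      · intro h0
        apply hi
        rw [hker, hnat]
        have := congrArg (fun q => q.coeff i) h0
        simp only [Polynomial.coeff_map, Polynomial.coeff_zero] at this
        rw [this, map_zero]
      · rw [← heval, ← hker]
        exact hP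
    constructor
    intro z
    obtain ⟨a, t, rfl⟩ := evaluation_frac hU x hx z
    rw [div_eq_mul_inv]
    exact (hc a).mul (hc t).inv

/-- **Main theorem** (pointwise form): in every open neighbourhood `W` of `x` there is a point `x₁` of
the fibre of `f x`, closed in this fibre, with `x ⤳ x₁ ⤳ x'`. -/
theorem exists_closed_point_between {X S : Scheme.{u}} (f : X ⟶ S) [LocallyOfFiniteType f]
    (x x' : X) (hsp : x ⤳ x') (hne : f x ≠ f x')
    (hcl : IsClosed (Subtype.val ⁻¹' {x'} : Set ↑(f ⁻¹' {f x'}))) (W : X.Opens) (hxW : x ∈ W) :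
    ∃ x₁ : X, x₁ ∈ W ∧ f x₁ = f x ∧
      IsClosed (Subtype.val ⁻¹' {x₁} : Set ↑(f ⁻¹' {f x₁})) ∧ x ⤳ x₁ ∧ x₁ ⤳ x' := by
  obtain ⟨V, hV, hfx'V, -⟩ :=
    exists_isAffineOpen_mem_and_subset (X := S) (U := ⊤) (x := f x') trivial
  obtain ⟨U, hU, hx'U, hUV⟩ :=
    exists_isAffineOpen_mem_and_subset (X := X) (U := f ⁻¹ᵁ V) (x := x') hfx'V
  have e : U ≤ f ⁻¹ᵁ V := hUV
  have hxU : x ∈ U := hsp.mem_open U.isOpen hx'U
  obtain ⟨h₀, hh₀W, hxh₀⟩ := hU.exists_basicOpen_le (V := W) ⟨x, hxW⟩ hxU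
  have hle : (hU.primeIdealOf ⟨x, hxU⟩).asIdeal ≤ (hU.primeIdealOf ⟨x', hx'U⟩).asIdeal :=
    (primeIdealOf_le_iff hU x x' hxU hx'U).mpr hsp
  have hne' : (hU.primeIdealOf ⟨x, hxU⟩).asIdeal.comap (f.appLE V U e).hom ≠
      (hU.primeIdealOf ⟨x', hx'U⟩).asIdeal.comap (f.appLE V U e).hom := by
    rw [comap_appLE_primeIdealOf f hV hU e x hxU, comap_appLE_primeIdealOf f hV hU e x' hx'U]
    intro heq
    apply hne
    exact primeIdealOf_injective hV (f x) (f x') _ _ (PrimeSpectrum.ext heq)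
  have halg : AlgMod (f.appLE V U e).hom (hU.primeIdealOf ⟨x', hx'U⟩).asIdeal :=
    (trdeg_eq_zero_iff_algMod f hV hU e x' hx'U).mp ((isClosed_fibre_iff f x').mp hcl)
  have hh₀ : h₀ ∉ (hU.primeIdealOf ⟨x, hxU⟩).asIdeal := by
    rw [mem_primeIdealOf_iff_notMem_basicOpen hU x hxU h₀]
    exact not_not.mpr hxh₀
  obtain ⟨𝔮₁, h𝔮₁prime, hx𝔮₁, h𝔮₁', hcomap, hh₀𝔮₁, halg₁⟩ :=
    exists_prime_between (f.appLE V U e).hom (f.finiteType_appLE hV hU e) _ _ hle hne' halg h₀ hh₀
  have hx₁U : hU.fromSpec ⟨𝔮₁, h𝔮₁prime⟩ ∈ U := fromSpec_mem hU _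
  have hq₁ : (hU.primeIdealOf ⟨hU.fromSpec ⟨𝔮₁, h𝔮₁prime⟩, hx₁U⟩).asIdeal = 𝔮₁ :=
    congrArg PrimeSpectrum.asIdeal (primeIdealOf_fromSpec hU ⟨𝔮₁, h𝔮₁prime⟩ hx₁U)
  refine ⟨hU.fromSpec ⟨𝔮₁, h𝔮₁prime⟩, ?_, ?_, ?_, ?_, ?_⟩
  · apply hh₀W
    by_contra hnot
    apply hh₀𝔮₁
    rw [← hq₁]
    exact (mem_primeIdealOf_iff_notMem_basicOpen hU _ hx₁U h₀).mpr hnot
  · apply primeIdealOf_injective hV _ _ (e hx₁U) (e hxU)
    apply PrimeSpectrum.ext
    rw [← comap_appLE_primeIdealOf f hV hU e _ hx₁U, ← comap_appLE_primeIdealOf f hV hU e x hxU, hq₁]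
    exact hcomap
  · rw [isClosed_fibre_iff, trdeg_eq_zero_iff_algMod f hV hU e _ hx₁U, hq₁]
    exact halg₁
  · rw [← primeIdealOf_le_iff hU x _ hxU hx₁U, hq₁]
    exact hx𝔮₁
  · rw [← primeIdealOf_le_iff hU _ x' hx₁U hx'U, hq₁]
    exact h𝔮₁'

end Groth.Agent.Lib.Helper4.ClosedPts
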