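import Mathlib
import Groth.Agent.Lib.Helper4VarDim13
import Groth.Agent.Lib.Helper6QFAff

/-!
# Dimension of finite type `k`-schemes via maps to affine space (helper6)
-/

set_option autoImplicit false
set_option linter.style.haveILetI false
universe u

open TopologicalSpace Topology AlgebraicGeometry CategoryTheory MvPolynomial

namespace Groth.Agent.Lib.Helper6.DimAff

open Groth.Agent.Lib.Helper4.VarDim Groth.Agent.Lib.Helper6.QFAff

attribute [local instance] sectionsAlgebra Curv2.resAlgebra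

section Top

/-- In a Noetherian scheme there is a dense affine open. -/
theorem exists_dense_isAffineOpen (X : Scheme.{u}) [NoetherianSpace X] :
    ∃ U : X.Opens, IsAffineOpen U ∧ Dense (U : Set X) := by
  have hwf : WellFoundedGT X.Opens := (inferInstance : NoetherianSpace X)
  obtain ⟨U, hU, hmax⟩ := hwf.wf.has_min {U : X.Opens | IsAffineOpen U} ⟨⊥, isAffineOpen_bot X⟩
  refine ⟨U, hU, ?_⟩
  rw [dense_iff_inter_open]
  intro O hO hne
  by_contra hcon
  rw [Set.not_nonempty_iff_eq_empty] at hcon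
  obtain ⟨x, hx⟩ := hne
  obtain ⟨W, hW, hxW, hWO⟩ := exists_isAffineOpen_mem_and_subset (U := ⟨O, hO⟩) (x := x) hx
  have hdisj : Disjoint U W := by
    rw [← Opens.coe_disjoint, Set.disjoint_iff_inter_eq_empty]
    apply Set.eq_empty_of_subset_empty
    rintro y ⟨hyU, hyW⟩
    rw [← hcon]
    exact ⟨hWO hyW, hyU⟩
  have haff : IsAffineOpen (U ⊔ W) := hU.sup_of_disjoint hW hdisj
  have hlt : U < U ⊔ W := by
    refine lt_of_le_of_ne le_sup_left fun h => ?_
    have hxU : x ∈ U := by rw [h]; exact Or.inr hxW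
    have : x ∈ (O ∩ (U : Set X)) := ⟨hx, hxU⟩
    rw [hcon] at this
    exact this
  exact hmax (U ⊔ W) haff hlt

end Top

section Field

variable (k : Type u) [Field k]

theorem topologicalKrullDim_affineSpace (n : ℕ) :
    topologicalKrullDim 𝔸(ULift.{u} (Fin n); Spec (CommRingCat.of k)) = (n : WithBot ℕ∞) := by
  have h1 := IsHomeomorph.topologicalKrullDim_eq _
    (Scheme.homeoOfIso (AffineSpace.SpecIso (ULift.{u} (Fin n)) (CommRingCat.of k))).isHomeomorph
  rw [h1]
  have h2 := PrimeSpectrum.topologicalKrullDim_eq_ringKrullDim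
    (R := MvPolynomial (ULift.{u} (Fin n)) k)
  refine h2.trans ?_
  rw [MvPolynomial.ringKrullDim_of_isNoetherianRing, ringKrullDim_eq_zero_of_field]
  simp


instance (n : ℕ) : Nonempty 𝔸(ULift.{u} (Fin n); Spec (CommRingCat.of k)) := by
  have : Nonempty (Spec (CommRingCat.of (MvPolynomial (ULift.{u} (Fin n)) k))) :=
    inferInstanceAs (Nonempty (PrimeSpectrum (MvPolynomial (ULift.{u} (Fin n)) k)))
  obtain ⟨x⟩ := this
  exact ⟨(AffineSpace.SpecIso (ULift.{u} (Fin n)) (CommRingCat.of k)).inv x⟩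

/-- a surjective `k`-morphism to `𝔸^n_k` forces dimension at least `n`. -/
theorem le_topologicalKrullDim_of_surjective {W : Scheme.{u}} (h : W ⟶ Spec (CommRingCat.of k))
    [LocallyOfFiniteType h] (n : ℕ)
    (g : W ⟶ 𝔸(ULift.{u} (Fin n); Spec (CommRingCat.of k)))
    (hg : g ≫ (𝔸(ULift.{u} (Fin n); Spec (CommRingCat.of k)) ↘ Spec (CommRingCat.of k)) = h)
    (hs : Function.Surjective g) : (n : WithBot ℕ∞) ≤ topologicalKrullDim W := by
  letI : W.Over (Spec (CommRingCat.of k)) := ⟨h⟩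
  haveI : LocallyOfFiniteType (W ↘ Spec (CommRingCat.of k)) := ‹LocallyOfFiniteType h›
  obtain ⟨η, -, hη⟩ := exists_trdegNat_eq_topologicalKrullDim k
    𝔸(ULift.{u} (Fin n); Spec (CommRingCat.of k))
  rw [topologicalKrullDim_affineSpace] at hη
  obtain ⟨w, rfl⟩ := hs η
  have h1 := trdegNat_le_of_hom k g hg w
  have h2 := trdegNat_le_topologicalKrullDim k W w
  rw [hη]
  refine le_trans ?_ h2
  exact_mod_cast h1

/-- a locally quasi-finite `k`-morphism to `𝔸^n_k` forces dimension at most `n`. -/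
theorem topologicalKrullDim_le_of_locallyQuasiFinite {W : Scheme.{u}}
    (h : W ⟶ Spec (CommRingCat.of k))
    [LocallyOfFiniteType h] (n : ℕ)
    (g : W ⟶ 𝔸(ULift.{u} (Fin n); Spec (CommRingCat.of k)))
    (hg : g ≫ (𝔸(ULift.{u} (Fin n); Spec (CommRingCat.of k)) ↘ Spec (CommRingCat.of k)) = h)
    [LocallyQuasiFinite g] : topologicalKrullDim W ≤ (n : WithBot ℕ∞) := by
  letI : W.Over (Spec (CommRingCat.of k)) := ⟨h⟩
  haveI : LocallyOfFiniteType (W ↘ Spec (CommRingCat.of k)) := ‹LocallyOfFiniteType h›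
  haveI : LocallyOfFiniteType g := by
    have : LocallyOfFiniteType (g ≫ (𝔸(ULift.{u} (Fin n); Spec (CommRingCat.of k)) ↘
      Spec (CommRingCat.of k))) := by rw [hg]; infer_instance
    exact locallyOfFiniteType_of_comp g
      (𝔸(ULift.{u} (Fin n); Spec (CommRingCat.of k)) ↘ Spec (CommRingCat.of k))
  refine topologicalKrullDim_le_of_forall_trdegNat_le' k W _ fun t => ?_
  have h1 := trdeg_add_trdeg_residueFieldMap k g hg t
  rw [trdeg_residueFieldMap_eq_zero_of_locallyQuasiFinite g t, add_zero,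
    trdeg_eq_trdegNat k _ (g t), trdeg_eq_trdegNat k W t] at h1
  have h2 : trdegNat k _ (g t) = trdegNat k W t := by exact_mod_cast h1
  have h3 := trdegNat_le_topologicalKrullDim k
    𝔸(ULift.{u} (Fin n); Spec (CommRingCat.of k)) (g t)
  rw [topologicalKrullDim_affineSpace, h2] at h3
  exact h3


/-- a dense open of a quasi-compact scheme locally of finite type over a field has the same
dimension. -/
theorem topologicalKrullDim_eq_of_dense {X : Scheme.{u}} (f : X ⟶ Spec (CommRingCat.of k))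
    [LocallyOfFiniteType f] [CompactSpace X] (U : X.Opens) (hU : Dense (U : Set X)) :
    topologicalKrullDim X = topologicalKrullDim U := by
  apply le_antisymm
  · rcases isEmpty_or_nonempty X with hX | hX
    · rw [topologicalKrullDim_eq_bot_of_isEmpty]; exact bot_le
    letI : X.Over (Spec (CommRingCat.of k)) := ⟨f⟩
    haveI : LocallyOfFiniteType (X ↘ Spec (CommRingCat.of k)) := ‹LocallyOfFiniteType f›
    letI : (U : Scheme.{u}).Over (Spec (CommRingCat.of k)) := ⟨U.ι ≫ f⟩
    haveI : LocallyOfFiniteType ((U : Scheme.{u}) ↘ Spec (CommRingCat.of k)) :=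
      inferInstanceAs (LocallyOfFiniteType (U.ι ≫ f))
    obtain ⟨η, hη, hdim⟩ := exists_trdegNat_eq_topologicalKrullDim k X
    have hmax : ∀ y : X, y ⤳ η → y = η := by
      intro y hy
      have h1 : closure ({η} : Set X) ⊆ closure {y} := hy.closure_subset
      have h2 : closure ({y} : Set X) ⊆ closure {η} :=
        hη.2 isIrreducible_singleton.closure h1
      have h3 : η ⤳ y := specializes_iff_closure_subset.mpr h2
      exact (hy.antisymm h3).eq
    obtain ⟨N, hηN, hN⟩ := exists_opens_subset_closure k X η hmax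
    obtain ⟨w, hwN, hwU⟩ := hU.inter_open_nonempty N N.isOpen ⟨η, hηN⟩
    have hηw : η ⤳ w := specializes_iff_mem_closure.mpr (hN hwN)
    have hηU : η ∈ U := hηw.mem_open U.isOpen hwU
    have h1 := trdegNat_le_of_hom k (X := X) (Y := (U : Scheme.{u})) U.ι rfl ⟨η, hηU⟩
    have h2 := trdegNat_le_topologicalKrullDim k (U : Scheme.{u}) ⟨η, hηU⟩
    rw [hdim]
    refine le_trans ?_ h2
    exact_mod_cast h1
  · exact topologicalKrullDim_subspace_le X (U : Set X)


section Glue

variable {k} {X : Scheme.{u}} (f : X ⟶ Spec (CommRingCat.of k)) {U : X.Opens} (hU : IsAffineOpen U)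

/-- the `k`-algebra structure on sections induced by `f`. -/
noncomputable abbrev secAlg (U : X.Opens) : Algebra k Γ(X, U) :=
  ((Scheme.ΓSpecIso (CommRingCat.of k)).inv ≫ f.appLE ⊤ U le_top).hom.toAlgebra

/-- the `k`-morphism from an affine open to affine space given by a `k`-algebra map. -/
noncomputable def affMap {n : ℕ}
    (ψ : MvPolynomial (ULift.{u} (Fin n)) k →+* Γ(X, U)) :
    (U : Scheme.{u}) ⟶ 𝔸(ULift.{u} (Fin n); Spec (CommRingCat.of k)) :=
  hU.isoSpec.hom ≫ toAff (R := CommRingCat.of k) (B := Γ(X, U)) ψ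

include hU in
theorem affMap_over {n : ℕ} (ψ : MvPolynomial (ULift.{u} (Fin n)) k →+* Γ(X, U))
    (hψ : ψ.comp (C : k →+* _) = ((Scheme.ΓSpecIso (CommRingCat.of k)).inv ≫
      f.appLE ⊤ U le_top).hom) :
    affMap hU ψ ≫ (𝔸(ULift.{u} (Fin n); Spec (CommRingCat.of k)) ↘ Spec (CommRingCat.of k)) =
      U.ι ≫ f := by
  unfold affMap
  rw [Category.assoc, toAff_over, hψ]
  have h1 : CommRingCat.ofHom ((Scheme.ΓSpecIso (CommRingCat.of k)).inv ≫
      f.appLE ⊤ U le_top).hom = (Scheme.ΓSpecIso (CommRingCat.of k)).inv ≫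
      f.appLE ⊤ U le_top := rfl
  rw [h1, Spec.map_comp, ← Scheme.isoSpec_Spec_inv, ← IsAffineOpen.fromSpec_top,
    IsAffineOpen.SpecMap_appLE_fromSpec f (isAffineOpen_top _) hU le_top,
    ← IsAffineOpen.isoSpec_inv_ι, Category.assoc, Iso.hom_inv_id_assoc]

theorem isFinite_affMap {n : ℕ} (ψ : MvPolynomial (ULift.{u} (Fin n)) k →+* Γ(X, U))
    (hψ : ψ.Finite) : IsFinite (affMap hU ψ) := by
  haveI : IsFinite (Spec.map (CommRingCat.ofHom ψ)) := (IsFinite.SpecMap_iff _).mpr hψ
  unfold affMap toAff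
  infer_instance

theorem surjective_affMap {n : ℕ} (ψ : MvPolynomial (ULift.{u} (Fin n)) k →+* Γ(X, U))
    (hψ : Function.Surjective (PrimeSpectrum.comap ψ)) :
    Function.Surjective (affMap hU ψ) := by
  unfold affMap toAff
  intro a
  obtain ⟨b, hb⟩ := hψ ((AffineSpace.SpecIso (ULift.{u} (Fin n)) (CommRingCat.of k)).hom a)
  refine ⟨hU.isoSpec.inv b, ?_⟩
  rw [← Scheme.Hom.comp_apply, Iso.inv_hom_id_assoc, Scheme.Hom.comp_apply]
  have h2 : (Spec.map (CommRingCat.ofHom ψ)) b = PrimeSpectrum.comap ψ b := rfl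
  rw [h2, hb, ← Scheme.Hom.comp_apply, Iso.hom_inv_id]
  rfl

end Glue


section Ring

variable (B : Type u) [CommRing B] [Algebra k B] [Algebra.FiniteType k B]

theorem exists_finite_injective_ulift [Nontrivial B] :
    ∃ (s : ℕ) (ψ : MvPolynomial (ULift.{u} (Fin s)) k →ₐ[k] B),
      Function.Injective ψ ∧ ψ.toRingHom.Finite := by
  obtain ⟨s, g, hinj, hfin⟩ := exists_finite_inj_algHom_of_fg k B
  let ρ : MvPolynomial (ULift.{u} (Fin s)) k ≃ₐ[k] MvPolynomial (Fin s) k :=
    renameEquiv k Equiv.ulift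
  refine ⟨s, g.comp ρ.toAlgHom, ?_, ?_⟩
  · exact hinj.comp ρ.injective
  · exact RingHom.Finite.comp hfin (RingHom.Finite.of_surjective _ ρ.surjective)

/-- the inclusion of the first `n` variables. -/
def liftCast {n s : ℕ} (h : n ≤ s) : ULift.{u} (Fin n) → ULift.{u} (Fin s) :=
  fun i => ⟨Fin.castLE h i.down⟩

lemma liftCast_injective {n s : ℕ} (h : n ≤ s) : Function.Injective (liftCast.{u} h) := by
  intro a b hab
  have h1 : Fin.castLE h a.down = Fin.castLE h b.down := congrArg ULift.down hab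
  exact ULift.ext _ _ (Fin.castLE_injective h h1)

omit [Algebra.FiniteType k B] in
theorem comap_surjective_comp_rename {n s : ℕ} (h : n ≤ s)
    (ψ : MvPolynomial (ULift.{u} (Fin s)) k →ₐ[k] B) (hinj : Function.Injective ψ)
    (hfin : ψ.toRingHom.Finite) :
    Function.Surjective (PrimeSpectrum.comap
      (ψ.comp (rename (liftCast.{u} h))).toRingHom) := by
  intro p
  have h1 : Function.Surjective (PrimeSpectrum.comap ψ.toRingHom) :=
    hfin.to_isIntegral.comap_surjective hinj
  obtain ⟨q, hq⟩ := h1 (PrimeSpectrum.comap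
    (killCompl (R := k) (liftCast_injective.{u} h)).toRingHom p)
  refine ⟨q, ?_⟩
  have h2 : (ψ.comp (rename (liftCast.{u} h))).toRingHom =
      ψ.toRingHom.comp (rename (R := k) (liftCast.{u} h)).toRingHom := rfl
  rw [h2, PrimeSpectrum.comap_comp_apply, hq, ← PrimeSpectrum.comap_comp_apply]
  have h3 : (killCompl (R := k) (liftCast_injective.{u} h)).toRingHom.comp
      (rename (R := k) (liftCast.{u} h)).toRingHom = RingHom.id _ := by
    have := killCompl_comp_rename (R := k) (liftCast_injective.{u} h)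
    exact congrArg AlgHom.toRingHom this
  rw [h3]
  rfl

omit [Algebra.FiniteType k B] in
theorem finite_comp_killCompl {n s : ℕ} (h : s ≤ n)
    (ψ : MvPolynomial (ULift.{u} (Fin s)) k →ₐ[k] B) (hfin : ψ.toRingHom.Finite) :
    (ψ.comp (killCompl (liftCast_injective.{u} h))).toRingHom.Finite := by
  have h2 : (ψ.comp (killCompl (liftCast_injective.{u} h))).toRingHom =
      ψ.toRingHom.comp (killCompl (R := k) (liftCast_injective.{u} h)).toRingHom := rfl
  rw [h2]
  refine RingHom.Finite.comp hfin (RingHom.Finite.of_surjective _ ?_)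
  intro a
  exact ⟨rename (liftCast.{u} h) a, killCompl_rename_app _ a⟩

end Ring


section Main

variable {X : Scheme.{u}} (f : X ⟶ Spec (CommRingCat.of k)) [LocallyOfFiniteType f]
  [QuasiCompact f]

omit [QuasiCompact f] [LocallyOfFiniteType f] in
lemma comp_C_eq {U : X.Opens} {n : ℕ} :
    letI : Algebra k Γ(X, U) := secAlg f U
    ∀ (ψ : MvPolynomial (ULift.{u} (Fin n)) k →ₐ[k] Γ(X, U)),
    ψ.toRingHom.comp (C : k →+* _) =
      ((Scheme.ΓSpecIso (CommRingCat.of k)).inv ≫ f.appLE ⊤ U le_top).hom := by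
  letI : Algebra k Γ(X, U) := secAlg f U
  intro ψ
  ext c
  show ψ (C c) = _
  rw [← MvPolynomial.algebraMap_eq, AlgHom.commutes]
  rfl

include f in
theorem back_surjective (n : ℕ) (U : X.Opens)
    (g : (U : Scheme.{u}) ⟶ 𝔸(ULift.{u} (Fin n); Spec (CommRingCat.of k)))
    (hU : Dense (U : Set X))
    (hg : g ≫ (𝔸(ULift.{u} (Fin n); Spec (CommRingCat.of k)) ↘ Spec (CommRingCat.of k)) = U.ι ≫ f)
    (hs : Function.Surjective g) : (n : WithBot ℕ∞) ≤ topologicalKrullDim X := by
  haveI : CompactSpace X := QuasiCompact.compactSpace_of_compactSpace f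
  rw [topologicalKrullDim_eq_of_dense k f U hU]
  exact le_topologicalKrullDim_of_surjective k (U.ι ≫ f) n g hg hs

include f in
theorem back_finite (n : ℕ) (U : X.Opens)
    (g : (U : Scheme.{u}) ⟶ 𝔸(ULift.{u} (Fin n); Spec (CommRingCat.of k)))
    (hU : Dense (U : Set X))
    (hg : g ≫ (𝔸(ULift.{u} (Fin n); Spec (CommRingCat.of k)) ↘ Spec (CommRingCat.of k)) = U.ι ≫ f)
    [IsFinite g] : topologicalKrullDim X ≤ (n : WithBot ℕ∞) := by
  haveI : CompactSpace X := QuasiCompact.compactSpace_of_compactSpace f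
  rw [topologicalKrullDim_eq_of_dense k f U hU]
  exact topologicalKrullDim_le_of_locallyQuasiFinite k (U.ι ≫ f) n g hg

theorem dim_iff_exists_affineSpace (n : ℕ) :
    ((n : WithBot ℕ∞) ≤ topologicalKrullDim (X : Type u) ↔
      ∃ (U : X.Opens) (g : (U : Scheme.{u}) ⟶ 𝔸(ULift.{u} (Fin n); Spec (CommRingCat.of k))),
        Dense (U : Set X) ∧ g ≫ (𝔸(ULift.{u} (Fin n); Spec (CommRingCat.of k)) ↘ Spec (CommRingCat.of k)) = U.ι ≫ f ∧ Function.Surjective g.base) ∧
    (topologicalKrullDim (X : Type u) ≤ n ↔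
      ∃ (U : X.Opens) (g : (U : Scheme.{u}) ⟶ 𝔸(ULift.{u} (Fin n); Spec (CommRingCat.of k))),
        Dense (U : Set X) ∧ g ≫ (𝔸(ULift.{u} (Fin n); Spec (CommRingCat.of k)) ↘ Spec (CommRingCat.of k)) = U.ι ≫ f ∧ IsFinite g) ∧
    (topologicalKrullDim (X : Type u) = n ↔
      ∃ (U : X.Opens) (g : (U : Scheme.{u}) ⟶ 𝔸(ULift.{u} (Fin n); Spec (CommRingCat.of k))),
        Dense (U : Set X) ∧ g ≫ (𝔸(ULift.{u} (Fin n); Spec (CommRingCat.of k)) ↘ Spec (CommRingCat.of k)) = U.ι ≫ f ∧ IsFinite g ∧ Function.Surjective g.base) := by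
  haveI : CompactSpace X := QuasiCompact.compactSpace_of_compactSpace f
  haveI : IsLocallyNoetherian X := LocallyOfFiniteType.isLocallyNoetherian f
  haveI : IsNoetherian X := {}
  obtain ⟨U, hU, hUd⟩ := exists_dense_isAffineOpen X
  letI : X.Over (Spec (CommRingCat.of k)) := ⟨f⟩
  haveI : LocallyOfFiniteType (X ↘ Spec (CommRingCat.of k)) := ‹LocallyOfFiniteType f›
  letI : Algebra k Γ(X, U) := secAlg f U
  haveI : Algebra.FiniteType k Γ(X, U) := finiteType_sections k X hU
  have b1 : (∃ (U : X.Opens) (g : (U : Scheme.{u}) ⟶ 𝔸(ULift.{u} (Fin n); Spec (CommRingCat.of k))),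
        Dense (U : Set X) ∧ g ≫ (𝔸(ULift.{u} (Fin n); Spec (CommRingCat.of k)) ↘ Spec (CommRingCat.of k)) = U.ι ≫ f ∧ Function.Surjective g.base) →
      (n : WithBot ℕ∞) ≤ topologicalKrullDim (X : Type u) := by
    rintro ⟨U', g, hd, hg, hs⟩
    exact back_surjective k f n U' g hd hg hs
  have b2 : (∃ (U : X.Opens) (g : (U : Scheme.{u}) ⟶ 𝔸(ULift.{u} (Fin n); Spec (CommRingCat.of k))),
        Dense (U : Set X) ∧ g ≫ (𝔸(ULift.{u} (Fin n); Spec (CommRingCat.of k)) ↘ Spec (CommRingCat.of k)) = U.ι ≫ f ∧ IsFinite g) →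
      topologicalKrullDim (X : Type u) ≤ n := by
    rintro ⟨U', g, hd, hg, hfin⟩
    exact back_finite k f n U' g hd hg
  have b3 : (∃ (U : X.Opens) (g : (U : Scheme.{u}) ⟶ 𝔸(ULift.{u} (Fin n); Spec (CommRingCat.of k))),
        Dense (U : Set X) ∧ g ≫ (𝔸(ULift.{u} (Fin n); Spec (CommRingCat.of k)) ↘ Spec (CommRingCat.of k)) = U.ι ≫ f ∧ IsFinite g ∧ Function.Surjective g.base) →
      topologicalKrullDim (X : Type u) = n := by
    rintro ⟨U', g, hd, hg, hfin, hs⟩
    exact le_antisymm (back_finite k f n U' g hd hg) (back_surjective k f n U' g hd hg hs)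
  by_cases hB : Subsingleton Γ(X, U)
  · -- `X` is empty
    have hUe : IsEmpty (U : Scheme.{u}) := by
      refine ⟨fun u => ?_⟩
      have : IsEmpty (PrimeSpectrum Γ(X, U)) := inferInstance
      exact this.false (hU.isoSpec.hom u)
    have hXe : IsEmpty X := by
      refine ⟨fun x => ?_⟩
      obtain ⟨y, -, hy⟩ := hUd.inter_open_nonempty Set.univ isOpen_univ ⟨x, trivial⟩
      exact hUe.false ⟨y, hy⟩
    have hdim : topologicalKrullDim X = ⊥ := topologicalKrullDim_eq_bot_of_isEmpty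
    refine ⟨⟨fun h => ?_, b1⟩, ⟨fun _ => ?_, b2⟩, ⟨fun h => ?_, b3⟩⟩
    · rw [hdim] at h; exact absurd h (by simp)
    · let ψ : MvPolynomial (ULift.{u} (Fin n)) k →ₐ[k] Γ(X, U) := aeval (fun _ => 0)
      refine ⟨U, affMap hU ψ.toRingHom, hUd, affMap_over f hU _ (comp_C_eq k f ψ), ?_⟩
      refine isFinite_affMap hU ψ.toRingHom (RingHom.Finite.of_surjective _ fun b => ⟨0, ?_⟩)
      exact Subsingleton.elim _ _
    · rw [hdim] at h; exact absurd h (by simp)
  · rw [not_subsingleton_iff_nontrivial] at hB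
    obtain ⟨s, ψ₀, hinj, hfin⟩ := exists_finite_injective_ulift k Γ(X, U)
    have hs : topologicalKrullDim X = (s : WithBot ℕ∞) := by
      have hov := affMap_over f hU ψ₀.toRingHom (comp_C_eq k f ψ₀)
      haveI := isFinite_affMap hU ψ₀.toRingHom hfin
      refine le_antisymm (back_finite k f s U _ hUd hov) (back_surjective k f s U _ hUd hov ?_)
      exact surjective_affMap hU ψ₀.toRingHom (hfin.to_isIntegral.comap_surjective hinj)
    refine ⟨⟨fun h => ?_, b1⟩, ⟨fun h => ?_, b2⟩, ⟨fun h => ?_, b3⟩⟩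
    · rw [hs] at h
      have hns : n ≤ s := by exact_mod_cast h
      refine ⟨U, affMap hU (ψ₀.comp (rename (liftCast.{u} hns))).toRingHom, hUd,
        affMap_over f hU _ (comp_C_eq k f (ψ₀.comp (rename (liftCast.{u} hns)))), ?_⟩
      exact surjective_affMap hU _ (comap_surjective_comp_rename k _ hns ψ₀ hinj hfin)
    · rw [hs] at h
      have hsn : s ≤ n := by exact_mod_cast h
      refine ⟨U, affMap hU (ψ₀.comp (killCompl (liftCast_injective.{u} hsn))).toRingHom, hUd,
        affMap_over f hU _ (comp_C_eq k f (ψ₀.comp (killCompl (liftCast_injective.{u} hsn)))), ?_⟩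
      exact isFinite_affMap hU _ (finite_comp_killCompl k _ hsn ψ₀ hfin)
    · rw [hs] at h
      have hsn : s = n := by exact_mod_cast h
      subst hsn
      refine ⟨U, affMap hU ψ₀.toRingHom, hUd, affMap_over f hU _ (comp_C_eq k f ψ₀),
        isFinite_affMap hU ψ₀.toRingHom hfin, ?_⟩
      exact surjective_affMap hU ψ₀.toRingHom (hfin.to_isIntegral.comap_surjective hinj)

end Main

end Field

end Groth.Agent.Lib.Helper6.DimAff
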