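import Mathlib
import Groth.Prelude.Def_Coh
import Groth.Prelude.Def_CurvBase
import Groth.Prelude.Def_FDesc
import Groth.Agent.Lib.Helper23UnitStalk

set_option autoImplicit false
set_option linter.style.haveILetI false
universe u
open CategoryTheory Limits AlgebraicGeometry Opposite TopologicalSpace

namespace Groth.Agent.Lib.Helper6.EmbSec

section glue

variable {X : TopCat.{u}} (F : X.Sheaf CommRingCat.{u})

/-- Gluing two sections of a sheaf of commutative rings. -/
theorem exists_glue₂ {U₁ U₂ V W : Opens X} (i₁ : U₁ ⟶ V) (i₂ : U₂ ⟶ V)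
    (hcover : V ≤ U₁ ⊔ U₂) (j₁ : W ⟶ U₁) (j₂ : W ⟶ U₂) (hW : U₁ ⊓ U₂ ≤ W)
    (s₁ : F.1.obj (op U₁)) (s₂ : F.1.obj (op U₂))
    (h : F.1.map j₁.op s₁ = F.1.map j₂.op s₂) :
    ∃ s : F.1.obj (op V), F.1.map i₁.op s = s₁ ∧ F.1.map i₂.op s = s₂ := by
  let U : Bool → Opens X := fun b => Bool.rec U₂ U₁ b
  let sf : ∀ b : Bool, ToType (F.1.obj (op (U b))) := fun b =>
    Bool.rec (motive := fun b => ToType (F.1.obj (op (U b)))) s₂ s₁ b
  have hcompat : TopCat.Presheaf.IsCompatible F.1 U sf := by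
    have key : F.1.map (homOfLE (inf_le_left : U₁ ⊓ U₂ ≤ U₁)).op s₁ =
        F.1.map (homOfLE (inf_le_right : U₁ ⊓ U₂ ≤ U₂)).op s₂ := by
      have e₁ : (homOfLE (inf_le_left : U₁ ⊓ U₂ ≤ U₁)) = homOfLE hW ≫ j₁ := Subsingleton.elim _ _
      have e₂ : (homOfLE (inf_le_right : U₁ ⊓ U₂ ≤ U₂)) = homOfLE hW ≫ j₂ := Subsingleton.elim _ _
      rw [e₁, e₂, op_comp, op_comp, F.1.map_comp, F.1.map_comp, ConcreteCategory.comp_apply,
        ConcreteCategory.comp_apply, h]
    rintro (_ | _) (_ | _)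
    · rfl
    · change F.1.map (homOfLE (inf_le_left : U₂ ⊓ U₁ ≤ U₂)).op s₂ =
        F.1.map (homOfLE (inf_le_right : U₂ ⊓ U₁ ≤ U₁)).op s₁
      have e₁ : (homOfLE (inf_le_left : U₂ ⊓ U₁ ≤ U₂)) =
          homOfLE (le_of_eq (inf_comm U₂ U₁)) ≫ homOfLE (inf_le_right : U₁ ⊓ U₂ ≤ U₂) :=
        Subsingleton.elim _ _
      have e₂ : (homOfLE (inf_le_right : U₂ ⊓ U₁ ≤ U₁)) =
          homOfLE (le_of_eq (inf_comm U₂ U₁)) ≫ homOfLE (inf_le_left : U₁ ⊓ U₂ ≤ U₁) :=
        Subsingleton.elim _ _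
      rw [e₁, e₂, op_comp, op_comp, F.1.map_comp, F.1.map_comp, ConcreteCategory.comp_apply,
        ConcreteCategory.comp_apply, key]
    · exact key
    · rfl
  have hcov : V ≤ iSup U := by
    refine hcover.trans (sup_le ?_ ?_)
    · exact le_iSup U true
    · exact le_iSup U false
  obtain ⟨s, hs, -⟩ := F.existsUnique_gluing' U V
    (fun b => Bool.rec (motive := fun b => U b ⟶ V) i₂ i₁ b) hcov sf hcompat
  exact ⟨s, hs true, hs false⟩

end glue

variable {X : Scheme.{u}}

/-- the restriction of functions -/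
noncomputable abbrev rs {U V : X.Opens} (h : V ≤ U) (r : Γ(X, U)) : Γ(X, V) :=
  X.presheaf.map (homOfLE h).op r

theorem germ_rs {U V : X.Opens} (h : V ≤ U) (r : Γ(X, U)) (y : X) (hy : y ∈ V) :
    X.presheaf.germ V y hy (rs h r) = X.presheaf.germ U y (h hy) r :=
  TopCat.Presheaf.germ_res_apply X.presheaf (homOfLE h) y hy r

theorem rs_zero {U V : X.Opens} (h : V ≤ U) : rs h (0 : Γ(X, U)) = 0 := map_zero _

theorem rs_add {U V : X.Opens} (h : V ≤ U) (r r' : Γ(X, U)) : rs h (r + r') = rs h r + rs h r' :=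
  map_add _ _ _

theorem rs_mul {U V : X.Opens} (h : V ≤ U) (r r' : Γ(X, U)) : rs h (r * r') = rs h r * rs h r' :=
  map_mul _ _ _

theorem rs_rs {U V W : X.Opens} (h₁ : V ≤ U) (h₂ : W ≤ V) (r : Γ(X, U)) :
    rs h₂ (rs h₁ r) = rs (h₂.trans h₁) r := by
  change (X.presheaf.map (homOfLE h₁).op ≫ X.presheaf.map (homOfLE h₂).op) r = _
  rw [← X.presheaf.map_comp]
  rfl

/-- a local function killed by the maximal ideal at a closed point of a locally Noetherian scheme
extends (by zero) to a global function supported at that point -/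
theorem exists_section_supported [IsLocallyNoetherian X] (x : X) (hx : IsClosed ({x} : Set X))
    (a : X.presheaf.stalk x)
    (ha : ∀ r ∈ IsLocalRing.maximalIdeal (X.presheaf.stalk x), r * a = 0) :
    ∃ s : Γ(X, ⊤), X.presheaf.germ ⊤ x trivial s = a ∧
      ∀ (y : X), y ≠ x → X.presheaf.germ ⊤ y trivial s = 0 := by
  obtain ⟨V₀, hxV₀, a₀, rfl⟩ := X.presheaf.exists_germ_eq a
  obtain ⟨_, ⟨U, hU, rfl⟩, hxU, hUV₀⟩ :=
    X.isBasis_affineOpens.exists_subset_of_mem_open hxV₀ V₀.2
  have hUV₀' : U ≤ V₀ := hUV₀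
  let aU : Γ(X, U) := rs hUV₀' a₀
  have haU : X.presheaf.germ U x hxU aU = X.presheaf.germ V₀ x hxV₀ a₀ := germ_rs _ _ _ _
  haveI : IsNoetherianRing Γ(X, U) := IsLocallyNoetherian.component_noetherian ⟨U, hU⟩
  let P : Ideal Γ(X, U) :=
    Ideal.comap (X.presheaf.germ U x hxU).hom (IsLocalRing.maximalIdeal (X.presheaf.stalk x))
  obtain ⟨S, hS⟩ : P.FG := IsNoetherian.noetherian P
  -- a neighbourhood on which all generators kill `aU`
  have step : ∀ T : Finset Γ(X, U), (∀ f ∈ T, f ∈ P) →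
      ∃ W : X.Opens, x ∈ W ∧ ∃ hW : W ≤ U, ∀ f ∈ T, rs hW (f * aU) = 0 := by
    intro T
    classical
    induction T using Finset.induction_on with
    | empty => intro _; exact ⟨U, hxU, le_rfl, fun f hf => absurd hf (Finset.notMem_empty f)⟩
    | insert f T hfT ih =>
      intro hT
      obtain ⟨W, hxW, hW, hWT⟩ := ih (fun g hg => hT g (Finset.mem_insert_of_mem hg))
      have hfP : f ∈ P := hT f (Finset.mem_insert_self f T)
      have h0 : X.presheaf.germ U x hxU (f * aU) = X.presheaf.germ U x hxU 0 := by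
        rw [map_mul, map_zero, haU]
        exact ha _ hfP
      obtain ⟨W', hxW', i₁, i₂, hW'⟩ := X.presheaf.germ_eq x hxU hxU _ _ h0
      refine ⟨W ⊓ W', ⟨hxW, hxW'⟩, inf_le_left.trans hW, fun g hg => ?_⟩
      rcases Finset.mem_insert.1 hg with rfl | hgT
      · have hW'' : rs i₁.le (g * aU) = 0 := by
          have : rs i₁.le (g * aU) = X.presheaf.map i₁.op (g * aU) := rfl
          rw [this, hW', map_zero]
        rw [← rs_rs i₁.le (inf_le_right : W ⊓ W' ≤ W'), hW'', rs_zero]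
      · rw [← rs_rs hW (inf_le_left : W ⊓ W' ≤ W), hWT g hgT, rs_zero]
  obtain ⟨W, hxW, hW, hWS⟩ := step S (fun f hf => by rw [← hS]; exact Ideal.subset_span hf)
  have hP : ∀ h ∈ P, rs hW (h * aU) = 0 := by
    intro h hh
    rw [← hS] at hh
    induction hh using Submodule.span_induction with
    | mem f hf => exact hWS f hf
    | zero => rw [zero_mul, rs_zero]
    | add f g _ _ hf hg => rw [add_mul, rs_add, hf, hg, add_zero]
    | smul c f _ hf => rw [smul_eq_mul, mul_assoc, rs_mul, hf, mul_zero]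
  -- vanishing of germs away from x
  have hvan : ∀ (y : X) (hy : y ∈ W), y ≠ x → X.presheaf.germ U y (hW hy) aU = 0 := by
    intro y hy hyx
    let Vc : X.Opens := ⟨({x} : Set X)ᶜ, hx.isOpen_compl⟩
    have hyVc : y ∈ Vc := hyx
    obtain ⟨h, hh1, hh2⟩ := hU.exists_basicOpen_le (V := Vc) ⟨y, hyVc⟩ (hW hy)
    have hxh : x ∉ X.basicOpen h := fun hmem => (hh1 hmem) rfl
    have hhP : h ∈ P := by
      change X.presheaf.germ U x hxU h ∈ IsLocalRing.maximalIdeal _
      rw [IsLocalRing.mem_maximalIdeal, mem_nonunits_iff]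
      intro hu
      exact hxh ((X.mem_basicOpen h x hxU).2 hu)
    have h1 := hP h hhP
    have h2 : X.presheaf.germ U y (hW hy) (h * aU) = 0 := by
      rw [← germ_rs hW (h * aU) y hy, h1, map_zero]
    rw [map_mul] at h2
    have hu : IsUnit (X.presheaf.germ U y (hW hy) h) := (X.mem_basicOpen h y (hW hy)).1 hh2
    exact hu.mul_right_eq_zero.1 h2
  -- glue
  let Vc : X.Opens := ⟨({x} : Set X)ᶜ, hx.isOpen_compl⟩
  have hcompat : rs (inf_le_left : W ⊓ Vc ≤ W) (rs hW aU) = rs (inf_le_right : W ⊓ Vc ≤ Vc) 0 := by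
    rw [rs_zero]
    refine TopCat.Presheaf.section_ext X.sheaf (W ⊓ Vc) _ 0 (fun y hy => ?_)
    change X.presheaf.germ (W ⊓ Vc) y hy _ = X.presheaf.germ (W ⊓ Vc) y hy 0
    rw [germ_rs, germ_rs, map_zero]
    exact hvan y hy.1 hy.2
  obtain ⟨s, hs1, hs2⟩ := exists_glue₂ X.sheaf (homOfLE (le_top : W ≤ ⊤)) (homOfLE (le_top : Vc ≤ ⊤))
    (fun y _ => by
      by_cases hyx : y = x
      · exact Or.inl (hyx ▸ hxW)
      · exact Or.inr hyx)
    (homOfLE (inf_le_left : W ⊓ Vc ≤ W)) (homOfLE (inf_le_right : W ⊓ Vc ≤ Vc)) le_rfl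
    (rs hW aU) 0 hcompat
  let s' : Γ(X, ⊤) := s
  have hs1' : rs (le_top : W ≤ ⊤) s' = rs hW aU := hs1
  have hs2' : rs (le_top : Vc ≤ ⊤) s' = 0 := hs2
  refine ⟨s', ?_, fun y hy => ?_⟩
  · rw [← germ_rs (le_top : W ≤ ⊤) s' x hxW, hs1', germ_rs, haU]
  · have hyVc : y ∈ Vc := hy
    rw [← germ_rs (le_top : Vc ≤ ⊤) s' y hyVc, hs2', map_zero]

theorem coheight_le_dim (x : X) : (Order.coheight x : WithBot ℕ∞) ≤ topologicalKrullDim X := by
  have h1 : (Order.coheight x : WithBot ℕ∞) ≤ Order.krullDim X := Order.coheight_le_krullDim x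
  have h2 : Order.krullDim (IrreducibleCloseds X) = Order.krullDim X :=
    Order.krullDim_eq_of_orderIso (irreducibleSetEquivPoints (α := X))
  unfold topologicalKrullDim
  rw [h2]
  exact h1

theorem lt_of_specializes_of_ne {x y : X} (h : y ⤳ x) (hne : x ≠ y) : x < y := by
  refine lt_of_le_not_ge (Scheme.le_iff_specializes.2 h) (fun h' => hne ?_)
  exact ((Scheme.le_iff_specializes.1 h').antisymm h).eq

/-- in a scheme of dimension at most one, a point with a proper generization is closed -/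
theorem isClosed_singleton_of_generization (hdim : topologicalKrullDim X ≤ 1) {x y : X}
    (h : y ⤳ x) (hne : x ≠ y) : IsClosed ({x} : Set X) := by
  rw [← closure_subset_iff_isClosed]
  intro z hz
  rw [Set.mem_singleton_iff]
  by_contra hzx
  have hxz : x ⤳ z := specializes_iff_mem_closure.2 hz
  have h1 : z < x := lt_of_specializes_of_ne hxz hzx
  have h2 : x < y := lt_of_specializes_of_ne h hne
  have c1 := Order.coheight_add_one_le h1
  have c2 := Order.coheight_add_one_le h2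
  have c3 : (Order.coheight z : WithBot ℕ∞) ≤ 1 := (coheight_le_dim z).trans hdim
  have c4 : (2 : ℕ∞) ≤ Order.coheight z := by
    calc (2 : ℕ∞) = 0 + 1 + 1 := by norm_num
      _ ≤ Order.coheight y + 1 + 1 := by gcongr; exact zero_le
      _ ≤ Order.coheight x + 1 := by gcongr
      _ ≤ Order.coheight z := c1
  have c5 : ((2 : ℕ∞) : WithBot ℕ∞) ≤ 1 := (WithBot.coe_le_coe.2 c4).trans c3
  exact absurd (WithBot.coe_le_coe.1 c5) (by norm_num)

/-- S7835: a Noetherian scheme of dimension one with reduced ring of global functions has no embedded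
associated points -/
theorem noEmbedded_structureModule (C : Scheme.{u}) [IsNoetherian C]
    (hdim : topologicalKrullDim C = 1) (hred : IsReduced Γ(C, ⊤)) :
    AssSch.NoEmbedded (Coh.structureModule C) := by
  intro x hx y _ hyx
  by_contra hne
  have hx' := (Groth.Agent.Lib.Helper23.UnitStalk.isAssPoint_structureModule_iff x).1 hx
  obtain ⟨_, a, ha⟩ := isAssociatedPrime_iff.1 hx'
  have hcl : IsClosed ({x} : Set C) := isClosed_singleton_of_generization hdim.le hyx hne
  have hmem : ∀ r : C.presheaf.stalk x, r ∈ IsLocalRing.maximalIdeal (C.presheaf.stalk x) ↔ r * a = 0 := by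
    intro r
    rw [ha, Submodule.mem_colon_singleton, Submodule.mem_bot, smul_eq_mul]
  have ha0 : a ≠ 0 := by
    rintro rfl
    have : (1 : C.presheaf.stalk x) ∈ IsLocalRing.maximalIdeal (C.presheaf.stalk x) :=
      (hmem 1).2 (mul_zero _)
    exact (IsLocalRing.maximalIdeal.isMaximal _).ne_top ((Ideal.eq_top_iff_one _).2 this)
  -- a lies in the maximal ideal
  have ham : a ∈ IsLocalRing.maximalIdeal (C.presheaf.stalk x) := by
    by_contra hnm
    have hu : IsUnit a := by
      rw [IsLocalRing.mem_maximalIdeal, mem_nonunits_iff, not_not] at hnm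
      exact hnm
    have hbot : IsLocalRing.maximalIdeal (C.presheaf.stalk x) = ⊥ := by
      rw [eq_bot_iff]
      intro r hr
      exact hu.mul_left_eq_zero.1 ((hmem r).1 hr)
    have hfield : IsField (C.presheaf.stalk x) := IsLocalRing.isField_iff_maximalIdeal_eq.2 hbot
    have hd0 : ringKrullDim (C.presheaf.stalk x) = 0 := ringKrullDim_eq_zero_of_isField hfield
    rw [ringKrullDim_stalk_eq_coheight] at hd0
    have c2 := Order.coheight_add_one_le (lt_of_specializes_of_ne hyx hne)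
    have : Order.coheight x = 0 := by exact_mod_cast hd0
    rw [this] at c2
    simp at c2
  obtain ⟨s, hsx, hsy⟩ := exists_section_supported x hcl a (fun r hr => (hmem r).1 hr)
  have hss : s * s = 0 := by
    refine TopCat.Presheaf.section_ext C.sheaf ⊤ _ 0 (fun z hz => ?_)
    change C.presheaf.germ ⊤ z hz (s * s) = C.presheaf.germ ⊤ z hz 0
    rw [map_mul, map_zero]
    by_cases hzx : z = x
    · subst hzx
      rw [hsx]
      exact (hmem a).1 ham
    · rw [hsy z hzx, mul_zero]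
  have hs0 : s = 0 := IsNilpotent.eq_zero ⟨2, by rw [sq]; exact hss⟩
  apply ha0
  rw [← hsx, hs0, map_zero]

end Groth.Agent.Lib.Helper6.EmbSec
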