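import Mathlib
import Groth.Agent.Lib.Helper27CohFin

/-!
# Rank inequalities along the long exact cohomology sequence
-/

set_option autoImplicit false
universe u
open CategoryTheory Limits AlgebraicGeometry TopologicalSpace Opposite Abelian

namespace Groth.Agent.Lib.LeadCohRank

open Groth.Agent.Lib.Helper23.QCohLocal Groth.Agent.Lib.Helper27CohFin

section LinAlg

variable {k : Type*} [Field k] {A B C : Type*} [AddCommGroup A] [Module k A] [AddCommGroup B]
  [Module k B] [AddCommGroup C] [Module k C]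

theorem finrank_le_add_of_exact [Module.Finite k A] [Module.Finite k B] [Module.Finite k C]
    (f : A →ₗ[k] B) (g : B →ₗ[k] C) (h : ∀ x, g x = 0 → ∃ y, f y = x) :
    Module.finrank k B ≤ Module.finrank k A + Module.finrank k C := by
  have h1 := LinearMap.finrank_range_add_finrank_ker g
  have h2 : LinearMap.ker g ≤ LinearMap.range f := by
    intro x hx
    obtain ⟨y, hy⟩ := h x hx
    exact ⟨y, hy⟩
  have h3 : Module.finrank k (LinearMap.ker g) ≤ Module.finrank k (LinearMap.range f) :=
    Submodule.finrank_mono h2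
  have h4 : Module.finrank k (LinearMap.range f) ≤ Module.finrank k A :=
    LinearMap.finrank_range_le f
  have h5 : Module.finrank k (LinearMap.range g) ≤ Module.finrank k C :=
    Submodule.finrank_le _
  omega

theorem finrank_le_of_injective' [Module.Finite k B]
    (f : A →ₗ[k] B) (h : Function.Injective f) :
    Module.finrank k A ≤ Module.finrank k B :=
  LinearMap.finrank_le_finrank_of_injective h

end LinAlg

variable {X : Scheme.{u}}

section LES

variable (S : ShortComplex X.Modules) (hS : S.ShortExact)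

include hS in
theorem exact_mid (i : ℕ) (x : Coh.HH X S.X₂ i)
    (hx : Sheaf.H.map ((SheafOfModules.toSheaf X.ringCatSheaf).map S.g) i x = 0) :
    ∃ y : Coh.HH X S.X₁ i,
      Sheaf.H.map ((SheafOfModules.toSheaf X.ringCatSheaf).map S.f) i y = x :=
  Ext.covariant_sequence_exact₂ _ (shortExact_toAbF S hS) x hx

theorem exact_left (i : ℕ) (x : Coh.HH X S.X₁ (i + 1))
    (hx : Sheaf.H.map ((SheafOfModules.toSheaf X.ringCatSheaf).map S.f) (i + 1) x = 0) :
    ∃ y : Coh.HH X S.X₃ i, delta S hS i y = x :=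
  Ext.covariant_sequence_exact₁ _ (shortExact_toAbF S hS) x hx rfl

include hS in
theorem injective_zero :
    Function.Injective
      (Sheaf.H.map ((SheafOfModules.toSheaf X.ringCatSheaf).map S.f) 0 :
        Coh.HH X S.X₁ 0 → Coh.HH X S.X₂ 0) := by
  haveI : Mono ((toAbF X).map S.f) := (shortExact_toAbF S hS).mono_f
  exact Ext.postcomp_mk₀_injective_of_mono _ ((toAbF X).map S.f)

end LES

section Ranks

variable (k : Type u) [Field k] [X.Over (Spec (CommRingCat.of k))]
  (S : ShortComplex X.Modules) (hS : S.ShortExact)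

include hS in
/-- `h^i(X₂) ≤ h^i(X₁) + h^i(X₃)` -/
theorem finrank_mid_le (i : ℕ) [Module.Finite k (Coh.HH X S.X₁ i)]
    [Module.Finite k (Coh.HH X S.X₂ i)] [Module.Finite k (Coh.HH X S.X₃ i)] :
    Module.finrank k (Coh.HH X S.X₂ i) ≤
      Module.finrank k (Coh.HH X S.X₁ i) + Module.finrank k (Coh.HH X S.X₃ i) :=
  finrank_le_add_of_exact (Canon.HHlin k S.f i) (Canon.HHlin k S.g i)
    (fun x hx => exact_mid S hS i x hx)

include hS in
/-- `h^{i+1}(X₁) ≤ h^i(X₃) + h^{i+1}(X₂)` -/
theorem finrank_left_succ_le (i : ℕ) [Module.Finite k (Coh.HH X S.X₃ i)]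
    [Module.Finite k (Coh.HH X S.X₁ (i + 1))] [Module.Finite k (Coh.HH X S.X₂ (i + 1))] :
    Module.finrank k (Coh.HH X S.X₁ (i + 1)) ≤
      Module.finrank k (Coh.HH X S.X₃ i) + Module.finrank k (Coh.HH X S.X₂ (i + 1)) :=
  finrank_le_add_of_exact (deltaLin k S hS i) (Canon.HHlin k S.f (i + 1))
    (fun x hx => exact_left S hS i x hx)

include hS in
/-- `h^0(X₁) ≤ h^0(X₂)` -/
theorem finrank_left_zero_le [Module.Finite k (Coh.HH X S.X₂ 0)] :
    Module.finrank k (Coh.HH X S.X₁ 0) ≤ Module.finrank k (Coh.HH X S.X₂ 0) :=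
  finrank_le_of_injective' (Canon.HHlin k S.f 0) (injective_zero S hS)

end Ranks

end Groth.Agent.Lib.LeadCohRank
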