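import Mathlib
import Groth.Agent.Lib.Helper4CurveRR
import Groth.Agent.Lib.Helper6AffPushLin
import Groth.Agent.Lib.Helper6EmbSec
import Groth.Agent.Lib.Helper23ZarConn
import Groth.Agent.Lib.LeadCohRank

/-!
# `h¹` does not go up along maps with zero-dimensional cokernel on curves (helper6)
-/

set_option autoImplicit false
set_option linter.style.haveILetI false
universe u
open CategoryTheory Limits AlgebraicGeometry Opposite TopologicalSpace

namespace Groth.Agent.Lib.Helper6.GenusLe

open Groth.Agent.Lib.Helper4.Dev Groth.Agent.Lib.Helper27CohFin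

section LemmaG

variable (k : Type u) [Field k] (X : Scheme.{u}) [X.Over (Spec (CommRingCat.of k))]

/-- `H^i(g)` is surjective when `H^{i+1}` of the kernel vanishes -/
theorem finrank_right_le (S : ShortComplex X.Modules) (hS : S.ShortExact) (i : ℕ)
    [Module.Finite k (Coh.HH X S.X₂ i)] (h : Subsingleton (Coh.HH X S.X₁ (i + 1))) :
    Module.finrank k (Coh.HH X S.X₃ i) ≤ Module.finrank k (Coh.HH X S.X₂ i) := by
  have hsurj : Function.Surjective (Canon.HHlin k S.g i) := by
    intro x
    exact exact_delta S hS i x (Subsingleton.elim _ _)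
  exact LinearMap.finrank_le_finrank_of_surjective hsurj

variable [IsProper (X ↘ (Spec (CommRingCat.of k)))]

/-- on a proper scheme of dimension at most one, `h¹` does not go up along a morphism of coherent
modules whose cokernel is supported on a finite set of closed points -/
theorem h1_le_of_support_cokernel (hdim : topologicalKrullDim X ≤ 1) {F G : X.Modules}
    (hF : Coh.IsCoh F) (hG : Coh.IsCoh G) (φ : F ⟶ G) (Z : Set X)
    (hZ : ∀ T : Set X, T ⊆ Z → IsClosed T) (hsupp : CohB1.support (cokernel φ) ⊆ Z) :
    Module.finrank k (Coh.HH X G 1) ≤ Module.finrank k (Coh.HH X F 1) := by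
  haveI : IsNoetherian X := Groth.Agent.Lib.Helper4.CurveRR.isNoetherian_of_proper k X
  have hI : Coh.IsCoh (Abelian.image φ) := isCoh_image φ hF hG
  let e := Abelian.factorThruImage φ
  have hK : Coh.IsCoh (kernel e) := isCoh_kernel e hF hI
  -- the two short exact sequences
  let S₁ : ShortComplex X.Modules := ShortComplex.mk (kernel.ι e) e (kernel.condition e)
  have hS₁ : S₁.ShortExact :=
    ShortComplex.ShortExact.mk' (ShortComplex.exact_kernel e) inferInstance inferInstance
  let S₂ : ShortComplex X.Modules :=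
    ShortComplex.mk (Abelian.image.ι φ) (cokernel.π φ) (kernel.condition (cokernel.π φ))
  have hS₂ : S₂.ShortExact :=
    ShortComplex.ShortExact.mk' (ShortComplex.exact_kernel (cokernel.π φ)) inferInstance
      inferInstance
  haveI : Module.Finite k (Coh.HH X F 1) := Groth.Agent.S0002.result k X F hF 1
  haveI : Module.Finite k (Coh.HH X G 1) := Groth.Agent.S0002.result k X G hG 1
  haveI : Module.Finite k (Coh.HH X (Abelian.image φ) 1) :=
    Groth.Agent.S0002.result k X _ hI 1
  haveI : Module.Finite k (Coh.HH X (cokernel φ) 1) :=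
    Groth.Agent.S0002.result k X _ (isCoh_cokernel φ hF hG) 1
  have h1 : Module.finrank k (Coh.HH X (Abelian.image φ) 1) ≤ Module.finrank k (Coh.HH X F 1) :=
    finrank_right_le k X S₁ hS₁ 1
      (Groth.Agent.Lib.Helper4.CurveRR.HH_subsingleton k X hdim _ hK 2 le_rfl)
  have h2 := Groth.Agent.Lib.LeadCohRank.finrank_mid_le (k := k) S₂ hS₂ 1
  haveI : Subsingleton (Coh.HH X (cokernel φ) 1) :=
    Groth.Agent.Lib.Helper4.CurveVan.HH_subsingleton_of_support_subset (cokernel φ) Z hZ hsupp 1
      one_pos
  have h3 : Module.finrank k (Coh.HH X (cokernel φ) 1) = 0 := Module.finrank_zero_of_subsingleton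
  change Module.finrank k (Coh.HH X G 1) ≤
    Module.finrank k (Coh.HH X (Abelian.image φ) 1) + Module.finrank k (Coh.HH X (cokernel φ) 1)
    at h2
  omega

end LemmaG

section Top

variable {X : Scheme.{u}}

/-- in a Noetherian scheme of dimension at most one, the points outside a dense open are closed -/
theorem isClosed_singleton_of_notMem_dense [IsNoetherian X] (hdim : topologicalKrullDim X ≤ 1)
    (U : X.Opens) (hU : Dense (U : Set X)) (s : X) (hs : s ∉ U) : IsClosed ({s} : Set X) := by
  have hC : irreducibleComponent s ∈ irreducibleComponents X :=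
    irreducibleComponent_mem_irreducibleComponents s
  obtain ⟨η, hη⟩ := QuasiSober.sober (isIrreducible_irreducibleComponent (x := s))
    isClosed_irreducibleComponent
  obtain ⟨o, ho, hone, hoC⟩ :=
    NoetherianSpace.exists_isOpen_nonempty_subset_irreducibleComponent _ hC
  obtain ⟨y, hyo, hyU⟩ := hU.inter_open_nonempty o ho hone
  have hηU : η ∈ (U : Set X) := (hη.mem_open_set_iff U.2).2 ⟨y, hoC hyo, hyU⟩
  have hηs : η ⤳ s := hη.specializes mem_irreducibleComponent
  have hne : s ≠ η := fun h => hs (h ▸ hηU)
  exact Groth.Agent.Lib.Helper6.EmbSec.isClosed_singleton_of_generization hdim hηs hne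

/-- in a Noetherian scheme of dimension at most one, every set of points outside a dense open is
closed -/
theorem isClosed_of_subset_compl_dense [IsNoetherian X] (hdim : topologicalKrullDim X ≤ 1)
    (U : X.Opens) (hU : Dense (U : Set X)) (T : Set X) (hT : T ⊆ (U : Set X)ᶜ) : IsClosed T := by
  have hpt : ∀ s ∈ (U : Set X)ᶜ, IsClosed ({s} : Set X) :=
    fun s hs => isClosed_singleton_of_notMem_dense hdim U hU s hs
  have hfin : ((U : Set X)ᶜ).Finite := by
    obtain ⟨S, hSf, hSc, hSi, hSU⟩ :=
      NoetherianSpace.exists_finite_set_isClosed_irreducible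
        (s := (U : Set X)ᶜ) (U.2.isClosed_compl)
    rw [hSU]
    refine Set.Finite.sUnion hSf (fun t ht => ?_)
    obtain ⟨z, hz⟩ := QuasiSober.sober (hSi t ht) (hSc t ht)
    have hzU : z ∈ (U : Set X)ᶜ := by
      rw [hSU]
      exact ⟨t, ht, hz.mem⟩
    have : t = {z} := by
      rw [← hz.def]
      exact (hpt z hzU).closure_eq
    rw [this]
    exact Set.finite_singleton z
  exact Groth.Agent.Lib.Helper4.CurveVan.isClosed_of_subset_finite _ hfin hpt T hT

end Top

section Struct

variable {X Y : Scheme.{u}} (f : Y ⟶ X)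

/-- the canonical morphism `O_X ⟶ f_* O_Y` -/
noncomputable def unitPush :
    Coh.structureModule X ⟶ (Scheme.Modules.pushforward f).obj (Coh.structureModule Y) :=
  SheafOfModules.unitToPushforwardObjUnit f.toRingCatSheafHom

theorem unitPush_app (V : X.Opens) (r : Γ(X, V)) :
    ((unitPush f).app V (r : Γ(Coh.structureModule X, V)) : Γ(Y, f ⁻¹ᵁ V)) = f.app V r := rfl

/-- over an open where `f` is a closed immersion, `O_X ⟶ f_* O_Y` is surjective on stalks -/
theorem subsingleton_stalk_cokernel_unitPush (U : X.Opens) [IsClosedImmersion (f ∣_ U)] (x : X)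
    (hx : x ∈ U) : Subsingleton ((cokernel (unitPush f)).presheaf.stalk x) := by
  have key : ∀ z : (cokernel (unitPush f)).presheaf.stalk x, z = 0 := by
    intro z
    obtain ⟨w, rfl⟩ := stalkL_surjective_of_epi (cokernel.π (unitPush f)) x z
    obtain ⟨V, hxV, t, rfl⟩ :=
      ((Scheme.Modules.pushforward f).obj (Coh.structureModule Y)).presheaf.exists_germ_eq w
    let x' : U.toScheme := ⟨x, hx⟩
    have hx'V : x' ∈ U.ι ⁻¹ᵁ V := hxV
    obtain ⟨_, ⟨W, hW, rfl⟩, hxW, hWV⟩ :=
      (U.toScheme).isBasis_affineOpens.exists_subset_of_mem_open hx'V (U.ι ⁻¹ᵁ V).2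
    let V' : X.Opens := U.ι ''ᵁ W
    have hV'V : V' ≤ V := by
      rintro _ ⟨y, hy, rfl⟩
      exact hWV hy
    have hxV' : x ∈ V' := ⟨x', hxW, rfl⟩
    have hsurj : Function.Surjective (f.app V') := by
      have h1 := Scheme.Hom.app_surjective (f ∣_ U) W hW
      rw [morphismRestrict_app] at h1
      intro b
      obtain ⟨a, ha⟩ := h1 (Y.presheaf.map
        (eqToHom (image_morphismRestrict_preimage f U W)).op b)
      refine ⟨a, ?_⟩
      have hinj : Function.Injective (Y.presheaf.map
          (eqToHom (image_morphismRestrict_preimage f U W)).op) :=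
        ((ConcreteCategory.bijective_of_isIso _).1)
      exact hinj ha
    let G := (Scheme.Modules.pushforward f).obj (Coh.structureModule Y)
    let t' : Γ(G, V') := G.presheaf.map (homOfLE hV'V).op t
    obtain ⟨r, hr⟩ := hsurj t'
    have e1 : G.presheaf.germ V x hxV t = G.presheaf.germ V' x hxV' t' :=
      (TopCat.Presheaf.germ_res_apply G.presheaf (homOfLE hV'V) x hxV' t).symm
    have e2 : G.presheaf.germ V' x hxV' t' =
        stalkL (unitPush f) x ((Coh.structureModule X).presheaf.germ V' x hxV' r) := by
      rw [stalkL_germ]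
      congr 1
      exact hr.symm
    rw [e1, e2, ← stalkL_comp_apply, cokernel.condition, stalkL_zero]
    rfl
  exact ⟨fun a b => by rw [key a, key b]⟩

end Struct

section Main

variable (k : Type u) [Field k] (X Y : Scheme.{u}) [X.Over (Spec (CommRingCat.of k))]
  [Y.Over (Spec (CommRingCat.of k))] [IsProper (X ↘ (Spec (CommRingCat.of k)))]

/-- `h¹(Y, O_Y) = h¹(X, f_* O_Y)` for a finite morphism -/
theorem genus_eq_finrank_push (f : Y ⟶ X) [IsAffineHom f]
    (hf : f ≫ (X ↘ (Spec (CommRingCat.of k))) = Y ↘ (Spec (CommRingCat.of k))) :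
    Curv2.genus k Y = Module.finrank k
      (Coh.HH X ((Scheme.Modules.pushforward f).obj (Coh.structureModule Y)) 1) := by
  haveI : IsNoetherian X := Groth.Agent.Lib.Helper4.CurveRR.isNoetherian_of_proper k X
  haveI : (Coh.structureModule Y).IsQuasicoherent := isQuasicoherent_structureModule Y
  obtain ⟨e⟩ := Groth.Agent.Lib.Helper6.AffPushLin.nonempty_linearEquiv (A := k) f hf
    (Coh.structureModule Y) 1
  unfold Curv2.genus
  exact e.finrank_eq.symm

/-- the genus does not go up along a finite morphism which is a closed immersion over a dense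
open -/
theorem genus_le_of_finite (hdim : topologicalKrullDim X ≤ 1) (f : Y ⟶ X) [IsFinite f]
    (hf : f ≫ (X ↘ (Spec (CommRingCat.of k))) = Y ↘ (Spec (CommRingCat.of k)))
    (U : X.Opens) (hU : Dense (U : Set X)) (hfU : IsClosedImmersion (f ∣_ U)) :
    Curv2.genus k Y ≤ Curv2.genus k X := by
  haveI : IsNoetherian X := Groth.Agent.Lib.Helper4.CurveRR.isNoetherian_of_proper k X
  rw [genus_eq_finrank_push k X Y f hf]
  have hG : Coh.IsCoh ((Scheme.Modules.pushforward f).obj (Coh.structureModule Y)) :=
    Groth.Agent.Lib.Helper23.ZarConn.isCoh_push_structure f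
  refine h1_le_of_support_cokernel k X hdim (isCoh_structureModule X) hG (unitPush f)
    ((U : Set X)ᶜ) (isClosed_of_subset_compl_dense hdim U hU) ?_
  intro x hx hxU
  exact hx (subsingleton_stalk_cokernel_unitPush f U x hxU)

end Main

end Groth.Agent.Lib.Helper6.GenusLe
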