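import Mathlib
import Groth.Agent.Lib.Helper6GenusLe
import Groth.Agent.Lib.Helper6DimAff

/-!
# Proper birational morphisms of curves are finite; the genus does not go up (helper6)
-/

set_option autoImplicit false
set_option linter.style.haveILetI false
universe u
open CategoryTheory Limits AlgebraicGeometry Opposite TopologicalSpace

namespace Groth.Agent.Lib.Helper6.GenusLe

section Top

variable {X : Scheme.{u}}

/-- in a Noetherian scheme of dimension at most one, the complement of a dense open is finite -/
theorem finite_compl_dense [IsNoetherian X] (hdim : topologicalKrullDim X ≤ 1)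
    (U : X.Opens) (hU : Dense (U : Set X)) : ((U : Set X)ᶜ).Finite := by
  have hpt : ∀ s ∈ (U : Set X)ᶜ, IsClosed ({s} : Set X) :=
    fun s hs => isClosed_singleton_of_notMem_dense hdim U hU s hs
  obtain ⟨S, hSf, hSc, hSi, hSU⟩ :=
    NoetherianSpace.exists_finite_set_isClosed_irreducible
      (s := (U : Set X)ᶜ) (U.2.isClosed_compl)
  rw [hSU]
  refine Set.Finite.sUnion hSf (fun t ht => ?_)
  obtain ⟨z, hz⟩ := QuasiSober.sober (hSi t ht) (hSc t ht)
  have hzU : z ∈ (U : Set X)ᶜ := by
    rw [hSU]
    exact ⟨t, ht, hz.mem⟩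
  have : t = {z} := by
    rw [← hz.def]
    exact (hpt z hzU).closure_eq
  rw [this]
  exact Set.finite_singleton z

end Top

section Main

variable (k : Type u) [Field k] (X X' : Scheme.{u}) [X.Over (Spec (CommRingCat.of k))]
  [X'.Over (Spec (CommRingCat.of k))] [IsProper (X ↘ (Spec (CommRingCat.of k)))]

/-- a proper morphism to a curve which is an isomorphism over a dense open with dense preimage
is finite -/
theorem isFinite_of_isIso_dense (hdim : topologicalKrullDim X ≤ 1) (f : X' ⟶ X) [IsProper f]
    (hf : f ≫ (X ↘ (Spec (CommRingCat.of k))) = X' ↘ (Spec (CommRingCat.of k)))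
    (U : X.Opens) (hU' : Dense ((f ⁻¹ᵁ U : X'.Opens) : Set X'))
    (hfU : IsIso (f ∣_ U)) : IsFinite f := by
  haveI : IsProper (X' ↘ (Spec (CommRingCat.of k))) := by
    rw [← hf]; infer_instance
  haveI : IsNoetherian X' := Groth.Agent.Lib.Helper4.CurveRR.isNoetherian_of_proper k X'
  -- dimension of X'
  have hdim' : topologicalKrullDim X' ≤ 1 := by
    rw [Groth.Agent.Lib.Helper6.DimAff.topologicalKrullDim_eq_of_dense k
      (X' ↘ (Spec (CommRingCat.of k))) (f ⁻¹ᵁ U) hU']
    have h1 : topologicalKrullDim ↥(f ⁻¹ᵁ U) = topologicalKrullDim ↥U :=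
      IsHomeomorph.topologicalKrullDim_eq _
        (Scheme.homeoOfIso (asIso (f ∣_ U))).isHomeomorph
    have h2 : topologicalKrullDim ↥U ≤ 1 := (topologicalKrullDim_subspace_le X _).trans hdim
    exact (le_of_eq h1).trans h2
  have hfin := finite_compl_dense hdim' (f ⁻¹ᵁ U) hU'
  haveI : LocallyQuasiFinite f := by
    refine LocallyQuasiFinite.of_finite_preimage_singleton f (fun x => ?_)
    by_cases hx : x ∈ U
    · refine Set.Subsingleton.finite ?_
      intro a ha b hb
      have haU : a ∈ f ⁻¹ᵁ U := by
        change f a ∈ U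
        rw [show f a = x from ha]; exact hx
      have hbU : b ∈ f ⁻¹ᵁ U := by
        change f b ∈ U
        rw [show f b = x from hb]; exact hx
      have hinj : Function.Injective (f ∣_ U) :=
        (Scheme.homeoOfIso (asIso (f ∣_ U))).injective
      have hab : (f ∣_ U) ⟨a, haU⟩ = (f ∣_ U) ⟨b, hbU⟩ := by
        apply Subtype.ext
        rw [morphismRestrict_base_coe, morphismRestrict_base_coe]
        exact (show f a = x from ha).trans (show f b = x from hb).symm
      exact congrArg Subtype.val (hinj hab)
    · refine hfin.subset ?_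
      intro a ha haU
      apply hx
      have : f a ∈ U := haU
      rwa [show f a = x from ha] at this
  exact IsFinite.of_isProper_of_locallyQuasiFinite f

/-- the genus does not go up along a proper birational morphism of curves -/
theorem genus_le_of_proper (hdim : topologicalKrullDim X ≤ 1) (f : X' ⟶ X) [IsProper f]
    (hf : f ≫ (X ↘ (Spec (CommRingCat.of k))) = X' ↘ (Spec (CommRingCat.of k)))
    (U : X.Opens) (hU : Dense (U : Set X)) (hU' : Dense ((f ⁻¹ᵁ U : X'.Opens) : Set X'))
    (hfU : IsIso (f ∣_ U)) : Curv2.genus k X' ≤ Curv2.genus k X := by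
  haveI := isFinite_of_isIso_dense k X X' hdim f hf U hU' hfU
  exact genus_le_of_finite k X X' hdim f hf U hU inferInstance

end Main

end Groth.Agent.Lib.Helper6.GenusLe
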