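import Mathlib
import Groth.Agent.Lib.Helper6GenusLe2
import Groth.Agent.Lib.Helper6Euler
import Groth.Agent.Lib.Helper4ZeroDimChi

/-!
# A proper birational morphism of curves with the same `h⁰`, `h¹` is an isomorphism (helper6)
-/

set_option autoImplicit false
set_option linter.style.haveILetI false
universe u
open CategoryTheory Limits AlgebraicGeometry Opposite TopologicalSpace

namespace Groth.Agent.Lib.Helper6.GenusLe

open Groth.Agent.Lib.Helper4.Dev Groth.Agent.Lib.Helper27CohFin

section Inj

variable {X X' : Scheme.{u}} (f : X' ⟶ X)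

/-- stalk maps over an open where `f` is an isomorphism are isomorphisms -/
theorem isIso_stalkMap_of_isIso_restrict (U : X.Opens) [IsIso (f ∣_ U)] (y : X')
    (hy : y ∈ f ⁻¹ᵁ U) : IsIso (f.stalkMap y) := by
  have h := (MorphismProperty.isomorphisms CommRingCat).arrow_mk_iso_iff
    (morphismRestrictStalkMap f U ⟨y, hy⟩)
  exact h.1 (inferInstanceAs (IsIso ((f ∣_ U).stalkMap ⟨y, hy⟩)))

/-- on a reduced scheme, `O_X → f_* O_{X'}` is injective when `f` is an isomorphism over a
dense open -/
theorem app_injective_of_isIso_dense [IsReduced X] (U : X.Opens) (hU : Dense (U : Set X))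
    [IsIso (f ∣_ U)] (V : X.Opens) : Function.Injective (f.app V) := by
  rw [injective_iff_map_eq_zero]
  intro r hr
  rw [← basicOpen_eq_bot_iff]
  by_contra hne
  have hne' : ((X.basicOpen r : X.Opens) : Set X).Nonempty := by
    rw [Set.nonempty_iff_ne_empty]
    intro h
    exact hne (Opens.ext h)
  obtain ⟨x, hxr, hxU⟩ := hU.inter_open_nonempty _ (X.basicOpen r).2 hne'
  have hsurj : Function.Surjective (f ∣_ U) :=
    (Scheme.homeoOfIso (asIso (f ∣_ U))).surjective
  obtain ⟨y', hy'⟩ := hsurj ⟨x, hxU⟩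
  have hfy : f y'.1 = x := by
    have := congrArg Subtype.val hy'
    rwa [morphismRestrict_base_coe] at this
  subst hfy
  have hxV : f y'.1 ∈ V := X.basicOpen_le r hxr
  haveI := isIso_stalkMap_of_isIso_restrict f U y'.1 y'.2
  have hinj : Function.Injective (f.stalkMap y'.1) :=
    (ConcreteCategory.bijective_of_isIso (f.stalkMap y'.1)).1
  have h0 : X.presheaf.germ V (f y'.1) hxV r = 0 := by
    apply hinj
    rw [Scheme.Hom.germ_stalkMap_apply, hr, map_zero, map_zero]
  have hu : IsUnit (X.presheaf.germ V (f y'.1) hxV r) := (X.mem_basicOpen r _ hxV).1 hxr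
  rw [h0] at hu
  exact not_isUnit_zero hu

end Inj

section Coh

open Groth.Agent.Lib.Helper17.GammaA

variable (k : Type u) [Field k] (X X' : Scheme.{u}) [X.Over (Spec (CommRingCat.of k))]
  [X'.Over (Spec (CommRingCat.of k))] [IsProper (X ↘ (Spec (CommRingCat.of k)))]

omit [IsProper (X ↘ (Spec (CommRingCat.of k)))] [X.Over (Spec (CommRingCat.of k))]
  [X'.Over (Spec (CommRingCat.of k))] in
theorem mono_unitPush [IsReduced X] (f : X' ⟶ X) (U : X.Opens) (hU : Dense (U : Set X))
    [IsIso (f ∣_ U)] : Mono (unitPush f) := by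
  apply mono_of_injective_app
  intro V a b hab
  exact app_injective_of_isIso_dense f U hU V hab

omit [IsProper (X ↘ (Spec (CommRingCat.of k)))] [X'.Over (Spec (CommRingCat.of k))] in
/-- `H⁰(O_X) → H⁰(f_* O_{X'})` is surjective if `f.app ⊤` is -/
theorem HHlin_unitPush_surjective (f : X' ⟶ X) (h0 : Function.Surjective (f.app ⊤).hom) :
    Function.Surjective (Canon.HHlin k (unitPush f) 0) := by
  intro y
  obtain ⟨t, rfl⟩ := (e0 k ((Scheme.Modules.pushforward f).obj (Coh.structureModule X'))).surjective y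
  obtain ⟨s, hs⟩ := h0 t
  refine ⟨e0 k (Coh.structureModule X) s, ?_⟩
  rw [e0_naturality]
  congr 1

/-- an affine morphism inducing an isomorphism `O_X ≅ f_* O_{X'}` is an isomorphism -/
theorem isIso_of_isIso_unitPush {X X' : Scheme.{u}} (f : X' ⟶ X) [IsAffineHom f]
    [IsIso (unitPush f)] : IsIso f := by
  have happ : ∀ W : X.Opens, IsIso (f.app W) := by
    intro W
    rw [ConcreteCategory.isIso_iff_bijective]
    exact ConcreteCategory.bijective_of_isIso ((unitPush f).app W)
  rw [← MorphismProperty.isomorphisms.iff,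
    HasAffineProperty.eq_targetAffineLocally (P := MorphismProperty.isomorphisms Scheme)]
  intro V
  refine ⟨IsAffineHom.isAffine_preimage (f := f) V.1 V.2, ?_⟩
  rw [morphismRestrict_appTop]
  have h2 : IsIso (X'.presheaf.map (eqToHom (image_morphismRestrict_preimage f V.1 ⊤)).op) := by
    haveI : IsIso (eqToHom (image_morphismRestrict_preimage f V.1 ⊤)).op := inferInstance
    infer_instance
  exact IsIso.comp_isIso' (happ _) h2

theorem isIso_of_genus_eq [IsReduced X] (hdim : topologicalKrullDim X ≤ 1) (f : X' ⟶ X)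
    [IsProper f]
    (hf : f ≫ (X ↘ (Spec (CommRingCat.of k))) = X' ↘ (Spec (CommRingCat.of k)))
    (U : X.Opens) (hU : Dense (U : Set X)) (hU' : Dense ((f ⁻¹ᵁ U : X'.Opens) : Set X'))
    (hfU : IsIso (f ∣_ U)) (h0 : Function.Surjective (f.app ⊤).hom)
    (h1 : Curv2.genus k X' = Curv2.genus k X) : IsIso f := by
  haveI := hfU
  haveI : IsNoetherian X := Groth.Agent.Lib.Helper4.CurveRR.isNoetherian_of_proper k X
  haveI : IsFinite f := isFinite_of_isIso_dense k X X' hdim f hf U hU' hfU
  haveI : Mono (unitPush f) := mono_unitPush X X' f U hU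
  have hG : Coh.IsCoh ((Scheme.Modules.pushforward f).obj (Coh.structureModule X')) :=
    Groth.Agent.Lib.Helper23.ZarConn.isCoh_push_structure f
  have hO := isCoh_structureModule X
  let S := sesOfMono (unitPush f)
  have hS : S.ShortExact := sesOfMono_shortExact (unitPush f)
  have hsupp : CohB1.support (cokernel (unitPush f)) ⊆ (U : Set X)ᶜ :=
    fun x hx hxU => hx (subsingleton_stalk_cokernel_unitPush f U x hxU)
  have hZ := isClosed_of_subset_compl_dense hdim U hU
  haveI hsub : Subsingleton (Coh.HH X S.X₃ 1) :=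
    Groth.Agent.Lib.Helper4.CurveVan.HH_subsingleton_of_support_subset
      (cokernel (unitPush f)) _ hZ hsupp 1 one_pos
  haveI : Module.Finite k (Coh.HH X S.X₁ 1) :=
    Groth.Agent.S0002.result k X (Coh.structureModule X) hO 1
  haveI : Module.Finite k (Coh.HH X S.X₂ 1) :=
    Groth.Agent.S0002.result k X
      ((Scheme.Modules.pushforward f).obj (Coh.structureModule X')) hG 1
  -- `H¹(φ)` is bijective
  have hc_surj : Function.Surjective (Canon.HHlin k S.f 1) := by
    intro x
    have hx : x ∈ LinearMap.ker (Canon.HHlin k S.g 1) := hsub.elim _ _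
    rw [← Groth.Agent.Lib.Helper6.Euler.range_f_eq_ker_g k S hS 1] at hx
    exact hx
  have hrk : Module.finrank k (Coh.HH X S.X₁ 1) = Module.finrank k (Coh.HH X S.X₂ 1) := by
    change Curv2.genus k X = _
    rw [← h1]
    exact genus_eq_finrank_push k X X' f hf
  have hc_inj : Function.Injective (Canon.HHlin k S.f 1) :=
    (LinearMap.injective_iff_surjective_of_finrank_eq_finrank hrk).2 hc_surj
  have hδ0 : ∀ q, deltaLin k S hS 0 q = 0 := by
    intro q
    apply hc_inj
    rw [map_zero]
    have hq : deltaLin k S hS 0 q ∈ LinearMap.range (deltaLin k S hS 0) := ⟨q, rfl⟩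
    rw [Groth.Agent.Lib.Helper6.Euler.range_delta_eq_ker_f k S hS 0] at hq
    exact hq
  have hb0 : ∀ t : Coh.HH X S.X₂ 0, Canon.HHlin k S.g 0 t = 0 := by
    intro t
    obtain ⟨s, rfl⟩ := HHlin_unitPush_surjective k X X' f h0 t
    have hs : Canon.HHlin k S.f 0 s ∈ LinearMap.range (Canon.HHlin k S.f 0) := ⟨s, rfl⟩
    rw [Groth.Agent.Lib.Helper6.Euler.range_f_eq_ker_g k S hS 0] at hs
    exact hs
  have hQ0 : ∀ q : Coh.HH X S.X₃ 0, q = 0 := by
    intro q
    obtain ⟨t, ht⟩ := exact_delta S hS 0 q (hδ0 q)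
    rw [← ht]
    exact hb0 t
  -- the cokernel vanishes
  have hQzero : IsZero (cokernel (unitPush f)) := by
    apply isZero_of_support_eq_empty
    classical
    have hfin := finite_compl_dense hdim U hU
    let Z : Finset X := hfin.toFinset
    have hcl : ∀ x ∈ Z, IsClosed ({x} : Set X) := by
      intro x hx
      exact isClosed_singleton_of_notMem_dense hdim U hU x ((Set.Finite.mem_toFinset hfin).1 hx)
    have hsuppZ : CohB1.support (cokernel (unitPush f)) ⊆ (Z : Set X) := by
      rw [Set.Finite.coe_toFinset]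
      exact hsupp
    rw [Set.eq_empty_iff_forall_notMem]
    intro x hx
    apply hx
    have hxZ : x ∈ Z := hsuppZ hx
    have key : ∀ g : (cokernel (unitPush f)).presheaf.stalk x, g = 0 := by
      intro g
      obtain ⟨t, ht, -⟩ := Groth.Agent.Lib.Helper4.ZeroDimChi.exists_section_germ_single
        (cokernel (unitPush f)) Z hcl hsuppZ x hxZ g
      have ht0 : t = 0 := by
        have h := hQ0 (e0 k (cokernel (unitPush f)) t)
        exact (e0 k (cokernel (unitPush f))).injective (h.trans (map_zero _).symm)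
      rw [← ht, ht0, map_zero]
    exact ⟨fun a b => by rw [key a, key b]⟩
  haveI : Epi (unitPush f) := Preadditive.epi_of_isZero_cokernel (unitPush f) hQzero
  haveI : IsIso (unitPush f) := isIso_of_mono_of_epi (unitPush f)
  exact isIso_of_isIso_unitPush f

end Coh

end Groth.Agent.Lib.Helper6.GenusLe
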