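import Mathlib
import Groth.Agent.S1585
import Groth.Agent.S0002
import Groth.Agent.Lib.Helper6GenusIso
import Groth.Agent.Lib.Helper6GenusLe
import Groth.Agent.Lib.Helper6SmRegSch3
import Groth.Agent.Lib.Helper16LocSymDVR
import Groth.Agent.Lib.Helper6H0Const

/-!
# An integral proper curve with `H¹(O) = 0` over an algebraically closed field is smooth (helper4; S14512)

The normalization `ν : Y → X` is finite and birational, so `g(Y) ≤ g(X) = 0`; as `Γ(Y, O_Y) = k`, helper6's
`isIso_of_genus_eq` shows that `ν` is an isomorphism.  Hence `X` is normal of dimension one, its local rings are regular,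
and over the perfect field `k` regular points are smooth points.
-/

set_option autoImplicit false
set_option linter.style.haveILetI false
universe u
open CategoryTheory CategoryTheory.Limits AlgebraicGeometry TopologicalSpace Opposite

namespace Groth.Agent.Lib.Helper4.GenusZeroSm

/-- a Noetherian integrally closed local domain of dimension at most one is regular -/
theorem isRegularLocalRing_of_normal (R : Type*) [CommRing R] [IsDomain R] [IsLocalRing R]
    [IsNoetherianRing R] [IsIntegrallyClosed R] (h : ringKrullDim R ≤ 1) : IsRegularLocalRing R := by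
  haveI : Ring.KrullDimLE 1 R := Ring.krullDimLE_iff.mpr h
  haveI : IsPrincipalIdealRing R := by
    have h3 : IsIntegrallyClosed R ∧ ∀ P : Ideal R, P ≠ ⊥ → P.IsPrime → P = IsLocalRing.maximalIdeal R :=
      ⟨inferInstance, fun P hP hPp => IsLocalRing.eq_maximalIdeal (hPp.isMaximal_of_ne_bot hP)⟩
    exact ((tfae_of_isNoetherianRing_of_isLocalRing_of_isDomain R).out 3 0).1 h3
  infer_instance

open Groth.Agent.Lib.Helper6.H0Const Groth.Agent.Lib.Helper6.GenusLe

variable (k : Type u) [Field k] [IsAlgClosed k] (X : Scheme.{u}) [X.Over (Spec (CommRingCat.of k))]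
  [IsIntegral X] [IsProper (X ↘ (Spec (CommRingCat.of k)))]

/-- the normalization of an integral proper curve of arithmetic genus zero over an algebraically closed field is an
isomorphism -/
theorem isIso_normalizationι (hdim : topologicalKrullDim X = 1) (hg : Curv2.genus k X = 0)
    [QuasiCompact (X.fromSpecStalk (genericPoint X))] [QuasiSeparated (X.fromSpecStalk (genericPoint X))] :
    IsIso (Curv2.normalizationι X) := by
  obtain ⟨hfin, hdom, ⟨V, hV, hiso⟩, hint, -⟩ := Groth.Agent.S1585.result k X
  letI : (Curv2.normalization X).Over (Spec (CommRingCat.of k)) :=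
    ⟨Curv2.normalizationι X ≫ (X ↘ (Spec (CommRingCat.of k)))⟩
  haveI : IsProper ((Curv2.normalization X) ↘ (Spec (CommRingCat.of k))) := by
    change IsProper (Curv2.normalizationι X ≫ (X ↘ (Spec (CommRingCat.of k))))
    infer_instance
  have hVd : Dense (V : Set X) := V.2.dense hV
  have hle := genus_le_of_finite k X (Curv2.normalization X) hdim.le
    (Curv2.normalizationι X) rfl V hVd inferInstance
  have h1 : Curv2.genus k (Curv2.normalization X) = Curv2.genus k X := by omega
  have hV' : Dense (((Curv2.normalizationι X) ⁻¹ᵁ V : (Curv2.normalization X).Opens) :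
      Set (Curv2.normalization X)) := by
    apply ((Curv2.normalizationι X) ⁻¹ᵁ V).2.dense
    obtain ⟨x, hx⟩ := hV
    obtain ⟨y, hy⟩ := hdom.denseRange.exists_mem_open V.2 ⟨x, hx⟩
    exact ⟨y, hy⟩
  have h0 : Function.Surjective ((Curv2.normalizationι X).app ⊤).hom := by
    intro t
    letI alg : Algebra k Γ(Curv2.normalization X, ⊤) :=
      (gsMap k ((Curv2.normalization X) ↘ Spec (CommRingCat.of k))).hom.toAlgebra
    haveI : Algebra.IsIntegral k Γ(Curv2.normalization X, ⊤) :=
      ⟨gsMap_isIntegral k ((Curv2.normalization X) ↘ Spec (CommRingCat.of k))⟩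
    haveI : Nontrivial Γ(Curv2.normalization X, ⊤) := by
      obtain ⟨y⟩ := (inferInstance : Nonempty (Curv2.normalization X))
      exact @Scheme.component_nontrivial (Curv2.normalization X) ⊤ ⟨⟨y, trivial⟩⟩
    have hbij := bijective_algebraMap_of_isAlgClosed k Γ(Curv2.normalization X, ⊤)
      (eq_zero_or_one_of_isIdempotentElem (Y := Curv2.normalization X))
    obtain ⟨c, rfl⟩ := hbij.2 t
    refine ⟨(gsMap k (X ↘ Spec (CommRingCat.of k))).hom c, ?_⟩
    change ((gsMap k (X ↘ Spec (CommRingCat.of k))) ≫ (Curv2.normalizationι X).appTop).hom c =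
      (gsMap k ((Curv2.normalization X) ↘ Spec (CommRingCat.of k))).hom c
    congr 2
  exact isIso_of_genus_eq k X (Curv2.normalization X) hdim.le (Curv2.normalizationι X) rfl V hVd hV'
    hiso h0 h1

/-- **S14512**: an integral proper curve of arithmetic genus zero over an algebraically closed field is smooth -/
theorem main (hdim : topologicalKrullDim X = 1) (hg : Curv2.genus k X = 0) :
    Smooth (X ↘ (Spec (CommRingCat.of k))) := by
  haveI : QuasiSeparatedSpace X :=
    quasiSeparatedSpace_of_quasiSeparated (X ↘ (Spec (CommRingCat.of k)))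
  haveI : QuasiCompact (X.fromSpecStalk (genericPoint X)) := inferInstance
  haveI : QuasiSeparated (X.fromSpecStalk (genericPoint X)) := inferInstance
  haveI : IsLocallyNoetherian X :=
    LocallyOfFiniteType.isLocallyNoetherian (X ↘ (Spec (CommRingCat.of k)))
  haveI := isIso_normalizationι k X hdim hg
  obtain ⟨-, -, -, -, hnorm⟩ := Groth.Agent.S1585.result k X
  have hreg : ∀ x : X, IsRegularLocalRing (X.presheaf.stalk x) := by
    intro x
    obtain ⟨y, rfl⟩ : ∃ y, (Curv2.normalizationι X).base y = x :=
      ⟨(inv (Curv2.normalizationι X)).base x, by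
        rw [← Scheme.Hom.comp_apply, IsIso.inv_hom_id]; rfl⟩
    obtain ⟨hd, hic⟩ := hnorm y
    let e : (Curv2.normalization X).presheaf.stalk y ≃+*
        X.presheaf.stalk ((Curv2.normalizationι X).base y) :=
      (asIso ((Curv2.normalizationι X).stalkMap y)).commRingCatIsoToRingEquiv.symm
    haveI : IsIntegrallyClosed (X.presheaf.stalk ((Curv2.normalizationι X).base y)) :=
      IsIntegrallyClosed.of_equiv e
    exact isRegularLocalRing_of_normal _
      ((Helper16LocSym.ringKrullDim_stalk_le X _).trans hdim.le)
  rw [← Scheme.Hom.smoothLocus_eq_top_iff]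
  ext x
  simp only [Opens.coe_top, Set.mem_univ, iff_true, SetLike.mem_coe]
  exact (Groth.Agent.Lib.Helper6.SmRegSch3.mem_smoothLocus_iff_isRegularLocalRing k X
    (X ↘ (Spec (CommRingCat.of k))) x).2 (hreg x)

end Groth.Agent.Lib.Helper4.GenusZeroSm
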