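import Groth.Agent.Lib.Helper6H0Semi
import Groth.Agent.Lib.Helper6AffPushNat
import Groth.Agent.Lib.Helper21ExtCartier2
import Groth.Agent.Lib.Helper4ZeroDimChi

/-!
# The ideal sheaf of a closed point on a curve over an algebraically closed field is a line bundle of
degree `-1` (helper6)
-/

set_option autoImplicit false
set_option linter.style.haveILetI false
universe u
open CategoryTheory Limits AlgebraicGeometry Opposite TopologicalSpace

namespace Groth.Agent.Lib.Helper6.PointIdeal

open Groth.Agent.Lib.Helper4.CurveBun Groth.Agent.Lib.Helper4.DegAdd Groth.Agent.Lib.Helper4.CurveRR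
  Groth.Agent.Lib.Helper4.Dev

section Red

variable {X : Scheme.{u}}

theorem isReduced_vanishingIdeal (Z : TopologicalSpace.Closeds X) :
    IsReduced (Scheme.IdealSheafData.vanishingIdeal Z).subscheme := by
  haveI : ∀ U, IsReduced ((Scheme.IdealSheafData.vanishingIdeal Z).subschemeCover.openCover.X U) := by
    intro U
    let U' : X.affineOpens := U
    change IsReduced (Spec (.of (Γ(X, U'.1) ⧸ (Scheme.IdealSheafData.vanishingIdeal Z).ideal U')))
    haveI : _root_.IsReduced (Γ(X, U'.1) ⧸ (Scheme.IdealSheafData.vanishingIdeal Z).ideal U') := by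
      rw [← Ideal.isRadical_iff_quotient_reduced, Scheme.IdealSheafData.vanishingIdeal_ideal]
      exact PrimeSpectrum.isRadical_vanishingIdeal _
    infer_instance
  exact IsReduced.of_openCover _ (Scheme.IdealSheafData.vanishingIdeal Z).subschemeCover.openCover

theorem range_subschemeι_point (p : X) (hp : IsClosed ({p} : Set X)) :
    Set.range (Scheme.IdealSheafData.vanishingIdeal ⟨{p}, hp⟩).subschemeι = {p} := by
  rw [Scheme.IdealSheafData.range_subschemeι, Scheme.IdealSheafData.coe_support_vanishingIdeal]
  rfl

end Red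

variable (k : Type u) [Field k] (X : Scheme.{u}) [X.Over (Spec (CommRingCat.of k))]
  [IsIntegral X] [IsProper (X ↘ (Spec (CommRingCat.of k)))]

omit [IsIntegral X] in
/-- the structure sheaf of a reduced closed point has `h⁰ = 1` and no higher cohomology -/
theorem quotMod_point [IsAlgClosed k] (p : X) (hp : IsClosed ({p} : Set X)) :
    Module.finrank k (Coh.HH X (ClSub.quotMod (Scheme.IdealSheafData.vanishingIdeal ⟨{p}, hp⟩)) 0) = 1 ∧
    (∀ i, 0 < i → Subsingleton (Coh.HH X (ClSub.quotMod (Scheme.IdealSheafData.vanishingIdeal ⟨{p}, hp⟩)) i)) ∧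
    Coh.IsCoh (ClSub.quotMod (Scheme.IdealSheafData.vanishingIdeal ⟨{p}, hp⟩)) ∧
    CohB1.support (ClSub.quotMod (Scheme.IdealSheafData.vanishingIdeal ⟨{p}, hp⟩)) ⊆ {p} := by
  haveI : IsLocallyNoetherian X := isLocallyNoetherian_of_proper k X
  haveI : IsNoetherian X := isNoetherian_of_proper k X
  set D := Scheme.IdealSheafData.vanishingIdeal (⟨{p}, hp⟩ : TopologicalSpace.Closeds X) with hD
  have hQ : Coh.IsCoh (ClSub.quotMod D) :=
    isCoh_push_closed D.subschemeι _ (isCoh_structureModule D.subscheme)
  have hsub : CohB1.support (ClSub.quotMod D) ⊆ {p} := by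
    have h := support_push_subset D.subschemeι (Coh.structureModule D.subscheme)
    rwa [range_subschemeι_point p hp] at h
  have hv : ∀ i, 0 < i → Subsingleton (Coh.HH X (ClSub.quotMod D) i) := fun i hi =>
    Groth.Agent.S0047.result X _ hQ (fun x hx => by rw [hsub hx]; exact hp) i hi
  refine ⟨?_, hv, hQ, hsub⟩
  letI : D.subscheme.Over (Spec (CommRingCat.of k)) :=
    ⟨D.subschemeι ≫ (X ↘ Spec (CommRingCat.of k))⟩
  have hf : D.subschemeι ≫ (X ↘ Spec (CommRingCat.of k)) = D.subscheme ↘ Spec (CommRingCat.of k) := rfl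
  haveI : IsProper (D.subscheme ↘ Spec (CommRingCat.of k)) := by
    rw [← hf]
    infer_instance
  haveI : IsReduced D.subscheme := isReduced_vanishingIdeal _
  haveI : Nonempty D.subscheme := by
    have h : p ∈ Set.range D.subschemeι := by rw [range_subschemeι_point p hp]; rfl
    obtain ⟨z, -⟩ := h
    exact ⟨z⟩
  haveI : Subsingleton D.subscheme := by
    refine ⟨fun a b => ?_⟩
    apply D.subschemeι.isEmbedding.injective
    have ha : D.subschemeι a ∈ Set.range D.subschemeι := ⟨a, rfl⟩
    have hb : D.subschemeι b ∈ Set.range D.subschemeι := ⟨b, rfl⟩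
    rw [range_subschemeι_point p hp] at ha hb
    rw [ha, hb]
  haveI : PreirreducibleSpace D.subscheme := ⟨Set.subsingleton_univ.isPreirreducible⟩
  haveI : IrreducibleSpace D.subscheme := IrreducibleSpace.mk inferInstance
  haveI : IsIntegral D.subscheme := isIntegral_of_irreducibleSpace_of_isReduced _
  have h1 := Groth.Agent.Lib.Helper6.H0Semi.finrank_hh0_eq_one_of_isAlgClosed k D.subscheme
  haveI : (Coh.structureModule D.subscheme).IsQuasicoherent := (isCoh_structureModule D.subscheme).1
  have hbij := Groth.Agent.Lib.Helper6.AffPushLin.edge_bijective D.subschemeι hf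
    (Coh.structureModule D.subscheme) 0
  rw [← h1]
  exact (LinearEquiv.ofBijective _ hbij).finrank_eq

/-- the ideal sheaf of a closed point is an invertible module of degree `-1` -/
theorem idealMod_point [IsAlgClosed k] (hpid : PIDStalks X) (hdim : topologicalKrullDim X = 1)
    (p : X) (hp : IsClosed ({p} : Set X)) :
    PicF.IsInvertible (ClSub.idealMod (Scheme.IdealSheafData.vanishingIdeal ⟨{p}, hp⟩)) ∧
    Curv2.deg k X (ClSub.idealMod (Scheme.IdealSheafData.vanishingIdeal ⟨{p}, hp⟩)) 1 = -1 := by
  haveI : IsLocallyNoetherian X := isLocallyNoetherian_of_proper k X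
  obtain ⟨h0, hv, hQ, hsub⟩ := quotMod_point k X p hp
  set D := Scheme.IdealSheafData.vanishingIdeal (⟨{p}, hp⟩ : TopologicalSpace.Closeds X) with hD
  have hO := isCoh_structureModule X
  have hI : Coh.IsCoh (ClSub.idealMod D) := isCoh_kernel (ClSub.toSubscheme D) hO hQ
  have hO1 : FlatMod.IsFinLocFreeOfRank 1 (Coh.structureModule X) :=
    Groth.Agent.Lib.Helper23.SecTw.isFinLocFreeOfRank_one_of_isInvertible _
      (Groth.Agent.Lib.Helper23.TensorUnit.isInvertible_structureModule X)
  haveI : Mono (ClSub.idealModι D) := inferInstanceAs (Mono (kernel.ι (ClSub.toSubscheme D)))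
  obtain ⟨r', hr', hN⟩ := isFinLocFreeOfRank_of_mono hpid (ClSub.idealModι D) hI 1 hO1
  have hS := Groth.Agent.Lib.Helper21.ExtCartier.idealSES_shortExact D
  -- the generic point is not `p`
  have hη : genericPoint X ∉ CohB1.support (ClSub.quotMod D) := by
    intro h
    have h1 : genericPoint X = p := hsub h
    have h2 : (Set.univ : Set X) = {p} := by
      have h := genericPoint_spec X
      unfold IsGenericPoint at h
      rw [h1, hp.closure_eq] at h
      exact h.symm
    have h3 : topologicalKrullDim X ≤ 0 := by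
      haveI : Subsingleton X := ⟨fun a b => by
        have ha : a ∈ ({p} : Set X) := h2 ▸ Set.mem_univ a
        have hb : b ∈ ({p} : Set X) := h2 ▸ Set.mem_univ b
        rw [ha, hb]⟩
      rw [topologicalKrullDim, Order.krullDim_nonpos_iff_forall_isMax]
      intro A B _
      have hAB : A = B := by
        apply TopologicalSpace.IrreducibleCloseds.ext
        ext x
        constructor
        · intro _
          obtain ⟨y, hy⟩ := B.isIrreducible.nonempty
          rwa [Subsingleton.elim x y]
        · intro _
          obtain ⟨y, hy⟩ := A.isIrreducible.nonempty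
          rwa [Subsingleton.elim x y]
      rw [hAB]
    rw [hdim] at h3
    exact absurd h3 (by norm_num)
  have hgen : Subsingleton ((ClSub.quotMod D).presheaf.stalk (genericPoint X)) := by
    by_contra h
    exact hη h
  have hrk := Groth.Agent.Lib.Helper4.CurveChi.rk_additive X _ hS hI hQ
  change Module.finrank (X.presheaf.stalk (genericPoint X))
      ((Coh.structureModule X).presheaf.stalk (genericPoint X)) =
    Module.finrank (X.presheaf.stalk (genericPoint X)) ((ClSub.idealMod D).presheaf.stalk (genericPoint X)) +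
    Module.finrank (X.presheaf.stalk (genericPoint X)) ((ClSub.quotMod D).presheaf.stalk (genericPoint X))
    at hrk
  rw [Module.finrank_zero_of_subsingleton (M := (ClSub.quotMod D).presheaf.stalk (genericPoint X)), add_zero,
    (Groth.Agent.Lib.Helper4.KTensor.stalk_of_isFinLocFreeOfRank _ 1 hO1 (genericPoint X)).2.2,
    (Groth.Agent.Lib.Helper4.KTensor.stalk_of_isFinLocFreeOfRank _ r' hN (genericPoint X)).2.2] at hrk
  subst hrk
  refine ⟨Groth.Agent.Lib.Helper6.H0Semi.isInvertible_of_rank_one X hN, ?_⟩
  have hadd := Groth.Agent.Lib.Helper6.Euler.euler_additive k X _ hS hI hO hQ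
  have hχQ := Groth.Agent.Lib.Helper4.ZeroDimChi.euler_eq_finrank_zero k (ClSub.quotMod D) hv
  rw [h0] at hχQ
  change Curv2.euler k X (Coh.structureModule X) = Curv2.euler k X (ClSub.idealMod D) +
    Curv2.euler k X (ClSub.quotMod D) at hadd
  unfold Curv2.deg
  rw [hadd, hχQ]
  push_cast
  ring

/-- a curve over an algebraically closed field carries an invertible module of degree `-1` -/
theorem exists_invertible_deg_neg_one [IsAlgClosed k] (hpid : PIDStalks X) (hdim : topologicalKrullDim X = 1) :
    ∃ N : X.Modules, PicF.IsInvertible N ∧ Curv2.deg k X N 1 = -1 := by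
  haveI : Nonempty X := nonempty_of_dim_eq_one hdim
  haveI : CompactSpace X := by
    have : QuasiCompact (X ↘ (Spec (CommRingCat.of k))) := inferInstance
    exact (quasiCompact_iff_compactSpace (X ↘ (Spec (CommRingCat.of k)))).1 this
  obtain ⟨p, -, hp⟩ := isClosed_univ.exists_closed_singleton (Set.univ_nonempty (α := X))
  exact ⟨_, idealMod_point k X hpid hdim p hp⟩

end Groth.Agent.Lib.Helper6.PointIdeal
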