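import Mathlib
import Groth.Agent.Lib.Helper6PointIdeal
import Groth.Agent.Lib.Helper4CurvePt
import Groth.Agent.Lib.Helper6H0Const

/-!
# The ideal sheaf of a rational point (helper4)

For a proper scheme `X` over a field `k` and a `k`-rational point `x : Spec k ⟶ X` (a section of the structure morphism):

* `quotMod_ratPoint` : `O_X / I_x` is coherent, supported in the point, has `h⁰ = 1` and no higher cohomology
* `idealMod_ratPoint` : on an integral curve with principal local rings, `I_x` is invertible of degree `-1`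
* `stalkL_idealModι_surjective` : away from the point the inclusion `I_x ⟶ O_X` is surjective on stalks
-/

set_option autoImplicit false
set_option linter.style.haveILetI false
set_option linter.unusedSectionVars false
universe u
open CategoryTheory CategoryTheory.Limits AlgebraicGeometry TopologicalSpace Opposite

namespace Groth.Agent.Lib.Helper4.RatPoint

open Groth.Agent.Lib.Helper4.CurveBun Groth.Agent.Lib.Helper4.DegAdd Groth.Agent.Lib.Helper4.CurveRR
  Groth.Agent.Lib.Helper4.Dev Groth.Agent.Lib.Helper6.PointIdeal Groth.Agent.Lib.Helper6.H0Const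

variable (k : Type u) [Field k] (X : Scheme.{u}) [X.Over (Spec (CommRingCat.of k))]
  [IsProper (X ↘ (Spec (CommRingCat.of k)))]

instance : Subsingleton (Spec (CommRingCat.of k)) :=
  inferInstanceAs (Subsingleton (PrimeSpectrum k))

/-- the point of a rational point -/
noncomputable def pt (x : Spec (CommRingCat.of k) ⟶ X) : X := x (IsLocalRing.closedPoint k)

theorem isClosedImmersion_of_section (x : Spec (CommRingCat.of k) ⟶ X)
    (hx : x ≫ (X ↘ (Spec (CommRingCat.of k))) = 𝟙 _) : IsClosedImmersion x :=
  isClosedImmersion_of_comp_eq_id (X ↘ (Spec (CommRingCat.of k))) x hx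

theorem range_eq (x : Spec (CommRingCat.of k) ⟶ X) : Set.range x = {pt k X x} := by
  ext z
  constructor
  · rintro ⟨w, rfl⟩
    rw [Subsingleton.elim w (IsLocalRing.closedPoint k)]
    rfl
  · rintro rfl
    exact ⟨_, rfl⟩

theorem isClosed_pt (x : Spec (CommRingCat.of k) ⟶ X)
    (hx : x ≫ (X ↘ (Spec (CommRingCat.of k))) = 𝟙 _) : IsClosed ({pt k X x} : Set X) := by
  haveI := isClosedImmersion_of_section k X x hx
  rw [← range_eq]
  exact x.isClosedEmbedding.isClosed_range

theorem range_subschemeι_ker (x : Spec (CommRingCat.of k) ⟶ X)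
    (hx : x ≫ (X ↘ (Spec (CommRingCat.of k))) = 𝟙 _) : Set.range x.ker.subschemeι = {pt k X x} := by
  haveI := isClosedImmersion_of_section k X x hx
  rw [Scheme.IdealSheafData.range_subschemeι, Scheme.Hom.support_ker, range_eq,
    (isClosed_pt k X x hx).closure_eq]

/-- the structure sheaf of a rational point has `h⁰ = 1` and no higher cohomology -/
theorem quotMod_ratPoint (x : Spec (CommRingCat.of k) ⟶ X)
    (hx : x ≫ (X ↘ (Spec (CommRingCat.of k))) = 𝟙 _) :
    Module.finrank k (Coh.HH X (ClSub.quotMod x.ker) 0) = 1 ∧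
    (∀ i, 0 < i → Subsingleton (Coh.HH X (ClSub.quotMod x.ker) i)) ∧
    Coh.IsCoh (ClSub.quotMod x.ker) ∧
    CohB1.support (ClSub.quotMod x.ker) ⊆ {pt k X x} := by
  haveI : IsLocallyNoetherian X := isLocallyNoetherian_of_proper k X
  haveI : IsNoetherian X := isNoetherian_of_proper k X
  haveI := isClosedImmersion_of_section k X x hx
  set D := x.ker with hD
  have hp := isClosed_pt k X x hx
  have hQ : Coh.IsCoh (ClSub.quotMod D) :=
    isCoh_push_closed D.subschemeι _ (isCoh_structureModule D.subscheme)
  have hsub : CohB1.support (ClSub.quotMod D) ⊆ {pt k X x} := by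
    have h := support_push_subset D.subschemeι (Coh.structureModule D.subscheme)
    rwa [range_subschemeι_ker k X x hx] at h
  have hv : ∀ i, 0 < i → Subsingleton (Coh.HH X (ClSub.quotMod D) i) := fun i hi =>
    Groth.Agent.S0047.result X _ hQ (fun z hz => by rw [hsub hz]; exact hp) i hi
  refine ⟨?_, hv, hQ, hsub⟩
  letI : D.subscheme.Over (Spec (CommRingCat.of k)) :=
    ⟨D.subschemeι ≫ (X ↘ Spec (CommRingCat.of k))⟩
  have hf : D.subschemeι ≫ (X ↘ Spec (CommRingCat.of k)) = D.subscheme ↘ Spec (CommRingCat.of k) := rfl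
  -- `h⁰(D, O) = 1`
  have h1 : Module.finrank k (Coh.HH D.subscheme (Coh.structureModule D.subscheme) 0) = 1 := by
    rw [finrank_hh0]
    letI alg : Algebra k Γ(D.subscheme, ⊤) :=
      (gsMap k (D.subscheme ↘ Spec (CommRingCat.of k))).hom.toAlgebra
    have hcomp : x.toImage ≫ (D.subscheme ↘ Spec (CommRingCat.of k)) = 𝟙 _ := by
      rw [← hf, ← Category.assoc, Scheme.Hom.toImage_imageι, hx]
    haveI : IsIso x.toImage := inferInstance
    have hg : (D.subscheme ↘ Spec (CommRingCat.of k)) = inv x.toImage := IsIso.eq_inv_of_hom_inv_id hcomp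
    haveI : IsIso (D.subscheme ↘ Spec (CommRingCat.of k)) := by rw [hg]; infer_instance
    haveI : IsIso (D.subscheme ↘ Spec (CommRingCat.of k)).appTop :=
      (inferInstance : IsIso ((Scheme.Γ.map (D.subscheme ↘ Spec (CommRingCat.of k)).op)))
    haveI : IsIso (gsMap k (D.subscheme ↘ Spec (CommRingCat.of k))) := by
      unfold gsMap
      infer_instance
    have hbij : Function.Bijective (algebraMap k Γ(D.subscheme, ⊤)) :=
      ConcreteCategory.bijective_of_isIso (gsMap k (D.subscheme ↘ Spec (CommRingCat.of k)))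
    rw [← (LinearEquiv.ofBijective (Algebra.linearMap k Γ(D.subscheme, ⊤)) hbij).finrank_eq, Module.finrank_self]
  haveI : (Coh.structureModule D.subscheme).IsQuasicoherent := (isCoh_structureModule D.subscheme).1
  have hbij := Groth.Agent.Lib.Helper6.AffPushLin.edge_bijective D.subschemeι hf
    (Coh.structureModule D.subscheme) 0
  rw [← h1]
  exact (LinearEquiv.ofBijective _ hbij).finrank_eq

/-- the ideal sheaf of a rational point on a curve with principal local rings is invertible of degree `-1` -/
theorem idealMod_ratPoint [IsIntegral X] (hpid : PIDStalks X) (hdim : topologicalKrullDim X = 1)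
    (x : Spec (CommRingCat.of k) ⟶ X) (hx : x ≫ (X ↘ (Spec (CommRingCat.of k))) = 𝟙 _) :
    PicF.IsInvertible (ClSub.idealMod x.ker) ∧ Curv2.deg k X (ClSub.idealMod x.ker) 1 = -1 := by
  haveI : IsLocallyNoetherian X := isLocallyNoetherian_of_proper k X
  obtain ⟨h0, hv, hQ, hsub⟩ := quotMod_ratPoint k X x hx
  have hO := isCoh_structureModule X
  have hI : Coh.IsCoh (ClSub.idealMod x.ker) := isCoh_kernel (ClSub.toSubscheme x.ker) hO hQ
  have hS := Groth.Agent.Lib.Helper21.ExtCartier.idealSES_shortExact x.ker
  refine ⟨Groth.Agent.Lib.Helper4.CurvePt.isInvertible_idealMod k X hpid hdim x.ker (pt k X x)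
    (range_subschemeι_ker k X x hx).le, ?_⟩
  have hadd := Groth.Agent.Lib.Helper6.Euler.euler_additive k X _ hS hI hO hQ
  have hχQ := Groth.Agent.Lib.Helper4.ZeroDimChi.euler_eq_finrank_zero k (ClSub.quotMod x.ker) hv
  rw [h0] at hχQ
  change Curv2.euler k X (Coh.structureModule X) = Curv2.euler k X (ClSub.idealMod x.ker) +
    Curv2.euler k X (ClSub.quotMod x.ker) at hadd
  unfold Curv2.deg
  rw [hadd, hχQ]
  push_cast
  ring

/-- away from the point, the inclusion of the ideal sheaf of a rational point is surjective on stalks -/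
theorem stalkL_idealModι_surjective (x : Spec (CommRingCat.of k) ⟶ X)
    (hx : x ≫ (X ↘ (Spec (CommRingCat.of k))) = 𝟙 _) (z : X) (hz : z ≠ pt k X x) :
    Function.Surjective (stalkL (ClSub.idealModι x.ker) z) := by
  obtain ⟨-, -, -, hsub⟩ := quotMod_ratPoint k X x hx
  have hS := Groth.Agent.Lib.Helper21.ExtCartier.idealSES_shortExact x.ker
  have hzs : z ∉ CohB1.support (ClSub.quotMod x.ker) := fun h => hz (hsub h)
  simp only [CohB1.support, Set.mem_ofPred_eq, not_not] at hzs
  intro w
  haveI : Subsingleton ((Groth.Agent.Lib.Helper21.ExtCartier.idealSES x.ker).X₃.presheaf.stalk z) := hzs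
  exact (stalkL_exact _ hS z w).1 (Subsingleton.elim _ _)

end Groth.Agent.Lib.Helper4.RatPoint
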