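import Mathlib
import Groth.Agent.Lib.Helper4CurvePt
import Groth.Agent.Lib.Helper4CurveHiggs
import Groth.Agent.Lib.Helper4RatPoint

/-!
# The ideal sheaf of a closed point with normal local ring on a curve (helper4)

* `isFinLocFreeOfRank_of_mono_local` : a coherent subsheaf `G ⊆ E` of a bundle on an integral locally noetherian scheme is a bundle
  as soon as at each point either the local ring is principal or `G_x = E_x`
* `isInvertible_idealMod_local` : the ideal of a closed subscheme supported in a point `p` of a curve whose local ring at `p` is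
  principal is invertible
* `finrank_hh0_quotMod_residue` : `h⁰(O_X / I_p) = [κ(p) : k]` for the reduced closed point `p`
* `idealMod_normalPoint` : the ideal of a closed point with normal local ring is invertible of degree `-[κ(p) : k]`
-/

set_option autoImplicit false
set_option linter.style.haveILetI false
set_option linter.unusedSectionVars false
universe u
open CategoryTheory CategoryTheory.Limits AlgebraicGeometry TopologicalSpace Opposite

namespace Groth.Agent.Lib.Helper4.NormPt

open Groth.Agent.Lib.Helper4.CurveBun Groth.Agent.Lib.Helper4.DegAdd Groth.Agent.Lib.Helper4.CurveRR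
  Groth.Agent.Lib.Helper4.Dev Groth.Agent.Lib.Helper4.CurvePt

section Local

variable {X : Scheme.{u}}

/-- local freeness of a coherent submodule of a bundle at a point where the local ring is principal or the inclusion is
surjective -/
theorem exists_restrict_iso_freeMod_of_mono_local [IsIntegral X] [IsLocallyNoetherian X]
    {G E : X.Modules} (i : G ⟶ E) [Mono i] (hG : Coh.IsCoh G) (r : ℕ)
    (hE : FlatMod.IsFinLocFreeOfRank r E) (x : X)
    (h : IsPrincipalIdealRing (X.presheaf.stalk x) ∨ Function.Surjective (stalkL i x)) :
    ∃ (D : X.Opens) (m : ℕ), x ∈ D ∧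
      Nonempty (G.restrict D.ι ≅ FlatMod.freeMod (D : Scheme.{u}) m) := by
  haveI : G.IsQuasicoherent := hG.1
  haveI : SheafOfModules.IsFiniteType (R := X.ringCatSheaf) G := hG.2
  haveI : Module.Finite (X.presheaf.stalk x) (G.presheaf.stalk x) :=
    Groth.Agent.Lib.Helper2.FibreCrit.finite_stalk G x
  obtain ⟨hfree, -, -⟩ := Groth.Agent.Lib.Helper4.KTensor.stalk_of_isFinLocFreeOfRank E r hE x
  haveI := hfree
  haveI : Module.Free (X.presheaf.stalk x) (G.presheaf.stalk x) := by
    rcases h with h | h
    · haveI := h
      haveI : Module.IsTorsionFree (X.presheaf.stalk x) (E.presheaf.stalk x) := inferInstance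
      haveI : Module.IsTorsionFree (X.presheaf.stalk x) (G.presheaf.stalk x) :=
        Function.Injective.moduleIsTorsionFree (stalkL i x) (stalkL_injective_of_mono i x)
          (fun a m => map_smul (stalkL i x) a m)
      exact Module.free_of_finite_type_torsion_free'
    · exact Module.Free.of_equiv
        (LinearEquiv.ofBijective (stalkL i x) ⟨stalkL_injective_of_mono i x, h⟩).symm
  have hflat : FlatMod.IsFlatAt G x := Module.Flat.of_free
  haveI : SheafOfModules.IsFinitePresentation (R := X.ringCatSheaf) G :=
    Groth.Agent.Lib.Helper23.FinType.isFinitePresentation_of_isFiniteType G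
  exact Groth.Agent.Lib.Helper2.LocFree.exists_restrict_iso_freeMod_of_isFlatAt G x hflat

theorem isFinLocFreeOfRank_of_mono_local [IsIntegral X] [IsLocallyNoetherian X]
    {G E : X.Modules} (i : G ⟶ E) [Mono i] (hG : Coh.IsCoh G) (r : ℕ)
    (hE : FlatMod.IsFinLocFreeOfRank r E)
    (h : ∀ x : X, IsPrincipalIdealRing (X.presheaf.stalk x) ∨ Function.Surjective (stalkL i x)) :
    ∃ r' : ℕ, r' ≤ r ∧ FlatMod.IsFinLocFreeOfRank r' G := by
  haveI : G.IsQuasicoherent := hG.1
  obtain ⟨D₀, m₀, hη₀, ⟨e₀⟩⟩ :=
    exists_restrict_iso_freeMod_of_mono_local i hG r hE (genericPoint X) (h _)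
  have hfree : FlatMod.IsFinLocFreeOfRank m₀ G := by
    intro x
    obtain ⟨D, m, hxD, ⟨e⟩⟩ := exists_restrict_iso_freeMod_of_mono_local i hG r hE x (h x)
    have hηD : genericPoint X ∈ D :=
      (genericPoint_specializes x).mem_open D.2 hxD
    have hm : m = m₀ :=
      Groth.Agent.Lib.Helper26.ModRank.eq_of_restrict_iso_freeMod G e e₀ (genericPoint X) hηD hη₀
    subst hm
    exact ⟨D, hxD, ⟨e⟩⟩
  exact ⟨m₀, Groth.Agent.Lib.Helper4.CurveRR.rank_le_of_mono X i m₀ r hfree hE, hfree⟩

/-- away from the support of `O_X / I_D` the inclusion of the ideal sheaf is surjective on stalks -/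
theorem stalkL_idealModι_surjective_of_not_mem (D : X.IdealSheafData) (z : X)
    (hz : z ∉ CohB1.support (ClSub.quotMod D)) :
    Function.Surjective (stalkL (ClSub.idealModι D) z) := by
  have hS := Groth.Agent.Lib.Helper21.ExtCartier.idealSES_shortExact D
  simp only [CohB1.support, Set.mem_ofPred_eq, not_not] at hz
  intro w
  haveI : Subsingleton ((Groth.Agent.Lib.Helper21.ExtCartier.idealSES D).X₃.presheaf.stalk z) := hz
  exact (stalkL_exact _ hS z w).1 (Subsingleton.elim _ _)

end Local

section Curve

variable (k : Type u) [Field k] (X : Scheme.{u}) [X.Over (Spec (CommRingCat.of k))]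
  [IsProper (X ↘ (Spec (CommRingCat.of k)))] [IsIntegral X]

include k in
open Groth.Agent.Lib.Helper4.CurveNorm in
/-- the ideal of a divisor supported in one point of a curve whose local ring is principal is invertible -/
theorem isInvertible_idealMod_local (hdim : topologicalKrullDim X = 1)
    (D : X.IdealSheafData) (p : X) (hD : Set.range D.subschemeι ⊆ {p})
    (hp : IsPrincipalIdealRing (X.presheaf.stalk p)) :
    PicF.IsInvertible (ClSub.idealMod D) := by
  haveI : IsLocallyNoetherian X := isLocallyNoetherian_of_proper k X
  have hO : FlatMod.IsFinLocFreeOfRank 1 (Coh.structureModule X) :=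
    Groth.Agent.Lib.Helper23.SecTw.isFinLocFreeOfRank_one_of_isInvertible _
      (Groth.Agent.Lib.Helper23.TensorUnit.isInvertible_structureModule X)
  haveI : Mono (ClSub.idealModι D) := by
    unfold ClSub.idealModι
    exact equalizer.ι_mono
  have hsub : CohB1.support (ClSub.quotMod D) ⊆ ({p} : Set X) :=
    (support_push_subset D.subschemeι _).trans hD
  obtain ⟨r', hr', hI⟩ := isFinLocFreeOfRank_of_mono_local (ClSub.idealModι D) (isCoh_idealMod k X D) 1 hO
    (fun x => by
      by_cases hx : x = p
      · left; rw [hx]; exact hp
      · right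
        exact stalkL_idealModι_surjective_of_not_mem D x (fun h => hx (hsub h)))
  have h1 : r' = 1 := by
    rcases Nat.eq_zero_or_pos r' with h0 | h0
    · exfalso
      subst h0
      have hz := isZero_of_rank_zero _ hI
      haveI : Mono (ClSub.toSubscheme D) :=
        Preadditive.mono_of_kernel_zero (hz.eq_of_src _ _)
      have hs : CohB1.support (Coh.structureModule X) ⊆ ({p} : Set X) :=
        (support_subset_of_mono (ClSub.toSubscheme D)).trans
          ((support_push_subset D.subschemeι _).trans hD)
      have hall : ∀ x : X, x = p := fun x => hs (mem_support_of_rank_pos _ 1 Nat.one_pos hO x)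
      haveI : Subsingleton X := ⟨fun a b => (hall a).trans (hall b).symm⟩
      have h0 : topologicalKrullDim X ≤ 0 := topologicalKrullDim_zero_of_discreteTopology _
      rw [hdim] at h0
      exact absurd h0 (by decide)
    · omega
  subst h1
  exact isInvertible_of_rank_one _ hI

end Curve

end Groth.Agent.Lib.Helper4.NormPt
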