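import Mathlib
import Groth.Agent.Lib.Helper4P1CritF

/-!
# A curve with `H¹(O) = 0` and an invertible module of degree one is the projective line (helper4, S6541)
-/

set_option autoImplicit false
set_option linter.style.haveILetI false
set_option linter.unusedSectionVars false
set_option linter.unusedVariables false
universe u
open CategoryTheory CategoryTheory.Limits AlgebraicGeometry TopologicalSpace Opposite

namespace Groth.Agent.Lib.Helper4.P1CritG
open Groth.Agent.Lib.Helper23.SecTw Groth.Agent.Lib.Helper6 Groth.Agent.Lib.Helper23.GenLocus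
open Groth.Agent.Lib.Helper23.Extend Groth.Agent.Lib.Helper4.Dev
open Groth.Agent.Lib.Helper27PnSections Groth.Agent.Lib.Helper4.CurveDegSec
  Groth.Agent.Lib.Helper6.CurveDeg Groth.Agent.Lib.Helper4.CurveAsym Groth.Agent.Lib.Helper4.CurveGrd
  Groth.Agent.Lib.Helper6.H0Const

variable (k : Type u) [Field k] (X : Scheme.{u}) [X.Over (Spec (CommRingCat.of k))]
  [IsProper (X ↘ (Spec (CommRingCat.of k)))] [IsIntegral X]

/-- if some `H^n(X, Q)` is one-dimensional over `k`, then `H⁰(X, O_X) = k` -/
theorem finrank_hh0_eq_one_of_finrank_eq_one (Q : X.Modules) (n : ℕ)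
    (hQ : Module.finrank k (Coh.HH X Q n) = 1) :
    Module.finrank k (Coh.HH X (Coh.structureModule X) 0) = 1 := by
  rw [finrank_hh0]
  letI alg : Algebra k Γ(X, ⊤) := (gsMap k (X ↘ Spec (CommRingCat.of k))).hom.toAlgebra
  have hK : IsField Γ(X, ⊤) := isField_of_universallyClosed k (X ↘ Spec (CommRingCat.of k))
  obtain ⟨v, hv0, hv⟩ := finrank_eq_one_iff'.1 hQ
  have hsurj : Function.Surjective (algebraMap k Γ(X, ⊤)) := by
    intro r
    obtain ⟨c, hc⟩ := hv ((show Coh.Γtop X from r) • v)
    refine ⟨c, ?_⟩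
    by_contra hne
    have hne' : r - algebraMap k Γ(X, ⊤) c ≠ 0 := fun h => hne (sub_eq_zero.1 h).symm
    obtain ⟨w, hw⟩ := hK.mul_inv_cancel hne'
    apply hv0
    have h1 : (show Coh.Γtop X from (r - algebraMap k Γ(X, ⊤) c)) • v = 0 := by
      have h2 : (show Coh.Γtop X from (r - algebraMap k Γ(X, ⊤) c)) =
          (show Coh.Γtop X from r) - Coh.toGlobal (X ↘ Spec (CommRingCat.of k)) c := rfl
      rw [h2, sub_smul, ← hc]
      exact sub_self _
    have h3 : (show Coh.Γtop X from w * (r - algebraMap k Γ(X, ⊤) c)) • v = v := by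
      have : (show Coh.Γtop X from w * (r - algebraMap k Γ(X, ⊤) c)) = 1 := by
        rw [mul_comm]; exact hw
      rw [this, one_smul]
    have h4 : (show Coh.Γtop X from w * (r - algebraMap k Γ(X, ⊤) c)) =
        (show Coh.Γtop X from w) * (show Coh.Γtop X from (r - algebraMap k Γ(X, ⊤) c)) := rfl
    rw [h4, mul_smul, h1, smul_zero] at h3
    exact h3.symm
  haveI : Nontrivial Γ(X, ⊤) := hK.nontrivial
  have hbij : Function.Bijective (Algebra.linearMap k Γ(X, ⊤)) :=
    ⟨(algebraMap k Γ(X, ⊤)).injective, hsurj⟩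
  rw [← (LinearEquiv.ofBijective (Algebra.linearMap k Γ(X, ⊤)) hbij).finrank_eq, Module.finrank_self]

/-- **S6541** -/
theorem main (hdim : topologicalKrullDim X = 1)
    (h1 : Subsingleton (Coh.HH X (Coh.structureModule X) 1))
    (L : X.Modules) (hL : PicF.IsInvertible L) (hdeg : Curv2.deg k X L 1 = 1) :
    ∃ e : X ≅ CohB1.ProjSpace 1 k, e.hom ≫ CohB1.ProjSpace.toSpec 1 k = X ↘ (Spec (CommRingCat.of k)) := by
  have hO := Groth.Agent.Lib.Helper23.TensorUnit.isInvertible_structureModule X
  have cO := isCoh_structureModule X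
  have cL := isCoh_of_isInvertible L hL
  have eO := Groth.Agent.Lib.Helper4.CurveRR.euler_eq_h0_sub_h1 k X hdim.le _ cO
  have eL := Groth.Agent.Lib.Helper4.CurveRR.euler_eq_h0_sub_h1 k X hdim.le _ cL
  rw [Module.finrank_zero_of_subsingleton (M := Coh.HH X (Coh.structureModule X) 1)] at eO
  have hd : Curv2.euler k X L - Curv2.euler k X (Coh.structureModule X) = 1 := by
    have := hdeg
    unfold Curv2.deg at this
    push_cast at this
    linarith
  have hposL : 0 < Module.finrank k (Coh.HH X L 0) := by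
    have : (0 : ℤ) < (Module.finrank k (Coh.HH X L 0) : ℤ) := by
      have h0 := Int.natCast_nonneg (Module.finrank k (Coh.HH X (Coh.structureModule X) 0))
      have h1' := Int.natCast_nonneg (Module.finrank k (Coh.HH X L 1))
      push_cast at eO
      linarith
    exact_mod_cast this
  obtain ⟨s, hs⟩ := Groth.Agent.Lib.Helper4.CurveRR.exists_hom_ne_zero k X L hposL
  obtain ⟨hχ, -⟩ := Groth.Agent.Lib.Helper6.CurveDeg.main k X hdim _ L hO hL s hs
  have hQ : Module.finrank k (Coh.HH X (cokernel s) 0) = 1 := by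
    have : (Module.finrank k (Coh.HH X (cokernel s) 0) : ℤ) = 1 := by linarith
    exact_mod_cast this
  have h0 := finrank_hh0_eq_one_of_finrank_eq_one k X (cokernel s) 0 hQ
  have hh0 : 2 ≤ Module.finrank k (Coh.HH X L 0) := by
    have : (2 : ℤ) ≤ (Module.finrank k (Coh.HH X L 0) : ℤ) := by
      have h1' := Int.natCast_nonneg (Module.finrank k (Coh.HH X L 1))
      rw [h0] at eO
      push_cast at eO
      linarith
    exact_mod_cast this
  exact Groth.Agent.Lib.Helper4.P1CritF.exists_iso_P1_of_h0 k X hdim h0 L hL hdeg hh0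

end Groth.Agent.Lib.Helper4.P1CritG
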