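import Mathlib
import Groth.Agent.Lib.Helper4NormPt
import Groth.Agent.Lib.Helper4P1CritG

/-!
# A curve of genus zero with closed normal points of coprime degrees is the projective line (helper4)

* `finrank_hh0_quotMod_residue` : `h⁰(O_X / I_p) = [κ(p) : k]` for the reduced closed point `p`
* `idealMod_normalPoint` : the ideal of a closed point with normal local ring is invertible of degree `-[κ(p) : k]`
* `degSubgroup` : the subgroup of `ℤ` of degrees of invertible modules
* `exists_invertible_deg_one`, `main` (**S6542**)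
-/

set_option autoImplicit false
set_option linter.style.haveILetI false
set_option linter.unusedSectionVars false
universe u
open CategoryTheory CategoryTheory.Limits AlgebraicGeometry TopologicalSpace Opposite

namespace Groth.Agent.Lib.Helper4.P1Gcd
open Groth.Agent.Lib.Helper4.CurveBun Groth.Agent.Lib.Helper4.DegAdd Groth.Agent.Lib.Helper4.CurveRR
  Groth.Agent.Lib.Helper4.Dev Groth.Agent.Lib.Helper4.CurvePt Groth.Agent.Lib.Helper6.H0Const
  Groth.Agent.Lib.Helper4.NormPt

attribute [local instance] Curv2.resAlgebra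

section

theorem appTop_fromSpecResidueField (X : Scheme.{u}) (p : X) :
    (X.fromSpecResidueField p).appTop ≫ (Scheme.ΓSpecIso (X.residueField p)).hom =
      X.presheaf.germ ⊤ p trivial ≫ X.residue p := by
  unfold Scheme.fromSpecResidueField
  rw [Scheme.Hom.comp_appTop, Category.assoc, Scheme.ΓSpecIso_naturality, Scheme.fromSpecStalk_appTop]
  have h1 : (Spec (X.presheaf.stalk p)).presheaf.map (homOfLE (le_top : (⊤ : (Spec (X.presheaf.stalk p)).Opens) ≤ ⊤)).op =
      𝟙 _ := (Spec (X.presheaf.stalk p)).presheaf.map_id _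
  erw [h1]
  rw [Category.comp_id, Category.assoc, Iso.inv_hom_id_assoc]

variable (k : Type u) [Field k] (X : Scheme.{u}) [X.Over (Spec (CommRingCat.of k))]

theorem finrank_hh0_quotMod_residue (p : X) (hp : IsClosed ({p} : Set X)) :
    Module.finrank k (Coh.HH X (ClSub.quotMod (X.fromSpecResidueField p).ker) 0) =
      Module.finrank k (X.residueField p) := by
  haveI : IsClosedImmersion (X.fromSpecResidueField p) := isClosed_singleton_iff_isClosedImmersion.1 hp
  set ι := X.fromSpecResidueField p with hι
  set D := ι.ker with hD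
  have h := finrank_hh0_push (ι := D.subschemeι) k
  letI alg : Algebra k Γ(D.subscheme, ⊤) :=
    (gsMap k (D.subschemeι ≫ (X ↘ Spec (CommRingCat.of k)))).hom.toAlgebra
  refine h.trans ?_
  haveI : IsIso ι.toImage := inferInstance
  haveI : IsIso ι.toImage.appTop := (inferInstance : IsIso ((Scheme.Γ.map ι.toImage.op)))
  let E : Γ(D.subscheme, ⊤) ⟶ X.residueField p := ι.toImage.appTop ≫ (Scheme.ΓSpecIso (X.residueField p)).hom
  haveI : IsIso E := by unfold E; infer_instance
  have hE : gsMap k (D.subschemeι ≫ (X ↘ Spec (CommRingCat.of k))) ≫ E =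
      CommRingCat.ofHom (Curv2.resMap k X p) := by
    unfold E gsMap
    rw [Category.assoc, ← Category.assoc _ ι.toImage.appTop, ← Scheme.Hom.comp_appTop,
      ← Category.assoc ι.toImage, show ι.toImage ≫ D.subschemeι = ι from Scheme.Hom.toImage_imageι ι,
      Scheme.Hom.comp_appTop, Category.assoc, appTop_fromSpecResidueField]
    rfl
  have hcomp : ∀ c : k, E.hom (algebraMap k Γ(D.subscheme, ⊤) c) = algebraMap k (X.residueField p) c := by
    intro c
    have := congrArg (fun f => f.hom c) hE
    exact this
  let el : Γ(D.subscheme, ⊤) →ₗ[k] X.residueField p :=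
    { toFun := E.hom
      map_add' := map_add E.hom
      map_smul' := fun c a => by
        rw [Algebra.smul_def, map_mul, hcomp, RingHom.id_apply, Algebra.smul_def] }
  have hbij : Function.Bijective el := ConcreteCategory.bijective_of_isIso E
  exact (LinearEquiv.ofBijective el hbij).finrank_eq

end

theorem gcd_mem (H : AddSubgroup ℤ) {ι : Type*} [DecidableEq ι] (s : Finset ι) (f : ι → ℕ)
    (h : ∀ x ∈ s, (f x : ℤ) ∈ H) : ((s.gcd f : ℕ) : ℤ) ∈ H := by
  induction s using Finset.induction_on with
  | empty => simp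
  | insert a s ha ih =>
    rw [Finset.gcd_insert]
    have h1 : (f a : ℤ) ∈ H := h a (Finset.mem_insert_self a s)
    have h2 : ((s.gcd f : ℕ) : ℤ) ∈ H := ih (fun x hx => h x (Finset.mem_insert_of_mem hx))
    change ((Nat.gcd (f a) (s.gcd f) : ℕ) : ℤ) ∈ H
    rw [Nat.gcd_eq_gcd_ab]
    refine H.add_mem ?_ ?_
    · rw [mul_comm, ← smul_eq_mul]
      exact H.zsmul_mem h1 _
    · rw [mul_comm, ← smul_eq_mul]
      exact H.zsmul_mem h2 _

variable (k : Type u) [Field k] (X : Scheme.{u}) [X.Over (Spec (CommRingCat.of k))]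
  [IsProper (X ↘ (Spec (CommRingCat.of k)))] [IsIntegral X]

/-- the subgroup of degrees of invertible modules -/
noncomputable def degSubgroup (hdim : topologicalKrullDim X ≤ 1) : AddSubgroup ℤ where
  carrier := {d | ∃ L : X.Modules, PicF.IsInvertible L ∧ Curv2.deg k X L 1 = d}
  zero_mem' := ⟨Coh.structureModule X, Groth.Agent.Lib.Helper23.TensorUnit.isInvertible_structureModule X,
    Groth.Agent.Lib.Helper6.CurveDeg.deg_structureModule k X⟩
  add_mem' := by
    rintro a b ⟨L, hL, rfl⟩ ⟨M, hM, rfl⟩
    refine ⟨CohB1.tensorMod L M, Groth.Agent.Lib.Helper23.SecTw.isInvertible_tensorMod hL hM, ?_⟩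
    have h := Groth.Agent.Lib.Helper4.CurveDegT.deg_tensor k X hdim 1 1 L M
      (Groth.Agent.Lib.Helper23.SecTw.isFinLocFreeOfRank_one_of_isInvertible _ hL)
      (Groth.Agent.Lib.Helper23.SecTw.isFinLocFreeOfRank_one_of_isInvertible _ hM)
    rw [Nat.mul_one] at h
    rw [h]
    push_cast
    ring
  neg_mem' := by
    rintro a ⟨L, hL, rfl⟩
    exact ⟨RefHull.dual L, Groth.Agent.Lib.Helper23.InvDual.isInvertible_dual L hL,
      Groth.Agent.Lib.Helper4.CurveHiggs.deg_dual k X hdim L hL⟩

theorem range_subschemeι_ker_residue (p : X) (hp : IsClosed ({p} : Set X)) :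
    Set.range (X.fromSpecResidueField p).ker.subschemeι = {p} := by
  rw [Scheme.IdealSheafData.range_subschemeι, Scheme.Hom.support_ker, Scheme.range_fromSpecResidueField,
    hp.closure_eq]

/-- the ideal sheaf of a closed point with normal local ring is invertible of degree `-[κ(p) : k]` -/
theorem idealMod_normalPoint (hdim : topologicalKrullDim X = 1) (p : X) (hp : IsClosed ({p} : Set X))
    (hn : IsIntegrallyClosed (X.presheaf.stalk p)) :
    PicF.IsInvertible (ClSub.idealMod (X.fromSpecResidueField p).ker) ∧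
    Curv2.deg k X (ClSub.idealMod (X.fromSpecResidueField p).ker) 1 =
      - (Module.finrank k (X.residueField p) : ℤ) := by
  haveI : IsLocallyNoetherian X := isLocallyNoetherian_of_proper k X
  have hr := (range_subschemeι_ker_residue X p hp).le
  haveI := hn
  have hpid : IsPrincipalIdealRing (X.presheaf.stalk p) :=
    isPrincipalIdealRing_of_dim_le_one _ ((Helper16LocSym.ringKrullDim_stalk_le X p).trans hdim.le)
  refine ⟨isInvertible_idealMod_local k X hdim _ p hr hpid, ?_⟩
  rw [deg_idealMod k X _ p hr, finrank_hh0_quotMod_residue k X p hp]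

/-- closed points with normal local rings and coprime degrees give an invertible module of degree one -/
theorem exists_invertible_deg_one (hdim : topologicalKrullDim X = 1)
    (s : Finset X) (hcl : ∀ x ∈ s, IsClosed ({x} : Set X))
    (hn : ∀ x ∈ s, IsIntegrallyClosed (X.presheaf.stalk x))
    (hgcd : s.gcd (fun x => Module.finrank k (X.residueField x)) = 1) :
    ∃ L : X.Modules, PicF.IsInvertible L ∧ Curv2.deg k X L 1 = 1 := by
  classical
  have h := gcd_mem (degSubgroup k X hdim.le) s (fun x => Module.finrank k (X.residueField x))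
    (fun x hx => by
      obtain ⟨hI, hd⟩ := idealMod_normalPoint k X hdim x (hcl x hx) (hn x hx)
      have : (-(Module.finrank k (X.residueField x) : ℤ)) ∈ degSubgroup k X hdim.le := ⟨_, hI, hd⟩
      simpa using (degSubgroup k X hdim.le).neg_mem this)
  rw [hgcd] at h
  obtain ⟨L, hL, hd⟩ := h
  exact ⟨L, hL, by rw [hd]; rfl⟩

/-- **S6542** -/
theorem main (hdim : topologicalKrullDim X = 1)
    (h1 : Subsingleton (Coh.HH X (Coh.structureModule X) 1))
    (s : Finset X) (hcl : ∀ x ∈ s, IsClosed ({x} : Set X))
    (hn : ∀ x ∈ s, IsIntegrallyClosed (X.presheaf.stalk x))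
    (hgcd : s.gcd (fun x => Module.finrank k (X.residueField x)) = 1) :
    ∃ e : X ≅ CohB1.ProjSpace 1 k, e.hom ≫ CohB1.ProjSpace.toSpec 1 k = X ↘ (Spec (CommRingCat.of k)) := by
  obtain ⟨L, hL, hd⟩ := exists_invertible_deg_one k X hdim s hcl hn hgcd
  exact Groth.Agent.Lib.Helper4.P1CritG.main k X hdim h1 L hL hd

end Groth.Agent.Lib.Helper4.P1Gcd
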