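import Mathlib
import Groth.Agent.Lib.Helper4P1Gcd
import Groth.Agent.Lib.Helper6GeomRedSm
import Groth.Agent.Lib.Helper11SepPts

/-!
# A geometrically integral proper curve of genus zero over a separably closed field is the projective line (helper4)

* `exists_smooth_ratPoint` : a geometrically reduced scheme locally of finite type over a separably closed field has a rational
  point in the smooth locus
* `deg_dual_idealMod_ratPoint` : the dual of the ideal sheaf of a rational point with principal local ring is invertible of degree one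
* `exists_iso_P1_of_sepClosed` : **S7834**
-/

set_option autoImplicit false
set_option linter.style.haveILetI false
set_option linter.unusedSectionVars false
universe u
open CategoryTheory CategoryTheory.Limits AlgebraicGeometry TopologicalSpace Opposite

namespace Groth.Agent.Lib.Helper4.P1SepCl
open Groth.Agent.Lib.Helper4.CurveBun Groth.Agent.Lib.Helper4.DegAdd Groth.Agent.Lib.Helper4.CurveRR
  Groth.Agent.Lib.Helper4.Dev Groth.Agent.Lib.Helper4.CurvePt Groth.Agent.Lib.Helper6.H0Const
  Groth.Agent.Lib.Helper4.NormPt Groth.Agent.Lib.Helper4.RatPoint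

section

variable (k : Type u) [Field k] (X : Scheme.{u}) [X.Over (Spec (CommRingCat.of k))]

/-- a rational point through the smooth locus -/
theorem exists_smooth_ratPoint [IsSepClosed k] [Nonempty X]
    [LocallyOfFinitePresentation (X ↘ (Spec (CommRingCat.of k)))]
    [GeometricallyReduced (X ↘ (Spec (CommRingCat.of k)))] :
    ∃ (x : Spec (CommRingCat.of k) ⟶ X), x ≫ (X ↘ (Spec (CommRingCat.of k))) = 𝟙 _ ∧
      x (IsLocalRing.closedPoint k) ∈ (X ↘ (Spec (CommRingCat.of k))).smoothLocus := by
  set U := (X ↘ (Spec (CommRingCat.of k))).smoothLocus with hU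
  have hd : Dense (U : Set X) := Groth.Agent.Lib.Helper6.GeomRedSm.dense_smoothLocus _
  obtain ⟨z, hz⟩ := hd.nonempty
  haveI : Smooth (Over.mk (U.ι ≫ (X ↘ (Spec (CommRingCat.of k))))).hom :=
    Groth.Agent.Lib.Helper6.GeomRedSm.smooth_smoothLocus_ι_comp _
  obtain ⟨p, -⟩ := Groth.Agent.Lib.Helper11SepPts.exists_point_mem_open k k
    (X := Over.mk (U.ι ≫ (X ↘ (Spec (CommRingCat.of k))))) ⊤ ⟨z, hz⟩ trivial
  have hp : p.left ≫ U.ι ≫ (X ↘ (Spec (CommRingCat.of k))) =
      Spec.map (CommRingCat.ofHom (algebraMap k k)) := Over.w p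
  refine ⟨p.left ≫ U.ι, ?_, ?_⟩
  · rw [Category.assoc, hp]
    have : CommRingCat.ofHom (algebraMap k k) = 𝟙 (CommRingCat.of k) := rfl
    rw [this, Spec.map_id]
  · exact (p.left (IsLocalRing.closedPoint k)).2

/-- the local ring at a point of the smooth locus of a curve is principal -/
theorem isPrincipalIdealRing_stalk_of_mem_smoothLocus [IsIntegral X] [IsLocallyNoetherian X]
    [LocallyOfFinitePresentation (X ↘ (Spec (CommRingCat.of k)))]
    (hdim : topologicalKrullDim X ≤ 1) (z : X)
    (hz : z ∈ (X ↘ (Spec (CommRingCat.of k))).smoothLocus) :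
    IsPrincipalIdealRing (X.presheaf.stalk z) := by
  set U := (X ↘ (Spec (CommRingCat.of k))).smoothLocus with hU
  haveI : Smooth (U.ι ≫ (X ↘ (Spec (CommRingCat.of k)))) :=
    Groth.Agent.Lib.Helper6.GeomRedSm.smooth_smoothLocus_ι_comp _
  let w : (U : Scheme.{u}) := ⟨z, hz⟩
  haveI := Helper16LocSym.isIntegrallyClosed_stalk_of_smooth k (U.ι ≫ (X ↘ (Spec (CommRingCat.of k)))) w
  have e : X.presheaf.stalk (U.ι w) ≃+* (U : Scheme.{u}).presheaf.stalk w :=
    (asIso (U.ι.stalkMap w)).commRingCatIsoToRingEquiv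
  haveI : IsIntegrallyClosed (X.presheaf.stalk (U.ι w)) := IsIntegrallyClosed.of_equiv e.symm
  have h : IsPrincipalIdealRing (X.presheaf.stalk (U.ι w)) :=
    isPrincipalIdealRing_of_dim_le_one _ ((Helper16LocSym.ringKrullDim_stalk_le X _).trans hdim)
  exact h

end

variable (k : Type u) [Field k] (X : Scheme.{u}) [X.Over (Spec (CommRingCat.of k))]
  [IsProper (X ↘ (Spec (CommRingCat.of k)))] [IsIntegral X]

/-- the dual of the ideal sheaf of a rational point with principal local ring is invertible of degree one -/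
theorem deg_dual_idealMod_ratPoint (hdim : topologicalKrullDim X = 1)
    (x : Spec (CommRingCat.of k) ⟶ X) (hx : x ≫ (X ↘ (Spec (CommRingCat.of k))) = 𝟙 _)
    (hpid : IsPrincipalIdealRing (X.presheaf.stalk (pt k X x))) :
    PicF.IsInvertible (RefHull.dual (ClSub.idealMod x.ker)) ∧
      Curv2.deg k X (RefHull.dual (ClSub.idealMod x.ker)) 1 = 1 := by
  have hr := (range_subschemeι_ker k X x hx).le
  have hI := isInvertible_idealMod_local k X hdim x.ker (pt k X x) hr hpid
  have hd : Curv2.deg k X (ClSub.idealMod x.ker) 1 = -1 := by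
    rw [deg_idealMod k X _ _ hr, (quotMod_ratPoint k X x hx).1]
    rfl
  refine ⟨Groth.Agent.Lib.Helper23.InvDual.isInvertible_dual _ hI, ?_⟩
  rw [Groth.Agent.Lib.Helper4.CurveHiggs.deg_dual k X hdim.le _ hI, hd]
  norm_num

/-- a curve with `H¹(O) = 0` and a rational point with principal local ring is the projective line -/
theorem exists_iso_P1_of_ratPoint (hdim : topologicalKrullDim X = 1)
    (h1 : Subsingleton (Coh.HH X (Coh.structureModule X) 1))
    (x : Spec (CommRingCat.of k) ⟶ X) (hx : x ≫ (X ↘ (Spec (CommRingCat.of k))) = 𝟙 _)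
    (hpid : IsPrincipalIdealRing (X.presheaf.stalk (pt k X x))) :
    ∃ e : X ≅ CohB1.ProjSpace 1 k, e.hom ≫ CohB1.ProjSpace.toSpec 1 k = X ↘ (Spec (CommRingCat.of k)) := by
  obtain ⟨hL, hd⟩ := deg_dual_idealMod_ratPoint k X hdim x hx hpid
  exact Groth.Agent.Lib.Helper4.P1CritG.main k X hdim h1 _ hL hd

/-- vanishing genus means vanishing `H¹(X, O_X)` -/
theorem subsingleton_h1_of_genus_eq_zero (k : Type u) [Field k] (X : Scheme.{u}) [X.Over (Spec (CommRingCat.of k))]
    [IsProper (X ↘ (Spec (CommRingCat.of k)))] (hg : Curv2.genus k X = 0) :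
    Subsingleton (Coh.HH X (Coh.structureModule X) 1) := by
  haveI : IsLocallyNoetherian X := isLocallyNoetherian_of_proper k X
  haveI : Module.Finite k (Coh.HH X (Coh.structureModule X) 1) :=
    Groth.Agent.S0002.result k X _ (isCoh_structureModule X) 1
  exact Module.finrank_zero_iff.1 hg

/-- **S7834** -/
theorem exists_iso_P1_of_sepClosed (k : Type u) [Field k] [IsSepClosed k] (X : Scheme.{u})
    [X.Over (Spec (CommRingCat.of k))] [IsProper (X ↘ (Spec (CommRingCat.of k)))]
    [GeometricallyIntegral (X ↘ (Spec (CommRingCat.of k)))]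
    (hdim : topologicalKrullDim X = 1) (hg : Curv2.genus k X = 0) :
    ∃ e : X ≅ CohB1.ProjSpace 1 k, e.hom ≫ CohB1.ProjSpace.toSpec 1 k = X ↘ (Spec (CommRingCat.of k)) := by
  haveI : IsIntegral X := GeometricallyIntegral.isIntegral_of_subsingleton (X ↘ (Spec (CommRingCat.of k)))
  haveI : IsLocallyNoetherian X := isLocallyNoetherian_of_proper k X
  haveI : LocallyOfFinitePresentation (X ↘ (Spec (CommRingCat.of k))) :=
    LocallyOfFinitePresentation.iff_locallyOfFiniteType.mpr inferInstance
  obtain ⟨x, hx, hxU⟩ := exists_smooth_ratPoint k X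
  have hpid := isPrincipalIdealRing_stalk_of_mem_smoothLocus k X hdim.le _ hxU
  exact exists_iso_P1_of_ratPoint k X hdim (subsingleton_h1_of_genus_eq_zero k X hg) x hx hpid

end Groth.Agent.Lib.Helper4.P1SepCl
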