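import Mathlib
import Groth.Prelude.Def_Coh
import Groth.Prelude.Def_CurvBase
import Groth.Agent.Lib.Helper6Stein

set_option autoImplicit false
set_option linter.style.haveILetI false
universe u
open CategoryTheory Limits AlgebraicGeometry Opposite TopologicalSpace

namespace Groth.Agent.Lib.Helper6.GammaField

/-- in an Artinian reduced ring whose idempotents are trivial, nonzero elements are units -/
theorem isUnit_of_ne_zero_of_idem {R : Type*} [CommRing R] [IsArtinianRing R] [IsReduced R]
    (hidem : ∀ e : R, e * e = e → e = 0 ∨ e = 1) (a : R) (ha : a ≠ 0) : IsUnit a := by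
  obtain ⟨n, b, hb⟩ := IsArtinian.exists_pow_succ_smul_dvd a (1 : R)
  have hn : a ^ n = a ^ (n + 1) * b := by
    simpa [smul_eq_mul] using hb.symm
  have key : ∀ k : ℕ, a ^ (n + k) * b ^ k = a ^ n := by
    intro k
    induction k with
    | zero => simp
    | succ k ih =>
      calc a ^ (n + (k + 1)) * b ^ (k + 1) = (a ^ (n + 1) * b) * (a ^ k * b ^ k) := by ring
        _ = a ^ n * (a ^ k * b ^ k) := by rw [← hn]
        _ = a ^ (n + k) * b ^ k := by ring
        _ = a ^ n := ih
  have he : (a ^ n * b ^ n) * (a ^ n * b ^ n) = a ^ n * b ^ n := by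
    calc (a ^ n * b ^ n) * (a ^ n * b ^ n) = (a ^ (n + n) * b ^ n) * b ^ n := by ring
      _ = a ^ n * b ^ n := by rw [key n]
  rcases hidem _ he with h0 | h1
  · exfalso
    apply ha
    have : a ^ n = 0 := by
      calc a ^ n = a ^ (n + n) * b ^ n := (key n).symm
        _ = a ^ n * (a ^ n * b ^ n) := by ring
        _ = 0 := by rw [h0, mul_zero]
    exact IsNilpotent.eq_zero ⟨n, this⟩
  · have : a * (a ^ n * b ^ (n + 1)) = 1 := by
      calc a * (a ^ n * b ^ (n + 1)) = (a ^ (n + 1) * b) * b ^ n := by ring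
        _ = a ^ n * b ^ n := by rw [← hn]
        _ = 1 := h1
    exact IsUnit.of_mul_eq_one _ this

/-- global idempotent functions on a connected scheme are trivial -/
theorem idem_trivial (X : Scheme.{u}) [ConnectedSpace X] (e : Γ(X, ⊤)) (he : e * e = e) :
    e = 0 ∨ e = 1 := by
  have hcompl : ((X.basicOpen e : X.Opens) : Set X)ᶜ = (X.basicOpen (1 - e) : X.Opens) := by
    ext x
    simp only [Set.mem_compl_iff, SetLike.mem_coe]
    rw [Scheme.mem_basicOpen_top, Scheme.mem_basicOpen_top]
    constructor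
    · intro h
      rw [map_sub, map_one]
      rcases IsLocalRing.isUnit_or_isUnit_one_sub_self (X.presheaf.germ ⊤ x trivial e) with h1 | h1
      · exact absurd h1 h
      · exact h1
    · intro h h'
      have hz : X.presheaf.germ ⊤ x trivial e * X.presheaf.germ ⊤ x trivial (1 - e) = 0 := by
        rw [← map_mul, mul_sub, mul_one, he, sub_self, map_zero]
      have := (h'.mul h)
      rw [hz] at this
      exact not_isUnit_zero this
  have hclopen : IsClopen ((X.basicOpen e : X.Opens) : Set X) :=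
    ⟨by rw [← isOpen_compl_iff, hcompl]; exact (X.basicOpen (1 - e)).2, (X.basicOpen e).2⟩
  have unit_eq_one : ∀ f : Γ(X, ⊤), f * f = f → IsUnit f → f = 1 := by
    intro f hf hu
    obtain ⟨u, rfl⟩ := hu
    have : (u : Γ(X, ⊤)) * (u : Γ(X, ⊤)) = (u : Γ(X, ⊤)) * 1 := by rw [hf, mul_one]
    exact u.isUnit.mul_left_cancel this
  rcases isClopen_iff.1 hclopen with h | h
  · left
    have h2 : ((X.basicOpen (1 - e) : X.Opens) : Set X) = Set.univ := by
      rw [← hcompl, h, Set.compl_empty]
    have hu : IsUnit (1 - e) := by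
      apply X.toRingedSpace.isUnit_of_isUnit_germ ⊤ (1 - e)
      intro x hx
      have hx' : x ∈ X.basicOpen (1 - e) := by
        change x ∈ ((X.basicOpen (1 - e) : X.Opens) : Set X)
        rw [h2]; trivial
      exact (Scheme.mem_basicOpen_top X (1 - e) x).1 hx'
    have h1 : 1 - e = 1 := unit_eq_one _ (by ring_nf; rw [show e ^ 2 = e * e from sq e, he]; ring) hu
    have : e = 1 - (1 - e) := by ring
    rw [this, h1, sub_self]
  · right
    have hu : IsUnit e := by
      apply X.toRingedSpace.isUnit_of_isUnit_germ ⊤ e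
      intro x hx
      have hx' : x ∈ X.basicOpen e := by
        change x ∈ ((X.basicOpen e : X.Opens) : Set X)
        rw [h]; trivial
      exact (Scheme.mem_basicOpen_top X e x).1 hx'
    exact unit_eq_one e he hu

section Main

variable (k : Type u) [Field k] (X : Scheme.{u}) [X.Over (Spec (CommRingCat.of k))]

/-- the `k`-algebra structure on global functions -/
noncomputable abbrev algΓ : Algebra k Γ(X, ⊤) :=
  ((X ↘ (Spec (CommRingCat.of k))).appTop.hom.comp
    (Scheme.ΓSpecIso (CommRingCat.of k)).inv.hom).toAlgebra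

theorem finite_Γ [IsProper (X ↘ (Spec (CommRingCat.of k)))] :
    letI := algΓ k X
    Module.Finite k Γ(X, ⊤) :=
  Groth.Agent.Lib.Helper6.Stein.finite_toGlobal k X (X ↘ (Spec (CommRingCat.of k)))

theorem isField_Γ [IsProper (X ↘ (Spec (CommRingCat.of k)))] [IsReduced X] [ConnectedSpace X] :
    IsField Γ(X, ⊤) := by
  letI := algΓ k X
  haveI : Module.Finite k Γ(X, ⊤) := finite_Γ k X
  haveI : IsArtinianRing Γ(X, ⊤) := IsArtinianRing.of_finite k _
  haveI : Nonempty (⊤ : X.Opens) := ⟨⟨Classical.arbitrary X, trivial⟩⟩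
  haveI : Nontrivial Γ(X, ⊤) := Scheme.component_nontrivial X ⊤
  refine ⟨exists_pair_ne _, mul_comm, fun {a} ha => ?_⟩
  obtain ⟨u, rfl⟩ := isUnit_of_ne_zero_of_idem (idem_trivial X) a ha
  exact ⟨↑u⁻¹, u.mul_inv⟩

/-- every cohomology group is a vector space over the field of global functions -/
theorem finrank_dvd_HH (hF : IsField Γ(X, ⊤)) (M : X.Modules) (n : ℕ) :
    letI := algΓ k X
    Module.finrank k Γ(X, ⊤) ∣ Module.finrank k (Coh.HH X M n) := by
  letI := algΓ k X
  letI : Module Γ(X, ⊤) (Coh.HH X M n) := Coh.moduleΓtop M n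
  haveI : IsScalarTower k Γ(X, ⊤) (Coh.HH X M n) := ⟨fun a r x => by
    change (algebraMap k Γ(X, ⊤) a * r) • x = algebraMap k Γ(X, ⊤) a • (r • x)
    rw [mul_smul]⟩
  haveI : Module.Free Γ(X, ⊤) (Coh.HH X M n) := by
    letI := hF.toField
    exact Module.Free.of_divisionRing _ _
  haveI : Nontrivial Γ(X, ⊤) := ⟨hF.exists_pair_ne⟩
  exact Module.finrank_dvd_finrank_right k Γ(X, ⊤) (Coh.HH X M n)

theorem dvd_finsum (w : ℤ) (f : ℕ → ℤ) (h : ∀ i, w ∣ f i) : w ∣ ∑ᶠ i, f i := by
  by_cases hf : (Function.support f).Finite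
  · rw [finsum_eq_sum_of_support_subset f (s := hf.toFinset) (by simp)]
    exact Finset.dvd_sum (fun i _ => h i)
  · rw [finsum_of_infinite_support hf]
    exact dvd_zero _

theorem dvd_euler (hF : IsField Γ(X, ⊤)) (M : X.Modules) :
    letI := algΓ k X
    (Module.finrank k Γ(X, ⊤) : ℤ) ∣ Curv2.euler k X M := by
  letI := algΓ k X
  unfold Curv2.euler
  apply dvd_finsum
  intro i
  exact Dvd.dvd.mul_left (Int.natCast_dvd_natCast.2 (finrank_dvd_HH k X hF M i)) _

theorem dvd_deg (hF : IsField Γ(X, ⊤)) (M : X.Modules) (n : ℕ) :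
    letI := algΓ k X
    (Module.finrank k Γ(X, ⊤) : ℤ) ∣ Curv2.deg k X M n := by
  letI := algΓ k X
  unfold Curv2.deg
  exact dvd_sub (dvd_euler k X hF M) (Dvd.dvd.mul_left (dvd_euler k X hF _) _)

theorem dvd_finrank_residueField (hF : IsField Γ(X, ⊤)) (x : X) :
    letI := algΓ k X
    letI := Curv2.resAlgebra k X x
    Module.finrank k Γ(X, ⊤) ∣ Module.finrank k (X.residueField x) := by
  letI := algΓ k X
  letI := Curv2.resAlgebra k X x
  letI : Algebra Γ(X, ⊤) (X.residueField x) :=
    ((X.residue x).hom.comp (X.presheaf.germ ⊤ x trivial).hom).toAlgebra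
  haveI : IsScalarTower k Γ(X, ⊤) (X.residueField x) :=
    IsScalarTower.of_algebraMap_eq (fun a => rfl)
  haveI : Module.Free Γ(X, ⊤) (X.residueField x) := by
    letI := hF.toField
    exact Module.Free.of_divisionRing _ _
  haveI : Nontrivial Γ(X, ⊤) := ⟨hF.exists_pair_ne⟩
  exact Module.finrank_dvd_finrank_right k Γ(X, ⊤) (X.residueField x)

end Main

end Groth.Agent.Lib.Helper6.GammaField
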