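import Mathlib
import Groth.Agent.Lib.Helper4IsoCoh
import Groth.Agent.Lib.Helper4P1SepCl
import Groth.Agent.Lib.Helper27PnMor3
import Groth.Agent.Lib.Helper6GammaField

/-!
# `X ≅ P^1_k` iff `X` carries an invertible module of degree one with two sections (helper4)

* `isProper_of_projective` : closed subschemes of `P^N_k` are proper over `k`
* `subsingleton_HH_of_iso_projSpace` : `H^q(X, O_X) = 0` for `q > 0` if `X ≅ P^n_k`
* `two_le_h0_of_deg_one` : on a curve with `H¹(O) = 0` an invertible module of degree one has two sections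
* `finrank_hh0_eq_one_of_deg_one` : `H⁰(O) = k` if some invertible module has degree one
* `main` : **S11573**
-/

set_option autoImplicit false
set_option linter.style.haveILetI false
set_option linter.unusedSectionVars false
universe u
open CategoryTheory CategoryTheory.Limits AlgebraicGeometry TopologicalSpace Opposite

namespace Groth.Agent.Lib.Helper4.P1Iff
open Groth.Agent.Lib.Helper4.CurveBun Groth.Agent.Lib.Helper4.DegAdd Groth.Agent.Lib.Helper4.CurveRR
  Groth.Agent.Lib.Helper4.Dev Groth.Agent.Lib.Helper4.CurvePt Groth.Agent.Lib.Helper6.H0Const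
  Groth.Agent.Lib.Helper4.NormPt Groth.Agent.Lib.Helper4.RatPoint Groth.Agent.Lib.Helper4.IsoCoh
  Groth.Agent.Lib.Helper4.P1SepCl

variable (k : Type u) [Field k] (X : Scheme.{u}) [X.Over (Spec (CommRingCat.of k))]

/-- a closed subscheme of a projective space over `k` is proper over `k` -/
theorem isProper_of_projective
    (hprojX : ∃ (N : ℕ) (i : X ⟶ CohB1.ProjSpace N k), IsClosedImmersion i ∧
      i ≫ CohB1.ProjSpace.toSpec N k = X ↘ (Spec (CommRingCat.of k))) :
    IsProper (X ↘ (Spec (CommRingCat.of k))) := by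
  obtain ⟨N, i, hi, hcomp⟩ := hprojX
  haveI := hi
  haveI := Groth.Agent.Lib.Helper27ProjSpaceFibres.isProper_projSpace_toSpec N k
  rw [← hcomp]
  infer_instance

variable [IsProper (X ↘ (Spec (CommRingCat.of k)))]

/-- `H^q(X, O_X) = 0` for `q > 0` if `X ≅ P^n_k` over `k` -/
theorem subsingleton_HH_of_iso_projSpace (n : ℕ) (e : X ≅ CohB1.ProjSpace n k)
    (he : e.hom ≫ CohB1.ProjSpace.toSpec n k = X ↘ (Spec (CommRingCat.of k))) (q : ℕ) (hq : 0 < q) :
    Subsingleton (Coh.HH X (Coh.structureModule X) q) := by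
  haveI : IsNoetherian X := isNoetherian_of_proper k X
  letI : (CohB1.ProjSpace n k).Over (Spec (CommRingCat.of k)) := ⟨CohB1.ProjSpace.toSpec n k⟩
  have hf : e.inv ≫ (X ↘ Spec (CommRingCat.of k)) = (CohB1.ProjSpace n k) ↘ Spec (CommRingCat.of k) := by
    rw [← he, Iso.inv_hom_id_assoc]
    rfl
  obtain ⟨φ⟩ := nonempty_linearEquiv_of_isIso (k := k) e.inv hf q
  haveI := subsingleton_HH_projSpace n k q hq
  exact φ.injective.subsingleton

variable [IsIntegral X]

/-- on a curve with `H¹(O) = 0`, an invertible module of degree one has at least two sections, and `H⁰(O) = k` -/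
theorem two_le_h0_of_deg_one (hdim : topologicalKrullDim X = 1)
    (h1 : Subsingleton (Coh.HH X (Coh.structureModule X) 1))
    (L : X.Modules) (hL : PicF.IsInvertible L) (hdeg : Curv2.deg k X L 1 = 1) :
    Module.finrank k (Coh.HH X (Coh.structureModule X) 0) = 1 ∧ 2 ≤ Module.finrank k (Coh.HH X L 0) := by
  have hO := Groth.Agent.Lib.Helper23.TensorUnit.isInvertible_structureModule X
  have cO := isCoh_structureModule X
  have cL := Groth.Agent.Lib.Helper6.CurveDeg.isCoh_of_isInvertible L hL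
  have eO := Groth.Agent.Lib.Helper4.CurveRR.euler_eq_h0_sub_h1 k X hdim.le _ cO
  have eL := Groth.Agent.Lib.Helper4.CurveRR.euler_eq_h0_sub_h1 k X hdim.le _ cL
  rw [Module.finrank_zero_of_subsingleton (M := Coh.HH X (Coh.structureModule X) 1)] at eO
  have hd : Curv2.euler k X L - Curv2.euler k X (Coh.structureModule X) = 1 := by
    have := hdeg
    unfold Curv2.deg at this
    push_cast at this
    linarith
  have hposL : 0 < Module.finrank k (Coh.HH X L 0) := by
    have : (0 : ℤ) < (Module.finrank k (Coh.HH X L 0) : ℤ) := by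
      have h0 := Int.natCast_nonneg (Module.finrank k (Coh.HH X (Coh.structureModule X) 0))
      have h1' := Int.natCast_nonneg (Module.finrank k (Coh.HH X L 1))
      push_cast at eO
      linarith
    exact_mod_cast this
  obtain ⟨s, hs⟩ := Groth.Agent.Lib.Helper4.CurveRR.exists_hom_ne_zero k X L hposL
  obtain ⟨hχ, -⟩ := Groth.Agent.Lib.Helper6.CurveDeg.main k X hdim _ L hO hL s hs
  have hQ : Module.finrank k (Coh.HH X (cokernel s) 0) = 1 := by
    have : (Module.finrank k (Coh.HH X (cokernel s) 0) : ℤ) = 1 := by linarith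
    exact_mod_cast this
  have h0 := Groth.Agent.Lib.Helper4.P1CritG.finrank_hh0_eq_one_of_finrank_eq_one k X (cokernel s) 0 hQ
  refine ⟨h0, ?_⟩
  have : (2 : ℤ) ≤ (Module.finrank k (Coh.HH X L 0) : ℤ) := by
    have h1' := Int.natCast_nonneg (Module.finrank k (Coh.HH X L 1))
    rw [h0] at eO
    push_cast at eO
    linarith
  exact_mod_cast this

/-- `H⁰(X, O_X) = k` if some invertible module has degree one -/
theorem finrank_hh0_eq_one_of_deg_one (L : X.Modules) (hdeg : Curv2.deg k X L 1 = 1) :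
    Module.finrank k (Coh.HH X (Coh.structureModule X) 0) = 1 := by
  have hF := Groth.Agent.Lib.Helper6.GammaField.isField_Γ k X
  have hdvd := Groth.Agent.Lib.Helper6.GammaField.dvd_deg k X hF L 1
  rw [hdeg] at hdvd
  rw [finrank_hh0]
  have h2 := Int.natCast_dvd_natCast.1 (by exact_mod_cast hdvd :
    ((@Module.finrank k Γ(X, ⊤) _ _ (Groth.Agent.Lib.Helper6.GammaField.algΓ k X).toModule : ℕ) : ℤ) ∣ ((1 : ℕ) : ℤ))
  exact Nat.dvd_one.1 h2

/-- **S11573** -/
theorem main (hdim : topologicalKrullDim X = 1) (hn : Pi1.IsNormalScheme X) :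
    (∃ e : X ≅ CohB1.ProjSpace 1 k, e.hom ≫ CohB1.ProjSpace.toSpec 1 k = X ↘ (Spec (CommRingCat.of k))) ↔
      ∃ L : X.Modules, PicF.IsInvertible L ∧ Curv2.deg k X L 1 = 1 ∧ 2 ≤ Module.finrank k (Coh.HH X L 0) := by
  haveI : IsLocallyNoetherian X := isLocallyNoetherian_of_proper k X
  constructor
  · rintro ⟨e, he⟩
    obtain ⟨p, hp⟩ := Groth.Agent.Lib.Helper27PnMor.exists_section 1 k
    have hx : (p ≫ e.inv) ≫ (X ↘ (Spec (CommRingCat.of k))) = 𝟙 _ := by
      rw [Category.assoc, ← he, Iso.inv_hom_id_assoc, hp]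
    have hpid : IsPrincipalIdealRing (X.presheaf.stalk (pt k X (p ≫ e.inv))) := by
      haveI := (hn (pt k X (p ≫ e.inv))).2
      exact isPrincipalIdealRing_of_dim_le_one _ ((Helper16LocSym.ringKrullDim_stalk_le X _).trans hdim.le)
    obtain ⟨hL, hd⟩ := deg_dual_idealMod_ratPoint k X hdim _ hx hpid
    have h1 := subsingleton_HH_of_iso_projSpace k X 1 e he 1 Nat.one_pos
    exact ⟨_, hL, hd, (two_le_h0_of_deg_one k X hdim h1 _ hL hd).2⟩
  · rintro ⟨L, hL, hdeg, hh0⟩
    exact Groth.Agent.Lib.Helper4.P1CritF.exists_iso_P1_of_h0 k X hdim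
      (finrank_hh0_eq_one_of_deg_one k X L hdeg) L hL hdeg hh0

end Groth.Agent.Lib.Helper4.P1Iff
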