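import Mathlib
import Groth.Agent.Lib.Helper4GenusZeroSm
import Groth.Agent.Lib.Helper6DegBC
import Groth.Agent.Lib.Helper6EquiDim2
import Groth.Agent.Lib.Helper20SmoothDescSch
import Groth.Agent.Lib.Helper4CurveDegSec
import Groth.Agent.Lib.Helper4CurveRR
import Groth.Agent.Lib.Helper4CurveBun2
import Groth.Agent.Lib.Helper4P1Iff

/-!
# Geometrically integral projective curves of arithmetic genus `≤ 0` are smooth conics (helper4)

* `smooth_of_smooth_bc` : smoothness over a field descends along extensions of the base field
* `euler_bc_structureModule`, `topologicalKrullDim_bc` : invariance of `χ(O)` and of the dimension under base field extension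
* `smooth_of_one_le_euler` : a geometrically integral proper curve with `χ(O) ≥ 1` is smooth
* `main` : **S11575**
-/

set_option autoImplicit false
set_option linter.style.haveILetI false
set_option linter.unusedSectionVars false
universe u
open CategoryTheory CategoryTheory.Limits AlgebraicGeometry TopologicalSpace Opposite

namespace Groth.Agent.Lib.Helper4.ConicSm
open Groth.Agent.Lib.Helper4.CurveRR Groth.Agent.Lib.Helper4.Dev Groth.Agent.Lib.Helper4.CurveBun

theorem topologicalKrullDim_univ (T : Type*) [TopologicalSpace T] :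
    topologicalKrullDim (Set.univ : Set T) = topologicalKrullDim T :=
  IsHomeomorph.topologicalKrullDim_eq _ (Homeomorph.Set.univ T).isHomeomorph

instance surjective_specMap_field (k K : Type u) [Field k] [Field K] [Algebra k K] :
    Surjective (Spec.map (CommRingCat.ofHom (algebraMap k K))) := by
  haveI : Subsingleton (Spec (CommRingCat.of k)) := inferInstanceAs (Subsingleton (PrimeSpectrum k))
  exact ⟨fun y => ⟨IsLocalRing.closedPoint K, Subsingleton.elim _ _⟩⟩

variable (k : Type u) [Field k] (X : Scheme.{u}) [X.Over (Spec (CommRingCat.of k))]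

/-- smoothness over a field descends along extensions of the base field -/
theorem smooth_of_smooth_bc [LocallyOfFinitePresentation (X ↘ (Spec (CommRingCat.of k)))]
    (K : Type u) [Field K] [Algebra k K] (h : Smooth (Curv2.bcSnd k X K)) :
    Smooth (X ↘ (Spec (CommRingCat.of k))) := by
  rw [← Scheme.Hom.smoothLocus_eq_top_iff]
  ext x
  simp only [Opens.coe_top, Set.mem_univ, iff_true, SetLike.mem_coe]
  haveI : Flat (Spec.map (CommRingCat.ofHom (algebraMap k K))) :=
    Groth.Agent.Lib.Helper6.H0Const.flat_specMap_field k K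
  obtain ⟨w, rfl⟩ := (Curv2.bcFst k X K).surjective x
  apply Groth.Agent.Lib.Helper20.FlatDesc.formallySmooth_stalkMap_of_flat_baseChange
    (X ↘ (Spec (CommRingCat.of k))) (Spec.map (CommRingCat.ofHom (algebraMap k K))) w
  have hw : w ∈ (Curv2.bcSnd k X K).smoothLocus := by
    rw [Scheme.Hom.smoothLocus_eq_top]
    trivial
  exact hw

variable [IsProper (X ↘ (Spec (CommRingCat.of k)))] [GeometricallyIntegral (X ↘ (Spec (CommRingCat.of k)))]

/-- the Euler characteristic of the structure sheaf is invariant under extension of the base field -/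
theorem euler_bc_structureModule (K : Type u) [Field K] [Algebra k K] :
    @Curv2.euler K _ (Curv2.bc k X K) ⟨Curv2.bcSnd k X K⟩ (Coh.structureModule (Curv2.bc k X K)) =
      Curv2.euler k X (Coh.structureModule X) := by
  letI : (Curv2.bc k X K).Over (Spec (CommRingCat.of K)) := ⟨Curv2.bcSnd k X K⟩
  haveI : Coh.IsQCoh (Coh.structureModule X) :=
    Groth.Agent.Lib.Helper4.Dev.isQuasicoherent_structureModule X
  rw [← Groth.Agent.Lib.Helper6.DegBC.euler_bc k X K (Coh.structureModule X),
    Groth.Agent.Lib.Helper6.DegBC.euler_of_iso K (Curv2.bc k X K)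
      (Groth.Agent.Lib.Helper23.PB.pullbackUnitIso (Curv2.bcFst k X K))]

/-- the dimension of a geometrically integral scheme is invariant under extension of the base field -/
theorem topologicalKrullDim_bc (K : Type u) [Field K] [Algebra k K] :
    topologicalKrullDim (Curv2.bc k X K) = topologicalKrullDim X := by
  haveI : Subsingleton (Spec (CommRingCat.of k)) := inferInstanceAs (Subsingleton (PrimeSpectrum k))
  haveI : Subsingleton (Spec (CommRingCat.of K)) := inferInstanceAs (Subsingleton (PrimeSpectrum K))
  haveI : IsIntegral X := GeometricallyIntegral.isIntegral_of_subsingleton (X ↘ (Spec (CommRingCat.of k)))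
  haveI : GeometricallyIntegral (Curv2.bcSnd k X K) :=
    inferInstanceAs (GeometricallyIntegral (pullback.snd _ _))
  haveI : IsIntegral (Curv2.bc k X K) :=
    GeometricallyIntegral.isIntegral_of_subsingleton (Curv2.bcSnd k X K)
  have h := Groth.Agent.Lib.Helper6.EquiDim.image_topologicalKrullDim_irreducibleComponents k X K
  rw [irreducibleComponents_eq_singleton, irreducibleComponents_eq_singleton, Set.image_singleton,
    Set.image_singleton, Set.singleton_eq_singleton_iff] at h
  rw [← topologicalKrullDim_univ, ← topologicalKrullDim_univ X]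
  exact h

/-- **a geometrically integral proper curve of arithmetic genus `≤ 0` is smooth** -/
theorem smooth_of_one_le_euler (hdim : topologicalKrullDim X = 1)
    (hχ : 1 ≤ Curv2.euler k X (Coh.structureModule X)) :
    Smooth (X ↘ (Spec (CommRingCat.of k))) := by
  haveI : IsLocallyNoetherian X := isLocallyNoetherian_of_proper k X
  haveI : LocallyOfFinitePresentation (X ↘ (Spec (CommRingCat.of k))) :=
    LocallyOfFinitePresentation.iff_locallyOfFiniteType.mpr inferInstance
  let K := AlgebraicClosure k
  apply smooth_of_smooth_bc k X K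
  letI : (Curv2.bc k X K).Over (Spec (CommRingCat.of K)) := ⟨Curv2.bcSnd k X K⟩
  haveI : Subsingleton (Spec (CommRingCat.of K)) := inferInstanceAs (Subsingleton (PrimeSpectrum K))
  haveI : IsProper ((Curv2.bc k X K) ↘ (Spec (CommRingCat.of K))) :=
    inferInstanceAs (IsProper (pullback.snd _ _))
  haveI : GeometricallyIntegral ((Curv2.bc k X K) ↘ (Spec (CommRingCat.of K))) :=
    inferInstanceAs (GeometricallyIntegral (pullback.snd _ _))
  haveI : IsIntegral (Curv2.bc k X K) :=
    GeometricallyIntegral.isIntegral_of_subsingleton ((Curv2.bc k X K) ↘ (Spec (CommRingCat.of K)))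
  have hdimY : topologicalKrullDim (Curv2.bc k X K) = 1 := by rw [topologicalKrullDim_bc, hdim]
  have hχY : 1 ≤ Curv2.euler K (Curv2.bc k X K) (Coh.structureModule (Curv2.bc k X K)) := by
    rw [euler_bc_structureModule k X K]
    exact hχ
  haveI : IsLocallyNoetherian (Curv2.bc k X K) := isLocallyNoetherian_of_proper K _
  have h0 := Groth.Agent.Lib.Helper4.CurveDegSec.finrank_hh0_eq_one_of_isAlgClosed K (Curv2.bc k X K)
  have e := euler_eq_h0_sub_h1 K (Curv2.bc k X K) hdimY.le _ (isCoh_structureModule _)
  have hg : Curv2.genus K (Curv2.bc k X K) = 0 := by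
    unfold Curv2.genus
    rw [e, h0] at hχY
    have h1' := Int.natCast_nonneg (Module.finrank K (Coh.HH (Curv2.bc k X K)
      (Coh.structureModule (Curv2.bc k X K)) 1))
    have : (Module.finrank K (Coh.HH (Curv2.bc k X K)
      (Coh.structureModule (Curv2.bc k X K)) 1) : ℤ) = 0 := by
      push_cast at hχY
      linarith
    exact_mod_cast this
  exact Groth.Agent.Lib.Helper4.GenusZeroSm.main K (Curv2.bc k X K) hdimY hg

open Groth.Agent.Lib.Helper4.RatPoint in
/-- **S11575** -/
theorem main (hdim : topologicalKrullDim X = 1)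
    (hpa : 1 - Curv2.euler k X (Coh.structureModule X) ≤ 0) :
    Smooth (X ↘ (Spec (CommRingCat.of k))) ∧
      ((∃ e : X ≅ CohB1.ProjSpace 1 k, e.hom ≫ CohB1.ProjSpace.toSpec 1 k = X ↘ (Spec (CommRingCat.of k))) ↔
        ∃ s : Spec (CommRingCat.of k) ⟶ X, s ≫ (X ↘ (Spec (CommRingCat.of k))) = 𝟙 _) := by
  have hχ : 1 ≤ Curv2.euler k X (Coh.structureModule X) := by linarith
  have hsm := smooth_of_one_le_euler k X hdim hχ
  refine ⟨hsm, ⟨?_, ?_⟩⟩
  · rintro ⟨e, he⟩
    obtain ⟨p, hp⟩ := Groth.Agent.Lib.Helper27PnMor.exists_section 1 k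
    exact ⟨p ≫ e.inv, by rw [Category.assoc, ← he, Iso.inv_hom_id_assoc, hp]⟩
  · rintro ⟨s, hs⟩
    haveI : Subsingleton (Spec (CommRingCat.of k)) := inferInstanceAs (Subsingleton (PrimeSpectrum k))
    haveI : IsIntegral X := GeometricallyIntegral.isIntegral_of_subsingleton (X ↘ (Spec (CommRingCat.of k)))
    haveI : IsLocallyNoetherian X := isLocallyNoetherian_of_proper k X
    haveI := hsm
    have hpid := pidStalks_of_smooth k X (X ↘ (Spec (CommRingCat.of k))) hdim.le (pt k X s)
    have h0 := Groth.Agent.Lib.Helper4.P1CritG.finrank_hh0_eq_one_of_finrank_eq_one k X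
      (ClSub.quotMod s.ker) 0 (quotMod_ratPoint k X s hs).1
    have e := euler_eq_h0_sub_h1 k X hdim.le _ (isCoh_structureModule X)
    have hg : Curv2.genus k X = 0 := by
      unfold Curv2.genus
      rw [e, h0] at hχ
      have h1' := Int.natCast_nonneg (Module.finrank k (Coh.HH X (Coh.structureModule X) 1))
      have : (Module.finrank k (Coh.HH X (Coh.structureModule X) 1) : ℤ) = 0 := by
        push_cast at hχ
        linarith
      exact_mod_cast this
    exact Groth.Agent.Lib.Helper4.P1SepCl.exists_iso_P1_of_ratPoint k X hdim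
      (Groth.Agent.Lib.Helper4.P1SepCl.subsingleton_h1_of_genus_eq_zero k X hg) s hs hpid

end Groth.Agent.Lib.Helper4.ConicSm
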