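import Groth.Prelude.Def_Dyn
import Groth.Prelude.Def_LieHopf
import Mathlib

/-! Convolution of points of an affine group in Hopf form: helper lemmas (helper4). -/
set_option autoImplicit false
universe u
open TensorProduct WithConv

namespace Groth.Agent.Lib.Helper4

variable (k : Type u) [CommRing k] (A : Type u) [CommRing A] [HopfAlgebra k A]

/-- binary convolution of points -/
noncomputable def conv2 {C : Type u} [CommRing C] [Algebra k C] (f g : A →ₐ[k] C) : A →ₐ[k] C :=
  ((Algebra.TensorProduct.lmul' (S := C) k).comp (Algebra.TensorProduct.map f g)).comp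
    (Bialgebra.comulAlgHom k A)

theorem sum_counit_smul_left {ι : Type*} (a : A) (𝓡 : Coalgebra.Repr k a ι) :
    ∑ i ∈ 𝓡.index, (Bialgebra.counitAlgHom k A (𝓡.right i)) • 𝓡.left i = a := by
  have h3 := Coalgebra.sum_tmul_counit_eq 𝓡
  have := congrArg (TensorProduct.rid k A) h3
  rw [map_sum] at this
  simp only [TensorProduct.rid_tmul, one_smul] at this
  exact this

theorem sum_counit_smul_right {ι : Type*} (a : A) (𝓡 : Coalgebra.Repr k a ι) :
    ∑ i ∈ 𝓡.index, (Bialgebra.counitAlgHom k A (𝓡.left i)) • 𝓡.right i = a := by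
  exact Coalgebra.sum_counit_smul 𝓡

/-- conv3 with the unit point in third position is the binary convolution. -/
theorem conv3_unit {C : Type u} [CommRing C] [Algebra k C] (f g : A →ₐ[k] C) (a : A) :
    Dyn.conv3 k A f g ((Algebra.ofId k C).comp (Bialgebra.counitAlgHom k A)) a = conv2 k A f g a := by
  let 𝓡 := Coalgebra.Repr.arbitrary k a
  have h1 : Bialgebra.comulAlgHom k A a = ∑ i ∈ 𝓡.index, 𝓡.left i ⊗ₜ[k] 𝓡.right i := 𝓡.eq.symm
  have hL : Dyn.conv3 k A f g ((Algebra.ofId k C).comp (Bialgebra.counitAlgHom k A)) a =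
      ∑ i ∈ 𝓡.index, conv2 k A f g (𝓡.left i) * algebraMap k C (Bialgebra.counitAlgHom k A (𝓡.right i)) := by
    unfold Dyn.conv3
    simp only [AlgHom.comp_apply]
    rw [h1]
    simp only [map_sum, Algebra.TensorProduct.map_tmul, AlgHom.comp_apply,
      Algebra.TensorProduct.lmul'_apply_tmul, AlgHom.id_apply, Algebra.ofId_apply]
    rfl
  rw [hL]
  have h2 : ∀ i ∈ 𝓡.index, conv2 k A f g (𝓡.left i) * algebraMap k C (Bialgebra.counitAlgHom k A (𝓡.right i)) =
      conv2 k A f g ((Bialgebra.counitAlgHom k A (𝓡.right i)) • 𝓡.left i) := by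
    intro i _
    rw [map_smul, Algebra.smul_def, mul_comm]
  rw [Finset.sum_congr rfl h2, ← map_sum, sum_counit_smul_left]

theorem conv2_apply {C : Type u} [CommRing C] [Algebra k C] (f g : A →ₐ[k] C) {ι : Type*} (a : A)
    (𝓡 : Coalgebra.Repr k a ι) :
    conv2 k A f g a = ∑ i ∈ 𝓡.index, f (𝓡.left i) * g (𝓡.right i) := by
  have h1 : Bialgebra.comulAlgHom k A a = ∑ i ∈ 𝓡.index, 𝓡.left i ⊗ₜ[k] 𝓡.right i := 𝓡.eq.symm
  unfold conv2
  simp only [AlgHom.comp_apply]
  rw [h1]
  simp only [map_sum, Algebra.TensorProduct.map_tmul, Algebra.TensorProduct.lmul'_apply_tmul]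


/-- conv3 is the triple product in the convolution monoid of algebra maps. -/
theorem conv3_eq_mul {C : Type u} [CommRing C] [Algebra k C] (f g h : A →ₐ[k] C) :
    Dyn.conv3 k A f g h = ofConv (toConv f * toConv g * toConv h) := by
  unfold Dyn.conv3
  simp only [AlgHom.convMul_def, ofConv_toConv]
  rw [show Algebra.TensorProduct.map
      ((Algebra.TensorProduct.lmul' (S := C) k).comp ((Algebra.TensorProduct.map f g).comp (Bialgebra.comulAlgHom k A))) h =
      (Algebra.TensorProduct.map ((Algebra.TensorProduct.lmul' (S := C) k).comp (Algebra.TensorProduct.map f g)) h).comp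
        (Algebra.TensorProduct.map (Bialgebra.comulAlgHom k A) (AlgHom.id k A)) by
    rw [← Algebra.TensorProduct.map_comp, AlgHom.comp_id, AlgHom.comp_assoc]]
  rfl

variable {k A}
variable {R : Type u} [CommRing R] [Algebra k R]

/-- the monoid hom from the convolution monoid of algebra maps to the convolution ring of linear maps -/
noncomputable def toLin : WithConv (A →ₐ[k] R) →* WithConv (A →ₗ[k] R) where
  toFun f := toConv f.ofConv.toLinearMap
  map_one' := AlgHom.toLinearMap_convOne
  map_mul' f g := AlgHom.toLinearMap_convMul f g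

/-- the element of the convolution ring attached to a k-linear form on A -/
noncomputable def ofForm (D : A →ₗ[k] k) : WithConv (A →ₗ[k] R) :=
  toConv ((Algebra.linearMap k R) ∘ₗ D)

theorem ofForm_mul (D E : A →ₗ[k] k) :
    (ofForm D : WithConv (A →ₗ[k] R)) * ofForm E = ofForm (LieHopf.conv D E) := by
  have := LinearMap.algHom_comp_convMul_distrib (R := k) (C := A) (Algebra.ofId k R) (toConv D) (toConv E)
  apply WithConv.ofConv_injective
  exact this.symm

theorem toLin_ptOfLie (D : LieHopf.Lie k A) (t : R) (ht : t * t = 0) :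
    toLin (toConv (LieHopf.ptOfLie D R t ht)) = 1 + t • (ofForm (LieHopf.dlin D) : WithConv (A →ₗ[k] R)) := by
  apply WithConv.ext
  ext a
  show algebraMap k R (Bialgebra.counitAlgHom k A a) + algebraMap k R (LieHopf.dlin D a) * t = _
  simp [ofForm, mul_comm]

theorem toLin_inv_ptOfLie (D : LieHopf.Lie k A) (t : R) (ht : t * t = 0) :
    toLin (toConv ((LieHopf.ptOfLie D R t ht).comp (HopfAlgebra.antipodeAlgHom k A))) =
      1 - t • (ofForm (LieHopf.dlin D) : WithConv (A →ₗ[k] R)) := by
  have h1 : toLin (toConv ((LieHopf.ptOfLie D R t ht).comp (HopfAlgebra.antipodeAlgHom k A))) *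
      toLin (toConv (LieHopf.ptOfLie D R t ht)) = 1 := by
    apply WithConv.ext
    ext a
    rw [(Coalgebra.Repr.arbitrary k a).convMul_apply]
    show ∑ i ∈ (Coalgebra.Repr.arbitrary k a).index,
      (LieHopf.ptOfLie D R t ht) (HopfAlgebra.antipode k ((Coalgebra.Repr.arbitrary k a).left i)) *
        (LieHopf.ptOfLie D R t ht) ((Coalgebra.Repr.arbitrary k a).right i) = _
    simp_rw [← map_mul]
    rw [← map_sum, HopfAlgebra.sum_antipode_mul_eq_algebraMap_counit]
    simp
  have h2 : toLin (toConv (LieHopf.ptOfLie D R t ht)) *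
      (1 - t • (ofForm (LieHopf.dlin D) : WithConv (A →ₗ[k] R))) = 1 := by
    rw [toLin_ptOfLie]
    set d : WithConv (A →ₗ[k] R) := ofForm (LieHopf.dlin D)
    have : (t • d) * (t • d) = 0 := by
      rw [smul_mul_smul_comm, ht, zero_smul]
    generalize t • d = u at this ⊢
    calc (1 + u) * (1 - u) = 1 - u * u := by noncomm_ring
      _ = 1 := by rw [this, sub_zero]
  exact left_inv_eq_right_inv h1 h2


end Groth.Agent.Lib.Helper4
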