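import Groth.Agent.Lib.Helper4Japanese3
import Mathlib.RingTheory.AlgebraicIndependent.TranscendenceBasis
import Mathlib.RingTheory.AlgebraicIndependent.Transcendental
import Mathlib.FieldTheory.IntermediateField.Adjoin.Algebra
import Mathlib.RingTheory.EssentialFiniteness
import Mathlib.RingTheory.Localization.Integral
import Mathlib.RingTheory.DedekindDomain.IntegralClosure
import Mathlib.RingTheory.Localization.Away.Basic
import Mathlib.RingTheory.Polynomial.Basic

/-!
# The two Dedekind charts of a function field of transcendence degree one (helper4)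

For a finitely generated field extension `K / k` of transcendence degree one and a transcendental
`s ∈ K`, the integral closure `A_s` of `k[s]` in `K` is a Dedekind domain of finite type over `k`,
not a field, with fraction field `K` (`finite_chart`, `finiteType_chart`, `isFractionRing_chart`,
`isDedekindDomain_chart`, `not_isField_chart`), integral over the subring generated by `k` and `s`
(`isIntegral_closure`); and the integral closure of `k[s, s⁻¹]` is the localization of `A_s` away
from `s` (`isLocalization_away_icMap`, `exists_pow_mul_mem`).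
-/

set_option autoImplicit false
set_option linter.style.haveILetI false
set_option linter.unusedSectionVars false
universe u

open Groth CAlg Groth.Agent.Lib.Helper4.Japanese Groth.Agent.Lib.Helper14

namespace Groth.Agent.Lib.Helper4.CurveAlg

/-- A criterion for an injective map of rings to be a localization away from an element. -/
theorem isLocalization_away_of_injective {P Q : Type*} [CommRing P] [CommRing Q] [Algebra P Q]
    (hinj : Function.Injective (algebraMap P Q)) (x : P) (hx : IsUnit (algebraMap P Q x))
    (hsurj : ∀ q : Q, ∃ (n : ℕ) (p : P), algebraMap P Q x ^ n * q = algebraMap P Q p) :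
    IsLocalization.Away x Q := by
  refine ⟨⟨?_, ?_, ?_⟩⟩
  · rintro ⟨_, n, rfl⟩
    rw [map_pow]
    exact hx.pow n
  · intro q
    obtain ⟨n, p, h⟩ := hsurj q
    refine ⟨⟨p, ⟨x ^ n, n, rfl⟩⟩, ?_⟩
    simp only [map_pow]
    rw [mul_comm, h]
  · intro a b hab
    exact ⟨1, by rw [hinj hab]⟩

variable {k K : Type u} [Field k] [Field K] [Algebra k K]

lemma exists_transcendental (htr : Algebra.trdeg k K = 1) : ∃ t : K, Transcendental k t := by
  have h : Algebra.trdeg k K ≠ 0 := by rw [htr]; exact one_ne_zero
  rw [trdeg_ne_zero_iff] at h
  exact h.transcendental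

lemma isAlgebraic_adjoin (htr : Algebra.trdeg k K = 1) (s : K) (hs : Transcendental k s) :
    Algebra.IsAlgebraic (Algebra.adjoin k {s}) K := by
  have hx : AlgebraicIndependent k (fun _ : PUnit.{u+1} => s) :=
    algebraicIndependent_unique_type_iff.mpr hs
  have hb := AlgebraicIndependent.isTranscendenceBasis_of_trdeg_le_of_finite hx (by rw [htr]; simp)
  have := hb.isAlgebraic
  rwa [Set.range_const] at this

open scoped IntermediateField.algebraAdjoinAdjoin in
lemma finite_adjoin (hfg : (⊤ : IntermediateField k K).FG) (htr : Algebra.trdeg k K = 1)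
    (s : K) (hs : Transcendental k s) :
    Module.Finite (IntermediateField.adjoin k {s}) K := by
  haveI : Algebra.EssFiniteType k K := IntermediateField.fg_top_iff.mp hfg
  haveI : Algebra.EssFiniteType (IntermediateField.adjoin k {s}) K :=
    Algebra.EssFiniteType.of_comp k _ K
  haveI := isAlgebraic_adjoin htr s hs
  haveI : Algebra.IsAlgebraic (IntermediateField.adjoin k {s}) K :=
    Algebra.IsAlgebraic.extendScalars (R := Algebra.adjoin k {s})
      (Subalgebra.inclusion_injective (IntermediateField.algebra_adjoin_le_adjoin k {s}))
  exact Algebra.finite_of_essFiniteType_of_isAlgebraic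

open scoped IntermediateField.algebraAdjoinAdjoin in
lemma finite_chart (hfg : (⊤ : IntermediateField k K).FG) (htr : Algebra.trdeg k K = 1)
    (s : K) (hs : Transcendental k s) :
    Module.Finite (Algebra.adjoin k {s}) (integralClosure (Algebra.adjoin k {s}) K) := by
  haveI := finite_adjoin hfg htr s hs
  haveI : Algebra.FiniteType k (Algebra.adjoin k {s}) :=
    Algebra.FiniteType.adjoin_of_finite (Set.finite_singleton s)
  exact IsN2.finite (isN2_of_finiteType_field k (Algebra.adjoin k {s}))
    (IntermediateField.adjoin k {s}) K

section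
variable (hfg : (⊤ : IntermediateField k K).FG) (htr : Algebra.trdeg k K = 1)
    (s : K) (hs : Transcendental k s)
include hfg htr hs

lemma finiteType_chart : Algebra.FiniteType k (integralClosure (Algebra.adjoin k {s}) K) := by
  haveI := finite_chart hfg htr s hs
  haveI : Algebra.FiniteType k (Algebra.adjoin k {s}) :=
    Algebra.FiniteType.adjoin_of_finite (Set.finite_singleton s)
  exact Algebra.FiniteType.trans (S := Algebra.adjoin k {s}) inferInstance inferInstance

lemma isNoetherianRing_chart : IsNoetherianRing (integralClosure (Algebra.adjoin k {s}) K) := by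
  haveI := finite_chart hfg htr s hs
  haveI : Algebra.FiniteType k (Algebra.adjoin k {s}) :=
    Algebra.FiniteType.adjoin_of_finite (Set.finite_singleton s)
  haveI : IsNoetherianRing (Algebra.adjoin k {s}) := Algebra.FiniteType.isNoetherianRing k _
  exact isNoetherian_of_tower (Algebra.adjoin k {s}) inferInstance

lemma isFractionRing_chart : IsFractionRing (integralClosure (Algebra.adjoin k {s}) K) K := by
  haveI := isAlgebraic_adjoin htr s hs
  exact integralClosure.isFractionRing_of_algebraic (A := Algebra.adjoin k {s}) (L := K)
    (fun x hx => by simpa using hx)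

lemma isIntegrallyClosed_chart : IsIntegrallyClosed (integralClosure (Algebra.adjoin k {s}) K) := by
  haveI := isFractionRing_chart hfg htr s hs
  exact (isIntegrallyClosed_iff_isIntegralClosure K).mpr inferInstance

lemma isPrincipalIdealRing_adjoin : IsPrincipalIdealRing (Algebra.adjoin k {s}) :=
  IsPrincipalIdealRing.of_surjective
    (Polynomial.algEquivOfTranscendental k s hs).toRingEquiv.toRingHom
    (Polynomial.algEquivOfTranscendental k s hs).surjective

lemma not_isField_adjoin : ¬ IsField (Algebra.adjoin k {s}) := fun h =>
  Polynomial.not_isField k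
    (MulEquiv.isField h (Polynomial.algEquivOfTranscendental k s hs).toMulEquiv)

lemma dimensionLEOne_chart : Ring.DimensionLEOne (integralClosure (Algebra.adjoin k {s}) K) := by
  haveI := isPrincipalIdealRing_adjoin hfg htr s hs
  infer_instance

lemma isDedekindDomain_chart : IsDedekindDomain (integralClosure (Algebra.adjoin k {s}) K) := by
  haveI := isNoetherianRing_chart hfg htr s hs
  haveI := dimensionLEOne_chart hfg htr s hs
  haveI := isIntegrallyClosed_chart hfg htr s hs
  exact { }

lemma not_isField_chart : ¬ IsField (integralClosure (Algebra.adjoin k {s}) K) := fun h =>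
  not_isField_adjoin hfg htr s hs
    (isField_of_isIntegral_of_isField (S := integralClosure (Algebra.adjoin k {s}) K)
      (fun _ _ hxy => Subtype.ext
        (congrArg (fun z : integralClosure (Algebra.adjoin k {s}) K => (z : K)) hxy)) h)

end

/-- every element of `k[s, s']`, `s s' = 1`, becomes an element of `k[s]` after multiplication with
a power of `s`. -/
lemma exists_pow_mul_mem (s s' : K) (hss' : s * s' = 1) (q : K)
    (hq : q ∈ Algebra.adjoin k {s, s'}) :
    ∃ n : ℕ, s ^ n * q ∈ Algebra.adjoin k {s} := by
  induction hq using Algebra.adjoin_induction with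
  | mem x hx =>
    rcases hx with rfl | rfl
    · exact ⟨0, by simpa using Algebra.self_mem_adjoin_singleton k x⟩
    · exact ⟨1, by rw [pow_one, hss']; exact one_mem _⟩
  | algebraMap c => exact ⟨0, by simpa using Subalgebra.algebraMap_mem _ c⟩
  | add x y _ _ hx hy =>
    obtain ⟨n, hn⟩ := hx
    obtain ⟨m, hm⟩ := hy
    refine ⟨n + m, ?_⟩
    have : s ^ (n + m) * (x + y) = s ^ m * (s ^ n * x) + s ^ n * (s ^ m * y) := by ring
    rw [this]
    exact add_mem (mul_mem (pow_mem (Algebra.self_mem_adjoin_singleton k s) m) hn)
      (mul_mem (pow_mem (Algebra.self_mem_adjoin_singleton k s) n) hm)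
  | mul x y _ _ hx hy =>
    obtain ⟨n, hn⟩ := hx
    obtain ⟨m, hm⟩ := hy
    refine ⟨n + m, ?_⟩
    have : s ^ (n + m) * (x * y) = (s ^ n * x) * (s ^ m * y) := by ring
    rw [this]
    exact mul_mem hn hm

/-- the ring map between integral closures induced by an inclusion of subalgebras. -/
noncomputable def icMap {P Q : Subalgebra k K} (h : P ≤ Q) :
    integralClosure P K →+* integralClosure Q K :=
  (algebraMap (integralClosure P K) K).codRestrict (integralClosure Q K) (fun a => by
    letI : Algebra P Q := (Subalgebra.inclusion h).toRingHom.toAlgebra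
    haveI : IsScalarTower P Q K := IsScalarTower.of_algebraMap_eq (fun x => rfl)
    exact IsIntegral.tower_top (A := Q) a.2)

lemma coe_icMap {P Q : Subalgebra k K} (h : P ≤ Q) (a : integralClosure P K) :
    ((icMap h a : integralClosure Q K) : K) = (a : K) := rfl

lemma icMap_algebraMap {P Q : Subalgebra k K} (h : P ≤ Q) (c : k) :
    icMap h (algebraMap k _ c) = algebraMap k _ c :=
  Subtype.ext (by rw [coe_icMap, Subalgebra.coe_algebraMap, Subalgebra.coe_algebraMap])

lemma icMap_comp_algebraMap {P P' Q : Subalgebra k K} (h : P ≤ Q) (h' : P' ≤ Q) :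
    (icMap h).comp (algebraMap k _) = (icMap h').comp (algebraMap k _) := by
  ext c
  rw [RingHom.comp_apply, RingHom.comp_apply, icMap_algebraMap, icMap_algebraMap]

lemma icMap_mul_eq_one {P P' Q : Subalgebra k K} (h : P ≤ Q) (h' : P' ≤ Q)
    (a : integralClosure P K) (b : integralClosure P' K) (hab : (a : K) * (b : K) = 1) :
    icMap h a * icMap h' b = 1 :=
  Subtype.ext (by rw [Subalgebra.coe_mul, coe_icMap, coe_icMap, hab, Subalgebra.coe_one])

theorem isFractionRing_toAlgebra {A : Type*} [CommRing A] {L : Type*} [CommRing L] [Algebra A L]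
    [IsFractionRing A L] : @IsFractionRing A _ L _ (algebraMap A L).toAlgebra := by
  have : (algebraMap A L).toAlgebra = (inferInstance : Algebra A L) :=
      Algebra.algebra_ext _ _ (fun _ => rfl)
  rw [this]
  infer_instance

lemma isLocalization_away_inclusion {P Q : Subalgebra k K} (h : P ≤ Q) (x : P) (hx0 : (x : K) ≠ 0)
    (hinv : (x : K)⁻¹ ∈ Q) (hpow : ∀ q ∈ Q, ∃ n : ℕ, (x : K) ^ n * q ∈ P) :
    @IsLocalization.Away P _ x Q _ (Subalgebra.inclusion h).toRingHom.toAlgebra := by
  letI : Algebra P Q := (Subalgebra.inclusion h).toRingHom.toAlgebra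
  have halg : ∀ y : P, ((algebraMap P Q y : Q) : K) = (y : K) := fun y => rfl
  have hinj : Function.Injective (algebraMap P Q) := by
    intro a b hab
    have := congrArg (fun z : Q => (z : K)) hab
    simp only [halg] at this
    exact Subtype.ext this
  refine isLocalization_away_of_injective hinj x ?_ ?_
  · have h1 : algebraMap P Q x * ⟨(x : K)⁻¹, hinv⟩ = 1 := by
      apply Subtype.ext
      rw [Subalgebra.coe_mul, halg, Subalgebra.coe_one]
      exact mul_inv_cancel₀ hx0
    exact IsUnit.of_mul_eq_one _ h1
  · rintro ⟨q, hq⟩
    obtain ⟨n, hn⟩ := hpow q hq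
    refine ⟨n, ⟨_, hn⟩, ?_⟩
    apply Subtype.ext
    rw [Subalgebra.coe_mul, Subalgebra.coe_pow, halg, halg]

/-- The integral closure of `Q = P[1/x]` is the localization of the integral closure of `P` away
from `x`. -/
theorem isLocalization_away_icMap {P Q : Subalgebra k K} (h : P ≤ Q) (x : P) (hx0 : (x : K) ≠ 0)
    (hinv : (x : K)⁻¹ ∈ Q) (hpow : ∀ q ∈ Q, ∃ n : ℕ, (x : K) ^ n * q ∈ P) :
    @IsLocalization.Away _ _ (algebraMap P (integralClosure P K) x) (integralClosure Q K) _
      (icMap h).toAlgebra := by
  letI : Algebra P Q := (Subalgebra.inclusion h).toRingHom.toAlgebra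
  haveI : IsScalarTower P Q K := IsScalarTower.of_algebraMap_eq (fun x => rfl)
  haveI : IsLocalization.Away x Q := isLocalization_away_inclusion h x hx0 hinv hpow
  haveI : IsLocalization.Away (algebraMap P K x) K :=
    IsLocalization.away_of_isUnit_of_bijective K (IsUnit.mk0 _ hx0) Function.bijective_id
  letI := (icMap h).toAlgebra
  haveI : IsScalarTower (integralClosure P K) (integralClosure Q K) K :=
    IsScalarTower.of_algebraMap_eq (fun x => rfl)
  haveI : IsScalarTower P (integralClosure P K) (integralClosure Q K) :=
    IsScalarTower.of_algebraMap_eq (fun x => Subtype.ext rfl)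
  exact IsLocalization.Away.integralClosure (R := P) (S := K) (Rf := Q) (Sf := K) x

/-- the generator `s`, as an element of the integral closure of `k[s]`. -/
noncomputable def chartGen (s : K) : integralClosure (Algebra.adjoin k {s}) K :=
  algebraMap (Algebra.adjoin k {s}) _ ⟨s, Algebra.self_mem_adjoin_singleton k s⟩

lemma coe_chartGen (s : K) :
    ((chartGen (k := k) s : integralClosure (Algebra.adjoin k {s}) K) : K) = s := rfl

lemma algebraMap_mem_closure (s : K) (r : Algebra.adjoin k {s}) :
    algebraMap (Algebra.adjoin k {s}) (integralClosure (Algebra.adjoin k {s}) K) r ∈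
      Subring.closure (Set.range (algebraMap k (integralClosure (Algebra.adjoin k {s}) K)) ∪
        {chartGen (k := k) s}) := by
  set T := Subring.closure (Set.range (algebraMap k (integralClosure (Algebra.adjoin k {s}) K)) ∪
        {chartGen (k := k) s}) with hT
  -- the subalgebra of `k[s]` of elements mapping into `T`
  let S : Subalgebra k (Algebra.adjoin k {s}) :=
    { (T.comap (algebraMap (Algebra.adjoin k {s})
        (integralClosure (Algebra.adjoin k {s}) K))).toSubsemiring with
      algebraMap_mem' := fun c => by
        change algebraMap (Algebra.adjoin k {s}) (integralClosure (Algebra.adjoin k {s}) K)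
          (algebraMap k _ c) ∈ T
        rw [← IsScalarTower.algebraMap_apply]
        exact Subring.subset_closure (Or.inl ⟨c, rfl⟩) }
  have hS : ∀ r, r ∈ S ↔ algebraMap (Algebra.adjoin k {s})
      (integralClosure (Algebra.adjoin k {s}) K) r ∈ T := fun r => Iff.rfl
  rw [← hS]
  have htop : S = ⊤ := by
    rw [eq_top_iff, ← Algebra.adjoin_adjoin_coe_preimage (R := k) (s := ({s} : Set K))]
    apply Algebra.adjoin_le
    rintro ⟨x, hx⟩ hx'
    have hxs : x = s := hx'
    subst hxs
    rw [SetLike.mem_coe, hS]
    exact Subring.subset_closure (Or.inr rfl)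
  rw [htop]
  exact Algebra.mem_top

/-- the chart ring is integral over the subring generated by `k` and `s`. -/
lemma isIntegral_closure (s : K) (a : integralClosure (Algebra.adjoin k {s}) K) :
    IsIntegral (Subring.closure
      (Set.range (algebraMap k (integralClosure (Algebra.adjoin k {s}) K)) ∪
        {chartGen (k := k) s})) a := by
  set T := Subring.closure (Set.range (algebraMap k (integralClosure (Algebra.adjoin k {s}) K)) ∪
        {chartGen (k := k) s}) with hT
  let φ : Algebra.adjoin k {s} →+* T :=
    (algebraMap (Algebra.adjoin k {s}) (integralClosure (Algebra.adjoin k {s}) K)).codRestrict T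
      (fun r => algebraMap_mem_closure s r)
  have ha : IsIntegral (Algebra.adjoin k {s}) a := by
    have := a.2
    exact (isIntegral_algebraMap_iff (B := K) Subtype.val_injective).mp this
  exact IsIntegral.map_of_comp_eq φ (RingHom.id _) (by ext; rfl) ha

end Groth.Agent.Lib.Helper4.CurveAlg
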