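import Groth.Agent.Lib.Helper6H0Semi
import Groth.Agent.Lib.Helper6LineSplit
import Groth.Agent.Lib.Helper27LinRes
import Groth.Agent.Lib.Helper23InvDual
import Groth.Agent.Lib.Helper4CurveDegT
import Groth.Agent.Lib.Helper4CurveChi
import Groth.Agent.Lib.Helper4CurveSSAb

/-!
# Line subbundles of simple rank two bundles: `2 deg L ≤ deg E + g - 2` (helper6): S11817
-/

set_option autoImplicit false
set_option linter.style.haveILetI false
universe u
open CategoryTheory Limits AlgebraicGeometry Opposite TopologicalSpace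

namespace Groth.Agent.Lib.Helper6.SimpleSub

open Groth.Agent.Lib.Helper4.CurveBun Groth.Agent.Lib.Helper4.DegAdd Groth.Agent.Lib.Helper4.CurveRR
  Groth.Agent.Lib.Helper17.IAdic Groth.Agent.Lib.Helper27ExtHom1 Groth.Agent.Lib.Helper23.SecTw
  Groth.Agent.Lib.Helper27GlobGenPn Groth.Agent.Lib.Helper27SerreVan Groth.Agent.Lib.Helper27PnMor
  Groth.Agent.Lib.Helper4.Dev

section Gen

variable {X : Scheme.{u}}

/-- a global section of the quotient lifts when `H¹` of the sub vanishes -/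
theorem exists_lift_of_H1 (S : ShortComplex X.Modules) (hS : S.ShortExact)
    (h : Subsingleton (Coh.HH X S.X₁ 1)) (u : Coh.structureModule X ⟶ S.X₃) :
    ∃ t : Coh.structureModule X ⟶ S.X₂, t ≫ S.g = u := by
  obtain ⟨y, hy⟩ := Groth.Agent.Lib.Helper27CohFin.exact_delta S hS 0 ((h0 S.X₃).symm (sv u ⊤))
    (h.elim _ _)
  refine ⟨secHom S.X₂ (h0 S.X₂ y), ?_⟩
  apply sv_injective
  rw [Groth.Agent.Lib.Helper27PnMor.sv_comp, sv_secHom, res_self]
  have hT : Limits.IsTerminal (⊤ : X.Opens) := Limits.isTerminalTop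
  have h1 : S.g.app ⊤ (h0 S.X₂ y) =
      h0 S.X₃ (Sheaf.H.map ((SheafOfModules.toSheaf X.ringCatSheaf).map S.g) 0 y) :=
    Sheaf.H.equiv₀_naturality hT ((SheafOfModules.toSheaf X.ringCatSheaf).map S.g) y
  rw [h1, hy, AddEquiv.apply_symm_apply]

/-- `- ⊗ D` is exact for flat `D` (the `tw` spelling) -/
theorem shortExact_map_tw (S : ShortComplex X.Modules) (hS : S.ShortExact) (D : X.Modules)
    (hD : FlatMod.IsFlat D) : (S.map (Groth.Agent.Lib.Helper27SerreVan.tw D)).ShortExact := by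
  have h := (Groth.Agent.Lib.Helper1.StalkTensor.modSite_isFlat_iff D).2 hD
  haveI : PreservesFiniteLimits (Groth.Agent.Lib.Helper27SerreVan.tw D) := h.1
  haveI : PreservesFiniteColimits (Groth.Agent.Lib.Helper27SerreVan.tw D) := h.2
  exact hS.map_of_exact (Groth.Agent.Lib.Helper27SerreVan.tw D)

theorem mono_wl {A B : X.Modules} (s : A ⟶ B) [Mono s] (D : X.Modules) (hD : FlatMod.IsFlat D) :
    Mono (wl s D) := by
  have h := (Groth.Agent.Lib.Helper1.StalkTensor.modSite_isFlat_iff D).2 hD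
  haveI : PreservesFiniteLimits (Groth.Agent.Lib.Helper27SerreVan.tw D) := h.1
  exact (inferInstance : Mono ((Groth.Agent.Lib.Helper27SerreVan.tw D).map s))

end Gen

variable (k : Type u) [Field k] (X : Scheme.{u}) [X.Over (Spec (CommRingCat.of k))]
  [IsIntegral X] [IsProper (X ↘ (Spec (CommRingCat.of k)))]

/-- S11817 -/
theorem main [IsAlgClosed k] [Smooth (X ↘ Spec (CommRingCat.of k))]
    (hdim : topologicalKrullDim X = 1)
    (E : X.Modules) (hE : FlatMod.IsFinLocFreeOfRank 2 E)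
    (hsimple : ∀ φ : E ⟶ E, ∃ c : k, (SheafOfModules.toSheaf X.ringCatSheaf).map φ =
      Coh.smulAb E (Coh.toGlobal (X ↘ Spec (CommRingCat.of k)) c))
    (L : X.Modules) (hL : PicF.IsInvertible L) (i : L ⟶ E) [Mono i] (hq : PicF.IsInvertible (cokernel i)) :
    2 * Curv2.deg k X L 1 ≤ Curv2.deg k X E 2 + (Curv2.genus k X : ℤ) - 2 := by
  haveI : IsLocallyNoetherian X := isLocallyNoetherian_of_proper k X
  haveI : Nonempty X := nonempty_of_dim_eq_one hdim
  have hL1 := isFinLocFreeOfRank_one_of_isInvertible L hL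
  have hM1 := isFinLocFreeOfRank_one_of_isInvertible (cokernel i) hq
  have hEz : ¬ IsZero E := Groth.Agent.Lib.Helper4.CurveHN.not_isZero_of_rank_pos X E 2 (by norm_num) hE
  have hsc : ∀ φ : E ⟶ E, ∃ c : k, φ = Formal.smulMod k E c := by
    intro φ
    obtain ⟨c, hc⟩ := hsimple φ
    refine ⟨c, ?_⟩
    apply (SheafOfModules.toSheaf X.ringCatSheaf).map_injective
    rw [hc]
    rfl
  have hLne : 𝟙 L ≠ 0 := Groth.Agent.Lib.Helper6.LineSplit.id_ne_zero L hL
  have hMne : 𝟙 (cokernel i) ≠ 0 := Groth.Agent.Lib.Helper6.LineSplit.id_ne_zero _ hq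
  have hi0 : i ≠ 0 := by
    intro h
    apply hLne
    rw [← cancel_mono i, h, comp_zero, comp_zero]
  -- Step A: `Hom(M, L) = 0`
  have hA : ∀ g : cokernel i ⟶ L, g = 0 := by
    intro g
    by_contra hg
    obtain ⟨c, hc⟩ := hsc (cokernel.π i ≫ g ≫ i)
    have hφ0 : cokernel.π i ≫ g ≫ i ≠ 0 := by
      intro h
      apply hg
      rw [← cancel_epi (cokernel.π i), ← cancel_mono i, Category.assoc, h, comp_zero, zero_comp]
    have hφ2 : (cokernel.π i ≫ g ≫ i) ≫ (cokernel.π i ≫ g ≫ i) = 0 := by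
      have : (cokernel.π i ≫ g ≫ i) ≫ (cokernel.π i ≫ g ≫ i) =
          cokernel.π i ≫ g ≫ (i ≫ cokernel.π i) ≫ g ≫ i := by
        simp only [Category.assoc]
      rw [this, cokernel.condition, zero_comp, comp_zero, comp_zero]
    by_cases hc0 : c = 0
    · apply hφ0
      rw [hc, hc0, smulMod_zero]
    · apply hEz
      rw [IsZero.iff_id_eq_zero]
      rw [hc, ← smulMod_mul'] at hφ2
      have h1 : Formal.smulMod k E (c * c * (c * c)⁻¹) = 0 := by
        rw [smulMod_mul', hφ2, zero_comp]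
      rw [mul_inv_cancel₀ (mul_ne_zero hc0 hc0), smulMod_one] at h1
      exact h1
  -- Step B: the sequence does not split
  have hB : ¬ IsSplitEpi (cokernel.π i) := by
    rintro ⟨⟨s, hs⟩⟩
    obtain ⟨c, hc⟩ := hsc (cokernel.π i ≫ s)
    by_cases hc0 : c = 0
    · rw [hc0, smulMod_zero] at hc
      have hs0 : s = 0 := by
        rw [← cancel_epi (cokernel.π i), hc, comp_zero]
      apply hMne
      rw [← hs, hs0, zero_comp]
    · have h1 : i ≫ Formal.smulMod k E c = 0 := by
        rw [← hc, ← Category.assoc, cokernel.condition, zero_comp]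
      apply hi0
      have h2 : (i ≫ Formal.smulMod k E c) ≫ Formal.smulMod k E c⁻¹ = 0 := by rw [h1, zero_comp]
      rw [Category.assoc, ← smulMod_mul', mul_inv_cancel₀ hc0, smulMod_one, Category.comp_id] at h2
      exact h2
  -- Step C: twist by the dual of `M`
  have hDinv := Groth.Agent.Lib.Helper23.InvDual.isInvertible_dual (cokernel i) hq
  obtain ⟨e₀⟩ := Groth.Agent.Lib.Helper23.InvDual.nonempty_tensorMod_dual_iso (cokernel i) hq
  have hD1 := isFinLocFreeOfRank_one_of_isInvertible _ hDinv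
  have hDflat := Groth.Agent.Lib.Helper4.CurveChi.isFlat_of_isFinLocFreeOfRank _ 1 hD1
  have hMflat := Groth.Agent.Lib.Helper4.CurveChi.isFlat_of_isFinLocFreeOfRank _ 1 hM1
  obtain ⟨ν, hν⟩ := Groth.Agent.Lib.Helper27LinRes.exists_untwist (RefHull.dual (cokernel i)) (cokernel i)
    (Groth.Agent.Lib.Helper23.AmpleFam2.tensorBraid _ _ ≪≫ e₀)
  have hAinv : PicF.IsInvertible (CohB1.tensorMod L (RefHull.dual (cokernel i))) :=
    isInvertible_tensorMod hL hDinv
  have hA1 := isFinLocFreeOfRank_one_of_isInvertible _ hAinv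
  have cA := isCoh_of_isFinLocFreeOfRank _ 1 hA1
  have hOinv : PicF.IsInvertible (Coh.structureModule X) :=
    Groth.Agent.Lib.Helper23.TensorUnit.isInvertible_structureModule X
  -- Claim 1: `H⁰(L ⊗ D) = 0`
  have hC1 : Subsingleton (Coh.HH X (CohB1.tensorMod L (RefHull.dual (cokernel i))) 0) := by
    by_contra hns
    haveI : Module.Finite k (Coh.HH X (CohB1.tensorMod L (RefHull.dual (cokernel i))) 0) :=
      Groth.Agent.S0002.result k X _ cA 0
    haveI : Nontrivial (Coh.HH X (CohB1.tensorMod L (RefHull.dual (cokernel i))) 0) :=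
      not_subsingleton_iff_nontrivial.1 hns
    obtain ⟨s, hs⟩ := Groth.Agent.Lib.Helper4.CurveRR.exists_hom_ne_zero k X
      (CohB1.tensorMod L (RefHull.dual (cokernel i))) Module.finrank_pos
    haveI : Mono s := Groth.Agent.Lib.Helper6.CurveDeg.mono_of_ne_zero hOinv hAinv s hs
    haveI := mono_wl s (cokernel i) hMflat
    have h1 := hA ((Groth.Agent.Lib.Helper23.TensorUnit.unitTensorIso (cokernel i)).inv ≫
      wl s (cokernel i) ≫ (ν L).hom)
    have h2 : wl s (cokernel i) = 0 := by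
      rw [← cancel_epi (Groth.Agent.Lib.Helper23.TensorUnit.unitTensorIso (cokernel i)).inv,
        ← cancel_mono (ν L).hom, Category.assoc, h1, comp_zero, zero_comp]
    apply hMne
    rw [← cancel_epi (Groth.Agent.Lib.Helper23.TensorUnit.unitTensorIso (cokernel i)).hom,
      ← cancel_mono ((Groth.Agent.Lib.Helper23.TensorUnit.unitTensorIso (cokernel i)).inv ≫
        wl s (cokernel i)), ← Category.assoc, h2, comp_zero, comp_zero]
    simp
  -- Claim 2: `H¹(L ⊗ D) ≠ 0`
  have hC2 : ¬ Subsingleton (Coh.HH X (CohB1.tensorMod L (RefHull.dual (cokernel i))) 1) := by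
    intro hsub
    apply hB
    have hS' := shortExact_map_tw ((sesOfMono i)) (sesOfMono_shortExact i) (RefHull.dual (cokernel i)) hDflat
    obtain ⟨t, ht'⟩ : ∃ t : Coh.structureModule X ⟶ CohB1.tensorMod E (RefHull.dual (cokernel i)),
        t ≫ wl (cokernel.π i) (RefHull.dual (cokernel i)) = e₀.inv :=
      exists_lift_of_H1 _ hS' hsub e₀.inv
    have hσ : (e₀.hom ≫ t) ≫ wl (cokernel.π i) (RefHull.dual (cokernel i)) = 𝟙 _ := by
      rw [Category.assoc, ht', e₀.hom_inv_id]
    have hσ' : wl (e₀.hom ≫ t) (cokernel i) ≫ wl (wl (cokernel.π i) (RefHull.dual (cokernel i))) (cokernel i) = 𝟙 _ := by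
      rw [← wl_comp, hσ, wl_id]
    refine ⟨⟨(ν (cokernel i)).inv ≫ wl (e₀.hom ≫ t) (cokernel i) ≫ (ν E).hom, ?_⟩⟩
    rw [Category.assoc, Category.assoc, ← hν, ← Category.assoc (wl (e₀.hom ≫ t) (cokernel i)), hσ',
      Category.id_comp, Iso.inv_hom_id]
  -- Step D: Riemann–Roch
  have hχO := Groth.Agent.Lib.Helper6.H0Semi.euler_structureModule k X hdim
  have hχA := euler_eq_h0_sub_h1 k X hdim.le _ cA
  rw [Module.finrank_zero_of_subsingleton (M := Coh.HH X (CohB1.tensorMod L (RefHull.dual (cokernel i))) 0)] at hχA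
  haveI : Module.Finite k (Coh.HH X (CohB1.tensorMod L (RefHull.dual (cokernel i))) 1) :=
    Groth.Agent.S0002.result k X _ cA 1
  haveI : Nontrivial (Coh.HH X (CohB1.tensorMod L (RefHull.dual (cokernel i))) 1) :=
    not_subsingleton_iff_nontrivial.1 hC2
  have hpos : 0 < Module.finrank k (Coh.HH X (CohB1.tensorMod L (RefHull.dual (cokernel i))) 1) :=
    Module.finrank_pos
  have hdA := Groth.Agent.Lib.Helper4.CurveDegT.deg_tensor k X hdim.le 1 1 L (RefHull.dual (cokernel i)) hL1 hD1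
  have hdMD := Groth.Agent.Lib.Helper4.CurveDegT.deg_tensor k X hdim.le 1 1 (cokernel i) (RefHull.dual (cokernel i)) hM1 hD1
  rw [Groth.Agent.Lib.Helper4.CurveSSAb.deg_congr_iso k X e₀ (1 * 1)] at hdMD
  have hdO : Curv2.deg k X (Coh.structureModule X) (1 * 1) = 0 := by
    unfold Curv2.deg
    push_cast
    ring
  rw [hdO] at hdMD
  have hadd := deg_additive k X (sesOfMono i) (sesOfMono_shortExact i) 1 2 1 hL1 hE hM1
  have hdA' : Curv2.deg k X (CohB1.tensorMod L (RefHull.dual (cokernel i))) (1 * 1) =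
      Curv2.euler k X (CohB1.tensorMod L (RefHull.dual (cokernel i))) - (1 - (Curv2.genus k X : ℤ)) := by
    unfold Curv2.deg
    rw [hχO]
    push_cast
    ring
  have hpos' : (0 : ℤ) < (Module.finrank k (Coh.HH X (CohB1.tensorMod L (RefHull.dual (cokernel i))) 1) : ℤ) := by
    exact_mod_cast hpos
  change Curv2.deg k X E 2 = Curv2.deg k X L 1 + Curv2.deg k X (cokernel i) 1 at hadd
  push_cast at hdA hdMD hχA
  linarith

end Groth.Agent.Lib.Helper6.SimpleSub
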