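import Mathlib
import Groth.Agent.Lib.Helper4CurveSpecial
import Groth.Agent.Lib.Helper4CurvePt
import Groth.Agent.Lib.Helper6PointIdeal
import Groth.Agent.Lib.Helper6SimpleSub
import Groth.Agent.Lib.Helper23InvDual

/-!
# Clifford's inequality without Serre duality (helper4; S19204, S19205)

On a regular integral proper curve `X` over an algebraically closed field `k`:

* `exists_closed_point_not_mem` : there is a closed point outside any finite set;
* `Nbp p T` : `p` is not a base point of `T` (`H⁰(O ⊗ T) → H⁰(O_p ⊗ T)` is onto); numerics of the twisted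
  point sequence `0 → I_p ⊗ T → O ⊗ T → O_p ⊗ T → 0`;
* `exists_generic_point` : if `H¹(N) ≠ 0` there are a closed point `p` and `T` with `I_p ⊗ T ≅ N`
  (i.e. `T = N(p)`) and `h¹(T) = h¹(N) - 1`  (a general point imposes a condition on `H¹(N)^*`);
* `clifford_aux` : `h⁰(B) + h¹(A ⊗ B) ≤ h¹(A) + 1` for invertible `A`, `B` with `H⁰(B) ≠ 0 ≠ H¹(A ⊗ B)`
  (the dimension count for the pairing `H⁰(B) × H¹(A ⊗ B)^* → H¹(A)^*`);
* `clifford` : `h⁰(M) + h¹(M) ≤ g + 1` for a special effective invertible `M`;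
  `two_mul_h0_le` : `2 h⁰(M) ≤ deg M + 2`.
-/

set_option autoImplicit false
set_option linter.style.haveILetI false
universe u
open CategoryTheory CategoryTheory.Limits AlgebraicGeometry TopologicalSpace Opposite

namespace Groth.Agent.Lib.Helper4.CurveCliff

open Groth.Agent.Lib.Helper27PnSections Groth.Agent.Lib.Helper4.CurveDegSec
  Groth.Agent.Lib.Helper17.HHLes Groth.Agent.Lib.Helper4.Dev Groth.Agent.Lib.Helper27SerreVan
  Groth.Agent.Lib.Helper6.CurveDeg Groth.Agent.Lib.Helper4.CurveAsym Groth.Agent.Lib.Helper4.CurveGrd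
  Groth.Agent.Lib.Helper4.CurvePt Groth.Agent.Lib.Helper4.CurveBun Groth.Agent.Lib.Helper21.ExtCartier

section Points

variable (k : Type u) [Field k] (X : Scheme.{u}) [X.Over (Spec (CommRingCat.of k))]
  [IsProper (X ↘ (Spec (CommRingCat.of k)))]

include k in
/-- a proper curve over a field has a closed point outside any finite set -/
theorem exists_closed_point_not_mem (hdim : topologicalKrullDim X = 1) (S : Finset X) :
    ∃ p : X, IsClosed ({p} : Set X) ∧ p ∉ S := by
  haveI : JacobsonSpace X :=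
    LocallyOfFiniteType.jacobsonSpace (X ↘ (Spec (CommRingCat.of k)))
  by_contra hcon
  push Not at hcon
  have hsub : closedPoints X ⊆ (S : Set X) := fun p hp => hcon p ((mem_closedPoints_iff).1 hp)
  have hfin : (closedPoints X).Finite := S.finite_toSet.subset hsub
  have hcl : IsClosed (closedPoints X) := by
    have h : closedPoints X = ⋃ p ∈ closedPoints X, ({p} : Set X) := (Set.biUnion_of_singleton _).symm
    rw [h]
    exact hfin.isClosed_biUnion (fun p hp => (mem_closedPoints_iff).1 hp)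
  have huniv : closedPoints X = Set.univ := by
    rw [← hcl.closure_eq]
    exact closure_closedPoints
  haveI : Finite X := Set.finite_univ_iff.1 (huniv ▸ hfin)
  haveI : T1Space X := ⟨fun p => (mem_closedPoints_iff).1 (huniv ▸ Set.mem_univ p)⟩
  haveI : DiscreteTopology X := inferInstance
  have h0 : topologicalKrullDim X ≤ 0 := topologicalKrullDim_zero_of_discreteTopology X
  rw [hdim] at h0
  exact absurd h0 (by decide)

end Points


section Seq

variable (k : Type u) [Field k] (X : Scheme.{u}) [X.Over (Spec (CommRingCat.of k))]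
  [IsProper (X ↘ (Spec (CommRingCat.of k)))]

/-- in a short exact sequence, `h⁰(X₂) = h⁰(X₁) + rk H⁰(g)` -/
theorem h0_mid_eq (S : ShortComplex X.Modules) (hS : S.ShortExact)
    (c₂ : Coh.IsCoh S.X₂) :
    Module.finrank k (Coh.HH X S.X₂ 0) =
      Module.finrank k (Coh.HH X S.X₁ 0) +
        Module.finrank k (LinearMap.range (Canon.HHlin k S.g 0)) := by
  haveI : Module.Finite k (Coh.HH X S.X₂ 0) := Groth.Agent.S0002.result k X _ c₂ 0
  have h1 := LinearMap.finrank_range_add_finrank_ker (Canon.HHlin k S.g 0)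
  have h2 : Module.finrank k (LinearMap.ker (Canon.HHlin k S.g 0)) =
      Module.finrank k (Coh.HH X S.X₁ 0) := by
    rw [← Groth.Agent.Lib.Helper6.Euler.range_f_eq_ker_g k S hS 0]
    exact LinearMap.finrank_range_of_inj (Groth.Agent.Lib.Helper6.Euler.injective_f_zero k S hS)
  omega

/-- the point sequence `0 → I_p ⊗ T → O ⊗ T → O_p ⊗ T → 0` -/
noncomputable def ptSES {X : Scheme.{u}} (p : X) (hp : IsClosed ({p} : Set X)) (T : X.Modules) :
    ShortComplex X.Modules :=
  (idealSES (ptIdeal p hp)).map (tw T)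

theorem ptSES_shortExact {X : Scheme.{u}} (p : X) (hp : IsClosed ({p} : Set X)) (T : X.Modules)
    (hT : FlatMod.IsFinLocFreeOfRank 1 T) : (ptSES p hp T).ShortExact :=
  Groth.Agent.Lib.Helper6.SimpleSub.shortExact_map_tw _ (idealSES_shortExact _) T
    (Groth.Agent.Lib.Helper4.CurveChi.isFlat_of_isFinLocFreeOfRank T 1 hT)

/-- `p` is not a base point of `T` -/
def Nbp {X : Scheme.{u}} [X.Over (Spec (CommRingCat.of k))] (p : X) (hp : IsClosed ({p} : Set X))
    (T : X.Modules) : Prop :=
  Function.Surjective (Canon.HHlin k ((tw T).map (ClSub.toSubscheme (ptIdeal p hp))) 0)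


open Groth.Agent.Lib.Helper4.CurveChi in
/-- `h⁰(O_p ⊗ T) = 1` -/
theorem h0_quot_twist [IsAlgClosed k] (p : X) (hp : IsClosed ({p} : Set X)) (T : X.Modules)
    (hT : FlatMod.IsFinLocFreeOfRank 1 T) :
    Module.finrank k (Coh.HH X ((tw T).obj (ClSub.quotMod (ptIdeal p hp))) 0) = 1 := by
  obtain ⟨h0, -, cQ, -⟩ := Groth.Agent.Lib.Helper6.PointIdeal.quotMod_point k X p hp
  have hdQ : topologicalKrullDim (CohB1.support (ClSub.quotMod (ptIdeal p hp))) ≤ 0 :=
    dim_support_quotMod_le X (ptIdeal p hp) p (range_ptIdeal p hp).le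
  have c3 := isCoh_tensorMod_locFree (ClSub.quotMod (ptIdeal p hp)) T cQ 1 hT
  have hdQT : topologicalKrullDim
      (CohB1.support (CohB1.tensorMod (ClSub.quotMod (ptIdeal p hp)) T)) ≤ 0 :=
    (Groth.Agent.Lib.Helper4.KFilt.dim_le_of_subset
      (Groth.Agent.Lib.Helper4.ZeroDimChi.support_tensorMod_subset_left _ _)).trans hdQ
  have e3 := Groth.Agent.Lib.Helper4.ZeroDimChi.euler_tensor_locFree k
    (ClSub.quotMod (ptIdeal p hp)) cQ hdQ 1 T hT
  rw [h0_eq_euler_of_dim_le_zero k X _ c3 hdQT, h0_eq_euler_of_dim_le_zero k X _ cQ hdQ, h0] at e3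
  have e4 : (Module.finrank k
      (Coh.HH X (CohB1.tensorMod (ClSub.quotMod (ptIdeal p hp)) T) 0) : ℤ) = 1 := by
    rw [e3]; norm_num
  exact_mod_cast e4

open Groth.Agent.Lib.Helper4.CurveChi in
/-- `χ(I_p ⊗ T) = χ(T) - 1` -/
theorem euler_ideal_twist [IsAlgClosed k] (p : X) (hp : IsClosed ({p} : Set X)) (T : X.Modules)
    (hT : FlatMod.IsFinLocFreeOfRank 1 T) :
    Curv2.euler k X ((tw T).obj (ClSub.idealMod (ptIdeal p hp))) = Curv2.euler k X T - 1 := by
  haveI : IsLocallyNoetherian X := isLocallyNoetherian_of_proper k X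
  obtain ⟨-, -, cQ, -⟩ := Groth.Agent.Lib.Helper6.PointIdeal.quotMod_point k X p hp
  have cI := isCoh_idealMod k X (ptIdeal p hp)
  have cO := isCoh_structureModule X
  have c1 := isCoh_tensorMod_locFree (ClSub.idealMod (ptIdeal p hp)) T cI 1 hT
  have c2 := isCoh_tensorMod_locFree (Coh.structureModule X) T cO 1 hT
  have c3 := isCoh_tensorMod_locFree (ClSub.quotMod (ptIdeal p hp)) T cQ 1 hT
  have hadd := Groth.Agent.Lib.Helper6.Euler.euler_additive k X (ptSES p hp T)
    (ptSES_shortExact p hp T hT) c1 c2 c3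
  have hdQ : topologicalKrullDim (CohB1.support (ClSub.quotMod (ptIdeal p hp))) ≤ 0 :=
    dim_support_quotMod_le X (ptIdeal p hp) p (range_ptIdeal p hp).le
  have hdQT : topologicalKrullDim
      (CohB1.support (CohB1.tensorMod (ClSub.quotMod (ptIdeal p hp)) T)) ≤ 0 :=
    (Groth.Agent.Lib.Helper4.KFilt.dim_le_of_subset
      (Groth.Agent.Lib.Helper4.ZeroDimChi.support_tensorMod_subset_left _ _)).trans hdQ
  have h3 : Curv2.euler k X (ptSES p hp T).X₃ = 1 := by
    have := h0_eq_euler_of_dim_le_zero k X _ c3 hdQT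
    have h1 := h0_quot_twist k X p hp T hT
    change Curv2.euler k X (CohB1.tensorMod (ClSub.quotMod (ptIdeal p hp)) T) = 1
    rw [this]
    exact_mod_cast h1
  have h2 : Curv2.euler k X (ptSES p hp T).X₂ = Curv2.euler k X T :=
    euler_congr_iso k (Groth.Agent.Lib.Helper23.TensorUnit.unitTensorIso T)
  rw [h2, h3] at hadd
  change Curv2.euler k X (ptSES p hp T).X₁ = _
  linarith

open Groth.Agent.Lib.Helper4.CurveChi in
/-- `h⁰(T) = h⁰(I_p ⊗ T) + rk (H⁰(O ⊗ T) → H⁰(O_p ⊗ T))` -/
theorem h0_twist_eq (p : X) (hp : IsClosed ({p} : Set X)) (T : X.Modules)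
    (hT : FlatMod.IsFinLocFreeOfRank 1 T) :
    Module.finrank k (Coh.HH X T 0) =
      Module.finrank k (Coh.HH X ((tw T).obj (ClSub.idealMod (ptIdeal p hp))) 0) +
        Module.finrank k (LinearMap.range
          (Canon.HHlin k ((tw T).map (ClSub.toSubscheme (ptIdeal p hp))) 0)) := by
  haveI : IsLocallyNoetherian X := isLocallyNoetherian_of_proper k X
  have cO := isCoh_structureModule X
  have c2 := isCoh_tensorMod_locFree (Coh.structureModule X) T cO 1 hT
  have h := h0_mid_eq k X (ptSES p hp T) (ptSES_shortExact p hp T hT) c2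
  have e : Module.finrank k (Coh.HH X (ptSES p hp T).X₂ 0) = Module.finrank k (Coh.HH X T 0) :=
    (HHequiv k (Groth.Agent.Lib.Helper23.TensorUnit.unitTensorIso T) 0).finrank_eq
  rw [e] at h
  exact h


open Groth.Agent.Lib.Helper4.CurveChi in
/-- `p` is not a base point of `T` iff `h⁰(I_p ⊗ T) + 1 = h⁰(T)` -/
theorem nbp_iff [IsAlgClosed k] (p : X) (hp : IsClosed ({p} : Set X)) (T : X.Modules)
    (hT : FlatMod.IsFinLocFreeOfRank 1 T) :
    Nbp k p hp T ↔
      Module.finrank k (Coh.HH X ((tw T).obj (ClSub.idealMod (ptIdeal p hp))) 0) + 1 =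
        Module.finrank k (Coh.HH X T 0) := by
  haveI : IsLocallyNoetherian X := isLocallyNoetherian_of_proper k X
  obtain ⟨-, -, cQ, -⟩ := Groth.Agent.Lib.Helper6.PointIdeal.quotMod_point k X p hp
  have c3 := isCoh_tensorMod_locFree (ClSub.quotMod (ptIdeal p hp)) T cQ 1 hT
  haveI : Module.Finite k (Coh.HH X ((tw T).obj (ClSub.quotMod (ptIdeal p hp))) 0) :=
    Groth.Agent.S0002.result k X _ c3 0
  have h1 := h0_quot_twist k X p hp T hT
  have h2 := h0_twist_eq k X p hp T hT
  constructor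
  · intro hs
    have hr : LinearMap.range (Canon.HHlin k ((tw T).map (ClSub.toSubscheme (ptIdeal p hp))) 0) = ⊤ :=
      LinearMap.range_eq_top.2 hs
    rw [hr, finrank_top, h1] at h2
    exact h2.symm
  · intro hn
    have hr : Module.finrank k (LinearMap.range
        (Canon.HHlin k ((tw T).map (ClSub.toSubscheme (ptIdeal p hp))) 0)) =
        Module.finrank k (Coh.HH X ((tw T).obj (ClSub.quotMod (ptIdeal p hp))) 0) := by
      rw [h1]; omega
    exact LinearMap.range_eq_top.1 (Submodule.eq_top_of_finrank_eq hr)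

/-- twisting down by a point drops `h⁰` by at most one -/
theorem h0_le_twist_pt [IsAlgClosed k] (p : X) (hp : IsClosed ({p} : Set X)) (T : X.Modules)
    (hT : FlatMod.IsFinLocFreeOfRank 1 T) :
    Module.finrank k (Coh.HH X T 0) ≤
      Module.finrank k (Coh.HH X ((tw T).obj (ClSub.idealMod (ptIdeal p hp))) 0) + 1 := by
  haveI : IsLocallyNoetherian X := isLocallyNoetherian_of_proper k X
  obtain ⟨-, -, cQ, -⟩ := Groth.Agent.Lib.Helper6.PointIdeal.quotMod_point k X p hp
  have c3 := Groth.Agent.Lib.Helper4.CurveChi.isCoh_tensorMod_locFree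
    (ClSub.quotMod (ptIdeal p hp)) T cQ 1 hT
  haveI : Module.Finite k (Coh.HH X ((tw T).obj (ClSub.quotMod (ptIdeal p hp))) 0) :=
    Groth.Agent.S0002.result k X _ c3 0
  have h1 := h0_quot_twist k X p hp T hT
  have h2 := h0_twist_eq k X p hp T hT
  have h3 : Module.finrank k (LinearMap.range
      (Canon.HHlin k ((tw T).map (ClSub.toSubscheme (ptIdeal p hp))) 0)) ≤
      Module.finrank k (Coh.HH X ((tw T).obj (ClSub.quotMod (ptIdeal p hp))) 0) :=
    Submodule.finrank_le _
  omega

/-- `h¹(I_p ⊗ T) = h¹(T)` at a non-base point, `h¹(T) + 1` at a base point -/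
theorem h1_twist [IsAlgClosed k] (hdim : topologicalKrullDim X ≤ 1) (p : X)
    (hp : IsClosed ({p} : Set X)) (T : X.Modules) (hT : FlatMod.IsFinLocFreeOfRank 1 T) :
    (Nbp k p hp T → Module.finrank k (Coh.HH X ((tw T).obj (ClSub.idealMod (ptIdeal p hp))) 1) =
        Module.finrank k (Coh.HH X T 1)) ∧
    (¬ Nbp k p hp T → Module.finrank k (Coh.HH X ((tw T).obj (ClSub.idealMod (ptIdeal p hp))) 1) =
        Module.finrank k (Coh.HH X T 1) + 1) := by
  haveI : IsLocallyNoetherian X := isLocallyNoetherian_of_proper k X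
  have cI := isCoh_idealMod k X (ptIdeal p hp)
  have c1 := Groth.Agent.Lib.Helper4.CurveChi.isCoh_tensorMod_locFree
    (ClSub.idealMod (ptIdeal p hp)) T cI 1 hT
  have cT := Groth.Agent.Lib.Helper4.DegAdd.isCoh_of_isFinLocFreeOfRank T 1 hT
  have hχ := euler_ideal_twist k X p hp T hT
  have e1 := Groth.Agent.Lib.Helper4.CurveRR.euler_eq_h0_sub_h1 k X hdim _ c1
  have e2 := Groth.Agent.Lib.Helper4.CurveRR.euler_eq_h0_sub_h1 k X hdim T cT
  have hiff := nbp_iff k X p hp T hT
  have hle := h0_le_twist_pt k X p hp T hT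
  have hge : Module.finrank k (Coh.HH X ((tw T).obj (ClSub.idealMod (ptIdeal p hp))) 0) ≤
      Module.finrank k (Coh.HH X T 0) := by
    have := h0_twist_eq k X p hp T hT
    omega
  change Curv2.euler k X (CohB1.tensorMod (ClSub.idealMod (ptIdeal p hp)) T) = _ at hχ
  rw [e1, e2] at hχ
  constructor
  · intro hn
    have := hiff.1 hn
    change Module.finrank k (Coh.HH X (CohB1.tensorMod (ClSub.idealMod (ptIdeal p hp)) T) 0) + 1 = _
      at this
    change Module.finrank k (Coh.HH X (CohB1.tensorMod (ClSub.idealMod (ptIdeal p hp)) T) 1) = _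
    omega
  · intro hn
    have hne : Module.finrank k (Coh.HH X ((tw T).obj (ClSub.idealMod (ptIdeal p hp))) 0) + 1 ≠
        Module.finrank k (Coh.HH X T 0) := fun h => hn (hiff.2 h)
    change Module.finrank k (Coh.HH X (CohB1.tensorMod (ClSub.idealMod (ptIdeal p hp)) T) 0) + 1 ≠ _
      at hne
    change Module.finrank k (Coh.HH X (CohB1.tensorMod (ClSub.idealMod (ptIdeal p hp)) T) 0) ≤ _
      at hge
    change _ ≤ Module.finrank k (Coh.HH X (CohB1.tensorMod (ClSub.idealMod (ptIdeal p hp)) T) 0) + 1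
      at hle
    change Module.finrank k (Coh.HH X (CohB1.tensorMod (ClSub.idealMod (ptIdeal p hp)) T) 1) = _
    omega

end Seq

section Curve

variable (k : Type u) [Field k] [IsAlgClosed k] (X : Scheme.{u}) [X.Over (Spec (CommRingCat.of k))]
  [IsProper (X ↘ (Spec (CommRingCat.of k)))] [IsIntegral X]

/-- `N(p)`: an invertible `T` with `I_p ⊗ T ≅ N`, of degree `deg N + 1` -/
theorem exists_twist_up (hpid : PIDStalks X) (hdim : topologicalKrullDim X = 1)
    (N : X.Modules) (hN : PicF.IsInvertible N) (p : X) (hp : IsClosed ({p} : Set X)) :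
    ∃ T : X.Modules, PicF.IsInvertible T ∧
      Nonempty ((tw T).obj (ClSub.idealMod (ptIdeal p hp)) ≅ N) ∧
      Curv2.deg k X T 1 = Curv2.deg k X N 1 + 1 := by
  have hI : PicF.IsInvertible (ClSub.idealMod (ptIdeal p hp)) :=
    isInvertible_idealMod k X hpid hdim (ptIdeal p hp) p (range_ptIdeal p hp).le
  have hD := Groth.Agent.Lib.Helper23.InvDual.isInvertible_dual _ hI
  obtain ⟨e⟩ := Groth.Agent.Lib.Helper23.InvDual.nonempty_tensorMod_dual_iso _ hI
  have hT : PicF.IsInvertible (CohB1.tensorMod (RefHull.dual (ClSub.idealMod (ptIdeal p hp))) N) :=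
    Groth.Agent.Lib.Helper23.SecTw.isInvertible_tensorMod hD hN
  let ι : CohB1.tensorMod (ClSub.idealMod (ptIdeal p hp))
      (CohB1.tensorMod (RefHull.dual (ClSub.idealMod (ptIdeal p hp))) N) ≅ N :=
    (Groth.Agent.Lib.Helper23.LocGen.tensorAssoc _ _ _).symm ≪≫
      Groth.Agent.Lib.Helper23.AmpleIso.tensorModIso e (Iso.refl N) ≪≫
      Groth.Agent.Lib.Helper23.TensorUnit.unitTensorIso N
  refine ⟨_, hT, ⟨ι⟩, ?_⟩
  have hI1 := Groth.Agent.Lib.Helper23.SecTw.isFinLocFreeOfRank_one_of_isInvertible _ hI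
  have hT1 := Groth.Agent.Lib.Helper23.SecTw.isFinLocFreeOfRank_one_of_isInvertible _ hT
  have h1 := Groth.Agent.Lib.Helper4.CurveDegT.deg_tensor k X hdim.le 1 1 _ _ hI1 hT1
  have h2 := deg_idealMod k X (ptIdeal p hp) p (range_ptIdeal p hp).le
  obtain ⟨h0, -, -, -⟩ := Groth.Agent.Lib.Helper6.PointIdeal.quotMod_point k X p hp
  have h3 := Groth.Agent.Lib.Helper4.CurveSSAb.deg_congr_iso k X ι 1
  rw [h0] at h2
  simp only [mul_one, Nat.cast_one, one_mul] at h1
  rw [h3, h2] at h1
  push_cast at h1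
  linarith


omit [IsAlgClosed k] [IsIntegral X] [X.Over (Spec (CommRingCat.of k))]
  [IsProper (X ↘ (Spec (CommRingCat.of k)))] in
/-- the cokernel of the first map of a short exact sequence is supported on the third term -/
theorem support_cokernel_f_subset (S : ShortComplex X.Modules) (hS : S.ShortExact) :
    CohB1.support (cokernel S.f) ⊆ CohB1.support S.X₃ := by
  haveI := hS.epi_g
  have e : cokernel S.f ≅ S.X₃ :=
    IsColimit.coconePointUniqueUpToIso (colimit.isColimit (parallelPair S.f 0)) hS.exact.gIsCokernel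
  exact (Groth.Agent.Lib.Helper4.Dev.support_eq_of_iso e).le

omit [IsIntegral X] in
/-- non-base points propagate along maps which are surjective near `p` -/
theorem nbp_of_hom (p : X) (hp : IsClosed ({p} : Set X)) {G G' : X.Modules} (cG : Coh.IsCoh G)
    (cG' : Coh.IsCoh G') (φ : G ⟶ G') (hφ : p ∉ CohB1.support (cokernel φ))
    (h : Nbp k p hp G) : Nbp k p hp G' := by
  obtain ⟨-, -, cQ, hsub⟩ := Groth.Agent.Lib.Helper6.PointIdeal.quotMod_point k X p hp
  have hdQ : topologicalKrullDim (CohB1.support (ClSub.quotMod (ptIdeal p hp))) ≤ 0 :=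
    dim_support_quotMod_le X (ptIdeal p hp) p (range_ptIdeal p hp).le
  refine surjective_step k X (ClSub.toSubscheme (ptIdeal p hp)) cQ hdQ cG cG' φ ?_ h
  intro x hx
  have : x = p := hsub hx
  rw [this]
  exact hφ


open Groth.Agent.Lib.Helper4.CurveChi in
/-- **a general point imposes a condition on `H¹(N)^*`**: if `H¹(N) ≠ 0`, there are a closed point `p`
(outside a given finite set) and `T = N(p)` such that `p` is a base point of `T`, i.e.
`h¹(T) = h¹(N) - 1`. -/
theorem exists_generic_point (hpid : PIDStalks X) (hdim : topologicalKrullDim X = 1) :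
    ∀ (n : ℕ) (N : X.Modules), PicF.IsInvertible N → Nontrivial (Coh.HH X N 1) →
      2 * (Curv2.genus k X : ℤ) - 1 - Curv2.deg k X N 1 ≤ n → ∀ S : Finset X,
      ∃ (p : X) (hp : IsClosed ({p} : Set X)) (T : X.Modules), p ∉ S ∧ PicF.IsInvertible T ∧
        Nonempty ((tw T).obj (ClSub.idealMod (ptIdeal p hp)) ≅ N) ∧ ¬ Nbp k p hp T := by
  haveI : IsLocallyNoetherian X := isLocallyNoetherian_of_proper k X
  intro n
  induction n with
  | zero =>
    intro N hN h1 hdeg S
    exfalso
    have h := Groth.Agent.Lib.Helper4.CurveSpecial.deg_le_of_H1_nontrivial k X hdim N hN h1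
    rw [finrank_hh0_eq_one_of_isAlgClosed k X] at h
    push_cast at hdeg h
    linarith
  | succ n ih =>
    intro N hN h1 hdeg S
    classical
    obtain ⟨q, hq, hqS⟩ := exists_closed_point_not_mem k X hdim S
    obtain ⟨T₁, hT₁, ⟨e₁⟩, hd₁⟩ := exists_twist_up k X hpid hdim N hN q hq
    by_cases hnb : Nbp k q hq T₁
    · have hT₁1 := Groth.Agent.Lib.Helper23.SecTw.isFinLocFreeOfRank_one_of_isInvertible _ hT₁
      have hh := (h1_twist k X hdim.le q hq T₁ hT₁1).1 hnb
      have hN1 : Module.finrank k (Coh.HH X N 1) = Module.finrank k (Coh.HH X T₁ 1) := by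
        rw [← hh]
        exact ((HHequiv k e₁ 1).finrank_eq).symm
      have h1' : Nontrivial (Coh.HH X T₁ 1) := by
        haveI : Module.Finite k (Coh.HH X N 1) :=
          Groth.Agent.S0002.result k X _ (isCoh_of_isInvertible N hN) 1
        have hpos : 0 < Module.finrank k (Coh.HH X N 1) := Module.finrank_pos
        exact Module.nontrivial_of_finrank_pos (R := k) (by omega)
      obtain ⟨p, hp, T₂, hpS, hT₂, ⟨e₂⟩, hnb₂⟩ := ih T₁ hT₁ h1'
        (by rw [hd₁]; push_cast at hdeg ⊢; linarith) (insert q S)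
      have hpq : p ≠ q := fun h => hpS (h ▸ Finset.mem_insert_self q S)
      have hpS' : p ∉ S := fun h => hpS (Finset.mem_insert_of_mem h)
      have hIq : PicF.IsInvertible (ClSub.idealMod (ptIdeal q hq)) :=
        isInvertible_idealMod k X hpid hdim (ptIdeal q hq) q (range_ptIdeal q hq).le
      have hT₂1 := Groth.Agent.Lib.Helper23.SecTw.isFinLocFreeOfRank_one_of_isInvertible _ hT₂
      have cT₂ := isCoh_of_isInvertible T₂ hT₂
      have cIq := isCoh_idealMod k X (ptIdeal q hq)
      have c1 : Coh.IsCoh ((tw T₂).obj (ClSub.idealMod (ptIdeal q hq))) :=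
        isCoh_tensorMod_locFree (ClSub.idealMod (ptIdeal q hq)) T₂ cIq 1 hT₂1
      have c2 : Coh.IsCoh ((tw T₂).obj (Coh.structureModule X)) :=
        isCoh_tensorMod_locFree (Coh.structureModule X) T₂ (isCoh_structureModule X) 1 hT₂1
      refine ⟨p, hp, (tw T₂).obj (ClSub.idealMod (ptIdeal q hq)), hpS', ?_, ⟨?_⟩, ?_⟩
      · exact Groth.Agent.Lib.Helper23.SecTw.isInvertible_tensorMod hIq hT₂
      · exact (Groth.Agent.Lib.Helper23.LocGen.tensorAssoc _ _ _).symm ≪≫
          Groth.Agent.Lib.Helper23.AmpleIso.tensorModIso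
            (Groth.Agent.Lib.Helper23.AmpleFam2.tensorBraid _ _) (Iso.refl T₂) ≪≫
          Groth.Agent.Lib.Helper23.LocGen.tensorAssoc _ _ _ ≪≫
          Groth.Agent.Lib.Helper23.AmpleIso.tensorModIso (Iso.refl _) e₂ ≪≫ e₁
      · intro hnb'
        apply hnb₂
        obtain ⟨-, -, -, hsubq⟩ := Groth.Agent.Lib.Helper6.PointIdeal.quotMod_point k X q hq
        have hcok : p ∉ CohB1.support (cokernel ((tw T₂).map (ClSub.idealModι (ptIdeal q hq)))) := by
          intro hmem
          have h3 := support_cokernel_f_subset X (ptSES q hq T₂) (ptSES_shortExact q hq T₂ hT₂1) hmem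
          have h4 : p ∈ CohB1.support (ClSub.quotMod (ptIdeal q hq)) :=
            Groth.Agent.Lib.Helper4.ZeroDimChi.support_tensorMod_subset_left _ _ h3
          exact hpq (hsubq h4)
        have step1 : Nbp k p hp ((tw T₂).obj (Coh.structureModule X)) :=
          nbp_of_hom k X p hp c1 c2 ((tw T₂).map (ClSub.idealModι (ptIdeal q hq))) hcok hnb'
        let φ : (tw T₂).obj (Coh.structureModule X) ⟶ T₂ :=
          (Groth.Agent.Lib.Helper23.TensorUnit.unitTensorIso T₂).hom
        haveI : IsIso φ :=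
          (inferInstance : IsIso (Groth.Agent.Lib.Helper23.TensorUnit.unitTensorIso T₂).hom)
        refine nbp_of_hom k X p hp c2 cT₂ φ ?_ step1
        intro hmem
        exact hmem (Groth.Agent.Helper18Epi.subsingleton_stalk_of_isZero
          (isZero_cokernel_of_epi φ) p)
    · exact ⟨q, hq, T₁, hqS, hT₁, ⟨e₁⟩, hnb⟩


end Curve

end Groth.Agent.Lib.Helper4.CurveCliff
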