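import Mathlib
import Groth.Agent.Lib.Helper4CurveCliff

/-!
# Clifford's inequality without Serre duality, part 2 (helper4; S19204, S19205)

`h1_tensor_le`, `clifford_aux`, `clifford` (`h⁰(M) + h¹(M) ≤ g + 1`), `two_mul_h0_le` (`2 h⁰(M) ≤ deg M + 2`),
`linear_semistable` (S19205), `linear_stable` (S19204).
-/

set_option autoImplicit false
set_option linter.style.haveILetI false
universe u
open CategoryTheory CategoryTheory.Limits AlgebraicGeometry TopologicalSpace Opposite

namespace Groth.Agent.Lib.Helper4.CurveCliff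

open Groth.Agent.Lib.Helper27PnSections Groth.Agent.Lib.Helper4.CurveDegSec
  Groth.Agent.Lib.Helper17.HHLes Groth.Agent.Lib.Helper4.Dev Groth.Agent.Lib.Helper27SerreVan
  Groth.Agent.Lib.Helper6.CurveDeg Groth.Agent.Lib.Helper4.CurveAsym Groth.Agent.Lib.Helper4.CurveGrd
  Groth.Agent.Lib.Helper4.CurvePt Groth.Agent.Lib.Helper4.CurveBun Groth.Agent.Lib.Helper21.ExtCartier

section Curve2

variable (k : Type u) [Field k] (X : Scheme.{u}) [X.Over (Spec (CommRingCat.of k))]
  [IsProper (X ↘ (Spec (CommRingCat.of k)))] [IsIntegral X]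

open Groth.Agent.Lib.Helper4.CurveChi in
/-- `h¹(A ⊗ B) ≤ h¹(A)` when `B` has a nonzero section -/
theorem h1_tensor_le (hdim : topologicalKrullDim X = 1) (A B : X.Modules)
    (hA : PicF.IsInvertible A) (hB : PicF.IsInvertible B)
    (h0 : 0 < Module.finrank k (Coh.HH X B 0)) :
    Module.finrank k (Coh.HH X ((tl A).obj B) 1) ≤ Module.finrank k (Coh.HH X A 1) := by
  haveI : IsLocallyNoetherian X := isLocallyNoetherian_of_proper k X
  obtain ⟨s, hs⟩ := Groth.Agent.Lib.Helper4.CurveRR.exists_hom_ne_zero k X B h0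
  have hO := Groth.Agent.Lib.Helper23.TensorUnit.isInvertible_structureModule X
  have cA := isCoh_of_isInvertible A hA
  have cB := isCoh_of_isInvertible B hB
  have cO := isCoh_structureModule X
  have c1 : Coh.IsCoh ((tl A).obj (Coh.structureModule X)) := isCoh_tensorMod X A _ cA cO
  have c2 : Coh.IsCoh ((tl A).obj B) := isCoh_tensorMod X A B cA cB
  have e : cokernel ((tl A).map s) ≅ (tl A).obj (cokernel s) := (PreservesCokernel.iso (tl A) s).symm
  have hdim0 : topologicalKrullDim (CohB1.support (cokernel ((tl A).map s))) ≤ 0 := by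
    rw [Groth.Agent.Lib.Helper4.Dev.support_eq_of_iso e]
    exact dim_le_zero_of_subset X (support_tensorMod_subset_right _ _)
      (dim_support_cokernel_le X hdim hO hB s hs)
  have cQ : Coh.IsCoh (cokernel ((tl A).map s)) := isCoh_cokernel _ c1 c2
  have hQ : Subsingleton (Coh.HH X (cokernel ((tl A).map s)) 1) :=
    Groth.Agent.S1526.result k X _ cQ hdim0 1 le_rfl
  have hsurj := surjective_H1_of_cokernel k X hdim.le ((tl A).map s) c1 c2 hQ
  haveI : Module.Finite k (Coh.HH X ((tl A).obj (Coh.structureModule X)) 1) :=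
    Groth.Agent.S0002.result k X _ c1 1
  have h1 := LinearMap.finrank_le_finrank_of_surjective hsurj
  have h2 : Module.finrank k (Coh.HH X ((tl A).obj (Coh.structureModule X)) 1) =
      Module.finrank k (Coh.HH X A 1) :=
    (HHequiv k (Groth.Agent.Lib.Helper23.TensorUnit.tensorUnitIso A) 1).finrank_eq
  rw [h2] at h1
  exact h1


open Groth.Agent.Lib.Helper4.CurveChi in
/-- the dimension count for the pairing `H⁰(B) × H¹(A ⊗ B)^* → H¹(A)^*` -/
theorem clifford_aux [IsAlgClosed k] (hpid : PIDStalks X) (hdim : topologicalKrullDim X = 1) :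
    ∀ (n : ℕ) (A B : X.Modules), PicF.IsInvertible A → PicF.IsInvertible B →
      Module.finrank k (Coh.HH X A 1) = n → 0 < Module.finrank k (Coh.HH X B 0) →
      0 < Module.finrank k (Coh.HH X ((tl A).obj B) 1) →
      Module.finrank k (Coh.HH X B 0) + Module.finrank k (Coh.HH X ((tl A).obj B) 1) ≤ n + 1 := by
  intro n
  induction n with
  | zero =>
    intro A B hA hB hn h0 h1
    have := h1_tensor_le k X hdim A B hA hB h0
    omega
  | succ n ih =>
    intro A B hA hB hn h0 h1
    have hle := h1_tensor_le k X hdim A B hA hB h0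
    by_cases hB1 : Module.finrank k (Coh.HH X B 0) = 1
    · omega
    · have hA1 : Nontrivial (Coh.HH X A 1) :=
        Module.nontrivial_of_finrank_pos (R := k) (by omega)
      obtain ⟨p, hp, A', -, hA', ⟨e⟩, hnb⟩ := exists_generic_point k X hpid hdim
        (2 * (Curv2.genus k X : ℤ) - 1 - Curv2.deg k X A 1).toNat A hA hA1 (Int.self_le_toNat _) ∅
      have hA'1 := Groth.Agent.Lib.Helper23.SecTw.isFinLocFreeOfRank_one_of_isInvertible _ hA'
      have hh := (h1_twist k X hdim.le p hp A' hA'1).2 hnb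
      have hA'n : Module.finrank k (Coh.HH X A' 1) = n := by
        have : Module.finrank k (Coh.HH X ((tw A').obj (ClSub.idealMod (ptIdeal p hp))) 1) =
            Module.finrank k (Coh.HH X A 1) := (HHequiv k e 1).finrank_eq
        omega
      have hB1' := Groth.Agent.Lib.Helper23.SecTw.isFinLocFreeOfRank_one_of_isInvertible _ hB
      have hIp : PicF.IsInvertible (ClSub.idealMod (ptIdeal p hp)) :=
        isInvertible_idealMod k X hpid hdim (ptIdeal p hp) p (range_ptIdeal p hp).le
      have hB' : PicF.IsInvertible ((tw B).obj (ClSub.idealMod (ptIdeal p hp))) :=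
        Groth.Agent.Lib.Helper23.SecTw.isInvertible_tensorMod hIp hB
      have h0' := h0_le_twist_pt k X p hp B hB1'
      let ι : (tl A').obj ((tw B).obj (ClSub.idealMod (ptIdeal p hp))) ≅ (tl A).obj B :=
        (Groth.Agent.Lib.Helper23.LocGen.tensorAssoc A' (ClSub.idealMod (ptIdeal p hp)) B).symm ≪≫
          Groth.Agent.Lib.Helper23.AmpleIso.tensorModIso
            (Groth.Agent.Lib.Helper23.AmpleFam2.tensorBraid A' _ ≪≫ e) (Iso.refl B)
      have h1' : Module.finrank k
          (Coh.HH X ((tl A').obj ((tw B).obj (ClSub.idealMod (ptIdeal p hp)))) 1) =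
          Module.finrank k (Coh.HH X ((tl A).obj B) 1) := (HHequiv k ι 1).finrank_eq
      have := ih A' ((tw B).obj (ClSub.idealMod (ptIdeal p hp))) hA' hB' hA'n (by omega) (by omega)
      omega


open Groth.Agent.Lib.Helper4.CurveChi in
/-- **Clifford's inequality, without duality**: `h⁰(M) + h¹(M) ≤ g + 1` for an effective special `M` -/
theorem clifford [IsAlgClosed k] (hpid : PIDStalks X) (hdim : topologicalKrullDim X = 1)
    (M : X.Modules) (hM : PicF.IsInvertible M) (h0 : 0 < Module.finrank k (Coh.HH X M 0))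
    (h1 : 0 < Module.finrank k (Coh.HH X M 1)) :
    Module.finrank k (Coh.HH X M 0) + Module.finrank k (Coh.HH X M 1) ≤ Curv2.genus k X + 1 := by
  have hO := Groth.Agent.Lib.Helper23.TensorUnit.isInvertible_structureModule X
  have e : Module.finrank k (Coh.HH X ((tl (Coh.structureModule X)).obj M) 1) =
      Module.finrank k (Coh.HH X M 1) :=
    (HHequiv k (Groth.Agent.Lib.Helper23.TensorUnit.unitTensorIso M) 1).finrank_eq
  have h := clifford_aux k X hpid hdim (Curv2.genus k X) (Coh.structureModule X) M hO hM rfl h0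
    (by rw [e]; exact h1)
  rw [e] at h
  exact h

/-- `2 h⁰(M) ≤ deg M + 2` for an effective special `M` -/
theorem two_mul_h0_le [IsAlgClosed k] (hpid : PIDStalks X) (hdim : topologicalKrullDim X = 1)
    (M : X.Modules) (hM : PicF.IsInvertible M) (h0 : 0 < Module.finrank k (Coh.HH X M 0))
    (h1 : 0 < Module.finrank k (Coh.HH X M 1)) :
    2 * (Module.finrank k (Coh.HH X M 0) : ℤ) ≤ Curv2.deg k X M 1 + 2 := by
  haveI : IsLocallyNoetherian X := isLocallyNoetherian_of_proper k X
  have hc := clifford k X hpid hdim M hM h0 h1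
  have e1 := Groth.Agent.Lib.Helper4.CurveRR.euler_eq_h0_sub_h1 k X hdim.le M
    (isCoh_of_isInvertible M hM)
  have e2 := Groth.Agent.Lib.Helper4.CurveSpecial.euler_structureModule k X hdim
  rw [finrank_hh0_eq_one_of_isAlgClosed k X] at e2
  have hc' : (Module.finrank k (Coh.HH X M 0) : ℤ) + (Module.finrank k (Coh.HH X M 1) : ℤ) ≤
      (Curv2.genus k X : ℤ) + 1 := by exact_mod_cast hc
  unfold Curv2.deg
  rw [e1, e2]
  push_cast
  linarith

/-- `h⁰(M) = deg M + 1 - g` for a nonspecial `M` -/
theorem h0_eq_of_nonspecial [IsAlgClosed k] (hdim : topologicalKrullDim X = 1)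
    (M : X.Modules) (hM : PicF.IsInvertible M) (h1 : Module.finrank k (Coh.HH X M 1) = 0) :
    (Module.finrank k (Coh.HH X M 0) : ℤ) = Curv2.deg k X M 1 + 1 - (Curv2.genus k X : ℤ) := by
  haveI : IsLocallyNoetherian X := isLocallyNoetherian_of_proper k X
  have e1 := Groth.Agent.Lib.Helper4.CurveRR.euler_eq_h0_sub_h1 k X hdim.le M
    (isCoh_of_isInvertible M hM)
  have e2 := Groth.Agent.Lib.Helper4.CurveSpecial.euler_structureModule k X hdim
  rw [finrank_hh0_eq_one_of_isAlgClosed k X] at e2
  unfold Curv2.deg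
  rw [e1, e2, h1]
  push_cast
  linarith

/-- **S19205**: linear semistability inequality -/
theorem linear_semistable [IsAlgClosed k] (hpid : PIDStalks X) (hdim : topologicalKrullDim X = 1)
    (d : ℤ) (hd : 2 * (Curv2.genus k X : ℤ) ≤ d)
    (M : X.Modules) (hM : PicF.IsInvertible M) (m : ℕ) (hm : 1 ≤ m)
    (hsec : m + 1 ≤ Module.finrank k (Coh.HH X M 0)) (hdeg : Curv2.deg k X M 1 ≤ d) :
    d * (m : ℤ) ≤ Curv2.deg k X M 1 * (d - Curv2.genus k X) := by
  have hg : (0 : ℤ) ≤ (Curv2.genus k X : ℤ) := Int.natCast_nonneg _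
  have hm' : (1 : ℤ) ≤ (m : ℤ) := by exact_mod_cast hm
  have hsec' : (m : ℤ) + 1 ≤ (Module.finrank k (Coh.HH X M 0) : ℤ) := by exact_mod_cast hsec
  rcases Nat.eq_zero_or_pos (Module.finrank k (Coh.HH X M 1)) with h1 | h1
  · have h := h0_eq_of_nonspecial k X hdim M hM h1
    nlinarith
  · have h := two_mul_h0_le k X hpid hdim M hM (by omega) h1
    nlinarith

/-- **S19204**: linear stability inequality -/
theorem linear_stable [IsAlgClosed k] (hpid : PIDStalks X) (hdim : topologicalKrullDim X = 1)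
    (hg1 : 1 ≤ Curv2.genus k X) (d : ℤ) (hd : 2 * (Curv2.genus k X : ℤ) < d)
    (M : X.Modules) (hM : PicF.IsInvertible M) (m : ℕ) (hm : 1 ≤ m)
    (hsec : m + 1 ≤ Module.finrank k (Coh.HH X M 0)) (hdeg : Curv2.deg k X M 1 ≤ d)
    (hlt : Curv2.deg k X M 1 < d ∨ (m : ℤ) < d - Curv2.genus k X) :
    d * (m : ℤ) < Curv2.deg k X M 1 * (d - Curv2.genus k X) := by
  have hg : (1 : ℤ) ≤ (Curv2.genus k X : ℤ) := by exact_mod_cast hg1
  have hm' : (1 : ℤ) ≤ (m : ℤ) := by exact_mod_cast hm
  have hsec' : (m : ℤ) + 1 ≤ (Module.finrank k (Coh.HH X M 0) : ℤ) := by exact_mod_cast hsec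
  rcases Nat.eq_zero_or_pos (Module.finrank k (Coh.HH X M 1)) with h1 | h1
  · have h := h0_eq_of_nonspecial k X hdim M hM h1
    rcases hlt with hlt | hlt
    · nlinarith
    · rcases lt_or_eq_of_le hdeg with h' | h'
      · nlinarith
      · rw [h']
        have hdpos : 0 < d := by linarith
        exact mul_lt_mul_of_pos_left hlt hdpos
  · have h := two_mul_h0_le k X hpid hdim M hM (by omega) h1
    nlinarith

end Curve2

end Groth.Agent.Lib.Helper4.CurveCliff
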