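import Mathlib
import Groth.Agent.Lib.Helper4CurveAsym
import Groth.Agent.Lib.Helper10RedInd
import Groth.Agent.Lib.Helper23PB
import Groth.Agent.S11559

/-!
# Ampleness on proper schemes of dimension `≤ 1` through the irreducible components (helper4)

* `isAmple_of_dim_le_zero` : on a proper `k`-scheme of dimension `≤ 0` every invertible module is
  ample;
* `isAmple_pullback_iff` : ampleness on an integral closed subscheme of dimension one is positivity
  of the degree;
* `main` (S7642).
-/

set_option autoImplicit false
set_option linter.style.haveILetI false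
universe u
open CategoryTheory CategoryTheory.Limits AlgebraicGeometry TopologicalSpace Opposite

namespace Groth.Agent.Lib.Helper4.CurveComp

open Groth.Agent.Lib.Helper4.CurveAsym Groth.Agent.Lib.Helper6.CurveDeg

section

variable (k : Type u) [Field k] (X : Scheme.{u}) [X.Over (Spec (CommRingCat.of k))]
  [IsProper (X ↘ (Spec (CommRingCat.of k)))]

include k in
/-- on a proper `k`-scheme of dimension `≤ 0` every invertible module is ample -/
theorem isAmple_of_dim_le_zero (hdim : topologicalKrullDim X ≤ 0) (L : X.Modules)
    (hL : PicF.IsInvertible L) : CohB1.IsAmple L := by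
  rw [Groth.Agent.S0051.result k X (X ↘ (Spec (CommRingCat.of k))) L hL]
  intro M hM
  refine ⟨0, fun n _ p hp => ?_⟩
  have cT : Coh.IsCoh (CohB1.tensorMod M (CohB1.tensorPow L n)) :=
    isCoh_tensorMod X _ _ hM
      (isCoh_of_isInvertible _ (Groth.Agent.Lib.Helper23.SecTw.isInvertible_tensorPow hL n))
  exact Groth.Agent.S1526.result k X _ cT
    ((topologicalKrullDim_subspace_le X _).trans hdim) p hp

/-- ampleness on an integral closed subscheme of dimension one is positivity of the degree -/
theorem isAmple_pullback_iff (J : X.IdealSheafData) [IsIntegral J.subscheme]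
    (hdimJ : topologicalKrullDim J.subscheme = 1) (L : X.Modules) (hL : PicF.IsInvertible L) :
    CohB1.IsAmple ((Scheme.Modules.pullback J.subschemeι).obj L) ↔
      0 < @Curv2.deg k _ J.subscheme ⟨J.subschemeι ≫ (X ↘ (Spec (CommRingCat.of k)))⟩
        ((Scheme.Modules.pullback J.subschemeι).obj L) 1 := by
  letI : J.subscheme.Over (Spec (CommRingCat.of k)) :=
    ⟨J.subschemeι ≫ (X ↘ (Spec (CommRingCat.of k)))⟩
  haveI : IsProper (J.subscheme ↘ (Spec (CommRingCat.of k))) := by
    change IsProper (J.subschemeι ≫ (X ↘ (Spec (CommRingCat.of k))))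
    infer_instance
  exact isAmple_iff_deg_pos k J.subscheme hdimJ _
    (Groth.Agent.Lib.Helper23.PB.isInvertible_pullback J.subschemeι L hL)

include k in
/-- the same for a closed subscheme of dimension `≤ 0` -/
theorem isAmple_pullback_of_dim_le_zero (J : X.IdealSheafData)
    (hdimJ : topologicalKrullDim J.subscheme ≤ 0) (L : X.Modules) (hL : PicF.IsInvertible L) :
    CohB1.IsAmple ((Scheme.Modules.pullback J.subschemeι).obj L) := by
  letI : J.subscheme.Over (Spec (CommRingCat.of k)) :=
    ⟨J.subschemeι ≫ (X ↘ (Spec (CommRingCat.of k)))⟩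
  haveI : IsProper (J.subscheme ↘ (Spec (CommRingCat.of k))) := by
    change IsProper (J.subschemeι ≫ (X ↘ (Spec (CommRingCat.of k))))
    infer_instance
  exact isAmple_of_dim_le_zero k J.subscheme hdimJ _
    (Groth.Agent.Lib.Helper23.PB.isInvertible_pullback J.subschemeι L hL)

variable [IsNoetherian X]

omit [X.Over (Spec (CommRingCat.of k))] [IsProper (X ↘ (Spec (CommRingCat.of k)))] in
theorem isIntegral_radical_component (C : Set X) (hC : C ∈ irreducibleComponents (X : Type u)) :
    IsIntegral (X.irreducibleComponentIdeal C hC).radical.subscheme := by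
  haveI : IrreducibleSpace (X.irreducibleComponentIdeal C hC).radical.subscheme :=
    Subtype.irreducibleSpace hC.1
  haveI : IsReduced (X.irreducibleComponentIdeal C hC).radical.subscheme := by
    rw [← Scheme.IdealSheafData.vanishingIdeal_support]
    exact Groth.Agent.Lib.Helper10.RedInd.isReduced_subscheme_vanishingIdeal _
  exact isIntegral_of_irreducibleSpace_of_isReduced _

/-- **S7642** -/
theorem main (hdim : topologicalKrullDim X ≤ 1) (L : X.Modules) (hL : PicF.IsInvertible L) :
    CohB1.IsAmple L ↔ ∀ (C : Set X) (hC : C ∈ irreducibleComponents (X : Type u)),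
      topologicalKrullDim C = 1 →
        0 < @Curv2.deg k _ (X.irreducibleComponentIdeal C hC).radical.subscheme
          ⟨(X.irreducibleComponentIdeal C hC).radical.subschemeι ≫ (X ↘ (Spec (CommRingCat.of k)))⟩
          ((Scheme.Modules.pullback (X.irreducibleComponentIdeal C hC).radical.subschemeι).obj L) 1 := by
  rw [Groth.Agent.S11559.result k X L hL]
  constructor
  · intro h C hC hdimC
    have hZ := h (X.irreducibleComponentIdeal C hC).support hC
    rw [Scheme.IdealSheafData.vanishingIdeal_support] at hZ
    haveI := isIntegral_radical_component X C hC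
    exact (isAmple_pullback_iff k X (X.irreducibleComponentIdeal C hC).radical hdimC L hL).1 hZ
  · intro h Z hZ
    have hZI : Z = (X.irreducibleComponentIdeal (Z : Set X) hZ).support := Closeds.ext rfl
    have e : Scheme.IdealSheafData.vanishingIdeal Z =
        (X.irreducibleComponentIdeal (Z : Set X) hZ).radical := by
      rw [← Scheme.IdealSheafData.vanishingIdeal_support, ← hZI]
    rw [e]
    by_cases hd : topologicalKrullDim (Z : Set X) = 1
    · haveI := isIntegral_radical_component X (Z : Set X) hZ
      exact (isAmple_pullback_iff k X (X.irreducibleComponentIdeal (Z : Set X) hZ).radical hd L hL).2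
        (h (Z : Set X) hZ hd)
    · apply isAmple_pullback_of_dim_le_zero k X _ _ L hL
      have h1 : topologicalKrullDim (Z : Set X) ≤ 1 := (topologicalKrullDim_subspace_le X _).trans hdim
      have h2 : topologicalKrullDim (Z : Set X) < 1 := lt_of_le_of_ne h1 hd
      exact (Groth.Agent.Lib.Helper4.CurveDegT.lt_one_iff _).1 h2

end

end Groth.Agent.Lib.Helper4.CurveComp
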