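import Groth.Agent.Lib.Helper4CurveRk2
import Groth.Agent.Lib.Helper4CurveSat
import Groth.Agent.Lib.Helper4CohThick
import Groth.Agent.Lib.Helper17IAdic
import Groth.Agent.Lib.Helper23QAffSec

/-!
# Nonsplit extensions of line bundles `0 → L → E → M → 0` with `Hom(M, L) ≠ 0` are indecomposable
and not simple (helper6): S11819
-/

set_option autoImplicit false
set_option linter.style.haveILetI false
universe u
open CategoryTheory Limits AlgebraicGeometry Opposite TopologicalSpace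

namespace Groth.Agent.Lib.Helper6.ExtIndec

open Groth.Agent.Lib.Helper4.CurveBun Groth.Agent.Lib.Helper4.CurveStab Groth.Agent.Lib.Helper4.Dev
  Groth.Agent.Lib.Helper4.DegAdd Groth.Agent.Lib.Helper17.IAdic

/-- an extension of torsion-free modules is torsion-free -/
theorem isTorsionFree_of_exact {R M₁ M₂ M₃ : Type*} [CommRing R] [AddCommGroup M₁] [AddCommGroup M₂]
    [AddCommGroup M₃] [Module R M₁] [Module R M₂] [Module R M₃] (f : M₁ →ₗ[R] M₂) (g : M₂ →ₗ[R] M₃)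
    (hf : Function.Injective f) (hfg : Function.Exact f g)
    [Module.IsTorsionFree R M₁] [Module.IsTorsionFree R M₃] : Module.IsTorsionFree R M₂ where
  isSMulRegular r hr := by
    intro a b hab
    have hab' : r • a = r • b := hab
    rw [← sub_eq_zero]
    have hc : r • (a - b) = 0 := by rw [smul_sub, hab', sub_self]
    have h3 : g (a - b) = 0 := by
      apply hr.isSMulRegular (M := M₃)
      change r • g (a - b) = r • 0
      rw [← map_smul, hc, map_zero, smul_zero]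
    obtain ⟨d, hd⟩ := (hfg (a - b)).1 h3
    have h1 : d = 0 := by
      apply hr.isSMulRegular (M := M₁)
      change r • d = r • 0
      apply hf
      rw [map_smul, hd, hc, smul_zero, map_zero]
    rw [← hd, h1, map_zero]

variable (k : Type u) [Field k] (X : Scheme.{u}) [X.Over (Spec (CommRingCat.of k))]
  [IsIntegral X] [IsProper (X ↘ (Spec (CommRingCat.of k)))]

include k in
/-- an extension of bundles is a bundle -/
theorem bundle_of_ext (hpid : PIDStalks X) (S : ShortComplex X.Modules) (hS : S.ShortExact)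
    (r₁ r₃ : ℕ) (h₁ : FlatMod.IsFinLocFreeOfRank r₁ S.X₁) (h₃ : FlatMod.IsFinLocFreeOfRank r₃ S.X₃) :
    FlatMod.IsFinLocFreeOfRank (r₁ + r₃) S.X₂ := by
  haveI : IsLocallyNoetherian X := isLocallyNoetherian_of_proper k X
  have := hS.mono_f
  have c₂ : Coh.IsCoh S.X₂ := Groth.Agent.Lib.Helper4.CohThick.isCoh_of_shortExact S hS
    (isCoh_of_isFinLocFreeOfRank _ _ h₁) (isCoh_of_isFinLocFreeOfRank _ _ h₃)
  have htf : TorSh.IsTorsionFree S.X₂ := by
    intro y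
    obtain ⟨hf1, -, -⟩ := Groth.Agent.Lib.Helper4.KTensor.stalk_of_isFinLocFreeOfRank S.X₁ r₁ h₁ y
    obtain ⟨hf3, -, -⟩ := Groth.Agent.Lib.Helper4.KTensor.stalk_of_isFinLocFreeOfRank S.X₃ r₃ h₃ y
    haveI := hf1
    haveI := hf3
    exact isTorsionFree_of_exact (stalkL S.f y) (stalkL S.g y) (stalkL_injective_of_mono S.f y)
      (stalkL_exact S hS y)
  obtain ⟨r', hr'⟩ := Groth.Agent.Lib.Helper4.CurveSat.isFinLocFreeOfRank_of_torsionFree hpid c₂ htf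
  have := rank_add_of_shortExact S hS r₁ r' r₃ h₁ hr' h₃
  rw [← this]
  exact hr'

include k in
/-- a direct summand of a bundle is a bundle -/
theorem summand_bundle (hpid : PIDStalks X) {E N : X.Modules} (r : ℕ)
    (hE : FlatMod.IsFinLocFreeOfRank r E) (ι : N ⟶ E) (π : E ⟶ N) (h : ι ≫ π = 𝟙 N) :
    ∃ b : ℕ, b ≤ r ∧ FlatMod.IsFinLocFreeOfRank b N := by
  haveI : IsLocallyNoetherian X := isLocallyNoetherian_of_proper k X
  haveI : Mono ι := mono_of_mono_fac h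
  haveI : Epi π := epi_of_epi_fac h
  have cE := isCoh_of_isFinLocFreeOfRank _ _ hE
  have cI : Coh.IsCoh (Abelian.image (π ≫ ι)) := isCoh_image (π ≫ ι) cE cE
  haveI : StrongEpi π := strongEpi_of_epi π
  have e : N ≅ Abelian.image (π ≫ ι) :=
    Limits.image.isoStrongEpiMono π ι rfl ≪≫ (Abelian.imageIsoImage (π ≫ ι)).symm
  exact isFinLocFreeOfRank_of_mono hpid ι (isCoh_of_iso e.symm cI) r hE

omit [IsIntegral X] in
/-- the split short exact sequence of a biproduct decomposition -/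
theorem shortExact_of_iso_biprod {E E₁ E₂ : X.Modules} (e : E ≅ E₁ ⊞ E₂) :
    (ShortComplex.mk (biprod.inl ≫ e.inv : E₁ ⟶ E) (e.hom ≫ biprod.snd : E ⟶ E₂)
      (by simp)).ShortExact := by
  refine ShortComplex.Splitting.shortExact
    { r := e.hom ≫ biprod.fst
      s := biprod.inr ≫ e.inv
      f_r := by simp
      s_g := by simp
      id := ?_ }
  change (e.hom ≫ biprod.fst) ≫ (biprod.inl ≫ e.inv) + (e.hom ≫ biprod.snd) ≫ (biprod.inr ≫ e.inv) = 𝟙 E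
  have : (e.hom ≫ biprod.fst) ≫ (biprod.inl ≫ e.inv) + (e.hom ≫ biprod.snd) ≫ (biprod.inr ≫ e.inv) =
      e.hom ≫ (biprod.fst ≫ biprod.inl + biprod.snd ≫ biprod.inr) ≫ e.inv := by
    simp only [Preadditive.comp_add, Preadditive.add_comp, Category.assoc]
  rw [this, biprod.total, Category.id_comp, e.hom_inv_id]

include k in
/-- case B: a line bundle summand contained in `L` splits the sequence -/
theorem split_of_summand_le (hpid : PIDStalks X) (hdim : topologicalKrullDim X = 1)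
    (S : ShortComplex X.Modules) (hS : S.ShortExact)
    (hL : FlatMod.IsFinLocFreeOfRank 1 S.X₁) (N : X.Modules) (hN : FlatMod.IsFinLocFreeOfRank 1 N)
    (ι : N ⟶ S.X₂) (π : S.X₂ ⟶ N) (hιπ : ι ≫ π = 𝟙 N) (h0 : ι ≫ S.g = 0) : IsSplitEpi S.g := by
  have := hS.mono_f
  have := hS.epi_g
  have hNz : ¬ IsZero N := Groth.Agent.Lib.Helper4.CurveHN.not_isZero_of_rank_pos X N 1 Nat.one_pos hN
  have hj : hS.exact.lift ι h0 ≫ S.f = ι := hS.exact.lift_f ι h0
  have hjπ : hS.exact.lift ι h0 ≫ (S.f ≫ π) = 𝟙 N := by rw [← Category.assoc, hj, hιπ]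
  have hj0 : hS.exact.lift ι h0 ≠ 0 := by
    intro h
    rw [h, zero_comp] at hjπ
    exact hNz ((IsZero.iff_id_eq_zero N).2 hjπ.symm)
  have hπ0 : S.f ≫ π ≠ 0 := by
    intro h
    rw [h, comp_zero] at hjπ
    exact hNz ((IsZero.iff_id_eq_zero N).2 hjπ.symm)
  obtain ⟨-, hd1, hiso⟩ := Groth.Agent.Lib.Helper4.CurveRk2.hom_rank_one k X hpid hdim hN hL _ hj0
  obtain ⟨-, hd2, -⟩ := Groth.Agent.Lib.Helper4.CurveRk2.hom_rank_one k X hpid hdim hL hN _ hπ0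
  haveI : IsIso (hS.exact.lift ι h0) := hiso (le_antisymm hd1 hd2)
  have hfr : S.f ≫ (π ≫ hS.exact.lift ι h0) = 𝟙 S.X₁ := by
    have h1 : S.f ≫ π = inv (hS.exact.lift ι h0) := by
      rw [← cancel_epi (hS.exact.lift ι h0), hjπ, IsIso.hom_inv_id]
    rw [← Category.assoc, h1, IsIso.inv_hom_id]
  let sp := ShortComplex.Splitting.ofExactOfRetraction S hS.exact _ hfr inferInstance
  exact ⟨⟨sp.s, sp.s_g⟩⟩

/-- a nonsplit extension `0 → L → E → M → 0` of line bundles with `deg M ≤ deg L` is indecomposable -/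
theorem indecomposable_of_nonsplit (hpid : PIDStalks X) (hdim : topologicalKrullDim X = 1)
    (S : ShortComplex X.Modules) (hS : S.ShortExact)
    (hL : FlatMod.IsFinLocFreeOfRank 1 S.X₁) (hM : FlatMod.IsFinLocFreeOfRank 1 S.X₃)
    (hdeg : Curv2.deg k X S.X₃ 1 ≤ Curv2.deg k X S.X₁ 1) (hns : ¬ IsSplitEpi S.g)
    (E₁ E₂ : X.Modules) (e : S.X₂ ≅ E₁ ⊞ E₂) : IsZero E₁ ∨ IsZero E₂ := by
  by_contra hcon
  push Not at hcon
  obtain ⟨hz1, hz2⟩ := hcon
  have hE : FlatMod.IsFinLocFreeOfRank (1 + 1) S.X₂ := bundle_of_ext k X hpid S hS 1 1 hL hM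
  obtain ⟨b₁, -, hE₁⟩ := summand_bundle k X hpid (1 + 1) hE (biprod.inl ≫ e.inv : E₁ ⟶ S.X₂)
    (e.hom ≫ biprod.fst) (by simp)
  obtain ⟨b₂, -, hE₂⟩ := summand_bundle k X hpid (1 + 1) hE (biprod.inr ≫ e.inv : E₂ ⟶ S.X₂)
    (e.hom ≫ biprod.snd) (by simp)
  have hS' := shortExact_of_iso_biprod X e
  have hadd := rank_add_of_shortExact _ hS' b₁ (1 + 1) b₂ hE₁ hE hE₂
  have hb₁ : b₁ ≠ 0 := by
    rintro rfl
    exact hz1 (isZero_of_rank_zero _ hE₁)
  have hb₂ : b₂ ≠ 0 := by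
    rintro rfl
    exact hz2 (isZero_of_rank_zero _ hE₂)
  have h1 : b₁ = 1 := by omega
  have h2 : b₂ = 1 := by omega
  subst h1
  subst h2
  have hd' := deg_additive k X _ hS' 1 (1 + 1) 1 hE₁ hE hE₂
  have hd := deg_additive k X S hS 1 (1 + 1) 1 hL hE hM
  change Curv2.deg k X S.X₂ (1 + 1) = Curv2.deg k X E₁ 1 + Curv2.deg k X E₂ 1 at hd'
  by_cases c1 : (biprod.inl ≫ e.inv : E₁ ⟶ S.X₂) ≫ S.g = 0
  · exact hns (split_of_summand_le k X hpid hdim S hS hL E₁ hE₁ _ (e.hom ≫ biprod.fst) (by simp) c1)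
  by_cases c2 : (biprod.inr ≫ e.inv : E₂ ⟶ S.X₂) ≫ S.g = 0
  · exact hns (split_of_summand_le k X hpid hdim S hS hL E₂ hE₂ _ (e.hom ≫ biprod.snd) (by simp) c2)
  obtain ⟨-, hd1, hiso1⟩ := Groth.Agent.Lib.Helper4.CurveRk2.hom_rank_one k X hpid hdim hE₁ hM _ c1
  obtain ⟨-, hd2, hiso2⟩ := Groth.Agent.Lib.Helper4.CurveRk2.hom_rank_one k X hpid hdim hE₂ hM _ c2
  have hlt1 : Curv2.deg k X E₁ 1 < Curv2.deg k X S.X₃ 1 := by
    refine lt_of_le_of_ne hd1 (fun heq => hns ?_)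
    haveI := hiso1 heq
    exact ⟨⟨inv ((biprod.inl ≫ e.inv : E₁ ⟶ S.X₂) ≫ S.g) ≫ (biprod.inl ≫ e.inv),
      by rw [Category.assoc, IsIso.inv_hom_id]⟩⟩
  have hlt2 : Curv2.deg k X E₂ 1 < Curv2.deg k X S.X₃ 1 := by
    refine lt_of_le_of_ne hd2 (fun heq => hns ?_)
    haveI := hiso2 heq
    exact ⟨⟨inv ((biprod.inr ≫ e.inv : E₂ ⟶ S.X₂) ≫ S.g) ≫ (biprod.inr ≫ e.inv),
      by rw [Category.assoc, IsIso.inv_hom_id]⟩⟩
  omega

/-- S11819 -/
theorem main [IsAlgClosed k] [Smooth (X ↘ Spec (CommRingCat.of k))]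
    (hdim : topologicalKrullDim X = 1)
    (S : ShortComplex X.Modules) (hS : S.ShortExact)
    (hL : PicF.IsInvertible S.X₁) (hM : PicF.IsInvertible S.X₃)
    (g : S.X₃ ⟶ S.X₁) (hg : g ≠ 0) (hns : ¬ IsSplitEpi S.g) :
    (¬ IsZero S.X₂ ∧ ∀ (E₁ E₂ : X.Modules), Nonempty (S.X₂ ≅ E₁ ⊞ E₂) → IsZero E₁ ∨ IsZero E₂) ∧
      ∃ φ : S.X₂ ⟶ S.X₂, ∀ c : k, (SheafOfModules.toSheaf X.ringCatSheaf).map φ ≠
        Coh.smulAb S.X₂ (Coh.toGlobal (X ↘ Spec (CommRingCat.of k)) c) := by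
  have hpid : PIDStalks X := pidStalks_of_smooth k X (X ↘ Spec (CommRingCat.of k)) hdim.le
  have hL1 := Groth.Agent.Lib.Helper23.SecTw.isFinLocFreeOfRank_one_of_isInvertible S.X₁ hL
  have hM1 := Groth.Agent.Lib.Helper23.SecTw.isFinLocFreeOfRank_one_of_isInvertible S.X₃ hM
  have := hS.mono_f
  have := hS.epi_g
  obtain ⟨hgm, hdeg, -⟩ := Groth.Agent.Lib.Helper4.CurveRk2.hom_rank_one k X hpid hdim hM1 hL1 g hg
  have hLz : ¬ IsZero S.X₁ :=
    Groth.Agent.Lib.Helper4.CurveHN.not_isZero_of_rank_pos X S.X₁ 1 Nat.one_pos hL1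
  have hEz : ¬ IsZero S.X₂ := by
    intro hz
    apply hLz
    exact IsZero.of_mono_eq_zero S.f (hz.eq_of_tgt _ _)
  refine ⟨⟨hEz, fun E₁ E₂ ⟨e⟩ =>
    indecomposable_of_nonsplit k X hpid hdim S hS hL1 hM1 hdeg hns E₁ E₂ e⟩, ?_⟩
  refine ⟨S.g ≫ g ≫ S.f, fun c hc => ?_⟩
  have hφ : S.g ≫ g ≫ S.f = Formal.smulMod k S.X₂ c := by
    apply (SheafOfModules.toSheaf X.ringCatSheaf).map_injective
    rw [hc]
    rfl
  have hφ0 : S.g ≫ g ≫ S.f ≠ 0 := by
    intro h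
    apply hg
    rw [← cancel_epi S.g, ← cancel_mono S.f, Category.assoc, h, comp_zero, zero_comp]
  have hφ2 : (S.g ≫ g ≫ S.f) ≫ (S.g ≫ g ≫ S.f) = 0 := by
    have : (S.g ≫ g ≫ S.f) ≫ (S.g ≫ g ≫ S.f) = S.g ≫ g ≫ (S.f ≫ S.g) ≫ g ≫ S.f := by
      simp only [Category.assoc]
    rw [this, S.zero, zero_comp, comp_zero, comp_zero]
  by_cases hc0 : c = 0
  · apply hφ0
    rw [hφ, hc0, smulMod_zero]
  · apply hEz
    rw [IsZero.iff_id_eq_zero]
    rw [hφ, ← smulMod_mul'] at hφ2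
    have h1 : Formal.smulMod k S.X₂ (c * c * (c * c)⁻¹) = 0 := by
      rw [smulMod_mul', hφ2, zero_comp]
    rw [mul_inv_cancel₀ (mul_ne_zero hc0 hc0), smulMod_one] at h1
    exact h1

end Groth.Agent.Lib.Helper6.ExtIndec
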