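import Groth.Agent.Lib.Helper6H0Crit
import Groth.Agent.Lib.Helper6ExtIndec

/-!
# Rank two bundles on curves of genus one (Atiyah) (helper6): S11833, S11825
-/

set_option autoImplicit false
set_option linter.style.haveILetI false
universe u
open CategoryTheory Limits AlgebraicGeometry Opposite TopologicalSpace

namespace Groth.Agent.Lib.Helper6.Atiyah

open Groth.Agent.Lib.Helper4.CurveBun Groth.Agent.Lib.Helper4.DegAdd Groth.Agent.Lib.Helper4.CurveRR
  Groth.Agent.Lib.Helper4.Dev Groth.Agent.Lib.Helper6.CurveDeg Groth.Agent.Lib.Helper27ExtDual1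
  Groth.Agent.Lib.Helper4.CurveStab Groth.Agent.Lib.Helper6.SSVanish Groth.Agent.Lib.Helper23.SecTw
  Groth.Agent.Lib.Helper17.IAdic Groth.Agent.Lib.Helper27GlobGenPn

section Gen

variable (k : Type u) [Field k] {X : Scheme.{u}} [X.Over (Spec (CommRingCat.of k))]

/-- a nonzero nilpotent endomorphism `E ⟶ M ⟶ L ⟶ E` is not a scalar -/
theorem nonscalar_of_nilp (S : ShortComplex X.Modules) (hS : S.ShortExact) (g : S.X₃ ⟶ S.X₁)
    (hg : g ≠ 0) (c : k) : S.g ≫ g ≫ S.f ≠ Formal.smulMod k S.X₂ c := by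
  have := hS.mono_f
  have := hS.epi_g
  intro hφ
  have hφ0 : S.g ≫ g ≫ S.f ≠ 0 := by
    intro h
    apply hg
    rw [← cancel_epi S.g, ← cancel_mono S.f, Category.assoc, h, comp_zero, zero_comp]
  have hφ2 : (S.g ≫ g ≫ S.f) ≫ (S.g ≫ g ≫ S.f) = 0 := by
    have : (S.g ≫ g ≫ S.f) ≫ (S.g ≫ g ≫ S.f) = S.g ≫ g ≫ (S.f ≫ S.g) ≫ g ≫ S.f := by
      simp only [Category.assoc]
    rw [this, S.zero, zero_comp, comp_zero, comp_zero]
  by_cases hc0 : c = 0
  · apply hφ0
    rw [hφ, hc0, smulMod_zero]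
  · apply hφ0
    rw [hφ, ← smulMod_mul'] at hφ2
    have h1 : Formal.smulMod k S.X₂ (c * c * (c * c)⁻¹) = 0 := by
      rw [smulMod_mul', hφ2, zero_comp]
    rw [mul_inv_cancel₀ (mul_ne_zero hc0 hc0), smulMod_one] at h1
    rw [← Category.comp_id (S.g ≫ g ≫ S.f), h1, comp_zero]

/-- the idempotent of a split extension with nonzero ends is not a scalar -/
theorem nonscalar_of_split (S : ShortComplex X.Modules) (hS : S.ShortExact) (σ : S.X₃ ⟶ S.X₂)
    (hσ : σ ≫ S.g = 𝟙 S.X₃) (h1 : ¬ IsZero S.X₁) (h3 : ¬ IsZero S.X₃) (c : k) :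
    S.g ≫ σ ≠ Formal.smulMod k S.X₂ c := by
  have := hS.mono_f
  have := hS.epi_g
  intro hφ
  have hidem : (S.g ≫ σ) ≫ (S.g ≫ σ) = S.g ≫ σ := by
    rw [Category.assoc, ← Category.assoc σ, hσ, Category.id_comp]
  have hc : Formal.smulMod k S.X₂ (c * c - c) = 0 := by
    rw [sub_eq_add_neg, smulMod_add, smulMod_mul', ← hφ, hidem]
    have : Formal.smulMod k S.X₂ (-c) = - Formal.smulMod k S.X₂ c := by
      have h := smulMod_add (A := k) S.X₂ c (-c)
      rw [add_neg_cancel, smulMod_zero] at h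
      exact (neg_eq_of_add_eq_zero_right h.symm).symm
    rw [this, ← hφ, add_neg_cancel]
  by_cases hcc : c * c - c = 0
  · have hc01 : c = 0 ∨ c = 1 := by
      have : c * (c - 1) = 0 := by rw [mul_sub, mul_one]; exact hcc
      rcases mul_eq_zero.1 this with h | h
      · exact Or.inl h
      · exact Or.inr (sub_eq_zero.1 h)
    rcases hc01 with rfl | rfl
    · apply h3
      rw [IsZero.iff_id_eq_zero, ← hσ, ← cancel_epi S.g, ← Category.assoc, hφ, smulMod_zero, zero_comp,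
        comp_zero]
    · apply h1
      rw [IsZero.iff_id_eq_zero, ← cancel_mono S.f, Category.id_comp, zero_comp]
      have : S.f = S.f ≫ (S.g ≫ σ) := by rw [hφ, smulMod_one, Category.comp_id]
      rw [this, ← Category.assoc, S.zero, zero_comp]
  · apply h3
    have hE : IsZero S.X₂ := by
      rw [IsZero.iff_id_eq_zero]
      have h2 : Formal.smulMod k S.X₂ ((c * c - c) * (c * c - c)⁻¹) = 0 := by
        rw [smulMod_mul', hc, zero_comp]
      rwa [mul_inv_cancel₀ hcc, smulMod_one] at h2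
    exact IsZero.of_epi S.g hE


/-- an extension with invertible quotient `M` splits if `H¹(A ⊗ M^∨) = 0` -/
theorem split_of_H1 (S : ShortComplex X.Modules) (hS : S.ShortExact) (hM : PicF.IsInvertible S.X₃)
    (h : Subsingleton (Coh.HH X (CohB1.tensorMod S.X₁ (RefHull.dual S.X₃)) 1)) : IsSplitEpi S.g := by
  have hDinv := Groth.Agent.Lib.Helper23.InvDual.isInvertible_dual S.X₃ hM
  have hD1 := isFinLocFreeOfRank_one_of_isInvertible _ hDinv
  have hDflat := Groth.Agent.Lib.Helper4.CurveChi.isFlat_of_isFinLocFreeOfRank _ 1 hD1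
  obtain ⟨e₀⟩ := Groth.Agent.Lib.Helper23.InvDual.nonempty_tensorMod_dual_iso S.X₃ hM
  obtain ⟨ν, hν⟩ := Groth.Agent.Lib.Helper27LinRes.exists_untwist (RefHull.dual S.X₃) S.X₃
    (Groth.Agent.Lib.Helper23.AmpleFam2.tensorBraid _ _ ≪≫ e₀)
  have hS' := Groth.Agent.Lib.Helper6.SimpleSub.shortExact_map_tw S hS (RefHull.dual S.X₃) hDflat
  obtain ⟨t, ht⟩ : ∃ t : Coh.structureModule X ⟶ CohB1.tensorMod S.X₂ (RefHull.dual S.X₃),
      t ≫ wl S.g (RefHull.dual S.X₃) = e₀.inv :=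
    Groth.Agent.Lib.Helper6.SimpleSub.exists_lift_of_H1 _ hS' h e₀.inv
  let α : S.X₃ ⟶ S.X₃ := (Groth.Agent.Lib.Helper23.TensorUnit.unitTensorIso S.X₃).inv ≫
    wl e₀.inv S.X₃ ≫ (ν S.X₃).hom
  haveI : IsIso (wl e₀.inv S.X₃) :=
    (inferInstance : IsIso ((Groth.Agent.Lib.Helper27SerreVan.tw S.X₃).map e₀.inv))
  haveI : IsIso α := by
    change IsIso (_ ≫ _ ≫ _)
    infer_instance
  have hσ : ((Groth.Agent.Lib.Helper23.TensorUnit.unitTensorIso S.X₃).inv ≫ wl t S.X₃ ≫ (ν S.X₂).hom) ≫ S.g = α := by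
    rw [Category.assoc, Category.assoc, ← hν S.g, ← Category.assoc (wl t S.X₃), ← wl_comp, ht]
  exact IsSplitEpi.mk' ⟨inv α ≫ (Groth.Agent.Lib.Helper23.TensorUnit.unitTensorIso S.X₃).inv ≫ wl t S.X₃ ≫ (ν S.X₂).hom,
    by rw [Category.assoc, hσ, IsIso.inv_hom_id]⟩

/-- a nonzero section of `E ⊗ J` gives a nonzero map `J' ⟶ E` when `J ⊗ J' ≅ O` -/
theorem exists_hom_of_section (J J' : X.Modules) (e : CohB1.tensorMod J J' ≅ Coh.structureModule X)
    (E : X.Modules) (t : Coh.structureModule X ⟶ CohB1.tensorMod E J) (ht : t ≠ 0) :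
    ∃ t' : J' ⟶ E, t' ≠ 0 := by
  obtain ⟨ν, hν⟩ := Groth.Agent.Lib.Helper27LinRes.exists_untwist J J' e
  obtain ⟨ν', hν'⟩ := Groth.Agent.Lib.Helper27LinRes.exists_untwist J' J
    (Groth.Agent.Lib.Helper23.AmpleFam2.tensorBraid _ _ ≪≫ e)
  refine ⟨(Groth.Agent.Lib.Helper23.TensorUnit.unitTensorIso J').inv ≫ wl t J' ≫ (ν E).hom, ?_⟩
  intro h
  apply ht
  have h1 : wl t J' = 0 := by
    rw [← cancel_epi (Groth.Agent.Lib.Helper23.TensorUnit.unitTensorIso J').inv,
      ← cancel_mono (ν E).hom, Category.assoc, h, comp_zero, zero_comp]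
  have h2 := hν' t
  have h3 : wl (wl t J') J = 0 := by
    rw [h1]
    exact (Groth.Agent.Lib.Helper27SerreVan.tw J).map_zero _ _
  rw [h3, zero_comp] at h2
  rw [← cancel_epi (ν' (Coh.structureModule X)).hom, ← h2, comp_zero]

/-- a nonzero map `A ⟶ E ⊗ J` gives a nonzero map `A ⊗ J' ⟶ E` when `J ⊗ J' ≅ O` -/
theorem exists_hom_of_hom (J J' : X.Modules) (e : CohB1.tensorMod J J' ≅ Coh.structureModule X)
    (A E : X.Modules) (t : A ⟶ CohB1.tensorMod E J) (ht : t ≠ 0) :
    ∃ t' : CohB1.tensorMod A J' ⟶ E, t' ≠ 0 := by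
  obtain ⟨ν, hν⟩ := Groth.Agent.Lib.Helper27LinRes.exists_untwist J J' e
  obtain ⟨ν', hν'⟩ := Groth.Agent.Lib.Helper27LinRes.exists_untwist J' J
    (Groth.Agent.Lib.Helper23.AmpleFam2.tensorBraid _ _ ≪≫ e)
  refine ⟨wl t J' ≫ (ν E).hom, ?_⟩
  intro h
  apply ht
  have h1 : wl t J' = 0 := by
    rw [← cancel_mono (ν E).hom, h, zero_comp]
  have h2 := hν' t
  have h3 : wl (wl t J') J = 0 := by
    rw [h1]
    exact (Groth.Agent.Lib.Helper27SerreVan.tw J).map_zero _ _
  rw [h3, zero_comp] at h2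
  rw [← cancel_epi (ν' A).hom, ← h2, comp_zero]

end Gen

theorem epi_of_sigma_factor {C : Type*} [Category C] {ι : Type*} (f : ι → C) [HasCoproduct f]
    {A E : C} (p : ∐ f ⟶ E) [Epi p] (q : A ⟶ E)
    (h : ∀ i, ∃ t : f i ⟶ A, t ≫ q = Sigma.ι f i ≫ p) : Epi q := by
  choose t ht using h
  have hfac : Sigma.desc t ≫ q = p := by
    apply Sigma.hom_ext
    intro i
    rw [← Category.assoc, Sigma.ι_desc, ht]
  exact epi_of_epi_fac hfac

section Curve

variable (k : Type u) [Field k] (X : Scheme.{u}) [X.Over (Spec (CommRingCat.of k))]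
  [IsIntegral X] [IsProper (X ↘ (Spec (CommRingCat.of k)))]

omit [IsIntegral X] in
/-- the degree of the dual of a line bundle -/
theorem deg_dual (hdim : topologicalKrullDim X = 1) (N : X.Modules) (hN : PicF.IsInvertible N) :
    Curv2.deg k X (RefHull.dual N) 1 = - Curv2.deg k X N 1 := by
  have hN1 := isFinLocFreeOfRank_one_of_isInvertible N hN
  have hDinv := Groth.Agent.Lib.Helper23.InvDual.isInvertible_dual N hN
  obtain ⟨e₀⟩ := Groth.Agent.Lib.Helper23.InvDual.nonempty_tensorMod_dual_iso N hN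
  have hD1 := isFinLocFreeOfRank_one_of_isInvertible _ hDinv
  have hdND := Groth.Agent.Lib.Helper4.CurveDegT.deg_tensor k X hdim.le 1 1 N (RefHull.dual N) hN1 hD1
  rw [Groth.Agent.Lib.Helper4.CurveSSAb.deg_congr_iso k X e₀ (1 * 1)] at hdND
  have hdO : Curv2.deg k X (Coh.structureModule X) (1 * 1) = 0 := by
    unfold Curv2.deg
    push_cast
    ring
  rw [hdO] at hdND
  push_cast at hdND
  linarith

/-- line bundles of every degree exist -/
theorem exists_invertible_deg [IsAlgClosed k] (hpid : PIDStalks X) (hdim : topologicalKrullDim X = 1)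
    (m : ℤ) : ∃ T : X.Modules, PicF.IsInvertible T ∧ Curv2.deg k X T 1 = m := by
  obtain ⟨N, hN, hNd⟩ := Groth.Agent.Lib.Helper6.PointIdeal.exists_invertible_deg_neg_one k X hpid hdim
  have hD := Groth.Agent.Lib.Helper23.InvDual.isInvertible_dual N hN
  rcases le_or_gt 0 m with hm | hm
  · refine ⟨CohB1.tensorPow (RefHull.dual N) m.toNat, isInvertible_tensorPow hD _, ?_⟩
    rw [Groth.Agent.Lib.Helper4.CurveAsym.deg_tensorPow k X hdim.le _ hD, deg_dual k X hdim N hN, hNd,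
      neg_neg, mul_one, Int.toNat_of_nonneg hm]
  · refine ⟨CohB1.tensorPow N (-m).toNat, isInvertible_tensorPow hN _, ?_⟩
    rw [Groth.Agent.Lib.Helper4.CurveAsym.deg_tensorPow k X hdim.le _ hN, hNd,
      Int.toNat_of_nonneg (by omega)]
    ring

open Groth.Agent.Lib.Helper6.PointIdeal Groth.Agent.Lib.Helper6.TwistSS Groth.Agent.Lib.Helper6.GGCurve
  Groth.Agent.Lib.Helper21.ExtCartier Groth.Agent.Lib.Helper4.CurveAsym in
/-- genus one: a rank two bundle of degree two has a nonzero section vanishing at some point -/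
theorem exists_section_vanishing [IsAlgClosed k] (hpid : PIDStalks X) (hdim : topologicalKrullDim X = 1)
    (hg : Curv2.genus k X = 1) (E : X.Modules) (hE : FlatMod.IsFinLocFreeOfRank 2 E)
    (hdeg : Curv2.deg k X E 2 = 2) :
    ∃ (p : X) (hp : IsClosed ({p} : Set X)), ∃ t : Coh.structureModule X ⟶
      CohB1.tensorMod (ClSub.idealMod (Scheme.IdealSheafData.vanishingIdeal ⟨{p}, hp⟩)) E, t ≠ 0 := by
  by_contra hcon
  push Not at hcon
  haveI : IsLocallyNoetherian X := isLocallyNoetherian_of_proper k X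
  haveI : AlgebraicGeometry.IsNoetherian X := isNoetherian_of_proper k X
  haveI : Nonempty X := nonempty_of_dim_eq_one hdim
  have hχO : Curv2.euler k X (Coh.structureModule X) = 0 := by
    rw [Groth.Agent.Lib.Helper6.H0Semi.euler_structureModule k X hdim, hg]
    simp
  have cE := isCoh_of_isFinLocFreeOfRank E 2 hE
  have hχE : Curv2.euler k X E = 2 := by
    unfold Curv2.deg at hdeg
    rw [hχO] at hdeg
    linarith
  -- vanishing of `H⁰` and `H¹` of `I_p ⊗ E`
  have hI : ∀ (p : X) (hp : IsClosed ({p} : Set X)),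
      Curv2.euler k X (CohB1.tensorMod (ClSub.idealMod (Scheme.IdealSheafData.vanishingIdeal ⟨{p}, hp⟩)) E) = 0 ∧
      Subsingleton (Coh.HH X (CohB1.tensorMod (ClSub.idealMod
        (Scheme.IdealSheafData.vanishingIdeal ⟨{p}, hp⟩)) E) 0) ∧
      Subsingleton (Coh.HH X (CohB1.tensorMod (ClSub.idealMod
        (Scheme.IdealSheafData.vanishingIdeal ⟨{p}, hp⟩)) E) 1) := by
    intro p hp
    obtain ⟨hIinv, hIdeg⟩ := idealMod_point k X hpid hdim p hp
    obtain ⟨hIE, hdIE⟩ := twist_rank_deg k X hpid hdim _ hIinv 2 E hE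
    have cIE := isCoh_of_isFinLocFreeOfRank _ 2 hIE
    have h0 : Subsingleton (Coh.HH X (CohB1.tensorMod (ClSub.idealMod
        (Scheme.IdealSheafData.vanishingIdeal ⟨{p}, hp⟩)) E) 0) := by
      refine ⟨fun x y => ?_⟩
      have hx := hcon p hp ((homH0Equiv k _).symm x)
      have hy := hcon p hp ((homH0Equiv k _).symm y)
      have h := congrArg (homH0Equiv k _) (hx.trans hy.symm)
      simpa using h
    have hχ := euler_eq_h0_sub_h1 k X hdim.le _ cIE
    have hχ0 : Curv2.euler k X (CohB1.tensorMod (ClSub.idealMod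
        (Scheme.IdealSheafData.vanishingIdeal ⟨{p}, hp⟩)) E) = 0 := by
      unfold Curv2.deg at hdIE
      rw [hχO, hχE] at hdIE
      unfold Curv2.deg at hIdeg
      rw [hχO] at hIdeg
      push_cast at hdIE hIdeg
      linarith
    refine ⟨hχ0, h0, ?_⟩
    haveI : Module.Finite k (Coh.HH X (CohB1.tensorMod (ClSub.idealMod
        (Scheme.IdealSheafData.vanishingIdeal ⟨{p}, hp⟩)) E) 1) := Groth.Agent.S0002.result k X _ cIE 1
    have hfr : Module.finrank k (Coh.HH X (CohB1.tensorMod (ClSub.idealMod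
        (Scheme.IdealSheafData.vanishingIdeal ⟨{p}, hp⟩)) E) 1) = 0 := by
      have h00 : Module.finrank k (Coh.HH X (CohB1.tensorMod (ClSub.idealMod
        (Scheme.IdealSheafData.vanishingIdeal ⟨{p}, hp⟩)) E) 0) = 0 := Module.finrank_zero_of_subsingleton
      rw [hχ0, h00] at hχ
      push_cast at hχ
      zify
      linarith
    exact Module.finrank_zero_iff.1 hfr
  -- `E` is globally generated
  have hgg := isGloballyGenerated_of_vanish k X 2 E hE (fun p hp => (hI p hp).2.2)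
  -- `h⁰(E) ≤ 2`
  obtain ⟨p, -, hp⟩ := (isClosed_univ (X := X)).exists_closed_singleton Set.univ_nonempty
  obtain ⟨hχI, h0I, -⟩ := hI p hp
  obtain ⟨hQ0, hQv, hQ, hQsub⟩ := quotMod_point k X p hp
  obtain ⟨hIinv, hIdeg⟩ := idealMod_point k X hpid hdim p hp
  have hEflat := Groth.Agent.Lib.Helper4.CurveChi.isFlat_of_isFinLocFreeOfRank E 2 hE
  have hS := Groth.Agent.Lib.Helper6.SimpleSub.shortExact_map_tw
    (idealSES (Scheme.IdealSheafData.vanishingIdeal ⟨{p}, hp⟩)) (idealSES_shortExact _) E hEflat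
  have cIE := isCoh_of_isFinLocFreeOfRank _ 2 (twist_rank_deg k X hpid hdim _ hIinv 2 E hE).1
  have cOE : Coh.IsCoh (CohB1.tensorMod (Coh.structureModule X) E) :=
    Groth.Agent.Lib.Helper4.CurveChi.isCoh_tensorMod_locFree _ E (isCoh_structureModule X) 2 hE
  have cQE : Coh.IsCoh (CohB1.tensorMod (ClSub.quotMod (Scheme.IdealSheafData.vanishingIdeal ⟨{p}, hp⟩)) E) :=
    Groth.Agent.Lib.Helper4.CurveChi.isCoh_tensorMod_locFree _ E hQ 2 hE
  have hadd := Groth.Agent.Lib.Helper6.Euler.euler_additive k X _ hS cIE cOE cQE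
  have hχOE : Curv2.euler k X (CohB1.tensorMod (Coh.structureModule X) E) = 2 := by
    rw [Groth.Agent.Lib.Helper4.CurveChi.euler_congr_iso k (lam E), hχE]
  have hQEv : ∀ i, 0 < i → Subsingleton (Coh.HH X
      (CohB1.tensorMod (ClSub.quotMod (Scheme.IdealSheafData.vanishingIdeal ⟨{p}, hp⟩)) E) i) := fun i hi =>
    Groth.Agent.S0047.result X _ cQE (fun x hx => by
      have hx' := Groth.Agent.Lib.Helper4.ZeroDimChi.support_tensorMod_subset_left _ E hx
      rw [hQsub hx']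
      exact hp) i hi
  have hχQE := Groth.Agent.Lib.Helper4.ZeroDimChi.euler_eq_finrank_zero k _ hQEv
  haveI : Module.Finite k (Coh.HH X ((idealSES (Scheme.IdealSheafData.vanishingIdeal ⟨{p}, hp⟩)).map
      (Groth.Agent.Lib.Helper27SerreVan.tw E)).X₁ 0) := Groth.Agent.S0002.result k X _ cIE 0
  haveI : Module.Finite k (Coh.HH X ((idealSES (Scheme.IdealSheafData.vanishingIdeal ⟨{p}, hp⟩)).map
      (Groth.Agent.Lib.Helper27SerreVan.tw E)).X₂ 0) := Groth.Agent.S0002.result k X _ cOE 0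
  haveI : Module.Finite k (Coh.HH X ((idealSES (Scheme.IdealSheafData.vanishingIdeal ⟨{p}, hp⟩)).map
      (Groth.Agent.Lib.Helper27SerreVan.tw E)).X₃ 0) := Groth.Agent.S0002.result k X _ cQE 0
  have hmid := Groth.Agent.Lib.LeadCohRank.finrank_mid_le k _ hS 0
  have h0I' : Module.finrank k (Coh.HH X (CohB1.tensorMod (ClSub.idealMod
        (Scheme.IdealSheafData.vanishingIdeal ⟨{p}, hp⟩)) E) 0) = 0 := Module.finrank_zero_of_subsingleton
  have hh0E : Module.finrank k (Coh.HH X E 0) = 2 := by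
    have h1 : Module.finrank k (Coh.HH X (CohB1.tensorMod (Coh.structureModule X) E) 0) =
        Module.finrank k (Coh.HH X E 0) := (Groth.Agent.Lib.Helper4.CurveChi.HHequiv k (lam E) 0).finrank_eq
    have h2 := euler_le_h0 k X hdim.le E cE
    have h3 : Module.finrank k (Coh.HH X (CohB1.tensorMod (Coh.structureModule X) E) 0) ≤
        Module.finrank k (Coh.HH X (CohB1.tensorMod (ClSub.idealMod
        (Scheme.IdealSheafData.vanishingIdeal ⟨{p}, hp⟩)) E) 0) +
        Module.finrank k (Coh.HH X (CohB1.tensorMod (ClSub.quotMod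
        (Scheme.IdealSheafData.vanishingIdeal ⟨{p}, hp⟩)) E) 0) := hmid
    have h4 : (Module.finrank k (Coh.HH X (CohB1.tensorMod (ClSub.quotMod
        (Scheme.IdealSheafData.vanishingIdeal ⟨{p}, hp⟩)) E) 0) : ℤ) = 2 := by
      have hadd' : Curv2.euler k X (CohB1.tensorMod (Coh.structureModule X) E) =
          Curv2.euler k X (CohB1.tensorMod (ClSub.idealMod
            (Scheme.IdealSheafData.vanishingIdeal ⟨{p}, hp⟩)) E) +
          Curv2.euler k X (CohB1.tensorMod (ClSub.quotMod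
            (Scheme.IdealSheafData.vanishingIdeal ⟨{p}, hp⟩)) E) := hadd
      rw [hχOE, hχI, hχQE] at hadd'
      linarith
    rw [h0I', h1] at h3
    rw [hχE] at h2
    zify at h3 ⊢
    linarith
  -- a basis of `Hom(O, E)`
  have hfr : Module.finrank k (Coh.structureModule X ⟶ E) = 2 := by
    rw [finrank_hom_eq k E, hh0E]
  haveI : Module.Finite k (Coh.HH X E 0) := Groth.Agent.S0002.result k X _ cE 0
  haveI : Module.Finite k (Coh.structureModule X ⟶ E) := Module.Finite.equiv (homH0Equiv k E).symm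
  let b := Module.finBasisOfFinrankEq k (Coh.structureModule X ⟶ E) hfr
  obtain ⟨ι, π, hπ⟩ := hgg
  have hfac : ∀ s : Coh.structureModule X ⟶ E, ∃ t : Coh.structureModule X ⟶
      Coh.structureModule X ⊞ Coh.structureModule X, t ≫ biprod.desc (b 0) (b 1) = s := by
    intro s
    refine ⟨b.repr s 0 • (biprod.inl : Coh.structureModule X ⟶ Coh.structureModule X ⊞ Coh.structureModule X) +
      b.repr s 1 • (biprod.inr : Coh.structureModule X ⟶ Coh.structureModule X ⊞ Coh.structureModule X), ?_⟩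
    rw [Preadditive.add_comp, Linear.smul_comp, Linear.smul_comp, biprod.inl_desc, biprod.inr_desc]
    conv_rhs => rw [← b.sum_repr s]
    rw [Fin.sum_univ_two]
  haveI : Epi (biprod.desc (b 0) (b 1)) :=
    @epi_of_sigma_factor (SheafOfModules X.ringCatSheaf) _ ι
      (fun _ : ι => SheafOfModules.unit X.ringCatSheaf) _ _ _ π hπ (biprod.desc (b 0) (b 1))
      (fun i => hfac _)
  -- rank and degree of `O ⊞ O`
  have hO1 : FlatMod.IsFinLocFreeOfRank 1 (Coh.structureModule X) :=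
    isFinLocFreeOfRank_one_of_isInvertible _
      (Groth.Agent.Lib.Helper23.TensorUnit.isInvertible_structureModule X)
  have hS2 := Groth.Agent.Lib.Helper6.ExtIndec.shortExact_of_iso_biprod X
    (Iso.refl (Coh.structureModule X ⊞ Coh.structureModule X))
  have hOO := Groth.Agent.Lib.Helper6.ExtIndec.bundle_of_ext k X hpid _ hS2 1 1 hO1 hO1
  have hdOO := deg_additive k X _ hS2 1 2 1 hO1 hOO hO1
  obtain ⟨a, ha, hK, hd⟩ := Groth.Agent.Lib.Helper4.CurveSat.kernel_of_epi k X hpid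
    (biprod.desc (b 0) (b 1)) 2 2 hOO hE
  have ha0 : a = 0 := by omega
  subst ha0
  rw [deg_rank_zero k _ hK, zero_add] at hd
  have hdO := deg_structureModule k X
  have hd' : Curv2.deg k X (Coh.structureModule X ⊞ Coh.structureModule X) 2 = Curv2.deg k X E 2 := hd
  have hdOO' : Curv2.deg k X (Coh.structureModule X ⊞ Coh.structureModule X) 2 =
      Curv2.deg k X (Coh.structureModule X) 1 + Curv2.deg k X (Coh.structureModule X) 1 := hdOO
  rw [hd', hdeg, hdO] at hdOO'
  norm_num at hdOO'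

open Groth.Agent.Lib.Helper6.PointIdeal Groth.Agent.Lib.Helper6.H0Crit in
/-- genus one: a rank two bundle of degree `2d` receives a nonzero map from a line bundle of degree `d` -/
theorem exists_hom_of_even_deg [IsAlgClosed k] (hpid : PIDStalks X) (hdim : topologicalKrullDim X = 1)
    (hg : Curv2.genus k X = 1) (E : X.Modules) (hE : FlatMod.IsFinLocFreeOfRank 2 E) (d : ℤ)
    (hdeg : Curv2.deg k X E 2 = 2 * d) :
    ∃ (N : X.Modules) (t : N ⟶ E), PicF.IsInvertible N ∧ Curv2.deg k X N 1 = d ∧ t ≠ 0 := by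
  obtain ⟨T, hT, hTd⟩ := exists_invertible_deg k X hpid hdim (d - 1)
  have hT'inv := Groth.Agent.Lib.Helper23.InvDual.isInvertible_dual T hT
  obtain ⟨e₀⟩ := Groth.Agent.Lib.Helper23.InvDual.nonempty_tensorMod_dual_iso T hT
  have hT'd := deg_dual k X hdim T hT
  obtain ⟨hE₁, hdE₁⟩ := rtwist_rank_deg k X hpid hdim (RefHull.dual T) hT'inv 2 E hE
  have hdE₁' : Curv2.deg k X (CohB1.tensorMod E (RefHull.dual T)) 2 = 2 := by
    rw [hdE₁, hdeg, hT'd, hTd]
    push_cast
    ring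
  obtain ⟨p, hp, t, ht⟩ := exists_section_vanishing k X hpid hdim hg _ hE₁ hdE₁'
  obtain ⟨hIinv, hIdeg⟩ := idealMod_point k X hpid hdim p hp
  have hJ'inv := Groth.Agent.Lib.Helper23.InvDual.isInvertible_dual _ hIinv
  obtain ⟨eI⟩ := Groth.Agent.Lib.Helper23.InvDual.nonempty_tensorMod_dual_iso _ hIinv
  have hJ'd := deg_dual k X hdim _ hIinv
  have ht₂ : t ≫ (Groth.Agent.Lib.Helper23.AmpleFam2.tensorBraid _ _).hom ≠ 0 := by
    intro h
    apply ht
    rw [← cancel_mono (Groth.Agent.Lib.Helper23.AmpleFam2.tensorBraid _ _).hom, h, zero_comp]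
  obtain ⟨u, hu⟩ := exists_hom_of_section _ _ eI _ _ ht₂
  obtain ⟨v, hv⟩ := exists_hom_of_hom (RefHull.dual T) T
    (Groth.Agent.Lib.Helper23.AmpleFam2.tensorBraid _ _ ≪≫ e₀) _ E u hu
  refine ⟨_, v, isInvertible_tensorMod hJ'inv hT, ?_, hv⟩
  have h := Groth.Agent.Lib.Helper4.CurveDegT.deg_tensor k X hdim.le 1 1 _ T
    (isFinLocFreeOfRank_one_of_isInvertible _ hJ'inv) (isFinLocFreeOfRank_one_of_isInvertible _ hT)
  rw [mul_one] at h
  rw [h, hJ'd, hIdeg, hTd]
  push_cast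
  ring

/-- genus one: a rank two bundle of degree `2d` has a line subbundle of degree `≥ d` -/
theorem exists_line_sub [IsAlgClosed k] (hpid : PIDStalks X) (hdim : topologicalKrullDim X = 1)
    (hg : Curv2.genus k X = 1) (E : X.Modules) (hE : FlatMod.IsFinLocFreeOfRank 2 E) (d : ℤ)
    (hdeg : Curv2.deg k X E 2 = 2 * d) :
    ∃ (M : X.Modules) (g : E ⟶ M), Epi g ∧ FlatMod.IsFinLocFreeOfRank 1 (kernel g) ∧
      FlatMod.IsFinLocFreeOfRank 1 M ∧
      Curv2.deg k X E 2 = Curv2.deg k X (kernel g) 1 + Curv2.deg k X M 1 ∧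
      d ≤ Curv2.deg k X (kernel g) 1 := by
  obtain ⟨N, t, hN, hNd, ht⟩ := exists_hom_of_even_deg k X hpid hdim hg E hE d hdeg
  have hN1 := isFinLocFreeOfRank_one_of_isInvertible N hN
  haveI := mono_of_ne_zero_of_rank_one k X hpid 2 hN1 hE t ht
  obtain ⟨F, g, u, hg', -, -, hK, hF, hd, hle, -⟩ :=
    Groth.Agent.Lib.Helper4.CurveSat.exists_saturation k X hpid hdim t 1 2 hN1 hE
  exact ⟨F, g, hg', hK, hF, hd, hNd ▸ hle⟩

open Groth.Agent.Lib.Helper6.H0Crit Groth.Agent.Lib.Helper6.H0Semi in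
/-- for line bundles `L`, `M` of equal degree in genus one: `χ(L ⊗ M^∨) = 0` -/
theorem euler_tensor_dual_eq_zero [IsAlgClosed k] (hpid : PIDStalks X) (hdim : topologicalKrullDim X = 1)
    (hg : Curv2.genus k X = 1) (L M : X.Modules) (hL1 : FlatMod.IsFinLocFreeOfRank 1 L)
    (hMinv : PicF.IsInvertible M) :
    FlatMod.IsFinLocFreeOfRank 1 (CohB1.tensorMod L (RefHull.dual M)) ∧
    Curv2.deg k X (CohB1.tensorMod L (RefHull.dual M)) 1 = Curv2.deg k X L 1 - Curv2.deg k X M 1 ∧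
    Curv2.euler k X (CohB1.tensorMod L (RefHull.dual M)) = Curv2.deg k X L 1 - Curv2.deg k X M 1 := by
  have hχO : Curv2.euler k X (Coh.structureModule X) = 0 := by
    rw [euler_structureModule k X hdim, hg]
    simp
  have hDinv := Groth.Agent.Lib.Helper23.InvDual.isInvertible_dual M hMinv
  obtain ⟨hLD, hdLD⟩ := rtwist_rank_deg k X hpid hdim (RefHull.dual M) hDinv 1 L hL1
  rw [deg_dual k X hdim M hMinv] at hdLD
  have h1 : Curv2.deg k X (CohB1.tensorMod L (RefHull.dual M)) 1 =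
      Curv2.deg k X L 1 - Curv2.deg k X M 1 := by
    rw [hdLD]
    push_cast
    ring
  refine ⟨hLD, h1, ?_⟩
  rw [← h1]
  unfold Curv2.deg
  rw [hχO]
  ring

open Groth.Agent.Lib.Helper6.H0Crit Groth.Agent.Lib.Helper6.H0Semi in
/-- genus one: a rank two bundle of even degree has a non-scalar endomorphism -/
theorem exists_nonscalar [IsAlgClosed k] (hpid : PIDStalks X) (hdim : topologicalKrullDim X = 1)
    (hg : Curv2.genus k X = 1) (E : X.Modules) (hE : FlatMod.IsFinLocFreeOfRank 2 E) (d : ℤ)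
    (hdeg : Curv2.deg k X E 2 = 2 * d) :
    ∃ φ : E ⟶ E, ∀ c : k, φ ≠ Formal.smulMod k E c := by
  haveI : IsLocallyNoetherian X := isLocallyNoetherian_of_proper k X
  haveI : Nonempty X := nonempty_of_dim_eq_one hdim
  have hχO : Curv2.euler k X (Coh.structureModule X) = 0 := by
    rw [euler_structureModule k X hdim, hg]
    simp
  obtain ⟨M, g, hg', hL1, hM1, hd, hle⟩ := exists_line_sub k X hpid hdim hg E hE d hdeg
  haveI := hg'
  have hS := sesOfEpi_shortExact g
  have hMinv : PicF.IsInvertible M := isInvertible_of_rank_one X hM1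
  have hdM : Curv2.deg k X M 1 ≤ Curv2.deg k X (kernel g) 1 := by linarith
  rcases hdM.lt_or_eq with hlt | heq
  · obtain ⟨g', hg'0⟩ := exists_hom_ne_zero_of_deg k X hdim M hMinv 1 (kernel g) hL1
      (by rw [hχO]; simpa using hlt)
    exact ⟨g ≫ g' ≫ kernel.ι g, fun c => nonscalar_of_nilp k (sesOfEpi g) hS g' hg'0 c⟩
  · obtain ⟨hLD, hdLD, hχLD⟩ := euler_tensor_dual_eq_zero k X hpid hdim hg (kernel g) M hL1 hMinv
    obtain ⟨e₀⟩ := Groth.Agent.Lib.Helper23.InvDual.nonempty_tensorMod_dual_iso M hMinv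
    have cLD := isCoh_of_isFinLocFreeOfRank _ 1 hLD
    have hχ := euler_eq_h0_sub_h1 k X hdim.le _ cLD
    by_cases h0 : 0 < Module.finrank k (Coh.HH X (CohB1.tensorMod (kernel g) (RefHull.dual M)) 0)
    · obtain ⟨t, ht⟩ := exists_hom_ne_zero k X _ h0
      obtain ⟨g', hg'0⟩ := exists_hom_of_section (RefHull.dual M) M
        (Groth.Agent.Lib.Helper23.AmpleFam2.tensorBraid _ _ ≪≫ e₀) (kernel g) t ht
      exact ⟨g ≫ g' ≫ kernel.ι g, fun c => nonscalar_of_nilp k (sesOfEpi g) hS g' hg'0 c⟩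
    · have h00 : Module.finrank k (Coh.HH X (CohB1.tensorMod (kernel g) (RefHull.dual M)) 0) = 0 := by omega
      haveI : Module.Finite k (Coh.HH X (CohB1.tensorMod (kernel g) (RefHull.dual M)) 1) :=
        Groth.Agent.S0002.result k X _ cLD 1
      have h1 : Subsingleton (Coh.HH X (CohB1.tensorMod (kernel g) (RefHull.dual M)) 1) := by
        have hfr : Module.finrank k (Coh.HH X (CohB1.tensorMod (kernel g) (RefHull.dual M)) 1) = 0 := by
          rw [hχLD, h00, heq] at hχ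
          push_cast at hχ
          zify
          linarith
        exact Module.finrank_zero_iff.1 hfr
      obtain ⟨⟨σ⟩⟩ := split_of_H1 (sesOfEpi g) hS hMinv h1
      exact ⟨g ≫ σ.section_, fun c => nonscalar_of_split k (sesOfEpi g) hS σ.section_ σ.id
        (Groth.Agent.Lib.Helper4.CurveHN.not_isZero_of_rank_pos X _ 1 Nat.one_pos hL1)
        (Groth.Agent.Lib.Helper4.CurveHN.not_isZero_of_rank_pos X _ 1 Nat.one_pos hM1) c⟩

open Groth.Agent.Lib.Helper6.H0Crit Groth.Agent.Lib.Helper6.H0Semi in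
/-- genus one: an indecomposable rank two bundle is semistable -/
theorem semistable_of_indecomposable [IsAlgClosed k] (hpid : PIDStalks X) (hdim : topologicalKrullDim X = 1)
    (hg : Curv2.genus k X = 1) (E : X.Modules) (hE : FlatMod.IsFinLocFreeOfRank 2 E)
    (hind : ∀ (E₁ E₂ : X.Modules), Nonempty (E ≅ E₁ ⊞ E₂) → IsZero E₁ ∨ IsZero E₂) :
    ModFun.IsSlopeSemistable k X E 2 := by
  haveI : IsLocallyNoetherian X := isLocallyNoetherian_of_proper k X
  haveI : Nonempty X := nonempty_of_dim_eq_one hdim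
  have hpt := fun _ : Curv2.genus k X = 0 =>
    Groth.Agent.Lib.Helper6.PointIdeal.exists_invertible_deg_neg_one k X hpid hdim
  intro F r' i hi hr' hF
  haveI := hi
  obtain ⟨M, g, u, hg', hu, hle2, hK, hM, hd, hle, -⟩ :=
    Groth.Agent.Lib.Helper4.CurveSat.exists_saturation k X hpid hdim i r' 2 hF hE
  haveI := hg'
  interval_cases r'
  · by_contra hcon
    push Not at hcon
    have hS := sesOfEpi_shortExact g
    have hMinv : PicF.IsInvertible M := isInvertible_of_rank_one X hM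
    obtain ⟨hLD, hdLD, hχLD⟩ := euler_tensor_dual_eq_zero k X hpid hdim hg (kernel g) M hK hMinv
    have hpos : 2 * (Curv2.genus k X : ℤ) - 2 < Curv2.deg k X (CohB1.tensorMod (kernel g) (RefHull.dual M)) 1 := by
      rw [hdLD, hg]
      push_cast at hcon hd ⊢
      linarith
    have h1 : Subsingleton (Coh.HH X (CohB1.tensorMod (kernel g) (RefHull.dual M)) 1) :=
      vanish_of_quotGt k X hpid hdim hpt 1 _ hLD (quotGt_of_rank_one k X hpid _ _ hLD hpos)
    obtain ⟨⟨σ⟩⟩ := split_of_H1 (sesOfEpi g) hS hMinv h1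
    have hsplit := ShortComplex.Splitting.ofExactOfSection (sesOfEpi g) hS.exact σ.section_ σ.id hS.mono_f
    rcases hind _ _ ⟨hsplit.isoBinaryBiproduct⟩ with hz | hz
    · exact Groth.Agent.Lib.Helper4.CurveHN.not_isZero_of_rank_pos X _ 1 Nat.one_pos hK hz
    · exact Groth.Agent.Lib.Helper4.CurveHN.not_isZero_of_rank_pos X _ 1 Nat.one_pos hM hz
  · have hM0 : Curv2.deg k X M (2 - 2) = 0 := deg_rank_zero k _ hM
    rw [hM0, add_zero] at hd
    rw [hd]
    push_cast
    linarith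

open Groth.Agent.Lib.Helper6.H0Crit Groth.Agent.Lib.Helper6.H0Semi in
/-- genus one: an indecomposable rank two bundle of even degree is an extension of `M` by `M` -/
theorem ext_of_indecomposable_even [IsAlgClosed k] (hpid : PIDStalks X) (hdim : topologicalKrullDim X = 1)
    (hg : Curv2.genus k X = 1) (E : X.Modules) (hE : FlatMod.IsFinLocFreeOfRank 2 E)
    (hind : ∀ (E₁ E₂ : X.Modules), Nonempty (E ≅ E₁ ⊞ E₂) → IsZero E₁ ∨ IsZero E₂) (d : ℤ)
    (hdeg : Curv2.deg k X E 2 = 2 * d) :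
    ∃ (M : X.Modules) (S : ShortComplex X.Modules), PicF.IsInvertible M ∧ S.ShortExact ∧
      Nonempty (S.X₁ ≅ M) ∧ Nonempty (S.X₃ ≅ M) ∧ Nonempty (S.X₂ ≅ E) := by
  haveI : IsLocallyNoetherian X := isLocallyNoetherian_of_proper k X
  haveI : Nonempty X := nonempty_of_dim_eq_one hdim
  have hpt := fun _ : Curv2.genus k X = 0 =>
    Groth.Agent.Lib.Helper6.PointIdeal.exists_invertible_deg_neg_one k X hpid hdim
  obtain ⟨M, g, hg', hL1, hM1, hd, hle⟩ := exists_line_sub k X hpid hdim hg E hE d hdeg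
  haveI := hg'
  have hS := sesOfEpi_shortExact g
  have hMinv : PicF.IsInvertible M := isInvertible_of_rank_one X hM1
  obtain ⟨hLD, hdLD, hχLD⟩ := euler_tensor_dual_eq_zero k X hpid hdim hg (kernel g) M hL1 hMinv
  obtain ⟨e₀⟩ := Groth.Agent.Lib.Helper23.InvDual.nonempty_tensorMod_dual_iso M hMinv
  have cLD := isCoh_of_isFinLocFreeOfRank _ 1 hLD
  have hχ := euler_eq_h0_sub_h1 k X hdim.le _ cLD
  have hH1 : ¬ Subsingleton (Coh.HH X (CohB1.tensorMod (kernel g) (RefHull.dual M)) 1) := by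
    intro h1
    obtain ⟨⟨σ⟩⟩ := split_of_H1 (sesOfEpi g) hS hMinv h1
    have hsplit := ShortComplex.Splitting.ofExactOfSection (sesOfEpi g) hS.exact σ.section_ σ.id hS.mono_f
    rcases hind _ _ ⟨hsplit.isoBinaryBiproduct⟩ with hz | hz
    · exact Groth.Agent.Lib.Helper4.CurveHN.not_isZero_of_rank_pos X _ 1 Nat.one_pos hL1 hz
    · exact Groth.Agent.Lib.Helper4.CurveHN.not_isZero_of_rank_pos X _ 1 Nat.one_pos hM1 hz
  have hLM : Curv2.deg k X (kernel g) 1 ≤ Curv2.deg k X M 1 := by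
    by_contra hcon
    push Not at hcon
    apply hH1
    have hpos : 2 * (Curv2.genus k X : ℤ) - 2 < Curv2.deg k X (CohB1.tensorMod (kernel g) (RefHull.dual M)) 1 := by
      rw [hdLD, hg]
      push_cast
      linarith
    exact vanish_of_quotGt k X hpid hdim hpt 1 _ hLD (quotGt_of_rank_one k X hpid _ _ hLD hpos)
  have heq : Curv2.deg k X (kernel g) 1 = Curv2.deg k X M 1 := by linarith
  haveI : Module.Finite k (Coh.HH X (CohB1.tensorMod (kernel g) (RefHull.dual M)) 1) :=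
    Groth.Agent.S0002.result k X _ cLD 1
  have h0 : 0 < Module.finrank k (Coh.HH X (CohB1.tensorMod (kernel g) (RefHull.dual M)) 0) := by
    haveI : Nontrivial (Coh.HH X (CohB1.tensorMod (kernel g) (RefHull.dual M)) 1) :=
      not_subsingleton_iff_nontrivial.1 hH1
    have hpos : 0 < Module.finrank k (Coh.HH X (CohB1.tensorMod (kernel g) (RefHull.dual M)) 1) :=
      Module.finrank_pos
    rw [hχLD, heq] at hχ
    zify at hpos ⊢
    linarith
  obtain ⟨t, ht⟩ := exists_hom_ne_zero k X _ h0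
  obtain ⟨g', hg'0⟩ := exists_hom_of_section (RefHull.dual M) M
    (Groth.Agent.Lib.Helper23.AmpleFam2.tensorBraid _ _ ≪≫ e₀) (kernel g) t ht
  obtain ⟨-, -, hiso⟩ := Groth.Agent.Lib.Helper4.CurveRk2.hom_rank_one k X hpid hdim hM1 hL1 g' hg'0
  haveI := hiso heq.symm
  exact ⟨M, sesOfEpi g, hMinv, hS, ⟨(asIso g').symm⟩, ⟨Iso.refl _⟩, ⟨Iso.refl _⟩⟩

/-- S11833 -/
theorem main_nonsimple_semistable [IsAlgClosed k] [Smooth (X ↘ Spec (CommRingCat.of k))]
    (hdim : topologicalKrullDim X = 1)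
    (hg : Curv2.genus k X = 1) (E : X.Modules) (hE : FlatMod.IsFinLocFreeOfRank 2 E)
    (heven : Even (Curv2.deg k X E 2)) :
    (∃ φ : E ⟶ E, ∀ c : k, (SheafOfModules.toSheaf X.ringCatSheaf).map φ ≠
        Coh.smulAb E (Coh.toGlobal (X ↘ Spec (CommRingCat.of k)) c)) ∧
      ((¬ IsZero E ∧ ∀ (E₁ E₂ : X.Modules), Nonempty (E ≅ E₁ ⊞ E₂) → IsZero E₁ ∨ IsZero E₂) →
        (∀ (F : X.Modules) (r' : ℕ) (i : F ⟶ E), Mono i → 0 < r' → FlatMod.IsFinLocFreeOfRank r' F →
      Curv2.deg k X F r' * (2 : ℤ) ≤ Curv2.deg k X E 2 * (r' : ℤ))) := by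
  have hpid : PIDStalks X := pidStalks_of_smooth k X (X ↘ Spec (CommRingCat.of k)) hdim.le
  obtain ⟨d, hd⟩ := heven
  have hd' : Curv2.deg k X E 2 = 2 * d := by rw [hd, two_mul]
  constructor
  · obtain ⟨φ, hφ⟩ := exists_nonscalar k X hpid hdim hg E hE d hd'
    refine ⟨φ, fun c hc => hφ c ?_⟩
    apply (SheafOfModules.toSheaf X.ringCatSheaf).map_injective
    rw [hc]
    rfl
  · intro hind F r' i hi hr' hF
    have h := semistable_of_indecomposable k X hpid hdim hg E hE hind.2 F r' i hi hr' hF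
    exact_mod_cast h

/-- S11825 -/
theorem main_ext [IsAlgClosed k] [Smooth (X ↘ Spec (CommRingCat.of k))]
    (hdim : topologicalKrullDim X = 1)
    (hg : Curv2.genus k X = 1) (E : X.Modules) (hE : FlatMod.IsFinLocFreeOfRank 2 E)
    (hind : (¬ IsZero E ∧ ∀ (E₁ E₂ : X.Modules), Nonempty (E ≅ E₁ ⊞ E₂) → IsZero E₁ ∨ IsZero E₂))
    (heven : Even (Curv2.deg k X E 2)) :
    ∃ (M : X.Modules) (S : ShortComplex X.Modules), PicF.IsInvertible M ∧ S.ShortExact ∧
      Nonempty (S.X₁ ≅ M) ∧ Nonempty (S.X₃ ≅ M) ∧ Nonempty (S.X₂ ≅ E) := by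
  have hpid : PIDStalks X := pidStalks_of_smooth k X (X ↘ Spec (CommRingCat.of k)) hdim.le
  obtain ⟨d, hd⟩ := heven
  have hd' : Curv2.deg k X E 2 = 2 * d := by rw [hd, two_mul]
  exact ext_of_indecomposable_even k X hpid hdim hg E hE hind.2 d hd'

end Curve

end Groth.Agent.Lib.Helper6.Atiyah
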