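import Mathlib
import Groth.Agent.Lib.Helper4CurveCliff2
import Groth.Agent.Lib.Helper6Atiyah
import Groth.Agent.Lib.Helper4CurveSat2

/-!
# Normalized indecomposable rank two bundles on a curve (helper4; S11347, S11348)

`E` of rank 2 is normalized if `H⁰(E) ≠ 0` and `H⁰(E ⊗ M) = 0` for all invertible `M` of negative degree.
Then a nonzero section `O → E` is saturated, `0 → O → E → L → 0`; if `E` is not a sum of two line bundles,
the extension is non-split, so `H¹(L^∨) ≠ 0` and `deg L ≥ 2 - 2g`; twisting by a point ideal gives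
`deg L ≤ 2g`.  In genus one `deg E = 2` is excluded by helper6's `exists_line_sub`.
-/

set_option autoImplicit false
set_option linter.style.haveILetI false
universe u
open CategoryTheory CategoryTheory.Limits AlgebraicGeometry TopologicalSpace Opposite

namespace Groth.Agent.Lib.Helper4.CurveNormalized

open Groth.Agent.Lib.Helper4.CurveBun Groth.Agent.Lib.Helper4.Dev Groth.Agent.Lib.Helper4.DegAdd
  Groth.Agent.Lib.Helper27SerreVan Groth.Agent.Lib.Helper27GlobGenPn Groth.Agent.Lib.Helper4.CurvePt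
  Groth.Agent.Lib.Helper4.CurveDegSec

section Gen

variable {X : Scheme.{u}}

/-- a nonzero map `A ⟶ E` from an invertible module gives a nonzero section of `E ⊗ A^∨` -/
theorem exists_section_of_hom (A : X.Modules) (hA : PicF.IsInvertible A) (E : X.Modules) (t : A ⟶ E)
    (ht : t ≠ 0) : ∃ u : Coh.structureModule X ⟶ CohB1.tensorMod E (RefHull.dual A), u ≠ 0 := by
  obtain ⟨e₀⟩ := Groth.Agent.Lib.Helper23.InvDual.nonempty_tensorMod_dual_iso A hA
  obtain ⟨ν, hν⟩ := Groth.Agent.Lib.Helper27LinRes.exists_untwist (RefHull.dual A) A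
    (Groth.Agent.Lib.Helper23.AmpleFam2.tensorBraid _ _ ≪≫ e₀)
  refine ⟨e₀.inv ≫ wl t (RefHull.dual A), ?_⟩
  intro h
  apply ht
  have h1 : wl t (RefHull.dual A) = 0 := by rw [← cancel_epi e₀.inv, h, comp_zero]
  have h2 := hν t
  rw [h1] at h2
  have h3 : wl (0 : CohB1.tensorMod A (RefHull.dual A) ⟶ CohB1.tensorMod E (RefHull.dual A)) A = 0 :=
    (tw A).map_zero _ _
  rw [h3, zero_comp] at h2
  rw [← cancel_epi (ν A).hom, ← h2, comp_zero]

end Gen

section Seq

variable (k : Type u) [Field k] (X : Scheme.{u}) [X.Over (Spec (CommRingCat.of k))]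
  [IsProper (X ↘ (Spec (CommRingCat.of k)))]

open Groth.Agent.Lib.Helper27CohFin in
/-- `h⁰(X₃) ≤ h⁰(X₂) + h¹(X₁)` -/
theorem h0_third_le (S : ShortComplex X.Modules) (hS : S.ShortExact)
    (c₁ : Coh.IsCoh S.X₁) (c₂ : Coh.IsCoh S.X₂) (c₃ : Coh.IsCoh S.X₃) :
    Module.finrank k (Coh.HH X S.X₃ 0) ≤
      Module.finrank k (Coh.HH X S.X₂ 0) + Module.finrank k (Coh.HH X S.X₁ 1) := by
  haveI : Module.Finite k (Coh.HH X S.X₁ 1) := Groth.Agent.S0002.result k X _ c₁ 1
  haveI : Module.Finite k (Coh.HH X S.X₂ 0) := Groth.Agent.S0002.result k X _ c₂ 0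
  haveI : Module.Finite k (Coh.HH X S.X₃ 0) := Groth.Agent.S0002.result k X _ c₃ 0
  have h1 := LinearMap.finrank_range_add_finrank_ker (deltaLin k S hS 0)
  rw [Groth.Agent.Lib.Helper17.GammaA.ker_deltaLin k S hS 0] at h1
  have h2 : Module.finrank k (LinearMap.range (Canon.HHlin k S.g 0)) ≤
      Module.finrank k (Coh.HH X S.X₂ 0) := LinearMap.finrank_range_le _
  have h3 : Module.finrank k (LinearMap.range (deltaLin k S hS 0)) ≤
      Module.finrank k (Coh.HH X S.X₁ 1) := Submodule.finrank_le _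
  omega

end Seq


section Curve

variable (k : Type u) [Field k] [IsAlgClosed k] (X : Scheme.{u}) [X.Over (Spec (CommRingCat.of k))]
  [IsProper (X ↘ (Spec (CommRingCat.of k)))] [IsIntegral X]

omit [IsAlgClosed k] in
open Groth.Agent.Lib.Helper6.CurveDeg Groth.Agent.Lib.Helper4.CurveNorm in
/-- a nonzero section of a normalized rank two bundle is saturated: `0 → K → E → F → 0` with `deg K = 0` -/
theorem exists_section_seq (hpid : PIDStalks X) (hdim : topologicalKrullDim X = 1)
    (E : X.Modules) (hE : FlatMod.IsFinLocFreeOfRank 2 E) (hn0 : Nontrivial (Coh.HH X E 0))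
    (hneg : ∀ M : X.Modules, PicF.IsInvertible M → Curv2.deg k X M 1 < 0 →
      Subsingleton (Coh.HH X (CohB1.tensorMod E M) 0)) :
    ∃ (F : X.Modules) (g : E ⟶ F), Epi g ∧ FlatMod.IsFinLocFreeOfRank 1 (kernel g) ∧
      FlatMod.IsFinLocFreeOfRank 1 F ∧ Curv2.deg k X (kernel g) 1 = 0 ∧
      Curv2.deg k X F 1 = Curv2.deg k X E 2 := by
  haveI : IsLocallyNoetherian X := isLocallyNoetherian_of_proper k X
  haveI : Nonempty X := Groth.Agent.Lib.Helper4.CurveRR.nonempty_of_dim_eq_one hdim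
  have cE := isCoh_of_isFinLocFreeOfRank E 2 hE
  haveI : Module.Finite k (Coh.HH X E 0) := Groth.Agent.S0002.result k X E cE 0
  have h0pos : 0 < Module.finrank k (Coh.HH X E 0) := Module.finrank_pos
  obtain ⟨s, hs⟩ := Groth.Agent.Lib.Helper4.CurveRR.exists_hom_ne_zero k X E h0pos
  have hO1 : FlatMod.IsFinLocFreeOfRank 1 (Coh.structureModule X) :=
    Groth.Agent.Lib.Helper23.SecTw.isFinLocFreeOfRank_one_of_isInvertible _
      (Groth.Agent.Lib.Helper23.TensorUnit.isInvertible_structureModule X)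
  haveI : Mono s := Groth.Agent.Lib.Helper6.SSVanish.mono_of_ne_zero_of_rank_one k X hpid 2 hO1 hE s hs
  obtain ⟨F, g, u, hg, hu, -, hK, hF, hd, hle, -⟩ :=
    Groth.Agent.Lib.Helper4.CurveSat.exists_saturation k X hpid hdim s 1 2 hO1 hE
  rw [deg_structureModule k X] at hle
  have hKinv : PicF.IsInvertible (kernel g) := isInvertible_of_rank_one _ hK
  have hK0 : Curv2.deg k X (kernel g) 1 ≤ 0 := by
    by_contra hpos
    push Not at hpos
    have hne : kernel.ι g ≠ 0 := by
      intro h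
      exact Groth.Agent.Lib.Helper4.CurveHN.not_isZero_of_rank_pos X (kernel g) 1 Nat.one_pos hK
        (IsZero.of_mono_eq_zero (kernel.ι g) h)
    obtain ⟨u', hu'⟩ := exists_section_of_hom (kernel g) hKinv E (kernel.ι g) hne
    have hD := Groth.Agent.Lib.Helper23.InvDual.isInvertible_dual _ hKinv
    have hdd := Groth.Agent.Lib.Helper6.Atiyah.deg_dual k X hdim (kernel g) hKinv
    haveI := hneg (RefHull.dual (kernel g)) hD (by rw [hdd]; linarith)
    apply hu'
    apply (Groth.Agent.Lib.Helper4.CurveAsym.homH0Equiv k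
      (CohB1.tensorMod E (RefHull.dual (kernel g)))).injective
    exact Subsingleton.elim _ _
  have hK0' : Curv2.deg k X (kernel g) 1 = 0 := le_antisymm hK0 hle
  refine ⟨F, g, hg, hK, hF, hK0', ?_⟩
  rw [hK0', zero_add] at hd
  exact hd.symm


open Groth.Agent.Lib.Helper6.CurveDeg Groth.Agent.Lib.Helper4.CurveNorm in
/-- **S11347**, lower bound -/
theorem deg_lower (hpid : PIDStalks X) (hdim : topologicalKrullDim X = 1)
    (E : X.Modules) (hE : FlatMod.IsFinLocFreeOfRank 2 E) (hn0 : Nontrivial (Coh.HH X E 0))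
    (hneg : ∀ M : X.Modules, PicF.IsInvertible M → Curv2.deg k X M 1 < 0 →
      Subsingleton (Coh.HH X (CohB1.tensorMod E M) 0))
    (hind : ∀ L₁ L₂ : X.Modules, PicF.IsInvertible L₁ → PicF.IsInvertible L₂ → IsEmpty (E ≅ L₁ ⊞ L₂)) :
    2 - 2 * (Curv2.genus k X : ℤ) ≤ Curv2.deg k X E 2 := by
  obtain ⟨F, g, hg, hK, hF, hK0, hFd⟩ := exists_section_seq k X hpid hdim E hE hn0 hneg
  have hKinv : PicF.IsInvertible (kernel g) := isInvertible_of_rank_one _ hK
  have hFinv : PicF.IsInvertible F := isInvertible_of_rank_one _ hF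
  have hS := sesOfEpi_shortExact g
  have hD := Groth.Agent.Lib.Helper23.InvDual.isInvertible_dual _ hFinv
  have hnt : Nontrivial (Coh.HH X (CohB1.tensorMod (kernel g) (RefHull.dual F)) 1) := by
    rw [← not_subsingleton_iff_nontrivial]
    intro hsub
    have hsplit : IsSplitEpi (sesOfEpi g).g :=
      Groth.Agent.Lib.Helper6.Atiyah.split_of_H1 (sesOfEpi g) hS hFinv hsub
    obtain ⟨⟨σ, hσ⟩⟩ := hsplit
    haveI := hS.mono_f
    have spl := ShortComplex.Splitting.ofExactOfSection (sesOfEpi g) hS.exact σ hσ hS.mono_f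
    exact (hind (kernel g) F hKinv hFinv).false spl.isoBinaryBiproduct
  have hTinv : PicF.IsInvertible (CohB1.tensorMod (kernel g) (RefHull.dual F)) :=
    Groth.Agent.Lib.Helper23.SecTw.isInvertible_tensorMod hKinv hD
  have h := Groth.Agent.Lib.Helper4.CurveSpecial.deg_le_of_H1_nontrivial k X hdim _ hTinv hnt
  rw [finrank_hh0_eq_one_of_isAlgClosed k X] at h
  have hD1 := Groth.Agent.Lib.Helper23.SecTw.isFinLocFreeOfRank_one_of_isInvertible _ hD
  have hdt := Groth.Agent.Lib.Helper4.CurveDegT.deg_tensor k X hdim.le 1 1 (kernel g) (RefHull.dual F) hK hD1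
  have hdd := Groth.Agent.Lib.Helper6.Atiyah.deg_dual k X hdim F hFinv
  simp only [mul_one, Nat.cast_one, one_mul] at hdt
  rw [hdt, hdd, hK0, hFd] at h
  push_cast at h
  linarith


open Groth.Agent.Lib.Helper6.CurveDeg Groth.Agent.Lib.Helper4.CurveNorm Groth.Agent.Lib.Helper4.CurveChi in
/-- **S11347**, upper bound -/
theorem deg_upper (hpid : PIDStalks X) (hdim : topologicalKrullDim X = 1)
    (E : X.Modules) (hE : FlatMod.IsFinLocFreeOfRank 2 E) (hn0 : Nontrivial (Coh.HH X E 0))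
    (hneg : ∀ M : X.Modules, PicF.IsInvertible M → Curv2.deg k X M 1 < 0 →
      Subsingleton (Coh.HH X (CohB1.tensorMod E M) 0)) :
    Curv2.deg k X E 2 ≤ 2 * (Curv2.genus k X : ℤ) := by
  haveI : IsLocallyNoetherian X := isLocallyNoetherian_of_proper k X
  haveI : IsNoetherian X := Groth.Agent.Lib.Helper4.CurveRR.isNoetherian_of_proper k X
  haveI : Nonempty X := Groth.Agent.Lib.Helper4.CurveRR.nonempty_of_dim_eq_one hdim
  obtain ⟨F, g, hg, hK, hF, hK0, hFd⟩ := exists_section_seq k X hpid hdim E hE hn0 hneg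
  have hKinv : PicF.IsInvertible (kernel g) := isInvertible_of_rank_one _ hK
  have hS := sesOfEpi_shortExact g
  obtain ⟨p, hp⟩ := exists_closed_point X
  have hMinv : PicF.IsInvertible (ClSub.idealMod (ptIdeal p hp)) :=
    isInvertible_idealMod k X hpid hdim (ptIdeal p hp) p (range_ptIdeal p hp).le
  have hM1 := Groth.Agent.Lib.Helper23.SecTw.isFinLocFreeOfRank_one_of_isInvertible _ hMinv
  have hMd : Curv2.deg k X (ClSub.idealMod (ptIdeal p hp)) 1 = -1 := by
    have h2 := deg_idealMod k X (ptIdeal p hp) p (range_ptIdeal p hp).le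
    obtain ⟨h0, -, -, -⟩ := Groth.Agent.Lib.Helper6.PointIdeal.quotMod_point k X p hp
    rw [h0] at h2
    exact_mod_cast h2
  have hflat := isFlat_of_isFinLocFreeOfRank _ 1 hM1
  have hST := Groth.Agent.Lib.Helper6.SimpleSub.shortExact_map_tw (sesOfEpi g) hS
    (ClSub.idealMod (ptIdeal p hp)) hflat
  have cK := isCoh_of_isFinLocFreeOfRank _ 1 hK
  have cE := isCoh_of_isFinLocFreeOfRank E 2 hE
  have cF := isCoh_of_isFinLocFreeOfRank F 1 hF
  have c1 := isCoh_tensorMod_locFree (kernel g) _ cK 1 hM1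
  have c2 := isCoh_tensorMod_locFree E _ cE 1 hM1
  have c3 := isCoh_tensorMod_locFree F _ cF 1 hM1
  have hle := h0_third_le k X _ hST c1 c2 c3
  haveI := hneg _ hMinv (by rw [hMd]; norm_num)
  have hz : Module.finrank k (Coh.HH X (CohB1.tensorMod E (ClSub.idealMod (ptIdeal p hp))) 0) = 0 :=
    Module.finrank_zero_of_subsingleton
  change Module.finrank k (Coh.HH X (CohB1.tensorMod F (ClSub.idealMod (ptIdeal p hp))) 0) ≤
    Module.finrank k (Coh.HH X (CohB1.tensorMod E (ClSub.idealMod (ptIdeal p hp))) 0) +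
      Module.finrank k (Coh.HH X (CohB1.tensorMod (kernel g) (ClSub.idealMod (ptIdeal p hp))) 1) at hle
  rw [hz, zero_add] at hle
  -- degrees
  have hdK := Groth.Agent.Lib.Helper4.CurveDegT.deg_tensor k X hdim.le 1 1 (kernel g) _ hK hM1
  have hdF := Groth.Agent.Lib.Helper4.CurveDegT.deg_tensor k X hdim.le 1 1 F _ hF hM1
  simp only [mul_one, Nat.cast_one, one_mul] at hdK hdF
  rw [hMd, hK0] at hdK
  rw [hMd, hFd] at hdF
  -- no sections of K ⊗ M
  have hKMinv : PicF.IsInvertible (CohB1.tensorMod (kernel g) (ClSub.idealMod (ptIdeal p hp))) :=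
    Groth.Agent.Lib.Helper23.SecTw.isInvertible_tensorMod hKinv hMinv
  have hKM0 : Module.finrank k
      (Coh.HH X (CohB1.tensorMod (kernel g) (ClSub.idealMod (ptIdeal p hp))) 0) = 0 := by
    by_contra hne
    obtain ⟨t, ht⟩ := Groth.Agent.Lib.Helper4.CurveRR.exists_hom_ne_zero k X _ (Nat.pos_of_ne_zero hne)
    have := deg_nonneg k X hdim _ hKMinv t ht
    rw [hdK] at this
    norm_num at this
  have eO := Groth.Agent.Lib.Helper4.CurveSpecial.euler_structureModule k X hdim
  rw [finrank_hh0_eq_one_of_isAlgClosed k X] at eO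
  have e1 := Groth.Agent.Lib.Helper4.CurveRR.euler_eq_h0_sub_h1 k X hdim.le _ c1
  have e3 := Groth.Agent.Lib.Helper4.CurveRR.euler_le_h0 k X hdim.le _ c3
  unfold Curv2.deg at hdK hdF
  rw [eO] at hdK hdF
  rw [e1, hKM0] at hdK
  have hle' : (Module.finrank k (Coh.HH X (CohB1.tensorMod F (ClSub.idealMod (ptIdeal p hp))) 0) : ℤ) ≤
      (Module.finrank k
        (Coh.HH X (CohB1.tensorMod (kernel g) (ClSub.idealMod (ptIdeal p hp))) 1) : ℤ) := by
    exact_mod_cast hle
  push_cast at hdK hdF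
  unfold Curv2.deg
  rw [eO]
  push_cast
  linarith


open Groth.Agent.Lib.Helper6.CurveDeg Groth.Agent.Lib.Helper4.CurveNorm in
/-- genus one: a normalized rank two bundle does not have degree two -/
theorem deg_ne_two_of_genus_one (hpid : PIDStalks X) (hdim : topologicalKrullDim X = 1)
    (hg : Curv2.genus k X = 1) (E : X.Modules) (hE : FlatMod.IsFinLocFreeOfRank 2 E)
    (hneg : ∀ M : X.Modules, PicF.IsInvertible M → Curv2.deg k X M 1 < 0 →
      Subsingleton (Coh.HH X (CohB1.tensorMod E M) 0)) :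
    Curv2.deg k X E 2 ≠ 2 := by
  intro hdeg
  haveI : Nonempty X := Groth.Agent.Lib.Helper4.CurveRR.nonempty_of_dim_eq_one hdim
  obtain ⟨M, g, hg', hK, -, -, hle⟩ := Groth.Agent.Lib.Helper6.Atiyah.exists_line_sub k X hpid hdim hg E hE 1
    (by rw [hdeg]; norm_num)
  have hKinv : PicF.IsInvertible (kernel g) := isInvertible_of_rank_one _ hK
  have hne : kernel.ι g ≠ 0 := by
    intro h
    exact Groth.Agent.Lib.Helper4.CurveHN.not_isZero_of_rank_pos X (kernel g) 1 Nat.one_pos hK
      (IsZero.of_mono_eq_zero (kernel.ι g) h)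
  obtain ⟨u', hu'⟩ := exists_section_of_hom (kernel g) hKinv E (kernel.ι g) hne
  have hD := Groth.Agent.Lib.Helper23.InvDual.isInvertible_dual _ hKinv
  have hdd := Groth.Agent.Lib.Helper6.Atiyah.deg_dual k X hdim (kernel g) hKinv
  haveI := hneg (RefHull.dual (kernel g)) hD (by rw [hdd]; linarith)
  apply hu'
  apply (Groth.Agent.Lib.Helper4.CurveAsym.homH0Equiv k
    (CohB1.tensorMod E (RefHull.dual (kernel g)))).injective
  exact Subsingleton.elim _ _

/-- **S11348** -/
theorem deg_genus_one (hpid : PIDStalks X) (hdim : topologicalKrullDim X = 1)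
    (hg : Curv2.genus k X = 1) (E : X.Modules) (hE : FlatMod.IsFinLocFreeOfRank 2 E)
    (hn0 : Nontrivial (Coh.HH X E 0))
    (hneg : ∀ M : X.Modules, PicF.IsInvertible M → Curv2.deg k X M 1 < 0 →
      Subsingleton (Coh.HH X (CohB1.tensorMod E M) 0))
    (hind : ∀ L₁ L₂ : X.Modules, PicF.IsInvertible L₁ → PicF.IsInvertible L₂ → IsEmpty (E ≅ L₁ ⊞ L₂)) :
    Curv2.deg k X E 2 = 0 ∨ Curv2.deg k X E 2 = 1 := by
  have h1 := deg_lower k X hpid hdim E hE hn0 hneg hind
  have h2 := deg_upper k X hpid hdim E hE hn0 hneg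
  have h3 := deg_ne_two_of_genus_one k X hpid hdim hg E hE hneg
  rw [hg] at h1 h2
  push_cast at h1 h2
  omega

end Curve

end Groth.Agent.Lib.Helper4.CurveNormalized
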