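import Mathlib
import Groth.Agent.Lib.Helper4CurveNormalized
import Groth.Agent.Lib.Helper6SimpleSub
import Groth.Agent.Lib.Helper6LineSplit

/-!
# Uniqueness of the non-split self-extension of `O` on an elliptic curve (helper4; S12431)

* abstract part: the pushout of a short exact sequence along a map out of `X₁` (`pushoutSC`), its `Ext`-class
  (`extClass_comp_mk₀`), and split ⇔ trivial class;
* on a regular proper curve of genus one over an algebraically closed field, any two non-split extensions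
  `0 → O → E → O → 0` have isomorphic middle terms (`nonempty_iso_of_nonsplit`): pushing out along `O → O(p)` kills the
  class since `H¹(O(p)) = 0`, so both classes come from `Hom(O, O_p)`, which is one-dimensional; the resulting
  proportionality of classes gives a morphism of extensions, an isomorphism by the five lemma;
* a normalized indecomposable rank two bundle of degree zero is such an extension (`exists_ses_of_normalized`).
-/

set_option autoImplicit false
set_option linter.style.haveILetI false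
universe w v' u' u
open CategoryTheory CategoryTheory.Limits AlgebraicGeometry TopologicalSpace Opposite Abelian

namespace Groth.Agent.Lib.Helper4.CurveExtUniq

section Abstract

variable {𝒜 : Type u'} [Category.{v'} 𝒜] [Abelian 𝒜]

/-- pushout of a short complex along a map out of `X₁` -/
noncomputable abbrev pushoutSC (S : ShortComplex 𝒜) {L : 𝒜} (s : S.X₁ ⟶ L) : ShortComplex 𝒜 :=
  ShortComplex.mk (pushout.inr S.f s) (pushout.desc S.g 0 (by rw [S.zero, comp_zero]))
    (by rw [pushout.inr_desc])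

theorem pushoutSC_shortExact (S : ShortComplex 𝒜) (hS : S.ShortExact) {L : 𝒜} (s : S.X₁ ⟶ L) :
    (pushoutSC S s).ShortExact := by
  haveI := hS.mono_f
  haveI := hS.epi_g
  have hinl : pushout.inl S.f s ≫ (pushoutSC S s).g = S.g := pushout.inl_desc _ _ _
  haveI : Epi (pushoutSC S s).g := by
    haveI : Epi (pushout.inl S.f s ≫ (pushoutSC S s).g) := by rw [hinl]; infer_instance
    exact epi_of_epi (pushout.inl S.f s) _
  haveI : Mono (pushoutSC S s).f := (inferInstance : Mono (pushout.inr S.f s))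
  refine ShortComplex.ShortExact.mk' ?_ inferInstance inferInstance
  apply ShortComplex.exact_of_g_is_cokernel
  refine CokernelCofork.IsColimit.ofπ' _ _ (fun {Z} h hh => ?_)
  have h1 : S.f ≫ pushout.inl S.f s ≫ h = 0 := by
    rw [← Category.assoc, pushout.condition, Category.assoc]
    change s ≫ (pushoutSC S s).f ≫ h = 0
    rw [hh, comp_zero]
  refine ⟨hS.gIsCokernel.desc (CokernelCofork.ofπ _ h1), ?_⟩
  apply pushout.hom_ext
  · rw [← Category.assoc, hinl]
    exact hS.gIsCokernel.fac (CokernelCofork.ofπ _ h1) WalkingParallelPair.one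
  · rw [← Category.assoc]
    change ((pushoutSC S s).f ≫ (pushoutSC S s).g) ≫ _ = (pushoutSC S s).f ≫ h
    rw [(pushoutSC S s).zero, zero_comp, hh]

/-- the canonical morphism to the pushout -/
noncomputable def pushoutSCHom (S : ShortComplex 𝒜) {L : 𝒜} (s : S.X₁ ⟶ L) : S ⟶ pushoutSC S s where
  τ₁ := s
  τ₂ := pushout.inl S.f s
  τ₃ := 𝟙 _
  comm₁₂ := pushout.condition.symm
  comm₂₃ := by
    change pushout.inl S.f s ≫ pushout.desc S.g 0 _ = S.g ≫ 𝟙 _
    rw [pushout.inl_desc, Category.comp_id]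

variable [HasExt.{w} 𝒜]

/-- a split short exact sequence has trivial class -/
theorem extClass_eq_zero_of_section (S : ShortComplex 𝒜) (hS : S.ShortExact) (σ : S.X₃ ⟶ S.X₂)
    (hσ : σ ≫ S.g = 𝟙 _) : hS.extClass = 0 := by
  have h1 : hS.extClass = (Ext.mk₀ (𝟙 S.X₃)).comp hS.extClass (zero_add 1) := (Ext.mk₀_id_comp _).symm
  rw [h1, ← hσ, ← Ext.mk₀_comp_mk₀, Ext.comp_assoc_of_second_deg_zero, hS.comp_extClass, Ext.comp_zero]

/-- a short exact sequence with trivial class splits -/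
theorem exists_section_of_extClass_eq_zero (S : ShortComplex 𝒜) (hS : S.ShortExact)
    (h : hS.extClass = 0) : ∃ σ : S.X₃ ⟶ S.X₂, σ ≫ S.g = 𝟙 _ := by
  obtain ⟨x₂, hx₂⟩ := Ext.covariant_sequence_exact₃ S.X₃ hS (Ext.mk₀ (𝟙 S.X₃)) (zero_add 1)
    (by rw [h, Ext.comp_zero])
  obtain ⟨σ, rfl⟩ := (Ext.mk₀_bijective _ _).2 x₂
  refine ⟨σ, ?_⟩
  apply (Ext.mk₀_bijective _ _).1
  rw [← hx₂, Ext.mk₀_comp_mk₀]

/-- the class of the pushout -/
theorem extClass_comp_mk₀ (S : ShortComplex 𝒜) (hS : S.ShortExact) {L : 𝒜} (s : S.X₁ ⟶ L) :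
    hS.extClass.comp (Ext.mk₀ s) (add_zero 1) = (pushoutSC_shortExact S hS s).extClass := by
  have h := ShortComplex.ShortExact.extClass_naturality hS (pushoutSC_shortExact S hS s) (pushoutSCHom S s)
  change hS.extClass.comp (Ext.mk₀ s) (add_zero 1) =
    (Ext.mk₀ (𝟙 S.X₃)).comp (pushoutSC_shortExact S hS s).extClass (zero_add 1) at h
  rw [h, Ext.mk₀_id_comp]

/-- cancelling an isomorphism on the right -/
theorem comp_inv_comp_hom {A B C : 𝒜} (x : Ext.{w} A B 1) (a : B ≅ C) :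
    (x.comp (Ext.mk₀ a.hom) (add_zero 1)).comp (Ext.mk₀ a.inv) (add_zero 1) = x := by
  rw [Ext.comp_assoc_of_third_deg_zero, Ext.mk₀_comp_mk₀, a.hom_inv_id, Ext.comp_mk₀_id]

end Abstract

section Gen

variable {X : Scheme.{u}} [HasExt.{w} X.Modules]

/-- pushing an extension of `O` out to a module without `H¹` kills its class -/
theorem extClass_comp_eq_zero_of_H1 (S : ShortComplex X.Modules) (hS : S.ShortExact)
    (h3 : S.X₃ = Coh.structureModule X) {L : X.Modules} (s : S.X₁ ⟶ L)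
    (h1 : Subsingleton (Coh.HH X L 1)) : hS.extClass.comp (Ext.mk₀ s) (add_zero 1) = 0 := by
  rw [extClass_comp_mk₀]
  obtain ⟨t, ht⟩ := Groth.Agent.Lib.Helper6.SimpleSub.exists_lift_of_H1 (pushoutSC S s)
    (pushoutSC_shortExact S hS s) h1 (eqToHom h3.symm)
  refine extClass_eq_zero_of_section _ _ (eqToHom h3 ≫ t) ?_
  rw [Category.assoc, ht, eqToHom_trans, eqToHom_refl]

/-- the class of an extension of `O`, pushed into `Σ.X₁` where `H¹(Σ.X₂) = 0`, comes from `Hom(O, Σ.X₃)` -/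
theorem exists_hom_extClass (S : ShortComplex X.Modules) (hS : S.ShortExact)
    (h3 : S.X₃ = Coh.structureModule X) (Sg : ShortComplex X.Modules) (hSg : Sg.ShortExact)
    (a : S.X₁ ⟶ Sg.X₁) (h1 : Subsingleton (Coh.HH X Sg.X₂ 1)) :
    ∃ t : S.X₃ ⟶ Sg.X₃, (Ext.mk₀ t).comp hSg.extClass (zero_add 1) =
      hS.extClass.comp (Ext.mk₀ a) (add_zero 1) := by
  obtain ⟨x₃, hx₃⟩ := Ext.covariant_sequence_exact₁ S.X₃ hSg (hS.extClass.comp (Ext.mk₀ a) (add_zero 1))
    (by
      rw [Ext.comp_assoc_of_third_deg_zero, Ext.mk₀_comp_mk₀]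
      exact extClass_comp_eq_zero_of_H1 S hS h3 (a ≫ Sg.f) h1) (zero_add 1)
  obtain ⟨t, rfl⟩ := (Ext.mk₀_bijective _ _).2 x₃
  exact ⟨t, hx₃⟩

end Gen

section Curve

open Groth.Agent.Lib.Helper4.CurveBun Groth.Agent.Lib.Helper4.Dev Groth.Agent.Lib.Helper4.DegAdd
  Groth.Agent.Lib.Helper27SerreVan Groth.Agent.Lib.Helper27GlobGenPn Groth.Agent.Lib.Helper4.CurvePt
  Groth.Agent.Lib.Helper4.CurveDegSec Groth.Agent.Lib.Helper4.CurveCliff Groth.Agent.Lib.Helper4.CurveChi

variable (k : Type u) [Field k] [IsAlgClosed k] (X : Scheme.{u}) [X.Over (Spec (CommRingCat.of k))]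
  [IsProper (X ↘ (Spec (CommRingCat.of k)))] [IsIntegral X]

omit [IsAlgClosed k] [IsProper (X ↘ (Spec (CommRingCat.of k)))] [IsIntegral X] in
/-- a nonzero scalar acts invertibly -/
theorem isIso_smul_id (M : X.Modules) (c : k) (hc : c ≠ 0) : IsIso (c • 𝟙 M) :=
  ⟨⟨c⁻¹ • 𝟙 M, by
    rw [Linear.smul_comp, Linear.comp_smul, Category.id_comp, smul_smul, mul_inv_cancel₀ hc, one_smul],
    by rw [Linear.smul_comp, Linear.comp_smul, Category.id_comp, smul_smul, inv_mul_cancel₀ hc, one_smul]⟩⟩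

/-- **uniqueness of the non-split self-extension of `O` in genus one** -/
theorem nonempty_iso_of_nonsplit [HasExt.{w} X.Modules] (hpid : PIDStalks X)
    (hdim : topologicalKrullDim X = 1) (hg : Curv2.genus k X = 1)
    {E : X.Modules} (f : Coh.structureModule X ⟶ E) (g : E ⟶ Coh.structureModule X) (w₀ : f ≫ g = 0)
    (hS : (ShortComplex.mk f g w₀).ShortExact) (hns : ∀ σ : Coh.structureModule X ⟶ E, σ ≫ g ≠ 𝟙 _)
    {E' : X.Modules} (f' : Coh.structureModule X ⟶ E') (g' : E' ⟶ Coh.structureModule X)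
    (w₀' : f' ≫ g' = 0) (hS' : (ShortComplex.mk f' g' w₀').ShortExact)
    (hns' : ∀ σ : Coh.structureModule X ⟶ E', σ ≫ g' ≠ 𝟙 _) :
    Nonempty (E ≅ E') := by
  haveI : IsLocallyNoetherian X := isLocallyNoetherian_of_proper k X
  haveI : IsNoetherian X := Groth.Agent.Lib.Helper4.CurveRR.isNoetherian_of_proper k X
  haveI : Nonempty X := Groth.Agent.Lib.Helper4.CurveRR.nonempty_of_dim_eq_one hdim
  obtain ⟨p, hp⟩ := exists_closed_point X
  have hO := Groth.Agent.Lib.Helper23.TensorUnit.isInvertible_structureModule X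
  obtain ⟨T, hT, ⟨a⟩, hdT⟩ := exists_twist_up k X hpid hdim (Coh.structureModule X) hO p hp
  have hT1 := Groth.Agent.Lib.Helper23.SecTw.isFinLocFreeOfRank_one_of_isInvertible T hT
  have hH1T : Subsingleton (Coh.HH X T 1) := by
    rw [← not_nontrivial_iff_subsingleton]
    intro hnt
    have h := Groth.Agent.Lib.Helper4.CurveSpecial.deg_le_of_H1_nontrivial k X hdim T hT hnt
    rw [finrank_hh0_eq_one_of_isAlgClosed k X, hdT, Groth.Agent.Lib.Helper6.CurveDeg.deg_structureModule k X,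
      hg] at h
    norm_num at h
  have hSg := ptSES_shortExact p hp T hT1
  have hH1 : Subsingleton (Coh.HH X (ptSES p hp T).X₂ 1) :=
    (HHequiv k (Groth.Agent.Lib.Helper23.TensorUnit.unitTensorIso T) 1).toEquiv.subsingleton
  let a' : (ShortComplex.mk f g w₀).X₁ ≅ (ptSES p hp T).X₁ := a.symm
  let a'' : (ShortComplex.mk f' g' w₀').X₁ ≅ (ptSES p hp T).X₁ := a.symm
  obtain ⟨t, ht⟩ := exists_hom_extClass _ hS rfl _ hSg a'.hom hH1
  obtain ⟨t', ht'⟩ := exists_hom_extClass _ hS' rfl _ hSg a''.hom hH1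
  have ht0 : t ≠ 0 := by
    intro h0
    rw [h0, Ext.mk₀_zero, Ext.zero_comp] at ht
    have he : hS.extClass = 0 := by
      rw [← comp_inv_comp_hom hS.extClass a', ← ht, Ext.zero_comp]
    obtain ⟨σ, hσ⟩ := exists_section_of_extClass_eq_zero _ hS he
    exact hns σ hσ
  have hfr : Module.finrank k (Coh.structureModule X ⟶ (ptSES p hp T).X₃) = 1 := by
    rw [Groth.Agent.Lib.Helper4.CurveAsym.finrank_hom_eq k]
    exact h0_quot_twist k X p hp T hT1
  obtain ⟨c, hc⟩ := (finrank_eq_one_iff_of_nonzero' (t : Coh.structureModule X ⟶ (ptSES p hp T).X₃) ht0).1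
    hfr t'
  have hcomp : (c • 𝟙 (Coh.structureModule X)) ≫ t = t' := by
    rw [Linear.smul_comp, Category.id_comp]
    exact hc
  have hee : hS'.extClass = (Ext.mk₀ (c • 𝟙 (Coh.structureModule X))).comp hS.extClass (zero_add 1) := by
    rw [← comp_inv_comp_hom hS'.extClass a'', ← ht', ← hcomp, ← Ext.mk₀_comp_mk₀_assoc, ht,
      ← Ext.comp_assoc_of_third_deg_zero]
    exact comp_inv_comp_hom _ a'
  have hc0 : c ≠ 0 := by
    intro h0
    rw [h0, zero_smul, Ext.mk₀_zero, Ext.zero_comp] at hee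
    obtain ⟨σ, hσ⟩ := exists_section_of_extClass_eq_zero _ hS' hee
    exact hns' σ hσ
  obtain ⟨x₂, hx₂⟩ := Ext.covariant_sequence_exact₃ E' hS
    (Ext.mk₀ (g' ≫ (c • 𝟙 (Coh.structureModule X)))) (zero_add 1) (by
      rw [← Ext.mk₀_comp_mk₀, Ext.comp_assoc_of_second_deg_zero, ← hee]
      exact hS'.comp_extClass)
  obtain ⟨φ, rfl⟩ := (Ext.mk₀_bijective _ _).2 x₂
  have hφ : φ ≫ g = g' ≫ (c • 𝟙 (Coh.structureModule X)) := by
    apply (Ext.mk₀_bijective _ _).1
    rw [← hx₂, Ext.mk₀_comp_mk₀]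
  have hk : (f' ≫ φ) ≫ g = 0 := by rw [Category.assoc, hφ, ← Category.assoc, w₀', zero_comp]
  let α : Coh.structureModule X ⟶ Coh.structureModule X :=
    hS.fIsKernel.lift (KernelFork.ofι (f' ≫ φ) hk)
  have hα : α ≫ f = f' ≫ φ := hS.fIsKernel.fac (KernelFork.ofι _ hk) WalkingParallelPair.zero
  have hEnd : Module.finrank k (Coh.structureModule X ⟶ Coh.structureModule X) = 1 := by
    rw [Groth.Agent.Lib.Helper4.CurveAsym.finrank_hom_eq k, finrank_hh0_eq_one_of_isAlgClosed k X]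
  have hid : (𝟙 (Coh.structureModule X) : Coh.structureModule X ⟶ Coh.structureModule X) ≠ 0 :=
    Groth.Agent.Lib.Helper6.LineSplit.id_ne_zero _ hO
  obtain ⟨b, hb⟩ := (finrank_eq_one_iff_of_nonzero' _ hid).1 hEnd α
  have hb0 : b ≠ 0 := by
    intro h0
    rw [h0, zero_smul] at hb
    have h1 : f' ≫ φ = 0 := by rw [← hα, ← hb, zero_comp]
    let σ : Coh.structureModule X ⟶ E := hS'.gIsCokernel.desc (CokernelCofork.ofπ φ h1)
    have hσ : g' ≫ σ = φ := hS'.gIsCokernel.fac (CokernelCofork.ofπ φ h1) WalkingParallelPair.one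
    have h2 : σ ≫ g = c • 𝟙 (Coh.structureModule X) := by
      haveI : Epi g' := hS'.epi_g
      rw [← cancel_epi g', ← Category.assoc, hσ, hφ]
    apply hns (c⁻¹ • σ)
    rw [Linear.smul_comp, h2, smul_smul, inv_mul_cancel₀ hc0, one_smul]
  let Φ : ShortComplex.mk f' g' w₀' ⟶ ShortComplex.mk f g w₀ :=
    { τ₁ := α, τ₂ := φ, τ₃ := c • 𝟙 (Coh.structureModule X), comm₁₂ := hα, comm₂₃ := hφ }
  haveI : IsIso Φ.τ₁ := by
    change IsIso α
    rw [← hb]
    exact isIso_smul_id k X _ b hb0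
  haveI : IsIso Φ.τ₃ := isIso_smul_id k X _ c hc0
  haveI : IsIso φ := ShortComplex.isIso₂_of_shortExact_of_isIso₁₃ Φ hS' hS
  exact ⟨(asIso φ).symm⟩

open Groth.Agent.Lib.Helper6.CurveDeg Groth.Agent.Lib.Helper4.CurveNorm in
/-- a normalized indecomposable rank two bundle of degree zero in genus one is a non-split extension of `O` by `O` -/
theorem exists_ses_of_normalized (hpid : PIDStalks X) (hdim : topologicalKrullDim X = 1)
    (hg : Curv2.genus k X = 1)
    (E : X.Modules) (hE : FlatMod.IsFinLocFreeOfRank 2 E) (hn0 : Nontrivial (Coh.HH X E 0))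
    (hneg : ∀ M : X.Modules, PicF.IsInvertible M → Curv2.deg k X M 1 < 0 →
      Subsingleton (Coh.HH X (CohB1.tensorMod E M) 0))
    (hind : ∀ L₁ L₂ : X.Modules, PicF.IsInvertible L₁ → PicF.IsInvertible L₂ → IsEmpty (E ≅ L₁ ⊞ L₂))
    (hdeg : Curv2.deg k X E 2 = 0) :
    ∃ (f : Coh.structureModule X ⟶ E) (g : E ⟶ Coh.structureModule X) (w₀ : f ≫ g = 0),
      (ShortComplex.mk f g w₀).ShortExact ∧ ∀ σ : Coh.structureModule X ⟶ E, σ ≫ g ≠ 𝟙 _ := by
  haveI : IsLocallyNoetherian X := isLocallyNoetherian_of_proper k X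
  haveI : Nonempty X := Groth.Agent.Lib.Helper4.CurveRR.nonempty_of_dim_eq_one hdim
  have cE := isCoh_of_isFinLocFreeOfRank E 2 hE
  haveI : Module.Finite k (Coh.HH X E 0) := Groth.Agent.S0002.result k X E cE 0
  have h0pos : 0 < Module.finrank k (Coh.HH X E 0) := Module.finrank_pos
  obtain ⟨s, hs⟩ := Groth.Agent.Lib.Helper4.CurveRR.exists_hom_ne_zero k X E h0pos
  have hO := Groth.Agent.Lib.Helper23.TensorUnit.isInvertible_structureModule X
  have hO1 : FlatMod.IsFinLocFreeOfRank 1 (Coh.structureModule X) :=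
    Groth.Agent.Lib.Helper23.SecTw.isFinLocFreeOfRank_one_of_isInvertible _ hO
  haveI : Mono s := Groth.Agent.Lib.Helper6.SSVanish.mono_of_ne_zero_of_rank_one k X hpid 2 hO1 hE s hs
  obtain ⟨F, g₀, u, hg₀, hu, -, hK, hF, hd, hle, hiso⟩ :=
    Groth.Agent.Lib.Helper4.CurveSat.exists_saturation k X hpid hdim s 1 2 hO1 hE
  rw [deg_structureModule k X] at hle hiso
  have hKinv : PicF.IsInvertible (kernel g₀) := isInvertible_of_rank_one _ hK
  have hK0 : Curv2.deg k X (kernel g₀) 1 ≤ 0 := by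
    by_contra hpos
    push Not at hpos
    have hne : kernel.ι g₀ ≠ 0 := by
      intro h
      exact Groth.Agent.Lib.Helper4.CurveHN.not_isZero_of_rank_pos X (kernel g₀) 1 Nat.one_pos hK
        (IsZero.of_mono_eq_zero (kernel.ι g₀) h)
    obtain ⟨u', hu'⟩ := Groth.Agent.Lib.Helper4.CurveNormalized.exists_section_of_hom
      (kernel g₀) hKinv E (kernel.ι g₀) hne
    have hD := Groth.Agent.Lib.Helper23.InvDual.isInvertible_dual _ hKinv
    have hdd := Groth.Agent.Lib.Helper6.Atiyah.deg_dual k X hdim (kernel g₀) hKinv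
    haveI := hneg (RefHull.dual (kernel g₀)) hD (by rw [hdd]; linarith)
    apply hu'
    apply (Groth.Agent.Lib.Helper4.CurveAsym.homH0Equiv k
      (CohB1.tensorMod E (RefHull.dual (kernel g₀)))).injective
    exact Subsingleton.elim _ _
  have hK0' : Curv2.deg k X (kernel g₀) 1 = 0 := le_antisymm hK0 hle
  haveI : IsIso u := hiso hK0'.symm
  have hF1 : FlatMod.IsFinLocFreeOfRank 1 F := hF
  have hFd : Curv2.deg k X F 1 = 0 := by
    have hd' : Curv2.deg k X E 2 = Curv2.deg k X (kernel g₀) 1 + Curv2.deg k X F 1 := hd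
    rw [hK0', zero_add, hdeg] at hd'
    exact hd'.symm
  have hFinv : PicF.IsInvertible F := isInvertible_of_rank_one _ hF1
  have hS₀ := sesOfEpi_shortExact g₀
  have hD := Groth.Agent.Lib.Helper23.InvDual.isInvertible_dual _ hFinv
  have hnsplit : ∀ σ : F ⟶ E, σ ≫ g₀ ≠ 𝟙 F := by
    intro σ hσ
    haveI := hS₀.mono_f
    have spl := ShortComplex.Splitting.ofExactOfSection (sesOfEpi g₀) hS₀.exact σ hσ hS₀.mono_f
    exact (hind (kernel g₀) F hKinv hFinv).false spl.isoBinaryBiproduct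
  have hnt : Nontrivial (Coh.HH X (CohB1.tensorMod (kernel g₀) (RefHull.dual F)) 1) := by
    rw [← not_subsingleton_iff_nontrivial]
    intro hsub
    have hsplit : IsSplitEpi (sesOfEpi g₀).g :=
      Groth.Agent.Lib.Helper6.Atiyah.split_of_H1 (sesOfEpi g₀) hS₀ hFinv hsub
    obtain ⟨⟨σ, hσ⟩⟩ := hsplit
    exact hnsplit σ hσ
  have hNinv : PicF.IsInvertible (CohB1.tensorMod (kernel g₀) (RefHull.dual F)) :=
    Groth.Agent.Lib.Helper23.SecTw.isInvertible_tensorMod hKinv hD
  have hD1 := Groth.Agent.Lib.Helper23.SecTw.isFinLocFreeOfRank_one_of_isInvertible _ hD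
  have hdt := Groth.Agent.Lib.Helper4.CurveDegT.deg_tensor k X hdim.le 1 1 (kernel g₀) (RefHull.dual F) hK hD1
  have hdd := Groth.Agent.Lib.Helper6.Atiyah.deg_dual k X hdim F hFinv
  simp only [mul_one, Nat.cast_one, one_mul] at hdt
  have hdN : Curv2.deg k X (CohB1.tensorMod (kernel g₀) (RefHull.dual F)) 1 = 0 := by
    rw [hdt, hdd, hK0', hFd]
    norm_num
  have cN := isCoh_of_isInvertible _ hNinv
  have e1 := Groth.Agent.Lib.Helper4.CurveRR.euler_eq_h0_sub_h1 k X hdim.le _ cN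
  have e2 := Groth.Agent.Lib.Helper4.CurveSpecial.euler_structureModule k X hdim
  rw [finrank_hh0_eq_one_of_isAlgClosed k X, hg] at e2
  haveI : Module.Finite k (Coh.HH X (CohB1.tensorMod (kernel g₀) (RefHull.dual F)) 1) :=
    Groth.Agent.S0002.result k X _ cN 1
  have h1pos : 0 < Module.finrank k (Coh.HH X (CohB1.tensorMod (kernel g₀) (RefHull.dual F)) 1) :=
    Module.finrank_pos
  have h0pos' : 0 < Module.finrank k (Coh.HH X (CohB1.tensorMod (kernel g₀) (RefHull.dual F)) 0) := by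
    unfold Curv2.deg at hdN
    rw [e1, e2] at hdN
    push_cast at hdN
    zify at h1pos ⊢
    linarith
  obtain ⟨sN, hsN⟩ := Groth.Agent.Lib.Helper4.CurveRR.exists_hom_ne_zero k X _ h0pos'
  haveI : IsIso sN := iso_of_deg_le_zero k X hdim _ hNinv sN hsN hdN.le
  obtain ⟨e₀⟩ := Groth.Agent.Lib.Helper23.InvDual.nonempty_tensorMod_dual_iso F hFinv
  let eF : F ≅ Coh.structureModule X :=
    (Groth.Agent.Lib.Helper23.TensorUnit.unitTensorIso F).symm ≪≫
      Groth.Agent.Lib.Helper23.AmpleIso.tensorModIso (asIso sN) (Iso.refl F) ≪≫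
      Groth.Agent.Lib.Helper23.LocGen.tensorAssoc (kernel g₀) (RefHull.dual F) F ≪≫
      Groth.Agent.Lib.Helper23.AmpleIso.tensorModIso (Iso.refl (kernel g₀))
        (Groth.Agent.Lib.Helper23.AmpleFam2.tensorBraid (RefHull.dual F) F ≪≫ e₀) ≪≫
      Groth.Agent.Lib.Helper23.TensorUnit.tensorUnitIso (kernel g₀) ≪≫ (asIso u).symm
  refine ⟨u ≫ kernel.ι g₀, g₀ ≫ eF.hom, by
    rw [Category.assoc, ← Category.assoc (kernel.ι g₀), kernel.condition, zero_comp, comp_zero], ?_, ?_⟩
  · refine ShortComplex.shortExact_of_iso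
      (ShortComplex.isoMk (asIso u).symm (Iso.refl E) eF ?_ ?_) hS₀
    · change inv u ≫ u ≫ kernel.ι g₀ = kernel.ι g₀ ≫ 𝟙 E
      rw [IsIso.inv_hom_id_assoc, Category.comp_id]
    · change 𝟙 E ≫ g₀ ≫ eF.hom = g₀ ≫ eF.hom
      rw [Category.id_comp]
  · intro σ hσ
    apply hnsplit (eF.hom ≫ σ)
    rw [← cancel_mono eF.hom, Category.assoc, Category.assoc, hσ, Category.comp_id, Category.id_comp]

/-- **S12431**: uniqueness of the normalized indecomposable rank two bundle of degree zero on an elliptic curve -/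
theorem main (hpid : PIDStalks X) (hdim : topologicalKrullDim X = 1) (hg : Curv2.genus k X = 1)
    (E : X.Modules) (hE : FlatMod.IsFinLocFreeOfRank 2 E) (hE0 : Nontrivial (Coh.HH X E 0))
    (hEneg : ∀ M : X.Modules, PicF.IsInvertible M → Curv2.deg k X M 1 < 0 →
      Subsingleton (Coh.HH X (CohB1.tensorMod E M) 0))
    (hEind : ∀ L₁ L₂ : X.Modules, PicF.IsInvertible L₁ → PicF.IsInvertible L₂ → IsEmpty (E ≅ L₁ ⊞ L₂))
    (hEdeg : Curv2.deg k X E 2 = 0)
    (E' : X.Modules) (hE' : FlatMod.IsFinLocFreeOfRank 2 E') (hE'0 : Nontrivial (Coh.HH X E' 0))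
    (hE'neg : ∀ M : X.Modules, PicF.IsInvertible M → Curv2.deg k X M 1 < 0 →
      Subsingleton (Coh.HH X (CohB1.tensorMod E' M) 0))
    (hE'ind : ∀ L₁ L₂ : X.Modules, PicF.IsInvertible L₁ → PicF.IsInvertible L₂ → IsEmpty (E' ≅ L₁ ⊞ L₂))
    (hE'deg : Curv2.deg k X E' 2 = 0) :
    Nonempty (E ≅ E') := by
  letI : HasExt.{u + 1} X.Modules := HasExt.standard _
  obtain ⟨f, g, w₀, hS, hns⟩ := exists_ses_of_normalized k X hpid hdim hg E hE hE0 hEneg hEind hEdeg
  obtain ⟨f', g', w₀', hS', hns'⟩ :=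
    exists_ses_of_normalized k X hpid hdim hg E' hE' hE'0 hE'neg hE'ind hE'deg
  exact nonempty_iso_of_nonsplit k X hpid hdim hg f g w₀ hS hns f' g' w₀' hS' hns'

end Curve

end Groth.Agent.Lib.Helper4.CurveExtUniq
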