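import Groth.Agent.Lib.Helper4Chart2
import Groth.Agent.Lib.Helper4GlueTwo
import Groth.Prelude.Def_Pi1

/-!
# A normal proper curve from two Dedekind charts (helper4)

`exists_curve`: given Dedekind domains `A₀`, `A₁` of finite type over a field `k`, not fields,
with a common localization `C = A₀[1/s₀] = A₁[1/s₁]`, `s₀ s₁ = 1` in `C`, each `A_b` integral over
`k[s_b]`, and `K` a fraction field of `A₀`, the scheme obtained by gluing `Spec A₀` and `Spec A₁`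
along `Spec C` is an integral normal curve, proper over `k`, with function field `K`.
-/

set_option autoImplicit false
set_option linter.style.haveILetI false
set_option linter.overlappingInstances false
universe u

open CategoryTheory AlgebraicGeometry TopologicalSpace

namespace Groth.Agent.Lib.Helper4.CurveGlue

open Chart

attribute [local instance] Curv2.stalkAlgebra

section Props

variable {k K : Type u} [Field k] [Field K] [Algebra k K]
  {A₀ A₁ C : Type u} [CommRing A₀] [CommRing A₁] [CommRing C] [IsDomain A₀] [IsDomain A₁]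
  [Nontrivial C]
  (κ₀ : k →+* A₀) (κ₁ : k →+* A₁) (φ₀ : A₀ →+* C) (φ₁ : A₁ →+* C)
  (s₀ : A₀) (s₁ : A₁)
  {X : Scheme.{u}} (ι₀ : Spec (CommRingCat.of A₀) ⟶ X) (ι₁ : Spec (CommRingCat.of A₁) ⟶ X)
  [IsOpenImmersion ι₀] [IsOpenImmersion ι₁]
  (hglue : Spec.map (CommRingCat.ofHom φ₀) ≫ ι₀ = Spec.map (CommRingCat.ofHom φ₁) ≫ ι₁)
  (hcov : ∀ x : X, x ∈ Set.range ι₀ ∨ x ∈ Set.range ι₁)
  (f : X ⟶ Spec (CommRingCat.of k))
  (hf₀ : ι₀ ≫ f = Spec.map (CommRingCat.ofHom κ₀))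
  (hf₁ : ι₁ ≫ f = Spec.map (CommRingCat.ofHom κ₁))

include hglue hcov in
lemma isIntegral_glue : IsIntegral X := by
  haveI : Nonempty (Spec (CommRingCat.of C)) := inferInstance
  haveI := irreducibleSpace_of_two_charts ι₀ ι₁ _ _ hglue hcov
  haveI := isReduced_of_two_charts ι₀ ι₁ hcov
  exact isIntegral_of_irreducibleSpace_of_isReduced X

include hglue hcov hf₀ hf₁ in
theorem isProper_glue [IsIntegral X]
    (hloc₀ : @IsLocalization.Away A₀ _ s₀ C _ φ₀.toAlgebra)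
    (hloc₁ : @IsLocalization.Away A₁ _ s₁ C _ φ₁.toAlgebra)
    (hs : φ₀ s₀ * φ₁ s₁ = 1)
    (hft₀ : κ₀.FiniteType) (hft₁ : κ₁.FiniteType)
    (hint₀ : ∀ a : A₀, IsIntegral (Subring.closure (Set.range κ₀ ∪ {s₀})) a)
    (hint₁ : ∀ a : A₁, IsIntegral (Subring.closure (Set.range κ₁ ∪ {s₁})) a) :
    IsProper f := by
  haveI : IsOpenImmersion (Spec.map (CommRingCat.ofHom φ₀)) := by
    letI := φ₀.toAlgebra
    exact IsOpenImmersion.of_isLocalization s₀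
  haveI : IsOpenImmersion (Spec.map (CommRingCat.ofHom φ₁)) := by
    letI := φ₁.toAlgebra
    exact IsOpenImmersion.of_isLocalization s₁
  haveI : LocallyOfFiniteType f :=
    locallyOfFiniteType_of_two_charts ι₀ ι₁ hcov f
      (locallyOfFiniteType_chart ι₀ f (CommRingCat.ofHom κ₀) hf₀ hft₀)
      (locallyOfFiniteType_chart ι₁ f (CommRingCat.ofHom κ₁) hf₁ hft₁)
  haveI : CompactSpace X := compactSpace_of_two_charts ι₀ ι₁ hcov
  haveI : QuasiCompact f := (quasiCompact_iff_compactSpace f).mpr inferInstance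
  haveI : Nonempty (Spec (CommRingCat.of C)) := inferInstance
  haveI : Nonempty (chartOpen ι₀) := ⟨⟨ι₀ (Classical.arbitrary _), mem_chartOpen ι₀ _⟩⟩
  haveI : Nonempty (chartOpen ι₁) := ⟨⟨ι₁ (Classical.arbitrary _), mem_chartOpen ι₁ _⟩⟩
  refine TwoChart.isProper_of_two_charts f (chartOpen ι₀) (chartOpen ι₁)
    (isAffineOpen_chartOpen ι₀) (isAffineOpen_chartOpen ι₁) ?_
    ((chartIso ι₀).inv.hom s₀) ((chartIso ι₁).inv.hom s₁) ?_ ?_ ?_ ?_ ?_
  · intro x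
    rcases hcov x with ⟨p, rfl⟩ | ⟨p, rfl⟩
    · exact Or.inl (mem_chartOpen ι₀ p)
    · exact Or.inr (mem_chartOpen ι₁ p)
  · intro x hx h
    exact mem_chartOpen_of_notMem ι₀ ι₁ (CommRingCat.ofHom φ₀) (CommRingCat.ofHom φ₁) hglue s₀
      hloc₀ x hx h
  · intro x hx h
    exact mem_chartOpen_of_notMem ι₁ ι₀ (CommRingCat.ofHom φ₁) (CommRingCat.ofHom φ₀) hglue.symm s₁
      hloc₁ x hx h
  · exact algebraMap_mul_eq_one ι₀ ι₁ (CommRingCat.ofHom φ₀) (CommRingCat.ofHom φ₁) hglue s₀ s₁ hs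
  · exact isIntegral_chart ι₀ f (CommRingCat.ofHom κ₀) hf₀ s₀ hint₀
  · exact isIntegral_chart ι₁ f (CommRingCat.ofHom κ₁) hf₁ s₁ hint₁

end Props

theorem exists_curve {k K : Type u} [Field k] [Field K] [Algebra k K]
    (A₀ A₁ C : Type u) [CommRing A₀] [CommRing A₁] [CommRing C] [IsDomain A₀] [IsDomain A₁]
    [Nontrivial C]
    (κ₀ : k →+* A₀) (κ₁ : k →+* A₁) (φ₀ : A₀ →+* C) (φ₁ : A₁ →+* C)
    (hκ : φ₀.comp κ₀ = φ₁.comp κ₁)
    (s₀ : A₀) (s₁ : A₁)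
    (hloc₀ : @IsLocalization.Away A₀ _ s₀ C _ φ₀.toAlgebra)
    (hloc₁ : @IsLocalization.Away A₁ _ s₁ C _ φ₁.toAlgebra)
    (hs : φ₀ s₀ * φ₁ s₁ = 1)
    [IsDedekindDomain A₀] [IsDedekindDomain A₁] (hF₀ : ¬ IsField A₀) (hF₁ : ¬ IsField A₁)
    (hft₀ : κ₀.FiniteType) (hft₁ : κ₁.FiniteType)
    (hint₀ : ∀ a : A₀, IsIntegral (Subring.closure (Set.range κ₀ ∪ {s₀})) a)
    (hint₁ : ∀ a : A₁, IsIntegral (Subring.closure (Set.range κ₁ ∪ {s₁})) a)
    (θ : A₀ →+* K) (hθ : @IsFractionRing A₀ _ K _ θ.toAlgebra)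
    (hθκ : ∀ c, θ (κ₀ c) = algebraMap k K c) :
    ∃ (X : Scheme.{u}) (_ : X.Over (Spec (CommRingCat.of k))) (_ : IsIntegral X),
      IsProper (X ↘ (Spec (CommRingCat.of k))) ∧ Pi1.IsNormalScheme X ∧
      (∀ x : X, IsClosed ({x} : Set X) → ringKrullDim (X.presheaf.stalk x) = 1) ∧
      ∃ e : X.presheaf.stalk (genericPoint X) ≃+* K, ∀ c : k,
        e (algebraMap k (X.presheaf.stalk (genericPoint X)) c) = algebraMap k K c := by
  haveI : IsOpenImmersion (Spec.map (CommRingCat.ofHom φ₀)) := by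
    letI := φ₀.toAlgebra
    exact IsOpenImmersion.of_isLocalization s₀
  haveI : IsOpenImmersion (Spec.map (CommRingCat.ofHom φ₁)) := by
    letI := φ₁.toAlgebra
    exact IsOpenImmersion.of_isLocalization s₁
  obtain ⟨X, ι₀, ι₁, hι₀, hι₁, hglue, hcov, huniv⟩ :=
    GlueTwo.exists_glue_two (Spec.map (CommRingCat.ofHom φ₀)) (Spec.map (CommRingCat.ofHom φ₁))
  obtain ⟨f, hf₀, hf₁⟩ := huniv (Spec (CommRingCat.of k)) (Spec.map (CommRingCat.ofHom κ₀))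
    (Spec.map (CommRingCat.ofHom κ₁)) (by
      rw [← Spec.map_comp, ← Spec.map_comp, ← CommRingCat.ofHom_comp, ← CommRingCat.ofHom_comp, hκ])
  haveI hint : IsIntegral X := isIntegral_glue φ₀ φ₁ ι₀ ι₁ hglue hcov
  refine ⟨X, ⟨f⟩, hint, ?_, ?_, ?_, ?_⟩
  · exact isProper_glue κ₀ κ₁ φ₀ φ₁ s₀ s₁ ι₀ ι₁ hglue hcov f hf₀ hf₁ hloc₀ hloc₁ hs hft₀ hft₁
      hint₀ hint₁
  · intro x
    rcases hcov x with ⟨p, rfl⟩ | ⟨p, rfl⟩
    · exact ⟨isDomain_stalk_chart ι₀ p, isIntegrallyClosed_stalk_chart ι₀ p⟩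
    · exact ⟨isDomain_stalk_chart ι₁ p, isIntegrallyClosed_stalk_chart ι₁ p⟩
  · intro x hx
    rcases hcov x with ⟨p, rfl⟩ | ⟨p, rfl⟩
    · exact ringKrullDim_stalk_chart ι₀ hF₀ p hx
    · exact ringKrullDim_stalk_chart ι₁ hF₁ p hx
  · exact exists_functionField_equiv ι₀ f (CommRingCat.ofHom κ₀) hf₀ θ hθ hθκ

end Groth.Agent.Lib.Helper4.CurveGlue
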