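import Mathlib
import Groth.Agent.Lib.Helper4CurveHiggs
set_option backward.isDefEq.respectTransparency.types false

/-!
# Opposite filtrations of semistable Higgs bundles on curves (helper4)

* `HiggsSS` : semistability of an `L`-twisted pair
* `sub_higgs_ss` : an invariant sub-bundle of the same slope is semistable
* `higgs_quotient_zero`, `higgs_quotient'` : `higgs_quotient` (S15328) also for a sub of rank `0`
* `opposite_filtrations` (S15330)
-/

set_option autoImplicit false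
set_option linter.style.haveILetI false
set_option linter.unusedSectionVars false
universe u

open TopologicalSpace Topology AlgebraicGeometry CategoryTheory CategoryTheory.Limits Opposite

namespace Groth.Agent.Lib.Helper4.CurveHiggs

section abs0
variable {C : Type*} [Category C] (T : C ⥤ C)

/-- transporting an invariant sub along an isomorphism of twisted pairs -/
theorem inv_transport_iso {E C' G : C} (π : E ⟶ C') [IsIso π] (φ : E ⟶ T.obj E) (φ' : C' ⟶ T.obj C')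
    (hφ' : π ≫ φ' = φ ≫ T.map π) (j : G ⟶ C') (χ : G ⟶ T.obj G) (hχ : χ ≫ T.map j = j ≫ φ') :
    χ ≫ T.map (j ≫ inv π) = (j ≫ inv π) ≫ φ := by
  have h1 : φ' ≫ T.map (inv π) = inv π ≫ φ := by
    rw [← cancel_epi π, ← Category.assoc, hφ', Category.assoc, ← Functor.map_comp, IsIso.hom_inv_id,
      T.map_id, Category.comp_id, IsIso.hom_inv_id_assoc]
  rw [Functor.map_comp, ← Category.assoc, hχ, Category.assoc, h1, Category.assoc]

/-- a sub of an invariant sub which is invariant for the restricted map is invariant -/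
theorem inv_comp {G E' E : C} (j : G ⟶ E') (i : E' ⟶ E) (φ : E ⟶ T.obj E) (ψ' : E' ⟶ T.obj E')
    (hψ' : ψ' ≫ T.map i = i ≫ φ) (χ : G ⟶ T.obj G) (hχ : χ ≫ T.map j = j ≫ ψ') :
    χ ≫ T.map (j ≫ i) = (j ≫ i) ≫ φ := by
  rw [Functor.map_comp, ← Category.assoc, hχ, Category.assoc, hψ', Category.assoc]

end abs0

section abs
variable {C : Type*} [Category C] [Abelian C] (T : C ⥤ C) [T.Additive] [PreservesFiniteLimits T]
  [PreservesFiniteColimits T]

/-- compatibility of restricted maps along a chain of invariant subs -/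
theorem restr_compat {E₀ E₁ E : C} (a : E₀ ⟶ E₁) (i₀ : E₀ ⟶ E) (i₁ : E₁ ⟶ E) [Mono i₁] (ha : a ≫ i₁ = i₀)
    (φ : E ⟶ T.obj E) (ψ₀ : E₀ ⟶ T.obj E₀) (ψ₁ : E₁ ⟶ T.obj E₁)
    (h₀ : ψ₀ ≫ T.map i₀ = i₀ ≫ φ) (h₁ : ψ₁ ≫ T.map i₁ = i₁ ≫ φ) :
    ψ₀ ≫ T.map a = a ≫ ψ₁ := by
  haveI : Mono (T.map i₁) := inferInstance
  rw [← cancel_mono (T.map i₁), Category.assoc, ← Functor.map_comp, ha, h₀, Category.assoc, h₁, ← ha,
    Category.assoc]

end abs

open Groth.Agent.Lib.Helper4.CurveBun Groth.Agent.Lib.Helper4.Dev Groth.Agent.Lib.Helper4.DegAdd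
  Groth.Agent.Lib.Helper4.CurveStab Groth.Agent.Lib.Helper4.CurveSat Groth.Agent.Lib.Helper4.CurveHN

variable (k : Type u) [Field k] (X : Scheme.{u}) [X.Over (Spec (CommRingCat.of k))]
  [IsIntegral X] [IsProper (X ↘ (Spec (CommRingCat.of k)))]

/-- semistability of an `L`-twisted pair `(E, φ)` of rank `r` -/
def HiggsSS (L : X.Modules) (E : X.Modules) (r : ℕ) (φ : E ⟶ CohB1.tensorMod E L) : Prop :=
  ∀ (G : X.Modules) (s : ℕ) (j : G ⟶ E) (χ : G ⟶ CohB1.tensorMod G L), Mono j → 0 < s →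
    FlatMod.IsFinLocFreeOfRank s G →
    χ ≫ (CohB1.sheafifyMod X).map (MonoidalCategoryStruct.whiskerRight (C := CohB1.PMod X) j.val (CohB1.toPMod L)) = j ≫ φ →
    Curv2.deg k X G s * (r : ℤ) ≤ Curv2.deg k X E r * (s : ℤ)

/-- an invariant sub-bundle of the same slope of a semistable pair is semistable -/
theorem sub_higgs_ss (L : X.Modules) (r : ℕ) (hr : 0 < r) (E : X.Modules) (φ : E ⟶ CohB1.tensorMod E L)
    (hss : HiggsSS k X L E r φ) (E' : X.Modules) (r' : ℕ) (i : E' ⟶ E) (hi : Mono i)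
    (ψ' : E' ⟶ CohB1.tensorMod E' L)
    (hψ' : ψ' ≫ (CohB1.sheafifyMod X).map (MonoidalCategoryStruct.whiskerRight (C := CohB1.PMod X) i.val (CohB1.toPMod L)) = i ≫ φ)
    (hslope : Curv2.deg k X E' r' * (r : ℤ) = Curv2.deg k X E r * (r' : ℤ)) :
    HiggsSS k X L E' r' ψ' := by
  intro G s j χ hj hs hG hχ
  haveI := hj
  haveI := hi
  have hr0 : (0 : ℤ) < (r : ℤ) := by exact_mod_cast hr
  have h1 := hss G s (j ≫ i) χ (mono_comp _ _) hs hG
    (inv_comp (DCoh.tensorRightMod L) j i φ ψ' hψ' χ hχ)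
  have h2 := mul_le_mul_of_nonneg_right h1 (Int.natCast_nonneg r')
  have h3 : (Curv2.deg k X G s * (r' : ℤ)) * (r : ℤ) ≤ (Curv2.deg k X E' r' * (s : ℤ)) * (r : ℤ) := by
    have e : (Curv2.deg k X E' r' * (s : ℤ)) * (r : ℤ) = (Curv2.deg k X E r * (r' : ℤ)) * (s : ℤ) := by
      rw [← hslope]; ring
    rw [e]
    linarith
  exact le_of_mul_le_mul_right h3 hr0

/-- quotient by a zero sub -/
theorem higgs_quotient_zero (L : X.Modules)
    (r : ℕ) (E : X.Modules) (hE : FlatMod.IsFinLocFreeOfRank r E)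
    (φ : E ⟶ CohB1.tensorMod E L) (hss : HiggsSS k X L E r φ)
    (F : X.Modules) (hF0 : IsZero F) (i : F ⟶ E) :
    FlatMod.IsFinLocFreeOfRank r (cokernel i) ∧
    ∀ (φ' : cokernel i ⟶ CohB1.tensorMod (cokernel i) L),
      cokernel.π i ≫ φ' = φ ≫ (CohB1.sheafifyMod X).map (MonoidalCategoryStruct.whiskerRight (C := CohB1.PMod X) (cokernel.π i).val (CohB1.toPMod L)) →
      HiggsSS k X L (cokernel i) r φ' := by
  obtain rfl : i = 0 := hF0.eq_of_src _ _
  haveI : IsIso (cokernel.π (0 : F ⟶ E)) := inferInstance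
  have hC : FlatMod.IsFinLocFreeOfRank r (cokernel (0 : F ⟶ E)) :=
    Groth.Agent.Lib.Helper26.ModRank.isFinLocFreeOfRank_of_iso (asIso (cokernel.π (0 : F ⟶ E))) hE
  refine ⟨hC, ?_⟩
  intro φ' hφ' G s j χ hj hs hG hχ
  haveI := hj
  have h1 := hss G s (j ≫ inv (cokernel.π (0 : F ⟶ E))) χ (mono_comp _ _) hs hG
    (inv_transport_iso (DCoh.tensorRightMod L) (cokernel.π (0 : F ⟶ E)) φ φ' hφ' j χ hχ)
  rwa [Groth.Agent.Lib.Helper4.CurveSSAb.deg_congr_iso k X (asIso (cokernel.π (0 : F ⟶ E))) r] at h1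


/-- `higgs_quotient` (S15328), also allowing a sub of rank `0` -/
theorem higgs_quotient' (hpid : PIDStalks X) (hdim : topologicalKrullDim X = 1)
    (L : X.Modules) (hL : PicF.IsInvertible L)
    (r : ℕ) (hr : 0 < r) (E : X.Modules) (hE : FlatMod.IsFinLocFreeOfRank r E)
    (φ : E ⟶ CohB1.tensorMod E L) (hss : HiggsSS k X L E r φ)
    (F : X.Modules) (r' : ℕ) (hF : FlatMod.IsFinLocFreeOfRank r' F)
    (i : F ⟶ E) (hi : Mono i) (ψF : F ⟶ CohB1.tensorMod F L)
    (hψF : ψF ≫ (CohB1.sheafifyMod X).map (MonoidalCategoryStruct.whiskerRight (C := CohB1.PMod X) i.val (CohB1.toPMod L)) = i ≫ φ)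
    (hslope : Curv2.deg k X F r' * (r : ℤ) = Curv2.deg k X E r * (r' : ℤ)) :
    FlatMod.IsFinLocFreeOfRank (r - r') (cokernel i) ∧
    ∀ (φ' : cokernel i ⟶ CohB1.tensorMod (cokernel i) L),
      cokernel.π i ≫ φ' = φ ≫ (CohB1.sheafifyMod X).map (MonoidalCategoryStruct.whiskerRight (C := CohB1.PMod X) (cokernel.π i).val (CohB1.toPMod L)) →
      HiggsSS k X L (cokernel i) (r - r') φ' := by
  haveI := hi
  rcases Nat.eq_zero_or_pos r' with h0 | hpos
  · subst h0
    exact higgs_quotient_zero k X L r E hE φ hss F (isZero_of_rank_zero F hF) i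
  · exact higgs_quotient k X hpid hdim L hL r hr E hE φ hss F r' hpos hF i ψF hψF hslope

/-- **S15330**: opposite filtrations of semistable Higgs bundles of the same slope -/
theorem opposite_filtrations (hpid : PIDStalks X) (hdim : topologicalKrullDim X = 1)
    (L : X.Modules) (hL : PicF.IsInvertible L) (r : ℕ) (hr : 0 < r) (d : ℤ)
    (E : X.Modules) (hE : FlatMod.IsFinLocFreeOfRank r E) (φE : E ⟶ CohB1.tensorMod E L)
    (hEd : Curv2.deg k X E r = d) (hEss : HiggsSS k X L E r φE)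
    (F : X.Modules) (hF : FlatMod.IsFinLocFreeOfRank r F) (φF : F ⟶ CohB1.tensorMod F L)
    (hFd : Curv2.deg k X F r = d) (hFss : HiggsSS k X L F r φF)
    (n : ℕ)
    (Es : ℕ → X.Modules) (rE : ℕ → ℕ) (hEs : ∀ i, FlatMod.IsFinLocFreeOfRank (rE i) (Es i))
    (ιE : ∀ i, Es i ⟶ E) (hιE : ∀ i, Mono (ιE i))
    (ψE : ∀ i, Es i ⟶ CohB1.tensorMod (Es i) L)
    (hψE : ∀ i, ψE i ≫ (CohB1.sheafifyMod X).map (MonoidalCategoryStruct.whiskerRight (C := CohB1.PMod X) (ιE i).val (CohB1.toPMod L)) = ιE i ≫ φE)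
    (a : ∀ i, Es i ⟶ Es (i + 1)) (ha : ∀ i, a i ≫ ιE (i + 1) = ιE i)
    (hE0 : IsZero (Es 0))
    (Fs : ℕ → X.Modules) (rF : ℕ → ℕ) (hFs : ∀ i, FlatMod.IsFinLocFreeOfRank (rF i) (Fs i))
    (ιF : ∀ i, Fs i ⟶ F) (hιF : ∀ i, Mono (ιF i))
    (ψF : ∀ i, Fs i ⟶ CohB1.tensorMod (Fs i) L)
    (hψF : ∀ i, ψF i ≫ (CohB1.sheafifyMod X).map (MonoidalCategoryStruct.whiskerRight (C := CohB1.PMod X) (ιF i).val (CohB1.toPMod L)) = ιF i ≫ φF)
    (b : ∀ i, Fs (i + 1) ⟶ Fs i) (hb : ∀ i, b i ≫ ιF i = ιF (i + 1))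
    (hF0 : IsIso (ιF 0))
    (hrk : ∀ i, i ≤ n → rE i + rF i = r)
    (hopp : ∀ i, i < n → Nonempty (cokernel (a i) ≅ cokernel (b i))) :
    (∀ i, i ≤ n → 0 < rE i →
      Curv2.deg k X (Es i) (rE i) * (r : ℤ) = d * (rE i : ℤ) ∧ HiggsSS k X L (Es i) (rE i) (ψE i)) ∧
    (∀ i, i ≤ n → 0 < rF i →
      Curv2.deg k X (Fs i) (rF i) * (r : ℤ) = d * (rF i : ℤ) ∧ HiggsSS k X L (Fs i) (rF i) (ψF i)) ∧
    (∀ i, i < n → rE i < rE (i + 1) →
      FlatMod.IsFinLocFreeOfRank (rE (i + 1) - rE i) (cokernel (a i)) ∧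
      Curv2.deg k X (cokernel (a i)) (rE (i + 1) - rE i) * (r : ℤ) = d * ((rE (i + 1) - rE i : ℕ) : ℤ) ∧
      ∀ (φ' : cokernel (a i) ⟶ CohB1.tensorMod (cokernel (a i)) L),
        cokernel.π (a i) ≫ φ' = ψE (i + 1) ≫ (CohB1.sheafifyMod X).map (MonoidalCategoryStruct.whiskerRight (C := CohB1.PMod X) (cokernel.π (a i)).val (CohB1.toPMod L)) →
        HiggsSS k X L (cokernel (a i)) (rE (i + 1) - rE i) φ') := by
  haveI := preservesFiniteLimits_tw L hL
  haveI := preservesFiniteColimits_tw L hL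
  haveI : IsLocallyNoetherian X := isLocallyNoetherian_of_proper k X
  have hr0 : (0 : ℤ) < (r : ℤ) := by exact_mod_cast hr
  have hamono : ∀ i, Mono (a i) := fun i => by
    haveI := hιE i
    haveI : Mono (a i ≫ ιE (i + 1)) := by rw [ha]; infer_instance
    exact mono_of_mono (a i) (ιE (i + 1))
  have hbmono : ∀ i, Mono (b i) := fun i => by
    haveI := hιF (i + 1)
    haveI : Mono (b i ≫ ιF i) := by rw [hb]; infer_instance
    exact mono_of_mono (b i) (ιF i)
  have cE : ∀ i, Coh.IsCoh (Es i) := fun i => isCoh_of_isFinLocFreeOfRank _ _ (hEs i)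
  have cF : ∀ i, Coh.IsCoh (Fs i) := fun i => isCoh_of_isFinLocFreeOfRank _ _ (hFs i)
  -- Euler characteristics add up
  have hS : ∀ i, i ≤ n → Curv2.euler k X (Es i) + Curv2.euler k X (Fs i) = Curv2.euler k X F := by
    intro i
    induction i with
    | zero =>
      intro _
      haveI := hF0
      rw [euler_eq_zero_of_isZero k (Es 0) hE0, zero_add,
        Groth.Agent.Lib.Helper4.CurveChi.euler_congr_iso k (asIso (ιF 0))]
    | succ i ih =>
      intro hi
      have h0 := ih (by omega)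
      haveI := hamono i
      haveI := hbmono i
      have e1 := Groth.Agent.Lib.Helper6.Euler.euler_additive k X (sesOfMono (a i)) (sesOfMono_shortExact (a i))
        (cE i) (cE (i + 1)) (isCoh_cokernel (a i) (cE i) (cE (i + 1)))
      have e2 := Groth.Agent.Lib.Helper6.Euler.euler_additive k X (sesOfMono (b i)) (sesOfMono_shortExact (b i))
        (cF (i + 1)) (cF i) (isCoh_cokernel (b i) (cF (i + 1)) (cF i))
      obtain ⟨e⟩ := hopp i (by omega)
      have e3 := Groth.Agent.Lib.Helper4.CurveChi.euler_congr_iso k e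
      change Curv2.euler k X (Es (i + 1)) = Curv2.euler k X (Es i) + Curv2.euler k X (cokernel (a i)) at e1
      change Curv2.euler k X (Fs i) = Curv2.euler k X (Fs (i + 1)) + Curv2.euler k X (cokernel (b i)) at e2
      linarith
  have hdsum : ∀ i, i ≤ n → Curv2.deg k X (Es i) (rE i) + Curv2.deg k X (Fs i) (rF i) = d := by
    intro i hi
    have h1 := hS i hi
    have h2 : ((rE i : ℤ) + (rF i : ℤ)) = (r : ℤ) := by exact_mod_cast hrk i hi
    rw [← hFd]
    unfold Curv2.deg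
    rw [← h2, ← h1]
    ring
  have hEle : ∀ i, Curv2.deg k X (Es i) (rE i) * (r : ℤ) ≤ d * (rE i : ℤ) := by
    intro i
    rcases Nat.eq_zero_or_pos (rE i) with h0 | hpos
    · have h := hEs i
      rw [h0] at h ⊢
      rw [deg_rank_zero k _ h]
      simp
    · have := hEss (Es i) (rE i) (ιE i) (ψE i) (hιE i) hpos (hEs i) (hψE i)
      rwa [hEd] at this
  have hFle : ∀ i, Curv2.deg k X (Fs i) (rF i) * (r : ℤ) ≤ d * (rF i : ℤ) := by
    intro i
    rcases Nat.eq_zero_or_pos (rF i) with h0 | hpos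
    · have h := hFs i
      rw [h0] at h ⊢
      rw [deg_rank_zero k _ h]
      simp
    · have := hFss (Fs i) (rF i) (ιF i) (ψF i) (hιF i) hpos (hFs i) (hψF i)
      rwa [hFd] at this
  have hboth : ∀ i, i ≤ n → Curv2.deg k X (Es i) (rE i) * (r : ℤ) = d * (rE i : ℤ) ∧
      Curv2.deg k X (Fs i) (rF i) * (r : ℤ) = d * (rF i : ℤ) := by
    intro i hi
    have h1 := hEle i
    have h2 := hFle i
    have h3 := hdsum i hi
    have h4 : ((rE i : ℤ) + (rF i : ℤ)) = (r : ℤ) := by exact_mod_cast hrk i hi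
    have h5 : (Curv2.deg k X (Es i) (rE i) + Curv2.deg k X (Fs i) (rF i)) * (r : ℤ) =
        d * ((rE i : ℤ) + (rF i : ℤ)) := by rw [h3, h4]
    constructor <;> linarith
  have hEssi : ∀ i, i ≤ n → HiggsSS k X L (Es i) (rE i) (ψE i) := by
    intro i hi
    apply sub_higgs_ss k X L r hr E φE hEss (Es i) (rE i) (ιE i) (hιE i) (ψE i) (hψE i)
    rw [(hboth i hi).1, hEd]
  have hFssi : ∀ i, i ≤ n → HiggsSS k X L (Fs i) (rF i) (ψF i) := by
    intro i hi
    apply sub_higgs_ss k X L r hr F φF hFss (Fs i) (rF i) (ιF i) (hιF i) (ψF i) (hψF i)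
    rw [(hboth i hi).2, hFd]
  refine ⟨fun i hi _ => ⟨(hboth i hi).1, hEssi i hi⟩, fun i hi _ => ⟨(hboth i hi).2, hFssi i hi⟩, ?_⟩
  intro i hi hlt
  haveI := hιE (i + 1)
  have hcompat : ψE i ≫ (DCoh.tensorRightMod L).map (a i) = a i ≫ ψE (i + 1) :=
    restr_compat (DCoh.tensorRightMod L) (a i) (ιE i) (ιE (i + 1)) (ha i) φE (ψE i) (ψE (i + 1))
      (hψE i) (hψE (i + 1))
  have hsl : Curv2.deg k X (Es i) (rE i) * (rE (i + 1) : ℤ) =
      Curv2.deg k X (Es (i + 1)) (rE (i + 1)) * (rE i : ℤ) := by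
    have h1 := (hboth i (by omega)).1
    have h2 := (hboth (i + 1) (by omega)).1
    have h3 : (Curv2.deg k X (Es i) (rE i) * (rE (i + 1) : ℤ)) * (r : ℤ) =
        (Curv2.deg k X (Es (i + 1)) (rE (i + 1)) * (rE i : ℤ)) * (r : ℤ) := by
      have e1 : (Curv2.deg k X (Es i) (rE i) * (rE (i + 1) : ℤ)) * (r : ℤ) =
          (Curv2.deg k X (Es i) (rE i) * (r : ℤ)) * (rE (i + 1) : ℤ) := by ring
      have e2 : (Curv2.deg k X (Es (i + 1)) (rE (i + 1)) * (rE i : ℤ)) * (r : ℤ) =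
          (Curv2.deg k X (Es (i + 1)) (rE (i + 1)) * (r : ℤ)) * (rE i : ℤ) := by ring
      rw [e1, e2, h1, h2]
      ring
    exact mul_right_cancel₀ (ne_of_gt hr0) h3
  obtain ⟨hC, hCss⟩ := higgs_quotient' k X hpid hdim L hL (rE (i + 1)) (by omega) (Es (i + 1)) (hEs (i + 1))
    (ψE (i + 1)) (hEssi (i + 1) (by omega)) (Es i) (rE i) (hEs i) (a i) (hamono i) (ψE i) hcompat hsl
  refine ⟨hC, ?_, hCss⟩
  haveI := hamono i
  have hdC := deg_additive k X (sesOfMono (a i)) (sesOfMono_shortExact (a i)) (rE i) (rE (i + 1))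
    (rE (i + 1) - rE i) (hEs i) (hEs (i + 1)) hC
  change Curv2.deg k X (Es (i + 1)) (rE (i + 1)) = Curv2.deg k X (Es i) (rE i) +
    Curv2.deg k X (cokernel (a i)) (rE (i + 1) - rE i) at hdC
  have h1 := (hboth i (by omega)).1
  have h2 := (hboth (i + 1) (by omega)).1
  have hrr : ((rE (i + 1) - rE i : ℕ) : ℤ) = (rE (i + 1) : ℤ) - (rE i : ℤ) := Nat.cast_sub hlt.le
  rw [hrr]
  have e1 : Curv2.deg k X (cokernel (a i)) (rE (i + 1) - rE i) =
      Curv2.deg k X (Es (i + 1)) (rE (i + 1)) - Curv2.deg k X (Es i) (rE i) := by linarith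
  rw [e1, sub_mul, h1, h2]
  ring

end Groth.Agent.Lib.Helper4.CurveHiggs
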