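import Mathlib
import Groth.Agent.Lib.Helper4CurveHiggs2
set_option backward.isDefEq.respectTransparency.types false

/-!
# Maximal destabilising invariant sub-bundle of a twisted pair (helper4)

* `exists_max_destab_pred` : `exists_max_destab` (S14149) among the sub-bundles satisfying a predicate
* `Inv` : invariance of a sub under `φ : E ⟶ E ⊗ L`
* `max_inv_cokernel_locFree`, `max_inv_comp_eq_zero` : the maximal invariant sub is saturated and is preserved by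
  every endomorphism commuting with `φ`
* `higgs_ss_iff_of_comm` (S16005)
-/

set_option autoImplicit false
set_option linter.style.haveILetI false
set_option linter.unusedSectionVars false
universe u

open TopologicalSpace Topology AlgebraicGeometry CategoryTheory CategoryTheory.Limits Opposite

namespace Groth.Agent.Lib.Helper4.CurveHiggs

section abs
variable {C : Type*} [Category C] [Abelian C] (T : C ⥤ C) [T.Additive] [PreservesFiniteLimits T]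
  [PreservesFiniteColimits T]

/-- the map induced by `φ` on the quotient by an invariant sub, and the obstruction `E₁ → E → E → E/E₁` of a commuting
endomorphism as a map of twisted pairs -/
theorem comm_obstruction {E₁ E : C} (i₁ : E₁ ⟶ E) (φ : E ⟶ T.obj E) (χ₁ : E₁ ⟶ T.obj E₁)
    (hχ₁ : χ₁ ≫ T.map i₁ = i₁ ≫ φ) (ψ : E ⟶ E) (hψ : ψ ≫ φ = φ ≫ T.map ψ) :
    ∃ φC : cokernel i₁ ⟶ T.obj (cokernel i₁), cokernel.π i₁ ≫ φC = φ ≫ T.map (cokernel.π i₁) ∧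
      (i₁ ≫ ψ ≫ cokernel.π i₁) ≫ φC = χ₁ ≫ T.map (i₁ ≫ ψ ≫ cokernel.π i₁) := by
  have h0 : i₁ ≫ φ ≫ T.map (cokernel.π i₁) = 0 := by
    rw [← Category.assoc, ← hχ₁, Category.assoc, ← Functor.map_comp, cokernel.condition, Functor.map_zero, comp_zero]
  refine ⟨cokernel.desc i₁ (φ ≫ T.map (cokernel.π i₁)) h0, cokernel.π_desc _ _ _, ?_⟩
  rw [Category.assoc, Category.assoc, cokernel.π_desc, ← Category.assoc ψ, hψ, Category.assoc, ← Category.assoc i₁,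
    ← hχ₁, Functor.map_comp, Functor.map_comp, Category.assoc]

end abs

open Groth.Agent.Lib.Helper4.CurveBun Groth.Agent.Lib.Helper4.Dev Groth.Agent.Lib.Helper4.DegAdd
  Groth.Agent.Lib.Helper4.CurveStab Groth.Agent.Lib.Helper4.CurveSat Groth.Agent.Lib.Helper4.CurveHN

variable (k : Type u) [Field k] (X : Scheme.{u}) [X.Over (Spec (CommRingCat.of k))]
  [IsIntegral X] [IsProper (X ↘ (Spec (CommRingCat.of k)))]

open Classical in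
/-- a sub-bundle of maximal slope and, among those, of maximal rank, among the sub-bundles satisfying `Pr` -/
theorem exists_max_destab_pred (hdim : topologicalKrullDim X = 1) (r : ℕ) (E : X.Modules)
    (hE : FlatMod.IsFinLocFreeOfRank r E) (Pr : ∀ G : X.Modules, (G ⟶ E) → Prop)
    (hPr : ∃ (G : X.Modules) (r' : ℕ) (j : G ⟶ E), Mono j ∧ 0 < r' ∧ FlatMod.IsFinLocFreeOfRank r' G ∧ Pr G j) :
    ∃ (E₁ : X.Modules) (r₁ : ℕ) (i₁ : E₁ ⟶ E), Mono i₁ ∧ 0 < r₁ ∧ FlatMod.IsFinLocFreeOfRank r₁ E₁ ∧ Pr E₁ i₁ ∧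
      (∀ (G : X.Modules) (r' : ℕ) (j : G ⟶ E), Mono j → 0 < r' → FlatMod.IsFinLocFreeOfRank r' G → Pr G j →
        Curv2.deg k X G r' * (r₁ : ℤ) ≤ Curv2.deg k X E₁ r₁ * (r' : ℤ)) ∧
      (∀ (G : X.Modules) (r' : ℕ) (j : G ⟶ E), Mono j → 0 < r' → FlatMod.IsFinLocFreeOfRank r' G → Pr G j →
        Curv2.deg k X G r' * (r₁ : ℤ) = Curv2.deg k X E₁ r₁ * (r' : ℤ) → r' ≤ r₁) := by
  obtain ⟨N, hN⟩ := Groth.Agent.Lib.Helper4.CurveRR.deg_locFree_sub_bounded k X hdim r E hE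
  let P : ℤ → Prop := fun z => ∃ (G : X.Modules) (r' : ℕ) (j : G ⟶ E), Mono j ∧ 0 < r' ∧
    FlatMod.IsFinLocFreeOfRank r' G ∧ Pr G j ∧ z = Curv2.deg k X G r' * ((r.factorial / r' : ℕ) : ℤ)
  have hrank : ∀ (G : X.Modules) (r' : ℕ) (j : G ⟶ E), Mono j → FlatMod.IsFinLocFreeOfRank r' G → r' ≤ r :=
    fun G r' j hj hG => Groth.Agent.Lib.Helper4.CurveRR.rank_le_of_mono X j r' r hG hE
  have hfac : ∀ r' : ℕ, 0 < r' → r' ≤ r → (r' : ℤ) * ((r.factorial / r' : ℕ) : ℤ) = (r.factorial : ℤ) := by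
    intro r' h0 hle
    have := Nat.mul_div_cancel' (Nat.dvd_factorial h0 hle)
    exact_mod_cast this
  have hfpos : (0 : ℤ) < (r.factorial : ℤ) := by exact_mod_cast Nat.factorial_pos r
  have hbdd : ∃ b : ℤ, ∀ z, P z → z ≤ b := by
    refine ⟨|N| * (r.factorial : ℤ), ?_⟩
    rintro z ⟨G, r', j, hj, h0, hG, -, rfl⟩
    have h1 : Curv2.deg k X G r' ≤ |N| := (hN G r' j hj hG).trans (le_abs_self N)
    have h2 : (0 : ℤ) ≤ ((r.factorial / r' : ℕ) : ℤ) := Int.natCast_nonneg _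
    have h3 : ((r.factorial / r' : ℕ) : ℤ) ≤ (r.factorial : ℤ) := by
      exact_mod_cast Nat.div_le_self _ _
    calc Curv2.deg k X G r' * ((r.factorial / r' : ℕ) : ℤ)
        ≤ |N| * ((r.factorial / r' : ℕ) : ℤ) := mul_le_mul_of_nonneg_right h1 h2
      _ ≤ |N| * (r.factorial : ℤ) := mul_le_mul_of_nonneg_left h3 (abs_nonneg N)
  have hinh : ∃ z, P z := by
    obtain ⟨G, r', j, hj, h0, hG, hP⟩ := hPr
    exact ⟨_, G, r', j, hj, h0, hG, hP, rfl⟩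
  obtain ⟨M, hPM, hMmax⟩ := Int.exists_greatest_of_bdd hbdd hinh
  let Q : ℕ → Prop := fun n => ∃ (G : X.Modules) (j : G ⟶ E), Mono j ∧ 0 < n ∧
    FlatMod.IsFinLocFreeOfRank n G ∧ Pr G j ∧ M = Curv2.deg k X G n * ((r.factorial / n : ℕ) : ℤ)
  obtain ⟨G₀, r₀, j₀, hj₀, h0₀, hG₀, hP₀, hM₀⟩ := hPM
  have hQ₀ : Q r₀ := ⟨G₀, j₀, hj₀, h0₀, hG₀, hP₀, hM₀⟩
  have hr₀ : r₀ ≤ r := hrank G₀ r₀ j₀ hj₀ hG₀
  obtain ⟨E₁, i₁, hi₁, h0₁, hE₁, hP₁, hM₁⟩ := Nat.findGreatest_spec (P := Q) hr₀ hQ₀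
  set r₁ := Nat.findGreatest Q r with hr₁def
  have hr₁ : r₁ ≤ r := Nat.findGreatest_le r
  have hf₁ := hfac r₁ h0₁ hr₁
  have hr₁0 : (0 : ℤ) < (r₁ : ℤ) := by exact_mod_cast h0₁
  have key1 : ∀ (G : X.Modules) (r' : ℕ) (j : G ⟶ E), Mono j → 0 < r' → FlatMod.IsFinLocFreeOfRank r' G → Pr G j →
      Curv2.deg k X G r' * (r₁ : ℤ) ≤ Curv2.deg k X E₁ r₁ * (r' : ℤ) := by
    intro G r' j hj h0 hG hP
    have hle := hMmax _ ⟨G, r', j, hj, h0, hG, hP, rfl⟩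
    rw [hM₁] at hle
    have hf' := hfac r' h0 (hrank G r' j hj hG)
    have hr'0 : (0 : ℤ) < (r' : ℤ) := by exact_mod_cast h0
    have h1 := mul_le_mul_of_nonneg_right hle (mul_pos hr'0 hr₁0).le
    refine le_of_mul_le_mul_right ?_ hfpos
    calc Curv2.deg k X G r' * (r₁ : ℤ) * (r.factorial : ℤ)
        = Curv2.deg k X G r' * ((r.factorial / r' : ℕ) : ℤ) * ((r' : ℤ) * (r₁ : ℤ)) := by
          rw [← hf']; ring
      _ ≤ Curv2.deg k X E₁ r₁ * ((r.factorial / r₁ : ℕ) : ℤ) * ((r' : ℤ) * (r₁ : ℤ)) := h1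
      _ = Curv2.deg k X E₁ r₁ * (r' : ℤ) * (r.factorial : ℤ) := by
          rw [← hf₁]; ring
  refine ⟨E₁, r₁, i₁, hi₁, h0₁, hE₁, hP₁, key1, ?_⟩
  intro G r' j hj h0 hG hP heq
  have hf' := hfac r' h0 (hrank G r' j hj hG)
  have hr'0 : (0 : ℤ) < (r' : ℤ) := by exact_mod_cast h0
  have hQ : Q r' := by
    refine ⟨G, j, hj, h0, hG, hP, ?_⟩
    rw [hM₁]
    refine mul_right_cancel₀ (mul_pos hr'0 hr₁0).ne' ?_
    calc Curv2.deg k X E₁ r₁ * ((r.factorial / r₁ : ℕ) : ℤ) * ((r' : ℤ) * (r₁ : ℤ))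
        = Curv2.deg k X E₁ r₁ * (r' : ℤ) * (r.factorial : ℤ) := by rw [← hf₁]; ring
      _ = Curv2.deg k X G r' * (r₁ : ℤ) * (r.factorial : ℤ) := by rw [heq]
      _ = Curv2.deg k X G r' * ((r.factorial / r' : ℕ) : ℤ) * ((r' : ℤ) * (r₁ : ℤ)) := by
        rw [← hf']; ring
  exact Nat.le_findGreatest (hrank G r' j hj hG) hQ

/-- invariance of a sub under `φ : E ⟶ E ⊗ L` -/
def Inv {X : Scheme.{u}} (L : X.Modules) {E : X.Modules} (φ : E ⟶ CohB1.tensorMod E L) (G : X.Modules) (j : G ⟶ E) :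
    Prop :=
  ∃ χ : G ⟶ CohB1.tensorMod G L,
    χ ≫ (CohB1.sheafifyMod X).map (MonoidalCategoryStruct.whiskerRight (C := CohB1.PMod X) j.val (CohB1.toPMod L)) = j ≫ φ


/-- the maximal invariant sub-bundle is saturated -/
theorem max_inv_cokernel_locFree (hpid : PIDStalks X) (hdim : topologicalKrullDim X = 1)
    (L : X.Modules) (hL : PicF.IsInvertible L) (r : ℕ) (E : X.Modules) (hE : FlatMod.IsFinLocFreeOfRank r E)
    (φ : E ⟶ CohB1.tensorMod E L)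
    (E₁ : X.Modules) (r₁ : ℕ) (i₁ : E₁ ⟶ E) (hi₁ : Mono i₁) (h0₁ : 0 < r₁)
    (hE₁ : FlatMod.IsFinLocFreeOfRank r₁ E₁) (hInv : Inv L φ E₁ i₁)
    (hmax : ∀ (G : X.Modules) (r' : ℕ) (j : G ⟶ E), Mono j → 0 < r' → FlatMod.IsFinLocFreeOfRank r' G → Inv L φ G j →
        Curv2.deg k X G r' * (r₁ : ℤ) ≤ Curv2.deg k X E₁ r₁ * (r' : ℤ)) :
    FlatMod.IsFinLocFreeOfRank (r - r₁) (cokernel i₁) := by
  haveI := preservesFiniteLimits_tw L hL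
  haveI := preservesFiniteColimits_tw L hL
  haveI := hi₁
  have hr₁0 : (0 : ℤ) < (r₁ : ℤ) := by exact_mod_cast h0₁
  obtain ⟨χ₁, hχ₁⟩ := hInv
  obtain ⟨Q, g, u, hg, hu, hle, hK, hQ, hdeg, hdle, hiso⟩ := exists_saturation k X hpid hdim i₁ r₁ r hE₁ hE
  haveI : Mono (u ≫ kernel.ι g) := by rw [hu]; infer_instance
  haveI : Mono u := mono_of_mono u (kernel.ι g)
  have hTQ : FlatMod.IsFinLocFreeOfRank (r - r₁) ((DCoh.tensorRightMod L).obj Q) :=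
    isFinLocFreeOfRank_tensor_invertible Q L (r - r₁) hQ hL
  have h0 : kernel.ι g ≫ (show E ⟶ (DCoh.tensorRightMod L).obj E from φ) ≫ (DCoh.tensorRightMod L).map g = 0 :=
    eq_zero_of_comp_eq_zero_of_rank k X hpid u _ r₁ (r - r₁) hE₁ hK hTQ
      (sat_comp_eq_zero (DCoh.tensorRightMod L) i₁ g u hu φ χ₁ hχ₁)
  obtain ⟨χ, hχ⟩ := inv_kernel (DCoh.tensorRightMod L) φ g h0
  have h1 := hmax (kernel g) r₁ (kernel.ι g) inferInstance h0₁ hK ⟨χ, hχ⟩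
  have h2 : Curv2.deg k X (kernel g) r₁ ≤ Curv2.deg k X E₁ r₁ := le_of_mul_le_mul_right h1 hr₁0
  haveI := hiso (le_antisymm hdle h2)
  exact Groth.Agent.Lib.Helper26.ModRank.isFinLocFreeOfRank_of_iso (cokernelIsoOfSaturated i₁ g u hu).symm hQ

/-- an endomorphism commuting with `φ` preserves the maximal invariant sub-bundle -/
theorem max_inv_comp_eq_zero (hpid : PIDStalks X) (hdim : topologicalKrullDim X = 1)
    (L : X.Modules) (hL : PicF.IsInvertible L) (r : ℕ) (E : X.Modules) (hE : FlatMod.IsFinLocFreeOfRank r E)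
    (φ : E ⟶ CohB1.tensorMod E L)
    (E₁ : X.Modules) (r₁ : ℕ) (i₁ : E₁ ⟶ E) (hi₁ : Mono i₁) (h0₁ : 0 < r₁)
    (hE₁ : FlatMod.IsFinLocFreeOfRank r₁ E₁) (hInv : Inv L φ E₁ i₁)
    (hmax : ∀ (G : X.Modules) (r' : ℕ) (j : G ⟶ E), Mono j → 0 < r' → FlatMod.IsFinLocFreeOfRank r' G → Inv L φ G j →
        Curv2.deg k X G r' * (r₁ : ℤ) ≤ Curv2.deg k X E₁ r₁ * (r' : ℤ))
    (hrk : ∀ (G : X.Modules) (r' : ℕ) (j : G ⟶ E), Mono j → 0 < r' → FlatMod.IsFinLocFreeOfRank r' G → Inv L φ G j →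
        Curv2.deg k X G r' * (r₁ : ℤ) = Curv2.deg k X E₁ r₁ * (r' : ℤ) → r' ≤ r₁)
    (ψ : E ⟶ E)
    (hψ : ψ ≫ φ = φ ≫ (CohB1.sheafifyMod X).map (MonoidalCategoryStruct.whiskerRight (C := CohB1.PMod X) ψ.val (CohB1.toPMod L))) :
    i₁ ≫ ψ ≫ cokernel.π i₁ = 0 := by
  haveI := preservesFiniteLimits_tw L hL
  haveI := preservesFiniteColimits_tw L hL
  haveI := hi₁
  have hC := max_inv_cokernel_locFree k X hpid hdim L hL r E hE φ E₁ r₁ i₁ hi₁ h0₁ hE₁ hInv hmax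
  have hr₁0 : (0 : ℤ) < (r₁ : ℤ) := by exact_mod_cast h0₁
  obtain ⟨χ₁, hχ₁⟩ := hInv
  by_contra hne
  obtain ⟨φC, hφC, hθ⟩ := comm_obstruction (DCoh.tensorRightMod L) i₁ φ χ₁ hχ₁ ψ hψ
  obtain ⟨a, b, hab, hbs, hK, hI, hdeg⟩ := ker_im k X hpid (i₁ ≫ ψ ≫ cokernel.π i₁) r₁ (r - r₁) hE₁ hC
  have hr' : (r₁ : ℤ) = a + b := by exact_mod_cast hab.symm
  have hb : 0 < b := by
    rcases Nat.eq_zero_or_pos b with hb | hb
    · subst hb
      exact absurd (eq_zero_of_image_rank_zero _ hI) hne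
    · exact hb
  obtain ⟨χK, hχK⟩ := inv_kernel_of_hom (DCoh.tensorRightMod L) χ₁ φC (i₁ ≫ ψ ≫ cokernel.π i₁) hθ
  obtain ⟨χI, hχI⟩ := inv_image_of_hom (DCoh.tensorRightMod L) χ₁ φC (i₁ ≫ ψ ≫ cokernel.π i₁) hθ
  have h1 : Curv2.deg k X E₁ r₁ * (b : ℤ) ≤ Curv2.deg k X (Abelian.image (i₁ ≫ ψ ≫ cokernel.π i₁)) b * (r₁ : ℤ) := by
    rcases Nat.eq_zero_or_pos a with ha | ha
    · subst ha
      rw [hdeg, deg_rank_zero k _ hK, zero_add, hr']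
      simp
    · have h := hmax _ a (kernel.ι (Abelian.factorThruImage (i₁ ≫ ψ ≫ cokernel.π i₁)) ≫ i₁) (mono_comp _ _) ha hK
        ⟨χK, inv_comp (DCoh.tensorRightMod L) _ i₁ φ χ₁ hχ₁ χK hχK⟩
      have e1 : Curv2.deg k X E₁ r₁ * (r₁ : ℤ) = Curv2.deg k X E₁ r₁ * (a : ℤ) + Curv2.deg k X E₁ r₁ * (b : ℤ) := by
        rw [hr']; ring
      have e2 : Curv2.deg k X (Abelian.image (i₁ ≫ ψ ≫ cokernel.π i₁)) b * (r₁ : ℤ) =
          Curv2.deg k X E₁ r₁ * (r₁ : ℤ) -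
            Curv2.deg k X (kernel (Abelian.factorThruImage (i₁ ≫ ψ ≫ cokernel.π i₁))) a * (r₁ : ℤ) := by
        rw [hdeg]; ring
      linarith
  obtain ⟨hP, hdP⟩ := preimage_bundle_ker k X hpid (sesOfMono i₁) (sesOfMono_shortExact i₁) r₁ r hE₁ hE
    (Abelian.image (i₁ ≫ ψ ≫ cokernel.π i₁)) b (Abelian.image.ι (i₁ ≫ ψ ≫ cokernel.π i₁))
    (inferInstance : Mono (Abelian.image.ι (i₁ ≫ ψ ≫ cokernel.π i₁))) hI
  change FlatMod.IsFinLocFreeOfRank (r₁ + b)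
    (kernel (cokernel.π i₁ ≫ cokernel.π (Abelian.image.ι (i₁ ≫ ψ ≫ cokernel.π i₁)))) at hP
  change Curv2.deg k X (kernel (cokernel.π i₁ ≫ cokernel.π (Abelian.image.ι (i₁ ≫ ψ ≫ cokernel.π i₁)))) (r₁ + b) =
    Curv2.deg k X E₁ r₁ + Curv2.deg k X (Abelian.image (i₁ ≫ ψ ≫ cokernel.π i₁)) b at hdP
  have hq0 := preimage_comp_eq_zero (DCoh.tensorRightMod L) (cokernel.π i₁)
    (Abelian.image.ι (i₁ ≫ ψ ≫ cokernel.π i₁)) φ φC hφC χI hχI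
  obtain ⟨χP, hχP⟩ := inv_kernel (DCoh.tensorRightMod L) φ
    (cokernel.π i₁ ≫ cokernel.π (Abelian.image.ι (i₁ ≫ ψ ≫ cokernel.π i₁))) hq0
  have h2 := hmax _ (r₁ + b) (kernel.ι (cokernel.π i₁ ≫ cokernel.π (Abelian.image.ι (i₁ ≫ ψ ≫ cokernel.π i₁))))
    inferInstance (by omega) hP ⟨χP, hχP⟩
  have heq : Curv2.deg k X (kernel (cokernel.π i₁ ≫ cokernel.π (Abelian.image.ι (i₁ ≫ ψ ≫ cokernel.π i₁)))) (r₁ + b) *
      (r₁ : ℤ) = Curv2.deg k X E₁ r₁ * ((r₁ + b : ℕ) : ℤ) := by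
    rw [hdP] at h2 ⊢
    push_cast at h2 ⊢
    linarith
  have := hrk _ (r₁ + b) (kernel.ι (cokernel.π i₁ ≫ cokernel.π (Abelian.image.ι (i₁ ≫ ψ ≫ cokernel.π i₁))))
    inferInstance (by omega) hP ⟨χP, hχP⟩ heq
  omega

/-- **S16005** -/
theorem higgs_ss_iff_of_comm (hpid : PIDStalks X) (hdim : topologicalKrullDim X = 1)
    (L : X.Modules) (hL : PicF.IsInvertible L)
    (r : ℕ) (hr : 0 < r) (E : X.Modules) (hE : FlatMod.IsFinLocFreeOfRank r E)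
    (φ : E ⟶ CohB1.tensorMod E L) (ψ : E ⟶ E)
    (hcomm : ψ ≫ φ = φ ≫ (CohB1.sheafifyMod X).map (MonoidalCategoryStruct.whiskerRight (C := CohB1.PMod X) ψ.val (CohB1.toPMod L))) :
    (∀ (G : X.Modules) (n : ℕ) (j : G ⟶ E) (χ : G ⟶ CohB1.tensorMod G L) (ψ' : G ⟶ G), Mono j → 0 < n →
      FlatMod.IsFinLocFreeOfRank n G →
      χ ≫ (CohB1.sheafifyMod X).map (MonoidalCategoryStruct.whiskerRight (C := CohB1.PMod X) j.val (CohB1.toPMod L)) = j ≫ φ → ψ' ≫ j = j ≫ ψ →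
      Curv2.deg k X G n * (r : ℤ) ≤ Curv2.deg k X E r * (n : ℤ)) ↔
    (∀ (G : X.Modules) (n : ℕ) (j : G ⟶ E) (χ : G ⟶ CohB1.tensorMod G L), Mono j → 0 < n →
      FlatMod.IsFinLocFreeOfRank n G →
      χ ≫ (CohB1.sheafifyMod X).map (MonoidalCategoryStruct.whiskerRight (C := CohB1.PMod X) j.val (CohB1.toPMod L)) = j ≫ φ →
      Curv2.deg k X G n * (r : ℤ) ≤ Curv2.deg k X E r * (n : ℤ)) := by
  constructor
  · intro h G n j χ hj hn hG hχ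
    have hEinv : Inv L φ E (𝟙 E) := by
      refine ⟨φ, ?_⟩
      change φ ≫ (DCoh.tensorRightMod L).map (𝟙 E) = 𝟙 E ≫ φ
      rw [(DCoh.tensorRightMod L).map_id, Category.id_comp]
      exact Category.comp_id φ
    obtain ⟨E₁, r₁, i₁, hi₁, h0₁, hE₁, hInv, hmax, hrk⟩ := exists_max_destab_pred k X hdim r E hE (Inv L φ)
      ⟨E, r, 𝟙 E, inferInstance, hr, hE, hEinv⟩
    have hr₁0 : (0 : ℤ) < (r₁ : ℤ) := by exact_mod_cast h0₁
    have h0 := max_inv_comp_eq_zero k X hpid hdim L hL r E hE φ E₁ r₁ i₁ hi₁ h0₁ hE₁ hInv hmax hrk ψ hcomm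
    haveI := hi₁
    obtain ⟨ψ₁, hψ₁⟩ := exists_lift_of_mono i₁ (i₁ ≫ ψ) (by rw [Category.assoc]; exact h0)
    obtain ⟨χ₁, hχ₁⟩ := hInv
    have h1 := h E₁ r₁ i₁ χ₁ ψ₁ hi₁ h0₁ hE₁ hχ₁ hψ₁
    have h2 := hmax G n j hj hn hG ⟨χ, hχ⟩
    have hn0 : (0 : ℤ) ≤ (n : ℤ) := Int.natCast_nonneg n
    have hr0 : (0 : ℤ) ≤ (r : ℤ) := Int.natCast_nonneg r
    have h3 := mul_le_mul_of_nonneg_right h2 hr0
    have h4 := mul_le_mul_of_nonneg_right h1 hn0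
    have h5 : (Curv2.deg k X G n * (r : ℤ)) * (r₁ : ℤ) ≤ (Curv2.deg k X E r * (n : ℤ)) * (r₁ : ℤ) := by
      nlinarith
    exact le_of_mul_le_mul_right h5 hr₁0
  · intro h G n j χ ψ' hj hn hG hχ _
    exact h G n j χ hj hn hG hχ

end Groth.Agent.Lib.Helper4.CurveHiggs
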