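import Mathlib
import Groth.Agent.Lib.Helper4CurveHiggs
set_option backward.isDefEq.respectTransparency.types false

/-!
# Twisted pairs with a twist of non-positive degree (helper4, S16003)

* `ss_of_higgs_ss_deg_nonpos`: a semistable `L`-twisted pair with `deg L ≤ 0` has a semistable underlying bundle
  (generalising `CurveHiggs.ss_of_higgs_ss_deg_zero`);
* `deg_nonneg_of_higgs_ss`: if `(E, φ)` is a semistable pair and `φ ≠ 0` then `deg L ≥ 0`.
-/

set_option autoImplicit false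
set_option linter.style.haveILetI false
set_option linter.unusedSectionVars false
universe u

open TopologicalSpace Topology AlgebraicGeometry CategoryTheory CategoryTheory.Limits Opposite

namespace Groth.Agent.Lib.Helper4.CurveHiggs

open Groth.Agent.Lib.Helper21.ModTensor3 Groth.Agent.Lib.Helper21.ModTensor5
  Groth.Agent.Lib.Helper21.ModTensor7 Groth.Agent.Lib.Helper1.PT Groth.Agent.Lib.Helper1.FLF
  Groth.Agent.Lib.Helper23.TensorUnit Groth.Agent.Lib.Helper23.LocGen Groth.Agent.Lib.Helper23.AmpleIso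

open Groth.Agent.Lib.Helper4.CurveBun Groth.Agent.Lib.Helper4.Dev Groth.Agent.Lib.Helper4.DegAdd
  Groth.Agent.Lib.Helper4.CurveStab Groth.Agent.Lib.Helper4.CurveSat Groth.Agent.Lib.Helper4.CurveHN

variable (k : Type u) [Field k] (X : Scheme.{u}) [X.Over (Spec (CommRingCat.of k))]
  [IsIntegral X] [IsProper (X ↘ (Spec (CommRingCat.of k)))]

/-- a semistable `L`-twisted pair with `deg L ≤ 0` has a semistable underlying bundle -/
theorem ss_of_higgs_ss_deg_nonpos (hpid : PIDStalks X) (hdim : topologicalKrullDim X = 1)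
    (L : X.Modules) (hL : PicF.IsInvertible L) (hL0 : Curv2.deg k X L 1 ≤ 0)
    (r : ℕ) (hr : 0 < r) (E : X.Modules) (hE : FlatMod.IsFinLocFreeOfRank r E)
    (φ : E ⟶ CohB1.tensorMod E L)
    (hss : (∀ (G : X.Modules) (n : ℕ) (j : G ⟶ E) (χ : G ⟶ CohB1.tensorMod G L), Mono j → 0 < n →
      FlatMod.IsFinLocFreeOfRank n G →
      χ ≫ (CohB1.sheafifyMod X).map (MonoidalCategoryStruct.whiskerRight (C := CohB1.PMod X) j.val (CohB1.toPMod L)) = j ≫ φ →
      Curv2.deg k X G n * (r : ℤ) ≤ Curv2.deg k X E r * (n : ℤ))) :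
    ∀ (G : X.Modules) (n : ℕ) (j : G ⟶ E), Mono j → 0 < n → FlatMod.IsFinLocFreeOfRank n G →
      Curv2.deg k X G n * (r : ℤ) ≤ Curv2.deg k X E r * (n : ℤ) := by
  haveI := preservesFiniteLimits_tw L hL
  haveI := preservesFiniteColimits_tw L hL
  obtain ⟨E₁, r₁, i₁, hi₁, h0₁, hE₁, hA, hB⟩ := exists_destab k X hpid hdim r hr E hE
  have hr₁0 : (0 : ℤ) < (r₁ : ℤ) := by exact_mod_cast h0₁
  have hC := cokernel_locFree_of_max_slope k X hpid hdim r E hE E₁ r₁ i₁ hi₁ h0₁ hE₁ hA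
  have hTC : FlatMod.IsFinLocFreeOfRank (r - r₁) ((DCoh.tensorRightMod L).obj (cokernel i₁)) :=
    isFinLocFreeOfRank_tensor_invertible _ L (r - r₁) hC hL
  have hE₁ss : ModFun.IsSlopeSemistable k X E₁ r₁ := by
    intro G n j hj hn hG
    haveI := hj
    haveI := hi₁
    exact hA G n (j ≫ i₁) (mono_comp _ _) hn hG
  have h0 : i₁ ≫ (show E ⟶ (DCoh.tensorRightMod L).obj E from φ) ≫ (DCoh.tensorRightMod L).map (cokernel.π i₁) = 0 := by
    apply hom_eq_zero_of_max_slope_lt k X hpid r₁ (r - r₁) E₁ _ hE₁ hTC hE₁ss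
    intro G n j hj hn hG
    obtain ⟨G', j', hj', hG', hd'⟩ := exists_untwist_sub k X hdim.le L hL (cokernel i₁) G n j hj hG
    have h := hB G' n j' hj' hn hG'
    rw [hd'] at h
    have hn0 : (0 : ℤ) ≤ (n : ℤ) := Int.natCast_nonneg n
    have h' : (n : ℤ) * Curv2.deg k X L 1 * (r₁ : ℤ) ≤ 0 :=
      mul_nonpos_of_nonpos_of_nonneg (mul_nonpos_of_nonneg_of_nonpos hn0 hL0) hr₁0.le
    nlinarith
  haveI := hi₁
  obtain ⟨χ, hχ₁⟩ := inv_of_mono (DCoh.tensorRightMod L) i₁ φ h0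
  have h1 := hss E₁ r₁ i₁ χ hi₁ h0₁ hE₁ hχ₁
  intro G n j hj hn hG
  have h2 := hA G n j hj hn hG
  have hn0 : (0 : ℤ) ≤ (n : ℤ) := Int.natCast_nonneg n
  have hr0 : (0 : ℤ) ≤ (r : ℤ) := Int.natCast_nonneg r
  have h3 := mul_le_mul_of_nonneg_right h2 hr0
  have h4 := mul_le_mul_of_nonneg_right h1 hn0
  have h5 : (Curv2.deg k X G n * (r : ℤ)) * (r₁ : ℤ) ≤ (Curv2.deg k X E r * (n : ℤ)) * (r₁ : ℤ) := by
    nlinarith
  exact le_of_mul_le_mul_right h5 hr₁0

/-- **S16003**: if `(E, φ)` is a semistable `L`-twisted pair with `φ ≠ 0` then `deg L ≥ 0` -/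
theorem deg_nonneg_of_higgs_ss (hpid : PIDStalks X) (hdim : topologicalKrullDim X = 1)
    (L : X.Modules) (hL : PicF.IsInvertible L)
    (r : ℕ) (hr : 0 < r) (E : X.Modules) (hE : FlatMod.IsFinLocFreeOfRank r E)
    (φ : E ⟶ CohB1.tensorMod E L)
    (hss : (∀ (G : X.Modules) (n : ℕ) (j : G ⟶ E) (χ : G ⟶ CohB1.tensorMod G L), Mono j → 0 < n →
      FlatMod.IsFinLocFreeOfRank n G →
      χ ≫ (CohB1.sheafifyMod X).map (MonoidalCategoryStruct.whiskerRight (C := CohB1.PMod X) j.val (CohB1.toPMod L)) = j ≫ φ →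
      Curv2.deg k X G n * (r : ℤ) ≤ Curv2.deg k X E r * (n : ℤ)))
    (hφ : φ ≠ 0) : 0 ≤ Curv2.deg k X L 1 := by
  by_contra hneg
  have hlt : Curv2.deg k X L 1 < 0 := not_le.1 hneg
  have hEss : ModFun.IsSlopeSemistable k X E r :=
    ss_of_higgs_ss_deg_nonpos k X hpid hdim L hL hlt.le r hr E hE φ hss
  have hTE : FlatMod.IsFinLocFreeOfRank r (CohB1.tensorMod E L) :=
    isFinLocFreeOfRank_tensor_invertible E L r hE hL
  have hr0 : (0 : ℤ) < (r : ℤ) := by exact_mod_cast hr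
  apply hφ
  apply hom_eq_zero_of_max_slope_lt k X hpid r r E (CohB1.tensorMod E L) hE hTE hEss
  intro G n j hj hn hG
  obtain ⟨G', j', hj', hG', hd'⟩ := exists_untwist_sub k X hdim.le L hL E G n j hj hG
  have h := hEss G' n j' hj' hn hG'
  rw [hd'] at h
  have hn0 : (0 : ℤ) < (n : ℤ) := by exact_mod_cast hn
  have h' : (n : ℤ) * Curv2.deg k X L 1 * (r : ℤ) < 0 :=
    mul_neg_of_neg_of_pos (mul_neg_of_pos_of_neg hn0 hlt) hr0
  nlinarith

end Groth.Agent.Lib.Helper4.CurveHiggs
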