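import Mathlib
import Groth.Agent.Lib.Helper4CurveCliff2

/-!
# `h⁰(L) + h⁰(L') ≤ h⁰(L ⊗ L') + 1` on a curve (helper4; S11352)

On a regular integral proper curve over an algebraically closed field, for invertible `L`, `L'` with nonzero
sections.  Induction on `h⁰(L')`, twisting `L'` down by a general closed point (a non-base point of `L`, `L'`
and hence of `L ⊗ L'`).
-/

set_option autoImplicit false
set_option linter.style.haveILetI false
universe u
open CategoryTheory CategoryTheory.Limits AlgebraicGeometry TopologicalSpace Opposite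

namespace Groth.Agent.Lib.Helper4.CurveCliff

open Groth.Agent.Lib.Helper27PnSections Groth.Agent.Lib.Helper4.CurveDegSec
  Groth.Agent.Lib.Helper17.HHLes Groth.Agent.Lib.Helper4.Dev Groth.Agent.Lib.Helper27SerreVan
  Groth.Agent.Lib.Helper6.CurveDeg Groth.Agent.Lib.Helper4.CurveAsym Groth.Agent.Lib.Helper4.CurveGrd
  Groth.Agent.Lib.Helper4.CurvePt Groth.Agent.Lib.Helper4.CurveBun Groth.Agent.Lib.Helper21.ExtCartier

section Hopf

variable (k : Type u) [Field k] (X : Scheme.{u}) [X.Over (Spec (CommRingCat.of k))]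
  [IsProper (X ↘ (Spec (CommRingCat.of k)))] [IsIntegral X]

include k in
/-- a closed point outside a closed set which misses the generic point -/
theorem exists_closed_point_not_mem_closed (Z : Set X) (hZ : IsClosed Z) (hη : genericPoint X ∉ Z) :
    ∃ p : X, IsClosed ({p} : Set X) ∧ p ∉ Z := by
  haveI : JacobsonSpace X :=
    LocallyOfFiniteType.jacobsonSpace (X ↘ (Spec (CommRingCat.of k)))
  have hne : (Zᶜ ∩ closedPoints X).Nonempty := by
    have hd : Dense (closedPoints X) := dense_iff_closure_eq.2 closure_closedPoints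
    exact hd.inter_open_nonempty _ hZ.isOpen_compl ⟨genericPoint X, hη⟩
  obtain ⟨p, hpZ, hp⟩ := hne
  exact ⟨p, (mem_closedPoints_iff).1 hp, hpZ⟩

open Groth.Agent.Lib.Helper4.CurveChi in
/-- a closed point is never a base point of `O_X` -/
theorem nbp_structureModule [IsAlgClosed k] (hpid : PIDStalks X) (hdim : topologicalKrullDim X = 1)
    (p : X) (hp : IsClosed ({p} : Set X)) : Nbp k p hp (Coh.structureModule X) := by
  have hO := Groth.Agent.Lib.Helper23.TensorUnit.isInvertible_structureModule X
  have hO1 := Groth.Agent.Lib.Helper23.SecTw.isFinLocFreeOfRank_one_of_isInvertible _ hO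
  rw [nbp_iff k X p hp _ hO1, finrank_hh0_eq_one_of_isAlgClosed k X]
  have hI : PicF.IsInvertible (ClSub.idealMod (ptIdeal p hp)) :=
    isInvertible_idealMod k X hpid hdim (ptIdeal p hp) p (range_ptIdeal p hp).le
  have e : Module.finrank k (Coh.HH X ((tw (Coh.structureModule X)).obj
      (ClSub.idealMod (ptIdeal p hp))) 0) =
      Module.finrank k (Coh.HH X (ClSub.idealMod (ptIdeal p hp)) 0) :=
    (HHequiv k (Groth.Agent.Lib.Helper23.TensorUnit.tensorUnitIso _) 0).finrank_eq
  rw [e]
  by_contra hne
  have hpos : 0 < Module.finrank k (Coh.HH X (ClSub.idealMod (ptIdeal p hp)) 0) := by omega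
  have h1 := h0_le_deg_add k X hdim _ hI hpos
  have h2 := deg_idealMod k X (ptIdeal p hp) p (range_ptIdeal p hp).le
  obtain ⟨h0, -, -, -⟩ := Groth.Agent.Lib.Helper6.PointIdeal.quotMod_point k X p hp
  rw [h0] at h2
  rw [h2, finrank_hh0_eq_one_of_isAlgClosed k X] at h1
  push_cast at h1
  omega

open Groth.Agent.Lib.Helper4.CurveChi in
/-- a closed point outside the zero locus of a nonzero section is not a base point -/
theorem nbp_of_section [IsAlgClosed k] (hpid : PIDStalks X) (hdim : topologicalKrullDim X = 1)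
    (T : X.Modules) (hT : PicF.IsInvertible T) (s : Coh.structureModule X ⟶ T)
    (p : X) (hp : IsClosed ({p} : Set X)) (hps : p ∉ CohB1.support (cokernel s)) :
    Nbp k p hp T := by
  haveI : IsLocallyNoetherian X := isLocallyNoetherian_of_proper k X
  exact nbp_of_hom k X p hp (isCoh_structureModule X) (isCoh_of_isInvertible T hT) s hps
    (nbp_structureModule k X hpid hdim p hp)

open Groth.Agent.Lib.Helper4.CurveChi in
/-- `h⁰(L) ≤ h⁰(L ⊗ L')` if `L'` has a nonzero section -/
theorem h0_le_tensor (L L' : X.Modules) (hL : PicF.IsInvertible L) (hL' : PicF.IsInvertible L')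
    (h0 : 0 < Module.finrank k (Coh.HH X L' 0)) :
    Module.finrank k (Coh.HH X L 0) ≤ Module.finrank k (Coh.HH X (CohB1.tensorMod L L') 0) := by
  haveI : IsLocallyNoetherian X := isLocallyNoetherian_of_proper k X
  obtain ⟨s, hs⟩ := Groth.Agent.Lib.Helper4.CurveRR.exists_hom_ne_zero k X L' h0
  have hO := Groth.Agent.Lib.Helper23.TensorUnit.isInvertible_structureModule X
  haveI : Mono s := mono_of_ne_zero hO hL' s hs
  have hL1 := Groth.Agent.Lib.Helper23.SecTw.isFinLocFreeOfRank_one_of_isInvertible _ hL
  have hse := Groth.Agent.Lib.Helper6.SimpleSub.shortExact_map_tw _ (sesOfMono_shortExact s) L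
    (isFlat_of_isFinLocFreeOfRank L 1 hL1)
  have hinj := Groth.Agent.Lib.Helper6.Euler.injective_f_zero k _ hse
  have cL := isCoh_of_isInvertible L hL
  have cL' := isCoh_of_isInvertible L' hL'
  have c2 : Coh.IsCoh (CohB1.tensorMod L' L) := isCoh_tensorMod X L' L cL' cL
  haveI : Module.Finite k (Coh.HH X (((sesOfMono s).map (tw L)).X₂) 0) :=
    Groth.Agent.S0002.result k X _ c2 0
  have h1 := LinearMap.finrank_le_finrank_of_injective hinj
  have e1 : Module.finrank k (Coh.HH X (((sesOfMono s).map (tw L)).X₁) 0) =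
      Module.finrank k (Coh.HH X L 0) :=
    (HHequiv k (Groth.Agent.Lib.Helper23.TensorUnit.unitTensorIso L) 0).finrank_eq
  have e2 : Module.finrank k (Coh.HH X (((sesOfMono s).map (tw L)).X₂) 0) =
      Module.finrank k (Coh.HH X (CohB1.tensorMod L L') 0) :=
    (HHequiv k (Groth.Agent.Lib.Helper23.AmpleFam2.tensorBraid L' L) 0).finrank_eq
  omega

open Groth.Agent.Lib.Helper4.CurveChi in
/-- the induction for `hopf` -/
theorem hopf_aux [IsAlgClosed k] (hpid : PIDStalks X) (hdim : topologicalKrullDim X = 1) :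
    ∀ (n : ℕ) (L L' : X.Modules), PicF.IsInvertible L → PicF.IsInvertible L' →
      0 < Module.finrank k (Coh.HH X L 0) → Module.finrank k (Coh.HH X L' 0) = n + 1 →
      Module.finrank k (Coh.HH X L 0) + Module.finrank k (Coh.HH X L' 0) ≤
        Module.finrank k (Coh.HH X (CohB1.tensorMod L L') 0) + 1 := by
  haveI : IsLocallyNoetherian X := isLocallyNoetherian_of_proper k X
  intro n
  induction n with
  | zero =>
    intro L L' hL hL' h0 h0'
    have := h0_le_tensor k X L L' hL hL' (by omega)
    omega
  | succ n ih =>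
    intro L L' hL hL' h0 h0'
    have hO := Groth.Agent.Lib.Helper23.TensorUnit.isInvertible_structureModule X
    obtain ⟨s, hs⟩ := Groth.Agent.Lib.Helper4.CurveRR.exists_hom_ne_zero k X L h0
    obtain ⟨s', hs'⟩ := Groth.Agent.Lib.Helper4.CurveRR.exists_hom_ne_zero k X L' (by omega)
    have cO := isCoh_structureModule X
    have cL := isCoh_of_isInvertible L hL
    have cL' := isCoh_of_isInvertible L' hL'
    have cQ : Coh.IsCoh (cokernel s) := isCoh_cokernel s cO cL
    have cQ' : Coh.IsCoh (cokernel s') := isCoh_cokernel s' cO cL'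
    have hZ : IsClosed (CohB1.support (cokernel s)) := Groth.Agent.S0020.result X _ cQ.2
    have hZ' : IsClosed (CohB1.support (cokernel s')) := Groth.Agent.S0020.result X _ cQ'.2
    have hη : genericPoint X ∉ CohB1.support (cokernel s) :=
      fun h => h (subsingleton_stalk_cokernel hO hL s hs)
    have hη' : genericPoint X ∉ CohB1.support (cokernel s') :=
      fun h => h (subsingleton_stalk_cokernel hO hL' s' hs')
    obtain ⟨p, hp, hpZ⟩ := exists_closed_point_not_mem_closed k X
      (CohB1.support (cokernel s) ∪ CohB1.support (cokernel s')) (hZ.union hZ')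
      (fun h => h.elim hη hη')
    have hps : p ∉ CohB1.support (cokernel s) := fun h => hpZ (Or.inl h)
    have hps' : p ∉ CohB1.support (cokernel s') := fun h => hpZ (Or.inr h)
    have hL1 := Groth.Agent.Lib.Helper23.SecTw.isFinLocFreeOfRank_one_of_isInvertible _ hL
    have hL'1 := Groth.Agent.Lib.Helper23.SecTw.isFinLocFreeOfRank_one_of_isInvertible _ hL'
    have hLL' : PicF.IsInvertible (CohB1.tensorMod L L') :=
      Groth.Agent.Lib.Helper23.SecTw.isInvertible_tensorMod hL hL'
    have hLL'1 := Groth.Agent.Lib.Helper23.SecTw.isFinLocFreeOfRank_one_of_isInvertible _ hLL'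
    have hIp : PicF.IsInvertible (ClSub.idealMod (ptIdeal p hp)) :=
      isInvertible_idealMod k X hpid hdim (ptIdeal p hp) p (range_ptIdeal p hp).le
    -- `p` is not a base point of `L`, `L'`, `L ⊗ L'`
    have nL : Nbp k p hp L := nbp_of_section k X hpid hdim L hL s p hp hps
    have nL' : Nbp k p hp L' := nbp_of_section k X hpid hdim L' hL' s' p hp hps'
    have c1 : Coh.IsCoh ((tl L).obj (Coh.structureModule X)) := isCoh_tensorMod X L _ cL cO
    have c2 : Coh.IsCoh ((tl L).obj L') := isCoh_tensorMod X L L' cL cL'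
    have nLO : Nbp k p hp ((tl L).obj (Coh.structureModule X)) := by
      let φ : L ⟶ (tl L).obj (Coh.structureModule X) :=
        (Groth.Agent.Lib.Helper23.TensorUnit.tensorUnitIso L).inv
      haveI : IsIso φ :=
        (inferInstance : IsIso (Groth.Agent.Lib.Helper23.TensorUnit.tensorUnitIso L).inv)
      refine nbp_of_hom k X p hp cL c1 φ ?_ nL
      intro hmem
      exact hmem (Groth.Agent.Helper18Epi.subsingleton_stalk_of_isZero
        (isZero_cokernel_of_epi φ) p)
    have nLL'0 : Nbp k p hp ((tl L).obj L') := by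
      refine nbp_of_hom k X p hp c1 c2 ((tl L).map s') ?_ nLO
      have e : cokernel ((tl L).map s') ≅ (tl L).obj (cokernel s') :=
        (PreservesCokernel.iso (tl L) s').symm
      rw [Groth.Agent.Lib.Helper4.Dev.support_eq_of_iso e]
      exact fun h => hps' (support_tensorMod_subset_right _ _ h)
    have nLL' : Nbp k p hp (CohB1.tensorMod L L') := nLL'0
    have i1 := (nbp_iff k X p hp L' hL'1).1 nL'
    have i2 := (nbp_iff k X p hp _ hLL'1).1 nLL'
    have hT : PicF.IsInvertible ((tw L').obj (ClSub.idealMod (ptIdeal p hp))) :=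
      Groth.Agent.Lib.Helper23.SecTw.isInvertible_tensorMod hIp hL'
    have h3 := ih L ((tw L').obj (ClSub.idealMod (ptIdeal p hp))) hL hT h0 (by omega)
    let ι : CohB1.tensorMod L ((tw L').obj (ClSub.idealMod (ptIdeal p hp))) ≅
        (tw (CohB1.tensorMod L L')).obj (ClSub.idealMod (ptIdeal p hp)) :=
      (Groth.Agent.Lib.Helper23.LocGen.tensorAssoc L (ClSub.idealMod (ptIdeal p hp)) L').symm ≪≫
        Groth.Agent.Lib.Helper23.AmpleIso.tensorModIso
          (Groth.Agent.Lib.Helper23.AmpleFam2.tensorBraid L _) (Iso.refl L') ≪≫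
        Groth.Agent.Lib.Helper23.LocGen.tensorAssoc (ClSub.idealMod (ptIdeal p hp)) L L'
    have e3 : Module.finrank k
        (Coh.HH X (CohB1.tensorMod L ((tw L').obj (ClSub.idealMod (ptIdeal p hp)))) 0) =
        Module.finrank k
          (Coh.HH X ((tw (CohB1.tensorMod L L')).obj (ClSub.idealMod (ptIdeal p hp))) 0) :=
      (HHequiv k ι 0).finrank_eq
    omega

/-- **`h⁰(L) + h⁰(L') ≤ h⁰(L ⊗ L') + 1`** for invertible modules with nonzero sections -/
theorem hopf [IsAlgClosed k] (hpid : PIDStalks X) (hdim : topologicalKrullDim X = 1)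
    (L L' : X.Modules) (hL : PicF.IsInvertible L) (hL' : PicF.IsInvertible L')
    (hs : Nontrivial (Coh.HH X L 0)) (hs' : Nontrivial (Coh.HH X L' 0)) :
    Module.finrank k (Coh.HH X L 0) + Module.finrank k (Coh.HH X L' 0) ≤
      Module.finrank k (Coh.HH X (CohB1.tensorMod L L') 0) + 1 := by
  haveI : IsLocallyNoetherian X := isLocallyNoetherian_of_proper k X
  haveI : Module.Finite k (Coh.HH X L 0) :=
    Groth.Agent.S0002.result k X _ (isCoh_of_isInvertible L hL) 0
  haveI : Module.Finite k (Coh.HH X L' 0) :=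
    Groth.Agent.S0002.result k X _ (isCoh_of_isInvertible L' hL') 0
  have h0 : 0 < Module.finrank k (Coh.HH X L 0) := Module.finrank_pos
  have h0' : 0 < Module.finrank k (Coh.HH X L' 0) := Module.finrank_pos
  exact hopf_aux k X hpid hdim (Module.finrank k (Coh.HH X L' 0) - 1) L L' hL hL' h0 (by omega)

end Hopf

end Groth.Agent.Lib.Helper4.CurveCliff
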