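import Mathlib
import Groth.Agent.Lib.Helper4CurveSSAb
import Groth.Agent.Lib.Helper23QAffSec

/-!
# Line sub-bundles of bundles on regular proper curves (helper4)

* `hom_rank_one` : a nonzero map of line bundles is mono, does not lower the degree, and is iso in equal degree
* `destab_line_unique` (S11816), `line_sub_of_ext` (S11827), `biprod_iso_of_half_deg` (S11830)
-/

set_option autoImplicit false
set_option linter.style.haveILetI false
universe u

open TopologicalSpace Topology AlgebraicGeometry CategoryTheory CategoryTheory.Limits Opposite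

namespace Groth.Agent.Lib.Helper4.CurveRk2

open Groth.Agent.Lib.Helper4.CurveBun Groth.Agent.Lib.Helper4.Dev Groth.Agent.Lib.Helper4.DegAdd
  Groth.Agent.Lib.Helper4.CurveStab Groth.Agent.Lib.Helper4.CurveSat Groth.Agent.Lib.Helper4.CurveHN

variable (k : Type u) [Field k] (X : Scheme.{u}) [X.Over (Spec (CommRingCat.of k))]
  [IsIntegral X] [IsProper (X ↘ (Spec (CommRingCat.of k)))]

/-- a nonzero map between line bundles -/
theorem hom_rank_one (hpid : PIDStalks X) (hdim : topologicalKrullDim X = 1) {L M : X.Modules}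
    (hL : FlatMod.IsFinLocFreeOfRank 1 L) (hM : FlatMod.IsFinLocFreeOfRank 1 M) (φ : L ⟶ M) (hφ : φ ≠ 0) :
    Mono φ ∧ Curv2.deg k X L 1 ≤ Curv2.deg k X M 1 ∧ (Curv2.deg k X L 1 = Curv2.deg k X M 1 → IsIso φ) := by
  obtain ⟨a, b, hab, hbs, hK, hI, hdeg⟩ := ker_im k X hpid φ 1 1 hL hM
  have hb : 0 < b := by
    rcases Nat.eq_zero_or_pos b with hb | hb
    · subst hb
      exact absurd (eq_zero_of_image_rank_zero φ hI) hφ
    · exact hb
  have ha : a = 0 := by omega
  subst ha
  haveI : Mono φ := mono_of_kernel_rank_zero φ hK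
  obtain ⟨h1, h2⟩ := Groth.Agent.Lib.Helper4.CurveGenIso.deg_le_deg k X hdim L M
    (isCoh_of_isFinLocFreeOfRank L 1 hL) (isCoh_of_isFinLocFreeOfRank M 1 hM) 1 φ
    (subsingleton_cokernel_stalk_genericPoint k X φ 1 hL hM)
  exact ⟨inferInstance, h1, h2.1⟩

/-- **S11816** -/
theorem destab_line_unique (hpid : PIDStalks X) (hdim : topologicalKrullDim X = 1)
    (E : X.Modules) (hE : FlatMod.IsFinLocFreeOfRank 2 E)
    (M M' : X.Modules) (hM : FlatMod.IsFinLocFreeOfRank 1 M) (hM' : FlatMod.IsFinLocFreeOfRank 1 M')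
    (i : M ⟶ E) (i' : M' ⟶ E) [Mono i] [Mono i']
    (hq : FlatMod.IsFinLocFreeOfRank 1 (cokernel i)) (hq' : FlatMod.IsFinLocFreeOfRank 1 (cokernel i'))
    (hd : Curv2.deg k X E 2 < 2 * Curv2.deg k X M 1) (hd' : Curv2.deg k X E 2 < 2 * Curv2.deg k X M' 1) :
    ∃ φ : M ≅ M', φ.hom ≫ i' = i := by
  have hadd := deg_additive k X (sesOfMono i) (sesOfMono_shortExact i) 1 2 1 hM hE hq
  have hadd' := deg_additive k X (sesOfMono i') (sesOfMono_shortExact i') 1 2 1 hM' hE hq'
  change Curv2.deg k X E 2 = Curv2.deg k X M 1 + Curv2.deg k X (cokernel i) 1 at hadd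
  change Curv2.deg k X E 2 = Curv2.deg k X M' 1 + Curv2.deg k X (cokernel i') 1 at hadd'
  have h0 : i' ≫ cokernel.π i = 0 := by
    by_contra hne
    obtain ⟨-, hle, -⟩ := hom_rank_one k X hpid hdim hM' hq _ hne
    linarith
  have h0' : i ≫ cokernel.π i' = 0 := by
    by_contra hne
    obtain ⟨-, hle, -⟩ := hom_rank_one k X hpid hdim hM hq' _ hne
    linarith
  refine ⟨⟨Abelian.monoLift i' i h0', Abelian.monoLift i i' h0, ?_, ?_⟩, Abelian.monoLift_comp i' i h0'⟩
  · rw [← cancel_mono i, Category.assoc, Abelian.monoLift_comp, Abelian.monoLift_comp, Category.id_comp]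
  · rw [← cancel_mono i', Category.assoc, Abelian.monoLift_comp, Abelian.monoLift_comp, Category.id_comp]

/-- **S11827** -/
theorem line_sub_of_ext (hpid : PIDStalks X) (hdim : topologicalKrullDim X = 1)
    (S : ShortComplex X.Modules) (hS : S.ShortExact)
    (hL : FlatMod.IsFinLocFreeOfRank 1 S.X₁) (hM : FlatMod.IsFinLocFreeOfRank 1 S.X₃)
    (N : X.Modules) (hN : FlatMod.IsFinLocFreeOfRank 1 N) (j : N ⟶ S.X₂) [Mono j]
    (hq : FlatMod.IsFinLocFreeOfRank 1 (cokernel j)) :
    (∃ φ : N ≅ S.X₁, φ.hom ≫ S.f = j) ∨ Curv2.deg k X N 1 ≤ Curv2.deg k X S.X₃ 1 := by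
  have := hS.mono_f
  have := hS.epi_g
  by_cases hψ : j ≫ S.g = 0
  · left
    have hv : hS.exact.lift j hψ ≫ S.f = j := hS.exact.lift_f j hψ
    have hχ : S.f ≫ cokernel.π j = 0 := by
      by_contra hne
      obtain ⟨hmono, -, -⟩ := hom_rank_one k X hpid hdim hL hq _ hne
      have h1 : hS.exact.lift j hψ ≫ (S.f ≫ cokernel.π j) = 0 := by
        rw [← Category.assoc, hv, cokernel.condition]
      have h2 : hS.exact.lift j hψ = 0 := by
        rw [← cancel_mono (S.f ≫ cokernel.π j), h1, zero_comp]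
      have h3 : j = 0 := by rw [← hv, h2, zero_comp]
      exact not_isZero_of_rank_pos X N 1 Nat.one_pos hN (IsZero.of_mono_eq_zero j h3)
    refine ⟨⟨hS.exact.lift j hψ, Abelian.monoLift j S.f hχ, ?_, ?_⟩, hv⟩
    · rw [← cancel_mono j, Category.assoc, Abelian.monoLift_comp, hv, Category.id_comp]
    · rw [← cancel_mono S.f, Category.assoc, hv, Abelian.monoLift_comp, Category.id_comp]
  · right
    exact (hom_rank_one k X hpid hdim hN hM _ hψ).2.1

/-- **S11830** -/
theorem biprod_iso_of_half_deg (hpid : PIDStalks X) (hdim : topologicalKrullDim X = 1)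
    (E : X.Modules) (hE : FlatMod.IsFinLocFreeOfRank 2 E)
    (L L' : X.Modules) (hL : FlatMod.IsFinLocFreeOfRank 1 L) (hL' : FlatMod.IsFinLocFreeOfRank 1 L')
    (i : L ⟶ E) (i' : L' ⟶ E) [Mono i] [Mono i']
    (hq : FlatMod.IsFinLocFreeOfRank 1 (cokernel i)) (hq' : FlatMod.IsFinLocFreeOfRank 1 (cokernel i'))
    (hd : 2 * Curv2.deg k X L 1 = Curv2.deg k X E 2) (hd' : 2 * Curv2.deg k X L' 1 = Curv2.deg k X E 2) :
    Nonempty (L ⊞ cokernel i ≅ L' ⊞ cokernel i') := by
  have hadd := deg_additive k X (sesOfMono i) (sesOfMono_shortExact i) 1 2 1 hL hE hq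
  have hadd' := deg_additive k X (sesOfMono i') (sesOfMono_shortExact i') 1 2 1 hL' hE hq'
  change Curv2.deg k X E 2 = Curv2.deg k X L 1 + Curv2.deg k X (cokernel i) 1 at hadd
  change Curv2.deg k X E 2 = Curv2.deg k X L' 1 + Curv2.deg k X (cokernel i') 1 at hadd'
  have hLL' : Curv2.deg k X L' 1 = Curv2.deg k X L 1 := by linarith
  by_cases h0 : i' ≫ cokernel.π i = 0
  · -- `L' ⊆ L`, hence equal
    have hv : Abelian.monoLift i i' h0 ≫ i = i' := Abelian.monoLift_comp i i' h0
    haveI : Mono (Abelian.monoLift i i' h0 ≫ i) := by rw [hv]; infer_instance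
    haveI : Mono (Abelian.monoLift i i' h0) := mono_of_mono _ i
    haveI : IsIso (Abelian.monoLift i i' h0) :=
      isIso_of_mono_of_rank_deg k X hdim _ 1 hL' hL hLL'
    exact ⟨(biprod.mapIso (asIso (Abelian.monoLift i i' h0))
      (cokernelIsoOfEq hv.symm ≪≫ cokernelEpiComp (Abelian.monoLift i i' h0) i)).symm⟩
  · have h0' : i ≫ cokernel.π i' ≠ 0 := by
      intro h0'
      apply h0
      have hw : Abelian.monoLift i' i h0' ≫ i' = i := Abelian.monoLift_comp i' i h0'
      haveI : Mono (Abelian.monoLift i' i h0' ≫ i') := by rw [hw]; infer_instance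
      haveI : Mono (Abelian.monoLift i' i h0') := mono_of_mono _ i'
      haveI : IsIso (Abelian.monoLift i' i h0') :=
        isIso_of_mono_of_rank_deg k X hdim _ 1 hL hL' hLL'.symm
      rw [← cancel_epi (Abelian.monoLift i' i h0'), ← Category.assoc, hw, cokernel.condition, comp_zero]
    haveI := (hom_rank_one k X hpid hdim hL' hq _ h0).2.2 (by linarith)
    haveI := (hom_rank_one k X hpid hdim hL hq' _ h0').2.2 (by linarith)
    exact ⟨biprod.mapIso (Iso.refl L) (asIso (i' ≫ cokernel.π i)).symm ≪≫ biprod.braiding L L' ≪≫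
      biprod.mapIso (Iso.refl L') (asIso (i ≫ cokernel.π i'))⟩

end Groth.Agent.Lib.Helper4.CurveRk2
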