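import Mathlib
import Groth.Agent.Lib.Helper4CurveNorm
import Groth.Agent.Lib.Helper4CurveRk2
import Groth.Agent.Lib.Helper1Sky9
import Groth.Agent.Lib.Helper21HZB9
set_option backward.isDefEq.respectTransparency.types false

/-!
# Curve-test nefness of extensions (helper4)

* `nef_ext` (S17280)
-/

set_option autoImplicit false
set_option linter.style.haveILetI false
universe u

open TopologicalSpace Topology AlgebraicGeometry CategoryTheory CategoryTheory.Limits Opposite

namespace Groth.Agent.Lib.Helper4.CurveNef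

open Groth.Agent.Lib.Helper4.CurveBun Groth.Agent.Lib.Helper4.Dev Groth.Agent.Lib.Helper4.DegAdd
  Groth.Agent.Lib.Helper4.CurveStab Groth.Agent.Lib.Helper4.CurveNorm Groth.Agent.Lib.Helper4.CurveRk2

/-- right exactness of the pullback: a map out of `f^* E` killing `f^* E'` factors through `f^* E''` -/
theorem exists_desc_pullback {C X : Scheme.{u}} (f : C ⟶ X) (S : ShortComplex X.Modules) (hS : S.ShortExact)
    {M : C.Modules} (q : (Scheme.Modules.pullback f).obj S.X₂ ⟶ M)
    (h0 : (Scheme.Modules.pullback f).map S.f ≫ q = 0) :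
    ∃ q'' : (Scheme.Modules.pullback f).obj S.X₃ ⟶ M, (Scheme.Modules.pullback f).map S.g ≫ q'' = q := by
  haveI : PreservesColimitsOfSize.{0, 0} (Scheme.Modules.pullback f) :=
    (Scheme.Modules.pullbackPushforwardAdjunction f).leftAdjoint_preservesColimits
  have hcol := CokernelCofork.mapIsColimit _ hS.gIsCokernel (Scheme.Modules.pullback f)
  exact ⟨hcol.desc (CokernelCofork.ofπ q h0), Cofork.IsColimit.π_desc hcol⟩

variable (k : Type u) [Field k]

/-- **S17280** at one curve -/
theorem nef_ext {X : Scheme.{u}} (S : ShortComplex X.Modules) (hS : S.ShortExact)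
    (h₁ : FlatMod.IsFinLocFree S.X₁)
    (C : Scheme.{u}) [C.Over (Spec (CommRingCat.of k))] [IsProper (C ↘ (Spec (CommRingCat.of k)))] [IsIntegral C]
    (hdim : topologicalKrullDim C = 1) (hreg : ∀ x : C, IsRegularLocalRing (C.presheaf.stalk x))
    (f : C ⟶ X)
    (hn₁ : ∀ (M : C.Modules), PicF.IsInvertible M →
      ∀ (q : (Scheme.Modules.pullback f).obj S.X₁ ⟶ M), Epi q → 0 ≤ Curv2.deg k C M 1)
    (hn₃ : ∀ (M : C.Modules), PicF.IsInvertible M →
      ∀ (q : (Scheme.Modules.pullback f).obj S.X₃ ⟶ M), Epi q → 0 ≤ Curv2.deg k C M 1)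
    (M : C.Modules) (hM : PicF.IsInvertible M)
    (q : (Scheme.Modules.pullback f).obj S.X₂ ⟶ M) (hq : Epi q) : 0 ≤ Curv2.deg k C M 1 := by
  have hpid := pidStalks_of_regular C hdim.le hreg
  haveI : IsLocallyNoetherian C := isLocallyNoetherian_of_proper k C
  have hM1 := Groth.Agent.Lib.Helper23.SecTw.isFinLocFreeOfRank_one_of_isInvertible M hM
  by_cases h0 : (Scheme.Modules.pullback f).map S.f ≫ q = 0
  · obtain ⟨q'', hq''⟩ := exists_desc_pullback f S hS q h0
    haveI : Epi ((Scheme.Modules.pullback f).map S.g ≫ q'') := by rw [hq'']; exact hq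
    exact hn₃ M hM q'' (epi_of_epi ((Scheme.Modules.pullback f).map S.g) q'')
  · have cE' : Coh.IsCoh ((Scheme.Modules.pullback f).obj S.X₁) :=
      Groth.Agent.Lib.Helper21.HZB.isCoh_of_isFinLocFree _
        (Groth.Agent.Lib.Helper1.Sky.isFinLocFree_pullback f S.X₁ h₁)
    have cM := isCoh_of_isFinLocFreeOfRank M 1 hM1
    have cI : Coh.IsCoh (Abelian.image ((Scheme.Modules.pullback f).map S.f ≫ q)) :=
      isCoh_kernel _ cM (isCoh_cokernel _ cE' cM)
    obtain ⟨b, hb1, hI⟩ := isFinLocFreeOfRank_of_mono hpid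
      (Abelian.image.ι ((Scheme.Modules.pullback f).map S.f ≫ q)) cI 1 hM1
    have hb : b = 1 := by
      rcases Nat.eq_zero_or_pos b with hb | hb
      · subst hb
        exact absurd (eq_zero_of_image_rank_zero _ hI) h0
      · omega
    subst hb
    have hιne : Abelian.image.ι ((Scheme.Modules.pullback f).map S.f ≫ q) ≠ 0 := by
      intro hz
      apply h0
      rw [← Abelian.image.fac ((Scheme.Modules.pullback f).map S.f ≫ q), hz, comp_zero]
    have h1 := hn₁ _ (isInvertible_of_rank_one _ hI)
      (Abelian.factorThruImage ((Scheme.Modules.pullback f).map S.f ≫ q)) inferInstance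
    have h2 := (hom_rank_one k C hpid hdim hI hM1 _ hιne).2.1
    linarith

end Groth.Agent.Lib.Helper4.CurveNef
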