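/-
Helper library (helper4): normal curves have valuation rings as local rings; morphisms from an
integral scheme with valuation-ring stalks to a proper scheme correspond to maps of function fields.
-/
import Mathlib
import Groth.Agent.Lib.Helper4RatMapExt

set_option autoImplicit false
set_option linter.style.haveILetI false
universe u

open AlgebraicGeometry CategoryTheory

namespace Groth.Agent.Lib.Helper4.RatMapExt

open Groth.Agent.Lib.Helper4.BirLocalIso

/-- All local rings of a normal curve (integral, locally Noetherian, Jacobson, closed points of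
codimension one, normal) are valuation rings. -/
theorem valuationRing_stalk_of_normal_curve {X : Scheme.{u}} [IsIntegral X] [IsLocallyNoetherian X]
    [JacobsonSpace X]
    (hX : ∀ x : X, IsClosed ({x} : Set X) → ringKrullDim (X.presheaf.stalk x) = 1)
    (hnorm : ∀ x : X, IsIntegrallyClosed (X.presheaf.stalk x)) (x : X) :
    ValuationRing (X.presheaf.stalk x) := by
  obtain ⟨x', hx'cl, hx'⟩ : ∃ x', x' ∈ closure {x} ∧ IsClosed ({x'} : Set X) :=
    nonempty_inter_closedPoints (Z := closure {x}) ⟨x, subset_closure rfl⟩
      isClosed_closure.isLocallyClosed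
  have hsp : x ⤳ x' := specializes_iff_mem_closure.mpr hx'cl
  haveI := hnorm x'
  haveI : ValuationRing (X.presheaf.stalk x') :=
    valuationRing_of_normal_dim_le_one _ (hX x' hx').le
  rw [ValuationRing.iff_isInteger_or_isInteger (X.presheaf.stalk x) X.functionField]
  intro z
  have hcomp : ∀ a : X.presheaf.stalk x', algebraMap (X.presheaf.stalk x') X.functionField a =
      algebraMap (X.presheaf.stalk x) X.functionField (X.presheaf.stalkSpecializes hsp a) := by
    intro a
    simp only [RingHom.algebraMap_toAlgebra]
    rw [← CommRingCat.comp_apply, TopCat.Presheaf.stalkSpecializes_comp]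
  rcases ValuationRing.isInteger_or_isInteger (X.presheaf.stalk x') z with
    ⟨a, ha⟩ | ⟨a, ha⟩
  · left; exact ⟨X.presheaf.stalkSpecializes hsp a, by rw [← hcomp, ha]⟩
  · right; exact ⟨X.presheaf.stalkSpecializes hsp a, by rw [← hcomp, ha]⟩

set_option backward.isDefEq.respectTransparency false in
/-- The morphism `Spec K(X) ⟶ Y` induced by a morphism `u : X ⟶ Y` mapping the generic point to
the generic point. -/
lemma fromSpecStalk_genericPoint_comp {X Y : Scheme.{u}} [IsIntegral X] [IsIntegral Y]
    (u : X ⟶ Y) (hu : u (genericPoint X) = genericPoint Y) :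
    X.fromSpecStalk (genericPoint X) ≫ u =
      Spec.map (Y.presheaf.stalkSpecializes (specializes_of_eq hu) ≫
        u.stalkMap (genericPoint X)) ≫ Y.fromSpecStalk (genericPoint Y) := by
  rw [Spec.map_comp, Category.assoc, Scheme.SpecMap_stalkSpecializes_fromSpecStalk,
    Scheme.SpecMap_stalkMap_fromSpecStalk]

set_option backward.isDefEq.respectTransparency false in
/-- **Morphisms from a valuation-stalk scheme to a proper scheme are maps of function fields.** -/
theorem existsUnique_of_functionField_hom {X Y S : Scheme.{u}} (p : X ⟶ S) (q : Y ⟶ S)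
    [IsSeparated q] [LocallyOfFiniteType q] (hval : ValuativeCriterion.Existence q)
    [IsIntegral X] [IsIntegral Y] (hX : ∀ x : X, ValuationRing (X.presheaf.stalk x))
    (φ : Y.functionField ⟶ X.functionField)
    (hφ : Spec.map φ ≫ Y.fromSpecStalk (genericPoint Y) ≫ q =
      X.fromSpecStalk (genericPoint X) ≫ p) :
    ∃! u : X ⟶ Y, u ≫ q = p ∧ ∃ hu : u (genericPoint X) = genericPoint Y,
      Y.presheaf.stalkSpecializes (specializes_of_eq hu) ≫ u.stalkMap (genericPoint X) = φ := by
  -- spread out from the generic point
  obtain ⟨U₀, hηU₀, f₀, hf₀t, hf₀⟩ := spread_out_of_isGermInjective' p q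
    (x := genericPoint X) (Spec.map φ ≫ Y.fromSpecStalk (genericPoint Y))
    (by rw [Category.assoc]; exact hφ)
  obtain ⟨u, huq, huU⟩ := exists_extension_of_valuationRing p q hval hX U₀ ⟨_, hηU₀⟩ f₀ hf₀
  have hkey : X.fromSpecStalk (genericPoint X) ≫ u =
      Spec.map φ ≫ Y.fromSpecStalk (genericPoint Y) := by
    rw [hf₀t, ← huU, ← Category.assoc, Scheme.Opens.fromSpecStalkOfMem_ι]
  have hpt : ∀ (v : X ⟶ Y), X.fromSpecStalk (genericPoint X) ≫ v =
      Spec.map φ ≫ Y.fromSpecStalk (genericPoint Y) → v (genericPoint X) = genericPoint Y := by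
    intro v hv
    have h1 : (X.fromSpecStalk (genericPoint X) ≫ v)
        (IsLocalRing.closedPoint (X.presheaf.stalk (genericPoint X))) = v (genericPoint X) := by
      rw [Scheme.Hom.comp_apply, Scheme.fromSpecStalk_closedPoint]
    rw [← h1, hv, Scheme.Hom.comp_apply]
    have h2 : Spec.map φ (IsLocalRing.closedPoint (X.presheaf.stalk (genericPoint X))) =
        IsLocalRing.closedPoint (Y.presheaf.stalk (genericPoint Y)) := by
      haveI : Subsingleton (Spec (Y.presheaf.stalk (genericPoint Y))) :=
        inferInstanceAs (Subsingleton (PrimeSpectrum Y.functionField))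
      exact Subsingleton.elim _ _
    rw [h2, Scheme.fromSpecStalk_closedPoint]
  have hstalk : ∀ (v : X ⟶ Y) (hv : v (genericPoint X) = genericPoint Y),
      X.fromSpecStalk (genericPoint X) ≫ v = Spec.map φ ≫ Y.fromSpecStalk (genericPoint Y) ↔
      Y.presheaf.stalkSpecializes (specializes_of_eq hv) ≫ v.stalkMap (genericPoint X) = φ := by
    intro v hv
    rw [fromSpecStalk_genericPoint_comp v hv]
    constructor
    · intro h
      exact Spec.map_injective ((cancel_mono _).mp h)
    · intro h
      rw [h]
  refine ⟨u, ⟨huq, hpt u hkey, (hstalk u (hpt u hkey)).mp hkey⟩, ?_⟩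
  rintro v ⟨hvq, hv, hvφ⟩
  have hv' := (hstalk v hv).mpr hvφ
  haveI : IsDominant (X.fromSpecStalk (genericPoint X)) := by
    constructor
    rw [DenseRange, Scheme.range_fromSpecStalk]
    intro x
    have hη : genericPoint X ∈ {y | y ⤳ genericPoint X} := specializes_rfl
    exact closure_mono (Set.singleton_subset_iff.mpr hη) (genericPoint_specializes x).mem_closure
  exact ext_of_isDominant_of_isSeparated q (hvq.trans huq.symm)
    (X.fromSpecStalk (genericPoint X)) (hv'.trans hkey.symm)

end Groth.Agent.Lib.Helper4.RatMapExt
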