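import Mathlib
import Groth.Agent.Lib.Helper4CurveRk2

/-!
# Rank-two extensions with a positive line sub-bundle (helper4)

* `max_line_sub` (S13934)
-/

set_option autoImplicit false
set_option linter.style.haveILetI false
universe u

open TopologicalSpace Topology AlgebraicGeometry CategoryTheory CategoryTheory.Limits Opposite

namespace Groth.Agent.Lib.Helper4.CurveRk2

open Groth.Agent.Lib.Helper4.CurveBun Groth.Agent.Lib.Helper4.Dev Groth.Agent.Lib.Helper4.DegAdd
  Groth.Agent.Lib.Helper4.CurveStab Groth.Agent.Lib.Helper4.CurveSat Groth.Agent.Lib.Helper4.CurveHN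

variable (k : Type u) [Field k] (X : Scheme.{u}) [X.Over (Spec (CommRingCat.of k))]
  [IsIntegral X] [IsProper (X ↘ (Spec (CommRingCat.of k)))]

/-- **S13934** -/
theorem max_line_sub (hpid : PIDStalks X) (hdim : topologicalKrullDim X = 1)
    (S : ShortComplex X.Modules) (hS : S.ShortExact)
    (hE : FlatMod.IsFinLocFreeOfRank 2 S.X₂) (hE0 : Curv2.deg k X S.X₂ 2 = 0)
    (hL : FlatMod.IsFinLocFreeOfRank 1 S.X₁) (hM : FlatMod.IsFinLocFreeOfRank 1 S.X₃)
    (hpos : 0 < Curv2.deg k X S.X₁ 1) :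
    (∀ (N : X.Modules), FlatMod.IsFinLocFreeOfRank 1 N → ∀ j : N ⟶ S.X₂, j ≠ 0 →
        Curv2.deg k X N 1 ≤ Curv2.deg k X S.X₁ 1) ∧
    (∀ (N : X.Modules), FlatMod.IsFinLocFreeOfRank 1 N → ∀ (j : N ⟶ S.X₂), Mono j →
        FlatMod.IsFinLocFreeOfRank 1 (cokernel j) → 0 < Curv2.deg k X N 1 → ∃ φ : N ≅ S.X₁, φ.hom ≫ S.f = j) ∧
    (∀ (N N' : X.Modules), FlatMod.IsFinLocFreeOfRank 1 N → FlatMod.IsFinLocFreeOfRank 1 N' →
        Curv2.deg k X N 1 = 0 → Curv2.deg k X N' 1 = 0 →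
        ∀ (a : N ⟶ S.X₂) (b : S.X₂ ⟶ N') (w : a ≫ b = 0), ¬ (ShortComplex.mk a b w).ShortExact) := by
  have := hS.mono_f
  have := hS.epi_g
  have hadd := deg_additive k X S hS 1 2 1 hL hE hM
  have hMneg : Curv2.deg k X S.X₃ 1 < 0 := by linarith
  have hfne : S.f ≠ 0 := fun h0 =>
    not_isZero_of_rank_pos X S.X₁ 1 Nat.one_pos hL (IsZero.of_mono_eq_zero S.f h0)
  refine ⟨?_, ?_, ?_⟩
  · intro N hN j hj
    by_cases hψ : j ≫ S.g = 0
    · have hv : hS.exact.lift j hψ ≫ S.f = j := hS.exact.lift_f j hψ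
      have hne : hS.exact.lift j hψ ≠ 0 := fun h0 => hj (by rw [← hv, h0, zero_comp])
      exact (hom_rank_one k X hpid hdim hN hL _ hne).2.1
    · have := (hom_rank_one k X hpid hdim hN hM _ hψ).2.1
      linarith
  · intro N hN j hj hq hNpos
    haveI := hj
    rcases line_sub_of_ext k X hpid hdim S hS hL hM N hN j hq with h | h
    · exact h
    · exfalso; linarith
  · intro N N' hN hN' hN0 hN'0 a b w hT
    have hψ : S.f ≫ b = 0 := by
      by_contra hne
      have := (hom_rank_one k X hpid hdim hL hN' _ hne).2.1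
      linarith
    have := hT.mono_f
    have hv : hT.exact.lift S.f hψ ≫ a = S.f := hT.exact.lift_f S.f hψ
    have hne : hT.exact.lift S.f hψ ≠ 0 := fun h0 => hfne (by rw [← hv, h0, zero_comp])
    have := (hom_rank_one k X hpid hdim hL hN _ hne).2.1
    linarith

end Groth.Agent.Lib.Helper4.CurveRk2
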