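import Mathlib
import Groth.Agent.Lib.Helper4CurveHN

/-!
# Stable bundles over an algebraically closed field are simple (helper4)

* `stalkL_smulModΓ` : the stalk of multiplication by a global function
* `residue_surjective` : Nullstellensatz at a closed point, for the natural map `k → κ(x)`
* `exists_scalar_of_stable` (S11811, S15334)
-/

set_option autoImplicit false
set_option linter.style.haveILetI false
universe u

open TopologicalSpace Topology AlgebraicGeometry CategoryTheory CategoryTheory.Limits Opposite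

namespace Groth.Agent.Lib.Helper4.CurveSimple

open Groth.Agent.Lib.Helper4.CurveBun Groth.Agent.Lib.Helper4.CurveStab Groth.Agent.Lib.Helper4.Dev

section general
variable {X : Scheme.{u}}

theorem stalkL_sub {A B : X.Modules} (φ ψ : A ⟶ B) (y : X) :
    stalkL (φ - ψ) y = stalkL φ y - stalkL ψ y := by
  ext x
  obtain ⟨V, hyV, m, rfl⟩ := A.presheaf.exists_germ_eq x
  rw [LinearMap.sub_apply, stalkL_germ, stalkL_germ, stalkL_germ]
  have : (φ - ψ).app V m = φ.app V m - ψ.app V m := rfl
  rw [this, map_sub]

/-- stalk of multiplication by a global function -/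
theorem stalkL_smulModΓ (M : X.Modules) (r : Coh.Γtop X) (y : X) :
    stalkL (Formal.smulModΓ M r) y = (X.presheaf.germ ⊤ y trivial r) • LinearMap.id := by
  ext x
  obtain ⟨V, hyV, m, rfl⟩ := M.presheaf.exists_germ_eq x
  rw [stalkL_germ, KLin.smulModΓ_app_apply, Groth.Agent.Lib.Helper2.QCoh.germ_smul M y V hyV,
    X.presheaf.germ_res_apply (homOfLE (le_top : V ≤ ⊤)) y hyV r]
  rfl

end general

/-- Nullstellensatz at a closed point: the natural map `k → κ(x)` is surjective. -/
theorem residue_surjective (k : Type u) [Field k] [IsAlgClosed k] (X : Scheme.{u})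
    (f : X ⟶ Spec (CommRingCat.of k)) [LocallyOfFiniteType f] (x : X) (hx : IsClosed ({x} : Set X))
    (μ : X.residueField x) :
    ∃ c : k, (X.residue x).hom ((X.presheaf.germ ⊤ x trivial).hom (Coh.toGlobal f c)) = μ := by
  set ι := (residueFieldIsoBase f x hx).inv with hι
  have hbij : Function.Bijective ι.hom :=
    ConcreteCategory.bijective_of_isIso ι
  have hkey : ι = (Scheme.ΓSpecIso (CommRingCat.of k)).inv ≫ f.appTop ≫
      X.presheaf.germ ⊤ x trivial ≫ X.residue x := by
    apply Spec.map_injective
    rw [hι, SpecMap_residueFieldIsoBase_inv]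
    simp only [Spec.map_comp]
    rw [← Scheme.fromSpecStalk_toSpecΓ]
    have h1 : f = X.toSpecΓ ≫ Spec.map f.appTop ≫ Spec.map (Scheme.ΓSpecIso (CommRingCat.of k)).inv := by
      rw [← Scheme.toSpecΓ_naturality_assoc, toSpecΓ_SpecMap_ΓSpecIso_inv, Category.comp_id]
    conv_lhs => rw [h1]
    simp only [Scheme.fromSpecResidueField, Category.assoc]
  obtain ⟨c, hc⟩ := hbij.2 μ
  refine ⟨c, ?_⟩
  rw [← hc, hkey]
  rfl

variable (k : Type u) [Field k] [IsAlgClosed k] (X : Scheme.{u}) [X.Over (Spec (CommRingCat.of k))]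
  [IsIntegral X] [IsProper (X ↘ (Spec (CommRingCat.of k)))]

open TensorProduct in
/-- **S11811**, **S15334**: endomorphisms of a stable bundle are scalars -/
theorem exists_scalar_of_stable (hpid : PIDStalks X) (hdim : topologicalKrullDim X = 1) (r : ℕ) (hr : 0 < r)
    (E : X.Modules) (hE : FlatMod.IsFinLocFreeOfRank r E) (hEst : ModFun.IsSlopeStable k X E r)
    (φ : E ⟶ E) : ∃ c : k, φ = Formal.smulMod k E c := by
  haveI : CompactSpace X := QuasiCompact.compactSpace_of_compactSpace (X ↘ (Spec (CommRingCat.of k)))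
  obtain ⟨x, -, hx⟩ := IsClosed.exists_closed_singleton (isClosed_univ (X := X)) Set.univ_nonempty
  obtain ⟨hfree, hfin, hrk⟩ := Groth.Agent.Lib.Helper4.KTensor.stalk_of_isFinLocFreeOfRank E r hE x
  haveI := hfree
  haveI := hfin
  let R := X.presheaf.stalk x
  let κ := IsLocalRing.ResidueField R
  let V := κ ⊗[R] (E.presheaf.stalk x)
  haveI : IsAlgClosed κ :=
    IsAlgClosed.of_ringEquiv (k := k) κ
      (residueFieldIsoBase (X ↘ (Spec (CommRingCat.of k))) x hx).symm.commRingCatIsoToRingEquiv
  have hVrk : Module.finrank κ V = r := by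
    rw [Module.finrank_baseChange, hrk]
  haveI : Nontrivial V := Module.nontrivial_of_finrank_pos (R := κ) (by rw [hVrk]; exact hr)
  obtain ⟨μ, hμ⟩ := Module.End.exists_eigenvalue ((stalkL φ x).baseChange κ)
  obtain ⟨v, hv⟩ := hμ.exists_hasEigenvector
  obtain ⟨c, hc⟩ := residue_surjective k X (X ↘ (Spec (CommRingCat.of k))) x hx μ
  refine ⟨c, ?_⟩
  rw [← sub_eq_zero]
  by_contra hne
  haveI := Groth.Agent.Lib.Helper4.CurveHN.isIso_of_stable k X hpid hdim r E hE hEst _ hne
  set ψ := φ - Formal.smulMod k E c with hψ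
  -- the base change of `ψ_x` is injective
  have hinj : Function.Injective ((stalkL ψ x).baseChange κ) := by
    have hcomp : ((stalkL (inv ψ) x).baseChange κ).comp ((stalkL ψ x).baseChange κ) = LinearMap.id := by
      rw [← LinearMap.baseChange_comp, ← stalkL_comp, IsIso.hom_inv_id, stalkL_id, LinearMap.baseChange_id]
    exact Function.LeftInverse.injective (g := (stalkL (inv ψ) x).baseChange κ)
      (fun w => by rw [← LinearMap.comp_apply, hcomp]; rfl)
  -- but it kills the eigenvector
  have hkill : (stalkL ψ x).baseChange κ v = 0 := by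
    rw [hψ, stalkL_sub, LinearMap.baseChange_sub, LinearMap.sub_apply, hv.apply_eq_smul]
    have h2 : stalkL (Formal.smulMod k E c) x =
        (X.presheaf.germ ⊤ x trivial (Coh.toGlobal (X ↘ (Spec (CommRingCat.of k))) c)) • LinearMap.id :=
      stalkL_smulModΓ E _ x
    have hc' : algebraMap R κ
        (X.presheaf.germ ⊤ x trivial (Coh.toGlobal (X ↘ (Spec (CommRingCat.of k))) c)) = μ := hc
    rw [h2, LinearMap.baseChange_smul, LinearMap.baseChange_id, LinearMap.smul_apply, LinearMap.id_apply,
      ← hc', algebraMap_smul, sub_self]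
  exact hv.2 (hinj (by rw [hkill, map_zero]))

end Groth.Agent.Lib.Helper4.CurveSimple
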