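import Mathlib
import Groth.Agent.Lib.Helper4RatExt
import Groth.Agent.Lib.Helper4DVRSch
import Groth.Agent.Lib.Helper4DVREx

/-!
# Discrete valuation rings through a specialization, in `FractionRing` form (helper4)
-/

open IsLocalRing AlgebraicGeometry CategoryTheory

universe u

set_option linter.style.haveILetI false

namespace Groth.Agent.Lib.Helper4.RatExt

/-- Every point of the spectrum of a local ring maps to a generization of the image of the closed
point. -/
lemma specializes_closedPoint_image {X : Scheme.{u}} {R : Type u} [CommRing R] [IsLocalRing R]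
    (u : Spec (CommRingCat.of R) ⟶ X) (pt : Spec (CommRingCat.of R)) :
    u pt ⤳ u (closedPoint R) :=
  (IsLocalRing.specializes_closedPoint pt).map u.continuous

/-- A morphism from the spectrum of a local ring factors through any open containing the image of
the closed point. -/
lemma range_subset_of_closedPoint_mem {X : Scheme.{u}} {R : Type u} [CommRing R] [IsLocalRing R]
    (u : Spec (CommRingCat.of R) ⟶ X) (U : X.Opens) (hu : u (closedPoint R) ∈ U) :
    Set.range u ⊆ Set.range U.ι := by
  rintro _ ⟨pt, rfl⟩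
  rw [Scheme.Opens.range_ι]
  exact (specializes_closedPoint_image u pt).mem_open U.2 hu

/-- **DVR through a specialization.** On a locally noetherian scheme, for `z ⤳ x`, `z ≠ x`, `z` in
an open `U`, there is a discrete valuation ring `R` and `u : Spec R ⟶ X` sending the closed point
to `x` and the generic point to `z` (through `U`). -/
theorem exists_dvr_through {X : Scheme.{u}} [IsLocallyNoetherian X] (U : X.Opens) {z x : X}
    (hz : z ∈ U) (hzx : z ⤳ x) (hne : z ≠ x) :
    ∃ (R : Type u) (_ : CommRing R) (_ : IsDomain R) (_ : IsDiscreteValuationRing R)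
      (u : Spec (CommRingCat.of R) ⟶ X)
      (ub : Spec (CommRingCat.of (FractionRing R)) ⟶ U.toScheme),
      u (closedPoint R) = x ∧
      ub ≫ U.ι = Spec.map (CommRingCat.ofHom (algebraMap R (FractionRing R))) ≫ u ∧
      U.ι (ub (closedPoint (FractionRing R))) = z := by
  obtain ⟨V, hV, g, hg1, hg2⟩ := DVRSch.exists_dvr_hom hzx hne (L := X.residueField z)
    (𝟙 (X.residueField z)) (RingHom.FiniteType.id _).essFiniteType
  haveI := hV
  obtain ⟨a, b, hab, hba, ha, hb⟩ := DVREx.dvr_bridge V
  have hgen : Spec.map (CommRingCat.ofHom (algebraMap V (FractionRing V))) ≫ g =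
      Spec.map a ≫ X.fromSpecResidueField z := by
    rw [← ha, Spec.map_comp, Category.assoc, hg1]
    erw [Spec.map_id, Category.id_comp]
  have hpt : ∀ pt : Spec (CommRingCat.of (FractionRing V)),
      (Spec.map (CommRingCat.ofHom (algebraMap V (FractionRing V))) ≫ g) pt = z := by
    intro pt
    rw [hgen, Scheme.Hom.comp_apply]
    exact X.fromSpecResidueField_apply z _
  have hrange : Set.range (Spec.map (CommRingCat.ofHom (algebraMap V (FractionRing V))) ≫ g) ⊆
      Set.range U.ι := by
    rintro _ ⟨pt, rfl⟩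
    rw [hpt pt, Scheme.Opens.range_ι]
    exact hz
  refine ⟨V, inferInstance, inferInstance, hV, g,
    IsOpenImmersion.lift U.ι _ hrange, hg2, IsOpenImmersion.lift_fac _ _ _, ?_⟩
  have h1 := hpt (closedPoint (FractionRing V))
  rw [← IsOpenImmersion.lift_fac U.ι _ hrange] at h1
  exact h1

/-- **Dominating DVRs detect membership.** For a noetherian normal local domain `A` with fraction
field `K` and `f ∈ K` not in `A`, there is a discrete valuation ring of `K` dominating `A` and not
containing `f`. -/
theorem exists_dvr_dominating_notMem {A K : Type*} [CommRing A] [IsDomain A] [IsNoetherianRing A]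
    [IsLocalRing A] [IsIntegrallyClosed A] [Field K] [Algebra A K] [IsFractionRing A K] (f : K)
    (hf : f ∉ (algebraMap A K).range) :
    ∃ V : ValuationSubring K, IsDiscreteValuationRing V ∧ (∀ a, algebraMap A K a ∈ V) ∧
      (∀ a ∈ maximalIdeal A, algebraMap A K a ∈ V.nonunits) ∧ f ∉ V := by
  classical
  let R : LocalSubring K := LocalSubring.range (algebraMap A K)
  have hRs : R.toSubring = (algebraMap A K).range := rfl
  letI algAR : Algebra A R.toSubring := (algebraMap A K).rangeRestrict.toAlgebra
  haveI : IsScalarTower A R.toSubring K := IsScalarTower.of_algebraMap_eq (fun _ => rfl)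
  haveI : Algebra.IsIntegral A R.toSubring :=
    Algebra.isIntegral_of_surjective (algebraMap A K).rangeRestrict_surjective
  haveI : IsIntegrallyClosedIn R.toSubring K := by
    rw [Subring.isIntegrallyClosedIn_iff]
    intro x hx
    have h1 : IsIntegral A x := isIntegral_trans x hx
    obtain ⟨a, ha⟩ := IsIntegrallyClosed.isIntegral_iff.mp h1
    exact ⟨a, ha⟩
  obtain ⟨V₀, hV₀R, hfV₀⟩ := R.exists_le_valuationSubring_of_isIntegrallyClosedIn
    (x := f) (by rw [hRs]; exact hf)
  have hf0 : f ≠ 0 := by
    rintro rfl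
    exact hf (zero_mem _)
  have hAV₀ : ∀ a, algebraMap A K a ∈ V₀ := fun a => hV₀R.1 ⟨a, rfl⟩
  have hfinv : f⁻¹ ∈ V₀.nonunits := DVRDom.inv_mem_nonunits_of_notMem V₀ hfV₀
  haveI : Algebra.EssFiniteType A K := Algebra.EssFiniteType.of_isLocalization K (nonZeroDivisors A)
  obtain ⟨V, hV, hAV, hEV, hdom⟩ := DVRDom.exists_dvr_of_valuationSubring V₀ (B₀ := A) hAV₀ {f⁻¹}
    (by intro e he; rw [Finset.mem_singleton] at he; rw [he]; exact hfinv)
    ⟨f⁻¹, Finset.mem_singleton_self _, inv_ne_zero hf0⟩
  refine ⟨V, hV, hAV, ?_, ?_⟩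
  · intro a ha
    apply hdom
    -- `a ∈ m_A` is a nonunit of `V₀` by domination
    have h2 : IsLocalHom (Subring.inclusion hV₀R.1) := hV₀R.2
    by_contra hnon
    have hu : IsUnit (⟨algebraMap A K a, hAV₀ a⟩ : V₀) := by
      by_contra hnu
      exact hnon ((V₀.mem_nonunits_iff_exists_mem_maximalIdeal).mpr
        ⟨hAV₀ a, (mem_maximalIdeal _).mpr hnu⟩)
    have hu' : IsUnit (⟨algebraMap A K a, ⟨a, rfl⟩⟩ : R.toSubring) :=
      h2.map_nonunit ⟨algebraMap A K a, ⟨a, rfl⟩⟩ hu
    -- transfer to `A`
    have hau : IsUnit a := by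
      obtain ⟨⟨b, hb⟩, hb1⟩ := isUnit_iff_exists_inv.mp hu'
      obtain ⟨b', rfl⟩ := hb
      have : algebraMap A K (a * b') = algebraMap A K 1 := by
        rw [map_mul, map_one]
        exact congr($(hb1).1)
      exact isUnit_iff_exists_inv.mpr ⟨b', IsFractionRing.injective A K this⟩
    exact ((mem_maximalIdeal a).mp ha) hau
  · intro hfV
    have := hEV f⁻¹ (Finset.mem_singleton_self _)
    rw [ValuationSubring.mem_nonunits_iff, map_inv₀] at this
    have h1 : V.valuation f ≤ 1 := (V.valuation_le_one_iff f).mpr hfV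
    have h0 : V.valuation f ≠ 0 := (V.valuation.ne_zero_iff).mpr hf0
    have : 1 ≤ (V.valuation f)⁻¹ := (one_le_inv₀ (zero_lt_iff.mpr h0)).mpr h1
    exact absurd ‹(V.valuation f)⁻¹ < 1› (not_lt.mpr this)

end Groth.Agent.Lib.Helper4.RatExt
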