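import Mathlib
import Groth.Agent.Lib.Helper4RatExt2

/-!
# Extending sections at normal points: the criterion through all discrete valuation rings (helper4)
-/

open IsLocalRing AlgebraicGeometry CategoryTheory

universe u

set_option linter.style.haveILetI false

namespace Groth.Agent.Lib.Helper4.RatExt

/-- A ring map into `K` with values in the image of `A` lifts to `A`. -/
theorem exists_ringHom_of_forall_mem_range {B A K : Type*} [CommRing B] [CommRing A] [Field K]
    [Algebra A K] [FaithfulSMul A K] (φ : B →+* K) (h : ∀ b, φ b ∈ (algebraMap A K).range) :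
    ∃ l : B →+* A, (algebraMap A K).comp l = φ := by
  have hinj : Function.Injective (algebraMap A K).rangeRestrict := by
    intro a b hab
    exact FaithfulSMul.algebraMap_injective A K congr($(hab).1)
  let e := RingEquiv.ofBijective (algebraMap A K).rangeRestrict
    ⟨hinj, (algebraMap A K).rangeRestrict_surjective⟩
  refine ⟨e.symm.toRingHom.comp (φ.codRestrict (algebraMap A K).range h), ?_⟩
  ext b
  change algebraMap A K (e.symm (φ.codRestrict _ h b)) = φ b
  have : algebraMap A K (e.symm (φ.codRestrict _ h b)) =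
      (e (e.symm (φ.codRestrict _ h b)) : K) := rfl
  rw [this, RingEquiv.apply_symm_apply]
  rfl

set_option backward.isDefEq.respectTransparency false in
/-- **Affine chart step.** If a `K`-point `t` of `Y` over the generic point of `Spec 𝒪_{X,x}`
(`x = q y₁`) factors through an affine open `V` of `Y` lying over an affine open `W ∋ x`, through a
ring map `φ' : Γ(Y, V) ⟶ K` with values in `𝒪_{X,x}`, then `t` extends to `Spec 𝒪_{X,x} ⟶ Y`. -/
theorem exists_stalk_lift_of_forall_mem {X Y : Scheme.{u}} (q : Y ⟶ X) (y₁ : Y)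
    [IsDomain (X.presheaf.stalk (q y₁))]
    (t : Spec (CommRingCat.of (FractionRing (X.presheaf.stalk (q y₁)))) ⟶ Y)
    (ht : t ≫ q = genericHom X (q y₁))
    {W : X.Opens} (hW : IsAffineOpen W) (hxW : q y₁ ∈ W) {V : Y.Opens} (hV : IsAffineOpen V)
    (hVW : V ≤ q ⁻¹ᵁ W)
    (φ' : Γ(Y, V) ⟶ CommRingCat.of (FractionRing (X.presheaf.stalk (q y₁))))
    (hφ' : Spec.map φ' ≫ hV.fromSpec = t)
    (hmem : ∀ b, φ'.hom b ∈ (algebraMap (X.presheaf.stalk (q y₁))
      (FractionRing (X.presheaf.stalk (q y₁)))).range) :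
    ∃ l₀ : Γ(Y, V) ⟶ X.presheaf.stalk (q y₁),
      l₀ ≫ CommRingCat.ofHom (algebraMap (X.presheaf.stalk (q y₁))
        (FractionRing (X.presheaf.stalk (q y₁)))) = φ' ∧
      (Spec.map l₀ ≫ hV.fromSpec) ≫ q = X.fromSpecStalk (q y₁) ∧
      Spec.map (CommRingCat.ofHom (algebraMap (X.presheaf.stalk (q y₁))
        (FractionRing (X.presheaf.stalk (q y₁))))) ≫ Spec.map l₀ ≫ hV.fromSpec = t := by
  obtain ⟨l₁, hl₁⟩ := exists_ringHom_of_forall_mem_range (B := Γ(Y, V))
    (A := X.presheaf.stalk (q y₁)) (K := FractionRing (X.presheaf.stalk (q y₁)))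
    φ'.hom hmem
  have hl₁' : ∀ b, algebraMap (X.presheaf.stalk (q y₁)) (FractionRing (X.presheaf.stalk (q y₁)))
      (l₁ b) = φ'.hom b := fun b => congr($hl₁ b)
  let l₀ : Γ(Y, V) ⟶ X.presheaf.stalk (q y₁) := CommRingCat.ofHom l₁
  have hl₀ : l₀ ≫ CommRingCat.ofHom (algebraMap (X.presheaf.stalk (q y₁))
        (FractionRing (X.presheaf.stalk (q y₁)))) = φ' := by
    ext b
    exact hl₁' b
  have hcomp : q.appLE W V hVW ≫ φ' =
      X.presheaf.germ W (q y₁) hxW ≫ CommRingCat.ofHom (algebraMap (X.presheaf.stalk (q y₁))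
        (FractionRing (X.presheaf.stalk (q y₁)))) := by
    apply Spec.map_injective
    rw [← cancel_mono hW.fromSpec]
    rw [Spec.map_comp, Category.assoc, IsAffineOpen.SpecMap_appLE_fromSpec q hW hV hVW,
      ← Category.assoc, hφ', ht, Spec.map_comp, Category.assoc]
    unfold genericHom
    rw [← hW.fromSpecStalk_eq_fromSpecStalk hxW, IsAffineOpen.fromSpecStalk]
  have hcomp' : q.appLE W V hVW ≫ l₀ = X.presheaf.germ W (q y₁) hxW := by
    ext a
    apply IsFractionRing.injective (X.presheaf.stalk (q y₁))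
      (FractionRing (X.presheaf.stalk (q y₁)))
    have h1 := congr(($hcomp).hom a)
    have h2 := hl₁' ((q.appLE W V hVW).hom a)
    exact h2.trans h1
  refine ⟨l₀, hl₀, ?_, ?_⟩
  · rw [Category.assoc, ← IsAffineOpen.SpecMap_appLE_fromSpec q hW hV hVW, ← Category.assoc,
      ← Spec.map_comp, hcomp', ← hW.fromSpecStalk_eq_fromSpecStalk hxW, IsAffineOpen.fromSpecStalk]
  · rw [← Category.assoc, ← Spec.map_comp, hl₀, hφ']

set_option backward.isDefEq.respectTransparency false in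
/-- **Stalk lift from the criterion through all dominating discrete valuation rings.** -/
theorem exists_stalk_lift_of_forall_dvr {X Y : Scheme.{u}} (q : Y ⟶ X) (y₀ : Y)
    [IsDomain (X.presheaf.stalk (q y₀))] [IsIntegrallyClosed (X.presheaf.stalk (q y₀))]
    [IsNoetherianRing (X.presheaf.stalk (q y₀))]
    (hnf : ¬ IsField (X.presheaf.stalk (q y₀)))
    (t : Spec (CommRingCat.of (FractionRing (X.presheaf.stalk (q y₀)))) ⟶ Y)
    (ht : t ≫ q = genericHom X (q y₀))
    (H : ∀ (V : ValuationSubring (FractionRing (X.presheaf.stalk (q y₀)))),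
        IsDiscreteValuationRing V →
        (∀ a, algebraMap (X.presheaf.stalk (q y₀)) (FractionRing (X.presheaf.stalk (q y₀))) a ∈ V) →
        (∀ a ∈ maximalIdeal (X.presheaf.stalk (q y₀)),
          algebraMap (X.presheaf.stalk (q y₀)) (FractionRing (X.presheaf.stalk (q y₀))) a ∈
            V.nonunits) →
        ∃ h₁ : Spec (CommRingCat.of V) ⟶ Y,
          h₁ (closedPoint V) = y₀ ∧ Spec.map (CommRingCat.ofHom V.subtype) ≫ h₁ = t) :
    ∃ l : Spec (X.presheaf.stalk (q y₀)) ⟶ Y, l ≫ q = X.fromSpecStalk (q y₀) ∧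
      Spec.map (CommRingCat.ofHom (algebraMap (X.presheaf.stalk (q y₀))
        (FractionRing (X.presheaf.stalk (q y₀))))) ≫ l = t ∧
      l (closedPoint (X.presheaf.stalk (q y₀))) = y₀ := by
  classical
  obtain ⟨_, ⟨W, hW, rfl⟩, hxW, -⟩ := X.isBasis_affineOpens.exists_subset_of_mem_open
    (Set.mem_univ (q y₀)) isOpen_univ
  obtain ⟨_, ⟨Vy, hVy, rfl⟩, hyV, hVW : Vy ≤ q ⁻¹ᵁ W⟩ :=
    Y.isBasis_affineOpens.exists_subset_of_mem_open hxW (q ⁻¹ᵁ W).2
  -- a first discrete valuation ring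
  have hm : maximalIdeal (X.presheaf.stalk (q y₀)) ≠ ⊥ := fun h =>
    hnf (IsLocalRing.isField_iff_maximalIdeal_eq.mpr h)
  obtain ⟨a, ham, ha0⟩ := Submodule.exists_mem_ne_zero_of_ne_bot hm
  have hf : (algebraMap (X.presheaf.stalk (q y₀)) (FractionRing (X.presheaf.stalk (q y₀))) a)⁻¹ ∉
      (algebraMap (X.presheaf.stalk (q y₀)) (FractionRing (X.presheaf.stalk (q y₀)))).range := by
    rintro ⟨b, hb⟩
    have h0 : algebraMap (X.presheaf.stalk (q y₀)) (FractionRing (X.presheaf.stalk (q y₀))) a ≠ 0 :=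
      fun h => ha0 (IsFractionRing.injective _ (FractionRing (X.presheaf.stalk (q y₀)))
        (by rw [h, map_zero]))
    have h1 : algebraMap (X.presheaf.stalk (q y₀)) (FractionRing (X.presheaf.stalk (q y₀)))
        (a * b) = algebraMap (X.presheaf.stalk (q y₀))
          (FractionRing (X.presheaf.stalk (q y₀))) 1 := by
      rw [map_mul, hb, map_one, mul_inv_cancel₀ h0]
    have h2 : a * b = 1 := IsFractionRing.injective (X.presheaf.stalk (q y₀))
      (FractionRing (X.presheaf.stalk (q y₀))) h1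
    exact ((mem_maximalIdeal a).mp ham) (isUnit_iff_exists_inv.mpr ⟨b, h2⟩)
  -- the key claim
  have key : ∀ (V : ValuationSubring (FractionRing (X.presheaf.stalk (q y₀))))
      (h₁ : Spec (CommRingCat.of V) ⟶ Y), h₁ (closedPoint V) = y₀ →
      ∀ (φ' : Γ(Y, Vy) ⟶ CommRingCat.of (FractionRing (X.presheaf.stalk (q y₀)))),
      Spec.map φ' ≫ hVy.fromSpec = Spec.map (CommRingCat.ofHom V.subtype) ≫ h₁ →
      ∃ χ : Γ(Y, Vy) ⟶ CommRingCat.of V, χ ≫ CommRingCat.ofHom V.subtype = φ' ∧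
        Spec.map χ ≫ hVy.fromSpec = h₁ := by
    intro V h₁ hh₁ φ' hφ'
    have hr : Set.range h₁ ⊆ Set.range hVy.fromSpec := by
      rw [hVy.range_fromSpec, ← Scheme.Opens.range_ι]
      exact range_subset_of_closedPoint_mem h₁ Vy (by rw [hh₁]; exact hyV)
    refine ⟨Spec.preimage (IsOpenImmersion.lift hVy.fromSpec h₁ hr), ?_, ?_⟩
    · apply Spec.map_injective
      rw [← cancel_mono hVy.fromSpec, Spec.map_comp, Category.assoc, Spec.map_preimage,
        IsOpenImmersion.lift_fac, hφ']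
    · rw [Spec.map_preimage, IsOpenImmersion.lift_fac]
  obtain ⟨V₁, hV₁, hAV₁, hmV₁, -⟩ := exists_dvr_dominating_notMem _ hf
  obtain ⟨h₁, hh₁y, hh₁t⟩ := H V₁ hV₁ hAV₁ hmV₁
  -- `t` factors through `Vy`
  have htV : Set.range t ⊆ Set.range hVy.fromSpec := by
    rw [← hh₁t, hVy.range_fromSpec, ← Scheme.Opens.range_ι]
    rintro _ ⟨pt, rfl⟩
    exact range_subset_of_closedPoint_mem h₁ Vy (by rw [hh₁y]; exact hyV) ⟨_, rfl⟩
  let φ' : Γ(Y, Vy) ⟶ CommRingCat.of (FractionRing (X.presheaf.stalk (q y₀))) :=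
    Spec.preimage (IsOpenImmersion.lift hVy.fromSpec t htV)
  have hφ' : Spec.map φ' ≫ hVy.fromSpec = t := by
    rw [Spec.map_preimage, IsOpenImmersion.lift_fac]
  have hmem : ∀ b, φ'.hom b ∈ (algebraMap (X.presheaf.stalk (q y₀))
      (FractionRing (X.presheaf.stalk (q y₀)))).range := by
    intro b
    by_contra hb
    obtain ⟨V, hV, hAV, hmV, hbV⟩ := exists_dvr_dominating_notMem _ hb
    obtain ⟨h₂, hh₂y, hh₂t⟩ := H V hV hAV hmV
    obtain ⟨χ, hχ, -⟩ := key V h₂ hh₂y φ' (by rw [hφ', hh₂t])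
    apply hbV
    rw [← hχ]
    exact (χ.hom b).2
  obtain ⟨l₀, hl₀, hl₀q, hl₀t⟩ := exists_stalk_lift_of_forall_mem q y₀ t ht hW hxW hVy hVW φ' hφ' hmem
  refine ⟨Spec.map l₀ ≫ hVy.fromSpec, hl₀q, hl₀t, ?_⟩
  -- the closed point
  obtain ⟨χ₁, hχ₁, hχ₁h⟩ := key V₁ h₁ hh₁y φ' (by rw [hφ', hh₁t])
  let ι₁ : X.presheaf.stalk (q y₀) ⟶ CommRingCat.of V₁ :=
    CommRingCat.ofHom ((algebraMap (X.presheaf.stalk (q y₀))
      (FractionRing (X.presheaf.stalk (q y₀)))).codRestrict V₁.toSubring hAV₁)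
  have hι₁ : χ₁ = l₀ ≫ ι₁ := by
    ext b
    have h1 := congr(($hχ₁).hom b)
    have h2 := congr(($hl₀).hom b)
    exact h1.trans h2.symm
  haveI : IsLocalHom ι₁.hom := by
    constructor
    intro c hc
    by_contra hcu
    have hcm : c ∈ maximalIdeal (X.presheaf.stalk (q y₀)) := (mem_maximalIdeal c).mpr hcu
    obtain ⟨hc1, hc2⟩ := (V₁.mem_nonunits_iff_exists_mem_maximalIdeal).mp (hmV₁ c hcm)
    exact ((mem_maximalIdeal _).mp hc2) hc
  have h3 : h₁ = Spec.map ι₁ ≫ Spec.map l₀ ≫ hVy.fromSpec := by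
    rw [← hχ₁h, hι₁, Spec.map_comp, Category.assoc]
  have h4 : Spec.map ι₁ (closedPoint V₁) = closedPoint (X.presheaf.stalk (q y₀)) :=
    IsLocalRing.comap_closedPoint ι₁.hom
  rw [← h4, ← Scheme.Hom.comp_apply, ← h3, hh₁y]

/-- **Extension from a stalk lift, without separatedness.** As `exists_extension_of_stalk_lift`,
with separatedness of `q` replaced by: an affine open `Vy ∋ l(closed point)` of `Y` and an open
neighbourhood `N` of `x` such that `f` maps `U ∩ N` into `Vy`. -/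
theorem exists_extension_of_stalk_lift' {X Y S : Scheme.{u}} (p : X ⟶ S) (q : Y ⟶ S)
    [LocallyOfFiniteType q] (x : X) [X.IsGermInjectiveAt x]
    [IsDomain (X.presheaf.stalk x)]
    (U : X.Opens) (f : U.toScheme ⟶ Y) (hf : f ≫ q = U.ι ≫ p)
    (jU : Spec (CommRingCat.of (FractionRing (X.presheaf.stalk x))) ⟶ U.toScheme)
    (hjU : jU ≫ U.ι = genericHom X x)
    (l : Spec (X.presheaf.stalk x) ⟶ Y) (hl2 : l ≫ q = X.fromSpecStalk x ≫ p)
    (hl1 : Spec.map (CommRingCat.ofHom (algebraMap (X.presheaf.stalk x)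
      (FractionRing (X.presheaf.stalk x)))) ≫ l = jU ≫ f)
    (Vy : Y.Opens) (hVy : IsAffineOpen Vy) (hlVy : l (closedPoint (X.presheaf.stalk x)) ∈ Vy)
    (N : X.Opens) (hxN : x ∈ N) (hN : ∀ z : U.toScheme, U.ι z ∈ N → f z ∈ Vy) :
    ∃ (U' : X.Opens) (hUU' : U ≤ U') (hxU' : x ∈ U') (f' : U'.toScheme ⟶ Y),
      f' ≫ q = U'.ι ≫ p ∧ X.homOfLE hUU' ≫ f' = f ∧ U'.fromSpecStalkOfMem x hxU' ≫ f' = l := by
  classical
  obtain ⟨V₀, hxV₀, hV₀aff, hV₀int, hF0⟩ := exists_integral_nhd x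
  set ξ : X := genericHom X x (closedPoint (FractionRing (X.presheaf.stalk x))) with hξ
  have hξx : ξ ⤳ x := genericHom_specializes x x specializes_rfl
  have hξU : ξ ∈ U := by
    have : ξ = U.ι (jU (closedPoint (FractionRing (X.presheaf.stalk x)))) := by
      rw [hξ, ← hjU]
      rfl
    rw [this]
    exact (jU (closedPoint (FractionRing (X.presheaf.stalk x)))).2
  obtain ⟨V₁, hxV₁, f₁, hlf₁, hf₁⟩ := spread_out_of_isGermInjective' p q l hl2
  -- the part of `V₁` mapping into `Vy`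
  set V₁' : X.Opens := V₁.ι ''ᵁ (f₁ ⁻¹ᵁ Vy) with hV₁'
  have hV₁'le : V₁' ≤ V₁ := by
    rintro _ ⟨z, -, rfl⟩
    exact z.2
  have hV₁'mem : ∀ (z : X) (hz : z ∈ V₁'), f₁ ⟨z, hV₁'le hz⟩ ∈ Vy := by
    rintro _ ⟨z, hz, rfl⟩
    exact hz
  have hxV₁' : x ∈ V₁' := by
    refine ⟨⟨x, hxV₁⟩, ?_, rfl⟩
    change f₁ ⟨x, hxV₁⟩ ∈ Vy
    have h1 : V₁.fromSpecStalkOfMem x hxV₁ (closedPoint (X.presheaf.stalk x)) = ⟨x, hxV₁⟩ := by
      apply V₁.ι.isOpenEmbedding.injective
      change (V₁.fromSpecStalkOfMem x hxV₁ ≫ V₁.ι) _ = _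
      rw [Scheme.Opens.fromSpecStalkOfMem_ι]
      exact Scheme.fromSpecStalk_closedPoint
    rw [← h1]
    change (V₁.fromSpecStalkOfMem x hxV₁ ≫ f₁) _ ∈ Vy
    rw [← hlf₁]
    exact hlVy
  set V₂ : X.Opens := V₁' ⊓ N ⊓ V₀ with hV₂
  have hxV₂ : x ∈ V₂ := ⟨⟨hxV₁', hxN⟩, hxV₀⟩
  have hV₂V₁ : V₂ ≤ V₁ := fun z hz => hV₁'le hz.1.1
  set T : X.Opens := U ⊓ V₂ with hT
  have hTU : T ≤ U := inf_le_left
  have hTV₂ : T ≤ V₂ := inf_le_right
  have hTV₁ : T ≤ V₁ := hTV₂.trans hV₂V₁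
  have hTV₀ : T ≤ V₀ := hTV₂.trans inf_le_right
  have hξT : ξ ∈ T := ⟨hξU, ⟨hξx.mem_open V₁'.2 hxV₁', hξx.mem_open N.2 hxN⟩,
    hξx.mem_open V₀.2 hxV₀⟩
  have hjKT : Set.range (genericHom X x) ⊆ Set.range T.ι := range_genericHom_subset x T hξT
  let jT : Spec (CommRingCat.of (FractionRing (X.presheaf.stalk x))) ⟶ T.toScheme :=
    IsOpenImmersion.lift T.ι (genericHom X x) hjKT
  have hjT : jT ≫ T.ι = genericHom X x := IsOpenImmersion.lift_fac _ _ _
  haveI : IsReduced T.toScheme := isReduced_of_isOpenImmersion (X.homOfLE hTV₀)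
  haveI : IsDominant jT := by
    constructor
    intro t
    have h1 : jT (closedPoint _) ⤳ t := by
      rw [← T.ι.isOpenEmbedding.isInducing.specializes_iff]
      have : T.ι (jT (closedPoint _)) = ξ := by
        change (jT ≫ T.ι) (closedPoint _) = ξ
        rw [hjT]
      rw [this]
      exact hF0 _ (hTV₀ t.2)
    exact closure_mono (Set.singleton_subset_iff.mpr (Set.mem_range_self (closedPoint _)))
      (specializes_iff_mem_closure.mp h1)
  -- both restrictions factor through `Vy`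
  have hr1 : Set.range (X.homOfLE hTU ≫ f) ⊆ Set.range Vy.ι := by
    rintro _ ⟨z, rfl⟩
    rw [Scheme.Opens.range_ι]
    apply hN
    have : U.ι (X.homOfLE hTU z) = T.ι z := by
      rw [← Scheme.Hom.comp_apply, Scheme.homOfLE_ι]
    change U.ι (X.homOfLE hTU z) ∈ N
    rw [this]
    exact z.2.2.1.2
  have hr2 : Set.range (X.homOfLE hTV₁ ≫ f₁) ⊆ Set.range Vy.ι := by
    rintro _ ⟨z, rfl⟩
    rw [Scheme.Opens.range_ι]
    have h1 : X.homOfLE hTV₁ z = ⟨T.ι z, hTV₁ z.2⟩ := by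
      apply V₁.ι.isOpenEmbedding.injective
      rw [← Scheme.Hom.comp_apply, Scheme.homOfLE_ι]
      rfl
    change f₁ (X.homOfLE hTV₁ z) ∈ Vy
    rw [h1]
    exact hV₁'mem _ z.2.2.1.1
  haveI : IsAffine Vy.toScheme := hVy
  have hab' : IsOpenImmersion.lift Vy.ι (X.homOfLE hTU ≫ f) hr1 =
      IsOpenImmersion.lift Vy.ι (X.homOfLE hTV₁ ≫ f₁) hr2 := by
    apply ext_of_isDominant jT
    rw [← cancel_mono Vy.ι, Category.assoc, Category.assoc, IsOpenImmersion.lift_fac,
      IsOpenImmersion.lift_fac]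
    have e1 : jT ≫ X.homOfLE hTU = jU := by
      rw [← cancel_mono U.ι, Category.assoc, Scheme.homOfLE_ι, hjT, hjU]
    have e2 : jT ≫ X.homOfLE hTV₁ =
        Spec.map (CommRingCat.ofHom (algebraMap (X.presheaf.stalk x)
          (FractionRing (X.presheaf.stalk x)))) ≫ V₁.fromSpecStalkOfMem x hxV₁ := by
      rw [← cancel_mono V₁.ι, Category.assoc, Scheme.homOfLE_ι, hjT, Category.assoc,
        Scheme.Opens.fromSpecStalkOfMem_ι]
    rw [← Category.assoc, e1, ← Category.assoc, e2, Category.assoc, ← hlf₁, hl1]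
  have hab : X.homOfLE hTU ≫ f = X.homOfLE hTV₁ ≫ f₁ := by
    rw [← IsOpenImmersion.lift_fac Vy.ι (X.homOfLE hTU ≫ f) hr1, hab', IsOpenImmersion.lift_fac]
  obtain ⟨k, hk1, hk2⟩ := exists_glue_two U V₂ f (X.homOfLE hV₂V₁ ≫ f₁) (by
    rw [← Category.assoc, Scheme.homOfLE_homOfLE]
    exact hab)
  refine ⟨U ⊔ V₂, le_sup_left, Or.inr hxV₂, k, ?_, hk1, ?_⟩
  · apply (coverSup U V₂).hom_ext
    intro b
    match b with
    | true =>
      change X.homOfLE (le_sup_left : U ≤ U ⊔ V₂) ≫ k ≫ q =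
        X.homOfLE (le_sup_left : U ≤ U ⊔ V₂) ≫ (U ⊔ V₂).ι ≫ p
      rw [← Category.assoc, hk1, hf, ← Category.assoc, Scheme.homOfLE_ι]
    | false =>
      change X.homOfLE (le_sup_right : V₂ ≤ U ⊔ V₂) ≫ k ≫ q =
        X.homOfLE (le_sup_right : V₂ ≤ U ⊔ V₂) ≫ (U ⊔ V₂).ι ≫ p
      rw [← Category.assoc, hk2, Category.assoc, hf₁, ← Category.assoc, ← Category.assoc,
        Scheme.homOfLE_ι, Scheme.homOfLE_ι]
  · rw [← fromSpecStalkOfMem_homOfLE (le_sup_right : V₂ ≤ U ⊔ V₂) x hxV₂, Category.assoc, hk2,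
      ← Category.assoc, fromSpecStalkOfMem_homOfLE, ← hlf₁]

/-- On a locally noetherian scheme, if a morphism `h : U ⟶ Y` maps into an open `Vy` every point of
`U` specializing to `x`, then it maps `U ∩ N` into `Vy` for an open neighbourhood `N` of `x`. -/
theorem exists_nhd_maps_into {X Y : Scheme.{u}} [IsLocallyNoetherian X] (U : X.Opens)
    (h : U.toScheme ⟶ Y) (Vy : Y.Opens) (x : X)
    (H : ∀ z : U.toScheme, U.ι z ⤳ x → h z ∈ Vy) :
    ∃ N : X.Opens, x ∈ N ∧ ∀ z : U.toScheme, U.ι z ∈ N → h z ∈ Vy := by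
  classical
  let E : Set X := U.ι '' {z | h z ∉ Vy}
  refine ⟨⟨(closure E)ᶜ, isClosed_closure.isOpen_compl⟩, ?_, ?_⟩
  · intro hx
    change x ∈ closure E at hx
    obtain ⟨_, ⟨W, hW, rfl⟩, hxW, -⟩ := X.isBasis_affineOpens.exists_subset_of_mem_open
      (Set.mem_univ x) isOpen_univ
    haveI : IsNoetherianRing Γ(X, W) := IsLocallyNoetherian.component_noetherian ⟨W, hW⟩
    have hNW : TopologicalSpace.NoetherianSpace W := noetherianSpace_of_isAffineOpen W hW
    have hle : (U ⊓ W : X.Opens) ≤ W := inf_le_right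
    have hind : Topology.IsInducing (Set.inclusion hle) :=
      .of_comp (continuous_inclusion hle) continuous_subtype_val Topology.IsInducing.subtypeVal
    haveI : TopologicalSpace.NoetherianSpace (U ⊓ W).toScheme :=
      @Topology.IsInducing.noetherianSpace _ _ _ _ hNW _ hind
    let h' : (U ⊓ W).toScheme ⟶ Y := X.homOfLE inf_le_left ≫ h
    let C : Set (U ⊓ W).toScheme := {z | h' z ∉ Vy}
    have hC : IsClosed C := (Vy.2.preimage h'.continuous).isClosed_compl
    haveI : QuasiSober C := hC.isClosedEmbedding_subtypeVal.quasiSober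
    let k : C → X := fun a => (U ⊓ W).ι a.1
    have hk : Continuous k := (U ⊓ W).ι.continuous.comp continuous_subtype_val
    have hxk : x ∈ closure (Set.range k) := by
      rw [mem_closure_iff] at hx ⊢
      intro O hO hxO
      obtain ⟨_, ⟨hzO, hzW⟩, ⟨z, hz, rfl⟩⟩ := hx (O ∩ W) (hO.inter W.2) ⟨hxO, hxW⟩
      refine ⟨U.ι z, hzO, ⟨⟨⟨U.ι z, z.2, hzW⟩, ?_⟩, rfl⟩⟩
      change h (X.homOfLE inf_le_left ⟨U.ι z, z.2, hzW⟩) ∉ Vy
      have : X.homOfLE (inf_le_left : U ⊓ W ≤ U) ⟨U.ι z, z.2, hzW⟩ = z := by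
        apply U.ι.isOpenEmbedding.injective
        change (X.homOfLE (inf_le_left : U ⊓ W ≤ U) ≫ U.ι) _ = _
        rw [Scheme.homOfLE_ι]
        rfl
      rw [this]
      exact hz
    obtain ⟨a, ha⟩ := DVRSch.exists_specializes_of_noetherianSpace k hk hxk
    have h1 : U.ι (X.homOfLE (inf_le_left : U ⊓ W ≤ U) a.1) = k a := by
      change (X.homOfLE (inf_le_left : U ⊓ W ≤ U) ≫ U.ι) _ = _
      rw [Scheme.homOfLE_ι]
    exact a.2 (H _ (h1 ▸ ha))
  · intro z hz
    by_contra hzV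
    exact hz (subset_closure ⟨z, hzV, rfl⟩)


/-- The inclusion of a local ring into a dominating valuation subring is a local homomorphism. -/
lemma isLocalHom_codRestrict {A K : Type*} [CommRing A] [IsLocalRing A] [Field K] [Algebra A K]
    (V : ValuationSubring K) (hAV : ∀ a, algebraMap A K a ∈ V)
    (hmV : ∀ a ∈ maximalIdeal A, algebraMap A K a ∈ V.nonunits) :
    IsLocalHom ((algebraMap A K).codRestrict V.toSubring hAV) := by
  constructor
  intro c hc
  by_contra hcu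
  have hcm : c ∈ maximalIdeal A := (mem_maximalIdeal c).mpr hcu
  obtain ⟨hc1, hc2⟩ := (V.mem_nonunits_iff_exists_mem_maximalIdeal).mp (hmV c hcm)
  exact ((mem_maximalIdeal _).mp hc2) hc

/-- If the stalk at `x` is a field, the generic point of `Spec 𝒪_{X,x}` maps to `x`. -/
lemma genericHom_eq_of_isField {X : Scheme.{u}} (x : X) [IsDomain (X.presheaf.stalk x)]
    (hF : IsField (X.presheaf.stalk x)) :
    genericHom X x (closedPoint (FractionRing (X.presheaf.stalk x))) = x := by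
  have h1 : Spec.map (CommRingCat.ofHom (algebraMap (X.presheaf.stalk x)
      (FractionRing (X.presheaf.stalk x)))) (closedPoint (FractionRing (X.presheaf.stalk x))) =
      closedPoint (X.presheaf.stalk x) := by
    apply PrimeSpectrum.ext
    change Ideal.comap _ (maximalIdeal (FractionRing (X.presheaf.stalk x))) =
      maximalIdeal (X.presheaf.stalk x)
    rw [IsLocalRing.isField_iff_maximalIdeal_eq.mp hF, IsLocalRing.maximalIdeal_eq_bot]
    ext a
    rw [Ideal.mem_comap, Ideal.mem_bot, Ideal.mem_bot]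
    constructor
    · intro ha
      exact IsFractionRing.injective (X.presheaf.stalk x) (FractionRing (X.presheaf.stalk x))
        (by rw [map_zero]; exact ha)
    · rintro rfl
      exact map_zero _
  change X.fromSpecStalk x (Spec.map _ _) = x
  rw [h1]
  exact Scheme.fromSpecStalk_closedPoint

end Groth.Agent.Lib.Helper4.RatExt
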