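/-
Helper library (helper4): local rings of an integral scheme with valuation-ring stalks, separated
and satisfying valuative existence over an affine base (e.g. a normal complete curve over a field),
are exactly the valuation rings of the function field with a centre on the base.
-/
import Mathlib
import Groth.Agent.Lib.Helper4CurveRatMap
import Groth.Agent.Lib.Helper4RatExt3
import Groth.Prelude.Def_Coh

set_option autoImplicit false
set_option linter.style.haveILetI false
universe u

open AlgebraicGeometry CategoryTheory

namespace Groth.Agent.Lib.Helper4.RatMapExt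

/-- The local ring at `x`, as a valuation subring of the function field. -/
noncomputable def stalkValuationSubring {X : Scheme.{u}} [IsIntegral X] (x : X)
    [ValuationRing (X.presheaf.stalk x)] : ValuationSubring X.functionField :=
  { (algebraMap (X.presheaf.stalk x) X.functionField).range with
    mem_or_inv_mem' := fun z => by
      rcases ValuationRing.isInteger_or_isInteger (X.presheaf.stalk x) z with ⟨a, ha⟩ | ⟨a, ha⟩
      · exact Or.inl ⟨a, ha⟩
      · exact Or.inr ⟨a, ha⟩ }

lemma coe_stalkValuationSubring {X : Scheme.{u}} [IsIntegral X] (x : X)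
    [ValuationRing (X.presheaf.stalk x)] :
    (stalkValuationSubring x : Set X.functionField) =
      Set.range (algebraMap (X.presheaf.stalk x) X.functionField) := rfl

/-- If the local ring at `x` is all of the function field then `x` is the generic point. -/
theorem eq_genericPoint_of_surjective {X : Scheme.{u}} [IsIntegral X] (x : X)
    (h : Function.Surjective (algebraMap (X.presheaf.stalk x) X.functionField)) :
    x = genericPoint X := by
  have hinj := IsFractionRing.injective (X.presheaf.stalk x) X.functionField
  have hmax : IsLocalRing.maximalIdeal (X.presheaf.stalk x) = ⊥ := by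
    rw [eq_bot_iff]
    intro a ha
    rw [Ideal.mem_bot]
    by_contra ha0
    have h1 : algebraMap (X.presheaf.stalk x) X.functionField a ≠ 0 := by
      intro h0; exact ha0 (hinj (by rw [h0, map_zero]))
    obtain ⟨b, hb⟩ := h (algebraMap (X.presheaf.stalk x) X.functionField a)⁻¹
    have h2 : a * b = 1 := by
      apply hinj
      rw [map_mul, hb, map_one, mul_inv_cancel₀ h1]
    exact (IsLocalRing.mem_maximalIdeal a).mp ha (IsUnit.of_mul_eq_one b h2)
  have hη : genericPoint X ∈ Set.range (X.fromSpecStalk x) := by
    rw [Scheme.range_fromSpecStalk]; exact genericPoint_specializes x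
  obtain ⟨𝔭, h𝔭⟩ := hη
  have h𝔭' : 𝔭 = IsLocalRing.closedPoint (X.presheaf.stalk x) := by
    apply PrimeSpectrum.ext
    change 𝔭.asIdeal = IsLocalRing.maximalIdeal _
    rw [hmax, eq_bot_iff, ← hmax]
    exact IsLocalRing.le_maximalIdeal 𝔭.2.ne_top
  rw [← h𝔭, h𝔭', Scheme.fromSpecStalk_closedPoint]

lemma stalkValuationSubring_ne_top {X : Scheme.{u}} [IsIntegral X] (x : X)
    [ValuationRing (X.presheaf.stalk x)] (hx : x ≠ genericPoint X) :
    stalkValuationSubring x ≠ ⊤ := by
  intro h
  apply hx
  apply eq_genericPoint_of_surjective
  intro z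
  have : z ∈ (stalkValuationSubring x : Set X.functionField) := by rw [h]; trivial
  rw [coe_stalkValuationSubring] at this
  exact this

set_option backward.isDefEq.respectTransparency false in
/-- The canonical `Spec 𝒪_{X,x} ⟶ X` restricted to the generic point. -/
lemma specMap_algebraMap_fromSpecStalk {X : Scheme.{u}} [IsIntegral X] (x : X) :
    Spec.map (CommRingCat.ofHom (algebraMap (X.presheaf.stalk x) X.functionField)) ≫
      X.fromSpecStalk x = X.fromSpecStalk (genericPoint X) :=
  Scheme.SpecMap_stalkSpecializes_fromSpecStalk (genericPoint_specializes x)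

set_option backward.isDefEq.respectTransparency false in
/-- **Existence of a centre.** -/
theorem exists_center {X S : Scheme.{u}} (q : X ⟶ S) (hval : ValuativeCriterion.Existence q)
    [IsIntegral X] (hXval : ∀ x : X, ValuationRing (X.presheaf.stalk x))
    (R : ValuationSubring X.functionField) (i₂ : Spec (CommRingCat.of R) ⟶ S)
    (hi₂ : X.fromSpecStalk (genericPoint X) ≫ q =
      Spec.map (CommRingCat.ofHom (algebraMap R X.functionField)) ≫ i₂) :
    ∃ x : X, (R : Set X.functionField) =
      Set.range (algebraMap (X.presheaf.stalk x) X.functionField) := by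
  let Sq : ValuativeCommSq q :=
    { R := R
      K := X.functionField
      i₁ := X.fromSpecStalk (genericPoint X)
      i₂ := i₂
      commSq := ⟨hi₂⟩ }
  obtain ⟨⟨l, hl1, hl2⟩⟩ := (hval Sq).exists_lift
  change Spec.map (CommRingCat.ofHom (algebraMap R X.functionField)) ≫ l =
    X.fromSpecStalk (genericPoint X) at hl1
  let x : X := l (IsLocalRing.closedPoint R)
  let ψ : X.presheaf.stalk x ⟶ CommRingCat.of R := Scheme.stalkClosedPointTo l
  have hψl : Spec.map ψ ≫ X.fromSpecStalk x = l := Scheme.Spec_stalkClosedPointTo_fromSpecStalk l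
  haveI : IsLocalHom ψ.hom := Scheme.isLocalHom_stalkClosedPointTo' l
  have hcomp : ψ ≫ CommRingCat.ofHom (algebraMap R X.functionField) =
      CommRingCat.ofHom (algebraMap (X.presheaf.stalk x) X.functionField) := by
    apply Spec.map_injective
    rw [← cancel_mono (X.fromSpecStalk x), Spec.map_comp, Category.assoc, hψl, hl1,
      specMap_algebraMap_fromSpecStalk]
  have hcomp' : ∀ a : X.presheaf.stalk x,
      ((ψ.hom a : R) : X.functionField) = algebraMap (X.presheaf.stalk x) X.functionField a :=
    fun a => congr($(hcomp).hom a)
  refine ⟨x, Set.Subset.antisymm ?_ ?_⟩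
  · intro r hr
    haveI := hXval x
    by_cases hr0 : r = 0
    · exact ⟨0, by rw [map_zero, hr0]⟩
    rcases ValuationRing.isInteger_or_isInteger (X.presheaf.stalk x) r with ⟨a, ha⟩ | ⟨a, ha⟩
    · exact ⟨a, ha⟩
    · by_cases hua : IsUnit a
      · obtain ⟨u, rfl⟩ := hua
        refine ⟨↑u⁻¹, ?_⟩
        have h1 : algebraMap (X.presheaf.stalk x) X.functionField ↑u *
            algebraMap (X.presheaf.stalk x) X.functionField ↑u⁻¹ = 1 := by
          rw [← map_mul, Units.mul_inv, map_one]
        rw [ha] at h1
        field_simp at h1
        exact h1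
      · exfalso
        have h1 : ¬ IsUnit (ψ.hom a) := fun h => hua (IsLocalHom.map_nonunit a h)
        apply h1
        refine IsUnit.of_mul_eq_one (⟨r, hr⟩ : R) ?_
        apply Subtype.ext
        change ((ψ.hom a : R) : X.functionField) * r = 1
        rw [hcomp', ha, inv_mul_cancel₀ hr0]
  · rintro _ ⟨a, rfl⟩
    rw [← hcomp']
    exact (ψ.hom a).2

set_option backward.isDefEq.respectTransparency false in
/-- **Uniqueness of the centre.** For a separated integral scheme over a separated base, with
valuation-ring stalks, two points with the same local ring (inside the function field) coincide. -/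
theorem center_unique {X S : Scheme.{u}} (q : X ⟶ S) [IsSeparated q] [S.IsSeparated]
    [IsIntegral X] (x₁ x₂ : X) [ValuationRing (X.presheaf.stalk x₁)]
    (h : Set.range (algebraMap (X.presheaf.stalk x₁) X.functionField) =
      Set.range (algebraMap (X.presheaf.stalk x₂) X.functionField)) : x₁ = x₂ := by
  have hinj₁ := IsFractionRing.injective (X.presheaf.stalk x₁) X.functionField
  have hinj₂ := IsFractionRing.injective (X.presheaf.stalk x₂) X.functionField
  obtain ⟨e, he⟩ := Groth.Agent.Lib.Helper4.RatExt.exists_ringHom_of_forall_mem_range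
    (A := X.presheaf.stalk x₁) (algebraMap (X.presheaf.stalk x₂) X.functionField)
    (fun b => by
      change _ ∈ Set.range (algebraMap (X.presheaf.stalk x₁) X.functionField)
      rw [h]; exact ⟨b, rfl⟩)
  have he' : ∀ b, algebraMap (X.presheaf.stalk x₁) X.functionField (e b) =
      algebraMap (X.presheaf.stalk x₂) X.functionField b := fun b => congr($he b)
  -- `e` is a local homomorphism
  haveI : IsLocalHom e := by
    constructor
    intro b hb
    obtain ⟨c, hc⟩ := hb.exists_right_inv
    obtain ⟨c', hc'⟩ : ∃ c', algebraMap (X.presheaf.stalk x₂) X.functionField c' =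
        algebraMap (X.presheaf.stalk x₁) X.functionField c := by
      have : algebraMap (X.presheaf.stalk x₁) X.functionField c ∈
          Set.range (algebraMap (X.presheaf.stalk x₂) X.functionField) := by
        rw [← h]; exact ⟨c, rfl⟩
      exact this
    refine IsUnit.of_mul_eq_one c' ?_
    apply hinj₂
    rw [map_mul, hc', ← he', ← map_mul, hc, map_one, map_one]
  let Sq : ValuativeCommSq q :=
    { R := X.presheaf.stalk x₁
      K := X.functionField
      i₁ := X.fromSpecStalk (genericPoint X)
      i₂ := X.fromSpecStalk x₁ ≫ q
      commSq := ⟨by rw [← Category.assoc, specMap_algebraMap_fromSpecStalk]⟩ }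
  have hsub := IsSeparated.valuativeCriterion q Sq
  have hdom : IsDominant (Spec.map (CommRingCat.ofHom
      (algebraMap (X.presheaf.stalk x₁) X.functionField))) := by
    constructor
    rw [DenseRange]
    intro p
    have hmem : Spec.map (CommRingCat.ofHom
        (algebraMap (X.presheaf.stalk x₁) X.functionField))
        (IsLocalRing.closedPoint X.functionField) ∈ Set.range (Spec.map (CommRingCat.ofHom
        (algebraMap (X.presheaf.stalk x₁) X.functionField))) := ⟨_, rfl⟩
    apply closure_mono (Set.singleton_subset_iff.mpr hmem)
    rw [← specializes_iff_mem_closure, ← PrimeSpectrum.le_iff_specializes]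
    intro a ha
    change algebraMap (X.presheaf.stalk x₁) X.functionField a ∈
      IsLocalRing.maximalIdeal X.functionField at ha
    rw [IsLocalRing.maximalIdeal_eq_bot, Ideal.mem_bot] at ha
    rw [hinj₁ (by rw [ha, map_zero] : algebraMap (X.presheaf.stalk x₁) X.functionField a =
      algebraMap (X.presheaf.stalk x₁) X.functionField 0)]
    exact zero_mem _
  have hl2 : Spec.map (CommRingCat.ofHom (algebraMap (X.presheaf.stalk x₁) X.functionField)) ≫
      (Spec.map (CommRingCat.ofHom e) ≫ X.fromSpecStalk x₂) = X.fromSpecStalk (genericPoint X) := by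
    rw [← Category.assoc, ← Spec.map_comp, ← CommRingCat.ofHom_comp, he,
      specMap_algebraMap_fromSpecStalk]
  let L₁ : Sq.commSq.LiftStruct :=
    { l := X.fromSpecStalk x₁
      fac_left := specMap_algebraMap_fromSpecStalk x₁
      fac_right := rfl }
  let L₂ : Sq.commSq.LiftStruct :=
    { l := Spec.map (CommRingCat.ofHom e) ≫ X.fromSpecStalk x₂
      fac_left := hl2
      fac_right := by
        haveI := hdom
        apply ext_of_isDominant (Spec.map (CommRingCat.ofHom
          (algebraMap (X.presheaf.stalk x₁) X.functionField)))
        rw [← Category.assoc, hl2, ← Category.assoc, specMap_algebraMap_fromSpecStalk] }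
  have hL : L₁ = L₂ := Subsingleton.elim _ _
  have hl : X.fromSpecStalk x₁ = Spec.map (CommRingCat.ofHom e) ≫ X.fromSpecStalk x₂ :=
    congrArg CommSq.LiftStruct.l hL
  have h1 : X.fromSpecStalk x₁ (IsLocalRing.closedPoint (X.presheaf.stalk x₁)) = x₁ :=
    Scheme.fromSpecStalk_closedPoint
  rw [← h1, hl, Scheme.Hom.comp_apply]
  have h2 : Spec.map (CommRingCat.ofHom e) (IsLocalRing.closedPoint (X.presheaf.stalk x₁)) =
      IsLocalRing.closedPoint (X.presheaf.stalk x₂) := IsLocalRing.comap_closedPoint e
  exact (congrArg (X.fromSpecStalk x₂) h2).trans Scheme.fromSpecStalk_closedPoint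

set_option backward.isDefEq.respectTransparency false in
/-- The composite `Spec 𝒪_{X,x} ⟶ X ⟶ Spec A` in terms of germs. -/
lemma fromSpecStalk_comp_toSpec {A : Type u} [CommRing A] {X : Scheme.{u}}
    (f : X ⟶ Spec (CommRingCat.of A)) (x : X) :
    X.fromSpecStalk x ≫ f = Spec.map (CommRingCat.ofHom
      ((X.presheaf.germ ⊤ x trivial).hom.comp (Coh.toGlobal f))) := by
  apply ext_of_isAffine
  rw [← cancel_epi (Scheme.ΓSpecIso (CommRingCat.of A)).inv]
  ext c
  simp only [Scheme.Hom.comp_appTop, Scheme.fromSpecStalk_appTop, CommRingCat.comp_apply]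
  have nat := congr($(Scheme.ΓSpecIso_inv_naturality
    (CommRingCat.ofHom ((X.presheaf.germ ⊤ x trivial).hom.comp (Coh.toGlobal f)))) c)
  simp only [CommRingCat.comp_apply] at nat
  simp only [homOfLE_refl, op_id, CategoryTheory.Functor.map_id, CommRingCat.id_apply]
  erw [← nat]
  rfl

end Groth.Agent.Lib.Helper4.RatMapExt
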