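import Mathlib
import Groth.Agent.Lib.Helper4CycLen

/-!
# The cycle of a closed subscheme is the cycle of its structure sheaf (helper4)

* `smul_germ_pushOne_eq_zero_iff`: the annihilator of the germ of `1` in `(i_* O_Z)_{i z}` is the kernel of the stalk map;
* `length_stalk_push_structure_eq`: `length_{O_{X,i z}} (i_* O_Z)_{i z} = length O_{Z,z}`;
* `subschemeFun_eq_sheafFun`.
-/

set_option autoImplicit false
set_option linter.style.haveILetI false
set_option linter.unusedSectionVars false
universe u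
open CategoryTheory Limits AlgebraicGeometry TopologicalSpace Opposite

namespace Groth.Agent.Lib.Helper4.CycLen
open Groth.Agent.Lib.Helper4.Dev Groth.Agent.Lib.Helper23.QCohLocal Groth.Agent.Lib.Helper2
  Groth.Agent.Lib.Helper23.FinType Groth.Agent.Lib.Helper2.Push

variable {Z X : Scheme.{u}} (i : Z ⟶ X) [IsClosedImmersion i]

theorem smul_germ_pushOne_eq_zero_iff (z : Z) (a : X.presheaf.stalk (i z)) :
    a • ((Scheme.Modules.pushforward i).obj (Coh.structureModule Z)).presheaf.germ ⊤ (i z) trivial (pushOne i) = 0 ↔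
      (i.stalkMap z).hom a = 0 := by
  obtain ⟨V, hV, s, rfl⟩ := X.presheaf.exists_germ_eq a
  let O := (Scheme.Modules.pushforward i).obj (Coh.structureModule Z)
  let oneV : Γ(O, V) := O.presheaf.map (homOfLE (le_top : V ≤ ⊤)).op (pushOne i)
  have h1 : (oneV : Γ(O, V)) = (show Γ(O, V) from (1 : Γ(Z, i ⁻¹ᵁ V))) := by
    change Z.presheaf.map ((Opens.map i.base).map (homOfLE (le_top : V ≤ ⊤))).op (1 : Γ(Z, i ⁻¹ᵁ ⊤)) = 1
    rw [map_one]
  let t : Γ(Z, i ⁻¹ᵁ V) := i.app V s
  let t' : Γ(O, V) := t
  have h2 : s • oneV = t' := by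
    rw [pushforward_smul, h1]
    change (i.app V s) * (1 : Γ(Z, i ⁻¹ᵁ V)) = _
    rw [mul_one]
  have h4 : O.presheaf.germ ⊤ (i z) trivial (pushOne i) = O.presheaf.germ V (i z) hV oneV :=
    (O.presheaf.germ_res_apply (homOfLE (le_top : V ≤ ⊤)) (i z) hV (pushOne i)).symm
  have hL : X.presheaf.germ V (i z) hV s • O.presheaf.germ ⊤ (i z) trivial (pushOne i) =
      O.presheaf.germ V (i z) hV t' := by
    rw [h4, ← QCoh.germ_smul, h2]
  have hz : z ∈ i ⁻¹ᵁ V := hV
  have hR : (i.stalkMap z).hom (X.presheaf.germ V (i z) hV s) = Z.presheaf.germ (i ⁻¹ᵁ V) z hz t :=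
    Scheme.Hom.germ_stalkMap_apply i V z hV s
  rw [hL, hR]
  constructor
  · intro h0
    have h5 : O.presheaf.germ V (i z) hV t' = O.presheaf.germ V (i z) hV 0 := by rw [h0, map_zero]
    obtain ⟨W, hzW, iV, _, e⟩ := O.presheaf.germ_eq (i z) hV hV _ _ h5
    rw [map_zero] at e
    have e' : Z.presheaf.map ((Opens.map i.base).map iV).op t = 0 := e
    have hz' : z ∈ i ⁻¹ᵁ W := hzW
    rw [← Z.presheaf.germ_res_apply ((Opens.map i.base).map iV) z hz' t, e', map_zero]
  · intro h0
    have h5 : Z.presheaf.germ (i ⁻¹ᵁ V) z hz t = Z.presheaf.germ (i ⁻¹ᵁ V) z hz 0 := by rw [h0, map_zero]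
    obtain ⟨W', hzW', iV, _, e⟩ := Z.presheaf.germ_eq z hz hz _ _ h5
    rw [map_zero] at e
    obtain ⟨W₀, rfl⟩ := exists_preimage_eq i W'
    have hW : i z ∈ W₀ ⊓ V := ⟨hzW', hV⟩
    have hle : W₀ ⊓ V ≤ V := inf_le_right
    have e2 : O.presheaf.map (homOfLE hle).op t' = 0 := by
      change Z.presheaf.map ((Opens.map i.base).map (homOfLE hle)).op t = 0
      have hfac : ((Opens.map i.base).map (homOfLE hle)).op =
          iV.op ≫ (homOfLE (show i ⁻¹ᵁ (W₀ ⊓ V) ≤ i ⁻¹ᵁ W₀ from
            i.preimage_mono inf_le_left)).op := rfl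
      rw [hfac, Functor.map_comp]
      change Z.presheaf.map _ (Z.presheaf.map iV.op t) = 0
      rw [e, map_zero]
    rw [← O.presheaf.germ_res_apply (homOfLE hle) (i z) hW t', e2, map_zero]

theorem length_stalk_push_structure_eq (z : Z) :
    Module.length (X.presheaf.stalk (i z))
      (((Scheme.Modules.pushforward i).obj (Coh.structureModule Z)).presheaf.stalk (i z)) =
    Module.length (Z.presheaf.stalk z) (Z.presheaf.stalk z) := by
  let φ : X.presheaf.stalk (i z) →+* Z.presheaf.stalk z := (i.stalkMap z).hom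
  have hφ : Function.Surjective φ := i.stalkMap_surjective z
  letI : Algebra (X.presheaf.stalk (i z)) (Z.presheaf.stalk z) := φ.toAlgebra
  rw [← Module.length_eq_of_surjective (S := X.presheaf.stalk (i z)) (R := Z.presheaf.stalk z)
    (M := Z.presheaf.stalk z) hφ]
  let O := (Scheme.Modules.pushforward i).obj (Coh.structureModule Z)
  let ψ : X.presheaf.stalk (i z) →ₗ[X.presheaf.stalk (i z)] O.presheaf.stalk (i z) :=
    LinearMap.toSpanSingleton _ _ (O.presheaf.germ ⊤ (i z) trivial (pushOne i))
  have hψ : Function.Surjective ψ := by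
    intro w
    obtain ⟨r, hr⟩ := exists_smul_germ_pushOne i z w
    exact ⟨r, hr.symm⟩
  let φl : X.presheaf.stalk (i z) →ₗ[X.presheaf.stalk (i z)] Z.presheaf.stalk z :=
    Algebra.linearMap _ _
  have hφl : Function.Surjective φl := hφ
  have hker : LinearMap.ker ψ = LinearMap.ker φl := by
    ext a
    rw [LinearMap.mem_ker, LinearMap.mem_ker]
    exact smul_germ_pushOne_eq_zero_iff i z a
  rw [← (ψ.quotKerEquivOfSurjective hψ).length_eq, ← (φl.quotKerEquivOfSurjective hφl).length_eq, hker]

theorem subschemeFun_eq_sheafFun (δ : X → ℤ) (k : ℤ) :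
    Cyc.subschemeFun δ k i = Cyc.sheafFun δ k ((Coh.push i).obj (Coh.structureModule Z)) := by
  funext x
  simp only [Cyc.subschemeFun, Cyc.sheafFun]
  split_ifs with hx
  · by_cases hr : x ∈ Set.range ⇑i
    · obtain ⟨z₀, rfl⟩ := hr
      have hset : {z : Z | i z = i z₀} = {z₀} := by
        ext z
        simp only [Set.mem_ofPred_eq, Set.mem_singleton_iff]
        exact ⟨fun h => i.isClosedEmbedding.injective h, fun h => by rw [h]⟩
      rw [hset, finsum_mem_singleton]
      congr 2
      exact (length_stalk_push_structure_eq i z₀).symm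
    · have hset : {z : Z | i z = x} = ∅ := by
        ext z
        simp only [Set.mem_ofPred_eq, Set.mem_empty_iff_false, iff_false]
        exact fun h => hr ⟨z, h⟩
      rw [hset, finsum_mem_empty]
      have hns : x ∉ CohB1.support ((Scheme.Modules.pushforward i).obj (Coh.structureModule Z)) :=
        fun h => hr (support_push_subset i _ h)
      haveI : Subsingleton
          (((Scheme.Modules.pushforward i).obj (Coh.structureModule Z)).presheaf.stalk x) :=
        not_not.1 hns
      have h0 : Module.length (X.presheaf.stalk x)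
          (((Scheme.Modules.pushforward i).obj (Coh.structureModule Z)).presheaf.stalk x) = 0 :=
        Module.length_eq_zero_iff.2 inferInstance
      change (0 : ℤ) = ((Module.length (X.presheaf.stalk x)
        (((Scheme.Modules.pushforward i).obj (Coh.structureModule Z)).presheaf.stalk x)).toNat : ℤ)
      rw [h0]
      rfl
  · rfl

end Groth.Agent.Lib.Helper4.CycLen
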