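import Mathlib
import Groth.Agent.Lib.Helper4DVREx

/-!
# Refined valuative criterion (DVRs through a dense family of points), auxiliary lemmas
-/

open CategoryTheory CategoryTheory.Limits AlgebraicGeometry IsLocalRing TopologicalSpace

universe u

namespace Groth.Agent.Lib.Helper4.DVRRef

open Groth.Agent.Lib.Helper4 Groth.Agent.Lib.Helper4.DVREx



/-- If no valuation ring of `L` contains the images of `ρ` and `ψ` while making `ρ(m)` nonunits,
then `1` is a finite sum of products `ρ μ * ψ γ` with `μ ∈ m`. -/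
lemma one_mem_span_of_forall_valuationSubring {L A C : Type*} [Field L] [CommRing A] [CommRing C]
    (ρ : A →+* L) (ψ : C →+* L) (m : Ideal A)
    (H : ∀ V₁ : ValuationSubring L, (∀ a, ρ a ∈ V₁) → (∀ c, ψ c ∈ V₁) →
      ¬ ∀ μ ∈ m, ρ μ ∈ V₁.nonunits) :
    (1 : L) ∈ Submodule.span ℤ {z | ∃ μ ∈ m, ∃ γ : C, z = ρ μ * ψ γ} := by
  set G : Set L := {z | ∃ μ ∈ m, ∃ γ : C, z = ρ μ * ψ γ} with hG
  set P := Submodule.span ℤ G with hP
  let S' : Subring L := Subring.closure (Set.range ρ ∪ Set.range ψ)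
  have hρS : ∀ a, ρ a ∈ S' := fun a => Subring.subset_closure (Or.inl ⟨a, rfl⟩)
  have hψS : ∀ c, ψ c ∈ S' := fun c => Subring.subset_closure (Or.inr ⟨c, rfl⟩)
  -- `P` is stable under multiplication by `S'`
  have hgen : ∀ s ∈ Set.range ρ ∪ Set.range ψ, ∀ z ∈ P, s * z ∈ P := by
    intro s hs z hz
    induction hz using Submodule.span_induction with
    | mem x hx =>
      obtain ⟨μ, hμ, γ, rfl⟩ := hx
      rcases hs with ⟨a, rfl⟩ | ⟨c, rfl⟩
      · exact Submodule.subset_span ⟨a * μ, m.mul_mem_left a hμ, γ, by rw [map_mul]; ring⟩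
      · exact Submodule.subset_span ⟨μ, hμ, c * γ, by rw [map_mul]; ring⟩
    | zero => rw [mul_zero]; exact P.zero_mem
    | add x y _ _ hx hy => rw [mul_add]; exact P.add_mem hx hy
    | smul n x _ hx => rw [mul_smul_comm]; exact P.smul_mem n hx
  have hstab : ∀ s ∈ S', ∀ z ∈ P, s * z ∈ P := by
    intro s hs
    induction hs using Subring.closure_induction with
    | mem x hx => exact hgen x hx
    | zero => intro z _; rw [zero_mul]; exact P.zero_mem
    | one => intro z hz; rwa [one_mul]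
    | add x y _ _ hx hy => intro z hz; rw [add_mul]; exact P.add_mem (hx z hz) (hy z hz)
    | neg x _ hx => intro z hz; rw [neg_mul]; exact P.neg_mem (hx z hz)
    | mul x y _ _ hx hy => intro z hz; rw [mul_assoc]; exact hx _ (hy z hz)
  let I : Ideal S' := Ideal.span {x | ∃ μ ∈ m, (x : L) = ρ μ}
  by_cases hI : I = ⊤
  · have h1 : (1 : S') ∈ I := hI ▸ Submodule.mem_top
    have key : ∀ x ∈ I, (x : L) ∈ P := by
      intro x hx
      induction hx using Submodule.span_induction with
      | mem x hx =>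
        obtain ⟨μ, hμ, hxμ⟩ := hx
        exact Submodule.subset_span ⟨μ, hμ, 1, by rw [hxμ, map_one, mul_one]⟩
      | zero => exact P.zero_mem
      | add x y _ _ hx hy => exact P.add_mem hx hy
      | smul s x _ hx => exact hstab s.1 s.2 _ hx
    exact key 1 h1
  · exfalso
    obtain ⟨B, hB1, hB2⟩ := Ideal.image_subset_nonunits_valuationSubring I hI
    refine H B (fun a => hB1 (hρS a)) (fun c => hB1 (hψS c)) fun μ hμ => ?_
    exact hB2 ⟨⟨ρ μ, hρS μ⟩, Ideal.subset_span ⟨μ, hμ, rfl⟩, rfl⟩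




set_option backward.isDefEq.respectTransparency false in
/-- Separatedness: a valuation ring of `L ⊇ κ(d)` cannot both dominate `O_{X,ξ'}` (via
`d ⤳ ξ'`) and contain the coordinate ring of an affine open `U ∌ ξ'`. -/
lemma sep_no_valuationSubring {X Y : Scheme.{u}} (f : X ⟶ Y) [IsSeparated f] {W : Y.Opens}
    (hW : IsAffineOpen W) {U : X.Opens} (hU : IsAffineOpen U) (hUW : U ≤ f ⁻¹ᵁ W) {d ξ' : X}
    (hd : d ⤳ ξ') (hdU : d ∈ U) (hξ'U : ξ' ∉ U) (hξ'W : f ξ' ∈ W)
    {L : Type u} [Field L] (φ : X.residueField d ⟶ CommRingCat.of L)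
    (V₁ : ValuationSubring L)
    (h1 : ∀ a, (X.presheaf.stalkSpecializes hd ≫ X.residue d ≫ φ).hom a ∈ V₁)
    (h2 : ∀ c, (X.evaluation U d hdU ≫ φ).hom c ∈ V₁) :
    ¬ ∀ μ ∈ maximalIdeal (X.presheaf.stalk ξ'),
      (X.presheaf.stalkSpecializes hd ≫ X.residue d ≫ φ).hom μ ∈ V₁.nonunits := by
  intro h3
  set ρ : X.presheaf.stalk ξ' ⟶ CommRingCat.of L :=
    X.presheaf.stalkSpecializes hd ≫ X.residue d ≫ φ with hρ
  let ρV : X.presheaf.stalk ξ' ⟶ CommRingCat.of V₁ :=
    CommRingCat.ofHom (ρ.hom.codRestrict V₁.toSubring h1)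
  have hρV : ρV ≫ CommRingCat.ofHom V₁.subtype = ρ := rfl
  have hloc : IsLocalHom ρV.hom := by
    constructor
    intro a ha
    by_contra hna
    have h4 := h3 a ((mem_maximalIdeal a).mpr hna)
    rw [V₁.mem_nonunits_iff_exists_mem_maximalIdeal] at h4
    obtain ⟨h5, h6⟩ := h4
    exact (mem_maximalIdeal _).mp h6 ha
  let ψV : Γ(X, U) ⟶ CommRingCat.of V₁ :=
    CommRingCat.ofHom ((X.evaluation U d hdU ≫ φ).hom.codRestrict V₁.toSubring h2)
  have hψV : ψV ≫ CommRingCat.ofHom V₁.subtype = X.evaluation U d hdU ≫ φ := rfl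
  let ga : Spec (CommRingCat.of V₁) ⟶ X := Spec.map ρV ≫ X.fromSpecStalk ξ'
  let gb : Spec (CommRingCat.of V₁) ⟶ X := Spec.map ψV ≫ hU.fromSpec
  let i₁ : Spec (CommRingCat.of L) ⟶ X := Spec.map φ ≫ X.fromSpecResidueField d
  have ha : Spec.map (CommRingCat.ofHom V₁.subtype) ≫ ga = i₁ := by
    simp only [ga, i₁]
    rw [← Spec.map_comp_assoc, hρV, hρ]
    simp only [Spec.map_comp, Category.assoc, Scheme.fromSpecResidueField,
      Scheme.SpecMap_stalkSpecializes_fromSpecStalk]
  have hb : Spec.map (CommRingCat.ofHom V₁.subtype) ≫ gb = i₁ := by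
    simp only [gb, i₁]
    rw [← Spec.map_comp_assoc, hψV, Spec.map_comp, Category.assoc,
      ← fromSpecResidueField_eq hU d hdU]
  have hga_closed : ga (closedPoint (CommRingCat.of V₁)) = ξ' := by
    simp only [ga]
    rw [Scheme.Hom.comp_apply]
    have : Spec.map ρV (closedPoint (CommRingCat.of V₁)) = closedPoint (X.presheaf.stalk ξ') :=
      comap_closedPoint ρV.hom
    rw [this, Scheme.fromSpecStalk_closedPoint]
  -- both composites to `Y` agree
  have hf : ga ≫ f = gb ≫ f := by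
    obtain ⟨βa, hβa⟩ := exists_factor_fromSpec (ga ≫ f) hW (by
      rw [Scheme.Hom.comp_apply, hga_closed]; exact hξ'W)
    have hgbf : gb ≫ f = Spec.map (f.appLE W U hUW ≫ ψV) ≫ hW.fromSpec := by
      simp only [gb]
      rw [Category.assoc, ← IsAffineOpen.SpecMap_appLE_fromSpec f hW hU hUW, Spec.map_comp,
        Category.assoc]
    rw [hβa, hgbf]
    congr 2
    have h5 : βa ≫ CommRingCat.ofHom V₁.subtype =
        (f.appLE W U hUW ≫ ψV) ≫ CommRingCat.ofHom V₁.subtype := by
      apply fromSpec_cancel hW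
      calc Spec.map (βa ≫ CommRingCat.ofHom V₁.subtype) ≫ hW.fromSpec
          = Spec.map (CommRingCat.ofHom V₁.subtype) ≫ ga ≫ f := by
            rw [Spec.map_comp, Category.assoc, ← hβa]
        _ = i₁ ≫ f := by rw [← Category.assoc, ha]
        _ = Spec.map (CommRingCat.ofHom V₁.subtype) ≫ gb ≫ f := by rw [← Category.assoc, hb]
        _ = Spec.map ((f.appLE W U hUW ≫ ψV) ≫ CommRingCat.ofHom V₁.subtype) ≫ hW.fromSpec := by
            rw [hgbf]; simp only [Spec.map_comp, Category.assoc]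
    ext x
    have h6 := congrArg (fun k => k.hom x) h5
    exact h6
  -- uniqueness part of the valuative criterion
  have hU' := IsSeparated.valuativeCriterion f
  let S : ValuativeCommSq f :=
    { R := V₁
      K := L
      i₁ := i₁
      i₂ := ga ≫ f
      commSq := ⟨by rw [← ha, Category.assoc]; rfl⟩ }
  have := hU' S
  let k₁ : S.commSq.LiftStruct := ⟨ga, ha, rfl⟩
  let k₂ : S.commSq.LiftStruct := ⟨gb, hb, hf.symm⟩
  have hgab : ga = gb := congrArg CommSq.LiftStruct.l (Subsingleton.elim k₁ k₂)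
  apply hξ'U
  rw [← hga_closed, hgab]
  have h7 : gb (closedPoint (CommRingCat.of V₁)) ∈ Set.range hU.fromSpec := by
    simp only [gb]
    rw [Scheme.Hom.comp_apply]
    exact ⟨_, rfl⟩
  rw [hU.range_fromSpec] at h7
  exact h7



lemma inv_mem_of_mem_of_notMem_nonunits {k : Type*} [Field k] (R' : ValuationSubring k) {x : k}
    (hx : x ∈ R') (hx' : x ∉ R'.nonunits) : x ≠ 0 ∧ x⁻¹ ∈ R' := by
  rw [ValuationSubring.mem_nonunits_iff, not_lt] at hx'
  have h1 : R'.valuation x ≤ 1 := (R'.valuation_le_one_iff x).mpr hx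
  have h2 : R'.valuation x = 1 := le_antisymm h1 hx'
  refine ⟨fun h0 => ?_, ?_⟩
  · rw [h0, map_zero] at h2; exact zero_ne_one h2
  · rw [← R'.valuation_le_one_iff, map_inv₀, h2, inv_one]

/-- The preimage of a valuation ring of the residue field in a local ring is a local ring. -/
lemma isLocalRing_comap {A : Type*} [CommRing A] {k : Type*} [Field k] (res : A →+* k)
    (hres : ∀ a, res a ≠ 0 → IsUnit a) (R' : ValuationSubring k) :
    IsLocalRing (R'.toSubring.comap res) := by
  have key : ∀ a : R'.toSubring.comap res, res a.1 ∉ R'.nonunits → IsUnit a := by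
    intro a ha
    obtain ⟨h0, hinv⟩ := inv_mem_of_mem_of_notMem_nonunits R' a.2 ha
    obtain ⟨b, hb⟩ := (hres a.1 h0).exists_right_inv
    have hb' : res b = (res a.1)⁻¹ := by
      have := congrArg res hb
      rw [map_mul, map_one] at this
      exact eq_inv_of_mul_eq_one_right this
    exact IsUnit.of_mul_eq_one ⟨b, by change res b ∈ R'; rw [hb']; exact hinv⟩ (Subtype.ext hb)
  have hnt : Nontrivial (R'.toSubring.comap res) := by
    refine ⟨⟨0, 1, fun h => ?_⟩⟩
    have h1 : (0 : A) = 1 := congrArg Subtype.val h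
    have h2 : res 0 = res 1 := congrArg res h1
    rw [map_zero, map_one] at h2
    exact zero_ne_one h2
  refine IsLocalRing.of_isUnit_or_isUnit_one_sub_self fun a => ?_
  by_cases ha : res a.1 ∈ R'.nonunits
  · right
    apply key
    change res (1 - a.1) ∉ R'.nonunits
    rw [map_sub, map_one, ValuationSubring.mem_nonunits_iff,
      Valuation.map_one_sub_of_lt _ ((ValuationSubring.mem_nonunits_iff R').mp ha)]
    exact lt_irrefl _
  · left; exact key a ha


end Groth.Agent.Lib.Helper4.DVRRef
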