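import Mathlib
import Groth.Agent.Lib.Helper4DVRRef

open CategoryTheory CategoryTheory.Limits AlgebraicGeometry IsLocalRing TopologicalSpace

universe u

namespace Groth.Agent.Lib.Helper4.DVRRef

open Groth.Agent.Lib.Helper4 Groth.Agent.Lib.Helper4.DVREx

set_option maxHeartbeats 2000000 in
set_option backward.isDefEq.respectTransparency false in
open Classical in
/-- **Refined valuative criterion (existence).** Over a locally noetherian base, for a separated
quasi-compact morphism locally of finite type, it suffices to lift discrete valuation rings whose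
generic point maps to a member of a family of points `d` (with chosen essentially finite type
residue field extensions) through which every point of `X` is a specialization. -/
theorem existence_of_dvr_refined {X Y : Scheme.{u}} [IsLocallyNoetherian Y] (f : X ⟶ Y)
    [LocallyOfFiniteType f] [QuasiCompact f] [IsSeparated f]
    (H : ∀ x : X, ∃ d : X, d ⤳ x ∧ ∃ (L : Type u) (_ : Field L)
      (φ : X.residueField d ⟶ CommRingCat.of L), φ.hom.EssFiniteType ∧
      ∀ V : ValuationSubring L, IsDiscreteValuationRing V →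
        ∀ y : Spec (CommRingCat.of V) ⟶ Y,
          Spec.map (CommRingCat.ofHom V.subtype) ≫ y =
            Spec.map φ ≫ X.fromSpecResidueField d ≫ f →
          ∃ l : Spec (CommRingCat.of V) ⟶ X, l ≫ f = y ∧
            Spec.map (CommRingCat.ofHom V.subtype) ≫ l = Spec.map φ ≫ X.fromSpecResidueField d) :
    ValuativeCriterion.Existence f := by
  rintro ⟨R, K, i₁, i₂, ⟨w⟩⟩
  set ξ : X := i₁ (closedPoint (CommRingCat.of K)) with hξdef
  let ι : X.residueField ξ ⟶ CommRingCat.of K :=
    Scheme.descResidueField (Scheme.stalkClosedPointTo i₁)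
  have hi₁ : Spec.map ι ≫ X.fromSpecResidueField ξ = i₁ :=
    Scheme.descResidueField_stalkClosedPointTo_fromSpecResidueField K X i₁
  obtain ⟨W, hW, hyW, -⟩ := exists_isAffineOpen_mem_and_subset (U := ⊤)
    (x := i₂ (closedPoint (CommRingCat.of R))) (by simp)
  obtain ⟨β, hβ⟩ := exists_factor_fromSpec i₂ hW hyW
  have hc : IsCompact ((f ⁻¹ᵁ W : X.Opens) : Set X) := f.isCompact_preimage hW.isCompact
  obtain ⟨𝒰, h𝒰fin, h𝒰⟩ := (isCompact_iff_finite_and_eq_biUnion_affineOpens).mp hc
  have hle : ∀ U ∈ 𝒰, (U : X.Opens) ≤ f ⁻¹ᵁ W := fun U hU => by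
    rw [h𝒰]; exact le_iSup₂ (f := fun (i : X.affineOpens) (_ : i ∈ 𝒰) => (i : X.Opens)) U hU
  have hξW : ξ ∈ f ⁻¹ᵁ W := by
    have h1 : f ξ = hW.fromSpec ((Spec.map (CommRingCat.ofHom (algebraMap R K)) ≫ Spec.map β)
        (closedPoint (CommRingCat.of K))) := by
      rw [hξdef, ← Scheme.Hom.comp_apply, w, hβ, ← Category.assoc, Scheme.Hom.comp_apply]
    have h2 : f ξ ∈ Set.range hW.fromSpec := ⟨_, h1.symm⟩
    rw [hW.range_fromSpec] at h2
    exact h2
  -- valuation subrings
  let RK : ValuationSubring K :=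
    ⟨(algebraMap R K).range, ValuationRing.isInteger_or_isInteger R⟩
  let R' : ValuationSubring (X.residueField ξ) := RK.comap ι.hom
  -- key identity
  have KI : ∀ (U : X.affineOpens) (hU : U ∈ 𝒰) (hξU : ξ ∈ U.1),
      f.appLE W U (hle U hU) ≫ X.evaluation U ξ hξU ≫ ι =
        β ≫ CommRingCat.ofHom (algebraMap R K) := by
    intro U hU hξU
    apply fromSpec_cancel hW
    have e1 : Spec.map (X.evaluation U ξ hξU) ≫ U.2.fromSpec = X.fromSpecResidueField ξ :=
      (fromSpecResidueField_eq U.2 ξ hξU).symm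
    calc Spec.map (f.appLE W U (hle U hU) ≫ X.evaluation U ξ hξU ≫ ι) ≫ hW.fromSpec
        = Spec.map ι ≫ Spec.map (X.evaluation U ξ hξU) ≫
            (Spec.map (f.appLE W U (hle U hU)) ≫ hW.fromSpec) := by
          simp only [Spec.map_comp, Category.assoc]
      _ = Spec.map ι ≫ (Spec.map (X.evaluation U ξ hξU) ≫ U.2.fromSpec) ≫ f := by
          rw [IsAffineOpen.SpecMap_appLE_fromSpec f hW U.2 (hle U hU), Category.assoc]
      _ = i₁ ≫ f := by rw [e1, ← Category.assoc, hi₁]
      _ = Spec.map (β ≫ CommRingCat.ofHom (algebraMap R K)) ≫ hW.fromSpec := by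
          rw [w, hβ, Spec.map_comp, Category.assoc]
  have hinj : Function.Injective (algebraMap R K) := IsFractionRing.injective R K
  by_cases hcen : ∃ U ∈ 𝒰, ∃ hξU : ξ ∈ (U : X.affineOpens).1,
      ∀ c, (X.evaluation U ξ hξU).hom c ∈ R'
  · -- a centre exists
    obtain ⟨U, hU, hξU, hUR⟩ := hcen
    have hmem : ∀ c, (X.evaluation U ξ hξU ≫ ι).hom c ∈ (algebraMap R K).range := fun c => hUR c
    let e : R ≃+* (algebraMap R K).range :=
      RingEquiv.ofBijective (algebraMap R K).rangeRestrict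
        ⟨fun a b h => hinj (congrArg Subtype.val h), (algebraMap R K).rangeRestrict_surjective⟩
    let lamR : Γ(X, U) →+* R :=
      (e.symm : _ →+* R).comp ((X.evaluation U ξ hξU ≫ ι).hom.codRestrict _ hmem)
    have hlam : ∀ c, algebraMap R K (lamR c) = (X.evaluation U ξ hξU ≫ ι).hom c := by
      intro c
      have := e.apply_symm_apply ((X.evaluation U ξ hξU ≫ ι).hom.codRestrict _ hmem c)
      exact congrArg Subtype.val this
    have hlam' : CommRingCat.ofHom lamR ≫ CommRingCat.ofHom (algebraMap R K) =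
        X.evaluation U ξ hξU ≫ ι := by
      ext c; exact hlam c
    refine ⟨⟨⟨Spec.map (CommRingCat.ofHom lamR) ≫ U.2.fromSpec, ?_, ?_⟩⟩⟩
    · dsimp only
      rw [← Category.assoc, ← Spec.map_comp, hlam', Spec.map_comp, Category.assoc,
        ← fromSpecResidueField_eq U.2 ξ hξU, hi₁]
    · dsimp only
      rw [Category.assoc, ← IsAffineOpen.SpecMap_appLE_fromSpec f hW U.2 (hle U hU),
        ← Category.assoc, ← Spec.map_comp]
      conv_rhs => rw [hβ]
      congr 2
      ext b
      apply hinj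
      have h3 := congrArg (fun φ => φ.hom b) (KI U hU hξU)
      simp only [CommRingCat.hom_comp, RingHom.coe_comp, Function.comp_apply,
        CommRingCat.hom_ofHom] at h3
      rw [← h3]
      exact hlam _
  · exfalso
    push Not at hcen
    choose c hc using hcen
    obtain ⟨U₀, hU₀, hξU₀⟩ : ∃ U₀ ∈ 𝒰, ξ ∈ (U₀ : X.affineOpens).1 := by
      rw [h𝒰] at hξW
      simpa [Opens.mem_iSup] using hξW
    obtain ⟨d, hd, L, _, φ, hφ, HV⟩ := H ξ
    set ρ : X.presheaf.stalk ξ ⟶ CommRingCat.of L :=
      X.presheaf.stalkSpecializes hd ≫ X.residue d ≫ φ with hρ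
    have hres : ∀ a, (X.residue ξ).hom a ≠ 0 → IsUnit a := by
      intro a ha
      by_contra hna
      exact ha ((IsLocalRing.residue_eq_zero_iff a).mpr ((mem_maximalIdeal a).mpr hna))
    let A'' : Subring (X.presheaf.stalk ξ) := R'.toSubring.comap (X.residue ξ).hom
    have hA''loc : IsLocalRing A'' := isLocalRing_comap _ hres R'
    let ρ'' : A'' →+* L := ρ.hom.comp A''.subtype
    obtain ⟨V₀, hV₀mem, hV₀loc⟩ := IsLocalRing.exists_factor_valuationRing ρ''
    have K1 : ∀ a, (X.residue ξ).hom a ∈ R' → ρ.hom a ∈ V₀ := fun a ha => hV₀mem ⟨a, ha⟩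
    have K2 : ∀ a, (X.residue ξ).hom a ∈ R'.nonunits → ρ.hom a ∈ V₀.nonunits := by
      intro a ha
      have haR : (X.residue ξ).hom a ∈ R' := (R'.mem_nonunits_iff_exists_mem_maximalIdeal.mp ha).1
      rw [V₀.mem_nonunits_iff_exists_mem_maximalIdeal]
      refine ⟨K1 a haR, ?_⟩
      rw [mem_maximalIdeal, mem_nonunits_iff]
      intro hu
      have hu' : IsUnit (⟨a, haR⟩ : A'') := hV₀loc.map_nonunit ⟨a, haR⟩ hu
      obtain ⟨b, hb⟩ := hu'.exists_right_inv
      have h1 : (X.residue ξ).hom a * (X.residue ξ).hom b.1 = 1 := by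
        have h0 : a * b.1 = 1 := congrArg Subtype.val hb
        rw [← map_mul, h0, map_one]
      have h2 := DVRDom.mul_mem_nonunits R' b.2 ha
      rw [mul_comm, h1, ValuationSubring.mem_nonunits_iff, map_one] at h2
      exact lt_irrefl _ h2
    have K3 : ∀ g, (X.residue ξ).hom g ∉ R' → (ρ.hom g)⁻¹ ∈ V₀.nonunits := by
      intro g hg
      have hg0 : (X.residue ξ).hom g ≠ 0 := fun h0 => hg (h0 ▸ R'.zero_mem)
      obtain ⟨g', hg'⟩ := (hres g hg0).exists_right_inv
      have h1 : (X.residue ξ).hom g' = ((X.residue ξ).hom g)⁻¹ :=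
        eq_inv_of_mul_eq_one_right (by rw [← map_mul, hg', map_one])
      have h2 : ρ.hom g' = (ρ.hom g)⁻¹ :=
        eq_inv_of_mul_eq_one_right (by rw [← map_mul, hg', map_one])
      rw [← h2]
      apply K2
      rw [h1]
      exact DVRDom.inv_mem_nonunits_of_notMem R' hg
    have hdU₀ : d ∈ U₀.1 := hd.mem_open U₀.1.2 hξU₀
    have hgermρ : ∀ (U : X.affineOpens) (hξU : ξ ∈ U.1) (hdU : d ∈ U.1),
        X.presheaf.germ U ξ hξU ≫ ρ = X.evaluation U d hdU ≫ φ := by
      intro U hξU hdU
      rw [hρ, ← Category.assoc, TopCat.Presheaf.germ_stalkSpecializes]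
      rfl
    -- type I elements
    let eU : X.affineOpens → L := fun U =>
      if h : U ∈ 𝒰 ∧ ξ ∈ U.1 then (ρ.hom (X.presheaf.germ U ξ h.2 (c U h.1 h.2)))⁻¹ else 0
    have heU : ∀ U, eU U ∈ V₀.nonunits := by
      intro U
      by_cases h : U ∈ 𝒰 ∧ ξ ∈ U.1
      · simp only [eU, h, and_self, dite_true]
        exact K3 _ (hc U h.1 h.2)
      · simp only [eU, h, dite_false]
        rw [ValuationSubring.mem_nonunits_iff, map_zero]; exact zero_lt_one
    -- type II elements
    let G : ∀ (U : X.affineOpens), d ∈ U.1 → Set L := fun U hdU =>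
      {z | ∃ μ ∈ maximalIdeal (X.presheaf.stalk ξ), ∃ γ : Γ(X, U),
        z = ρ.hom μ * (X.evaluation U d hdU ≫ φ).hom γ}
    have hII : ∀ (U : X.affineOpens), U ∈ 𝒰 → ξ ∉ U.1 → ∀ hdU : d ∈ U.1,
        ∃ T : Finset L, (↑T ⊆ G U hdU) ∧ (1 : L) ∈ Submodule.span ℤ (T : Set L) := by
      intro U hU hξU hdU
      apply Submodule.mem_span_finite_of_mem_span
      apply one_mem_span_of_forall_valuationSubring
      intro V₁ h1 h2
      exact sep_no_valuationSubring f hW U.2 (hle U hU) hd hdU hξU hξW φ V₁ h1 h2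
    choose TU hTU1 hTU2 using hII
    let pick : ∀ (U : X.affineOpens), d ∈ U.1 → L → L := fun U hdU t =>
      if h : t ∈ G U hdU then ρ.hom h.choose else 0
    have hpick : ∀ U hdU t, pick U hdU t ∈ V₀.nonunits := by
      intro U hdU t
      by_cases h : t ∈ G U hdU
      · simp only [pick, h, dite_true]
        apply K2
        have hμ := h.choose_spec.1
        have : (X.residue ξ).hom h.choose = 0 := (IsLocalRing.residue_eq_zero_iff _).mpr hμ
        rw [this, ValuationSubring.mem_nonunits_iff, map_zero]; exact zero_lt_one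
      · simp only [pick, h, dite_false]
        rw [ValuationSubring.mem_nonunits_iff, map_zero]; exact zero_lt_one
    let EII : X.affineOpens → Finset L := fun U =>
      if h : U ∈ 𝒰 ∧ ξ ∉ U.1 ∧ d ∈ U.1 then (TU U h.1 h.2.1 h.2.2).image (pick U h.2.2) else ∅
    let E : Finset L := h𝒰fin.toFinset.image eU ∪ h𝒰fin.toFinset.biUnion EII
    have hE : ∀ e ∈ E, e ∈ V₀.nonunits := by
      intro e he
      rcases Finset.mem_union.mp he with he | he
      · obtain ⟨U, -, rfl⟩ := Finset.mem_image.mp he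
        exact heU U
      · obtain ⟨U, -, heU'⟩ := Finset.mem_biUnion.mp he
        by_cases h : U ∈ 𝒰 ∧ ξ ∉ U.1 ∧ d ∈ U.1
        · simp only [EII, h] at heU'
          obtain ⟨t, -, rfl⟩ := Finset.mem_image.mp heU'
          exact hpick _ _ _
        · simp only [EII, h, dite_false] at heU'
          exact absurd heU' (Finset.notMem_empty e)
    have hne : ∃ e ∈ E, e ≠ 0 := by
      refine ⟨eU U₀, Finset.mem_union_left _
        (Finset.mem_image.mpr ⟨U₀, h𝒰fin.mem_toFinset.mpr hU₀, rfl⟩), ?_⟩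
      have h : U₀ ∈ 𝒰 ∧ ξ ∈ U₀.1 := ⟨hU₀, hξU₀⟩
      simp only [eU, h, and_self, dite_true]
      apply inv_ne_zero
      have hu : IsUnit (X.presheaf.germ U₀ ξ hξU₀ (c U₀ hU₀ hξU₀)) := by
        apply hres
        intro h0
        apply hc U₀ hU₀ hξU₀
        change (X.residue ξ).hom (X.presheaf.germ U₀ ξ hξU₀ (c U₀ hU₀ hξU₀)) ∈ R'
        rw [h0]; exact R'.zero_mem
      exact (hu.map ρ.hom).ne_zero
    -- the algebra structure on `L` over `Γ(Y, W)`
    let βL : Γ(Y, W) ⟶ CommRingCat.of L :=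
      f.appLE W U₀ (hle U₀ hU₀) ≫ X.evaluation U₀ d hdU₀ ≫ φ
    let _ : Algebra Γ(Y, W) L := βL.hom.toAlgebra
    have hNoeth : IsNoetherianRing Γ(Y, W) := IsLocallyNoetherian.component_noetherian ⟨W, hW⟩
    have hess : Algebra.EssFiniteType Γ(Y, W) L := by
      have h1 : (f.appLE W U₀ (hle U₀ hU₀)).hom.EssFiniteType :=
        (f.finiteType_appLE hW U₀.2 (hle U₀ hU₀)).essFiniteType
      have h2 := essFiniteType_evaluation U₀.2 d hdU₀
      exact h1.comp (h2.comp hφ)
    have hB₀ : ∀ b : Γ(Y, W), algebraMap Γ(Y, W) L b ∈ V₀ := by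
      intro b
      have h1 : algebraMap Γ(Y, W) L b =
          ρ.hom (X.presheaf.germ U₀ ξ hξU₀ ((f.appLE W U₀ (hle U₀ hU₀)).hom b)) := by
        have := congrArg (fun k => k.hom ((f.appLE W U₀ (hle U₀ hU₀)).hom b))
          (hgermρ U₀ hξU₀ hdU₀)
        exact this.symm
      rw [h1]
      apply K1
      change ι.hom ((X.evaluation U₀ ξ hξU₀).hom ((f.appLE W U₀ (hle U₀ hU₀)).hom b)) ∈ RK
      have h3 := congrArg (fun k => k.hom b) (KI U₀ hU₀ hξU₀)
      simp only [CommRingCat.hom_comp, RingHom.coe_comp, Function.comp_apply,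
        CommRingCat.hom_ofHom] at h3
      exact ⟨β.hom b, h3.symm⟩
    obtain ⟨V, hVd, hVmem, hVE, -⟩ := DVRDom.exists_dvr_of_valuationSubring V₀ hB₀ E hE hne
    let βV : Γ(Y, W) ⟶ CommRingCat.of V :=
      CommRingCat.ofHom (βL.hom.codRestrict V.toSubring hVmem)
    have hβV : βV ≫ CommRingCat.ofHom V.subtype = βL := rfl
    let y : Spec (CommRingCat.of V) ⟶ Y := Spec.map βV ≫ hW.fromSpec
    have hy : Spec.map (CommRingCat.ofHom V.subtype) ≫ y =
        Spec.map φ ≫ X.fromSpecResidueField d ≫ f := by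
      have e1 : Spec.map (X.evaluation U₀ d hdU₀) ≫ U₀.2.fromSpec = X.fromSpecResidueField d :=
        (fromSpecResidueField_eq U₀.2 d hdU₀).symm
      calc Spec.map (CommRingCat.ofHom V.subtype) ≫ y
          = Spec.map βL ≫ hW.fromSpec := by
            rw [← Category.assoc, ← Spec.map_comp, hβV]
        _ = Spec.map φ ≫ Spec.map (X.evaluation U₀ d hdU₀) ≫
              (Spec.map (f.appLE W U₀ (hle U₀ hU₀)) ≫ hW.fromSpec) := by
            simp only [βL, Spec.map_comp, Category.assoc]
        _ = Spec.map φ ≫ (Spec.map (X.evaluation U₀ d hdU₀) ≫ U₀.2.fromSpec) ≫ f := by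
            rw [IsAffineOpen.SpecMap_appLE_fromSpec f hW U₀.2 (hle U₀ hU₀), Category.assoc]
        _ = Spec.map φ ≫ X.fromSpecResidueField d ≫ f := by rw [e1]
    obtain ⟨l, hl1, hl2⟩ := HV V hVd y hy
    have := hVd
    set x₁ : X := l (closedPoint (CommRingCat.of V)) with hx₁
    have hx₁W : x₁ ∈ f ⁻¹ᵁ W := by
      have h1 : f x₁ = hW.fromSpec (Spec.map βV (closedPoint (CommRingCat.of V))) := by
        rw [hx₁, ← Scheme.Hom.comp_apply, hl1, Scheme.Hom.comp_apply]
      have h2 : f x₁ ∈ Set.range hW.fromSpec := ⟨_, h1.symm⟩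
      rw [hW.range_fromSpec] at h2
      exact h2
    obtain ⟨U, hU, hx₁U⟩ : ∃ U ∈ 𝒰, x₁ ∈ (U : X.affineOpens).1 := by
      rw [h𝒰] at hx₁W
      simpa [Opens.mem_iSup] using hx₁W
    have hspec : d ⤳ x₁ := by
      have h1 : d = l (Spec.map (CommRingCat.ofHom V.subtype)
          (closedPoint (CommRingCat.of L))) := by
        rw [← Scheme.Hom.comp_apply, hl2, Scheme.Hom.comp_apply]
        exact (Scheme.fromSpecResidueField_apply d _).symm
      rw [h1]
      exact (specializes_closedPoint (R := V) _).map l.continuous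
    have hdU : d ∈ U.1 := hspec.mem_open U.1.2 hx₁U
    obtain ⟨lam, hlam⟩ := exists_factor_fromSpec l U.2 hx₁U
    have hlam2 : lam ≫ CommRingCat.ofHom V.subtype = X.evaluation U d hdU ≫ φ := by
      apply fromSpec_cancel U.2
      rw [Spec.map_comp, Category.assoc, ← hlam, hl2, Spec.map_comp, Category.assoc,
        ← fromSpecResidueField_eq U.2 d hdU]
    have hlamV : ∀ γ, (X.evaluation U d hdU ≫ φ).hom γ ∈ V := by
      intro γ
      rw [← hlam2]
      exact (lam.hom γ).2
    by_cases hξU : ξ ∈ U.1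
    · -- type I
      have h1 : ρ.hom (X.presheaf.germ U ξ hξU (c U hU hξU)) ∈ V := by
        have := congrArg (fun k => k.hom (c U hU hξU)) (hgermρ U hξU hdU)
        simp only [CommRingCat.hom_comp, RingHom.coe_comp, Function.comp_apply] at this
        rw [this]
        exact hlamV _
      have h2 : eU U ∈ V.nonunits :=
        hVE _ (Finset.mem_union_left _ (Finset.mem_image.mpr ⟨U, h𝒰fin.mem_toFinset.mpr hU, rfl⟩))
      have h : U ∈ 𝒰 ∧ ξ ∈ U.1 := ⟨hU, hξU⟩
      simp only [eU, h, and_self, dite_true] at h2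
      have h3 := DVRDom.mul_mem_nonunits V h1 h2
      have hne0 : ρ.hom (X.presheaf.germ U ξ hξU (c U hU hξU)) ≠ 0 := by
        have hu : IsUnit (X.presheaf.germ U ξ hξU (c U hU hξU)) := by
          apply hres
          intro h0
          apply hc U hU hξU
          change (X.residue ξ).hom (X.presheaf.germ U ξ hξU (c U hU hξU)) ∈ R'
          rw [h0]; exact R'.zero_mem
        exact (hu.map ρ.hom).ne_zero
      rw [mul_inv_cancel₀ hne0, ValuationSubring.mem_nonunits_iff, map_one] at h3
      exact lt_irrefl _ h3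
    · -- type II
      have hT1 := hTU1 U hU hξU hdU
      have hT2 := hTU2 U hU hξU hdU
      have key : ∀ z ∈ Submodule.span ℤ ((TU U hU hξU hdU : Finset L) : Set L),
          V.valuation z < 1 := by
        intro z hz
        induction hz using Submodule.span_induction with
        | mem t ht =>
          have htG : t ∈ G U hdU := hT1 ht
          have hp : pick U hdU t ∈ V.nonunits := by
            apply hVE
            refine Finset.mem_union_right _ (Finset.mem_biUnion.mpr
              ⟨U, h𝒰fin.mem_toFinset.mpr hU, ?_⟩)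
            have h : U ∈ 𝒰 ∧ ξ ∉ U.1 ∧ d ∈ U.1 := ⟨hU, hξU, hdU⟩
            simp only [EII, h]
            exact Finset.mem_image_of_mem _ ht
          simp only [pick, htG, dite_true] at hp
          obtain ⟨-, γ, hγ⟩ := htG.choose_spec
          rw [← ValuationSubring.mem_nonunits_iff]
          rw [hγ, mul_comm]
          exact DVRDom.mul_mem_nonunits V (hlamV γ) hp
        | zero => rw [map_zero]; exact zero_lt_one
        | add a b _ _ ha hb => exact Valuation.map_add_lt _ ha hb
        | smul n a _ ha =>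
          rw [zsmul_eq_mul, map_mul]
          have hn : V.valuation (n : L) ≤ 1 := (V.valuation_le_one_iff _).mpr (intCast_mem V n)
          calc V.valuation (n : L) * V.valuation a ≤ 1 * V.valuation a := mul_le_mul_left hn _
            _ = V.valuation a := one_mul _
            _ < 1 := ha
      have := key 1 hT2
      rw [map_one] at this
      exact lt_irrefl _ this

end Groth.Agent.Lib.Helper4.DVRRef
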