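import Mathlib
import Groth.Agent.Lib.Helper4DVRSch
import Groth.Agent.Lib.Helper4Allied

open CategoryTheory CategoryTheory.Limits AlgebraicGeometry IsLocalRing TopologicalSpace

universe u

namespace Groth.Agent.Lib.Helper4.DVRSep

open Groth.Agent.Lib.Helper4

set_option backward.isDefEq.respectTransparency false in
/-- Separatedness from uniqueness of lifts along discrete valuation rings, tested on a family of
points through which every point is a specialization. -/
theorem isSeparated_of_dvr_uniqueness {X Y : Scheme.{u}} [IsLocallyNoetherian Y] (f : X ⟶ Y)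
    [LocallyOfFiniteType f]
    (H : ∀ x : X, ∃ d : X, d ⤳ x ∧ ∃ (L : Type u) (_ : Field L)
      (φ : X.residueField d ⟶ CommRingCat.of L), φ.hom.EssFiniteType ∧
      ∀ V : ValuationSubring L, IsDiscreteValuationRing V →
        ∀ g₁ g₂ : Spec (CommRingCat.of V) ⟶ X, g₁ ≫ f = g₂ ≫ f →
          Spec.map (CommRingCat.ofHom V.subtype) ≫ g₁ = Spec.map φ ≫ X.fromSpecResidueField d →
          Spec.map (CommRingCat.ofHom V.subtype) ≫ g₂ = Spec.map φ ≫ X.fromSpecResidueField d →
          g₁ = g₂) :
    IsSeparated f := by
  have hX : IsLocallyNoetherian X := LocallyOfFiniteType.isLocallyNoetherian f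
  refine ⟨IsClosedImmersion.of_isPreimmersion _ (Allied.isClosed_range_diagonal_of _ ?_)⟩
  intro z hz
  obtain ⟨x, hx⟩ := DVRSch.exists_specializes_of_mem_closure_range (pullback.diagonal f) hz
  obtain ⟨d, hd, L, _, φ, hφ, HV⟩ := H x
  have hdz : pullback.diagonal f d ⤳ z :=
    (hd.map (pullback.diagonal f).continuous).trans hx
  by_cases hne : pullback.diagonal f d = z
  · rw [← hne, ← Scheme.Hom.comp_apply, ← Scheme.Hom.comp_apply]
    simp
  -- the field extension `κ(Δ d) → κ(d) → L`
  let φ' : (pullback f f).residueField (pullback.diagonal f d) ⟶ CommRingCat.of L :=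
    (pullback.diagonal f).residueFieldMap d ≫ φ
  have hφ' : φ'.hom.EssFiniteType := by
    have h1 : ((pullback.diagonal f).residueFieldMap d).hom.EssFiniteType :=
      RingHom.EssFiniteType.residueFieldMap (LocallyOfFiniteType.stalkMap (pullback.diagonal f) d)
    exact h1.comp hφ
  obtain ⟨V, hV, g, hg1, hg2⟩ := DVRSch.exists_dvr_hom hdz hne φ' hφ'
  have hgen : Spec.map (CommRingCat.ofHom V.subtype) ≫ g =
      Spec.map φ ≫ X.fromSpecResidueField d ≫ pullback.diagonal f := by
    rw [hg1]
    simp only [φ', Spec.map_comp, Category.assoc,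
      Scheme.Hom.SpecMap_residueFieldMap_fromSpecResidueField]
  have key : g ≫ pullback.fst f f = g ≫ pullback.snd f f := by
    apply HV V hV
    · simp only [Category.assoc, pullback.condition]
    · rw [← Category.assoc, hgen]; simp
    · rw [← Category.assoc, hgen]; simp
  rw [← hg2, ← Scheme.Hom.comp_apply, ← Scheme.Hom.comp_apply, key]

end Groth.Agent.Lib.Helper4.DVRSep
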