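import Mathlib
import Groth.Agent.S19352
import Groth.Agent.Lib.Helper12PosG
import Groth.Agent.Lib.Helper12PosF
import Groth.Agent.Lib.Helper23RestrTensor
import Groth.Agent.Lib.Helper27SerreVanPn
import Groth.Agent.Lib.Helper27SplitPn

/-!
# An invertible module of degree `≤ 0` with a nonzero section is trivial (helper4; S5632)
-/

set_option autoImplicit false
set_option linter.style.haveILetI false
set_option linter.unusedSectionVars false
universe u
open CategoryTheory CategoryTheory.Limits AlgebraicGeometry TopologicalSpace Opposite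

namespace Groth.Agent.Lib.Helper4.DegNonpos

open Groth.Agent.Lib.Helper12.Snap Groth.Agent.Lib.Helper12.Pos Groth.Agent.Lib.Helper4.Dev

theorem exists_hom_ne_zero_of_nontrivial {X : Scheme.{u}} (L : X.Modules) (h : Nontrivial (Coh.HH X L 0)) :
    ∃ s : Coh.structureModule X ⟶ L, s ≠ 0 := by
  obtain ⟨x, hx⟩ := exists_ne (0 : Coh.HH X L 0)
  let t : Γ(L, ⊤) := Sheaf.H.equiv₀ (Coh.toAb L) Limits.isTerminalTop x
  have ht : t ≠ 0 :=
    (AddEquiv.map_ne_zero_iff (Sheaf.H.equiv₀ (Coh.toAb L) Limits.isTerminalTop)).2 hx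
  let e : (Coh.structureModule X ⟶ L) ≃+ Γ(L, ⊤) :=
    Groth.Agent.Lib.Helper21.UnitHom.unitHomAddEquiv (R := X.ringCatSheaf)
      (Limits.isTerminalTop (α := X.Opens)) L
  exact ⟨e.symm t, (AddEquiv.map_ne_zero_iff e.symm).2 ht⟩

theorem main (k : Type u) [Field k] (n : ℕ) (X : Scheme.{u}) [X.Over (Spec (CommRingCat.of k))]
    (i : X ⟶ CohB1.ProjSpace n k) [IsClosedImmersion i] (hi : i ≫ CohB1.ProjSpace.toSpec n k = X ↘ Spec (CommRingCat.of k))
    [IsIntegral X] (s : ℕ) (hdim : topologicalKrullDim X = (s + 1 : ℕ))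
    (L L' : X.Modules) (hL : PicF.IsInvertible L) (hLL' : Nonempty (CohB1.tensorMod L L' ≅ Coh.structureModule X))
    (hdeg : FGA.intNum k X (s + 1)
      (Matrix.vecCons L' (fun _ : Fin s => (Scheme.Modules.pullback i).obj (Twist.twistProjSpace n k (-1))))
      (Coh.structureModule X) ≤ 0)
    (hsec : Nontrivial (Coh.HH X L 0)) :
    Nonempty (L ≅ Coh.structureModule X) := by
  haveI : IsProper (X ↘ Spec (CommRingCat.of k)) := by
    rw [← hi]
    haveI := Groth.Agent.Lib.Helper27ProjSpaceFibres.isProper_projSpace_toSpec n k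
    infer_instance
  haveI : IsNoetherian X := Groth.Agent.Lib.Helper4.CurveRR.isNoetherian_of_proper k X
  haveI : IsLocallyNoetherian X := inferInstance
  have hdim' : topologicalKrullDim X = ((s + 1 : ℕ) : WithBot ℕ∞) := hdim
  have hd : topologicalKrullDim X ≤ ((s + 1 : ℕ) : WithBot ℕ∞) := hdim'.le
  have hn : 1 ≤ n := by
    by_contra hn0
    have hn0' : n = 0 := by omega
    have h1 : topologicalKrullDim X ≤ topologicalKrullDim (CohB1.ProjSpace n k) :=
      i.isClosedEmbedding.isEmbedding.isInducing.topologicalKrullDim_le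
    have h3 : topologicalKrullDim (CohB1.ProjSpace n k) = (n : WithBot ℕ∞) :=
      Groth.Agent.Lib.Helper27ProjDim.main k n
    rw [h3, hn0', hdim'] at h1
    have : ((s + 1 : ℕ) : WithBot ℕ∞) ≤ ((0 : ℕ) : WithBot ℕ∞) := h1
    rw [Nat.cast_le] at this
    omega
  set H := (Scheme.Modules.pullback i).obj (Twist.twistProjSpace n k 1) with hHdef
  set H' := (Scheme.Modules.pullback i).obj (Twist.twistProjSpace n k (-1)) with hH'def
  have hH : CohB1.IsAmple H :=
    Groth.Agent.S9815.result i i.isClosedEmbedding.isEmbedding _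
      ((Groth.Agent.S10962.result k n hn 1).2 one_pos)
  have hHH' : Nonempty (CohB1.tensorMod H H' ≅ Coh.structureModule X) := by
    obtain ⟨e1⟩ := Groth.Agent.Lib.Helper27SerreVanPn.nonempty_twist_tensor_iso (n := n) (R := k) 1 (-1)
    obtain ⟨e0⟩ := Groth.Agent.Lib.Helper27SplitPn.nonempty_twist_zero_iso k n
    have h0 : (1 : ℤ) + -1 = 0 := by norm_num
    exact ⟨(Groth.Agent.Lib.Helper23.RestrTensor.pullbackTensorIso _ _ i).symm ≪≫
      (Scheme.Modules.pullback i).mapIso (e1 ≪≫ eqToIso (by rw [h0]) ≪≫ e0) ≪≫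
      Groth.Agent.Lib.Helper23.PB.pullbackUnitIso i⟩
  obtain ⟨σ, hσ⟩ := exists_hom_ne_zero_of_nontrivial L hsec
  by_cases htop : CohB1.genLocus L σ = ⊤
  · haveI := Groth.Agent.Lib.Helper6.DegZero.isIso_of_genLocus_eq_top L σ htop
    exact ⟨(asIso σ).symm⟩
  · exfalso
    have h1 := dchi_cons_structure_pos k X s hdim' L hL σ hσ htop (List.replicate s H)
      (fun M hM => by rw [List.eq_of_mem_replicate hM]; exact hH) (List.length_replicate ..)
    -- the two families
    let Lf : Fin (s + 1) → X.Modules := Matrix.vecCons L (fun _ : Fin s => H)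
    let Mf : Fin (s + 1) → X.Modules := Matrix.vecCons L' (fun _ : Fin s => H')
    have hL'inv : PicF.IsInvertible L' := by
      obtain ⟨e⟩ := hLL'
      exact Groth.Agent.Lib.Helper2.TensorInv.isInvertible_of_tensor_iso L' L
        (Groth.Agent.Lib.Helper23.AmpleFam2.tensorBraid L' L ≪≫ e)
    have hH'inv : PicF.IsInvertible H' := by
      obtain ⟨e⟩ := hHH'
      exact Groth.Agent.Lib.Helper2.TensorInv.isInvertible_of_tensor_iso H' H
        (Groth.Agent.Lib.Helper23.AmpleFam2.tensorBraid H' H ≪≫ e)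
    have hLfinv : ∀ j, PicF.IsInvertible (Lf j) := by
      intro j
      refine Fin.cases ?_ (fun j' => ?_) j
      · exact hL
      · exact hH.1
    have hMfinv : ∀ j, PicF.IsInvertible (Mf j) := by
      intro j
      refine Fin.cases ?_ (fun j' => ?_) j
      · exact hL'inv
      · exact hH'inv
    have hLM : ∀ j, Nonempty (CohB1.tensorMod (Lf j) (Mf j) ≅ Coh.structureModule X) := by
      intro j
      refine Fin.cases ?_ (fun j' => ?_) j
      · exact hLL'
      · exact hHH'
    obtain ⟨T, hT, hTe⟩ := dchi_inverse k X (s + 1) Lf Mf hLfinv hMfinv hLM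
    have hlLf : ∀ N ∈ List.ofFn Lf, PicF.IsInvertible N := by
      intro N hN
      obtain ⟨j, rfl⟩ := (List.mem_ofFn' _ N).1 hN
      exact hLfinv j
    have hcO : Coh.IsCoh (Coh.structureModule X) := isCoh_structureModule X
    have hdimO : topologicalKrullDim ↥(CohB1.support (Coh.structureModule X)) <
        (((List.ofFn Lf).length + 1 : ℕ) : WithBot ℕ∞) := by
      rw [List.length_ofFn, lt_succ_iff_le]
      exact (topologicalKrullDim_subspace_le _ _).trans hd
    have hMf : (Matrix.vecCons L' (fun _ : Fin s => H') : Fin (s + 1) → X.Modules) = Mf := rfl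
    rw [hMf, intNum_eq_dchi k X (s + 1) hd, hTe (Coh.structureModule X),
      dchi_tensor_invertible k X (List.ofFn Lf) hlLf T hT _ hcO hdimO] at hdeg
    have hlist : List.ofFn Lf = L :: List.replicate s H := by
      rw [List.ofFn_succ]
      congr 1
      exact List.ofFn_const s H
    rw [hlist] at hdeg
    linarith

end Groth.Agent.Lib.Helper4.DegNonpos
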