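import Mathlib
import Groth.Prelude.Def_DeltaF

/-!
# Helper4: API for `DeltaF.CohDeltaFunctor` — effaceable ⇒ universal (Grothendieck, Tôhoku II.2.2.1)
-/

set_option autoImplicit false
universe v u v' u'
open CategoryTheory CategoryTheory.Limits DeltaF

namespace Groth.Agent.Lib.Helper4.DF

variable {A : Type u} [Category.{v} A] [Abelian A] {B : Type u'} [Category.{v'} B] [Abelian B]

/-- The short complex `X ⟶ Y ⟶ coker u`. -/
noncomputable abbrev ses {X Y : A} (u : X ⟶ Y) : ShortComplex A := ShortComplex.cokernelSequence u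

lemma ses_shortExact {X Y : A} (u : X ⟶ Y) [Mono u] : (ses u).ShortExact where
  exact := ShortComplex.cokernelSequence_exact u
  mono_f := (inferInstance : Mono u)
  epi_g := (inferInstance : Epi (cokernel.π u))

/-- Morphism of cokernel sequences induced by a commutative square. -/
noncomputable def sesMap {X Y X' Y' : A} (u : X ⟶ Y) (u' : X' ⟶ Y') (f : X ⟶ X') (g : Y ⟶ Y')
    (h : u ≫ g = f ≫ u') : ses u ⟶ ses u' where
  τ₁ := f
  τ₂ := g
  τ₃ := cokernel.map u u' f g h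
  comm₁₂ := h.symm
  comm₂₃ := (cokernel.π_desc _ _ _).symm

variable (T T' : CohDeltaFunctor A B ℕ)

/-- The connecting map of the cokernel sequence of a mono. -/
noncomputable def dl {X Y : A} (u : X ⟶ Y) [Mono u] (n : ℕ) :
    (T.F n).obj (cokernel u) ⟶ (T.F (n + 1)).obj X :=
  T.δ (ses u) (ses_shortExact u) n (n + 1) rfl

@[reassoc]
lemma dl_natural {X Y X' Y' : A} (u : X ⟶ Y) (u' : X' ⟶ Y') [Mono u] [Mono u'] (f : X ⟶ X')
    (g : Y ⟶ Y') (h : u ≫ g = f ≫ u') (n : ℕ) :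
    (T.F n).map (cokernel.map u u' f g h) ≫ dl T u' n = dl T u n ≫ (T.F (n + 1)).map f :=
  T.δ_natural (ses_shortExact u) (ses_shortExact u') (sesMap u u' f g h) n (n + 1) rfl

lemma map_π_dl {X Y : A} (u : X ⟶ Y) [Mono u] (n : ℕ) :
    (T.F n).map (cokernel.π u) ≫ dl T u n = 0 :=
  T.comp_δ (ses u) (ses_shortExact u) n (n + 1) rfl

lemma epi_dl {X Y : A} (u : X ⟶ Y) [Mono u] (n : ℕ) (hu : (T.F (n + 1)).map u = 0) :
    Epi (dl T u n) :=
  (T.exact₁ (ses u) (ses_shortExact u) n (n + 1) rfl).epi_f hu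

variable {T T'}

/-- The map `T^{n+1} X ⟶ T'^{n+1} X` induced by `σ : T^n ⟶ T'^n` and an effacing mono `u`. -/
noncomputable def induced {n : ℕ} (σ : T.F n ⟶ T'.F n) {X Y : A} (u : X ⟶ Y) [Mono u]
    (hu : (T.F (n + 1)).map u = 0) : (T.F (n + 1)).obj X ⟶ (T'.F (n + 1)).obj X :=
  haveI : Epi (ShortComplex.mk _ _ (T.comp_δ (ses u) (ses_shortExact u) n (n + 1) rfl)).g :=
    epi_dl T u n hu
  (T.exact₃ (ses u) (ses_shortExact u) n (n + 1) rfl).desc
    (σ.app (cokernel u) ≫ dl T' u n) (by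
      change (T.F n).map (cokernel.π u) ≫ σ.app (cokernel u) ≫ dl T' u n = 0
      rw [σ.naturality_assoc, map_π_dl, comp_zero])

@[reassoc]
lemma dl_induced {n : ℕ} (σ : T.F n ⟶ T'.F n) {X Y : A} (u : X ⟶ Y) [Mono u]
    (hu : (T.F (n + 1)).map u = 0) :
    dl T u n ≫ induced σ u hu = σ.app (cokernel u) ≫ dl T' u n := by
  haveI : Epi (ShortComplex.mk _ _ (T.comp_δ (ses u) (ses_shortExact u) n (n + 1) rfl)).g :=
    epi_dl T u n hu
  exact (T.exact₃ (ses u) (ses_shortExact u) n (n + 1) rfl).g_desc _ _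

/-- Case 1 of the key lemma. -/
lemma induced_natural {n : ℕ} (σ : T.F n ⟶ T'.F n) {X Y X' Y' : A} (u : X ⟶ Y) (u' : X' ⟶ Y')
    [Mono u] [Mono u'] (hu : (T.F (n + 1)).map u = 0) (hu' : (T.F (n + 1)).map u' = 0)
    (f : X ⟶ X') (g : Y ⟶ Y') (h : u ≫ g = f ≫ u') :
    (T.F (n + 1)).map f ≫ induced σ u' hu' = induced σ u hu ≫ (T'.F (n + 1)).map f := by
  haveI := epi_dl T u n hu
  rw [← cancel_epi (dl T u n), ← dl_natural_assoc T u u' f g h, dl_induced, dl_induced_assoc,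
    ← dl_natural T' u u' f g h, σ.naturality_assoc]

lemma induced_eq_of_fac {n : ℕ} (σ : T.F n ⟶ T'.F n) {X Y Y' : A} (u : X ⟶ Y) (u' : X ⟶ Y')
    [Mono u] [Mono u'] (hu : (T.F (n + 1)).map u = 0) (hu' : (T.F (n + 1)).map u' = 0)
    (g : Y ⟶ Y') (h : u ≫ g = u') : induced σ u hu = induced σ u' hu' := by
  have := induced_natural σ u u' hu hu' (𝟙 X) g (by rw [h, Category.id_comp])
  simpa using this.symm

lemma mono_lift {X Y Y' : A} (u : X ⟶ Y) (u' : X ⟶ Y') [Mono u] : Mono (biprod.lift u u') :=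
  mono_of_mono_fac (biprod.lift_fst u u')

lemma map_lift_eq_zero (n : ℕ) {X Y Y' : A} (u : X ⟶ Y) (u' : X ⟶ Y')
    (hu : (T.F n).map u = 0) (hu' : (T.F n).map u' = 0) :
    (T.F n).map (biprod.lift u u') = 0 := by
  rw [biprod.lift_eq, Functor.map_add, Functor.map_comp, Functor.map_comp, hu, hu', zero_comp,
    zero_comp, add_zero]

/-- Independence of the effacing mono. -/
lemma induced_eq {n : ℕ} (σ : T.F n ⟶ T'.F n) {X Y Y' : A} (u : X ⟶ Y) (u' : X ⟶ Y')
    [Mono u] [Mono u'] (hu : (T.F (n + 1)).map u = 0) (hu' : (T.F (n + 1)).map u' = 0) :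
    induced σ u hu = induced σ u' hu' := by
  have := mono_lift u u'
  have h2 := map_lift_eq_zero (T := T) (n + 1) u u' hu hu'
  rw [← induced_eq_of_fac σ (biprod.lift u u') u h2 hu biprod.fst (biprod.lift_fst _ _),
    ← induced_eq_of_fac σ (biprod.lift u u') u' h2 hu' biprod.snd (biprod.lift_snd _ _)]

/-- General naturality of `induced`. -/
lemma induced_natural' {n : ℕ} (σ : T.F n ⟶ T'.F n) {X Y X' Y' : A} (u : X ⟶ Y) (u' : X' ⟶ Y')
    [Mono u] [Mono u'] (hu : (T.F (n + 1)).map u = 0) (hu' : (T.F (n + 1)).map u' = 0)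
    (f : X ⟶ X') :
    (T.F (n + 1)).map f ≫ induced σ u' hu' = induced σ u hu ≫ (T'.F (n + 1)).map f := by
  have := mono_lift u (f ≫ u')
  have h2 : (T.F (n + 1)).map (biprod.lift u (f ≫ u')) = 0 :=
    map_lift_eq_zero (T := T) (n + 1) u (f ≫ u') hu (by rw [Functor.map_comp, hu', comp_zero])
  rw [induced_eq σ u (biprod.lift u (f ≫ u')) hu h2]
  exact induced_natural σ _ u' h2 hu' f biprod.snd (biprod.lift_snd _ _)

section Next

variable (hT : T.IsEffaceable)
include hT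

/-- chosen effacement -/
noncomputable def effY (n : ℕ) (X : A) : A := (hT n X).choose

noncomputable def effU (n : ℕ) (X : A) : X ⟶ effY hT n X := (hT n X).choose_spec.choose

instance effU_mono (n : ℕ) (X : A) : Mono (effU hT n X) := (hT n X).choose_spec.choose_spec.1

lemma effU_zero (n : ℕ) (X : A) : (T.F (n + 1)).map (effU hT n X) = 0 :=
  (hT n X).choose_spec.choose_spec.2

/-- The next component of the extension. -/
noncomputable def next {n : ℕ} (σ : T.F n ⟶ T'.F n) : T.F (n + 1) ⟶ T'.F (n + 1) where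
  app X := induced σ (effU hT n X) (effU_zero hT n X)
  naturality _ _ f := induced_natural' σ _ _ _ _ f

lemma next_app {n : ℕ} (σ : T.F n ⟶ T'.F n) {X Y : A} (u : X ⟶ Y) [Mono u]
    (hu : (T.F (n + 1)).map u = 0) : (next hT σ).app X = induced σ u hu :=
  induced_eq σ (effU hT n X) u (effU_zero hT n X) hu

lemma next_comm {n : ℕ} (σ : T.F n ⟶ T'.F n) (S : ShortComplex A) (hS : S.ShortExact) :
    T.δ S hS n (n + 1) rfl ≫ (next hT σ).app S.X₁ = σ.app S.X₃ ≫ T'.δ S hS n (n + 1) rfl := by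
  have := hS.mono_f
  have := hS.epi_g
  let v := effU hT n S.X₂
  have : Mono (S.f ≫ v) := mono_comp _ _
  have hw : (T.F (n + 1)).map (S.f ≫ v) = 0 := by
    rw [Functor.map_comp, effU_zero, comp_zero]
  let h : S.X₃ ⟶ cokernel (S.f ≫ v) :=
    hS.exact.desc (v ≫ cokernel.π (S.f ≫ v)) (by rw [← Category.assoc, cokernel.condition])
  let φ : S ⟶ ses (S.f ≫ v) :=
    { τ₁ := 𝟙 _
      τ₂ := v
      τ₃ := h
      comm₁₂ := Category.id_comp _
      comm₂₃ := (hS.exact.g_desc _ _).symm }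
  have e1 := T.δ_natural hS (ses_shortExact (S.f ≫ v)) φ n (n + 1) rfl
  have e2 := T'.δ_natural hS (ses_shortExact (S.f ≫ v)) φ n (n + 1) rfl
  change (T.F n).map h ≫ dl T (S.f ≫ v) n = _ ≫ (T.F (n + 1)).map (𝟙 _) at e1
  change (T'.F n).map h ≫ dl T' (S.f ≫ v) n = _ ≫ (T'.F (n + 1)).map (𝟙 _) at e2
  rw [CategoryTheory.Functor.map_id, Category.comp_id] at e1 e2
  rw [next_app hT σ (S.f ≫ v) hw, ← e1, Category.assoc, dl_induced, ← e2, σ.naturality_assoc]

/-- The extension of `t` in all degrees. -/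
noncomputable def ext (t : T.F 0 ⟶ T'.F 0) : (n : ℕ) → (T.F n ⟶ T'.F n)
  | 0 => t
  | n + 1 => next hT (ext t n)

/-- The extension as a morphism of δ-functors. -/
noncomputable def extHom (t : T.F 0 ⟶ T'.F 0) : T ⟶ T' where
  app := ext hT t
  comm S hS n₀ n₁ h := by
    subst h
    exact next_comm hT (ext hT t n₀) S hS

lemma hom_unique (τ₁ τ₂ : T ⟶ T') (h0 : τ₁.app 0 = τ₂.app 0) : τ₁ = τ₂ := by
  apply CohDeltaFunctor.hom_ext
  intro n
  induction n with
  | zero => exact h0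
  | succ n ih =>
    ext X
    have := epi_dl T (effU hT n X) n (effU_zero hT n X)
    rw [← cancel_epi (dl T (effU hT n X) n)]
    have c1 := τ₁.comm (ses (effU hT n X)) (ses_shortExact _) n (n + 1) rfl
    have c2 := τ₂.comm (ses (effU hT n X)) (ses_shortExact _) n (n + 1) rfl
    exact c1.trans (by rw [ih]; exact c2.symm)

theorem isUniversal_of_isEffaceable : T.IsUniversal := by
  intro T' t
  refine ⟨extHom hT t, rfl, fun τ hτ => hom_unique hT _ _ ?_⟩
  rw [hτ]; rfl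

end Next

end Groth.Agent.Lib.Helper4.DF

namespace Groth.Agent.Lib.Helper4.DF

variable {A : Type u} [Category.{v} A] [Abelian A] {B : Type u'} [Category.{v'} B] [Abelian B]
variable {T T' : CohDeltaFunctor A B ℕ}

lemma hom_comm_dl (φ : T ⟶ T') {X Y : A} (u : X ⟶ Y) [Mono u] (i : ℕ) :
    dl T u i ≫ (φ.app (i + 1)).app X = (φ.app i).app (cokernel u) ≫ dl T' u i :=
  φ.comm (ses u) (ses_shortExact u) i (i + 1) rfl

/-- If `φ^i` is mono at `coker u` and epi at `Y`, for `u : X ⟶ Y` a mono effacing `T^{i+1}`,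
then `φ^{i+1}` is mono at `X`. -/
lemma mono_app_succ_of_effacing (φ : T ⟶ T') (i : ℕ) {X Y : A} (u : X ⟶ Y) [Mono u]
    (hu : (T.F (i + 1)).map u = 0) [Mono ((φ.app i).app (cokernel u))]
    [Epi ((φ.app i).app Y)] : Mono ((φ.app (i + 1)).app X) := by
  apply Preadditive.mono_of_cancel_zero
  intro W a ha
  have hδ := epi_dl T u i hu
  obtain ⟨W₁, π₁, hπ₁, z, hz⟩ := surjective_up_to_refinements_of_epi (dl T u i) a
  have h1 : (z ≫ (φ.app i).app (cokernel u)) ≫ dl T' u i = 0 := by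
    rw [Category.assoc, ← hom_comm_dl, ← reassoc_of% hz, ha, comp_zero]
  obtain ⟨W₂, π₂, hπ₂, (y' : W₂ ⟶ (T'.F i).obj Y),
      (hy' : π₂ ≫ z ≫ (φ.app i).app (cokernel u) = y' ≫ (T'.F i).map (cokernel.π u))⟩ :=
    (T'.exact₃ (ses u) (ses_shortExact u) i (i + 1) rfl).exact_up_to_refinements _ h1
  obtain ⟨W₃, π₃, hπ₃, y, hy⟩ := surjective_up_to_refinements_of_epi ((φ.app i).app Y) y'
  have h2 : π₃ ≫ π₂ ≫ z = y ≫ (T.F i).map (cokernel.π u) := by
    rw [← cancel_mono ((φ.app i).app (cokernel u))]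
    simp only [Category.assoc]
    rw [hy', reassoc_of% hy, (φ.app i).naturality]
  rw [← cancel_epi π₁, ← cancel_epi π₂, ← cancel_epi π₃, hz, reassoc_of% h2, map_π_dl]
  simp

/-- If `φ^i` is epi at `coker u'`, for `u' : X ⟶ Y'` a mono effacing `T'^{i+1}`, then `φ^{i+1}`
is epi at `X`. -/
lemma epi_app_succ_of_effacing (φ : T ⟶ T') (i : ℕ) {X Y' : A} (u' : X ⟶ Y') [Mono u']
    (hu' : (T'.F (i + 1)).map u' = 0) [Epi ((φ.app i).app (cokernel u'))] :
    Epi ((φ.app (i + 1)).app X) := by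
  have hδ := epi_dl T' u' i hu'
  have : Epi (dl T u' i ≫ (φ.app (i + 1)).app X) := by
    rw [hom_comm_dl]; infer_instance
  exact epi_of_epi (dl T u' i) _

lemma mono_app_succ (hT : T.IsEffaceable) (φ : T ⟶ T') (i : ℕ) [IsIso (φ.app i)] :
    Mono (φ.app (i + 1)) := by
  haveI : ∀ X, Mono ((φ.app (i + 1)).app X) := fun X => by
    obtain ⟨Y, u, hu, hu0⟩ := hT i X
    exact mono_app_succ_of_effacing φ i u hu0
  exact NatTrans.mono_of_mono_app _

lemma epi_app_succ (φ : T ⟶ T') (i : ℕ) [IsIso (φ.app i)]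
    (hT' : ∀ X : A, ∃ (Y : A) (u : X ⟶ Y), Mono u ∧ (T'.F (i + 1)).map u = 0) :
    Epi (φ.app (i + 1)) := by
  haveI : ∀ X, Epi ((φ.app (i + 1)).app X) := fun X => by
    obtain ⟨Y, u, hu, hu0⟩ := hT' X
    exact epi_app_succ_of_effacing φ i u hu0
  exact NatTrans.epi_of_epi_app _

lemma effaceable_of_isIso (hT : T.IsEffaceable) (φ : T ⟶ T') (i : ℕ) [IsIso (φ.app (i + 1))]
    (X : A) : ∃ (Y : A) (u : X ⟶ Y), Mono u ∧ (T'.F (i + 1)).map u = 0 := by
  obtain ⟨Y, u, hu, hu0⟩ := hT i X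
  refine ⟨Y, u, hu, ?_⟩
  rw [← cancel_epi ((φ.app (i + 1)).app X), ← (φ.app (i + 1)).naturality, hu0, zero_comp, comp_zero]

theorem iso_le_mono_succ_iff (hT : T.IsEffaceable) (φ : T ⟶ T') (n : ℕ) :
    ((∀ i : ℕ, i ≤ n → IsIso (φ.app i)) ∧ Mono (φ.app (n + 1)) ↔
      (Mono (φ.app 0) ∧ ∀ i : ℕ, i ≤ n → Epi (φ.app i))) ∧
    ((∀ i : ℕ, i ≤ n → IsIso (φ.app i)) ∧ Mono (φ.app (n + 1)) ↔
      (IsIso (φ.app 0) ∧ ∀ i : ℕ, 0 < i → i ≤ n → ∀ X : A,
        ∃ (Y : A) (u : X ⟶ Y), Mono u ∧ (T'.F i).map u = 0)) := by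
  refine ⟨⟨fun ⟨h1, _⟩ => ⟨?_, fun i hi => ?_⟩, fun ⟨h0, he⟩ => ?_⟩,
    ⟨fun ⟨h1, _⟩ => ⟨h1 0 (Nat.zero_le _), ?_⟩, fun ⟨h0, he⟩ => ?_⟩⟩
  · haveI := h1 0 (Nat.zero_le _); infer_instance
  · haveI := h1 i hi; infer_instance
  · have key : ∀ i, i ≤ n → IsIso (φ.app i) := by
      intro i
      induction i with
      | zero =>
        intro _
        haveI := h0
        haveI := he 0 (Nat.zero_le _)
        exact isIso_of_mono_of_epi _
      | succ i ih =>
        intro hi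
        haveI := ih (Nat.le_of_succ_le hi)
        haveI := mono_app_succ hT φ i
        haveI := he (i + 1) hi
        exact isIso_of_mono_of_epi _
    haveI := key n le_rfl
    exact ⟨key, mono_app_succ hT φ n⟩
  · intro i hi0 hin X
    obtain ⟨k, rfl⟩ := Nat.exists_eq_succ_of_ne_zero hi0.ne'
    haveI := h1 (k + 1) hin
    exact effaceable_of_isIso hT φ k X
  · have key : ∀ i, i ≤ n → IsIso (φ.app i) := by
      intro i
      induction i with
      | zero => intro _; exact h0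
      | succ i ih =>
        intro hi
        haveI := ih (Nat.le_of_succ_le hi)
        haveI := mono_app_succ hT φ i
        haveI := epi_app_succ φ i (he (i + 1) (Nat.succ_pos _) hi)
        exact isIso_of_mono_of_epi _
    haveI := key n le_rfl
    exact ⟨key, mono_app_succ hT φ n⟩

end Groth.Agent.Lib.Helper4.DF
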