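import Groth.Prelude.Def_DiffOp

/-!
Basic algebra of differential operators defined through iterated commutators
(`Diff16.IsDiffOpLE`): zero, sums, monotonicity in the order, composition.
-/

namespace Groth.Agent.Lib.Helper4

open Diff16

universe u v

section Basic

variable {A B : Type u} [CommRing A] [CommRing B] [Algebra A B]
variable {M N P : Type v} [AddCommGroup M] [Module A M] [Module B M] [IsScalarTower A B M]
  [AddCommGroup N] [Module A N] [Module B N] [IsScalarTower A B N]
  [AddCommGroup P] [Module A P] [Module B P] [IsScalarTower A B P]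

@[simp] theorem commutator_apply (D : M →ₗ[A] N) (b : B) (m : M) :
    commutator A B M N D b m = D (b • m) - b • D m := by
  simp [commutator]

theorem isDiffOpLE_zero_iff (D : M →ₗ[A] N) :
    IsDiffOpLE A B M N 0 D ↔ ∀ (b : B) (m : M), D (b • m) = b • D m := Iff.rfl

theorem isDiffOpLE_succ_iff (n : ℕ) (D : M →ₗ[A] N) :
    IsDiffOpLE A B M N (n + 1) D ↔ ∀ b : B, IsDiffOpLE A B M N n (commutator A B M N D b) :=
  Iff.rfl

theorem commutator_zero (b : B) : commutator A B M N 0 b = 0 := by
  ext m; simp

theorem commutator_add (D D' : M →ₗ[A] N) (b : B) :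
    commutator A B M N (D + D') b = commutator A B M N D b + commutator A B M N D' b := by
  ext m; simp only [commutator_apply, LinearMap.add_apply, smul_add]; abel

theorem commutator_neg (D : M →ₗ[A] N) (b : B) :
    commutator A B M N (-D) b = -commutator A B M N D b := by
  ext m; simp only [commutator_apply, LinearMap.neg_apply, smul_neg]; abel

theorem commutator_sub (D D' : M →ₗ[A] N) (b : B) :
    commutator A B M N (D - D') b = commutator A B M N D b - commutator A B M N D' b := by
  ext m; simp only [commutator_apply, LinearMap.sub_apply, smul_sub]; abel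

theorem commutator_comp (D : M →ₗ[A] N) (D' : N →ₗ[A] P) (b : B) :
    commutator A B M P (D' ∘ₗ D) b =
      D' ∘ₗ commutator A B M N D b + commutator A B N P D' b ∘ₗ D := by
  ext m
  simp only [commutator_apply, LinearMap.comp_apply, LinearMap.add_apply, map_sub]
  abel

theorem isDiffOpLE_zero_map (n : ℕ) : IsDiffOpLE A B M N n (0 : M →ₗ[A] N) := by
  induction n with
  | zero => intro b m; simp
  | succ n ih => intro b; rw [commutator_zero]; exact ih

theorem isDiffOpLE_add {n : ℕ} {D D' : M →ₗ[A] N} (h : IsDiffOpLE A B M N n D)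
    (h' : IsDiffOpLE A B M N n D') : IsDiffOpLE A B M N n (D + D') := by
  induction n generalizing D D' with
  | zero =>
    intro b m
    have h1 := h b m
    have h2 := h' b m
    simp only [LinearMap.add_apply, h1, h2, smul_add]
  | succ n ih => intro b; rw [commutator_add]; exact ih (h b) (h' b)

theorem isDiffOpLE_neg {n : ℕ} {D : M →ₗ[A] N} (h : IsDiffOpLE A B M N n D) :
    IsDiffOpLE A B M N n (-D) := by
  induction n generalizing D with
  | zero =>
    intro b m
    have h1 := h b m
    simp only [LinearMap.neg_apply, h1, smul_neg]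
  | succ n ih => intro b; rw [commutator_neg]; exact ih (h b)

theorem isDiffOpLE_sub {n : ℕ} {D D' : M →ₗ[A] N} (h : IsDiffOpLE A B M N n D)
    (h' : IsDiffOpLE A B M N n D') : IsDiffOpLE A B M N n (D - D') := by
  rw [sub_eq_add_neg]; exact isDiffOpLE_add h (isDiffOpLE_neg h')

theorem commutator_eq_zero_of_isDiffOpLE_zero {D : M →ₗ[A] N} (h : IsDiffOpLE A B M N 0 D)
    (b : B) : commutator A B M N D b = 0 := by
  ext m
  have h1 := h b m
  simp [h1]

theorem isDiffOpLE_succ {n : ℕ} {D : M →ₗ[A] N} (h : IsDiffOpLE A B M N n D) :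
    IsDiffOpLE A B M N (n + 1) D := by
  induction n generalizing D with
  | zero =>
    intro b
    rw [commutator_eq_zero_of_isDiffOpLE_zero h]
    exact isDiffOpLE_zero_map 0
  | succ n ih => intro b; exact ih (h b)

theorem isDiffOpLE_mono {n k : ℕ} (hnk : n ≤ k) {D : M →ₗ[A] N} (h : IsDiffOpLE A B M N n D) :
    IsDiffOpLE A B M N k D := by
  induction k, hnk using Nat.le_induction with
  | base => exact h
  | succ k _ ih => exact isDiffOpLE_succ ih

theorem isDiffOpLE_comp_aux (s : ℕ) : ∀ (n n' : ℕ), n + n' = s → ∀ {D : M →ₗ[A] N} {D' : N →ₗ[A] P},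
    IsDiffOpLE A B M N n D → IsDiffOpLE A B N P n' D' →
    IsDiffOpLE A B M P s (D' ∘ₗ D) := by
  induction s with
  | zero =>
    intro n n' hs D D' hD hD'
    obtain ⟨rfl, rfl⟩ : n = 0 ∧ n' = 0 := by omega
    intro b m
    have h1 := hD b m
    have h2 := hD' b (D m)
    simp only [LinearMap.comp_apply, h1, h2]
  | succ s ih =>
    intro n n' hs D D' hD hD' b
    rw [commutator_comp]
    refine isDiffOpLE_add ?_ ?_
    · cases n with
      | zero =>
        rw [commutator_eq_zero_of_isDiffOpLE_zero hD, LinearMap.comp_zero]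
        exact isDiffOpLE_zero_map s
      | succ k => exact ih k n' (by omega) (hD b) hD'
    · cases n' with
      | zero =>
        rw [commutator_eq_zero_of_isDiffOpLE_zero hD', LinearMap.zero_comp]
        exact isDiffOpLE_zero_map s
      | succ k => exact ih n k (by omega) hD (hD' b)

theorem isDiffOpLE_comp {n n' : ℕ} {D : M →ₗ[A] N} {D' : N →ₗ[A] P}
    (hD : IsDiffOpLE A B M N n D) (hD' : IsDiffOpLE A B N P n' D') :
    IsDiffOpLE A B M P (n + n') (D' ∘ₗ D) :=
  isDiffOpLE_comp_aux (n + n') n n' rfl hD hD'

/-- Multiplication by a scalar of `B`, as an `A`-linear map. -/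
noncomputable abbrev lsmulA (A : Type u) {B : Type u} [CommRing A] [CommRing B] [Algebra A B]
    (M : Type v) [AddCommGroup M] [Module A M] [Module B M] [IsScalarTower A B M] (b : B) :
    M →ₗ[A] M :=
  (LinearMap.lsmul B M b).restrictScalars A

theorem isDiffOpLE_lsmulA (b : B) : IsDiffOpLE A B M M 0 (lsmulA A M b) := by
  intro c m
  simp

theorem commutator_algebraMap (D : M →ₗ[A] N) (a : A) :
    commutator A B M N D (algebraMap A B a) = 0 := by
  ext m
  simp only [commutator_apply, algebraMap_smul, map_smul, sub_self, LinearMap.zero_apply]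

theorem commutator_add_right (D : M →ₗ[A] N) (b b' : B) :
    commutator A B M N D (b + b') = commutator A B M N D b + commutator A B M N D b' := by
  ext m
  simp only [commutator_apply, add_smul, map_add, LinearMap.add_apply]
  abel

theorem commutator_mul (D : M →ₗ[A] N) (b b' : B) :
    commutator A B M N D (b * b') =
      commutator A B M N D b ∘ₗ lsmulA A M b' + lsmulA A N b ∘ₗ commutator A B M N D b' := by
  ext m
  simp only [commutator_apply, mul_smul, LinearMap.add_apply, LinearMap.comp_apply,
    LinearMap.restrictScalars_apply, LinearMap.lsmul_apply, smul_sub]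
  abel

theorem isDiffOpLE_comp_lsmulA {n : ℕ} {D : M →ₗ[A] N} (hD : IsDiffOpLE A B M N n D) (b : B) :
    IsDiffOpLE A B M N n (D ∘ₗ lsmulA A M b) := by
  have := isDiffOpLE_comp (isDiffOpLE_lsmulA (A := A) (M := M) b) hD
  rwa [Nat.zero_add] at this

theorem isDiffOpLE_lsmulA_comp {n : ℕ} {D : M →ₗ[A] N} (hD : IsDiffOpLE A B M N n D) (b : B) :
    IsDiffOpLE A B M N n (lsmulA A N b ∘ₗ D) :=
  isDiffOpLE_comp hD (isDiffOpLE_lsmulA (A := A) (M := N) b)

/-- If the commutators of `D` with a generating set of the algebra have order at most `n`,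
then `D` has order at most `n + 1`. -/
theorem isDiffOpLE_succ_of_generators (s : Set B) (hs : Algebra.adjoin A s = ⊤) (n : ℕ)
    (D : M →ₗ[A] N) (hD : ∀ g ∈ s, IsDiffOpLE A B M N n (commutator A B M N D g)) :
    IsDiffOpLE A B M N (n + 1) D := by
  intro b
  have hb : b ∈ Algebra.adjoin A s := hs ▸ Algebra.mem_top
  induction hb using Algebra.adjoin_induction with
  | mem x hx => exact hD x hx
  | algebraMap r => rw [commutator_algebraMap]; exact isDiffOpLE_zero_map n
  | add x y _ _ hx hy => rw [commutator_add_right]; exact isDiffOpLE_add hx hy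
  | mul x y _ _ hx hy =>
    rw [commutator_mul]
    exact isDiffOpLE_add (isDiffOpLE_comp_lsmulA hx y) (isDiffOpLE_lsmulA_comp hy x)

end Basic

end Groth.Agent.Lib.Helper4
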