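import Groth.Agent.Lib.Helper4DiffOpAlt
import Mathlib.RingTheory.TensorProduct.Basic
import Mathlib.LinearAlgebra.Quotient.Basic
import Mathlib.LinearAlgebra.TensorProduct.Tower

/-!
The universal differential operator of order at most `k` out of a module `M`:
the quotient of `B ⊗[A] M` by the `B`-submodule spanned by the alternating-sum elements.
-/

namespace Groth.Agent.Lib.Helper4

open Diff16
open scoped BigOperators TensorProduct

universe u

section Univ

variable (A B : Type u) [CommRing A] [CommRing B] [Algebra A B]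
variable (M : Type u) [AddCommGroup M] [Module A M] [Module B M] [IsScalarTower A B M]

/-- The alternating-sum element of `B ⊗[A] M` attached to `b : Fin (k+1) → B` and `t : M`. -/
noncomputable def genElt (k : ℕ) (b : Fin (k + 1) → B) (t : M) : B ⊗[A] M :=
  ∑ H ∈ (Finset.univ : Finset (Fin (k + 1))).powerset,
    ((-1 : ℤ) ^ H.card) • ((∏ i ∈ H, b i) ⊗ₜ[A] ((∏ i ∈ Finset.univ \ H, b i) • t))

/-- The `B`-submodule of `B ⊗[A] M` spanned by the alternating-sum elements. -/
noncomputable def ppKer (k : ℕ) : Submodule B (B ⊗[A] M) :=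
  Submodule.span B (Set.range fun p : (Fin (k + 1) → B) × M => genElt A B M k p.1 p.2)

/-- The module of principal parts of order `k` of `M`. -/
abbrev PPMod (k : ℕ) : Type u := (B ⊗[A] M) ⧸ ppKer A B M k

/-- The universal differential operator `m ↦ [1 ⊗ m]`. -/
noncomputable def ppD (k : ℕ) : M →ₗ[A] PPMod A B M k :=
  ((ppKer A B M k).mkQ.restrictScalars A) ∘ₗ (TensorProduct.mk A B M 1)

variable {A B M}

theorem ppD_apply (k : ℕ) (m : M) :
    ppD A B M k m = (ppKer A B M k).mkQ ((1 : B) ⊗ₜ[A] m) := rfl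

theorem smul_ppD (k : ℕ) (c : B) (m : M) :
    c • ppD A B M k m = (ppKer A B M k).mkQ (c ⊗ₜ[A] m) := by
  rw [ppD_apply, ← map_smul, TensorProduct.smul_tmul', smul_eq_mul, mul_one]

variable {N : Type u} [AddCommGroup N] [Module A N] [Module B N] [IsScalarTower A B N]

theorem liftBaseChange_genElt (k : ℕ) (D : M →ₗ[A] N) (b : Fin (k + 1) → B) (t : M) :
    D.liftBaseChange B (genElt A B M k b t) = altSum Finset.univ b D t := by
  unfold genElt altSum
  rw [map_sum]
  refine Finset.sum_congr rfl fun H _ => ?_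
  rw [map_zsmul, LinearMap.liftBaseChange_tmul]

theorem isDiffOpLE_ppD (k : ℕ) : IsDiffOpLE A B M (PPMod A B M k) k (ppD A B M k) := by
  rw [isDiffOpLE_iff_altSum_fin]
  intro b t
  have h : altSum Finset.univ b (ppD A B M k) t = (ppKer A B M k).mkQ (genElt A B M k b t) := by
    unfold genElt altSum
    rw [map_sum]
    refine Finset.sum_congr rfl fun H _ => ?_
    rw [map_zsmul, smul_ppD]
  rw [h]
  exact (Submodule.Quotient.mk_eq_zero _).mpr (Submodule.subset_span ⟨(b, t), rfl⟩)

theorem ppKer_le_ker_liftBaseChange (k : ℕ) (D : M →ₗ[A] N) (hD : IsDiffOpLE A B M N k D) :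
    ppKer A B M k ≤ LinearMap.ker (D.liftBaseChange B) := by
  unfold ppKer
  rw [Submodule.span_le]
  rintro _ ⟨⟨b, t⟩, rfl⟩
  change D.liftBaseChange B (genElt A B M k b t) = 0
  rw [liftBaseChange_genElt]
  exact (isDiffOpLE_iff_altSum_fin k D).mp hD b t

/-- The `B`-linear map out of principal parts attached to a differential operator. -/
noncomputable def ppLift (k : ℕ) (D : M →ₗ[A] N) (hD : IsDiffOpLE A B M N k D) :
    PPMod A B M k →ₗ[B] N :=
  (ppKer A B M k).liftQ (D.liftBaseChange B) (ppKer_le_ker_liftBaseChange k D hD)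

theorem ppLift_comp_ppD (k : ℕ) (D : M →ₗ[A] N) (hD : IsDiffOpLE A B M N k D) :
    (ppLift k D hD).restrictScalars A ∘ₗ ppD A B M k = D := by
  ext m
  simp [ppLift, ppD_apply]

theorem ppLift_unique (k : ℕ) {α β : PPMod A B M k →ₗ[B] N}
    (h : α.restrictScalars A ∘ₗ ppD A B M k = β.restrictScalars A ∘ₗ ppD A B M k) : α = β := by
  apply Submodule.linearMap_qext
  apply TensorProduct.AlgebraTensorModule.ext
  intro c m
  have h1 := LinearMap.congr_fun h m
  simp only [LinearMap.comp_apply, LinearMap.restrictScalars_apply] at h1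
  have h2 : (ppKer A B M k).mkQ (c ⊗ₜ[A] m) = c • ppD A B M k m := (smul_ppD k c m).symm
  simp only [LinearMap.comp_apply]
  rw [h2, map_smul, map_smul, h1]

theorem ppD_universal (k : ℕ) (D : M →ₗ[A] N) (hD : IsDiffOpLE A B M N k D) :
    ∃! α : PPMod A B M k →ₗ[B] N, α.restrictScalars A ∘ₗ ppD A B M k = D :=
  ⟨ppLift k D hD, ppLift_comp_ppD k D hD, fun β hβ =>
    ppLift_unique k (hβ.trans (ppLift_comp_ppD k D hD).symm)⟩

end Univ

end Groth.Agent.Lib.Helper4
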