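import Mathlib
import Groth.Agent.Lib.Helper4DimFormulaN

/-!
# Ratliff-type criterion for the dimension formula with equality (helper4)

`height_add_trdeg_eq_of_catenary_subalgebras`: `R` Noetherian local domain, `S` a finite type
domain over `R`, `q` over the maximal ideal; if the localizations at maximal ideals over `m_R` of
finitely generated `R`-subalgebras of `S[T]` are catenary, then the dimension formula holds with
equality.
-/

set_option autoImplicit false
set_option linter.style.haveILetI false

universe u

namespace Groth.Agent.Lib.Helper4.DimFormula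

open Polynomial

section

variable (R : Type u) [CommRing R] [IsDomain R] [IsNoetherianRing R]
  (S : Type u) [CommRing S] [IsDomain S] [Algebra R S]

/-- Key step: local catenarity of `R'[X]` from the hypothesis on subalgebras of `S[X]`. -/
theorem catBelow_polynomial_of_subalgebras (m : Ideal R) [m.IsMaximal]
    (hcat : ∀ A' : Subalgebra R (Polynomial S), A'.FG →
      ∀ (m' : Ideal A') [m'.IsMaximal], m'.LiesOver m →
        CAlg.IsCatenary (Localization.AtPrime m'))
    (R' : Type u) [CommRing R'] [Algebra R' S] [FaithfulSMul R' S] (p' : Ideal R')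
    (j : R →+* R') (hj1 : (algebraMap R' S).comp j = algebraMap R S) (hj2 : j.FiniteType)
    (hj3 : p'.comap j = m) (Q : Ideal R'[X]) [Q.IsPrime] [Q.LiesOver p'] :
    CatBelow R'[X] Q := by
  letI : Algebra R R' := j.toAlgebra
  haveI : Algebra.FiniteType R R' := hj2
  haveI : IsScalarTower R R' S := IsScalarTower.of_algebraMap_eq fun r => by
    have := congrFun (congrArg DFunLike.coe hj1) r
    exact this.symm
  let ι : R'[X] →ₐ[R] S[X] := Polynomial.mapAlgHom (IsScalarTower.toAlgHom R R' S)
  have hι : Function.Injective ι := by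
    have : (ι : R'[X] → S[X]) = Polynomial.map (algebraMap R' S) := by
      ext f : 1
      rfl
    rw [this]
    exact Polynomial.map_injective _ (FaithfulSMul.algebraMap_injective R' S)
  let A' : Subalgebra R S[X] := ι.range
  have hFG : A'.FG := by
    have h1 : (⊤ : Subalgebra R R'[X]).FG := (Algebra.FiniteType.trans
      (inferInstance : Algebra.FiniteType R R') (inferInstance : Algebra.FiniteType R' R'[X])).out
    have h2 := h1.map ι
    rwa [Algebra.map_top] at h2
  let e : R'[X] ≃ₐ[R] A' := AlgEquiv.ofInjective ι hι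
  obtain ⟨M, hM, hQM⟩ := Ideal.exists_le_maximal Q (Ideal.IsPrime.ne_top inferInstance)
  haveI := hM
  let m' : Ideal A' := M.map (e : R'[X] →+* A')
  haveI hm' : m'.IsMaximal := Ideal.map_isMaximal_of_equiv e.toRingEquiv
  have hlies : m'.LiesOver m := by
    refine ⟨?_⟩
    have hle : m ≤ m'.under R := by
      intro r hr
      rw [Ideal.under_def, Ideal.mem_comap]
      have h1 : algebraMap R A' r = e (algebraMap R R'[X] r) := (e.commutes r).symm
      rw [h1]
      refine Ideal.mem_map_of_mem _ (hQM ?_)
      have h2 : algebraMap R R'[X] r = C (j r) := rfl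
      rw [h2]
      have h3 : j r ∈ p' := by
        rw [← hj3] at hr
        exact hr
      rw [Ideal.LiesOver.over (p := p') (P := Q)] at h3
      exact h3
    have hne : m'.under R ≠ ⊤ := by
      intro htop
      have : (1 : R) ∈ m'.under R := htop ▸ Submodule.mem_top
      rw [Ideal.under_def, Ideal.mem_comap, map_one] at this
      exact hm'.ne_top ((Ideal.eq_top_iff_one _).mpr this)
    exact (Ideal.IsMaximal.eq_of_le inferInstance hne hle)
  have h1 := hcat A' hFG m' hlies
  have h2 : CatBelow A' m' := catBelow_of_isCatenary_localization m' h1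
  exact (CatBelow.of_ringEquiv e.toRingEquiv M h2).mono hQM

variable [FaithfulSMul R S] [Algebra.FiniteType R S]

theorem height_add_trdeg_eq_of_catenary_subalgebras (m : Ideal R) [m.IsMaximal]
    (q : Ideal S) [q.IsPrime] [q.LiesOver m]
    (hcat : ∀ A' : Subalgebra R (Polynomial S), A'.FG →
      ∀ (m' : Ideal A') [m'.IsMaximal], m'.LiesOver m →
        CAlg.IsCatenary (Localization.AtPrime m')) :
    (q.height : Cardinal.{u}) + Algebra.trdeg (R ⧸ m) (S ⧸ q) =
      (m.height : Cardinal.{u}) + Algebra.trdeg R S := by
  refine height_add_trdeg_eq_of_pred' S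
    (fun R' _ _ p' => ∃ j : R →+* R', (algebraMap R' S).comp j = algebraMap R S ∧
      j.FiniteType ∧ p'.comap j = m) ?_ ?_ R m q
      ⟨RingHom.id R, RingHom.comp_id _, RingHom.FiniteType.id R, Ideal.comap_id m⟩
  · intro R' _ _ _ _ _ p' _ ⟨j, hj1, hj2, hj3⟩ Q _ _
    exact catBelow_polynomial_of_subalgebras R S m hcat R' p' j hj1 hj2 hj3 Q
  · intro R' _ _ _ _ _ p' _ ⟨j, hj1, hj2, hj3⟩ x p'' _ _
    refine ⟨(algebraMap R' (Algebra.adjoin R' ({x} : Set S))).comp j, ?_, ?_, ?_⟩
    · rw [← RingHom.comp_assoc, ← IsScalarTower.algebraMap_eq, hj1]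
    · refine RingHom.FiniteType.comp ?_ hj2
      have : Algebra.FiniteType R' (Algebra.adjoin R' ({x} : Set S)) := by
        rw [← Subalgebra.fg_iff_finiteType]
        have := Subalgebra.fg_adjoin_finset (R := R') ({x} : Finset S)
        rwa [Finset.coe_singleton] at this
      exact RingHom.finiteType_algebraMap.mpr this
    · rw [← Ideal.comap_comap, ← Ideal.under_def, ← Ideal.LiesOver.over (p := p') (P := p''), hj3]

end

end Groth.Agent.Lib.Helper4.DimFormula
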