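import Mathlib
import Groth.Prelude.Def_Cyc
import Groth.Agent.Lib.Helper4DimFormulaQ
import Groth.Agent.Lib.Helper4DimFormulaN

/-!
# `s ↦ -dim O_{S,s}` is a dimension function when the local rings are catenary domains (helper4)

* `height_eq_succ_of_covBy_of_isCatenary`: in a catenary Noetherian domain heights jump by one along
  covering pairs of primes.
* `covBy_map_of_isLocalization`: covering pairs of primes disjoint from `M` stay covering in `M⁻¹A`.
* `isDimFun_neg_stalkDim`.
-/

set_option autoImplicit false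
set_option linter.style.haveILetI false

universe u

open AlgebraicGeometry CategoryTheory TopologicalSpace

namespace Groth.Agent.Lib.Helper4.DimFormula

open Groth.Agent.Lib.Helper4.VarDim

theorem height_eq_succ_of_covBy_of_isCatenary {D : Type u} [CommRing D] [IsDomain D]
    [IsNoetherianRing D] (hD : CAlg.IsCatenary D) {p q : PrimeSpectrum D} (h : p ⋖ q) :
    q.asIdeal.height = p.asIdeal.height + 1 := by
  let t : LTSeries (PrimeSpectrum D) := (RelSeries.singleton _ p).snoc q h.1
  have hlen : t.length = 1 := rfl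
  have hhead : t.head = p := (RelSeries.head_snoc _ _ _).trans (RelSeries.head_singleton _)
  have hlast : t.last = q := RelSeries.last_snoc _ _ _
  have := height_add_length_eq hD t (by
    intro i
    have hi : i = ⟨0, by omega⟩ := by ext; have := i.2; omega
    subst hi
    have h0 : t (Fin.castSucc ⟨0, by omega⟩) = p := hhead
    have h1 : t (Fin.succ ⟨0, by omega⟩) = q := hlast
    rw [h0, h1]
    exact h)
  rw [hhead, hlast, hlen] at this
  rw [← this]
  rfl

theorem covBy_map_of_isLocalization {A : Type*} [CommRing A] (M : Submonoid A) (D : Type*)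
    [CommRing D] [Algebra A D] [IsLocalization M D] (P P' : PrimeSpectrum A)
    (hP : Disjoint (M : Set A) (P.asIdeal : Set A))
    (hP' : Disjoint (M : Set A) (P'.asIdeal : Set A)) (h : P ⋖ P') :
    (⟨P.asIdeal.map (algebraMap A D), IsLocalization.isPrime_of_isPrime_disjoint M D _ P.2 hP⟩ :
      PrimeSpectrum D) ⋖
    ⟨P'.asIdeal.map (algebraMap A D), IsLocalization.isPrime_of_isPrime_disjoint M D _ P'.2 hP'⟩ := by
  have c1 := IsLocalization.under_map_of_isPrime_disjoint M D P.2 hP
  have c2 := IsLocalization.under_map_of_isPrime_disjoint M D P'.2 hP'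
  constructor
  · refine lt_of_le_of_ne ?_ ?_
    · exact Ideal.map_mono h.1.le
    · intro heq
      have h3 : P.asIdeal.map (algebraMap A D) = P'.asIdeal.map (algebraMap A D) :=
        congrArg PrimeSpectrum.asIdeal heq
      have : P.asIdeal = P'.asIdeal := by rw [← c1, ← c2, h3]
      exact h.1.ne (PrimeSpectrum.ext this)
  · intro q hq1 hq2
    have hq1' : P.asIdeal.map (algebraMap A D) ≤ q.asIdeal := hq1.le
    have hq2' : q.asIdeal ≤ P'.asIdeal.map (algebraMap A D) := hq2.le
    let Q : PrimeSpectrum A := ⟨q.asIdeal.comap (algebraMap A D), inferInstance⟩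
    have hmc : (q.asIdeal.comap (algebraMap A D)).map (algebraMap A D) = q.asIdeal :=
      IsLocalization.map_under M D q.asIdeal
    have hPQ : P ≤ Q := by
      show P.asIdeal ≤ q.asIdeal.comap (algebraMap A D)
      rw [← c1]
      exact Ideal.comap_mono hq1'
    have hQP' : Q ≤ P' := by
      show q.asIdeal.comap (algebraMap A D) ≤ P'.asIdeal
      rw [← c2]
      exact Ideal.comap_mono hq2'
    rcases eq_or_lt_of_le hPQ with e | e
    · have e0 : P.asIdeal = q.asIdeal.comap (algebraMap A D) := congrArg PrimeSpectrum.asIdeal e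
      exact hq1.ne (PrimeSpectrum.ext
        (show P.asIdeal.map (algebraMap A D) = q.asIdeal by rw [e0, hmc]))
    · rcases eq_or_lt_of_le hQP' with e' | e'
      · have e0 : q.asIdeal.comap (algebraMap A D) = P'.asIdeal :=
          congrArg PrimeSpectrum.asIdeal e'
        exact hq2.ne (PrimeSpectrum.ext
          (show q.asIdeal = P'.asIdeal.map (algebraMap A D) by rw [← e0, hmc]))
      · exact h.2 e e'

/-- On a locally Noetherian scheme whose local rings are catenary domains, `s ↦ -dim O_{S,s}` is a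
dimension function. -/
theorem isDimFun_neg_stalkDim {S : Scheme.{u}} [IsLocallyNoetherian S]
    (hdom : ∀ s : S, IsDomain (S.presheaf.stalk s))
    (hcat : ∀ s : S, CAlg.IsCatenary (S.presheaf.stalk s))
    (δS : S → ℤ)
    (hδS : ∀ s : S, ringKrullDim (S.presheaf.stalk s) = ((-δS s).toNat : WithBot ℕ∞) ∧ δS s ≤ 0) :
    Cyc.IsDimFun S δS := by
  intro x y hxy hne
  obtain ⟨V, hV, hyV, -⟩ := exists_isAffineOpen_mem_and_subset (U := ⊤) (x := y) (by simp)
  have hxV : x ∈ V := hxy.mem_open V.2 hyV
  haveI : IsNoetherianRing Γ(S, V) := IsLocallyNoetherian.component_noetherian ⟨V, hV⟩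
  have hle : (hV.primeIdealOf ⟨x, hxV⟩).asIdeal ≤ (hV.primeIdealOf ⟨y, hyV⟩).asIdeal :=
    (primeIdealOf_le_iff hV x y hxV hyV).mpr hxy
  have hPne : hV.primeIdealOf ⟨x, hxV⟩ ≠ hV.primeIdealOf ⟨y, hyV⟩ := by
    intro heq
    apply hne
    have h1 := hV.fromSpec_primeIdealOf ⟨x, hxV⟩
    have h2 := hV.fromSpec_primeIdealOf ⟨y, hyV⟩
    rw [heq] at h1
    exact h1.symm.trans h2
  have hlt : hV.primeIdealOf ⟨x, hxV⟩ < hV.primeIdealOf ⟨y, hyV⟩ := lt_of_le_of_ne hle hPne
  have hx := ringKrullDim_stalk_eq_height hV x hxV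
  have hy := ringKrullDim_stalk_eq_height hV y hyV
  rw [(hδS x).1] at hx
  rw [(hδS y).1] at hy
  have hx' : (((-δS x).toNat : ℕ) : ℕ∞) = (hV.primeIdealOf ⟨x, hxV⟩).asIdeal.height := by
    exact_mod_cast hx
  have hy' : (((-δS y).toNat : ℕ) : ℕ∞) = (hV.primeIdealOf ⟨y, hyV⟩).asIdeal.height := by
    exact_mod_cast hy
  have h0x := (hδS x).2
  have h0y := (hδS y).2
  constructor
  · have hht : (hV.primeIdealOf ⟨x, hxV⟩).asIdeal.height <
        (hV.primeIdealOf ⟨y, hyV⟩).asIdeal.height :=
      Ideal.height_strict_mono_of_isPrime (lt_of_le_of_ne hle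
        (fun h => hPne (PrimeSpectrum.ext h)))
    rw [← hx', ← hy'] at hht
    have : (-δS x).toNat < (-δS y).toNat := by exact_mod_cast hht
    omega
  · intro himm
    have hcov : hV.primeIdealOf ⟨x, hxV⟩ ⋖ hV.primeIdealOf ⟨y, hyV⟩ := by
      refine ⟨hlt, fun Q hQ1 hQ2 => ?_⟩
      have hQV := fromSpec_mem hV Q
      have e1 : x ⤳ hV.fromSpec Q := by
        rw [← primeIdealOf_le_iff hV _ _ hxV hQV, primeIdealOf_fromSpec hV Q hQV]
        exact hQ1.le
      have e2 : hV.fromSpec Q ⤳ y := by
        rw [← primeIdealOf_le_iff hV _ _ hQV hyV, primeIdealOf_fromSpec hV Q hQV]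
        exact hQ2.le
      rcases himm _ e1 e2 with e | e
      · apply hQ1.ne
        have := primeIdealOf_fromSpec hV Q hQV
        rw [← this]
        congr 1
        exact Subtype.ext e.symm
      · apply hQ2.ne
        have := primeIdealOf_fromSpec hV Q hQV
        rw [← this]
        congr 1
        exact Subtype.ext e
    haveI := hV.isLocalization_stalk ⟨y, hyV⟩
    letI := S.presheaf.algebra_section_stalk (U := V) ⟨y, hyV⟩
    haveI := hdom y
    have hd1 : Disjoint ((hV.primeIdealOf ⟨y, hyV⟩).asIdeal.primeCompl : Set Γ(S, V))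
        ((hV.primeIdealOf ⟨x, hxV⟩).asIdeal : Set Γ(S, V)) := by
      rw [Set.disjoint_left]
      intro a ha ha'
      exact ha (hle ha')
    have hd2 : Disjoint ((hV.primeIdealOf ⟨y, hyV⟩).asIdeal.primeCompl : Set Γ(S, V))
        ((hV.primeIdealOf ⟨y, hyV⟩).asIdeal : Set Γ(S, V)) := by
      rw [Set.disjoint_left]
      intro a ha ha'
      exact ha ha'
    have hcov' := covBy_map_of_isLocalization (hV.primeIdealOf ⟨y, hyV⟩).asIdeal.primeCompl
      (S.presheaf.stalk y) _ _ hd1 hd2 hcov
    have hstep := height_eq_succ_of_covBy_of_isCatenary (hcat y) hcov'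
    simp only at hstep
    rw [IsLocalization.height_map_of_disjoint _ _ hd1,
      IsLocalization.height_map_of_disjoint _ _ hd2, ← hx', ← hy'] at hstep
    have : (-δS y).toNat = (-δS x).toNat + 1 := by exact_mod_cast hstep
    omega

end Groth.Agent.Lib.Helper4.DimFormula
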