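import Mathlib
import Groth.Prelude.Def_Cyc
import Groth.Agent.Lib.Helper4DimFormulaQ
import Groth.Agent.Lib.Helper4DimFormulaV

/-!
# Dimension functions on integral schemes (helper4)

* `isDimFun_genericPoint_eq_add_stalkDim`: on an integral locally Noetherian scheme with dimension
  function `δ`, `δ η = δ ξ + dim O_{X,ξ}`.
* `ringKrullDim_eq_one_of_quotient_span_singleton`: Krull's Hauptidealsatz form.
-/

set_option autoImplicit false
set_option linter.style.haveILetI false

universe u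

open AlgebraicGeometry CategoryTheory TopologicalSpace

namespace Groth.Agent.Lib.Helper4.DimFormula

open Groth.Agent.Lib.Helper4.VarDim

theorem isDimFun_genericPoint_eq_add_stalkDim (X : Scheme.{u}) [IsIntegral X]
    [IsLocallyNoetherian X] (δ : X → ℤ) (hδ : Cyc.IsDimFun X δ) (ξ : X) :
    ∃ k : ℕ, ringKrullDim (X.presheaf.stalk ξ) = k ∧ δ (genericPoint X) = δ ξ + k := by
  obtain ⟨V, hV, hξV, -⟩ := exists_isAffineOpen_mem_and_subset (U := ⊤) (x := ξ) (by simp)
  have hη := genericPoint_specializes ξ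
  have hηV : genericPoint X ∈ V := hη.mem_open V.2 hξV
  haveI : IsNoetherianRing Γ(X, V) := IsLocallyNoetherian.component_noetherian ⟨V, hV⟩
  haveI : Nonempty V := ⟨⟨ξ, hξV⟩⟩
  haveI : IsDomain Γ(X, V) := inferInstance
  have hbot : (⊥ : Ideal Γ(X, V)) = (hV.primeIdealOf ⟨genericPoint X, hηV⟩).asIdeal := by
    symm
    rw [eq_bot_iff]
    have hz := fromSpec_mem hV ⟨⊥, Ideal.isPrime_bot⟩
    have h1 := (primeIdealOf_le_iff hV (genericPoint X) _ hηV hz).mpr (genericPoint_specializes _)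
    rw [primeIdealOf_fromSpec hV _ hz] at h1
    exact h1
  obtain ⟨k, hk, hδk⟩ := isDimFun_eq_add_height hV δ hδ (genericPoint X) ξ hηV hξV ⊥
    (hV.primeIdealOf ⟨ξ, hξV⟩).asIdeal hbot rfl bot_le
  refine ⟨k, ?_, hδk⟩
  rw [ringKrullDim_stalk_eq_height hV ξ hξV, ← height_map_mk_bot, ← hk]
  rfl

theorem ringKrullDim_eq_one_of_quotient_span_singleton (R : Type*) [CommRing R] [IsDomain R]
    [IsNoetherianRing R] [IsLocalRing R] (g : R) (hg0 : g ≠ 0)
    (hgm : g ∈ IsLocalRing.maximalIdeal R)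
    (hdim : ringKrullDim (R ⧸ Ideal.span {g}) = 0) : ringKrullDim R = 1 := by
  have h0 : Ring.KrullDimLE 0 (R ⧸ Ideal.span {g}) := Ring.krullDimLE_iff.mpr (by rw [hdim]; rfl)
  rw [Ideal.krullDimLE_zero_quotient_iff_forall_minimalPrimes_isMaximal] at h0
  have hne : Ideal.span {g} ≠ ⊤ := by
    intro h
    have : IsLocalRing.maximalIdeal R = ⊤ := by
      rw [eq_top_iff, ← h, Ideal.span_singleton_le_iff_mem]
      exact hgm
    exact (IsLocalRing.maximalIdeal.isMaximal R).ne_top this
  obtain ⟨J, hJ⟩ := Ideal.nonempty_minimalPrimes hne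
  have hJmax := h0 J hJ
  have hJm : J = IsLocalRing.maximalIdeal R := IsLocalRing.eq_maximalIdeal hJmax
  rw [hJm] at hJ
  have h1 := Ideal.height_le_one_of_isPrincipal_of_mem_minimalPrimes (Ideal.span {g})
    (IsLocalRing.maximalIdeal R) hJ
  have h2 : 1 ≤ (IsLocalRing.maximalIdeal R).height := by
    apply one_le_height_of_ne_bot
    intro hbot
    rw [hbot] at hgm
    exact hg0 (by simpa using hgm)
  rw [← IsLocalRing.maximalIdeal_height_eq_ringKrullDim, le_antisymm h1 h2]
  rfl

end Groth.Agent.Lib.Helper4.DimFormula
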