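import Mathlib
import Groth.Prelude.Def_Cyc
import Groth.Agent.Lib.Helper4DimFormulaY
import Groth.Agent.Lib.Helper7Dim

/-!
# Dimension functions on Jacobson schemes (helper4)

* `le_topologicalKrullDim_closure`: `ht (p_z / P_ξ) ≤ dim closure {ξ}` in an affine chart.
* `topologicalKrullDim_closure_eq_of_jacobson`: Stacks 02QO-type statement `δ ξ = dim closure {ξ}` when
  `δ` vanishes on closed points of a Jacobson scheme.
-/

set_option autoImplicit false
set_option linter.style.haveILetI false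

universe u

open AlgebraicGeometry CategoryTheory TopologicalSpace

namespace Groth.Agent.Lib.Helper4.DimFormula

open Groth.Agent.Lib.Helper4.VarDim

theorem natCast_le_krullDim_of_chain {α : Type*} [Preorder α] (n : ℕ) (f : Fin (n + 1) → α)
    (hf : ∀ i : Fin n, f i.castSucc < f i.succ) : (n : WithBot ℕ∞) ≤ Order.krullDim α :=
  Order.le_krullDim_iff.mpr ⟨⟨n, f, hf⟩, rfl⟩

theorem le_topologicalKrullDim_closure {X : Scheme.{u}} {V : X.Opens} (hV : IsAffineOpen V)
    [IsNoetherianRing Γ(X, V)] (ξ z : X) (hξV : ξ ∈ V) (hzV : z ∈ V) (h : ξ ⤳ z) (k : ℕ)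
    (hk : (k : ℕ∞) = ((hV.primeIdealOf ⟨z, hzV⟩).asIdeal.map
      (Ideal.Quotient.mk (hV.primeIdealOf ⟨ξ, hξV⟩).asIdeal)).height) :
    (k : WithBot ℕ∞) ≤ topologicalKrullDim ↥(closure ({ξ} : Set X)) := by
  haveI : QuasiSober ↥(closure ({ξ} : Set X)) :=
    quasiSober_of_isLocallyClosed _ isClosed_closure.isLocallyClosed
  set P := (hV.primeIdealOf ⟨ξ, hξV⟩).asIdeal with hP
  set p := (hV.primeIdealOf ⟨z, hzV⟩).asIdeal with hp
  have hle : P ≤ p := (primeIdealOf_le_iff hV ξ z hξV hzV).mpr h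
  haveI : (p.map (Ideal.Quotient.mk P)).IsPrime := Ideal.isPrime_map_quotientMk_of_isPrime hle
  obtain ⟨l, hl, hlen⟩ := Ideal.exists_ltSeries_length_eq_height (p.map (Ideal.Quotient.mk P))
  have hlk : l.length = k := by
    rw [← hk] at hlen
    exact_mod_cast hlen
  let l' : LTSeries (PrimeSpectrum Γ(X, V)) :=
    l.map (PrimeSpectrum.comap (Ideal.Quotient.mk P))
      (RingHom.strictMono_comap_of_surjective Ideal.Quotient.mk_surjective)
  have hl'k : l'.length = k := hlk
  have hmemP : ∀ i, P ≤ (l' i).asIdeal := by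
    intro i a ha
    change Ideal.Quotient.mk P a ∈ (l i).asIdeal
    rw [Ideal.Quotient.eq_zero_iff_mem.mpr ha]
    exact Ideal.zero_mem _
  have hmem : ∀ i, hV.fromSpec (l' i) ∈ closure ({ξ} : Set X) := by
    intro i
    rw [← specializes_iff_mem_closure]
    have hiV := fromSpec_mem hV (l' i)
    rw [← primeIdealOf_le_iff hV ξ _ hξV hiV, primeIdealOf_fromSpec hV _ hiV]
    exact hmemP i
  rw [Groth.Agent.Lib.Helper7.topologicalKrullDim_eq_krullDim_points, ← hl'k]
  refine @natCast_le_krullDim_of_chain ↥(closure ({ξ} : Set X))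
    (specializationOrder ↥(closure ({ξ} : Set X))).toPreorder l'.length
    (fun i => ⟨hV.fromSpec (l' (Fin.rev i)), hmem _⟩) (fun i => ?_)
  refine (@Groth.Agent.Lib.Helper7.specializationOrder_lt_iff ↥(closure ({ξ} : Set X)) _ _ _ _).mpr
    ?_
  have hstep : l' (Fin.rev i.succ) < l' (Fin.rev i.castSucc) := by
    rw [Fin.rev_succ, Fin.rev_castSucc]
    exact l'.step (Fin.rev i)
  constructor
  · refine Topology.IsInducing.subtypeVal.specializes_iff.mp ?_
    change hV.fromSpec (l' (Fin.rev i.succ)) ⤳ hV.fromSpec (l' (Fin.rev i.castSucc))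
    have h1 := fromSpec_mem hV (l' (Fin.rev i.succ))
    have h2 := fromSpec_mem hV (l' (Fin.rev i.castSucc))
    rw [← primeIdealOf_le_iff hV _ _ h1 h2, primeIdealOf_fromSpec hV _ h1,
      primeIdealOf_fromSpec hV _ h2]
    exact hstep.le
  · intro heq
    have h3 : hV.fromSpec (l' (Fin.rev i.castSucc)) = hV.fromSpec (l' (Fin.rev i.succ)) :=
      Subtype.mk.inj heq
    exact hstep.ne (hV.fromSpec.isOpenEmbedding.injective h3).symm

theorem topologicalKrullDim_closure_eq_of_jacobson (X : Scheme.{u}) [JacobsonSpace X]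
    [IsLocallyNoetherian X] (δ : X → ℤ) (hδ : Cyc.IsDimFun X δ)
    (h0 : ∀ x : X, IsClosed ({x} : Set X) → δ x = 0) (ξ : X) :
    topologicalKrullDim ↥(closure ({ξ} : Set X)) = ((δ ξ).toNat : WithBot ℕ∞) ∧ 0 ≤ δ ξ := by
  -- every point has nonnegative `δ`
  have hnonneg : ∀ t : X, 0 ≤ δ t := by
    intro t
    obtain ⟨z, hz1, hz2⟩ := nonempty_inter_closedPoints (X := X) (Z := closure ({t} : Set X))
      ⟨t, subset_closure rfl⟩ isClosed_closure.isLocallyClosed
    have htz : t ⤳ z := specializes_iff_mem_closure.mpr hz1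
    obtain ⟨k, -, hk⟩ := isDimFun_eq_add_locQuotDim X δ hδ z t htz
    rw [hk, h0 z hz2]
    omega
  refine ⟨?_, hnonneg ξ⟩
  haveI : QuasiSober ↥(closure ({ξ} : Set X)) :=
    quasiSober_of_isLocallyClosed _ isClosed_closure.isLocallyClosed
  apply le_antisymm
  · refine topologicalKrullDim_le_of_rank (fun t : ↥(closure ({ξ} : Set X)) => (δ t.1).toNat)
      ?_ _ ?_
    · intro t t' htt' hne
      have h1 : t.1 ⤳ t'.1 := Topology.IsInducing.subtypeVal.specializes_iff.mpr htt'
      have h2 : t.1 ≠ t'.1 := fun h => hne (Subtype.ext h)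
      have h3 := (hδ t.1 t'.1 h1 h2).1
      have h4 := hnonneg t'.1
      change (δ t'.1).toNat < (δ t.1).toNat
      omega
    · intro t
      have h1 : ξ ⤳ t.1 := specializes_iff_mem_closure.mpr t.2
      have h2 : δ t.1 ≤ δ ξ := by
        by_cases heq : ξ = t.1
        · rw [← heq]
        · exact (hδ ξ t.1 h1 heq).1.le
      have h3 : (δ t.1).toNat ≤ (δ ξ).toNat := Int.toNat_le_toNat h2
      exact_mod_cast h3
  · obtain ⟨z, hz1, hz2⟩ := nonempty_inter_closedPoints (X := X) (Z := closure ({ξ} : Set X))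
      ⟨ξ, subset_closure rfl⟩ isClosed_closure.isLocallyClosed
    have hξz : ξ ⤳ z := specializes_iff_mem_closure.mpr hz1
    obtain ⟨V, hV, hzV, -⟩ := exists_isAffineOpen_mem_and_subset (U := ⊤) (x := z) (by simp)
    have hξV : ξ ∈ V := hξz.mem_open V.2 hzV
    haveI : IsNoetherianRing Γ(X, V) := IsLocallyNoetherian.component_noetherian ⟨V, hV⟩
    have hle : (hV.primeIdealOf ⟨ξ, hξV⟩).asIdeal ≤ (hV.primeIdealOf ⟨z, hzV⟩).asIdeal :=
      (primeIdealOf_le_iff hV ξ z hξV hzV).mpr hξz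
    obtain ⟨k, hk, hδk⟩ := isDimFun_eq_add_height hV δ hδ ξ z hξV hzV _ _ rfl rfl hle
    have h1 := le_topologicalKrullDim_closure hV ξ z hξV hzV hξz k hk
    rw [h0 z hz2] at hδk
    have h2 : (δ ξ).toNat = k := by omega
    rw [h2]
    exact h1

end Groth.Agent.Lib.Helper4.DimFormula
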