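import Mathlib

/-!
# Eigenspace decomposition from a finite filtration (helper4)

Let `Ψ` be an endomorphism of a vector space with a finite decreasing filtration `W n`
(`W 0 = ⊤`, `W (d+1) = ⊥`) such that `Ψ - lam n` maps `W n` into `W (n+1)`, for pairwise different
scalars `lam n`. Then `W m = eigenspace Ψ (lam m) ⊕ W (m+1)`, the space is the sum of these
eigenspaces, and the eigenspaces are the same for two commuting such endomorphisms.
-/

namespace Groth.Agent.Lib.Helper4

section
variable {k V : Type*} [Field k] [AddCommGroup V] [Module k V]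

structure FilEigen (Ψ : Module.End k V) (W : ℕ → Submodule k V) (lam : ℕ → k) (d : ℕ) : Prop where
  anti : ∀ n, W (n + 1) ≤ W n
  top : W 0 = ⊤
  bot : W (d + 1) = ⊥
  inj : Function.Injective lam
  shift : ∀ n, ∀ w ∈ W n, Ψ w - lam n • w ∈ W (n + 1)

variable {Ψ : Module.End k V} {W : ℕ → Submodule k V} {lam : ℕ → k} {d : ℕ}

theorem FilEigen.antitone (h : FilEigen Ψ W lam d) : Antitone W :=
  antitone_nat_of_succ_le h.anti

theorem FilEigen.eq_bot_of_le (h : FilEigen Ψ W lam d) {n : ℕ} (hn : d + 1 ≤ n) : W n = ⊥ :=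
  le_bot_iff.1 (h.bot ▸ h.antitone hn)

theorem FilEigen.mem_of_eigen_of_ne (h : FilEigen Ψ W lam d) {m n : ℕ} (hmn : m ≠ n) {v : V}
    (hv : Ψ v = lam m • v) (hvn : v ∈ W n) : v ∈ W (n + 1) := by
  have h1 := h.shift n v hvn
  rw [hv, ← sub_smul] at h1
  have hne : lam m - lam n ≠ 0 := sub_ne_zero.2 fun e => hmn (h.inj e)
  have := (W (n + 1)).smul_mem (lam m - lam n)⁻¹ h1
  rwa [smul_smul, inv_mul_cancel₀ hne, one_smul] at this

theorem FilEigen.eigen_inf_eq_bot (h : FilEigen Ψ W lam d) (m : ℕ) :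
    Module.End.eigenspace Ψ (lam m) ⊓ W (m + 1) = ⊥ := by
  rw [eq_bot_iff]
  rintro v ⟨hv1, hv2⟩
  rw [SetLike.mem_coe, Module.End.mem_eigenspace_iff] at hv1
  have key : ∀ i, v ∈ W (m + 1 + i) := by
    intro i
    induction i with
    | zero => exact hv2
    | succ i ih => exact h.mem_of_eigen_of_ne (show m ≠ m + 1 + i by omega) hv1 ih
  have := key d
  rw [h.eq_bot_of_le (by omega)] at this
  exact this

theorem FilEigen.eigen_le (h : FilEigen Ψ W lam d) (m : ℕ) :
    Module.End.eigenspace Ψ (lam m) ≤ W m := by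
  intro v hv
  rw [Module.End.mem_eigenspace_iff] at hv
  have key : ∀ i, i ≤ m → v ∈ W i := by
    intro i
    induction i with
    | zero => intro _; rw [h.top]; trivial
    | succ i ih => intro hi; exact h.mem_of_eigen_of_ne (show m ≠ i by omega) hv (ih (by omega))
  exact key m le_rfl

theorem FilEigen.exists_preimage (h : FilEigen Ψ W lam d) (m : ℕ) :
    ∀ (c n : ℕ), d + 1 - n = c → m < n → ∀ u ∈ W n, ∃ w ∈ W n, Ψ w - lam m • w = u := by
  intro c
  induction c with
  | zero =>
    intro n hn _ u hu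
    rw [h.eq_bot_of_le (by omega)] at hu
    rw [(Submodule.mem_bot k).1 hu]
    exact ⟨0, Submodule.zero_mem _, by simp⟩
  | succ c ih =>
    intro n hn hmn u hu
    have hne : lam n - lam m ≠ 0 := sub_ne_zero.2 fun e => (by omega : n ≠ m) (h.inj e)
    have herr := h.shift n u hu
    obtain ⟨w'', hw'', hw''eq⟩ := ih (n + 1) (by omega) (by omega)
      ((lam n - lam m)⁻¹ • (Ψ u - lam n • u)) ((W (n + 1)).smul_mem _ herr)
    refine ⟨(lam n - lam m)⁻¹ • u - w'', (W n).sub_mem ((W n).smul_mem _ hu) (h.anti n hw''), ?_⟩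
    rw [map_sub, map_smul, smul_sub, sub_sub_sub_comm, hw''eq, smul_comm (lam m), ← smul_sub,
      ← smul_sub]
    have : Ψ u - lam m • u - (Ψ u - lam n • u) = (lam n - lam m) • u := by
      rw [sub_smul]; abel
    rw [this, smul_smul, inv_mul_cancel₀ hne, one_smul]

theorem FilEigen.le_eigen_sup (h : FilEigen Ψ W lam d) (m : ℕ) :
    W m ≤ Module.End.eigenspace Ψ (lam m) ⊔ W (m + 1) := by
  intro w hw
  obtain ⟨w', hw', hw'eq⟩ := h.exists_preimage m _ (m + 1) rfl (by omega) _ (h.shift m w hw)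
  rw [Submodule.mem_sup]
  refine ⟨w - w', ?_, w', hw', by abel⟩
  rw [Module.End.mem_eigenspace_iff, map_sub, smul_sub]
  have : Ψ w - Ψ w' - (lam m • w - lam m • w') = (Ψ w - lam m • w) - (Ψ w' - lam m • w') := by abel
  rw [← sub_eq_zero, this, hw'eq, sub_self]

theorem FilEigen.eigen_sup_eq (h : FilEigen Ψ W lam d) (m : ℕ) :
    Module.End.eigenspace Ψ (lam m) ⊔ W (m + 1) = W m :=
  le_antisymm (sup_le (h.eigen_le m) (h.anti m)) (h.le_eigen_sup m)

theorem FilEigen.iSup_eigen_eq_top (h : FilEigen Ψ W lam d) :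
    (⨆ m ∈ Finset.range (d + 1), Module.End.eigenspace Ψ (lam m)) = ⊤ := by
  have key : ∀ c n, d + 1 - n = c →
      W n ≤ ⨆ m ∈ Finset.range (d + 1), Module.End.eigenspace Ψ (lam m) := by
    intro c
    induction c with
    | zero =>
      intro n hn
      rw [h.eq_bot_of_le (by omega)]
      exact bot_le
    | succ c ih =>
      intro n hn
      refine (h.le_eigen_sup n).trans (sup_le ?_ (ih (n + 1) (by omega)))
      exact le_biSup (fun m => Module.End.eigenspace Ψ (lam m)) (Finset.mem_range.2 (by omega))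
  rw [eq_top_iff, ← h.top]
  exact key _ 0 rfl

theorem FilEigen.eigen_le_of_commute {Ψ' : Module.End k V} {lam' : ℕ → k}
    (h : FilEigen Ψ W lam d) (h' : FilEigen Ψ' W lam' d) (hcomm : Ψ * Ψ' = Ψ' * Ψ) (m : ℕ) :
    Module.End.eigenspace Ψ (lam m) ≤ Module.End.eigenspace Ψ' (lam' m) := by
  intro v hv
  have hvW := h.eigen_le m hv
  rw [Module.End.mem_eigenspace_iff] at hv ⊢
  have h1 := h'.shift m v hvW
  have h2 : Ψ' v - lam' m • v ∈ Module.End.eigenspace Ψ (lam m) := by
    rw [Module.End.mem_eigenspace_iff, map_sub, map_smul, hv, smul_sub, smul_comm (lam' m)]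
    congr 1
    have := congrArg (fun T : Module.End k V => T v) hcomm
    simp only [Module.End.mul_apply] at this
    rw [this, hv, map_smul]
  have : Ψ' v - lam' m • v ∈ Module.End.eigenspace Ψ (lam m) ⊓ W (m + 1) := ⟨h2, h1⟩
  rw [h.eigen_inf_eq_bot m] at this
  exact sub_eq_zero.1 ((Submodule.mem_bot k).1 this)

end

end Groth.Agent.Lib.Helper4
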