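import Mathlib
import Groth.Agent.Lib.Helper12PosB
import Groth.Agent.Lib.Helper7TopDim

/-!
# Local dimension at closed points of an equidimensional scheme of finite type over a field (helper4)

* `isClosed_singleton_of_mem_finite_isClosed` : the points of a finite closed subset of a Jacobson space are closed.
* `topologicalKrullDim_le_of_irreducibleComponents` : `dim X ≤ d` if all irreducible components have dimension `≤ d`.
* `le_ringKrullDim_stalk_of_mem_component` : `X` locally of finite type over a field, `x` a closed point on an
  irreducible component `T`: `dim T ≤ dim O_{X,x}`.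
-/

set_option autoImplicit false
set_option linter.style.haveILetI false
set_option linter.unusedSectionVars false
universe u
open CategoryTheory CategoryTheory.Limits AlgebraicGeometry TopologicalSpace Opposite Topology

namespace Groth.Agent.Lib.Helper4.EquiDim

section Top

variable {α : Type*} [TopologicalSpace α]

theorem isClosed_singleton_of_mem_finite_isClosed [JacobsonSpace α] {F : Set α} (hF : IsClosed F)
    (hfin : F.Finite) {x : α} (hx : x ∈ F) : IsClosed ({x} : Set α) := by
  haveI : JacobsonSpace F := JacobsonSpace.of_isClosedEmbedding hF.isClosedEmbedding_subtypeVal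
  haveI : Finite F := hfin
  have h1 : IsClosed ({⟨x, hx⟩} : Set F) := isClosed_discrete _
  have h2 := hF.isClosedEmbedding_subtypeVal.isClosedMap _ h1
  rwa [Set.image_singleton] at h2

theorem topologicalKrullDim_le_of_irreducibleComponents (d : WithBot ℕ∞)
    (h : ∀ T ∈ irreducibleComponents α, topologicalKrullDim T ≤ d) : topologicalKrullDim α ≤ d := by
  unfold topologicalKrullDim
  rw [Order.krullDim]
  refine iSup_le fun p => ?_
  obtain ⟨T, hT, hpT⟩ := exists_mem_irreducibleComponents_subset_of_isIrreducible (p.last : Set α)
    p.last.isIrreducible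
  refine le_trans ?_ (h T hT)
  apply Groth.Agent.Lib.Helper7.TopDim.length_le_of_forall_subset T p
  intro j
  exact (show (p j : Set α) ⊆ (p.last : Set α) from (p.monotone (Fin.le_last j))).trans hpT

end Top

section Sch

variable (k : Type u) [Field k] (X : Scheme.{u}) [X.Over (Spec (CommRingCat.of k))]
  [LocallyOfFiniteType (X ↘ Spec (CommRingCat.of k))]
include k

theorem jacobsonSpace : JacobsonSpace X :=
  LocallyOfFiniteType.jacobsonSpace (X ↘ Spec (CommRingCat.of k))

theorem isClosed_singleton_of_mem_finite_support (I : X.IdealSheafData)
    (hfin : (I.support : Set X).Finite) {x : X} (hx : x ∈ I.support) : IsClosed ({x} : Set X) := by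
  haveI := jacobsonSpace k X
  exact isClosed_singleton_of_mem_finite_isClosed I.support.isClosed hfin hx

/-- at a closed point `x` of an irreducible component `T`, `dim T ≤ dim O_{X,x}` -/
theorem le_ringKrullDim_stalk_of_mem_component (T : Set X) (hT : T ∈ irreducibleComponents X)
    (x : X) (hxT : x ∈ T) (hx : IsClosed ({x} : Set X)) :
    topologicalKrullDim T ≤ ringKrullDim (X.presheaf.stalk x) := by
  have hTc : IsClosed T := isClosed_of_mem_irreducibleComponents T hT
  set I := Scheme.IdealSheafData.vanishingIdeal (⟨T, hTc⟩ : Closeds X) with hI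
  letI : I.subscheme.Over (Spec (CommRingCat.of k)) := ⟨I.subschemeι ≫ (X ↘ (Spec (CommRingCat.of k)))⟩
  haveI : LocallyOfFiniteType (I.subscheme ↘ Spec (CommRingCat.of k)) := by
    change LocallyOfFiniteType (I.subschemeι ≫ (X ↘ (Spec (CommRingCat.of k))))
    infer_instance
  have hrange : Set.range I.subschemeι = T := by
    rw [Scheme.IdealSheafData.range_subschemeι, hI, Scheme.IdealSheafData.coe_support_vanishingIdeal]
    rfl
  have hemb : IsClosedEmbedding I.subschemeι := I.subschemeι.isClosedEmbedding
  -- the homeomorphism onto `T`
  let e : I.subscheme ≃ₜ T :=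
    (hemb.isEmbedding.toHomeomorph).trans (Homeomorph.setCongr hrange)
  haveI : IrreducibleSpace I.subscheme := by
    haveI : IrreducibleSpace T := Subtype.irreducibleSpace hT.1
    exact (e.irreducibleSpace_iff).2 inferInstance
  have hdim : topologicalKrullDim I.subscheme = topologicalKrullDim T :=
    IsHomeomorph.topologicalKrullDim_eq e e.isHomeomorph
  obtain ⟨z, hz⟩ : ∃ z : I.subscheme, I.subschemeι z = x := by
    have : x ∈ Set.range I.subschemeι := hrange ▸ hxT
    exact this
  subst hz
  have hzc : IsClosed ({z} : Set I.subscheme) := by
    have : ({z} : Set I.subscheme) = I.subschemeι ⁻¹' {I.subschemeι z} := by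
      ext w
      simp only [Set.mem_singleton_iff, Set.mem_preimage]
      exact ⟨fun h => by rw [h], fun h => hemb.injective h⟩
    rw [this]
    exact hx.preimage I.subschemeι.continuous
  have h1 := Groth.Agent.Lib.Helper12.Pos.ringKrullDim_stalk_eq_of_isClosed k I.subscheme z hzc
  rw [← hdim, ← h1]
  exact ringKrullDim_le_of_surjective (I.subschemeι.stalkMap z).hom (I.subschemeι.stalkMap_surjective z)

end Sch

end Groth.Agent.Lib.Helper4.EquiDim
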