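import Groth.Agent.Lib.Helper6IndecBound

/-!
# Vanishing of `H¹` of twists of bundles with bounded sub-bundle slopes (helper6): S16008
-/

set_option autoImplicit false
set_option linter.style.haveILetI false
universe u
open CategoryTheory Limits AlgebraicGeometry Opposite TopologicalSpace

namespace Groth.Agent.Lib.Helper6.BddVanish

open Groth.Agent.Lib.Helper4.CurveBun Groth.Agent.Lib.Helper4.DegAdd Groth.Agent.Lib.Helper4.CurveRR
  Groth.Agent.Lib.Helper4.Dev Groth.Agent.Lib.Helper6.CurveDeg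
  Groth.Agent.Lib.Helper4.CurveStab Groth.Agent.Lib.Helper6.SSVanish Groth.Agent.Lib.Helper23.SecTw
  Groth.Agent.Lib.Helper4.CurveAsym Groth.Agent.Lib.Helper6.TwistSS

variable (k : Type u) [Field k] (X : Scheme.{u}) [X.Over (Spec (CommRingCat.of k))]
  [IsIntegral X] [IsProper (X ↘ Spec (CommRingCat.of k))]

/-- S16008 -/
theorem main [IsAlgClosed k] [Smooth (X ↘ Spec (CommRingCat.of k))] (hdim : topologicalKrullDim X = 1)
    (r : ℕ) (hr : 0 < r) (E : X.Modules) (hE : FlatMod.IsFinLocFreeOfRank r E) (C : ℤ)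
    (hC : ∀ (G : X.Modules) (n : ℕ) (j : G ⟶ E), Mono j → 0 < n → FlatMod.IsFinLocFreeOfRank n G →
      Curv2.deg k X G n * (r : ℤ) ≤ (Curv2.deg k X E r + (r : ℤ) * C) * (n : ℤ))
    (N : X.Modules) (hN : PicF.IsInvertible N)
    (hbig : (r : ℤ) * ((r : ℤ) - 1) * C + (r : ℤ) * (2 * (Curv2.genus k X : ℤ) - 2) <
      Curv2.deg k X E r + (r : ℤ) * Curv2.deg k X N 1) :
    Subsingleton (Coh.HH X (CohB1.tensorMod E N) 1) := by
  have hpid : PIDStalks X := pidStalks_of_smooth k X (X ↘ Spec (CommRingCat.of k)) hdim.le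
  haveI : IsLocallyNoetherian X := isLocallyNoetherian_of_proper k X
  have hpt := fun _ : Curv2.genus k X = 0 =>
    Groth.Agent.Lib.Helper6.PointIdeal.exists_invertible_deg_neg_one k X hpid hdim
  have hr1 : (1 : ℤ) ≤ (r : ℤ) := by exact_mod_cast hr
  have hC0 : 0 ≤ C := by
    have h := hC E r (𝟙 E) inferInstance hr hE
    by_contra hneg
    push Not at hneg
    have h3 : (0 : ℤ) < (r : ℤ) * (r : ℤ) := by positivity
    nlinarith [h, mul_neg_of_neg_of_pos hneg h3]
  obtain ⟨hNE, hdNE⟩ := twist_rank_deg k X hpid hdim N hN r E hE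
  have hvan : Subsingleton (Coh.HH X (CohB1.tensorMod N E) 1) := by
    refine vanish_of_quotGt k X hpid hdim hpt r _ hNE ?_
    intro F s p hp hs hF
    haveI := hp
    obtain ⟨a, hra, hK, hd⟩ := Groth.Agent.Lib.Helper4.CurveSat.kernel_of_epi k X hpid p r s hNE hF
    have hs1 : (1 : ℤ) ≤ (s : ℤ) := by exact_mod_cast hs
    have hras : (r : ℤ) = (a : ℤ) + (s : ℤ) := by exact_mod_cast hra
    rcases Nat.eq_zero_or_pos a with ha | ha
    · subst ha
      rw [deg_rank_zero k _ hK, zero_add] at hd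
      have hrs : (r : ℤ) = (s : ℤ) := by simpa using hras
      rw [← hd, hdNE, ← hrs]
      have h4 : 0 ≤ (r : ℤ) * ((r : ℤ) - 1) * C :=
        mul_nonneg (mul_nonneg (by linarith) (by linarith)) hC0
      linarith
    · obtain ⟨G', i', hi', hG', hdG'⟩ := exists_sub_of_twist k X hpid hdim N hN E _ a hK (kernel.ι p)
      have h1 := hC G' a i' hi' ha hG'
      rw [hdG'] at h1
      rw [hdNE] at hd
      have ha1 : (1 : ℤ) ≤ (a : ℤ) := by exact_mod_cast ha
      -- multiply the goal by `r`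
      have key : (r : ℤ) * ((s : ℤ) * (2 * (Curv2.genus k X : ℤ) - 2)) < (r : ℤ) * Curv2.deg k X F s := by
        have e1 : (r : ℤ) * Curv2.deg k X F s =
            (r : ℤ) * (Curv2.deg k X E r + (r : ℤ) * Curv2.deg k X N 1) -
              (r : ℤ) * Curv2.deg k X (kernel p) a := by
          rw [hd]; ring
        have e2 : (r : ℤ) * Curv2.deg k X (kernel p) a ≤
            (Curv2.deg k X E r + (r : ℤ) * C) * (a : ℤ) + (r : ℤ) * ((a : ℤ) * Curv2.deg k X N 1) := by
          nlinarith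
        have e3 : (s : ℤ) * ((r : ℤ) * ((r : ℤ) - 1) * C + (r : ℤ) * (2 * (Curv2.genus k X : ℤ) - 2)) <
            (s : ℤ) * (Curv2.deg k X E r + (r : ℤ) * Curv2.deg k X N 1) :=
          mul_lt_mul_of_pos_left hbig (by linarith)
        have e4 : 0 ≤ (r : ℤ) * C * ((s : ℤ) - 1) := by
          apply mul_nonneg (mul_nonneg (by linarith) hC0) (by linarith)
        have ha' : (a : ℤ) = (r : ℤ) - (s : ℤ) := by linarith
        rw [e1]
        rw [ha'] at e2
        nlinarith
      exact lt_of_mul_lt_mul_left key (by linarith)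
  exact (Groth.Agent.Lib.Helper4.CurveChi.HHequiv k
    (Groth.Agent.Lib.Helper23.AmpleFam2.tensorBraid E N) 1).toEquiv.subsingleton

end Groth.Agent.Lib.Helper6.BddVanish
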