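import Groth.Agent.Lib.Helper6Koszul
import Groth.Agent.Lib.Helper6BddVanish
import Groth.Agent.Lib.Helper12GPKeyB
import Groth.Agent.Lib.Helper18Cart1
import Groth.Agent.Lib.Helper2RankLoc
import Groth.Agent.Lib.Helper21HZB9

/-!
# Weakly `D`-free bundles on a curve: `H¹(T ⊗ I_E) = 0` (helper6): S15681
-/

set_option autoImplicit false
set_option linter.style.haveILetI false
universe u
open CategoryTheory Limits AlgebraicGeometry Opposite TopologicalSpace

namespace Groth.Agent.Lib.Helper6.FreeSec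

open Groth.Agent.Lib.Helper4.CurveBun Groth.Agent.Lib.Helper4.DegAdd Groth.Agent.Lib.Helper4.CurveRR
  Groth.Agent.Lib.Helper4.Dev Groth.Agent.Lib.Helper6.CurveDeg
  Groth.Agent.Lib.Helper4.CurveStab Groth.Agent.Lib.Helper6.SSVanish Groth.Agent.Lib.Helper23.SecTw
  Groth.Agent.Lib.Helper4.CurveAsym Groth.Agent.Lib.Helper6.TwistSS
  Groth.Agent.Lib.Helper27GlobGenPn Groth.Agent.Lib.Helper6.GGCurve

section Rank

variable {X : Scheme.{u}}

/-- on a connected scheme a finite locally free module has constant rank -/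
theorem exists_rank [PreconnectedSpace X] [Nonempty X] (T : X.Modules) (hT : FlatMod.IsFinLocFree T) :
    ∃ r : ℕ, FlatMod.IsFinLocFreeOfRank r T := by
  haveI := Groth.Agent.Lib.Helper21.HZB.isQuasicoherent_of_isFinLocFree T hT
  obtain ⟨-, hlc⟩ := Groth.Agent.Lib.Helper2.RankLoc.isLocallyConstant_fibreRank_of_isFinLocFree T hT
  obtain ⟨x₀⟩ := (inferInstance : Nonempty X)
  refine ⟨Groth.Agent.Lib.Helper2.RankLoc.fibreRank T x₀, fun x => ?_⟩
  obtain ⟨U, n, hxU, ⟨e⟩⟩ := hT x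
  have h1 := (Groth.Agent.Lib.Helper2.RankLoc.fibreRank_eq_of_restrict_iso_freeMod U.ι T e ⟨x, hxU⟩).2
  have h2 : Groth.Agent.Lib.Helper2.RankLoc.fibreRank T x = Groth.Agent.Lib.Helper2.RankLoc.fibreRank T x₀ :=
    hlc.apply_eq_of_preconnectedSpace x x₀
  have h3 : n = Groth.Agent.Lib.Helper2.RankLoc.fibreRank T x₀ := by
    rw [← h2, ← h1]
    rfl
  subst h3
  exact ⟨U, hxU, ⟨e⟩⟩

end Rank

variable (k : Type u) [Field k] (X : Scheme.{u}) [X.Over (Spec (CommRingCat.of k))]
  [IsIntegral X] [IsProper (X ↘ Spec (CommRingCat.of k))]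

open Groth.Agent.Lib.Helper6.PointIdeal Groth.Agent.Lib.Helper21.ExtCartier
  Groth.Agent.Lib.Helper6.SimpleSub Groth.Agent.Lib.Helper4.CurveChi Groth.Agent.Lib.Helper6.H0One in
omit [IsIntegral X] in
/-- `h⁰(Q) ≤ h⁰(I_p ⊗ Q) + rank Q` -/
theorem h0_le_twist_add [IsAlgClosed k] (p : X) (hp : IsClosed ({p} : Set X)) (s : ℕ) (Q : X.Modules)
    (hQ : FlatMod.IsFinLocFreeOfRank s Q) :
    Module.finrank k (Coh.HH X Q 0) ≤
      Module.finrank k (Coh.HH X (CohB1.tensorMod (ClSub.idealMod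
        (Scheme.IdealSheafData.vanishingIdeal ⟨{p}, hp⟩)) Q) 0) + s := by
  haveI : IsLocallyNoetherian X := isLocallyNoetherian_of_proper k X
  have hQflat := isFlat_of_isFinLocFreeOfRank Q s hQ
  have hS := shortExact_map_tw (idealSES (Scheme.IdealSheafData.vanishingIdeal ⟨{p}, hp⟩))
    (idealSES_shortExact _) Q hQflat
  have cOQ : Coh.IsCoh (CohB1.tensorMod (Coh.structureModule X) Q) :=
    isCoh_tensorMod_locFree _ Q (isCoh_structureModule X) s hQ
  obtain ⟨-, -, cP, -⟩ := quotMod_point k X p hp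
  have cPQ : Coh.IsCoh (CohB1.tensorMod (ClSub.quotMod (Scheme.IdealSheafData.vanishingIdeal
      ⟨{p}, hp⟩)) Q) := isCoh_tensorMod_locFree _ Q cP s hQ
  haveI : Module.Finite k (Coh.HH X (CohB1.tensorMod (Coh.structureModule X) Q) 0) :=
    Groth.Agent.S0002.result k X _ cOQ 0
  haveI : Module.Finite k (Coh.HH X (CohB1.tensorMod (ClSub.quotMod (Scheme.IdealSheafData.vanishingIdeal
      ⟨{p}, hp⟩)) Q) 0) := Groth.Agent.S0002.result k X _ cPQ 0
  haveI : Module.Finite k (Coh.structureModule X ⟶ ((idealSES (Scheme.IdealSheafData.vanishingIdeal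
      ⟨{p}, hp⟩)).map (Groth.Agent.Lib.Helper27SerreVan.tw Q)).X₂) :=
    Module.Finite.equiv (homH0Equiv k (CohB1.tensorMod (Coh.structureModule X) Q)).symm
  haveI : Module.Finite k (Coh.structureModule X ⟶ ((idealSES (Scheme.IdealSheafData.vanishingIdeal
      ⟨{p}, hp⟩)).map (Groth.Agent.Lib.Helper27SerreVan.tw Q)).X₃) :=
    Module.Finite.equiv (homH0Equiv k (CohB1.tensorMod (ClSub.quotMod
      (Scheme.IdealSheafData.vanishingIdeal ⟨{p}, hp⟩)) Q)).symm
  have hmid := Groth.Agent.Lib.Helper6.Koszul.h0_mid_le k _ hS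
  have e1 : Module.finrank k (Coh.structureModule X ⟶ ((idealSES (Scheme.IdealSheafData.vanishingIdeal
      ⟨{p}, hp⟩)).map (Groth.Agent.Lib.Helper27SerreVan.tw Q)).X₂) = Module.finrank k (Coh.HH X Q 0) := by
    rw [finrank_hom_eq k]
    exact (HHequiv k (lam Q) 0).finrank_eq
  have e2 : Module.finrank k (Coh.structureModule X ⟶ ((idealSES (Scheme.IdealSheafData.vanishingIdeal
      ⟨{p}, hp⟩)).map (Groth.Agent.Lib.Helper27SerreVan.tw Q)).X₁) =
      Module.finrank k (Coh.HH X (CohB1.tensorMod (ClSub.idealMod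
        (Scheme.IdealSheafData.vanishingIdeal ⟨{p}, hp⟩)) Q) 0) := finrank_hom_eq k _
  have e3 : Module.finrank k (Coh.structureModule X ⟶ ((idealSES (Scheme.IdealSheafData.vanishingIdeal
      ⟨{p}, hp⟩)).map (Groth.Agent.Lib.Helper27SerreVan.tw Q)).X₃) = s :=
    h0_quot_tensor k X p hp s Q hQ
  rw [e1, e2, e3] at hmid
  exact hmid

open Groth.Agent.Lib.Helper6.PointIdeal in
/-- a bundle `Q` of rank `s` with `h⁰(Q) > s n` contains a line bundle of degree `n` -/
theorem exists_sub_deg [IsAlgClosed k] (hpid : PIDStalks X) (hdim : topologicalKrullDim X = 1) :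
    ∀ (n s : ℕ) (Q : X.Modules), FlatMod.IsFinLocFreeOfRank s Q →
      s * n < Module.finrank k (Coh.HH X Q 0) →
      ∃ (G : X.Modules) (i : G ⟶ Q), Mono i ∧ FlatMod.IsFinLocFreeOfRank 1 G ∧
        Curv2.deg k X G 1 = (n : ℤ) := by
  haveI : IsLocallyNoetherian X := isLocallyNoetherian_of_proper k X
  have hO1 : FlatMod.IsFinLocFreeOfRank 1 (Coh.structureModule X) :=
    isFinLocFreeOfRank_one_of_isInvertible _
      (Groth.Agent.Lib.Helper23.TensorUnit.isInvertible_structureModule X)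
  intro n
  induction n with
  | zero =>
    intro s Q hQ h
    obtain ⟨t, ht⟩ := exists_hom_ne_zero k X Q (by omega)
    exact ⟨_, t, mono_of_ne_zero_of_rank_one k X hpid s hO1 hQ t ht, hO1, by
      rw [deg_structureModule]; rfl⟩
  | succ n IH =>
    intro s Q hQ h
    haveI : Nonempty X := nonempty_of_dim_eq_one hdim
    haveI : CompactSpace X := by
      have : QuasiCompact (X ↘ (Spec (CommRingCat.of k))) := inferInstance
      exact (quasiCompact_iff_compactSpace (X ↘ (Spec (CommRingCat.of k)))).1 this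
    obtain ⟨p, -, hp⟩ := isClosed_univ.exists_closed_singleton (Set.univ_nonempty (α := X))
    obtain ⟨hIinv, hIdeg⟩ := idealMod_point k X hpid hdim p hp
    obtain ⟨hIQ, -⟩ := twist_rank_deg k X hpid hdim _ hIinv s Q hQ
    have hle := h0_le_twist_add k X p hp s Q hQ
    have h' : s * n < Module.finrank k (Coh.HH X (CohB1.tensorMod (ClSub.idealMod
        (Scheme.IdealSheafData.vanishingIdeal ⟨{p}, hp⟩)) Q) 0) := by
      have : s * (n + 1) = s * n + s := by ring
      omega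
    obtain ⟨G, i, hi, hG, hdG⟩ := IH s _ hIQ h'
    haveI := hi
    obtain ⟨G', i', hi', hG', hd⟩ := exists_sub_of_twist k X hpid hdim _ hIinv Q G 1 hG i
    refine ⟨G', i', hi', hG', ?_⟩
    rw [hd, hdG, hIdeg]
    push_cast
    ring

/-- the restriction `H⁰(Q ⊗ O) → H⁰(Q ⊗ O_D)` is surjective -/
def Surj (D : X.IdealSheafData) (Q : X.Modules) : Prop :=
  Function.Surjective (Canon.HHlin k (wr Q (ClSub.toSubscheme D)) 0)

omit [IsIntegral X] in
theorem epi_wl {A B : X.Modules} (p : A ⟶ B) [Epi p] (Q : X.Modules) : Epi (wl p Q) := by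
  haveI : ModSite.HasSheafHom (O := X.sheaf) Q :=
    Groth.Agent.Lib.Helper21.ExtShDelta.hasSheafHom X.sheaf Q
  haveI : (Groth.Agent.Lib.Helper27SerreVan.tw Q).IsLeftAdjoint :=
    (inferInstance : ((ModSite.tensorBi X.sheaf).flip.obj Q).IsLeftAdjoint)
  exact (inferInstance : Epi ((Groth.Agent.Lib.Helper27SerreVan.tw Q).map p))

open Groth.Agent.Lib.Helper12.GPKey Groth.Agent.Lib.Helper12.GPKeyB Groth.Agent.Lib.Helper4.CurveChi
  Groth.Agent.Lib.Helper4.CurvePt in
/-- surjectivity of the restriction to `D` passes to quotients -/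
theorem surj_of_epi (hdim : topologicalKrullDim X = 1) (D : X.IdealSheafData)
    (hD : FGA.IsEffCartier D) {Q Q' : X.Modules} (p : Q ⟶ Q') [Epi p] (s : ℕ)
    (hQ : FlatMod.IsFinLocFreeOfRank s Q) (cQ' : Coh.IsCoh Q') (h : Surj k X D Q) :
    Surj k X D Q' := by
  have hZ : ZD X (CohB1.tensorMod Q (ClSub.quotMod D)) := zd_resD k X hdim D hD Q s hQ
  haveI : Epi (wl p (ClSub.quotMod D)) := epi_wl X p _
  have c' : Coh.IsCoh (CohB1.tensorMod Q' (ClSub.quotMod D)) :=
    isCoh_tensorMod X Q' _ cQ' (isCoh_quotMod k X D)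
  have h2 := HHlin_surjective_of_epi_zd k X (wl p (ClSub.quotMod D)) hZ c'
  have hcomm : wl p (Coh.structureModule X) ≫ wr Q' (ClSub.toSubscheme D) =
      wr Q (ClSub.toSubscheme D) ≫ wl p (ClSub.quotMod D) := interchange p (ClSub.toSubscheme D)
  intro y
  obtain ⟨z, rfl⟩ := h2 y
  obtain ⟨w, rfl⟩ := h z
  refine ⟨Canon.HHlin k (wl p (Coh.structureModule X)) 0 w, ?_⟩
  rw [← HHlin_comp, ← HHlin_comp, hcomm]

open Groth.Agent.Lib.Helper12.GPKey Groth.Agent.Lib.Helper12.GPKeyB Groth.Agent.Lib.Helper4.CurveChi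
  Groth.Agent.Lib.Helper4.CurvePt in
/-- `h⁰(Q) ≥ rank(Q) · deg D` when the restriction to `D` is surjective -/
theorem h0_ge_of_surj (hdim : topologicalKrullDim X = 1) (D : X.IdealSheafData)
    (hD : FGA.IsEffCartier D) (Q : X.Modules) (s : ℕ)
    (hQ : FlatMod.IsFinLocFreeOfRank s Q) (h : Surj k X D Q) :
    s * Module.finrank k (Coh.HH X (ClSub.quotMod D) 0) ≤ Module.finrank k (Coh.HH X Q 0) := by
  haveI : IsLocallyNoetherian X := isLocallyNoetherian_of_proper k X
  have hZ : ZD X (CohB1.tensorMod Q (ClSub.quotMod D)) := zd_resD k X hdim D hD Q s hQ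
  have hZD := zd_quotMod k X hdim D hD
  have h1 := euler_resD k X hdim D hD Q s hQ
  change Curv2.euler k X (CohB1.tensorMod Q (ClSub.quotMod D)) = _ at h1
  rw [hZ.euler_eq k, hZD.euler_eq k] at h1
  have h1' : Module.finrank k (Coh.HH X (CohB1.tensorMod Q (ClSub.quotMod D)) 0) =
      s * Module.finrank k (Coh.HH X (ClSub.quotMod D) 0) := by exact_mod_cast h1
  have cQ := isCoh_of_isFinLocFreeOfRank Q s hQ
  have cQO : Coh.IsCoh (CohB1.tensorMod Q (Coh.structureModule X)) :=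
    isCoh_tensorMod X Q _ cQ (isCoh_structureModule X)
  haveI : Module.Finite k (Coh.HH X (CohB1.tensorMod Q (Coh.structureModule X)) 0) :=
    Groth.Agent.S0002.result k X _ cQO 0
  have h2 := LinearMap.finrank_le_finrank_of_surjective (f := Canon.HHlin k (wr Q (ClSub.toSubscheme D)) 0) h
  have h3 := (HHequiv k (Groth.Agent.Lib.Helper23.TensorUnit.tensorUnitIso Q) 0).finrank_eq
  rw [← h1', ← h3]
  exact h2

/-- a bundle of rank `s` whose restriction to `D` is surjective on `H⁰` has degree `≥ s (deg D - 1)` -/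
theorem deg_ge [IsAlgClosed k] (hpid : PIDStalks X) (hdim : topologicalKrullDim X = 1)
    (D : X.IdealSheafData) (hD : FGA.IsEffCartier D) (m : ℕ)
    (hm : Module.finrank k (Coh.HH X (ClSub.quotMod D) 0) = m) (hm1 : 1 ≤ m) :
    ∀ (s : ℕ) (Q : X.Modules), FlatMod.IsFinLocFreeOfRank s Q → Surj k X D Q →
      (s : ℤ) * ((m : ℤ) - 1) ≤ Curv2.deg k X Q s := by
  haveI : IsLocallyNoetherian X := isLocallyNoetherian_of_proper k X
  intro s
  induction s with
  | zero =>
    intro Q hQ _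
    rw [deg_rank_zero k Q hQ]
    simp
  | succ s IH =>
    intro Q hQ hS
    have h0 := h0_ge_of_surj k X hdim D hD Q (s + 1) hQ hS
    rw [hm] at h0
    have hlt : (s + 1) * (m - 1) < Module.finrank k (Coh.HH X Q 0) := by
      have h1 : (s + 1) * (m - 1) + (s + 1) = (s + 1) * m := by
        obtain ⟨m', rfl⟩ : ∃ m', m = m' + 1 := ⟨m - 1, by omega⟩
        simp only [Nat.add_sub_cancel]
        ring
      omega
    obtain ⟨G, i, hi, hG, hdG⟩ := exists_sub_deg k X hpid hdim (m - 1) (s + 1) Q hQ hlt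
    haveI := hi
    obtain ⟨F, g, u, hg, hu, hle, hK, hF, hdeg, hdle, -⟩ :=
      Groth.Agent.Lib.Helper4.CurveSat.exists_saturation k X hpid hdim i 1 (s + 1) hG hQ
    haveI := hg
    rw [Nat.add_sub_cancel] at hF hdeg
    have cF := isCoh_of_isFinLocFreeOfRank F s hF
    have hSF := surj_of_epi k X hdim D hD g (s + 1) hQ cF hS
    have hIH := IH F hF hSF
    rw [hdeg]
    rw [hdG] at hdle
    have hm' : ((m - 1 : ℕ) : ℤ) = (m : ℤ) - 1 := by
      rw [Nat.cast_sub hm1]
      rfl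
    rw [hm'] at hdle
    push_cast
    linarith

/-- every sub-bundle of `T` has degree `≤ deg T - (r - a)(deg D - 1)` -/
theorem sub_deg_le [IsAlgClosed k] (hpid : PIDStalks X) (hdim : topologicalKrullDim X = 1)
    (D : X.IdealSheafData) (hD : FGA.IsEffCartier D) (m : ℕ)
    (hm : Module.finrank k (Coh.HH X (ClSub.quotMod D) 0) = m) (hm1 : 1 ≤ m)
    (r : ℕ) (T : X.Modules) (hT : FlatMod.IsFinLocFreeOfRank r T) (hS : Surj k X D T)
    (a : ℕ) (K : X.Modules) (hK : FlatMod.IsFinLocFreeOfRank a K) (i : K ⟶ T) [Mono i] :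
    a ≤ r ∧ Curv2.deg k X K a + ((r : ℤ) - (a : ℤ)) * ((m : ℤ) - 1) ≤ Curv2.deg k X T r := by
  haveI : IsLocallyNoetherian X := isLocallyNoetherian_of_proper k X
  obtain ⟨F, g, u, hg, hu, hle, hK', hF, hdeg, hdle, -⟩ :=
    Groth.Agent.Lib.Helper4.CurveSat.exists_saturation k X hpid hdim i a r hK hT
  haveI := hg
  have cF := isCoh_of_isFinLocFreeOfRank F (r - a) hF
  have hSF := surj_of_epi k X hdim D hD g r hT cF hS
  have h1 := deg_ge k X hpid hdim D hD m hm hm1 (r - a) F hF hSF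
  rw [Nat.cast_sub hle] at h1
  refine ⟨hle, ?_⟩
  rw [hdeg]
  linarith

open Groth.Agent.Lib.Helper12.GPKey Groth.Agent.Lib.Helper21.ExtCartier Groth.Agent.Lib.Helper4.CurvePt in
/-- the ideal of an effective Cartier divisor `E` is invertible of degree `- h⁰(O_E)` -/
theorem idealMod_cartier (hdim : topologicalKrullDim X = 1) (E : X.IdealSheafData)
    (hE : BlowUp.IsEffCartierIdeal E) :
    PicF.IsInvertible (ClSub.idealMod E) ∧
      Curv2.deg k X (ClSub.idealMod E) 1 = -(Module.finrank k (Coh.HH X (ClSub.quotMod E) 0) : ℤ) := by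
  haveI : IsLocallyNoetherian X := isLocallyNoetherian_of_proper k X
  refine ⟨Groth.Agent.Helper18Cart.isInvertible_of_isEffCartier E hE, ?_⟩
  have hZ := zd_quotMod k X hdim E hE
  have hO := isCoh_structureModule X
  have hIc : Coh.IsCoh (ClSub.idealMod E) := isCoh_kernel (ClSub.toSubscheme E) hO hZ.1
  have hadd := Groth.Agent.Lib.Helper6.Euler.euler_additive k X _ (idealSES_shortExact E) hIc hO hZ.1
  change Curv2.euler k X (Coh.structureModule X) = Curv2.euler k X (ClSub.idealMod E) +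
    Curv2.euler k X (ClSub.quotMod E) at hadd
  rw [hZ.euler_eq k] at hadd
  unfold Curv2.deg
  push_cast
  linarith

open Groth.Agent.Lib.Helper4.CurveChi in
/-- **S15681** -/
theorem main [IsAlgClosed k] (hpid : PIDStalks X) (hdim : topologicalKrullDim X = 1)
    (T : X.Modules) (hT : FlatMod.IsFinLocFree T)
    (D : X.IdealSheafData) (hD : BlowUp.IsEffCartierIdeal D)
    (hD1 : 1 ≤ Module.finrank k (Coh.HH X (ClSub.quotMod D) 0))
    (hsurj : Surj k X D T)
    (E : X.IdealSheafData) (hE : BlowUp.IsEffCartierIdeal E)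
    (hdegE : Module.finrank k (Coh.HH X (ClSub.quotMod E) 0) + 2 * Curv2.genus k X =
      Module.finrank k (Coh.HH X (ClSub.quotMod D) 0)) :
    Subsingleton (Coh.HH X (CohB1.tensorMod T (ClSub.idealMod E)) 1) := by
  haveI : IsLocallyNoetherian X := isLocallyNoetherian_of_proper k X
  haveI : Nonempty X := nonempty_of_dim_eq_one hdim
  obtain ⟨r, hTr⟩ := exists_rank T hT
  have hpt := fun _ : Curv2.genus k X = 0 =>
    Groth.Agent.Lib.Helper6.PointIdeal.exists_invertible_deg_neg_one k X hpid hdim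
  obtain ⟨hIinv, hIdeg⟩ := idealMod_cartier k X hdim E hE
  obtain ⟨hIT, hdIT⟩ := twist_rank_deg k X hpid hdim _ hIinv r T hTr
  set m := Module.finrank k (Coh.HH X (ClSub.quotMod D) 0) with hm
  set e := Module.finrank k (Coh.HH X (ClSub.quotMod E) 0) with he
  have hvan : Subsingleton (Coh.HH X (CohB1.tensorMod (ClSub.idealMod E) T) 1) := by
    refine vanish_of_quotGt k X hpid hdim hpt r _ hIT ?_
    intro F s p hp hs hF
    haveI := hp
    obtain ⟨a, hra, hK, hd⟩ := Groth.Agent.Lib.Helper4.CurveSat.kernel_of_epi k X hpid p r s hIT hF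
    obtain ⟨G', i', hi', hG', hdG'⟩ :=
      exists_sub_of_twist k X hpid hdim _ hIinv T (kernel p) a hK (kernel.ι p)
    haveI := hi'
    obtain ⟨-, hb⟩ := sub_deg_le k X hpid hdim D hD m hm.symm hD1 r T hTr hsurj a G' hG' i'
    rw [hdG', hIdeg] at hb
    rw [hdIT, hIdeg] at hd
    have hras : (r : ℤ) = (a : ℤ) + (s : ℤ) := by exact_mod_cast hra
    have hem : (e : ℤ) + 2 * (Curv2.genus k X : ℤ) = (m : ℤ) := by exact_mod_cast hdegE
    have hs1 : (1 : ℤ) ≤ (s : ℤ) := by exact_mod_cast hs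
    have hrs : (r : ℤ) - (a : ℤ) = (s : ℤ) := by linarith
    rw [hrs] at hb
    nlinarith
  exact (HHequiv k (Groth.Agent.Lib.Helper23.AmpleFam2.tensorBraid T (ClSub.idealMod E)) 1).subsingleton

end Groth.Agent.Lib.Helper6.FreeSec
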