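import Mathlib
import Groth.Agent.S7797
import Groth.Agent.Lib.Helper13AffBC
import Groth.Agent.Lib.Helper27ProjFormula
import Groth.Agent.Lib.Helper18FinFlat1
import Groth.Agent.Lib.Helper6FreeSec
import Groth.Agent.Lib.Helper6H0Const
import Groth.Agent.Lib.Helper6SmGeom
import Groth.Agent.Lib.Helper6CurveConn
import Groth.Agent.Lib.Helper4CurvePt
import Groth.Agent.Lib.Helper27P1Split
import Groth.Agent.Lib.Helper27ProjSpaceIrr
import Groth.Agent.Lib.Helper27ChartPoly
import Groth.Agent.Lib.Helper27ProjSpaceFibres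
import Groth.Agent.Lib.Helper27AmpleSerre
import Groth.Agent.Lib.Helper23TensorUnit
import Groth.Agent.Lib.Helper23PB
import Groth.Agent.Lib.Helper23QCohLocal

/-!
# The projective line is simply connected (helper4)

* `pushPullIso`: `f_* f^* L ≅ f_* O_X ⊗ L` for `L` with a tensor inverse (from helper27's projection formula).
* `pushDiagIso`: `(X ×_Y X → Y)_* O ≅ f_* f^* f_* O_X` for affine `f` (from helper13's affine base change).
* `finrank_hh0_diag`: for `f : X → P¹_k` affine with `f_* O_X ≅ ∐ O(d_i)`, `h⁰(X ×_{P¹} X, O) = ∑_{i,j} (d_i + d_j + 1)^+`.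
* `preconnectedSpace_of_finrank_eq_one`, `isIso_of_preconnected_diag`.
* `main`: a finite étale morphism `X → P¹_k` with `X` geometrically connected over `k` is an isomorphism.
-/

set_option autoImplicit false
set_option linter.style.haveILetI false
universe u
open CategoryTheory Limits AlgebraicGeometry TopologicalSpace Opposite

namespace Groth.Agent.Lib.Helper4.EtP1

section gen
variable {X Y : Scheme.{u}} (f : X ⟶ Y)

/-- projection formula for the structure sheaf: `f_* f^* L ≅ f_* O_X ⊗ L` for `L` with a tensor inverse -/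
noncomputable def pushPullIso (L L' : Y.Modules)
    (e : CohB1.tensorMod L L' ≅ Coh.structureModule Y)
    (e' : CohB1.tensorMod L' L ≅ Coh.structureModule Y) :
    (Scheme.Modules.pushforward f).obj ((Scheme.Modules.pullback f).obj L) ≅
      CohB1.tensorMod ((Scheme.Modules.pushforward f).obj (Coh.structureModule X)) L :=
  (Scheme.Modules.pushforward f).mapIso
      (Groth.Agent.Lib.Helper23.TensorUnit.unitTensorIso ((Scheme.Modules.pullback f).obj L)).symm ≪≫
    Groth.Agent.Lib.Helper27ProjFormula.projIsoR f L L' e e' (Coh.structureModule X)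

/-- affine base change along the diagonal square: `(X ×_Y X → Y)_* O ≅ f_* f^* f_* O_X` -/
noncomputable def pushDiagIso [IsAffineHom f] :
    (Scheme.Modules.pushforward (pullback.snd f f ≫ f)).obj (Coh.structureModule (pullback f f)) ≅
      (Scheme.Modules.pushforward f).obj ((Scheme.Modules.pullback f).obj
        ((Scheme.Modules.pushforward f).obj (Coh.structureModule X))) := by
  haveI : (Coh.structureModule X).IsQuasicoherent :=
    Groth.Agent.Lib.Helper23.Serre.isQuasicoherent_structureModule' X
  haveI := Groth.Agent.Helper13AffBC.isIso_bcMap f f (pullback.fst f f) (pullback.snd f f)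
    (IsPullback.of_hasPullback f f) (Coh.structureModule X)
  exact ((Scheme.Modules.pushforwardComp (pullback.snd f f) f).app _).symm ≪≫
    (Scheme.Modules.pushforward f).mapIso
      ((Scheme.Modules.pushforward (pullback.snd f f)).mapIso
          (Groth.Agent.Lib.Helper23.PB.pullbackUnitIso (pullback.fst f f)).symm ≪≫
        (asIso (Groth.Agent.Helper13AffBC.bcMap f f (pullback.fst f f) (pullback.snd f f)
          (IsPullback.of_hasPullback f f) (Coh.structureModule X))).symm)

/-- a finite étale morphism from a nonempty scheme to a connected scheme whose self fibre product is preconnected is an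
isomorphism -/
theorem isIso_of_preconnected_diag {X Y : Scheme.{u}} (f : X ⟶ Y) [IsFinite f] [Etale f]
    [Nonempty X] [PreconnectedSpace Y] [PreconnectedSpace ↥(pullback f f)] : IsIso f := by
  -- the diagonal is a clopen immersion
  haveI : IsOpenImmersion (pullback.diagonal f) := inferInstance
  haveI : IsClosedImmersion (pullback.diagonal f) := inferInstance
  have hclopen : IsClopen (Set.range (pullback.diagonal f).base) :=
    ⟨(pullback.diagonal f).isClosedEmbedding.isClosed_range,
      (pullback.diagonal f).isOpenEmbedding.isOpen_range⟩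
  have hne : (Set.range (pullback.diagonal f).base).Nonempty := Set.range_nonempty _
  have huniv : Set.range (pullback.diagonal f).base = Set.univ :=
    (isClopen_iff.1 hclopen).resolve_left hne.ne_empty
  haveI : Surjective (pullback.diagonal f) := ⟨Set.range_eq_univ.1 huniv⟩
  haveI : IsIso (pullback.diagonal f) :=
    (isIso_iff_isOpenImmersion_and_surjective _).2 ⟨inferInstance, inferInstance⟩
  haveI : Mono f := (pullback.isIso_diagonal_iff f).1 inferInstance
  -- `f` is surjective
  have hclopen' : IsClopen (Set.range f.base) :=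
    ⟨f.isClosedMap.isClosed_range, f.isOpenMap.isOpen_range⟩
  have huniv' : Set.range f.base = Set.univ :=
    (isClopen_iff.1 hclopen').resolve_left (Set.range_nonempty _).ne_empty
  haveI : Surjective f := ⟨Set.range_eq_univ.1 huniv'⟩
  exact Flat.isIso_of_surjective_of_mono f

/-- numeric lemma -/
theorem double_sum_eq_one {r : ℕ} (d : Fin r → ℤ) (h : ∑ i, (d i + 1).toNat = 1) :
    ∑ i, ∑ j, (d j + d i + 1).toNat = 1 := by
  classical
  obtain ⟨i₀, hi₀⟩ : ∃ i₀, (d i₀ + 1).toNat ≠ 0 := by
    by_contra hcon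
    push Not at hcon
    rw [Finset.sum_eq_zero (fun i _ => hcon i)] at h
    exact absurd h (by norm_num)
  have hsplit := Finset.add_sum_erase Finset.univ (fun i => (d i + 1).toNat) (Finset.mem_univ i₀)
  rw [h] at hsplit
  have h0 : (d i₀ + 1).toNat = 1 := by omega
  have hrest : ∑ i ∈ Finset.univ.erase i₀, (d i + 1).toNat = 0 := by omega
  have hi : ∀ i, i ≠ i₀ → d i ≤ -1 := by
    intro i hne
    have := (Finset.sum_eq_zero_iff.1 hrest) i (Finset.mem_erase.2 ⟨hne, Finset.mem_univ i⟩)
    omega
  have hd0 : d i₀ = 0 := by omega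
  rw [Finset.sum_eq_single i₀]
  · rw [Finset.sum_eq_single i₀]
    · rw [hd0]; rfl
    · intro j _ hj
      have := hi j hj
      rw [hd0]
      omega
    · intro hn; exact absurd (Finset.mem_univ _) hn
  · intro i _ hne
    refine Finset.sum_eq_zero fun j _ => ?_
    have h1 := hi i hne
    by_cases hj : j = i₀
    · rw [hj, hd0]; omega
    · have h2 := hi j hj
      omega
  · intro hn; exact absurd (Finset.mem_univ _) hn

/-- a scheme whose global functions form a one-dimensional algebra over a field is preconnected -/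
theorem preconnectedSpace_of_finrank_eq_one (k : Type u) [Field k] (Y : Scheme.{u})
    [Algebra k Γ(Y, ⊤)] (h : Module.finrank k Γ(Y, ⊤) = 1) : PreconnectedSpace Y := by
  refine Groth.Agent.Lib.Helper6.CurveConn.preconnectedSpace_of_idempotents Y fun e he => ?_
  haveI : Module.Finite k Γ(Y, ⊤) := Module.finite_of_finrank_pos (by omega)
  haveI : Nontrivial Γ(Y, ⊤) := Module.nontrivial_of_finrank_pos (R := k) (by omega)
  have hsurj : Function.Surjective (algebraMap k Γ(Y, ⊤)) := by
    have hinj : Function.Injective (Algebra.linearMap k Γ(Y, ⊤)) :=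
      (algebraMap k Γ(Y, ⊤)).injective
    have := (LinearMap.injective_iff_surjective_of_finrank_eq_finrank
      (f := Algebra.linearMap k Γ(Y, ⊤)) (by rw [Module.finrank_self, h])).1 hinj
    exact this
  obtain ⟨c, rfl⟩ := hsurj e
  have hc : c * c = c := by
    have : algebraMap k Γ(Y, ⊤) (c * c) = algebraMap k Γ(Y, ⊤) c := by
      rw [map_mul]; exact he
    exact (algebraMap k Γ(Y, ⊤)).injective this
  have hc' : c * (c - 1) = 0 := by rw [mul_sub, hc, mul_one, sub_self]
  rcases mul_eq_zero.1 hc' with h0 | h1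
  · left; rw [h0, map_zero]
  · right
    have : c = 1 := sub_eq_zero.1 h1
    rw [this, map_one]

end gen

/-- smooth morphisms are geometrically reduced (helper3) -/
theorem geometricallyReduced_of_smooth {X S : Scheme.{u}} (g : X ⟶ S) [Smooth g] :
    GeometricallyReduced g := by
  constructor
  intro K _ y Z fst snd h
  haveI : Smooth snd := MorphismProperty.of_isPullback h inferInstance
  exact Groth.Agent.Lib.Helper6.SmGeom.isReduced_of_smooth_over_field K Z snd

open Groth.Agent.Lib.Helper27SerreVan Groth.Agent.Lib.Helper27LesLin Groth.Agent.Lib.Helper27MinPres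

variable (k : Type u) [Field k] {X : Scheme.{u}} (f : X ⟶ CohB1.ProjSpace 1 k)

/-- the splitting type of `f_* O_X` -/
theorem exists_splitting [IsFinite f] [Etale f] :
    ∃ (r : ℕ) (d : Fin r → ℤ), Antitone d ∧
      Nonempty ((Scheme.Modules.pushforward f).obj (Coh.structureModule X) ≅
        ∐ fun i : Fin r => Twist.twistProjSpace 1 k (d i)) := by
  have h1 : Mor2.IsFinLocFree f := ⟨inferInstance, inferInstance, inferInstance⟩
  have h2 := Groth.Agent.Helper18FinFlat.pushforward_isFinLocFree f h1
  haveI : IrreducibleSpace (CohB1.ProjSpace 1 k) :=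
    Groth.Agent.Lib.Helper27ProjSpaceIrr.irreducibleSpace_projSpace 1 k
  obtain ⟨r, hr⟩ := Groth.Agent.Lib.Helper6.FreeSec.exists_rank _ h2
  obtain ⟨d, ⟨hd, he⟩, -⟩ := Groth.Agent.S7797.result k r _ hr
  exact ⟨r, d, hd, he⟩

/-- `h⁰(P¹, f_* O_X) = 1` -/
theorem finrank_hh0_push_eq_one [IsFinite f] [Etale f]
    [GeometricallyConnected (f ≫ CohB1.ProjSpace.toSpec 1 k)] :
    Module.finrank k (Coh.HH (CohB1.ProjSpace 1 k)
      ((Scheme.Modules.pushforward f).obj (Coh.structureModule X)) 0) = 1 := by
  rw [Groth.Agent.Lib.Helper4.CurvePt.finrank_hh0_push f k]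
  haveI : IsProper (CohB1.ProjSpace.toSpec 1 k) :=
    Groth.Agent.Lib.Helper27ProjSpaceFibres.isProper_projSpace_toSpec 1 k
  haveI : Smooth (CohB1.ProjSpace.toSpec 1 k) :=
    Groth.Agent.Lib.Helper27ChartPoly.smooth_projSpace_toSpec 1 k
  haveI : IsProper (f ≫ CohB1.ProjSpace.toSpec 1 k) := inferInstance
  haveI : Smooth (f ≫ CohB1.ProjSpace.toSpec 1 k) := inferInstance
  haveI := geometricallyReduced_of_smooth (f ≫ CohB1.ProjSpace.toSpec 1 k)
  exact Groth.Agent.Lib.Helper6.H0Const.finrank_globalSections_eq_one k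
    (f ≫ CohB1.ProjSpace.toSpec 1 k)

/-- one summand: `f_* f^* O(t) ≅ (∐ O(d_j)) ⊗ O(t)` -/
noncomputable def summandIso {r : ℕ} (d : Fin r → ℤ)
    (e : (Scheme.Modules.pushforward f).obj (Coh.structureModule X) ≅
        ∐ fun i : Fin r => Twist.twistProjSpace 1 k (d i)) (t : ℤ) :
    (Scheme.Modules.pushforward f).obj ((Scheme.Modules.pullback f).obj (Twist.twistProjSpace 1 k t)) ≅
      CohB1.tensorMod (∐ fun j : Fin r => Twist.twistProjSpace 1 k (d j))
        (Twist.twistProjSpace 1 k t) :=
  pushPullIso f (Twist.twistProjSpace 1 k t) (Twist.twistProjSpace 1 k (-t))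
      (Groth.Agent.Lib.Helper27AmpleSerre.nonempty_twist_inv 1 k t).some
      (Groth.Agent.Lib.Helper27AmpleSerre.nonempty_twist_inv' 1 k t).some ≪≫
    (show CohB1.tensorMod ((Scheme.Modules.pushforward f).obj (Coh.structureModule X))
        (Twist.twistProjSpace 1 k t) ≅ CohB1.tensorMod (∐ fun j : Fin r => Twist.twistProjSpace 1 k (d j))
        (Twist.twistProjSpace 1 k t) from
      (eqToIso (tw_obj _ _).symm) ≪≫ (tw (Twist.twistProjSpace 1 k t)).mapIso e ≪≫ eqToIso (tw_obj _ _))

/-- the chain of isomorphisms computing `(X ×_{P¹} X → P¹)_* O` from a splitting of `f_* O_X` -/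
noncomputable def chainIso [IsAffineHom f] {r : ℕ} (d : Fin r → ℤ)
    (e : (Scheme.Modules.pushforward f).obj (Coh.structureModule X) ≅
        ∐ fun i : Fin r => Twist.twistProjSpace 1 k (d i)) :
    (Scheme.Modules.pushforward (pullback.snd f f ≫ f)).obj (Coh.structureModule (pullback f f)) ≅
      ∐ fun i : Fin r => CohB1.tensorMod (∐ fun j : Fin r => Twist.twistProjSpace 1 k (d j))
        (Twist.twistProjSpace 1 k (d i)) :=
  pushDiagIso f ≪≫
    (Scheme.Modules.pullback f ⋙ Scheme.Modules.pushforward f).mapIso e ≪≫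
    PreservesCoproduct.iso (Scheme.Modules.pullback f ⋙ Scheme.Modules.pushforward f)
      (fun i : Fin r => Twist.twistProjSpace 1 k (d i)) ≪≫
    Sigma.mapIso (fun i => summandIso k f d e (d i))

theorem finite_tw_sigma {r : ℕ} (d : Fin r → ℤ) (t : ℤ) :
    Module.Finite k (Coh.HH (CohB1.ProjSpace 1 k)
      (CohB1.tensorMod (∐ fun i => Twist.twistProjSpace 1 k (d i))
        (Twist.twistProjSpace 1 k t)) 0) := by
  let L := Twist.twistProjSpace 1 k t
  let g : Fin r → (CohB1.ProjSpace 1 k).Modules := fun i => Twist.twistProjSpace 1 k (d i)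
  let e1 : (tw L).obj (∐ g) ≅ ∐ fun i => (tw L).obj (g i) := PreservesCoproduct.iso (tw L) g
  have he : ∀ i, Nonempty ((tw L).obj (g i) ≅ Twist.twistProjSpace 1 k (d i + t)) :=
    fun i => Groth.Agent.Lib.Helper27SerreVanPn.nonempty_twist_tensor_iso 1 k (d i) t
  let e2 : (∐ fun i => (tw L).obj (g i)) ≅ ∐ fun i => Twist.twistProjSpace 1 k (d i + t) :=
    Sigma.mapIso (fun i => (he i).some)
  haveI hfin : ∀ i, Module.Finite k (Coh.HH (CohB1.ProjSpace 1 k)
      (Twist.twistProjSpace 1 k (d i + t)) 0) :=
    fun i => (Groth.Agent.Lib.Helper27HypDim.finrank_HH_zero k 1 le_rfl (d i + t)).1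
  have E1 := HHequiv (A := k) (e1 ≪≫ e2) 0
  have E2 := HHsigmaEquiv k (fun i => Twist.twistProjSpace 1 k (d i + t)) 0
  change Module.Finite k (Coh.HH (CohB1.ProjSpace 1 k) ((tw L).obj (∐ g)) 0)
  exact Module.Finite.equiv (E1.trans E2).symm

theorem finrank_hh0_diag [IsAffineHom f] {r : ℕ} (d : Fin r → ℤ)
    (e : (Scheme.Modules.pushforward f).obj (Coh.structureModule X) ≅
        ∐ fun i : Fin r => Twist.twistProjSpace 1 k (d i)) :
    Module.finrank k (Coh.HH (CohB1.ProjSpace 1 k)
      ((Scheme.Modules.pushforward (pullback.snd f f ≫ f)).obj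
        (Coh.structureModule (pullback f f))) 0) = ∑ i, ∑ j, (d j + d i + 1).toNat := by
  have h1 := (HHequiv (A := k) (chainIso k f d e) 0).finrank_eq
  have h2 := (HHsigmaEquiv k (fun i : Fin r => CohB1.tensorMod
    (∐ fun j : Fin r => Twist.twistProjSpace 1 k (d j)) (Twist.twistProjSpace 1 k (d i))) 0).finrank_eq
  haveI : ∀ i : Fin r, Module.Finite k (Coh.HH (CohB1.ProjSpace 1 k) (CohB1.tensorMod
      (∐ fun j : Fin r => Twist.twistProjSpace 1 k (d j)) (Twist.twistProjSpace 1 k (d i))) 0) :=
    fun i => finite_tw_sigma k d (d i)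
  rw [Module.finrank_pi_fintype] at h2
  rw [h1, h2]
  refine Finset.sum_congr rfl fun i _ => ?_
  exact Groth.Agent.Lib.Helper27P1Split.finrank_tw_sigma k d (d i)

/-- **the projective line is simply connected**: a finite étale morphism `X → P¹_k` with `X` geometrically connected over `k`
is an isomorphism -/
theorem main [IsFinite f] [Etale f]
    [GeometricallyConnected (f ≫ CohB1.ProjSpace.toSpec 1 k)] : IsIso f := by
  obtain ⟨r, d, -, ⟨e⟩⟩ := exists_splitting k f
  have h1 := finrank_hh0_push_eq_one k f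
  have h2 : Module.finrank k (Coh.HH (CohB1.ProjSpace 1 k)
      ((Scheme.Modules.pushforward f).obj (Coh.structureModule X)) 0) = ∑ i, (d i + 1).toNat := by
    have a := (HHequiv (A := k) e 0).finrank_eq
    have b := (HHsigmaEquiv k (fun i : Fin r => Twist.twistProjSpace 1 k (d i)) 0).finrank_eq
    haveI : ∀ i : Fin r, Module.Finite k (Coh.HH (CohB1.ProjSpace 1 k)
        (Twist.twistProjSpace 1 k (d i)) 0) :=
      fun i => (Groth.Agent.Lib.Helper27HypDim.finrank_HH_zero k 1 le_rfl (d i)).1
    rw [Module.finrank_pi_fintype] at b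
    rw [a, b]
    refine Finset.sum_congr rfl fun i _ => ?_
    rw [(Groth.Agent.Lib.Helper27HypDim.finrank_HH_zero k 1 le_rfl (d i)).2]
    simp
  have hsum : ∑ i, (d i + 1).toNat = 1 := h2.symm.trans h1
  have h3 := finrank_hh0_diag k f d e
  rw [double_sum_eq_one d hsum,
    Groth.Agent.Lib.Helper4.CurvePt.finrank_hh0_push (pullback.snd f f ≫ f) k] at h3
  letI alg : Algebra k Γ(pullback f f, ⊤) :=
    (Groth.Agent.Lib.Helper6.H0Const.gsMap k ((pullback.snd f f ≫ f) ≫
      (CohB1.ProjSpace 1 k ↘ Spec (CommRingCat.of k)))).hom.toAlgebra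
  haveI := preconnectedSpace_of_finrank_eq_one k (pullback f f) h3
  haveI : Nonempty X := by
    haveI : Surjective (f ≫ CohB1.ProjSpace.toSpec 1 k) := inferInstance
    obtain ⟨x, -⟩ := (f ≫ CohB1.ProjSpace.toSpec 1 k).surjective
      (Classical.arbitrary (Spec (CommRingCat.of k)))
    exact ⟨x⟩
  haveI : IrreducibleSpace (CohB1.ProjSpace 1 k) :=
    Groth.Agent.Lib.Helper27ProjSpaceIrr.irreducibleSpace_projSpace 1 k
  exact isIso_of_preconnected_diag f

end Groth.Agent.Lib.Helper4.EtP1
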