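import Mathlib
import Groth.Agent.Lib.Helper4EtP1
import Groth.Agent.Lib.Helper4ConicSm
import Groth.Agent.Lib.Helper4P1SepCl
import Groth.Agent.Lib.Helper4P1Iff
import Groth.Agent.Lib.Helper6CurveConn

/-!
# Finite étale covers of genus zero curves are trivial (helper4)

* `exists_iso_P1_bc`: a smooth proper curve with `h⁰(O) = 1` and `h¹(O) = 0` becomes `P¹` over the algebraic closure.
* `main`: **S11574**, by base change to the algebraic closure, simple connectedness of `P¹` (`Helper4EtP1.main`) and fpqc
  descent of isomorphisms.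
-/

set_option autoImplicit false
set_option linter.style.haveILetI false
set_option linter.unusedSectionVars false
universe u
open CategoryTheory CategoryTheory.Limits AlgebraicGeometry TopologicalSpace Opposite

namespace Groth.Agent.Lib.Helper4.EtGenusZero
open Groth.Agent.Lib.Helper4.CurveRR Groth.Agent.Lib.Helper4.Dev Groth.Agent.Lib.Helper4.CurveBun
  Groth.Agent.Lib.Helper4.ConicSm

variable (k : Type u) [Field k] (X Y : Scheme.{u}) [X.Over (Spec (CommRingCat.of k))]
  [Y.Over (Spec (CommRingCat.of k))]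

/-- the base change of a smooth proper geometrically connected curve of genus zero to the algebraic closure is `P¹` -/
theorem exists_iso_P1_bc [IsProper (Y ↘ (Spec (CommRingCat.of k)))] [Smooth (Y ↘ (Spec (CommRingCat.of k)))]
    (hdY : topologicalKrullDim Y = 1)
    (hY0 : Module.finrank k (Coh.HH Y (Coh.structureModule Y) 0) = 1)
    (hg : Curv2.genus k Y = 0) :
    ∃ e : Curv2.bc k Y (AlgebraicClosure k) ≅ CohB1.ProjSpace 1 (AlgebraicClosure k),
      e.hom ≫ CohB1.ProjSpace.toSpec 1 (AlgebraicClosure k) = Curv2.bcSnd k Y (AlgebraicClosure k) := by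
  let K := AlgebraicClosure k
  haveI hgc : GeometricallyConnected (Y ↘ (Spec (CommRingCat.of k))) :=
    (Groth.Agent.Lib.Helper6.CurveConn.smooth_proper_tfae k Y).1.1 hY0
  haveI hgi : GeometricallyIntegral (Y ↘ (Spec (CommRingCat.of k))) :=
    (Groth.Agent.Lib.Helper6.CurveConn.smooth_proper_tfae k Y).2.1 hgc
  haveI : IsLocallyNoetherian Y := isLocallyNoetherian_of_proper k Y
  letI : (Curv2.bc k Y K).Over (Spec (CommRingCat.of K)) := ⟨Curv2.bcSnd k Y K⟩
  haveI : Subsingleton (Spec (CommRingCat.of K)) := inferInstanceAs (Subsingleton (PrimeSpectrum K))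
  haveI : IsProper ((Curv2.bc k Y K) ↘ (Spec (CommRingCat.of K))) :=
    inferInstanceAs (IsProper (pullback.snd _ _))
  haveI : GeometricallyIntegral ((Curv2.bc k Y K) ↘ (Spec (CommRingCat.of K))) :=
    inferInstanceAs (GeometricallyIntegral (pullback.snd _ _))
  haveI : IsIntegral (Curv2.bc k Y K) :=
    GeometricallyIntegral.isIntegral_of_subsingleton ((Curv2.bc k Y K) ↘ (Spec (CommRingCat.of K)))
  have hdimY : topologicalKrullDim (Curv2.bc k Y K) = 1 := by rw [topologicalKrullDim_bc, hdY]
  haveI : IsLocallyNoetherian (Curv2.bc k Y K) := isLocallyNoetherian_of_proper K _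
  have hχ : Curv2.euler k Y (Coh.structureModule Y) = 1 := by
    rw [euler_eq_h0_sub_h1 k Y hdY.le _ (isCoh_structureModule _), hY0]
    unfold Curv2.genus at hg
    rw [hg]
    norm_num
  have hχK : Curv2.euler K (Curv2.bc k Y K) (Coh.structureModule (Curv2.bc k Y K)) = 1 := by
    rw [euler_bc_structureModule k Y K]
    exact hχ
  have h0 := Groth.Agent.Lib.Helper4.CurveDegSec.finrank_hh0_eq_one_of_isAlgClosed K (Curv2.bc k Y K)
  have e := euler_eq_h0_sub_h1 K (Curv2.bc k Y K) hdimY.le _ (isCoh_structureModule _)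
  have hgK : Curv2.genus K (Curv2.bc k Y K) = 0 := by
    unfold Curv2.genus
    rw [e, h0] at hχK
    have : (Module.finrank K (Coh.HH (Curv2.bc k Y K)
      (Coh.structureModule (Curv2.bc k Y K)) 1) : ℤ) = 0 := by
      push_cast at hχK
      linarith
    exact_mod_cast this
  exact Groth.Agent.Lib.Helper4.P1SepCl.exists_iso_P1_of_sepClosed K (Curv2.bc k Y K) hdimY hgK

/-- **S11574**: a finite étale morphism onto a smooth proper geometrically connected curve of genus zero from a smooth
proper geometrically connected `k`-scheme is an isomorphism -/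
theorem main [IsProper (X ↘ (Spec (CommRingCat.of k)))] [IsProper (Y ↘ (Spec (CommRingCat.of k)))]
    [Smooth (X ↘ (Spec (CommRingCat.of k)))] [Smooth (Y ↘ (Spec (CommRingCat.of k)))]
    (hdY : topologicalKrullDim Y = 1)
    (hX0 : Module.finrank k (Coh.HH X (Coh.structureModule X) 0) = 1)
    (hY0 : Module.finrank k (Coh.HH Y (Coh.structureModule Y) 0) = 1)
    (f : X ⟶ Y) [IsFinite f] [Etale f]
    (hf : f ≫ (Y ↘ (Spec (CommRingCat.of k))) = X ↘ (Spec (CommRingCat.of k)))
    (hg : Curv2.genus k Y = 0) : IsIso f := by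
  obtain ⟨ε, hε⟩ := exists_iso_P1_bc k Y hdY hY0 hg
  let K := AlgebraicClosure k
  let b := Curv2.bcFst k Y K
  let p := pullback.snd f b
  let g := p ≫ ε.hom
  haveI : IsFinite p := inferInstance
  haveI : Etale p := inferInstance
  haveI : IsFinite g := inferInstance
  haveI : Etale g := inferInstance
  haveI hgcX : GeometricallyConnected (X ↘ (Spec (CommRingCat.of k))) :=
    (Groth.Agent.Lib.Helper6.CurveConn.smooth_proper_tfae k X).1.1 hX0
  have hpb : IsPullback (pullback.fst f b) (p ≫ Curv2.bcSnd k Y K)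
      (X ↘ (Spec (CommRingCat.of k))) (Spec.map (CommRingCat.ofHom (algebraMap k K))) := by
    have h1 := IsPullback.of_hasPullback f b
    have h2 := IsPullback.of_hasPullback (Y ↘ (Spec (CommRingCat.of k)))
      (Spec.map (CommRingCat.ofHom (algebraMap k K)))
    have h3 := h1.paste_vert h2
    rw [hf] at h3
    exact h3
  have hgc : GeometricallyConnected (p ≫ Curv2.bcSnd k Y K) :=
    MorphismProperty.of_isPullback (P := @GeometricallyConnected) hpb hgcX
  have hcomp : g ≫ CohB1.ProjSpace.toSpec 1 K = p ≫ Curv2.bcSnd k Y K := by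
    rw [Category.assoc, hε]
  haveI : GeometricallyConnected (g ≫ CohB1.ProjSpace.toSpec 1 K) := by
    rw [hcomp]; exact hgc
  haveI hisog : IsIso g := Groth.Agent.Lib.Helper4.EtP1.main K g
  haveI hisop : IsIso p := by
    have : p = g ≫ ε.inv := by simp [g]
    rw [this]
    infer_instance
  haveI : Flat (Spec.map (CommRingCat.ofHom (algebraMap k K))) :=
    Groth.Agent.Lib.Helper6.H0Const.flat_specMap_field k K
  have hQ : (@Surjective ⊓ @Flat ⊓ @QuasiCompact : MorphismProperty Scheme.{u}) b :=
    ⟨⟨inferInstanceAs (Surjective (pullback.fst _ _)), inferInstanceAs (Flat (pullback.fst _ _))⟩,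
      inferInstanceAs (QuasiCompact (pullback.fst _ _))⟩
  exact MorphismProperty.of_pullback_snd_of_descendsAlong (P := MorphismProperty.isomorphisms Scheme.{u})
    (Q := @Surjective ⊓ @Flat ⊓ @QuasiCompact) (f := f) (g := b) hQ hisop

end Groth.Agent.Lib.Helper4.EtGenusZero
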