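import Groth.Prelude.Def_Mor2
import Groth.Agent.Lib.Helper5RegSeq
import Groth.Agent.Lib.Helper5StalkSpec

/-!
# Regular closed immersions near a point (helper5)

`StalkReg φ z` : the kernel of the stalk map of `φ` at `z` is generated by a regular sequence.
`RegAt φ z` : near `φ z` there is an affine open on which the kernel ideal of `φ` is generated by a
regular sequence of sections.  For a closed immersion into a locally Noetherian scheme these are
equivalent.
-/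

set_option autoImplicit false
set_option linter.style.haveILetI false
universe u

open AlgebraicGeometry CategoryTheory RingTheory.Sequence TopologicalSpace

namespace Groth.Agent.Lib.Helper5.RegImm

open Groth.Agent.Lib.Helper5.RegSeq

/-- Stalk-level condition. -/
def StalkReg {Z W : Scheme.{u}} (φ : Z ⟶ W) (z : Z) : Prop :=
  ∃ rs : List (W.presheaf.stalk (φ z)), IsRegular (W.presheaf.stalk (φ z)) rs ∧
    RingHom.ker (φ.stalkMap z).hom = Ideal.ofList rs

/-- Affine-level condition. -/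
def RegAt {Z W : Scheme.{u}} (φ : Z ⟶ W) (z : Z) : Prop :=
  ∃ (U : W.Opens) (hU : IsAffineOpen U), φ z ∈ U ∧ ∃ rs : List Γ(W, U),
    IsRegular Γ(W, U) rs ∧ φ.ker.ideal ⟨U, hU⟩ = Ideal.ofList rs

theorem ker_stalkMap_eq_map_ker {Z W : Scheme.{u}} (φ : Z ⟶ W) [IsClosedImmersion φ] (z : Z)
    (U : W.Opens) (hU : IsAffineOpen U) (hz : φ z ∈ U) :
    RingHom.ker (φ.stalkMap z).hom =
      (φ.ker.ideal ⟨U, hU⟩).map (W.presheaf.germ U (φ z) hz).hom := by
  have hU' : IsAffineOpen (φ ⁻¹ᵁ U) := hU.preimage φ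
  have hsq : ∀ a, (Z.presheaf.germ (φ ⁻¹ᵁ U) z hz).hom ((φ.app U).hom a)
      = (φ.stalkMap z).hom ((W.presheaf.germ U (φ z) hz).hom a) := fun a =>
    (φ.germ_stalkMap_apply U z hz a).symm
  have h := Groth.Agent.Lib.Helper5.StalkSpec.ker_eq_map_of_isLocalization
    (W.presheaf.germ U (φ z) hz).hom (Z.presheaf.germ (φ ⁻¹ᵁ U) z hz).hom (φ.app U).hom
    (φ.stalkMap z).hom hsq (φ.app_surjective U hU) _ (hU.isLocalization_stalk ⟨φ z, hz⟩) _
    (hU'.isLocalization_stalk ⟨z, hz⟩)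
  rw [h, Scheme.Hom.ker_apply]

theorem stalkReg_of_regAt {Z W : Scheme.{u}} (φ : Z ⟶ W) [IsClosedImmersion φ] (z : Z)
    (h : RegAt φ z) : StalkReg φ z := by
  obtain ⟨U, hU, hz, rs, hreg, hker⟩ := h
  letI := (W.presheaf.germ U (φ z) hz).hom.toAlgebra
  haveI : IsLocalization.AtPrime (W.presheaf.stalk (φ z)) (hU.primeIdealOf ⟨φ z, hz⟩).asIdeal :=
    hU.isLocalization_stalk ⟨φ z, hz⟩
  haveI : Module.Flat Γ(W, U) (W.presheaf.stalk (φ z)) :=
    IsLocalization.flat _ (hU.primeIdealOf ⟨φ z, hz⟩).asIdeal.primeCompl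
  have hw : IsWeaklyRegular (W.presheaf.stalk (φ z))
      (rs.map (W.presheaf.germ U (φ z) hz).hom) := hreg.toIsWeaklyRegular.of_flat
  have hk : RingHom.ker (φ.stalkMap z).hom
      = Ideal.ofList (rs.map (W.presheaf.germ U (φ z) hz).hom) := by
    rw [ker_stalkMap_eq_map_ker φ z U hU hz, hker, Ideal.map_ofList]
  refine ⟨_, ⟨hw, ?_⟩, hk⟩
  rw [smul_eq_mul, Ideal.mul_top, ← hk]
  exact (RingHom.ker_ne_top _).symm

theorem exists_affine_lift (W : Scheme.{u}) (x : W) (rs : List (W.presheaf.stalk x)) :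
    ∃ (U : W.Opens) (_ : IsAffineOpen U) (hx : x ∈ U) (as : List Γ(W, U)),
      as.map (W.presheaf.germ U x hx).hom = rs := by
  induction rs with
  | nil =>
    obtain ⟨U, hU, hx, -⟩ := exists_isAffineOpen_mem_and_subset (x := x) (U := ⊤) trivial
    exact ⟨U, hU, hx, [], rfl⟩
  | cons r rs ih =>
    obtain ⟨U₁, hU₁, hx₁, as₁, h₁⟩ := ih
    obtain ⟨U₂, hle, hx₂, s, hs⟩ := W.presheaf.exists_le_germ_eq r hx₁
    obtain ⟨U, hU, hx, hsub⟩ := exists_isAffineOpen_mem_and_subset hx₂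
    have hle₂ : U ≤ U₂ := hsub
    have hle₁ : U ≤ U₁ := hle₂.trans hle
    refine ⟨U, hU, hx, (W.presheaf.map (homOfLE hle₂).op).hom s ::
      as₁.map (W.presheaf.map (homOfLE hle₁).op).hom, ?_⟩
    rw [List.map_cons, List.map_map, ← h₁]
    congr 1
    · rw [← hs]
      exact W.presheaf.germ_res_apply (homOfLE hle₂) x hx s
    · apply List.map_congr_left
      intro a _
      exact W.presheaf.germ_res_apply (homOfLE hle₁) x hx a

theorem regAt_of_stalkReg {Z W : Scheme.{u}} [IsLocallyNoetherian W] (φ : Z ⟶ W)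
    [IsClosedImmersion φ] (z : Z) (h : StalkReg φ z) : RegAt φ z := by
  obtain ⟨rs, hreg, hker⟩ := h
  obtain ⟨U, hU, hz, as, has⟩ := exists_affine_lift W (φ z) rs
  haveI : IsNoetherianRing Γ(W, U) := IsLocallyNoetherian.component_noetherian ⟨U, hU⟩
  letI alg := (W.presheaf.germ U (φ z) hz).hom.toAlgebra
  haveI loc : IsLocalization.AtPrime (W.presheaf.stalk (φ z))
      (hU.primeIdealOf ⟨φ z, hz⟩).asIdeal := hU.isLocalization_stalk ⟨φ z, hz⟩
  have hmapI : (φ.ker.ideal ⟨U, hU⟩).map (algebraMap Γ(W, U) (W.presheaf.stalk (φ z)))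
      = (Ideal.ofList as).map (algebraMap Γ(W, U) (W.presheaf.stalk (φ z))) := by
    have h1 := ker_stalkMap_eq_map_ker φ z U hU hz
    rw [hker, ← has, ← Ideal.map_ofList] at h1
    exact h1.symm
  obtain ⟨g₁, hg₁, H₁⟩ := exists_notMem_forall_map_le.{u, u} (hU.primeIdealOf ⟨φ z, hz⟩).asIdeal
    (W.presheaf.stalk (φ z)) (IsNoetherian.noetherian (φ.ker.ideal ⟨U, hU⟩)) hmapI.le
  obtain ⟨g₂, hg₂, H₂⟩ := exists_notMem_forall_map_le.{u, u} (hU.primeIdealOf ⟨φ z, hz⟩).asIdeal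
    (W.presheaf.stalk (φ z)) (IsNoetherian.noetherian (Ideal.ofList as)) hmapI.ge
  have hregOn : RegOn ((⊥ : Ideal Γ(W, U)).map (algebraMap Γ(W, U) (W.presheaf.stalk (φ z))))
      (as.map (algebraMap Γ(W, U) (W.presheaf.stalk (φ z)))) := by
    rw [Ideal.map_bot]
    have := (isWeaklyRegular_iff_regOn rs).mp hreg.toIsWeaklyRegular
    rw [← has] at this
    exact this
  obtain ⟨g₃, hg₃, H₃⟩ := exists_notMem_forall_regOn.{u, u} (hU.primeIdealOf ⟨φ z, hz⟩).asIdeal
    (W.presheaf.stalk (φ z)) as ⊥ hregOn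
  obtain ⟨f, hf⟩ : ∃ f, f = g₁ * g₂ * g₃ := ⟨_, rfl⟩
  have hfp : f ∉ (hU.primeIdealOf ⟨φ z, hz⟩).asIdeal := by
    rw [hf]
    intro hmem
    rcases Ideal.IsPrime.mem_or_mem inferInstance hmem with h1 | h1
    · rcases Ideal.IsPrime.mem_or_mem inferInstance h1 with h2 | h2
      · exact hg₁ h2
      · exact hg₂ h2
    · exact hg₃ h1
  have hV : IsAffineOpen (W.basicOpen f) := hU.basicOpen f
  have hzV : φ z ∈ W.basicOpen f := by
    rw [W.mem_basicOpen f (φ z) hz]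
    exact (IsLocalization.AtPrime.isUnit_to_map_iff (W.presheaf.stalk (φ z))
      (hU.primeIdealOf ⟨φ z, hz⟩).asIdeal f).mpr hfp
  haveI : IsLocalization.Away f Γ(W, W.basicOpen f) := hU.isLocalization_basicOpen f
  have hfu : IsUnit (algebraMap Γ(W, U) Γ(W, W.basicOpen f) f) :=
    IsLocalization.Away.algebraMap_isUnit f
  have hfu' : IsUnit (algebraMap Γ(W, U) Γ(W, W.basicOpen f) g₁ *
      algebraMap Γ(W, U) Γ(W, W.basicOpen f) g₂ * algebraMap Γ(W, U) Γ(W, W.basicOpen f) g₃) := by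
    rw [← map_mul, ← map_mul, ← hf]
    exact hfu
  have hu₃ : IsUnit (algebraMap Γ(W, U) Γ(W, W.basicOpen f) g₃) := isUnit_of_mul_isUnit_right hfu'
  have hu₁₂ := isUnit_of_mul_isUnit_left hfu'
  have hu₁ : IsUnit (algebraMap Γ(W, U) Γ(W, W.basicOpen f) g₁) := isUnit_of_mul_isUnit_left hu₁₂
  have hu₂ : IsUnit (algebraMap Γ(W, U) Γ(W, W.basicOpen f) g₂) := isUnit_of_mul_isUnit_right hu₁₂
  have hkerV : φ.ker.ideal ⟨W.basicOpen f, hV⟩
      = Ideal.ofList (as.map (algebraMap Γ(W, U) Γ(W, W.basicOpen f))) := by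
    have h1 := φ.ker.map_ideal_basicOpen ⟨U, hU⟩ f
    have h2 : (φ.ker.ideal ⟨U, hU⟩).map (algebraMap Γ(W, U) Γ(W, W.basicOpen f))
        = (Ideal.ofList as).map (algebraMap Γ(W, U) Γ(W, W.basicOpen f)) :=
      le_antisymm (H₁ _ hu₁) (H₂ _ hu₂)
    rw [← Ideal.map_ofList, ← h2]
    exact h1.symm
  have hw : IsWeaklyRegular Γ(W, W.basicOpen f)
      (as.map (algebraMap Γ(W, U) Γ(W, W.basicOpen f))) := by
    rw [isWeaklyRegular_iff_regOn]
    have := H₃ (Submonoid.powers f) Γ(W, W.basicOpen f) hu₃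
    rw [Ideal.map_bot] at this
    exact this
  haveI : Nonempty ↥(φ ⁻¹ᵁ W.basicOpen f) := ⟨⟨z, hzV⟩⟩
  refine ⟨W.basicOpen f, hV, hzV, _, ⟨hw, ?_⟩, hkerV⟩
  rw [smul_eq_mul, Ideal.mul_top, ← hkerV, Scheme.Hom.ker_apply]
  exact (RingHom.ker_ne_top _).symm

/-- Transport of the stalk-level condition along an isomorphism of arrows. -/
theorem exists_regular_of_ringEquiv_square {R R' T T' : Type*} [CommRing R] [CommRing R']
    [CommRing T] [CommRing T'] (e₁ : R ≃+* R') (e₂ : T ≃+* T') (p : R →+* T)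
    (p' : R' →+* T') (hne : RingHom.ker p' ≠ ⊤) (hsq : ∀ a, e₂ (p a) = p' (e₁ a))
    (h : ∃ rs : List R, IsRegular R rs ∧ RingHom.ker p = Ideal.ofList rs) :
    ∃ rs' : List R', IsRegular R' rs' ∧ RingHom.ker p' = Ideal.ofList rs' := by
  obtain ⟨rs, hreg, hker⟩ := h
  have hk : RingHom.ker p' = Ideal.ofList (rs.map (e₁ : R →+* R')) := by
    rw [← Ideal.map_ofList, ← hker]
    ext a'
    constructor
    · intro ha'
      have h1 : e₁.symm a' ∈ RingHom.ker p := by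
        rw [RingHom.mem_ker]
        apply e₂.injective
        rw [hsq, RingEquiv.apply_symm_apply, map_zero]
        exact ha'
      have h2 := Ideal.mem_map_of_mem (e₁ : R →+* R') h1
      simpa using h2
    · intro ha'
      rw [Ideal.mem_map_iff_of_surjective (e₁ : R →+* R') e₁.surjective] at ha'
      obtain ⟨a, ha, rfl⟩ := ha'
      rw [RingHom.mem_ker] at ha ⊢
      change p' (e₁ a) = 0
      rw [← hsq, ha, map_zero]
  refine ⟨rs.map (e₁ : R →+* R'), ⟨?_, ?_⟩, hk⟩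
  · rw [isWeaklyRegular_iff_regOn, ← Ideal.map_bot (f := (e₁ : R →+* R')),
      regOn_map_of_surjective (e₁ : R →+* R') e₁.surjective ⊥ (by
        intro a ha
        rw [RingHom.mem_ker] at ha
        exact (Ideal.mem_bot).mpr (e₁.injective (by simpa using ha))),
      ← isWeaklyRegular_iff_regOn]
    exact hreg.toIsWeaklyRegular
  · rw [smul_eq_mul, Ideal.mul_top, ← hk]
    exact hne.symm

theorem stalkReg_morphismRestrict_iff {X Y : Scheme.{u}} (f : X ⟶ Y) (U : Y.Opens)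
    (x : (f ⁻¹ᵁ U).toScheme) : StalkReg (f ∣_ U) x ↔ StalkReg f x.1 := by
  obtain ⟨e, he⟩ : ∃ e, e = morphismRestrictStalkMap f U x := ⟨_, rfl⟩
  obtain ⟨e₁, he₁⟩ : ∃ e₁, e₁ = (Arrow.leftFunc.mapIso e).commRingCatIsoToRingEquiv := ⟨_, rfl⟩
  obtain ⟨e₂, he₂⟩ : ∃ e₂, e₂ = (Arrow.rightFunc.mapIso e).commRingCatIsoToRingEquiv := ⟨_, rfl⟩
  have hsq : ∀ a, e₂ (((f ∣_ U).stalkMap x).hom a) = (f.stalkMap x.1).hom (e₁ a) := by
    intro a
    have hw := e.hom.w
    have := congrArg (fun ψ => ψ.hom a) hw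
    rw [he₁, he₂]
    exact this.symm
  have hne₁ : RingHom.ker ((f ∣_ U).stalkMap x).hom ≠ ⊤ := RingHom.ker_ne_top _
  have hne₂ : RingHom.ker (f.stalkMap x.1).hom ≠ ⊤ := RingHom.ker_ne_top _
  constructor
  · intro h
    exact exists_regular_of_ringEquiv_square e₁ e₂ _ _ hne₂ hsq h
  · intro h
    refine exists_regular_of_ringEquiv_square e₁.symm e₂.symm _ _ hne₁ (fun a => ?_) h
    have h3 := hsq (e₁.symm a)
    rw [RingEquiv.apply_symm_apply] at h3
    exact e₂.symm_apply_eq.mpr h3.symm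

/-- **Key lemma**: a closed immersion into a locally Noetherian scheme is a regular immersion near
a point iff the kernel of the stalk map is generated by a regular sequence. -/
theorem regular_near_iff_stalkReg {X Z : Scheme.{u}} [IsLocallyNoetherian X] (i : Z ⟶ X)
    [IsClosedImmersion i] (z : Z) :
    (∃ V : X.Opens, i z ∈ V ∧ Mor2.IsRegularClosedImmersion (i ∣_ V)) ↔ StalkReg i z := by
  constructor
  · rintro ⟨V, hzV, hcl, hreg⟩
    haveI := hcl
    have h1 : RegAt (i ∣_ V) ⟨z, hzV⟩ := hreg ⟨z, hzV⟩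
    exact (stalkReg_morphismRestrict_iff i V ⟨z, hzV⟩).mp (stalkReg_of_regAt _ _ h1)
  · intro h
    obtain ⟨U, hU, hz, rs, hreg, hker⟩ := regAt_of_stalkReg i z h
    haveI hcl : IsClosedImmersion (i ∣_ U) := IsZariskiLocalAtTarget.restrict (P := @IsClosedImmersion) inferInstance U
    refine ⟨U, hz, hcl, fun z' => ?_⟩
    have h1 : RegAt i z'.1 := ⟨U, hU, z'.2, rs, hreg, hker⟩
    have h2 : StalkReg (i ∣_ U) z' :=
      (stalkReg_morphismRestrict_iff i U z').mpr (stalkReg_of_regAt i z'.1 h1)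
    exact regAt_of_stalkReg (i ∣_ U) z' h2

end Groth.Agent.Lib.Helper5.RegImm
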