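import Mathlib
import Groth.Prelude.Def_Mor2
import Groth.Prelude.Def_CInt
import Groth.Agent.Lib.Helper5RegImm
import Groth.Agent.Lib.Helper5FiberStalk

/-!
# Geometry of slices `Spec (Γ(X,U)/I) ⟶ X` (helper5)

For an affine open `U` of `X` and an ideal `I` of `Γ(X, U)`:
* `sliceι hU I : Spec (Γ(X,U)/I) ⟶ X`;
* `isRegularClosedImmersion_slice`: if `I` is generated by a weakly regular sequence then
  `Spec (Γ(X,U)/I) ⟶ U` is a regular closed immersion;
* `flat_sliceι_comp`, `lfp_sliceι_comp`;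
* `stalkMap_sliceι`: the stalk maps are surjective with kernel generated by `I`;
* `nonempty_fiberStalk_comp_equiv`, `nonempty_fiberStalk_slice_equiv`: the fibre local rings;
* `exists_openImmersion_slice`: restricting to a basic open of `U` gives an open subscheme of the
  slice.
-/

set_option autoImplicit false
set_option linter.style.haveILetI false
universe u
open CategoryTheory CategoryTheory.Limits AlgebraicGeometry TopologicalSpace Opposite
open RingTheory.Sequence IsLocalRing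

namespace Groth.Agent.Lib.Helper5.SliceListGeo
open Groth.Agent.Lib.Helper5.RegImm Groth.Agent.Lib.Helper5.StalkSpec
  Groth.Agent.Lib.Helper5.FiberStalk

theorem surjective_of_isLocalization {R R' T T' : Type*} [CommRing R] [CommRing R'] [CommRing T]
    [CommRing T'] (φ : R →+* R') (ψ : T →+* T') (iy : R →+* T) (iz : R' →+* T')
    (hsq : ∀ a, ψ (iy a) = iz (φ a)) (hiy : Function.Surjective iy) [IsLocalHom iz]
    (N : Submonoid T) (hN : @IsLocalization _ _ N T' _ ψ.toAlgebra) :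
    Function.Surjective iz := by
  letI := ψ.toAlgebra
  intro t'
  obtain ⟨⟨t, n⟩, h⟩ := IsLocalization.surj N t'
  have h' : t' * ψ n = ψ t := h
  obtain ⟨b, rfl⟩ := hiy t
  obtain ⟨s', hs'⟩ := hiy n
  have h3 : iz (φ s') = ψ n := by rw [← hsq, hs']
  have hu : IsUnit (φ s') := by
    have : IsUnit (iz (φ s')) := by
      rw [h3]
      exact IsLocalization.map_units T' n
    exact isUnit_of_map_unit iz _ this
  obtain ⟨w, hw⟩ := hu
  refine ⟨φ b * ↑w⁻¹, ?_⟩
  have h4 : ψ (n : T) * iz ((↑w⁻¹ : R')) = 1 := by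
    rw [← h3, ← hw, ← map_mul, Units.mul_inv, map_one]
  rw [map_mul, ← hsq, ← h', mul_assoc, h4, mul_one]

section Slice

variable {X : Scheme.{u}} {U : X.Opens} (hU : IsAffineOpen U) (I : Ideal Γ(X, U))

/-- the slice `Spec (Γ(X,U)/I) ⟶ X`. -/
noncomputable abbrev sliceι : Spec (CommRingCat.of (Γ(X, U) ⧸ I)) ⟶ X :=
  Spec.map (CommRingCat.ofHom (Ideal.Quotient.mk I)) ≫ hU.fromSpec

theorem sliceι_mem (y : Spec (CommRingCat.of (Γ(X, U) ⧸ I))) : sliceι hU I y ∈ U := by
  show (Spec.map (CommRingCat.ofHom (Ideal.Quotient.mk I)) ≫ hU.fromSpec) y ∈ U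
  rw [Scheme.Hom.comp_apply]
  have h := hU.range_fromSpec
  have h2 : hU.fromSpec ((Spec.map (CommRingCat.ofHom (Ideal.Quotient.mk I))) y) ∈
      Set.range hU.fromSpec := Set.mem_range_self _
  rw [h] at h2
  exact h2

theorem sliceι_injective : Function.Injective (sliceι hU I) := by
  haveI : IsClosedImmersion (Spec.map (CommRingCat.ofHom (Ideal.Quotient.mk I))) :=
    IsClosedImmersion.spec_of_surjective _ Ideal.Quotient.mk_surjective
  intro y y' h
  have h' : hU.fromSpec ((Spec.map (CommRingCat.ofHom (Ideal.Quotient.mk I))) y) =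
      hU.fromSpec ((Spec.map (CommRingCat.ofHom (Ideal.Quotient.mk I))) y') := by
    rw [← Scheme.Hom.comp_apply, ← Scheme.Hom.comp_apply]
    exact h
  exact (Spec.map (CommRingCat.ofHom (Ideal.Quotient.mk I))).isClosedEmbedding.injective
    (hU.fromSpec.isOpenEmbedding.injective h')

theorem exists_sliceι_eq (x : X) (hx : x ∈ U) (hI : I ≤ (hU.primeIdealOf ⟨x, hx⟩).asIdeal) :
    ∃ y, sliceι hU I y = x := by
  have h1 : hU.primeIdealOf ⟨x, hx⟩ ∈
      Set.range (PrimeSpectrum.comap (Ideal.Quotient.mk I)) := by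
    rw [range_comap_of_surjective _ _ Ideal.Quotient.mk_surjective, Ideal.mk_ker,
      PrimeSpectrum.mem_zeroLocus]
    exact hI
  obtain ⟨y, hy⟩ := h1
  refine ⟨y, ?_⟩
  show (Spec.map (CommRingCat.ofHom (Ideal.Quotient.mk I)) ≫ hU.fromSpec) y = x
  rw [Scheme.Hom.comp_apply]
  have h2 : (Spec.map (CommRingCat.ofHom (Ideal.Quotient.mk I))) y =
      hU.primeIdealOf ⟨x, hx⟩ := hy
  rw [h2, hU.fromSpec_primeIdealOf]

theorem flat_sliceι_comp {S : Scheme.{u}} (f : X ⟶ S) {V : S.Opens} (hV : IsAffineOpen V)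
    (e : U ≤ f ⁻¹ᵁ V) (hfl : ((Ideal.Quotient.mk I).comp (f.appLE V U e).hom).Flat) :
    Flat (sliceι hU I ≫ f) := by
  show Flat ((Spec.map (CommRingCat.ofHom (Ideal.Quotient.mk I)) ≫ hU.fromSpec) ≫ f)
  rw [Category.assoc, ← IsAffineOpen.SpecMap_appLE_fromSpec f hV hU e, ← Category.assoc,
    ← Spec.map_comp]
  haveI : Flat (Spec.map (f.appLE V U e ≫ CommRingCat.ofHom (Ideal.Quotient.mk I))) := by
    rw [HasRingHomProperty.Spec_iff (P := @Flat), CommRingCat.hom_comp, CommRingCat.hom_ofHom]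
    exact hfl
  infer_instance

theorem lfp_sliceι_comp {S : Scheme.{u}} (f : X ⟶ S) [LocallyOfFinitePresentation f]
    (hI : I.FG) : LocallyOfFinitePresentation (sliceι hU I ≫ f) := by
  haveI : LocallyOfFinitePresentation (Spec.map (CommRingCat.ofHom (Ideal.Quotient.mk I))) := by
    rw [HasRingHomProperty.Spec_iff (P := @LocallyOfFinitePresentation), CommRingCat.hom_ofHom]
    refine RingHom.FinitePresentation.of_surjective _ Ideal.Quotient.mk_surjective ?_
    rw [Ideal.mk_ker]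
    exact hI
  show LocallyOfFinitePresentation
    ((Spec.map (CommRingCat.ofHom (Ideal.Quotient.mk I)) ≫ hU.fromSpec) ≫ f)
  infer_instance

theorem ofList_fg {R : Type*} [CommRing R] (rs : List R) : (Ideal.ofList rs).FG := by
  rw [Ideal.ofList]
  exact Submodule.fg_span (List.finite_toSet rs)

set_option maxHeartbeats 1600000 in
theorem stalkMap_aux (i : Spec (CommRingCat.of (Γ(X, U) ⧸ I)) ⟶ X) (hi : i = sliceι hU I)
    (y : Spec (CommRingCat.of (Γ(X, U) ⧸ I))) (hy : i y ∈ U) :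
    Function.Surjective (i.stalkMap y).hom ∧
      RingHom.ker (i.stalkMap y).hom = I.map (X.presheaf.germ U (i y) hy).hom := by
  have le : (⊤ : (Spec (CommRingCat.of (Γ(X, U) ⧸ I))).Opens) ≤ i ⁻¹ᵁ U :=
    fun y' _ => hi ▸ sliceι_mem hU I y'
  have hψ : i.appLE U ⊤ le = CommRingCat.ofHom (Ideal.Quotient.mk I) ≫
      (Scheme.ΓSpecIso (CommRingCat.of (Γ(X, U) ⧸ I))).inv := by
    apply Spec.map_injective
    have h1 := IsAffineOpen.SpecMap_appLE_fromSpec i hU
      (isAffineOpen_top (Spec (CommRingCat.of (Γ(X, U) ⧸ I)))) le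
    rw [IsAffineOpen.fromSpec_top, Scheme.isoSpec_Spec_inv] at h1
    have h2 : Spec.map (i.appLE U ⊤ le) ≫ hU.fromSpec =
        Spec.map (CommRingCat.ofHom (Ideal.Quotient.mk I) ≫
          (Scheme.ΓSpecIso (CommRingCat.of (Γ(X, U) ⧸ I))).inv) ≫ hU.fromSpec := by
      rw [h1, Spec.map_comp, Category.assoc, hi]
    exact (cancel_mono hU.fromSpec).mp h2
  have hinj : Function.Injective
      (Scheme.ΓSpecIso (CommRingCat.of (Γ(X, U) ⧸ I))).inv.hom :=
    (ConcreteCategory.bijective_of_isIso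
      (Scheme.ΓSpecIso (CommRingCat.of (Γ(X, U) ⧸ I))).inv).injective
  have hsur : Function.Surjective
      (Scheme.ΓSpecIso (CommRingCat.of (Γ(X, U) ⧸ I))).inv.hom :=
    (ConcreteCategory.bijective_of_isIso
      (Scheme.ΓSpecIso (CommRingCat.of (Γ(X, U) ⧸ I))).inv).surjective
  have hψapp : ∀ t, (i.appLE U ⊤ le).hom t =
      (Scheme.ΓSpecIso (CommRingCat.of (Γ(X, U) ⧸ I))).inv.hom (Ideal.Quotient.mk I t) := by
    intro t
    rw [hψ]
    rfl
  have hψsurj : Function.Surjective (i.appLE U ⊤ le).hom := by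
    intro s
    obtain ⟨r, rfl⟩ := hsur s
    obtain ⟨t, rfl⟩ := Ideal.Quotient.mk_surjective r
    exact ⟨t, hψapp t⟩
  have hψker : RingHom.ker (i.appLE U ⊤ le).hom = I := by
    ext t
    rw [RingHom.mem_ker, hψapp, map_eq_zero_iff _ hinj, Ideal.Quotient.eq_zero_iff_mem]
  have hsq : ∀ t, ((Spec (CommRingCat.of (Γ(X, U) ⧸ I))).presheaf.germ ⊤ y trivial).hom
      ((i.appLE U ⊤ le).hom t) = (i.stalkMap y).hom ((X.presheaf.germ U (i y) hy).hom t) := by
    intro t
    have h1 : (i.appLE U ⊤ le).hom t =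
        (Spec (CommRingCat.of (Γ(X, U) ⧸ I))).presheaf.map (homOfLE le).op (i.app U t) := by
      rw [Scheme.Hom.appLE]; rfl
    rw [h1]
    have h2 := TopCat.Presheaf.germ_res_apply (Spec (CommRingCat.of (Γ(X, U) ⧸ I))).presheaf
      (homOfLE le) y trivial (i.app U t)
    refine h2.trans ?_
    exact (Scheme.Hom.germ_stalkMap_apply i U y hy t).symm
  refine ⟨?_, ?_⟩
  · exact surjective_of_isLocalization (X.presheaf.germ U (i y) hy).hom
      ((Spec (CommRingCat.of (Γ(X, U) ⧸ I))).presheaf.germ ⊤ y trivial).hom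
      (i.appLE U ⊤ le).hom (i.stalkMap y).hom hsq hψsurj _
      ((isAffineOpen_top (Spec (CommRingCat.of (Γ(X, U) ⧸ I)))).isLocalization_stalk ⟨y, trivial⟩)
  · have h := ker_eq_map_of_isLocalization (X.presheaf.germ U (i y) hy).hom
      ((Spec (CommRingCat.of (Γ(X, U) ⧸ I))).presheaf.germ ⊤ y trivial).hom
      (i.appLE U ⊤ le).hom (i.stalkMap y).hom hsq hψsurj _
      (hU.isLocalization_stalk ⟨i y, hy⟩) _
      ((isAffineOpen_top (Spec (CommRingCat.of (Γ(X, U) ⧸ I)))).isLocalization_stalk ⟨y, trivial⟩)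
    rw [h, hψker]

/-- the stalk maps of a slice are surjective with kernel generated by `I`. -/
theorem stalkMap_sliceι (y : Spec (CommRingCat.of (Γ(X, U) ⧸ I))) :
    Function.Surjective ((sliceι hU I).stalkMap y).hom ∧
      RingHom.ker ((sliceι hU I).stalkMap y).hom =
        I.map (X.presheaf.germ U (sliceι hU I y) (sliceι_mem hU I y)).hom :=
  stalkMap_aux hU I (sliceι hU I) rfl y (sliceι_mem hU I y)

end Slice

section Regular

variable {X : Scheme.{u}} {U : X.Opens} (hU : IsAffineOpen U)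

set_option maxHeartbeats 1600000 in
theorem isRegularClosedImmersion_slice' (I : Ideal Γ(X, U)) (rs : List Γ(X, U))
    (hI : I = Ideal.ofList rs) (hreg : IsWeaklyRegular Γ(X, U) rs) :
    Mor2.IsRegularClosedImmersion (Spec.map (CommRingCat.ofHom
      (Ideal.Quotient.mk I)) ≫ hU.isoSpec.inv) := by
  haveI : IsClosedImmersion (Spec.map (CommRingCat.ofHom (Ideal.Quotient.mk I))) :=
    IsClosedImmersion.spec_of_surjective _ Ideal.Quotient.mk_surjective
  haveI : IsAffine (U : Scheme.{u}) := hU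
  obtain ⟨j, hj⟩ : ∃ j : Spec (CommRingCat.of (Γ(X, U) ⧸ I)) ⟶ (U : Scheme.{u}),
      j = Spec.map (CommRingCat.ofHom (Ideal.Quotient.mk I)) ≫ hU.isoSpec.inv := ⟨_, rfl⟩
  rw [← hj]
  haveI : IsClosedImmersion j := by rw [hj]; infer_instance
  refine ⟨inferInstance, fun z => ?_⟩
  refine ⟨⊤, isAffineOpen_top _, trivial, ?_⟩
  rw [Scheme.Hom.ker_apply]
  haveI hnt : Nontrivial (Γ(X, U) ⧸ I) := PrimeSpectrum.nonempty_iff_nontrivial.mp ⟨z⟩
  have hne : I ≠ ⊤ := fun h => not_subsingleton _ (Ideal.Quotient.subsingleton_iff.mpr h)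
  let e₁ : Γ(X, U) ≃+* Γ((U : Scheme.{u}), ⊤) := U.topIso.symm.commRingCatIsoToRingEquiv
  let e₂ : (Γ(X, U) ⧸ I) ≃+* Γ(Spec (CommRingCat.of (Γ(X, U) ⧸ I)), ⊤) :=
    (Scheme.ΓSpecIso (CommRingCat.of (Γ(X, U) ⧸ I))).symm.commRingCatIsoToRingEquiv
  have hsq : ∀ a, e₂ (Ideal.Quotient.mk I a) = j.appTop.hom (e₁ a) := by
    intro a
    have h1 : j.appTop = U.topIso.hom ≫ (Scheme.ΓSpecIso Γ(X, U)).inv ≫
        (Spec.map (CommRingCat.ofHom (Ideal.Quotient.mk I))).appTop := by
      rw [hj, Scheme.Hom.comp_appTop, hU.isoSpec_inv_appTop, Category.assoc]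
    have h2 : (Scheme.ΓSpecIso Γ(X, U)).inv ≫
        (Spec.map (CommRingCat.ofHom (Ideal.Quotient.mk I))).appTop =
        CommRingCat.ofHom (Ideal.Quotient.mk I) ≫
          (Scheme.ΓSpecIso (CommRingCat.of (Γ(X, U) ⧸ I))).inv :=
      (Scheme.ΓSpecIso_inv_naturality _).symm
    have h3 : U.topIso.inv ≫ j.appTop = CommRingCat.ofHom (Ideal.Quotient.mk I) ≫
        (Scheme.ΓSpecIso (CommRingCat.of (Γ(X, U) ⧸ I))).inv := by
      rw [h1, Iso.inv_hom_id_assoc, h2]
    exact (congrArg (fun φ => φ.hom a) h3).symm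
  haveI : Nontrivial Γ(Spec (CommRingCat.of (Γ(X, U) ⧸ I)), ⊤) := e₂.symm.surjective.nontrivial
  have hne' : RingHom.ker j.appTop.hom ≠ ⊤ := RingHom.ker_ne_top _
  exact exists_regular_of_ringEquiv_square e₁ e₂ (Ideal.Quotient.mk I) j.appTop.hom hne' hsq
    ⟨rs, ⟨hreg, by rw [smul_eq_mul, Ideal.mul_top, ← hI]; exact hne.symm⟩, by
      rw [Ideal.mk_ker, hI]⟩

theorem isRegularClosedImmersion_slice (rs : List Γ(X, U)) (hreg : IsWeaklyRegular Γ(X, U) rs) :
    Mor2.IsRegularClosedImmersion (Spec.map (CommRingCat.ofHom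
      (Ideal.Quotient.mk (Ideal.ofList rs))) ≫ hU.isoSpec.inv) :=
  isRegularClosedImmersion_slice' hU _ rs rfl hreg

theorem ofList_reverse {R : Type*} [CommRing R] (rs : List R) :
    Ideal.ofList rs.reverse = Ideal.ofList rs := by
  rw [Ideal.ofList, Ideal.ofList]
  congr 1
  ext x
  simp

end Regular

section FiberStalk

/-- the fibre local ring of a composite `Y ⟶ X ⟶ S` at a point where `Y ⟶ X` is surjective on
stalks. -/
theorem nonempty_fiberStalk_comp_equiv {X S Y : Scheme.{u}} (i : Y ⟶ X) (f : X ⟶ S) (y : Y)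
    (hsurj : Function.Surjective (i.stalkMap y).hom) :
    Nonempty (CInt.fiberStalk (i ≫ f) y ≃+*
      (X.presheaf.stalk (i y) ⧸ (fibIdeal f (i y) ⊔ RingHom.ker (i.stalkMap y).hom))) := by
  obtain ⟨e₁⟩ := nonempty_stalk_asFiber_equiv (i ≫ f) y
  have hJ : (maximalIdeal (S.presheaf.stalk ((i ≫ f) y))).map ((i ≫ f).stalkMap y).hom =
      (fibIdeal f (i y)).map (i.stalkMap y).hom := by
    show Ideal.map ((i ≫ f).stalkMap y).hom _ =
      Ideal.map (i.stalkMap y).hom (Ideal.map (f.stalkMap (i y)).hom _)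
    rw [Ideal.map_map, ← CommRingCat.hom_comp, ← Scheme.Hom.stalkMap_comp]
    rfl
  have hψ : Function.Surjective ((Ideal.Quotient.mk ((fibIdeal f (i y)).map
      (i.stalkMap y).hom)).comp (i.stalkMap y).hom) :=
    Ideal.Quotient.mk_surjective.comp hsurj
  have hker : RingHom.ker ((Ideal.Quotient.mk ((fibIdeal f (i y)).map
      (i.stalkMap y).hom)).comp (i.stalkMap y).hom) =
      fibIdeal f (i y) ⊔ RingHom.ker (i.stalkMap y).hom := by
    rw [← RingHom.comap_ker, Ideal.mk_ker, Ideal.comap_map_of_surjective _ hsurj]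
    rfl
  exact ⟨e₁.trans ((Ideal.quotEquivOfEq hJ).trans
    ((RingHom.quotientKerEquivOfSurjective hψ).symm.trans (Ideal.quotEquivOfEq hker)))⟩

variable {X : Scheme.{u}} {U : X.Opens} (hU : IsAffineOpen U)

/-- the fibre local rings of a slice. -/
theorem nonempty_fiberStalk_slice_equiv {S : Scheme.{u}} (f : X ⟶ S) (rs : List Γ(X, U))
    (y : Spec (CommRingCat.of (Γ(X, U) ⧸ Ideal.ofList rs))) :
    Nonempty (CInt.fiberStalk (sliceι hU (Ideal.ofList rs) ≫ f) y ≃+*
      ((X.presheaf.stalk (sliceι hU (Ideal.ofList rs) y) ⧸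
          fibIdeal f (sliceι hU (Ideal.ofList rs) y)) ⧸
        Ideal.ofList ((rs.map (X.presheaf.germ U (sliceι hU (Ideal.ofList rs) y)
          (sliceι_mem hU _ y)).hom).map
            (Ideal.Quotient.mk (fibIdeal f (sliceι hU (Ideal.ofList rs) y)))))) := by
  obtain ⟨hsurj, hker⟩ := stalkMap_sliceι hU (Ideal.ofList rs) y
  obtain ⟨e₁⟩ := nonempty_fiberStalk_comp_equiv (sliceι hU (Ideal.ofList rs)) f y hsurj
  have h2 : fibIdeal f (sliceι hU (Ideal.ofList rs) y) ⊔
      RingHom.ker ((sliceι hU (Ideal.ofList rs)).stalkMap y).hom =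
      fibIdeal f (sliceι hU (Ideal.ofList rs) y) ⊔
        Ideal.ofList (rs.map (X.presheaf.germ U (sliceι hU (Ideal.ofList rs) y)
          (sliceι_mem hU _ y)).hom) := by
    rw [hker, Ideal.map_ofList]
  have h3 : (Ideal.ofList (rs.map (X.presheaf.germ U (sliceι hU (Ideal.ofList rs) y)
      (sliceι_mem hU _ y)).hom)).map
        (Ideal.Quotient.mk (fibIdeal f (sliceι hU (Ideal.ofList rs) y))) =
      Ideal.ofList ((rs.map (X.presheaf.germ U (sliceι hU (Ideal.ofList rs) y)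
        (sliceι_mem hU _ y)).hom).map
          (Ideal.Quotient.mk (fibIdeal f (sliceι hU (Ideal.ofList rs) y)))) :=
    Ideal.map_ofList _ _
  exact ⟨e₁.trans ((Ideal.quotEquivOfEq h2).trans
    ((DoubleQuot.quotQuotEquivQuotSup _ _).symm.trans (Ideal.quotEquivOfEq h3)))⟩

end FiberStalk

section Compare

variable {X : Scheme.{u}} {U : X.Opens} (hU : IsAffineOpen U)

set_option maxHeartbeats 1600000 in
/-- restricting a slice to a basic open of `U` gives an open subscheme of the slice. -/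
theorem exists_openImmersion_slice {U' : X.Opens} (hU' : IsAffineOpen U') (hle : U' ≤ U)
    (b : Γ(X, U)) (e : U' = X.basicOpen b) (rs : List Γ(X, U)) :
    ∃ ι : Spec (CommRingCat.of (Γ(X, U') ⧸
        Ideal.ofList (rs.map (X.presheaf.map (homOfLE hle).op).hom))) ⟶
        Spec (CommRingCat.of (Γ(X, U) ⧸ Ideal.ofList rs)),
      IsOpenImmersion ι ∧
      (∀ p : Spec (CommRingCat.of (Γ(X, U) ⧸ Ideal.ofList rs)), p ∈ Set.range ι ↔
        Ideal.Quotient.mk (Ideal.ofList rs) b ∉ PrimeSpectrum.asIdeal p) ∧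
      ι ≫ sliceι hU (Ideal.ofList rs) =
        sliceι hU' (Ideal.ofList (rs.map (X.presheaf.map (homOfLE hle).op).hom)) := by
  obtain ⟨res, hres⟩ : ∃ res : Γ(X, U) →+* Γ(X, U'),
      res = (X.presheaf.map (homOfLE hle).op).hom := ⟨_, rfl⟩
  rw [← hres]
  obtain ⟨I, hI⟩ : ∃ I : Ideal Γ(X, U), I = Ideal.ofList rs := ⟨_, rfl⟩
  obtain ⟨I', hI'⟩ : ∃ I' : Ideal Γ(X, U'), I' = Ideal.ofList (rs.map res) := ⟨_, rfl⟩
  rw [← hI, ← hI']
  have hII' : I.map res = I' := by rw [hI, hI', Ideal.map_ofList]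
  have hle' : I ≤ I'.comap res := by rw [← Ideal.map_le_iff_le_comap, hII']
  letI : Algebra Γ(X, U) Γ(X, U') := res.toAlgebra
  haveI : IsLocalization.Away b Γ(X, U') := by
    have := hU.isLocalization_of_eq_basicOpen b (homOfLE hle) e
    rw [← hres] at this
    exact this
  letI : Algebra (Γ(X, U) ⧸ I) (Γ(X, U') ⧸ I') := (Ideal.quotientMap I' res hle').toAlgebra
  have hloc : IsLocalization ((Submonoid.powers b).map (Ideal.Quotient.mk I)) (Γ(X, U') ⧸ I') :=
    IsLocalization.of_surjective (Submonoid.powers b) Γ(X, U') (Ideal.Quotient.mk I)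
      Ideal.Quotient.mk_surjective (Ideal.Quotient.mk I') Ideal.Quotient.mk_surjective
      (by ext a; rfl) (by rw [Ideal.mk_ker, Ideal.mk_ker]; exact hII'.ge)
  haveI : IsLocalization.Away (Ideal.Quotient.mk I b) (Γ(X, U') ⧸ I') := by
    have h1 : (Submonoid.powers b).map (Ideal.Quotient.mk I) =
        Submonoid.powers (Ideal.Quotient.mk I b) := Submonoid.map_powers _ _
    rw [h1] at hloc
    exact hloc
  refine ⟨Spec.map (CommRingCat.ofHom (algebraMap (Γ(X, U) ⧸ I) (Γ(X, U') ⧸ I'))),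
    IsOpenImmersion.of_isLocalization (Ideal.Quotient.mk I b), ?_, ?_⟩
  · intro p
    have h := PrimeSpectrum.localization_away_comap_range (Γ(X, U') ⧸ I') (Ideal.Quotient.mk I b)
    have h2 : p ∈ Set.range (PrimeSpectrum.comap (algebraMap (Γ(X, U) ⧸ I) (Γ(X, U') ⧸ I'))) ↔
        Ideal.Quotient.mk I b ∉ PrimeSpectrum.asIdeal p := by
      rw [h]
      exact Iff.rfl
    exact h2
  · show Spec.map (CommRingCat.ofHom (algebraMap (Γ(X, U) ⧸ I) (Γ(X, U') ⧸ I'))) ≫
      Spec.map (CommRingCat.ofHom (Ideal.Quotient.mk I)) ≫ hU.fromSpec =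
      Spec.map (CommRingCat.ofHom (Ideal.Quotient.mk I')) ≫ hU'.fromSpec
    rw [← hU.map_fromSpec hU' (homOfLE hle).op, ← Category.assoc, ← Category.assoc,
      ← Spec.map_comp, ← Spec.map_comp]
    congr 2
    ext a
    show Ideal.quotientMap I' res hle' (Ideal.Quotient.mk I a) = Ideal.Quotient.mk I' _
    rw [Ideal.quotientMap_mk, hres]
    rfl

end Compare

end Groth.Agent.Lib.Helper5.SliceListGeo
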