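import Mathlib
import Groth.Agent.Lib.Helper5SliceC
import Groth.Agent.Lib.Helper5RegSeq

/-!
# Slicing flat morphisms by fibrewise regular sequences: the ring-level theorem (helper5)

`A → C` of finite presentation, `P` a prime of `C` over `p`, `L = C_P` flat over `A`, `h₁, …, h_r ∈ P`
whose images form a weakly regular sequence on `L / p L`.  Then for some `g ∉ P`, on every further
localization `C₁ = C_{g g₂}` the (reversed) sequence is weakly regular and all the partial quotients
`C₁ / (h_r, …, h_{k})` are flat over `A`.  The induction changes the base `A ↦ A[X]` (with `X ↦ h₁`)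
and keeps `C`, `P`, `L` fixed.
-/

set_option autoImplicit false
set_option linter.style.haveILetI false
universe u
open Polynomial RingTheory.Sequence

namespace Groth.Agent.Lib.Helper5.SliceList
open Groth.Agent.Lib.Helper5.Slice Groth.Agent.Lib.Helper5.RegSeq

/-- the reversed list is weakly regular and all its partial quotients are flat over `A`. -/
def FlatReg (A : Type u) {C₁ : Type u} [CommRing A] [CommRing C₁] [Algebra A C₁]
    (hs : List C₁) : Prop :=
  IsWeaklyRegular C₁ hs.reverse ∧
    ∀ k : ℕ, Module.Flat A (C₁ ⧸ Ideal.ofList (hs.reverse.take k))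

theorem flat_quotient_congr {A C₁ : Type*} [CommRing A] [CommRing C₁] [Algebra A C₁]
    {I J : Ideal C₁} (h : I = J) (hf : Module.Flat A (C₁ ⧸ J)) : Module.Flat A (C₁ ⧸ I) := by
  subst h
  exact hf

theorem regOn_of_isWeaklyRegular_quotient {L : Type*} [CommRing L] (J : Ideal L) (hs : List L)
    (h : IsWeaklyRegular (L ⧸ J) (hs.map (Ideal.Quotient.mk J))) : RegOn J hs := by
  rw [isWeaklyRegular_iff_regOn, ← Ideal.map_quotient_self J,
    regOn_map_of_surjective (Ideal.Quotient.mk J) Ideal.Quotient.mk_surjective J
      (by rw [Ideal.mk_ker])] at h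
  exact h

theorem isWeaklyRegular_quotient_of_regOn {L : Type*} [CommRing L] (J : Ideal L) (hs : List L)
    (h : RegOn J hs) : IsWeaklyRegular (L ⧸ J) (hs.map (Ideal.Quotient.mk J)) := by
  rw [isWeaklyRegular_iff_regOn, ← Ideal.map_quotient_self J,
    regOn_map_of_surjective (Ideal.Quotient.mk J) Ideal.Quotient.mk_surjective J
      (by rw [Ideal.mk_ker])]
  exact h

section Step

variable {A C L : Type u} [CommRing A] [CommRing C] [CommRing L] [Algebra A C] [Algebra C L]
  [Algebra A L] [IsScalarTower A C L]

/-- the contraction of `P` to `A[X]` (with `X ↦ h ∈ P`) extends to `p L + h L`. -/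
theorem map_under_polynomial (P : Ideal C) (h : C) (hP : h ∈ P)
    [Algebra A[X] C] [IsScalarTower A A[X] C] [Algebra A[X] L] [IsScalarTower A[X] C L]
    [IsScalarTower A A[X] L] (hX : algebraMap A[X] C X = h) :
    (P.under A[X]).map (algebraMap A[X] L) =
      (P.under A).map (algebraMap A L) ⊔ Ideal.span {algebraMap C L h} := by
  have hXL : algebraMap A[X] L X = algebraMap C L h := by
    rw [IsScalarTower.algebraMap_apply A[X] C L, hX]
  have hCL : ∀ a : A, algebraMap A[X] L (Polynomial.C a) = algebraMap A L a := fun a => by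
    rw [← Polynomial.algebraMap_eq, ← IsScalarTower.algebraMap_apply A A[X] L]
  have hCC : ∀ a : A, algebraMap A[X] C (Polynomial.C a) = algebraMap A C a := fun a => by
    rw [← Polynomial.algebraMap_eq, ← IsScalarTower.algebraMap_apply A A[X] C]
  apply le_antisymm
  · rw [Ideal.map_le_iff_le_comap]
    intro q hq
    have hq' : algebraMap A[X] C q ∈ P := hq
    rw [Ideal.mem_comap]
    have hdec := Polynomial.divX_mul_X_add q
    have ha : q.coeff 0 ∈ P.under A := by
      show algebraMap A C (q.coeff 0) ∈ P
      have h0 : algebraMap A[X] C q =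
          algebraMap A[X] C q.divX * h + algebraMap A C (q.coeff 0) := by
        rw [← hCC, ← hX, ← map_mul, ← map_add, hdec]
      have h1 : algebraMap A C (q.coeff 0) =
          algebraMap A[X] C q - algebraMap A[X] C q.divX * h := by
        rw [h0]
        ring
      rw [h1]
      exact P.sub_mem hq' (P.mul_mem_left _ hP)
    rw [← hdec, map_add, map_mul, hXL, hCL]
    refine Ideal.add_mem _ (Ideal.mem_sup_right ?_) (Ideal.mem_sup_left ?_)
    · exact Ideal.mul_mem_left _ _ (Ideal.subset_span rfl)
    · exact Ideal.mem_map_of_mem _ ha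
  · refine sup_le ?_ ?_
    · rw [Ideal.map_le_iff_le_comap]
      intro a ha
      rw [Ideal.mem_comap, ← hCL]
      refine Ideal.mem_map_of_mem _ ?_
      show algebraMap A[X] C (Polynomial.C a) ∈ P
      rw [hCC]
      exact ha
    · rw [Ideal.span_le, Set.singleton_subset_iff, ← hXL]
      refine Ideal.mem_map_of_mem _ ?_
      show algebraMap A[X] C X ∈ P
      rw [hX]
      exact hP

end Step

section Concl

variable {A C₁ : Type u} [CommRing A] [CommRing C₁] [Algebra A C₁] [Algebra A[X] C₁]
  [IsScalarTower A A[X] C₁]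

/-- passing from `A[X]` to `A`: prepend the image of `X`. -/
theorem flatReg_cons_of_polynomial (t : List C₁) (h : FlatReg A[X] t) :
    FlatReg A (algebraMap A[X] C₁ X :: t) := by
  obtain ⟨hw, hfl⟩ := h
  set r := t.reverse with hr
  set h₁ := algebraMap A[X] C₁ X with hh₁
  set I := Ideal.ofList r with hI
  have hflI : Module.Flat A[X] (C₁ ⧸ I) := by
    have := hfl r.length
    rwa [List.take_length] at this
  have key := nzd_and_flat_quotient_of_flat_polynomial (A := A) (C₁ := C₁ ⧸ I)
  have hmk : algebraMap A[X] (C₁ ⧸ I) X = Ideal.Quotient.mk I h₁ := rfl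
  rw [hmk] at key
  obtain ⟨hnzd, hflq⟩ := key
  have hrev : (h₁ :: t).reverse = r ++ [h₁] := by rw [List.reverse_cons]
  refine ⟨?_, ?_⟩
  · rw [hrev, isWeaklyRegular_iff_regOn, regOn_append, ← isWeaklyRegular_iff_regOn]
    refine ⟨hw, ?_, trivial⟩
    intro c hc
    rw [bot_sup_eq] at hc ⊢
    have h0 : Ideal.Quotient.mk I c * Ideal.Quotient.mk I h₁ = 0 := by
      rw [← map_mul, Ideal.Quotient.eq_zero_iff_mem]
      exact hc
    have := (mem_nonZeroDivisors_iff_right.mp hnzd) _ h0
    rwa [Ideal.Quotient.eq_zero_iff_mem] at this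
  · intro k
    rw [hrev]
    by_cases hk : k ≤ r.length
    · rw [List.take_append_of_le_length hk]
      haveI := hfl k
      exact Module.Flat.trans A A[X] _
    · rw [List.take_of_length_le (by simp; omega), Ideal.ofList_append, Ideal.ofList_singleton]
      have hmap : Ideal.span {Ideal.Quotient.mk I h₁} =
          (Ideal.span {h₁}).map (Ideal.Quotient.mkₐ A I) := by
        rw [Ideal.map_span, Set.image_singleton]
        rfl
      rw [hmap] at hflq
      exact Module.Flat.of_linearEquiv
        (DoubleQuot.quotQuotEquivQuotSupₐ A I (Ideal.span {h₁})).symm.toLinearEquiv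

end Concl

section Main

variable {C L : Type u} [CommRing C] [CommRing L] [Algebra C L]

set_option maxHeartbeats 1600000 in
/-- **Slicing by a fibrewise regular sequence, ring level.** -/
theorem exists_away_flatReg (P : Ideal C) [P.IsPrime] [IsLocalization.AtPrime L P] :
    ∀ (hs : List C) (A : Type u) [CommRing A] [Algebra A C] [Algebra.FinitePresentation A C]
      [Algebra A L] [IsScalarTower A C L] (_ : Module.Flat A L) (_ : ∀ h ∈ hs, h ∈ P)
      (_ : RegOn ((P.under A).map (algebraMap A L)) (hs.map (algebraMap C L))),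
      ∃ g : C, g ∉ P ∧ ∀ (g₂ : C) (C₁ : Type u) [CommRing C₁] [Algebra C C₁] [Algebra A C₁]
        [IsScalarTower A C C₁] [IsLocalization.Away (g * g₂) C₁],
        FlatReg A (hs.map (algebraMap C C₁)) := by
  intro hs
  induction hs with
  | nil =>
    intro A _ _ _ _ _ hflat _ _
    have h0 : Module.Flat A (LocalizedModule P.primeCompl C) :=
      flat_localizedModule_of_isLocalizedModule P.primeCompl (Algebra.linearMap C L) hflat
    obtain ⟨g, hgP, -, H⟩ := exists_flat_localizedModule_powers (R := A) (S := C) P h0
    refine ⟨g, hgP, ?_⟩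
    intro g₂ C₁ _ _ _ _ _
    have h1 : Module.Flat A (LocalizedModule (Submonoid.powers (g * g₂)) C) :=
      flat_localizedModule_powers_of_forall_prime (g * g₂) (fun q hq hgq =>
        H q hq (fun hg => hgq (Ideal.mul_mem_right _ _ hg)))
    haveI h2 : Module.Flat A C₁ :=
      flat_of_isLocalizedModule (Submonoid.powers (g * g₂)) (Algebra.linearMap C C₁) h1
    refine ⟨?_, ?_⟩
    · show IsWeaklyRegular C₁ ([] : List C₁)
      exact IsWeaklyRegular.nil _ _
    · intro k
      have e : Ideal.ofList ((List.map (algebraMap C C₁) []).reverse.take k) = ⊥ := by simp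
      refine flat_quotient_congr e ?_
      exact Module.Flat.of_linearEquiv (AlgEquiv.quotientBot A C₁).toLinearEquiv
  | cons h t IH =>
    intro A _ _ _ _ _ hflat hP hreg
    letI algXC : Algebra A[X] C := (Polynomial.aeval h : A[X] →ₐ[A] C).toRingHom.toAlgebra
    haveI : IsScalarTower A A[X] C :=
      IsScalarTower.of_algebraMap_eq' (Polynomial.aeval h : A[X] →ₐ[A] C).comp_algebraMap.symm
    have hX : algebraMap A[X] C X = h := Polynomial.aeval_X h
    letI algXL : Algebra A[X] L := ((algebraMap C L).comp (algebraMap A[X] C)).toAlgebra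
    haveI : IsScalarTower A[X] C L := IsScalarTower.of_algebraMap_eq' rfl
    haveI : IsScalarTower A A[X] L := IsScalarTower.of_algebraMap_eq (fun a => by
      rw [IsScalarTower.algebraMap_apply A C L, IsScalarTower.algebraMap_apply A A[X] C,
        ← IsScalarTower.algebraMap_apply A[X] C L])
    have hPh : h ∈ P := hP h List.mem_cons_self
    rw [List.map_cons, regOn_cons] at hreg
    have h1 : Module.Flat A[X] (LocalizedModule P.primeCompl C) :=
      flat_polynomial_localizedModule (L := L) P hflat (hX ▸ hPh) (by
        rw [hX]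
        intro z hz
        apply hreg.1
        rwa [mul_comm])
    have hflat' : Module.Flat A[X] L :=
      flat_of_isLocalizedModule P.primeCompl (Algebra.linearMap C L) h1
    haveI : Algebra.FinitePresentation A[X] C :=
      Algebra.FinitePresentation.of_restrict_scalars_finitePresentation A A[X] C
    have hJ := map_under_polynomial (A := A) (L := L) P h hPh hX
    obtain ⟨g, hgP, hg⟩ := IH A[X] hflat' (fun h' hh' => hP h' (List.mem_cons_of_mem _ hh'))
      ((regOn_congr hJ _).mpr hreg.2)
    refine ⟨g, hgP, ?_⟩
    intro g₂ C₁ _ _ _ _ _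
    letI : Algebra A[X] C₁ := ((algebraMap C C₁).comp (algebraMap A[X] C)).toAlgebra
    haveI : IsScalarTower A[X] C C₁ := IsScalarTower.of_algebraMap_eq' rfl
    haveI : IsScalarTower A A[X] C₁ := IsScalarTower.of_algebraMap_eq (fun a => by
      rw [IsScalarTower.algebraMap_apply A C C₁, IsScalarTower.algebraMap_apply A A[X] C,
        ← IsScalarTower.algebraMap_apply A[X] C C₁])
    have h3 := flatReg_cons_of_polynomial (A := A) _ (hg g₂ C₁)
    have hX₁ : algebraMap A[X] C₁ X = algebraMap C C₁ h := by
      rw [IsScalarTower.algebraMap_apply A[X] C C₁, hX]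
    rw [hX₁] at h3
    rw [List.map_cons]
    exact h3

end Main

end Groth.Agent.Lib.Helper5.SliceList
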