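import Mathlib
import Groth.Agent.Lib.Helper5SliceListA
import Groth.Agent.Lib.Helper5RegImm

/-!
# Slicing flat morphisms by fibrewise regular sequences: scheme level (helper5)

`exists_slice_list`: `f : X ⟶ S` locally of finite presentation, flat at `x`, `hs` a list of germs at
`x` in the maximal ideal whose images in `O_{X,x} / m_s O_{X,x}` form a weakly regular sequence.  Then
there are an affine open `U₀ ∋ x` mapping into an affine open `V` of `S`, sections `rs₀` on `U₀` with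
germs `hs`, and `g ∈ Γ(X, U₀)` not vanishing at `x`, such that on every basic open `D(g a)` the
restricted sections (in reversed order) form a weakly regular sequence with all partial quotients
flat over `Γ(S, V)`.
-/

set_option autoImplicit false
set_option linter.style.haveILetI false
universe u
open CategoryTheory CategoryTheory.Limits AlgebraicGeometry TopologicalSpace Opposite
open RingTheory.Sequence

namespace Groth.Agent.Lib.Helper5.SliceListSch
open Groth.Agent.Lib.Helper5.Slice Groth.Agent.Lib.Helper5.SliceList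
  Groth.Agent.Lib.Helper5.RegSeq Groth.Agent.Lib.Helper5.RegImm

set_option maxHeartbeats 1600000 in
theorem exists_slice_list {X S : Scheme.{u}} (f : X ⟶ S) [LocallyOfFinitePresentation f] (x : X)
    (hflat : (f.stalkMap x).hom.Flat) (hs : List (X.presheaf.stalk x))
    (hm : ∀ h ∈ hs, h ∈ IsLocalRing.maximalIdeal (X.presheaf.stalk x))
    (hreg : IsWeaklyRegular (X.presheaf.stalk x ⧸ Ideal.map (f.stalkMap x).hom
        (IsLocalRing.maximalIdeal (S.presheaf.stalk (f x))))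
      (hs.map (Ideal.Quotient.mk (Ideal.map (f.stalkMap x).hom
        (IsLocalRing.maximalIdeal (S.presheaf.stalk (f x))))))) :
    ∃ (V : S.Opens) (_ : IsAffineOpen V) (U₀ : X.Opens) (_ : IsAffineOpen U₀) (hxU₀ : x ∈ U₀)
      (e : U₀ ≤ f ⁻¹ᵁ V) (rs₀ : List Γ(X, U₀)) (g : Γ(X, U₀)),
      rs₀.map (X.presheaf.germ U₀ x hxU₀).hom = hs ∧ x ∈ X.basicOpen g ∧
      ∀ a : Γ(X, U₀),
        IsWeaklyRegular Γ(X, X.basicOpen (g * a))
          (rs₀.map (X.presheaf.map (homOfLE (X.basicOpen_le (g * a))).op).hom).reverse ∧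
        ∀ k : ℕ, ((Ideal.Quotient.mk (Ideal.ofList
          ((rs₀.map (X.presheaf.map (homOfLE (X.basicOpen_le (g * a))).op).hom).reverse.take k))).comp
            (f.appLE V (X.basicOpen (g * a)) ((X.basicOpen_le (g * a)).trans e)).hom).Flat := by
  classical
  obtain ⟨_, ⟨V : S.Opens, hV, rfl⟩, hxV, -⟩ :=
    S.isBasis_affineOpens.exists_subset_of_mem_open (Set.mem_univ (f x)) isOpen_univ
  obtain ⟨W, -, hxW, ts, hts⟩ := exists_affine_lift X x hs
  obtain ⟨_, ⟨U₀ : X.Opens, hU₀, rfl⟩, hxU₀, hU₀le⟩ :=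
    X.isBasis_affineOpens.exists_subset_of_mem_open
      (show x ∈ ((W ⊓ f ⁻¹ᵁ V : X.Opens) : Set X) from ⟨hxW, hxV⟩) (W ⊓ f ⁻¹ᵁ V).2
  have hU₀W : U₀ ≤ W := fun y hy => (hU₀le hy).1
  have e : U₀ ≤ f ⁻¹ᵁ V := fun y hy => (hU₀le hy).2
  obtain ⟨rs₀, hrs₀def⟩ : ∃ rs₀ : List Γ(X, U₀),
      rs₀ = ts.map (X.presheaf.map (homOfLE hU₀W).op).hom := ⟨_, rfl⟩
  have hrs₀ : rs₀.map (X.presheaf.germ U₀ x hxU₀).hom = hs := by
    rw [hrs₀def, ← hts, List.map_map]
    apply List.map_congr_left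
    intro t _
    exact TopCat.Presheaf.germ_res_apply X.presheaf (homOfLE hU₀W) x hxU₀ t
  -- ring data
  letI algAC : Algebra Γ(S, V) Γ(X, U₀) := (f.appLE V U₀ e).hom.toAlgebra
  haveI hfp : Algebra.FinitePresentation Γ(S, V) Γ(X, U₀) :=
    (HasRingHomProperty.iff_appLE (P := @LocallyOfFinitePresentation)).mp inferInstance
      ⟨V, hV⟩ ⟨U₀, hU₀⟩ e
  letI algCL : Algebra Γ(X, U₀) (X.presheaf.stalk x) :=
    X.presheaf.algebra_section_stalk ⟨x, hxU₀⟩
  haveI hlocL : IsLocalization.AtPrime (X.presheaf.stalk x)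
      (hU₀.primeIdealOf ⟨x, hxU₀⟩).asIdeal := hU₀.isLocalization_stalk ⟨x, hxU₀⟩
  letI algAL : Algebra Γ(S, V) (X.presheaf.stalk x) :=
    ((algebraMap Γ(X, U₀) (X.presheaf.stalk x)).comp
      (algebraMap Γ(S, V) Γ(X, U₀))).toAlgebra
  haveI : IsScalarTower Γ(S, V) Γ(X, U₀) (X.presheaf.stalk x) :=
    IsScalarTower.of_algebraMap_eq' rfl
  letI algAS : Algebra Γ(S, V) (S.presheaf.stalk (f x)) :=
    S.presheaf.algebra_section_stalk ⟨f x, hxV⟩
  haveI hlocS : IsLocalization.AtPrime (S.presheaf.stalk (f x))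
      (hV.primeIdealOf ⟨f x, hxV⟩).asIdeal := hV.isLocalization_stalk ⟨f x, hxV⟩
  have hnat : algebraMap Γ(S, V) (X.presheaf.stalk x) =
      (f.stalkMap x).hom.comp (algebraMap Γ(S, V) (S.presheaf.stalk (f x))) := by
    refine RingHom.ext fun a => ?_
    show X.presheaf.germ U₀ x hxU₀ (f.appLE V U₀ e a) =
      f.stalkMap x (S.presheaf.germ V (f x) hxV a)
    have h1 : f.appLE V U₀ e a = X.presheaf.map (homOfLE e).op (f.app V a) := by
      rw [Scheme.Hom.appLE]; rfl
    rw [h1, TopCat.Presheaf.germ_res_apply X.presheaf (homOfLE e) x hxU₀,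
      Scheme.Hom.germ_stalkMap_apply]
  have hflat' : Module.Flat Γ(S, V) (X.presheaf.stalk x) := by
    rw [← RingHom.flat_algebraMap_iff, hnat]
    refine RingHom.Flat.comp ?_ hflat
    rw [RingHom.flat_algebraMap_iff]
    exact IsLocalization.flat (S.presheaf.stalk (f x))
      (hV.primeIdealOf ⟨f x, hxV⟩).asIdeal.primeCompl
  set P : Ideal Γ(X, U₀) := (hU₀.primeIdealOf ⟨x, hxU₀⟩).asIdeal with hPdef
  have hunder : P.under Γ(S, V) = (hV.primeIdealOf ⟨f x, hxV⟩).asIdeal := by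
    have := IsAffineOpen.comap_primeIdealOf_appLE (f := f) V hV U₀ hU₀ e hxU₀
    exact congrArg PrimeSpectrum.asIdeal this
  have hI : Ideal.map (f.stalkMap x).hom (IsLocalRing.maximalIdeal (S.presheaf.stalk (f x))) =
      (P.under Γ(S, V)).map (algebraMap Γ(S, V) (X.presheaf.stalk x)) := by
    rw [hunder, hnat, ← Ideal.map_map,
      IsLocalization.AtPrime.map_eq_maximalIdeal (hV.primeIdealOf ⟨f x, hxV⟩).asIdeal
        (S.presheaf.stalk (f x))]
  have hgerm : rs₀.map (algebraMap Γ(X, U₀) (X.presheaf.stalk x)) = hs := hrs₀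
  have hP : ∀ h ∈ rs₀, h ∈ P := by
    intro h hh
    refine (IsLocalization.AtPrime.to_map_mem_maximal_iff (X.presheaf.stalk x) P h).mp ?_
    apply hm
    rw [← hgerm]
    exact List.mem_map_of_mem hh
  have hreg' : RegOn ((P.under Γ(S, V)).map (algebraMap Γ(S, V) (X.presheaf.stalk x)))
      (rs₀.map (algebraMap Γ(X, U₀) (X.presheaf.stalk x))) := by
    rw [← hI, hgerm]
    exact regOn_of_isWeaklyRegular_quotient _ hs hreg
  obtain ⟨g, hgP, Hg⟩ := exists_away_flatReg (C := Γ(X, U₀)) (L := X.presheaf.stalk x) P rs₀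
    Γ(S, V) hflat' hP hreg'
  have hxg : x ∈ X.basicOpen g := by
    rw [X.mem_basicOpen g x hxU₀]
    exact IsLocalization.map_units (X.presheaf.stalk x) (⟨g, hgP⟩ : P.primeCompl)
  refine ⟨V, hV, U₀, hU₀, hxU₀, e, rs₀, g, hrs₀, hxg, ?_⟩
  intro a
  have e' : X.basicOpen (g * a) ≤ f ⁻¹ᵁ V := (X.basicOpen_le (g * a)).trans e
  letI algAC₁ : Algebra Γ(S, V) Γ(X, X.basicOpen (g * a)) :=
    (f.appLE V (X.basicOpen (g * a)) e').hom.toAlgebra
  haveI : IsScalarTower Γ(S, V) Γ(X, U₀) Γ(X, X.basicOpen (g * a)) :=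
    IsScalarTower.of_algebraMap_eq' (by
      show (f.appLE V (X.basicOpen (g * a)) e').hom =
        (X.presheaf.map (homOfLE (X.basicOpen_le (g * a))).op).hom.comp (f.appLE V U₀ e).hom
      rw [← CommRingCat.hom_comp, Scheme.Hom.appLE_map])
  haveI : IsLocalization.Away (g * a) Γ(X, X.basicOpen (g * a)) :=
    hU₀.isLocalization_basicOpen (g * a)
  obtain ⟨hw, hfl⟩ := Hg a Γ(X, X.basicOpen (g * a))
  refine ⟨hw, fun k => ?_⟩
  exact RingHom.flat_algebraMap_iff.mpr (hfl k)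

end Groth.Agent.Lib.Helper5.SliceListSch
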