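import Mathlib
import Groth.Agent.Lib.Helper5SliceListMain
import Groth.Agent.Lib.Helper6SmRegSch
import Groth.Agent.Lib.Helper5RLR

/-!
# Slicing a smooth morphism by a regular system of parameters of the fibre (helper4)

`exists_slice_field`: for `f : X ⟶ S` smooth and `x : X` there is a slice
`Spec (Γ(X,U₁)/(rs₁)) ⟶ X` through `x`, flat and locally of finite presentation over `S`, such that the
maximal ideal of `O_{X,x}` is generated by `m_{f x} O_{X,x}` and the kernel of the stalk map of the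
slice (so that the fibre of the slice at the point over `x` is the spectrum of the residue field).
-/

set_option autoImplicit false
set_option linter.style.haveILetI false
universe u
open CategoryTheory CategoryTheory.Limits AlgebraicGeometry TopologicalSpace Opposite
open RingTheory.Sequence IsLocalRing

namespace Groth.Agent.Lib.Helper4.EtSlice
open Groth.Agent.Lib.Helper5.SliceListSch Groth.Agent.Lib.Helper5.SliceListGeo
  Groth.Agent.Lib.Helper5.FiberStalk Groth.Agent.Lib.Helper5

/-- the fibre local ring of a smooth morphism is regular. -/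
theorem isRegularLocalRing_quotient_fibIdeal {X S : Scheme.{u}} (f : X ⟶ S) [Smooth f] (x : X) :
    IsRegularLocalRing (X.presheaf.stalk x ⧸
      (maximalIdeal (S.presheaf.stalk (f x))).map (f.stalkMap x).hom) := by
  obtain ⟨e₀⟩ := nonempty_stalk_asFiber_equiv f x
  haveI : Smooth (f.fiberToSpecResidueField (f x)) := by
    change Smooth (pullback.snd _ _)
    infer_instance
  haveI hreg0 : IsRegularLocalRing ((f.fiber (f x)).presheaf.stalk (f.asFiber x)) :=
    Groth.Agent.Lib.Helper6.SmRegSch.isRegularLocalRing_stalk_of_smooth_over_field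
      (S.residueField (f x)) (f.fiber (f x)) (f.fiberToSpecResidueField (f x)) (f.asFiber x)
  exact IsRegularLocalRing.of_ringEquiv e₀

/-- a regular local ring of dimension `d` has a regular sequence of length `d` generating the
maximal ideal. -/
theorem exists_regular_generators (R : Type u) [CommRing R] [IsRegularLocalRing R] :
    ∃ rs : List R, IsWeaklyRegular R rs ∧ Ideal.ofList rs = maximalIdeal R := by
  classical
  obtain ⟨d, hd⟩ := exists_nat_ringKrullDim_eq R
  have hspan : (maximalIdeal R).spanFinrank = d := by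
    have h := IsRegularLocalRing.spanFinrank_maximalIdeal (R := R)
    rw [hd] at h
    exact_mod_cast h
  obtain ⟨s, hscard, hsspan⟩ :=
    (IsNoetherian.noetherian (maximalIdeal R)).exists_span_finset_card_eq_spanFinrank
  let eqv := s.equivFinOfCardEq (hscard.trans hspan)
  let xb : Fin d → R := fun i => ((eqv.symm i : s) : R)
  have hrange : Set.range xb = (s : Set R) := by
    ext r
    constructor
    · rintro ⟨i, rfl⟩
      exact (eqv.symm i).2
    · intro hr
      exact ⟨eqv ⟨r, hr⟩, by simp [xb]⟩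
  have hxb : Ideal.span (Set.range xb) = maximalIdeal R := by
    rw [hrange]
    exact hsspan
  have hregseq := isRegular_ofFn_of_span_eq_maximalIdeal hd xb hxb
  refine ⟨List.ofFn xb, hregseq.toIsWeaklyRegular, ?_⟩
  rw [Ideal.ofList, ← hxb]
  congr 1
  ext a
  exact List.mem_ofFn' xb a

/-- ring-level: if the images of `hs` generate the maximal ideal of `A ⧸ J`, then the maximal ideal
of `A` is `J ⊔ span hs`. -/
theorem maximalIdeal_le_sup_of_ofList_eq {A : Type*} [CommRing A] [IsLocalRing A] (J : Ideal A)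
    [IsLocalRing (A ⧸ J)] (hs : List A)
    (h : Ideal.ofList (hs.map (Ideal.Quotient.mk J)) = maximalIdeal (A ⧸ J)) :
    maximalIdeal A ≤ J ⊔ Ideal.ofList hs := by
  intro m hm'
  have h1 : Ideal.Quotient.mk J m ∈ maximalIdeal (A ⧸ J) :=
    (mk_mem_maximalIdeal_quotient_iff J m).mpr hm'
  rw [← h, Ideal.ofList] at h1
  have h2 : (Ideal.span {r | r ∈ hs.map (Ideal.Quotient.mk J)}) =
      (Ideal.ofList hs).map (Ideal.Quotient.mk J) := by
    rw [Ideal.ofList, Ideal.map_span]
    congr 1
    ext r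
    simp
  rw [h2] at h1
  obtain ⟨m', hm'span, hm'eq⟩ := (Ideal.mem_map_iff_of_surjective _
    Ideal.Quotient.mk_surjective).mp h1
  have h3 : m - m' ∈ J := by
    rw [← Ideal.Quotient.eq_zero_iff_mem, map_sub, hm'eq, sub_self]
  have : m = (m - m') + m' := by ring
  rw [this]
  exact Ideal.add_mem _ (Ideal.mem_sup_left h3) (Ideal.mem_sup_right hm'span)

set_option maxHeartbeats 1600000 in
theorem exists_slice_field_aux {X S : Scheme.{u}} (f : X ⟶ S) [Smooth f] (x : X) :
    ∃ (U₁ : X.Opens) (hU₁ : IsAffineOpen U₁) (rs₁ : List Γ(X, U₁)) (hx₁ : x ∈ U₁),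
      Ideal.ofList rs₁ ≤ (hU₁.primeIdealOf ⟨x, hx₁⟩).asIdeal ∧
      Flat (sliceι hU₁ (Ideal.ofList rs₁) ≫ f) ∧
      LocallyOfFinitePresentation (sliceι hU₁ (Ideal.ofList rs₁) ≫ f) ∧
      maximalIdeal (X.presheaf.stalk x) ≤
        fibIdeal f x ⊔ (Ideal.ofList rs₁).map (X.presheaf.germ U₁ x hx₁).hom := by
  classical
  have hflat : (f.stalkMap x).hom.Flat := Flat.stalkMap f x
  haveI hR := isRegularLocalRing_quotient_fibIdeal f x
  obtain ⟨rsb, hrsb, hrsbspan⟩ := exists_regular_generators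
    (X.presheaf.stalk x ⧸ (maximalIdeal (S.presheaf.stalk (f x))).map (f.stalkMap x).hom)
  have hmemb : ∀ r ∈ rsb, r ∈ maximalIdeal (X.presheaf.stalk x ⧸
      (maximalIdeal (S.presheaf.stalk (f x))).map (f.stalkMap x).hom) := by
    intro r hr
    rw [← hrsbspan, Ideal.ofList]
    exact Ideal.subset_span hr
  obtain ⟨hs, hhs⟩ := (Ideal.Quotient.mk_surjective
    (I := (maximalIdeal (S.presheaf.stalk (f x))).map (f.stalkMap x).hom)).list_map rsb
  have hm : ∀ h ∈ hs, h ∈ maximalIdeal (X.presheaf.stalk x) := by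
    intro h hh
    by_contra hnot
    have hu : IsUnit h := by
      rw [mem_maximalIdeal, mem_nonunits_iff, not_not] at hnot
      exact hnot
    have h1 : Ideal.Quotient.mk ((maximalIdeal (S.presheaf.stalk (f x))).map
        (f.stalkMap x).hom) h ∈ maximalIdeal _ :=
      hmemb _ (hhs ▸ List.mem_map_of_mem hh)
    exact (mem_maximalIdeal _).mp h1 (hu.map _)
  have hmax : maximalIdeal (X.presheaf.stalk x) ≤ fibIdeal f x ⊔ Ideal.ofList hs := by
    haveI : IsLocalRing (X.presheaf.stalk x ⧸ fibIdeal f x) := inferInstance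
    refine maximalIdeal_le_sup_of_ofList_eq (fibIdeal f x) hs ?_
    have h0 := hrsbspan
    rw [← hhs] at h0
    exact h0
  obtain ⟨V, hV, U₀, hU₀, hxU₀, e, rs₀, g, hrs₀, hxg, H⟩ :=
    exists_slice_list f x hflat hs hm (by rw [hhs]; exact hrsb)
  have hle₁ : X.basicOpen (g * 1) ≤ U₀ := X.basicOpen_le _
  have hU₁ : IsAffineOpen (X.basicOpen (g * 1)) := hU₀.basicOpen _
  have hx₁ : x ∈ X.basicOpen (g * 1) := by rw [mul_one]; exact hxg
  obtain ⟨rs₁, hrs₁def⟩ : ∃ rs₁ : List Γ(X, X.basicOpen (g * 1)),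
      rs₁ = rs₀.map (X.presheaf.map (homOfLE hle₁).op).hom := ⟨_, rfl⟩
  obtain ⟨hw₁, hfl₁⟩ := H 1
  rw [← hrs₁def] at hw₁ hfl₁
  have hgerm₁ : rs₁.map (X.presheaf.germ (X.basicOpen (g * 1)) x hx₁).hom = hs := by
    rw [hrs₁def, List.map_map, ← hrs₀]
    apply List.map_congr_left
    intro t _
    exact TopCat.Presheaf.germ_res_apply X.presheaf (homOfLE hle₁) x hx₁ t
  have hI₁ : Ideal.ofList rs₁ ≤ (hU₁.primeIdealOf ⟨x, hx₁⟩).asIdeal := by
    rw [Ideal.ofList, Ideal.span_le]
    intro r hr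
    letI := X.presheaf.algebra_section_stalk (U := X.basicOpen (g * 1)) ⟨x, hx₁⟩
    haveI := hU₁.isLocalization_stalk ⟨x, hx₁⟩
    refine (IsLocalization.AtPrime.to_map_mem_maximal_iff (X.presheaf.stalk x)
      (hU₁.primeIdealOf ⟨x, hx₁⟩).asIdeal r).mp ?_
    apply hm
    rw [← hgerm₁]
    exact List.mem_map_of_mem hr
  have e₁' : X.basicOpen (g * 1) ≤ f ⁻¹ᵁ V := hle₁.trans e
  have hflat₁ : Flat (sliceι hU₁ (Ideal.ofList rs₁) ≫ f) := by
    refine flat_sliceι_comp hU₁ _ f hV e₁' ?_
    have h1 := hfl₁ rs₁.reverse.length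
    rw [List.take_length, ofList_reverse] at h1
    exact h1
  have hlfp₁ := lfp_sliceι_comp hU₁ (Ideal.ofList rs₁) f (ofList_fg rs₁)
  refine ⟨X.basicOpen (g * 1), hU₁, rs₁, hx₁, hI₁, hflat₁, hlfp₁, ?_⟩
  refine hmax.trans (sup_le_sup_left ?_ _)
  rw [← hgerm₁, Ideal.ofList, Ideal.ofList, Ideal.map_span]
  apply Ideal.span_mono
  intro r hr
  obtain ⟨t, ht, rfl⟩ := List.mem_map.mp hr
  exact ⟨t, ht, rfl⟩

end Groth.Agent.Lib.Helper4.EtSlice
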