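import Mathlib
import Groth.Agent.Lib.Helper4EtSliceA
import Groth.Agent.Lib.Helper20EtLocalSch
import Groth.Agent.Lib.Helper20EtSections2

/-!
# Étale slices through closed points of smooth morphisms (helper4)

* `formallyUnramified_stalkMap_of_map_eq`: one-directional criterion for an unramified stalk map.
* `formallyUnramified_stalkMap_comp`: unramifiedness of `i ≫ f` at `y` when `i` is surjective on the
  stalk at `y`, the residue field extension of `f` at `i y` is separable and
  `m_{i y} = m_{f (i y)} O + ker`.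
* `exists_etale_slice`: the étale slice.
-/

set_option autoImplicit false
set_option linter.style.haveILetI false
universe u
open CategoryTheory CategoryTheory.Limits AlgebraicGeometry TopologicalSpace Opposite
open IsLocalRing

namespace Groth.Agent.Lib.Helper4.EtSlice
open Groth.Agent.Lib.Helper5.SliceListGeo Groth.Agent.Lib.Helper5.FiberStalk

theorem formallyUnramified_stalkMap_of_map_eq {X Y : Scheme.{u}} (f : X ⟶ Y)
    [LocallyOfFiniteType f] (x : X)
    (hmap : (maximalIdeal (Y.presheaf.stalk (f x))).map (f.stalkMap x).hom =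
      maximalIdeal (X.presheaf.stalk x))
    (hsep : letI := (f.residueFieldMap x).hom.toAlgebra
      Algebra.IsSeparable (Y.residueField (f x)) (X.residueField x)) :
    (f.stalkMap x).hom.FormallyUnramified := by
  algebraize [(f.stalkMap x).hom]
  have : IsLocalHom (algebraMap (Y.presheaf.stalk (f x)) (X.presheaf.stalk x)) :=
    inferInstanceAs <| IsLocalHom (f.stalkMap x).hom
  have : Algebra.EssFiniteType (Y.presheaf.stalk (f x)) (X.presheaf.stalk x) := by
    rw [← RingHom.essFiniteType_algebraMap, RingHom.algebraMap_toAlgebra]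
    exact LocallyOfFiniteType.stalkMap f x
  have halg : (f.residueFieldMap x).hom.toAlgebra =
      (inferInstance : Algebra (IsLocalRing.ResidueField <| Y.presheaf.stalk (f x))
      (IsLocalRing.ResidueField <| X.presheaf.stalk x)) := by
    refine Algebra.algebra_ext _ _ fun x ↦ ?_
    obtain ⟨x, rfl⟩ := IsLocalRing.residue_surjective x
    rfl
  have h1 : (f.stalkMap x).hom.FormallyUnramified ↔
      Algebra.FormallyUnramified (Y.presheaf.stalk (f x)) (X.presheaf.stalk x) := by
    rw [← RingHom.formallyUnramified_algebraMap, RingHom.algebraMap_toAlgebra]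
  rw [h1, Algebra.FormallyUnramified.iff_map_maximalIdeal_eq]
  refine ⟨?_, hmap⟩
  have hsep' : @Algebra.IsSeparable _ _ _ _ (f.residueFieldMap x).hom.toAlgebra := hsep
  rw [halg] at hsep'
  exact hsep'

theorem formallyUnramified_stalkMap_comp {Y₁ X S : Scheme.{u}} (i : Y₁ ⟶ X) (f : X ⟶ S)
    [LocallyOfFiniteType (i ≫ f)] (y : Y₁)
    (hsurj : Function.Surjective (i.stalkMap y).hom)
    (hsep : letI := (f.residueFieldMap (i y)).hom.toAlgebra
      Algebra.IsSeparable (S.residueField (f (i y))) (X.residueField (i y)))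
    (hmax : maximalIdeal (X.presheaf.stalk (i y)) ≤
      (maximalIdeal (S.presheaf.stalk (f (i y)))).map (f.stalkMap (i y)).hom ⊔
        RingHom.ker (i.stalkMap y).hom) :
    ((i ≫ f).stalkMap y).hom.FormallyUnramified := by
  apply formallyUnramified_stalkMap_of_map_eq
  · apply le_antisymm
    · exact Ideal.map_le_iff_le_comap.mpr
        (IsLocalRing.maximalIdeal_comap ((i ≫ f).stalkMap y).hom).ge
    · intro b hb
      obtain ⟨a, rfl⟩ := hsurj b
      have ha : a ∈ maximalIdeal (X.presheaf.stalk (i y)) := by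
        rw [mem_maximalIdeal, mem_nonunits_iff]
        intro hu
        exact (mem_maximalIdeal _).mp hb (hu.map _)
      obtain ⟨j, hj, k, hk, rfl⟩ := Submodule.mem_sup.mp (hmax ha)
      rw [map_add, RingHom.mem_ker.mp hk, add_zero]
      have h2 : ((i ≫ f).stalkMap y).hom =
          (i.stalkMap y).hom.comp (f.stalkMap (i y)).hom := by
        rw [Scheme.Hom.stalkMap_comp]
        rfl
      have h3 : Ideal.map (f.stalkMap (i y)).hom (maximalIdeal (S.presheaf.stalk (f (i y)))) ≤
          Ideal.comap (i.stalkMap y).hom (Ideal.map ((i ≫ f).stalkMap y).hom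
            (maximalIdeal (S.presheaf.stalk ((i ≫ f) y)))) := by
        rw [Ideal.map_le_iff_le_comap]
        intro a ha
        have h4 : (i.stalkMap y).hom ((f.stalkMap (i y)).hom a) = ((i ≫ f).stalkMap y).hom a := by
          rw [h2]; rfl
        show (i.stalkMap y).hom ((f.stalkMap (i y)).hom a) ∈
          Ideal.map ((i ≫ f).stalkMap y).hom (maximalIdeal (S.presheaf.stalk ((i ≫ f) y)))
        rw [h4]
        exact Ideal.mem_map_of_mem _ ha
      exact h3 hj
  · letI alg1 : Algebra (S.residueField (f (i y))) (X.residueField (i y)) :=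
      (f.residueFieldMap (i y)).hom.toAlgebra
    letI alg2 : Algebra (S.residueField (f (i y))) (Y₁.residueField y) :=
      ((i ≫ f).residueFieldMap y).hom.toAlgebra
    haveI : Algebra.IsSeparable (S.residueField (f (i y))) (X.residueField (i y)) := hsep
    have hbij : Function.Bijective (i.residueFieldMap y).hom := by
      refine ⟨(i.residueFieldMap y).hom.injective, ?_⟩
      intro r
      obtain ⟨b, rfl⟩ := IsLocalRing.residue_surjective r
      obtain ⟨a, rfl⟩ := hsurj b
      exact ⟨IsLocalRing.residue _ a, rfl⟩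
    change Algebra.IsSeparable (S.residueField (f (i y))) (Y₁.residueField y)
    refine Algebra.IsSeparable.of_equiv_equiv (RingEquiv.refl _)
      (RingEquiv.ofBijective (i.residueFieldMap y).hom hbij) ?_
    ext a
    change ((i ≫ f).residueFieldMap y).hom a =
      (i.residueFieldMap y).hom ((f.residueFieldMap (i y)).hom a)
    rw [Scheme.residueFieldMap_comp]
    rfl

set_option maxHeartbeats 1600000 in
/-- **Étale slice through a point of a smooth morphism with separable residue field extension.** -/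
theorem exists_etale_slice {X S : Scheme.{u}} (f : X ⟶ S) [Smooth f] (x : X)
    (hsep : letI := (f.residueFieldMap x).hom.toAlgebra
      Algebra.IsSeparable (S.residueField (f x)) (X.residueField x)) :
    ∃ (Z : Scheme.{u}) (i : Z ⟶ X) (z : Z), IsImmersion i ∧ Etale (i ≫ f) ∧ i z = x ∧
      ∀ z' : ↑Z, f (i z') = f x → z' = z := by
  obtain ⟨U₁, hU₁, rs₁, hx₁, hI₁, hflat₁, hlfp₁, hmax⟩ := exists_slice_field_aux f x
  obtain ⟨y₁, hy₁⟩ := exists_sliceι_eq hU₁ (Ideal.ofList rs₁) x hx₁ hI₁
  subst hy₁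
  have hst := stalkMap_sliceι hU₁ (Ideal.ofList rs₁) y₁
  haveI : IsClosedImmersion (Spec.map (CommRingCat.ofHom (Ideal.Quotient.mk (Ideal.ofList rs₁)))) :=
    IsClosedImmersion.spec_of_surjective _ Ideal.Quotient.mk_surjective
  haveI himm : IsImmersion (sliceι hU₁ (Ideal.ofList rs₁)) := by
    unfold sliceι
    infer_instance
  have H1 : ((sliceι hU₁ (Ideal.ofList rs₁) ≫ f).stalkMap y₁).hom.FormallyUnramified := by
    apply formallyUnramified_stalkMap_comp (sliceι hU₁ (Ideal.ofList rs₁)) f y₁ hst.1 hsep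
    rw [hst.2]
    exact hmax
  have H2 : ((sliceι hU₁ (Ideal.ofList rs₁) ≫ f).stalkMap y₁).hom.Flat :=
    Flat.stalkMap (sliceι hU₁ (Ideal.ofList rs₁) ≫ f) y₁
  obtain ⟨G, hyG, hGet⟩ := Groth.Agent.Lib.Helper20.EtLocal.exists_etale_nbhd
    (sliceι hU₁ (Ideal.ofList rs₁) ≫ f) y₁ H1 H2
  haveI := hGet
  haveI : LocallyQuasiFinite (G.ι ≫ sliceι hU₁ (Ideal.ofList rs₁) ≫ f) :=
    Groth.Agent.Lib.Helper20.EtSections.locallyQuasiFinite_of_etale _
  have hdisc := (G.ι ≫ sliceι hU₁ (Ideal.ofList rs₁) ≫ f).isDiscrete_preimage_singleton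
    (f (sliceι hU₁ (Ideal.ofList rs₁) y₁))
  let z₀ : G.toScheme := ⟨y₁, hyG⟩
  have hz₀ : z₀ ∈ (G.ι ≫ sliceι hU₁ (Ideal.ofList rs₁) ≫ f) ⁻¹'
      {f (sliceι hU₁ (Ideal.ofList rs₁) y₁)} := rfl
  obtain ⟨O, hO, hOeq⟩ := isDiscrete_iff_forall_mem_exists_isOpen.mp hdisc z₀ hz₀
  let O' : G.toScheme.Opens := ⟨O, hO⟩
  have hz₀O : z₀ ∈ O' := by
    have : z₀ ∈ O ∩ _ := hOeq ▸ Set.mem_singleton z₀
    exact this.1
  refine ⟨O'.toScheme, O'.ι ≫ G.ι ≫ sliceι hU₁ (Ideal.ofList rs₁), ⟨z₀, hz₀O⟩, inferInstance,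
    ?_, rfl, ?_⟩
  · have : (O'.ι ≫ G.ι ≫ sliceι hU₁ (Ideal.ofList rs₁)) ≫ f =
        O'.ι ≫ (G.ι ≫ sliceι hU₁ (Ideal.ofList rs₁) ≫ f) := by
      simp only [Category.assoc]
    rw [this]
    infer_instance
  · intro z' hz'
    have h1 : O'.ι z' ∈ O ∩ (G.ι ≫ sliceι hU₁ (Ideal.ofList rs₁) ≫ f) ⁻¹'
        {f (sliceι hU₁ (Ideal.ofList rs₁) y₁)} := ⟨z'.2, hz'⟩
    rw [hOeq] at h1
    apply Subtype.ext
    exact h1

end Groth.Agent.Lib.Helper4.EtSlice
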