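import Groth.Prelude.Def_EtAcyc
import Mathlib
set_option autoImplicit false
universe u
open CategoryTheory CategoryTheory.Limits AlgebraicGeometry Opposite

namespace Groth.Agent.Lib.Helper4.EtStalk

instance instPresFilt : PreservesFilteredColimitsOfSize.{u, u} (forget AddCommGrpCat.{u + 1}) :=
  preservesFilteredColimitsOfSize_shrink.{u, u + 1, u, u + 1} _

theorem isLTorsion_stalk {X : Scheme.{u}} (L : Set ℕ) (F : EtCoh.Ab X) (hF : EtAcyc.IsLTorsion L F)
    (Ω : Type u) [Field Ω] [IsSepClosed Ω] (ξ : Spec (CommRingCat.of Ω) ⟶ X)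
    (t : (EtCoh.stalk ξ).obj F) : ∃ m : ℕ, EtAcyc.PrimesIn L m ∧ m • t = 0 := by
  obtain ⟨U, u, z, rfl⟩ := (Scheme.pointSmallEtale ξ).toPresheafFiber_jointly_surjective (P := F.obj) t
  let u' : Spec (CommRingCat.of Ω) ⟶ U.left := u.left
  have hu' : u' ≫ U.hom = ξ := Over.w u
  obtain ⟨V, g, m, ⟨v, hv⟩, hm, hkill⟩ := hF U z (u' default)
  obtain ⟨l, hl₁, hl₂⟩ := Scheme.exists_fac_of_etale_of_isSepClosed g.left u' v hv
  refine ⟨m, hm, ?_⟩
  have hg : g.left ≫ U.hom = V.hom := Over.w g.hom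
  let y : (Scheme.pointSmallEtale ξ).fiber.obj V := Over.homMk l (by
    change l ≫ V.hom = ξ
    rw [← hg, reassoc_of% hl₁, hu'])
  have hy : (Scheme.pointSmallEtale ξ).fiber.map g y = u := by
    apply Over.OverMorphism.ext
    exact hl₁
  have h1 : (Scheme.pointSmallEtale ξ).toPresheafFiber U u F.obj z =
      (Scheme.pointSmallEtale ξ).toPresheafFiber V y F.obj (F.obj.map g.op z) := by
    rw [← hy]
    exact ((Scheme.pointSmallEtale ξ).toPresheafFiber_w_apply g y F.obj z).symm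
  change m • (Scheme.pointSmallEtale ξ).toPresheafFiber U u F.obj z = 0
  rw [h1, ← map_nsmul, hkill, map_zero]

theorem isLTorsion_of_stalk {X : Scheme.{u}} (L : Set ℕ) (F : EtCoh.Ab X)
    (h : ∀ (Ω : Type u) [Field Ω] [IsSepClosed Ω] (ξ : Spec (CommRingCat.of Ω) ⟶ X)
        (t : (EtCoh.stalk ξ).obj F), ∃ m : ℕ, EtAcyc.PrimesIn L m ∧ m • t = 0) :
    EtAcyc.IsLTorsion L F := by
  intro U s x
  let K := U.left.residueField x
  let Ω := SeparableClosure K
  let ξ' : Spec (CommRingCat.of Ω) ⟶ U.left :=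
    Spec.map (CommRingCat.ofHom (algebraMap K Ω)) ≫ U.left.fromSpecResidueField x
  have hξ' : ∀ p, ξ' p = x := fun p => by
    change (U.left.fromSpecResidueField x) _ = x
    exact Scheme.fromSpecResidueField_apply _ _
  let ξ : Spec (CommRingCat.of Ω) ⟶ X := ξ' ≫ U.hom
  let u : (Scheme.pointSmallEtale ξ).fiber.obj U := Over.homMk ξ' rfl
  obtain ⟨m, hm, hkill⟩ := h Ω ξ ((Scheme.pointSmallEtale ξ).toPresheafFiber U u F.obj s)
  have h0 : (Scheme.pointSmallEtale ξ).toPresheafFiber U u F.obj (m • s) =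
      (Scheme.pointSmallEtale ξ).toPresheafFiber U u F.obj 0 := by
    rw [map_nsmul, map_zero]; exact hkill
  rw [(Scheme.pointSmallEtale ξ).toPresheafFiber_eq_iff'] at h0
  obtain ⟨V, g, y, hy, hg⟩ := h0
  let y' : Spec (CommRingCat.of Ω) ⟶ V.left := y.left
  refine ⟨V, g, m, ⟨y' default, ?_⟩, hm, ?_⟩
  · have : y' ≫ g.left = ξ' := congrArg CommaMorphism.left hy
    change (y' ≫ g.left) default = x
    rw [this]
    exact hξ' _
  · rw [← map_nsmul, hg, map_zero]

end Groth.Agent.Lib.Helper4.EtStalk
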