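import Groth.Prelude.Def_EtAcyc
import Mathlib
set_option autoImplicit false
universe u
open CategoryTheory CategoryTheory.Limits AlgebraicGeometry Opposite

namespace Groth.Agent.Lib.Helper4.EtTors

theorem primesIn_prod {ι : Type*} (L : Set ℕ) (t : Finset ι) (m : ι → ℕ)
    (h : ∀ i ∈ t, EtAcyc.PrimesIn L (m i)) : EtAcyc.PrimesIn L (∏ i ∈ t, m i) := by
  constructor
  · exact Finset.prod_pos fun i hi => (h i hi).1
  · intro p hp hdvd
    obtain ⟨i, hi, hpi⟩ := (Prime.dvd_finsetProd_iff (Nat.Prime.prime hp) _).mp hdvd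
    exact (h i hi).2 p hp hpi


end Groth.Agent.Lib.Helper4.EtTors
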