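import Mathlib
import Groth.Agent.S2250
import Groth.Agent.Lib.Helper28BigOpen
import Groth.Agent.Lib.Helper28RefOne
import Groth.Agent.Lib.Helper23Restr2
import Groth.Agent.Lib.Helper23AmpleIso
import Groth.Agent.Lib.Helper23TensorUnit
import Groth.Agent.Lib.Helper23ModLocal
import Groth.Agent.Lib.Helper2ModExact
import Groth.Agent.Lib.Helper4DevI
import Groth.Agent.Lib.Helper23QCohAbelian
import Groth.Agent.Lib.Helper23FTsub
import Groth.Agent.Lib.Helper6CurveDeg
import Groth.Agent.Lib.Helper23QCohExtend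
import Groth.Agent.Lib.Helper23LocNoethSp
import Groth.Agent.Lib.Helper4DomNhd

/-!
# Extending invertible modules across points with factorial local rings (helper4)

* `rankLeOne_stalk_of_isDomain`: on an integral affine open, a quasi-coherent module one of whose stalks is free of rank one has
  all stalks nontrivial of rank at most one.
* `isZero_restrict_of_mono_pushforward`, `restrictBiprodIso`, `restrictBiprodIso'`: gluing over disjoint opens via biproducts.
* `isReflexive_stalk_ddual`: stalks of the reflexive hull at points with integral local ring are reflexive.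
* `exists_coh_extension`: coherent extension inside the pushforward (from S2250).
* `main`: an invertible module on an open `U` of a locally Noetherian scheme extends to an invertible module on `X` when the
  local rings off `U` are factorial.
-/

set_option autoImplicit false
set_option linter.style.haveILetI false
universe u
open CategoryTheory Limits AlgebraicGeometry TopologicalSpace Opposite

namespace Groth.Agent.Lib.Helper4.ExtInv

open Groth.Agent.Lib.Helper6 Groth.Agent.Lib.Helper2 Groth.Agent.Lib.Helper2.FlatOver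
  Groth.Agent.Lib.Helper28.ReflUFD Groth.Agent.Lib.Helper28.HomSh Groth.Agent.Lib.Helper28.ReflLoc
  Groth.Agent.Lib.Helper28.ReflNormal Groth.Agent.Lib.Helper28.BigOpen
  Groth.Agent.Lib.Helper23.LocNoethSp Groth.Agent.Lib.Helper23.QCohLocal

variable {X : Scheme.{u}}

/-- in an integral affine open, a quasi-coherent module whose stalk at some point `z` is free of rank one has stalks of rank at
most one, and nontrivial, at all points (after helper28's `rankLeOne_stalk_of_genInvertible`) -/
theorem rankLeOne_stalk_of_isDomain (F : X.Modules) [F.IsQuasicoherent]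
    (U : X.Opens) (hU : IsAffineOpen U) [IsDomain Γ(X, U)] (y : X) (hy : y ∈ U) (z : X) (hzU : z ∈ U)
    (ez : F.presheaf.stalk z ≃ₗ[X.presheaf.stalk z] X.presheaf.stalk z) :
    RankLeOne (X.presheaf.stalk y) (F.presheaf.stalk y) ∧ Nontrivial (F.presheaf.stalk y) := by
  -- localization data at `z`
  letI algz : Algebra Γ(X, U) (X.presheaf.stalk z) :=
    TopCat.Presheaf.algebra_section_stalk X.presheaf ⟨z, hzU⟩
  haveI locRz : IsLocalization.AtPrime (X.presheaf.stalk z) (hU.primeIdealOf ⟨z, hzU⟩).asIdeal :=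
    hU.isLocalization_stalk ⟨z, hzU⟩
  letI mFz := moduleStalkSections F U z hzU
  haveI locFz : IsLocalizedModule (hU.primeIdealOf ⟨z, hzU⟩).asIdeal.primeCompl (germₗ F U z hzU) :=
    isLocalizedModule_germ hU F z hzU
  haveI : IsScalarTower Γ(X, U) (X.presheaf.stalk z) (F.presheaf.stalk z) :=
    IsScalarTower.of_algebraMap_smul fun r x => rfl
  have hSz : (hU.primeIdealOf ⟨z, hzU⟩).asIdeal.primeCompl ≤ nonZeroDivisors Γ(X, U) :=
    Ideal.primeCompl_le_nonZeroDivisors _
  haveI : IsDomain (X.presheaf.stalk z) :=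
    IsLocalization.isDomain_of_le_nonZeroDivisors (X.presheaf.stalk z) hSz
  have hrkz : RankLeOne (X.presheaf.stalk z) (F.presheaf.stalk z) :=
    (rankLeOne_self _).of_equiv ez.symm
  have hrkM : RankLeOne Γ(X, U) Γ(F, U) :=
    RankLeOne.of_localization _ hSz (X.presheaf.stalk z) (germₗ F U z hzU) hrkz
  -- localization data at `y`
  letI algy : Algebra Γ(X, U) (X.presheaf.stalk y) :=
    TopCat.Presheaf.algebra_section_stalk X.presheaf ⟨y, hy⟩
  haveI locRy : IsLocalization.AtPrime (X.presheaf.stalk y) (hU.primeIdealOf ⟨y, hy⟩).asIdeal :=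
    hU.isLocalization_stalk ⟨y, hy⟩
  letI mFy := moduleStalkSections F U y hy
  haveI locFy : IsLocalizedModule (hU.primeIdealOf ⟨y, hy⟩).asIdeal.primeCompl (germₗ F U y hy) :=
    isLocalizedModule_germ hU F y hy
  haveI : IsScalarTower Γ(X, U) (X.presheaf.stalk y) (F.presheaf.stalk y) :=
    IsScalarTower.of_algebraMap_smul fun r x => rfl
  have hSy : (hU.primeIdealOf ⟨y, hy⟩).asIdeal.primeCompl ≤ nonZeroDivisors Γ(X, U) :=
    Ideal.primeCompl_le_nonZeroDivisors _
  refine ⟨RankLeOne.localization _ hSy (X.presheaf.stalk y) (germₗ F U y hy) hrkM, ?_⟩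
  by_contra hnt
  rw [not_nontrivial_iff_subsingleton] at hnt
  have hinjz : Function.Injective (algebraMap Γ(X, U) (X.presheaf.stalk z)) :=
    IsLocalization.injective _ hSz
  have hzero : ∀ m : Γ(F, U), germₗ F U z hzU m = 0 := by
    intro m
    have h0 : germₗ F U y hy m = 0 := Subsingleton.elim _ _
    obtain ⟨t, ht⟩ := (IsLocalizedModule.eq_zero_iff
      (hU.primeIdealOf ⟨y, hy⟩).asIdeal.primeCompl (germₗ F U y hy)).1 h0
    have ht0 : t.1 ≠ 0 := nonZeroDivisors.ne_zero (hSy t.2)
    have ht' : t.1 • m = 0 := ht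
    have h1 : algebraMap Γ(X, U) (X.presheaf.stalk z) t.1 • germₗ F U z hzU m = 0 := by
      rw [algebraMap_smul, ← map_smul, ht', map_zero]
    have h2 : algebraMap Γ(X, U) (X.presheaf.stalk z) t.1 ≠ 0 := by
      rw [Ne, map_eq_zero_iff _ hinjz]
      exact ht0
    have h3 := congrArg ez h1
    rw [map_smul, map_zero, smul_eq_mul] at h3
    have h4 : ez (germₗ F U z hzU m) = 0 := (mul_eq_zero.1 h3).resolve_left h2
    exact ez.injective (h4.trans (map_zero ez).symm)
  have hsub : ∀ n : F.presheaf.stalk z, n = 0 := by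
    intro n
    obtain ⟨⟨m, s⟩, hms⟩ := IsLocalizedModule.surj
      (hU.primeIdealOf ⟨z, hzU⟩).asIdeal.primeCompl (germₗ F U z hzU) n
    rw [hzero m] at hms
    exact (IsLocalizedModule.smul_inj (germₗ F U z hzU) s n 0).1 (by rw [smul_zero]; exact hms)
  have : (1 : X.presheaf.stalk z) = 0 := by
    have := hsub (ez.symm 1)
    rw [LinearEquiv.symm_apply_eq, map_zero] at this
    exact this
  exact one_ne_zero this

/-- a subsheaf of a pushforward from an open `B` vanishes on an open `A` disjoint from `B` -/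
theorem isZero_restrict_of_mono_pushforward (A B : X.Opens) (hAB : A ⊓ B = ⊥) (M : (B : Scheme.{u}).Modules)
    (N : X.Modules) (i : N ⟶ (Scheme.Modules.pushforward B.ι).obj M) [Mono i] :
    IsZero (N.restrict A.ι) := by
  refine Groth.Agent.Lib.Helper23.ModLocal.isZero_of_forall_eq_zero fun W s => ?_
  have hinj := Groth.Agent.Lib.Helper2.ModExact.app_injective_of_mono i (A.ι ''ᵁ W)
  have hbot : B.ι ⁻¹ᵁ (A.ι ''ᵁ W) = ⊥ := by
    ext x
    simp only [Opens.coe_bot, Set.mem_empty_iff_false, iff_false]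
    intro hx
    have h1 : (B.ι x) ∈ A.ι ''ᵁ W := hx
    have h2 : B.ι x ∈ A := by
      obtain ⟨w, -, hw⟩ := h1
      rw [← hw]; exact w.2
    have h3 : B.ι x ∈ A ⊓ B := ⟨h2, x.2⟩
    rw [hAB] at h3
    exact h3
  haveI : Subsingleton Γ((Scheme.Modules.pushforward B.ι).obj M, A.ι ''ᵁ W) := by
    change Subsingleton Γ(M, B.ι ⁻¹ᵁ (A.ι ''ᵁ W))
    rw [hbot]
    exact Groth.Agent.Lib.Helper4.Dev.subsingleton_sections_bot M
  exact hinj (Subsingleton.elim _ _)

set_option backward.isDefEq.respectTransparency false in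
noncomputable def restrictBiprodIso (A : X.Opens) (P Q : X.Modules) (hQ : IsZero (Q.restrict A.ι)) :
    (P ⊞ Q).restrict A.ι ≅ P.restrict A.ι := by
  haveI : (Scheme.Modules.restrictFunctor A.ι).Additive :=
    (Scheme.Modules.restrictAdjunction A.ι).left_adjoint_additive
  haveI : PreservesBinaryBiproducts (Scheme.Modules.restrictFunctor A.ι) :=
    preservesBinaryBiproducts_of_preservesBiproducts _
  exact (Scheme.Modules.restrictFunctor A.ι).mapBiprod P Q ≪≫ (isoBiprodZero hQ).symm

set_option backward.isDefEq.respectTransparency false in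
noncomputable def restrictBiprodIso' (A : X.Opens) (P Q : X.Modules) (hP : IsZero (P.restrict A.ι)) :
    (P ⊞ Q).restrict A.ι ≅ Q.restrict A.ι := by
  haveI : (Scheme.Modules.restrictFunctor A.ι).Additive :=
    (Scheme.Modules.restrictAdjunction A.ι).left_adjoint_additive
  haveI : PreservesBinaryBiproducts (Scheme.Modules.restrictFunctor A.ι) :=
    preservesBinaryBiproducts_of_preservesBiproducts _
  exact (Scheme.Modules.restrictFunctor A.ι).mapBiprod P Q ≪≫ (isoZeroBiprod hP).symm

/-- at a point with integral local ring, the stalk of the reflexive hull of a coherent module is reflexive -/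
theorem isReflexive_stalk_ddual [IsLocallyNoetherian X] (F : X.Modules) (hF : Coh.IsCoh F) (x : X)
    [IsDomain (X.presheaf.stalk x)] :
    Module.IsReflexive (X.presheaf.stalk x) ((RefHull.ddual F).presheaf.stalk x) := by
  have hD : Coh.IsCoh (RefHull.dual F) := isCoh_homSh F _ hF (isCoh_structureModule' X)
  haveI := finite_stalk_of_isCoh (RefHull.dual F) hD x
  have e := Groth.Agent.Lib.Helper23.UnitStalk.unitStalkEquiv x
  let E1 := LinearEquiv.ofBijective (RefHull.evalStalk (RefHull.dual F) (Coh.structureModule X) x)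
    (evalStalk_bijective_of_isCoh _ _ hD x)
  let E2 : ((RefHull.dual F).presheaf.stalk x →ₗ[X.presheaf.stalk x]
        (Coh.structureModule X).presheaf.stalk x) ≃ₗ[X.presheaf.stalk x]
      Module.Dual (X.presheaf.stalk x) ((RefHull.dual F).presheaf.stalk x) := LinearEquiv.congrRight e.symm
  haveI := isReflexive_dual (X.presheaf.stalk x) ((RefHull.dual F).presheaf.stalk x)
  exact Module.equiv (E1.trans E2).symm

/-- a coherent extension to `X` of a coherent module on an open `A`, contained in the pushforward -/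
theorem exists_coh_extension [IsLocallyNoetherian X] (A : X.Opens) (M : (A : Scheme.{u}).Modules)
    (hM : Coh.IsCoh M) :
    ∃ (G : X.Modules) (i : G ⟶ (Scheme.Modules.pushforward A.ι).obj M), Mono i ∧ Coh.IsCoh G ∧
      Nonempty (G.restrict A.ι ≅ M) := by
  have hX : ∀ x : X, ∃ W : X.Opens, x ∈ W ∧ NoetherianSpace (W : Set X) := by
    intro x
    obtain ⟨W, hW0, hx, -⟩ := (Opens.isBasis_iff_nbhd.1 X.isBasis_affineOpens) (Opens.mem_top x)
    have hW : IsAffineOpen W := hW0
    haveI : IsNoetherianRing Γ(X, W) := IsLocallyNoetherian.component_noetherian ⟨W, hW⟩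
    exact ⟨W, hx, noetherianSpace_of_isAffineOpen W hW⟩
  haveI := quasiCompact_ι hX A
  haveI : M.IsQuasicoherent := hM.1
  let adj := Scheme.Modules.restrictAdjunction A.ι
  let Pj := Scheme.Modules.pushforward A.ι
  haveI : (Pj.obj M).IsQuasicoherent := isQuasicoherent_pushforward A.ι M
  haveI : IsIso (adj.counit.app M) := inferInstance
  let i : M ⟶ (Pj.obj M).restrict A.ι := inv (adj.counit.app M)
  haveI : Mono i := inferInstance
  obtain ⟨G', i', e, hm, hq, hft, -⟩ := Groth.Agent.S2250.result hX A (Pj.obj M) M i hM.2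
  exact ⟨G', i', hm, ⟨hq, hft⟩, ⟨e⟩⟩

theorem main (X : Scheme.{u}) [IsLocallyNoetherian X] (U : X.Opens)
    (L : (U : Scheme.{u}).Modules) (hL : PicF.IsInvertible L)
    (hufd : ∀ x : X, x ∉ U → UniqueFactorizationMonoid (X.presheaf.stalk x)) :
    ∃ L' : X.Modules, PicF.IsInvertible L' ∧ Nonempty (L'.restrict U.ι ≅ L) := by
  let V : X.Opens := ⟨(closure (U : Set X))ᶜ, isClosed_closure.isOpen_compl⟩
  have hUV : U ⊓ V = ⊥ := by
    ext x
    simp only [Opens.coe_inf, Set.mem_inter_iff, SetLike.mem_coe, Opens.coe_bot,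
      Set.mem_empty_iff_false, iff_false, not_and]
    intro hxU hxV
    exact hxV (subset_closure hxU)
  have hVU : V ⊓ U = ⊥ := by rw [inf_comm]; exact hUV
  have hdense : ∀ W : X.Opens, (W : Set X).Nonempty → ∃ z, z ∈ W ∧ (z ∈ U ∨ z ∈ V) := by
    intro W ⟨w, hw⟩
    by_cases hwV : w ∈ V
    · exact ⟨w, hw, Or.inr hwV⟩
    · have hwc : w ∈ closure (U : Set X) := by
        by_contra h
        exact hwV h
      obtain ⟨z, hzW, hzU⟩ := mem_closure_iff.1 hwc W W.2 hw
      exact ⟨z, hzW, Or.inl hzU⟩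
  have hLc : Coh.IsCoh L := CurveDeg.isCoh_of_isInvertible L hL
  have hOc : Coh.IsCoh (Coh.structureModule (V : Scheme.{u})) := isCoh_structureModule' _
  obtain ⟨G', i', hm₁, hc₁, ⟨e₁⟩⟩ := exists_coh_extension U L hLc
  obtain ⟨H, j', hm₂, hc₂, ⟨e₂⟩⟩ := exists_coh_extension V (Coh.structureModule (V : Scheme.{u})) hOc
  have hz₁ : IsZero (H.restrict U.ι) := isZero_restrict_of_mono_pushforward U V hUV _ H j'
  have hz₂ : IsZero (G'.restrict V.ι) := isZero_restrict_of_mono_pushforward V U hVU _ G' i'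
  haveI : G'.IsQuasicoherent := hc₁.1
  haveI : H.IsQuasicoherent := hc₂.1
  haveI : SheafOfModules.IsFiniteType (R := X.ringCatSheaf) G' := hc₁.2
  haveI : SheafOfModules.IsFiniteType (R := X.ringCatSheaf) H := hc₂.2
  let G₂ : X.Modules := G' ⊞ H
  have hcoh : Coh.IsCoh G₂ :=
    ⟨isQuasicoherent_biprod G' H, Groth.Agent.Lib.Helper23.FTsub.isFiniteType_biprod G' H⟩
  let eU : G₂.restrict U.ι ≅ L := restrictBiprodIso U G' H hz₁ ≪≫ e₁
  let eV : G₂.restrict V.ι ≅ Coh.structureModule (V : Scheme.{u}) := restrictBiprodIso' V G' H hz₂ ≪≫ e₂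
  have hinvU : PicF.IsInvertible (G₂.restrict U.ι) :=
    Groth.Agent.Lib.Helper23.AmpleIso.isInvertible_of_iso eU.symm hL
  have hinvV : PicF.IsInvertible (G₂.restrict V.ι) :=
    Groth.Agent.Lib.Helper23.AmpleIso.isInvertible_of_iso eV.symm
      (Groth.Agent.Lib.Helper23.TensorUnit.isInvertible_structureModule _)
  have hrefl : ∀ (A : X.Opens), PicF.IsInvertible (G₂.restrict A.ι) → ∀ x : X, x ∈ A →
      RefHull.IsReflexiveAt G₂ x := by
    intro A hA x hx
    obtain ⟨e⟩ := nonempty_stalk_equiv_of_isInvertible_restrict G₂ hcoh A hA x hx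
    exact Module.equiv e.symm
  let L' : X.Modules := RefHull.ddual G₂
  have hcoh' : Coh.IsCoh L' := isCoh_ddual G₂ hcoh
  haveI hisoU := isIso_restrict_bidualMap G₂ hcoh U (hrefl U hinvU)
  haveI hisoV := isIso_restrict_bidualMap G₂ hcoh V (hrefl V hinvV)
  let fU : L'.restrict U.ι ≅ L :=
    (asIso ((Scheme.Modules.restrictFunctor U.ι).map (RefHull.bidualMap G₂))).symm ≪≫ eU
  let fV : L'.restrict V.ι ≅ Coh.structureModule (V : Scheme.{u}) :=
    (asIso ((Scheme.Modules.restrictFunctor V.ι).map (RefHull.bidualMap G₂))).symm ≪≫ eV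
  have hinvU' : PicF.IsInvertible (L'.restrict U.ι) :=
    Groth.Agent.Lib.Helper23.AmpleIso.isInvertible_of_iso fU.symm hL
  have hinvV' : PicF.IsInvertible (L'.restrict V.ι) :=
    Groth.Agent.Lib.Helper23.AmpleIso.isInvertible_of_iso fV.symm
      (Groth.Agent.Lib.Helper23.TensorUnit.isInvertible_structureModule _)
  refine ⟨L', ?_, ⟨fU⟩⟩
  refine Groth.Agent.Lib.Helper23.SecTw.isInvertible_of_restrict L' fun y => ?_
  by_cases hyU : y ∈ U
  · exact ⟨U, hyU, hinvU'⟩
  by_cases hyV : y ∈ V
  · exact ⟨V, hyV, hinvV'⟩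
  haveI : L'.IsQuasicoherent := hcoh'.1
  haveI hu : UniqueFactorizationMonoid (X.presheaf.stalk y) := hufd y hyU
  haveI : IsDomain (X.presheaf.stalk y) := { hu.toIsCancelMulZero with }
  obtain ⟨W, hW, hyW, hdom⟩ := Groth.Agent.Lib.Helper4.DomNhd.exists_isAffineOpen_isDomain X y
  haveI := hdom
  obtain ⟨z, hzW, hz⟩ := hdense W ⟨y, hyW⟩
  obtain ⟨ez⟩ : Nonempty (L'.presheaf.stalk z ≃ₗ[X.presheaf.stalk z] X.presheaf.stalk z) := by
    rcases hz with hz | hz
    · exact nonempty_stalk_equiv_of_isInvertible_restrict L' hcoh' U hinvU' z hz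
    · exact nonempty_stalk_equiv_of_isInvertible_restrict L' hcoh' V hinvV' z hz
  obtain ⟨hrank, hnt⟩ := rankLeOne_stalk_of_isDomain L' W hW y hyW z hzW ez
  haveI := hnt
  haveI : Module.IsReflexive (X.presheaf.stalk y) (L'.presheaf.stalk y) :=
    isReflexive_stalk_ddual G₂ hcoh y
  obtain ⟨e⟩ := nonempty_linearEquiv_of_rankLeOne (L'.presheaf.stalk y) hrank
  obtain ⟨D, hyD, ⟨iso⟩⟩ := exists_restrict_iso_structureModule_of_stalk_equiv L' hcoh' y e
  exact ⟨D, hyD, Groth.Agent.Lib.Helper23.AmpleIso.isInvertible_of_iso iso.symm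
    (Groth.Agent.Lib.Helper23.TensorUnit.isInvertible_structureModule _)⟩

end Groth.Agent.Lib.Helper4.ExtInv
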