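/-
Helper library (helper4): finite étale covers of a normal integral scheme, part 2.
* `isLocalization_sections`: sections of the generic fibre of an affine morphism are a
  localization.
* `isLocalization_toNormalization`, `isIso_toGenericFibre`: the generic fibre of the normalization
  of `X` in an algebraic extension `L` of its function field is `Spec L`.
* `isIso_desc_of_iso`: a finite étale cover is the normalization of `X` in anything isomorphic to
  its generic fibre.
-/
import Groth.Agent.Lib.Helper4FEtNormal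

set_option autoImplicit false
set_option linter.style.haveILetI false
universe u

open AlgebraicGeometry CategoryTheory CategoryTheory.Limits
open Groth.Agent.Lib.Helper4.NormIso (appLE_congr_hom)
open Groth.Agent.Lib.Helper4.NormCurve

namespace Groth.Agent.Lib.Helper4.FEtNormal

theorem bijective_of_isLocalization {C P Q : Type*} [CommRing C] [CommRing P] [CommRing Q]
    [Algebra C P] [Algebra C Q] (M : Submonoid C) [IsLocalization M P] [IsLocalization M Q]
    (θ : P →+* Q) (hθ : θ.comp (algebraMap C P) = algebraMap C Q) : Function.Bijective θ := by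
  have h1 : θ = ((IsLocalization.algEquiv M P Q : P ≃ₐ[C] Q) : P →+* Q) := by
    apply IsLocalization.ringHom_ext M
    rw [hθ]
    ext c
    simp
  rw [h1]
  exact (IsLocalization.algEquiv M P Q).bijective

section Sections

variable {X Y : Scheme.{u}} [IsIntegral X] (f : Y ⟶ X) [IsAffineHom f]

set_option backward.isDefEq.respectTransparency false in
theorem isLocalization_sections (U : X.Opens) (hU : IsAffineOpen U)
    (hη : genericPoint X ∈ U) :
    letI := (f.app U).hom.toAlgebra
    letI := ((pullback.fst f (X.fromSpecStalk (genericPoint X))).app (f ⁻¹ᵁ U)).hom.toAlgebra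
    IsLocalization (Algebra.algebraMapSubmonoid Γ(Y, f ⁻¹ᵁ U) (nonZeroDivisors Γ(X, U)))
      Γ(pullback f (X.fromSpecStalk (genericPoint X)),
        (pullback.fst f (X.fromSpecStalk (genericPoint X))) ⁻¹ᵁ (f ⁻¹ᵁ U)) := by
  haveI : Nonempty U := ⟨⟨_, hη⟩⟩
  have P := isPushout_sections f U hU hη
  set h := pullback.fst f (X.fromSpecStalk (genericPoint X)) with hh
  set inr := (Scheme.ΓSpecIso (X.presheaf.stalk (genericPoint X))).inv ≫
      (pullback.snd f (X.fromSpecStalk (genericPoint X))).appLE ⊤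
        (h ⁻¹ᵁ (f ⁻¹ᵁ U)) le_top with hinr
  letI algAB : Algebra Γ(X, U) Γ(Y, f ⁻¹ᵁ U) := (f.app U).hom.toAlgebra
  letI algBP : Algebra Γ(Y, f ⁻¹ᵁ U) Γ(pullback f (X.fromSpecStalk (genericPoint X)), h ⁻¹ᵁ (f ⁻¹ᵁ U)) :=
    (h.app (f ⁻¹ᵁ U)).hom.toAlgebra
  letI algKP : Algebra X.functionField
      Γ(pullback f (X.fromSpecStalk (genericPoint X)), h ⁻¹ᵁ (f ⁻¹ᵁ U)) := inr.hom.toAlgebra
  letI algAP : Algebra Γ(X, U)
      Γ(pullback f (X.fromSpecStalk (genericPoint X)), h ⁻¹ᵁ (f ⁻¹ᵁ U)) :=
    (f.app U ≫ h.app (f ⁻¹ᵁ U)).hom.toAlgebra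
  haveI : IsScalarTower Γ(X, U) Γ(Y, f ⁻¹ᵁ U)
      Γ(pullback f (X.fromSpecStalk (genericPoint X)), h ⁻¹ᵁ (f ⁻¹ᵁ U)) :=
    IsScalarTower.of_algebraMap_eq' rfl
  haveI : IsScalarTower Γ(X, U) X.functionField
      Γ(pullback f (X.fromSpecStalk (genericPoint X)), h ⁻¹ᵁ (f ⁻¹ᵁ U)) :=
    IsScalarTower.of_algebraMap_eq' (congrArg CommRingCat.Hom.hom P.w)
  have P' : Algebra.IsPushout Γ(X, U) Γ(Y, f ⁻¹ᵁ U) X.functionField
      Γ(pullback f (X.fromSpecStalk (genericPoint X)), h ⁻¹ᵁ (f ⁻¹ᵁ U)) :=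
    CommRingCat.isPushout_iff_isPushout.mp P
  haveI : IsDomain Γ(X, U) := IsIntegral.component_integral U
  haveI : IsFractionRing Γ(X, U) X.functionField :=
    functionField_isFractionRing_of_isAffineOpen X U hU
  exact (Algebra.isLocalization_iff_isPushout (nonZeroDivisors Γ(X, U)) X.functionField).mpr P'

end Sections

section Backward

variable {X : Scheme.{u}} [IsIntegral X] (L : Type u) [Field L] (φ : X.functionField →+* L)
  [QuasiCompact (gen X L φ)] [QuasiSeparated (gen X L φ)]

/-- The canonical map from `Spec L` to the generic fibre of the normalization of `X` in `L`. -/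
noncomputable def toGenericFibre :
    Spec (CommRingCat.of L) ⟶
      pullback (gen X L φ).fromNormalization (X.fromSpecStalk (genericPoint X)) :=
  pullback.lift (gen X L φ).toNormalization (Spec.map (CommRingCat.ofHom φ))
    (gen X L φ).toNormalization_fromNormalization

set_option backward.isDefEq.respectTransparency false in
theorem isLocalization_toNormalization (halg : φ.IsIntegral) (U : X.Opens) (hU : IsAffineOpen U)
    [Nonempty U] :
    letI := ((gen X L φ).fromNormalization.app U).hom.toAlgebra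
    letI := ((gen X L φ).toNormalization.appLE ((gen X L φ).fromNormalization ⁻¹ᵁ U)
      ((gen X L φ) ⁻¹ᵁ U) (by
        rw [← Scheme.Hom.comp_preimage, Scheme.Hom.toNormalization_fromNormalization])).hom.toAlgebra
    IsLocalization (Algebra.algebraMapSubmonoid
        Γ((gen X L φ).normalization, (gen X L φ).fromNormalization ⁻¹ᵁ U)
        (nonZeroDivisors Γ(X, U)))
      Γ(Spec (CommRingCat.of L), (gen X L φ) ⁻¹ᵁ U) := by
  set g := gen X L φ with hg
  set ν := g.fromNormalization with hν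
  set τ := g.toNormalization with hτ
  set W := ν ⁻¹ᵁ U with hW
  have hle : g ⁻¹ᵁ U ≤ τ ⁻¹ᵁ W := by
    rw [← Scheme.Hom.comp_preimage, Scheme.Hom.toNormalization_fromNormalization]
  letI algAC : Algebra Γ(X, U) Γ(g.normalization, W) := (ν.app U).hom.toAlgebra
  letI algCL : Algebra Γ(g.normalization, W) Γ(Spec (CommRingCat.of L), g ⁻¹ᵁ U) :=
    (τ.appLE W (g ⁻¹ᵁ U) hle).hom.toAlgebra
  letI algAL' : Algebra Γ(X, U) Γ(Spec (CommRingCat.of L), g ⁻¹ᵁ U) := (g.app U).hom.toAlgebra
  letI algAL : Algebra Γ(X, U) L := (φ.comp (X.germToFunctionField U).hom).toAlgebra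
  letI algKL : Algebra X.functionField L := φ.toAlgebra
  haveI : IsScalarTower Γ(X, U) X.functionField L := IsScalarTower.of_algebraMap_eq (fun _ => rfl)
  haveI : IsDomain Γ(X, U) := IsIntegral.component_integral (X := X) U
  haveI := functionField_isFractionRing_of_isAffineOpen X U hU
  obtain ⟨σ⟩ := exists_sectionsAlgEquiv L φ U
  have hAL : ν.app U ≫ τ.appLE W (g ⁻¹ᵁ U) hle = g.app U := by
    rw [Scheme.Hom.app_eq_appLE, Scheme.Hom.appLE_comp_appLE,
      appLE_congr_hom (Scheme.Hom.toNormalization_fromNormalization g), Scheme.Hom.app_eq_appLE]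
  have hAL' : ∀ a : Γ(X, U), algebraMap Γ(g.normalization, W)
      Γ(Spec (CommRingCat.of L), g ⁻¹ᵁ U) (algebraMap Γ(X, U) Γ(g.normalization, W) a) =
      algebraMap Γ(X, U) Γ(Spec (CommRingCat.of L), g ⁻¹ᵁ U) a := by
    intro a
    exact congrArg (fun k => k.hom a) hAL
  have hval := g.normalizationObjIso_hom_val hU
  have hval' : ∀ b, (τ.appLE W (g ⁻¹ᵁ U) hle).hom b =
      ((g.normalizationObjIso hU).hom.hom b).1 := by
    intro b
    have := congrArg (fun k => k.hom b) hval
    exact this.symm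
  have hτinj : Function.Injective (τ.appLE W (g ⁻¹ᵁ U) hle).hom := by
    intro b₁ b₂ hb
    rw [hval', hval'] at hb
    exact (ConcreteCategory.bijective_of_isIso (g.normalizationObjIso hU).hom).injective
      (Subtype.ext hb)
  rw [isLocalization_iff]
  refine ⟨?_, ?_, ?_⟩
  · rintro ⟨_, a, ha, rfl⟩
    rw [hAL', ← σ.commutes]
    have hne : algebraMap Γ(X, U) L a ≠ 0 := by
      show φ ((X.germToFunctionField U).hom a) ≠ 0
      rw [map_ne_zero_iff _ φ.injective, map_ne_zero_iff _ (X.germToFunctionField_injective U)]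
      exact nonZeroDivisors.ne_zero ha
    exact (IsUnit.mk0 _ hne).map σ
  · intro z
    have hl : IsIntegral X.functionField (σ.symm z) := halg _
    obtain ⟨m, hm⟩ := IsIntegral.exists_multiple_integral_of_isLocalization
      (nonZeroDivisors Γ(X, U)) (σ.symm z) hl
    have hm' : IsIntegral Γ(X, U) (σ (m • σ.symm z)) := hm.map σ
    have hmz : σ (m • σ.symm z) = (m : Γ(X, U)) • z := by
      rw [Submonoid.smul_def, map_smul, AlgEquiv.apply_symm_apply]
    rw [hmz] at hm'
    let w : integralClosure Γ(X, U) Γ(Spec (CommRingCat.of L), g ⁻¹ᵁ U) := ⟨_, hm'⟩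
    let c0 : Γ(g.normalization, W) := (g.normalizationObjIso hU).inv.hom w
    have hc0 : algebraMap Γ(g.normalization, W) Γ(Spec (CommRingCat.of L), g ⁻¹ᵁ U) c0 =
        (m : Γ(X, U)) • z := by
      show (τ.appLE W (g ⁻¹ᵁ U) hle).hom c0 = _
      rw [hval']
      have : (g.normalizationObjIso hU).hom.hom c0 = w := by
        show ((g.normalizationObjIso hU).inv ≫ (g.normalizationObjIso hU).hom).hom w = w
        rw [Iso.inv_hom_id]; rfl
      rw [this]
    refine ⟨(c0, ⟨algebraMap Γ(X, U) Γ(g.normalization, W) m, m, m.2, rfl⟩), ?_⟩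
    show z * algebraMap _ _ (algebraMap Γ(X, U) Γ(g.normalization, W) m) = algebraMap _ _ c0
    rw [hc0, hAL', Algebra.smul_def, mul_comm]
  · intro c₁ c₂ hc
    exact ⟨1, by rw [hτinj hc]⟩

set_option backward.isDefEq.respectTransparency false in
theorem isIso_toGenericFibre (halg : φ.IsIntegral) : IsIso (toGenericFibre L φ) := by
  obtain ⟨_, ⟨U, hU, rfl⟩, hηU, -⟩ := X.isBasis_affineOpens.exists_subset_of_mem_open
    (Set.mem_univ (genericPoint X)) isOpen_univ
  haveI : Nonempty U := ⟨⟨_, hηU⟩⟩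
  set g := gen X L φ with hg
  set ν := g.fromNormalization with hν
  set τ := g.toNormalization with hτ
  set j := X.fromSpecStalk (genericPoint X) with hj
  set h := pullback.fst ν j with hh
  set s := pullback.snd ν j with hs
  set c := toGenericFibre L φ with hc
  have hch : c ≫ h = τ := pullback.lift_fst _ _ _
  set W := ν ⁻¹ᵁ U with hW
  have hle : g ⁻¹ᵁ U ≤ τ ⁻¹ᵁ W := by
    rw [← Scheme.Hom.comp_preimage, Scheme.Hom.toNormalization_fromNormalization]
  have hle1 : g ⁻¹ᵁ U ≤ c ⁻¹ᵁ (h ⁻¹ᵁ W) := by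
    rw [← Scheme.Hom.comp_preimage, hch]; exact hle
  set θ := c.appLE (h ⁻¹ᵁ W) (g ⁻¹ᵁ U) hle1 with hθ
  have hfac : h.app W ≫ θ = τ.appLE W (g ⁻¹ᵁ U) hle := by
    rw [Scheme.Hom.app_eq_appLE, Scheme.Hom.appLE_comp_appLE, appLE_congr_hom hch]
  letI algAC : Algebra Γ(X, U) Γ(g.normalization, W) := (ν.app U).hom.toAlgebra
  letI algCP : Algebra Γ(g.normalization, W) Γ(pullback ν j, h ⁻¹ᵁ W) := (h.app W).hom.toAlgebra
  letI algCL : Algebra Γ(g.normalization, W) Γ(Spec (CommRingCat.of L), g ⁻¹ᵁ U) :=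
    (τ.appLE W (g ⁻¹ᵁ U) hle).hom.toAlgebra
  haveI locP : IsLocalization (Algebra.algebraMapSubmonoid Γ(g.normalization, W)
      (nonZeroDivisors Γ(X, U))) Γ(pullback ν j, h ⁻¹ᵁ W) := isLocalization_sections ν U hU hηU
  haveI locL : IsLocalization (Algebra.algebraMapSubmonoid Γ(g.normalization, W)
      (nonZeroDivisors Γ(X, U))) Γ(Spec (CommRingCat.of L), g ⁻¹ᵁ U) :=
    isLocalization_toNormalization L φ halg U hU
  have hbij : Function.Bijective θ.hom :=
    bijective_of_isLocalization (Algebra.algebraMapSubmonoid Γ(g.normalization, W)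
      (nonZeroDivisors Γ(X, U))) θ.hom (congrArg CommRingCat.Hom.hom hfac)
  have hiso : IsIso θ := (ConcreteCategory.isIso_iff_bijective θ).mpr hbij
  -- both opens are `⊤`
  have e₁ : h ⁻¹ᵁ W = ⊤ := by
    rw [eq_top_iff]
    intro z _
    show ν (h z) ∈ U
    have : ν (h z) = j (s z) := by
      rw [← Scheme.Hom.comp_apply, ← Scheme.Hom.comp_apply, pullback.condition]
    rw [this]
    exact top_le_preimage U hηU (show s z ∈ ⊤ from trivial)
  have e₂ : g ⁻¹ᵁ U = ⊤ := gen_preimage L φ U
  have hiso' : IsIso (c.appLE ⊤ ⊤ (e₁ ▸ e₂ ▸ hle1)) :=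
    (Scheme.Hom.appLE_congr c hle1 e₁ e₂ (fun k => IsIso k)).mp hiso
  have hiso'' : IsIso c.appTop := by
    have : c.appLE ⊤ ⊤ (e₁ ▸ e₂ ▸ hle1) = c.appTop := by
      rw [Scheme.Hom.appTop, Scheme.Hom.app_eq_appLE]
      rfl
    rwa [this] at hiso'
  rw [← MorphismProperty.isomorphisms.iff,
    HasAffineProperty.iff_of_isAffine (P := MorphismProperty.isomorphisms Scheme)]
  exact ⟨inferInstance, hiso''⟩

end Backward

section Forward

variable {X : Scheme.{u}} [IsIntegral X]

set_option backward.isDefEq.respectTransparency false in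
/-- If `Z'` is isomorphic to the generic fibre of a finite étale cover `Y` of the normal integral
scheme `X`, then `Y` is the normalization of `X` in `Z'`. -/
theorem isIso_desc_of_iso (hX : Pi1.IsNormalScheme X) {Y Z' : Scheme.{u}} (f : Y ⟶ X) [IsFinite f]
    [Etale f] (θ : Z' ≅ pullback f (X.fromSpecStalk (genericPoint X))) (g : Z' ⟶ X)
    [QuasiCompact g] [QuasiSeparated g]
    (hg : g = (θ.hom ≫ pullback.fst f (X.fromSpecStalk (genericPoint X))) ≫ f) :
    IsIso (g.normalizationDesc (θ.hom ≫ pullback.fst f (X.fromSpecStalk (genericPoint X))) f hg) := by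
  subst hg
  apply isIso_desc
  intro U hU
  obtain ⟨hinj, hcl⟩ := sections_closed f hX U hU
  set h := pullback.fst f (X.fromSpecStalk (genericPoint X)) with hh
  set W := f ⁻¹ᵁ U with hW
  have hcomp : (θ.hom ≫ h).app W = h.app W ≫ θ.hom.app (h ⁻¹ᵁ W) := Scheme.Hom.comp_app _ _ _
  have hcomp' : ∀ b, ((θ.hom ≫ h).app W).hom b = (θ.hom.app (h ⁻¹ᵁ W)).hom ((h.app W).hom b) := by
    intro b
    rw [hcomp]; rfl
  have hb : Function.Bijective (θ.hom.app (h ⁻¹ᵁ W)).hom := ConcreteCategory.bijective_of_isIso _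
  constructor
  · intro a b hab
    rw [hcomp', hcomp'] at hab
    exact hinj (hb.injective hab)
  · intro x hx
    obtain ⟨x', rfl⟩ := hb.surjective x
    have hx' : (h.app W).hom.IsIntegralElem x' := by
      obtain ⟨p, hp, hpx⟩ := hx
      refine ⟨p, hp, hb.injective ?_⟩
      rw [map_zero, Polynomial.hom_eval₂]
      rw [← hpx]
      congr 1
    obtain ⟨b, rfl⟩ := hcl x' hx'
    exact ⟨b, hcomp' b⟩

end Forward

end Groth.Agent.Lib.Helper4.FEtNormal
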