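import Groth.Agent.Lib.Helper4FibDimA
import Groth.Agent.Lib.Helper4TensorDim

/-!
# Fibre dimension, ring level (part B): Noether normalization in a fibre

* `exists_algHom_fiber_finite`: if `B` is of finite type over `R` and the fibre ring `κ(p) ⊗[R] B` is
  nontrivial of dimension `≤ n`, there is an `R`-algebra map `φ : R[t₁..tₙ] → B` whose base change to
  `κ(p)` is finite.
-/

set_option autoImplicit false
set_option linter.style.haveILetI false
universe u

open TensorProduct PrimeSpectrum TopologicalSpace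

namespace Groth.Agent.Lib.Helper4.FibDim

variable {R B : Type u} [CommRing R] [CommRing B] [Algebra R B] (p : Ideal R) [p.IsPrime]

theorem exists_algHom_fiber_finite [Algebra.FiniteType R B] [Nontrivial (p.Fiber B)] (n : ℕ)
    (hdim : ringKrullDim (p.Fiber B) ≤ n) :
    ∃ φ : MvPolynomial (Fin n) R →ₐ[R] B,
      (Algebra.TensorProduct.map (AlgHom.id p.ResidueField p.ResidueField) φ).toRingHom.Finite := by
  obtain ⟨m, γ, hinj, hfin⟩ := exists_finite_inj_algHom_of_fg p.ResidueField (p.Fiber B)
  have hint : γ.IsIntegral := hfin.to_isIntegral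
  have hm : m ≤ n := by
    have h1 := Groth.Agent.Lib.Helper4.TensorDim.ringKrullDim_eq_of_integral_injective
      p.ResidueField (p.Fiber B) m γ hinj hint
    rw [h1] at hdim
    exact_mod_cast hdim
  choose r hr b hb using fun i : Fin m =>
    Ideal.Fiber.exists_smul_eq_one_tmul p (γ (MvPolynomial.X i))
  let φ : MvPolynomial (Fin n) R →ₐ[R] B :=
    MvPolynomial.aeval (fun i : Fin n => if h : (i : ℕ) < m then b ⟨i, h⟩ else 0)
  let ψ := Algebra.TensorProduct.map (AlgHom.id p.ResidueField p.ResidueField) φ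
  let θ : MvPolynomial (Fin m) p.ResidueField →ₐ[p.ResidueField]
      p.ResidueField ⊗[R] MvPolynomial (Fin n) R :=
    MvPolynomial.aeval (fun i : Fin m =>
      (algebraMap R p.ResidueField (r i))⁻¹ ⊗ₜ[R] MvPolynomial.X (Fin.castLE hm i))
  have hcomp : ψ.comp θ = γ := by
    apply MvPolynomial.algHom_ext
    intro i
    have h1 : algebraMap R p.ResidueField (r i) ≠ 0 := by
      rw [Ne, Ideal.algebraMap_residueField_eq_zero]; exact hr i
    have h2 : φ (MvPolynomial.X (Fin.castLE hm i)) = b i := by
      simp only [φ, MvPolynomial.aeval_X, Fin.val_castLE, Fin.is_lt, dite_true, Fin.eta]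
    have h3 : ((algebraMap R p.ResidueField (r i))⁻¹ ⊗ₜ[R] b i : p.Fiber B) =
        (algebraMap R p.ResidueField (r i))⁻¹ • ((1 : p.ResidueField) ⊗ₜ[R] b i) := by
      rw [TensorProduct.smul_tmul', smul_eq_mul, mul_one]
    simp only [AlgHom.comp_apply, θ, ψ, MvPolynomial.aeval_X, Algebra.TensorProduct.map_tmul,
      AlgHom.id_apply, h2, h3, ← hb i]
    rw [← algebraMap_smul p.ResidueField (r i) (γ (MvPolynomial.X i)), smul_smul,
      inv_mul_cancel₀ h1, one_smul]
  refine ⟨φ, ?_⟩
  have h4 : (ψ.toRingHom.comp θ.toRingHom).Finite := by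
    have : ψ.toRingHom.comp θ.toRingHom = γ.toRingHom := by
      rw [← hcomp]; rfl
    rw [this]; exact hfin
  exact RingHom.Finite.of_comp_finite h4

end Groth.Agent.Lib.Helper4.FibDim
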