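import Mathlib
import Groth.Agent.Lib.Helper4FibDimG
import Groth.Agent.Lib.Helper3LocDimBC
import Groth.Agent.Lib.Helper3LocusConstr

/-!
# Quasi-compactness of the locus where the fibre dimension is `≤ n` (helper4)
-/

set_option autoImplicit false
set_option linter.style.haveILetI false

universe u

open AlgebraicGeometry CategoryTheory TopologicalSpace

namespace Groth.Agent.Lib.Helper4.FibDim

section ring

variable (R S : Type u) [CommRing R] [CommRing S] [Algebra R S]

theorem setOf_forall_localDim_fiber_le_eq (n : ℕ) :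
    {q : PrimeSpectrum S | ∀ Q : PrimeSpectrum ((q.asIdeal.under R).Fiber S),
        Q.asIdeal.comap (Algebra.TensorProduct.includeRight.toRingHom) = q.asIdeal →
          FlatMor.localDim (PrimeSpectrum ((q.asIdeal.under R).Fiber S)) Q ≤ (n : WithBot ℕ∞)} =
      {q : PrimeSpectrum S |
        fibLD (PrimeSpectrum.comap (algebraMap R S)) q ≤ (n : WithBot ℕ∞)} := by
  ext q
  simp only [Set.mem_ofPred_eq]
  rw [fibLD_comap_eq]
  constructor
  · intro h
    apply h
    exact congrArg PrimeSpectrum.asIdeal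
      (comap_includeRight_preimageHomeomorphFiber (q.asIdeal.under R) ⟨q, rfl⟩)
  · intro h Q hQ
    have key : ∀ Q' : PrimeSpectrum ((PrimeSpectrum.comap (algebraMap R S) q).asIdeal.Fiber S),
        Q'.asIdeal.comap (Algebra.TensorProduct.includeRight.toRingHom) = q.asIdeal →
        FlatMor.localDim (PrimeSpectrum ((PrimeSpectrum.comap (algebraMap R S) q).asIdeal.Fiber S))
          Q' ≤ (n : WithBot ℕ∞) := by
      intro Q' hQ1
      have hQ' : (PrimeSpectrum.preimageHomeomorphFiber R S
          (PrimeSpectrum.comap (algebraMap R S) q)).symm Q' = ⟨q, rfl⟩ := by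
        apply Subtype.ext
        apply PrimeSpectrum.ext
        exact hQ1
      have hQ'' : Q' = PrimeSpectrum.preimageHomeomorphFiber R S
          (PrimeSpectrum.comap (algebraMap R S) q) ⟨q, rfl⟩ :=
        (Homeomorph.apply_symm_apply _ Q').symm.trans (congrArg _ hQ')
      rw [hQ'']
      exact h
    exact key Q hQ

open Groth.Agent.Lib.Helper3.LocusConstr in
theorem isCompact_setOf_fibLD_comap_le [Algebra.FinitePresentation R S] (n : ℕ) :
    IsCompact {q : PrimeSpectrum S |
      fibLD (PrimeSpectrum.comap (algebraMap R S)) q ≤ (n : WithBot ℕ∞)} := by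
  set f : Spec (CommRingCat.of S) ⟶ Spec (CommRingCat.of R) :=
    Spec.map (CommRingCat.ofHom (algebraMap R S)) with hf
  haveI : LocallyOfFinitePresentation f := by
    rw [hf, LocallyOfFinitePresentation.SpecMap_iff, CommRingCat.hom_ofHom,
      RingHom.finitePresentation_algebraMap]
    infer_instance
  obtain ⟨A₀, B₀, φ₀, xZ, yZ, hN, hfp, hpb⟩ := exists_noetherian_model f
  haveI : LocallyOfFinitePresentation (Spec.map φ₀) :=
    (LocallyOfFinitePresentation.SpecMap_iff φ₀).mpr hfp
  haveI : LocallyOfFiniteType (Spec.map φ₀) := inferInstance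
  have hset : {q : PrimeSpectrum S |
      fibLD (PrimeSpectrum.comap (algebraMap R S)) q ≤ (n : WithBot ℕ∞)} =
      xZ.base ⁻¹' {q₀ : ↥(Spec B₀) | FlatMor.fibreDimAt (Spec.map φ₀) q₀ ≤ (n : WithBot ℕ∞)} := by
    ext q
    have h1 : FlatMor.fibreDimAt f q = fibLD (PrimeSpectrum.comap (algebraMap R S)) q :=
      fibreDimAt_eq_fibLD f q
    have h2 := Groth.Agent.Lib.Helper3.LocDimBC.fibreDimAt_eq_of_isPullback (Spec.map φ₀) yZ xZ f
      hpb q
    show fibLD (PrimeSpectrum.comap (algebraMap R S)) q ≤ _ ↔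
      FlatMor.fibreDimAt (Spec.map φ₀) (xZ.base q) ≤ _
    rw [← h1, h2]
  rw [hset]
  haveI : IsNoetherianRing B₀ := by
    algebraize [φ₀.hom]
    haveI : Algebra.FinitePresentation A₀ B₀ := hfp
    exact Algebra.FiniteType.isNoetherianRing A₀ B₀
  haveI : NoetherianSpace ↥(Spec B₀) := inferInstanceAs (NoetherianSpace (PrimeSpectrum B₀))
  haveI : IsAffineHom xZ := isAffineHom_of_isAffine xZ
  haveI : QuasiCompact xZ := inferInstance
  exact QuasiCompact.isCompact_preimage _ (isOpen_setOf_fibreDimAt_le' (Spec.map φ₀) n)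
    (NoetherianSpace.isCompact _)

end ring

end Groth.Agent.Lib.Helper4.FibDim
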