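import Mathlib
import Groth.Agent.Lib.Helper14FTDim

/-!
# Forms of given degree vanishing on an irreducible projective variety (helper4)

If `I` is an ideal of `k[x_0..x_m]` with prime radical and `dim S/I = n ≥ 2`, then the forms of degree
`D ≥ 1` lying in `I` have codimension at least `n + D - 1` in the space of all forms of degree `D`:
some `n` of the coordinates are algebraically independent modulo `rad I`.
-/

set_option autoImplicit false
set_option linter.style.haveILetI false

universe u

open MvPolynomial

namespace Groth.Agent.Lib.Helper4.FormsCodim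

variable {k : Type u} [Field k] {σ : Type u} [Fintype σ]

/-- Some `n = dim S/P` of the variables are algebraically independent modulo the prime `P`. -/
theorem exists_injective_algebraicIndependent (P : Ideal (MvPolynomial σ k)) [P.IsPrime] (n : ℕ)
    (hdim : ringKrullDim (MvPolynomial σ k ⧸ P) = n) :
    ∃ j : Fin n → σ, Function.Injective j ∧
      AlgebraicIndependent k (fun a : Fin n => (Ideal.Quotient.mk P (X (j a)) : MvPolynomial σ k ⧸ P)) := by
  set A := MvPolynomial σ k ⧸ P with hA
  obtain ⟨n', h1, h2, -⟩ := Groth.Agent.Lib.Helper14.FTDim.exists_dim k A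
  have hn : n = n' := by
    rw [hdim] at h2
    exact_mod_cast h2
  subst hn
  set s : Set A := Set.range (fun i : σ => (Ideal.Quotient.mk P (X i) : A)) with hs
  have hadj : Algebra.adjoin k s = ⊤ := by
    have h := MvPolynomial.adjoin_range_X (R := k) (σ := σ)
    have h2 : (Algebra.adjoin k (Set.range (X : σ → MvPolynomial σ k))).map
        (Ideal.Quotient.mkₐ k P) = ⊤ := by
      rw [h, Algebra.map_top, AlgHom.range_eq_top]
      exact Ideal.Quotient.mkₐ_surjective k P
    rw [AlgHom.map_adjoin, ← Set.range_comp] at h2
    exact h2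
  haveI : Algebra.IsAlgebraic (Algebra.adjoin k s) A := by
    haveI : Algebra.IsIntegral (Algebra.adjoin k s) A := by
      apply Algebra.isIntegral_of_surjective
      intro a
      exact ⟨⟨a, by rw [hadj]; trivial⟩, rfl⟩
    exact Algebra.IsIntegral.isAlgebraic
  haveI : FaithfulSMul k A := (faithfulSMul_iff_algebraMap_injective k A).mpr (algebraMap k A).injective
  obtain ⟨t, hts, ht⟩ := exists_isTranscendenceBasis_subset (R := k) s
  haveI : Algebra.IsAlgebraic A (FractionRing A) :=
    IsLocalization.isAlgebraic _ (nonZeroDivisors A)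
  have htL := ht.algebraMap_comp (A := FractionRing A)
  have hcard : Cardinal.mk t = n := by
    rw [htL.cardinalMk_eq_trdeg, h1]
  haveI : Finite t := by
    rw [← Cardinal.lt_aleph0_iff_finite, hcard]
    exact Cardinal.natCast_lt_aleph0
  haveI : Fintype t := Fintype.ofFinite t
  have hcard' : Fintype.card t = n := by
    rw [Cardinal.mk_fintype] at hcard
    exact_mod_cast hcard
  let e : Fin n ≃ t := (Fintype.equivFinOfCardEq hcard').symm
  choose c hc using fun y : t => hts y.2
  refine ⟨fun a => c (e a), ?_, ?_⟩
  · intro a b hab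
    apply e.injective
    apply Subtype.ext
    have ha := hc (e a)
    have hb := hc (e b)
    simp only at ha hb
    rw [← ha, ← hb]
    exact congrArg (fun i => (Ideal.Quotient.mk P (X i) : A)) hab
  · have h := ht.1.comp e e.injective
    convert h using 1
    funext a
    exact hc (e a)

section Count

variable (n D : ℕ) (hn : 2 ≤ n) (hD : 1 ≤ D)

/-- The exponents of `n + D - 1` distinct monomials of degree `D` in `n ≥ 2` variables. -/
noncomputable def expo :
    Fin (D + 1) ⊕ {a : Fin n // a ≠ (⟨0, by omega⟩ : Fin n) ∧ a ≠ (⟨1, by omega⟩ : Fin n)} →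
      (Fin n →₀ ℕ)
  | Sum.inl i => Finsupp.single (⟨0, by omega⟩ : Fin n) (D - i.1) +
      Finsupp.single (⟨1, by omega⟩ : Fin n) i.1
  | Sum.inr a => Finsupp.single (⟨0, by omega⟩ : Fin n) (D - 1) + Finsupp.single a.1 1

include hD in
theorem expo_degree (i) : (expo n D hn i).degree = D := by
  rcases i with i | a
  · simp only [expo, map_add, Finsupp.degree_single]
    have := i.2
    omega
  · simp only [expo, map_add, Finsupp.degree_single]
    omega

theorem expo_injective : Function.Injective (expo n D hn) := by
  have h01 : (⟨0, by omega⟩ : Fin n) ≠ (⟨1, by omega⟩ : Fin n) := by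
    intro h
    exact absurd (congrArg Fin.val h) (by simp)
  rintro (i | a) (i' | a') h
  · have := DFunLike.congr_fun h (⟨1, by omega⟩ : Fin n)
    simp only [expo, Finsupp.add_apply, Finsupp.single_apply, if_neg h01, if_true, zero_add]
      at this
    exact congrArg Sum.inl (Fin.ext this)
  · exfalso
    have := DFunLike.congr_fun h a'.1
    simp only [expo, Finsupp.add_apply, Finsupp.single_apply, if_neg a'.2.1.symm,
      if_neg a'.2.2.symm, if_true, zero_add] at this
    omega
  · exfalso
    have := DFunLike.congr_fun h a.1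
    simp only [expo, Finsupp.add_apply, Finsupp.single_apply, if_neg a.2.1.symm,
      if_neg a.2.2.symm, if_true, zero_add] at this
    omega
  · have := DFunLike.congr_fun h a.1
    simp only [expo, Finsupp.add_apply, Finsupp.single_apply, if_neg a.2.1.symm,
      if_true, zero_add] at this
    by_cases haa : a'.1 = a.1
    · exact congrArg Sum.inr (Subtype.ext haa.symm)
    · rw [if_neg haa] at this
      omega

end Count

section Main

theorem card_index (n D : ℕ) (hn : 2 ≤ n) :
    Fintype.card (Fin (D + 1) ⊕
      {a : Fin n // a ≠ (⟨0, by omega⟩ : Fin n) ∧ a ≠ (⟨1, by omega⟩ : Fin n)}) = n + D - 1 := by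
  classical
  have h01 : (⟨0, by omega⟩ : Fin n) ≠ (⟨1, by omega⟩ : Fin n) := by
    intro h
    exact absurd (congrArg Fin.val h) (by simp)
  rw [Fintype.card_sum, Fintype.card_fin]
  have : Fintype.card {a : Fin n // a ≠ (⟨0, by omega⟩ : Fin n) ∧ a ≠ (⟨1, by omega⟩ : Fin n)} =
      n - 2 := by
    rw [Fintype.card_subtype]
    have : (Finset.univ.filter fun a : Fin n =>
        a ≠ (⟨0, by omega⟩ : Fin n) ∧ a ≠ (⟨1, by omega⟩ : Fin n)) =
        (Finset.univ.erase (⟨0, by omega⟩ : Fin n)).erase (⟨1, by omega⟩ : Fin n) := by
      ext a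
      simp only [Finset.mem_filter, Finset.mem_univ, true_and, Finset.mem_erase, and_true]
      tauto
    rw [this, Finset.card_erase_of_mem, Finset.card_erase_of_mem (Finset.mem_univ _),
      Finset.card_univ, Fintype.card_fin]
    · omega
    · simp only [Finset.mem_erase, Finset.mem_univ, and_true]
      exact h01.symm
  rw [this]
  omega

/-- If `P` is a prime of `k[x_σ]` with `dim S/P = n ≥ 2` and `I ≤ P`, then the forms of degree
`D ≥ 1` in `I` have codimension at least `n + D - 1` among all forms of degree `D`. -/
theorem finrank_forms_add_le (P : Ideal (MvPolynomial σ k)) [P.IsPrime] (n D : ℕ) (hn : 2 ≤ n)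
    (hD : 1 ≤ D) (hdim : ringKrullDim (MvPolynomial σ k ⧸ P) = n)
    (I : Ideal (MvPolynomial σ k)) (hIP : I ≤ P) :
    (n + D - 1) + Module.finrank k ↥(homogeneousSubmodule σ k D ⊓ Submodule.restrictScalars k I) ≤
      Module.finrank k ↥(homogeneousSubmodule σ k D) := by
  classical
  obtain ⟨j, hj, hind⟩ := exists_injective_algebraicIndependent P n hdim
  set A := MvPolynomial σ k ⧸ P with hA
  set W := homogeneousSubmodule σ k D with hW
  haveI : Module.Finite k W := Module.Finite.iff_fg.2 (homogeneousSubmodule_fg σ k D)
  -- the linear map `W → A`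
  let ψ : W →ₗ[k] A := (Ideal.Quotient.mkₐ k P).toLinearMap ∘ₗ W.subtype
  -- the independent family
  let ι := Fin (D + 1) ⊕
    {a : Fin n // a ≠ (⟨0, by omega⟩ : Fin n) ∧ a ≠ (⟨1, by omega⟩ : Fin n)}
  let q : ι → MvPolynomial σ k := fun i => rename j (monomial (expo n D hn i) (1 : k))
  have hqW : ∀ i, q i ∈ W := fun i => by
    rw [hW, mem_homogeneousSubmodule]
    apply IsHomogeneous.rename_isHomogeneous
    have := isHomogeneous_monomial (R := k) (d := expo n D hn i) (n := D) (1 : k)
      (expo_degree n D hn hD i)
    exact this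
  have haeval : ∀ p : MvPolynomial (Fin n) k,
      aeval (fun a : Fin n => (Ideal.Quotient.mk P (X (j a)) : A)) p =
        Ideal.Quotient.mk P (rename j p) := by
    intro p
    have : (aeval (fun a : Fin n => (Ideal.Quotient.mk P (X (j a)) : A))) =
        (Ideal.Quotient.mkₐ k P).comp (rename j) := by
      apply MvPolynomial.algHom_ext
      intro a
      simp
    rw [this]
    rfl
  have hlin : LinearIndependent k (fun i : ι => (Ideal.Quotient.mk P (q i) : A)) := by
    have h1 : LinearIndependent k (fun i : ι => monomial (expo n D hn i) (1 : k)) :=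
      (MvPolynomial.basisMonomials (Fin n) k).linearIndependent.comp _ (expo_injective n D hn)
    have h2 := h1.map' (aeval (fun a : Fin n => (Ideal.Quotient.mk P (X (j a)) : A))).toLinearMap
      (LinearMap.ker_eq_bot.mpr hind)
    have h3 : (fun i : ι => (Ideal.Quotient.mk P (q i) : A)) =
        (⇑(aeval (fun a : Fin n => (Ideal.Quotient.mk P (X (j a)) : A))).toLinearMap ∘
          fun i : ι => monomial (expo n D hn i) (1 : k)) := by
      funext i
      exact (haeval _).symm
    rw [h3]
    exact h2
  -- lower bound for the range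
  have hrange : Fintype.card ι ≤ Module.finrank k ↥(LinearMap.range ψ) := by
    have h1 : LinearIndependent k (fun i : ι =>
        (⟨Ideal.Quotient.mk P (q i), ⟨⟨q i, hqW i⟩, rfl⟩⟩ : LinearMap.range ψ)) := by
      apply LinearIndependent.of_comp (LinearMap.range ψ).subtype
      exact hlin
    exact h1.fintype_card_le_finrank
  -- lower bound for the kernel
  have hker : Module.finrank k ↥(W ⊓ Submodule.restrictScalars k I) ≤
      Module.finrank k ↥(LinearMap.ker ψ) := by
    let θ : ↥(W ⊓ Submodule.restrictScalars k I) →ₗ[k] ↥(LinearMap.ker ψ) :=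
      { toFun := fun x => ⟨⟨x.1, x.2.1⟩, by
          rw [LinearMap.mem_ker]
          exact Ideal.Quotient.eq_zero_iff_mem.mpr (hIP x.2.2)⟩
        map_add' := fun x y => rfl
        map_smul' := fun c x => rfl }
    refine LinearMap.finrank_le_finrank_of_injective (f := θ) ?_
    intro x y hxy
    apply Subtype.ext
    exact congrArg (fun z : ↥(LinearMap.ker ψ) => (z.1.1 : MvPolynomial σ k)) hxy
  have hrn := LinearMap.finrank_range_add_finrank_ker ψ
  rw [card_index n D hn] at hrange
  omega

end Main

end Groth.Agent.Lib.Helper4.FormsCodim
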