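import Mathlib

/-!
# Integral / finite ring maps induce integral / finite maps of fraction fields

Abstract form: a commutative square `B → A`, `K → L` with `K`, `L` fields and every element of `L`
a quotient of images of elements of `A`.
-/

set_option autoImplicit false
set_option linter.style.haveILetI false

namespace Groth.Agent.Lib.Helper4.FracIntegral

theorem isIntegral_and_finite_of_fraction {B A K L : Type*} [CommRing B] [CommRing A] [Field K]
    [Field L] (φ : B →+* A) (ψ : K →+* L) (gB : B →+* K) (gA : A →+* L)
    (hcomm : ψ.comp gB = gA.comp φ)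
    (hfrac : ∀ z : L, ∃ a s : A, z = gA a * (gA s)⁻¹) :
    (φ.IsIntegral → ψ.IsIntegral) ∧ (φ.Finite → ψ.Finite) := by
  letI := φ.toAlgebra
  letI := ψ.toAlgebra
  have key : ∀ a : A, φ.IsIntegralElem a → IsIntegral K (gA a) := fun a ha =>
    IsIntegral.map_of_comp_eq (R := B) (S := A) (T := K) (U := L) gB gA hcomm ha
  constructor
  · intro hφ z
    obtain ⟨a, s, rfl⟩ := hfrac z
    exact (key a (hφ a)).mul (key s (hφ s)).inv
  · intro hφ
    have hint : φ.IsIntegral := hφ.to_isIntegral
    have hfin : Module.Finite B A := hφ
    obtain ⟨T, hT⟩ := hfin.fg_top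
    let W : Subalgebra K L := Algebra.adjoin K (gA '' (T : Set A))
    have hW_fg : W.toSubmodule.FG := by
      apply fg_adjoin_of_finite (T.finite_toSet.image _)
      rintro _ ⟨t, -, rfl⟩
      exact key t (hint t)
    have hA : ∀ a : A, gA a ∈ W := by
      intro a
      have ha : a ∈ Submodule.span B (T : Set A) := hT ▸ Submodule.mem_top
      induction ha using Submodule.span_induction with
      | mem x hx => exact Algebra.subset_adjoin ⟨x, hx, rfl⟩
      | zero => rw [map_zero]; exact W.zero_mem
      | add x y _ _ hx hy => rw [map_add]; exact W.add_mem hx hy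
      | smul b x _ hx =>
        have h1 : gA (b • x) = algebraMap K L (gB b) * gA x := by
          rw [Algebra.smul_def, map_mul]
          congr 1
          exact (RingHom.congr_fun hcomm b).symm
        rw [h1]
        exact W.mul_mem (W.algebraMap_mem _) hx
    have hW : W = ⊤ := by
      rw [eq_top_iff]
      intro z _
      obtain ⟨a, s, rfl⟩ := hfrac z
      exact W.mul_mem (hA a) ((key s (hint s)).inv_mem (hA s))
    change Module.Finite K L
    rw [Module.finite_def, ← Algebra.top_toSubmodule, ← hW]
    exact hW_fg

end Groth.Agent.Lib.Helper4.FracIntegral
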