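import Groth.Prelude.Def_LambdaSp
import Groth.Agent.Lib.Helper4Lambda
import Mathlib
set_option autoImplicit false
universe u v
open PowerSeries Finset LambdaRing

namespace Groth.Agent.Lib.Helper4.GFil

variable {K : Type u} [CommRing K] {A : Type v} [CommRing A] [LambdaOps A] [Algebra K A]
  (ε : A →ₐ[K] K) (S : Set A)

/-- centred element -/
def yc (a : A) : A := a - algebraMap K A (ε a)

/-- generating set -/
def G (n : ℕ) : Set A := {y : A | ∃ l : List (ℕ × A), (∀ p ∈ l, p.2 ∈ S) ∧ n ≤ (l.map Prod.fst).sum ∧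
        y = (l.map fun p => LambdaRing.gamma p.1 (p.2 - algebraMap K A (ε p.2))).prod}

/-- the span -/
def M (n : ℕ) : Submodule K A := Submodule.span K (G ε S n)

theorem M_anti {m n : ℕ} (h : m ≤ n) : M ε S n ≤ M ε S m := by
  apply Submodule.span_mono
  rintro y ⟨l, hl, hn, rfl⟩
  exact ⟨l, hl, h.trans hn, rfl⟩

theorem one_mem : (1 : A) ∈ M ε S 0 :=
  Submodule.subset_span ⟨[], by simp, by simp, by simp⟩

theorem M_mul {i j : ℕ} {a b : A} (ha : a ∈ M ε S i) (hb : b ∈ M ε S j) : a * b ∈ M ε S (i + j) := by
  induction ha using Submodule.span_induction with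
  | mem a ha =>
    induction hb using Submodule.span_induction with
    | mem b hb =>
      obtain ⟨l₁, h₁, hn₁, rfl⟩ := ha
      obtain ⟨l₂, h₂, hn₂, rfl⟩ := hb
      refine Submodule.subset_span ⟨l₁ ++ l₂, ?_, ?_, ?_⟩
      · intro p hp
        rcases List.mem_append.mp hp with h | h
        · exact h₁ p h
        · exact h₂ p h
      · rw [List.map_append, List.sum_append]; omega
      · rw [List.map_append, List.prod_append]
    | zero => rw [mul_zero]; exact Submodule.zero_mem _
    | add x y _ _ hx hy => rw [mul_add]; exact Submodule.add_mem _ hx hy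
    | smul k x _ hx => rw [mul_smul_comm]; exact Submodule.smul_mem _ k hx
  | zero => rw [zero_mul]; exact Submodule.zero_mem _
  | add x y _ _ hx hy => rw [add_mul]; exact Submodule.add_mem _ hx hy
  | smul k x _ hx => rw [smul_mul_assoc]; exact Submodule.smul_mem _ k hx

theorem gamma_gen_mem {s : A} (hs : s ∈ S) (p : ℕ) : gamma p (yc ε s) ∈ M ε S p :=
  Submodule.subset_span ⟨[(p, s)], by simpa using hs, by simp, by simp [yc]⟩

/-- series whose `i`-th coefficient lies in `M i` -/
def Good (f : A⟦X⟧) : Prop := ∀ i, coeff i f ∈ M ε S i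

theorem good_one : Good ε S (1 : A⟦X⟧) := by
  intro i
  rw [coeff_one]
  split_ifs with h
  · subst h; exact one_mem ε S
  · exact Submodule.zero_mem _

theorem good_mul {f g : A⟦X⟧} (hf : Good ε S f) (hg : Good ε S g) : Good ε S (f * g) := by
  intro i
  rw [coeff_mul]
  apply Submodule.sum_mem
  rintro ⟨p, q⟩ hpq
  have hpq' : p + q = i := by simpa using hpq
  rw [← hpq']
  exact M_mul ε S (hf p) (hg q)

theorem good_inv {f g : A⟦X⟧} (hf : Good ε S f) (hf0 : coeff 0 f = 1) (h : g * f = 1) :
    Good ε S g := by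
  intro i
  induction i using Nat.strong_induction_on with
  | _ i ih =>
    have hc := congrArg (coeff i) h
    rw [coeff_mul, Finset.Nat.sum_antidiagonal_eq_sum_range_succ_mk, Finset.sum_range_succ,
      Nat.sub_self, hf0, mul_one] at hc
    have : coeff i g = coeff i (1 : A⟦X⟧) - ∑ p ∈ range i, coeff p g * coeff (i - p) f := by
      rw [← hc]; ring
    rw [this]
    apply Submodule.sub_mem
    · exact good_one ε S i
    · apply Submodule.sum_mem
      intro p hp
      rw [Finset.mem_range] at hp
      have := M_mul ε S (ih p hp) (hf (i - p))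
      rwa [Nat.add_sub_cancel' hp.le] at this

theorem yc_add (a b : A) : yc ε (a + b) = yc ε a + yc ε b := by
  simp only [yc, map_add]; ring

theorem yc_neg (a : A) : yc ε (-a) = -yc ε a := by
  simp only [yc, map_neg]; ring

theorem yc_zero : yc ε (0 : A) = 0 := by simp [yc]

theorem good_gammaSeries (hS : AddSubgroup.closure S = ⊤) (x : A) :
    Good ε S (gammaSeries (yc ε x)) := by
  have hx : x ∈ AddSubgroup.closure S := by rw [hS]; trivial
  induction hx using AddSubgroup.closure_induction with
  | mem s hs =>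
    intro i
    rw [coeff_gammaSeries]
    exact gamma_gen_mem ε S hs i
  | zero => rw [yc_zero, gammaSeries_zero]; exact good_one ε S
  | add a b _ _ ha hb => rw [yc_add, gammaSeries_add]; exact good_mul ε S ha hb
  | neg a _ ha =>
    rw [yc_neg]
    refine good_inv ε S ha ?_ (gammaSeries_neg_mul _)
    rw [coeff_zero_eq_constantCoeff_apply, constantCoeff_gammaSeries]

theorem gamma_mem (hS : AddSubgroup.closure S = ⊤) (x : A) (hx : ε x = 0) (i : ℕ) :
    gamma i x ∈ M ε S i := by
  have := good_gammaSeries ε S hS x i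
  rwa [coeff_gammaSeries, yc, hx, map_zero, sub_zero] at this

theorem prod_mem (hS : AddSubgroup.closure S = ⊤) (l : List (ℕ × A)) (hl : ∀ p ∈ l, ε p.2 = 0) :
    (l.map fun p => gamma p.1 p.2).prod ∈ M ε S (l.map Prod.fst).sum := by
  induction l with
  | nil => simpa using one_mem ε S
  | cons p l ih =>
    simp only [List.map_cons, List.prod_cons, List.sum_cons]
    exact M_mul ε S (gamma_mem ε S hS p.2 (hl p (by simp)) p.1)
      (ih fun q hq => hl q (List.mem_cons_of_mem _ hq))

theorem gamma_one (x : A) : gamma 1 x = x := by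
  simp [gamma, Finset.sum_range_succ, LambdaOps.lam_one]

theorem mem_M_zero (hS : AddSubgroup.closure S = ⊤) (a : A) : a ∈ M ε S 0 := by
  have h1 : yc ε a ∈ M ε S 0 := by
    have := good_gammaSeries ε S hS a 1
    rw [coeff_gammaSeries, gamma_one] at this
    exact M_anti ε S (Nat.zero_le 1) this
  have h2 : algebraMap K A (ε a) ∈ M ε S 0 := by
    rw [Algebra.algebraMap_eq_smul_one]
    exact Submodule.smul_mem _ _ (one_mem ε S)
  have : a = yc ε a + algebraMap K A (ε a) := by simp [yc]
  rw [this]
  exact Submodule.add_mem _ h1 h2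

theorem mul_mem_M (hS : AddSubgroup.closure S = ⊤) (n : ℕ) (a b : A) (hb : b ∈ M ε S n) :
    a * b ∈ M ε S n := by
  have := M_mul ε S (mem_M_zero ε S hS a) hb
  rwa [zero_add] at this

theorem gammaFil_eq (hS : AddSubgroup.closure S = ⊤) (n : ℕ) :
    (LambdaRing.gammaFil (ε : A →+* K) n).restrictScalars K = M ε S n := by
  apply le_antisymm
  · intro x hx
    change x ∈ Ideal.span _ at hx
    induction hx using Submodule.span_induction with
    | mem x hx =>
      obtain ⟨l, hl, hn, rfl⟩ := hx
      exact M_anti ε S hn (prod_mem ε S hS l hl)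
    | zero => exact Submodule.zero_mem _
    | add x y _ _ hx hy => exact Submodule.add_mem _ hx hy
    | smul a x _ hx => exact mul_mem_M ε S hS n a x hx
  · apply Submodule.span_le.mpr
    rintro y ⟨l, hl, hn, rfl⟩
    change _ ∈ Ideal.span _
    apply Ideal.subset_span
    refine ⟨l.map (fun p => (p.1, p.2 - algebraMap K A (ε p.2))), ?_, ?_, ?_⟩
    · intro p hp
      obtain ⟨q, _, rfl⟩ := List.mem_map.mp hp
      simp
    · rw [List.map_map]
      exact hn
    · rw [List.map_map]
      rfl

end Groth.Agent.Lib.Helper4.GFil
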