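/-
Helper library (helper4): generic finiteness, part 4 (integral schemes: generic point, quasi-finiteness
at the generic point, clopen argument for separated morphisms).
-/
import Mathlib
import Groth.Agent.Lib.Helper4GenFinite3

set_option autoImplicit false
set_option linter.style.haveILetI false
universe u
open CategoryTheory CategoryTheory.Limits AlgebraicGeometry TopologicalSpace Polynomial

namespace Groth.Agent.Lib.Helper4.GenFinite

/-- a dominant morphism of irreducible schemes maps the generic point to the generic point -/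
theorem map_genericPoint_of_isDominant {X Y : Scheme.{u}} [IrreducibleSpace X] [IrreducibleSpace Y]
    (f : X ⟶ Y) [IsDominant f] : f.base (genericPoint X) = genericPoint Y := by
  apply ((genericPoint_spec Y).eq _).symm
  have h := (genericPoint_spec X).image f.continuous
  rwa [Set.image_univ, f.denseRange.closure_range] at h

/-- the residue map of a local ring that is a field is bijective -/
theorem residue_bijective_of_isField {R : Type*} [CommRing R] [IsLocalRing R] (h : IsField R) :
    Function.Bijective (IsLocalRing.residue R) := by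
  refine ⟨?_, IsLocalRing.residue_surjective⟩
  rw [RingHom.injective_iff_ker_eq_bot, IsLocalRing.ker_residue]
  exact IsLocalRing.isField_iff_maximalIdeal_eq.mp h

/-- Quasi-finiteness at a point whose local ring and the local ring of its image are fields. -/
theorem quasiFiniteAt_iff_finite_residueFieldMap {X Y : Scheme.{u}} (f : X ⟶ Y) (x : X)
    (hX : IsField (X.presheaf.stalk x)) (hY : IsField (Y.presheaf.stalk (f.base x))) :
    f.QuasiFiniteAt x ↔ (f.residueFieldMap x).hom.Finite := by
  haveI e1 : IsIso (X.residue x) :=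
    (ConcreteCategory.isIso_iff_bijective _).mpr (residue_bijective_of_isField hX)
  haveI e2 : IsIso (Y.residue (f.base x)) :=
    (ConcreteCategory.isIso_iff_bijective _).mpr (residue_bijective_of_isField hY)
  let e : Arrow.mk (f.stalkMap x) ≅ Arrow.mk (f.residueFieldMap x) :=
    Arrow.isoMk (asIso (Y.residue (f.base x))) (asIso (X.residue x))
      (by simp [Scheme.residue_residueFieldMap])
  have h1 : f.QuasiFiniteAt x ↔ (f.residueFieldMap x).hom.QuasiFinite :=
    RingHom.QuasiFinite.respectsIso.arrow_mk_iso_iff e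
  rw [h1]
  letI := (f.residueFieldMap x).hom.toAlgebra
  exact Algebra.QuasiFinite.iff_of_isArtinianRing

/-- For `X` irreducible with generic point `ξ`: `f` is quasi-finite at `ξ` iff `ξ` is the only
point in its fibre. -/
theorem quasiFiniteAt_genericPoint_iff {X Y : Scheme.{u}} [IrreducibleSpace X] (f : X ⟶ Y)
    [LocallyOfFiniteType f] :
    f.QuasiFiniteAt (genericPoint X) ↔
      ∀ x : X, f.base x = f.base (genericPoint X) → x = genericPoint X := by
  constructor
  · intro hq x hx
    have hcl := hq.isClopen_singleton_asFiber.1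
    let x' : f.fiber (f.base (genericPoint X)) := (f.fiberHomeo _).symm ⟨x, hx⟩
    have h0 : (⟨genericPoint X, rfl⟩ : f.base ⁻¹' {f.base (genericPoint X)}) ⤳ ⟨x, hx⟩ :=
      Topology.IsInducing.subtypeVal.specializes_iff.mp (genericPoint_specializes x)
    have hspec : f.asFiber (genericPoint X) ⤳ x' :=
      h0.map (f.fiberHomeo (f.base (genericPoint X))).symm.continuous
    have h2 : x' ∈ ({f.asFiber (genericPoint X)} : Set _) := hspec.mem_closed hcl rfl
    have h3 : x' = f.asFiber (genericPoint X) := h2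
    have h4 := congrArg (fun z => (f.fiberHomeo (f.base (genericPoint X)) z).1) h3
    simpa [x', Scheme.Hom.asFiber] using h4
  · intro h
    rw [Scheme.Hom.quasiFiniteAt_iff_isOpen_singleton_asFiber]
    haveI : Subsingleton (f.fiber (f.base (genericPoint X))) := by
      apply (f.fiberHomeo (f.base (genericPoint X))).toEquiv.subsingleton_congr.mpr
      constructor
      rintro ⟨a, ha⟩ ⟨b, hb⟩
      exact Subtype.ext ((h a ha).trans (h b hb).symm)
    exact isOpen_discrete _

/-- If `X` is irreducible, `f` is separated and a nonempty open `U ≤ f⁻¹ V` is finite over `V`,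
then `U = f⁻¹ V`. -/
theorem eq_preimage_of_isFinite_resLE {X Y : Scheme.{u}} [IrreducibleSpace X] (f : X ⟶ Y)
    [IsSeparated f] (V : Y.Opens) (U : X.Opens) (hUV : U ≤ f ⁻¹ᵁ V) (hne : (U : Set X).Nonempty)
    (hfin : IsFinite (f.resLE V U hUV)) : U = f ⁻¹ᵁ V := by
  have h1 : X.homOfLE hUV ≫ (f ∣_ V) = f.resLE V U hUV := by
    rw [← Scheme.Hom.resLE_eq_morphismRestrict, Scheme.Hom.map_resLE]
  haveI : IsFinite (X.homOfLE hUV ≫ (f ∣_ V)) := h1 ▸ hfin
  haveI h2 : IsFinite (X.homOfLE hUV) := IsFinite.of_comp _ (f ∣_ V)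
  have hcl : IsClosed (Set.range (X.homOfLE hUV)) := (X.homOfLE hUV).isClosedMap.isClosed_range
  obtain ⟨C, hC, hCr⟩ := isClosed_induced_iff.mp hcl
  have hr : ∀ w : (f ⁻¹ᵁ V).toScheme, w ∈ Set.range (X.homOfLE hUV) ↔ w.1 ∈ U := by
    intro w
    constructor
    · rintro ⟨z, rfl⟩
      have h3 : (X.homOfLE hUV z).1 = z.1 := Scheme.homOfLE_apply hUV z
      exact h3 ▸ z.2
    · intro hw
      exact ⟨⟨w.1, hw⟩, Scheme.homOfLE_apply' hUV w.1 hw⟩
  apply le_antisymm hUV
  intro w hw
  by_contra hwU
  have hwC : w ∉ C := by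
    intro hwC
    have h4 : (⟨w, hw⟩ : (f ⁻¹ᵁ V).toScheme) ∈ Set.range (X.homOfLE hUV) := by
      have : (⟨w, hw⟩ : ↥(f ⁻¹ᵁ V)) ∈ Subtype.val ⁻¹' C := hwC
      exact hCr ▸ this
    exact hwU ((hr _).mp h4)
  obtain ⟨z, ⟨hzU, hzV, hzC⟩⟩ := nonempty_preirreducible_inter U.2
    ((f ⁻¹ᵁ V).2.inter hC.isOpen_compl) hne ⟨w, hw, hwC⟩
  apply hzC
  have h5 : (⟨z, hzV⟩ : (f ⁻¹ᵁ V).toScheme) ∈ Set.range (X.homOfLE hUV) := (hr ⟨z, hzV⟩).mpr hzU
  have h6 : (⟨z, hzV⟩ : ↥(f ⁻¹ᵁ V)) ∈ Subtype.val ⁻¹' C := hCr.symm ▸ h5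
  exact h6

end Groth.Agent.Lib.Helper4.GenFinite
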