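/-
Helper library (helper4): generic finiteness, part 5 (quasi-finiteness at points of a fibre vs. generic points of components).
-/
import Mathlib
import Groth.Agent.Lib.Helper4GenFinite4

set_option autoImplicit false
set_option linter.style.haveILetI false
universe u
open CategoryTheory CategoryTheory.Limits AlgebraicGeometry TopologicalSpace Polynomial

namespace Groth.Agent.Lib.Helper4.GenFinite

/-- A locally Noetherian scheme without nontrivial specializations is locally Artinian. -/
theorem isLocallyArtinian_of_forall_specializes_eq (Z : Scheme.{u}) [IsLocallyNoetherian Z]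
    (h : ∀ z z' : Z, z ⤳ z' → z = z') : IsLocallyArtinian Z := by
  apply IsLocallyArtinian.of_topologicalKrullDim_le_zero
  rw [topologicalKrullDim, Order.krullDim_nonpos_iff_forall_isMin]
  intro Z₁ Z₀ hle
  obtain ⟨z₁, hz₁⟩ := QuasiSober.sober Z₁.isIrreducible Z₁.isClosed
  obtain ⟨z₀, hz₀⟩ := QuasiSober.sober Z₀.isIrreducible Z₀.isClosed
  have h1 : z₁ ⤳ z₀ := by
    rw [specializes_iff_mem_closure, hz₁.def]
    exact hle hz₀.mem
  have h2 := h _ _ h1
  subst h2
  intro x hx
  have hx' : x ∈ (Z₁ : Set Z) := hx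
  rw [← hz₁.def] at hx'
  change x ∈ (Z₀ : Set Z)
  rw [← hz₀.def]
  exact hx'

/-- If `f` is quasi-finite at `x₀`, no other point of the fibre of `x₀` is a specialization
of `x₀`. -/
theorem eq_of_quasiFiniteAt_of_specializes {X Y : Scheme.{u}} (f : X ⟶ Y) [LocallyOfFiniteType f]
    {x₀ x : X} (hq : f.QuasiFiniteAt x₀) (hx : f.base x = f.base x₀) (hs : x₀ ⤳ x) : x = x₀ := by
  have hcl := hq.isClopen_singleton_asFiber.1
  let x' : f.fiber (f.base x₀) := (f.fiberHomeo _).symm ⟨x, hx⟩
  have h0 : (⟨x₀, rfl⟩ : f.base ⁻¹' {f.base x₀}) ⤳ ⟨x, hx⟩ :=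
    Topology.IsInducing.subtypeVal.specializes_iff.mp hs
  have hspec : f.asFiber x₀ ⤳ x' := h0.map (f.fiberHomeo (f.base x₀)).symm.continuous
  have h2 : x' ∈ ({f.asFiber x₀} : Set _) := hspec.mem_closed hcl rfl
  have h3 : x' = f.asFiber x₀ := h2
  have h4 := congrArg (fun z => (f.fiberHomeo (f.base x₀) z).1) h3
  simpa [x', Scheme.Hom.asFiber] using h4

/-- If all points of the fibre of `f` over `y` have no proper generizations in `X`, then `f` is
quasi-finite at all points of this fibre. -/
theorem quasiFiniteAt_of_forall_fiber_maximal {X Y : Scheme.{u}} (f : X ⟶ Y)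
    [LocallyOfFiniteType f] (x : X)
    (hmax : ∀ z : X, f.base z = f.base x → ∀ z' : X, z' ⤳ z → z' = z) : f.QuasiFiniteAt x := by
  let g := f.fiberToSpecResidueField (f.base x)
  haveI : LocallyOfFiniteType g := by
    change LocallyOfFiniteType (pullback.snd _ _)
    infer_instance
  haveI : IsLocallyNoetherian (f.fiber (f.base x)) := LocallyOfFiniteType.isLocallyNoetherian g
  haveI : IsLocallyArtinian (f.fiber (f.base x)) := by
    apply isLocallyArtinian_of_forall_specializes_eq
    intro z z' hzz'
    have h1 : f.fiberι _ z ⤳ f.fiberι _ z' := hzz'.map (f.fiberι (f.base x)).continuous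
    have h2 : f.base (f.fiberι _ z') = f.base x := (f.fiberHomeo (f.base x) z').2
    exact (f.fiberι (f.base x)).isEmbedding.injective (hmax _ h2 _ h1)
  rw [Scheme.Hom.quasiFiniteAt_iff_isOpen_singleton_asFiber]
  exact isOpen_discrete _

end Groth.Agent.Lib.Helper4.GenFinite
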