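/-
Helper library (helper4): Krull–Akizuki consequences for quasi-finiteness over points of codimension
at most one (uses helper5's Krull–Akizuki theorem).
-/
import Mathlib
import Groth.Agent.Lib.Helper5KrullAkizuki2
import Groth.Agent.Lib.Helper14IrrComp
import Groth.Agent.Lib.Helper4GenFinite5

set_option autoImplicit false
set_option linter.style.haveILetI false
universe u
open IsLocalRing CategoryTheory CategoryTheory.Limits AlgebraicGeometry

namespace Groth.Agent.Lib.Helper4.GenFiniteKA

theorem withBot_enat_eq_zero_of_lt_one (x : WithBot ℕ∞) (h0 : 0 ≤ x) (h1 : x < 1) : x = 0 := by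
  induction x using WithBot.recBotCoe with
  | bot => exact absurd h0 (by simp)
  | coe a =>
    have h2 : a < 1 := by exact_mod_cast h1
    have h3 : a = 0 := Order.lt_one_iff.mp h2
    rw [h3]; rfl

/-- dimension of a quotient of a one-dimensional local ring by a non-maximal prime -/
theorem ringKrullDim_quotient_eq_one {R : Type u} [CommRing R] [IsLocalRing R]
    (hdim : ringKrullDim R ≤ 1) (P : Ideal R) [P.IsPrime] (hP : P ≠ maximalIdeal R) :
    ringKrullDim (R ⧸ P) = 1 := by
  apply le_antisymm ((ringKrullDim_quotient_le P).trans hdim)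
  have hnf : ¬ IsField (R ⧸ P) := by
    intro h
    have hmax : P.IsMaximal := Ideal.Quotient.maximal_of_isField P h
    exact hP (IsLocalRing.eq_maximalIdeal hmax)
  have h1 : 0 ≤ ringKrullDim (R ⧸ P) := ringKrullDim_nonneg_of_nontrivial
  by_contra hlt
  push Not at hlt
  have h0 := withBot_enat_eq_zero_of_lt_one _ h1 hlt
  haveI : Ring.KrullDimLE 0 (R ⧸ P) := ringKrullDimZero_iff_ringKrullDim_eq_zero.mpr h0
  exact hnf Ring.KrullDimLE.isField_of_isDomain

/-- **Krull–Akizuki consequence.** Over a Noetherian local ring `R` of dimension `≤ 1`, let `S` be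
a local `R`-algebra, `q₀ ≤ q` primes of `S` with `q` over the maximal ideal of `R`, `q₀` not over it,
and `S` quasi-finite over `R` at `q₀`. Then `q` is the maximal ideal of `S`. -/
theorem eq_maximalIdeal_of_quasiFiniteAt_of_le {R S : Type u} [CommRing R] [CommRing S]
    [IsLocalRing R] [IsLocalRing S] [IsNoetherianRing R] [Algebra R S]
    (hdim : ringKrullDim R ≤ 1) (q₀ q : Ideal S) [q₀.IsPrime] [q.IsPrime] (hle : q₀ ≤ q)
    (hq : q.under R = maximalIdeal R) (hq₀ : q₀.under R ≠ maximalIdeal R)
    [Algebra.QuasiFiniteAt R q₀] : q = maximalIdeal S := by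
  set P₀ := q₀.under R with hP₀
  haveI : q₀.LiesOver P₀ := ⟨rfl⟩
  letI := Localization.AtPrime.algebraOfLiesOver P₀ q₀
  haveI hfin : Module.Finite P₀.ResidueField q₀.ResidueField := inferInstance
  letI : Algebra (R ⧸ P₀) q₀.ResidueField :=
    ((algebraMap (S ⧸ q₀) q₀.ResidueField).comp (algebraMap (R ⧸ P₀) (S ⧸ q₀))).toAlgebra
  haveI : IsScalarTower (R ⧸ P₀) (S ⧸ q₀) q₀.ResidueField :=
    .of_algebraMap_eq (fun _ => rfl)
  haveI : IsScalarTower (R ⧸ P₀) P₀.ResidueField q₀.ResidueField := by
    apply IsScalarTower.of_algebraMap_eq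
    intro x
    obtain ⟨r, rfl⟩ := Ideal.Quotient.mk_surjective x
    have h1 : (algebraMap (R ⧸ P₀) q₀.ResidueField) ((Ideal.Quotient.mk P₀) r) =
        algebraMap (S ⧸ q₀) q₀.ResidueField (Ideal.Quotient.mk q₀ (algebraMap R S r)) := rfl
    rw [h1, Ideal.algebraMap_quotient_residueField_mk, Ideal.algebraMap_quotient_residueField_mk,
      ← IsScalarTower.algebraMap_apply R S q₀.ResidueField,
      ← IsScalarTower.algebraMap_apply R P₀.ResidueField q₀.ResidueField]
  haveI : IsLocalRing (R ⧸ P₀) :=
    IsLocalRing.of_surjective' (Ideal.Quotient.mk P₀) Ideal.Quotient.mk_surjective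
  have hdim' : ringKrullDim (R ⧸ P₀) = 1 := ringKrullDim_quotient_eq_one hdim P₀ hq₀
  obtain ⟨hmax, -, -⟩ := Groth.Agent.Lib.Helper5.KrullAkizuki2.main (R ⧸ P₀) (S ⧸ q₀)
    P₀.ResidueField q₀.ResidueField hdim'
  set n := q.map (Ideal.Quotient.mk q₀) with hn
  have hker : RingHom.ker (Ideal.Quotient.mk q₀) ≤ q := by rwa [Ideal.mk_ker]
  haveI hnprime : n.IsPrime := Ideal.map_isPrime_of_surjective Ideal.Quotient.mk_surjective hker
  have hcomap : n.comap (Ideal.Quotient.mk q₀) = q := by
    rw [hn, Ideal.comap_map_of_surjective _ Ideal.Quotient.mk_surjective,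
      ← RingHom.ker_eq_comap_bot, Ideal.mk_ker, sup_eq_left.2 hle]
  have hunder : maximalIdeal (R ⧸ P₀) = n.under (R ⧸ P₀) := by
    have hle' : maximalIdeal (R ⧸ P₀) ≤ n.under (R ⧸ P₀) := by
      intro x hx
      obtain ⟨r, rfl⟩ := Ideal.Quotient.mk_surjective x
      have hr : r ∈ maximalIdeal R := by
        rw [IsLocalRing.mem_maximalIdeal, mem_nonunits_iff] at hx ⊢
        exact fun h => hx (h.map _)
      rw [← hq] at hr
      have h2 : algebraMap R S r ∈ q := hr
      have h3 : Ideal.Quotient.mk q₀ (algebraMap R S r) ∈ n := Ideal.mem_map_of_mem _ h2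
      exact h3
    have hprime : (n.under (R ⧸ P₀)).IsPrime := inferInstance
    exact (IsLocalRing.maximalIdeal.isMaximal _).eq_of_le hprime.ne_top hle'
  have hnmax : n.IsMaximal := hmax n ⟨hnprime, ⟨hunder⟩⟩
  have hqmax : q.IsMaximal := by
    rw [← hcomap]
    exact Ideal.comap_isMaximal_of_surjective _ Ideal.Quotient.mk_surjective
  exact IsLocalRing.eq_maximalIdeal hqmax

set_option backward.isDefEq.respectTransparency false in
/-- Quasi-finiteness of `Spec.map φ` at a point, algebraically. -/
theorem quasiFiniteAt_SpecMap_iff {R S : CommRingCat.{u}} (φ : R ⟶ S) (x : Spec S) :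
    letI := φ.hom.toAlgebra
    (Spec.map φ).QuasiFiniteAt x ↔ Algebra.QuasiFiniteAt R x.asIdeal := by
  algebraize [φ.hom]
  let := Localization.AtPrime.algebraOfLiesOver (x.asIdeal.under R) x.asIdeal
  trans Algebra.QuasiFinite (Localization.AtPrime (x.asIdeal.under R))
    (Localization.AtPrime x.asIdeal)
  · rw [← RingHom.quasiFinite_algebraMap]
    exact RingHom.QuasiFinite.respectsIso.arrow_mk_iso_iff (Scheme.arrowStalkMapSpecIso ..)
  exact ⟨fun _ ↦ .trans _ (Localization.AtPrime (x.asIdeal.under R)) _,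
    fun _ ↦ .of_restrictScalars R _ _⟩

/-- Quasi-finiteness of `Spec (stalk map)` at a point over a quasi-finite point. -/
theorem quasiFiniteAt_SpecMap_stalkMap {X Y : Scheme.{u}} (f : X ⟶ Y) (z' : X)
    (p : Spec (X.presheaf.stalk z')) (hq : f.QuasiFiniteAt (X.fromSpecStalk z' p)) :
    (Spec.map (f.stalkMap z')).QuasiFiniteAt p := by
  have h1 : (X.fromSpecStalk z').QuasiFiniteAt p :=
    RingHom.QuasiFinite.of_finite
      (RingHom.Finite.of_surjective _ ((X.fromSpecStalk z').stalkMap_surjective p))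
  have h2 : (X.fromSpecStalk z' ≫ f).QuasiFiniteAt p := by
    simp only [Scheme.Hom.QuasiFiniteAt, Scheme.Hom.stalkMap_comp]
    exact RingHom.QuasiFinite.comp h1 hq
  rw [← Scheme.SpecMap_stalkMap_fromSpecStalk] at h2
  simp only [Scheme.Hom.QuasiFiniteAt, Scheme.Hom.stalkMap_comp] at h2
  exact RingHom.QuasiFinite.of_comp h2

set_option backward.isDefEq.respectTransparency false in
/-- **Krull–Akizuki, scheme form.** Let `η ⤳ z ⤳ z'` in `X` with `z`, `z'` in the same fibre of
`f` over a point `y` whose local ring is Noetherian of dimension `≤ 1`, `η` not in this fibre, and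
`f` quasi-finite at `η`. Then `z = z'`. -/
theorem eq_of_specializes_of_quasiFiniteAt_generization {X Y : Scheme.{u}} (f : X ⟶ Y)
    (η z z' : X) (h1 : η ⤳ z) (h2 : z ⤳ z') (hfz : f.base z = f.base z')
    (hfη : f.base η ≠ f.base z')
    [IsNoetherianRing (Y.presheaf.stalk (f.base z'))]
    (hdim : ringKrullDim (Y.presheaf.stalk (f.base z')) ≤ 1) (hq : f.QuasiFiniteAt η) :
    z = z' := by
  obtain ⟨p₀, hp₀⟩ := Groth.Agent.Lib.Helper14.exists_fromSpecStalk_eq X z' η (h1.trans h2)
  obtain ⟨p, hp⟩ := Groth.Agent.Lib.Helper14.exists_fromSpecStalk_eq X z' z h2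
  have hle : p₀.asIdeal ≤ p.asIdeal := by
    have : p₀ ⤳ p := by
      rw [← Groth.Agent.Lib.Helper14.fromSpecStalk_specializes_iff X z', hp₀, hp]
      exact h1
    exact (PrimeSpectrum.le_iff_specializes p₀ p).mpr this
  let φ := f.stalkMap z'
  have hcomm : Spec.map φ ≫ Y.fromSpecStalk (f.base z') = X.fromSpecStalk z' ≫ f :=
    Scheme.SpecMap_stalkMap_fromSpecStalk f
  have hinj : Function.Injective (Y.fromSpecStalk (f.base z')) :=
    (Y.fromSpecStalk (f.base z')).isEmbedding.injective
  have himg : ∀ t : Spec (X.presheaf.stalk z'),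
      Y.fromSpecStalk (f.base z') (Spec.map φ t) = f.base (X.fromSpecStalk z' t) := by
    intro t
    rw [← Scheme.Hom.comp_apply, hcomm, Scheme.Hom.comp_apply]
  algebraize [φ.hom]
  have hunder : ∀ t : Spec (X.presheaf.stalk z'),
      t.asIdeal.under (Y.presheaf.stalk (f.base z')) = maximalIdeal (Y.presheaf.stalk (f.base z')) ↔
        f.base (X.fromSpecStalk z' t) = f.base z' := by
    intro t
    have hcl : Y.fromSpecStalk (f.base z') (closedPoint (Y.presheaf.stalk (f.base z'))) =
        f.base z' := Scheme.fromSpecStalk_closedPoint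
    rw [← himg t]
    constructor
    · intro h
      have h3 : Spec.map φ t = closedPoint (Y.presheaf.stalk (f.base z')) := by
        apply PrimeSpectrum.ext
        exact h
      rw [h3, hcl]
    · intro h
      have h3 : Spec.map φ t = closedPoint (Y.presheaf.stalk (f.base z')) :=
        hinj (h.trans hcl.symm)
      exact congrArg PrimeSpectrum.asIdeal h3
  have hq1 : p.asIdeal.under (Y.presheaf.stalk (f.base z')) =
      maximalIdeal (Y.presheaf.stalk (f.base z')) := (hunder p).mpr (by rw [hp]; exact hfz)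
  have hq0 : p₀.asIdeal.under (Y.presheaf.stalk (f.base z')) ≠
      maximalIdeal (Y.presheaf.stalk (f.base z')) := by
    intro h
    apply hfη
    rw [← hp₀]
    exact (hunder p₀).mp h
  haveI : Algebra.QuasiFiniteAt (Y.presheaf.stalk (f.base z')) p₀.asIdeal :=
    (quasiFiniteAt_SpecMap_iff φ p₀).mp (quasiFiniteAt_SpecMap_stalkMap f z' p₀ (by rw [hp₀]; exact hq))
  have hmax := eq_maximalIdeal_of_quasiFiniteAt_of_le hdim p₀.asIdeal p.asIdeal hle hq1 hq0
  have hp' : p = closedPoint (X.presheaf.stalk z') := PrimeSpectrum.ext hmax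
  rw [← hp, hp', Scheme.fromSpecStalk_closedPoint]

/-- If no two distinct points of the fibre of `f` through `x` are related by specialization, then
`f` is quasi-finite at `x`. -/
theorem quasiFiniteAt_of_forall_fiber_specializes_eq {X Y : Scheme.{u}} (f : X ⟶ Y)
    [LocallyOfFiniteType f] (x : X)
    (h : ∀ z z' : X, f.base z = f.base x → f.base z' = f.base x → z ⤳ z' → z = z') :
    f.QuasiFiniteAt x := by
  let g := f.fiberToSpecResidueField (f.base x)
  haveI : LocallyOfFiniteType g := by
    change LocallyOfFiniteType (pullback.snd _ _)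
    infer_instance
  haveI : IsLocallyNoetherian (f.fiber (f.base x)) := LocallyOfFiniteType.isLocallyNoetherian g
  haveI : IsLocallyArtinian (f.fiber (f.base x)) := by
    apply Groth.Agent.Lib.Helper4.GenFinite.isLocallyArtinian_of_forall_specializes_eq
    intro z z' hzz'
    have h1 : f.fiberι _ z ⤳ f.fiberι _ z' := hzz'.map (f.fiberι (f.base x)).continuous
    have h2 : f.base (f.fiberι _ z) = f.base x := (f.fiberHomeo (f.base x) z).2
    have h3 : f.base (f.fiberι _ z') = f.base x := (f.fiberHomeo (f.base x) z').2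
    exact (f.fiberι (f.base x)).isEmbedding.injective (h _ _ h2 h3 h1)
  rw [Scheme.Hom.quasiFiniteAt_iff_isOpen_singleton_asFiber]
  exact isOpen_discrete _

end Groth.Agent.Lib.Helper4.GenFiniteKA
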