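import Mathlib
import Groth.Prelude.Def_FDesc
import Groth.Agent.Lib.Helper22IdealComap

/-!
# helper4: schematic closure of a geometrically reduced family commutes with field extension

* `coords_ker`, `mem_map_of_coords`, `mem_map_of_forall_eq_zero`: coordinates with respect to a basis
  of `k'/k` in pushouts `A ⊗_k k'`.
* `isPushout_sections`: sections over `g⁻¹U` of `T ×_k k'` are `Γ(T,U) ⊗_k k'` (pushout square).
* `mem_vanishingIdeal_ideal_iff`, `appLE_eq_zero_of_mem_vanishingIdeal`,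
  `mem_vanishingIdeal_closure_of_appLE_eq_zero`, `isReduced_bc`.
* `main`: EGA IV 4.6.? statement S4905.
-/

set_option autoImplicit false
universe u
namespace Groth.Agent.Lib.Helper4.GeomRedClosure
open CategoryTheory CategoryTheory.Limits AlgebraicGeometry


theorem coords_ker {R R' A A' B B' : Type*} [CommRing R] [CommRing R'] [CommRing A] [CommRing A']
    [CommRing B] [CommRing B']
    [Algebra R R'] [Algebra R A] [Algebra A A'] [Algebra R' A'] [Algebra R A'] [IsScalarTower R A A']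
    [IsScalarTower R R' A']
    [Algebra R B] [Algebra B B'] [Algebra R' B'] [Algebra R B'] [IsScalarTower R B B']
    [IsScalarTower R R' B']
    (hA : Algebra.IsPushout R A R' A') (hB : Algebra.IsPushout R B R' B')
    {ι : Type*} (c : Module.Basis ι R R') (ψ : A →+* B) (ψ' : A' →+* B')
    (h1 : ∀ a, ψ' (algebraMap A A' a) = algebraMap B B' (ψ a))
    (h2 : ∀ r, ψ' (algebraMap R' A' r) = algebraMap R' B' r)
    (a' : A') (ha' : ψ' a' = 0) (α : ι) : ψ ((hA.out.basis c).repr a' α) = 0 := by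
  classical
  set eA := hA.out.basis c with heA
  set eB := hB.out.basis c with heB
  have hAe : ∀ β, eA β = algebraMap R' A' (c β) := fun β => by
    rw [heA, IsBaseChange.basis_apply]; rfl
  have hBe : ∀ β, eB β = algebraMap R' B' (c β) := fun β => by
    rw [heB, IsBaseChange.basis_apply]; rfl
  have hsum : ∑ β ∈ (eA.repr a').support, (eA.repr a' β) • eA β = a' := by
    have := eA.linearCombination_repr a'
    rwa [Finsupp.linearCombination_apply, Finsupp.sum] at this
  have h0 : ∑ β ∈ (eA.repr a').support, ψ (eA.repr a' β) • eB β = 0 := by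
    rw [← ha']
    conv_rhs => rw [← hsum]
    rw [map_sum]
    refine Finset.sum_congr rfl fun β _ => ?_
    rw [Algebra.smul_def, Algebra.smul_def, map_mul, h1, hAe, h2, hBe]
  have hli := eB.linearIndependent
  rw [linearIndependent_iff'] at hli
  by_cases hα : α ∈ (eA.repr a').support
  · exact hli _ (fun β => ψ (eA.repr a' β)) h0 α hα
  · rw [Finsupp.notMem_support_iff.mp hα, map_zero]

theorem mem_map_of_coords {A A' : Type*} [CommRing A] [CommRing A'] [Algebra A A'] {ι : Type*}
    (e : Module.Basis ι A A') (I : Ideal A) (a' : A') (h : ∀ α, e.repr a' α ∈ I) :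
    a' ∈ I.map (algebraMap A A') := by
  classical
  have hsum : ∑ β ∈ (e.repr a').support, (e.repr a' β) • e β = a' := by
    have := e.linearCombination_repr a'
    rwa [Finsupp.linearCombination_apply, Finsupp.sum] at this
  rw [← hsum]
  refine Ideal.sum_mem _ fun β _ => ?_
  rw [Algebra.smul_def]
  exact Ideal.mul_mem_right _ _ (Ideal.mem_map_of_mem _ (h β))

set_option linter.style.haveILetI false in
theorem mem_map_of_forall_eq_zero {R R' : Type u} [Field R] [CommRing R'] [Algebra R R']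
    {A A' : CommRingCat.{u}} (rA : CommRingCat.of R ⟶ A) (φ : A ⟶ A')
    (sA : CommRingCat.of R' ⟶ A')
    (hA : IsPushout rA (CommRingCat.ofHom (algebraMap R R')) φ sA)
    {J : Type*} (B B' : J → CommRingCat.{u}) (rB : ∀ j, CommRingCat.of R ⟶ B j)
    (χ : ∀ j, B j ⟶ B' j) (sB : ∀ j, CommRingCat.of R' ⟶ B' j)
    (hB : ∀ j, IsPushout (rB j) (CommRingCat.ofHom (algebraMap R R')) (χ j) (sB j))
    (ψ : ∀ j, A ⟶ B j) (ψ' : ∀ j, A' ⟶ B' j) (h1 : ∀ j, φ ≫ ψ' j = ψ j ≫ χ j)
    (h2 : ∀ j, sA ≫ ψ' j = sB j)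
    (I : Ideal A) (hI : ∀ a : A, (∀ j, (ψ j).hom a = 0) → a ∈ I) (a' : A')
    (ha' : ∀ j, (ψ' j).hom a' = 0) : a' ∈ I.map φ.hom := by
  letI : Algebra R A := rA.hom.toAlgebra
  letI : Algebra A A' := φ.hom.toAlgebra
  letI : Algebra R' A' := sA.hom.toAlgebra
  letI : Algebra R A' := ((algebraMap A A').comp (algebraMap R A)).toAlgebra
  haveI : IsScalarTower R A A' := .of_algebraMap_eq' rfl
  haveI : IsScalarTower R R' A' := .of_algebraMap_eq' (by
    have := congrArg CommRingCat.Hom.hom hA.w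
    exact this)
  have hA' : Algebra.IsPushout R A R' A' := CommRingCat.isPushout_iff_isPushout.mp hA
  let c := Module.Basis.ofVectorSpace R R'
  refine mem_map_of_coords (hA'.out.basis c) I a' fun α => hI _ fun j => ?_
  letI : Algebra R (B j) := (rB j).hom.toAlgebra
  letI : Algebra (B j) (B' j) := (χ j).hom.toAlgebra
  letI : Algebra R' (B' j) := (sB j).hom.toAlgebra
  letI : Algebra R (B' j) := ((algebraMap (B j) (B' j)).comp (algebraMap R (B j))).toAlgebra
  haveI : IsScalarTower R (B j) (B' j) := .of_algebraMap_eq' rfl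
  haveI : IsScalarTower R R' (B' j) := .of_algebraMap_eq' (by
    have := congrArg CommRingCat.Hom.hom (hB j).w
    exact this)
  have hB' : Algebra.IsPushout R (B j) R' (B' j) := CommRingCat.isPushout_iff_isPushout.mp (hB j)
  refine coords_ker hA' hB' c (ψ j).hom (ψ' j).hom (fun a => ?_) (fun r => ?_) a' (ha' j) α
  · exact congrArg (fun m => m.hom a) (h1 j)
  · exact congrArg (fun m => m.hom r) (h2 j)


theorem isPushout_sections {k k' : Type u} [Field k] [Field k'] [Algebra k k'] {T : Scheme.{u}}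
    (t : T ⟶ Spec (CommRingCat.of k)) {U : T.Opens} (hU : IsAffineOpen U) :
    IsPushout ((Scheme.ΓSpecIso (CommRingCat.of k)).inv ≫ t.appLE ⊤ U le_top)
      (CommRingCat.ofHom (algebraMap k k'))
      ((pullback.fst t (Spec.map (CommRingCat.ofHom (algebraMap k k')))).appLE U
        (pullback.fst t (Spec.map (CommRingCat.ofHom (algebraMap k k'))) ⁻¹ᵁ U) le_rfl)
      ((Scheme.ΓSpecIso (CommRingCat.of k')).inv ≫
        (pullback.snd t (Spec.map (CommRingCat.ofHom (algebraMap k k')))).appLE ⊤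
        (pullback.fst t (Spec.map (CommRingCat.ofHom (algebraMap k k'))) ⁻¹ᵁ U) le_top) := by
  set q := Spec.map (CommRingCat.ofHom (algebraMap k k')) with hq
  have H : IsPullback (pullback.fst t q) (pullback.snd t q) t q := IsPullback.of_hasPullback t q
  have hUST : (⊤ : (Spec (CommRingCat.of k')).Opens) ≤ q ⁻¹ᵁ ⊤ := by simp
  have hUSX : U ≤ t ⁻¹ᵁ ⊤ := by simp
  have hUY : pullback.fst t q ⁻¹ᵁ U = pullback.fst t q ⁻¹ᵁ U ⊓ pullback.snd t q ⁻¹ᵁ ⊤ := by
    simp
  have hiso := isIso_pushoutSection_of_isAffineOpen H hUST hUSX hUY (isAffineOpen_top _)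
    (isAffineOpen_top _) hU
  have hpo := (isIso_pushoutSection_iff H hUST hUSX hUY).mp hiso
  refine hpo.of_iso (Scheme.ΓSpecIso (CommRingCat.of k)) (Iso.refl _)
    (Scheme.ΓSpecIso (CommRingCat.of k')) (Iso.refl _) ?_ ?_ ?_ ?_
  · simp
  · rw [hq]
    exact Scheme.ΓSpecIso_naturality _
  · simp
  · simp


theorem fromSpec_mem_basicOpen_iff' {X : Scheme.{u}} {U : X.Opens} (hU : IsAffineOpen U)
    (b : Γ(X, U)) (p : Spec Γ(X, U)) : hU.fromSpec p ∈ X.basicOpen b ↔ b ∉ p.asIdeal := by
  have h := hU.fromSpec_preimage_basicOpen b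
  constructor
  · intro hp
    have hp' : p ∈ hU.fromSpec ⁻¹ᵁ X.basicOpen b := hp
    rw [h] at hp'
    exact hp'
  · intro hp
    have hp' : p ∈ hU.fromSpec ⁻¹ᵁ X.basicOpen b := by
      rw [h]
      exact hp
    exact hp'

/-- Membership in the vanishing ideal on an affine open: the section vanishes at every point of
the closed set inside the open. -/
theorem mem_vanishingIdeal_ideal_iff {X : Scheme.{u}} (W : TopologicalSpace.Closeds X)
    {U : X.Opens} (hU : IsAffineOpen U) (a : Γ(X, U)) :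
    a ∈ (Scheme.IdealSheafData.vanishingIdeal W).ideal ⟨U, hU⟩ ↔
      ∀ x ∈ (W : Set X), x ∉ X.basicOpen a := by
  rw [Scheme.IdealSheafData.vanishingIdeal_ideal, PrimeSpectrum.mem_vanishingIdeal]
  constructor
  · intro h x hxW hxa
    have hxU : x ∈ U := X.basicOpen_le a hxa
    have h1 := h (hU.primeIdealOf ⟨x, hxU⟩) (by
      show hU.fromSpec _ ∈ (W : Set X)
      rw [hU.fromSpec_primeIdealOf]; exact hxW)
    have h2 := (fromSpec_mem_basicOpen_iff' hU a (hU.primeIdealOf ⟨x, hxU⟩)).mp (by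
      rw [hU.fromSpec_primeIdealOf]; exact hxa)
    exact h2 h1
  · intro h 𝔭 h𝔭
    by_contra hcon
    exact h _ h𝔭 ((fromSpec_mem_basicOpen_iff' hU a 𝔭).mpr hcon)

/-- A section vanishing on a closed set containing the image of a reduced scheme pulls back to
zero. -/
theorem appLE_eq_zero_of_mem_vanishingIdeal {X Z : Scheme.{u}} [IsReduced Z] (F : Z ⟶ X)
    (W : TopologicalSpace.Closeds X) (hW : Set.range F ⊆ (W : Set X))
    {U : X.Opens} (hU : IsAffineOpen U) (V : Z.Opens) (e : V ≤ F ⁻¹ᵁ U) (a : Γ(X, U))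
    (ha : a ∈ (Scheme.IdealSheafData.vanishingIdeal W).ideal ⟨U, hU⟩) :
    F.appLE U V e a = 0 := by
  rw [← basicOpen_eq_bot_iff, Scheme.basicOpen_appLE]
  rw [mem_vanishingIdeal_ideal_iff] at ha
  ext z
  simp only [TopologicalSpace.Opens.coe_inf, Set.mem_inter_iff, SetLike.mem_coe,
    TopologicalSpace.Opens.coe_bot, Set.mem_empty_iff_false, iff_false, not_and]
  intro _ hz
  exact ha (F z) (hW ⟨z, rfl⟩) hz

/-- A section killed by all restrictions to the members of a family lies in the vanishing ideal of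
the closure of the union of the images. -/
theorem mem_vanishingIdeal_closure_of_appLE_eq_zero {X : Scheme.{u}} {ι : Type*}
    (Z : ι → Scheme.{u}) (f : ∀ i, Z i ⟶ X) {U : X.Opens} (hU : IsAffineOpen U) (a : Γ(X, U))
    (ha : ∀ (i : ι) (V : (Z i).Opens) (_ : IsAffineOpen V) (e : V ≤ f i ⁻¹ᵁ U),
      (f i).appLE U V e a = 0) :
    a ∈ (Scheme.IdealSheafData.vanishingIdeal
      (TopologicalSpace.Closeds.closure (⋃ i, Set.range (f i)))).ideal ⟨U, hU⟩ := by
  rw [mem_vanishingIdeal_ideal_iff]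
  intro x hxW hxa
  have hxW' : x ∈ closure (⋃ i, Set.range (f i)) := hxW
  rw [mem_closure_iff] at hxW'
  obtain ⟨_, hy1, hy2⟩ := hxW' _ (X.basicOpen a).isOpen hxa
  obtain ⟨i, z, rfl⟩ := Set.mem_iUnion.mp hy2
  have hzU : z ∈ f i ⁻¹ᵁ U := X.basicOpen_le a hy1
  obtain ⟨_, ⟨V, hV, rfl⟩, hzV, hVU'⟩ :=
    (Z i).isBasis_affineOpens.exists_subset_of_mem_open hzU (f i ⁻¹ᵁ U).isOpen
  have hVU : V ≤ f i ⁻¹ᵁ U := hVU'
  have h1 : z ∈ (Z i).basicOpen ((f i).appLE U V hVU a) := by
    rw [Scheme.basicOpen_appLE]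
    exact ⟨hzV, hy1⟩
  rw [ha i V hV hVU, Scheme.basicOpen_zero] at h1
  exact h1

theorem isReduced_bc {k : Type u} [Field k] {T : Scheme.{u}} (t : T ⟶ Spec (CommRingCat.of k))
    (hred : ∀ z : T, FBase.IsGeomReducedAt t z) (k' : Type u) [Field k'] [Algebra k k'] :
    IsReduced (pullback t (Spec.map (CommRingCat.ofHom (algebraMap k k')))) := by
  have : ∀ x : ↥(pullback t (Spec.map (CommRingCat.ofHom (algebraMap k k')))),
      _root_.IsReduced ((pullback t (Spec.map (CommRingCat.ofHom (algebraMap k k')))).presheaf.stalk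
        x) := fun x => hred _ k' x rfl
  exact isReduced_of_isReduced_stalk _


open Groth.Agent.Lib.Helper22.IdealComap in
set_option linter.style.haveILetI false in
set_option backward.isDefEq.respectTransparency.types false in
theorem main {k : Type u} [Field k] {X : Scheme.{u}}
    (p : X ⟶ Spec (CommRingCat.of k)) {ι : Type u} (Z : ι → Scheme.{u}) (f : ∀ i, Z i ⟶ X)
    (hred : ∀ (i : ι) (z : Z i), FBase.IsGeomReducedAt (f i ≫ p) z)
    (k' : Type u) [Field k'] [Algebra k k'] :
    Scheme.IdealSheafData.vanishingIdeal (TopologicalSpace.Closeds.closure (⋃ i, Set.range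
      (pullback.map (f i ≫ p) (Spec.map (CommRingCat.ofHom (algebraMap k k'))) p
        (Spec.map (CommRingCat.ofHom (algebraMap k k'))) (f i) (𝟙 _) (𝟙 _) (Category.comp_id _)
        ((Category.comp_id _).trans (Category.id_comp _).symm)))) =
      (Scheme.IdealSheafData.vanishingIdeal
        (TopologicalSpace.Closeds.closure (⋃ i, Set.range (f i)))).comap
        (pullback.fst p (Spec.map (CommRingCat.ofHom (algebraMap k k')))) := by
  set q := Spec.map (CommRingCat.ofHom (algebraMap k k')) with hq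
  set g := pullback.fst p q with hg
  set f' : ∀ i, pullback (f i ≫ p) q ⟶ pullback p q := fun i =>
    pullback.map (f i ≫ p) q p q (f i) (𝟙 _) (𝟙 _) (Category.comp_id _)
        ((Category.comp_id _).trans (Category.id_comp _).symm) with hf'
  set h : ∀ i, pullback (f i ≫ p) q ⟶ Z i := fun i => pullback.fst (f i ≫ p) q with hh
  have hfg : ∀ i, f' i ≫ g = h i ≫ f i := fun i => pullback.lift_fst _ _ _
  have hfs : ∀ i, f' i ≫ pullback.snd p q = pullback.snd (f i ≫ p) q := fun i => by
    rw [hf']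
    simp only [pullback.map]
    rw [pullback.lift_snd, Category.comp_id]
  set W := TopologicalSpace.Closeds.closure (⋃ i, Set.range (f i)) with hW
  set W' := TopologicalSpace.Closeds.closure (⋃ i, Set.range (f' i)) with hW'
  haveI hZred : ∀ i, IsReduced (pullback (f i ≫ p) q) := fun i => isReduced_bc _ (hred i) k'
  haveI : IsAffineHom q := by rw [hq]; infer_instance
  haveI : IsAffineHom g := MorphismProperty.pullback_fst (P := @IsAffineHom) p q inferInstance
  apply le_antisymm
  · refine Scheme.IdealSheafData.le_of_iSup_eq_top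
      (fun U : X.affineOpens => (⟨g ⁻¹ᵁ U.1, U.2.preimage g⟩ : (pullback p q).affineOpens)) ?_ ?_
    · exact g.iSup_preimage_eq_top (iSup_affineOpens_eq_top X)
    · intro U a' ha'
      rw [ideal_comap_eq_map g _ ⟨g ⁻¹ᵁ U.1, U.2.preimage g⟩ U le_rfl]
      let J := Σ i : ι, {V : (Z i).Opens // IsAffineOpen V ∧ V ≤ f i ⁻¹ᵁ U.1}
      have hle : ∀ j : J, h j.1 ⁻¹ᵁ j.2.1 ≤ f' j.1 ⁻¹ᵁ (g ⁻¹ᵁ U.1) := fun j => by
        rw [← Scheme.Hom.comp_preimage, hfg, Scheme.Hom.comp_preimage]
        exact (h j.1).preimage_mono j.2.2.2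
      refine mem_map_of_forall_eq_zero (R := k) (R' := k')
        ((Scheme.ΓSpecIso (CommRingCat.of k)).inv ≫ p.appLE ⊤ U.1 le_top)
        (g.appLE U.1 (g ⁻¹ᵁ U.1) le_rfl)
        ((Scheme.ΓSpecIso (CommRingCat.of k')).inv ≫ (pullback.snd p q).appLE ⊤ (g ⁻¹ᵁ U.1) le_top)
        (isPushout_sections p U.2)
        (J := J)
        (fun j => Γ(Z j.1, j.2.1)) (fun j => Γ(pullback (f j.1 ≫ p) q, h j.1 ⁻¹ᵁ j.2.1))
        (fun j => (Scheme.ΓSpecIso (CommRingCat.of k)).inv ≫ (f j.1 ≫ p).appLE ⊤ j.2.1 le_top)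
        (fun j => (h j.1).appLE j.2.1 (h j.1 ⁻¹ᵁ j.2.1) le_rfl)
        (fun j => (Scheme.ΓSpecIso (CommRingCat.of k')).inv ≫
          (pullback.snd (f j.1 ≫ p) q).appLE ⊤ (h j.1 ⁻¹ᵁ j.2.1) le_top)
        (fun j => isPushout_sections (f j.1 ≫ p) j.2.2.1)
        (fun j => (f j.1).appLE U.1 j.2.1 j.2.2.2)
        (fun j => (f' j.1).appLE (g ⁻¹ᵁ U.1) (h j.1 ⁻¹ᵁ j.2.1) (hle j))
        ?_ ?_ _ ?_ a' ?_
      · intro j
        rw [Scheme.Hom.appLE_comp_appLE, Scheme.Hom.appLE_comp_appLE]
        exact appLE_congr_hom (hfg j.1) _ _ _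
      · intro j
        refine (Category.assoc _ _ _).trans (congrArg _ ?_)
        exact (Scheme.Hom.appLE_comp_appLE _ _ _ _ _ _ _).trans (appLE_congr_hom (hfs j.1) _ _ _)
      · intro a ha
        exact mem_vanishingIdeal_closure_of_appLE_eq_zero Z f U.2 a
          (fun i V hV e => ha ⟨i, V, hV, e⟩)
      · intro j
        refine appLE_eq_zero_of_mem_vanishingIdeal (f' j.1) W' ?_ (U.2.preimage g) _ (hle j) a' ha'
        exact (Set.subset_iUnion (fun i => Set.range (f' i)) j.1).trans subset_closure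
  · rw [← Scheme.IdealSheafData.le_support_iff_le_vanishingIdeal,
      Scheme.IdealSheafData.support_comap]
    refine TopologicalSpace.Closeds.closure_le.mpr ?_
    intro x hx
    obtain ⟨i, z, rfl⟩ := Set.mem_iUnion.mp hx
    show g (f' i z) ∈ ((Scheme.IdealSheafData.vanishingIdeal W).support : Set X)
    rw [Scheme.IdealSheafData.coe_support_vanishingIdeal, ← Scheme.Hom.comp_apply, hfg,
      Scheme.Hom.comp_apply]
    exact subset_closure (Set.mem_iUnion.mpr ⟨i, h i z, rfl⟩)

end Groth.Agent.Lib.Helper4.GeomRedClosure
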