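import Mathlib.RingTheory.GradedAlgebra.Basic
import Mathlib.RingTheory.Polynomial.IsIntegral

/-!
# The grading homomorphism `S → S[X]` of an `ℕ`-graded ring (helper4)

`gradHom 𝒮 s = Σ s_i X^i`; used to show that homogeneous components of integral elements are
integral.
-/

set_option autoImplicit false

namespace Groth.Agent.Lib.Helper4.GP

open Polynomial DirectSum

variable {S : Type*} [CommRing S] (𝒮 : ℕ → AddSubgroup S) [GradedRing 𝒮]

/-- The grading ring homomorphism `S → S[X]`, `s ↦ Σ s_i X^i`. -/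
noncomputable def gradHom : S →+* S[X] :=
  (DirectSum.toSemiring (A := fun i => 𝒮 i)
    (fun i => (Polynomial.monomial i : S →ₗ[S] S[X]).toAddMonoidHom.comp (𝒮 i).subtype)
    (by simp [GradedMonoid.GOne.one])
    (by
      intro i j a b
      simp [GradedMonoid.GMul.mul, Polynomial.monomial_mul_monomial])).comp
    (DirectSum.decomposeRingEquiv 𝒮).toRingHom

lemma gradHom_of_mem {i : ℕ} {a : S} (ha : a ∈ 𝒮 i) : gradHom 𝒮 a = Polynomial.monomial i a := by
  unfold gradHom
  simp only [RingHom.coe_comp, Function.comp_apply, RingEquiv.toRingHom_eq_coe, RingHom.coe_coe]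
  change DirectSum.toSemiring _ _ _ (DirectSum.decompose 𝒮 a) = _
  rw [DirectSum.decompose_of_mem 𝒮 ha]
  exact DirectSum.toSemiring_of (A := fun i => 𝒮 i) _ _ _ i (⟨a, ha⟩ : 𝒮 i)

lemma coeff_gradHom (s : S) (i : ℕ) :
    (gradHom 𝒮 s).coeff i = ((DirectSum.decompose 𝒮 s i : 𝒮 i) : S) := by
  induction s using DirectSum.Decomposition.inductionOn 𝒮 with
  | zero => simp
  | homogeneous a =>
    rename_i j
    rw [gradHom_of_mem 𝒮 a.2, Polynomial.coeff_monomial, DirectSum.decompose_coe,
      DirectSum.of_apply]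
    split_ifs with h
    · subst h; rfl
    · rfl
  | add a b ha hb =>
    rw [map_add, Polynomial.coeff_add, ha, hb, DirectSum.decompose_add, DirectSum.add_apply,
      AddSubgroup.coe_add]

end Groth.Agent.Lib.Helper4.GP
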