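import Groth.Agent.Lib.Helper4H1NegE
import Groth.Agent.Lib.Helper23SecTw6
import Groth.Agent.Lib.Helper23AmpleIso

/-!
# Stacks 0FD8: `H¹(X, F ⊗ L^{-m}) = 0` for `m ≫ 0` when `depth F_x ≥ 2` at the closed points (helper4; S7680)
-/

set_option autoImplicit false
set_option linter.unusedSectionVars false
set_option linter.style.haveILetI false
set_option backward.isDefEq.respectTransparency.types false
universe u
open CategoryTheory CategoryTheory.Limits AlgebraicGeometry TopologicalSpace Opposite TensorProduct MonoidalCategory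

namespace Groth.Agent.Lib.Helper4.H1Neg

open Groth.Agent.Lib.Helper4.NegTwist Groth.Agent.Lib.Helper4.Dev Groth.Agent.Lib.Helper23.AmpleFam2
  Groth.Agent.Lib.Helper23.LocGen Groth.Agent.Lib.Helper23.AmpleIso Groth.Agent.Lib.Helper23.TensorUnit
  Groth.Agent.Lib.Helper23.SecTw Groth.Agent.Lib.Helper12.Snap

variable {X : Scheme.{u}}

/-- the tower is functorial for isomorphisms of the base -/
noncomputable def towerIso {A A' : X.Modules} (D : X.Modules) (f : A ≅ A') : ∀ i, tower A D i ≅ tower A' D i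
  | 0 => f
  | i + 1 => tensorModIso (towerIso D f i) (Iso.refl D)

theorem main (k : Type u) [Field k] (X : Scheme.{u}) [X.Over (Spec (CommRingCat.of k))]
    [IsProper (X ↘ (Spec (CommRingCat.of k)))]
    (L : X.Modules) (hL : CohB1.IsAmple L) (M : X.Modules) (hM : ClSub.IsInverseOf L M)
    (F : X.Modules) (hF : Coh.IsCoh F)
    (hdepth : ∀ x : X, IsClosed ({x} : Set X) →
      2 ≤ LocCoh.depth (X.presheaf.stalk x) (F.presheaf.stalk x)) :
    ∃ m₀ : ℕ, ∀ m : ℕ, m₀ ≤ m →
      Subsingleton (Coh.HH X (CohB1.tensorMod F (CohB1.tensorPow M m)) 1) := by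
  haveI : IsNoetherian X := Groth.Agent.Lib.Helper4.CurveRR.isNoetherian_of_proper k X
  obtain ⟨e₀⟩ := hM
  have hMinv : PicF.IsInvertible M :=
    Groth.Agent.Lib.Helper2.TensorInv.isInvertible_of_tensor_iso M L (tensorBraid M L ≪≫ e₀)
  -- associated points
  have hZfin : {x : X | Curv2.IsAssPoint F x}.Finite := by
    have := Groth.Agent.S1576.result X F hF ⊤ (by simpa using isCompact_univ)
    refine this.subset (fun x hx => ⟨trivial, hx⟩)
  have hnc : ∀ x : X, IsClosed ({x} : Set X) → ¬ Curv2.IsAssPoint F x := by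
    intro x hx hass
    have h0 : LocCoh.depth (X.presheaf.stalk x) (F.presheaf.stalk x) = 0 :=
      (@Groth.Agent.Lib.Helper20.ZClosLib.depth_eq_zero_iff_isAssPoint X _ F hF.1 hF.2 x).2 hass
    have h2 := hdepth x hx
    rw [h0] at h2
    exact absurd h2 (by norm_num)
  -- the first section
  obtain ⟨n₁, s₁, hZs₁, -, haff⟩ := exists_affine_genLocus_of_finite L hL _ hZfin ⊤ (fun _ _ => trivial)
  -- the points `z_q`
  have hzq : ∀ q : X, Curv2.IsAssPoint F q → ∃ z : X, q ⤳ z ∧ z ∉ CohB1.genLocus _ s₁ := by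
    intro q hq
    by_contra hcon
    push Not at hcon
    refine hnc q ?_ hq
    apply isClosed_singleton_of_closure_subset_affine k X _ haff q
    intro z hz
    exact hcon z (specializes_iff_mem_closure.2 hz)
  choose! zq hzq1 hzq2 using hzq
  have hZ'fin : (zq '' {x : X | Curv2.IsAssPoint F x}).Finite := hZfin.image zq
  obtain ⟨n₂, t₁, hZt₁, -, -⟩ := exists_affine_genLocus_of_finite L hL _ hZ'fin ⊤ (fun _ _ => trivial)
  -- common power
  set m := (n₁ + 1) * (n₂ + 1) with hm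
  have hmpos : 0 < m := Nat.mul_pos (Nat.succ_pos _) (Nat.succ_pos _)
  obtain ⟨i₁⟩ := nonempty_tensorPow_tensorPow_iso L hL.1 (n₁ + 1) (n₂ + 1) m rfl
  obtain ⟨i₂⟩ := nonempty_tensorPow_tensorPow_iso L hL.1 (n₂ + 1) (n₁ + 1) m (Nat.mul_comm _ _)
  set s : Coh.structureModule X ⟶ CohB1.tensorPow L m := SecTwist.powHom s₁ (n₂ + 1) ≫ i₁.hom with hs
  set t : Coh.structureModule X ⟶ CohB1.tensorPow L m := SecTwist.powHom t₁ (n₁ + 1) ≫ i₂.hom with ht
  have hgs : CohB1.genLocus _ s = CohB1.genLocus _ s₁ := by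
    rw [hs, genLocus_comp_iso, genLocus_powHom (isInvertible_tensorPow hL.1 (n₁ + 1)) s₁ _ (Nat.succ_pos _)]
  have hgt : CohB1.genLocus _ t = CohB1.genLocus _ t₁ := by
    rw [ht, genLocus_comp_iso, genLocus_powHom (isInvertible_tensorPow hL.1 (n₂ + 1)) t₁ _ (Nat.succ_pos _)]
  have hP : PicF.IsInvertible (CohB1.tensorPow L m) := isInvertible_tensorPow hL.1 m
  have hD : PicF.IsInvertible (CohB1.tensorPow M m) := isInvertible_tensorPow hMinv m
  obtain ⟨e₁⟩ := nonempty_tensorPow_tensorMod_iso L M hL.1 hMinv m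
  let e : CohB1.tensorMod (CohB1.tensorPow L m) (CohB1.tensorPow M m) ≅ Coh.structureModule X :=
    e₁ ≪≫ tensorPowIso e₀ m ≪≫ tensorPowUnitIso m
  -- the residues
  have hA : ∀ r : ℕ, Coh.IsCoh (CohB1.tensorMod F (CohB1.tensorPow M r)) := fun r =>
    isCoh_of_iso (tensorBraid (CohB1.tensorPow M r) F)
      (isCoh_invertible_tensor _ F (isInvertible_tensorPow hMinv r) hF)
  have hAss : ∀ (r : ℕ) (x : X), Curv2.IsAssPoint (CohB1.tensorMod F (CohB1.tensorPow M r)) x ↔
      Curv2.IsAssPoint F x := fun r x =>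
    (isAssPoint_iff_of_iso (tensorBraid F (CohB1.tensorPow M r)) x).trans
      (isAssPoint_tensor_invertible_iff _ F (isInvertible_tensorPow hMinv r) x)
  -- vanishing of `H⁰` for the cokernels
  have H0 : ∀ C : X.Modules, Coh.IsCoh C → (∀ x : X, IsClosed ({x} : Set X) → ¬ Curv2.IsAssPoint C x) →
      ∃ n₀ : ℕ, ∀ n, n₀ ≤ n → Subsingleton (Coh.HH X (tower C (CohB1.tensorPow M m) n) 0) := by
    intro C hC hCass
    obtain ⟨n₀, hn₀⟩ := Groth.Agent.Lib.Helper4.NegTwist.main k X L ⟨hL.1, hL.2⟩ M ⟨e₀⟩ C hC hCass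
    refine ⟨n₀, fun n hn => ?_⟩
    obtain ⟨Φ⟩ := nonempty_tower_iso C M hMinv 0 m n
    have hu : C ≅ CohB1.tensorMod C (CohB1.tensorPow M 0) := (tensorUnitIso C).symm
    have hle : n₀ ≤ 0 + n * m := by
      have : n ≤ n * m := Nat.le_mul_of_pos_right n hmpos
      omega
    exact Groth.Agent.Lib.Helper27SerreVan.subsingleton_HH_of_iso
      (towerIso (CohB1.tensorPow M m) hu n ≪≫ Φ) 0 (hn₀ _ hle)
  have hkey : ∀ r : ℕ, ∃ i₀ : ℕ, ∀ i, i₀ ≤ i → Subsingleton (Coh.HH X
      (tower (CohB1.tensorMod F (CohB1.tensorPow M r)) (CohB1.tensorPow M m) i) 1) := fun r =>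
    core k X (CohB1.tensorPow L m) (CohB1.tensorPow M m) hP hD e s t _ (hA r)
      (fun x hx => by
        rw [depth_tensor_invertible F _ (isInvertible_tensorPow hMinv r) x]
        exact hdepth x hx)
      (fun q hq => by rw [hgs]; exact hZs₁ ((hAss r q).1 hq))
      (fun q hq => by
        have hq' := (hAss r q).1 hq
        refine ⟨zq q, hzq1 q hq', ?_, ?_⟩
        · rw [hgs]; exact hzq2 q hq'
        · rw [hgt]; exact hZt₁ ⟨q, hq', rfl⟩)
      H0
  choose i₀ hi₀ using hkey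
  refine ⟨m * (Finset.range m).sup i₀, fun n hn => ?_⟩
  have hr : n % m < m := Nat.mod_lt n hmpos
  have hi : i₀ (n % m) ≤ n / m := by
    have h1 : i₀ (n % m) ≤ (Finset.range m).sup i₀ := Finset.le_sup (Finset.mem_range.2 hr)
    have h2 : (Finset.range m).sup i₀ ≤ n / m := (Nat.le_div_iff_mul_le hmpos).2 (by rw [mul_comm]; exact hn)
    exact h1.trans h2
  obtain ⟨Φ⟩ := nonempty_tower_iso F M hMinv (n % m) m (n / m)
  have hn' : n % m + n / m * m = n := by rw [mul_comm]; exact Nat.mod_add_div n m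
  rw [hn'] at Φ
  exact Groth.Agent.Lib.Helper27SerreVan.subsingleton_HH_of_iso Φ.symm 1 (hi₀ (n % m) (n / m) hi)

end Groth.Agent.Lib.Helper4.H1Neg
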