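import Groth.Agent.Lib.Helper12PosE
import Groth.Agent.S2329
import Groth.Agent.Lib.Helper4HqNegC

/-!
# Growth of `h⁰(F ⊗ L^m)` on a projective scheme over a field (helper4; S19801, S16901)

`X` proper over a field `k` with an ample module `A`, `L` invertible, `F` coherent with `dim Supp F ≤ e`:
`h⁰(X, F ⊗ L^m) ≤ C m^e` for all `m ≥ 1` (`exists_bound`).

Proof: choose a section `t` of a power `A₂` of `A` not vanishing at the associated points of `F` and such that
`A₁ = A₂ ⊗ L` is ample; multiplication by `t^m` embeds `F ⊗ L^m` into `F ⊗ A₁^m`, whose `h⁰` is the value of the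
Snapper polynomial (of degree `≤ e`) for `m ≫ 0` by Serre vanishing.
-/

set_option autoImplicit false
set_option linter.unusedSectionVars false
set_option linter.style.haveILetI false
set_option backward.isDefEq.respectTransparency.types false
universe u
open CategoryTheory CategoryTheory.Limits AlgebraicGeometry TopologicalSpace Opposite

namespace Groth.Agent.Lib.Helper4.Growth

open Groth.Agent.Lib.Helper4.NegTwist Groth.Agent.Lib.Helper4.Dev Groth.Agent.Lib.Helper12.Snap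
  Groth.Agent.Lib.Helper23.SecTw Groth.Agent.Lib.Helper23.GenLocus Groth.Agent.Lib.Helper23.AmpleFam2
  Groth.Agent.Lib.Helper23.LocGen

section Mono

variable {X : Scheme.{u}}

/-- multiplication by a section not vanishing at the associated points is a monomorphism -/
theorem mono_secApp (P : X.Modules) (s : Coh.structureModule X ⟶ P) (B : X.Modules) [B.IsQuasicoherent]
    (h : ∀ x, Curv2.IsAssPoint B x → x ∈ CohB1.genLocus P s) : Mono (secApp P s B) :=
  mono_of_stalk _ (fun y hy => (bijective_stalkL_secApp P s B y (h y hy)).1)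

end Mono

section Arith

/-- a polynomial in one variable of total degree `≤ e` is `O(m^e)` -/
theorem abs_eval_le (P : MvPolynomial (Fin 1) ℚ) (e : ℕ) (hP : P.totalDegree ≤ e) (m : ℕ) (hm : 1 ≤ m) :
    |MvPolynomial.eval (fun _ => (m : ℚ)) P| ≤ (∑ a ∈ P.support, |P.coeff a|) * (m : ℚ) ^ e := by
  rw [MvPolynomial.eval_eq', Finset.sum_mul]
  refine (Finset.abs_sum_le_sum_abs _ _).trans (Finset.sum_le_sum fun a ha => ?_)
  rw [abs_mul]
  refine mul_le_mul_of_nonneg_left ?_ (abs_nonneg _)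
  rw [Fin.prod_univ_one]
  have hm1 : (1 : ℚ) ≤ (m : ℚ) := by exact_mod_cast hm
  rw [abs_of_nonneg (by positivity)]
  refine pow_le_pow_right₀ hm1 ?_
  have h1 := MvPolynomial.le_totalDegree ha
  rw [Finsupp.sum_fintype _ _ (fun _ => rfl), Fin.sum_univ_one] at h1
  exact h1.trans hP

end Arith

section Proper

variable (k : Type u) [Field k] (X : Scheme.{u}) [X.Over (Spec (CommRingCat.of k))]
  [IsProper (X ↘ (Spec (CommRingCat.of k)))]

/-- the comparison `h⁰(F ⊗ L^m) ≤ h⁰(F ⊗ (A₂ ⊗ L)^m)` for a section `t` of `A₂` not vanishing at `Ass F` -/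
theorem h0_le_twist (A₂ L : X.Modules) (hA₂ : PicF.IsInvertible A₂) (hL : PicF.IsInvertible L)
    (t : Coh.structureModule X ⟶ A₂) (F : X.Modules) (hF : Coh.IsCoh F)
    (ht : ∀ x, Curv2.IsAssPoint F x → x ∈ CohB1.genLocus A₂ t) (m : ℕ) (hm : 1 ≤ m) :
    Module.finrank k (Coh.HH X (CohB1.tensorMod F (CohB1.tensorPow L m)) 0) ≤
      Module.finrank k (Coh.HH X (CohB1.tensorMod F (CohB1.tensorPow (CohB1.tensorMod A₂ L) m)) 0) := by
  haveI : IsNoetherian X := Groth.Agent.Lib.Helper4.CurveRR.isNoetherian_of_proper k X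
  have hLm := isInvertible_tensorPow hL m
  have hAm := isInvertible_tensorPow hA₂ m
  have hB : Coh.IsCoh (CohB1.tensorMod F (CohB1.tensorPow L m)) := isCoh_tower F _ hF hLm 1
  haveI : (CohB1.tensorMod F (CohB1.tensorPow L m)).IsQuasicoherent := hB.1
  haveI : Mono (secApp (CohB1.tensorPow A₂ m) (SecTwist.powHom t m) (CohB1.tensorMod F (CohB1.tensorPow L m))) := by
    refine mono_secApp _ _ _ (fun x hx => ?_)
    rw [genLocus_powHom hA₂ t m hm]
    exact ht x ((isAssPoint_tower_iff F _ hLm x 1).1 hx)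
  obtain ⟨Φ₁⟩ := nonempty_tensorPow_tensorMod_iso A₂ L hA₂ hL m
  obtain ⟨Φ₂⟩ := tensor_congr_left F ⟨tensorBraid (CohB1.tensorPow L m) (CohB1.tensorPow A₂ m) ≪≫ Φ₁⟩
  let Φ : CohB1.tensorMod (CohB1.tensorPow A₂ m) (CohB1.tensorMod F (CohB1.tensorPow L m)) ≅
      CohB1.tensorMod F (CohB1.tensorPow (CohB1.tensorMod A₂ L) m) :=
    tensorBraid _ _ ≪≫ tensorAssoc F (CohB1.tensorPow L m) (CohB1.tensorPow A₂ m) ≪≫ Φ₂
  have hE : Coh.IsCoh (CohB1.tensorMod (CohB1.tensorPow A₂ m) (CohB1.tensorMod F (CohB1.tensorPow L m))) :=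
    isCoh_invertible_tensor _ _ hAm hB
  refine (Groth.Agent.Lib.Helper4.CurveRR.h0_le_of_mono k X
    (secApp (CohB1.tensorPow A₂ m) (SecTwist.powHom t m) (CohB1.tensorMod F (CohB1.tensorPow L m))) hE).trans ?_
  exact le_of_eq (Groth.Agent.Lib.Helper27LesLin.finrank_HH_of_iso k Φ 0)

/-- **growth bound**: `h⁰(X, F ⊗ L^m) ≤ C m^e` for `e ≥ dim Supp F` -/
theorem exists_bound (A : X.Modules) (hA : CohB1.IsAmple A) (L : X.Modules) (hL : PicF.IsInvertible L)
    (F : X.Modules) (hF : Coh.IsCoh F) (e : ℕ)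
    (he : topologicalKrullDim ↥(CohB1.support F) ≤ (e : WithBot ℕ∞)) :
    ∃ C : ℕ, ∀ m : ℕ, 1 ≤ m →
      Module.finrank k (Coh.HH X (CohB1.tensorMod F (CohB1.tensorPow L m)) 0) ≤ C * m ^ e := by
  haveI : IsNoetherian X := Groth.Agent.Lib.Helper4.CurveRR.isNoetherian_of_proper k X
  haveI : X.IsSeparated := Groth.Agent.Lib.Helper4.CurveRR.isSeparated_of_proper k X
  -- associated points
  have hZfin : {x : X | Curv2.IsAssPoint F x}.Finite := by
    have := Groth.Agent.S1576.result X F hF ⊤ (by simpa using isCompact_univ)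
    refine this.subset (fun x hx => ⟨trivial, hx⟩)
  obtain ⟨n₁, s₁, hZs₁, -, -⟩ := exists_affine_genLocus_of_finite A hA _ hZfin ⊤ (fun _ _ => trivial)
  have hA' : CohB1.IsAmple (CohB1.tensorPow A (n₁ + 1)) :=
    (isAmple_tensorPow_iff A hA.1 (n₁ + 1) (Nat.succ_pos _)).1 hA
  obtain ⟨n₀, hn₀, hamp⟩ := Groth.Agent.S2329.result X (CohB1.tensorPow A (n₁ + 1)) L hA' hL
  have hA₂ : PicF.IsInvertible (CohB1.tensorPow (CohB1.tensorPow A (n₁ + 1)) n₀) :=
    isInvertible_tensorPow hA'.1 n₀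
  have ht : ∀ x, Curv2.IsAssPoint F x →
      x ∈ CohB1.genLocus (CohB1.tensorPow (CohB1.tensorPow A (n₁ + 1)) n₀) (SecTwist.powHom s₁ n₀) := by
    intro x hx
    rw [genLocus_powHom hA'.1 s₁ n₀ hn₀]
    exact hZs₁ hx
  have hA₁ := (hamp n₀ le_rfl).1
  have hle := h0_le_twist k X _ L hA₂ hL (SecTwist.powHom s₁ n₀) F hF ht
  -- Snapper polynomial
  obtain ⟨P, hPdeg, hP⟩ := snapper_tensorPows k X F hF e he 1
    (fun _ => CohB1.tensorMod (CohB1.tensorPow (CohB1.tensorPow A (n₁ + 1)) n₀) L) (fun _ => hA₁.1)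
  -- Serre vanishing
  obtain ⟨m₀, hm₀⟩ := (Groth.Agent.S0051.result k X (X ↘ (Spec (CommRingCat.of k))) _ hA₁.1).1 hA₁ F hF
  set S : ℚ := ∑ a ∈ P.support, |P.coeff a| with hS
  have hS0 : 0 ≤ S := Finset.sum_nonneg fun _ _ => abs_nonneg _
  set g : ℕ → ℕ := fun m => Module.finrank k (Coh.HH X (CohB1.tensorMod F
    (CohB1.tensorPow (CohB1.tensorMod (CohB1.tensorPow (CohB1.tensorPow A (n₁ + 1)) n₀) L) m)) 0) with hg
  refine ⟨⌈S⌉₊ + ∑ m ∈ Finset.range m₀, g m, fun m hm => (hle m hm).trans ?_⟩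
  change g m ≤ _
  have hpow : 1 ≤ m ^ e := Nat.one_le_pow _ _ hm
  by_cases hmm : m₀ ≤ m
  · have h1 := Groth.Agent.Lib.Helper4.ZeroDimChi.euler_eq_finrank_zero k
      (CohB1.tensorMod F (CohB1.tensorPow (CohB1.tensorMod (CohB1.tensorPow (CohB1.tensorPow A (n₁ + 1)) n₀) L) m))
      (fun i hi => hm₀ m hmm i hi)
    have h2 := hP (fun _ => m)
    change ((Curv2.euler k X (CohB1.tensorMod F (CohB1.tensorPow
      (CohB1.tensorMod (CohB1.tensorPow (CohB1.tensorPow A (n₁ + 1)) n₀) L) m)) : ℤ) : ℚ) = _ at h2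
    rw [h1] at h2
    have h3 := abs_eval_le P e hPdeg m hm
    have h4 : (g m : ℚ) ≤ S * (m : ℚ) ^ e := by
      have : ((g m : ℤ) : ℚ) = MvPolynomial.eval (fun _ : Fin 1 => (m : ℚ)) P := h2
      rw [Int.cast_natCast] at this
      rw [this]
      exact (le_abs_self _).trans h3
    have h5 : (g m : ℚ) ≤ ((⌈S⌉₊ * m ^ e : ℕ) : ℚ) := by
      push_cast
      exact h4.trans (mul_le_mul_of_nonneg_right (Nat.le_ceil S) (by positivity))
    have h6 : g m ≤ ⌈S⌉₊ * m ^ e := by exact_mod_cast h5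
    exact h6.trans (Nat.mul_le_mul_right _ (Nat.le_add_right _ _))
  · have h1 : g m ≤ ∑ j ∈ Finset.range m₀, g j :=
      Finset.single_le_sum (f := g) (fun _ _ => Nat.zero_le _) (Finset.mem_range.2 (not_le.1 hmm))
    calc g m ≤ ∑ j ∈ Finset.range m₀, g j := h1
      _ ≤ ⌈S⌉₊ + ∑ j ∈ Finset.range m₀, g j := Nat.le_add_left _ _
      _ = (⌈S⌉₊ + ∑ j ∈ Finset.range m₀, g j) * 1 := (Nat.mul_one _).symm
      _ ≤ (⌈S⌉₊ + ∑ j ∈ Finset.range m₀, g j) * m ^ e := Nat.mul_le_mul_left _ hpow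

end Proper

end Groth.Agent.Lib.Helper4.Growth
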