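import Groth.Agent.Lib.Helper4NegTwistE

/-!
# Lifting level-zero maps along a tower `F ⊗ D^i` (helper4; S7680)

`lift D w i : tower A D (a + i) ⟶ tower B D (b + i)` for `w : tower A D a ⟶ tower B D b`; functoriality; the
twisted short exact sequences; inner multiplications agree with outer ones for regular sections
(`aMap_eq_nuApp`), and multiplications by two sections commute (`aMap_comm`).
-/

set_option autoImplicit false
set_option linter.style.haveILetI false
set_option backward.isDefEq.respectTransparency.types false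
universe u
open CategoryTheory CategoryTheory.Limits AlgebraicGeometry TopologicalSpace Opposite TensorProduct MonoidalCategory

namespace Groth.Agent.Lib.Helper4.H1Neg

open Groth.Agent.Lib.Helper4.NegTwist Groth.Agent.Lib.Helper4.Dev Groth.Agent.Lib.Helper4.KTensor
  Groth.Agent.Lib.Helper23.ResProp

variable {X : Scheme.{u}} (D : X.Modules)

/-- lift a level-zero map between towers to level `i` -/
noncomputable def lift {A B : X.Modules} {a b : ℕ} (w : tower A D a ⟶ tower B D b) :
    ∀ i, tower A D (a + i) ⟶ tower B D (b + i)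
  | 0 => w
  | i + 1 => tmapR (lift w i) D

theorem lift_zero' {A B : X.Modules} {a b : ℕ} (w : tower A D a ⟶ tower B D b) : lift D w 0 = w := rfl

theorem lift_succ {A B : X.Modules} {a b : ℕ} (w : tower A D a ⟶ tower B D b) (i : ℕ) :
    lift D w (i + 1) = tmapR (lift D w i) D := rfl

theorem tmapR_id (A : X.Modules) : tmapR (𝟙 A) D = 𝟙 _ :=
  (Groth.Agent.Lib.Helper27SerreVan.tw D).map_id A

theorem tmapR_add {A B : X.Modules} (φ ψ : A ⟶ B) : tmapR (φ + ψ) D = tmapR φ D + tmapR ψ D :=
  (Groth.Agent.Lib.Helper27SerreVan.tw D).map_add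

theorem lift_comp {A B C : X.Modules} {a b c : ℕ} (w : tower A D a ⟶ tower B D b)
    (w' : tower B D b ⟶ tower C D c) : ∀ i, lift D (w ≫ w') i = lift D w i ≫ lift D w' i
  | 0 => rfl
  | i + 1 => by
    rw [lift_succ, lift_succ, lift_succ, lift_comp w w' i, tmapR_comp]
    rfl

theorem lift_id (A : X.Modules) (a : ℕ) : ∀ i, lift D (𝟙 (tower A D a)) i = 𝟙 _
  | 0 => rfl
  | i + 1 => by rw [lift_succ, lift_id A a i]; exact tmapR_id D _

theorem lift_add {A B : X.Modules} {a b : ℕ} (w w' : tower A D a ⟶ tower B D b) :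
    ∀ i, lift D (w + w') i = lift D w i + lift D w' i
  | 0 => rfl
  | i + 1 => by rw [lift_succ, lift_succ, lift_succ, lift_add w w' i, tmapR_add]; rfl

theorem lift_zero {A B : X.Modules} {a b : ℕ} :
    ∀ i, lift D (0 : tower A D a ⟶ tower B D b) i = 0
  | 0 => rfl
  | i + 1 => by rw [lift_succ, lift_zero i]; exact tmapR_zero _ _ D

section Lin
variable (k : Type u) [Field k] [X.Over (Spec (CommRingCat.of k))]

theorem lift_smul {A B : X.Modules} {a b : ℕ} (c : k) (w : tower A D a ⟶ tower B D b) :
    ∀ i, lift D (c • w) i = c • lift D w i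
  | 0 => rfl
  | i + 1 => by
    rw [lift_succ, lift_succ, lift_smul c w i]
    exact Groth.Agent.Lib.Helper4.CurveAsym.tw_map_smul k D c _

end Lin

/-- the lifted short complexes -/
noncomputable def liftSC {A B C : X.Modules} {a b c : ℕ} (f : tower A D a ⟶ tower B D b)
    (g : tower B D b ⟶ tower C D c) (h : f ≫ g = 0) (i : ℕ) : ShortComplex X.Modules :=
  ShortComplex.mk (lift D f i) (lift D g i) (by rw [← lift_comp, h, lift_zero])

theorem liftSC_succ {A B C : X.Modules} {a b c : ℕ} (f : tower A D a ⟶ tower B D b)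
    (g : tower B D b ⟶ tower C D c) (h : f ≫ g = 0) (i : ℕ) :
    liftSC D f g h (i + 1) = (liftSC D f g h i).map (Groth.Agent.Lib.Helper27SerreVan.tw D) := rfl

theorem liftSC_shortExact (hD : PicF.IsInvertible D) {A B C : X.Modules} {a b c : ℕ}
    (f : tower A D a ⟶ tower B D b) (g : tower B D b ⟶ tower C D c) (h : f ≫ g = 0)
    (h0 : (ShortComplex.mk f g h).ShortExact) : ∀ i, (liftSC D f g h i).ShortExact
  | 0 => h0
  | i + 1 => by
    rw [liftSC_succ]
    exact Groth.Agent.Lib.Helper27SerreVan.shortExact_tw D hD _ (liftSC_shortExact hD f g h h0 i)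

section Nu

variable (P : X.Modules) (e : CohB1.tensorMod P D ≅ Coh.structureModule X)

/-- for a regular section, the inner multiplication equals the outer one -/
theorem inner_eq_outer (σ : Coh.structureModule X ⟶ P) (B : X.Modules) [Mono (nuApp P D σ e B)] :
    tmapR (nuApp P D σ e B) D = nuApp P D σ e (CohB1.tensorMod B D) := by
  have h := nuApp_naturality P D σ e (nuApp P D σ e B)
  exact (cancel_mono (nuApp P D σ e B)).1 h

theorem aMap_eq_nuApp (σ : Coh.structureModule X ⟶ P) (F : X.Modules)
    (hm : ∀ i, Mono (nuApp P D σ e (tower F D i))) :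
    ∀ i, aMap P D σ e F i = nuApp P D σ e (tower F D i)
  | 0 => rfl
  | i + 1 => by
    haveI := hm i
    change tmapR (aMap P D σ e F i) D = _
    rw [aMap_eq_nuApp σ F hm i]
    exact inner_eq_outer D P e σ (tower F D i)

/-- naturality of the outer multiplication with respect to lifted maps -/
theorem lift_succ_nuApp (σ : Coh.structureModule X ⟶ P) {A B : X.Modules} {a b : ℕ}
    (w : tower A D a ⟶ tower B D b) (i : ℕ) :
    lift D w (i + 1) ≫ nuApp P D σ e (tower B D (b + i)) =
      nuApp P D σ e (tower A D (a + i)) ≫ lift D w i :=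
  nuApp_naturality P D σ e (lift D w i)

/-- multiplications by two sections commute -/
theorem aMap_comm (s t : Coh.structureModule X ⟶ P) (F : X.Modules) [Mono (nuApp P D t e F)] :
    ∀ m, aMap P D s e F (m + 1) ≫ aMap P D t e F m = aMap P D t e F (m + 1) ≫ aMap P D s e F m
  | 0 => by
    change tmapR (nuApp P D s e F) D ≫ nuApp P D t e F = tmapR (nuApp P D t e F) D ≫ nuApp P D s e F
    rw [nuApp_naturality, inner_eq_outer D P e t F]
  | m + 1 => by
    change tmapR (aMap P D s e F (m + 1)) D ≫ tmapR (aMap P D t e F m) D =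
      tmapR (aMap P D t e F (m + 1)) D ≫ tmapR (aMap P D s e F m) D
    rw [← tmapR_comp, ← tmapR_comp, aMap_comm s t F m]

end Nu

end Groth.Agent.Lib.Helper4.H1Neg
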