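import Mathlib

set_option autoImplicit false
universe u
open Polynomial

namespace Groth.Agent.Lib.Helper4.H1NegLA

section Poly
variable {k : Type*} [Field k]

/-- the Horner polynomial of a coefficient list: `p [] = 1`, `p (c :: cs) = X * p cs + C c` -/
noncomputable def hpoly : List k → k[X]
  | [] => 1
  | c :: cs => X * hpoly cs + C c

/-- the list of the lower coefficients of a polynomial, of length `n` -/
noncomputable def coeffList (p : k[X]) : ℕ → List k
  | 0 => []
  | n + 1 => p.coeff 0 :: coeffList p.divX n

theorem length_coeffList (p : k[X]) (n : ℕ) : (coeffList p n).length = n := by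
  induction n generalizing p with
  | zero => rfl
  | succ n ih => simp [coeffList, ih]

theorem hpoly_coeffList (n : ℕ) : ∀ (p : k[X]), p.Monic → p.natDegree = n → hpoly (coeffList p n) = p := by
  induction n with
  | zero =>
    intro p hp hn
    simp only [coeffList, hpoly]
    exact ((Polynomial.Monic.natDegree_eq_zero hp).1 hn).symm
  | succ n ih =>
    intro p hp hn
    simp only [coeffList, hpoly]
    have hdeg : p.divX.natDegree = n := by
      rw [Polynomial.natDegree_divX_eq_natDegree_tsub_one, hn]; rfl
    have hmon : p.divX.Monic := by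
      unfold Polynomial.Monic Polynomial.leadingCoeff
      rw [hdeg, Polynomial.coeff_divX, ← hn]
      exact hp
    rw [ih p.divX hmon hdeg, mul_comm]
    exact Polynomial.divX_mul_X_add p

end Poly


section Chain
variable {k : Type*} [Field k] (V : ℕ → Type*) [∀ m, AddCommGroup (V m)] [∀ m, Module k (V m)]
  (S T : ∀ m, V (m + 1) →ₗ[k] V m)

/-- the composite `S_0 ∘ ⋯ ∘ S_{j-1} : V j → V 0` -/
def SN : ∀ j, V j →ₗ[k] V 0
  | 0 => LinearMap.id
  | j + 1 => (SN j).comp (S j)

/-- the Horner combination of the `T`'s and `S`'s -/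
def horner : (cs : List k) → (V cs.length →ₗ[k] V 0)
  | [] => LinearMap.id
  | c :: cs => (horner cs).comp (T cs.length) + c • SN V S (cs.length + 1)

variable (hS : ∀ m, Function.Bijective (S m))
  (hcomm : ∀ m, (T m).comp (S (m + 1)) = (S m).comp (T (m + 1)))

/-- `φ_m = T_m ∘ S_m⁻¹` -/
noncomputable def phi (m : ℕ) : Module.End k (V m) :=
  (T m).comp (LinearEquiv.ofBijective (S m) (hS m)).symm.toLinearMap

theorem phi_comp_S (m : ℕ) : (phi V S T hS m).comp (S m) = T m := by
  ext x
  simp only [phi, LinearMap.comp_apply, LinearEquiv.coe_coe]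
  congr 1
  exact (LinearEquiv.ofBijective (S m) (hS m)).symm_apply_apply x

include hcomm in
theorem S_comp_phi (m : ℕ) : (S m).comp (phi V S T hS (m + 1)) = T m := by
  unfold phi
  rw [← LinearMap.comp_assoc, ← hcomm m, LinearMap.comp_assoc]
  ext x
  simp only [LinearMap.comp_apply, LinearEquiv.coe_coe]
  congr 1
  exact (LinearEquiv.ofBijective (S (m + 1)) (hS (m + 1))).apply_symm_apply x

include hcomm in
theorem SN_conj : ∀ j, (phi V S T hS 0).comp (SN V S j) = (SN V S j).comp (phi V S T hS j)
  | 0 => rfl
  | j + 1 => by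
    change (phi V S T hS 0).comp ((SN V S j).comp (S j)) = ((SN V S j).comp (S j)).comp (phi V S T hS (j + 1))
    rw [← LinearMap.comp_assoc, SN_conj j, LinearMap.comp_assoc, phi_comp_S, LinearMap.comp_assoc,
      S_comp_phi V S T hS hcomm]

include hcomm in
theorem SN_comp_T (j : ℕ) : (SN V S j).comp (T j) = (phi V S T hS 0).comp (SN V S (j + 1)) := by
  change _ = (phi V S T hS 0).comp ((SN V S j).comp (S j))
  rw [← LinearMap.comp_assoc, SN_conj V S T hS hcomm j, LinearMap.comp_assoc, phi_comp_S]

include hcomm in
theorem horner_eq : ∀ cs : List k,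
    horner V S T cs = (aeval (phi V S T hS 0) (hpoly cs)).comp (SN V S cs.length)
  | [] => by
    change LinearMap.id = (aeval (phi V S T hS 0) (1 : k[X])).comp LinearMap.id
    rw [map_one]
    rfl
  | c :: cs => by
    change (horner V S T cs).comp (T cs.length) + c • SN V S (cs.length + 1) =
      (aeval (phi V S T hS 0) (X * hpoly cs + C c)).comp (SN V S (cs.length + 1))
    rw [horner_eq cs, LinearMap.comp_assoc, SN_comp_T V S T hS hcomm, ← LinearMap.comp_assoc]
    rw [map_add, map_mul, aeval_X, aeval_C]
    have hc : (aeval (phi V S T hS 0) (hpoly cs)).comp (phi V S T hS 0) =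
        (phi V S T hS 0) * (aeval (phi V S T hS 0) (hpoly cs)) := by
      change (aeval (phi V S T hS 0) (hpoly cs)) * (phi V S T hS 0) = _
      have h1 : aeval (phi V S T hS 0) (hpoly cs * X) = aeval (phi V S T hS 0) (X * hpoly cs) := by
        rw [mul_comm]
      rwa [map_mul, map_mul, aeval_X] at h1
    rw [hc]
    ext x
    simp [Algebra.algebraMap_eq_smul_one]

include hcomm in
/-- **Cayley–Hamilton along a chain** -/
theorem horner_charpoly_eq_zero [Module.Finite k (V 0)] :
    horner V S T (coeffList (phi V S T hS 0).charpoly (Module.finrank k (V 0))) = 0 := by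
  rw [horner_eq V S T hS hcomm, hpoly_coeffList _ _ (LinearMap.charpoly_monic _)
    (LinearMap.charpoly_natDegree _), LinearMap.aeval_self_charpoly, LinearMap.zero_comp]

end Chain

section Conj
variable {k : Type*} [Field k] {W W' U U' : Type*} [AddCommGroup W] [Module k W] [AddCommGroup W']
  [Module k W'] [AddCommGroup U] [Module k U] [AddCommGroup U'] [Module k U']
  [Module.Finite k W] [Module.Finite k W']

theorem charpoly_eq_of_conj (S T : U →ₗ[k] W) (S' T' : U' →ₗ[k] W') (R : W' →ₗ[k] W) (R' : U' →ₗ[k] U)
    (hS : Function.Bijective S) (hS' : Function.Bijective S') (hR : Function.Bijective R)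
    (h1 : R.comp S' = S.comp R') (h2 : R.comp T' = T.comp R') :
    (T'.comp (LinearEquiv.ofBijective S' hS').symm.toLinearMap).charpoly =
      (T.comp (LinearEquiv.ofBijective S hS).symm.toLinearMap).charpoly := by
  set eR := LinearEquiv.ofBijective R hR
  rw [← eR.charpoly_conj]
  congr 1
  ext w
  simp only [LinearEquiv.conj_apply, LinearMap.comp_apply, LinearEquiv.coe_coe]
  obtain ⟨w', rfl⟩ := hR.2 w
  obtain ⟨u', rfl⟩ := hS'.2 w'
  have e1 : eR.symm (R (S' u')) = S' u' := eR.symm_apply_apply _
  have e2 : (LinearEquiv.ofBijective S' hS').symm (S' u') = u' :=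
    (LinearEquiv.ofBijective S' hS').symm_apply_apply u'
  have e3 : R (S' u') = S (R' u') := LinearMap.congr_fun h1 u'
  have e4 : (LinearEquiv.ofBijective S hS).symm (S (R' u')) = R' u' :=
    (LinearEquiv.ofBijective S hS).symm_apply_apply _
  rw [e1, e2, e3, e4]
  exact LinearMap.congr_fun h2 u'

end Conj

end Groth.Agent.Lib.Helper4.H1NegLA
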