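import Groth.Agent.Lib.Helper4H1NegA
import Groth.Agent.Lib.Helper4H1NegLA
import Groth.Agent.Lib.Helper4CurveSimple
import Groth.Agent.Lib.Helper4DevE

/-!
# The Horner combination of two multiplications on a tower and its stalks (helper4; S7680)
-/

set_option autoImplicit false
set_option linter.unusedSectionVars false
set_option linter.style.haveILetI false
set_option backward.isDefEq.respectTransparency.types false
universe u
open CategoryTheory CategoryTheory.Limits AlgebraicGeometry TopologicalSpace Opposite TensorProduct MonoidalCategory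

namespace Groth.Agent.Lib.Helper4.H1Neg

open Groth.Agent.Lib.Helper4.NegTwist Groth.Agent.Lib.Helper4.Dev Groth.Agent.Lib.Helper4.KTensor
  Groth.Agent.Lib.Helper23.ResProp

section LA

variable {R : Type*} [CommRing R] [IsLocalRing R] {M M' : Type*} [AddCommGroup M] [Module R M]
  [AddCommGroup M'] [Module R M'] [Module.Finite R M]

/-- a bijective linear map plus a map into `𝔪 M'` is bijective (Nakayama) -/
theorem bijective_add_of_intoPow (β ν : M →ₗ[R] M') (hβ : Function.Bijective β)
    (hν : IntoPow (IsLocalRing.maximalIdeal R) 1 ν) : Function.Bijective (β + ν) := by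
  set e := LinearEquiv.ofBijective β hβ with he
  set ν' : M →ₗ[R] M := e.symm.toLinearMap.comp ν with hν'
  have hν'm : IntoPow (IsLocalRing.maximalIdeal R) 1 ν' := hν.of_equiv_right _ _
  set γ : M →ₗ[R] M := LinearMap.id + ν' with hγ
  have hsurj : Function.Surjective γ := by
    rw [← LinearMap.range_eq_top, eq_top_iff]
    apply Submodule.le_of_le_smul_of_le_jacobson_bot (I := IsLocalRing.maximalIdeal R)
      (Module.Finite.fg_top)
    · exact IsLocalRing.maximalIdeal_le_jacobson _
    · intro a _
      have h1 : a = γ a - ν' a := by simp [hγ]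
      rw [h1]
      refine Submodule.sub_mem _ (Submodule.mem_sup_left ⟨a, rfl⟩) (Submodule.mem_sup_right ?_)
      have := hν'm a
      rwa [pow_one] at this
  have hbij : Function.Bijective γ :=
    ⟨OrzechProperty.injective_of_surjective_endomorphism γ hsurj, hsurj⟩
  have hcomp : ⇑(β + ν) = ⇑e ∘ ⇑γ := by
    funext a
    simp [hγ, hν', he]
  rw [hcomp]
  exact e.bijective.comp hbij

theorem IntoPow.mono_one {I : Ideal R} {n : ℕ} (hn : 1 ≤ n) {g : M →ₗ[R] M'} (hg : IntoPow I n g) :
    IntoPow I 1 g := by
  intro a
  have h := hg a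
  have hle : I ^ n ≤ I ^ 1 := Ideal.pow_le_pow_right hn
  exact Submodule.smul_mono_left hle h

theorem IntoPow.smul_left' {I : Ideal R} {n : ℕ} {g : M →ₗ[R] M'} (hg : IntoPow I n g) {M'' : Type*}
    [AddCommGroup M''] [Module R M''] (h : M'' →ₗ[R] M) : IntoPow I n (g.comp h) := fun z => hg (h z)

end LA

variable {X : Scheme.{u}} (k : Type u) [Field k] [X.Over (Spec (CommRingCat.of k))]
  (P D : X.Modules) (e : CohB1.tensorMod P D ≅ Coh.structureModule X)
  (s t : Coh.structureModule X ⟶ P) (F : X.Modules)

/-- the Horner combination `t^d + c_{d-1} t^{d-1} s + ⋯ + c_0 s^d : F ⊗ D^d ⟶ F` -/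
noncomputable def polyMap : (cs : List k) → (tower F D cs.length ⟶ F)
  | [] => 𝟙 F
  | c :: cs => aMap P D t e F cs.length ≫ polyMap cs + c • aN P D s e F (cs.length + 1)

theorem polyMap_cons (c : k) (cs : List k) :
    polyMap k P D e s t F (c :: cs) =
      aMap P D t e F cs.length ≫ polyMap k P D e s t F cs + c • aN P D s e F (cs.length + 1) := rfl

theorem bijective_stalkL_aMap (x : X) (hx : x ∈ CohB1.genLocus P t) :
    ∀ i, Function.Bijective (stalkL (aMap P D t e F i) x)
  | 0 => bijective_stalkL_nuApp P D t e F x hx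
  | i + 1 => bijective_stalkL_tmapR _ D x (bijective_stalkL_aMap x hx i)

theorem stalkL_smul {A B : X.Modules} (c : k) (φ : A ⟶ B) (x : X) :
    stalkL (c • φ) x = (stalkL φ x).comp (stalkL (Formal.smulMod k A c) x) := by
  rw [KLin.smul_def, stalkL_comp]

/-- at a point where `s` vanishes and `t` does not, the Horner combination is bijective on stalks -/
theorem bijective_stalkL_polyMap [IsLocallyNoetherian X] (hP : PicF.IsInvertible P) (hcoh : ∀ i, Coh.IsCoh (tower F D i))
    (x : X) (hs : x ∉ CohB1.genLocus P s)
    (ht : x ∈ CohB1.genLocus P t) :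
    ∀ cs : List k, Function.Bijective (stalkL (polyMap k P D e s t F cs) x)
  | [] => by
    change Function.Bijective (stalkL (𝟙 F) x)
    rw [stalkL_id]
    exact Function.bijective_id
  | c :: cs => by
    rw [polyMap_cons, stalkL_add]
    haveI : Module.Finite (X.presheaf.stalk x) ((tower F D (cs.length + 1)).presheaf.stalk x) :=
      Groth.Agent.Lib.Helper28.HomSh.finite_stalk_of_isCoh _ (hcoh _) x
    apply bijective_add_of_intoPow
    · exact bijective_stalkL_comp _ _ x (bijective_stalkL_aMap P D e t F x ht cs.length)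
        (bijective_stalkL_polyMap hP hcoh x hs ht cs)
    · rw [stalkL_smul]
      apply IntoPow.smul_left'
      exact IntoPow.mono_one (Nat.succ_pos _) (intoPow_stalkL_aN P D s e F hP x hs (cs.length + 1))


/-- the Horner combination is a monomorphism, if every associated point of `F` specializes to a point where `s`
vanishes and `t` does not -/
theorem mono_polyMap [IsLocallyNoetherian X] (hP : PicF.IsInvertible P) (hD : PicF.IsInvertible D)
    (hF : Coh.IsCoh F)
    (hz : ∀ q, Curv2.IsAssPoint F q → ∃ z, q ⤳ z ∧ z ∉ CohB1.genLocus P s ∧ z ∈ CohB1.genLocus P t)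
    (cs : List k) : Mono (polyMap k P D e s t F cs) := by
  have hcoh := isCoh_tower F D hF hD
  have hK : Coh.IsCoh (kernel (polyMap k P D e s t F cs)) := isCoh_kernel _ (hcoh _) hF
  apply Preadditive.mono_of_isZero_kernel
  apply Groth.Agent.Lib.Helper23.ModLocal.isZero_of_forall_eq_zero
  intro U σ
  by_contra hne
  haveI : (kernel (polyMap k P D e s t F cs)).IsQuasicoherent := hK.1
  obtain ⟨y, hy, hass, hgerm⟩ :=
    Groth.Agent.Lib.Helper2.Ass.exists_isWeakAssPoint_of_ne_zero_open _ U σ hne
  have hassK : Curv2.IsAssPoint (kernel (polyMap k P D e s t F cs)) y :=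
    (Groth.Agent.Lib.Helper2.Ass.isAssPoint_iff_isWeakAssPoint _ y).2 hass
  have hassA : Curv2.IsAssPoint (tower F D cs.length) y :=
    Groth.Agent.Lib.Helper12.Snap.isAssPoint_of_mono (kernel.ι _) y hassK
  have hassF := (isAssPoint_tower_iff F D hD y _).1 hassA
  obtain ⟨z, hyz, hzs, hzt⟩ := hz y hassF
  have hKz : Subsingleton ((kernel (polyMap k P D e s t F cs)).presheaf.stalk z) :=
    subsingleton_stalk_kernel_of_injective _ z
      (bijective_stalkL_polyMap k P D e s t F hP hcoh z hzs hzt cs).1
  have hzsupp : z ∉ CohB1.support (kernel (polyMap k P D e s t F cs)) := fun h => h hKz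
  have hysupp : y ∉ CohB1.support (kernel (polyMap k P D e s t F cs)) := fun h =>
    hzsupp ((isClosed_support _ hK).closure_subset_iff.2 (Set.singleton_subset_iff.2 h)
      (specializes_iff_mem_closure.1 hyz))
  have hsub : Subsingleton ((kernel (polyMap k P D e s t F cs)).presheaf.stalk y) := not_not.1 hysupp
  exact hgerm (Subsingleton.elim _ _)

end Groth.Agent.Lib.Helper4.H1Neg
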