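import Groth.Agent.Lib.Helper4H1NegB
import Groth.Agent.Lib.Helper28Depth
import Groth.Agent.Lib.Helper20ZClos8
import Groth.Agent.Lib.Helper20RegMero

/-!
# Depth of the stalks of a tower and of a cokernel (helper4; S7680)
-/

set_option autoImplicit false
set_option linter.unusedSectionVars false
set_option linter.style.haveILetI false
set_option backward.isDefEq.respectTransparency.types false
universe u
open CategoryTheory CategoryTheory.Limits AlgebraicGeometry TopologicalSpace Opposite TensorProduct MonoidalCategory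

namespace Groth.Agent.Lib.Helper4.H1Neg

open Groth.Agent.Lib.Helper4.NegTwist Groth.Agent.Lib.Helper4.Dev Groth.Agent.Lib.Helper4.KTensor
  Groth.Agent.Lib.Helper23.ResProp

variable {X : Scheme.{u}}

/-- `(B ⊗ D)_x ≃ B_x` for an invertible `D` -/
theorem nonempty_stalk_tensor_invertible_equiv (B D : X.Modules) (hD : PicF.IsInvertible D) (x : X) :
    Nonempty ((CohB1.tensorMod B D).presheaf.stalk x ≃ₗ[X.presheaf.stalk x] B.presheaf.stalk x) := by
  obtain ⟨g, hg⟩ := Groth.Agent.Lib.Helper20.RegMero.exists_isGen D hD x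
  let eD : X.presheaf.stalk x ≃ₗ[X.presheaf.stalk x] D.presheaf.stalk x :=
    LinearEquiv.ofBijective (LinearMap.toSpanSingleton _ _ g) hg
  let e1 := stalkTensorEquiv B D x
  let e2 := TensorProduct.congr (LinearEquiv.refl (X.presheaf.stalk x) (B.presheaf.stalk x)) eD.symm
  let e3 := TensorProduct.rid (X.presheaf.stalk x) (B.presheaf.stalk x)
  exact ⟨e1 ≪≫ₗ e2 ≪≫ₗ e3⟩

theorem depth_tensor_invertible (B D : X.Modules) (hD : PicF.IsInvertible D) (x : X) :
    LocCoh.depth (X.presheaf.stalk x) ((CohB1.tensorMod B D).presheaf.stalk x) =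
      LocCoh.depth (X.presheaf.stalk x) (B.presheaf.stalk x) := by
  obtain ⟨e⟩ := nonempty_stalk_tensor_invertible_equiv B D hD x
  exact Groth.Agent.Lib.Helper28.idealDepth_congr e _

theorem depth_tower (F D : X.Modules) (hD : PicF.IsInvertible D) (x : X) :
    ∀ i, LocCoh.depth (X.presheaf.stalk x) ((tower F D i).presheaf.stalk x) =
      LocCoh.depth (X.presheaf.stalk x) (F.presheaf.stalk x)
  | 0 => rfl
  | i + 1 => (depth_tensor_invertible (tower F D i) D hD x).trans (depth_tower F D hD x i)

/-- the cokernel of a monomorphism between coherent modules of depth `≥ 2` at `x` has depth `≥ 1` at `x` -/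
theorem not_isAssPoint_cokernel [IsLocallyNoetherian X] {A B : X.Modules} (φ : A ⟶ B) [Mono φ]
    (hA : Coh.IsCoh A) (hB : Coh.IsCoh B) (x : X)
    (hdA : 2 ≤ LocCoh.depth (X.presheaf.stalk x) (A.presheaf.stalk x))
    (hdB : 2 ≤ LocCoh.depth (X.presheaf.stalk x) (B.presheaf.stalk x)) :
    ¬ Curv2.IsAssPoint (cokernel φ) x := by
  have hC : Coh.IsCoh (cokernel φ) := isCoh_cokernel φ hA hB
  haveI : Module.Finite (X.presheaf.stalk x) (A.presheaf.stalk x) :=
    Groth.Agent.Lib.Helper28.HomSh.finite_stalk_of_isCoh _ hA x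
  haveI : Module.Finite (X.presheaf.stalk x) (B.presheaf.stalk x) :=
    Groth.Agent.Lib.Helper28.HomSh.finite_stalk_of_isCoh _ hB x
  haveI : Module.Finite (X.presheaf.stalk x) ((cokernel φ).presheaf.stalk x) :=
    Groth.Agent.Lib.Helper28.HomSh.finite_stalk_of_isCoh _ hC x
  haveI : IsNoetherianRing (X.presheaf.stalk x) := inferInstance
  have hex := stalkL_exact (sesOfMono φ) (sesOfMono_shortExact φ) x
  have hinj : Function.Injective (stalkL φ x) := stalkL_injective_of_mono φ x
  have hsurj : Function.Surjective (stalkL (cokernel.π φ) x) := stalkL_surjective_of_epi _ x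
  have hmin := Groth.Agent.Lib.Helper28.min_idealDepth_le_right
    (IsLocalRing.maximalIdeal (X.presheaf.stalk x)) (stalkL φ x) (stalkL (cokernel.π φ) x) hinj hsurj hex
  intro hass
  haveI : (cokernel φ).IsQuasicoherent := hC.1
  have h0 : LocCoh.depth (X.presheaf.stalk x) ((cokernel φ).presheaf.stalk x) = 0 :=
    (@Groth.Agent.Lib.Helper20.ZClosLib.depth_eq_zero_iff_isAssPoint X _ (cokernel φ) hC.1 hC.2 x).2 hass
  have h1 : (1 : ℕ∞) ≤ min (LocCoh.depth (X.presheaf.stalk x) (B.presheaf.stalk x))
      (LocCoh.depth (X.presheaf.stalk x) (A.presheaf.stalk x) - 1) := by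
    have h12 : (1 : ℕ∞) + 1 = 2 := one_add_one_eq_two
    refine le_min (le_trans (by rw [← h12]; exact le_self_add) hdB) ?_
    exact ENat.le_sub_of_add_le_right ENat.one_ne_top (by rw [h12]; exact hdA)
  have h2 : (1 : ℕ∞) ≤ LocCoh.depth (X.presheaf.stalk x) ((cokernel φ).presheaf.stalk x) :=
    h1.trans hmin
  rw [h0] at h2
  exact absurd h2 (by norm_num)

end Groth.Agent.Lib.Helper4.H1Neg
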