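import Groth.Agent.Lib.Helper4H1NegC
import Groth.Agent.Lib.Helper27LesLin
import Groth.Agent.Lib.Helper4CurveChi

/-!
# The operators on `H¹` of a tower (helper4; S7680)
-/

set_option autoImplicit false
set_option linter.unusedSectionVars false
set_option linter.style.haveILetI false
set_option backward.isDefEq.respectTransparency.types false
universe u
open CategoryTheory CategoryTheory.Limits AlgebraicGeometry TopologicalSpace Opposite TensorProduct MonoidalCategory

namespace Groth.Agent.Lib.Helper4.H1Neg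

open Groth.Agent.Lib.Helper4.NegTwist Groth.Agent.Lib.Helper4.Dev Groth.Agent.Lib.Helper4.KTensor
  Groth.Agent.Lib.Helper23.ResProp Groth.Agent.Lib.Helper4.H1NegLA

variable (k : Type u) [Field k] {X : Scheme.{u}} [X.Over (Spec (CommRingCat.of k))]

theorem HHlin_comp' {M N Q : X.Modules} (φ : M ⟶ N) (ψ : N ⟶ Q) (i : ℕ) :
    Canon.HHlin k (φ ≫ ψ) i = (Canon.HHlin k ψ i).comp (Canon.HHlin k φ i) :=
  LinearMap.ext fun x => Groth.Agent.Lib.Helper4.CurveChi.HHlin_comp k φ ψ i x

theorem HHlin_id' (M : X.Modules) (i : ℕ) : Canon.HHlin k (𝟙 M) i = LinearMap.id :=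
  LinearMap.ext fun x => Groth.Agent.Lib.Helper4.CurveChi.HHlin_id k M i x

theorem injective_HHlin_one_of_subsingleton (S : ShortComplex X.Modules) (hS : S.ShortExact)
    (h : Subsingleton (Coh.HH X S.X₃ 0)) : Function.Injective (Canon.HHlin k S.f 1) :=
  Groth.Agent.Lib.Helper27LesLin.injective_HHlin_f_of_delta_zero k S hS 0
    (fun y => by rw [Subsingleton.elim y 0, map_zero])

variable (P D : X.Modules) (e : CohB1.tensorMod P D ≅ Coh.structureModule X)
  (s t : Coh.structureModule X ⟶ P) (F : X.Modules)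

/-- `H¹` of the tower at the index `m + i` -/
abbrev VV (i m : ℕ) : Type u := Coh.HH X (tower F D (m + i)) 1

/-- multiplication by `s` on `H¹`, at level `i` -/
noncomputable def Sop (i m : ℕ) : VV D F i (m + 1) →ₗ[k] VV D F i m :=
  Canon.HHlin k (lift D (aMap P D s e F m) i) 1

theorem HHlin_lift_aN (i : ℕ) : ∀ j,
    Canon.HHlin k (lift D (A := F) (B := F) (a := j) (b := 0) (aN P D s e F j) i) 1 =
      SN (VV D F i) (Sop k P D e s F i) j
  | 0 => by
    change Canon.HHlin k (lift D (𝟙 (tower F D 0)) i) 1 = LinearMap.id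
    rw [lift_id]
    exact HHlin_id' k _ 1
  | j + 1 => by
    let w1 : tower F D (j + 1) ⟶ tower F D j := aMap P D s e F j
    let w2 : tower F D j ⟶ tower F D 0 := aN P D s e F j
    change Canon.HHlin k (lift D (w1 ≫ w2) i) 1 = (SN (VV D F i) (Sop k P D e s F i) j).comp
        (Sop k P D e s F i j)
    rw [lift_comp, HHlin_comp']
    have h2 : Canon.HHlin k (lift D w2 i) 1 = SN (VV D F i) (Sop k P D e s F i) j := HHlin_lift_aN i j
    rw [h2]
    rfl

theorem HHlin_lift_polyMap (i : ℕ) : ∀ cs : List k,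
    Canon.HHlin k (lift D (A := F) (B := F) (a := cs.length) (b := 0) (polyMap k P D e s t F cs) i) 1 =
      horner (VV D F i) (Sop k P D e s F i) (Sop k P D e t F i) cs
  | [] => by
    change Canon.HHlin k (lift D (𝟙 (tower F D 0)) i) 1 = LinearMap.id
    rw [lift_id]
    exact HHlin_id' k _ 1
  | c :: cs => by
    let w1 : tower F D (cs.length + 1) ⟶ tower F D cs.length := aMap P D t e F cs.length
    let w2 : tower F D cs.length ⟶ tower F D 0 := polyMap k P D e s t F cs
    let w3 : tower F D (cs.length + 1) ⟶ tower F D 0 := aN P D s e F (cs.length + 1)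
    have h1 : lift D (w1 ≫ w2 + c • w3) i = lift D w1 i ≫ lift D w2 i + c • lift D w3 i := by
      rw [lift_add, lift_comp, lift_smul D k]
    change Canon.HHlin k (lift D (w1 ≫ w2 + c • w3) i) 1 =
        (horner (VV D F i) (Sop k P D e s F i) (Sop k P D e t F i) cs).comp (Sop k P D e t F i cs.length) +
          c • SN (VV D F i) (Sop k P D e s F i) (cs.length + 1)
    rw [h1, Groth.Agent.Lib.Helper4.CurveAsym.HHlin_add, Groth.Agent.Lib.Helper4.CurveAsym.HHlin_smul,
      HHlin_comp']
    have h2 : Canon.HHlin k (lift D w2 i) 1 =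
        horner (VV D F i) (Sop k P D e s F i) (Sop k P D e t F i) cs := HHlin_lift_polyMap i cs
    have h3 : Canon.HHlin k (lift D w3 i) 1 = SN (VV D F i) (Sop k P D e s F i) (cs.length + 1) :=
      HHlin_lift_aN k P D e s F i (cs.length + 1)
    rw [h2, h3]
    rfl


theorem Sop_comm [Mono (nuApp P D t e F)] (i m : ℕ) :
    (Sop k P D e t F i m).comp (Sop k P D e s F i (m + 1)) =
      (Sop k P D e s F i m).comp (Sop k P D e t F i (m + 1)) := by
  unfold Sop
  rw [← HHlin_comp', ← HHlin_comp', ← lift_comp, ← lift_comp, aMap_comm D P e s t F m]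

theorem injective_Sop (hD : PicF.IsInvertible D) [Mono (nuApp P D s e F)] (i m : ℕ)
    (h : Subsingleton (Coh.HH X (tower (C0 P D s e F) D (m + i)) 0)) :
    Function.Injective (Sop k P D e s F i m) :=
  injective_HHlin_one_of_subsingleton k
    (liftSC D (aMap P D s e F m) (piMap P D s e F m) (aMap_piMap P D s e F m) i)
    (liftSC_shortExact D hD _ _ _ (ses_shortExact P D s e F hD m) i) h

/-- the relation between the operators at the levels `i + 1` and `i` -/
theorem Sop_cross (τ : Coh.structureModule X ⟶ P)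
    (hms : ∀ i, Mono (nuApp P D s e (tower F D i))) (i : ℕ) :
    (Sop k P D e s F 0 (0 + i)).comp (Sop k P D e τ F (i + 1) 0) =
      (Sop k P D e τ F i 0).comp (Sop k P D e s F 0 ((0 + 1) + i)) := by
  unfold Sop
  rw [← HHlin_comp', ← HHlin_comp']
  congr 1
  change lift D (aMap P D τ e F 0) (i + 1) ≫ aMap P D s e F (0 + i) =
    aMap P D s e F ((0 + 1) + i) ≫ lift D (aMap P D τ e F 0) i
  rw [aMap_eq_nuApp D P e s F hms (0 + i), aMap_eq_nuApp D P e s F hms ((0 + 1) + i)]
  exact lift_succ_nuApp D P e s (aMap P D τ e F 0) i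

end Groth.Agent.Lib.Helper4.H1Neg
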