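import Groth.Agent.Lib.Helper4H1NegD
import Groth.Agent.S0002

/-!
# `H¹(F ⊗ D^n) = 0` for `n ≫ 0` when `F` has depth `≥ 2` at the closed points: the core (helper4; S7680)
-/

set_option autoImplicit false
set_option linter.unusedSectionVars false
set_option linter.style.haveILetI false
set_option backward.isDefEq.respectTransparency.types false
universe u
open CategoryTheory CategoryTheory.Limits AlgebraicGeometry TopologicalSpace Opposite TensorProduct MonoidalCategory

namespace Groth.Agent.Lib.Helper4.H1Neg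

open Groth.Agent.Lib.Helper4.NegTwist Groth.Agent.Lib.Helper4.Dev Groth.Agent.Lib.Helper4.KTensor
  Groth.Agent.Lib.Helper23.ResProp Groth.Agent.Lib.Helper4.H1NegLA

theorem exists_stable (d : ℕ → ℕ) (n0 : ℕ) (hd : ∀ j, n0 ≤ j → d (j + 1) ≤ d j) :
    ∃ j1, n0 ≤ j1 ∧ ∀ j, j1 ≤ j → d j = d j1 := by
  let d' : ℕ → ℕ := fun j => d (n0 + j)
  have hanti : Antitone d' := antitone_nat_of_succ_le (fun j => hd (n0 + j) (Nat.le_add_right _ _))
  obtain ⟨_, ⟨j0, rfl⟩, hmin⟩ := WellFounded.has_min Nat.lt_wfRel.wf (Set.range d') ⟨d' 0, 0, rfl⟩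
  refine ⟨n0 + j0, Nat.le_add_right _ _, fun j hj => ?_⟩
  obtain ⟨r, rfl⟩ := Nat.exists_eq_add_of_le (show n0 ≤ j by omega)
  exact le_antisymm (hanti (by omega)) (not_lt.1 (hmin _ ⟨r, rfl⟩))

variable (k : Type u) [Field k] (X : Scheme.{u}) [X.Over (Spec (CommRingCat.of k))]
  [IsProper (X ↘ (Spec (CommRingCat.of k)))]
  (P D : X.Modules) (hP : PicF.IsInvertible P) (hD : PicF.IsInvertible D)
  (e : CohB1.tensorMod P D ≅ Coh.structureModule X)
  (s t : Coh.structureModule X ⟶ P) (F : X.Modules) (hF : Coh.IsCoh F)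

include k hP hD e hF in
theorem core
    (hdepth : ∀ x : X, IsClosed ({x} : Set X) →
      2 ≤ LocCoh.depth (X.presheaf.stalk x) (F.presheaf.stalk x))
    (hs : ∀ q, Curv2.IsAssPoint F q → q ∈ CohB1.genLocus P s)
    (hz : ∀ q, Curv2.IsAssPoint F q → ∃ z, q ⤳ z ∧ z ∉ CohB1.genLocus P s ∧ z ∈ CohB1.genLocus P t)
    (H0 : ∀ C : X.Modules, Coh.IsCoh C → (∀ x : X, IsClosed ({x} : Set X) → ¬ Curv2.IsAssPoint C x) →
      ∃ n₀ : ℕ, ∀ n, n₀ ≤ n → Subsingleton (Coh.HH X (tower C D n) 0)) :
    ∃ n₀ : ℕ, ∀ n, n₀ ≤ n → Subsingleton (Coh.HH X (tower F D n) 1) := by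
  haveI : IsNoetherian X := Groth.Agent.Lib.Helper4.CurveRR.isNoetherian_of_proper k X
  have hcoh := isCoh_tower F D hF hD
  haveI hfin : ∀ j, Module.Finite k (Coh.HH X (tower F D j) 1) :=
    fun j => Groth.Agent.S0002.result k X _ (hcoh j) 1
  have ht : ∀ q, Curv2.IsAssPoint F q → q ∈ CohB1.genLocus P t := fun q hq => by
    obtain ⟨z, hqz, -, hzt⟩ := hz q hq
    exact hqz.mem_open (CohB1.genLocus P t).2 hzt
  have hmono : ∀ (σ : Coh.structureModule X ⟶ P)
      (_ : ∀ q, Curv2.IsAssPoint F q → q ∈ CohB1.genLocus P σ) (i : ℕ),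
      Mono (nuApp P D σ e (tower F D i)) := fun σ hσ i =>
    mono_nuApp X P D hD e σ (tower F D i) (hcoh i)
      (fun x hx => hσ x ((isAssPoint_tower_iff F D hD x i).1 hx))
  have hms := hmono s hs
  have hmt := hmono t ht
  haveI : Mono (nuApp P D s e F) := hms 0
  haveI : Mono (nuApp P D t e F) := hmt 0
  have hdT : ∀ (i : ℕ) (x : X), IsClosed ({x} : Set X) →
      2 ≤ LocCoh.depth (X.presheaf.stalk x) ((tower F D i).presheaf.stalk x) := fun i x hx => by
    rw [depth_tower F D hD x i]
    exact hdepth x hx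
  -- the cokernel of the multiplication by `s`
  have hC0 : Coh.IsCoh (C0 P D s e F) := isCoh_cokernel _ (hcoh 1) hF
  obtain ⟨n0, hn0⟩ := H0 (C0 P D s e F) hC0 (fun x hx =>
    not_isAssPoint_cokernel (nuApp P D s e F) (hcoh 1) hF x (hdT 1 x hx) (hdepth x hx))
  have hinjS : ∀ i m, n0 ≤ m + i → Function.Injective (Sop k P D e s F i m) := fun i m h =>
    injective_Sop k P D e s F hD i m (hn0 _ h)
  -- dimensions
  let d : ℕ → ℕ := fun j => Module.finrank k (Coh.HH X (tower F D j) 1)
  have hd : ∀ j, n0 ≤ j → d (j + 1) ≤ d j := fun j hj =>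
    LinearMap.finrank_le_finrank_of_injective (hinjS 0 j hj)
  obtain ⟨j1, hj1, hstab⟩ := exists_stable d n0 hd
  have hbij : ∀ i m, j1 ≤ m + i → Function.Bijective (Sop k P D e s F i m) := by
    intro i m h
    have hinj := hinjS i m (hj1.trans h)
    have heq : Module.finrank k (VV D F i (m + 1)) = Module.finrank k (VV D F i m) := by
      change d (m + 1 + i) = d (m + i)
      rw [hstab (m + 1 + i) (by omega), hstab (m + i) h]
    exact ⟨hinj, (LinearMap.injective_iff_surjective_of_finrank_eq_finrank heq).1 hinj⟩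
  have hcomm : ∀ i m, (Sop k P D e t F i m).comp (Sop k P D e s F i (m + 1)) =
      (Sop k P D e s F i m).comp (Sop k P D e t F i (m + 1)) := fun i m => Sop_comm k P D e s t F i m
  have hS : ∀ i, j1 ≤ i → ∀ m, Function.Bijective (Sop k P D e s F i m) := fun i hi m =>
    hbij i m (by omega)
  -- the characteristic polynomial does not depend on the level
  have hstep : ∀ i (hi : j1 ≤ i),
      (phi (VV D F (i + 1)) (Sop k P D e s F (i + 1)) (Sop k P D e t F (i + 1))
        (hS (i + 1) (by omega)) 0).charpoly =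
      (phi (VV D F i) (Sop k P D e s F i) (Sop k P D e t F i) (hS i hi) 0).charpoly := by
    intro i hi
    exact charpoly_eq_of_conj (Sop k P D e s F i 0) (Sop k P D e t F i 0)
      (Sop k P D e s F (i + 1) 0) (Sop k P D e t F (i + 1) 0)
      (Sop k P D e s F 0 (0 + i)) (Sop k P D e s F 0 ((0 + 1) + i))
      (hS i hi 0) (hS (i + 1) (by omega) 0) (hbij 0 (0 + i) (by omega))
      (Sop_cross k P D e s F s hms i) (Sop_cross k P D e s F t hms i)
  have hχ : ∀ i (hi : j1 ≤ i),
      (phi (VV D F i) (Sop k P D e s F i) (Sop k P D e t F i) (hS i hi) 0).charpoly =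
      (phi (VV D F j1) (Sop k P D e s F j1) (Sop k P D e t F j1) (hS j1 le_rfl) 0).charpoly := by
    intro i hi
    induction i, hi using Nat.le_induction with
    | base => rfl
    | succ i hi ih => exact (hstep i hi).trans ih
  -- the Horner combination
  set χ := (phi (VV D F j1) (Sop k P D e s F j1) (Sop k P D e t F j1) (hS j1 le_rfl) 0).charpoly with hχdef
  set cs := coeffList χ (d j1) with hcs
  haveI hmonoU : Mono (polyMap k P D e s t F cs) := mono_polyMap k P D e s t F hP hD hF hz cs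
  have hCu : Coh.IsCoh (cokernel (polyMap k P D e s t F cs)) := isCoh_cokernel _ (hcoh _) hF
  obtain ⟨n1, hn1⟩ := H0 (cokernel (polyMap k P D e s t F cs)) hCu (fun x hx =>
    not_isAssPoint_cokernel (polyMap k P D e s t F cs) (hcoh _) hF x (hdT _ x hx) (hdepth x hx))
  have hlen : cs.length = d j1 := length_coeffList χ (d j1)
  refine ⟨cs.length + max j1 n1, fun n hn => ?_⟩
  obtain ⟨i, rfl⟩ := Nat.exists_eq_add_of_le (show cs.length ≤ n by omega)
  have hi1 : j1 ≤ i := by omega
  have hi2 : n1 ≤ 0 + i := by omega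
  -- injectivity
  have hinjU : Function.Injective (Canon.HHlin k
      (lift D (A := F) (B := F) (a := cs.length) (b := 0) (polyMap k P D e s t F cs) i) 1) :=
    injective_HHlin_one_of_subsingleton k
      (liftSC D (A := F) (B := F) (C := cokernel (polyMap k P D e s t F cs)) (a := cs.length) (b := 0) (c := 0)
        (polyMap k P D e s t F cs) (cokernel.π _) (cokernel.condition _) i)
      (liftSC_shortExact D hD (A := F) (B := F) (C := cokernel (polyMap k P D e s t F cs))
        (a := cs.length) (b := 0) (c := 0) (polyMap k P D e s t F cs) (cokernel.π _) (cokernel.condition _)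
        (sesOfMono_shortExact (polyMap k P D e s t F cs)) i) (hn1 _ hi2)
  -- vanishing
  have hzero : horner (VV D F i) (Sop k P D e s F i) (Sop k P D e t F i) cs = 0 := by
    have h := horner_charpoly_eq_zero (VV D F i) (Sop k P D e s F i) (Sop k P D e t F i) (hS i hi1)
      (hcomm i)
    have hfr : Module.finrank k (VV D F i 0) = d j1 := by
      change d (0 + i) = d j1
      exact hstab (0 + i) (by omega)
    rw [hχ i hi1, hfr] at h
    exact h
  rw [← HHlin_lift_polyMap] at hzero
  refine ⟨fun a b => hinjU ?_⟩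
  rw [hzero]
  rfl

end Groth.Agent.Lib.Helper4.H1Neg
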