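import Mathlib

/-!
# Hilbert–Burch algebra for a plane and a quadric meeting along a line (helper4)

In a commutative ring `A` with elements `L1 L2 Mm Aa Bb Cc`, put `Q = Aa L1 + Bb L2 + Cc Mm` and
`Q' = Aa L1 + Bb L2`.  Under regularity hypotheses,
`(L1, L2) ∩ (Mm, Q) = (Mm L1, Mm L2, Q')` and the relations between these three generators are
freely generated by `(L2, -L1, 0)` and `(Aa, Bb, -Mm)`.
-/

set_option autoImplicit false
universe u

namespace Groth.Agent.Lib.Helper4.HBAlg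

variable {A : Type u} [CommRing A] (L1 L2 Mm Aa Bb Cc : A)

/-- the three generators. -/
def gens : Fin 3 → A := ![Mm * L1, Mm * L2, Aa * L1 + Bb * L2]

/-- the two relations. -/
def rels : Fin 2 → Fin 3 → A := ![![L2, -L1, 0], ![Aa, Bb, -Mm]]

theorem rels_gens (a : Fin 2) : ∑ j, rels L1 L2 Mm Aa Bb a j * gens L1 L2 Mm Aa Bb j = 0 := by
  fin_cases a
  · simp [rels, gens, Fin.sum_univ_three]; ring
  · simp [rels, gens, Fin.sum_univ_three]; ring

theorem inter_eq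
    (h2 : ∀ x, x * Mm ∈ Ideal.span {L1} ⊔ Ideal.span {L2} →
      x ∈ Ideal.span {L1} ⊔ Ideal.span {L2}) :
    (Ideal.span {L1} ⊔ Ideal.span {L2}) ⊓
        (Ideal.span {Mm} ⊔ Ideal.span {Aa * L1 + Bb * L2 + Cc * Mm}) =
      Ideal.span (Set.range (gens L1 L2 Mm Aa Bb)) := by
  have hL1 : L1 ∈ Ideal.span {L1} ⊔ Ideal.span {L2} :=
    Ideal.mem_sup_left (Ideal.mem_span_singleton_self _)
  have hL2 : L2 ∈ Ideal.span {L1} ⊔ Ideal.span {L2} :=
    Ideal.mem_sup_right (Ideal.mem_span_singleton_self _)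
  have hMm : Mm ∈ Ideal.span {Mm} ⊔ Ideal.span {Aa * L1 + Bb * L2 + Cc * Mm} :=
    Ideal.mem_sup_left (Ideal.mem_span_singleton_self _)
  have hQ : Aa * L1 + Bb * L2 + Cc * Mm ∈
      Ideal.span {Mm} ⊔ Ideal.span {Aa * L1 + Bb * L2 + Cc * Mm} :=
    Ideal.mem_sup_right (Ideal.mem_span_singleton_self _)
  have hQ'1 : Aa * L1 + Bb * L2 ∈ Ideal.span {L1} ⊔ Ideal.span {L2} :=
    Ideal.add_mem _ (Ideal.mul_mem_left _ _ hL1) (Ideal.mul_mem_left _ _ hL2)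
  have hQ'2 : Aa * L1 + Bb * L2 ∈
      Ideal.span {Mm} ⊔ Ideal.span {Aa * L1 + Bb * L2 + Cc * Mm} := by
    have h := Ideal.sub_mem _ hQ (Ideal.mul_mem_left _ Cc hMm)
    have e : (Aa * L1 + Bb * L2 + Cc * Mm) - Cc * Mm = Aa * L1 + Bb * L2 := by ring
    rwa [e] at h
  apply le_antisymm
  · rintro x ⟨hx1, hx2⟩
    obtain ⟨y, hy, z, hz, rfl⟩ := Submodule.mem_sup.mp hx2
    obtain ⟨α, rfl⟩ := Ideal.mem_span_singleton'.mp hy
    obtain ⟨β, rfl⟩ := Ideal.mem_span_singleton'.mp hz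
    have e1 : α * Mm + β * (Aa * L1 + Bb * L2 + Cc * Mm) =
        (α + β * Cc) * Mm + β * (Aa * L1 + Bb * L2) := by ring
    have h3 : (α + β * Cc) * Mm ∈ Ideal.span {L1} ⊔ Ideal.span {L2} := by
      have : (α + β * Cc) * Mm = (α * Mm + β * (Aa * L1 + Bb * L2 + Cc * Mm)) -
          β * (Aa * L1 + Bb * L2) := by ring
      rw [this]
      exact Ideal.sub_mem _ hx1 (Ideal.mul_mem_left _ _ hQ'1)
    obtain ⟨y', hy', z', hz', hyz⟩ := Submodule.mem_sup.mp (h2 _ h3)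
    obtain ⟨γ, rfl⟩ := Ideal.mem_span_singleton'.mp hy'
    obtain ⟨δ, rfl⟩ := Ideal.mem_span_singleton'.mp hz'
    have e2 : α * Mm + β * (Aa * L1 + Bb * L2 + Cc * Mm) =
        γ * gens L1 L2 Mm Aa Bb 0 + δ * gens L1 L2 Mm Aa Bb 1 + β * gens L1 L2 Mm Aa Bb 2 := by
      rw [e1, ← hyz]
      simp [gens]
      ring
    rw [e2]
    exact Ideal.add_mem _ (Ideal.add_mem _ (Ideal.mul_mem_left _ _ (Ideal.subset_span ⟨0, rfl⟩))
      (Ideal.mul_mem_left _ _ (Ideal.subset_span ⟨1, rfl⟩)))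
      (Ideal.mul_mem_left _ _ (Ideal.subset_span ⟨2, rfl⟩))
  · rw [Ideal.span_le]
    rintro _ ⟨j, rfl⟩
    fin_cases j
    · exact ⟨Ideal.mul_mem_left _ _ hL1, Ideal.mul_mem_right _ _ hMm⟩
    · exact ⟨Ideal.mul_mem_left _ _ hL2, Ideal.mul_mem_right _ _ hMm⟩
    · exact ⟨hQ'1, hQ'2⟩

theorem syz_exists
    (hL1 : ∀ x, x * L1 = 0 → x = 0) (hM : ∀ x, x * Mm = 0 → x = 0)
    (h1 : ∀ x, x * L2 ∈ Ideal.span {L1} → x ∈ Ideal.span {L1})
    (h3 : ∀ x, x * (Aa * L1 + Bb * L2 + Cc * Mm) ∈ Ideal.span {Mm} → x ∈ Ideal.span {Mm})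
    (c : Fin 3 → A) (hc : ∑ j, c j * gens L1 L2 Mm Aa Bb j = 0) :
    ∃ w : Fin 2 → A, ∀ j, c j = ∑ a, w a * rels L1 L2 Mm Aa Bb a j := by
  simp only [gens, Fin.sum_univ_three, Matrix.cons_val_zero, Matrix.cons_val_one,
    Matrix.cons_val] at hc
  -- `c 2 ∈ (Mm)`
  have h4 : c 2 * (Aa * L1 + Bb * L2 + Cc * Mm) ∈ Ideal.span {Mm} := by
    have : c 2 * (Aa * L1 + Bb * L2 + Cc * Mm) =
        (c 2 * Cc - (c 0 * L1 + c 1 * L2)) * Mm +
          (c 0 * (Mm * L1) + c 1 * (Mm * L2) + c 2 * (Aa * L1 + Bb * L2)) := by ring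
    rw [this, hc, add_zero]
    exact Ideal.mul_mem_left _ _ (Ideal.mem_span_singleton_self _)
  obtain ⟨w, hw⟩ := Ideal.mem_span_singleton'.mp (h3 _ h4)
  -- `v = -w`
  have h5 : (c 0 * L1 + c 1 * L2 + w * (Aa * L1 + Bb * L2)) * Mm = 0 := by
    rw [← hc, ← hw]; ring
  have h6 := hM _ h5
  have h7 : (c 1 + w * Bb) * L2 ∈ Ideal.span {L1} := by
    have : (c 1 + w * Bb) * L2 = -(c 0 + w * Aa) * L1 +
        (c 0 * L1 + c 1 * L2 + w * (Aa * L1 + Bb * L2)) := by ring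
    rw [this, h6, add_zero]
    exact Ideal.mul_mem_left _ _ (Ideal.mem_span_singleton_self _)
  obtain ⟨z, hz⟩ := Ideal.mem_span_singleton'.mp (h1 _ h7)
  have h8 : (c 0 + w * Aa + z * L2) * L1 = 0 := by
    have : (c 0 + w * Aa + z * L2) * L1 =
        (c 0 * L1 + c 1 * L2 + w * (Aa * L1 + Bb * L2)) + (z * L1 - (c 1 + w * Bb)) * L2 := by ring
    rw [this, h6, hz]; ring
  have h9 := hL1 _ h8
  refine ⟨![-z, -w], fun j => ?_⟩
  fin_cases j
  · simp only [rels, Fin.sum_univ_two, Matrix.cons_val_zero, Matrix.cons_val_one, Fin.zero_eta]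
    linear_combination h9
  · simp only [rels, Fin.sum_univ_two, Matrix.cons_val_zero, Matrix.cons_val_one, Fin.mk_one]
    linear_combination -hz
  · simp only [rels, Fin.sum_univ_two, Matrix.cons_val_zero, Matrix.cons_val_one,
      Fin.reduceFinMk, Matrix.cons_val]
    linear_combination -hw

theorem syz_unique
    (hL1 : ∀ x, x * L1 = 0 → x = 0) (hM : ∀ x, x * Mm = 0 → x = 0)
    (w : Fin 2 → A) (hw : ∀ j, ∑ a, w a * rels L1 L2 Mm Aa Bb a j = 0) : w = 0 := by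
  have h2 := hw 2
  have h1 := hw 1
  simp only [rels, Fin.sum_univ_two, Matrix.cons_val_zero, Matrix.cons_val_one,
    Matrix.cons_val] at h1 h2
  have hw1 : w 1 = 0 := hM _ (by linear_combination -h2)
  have hw0 : w 0 = 0 := hL1 _ (by rw [hw1] at h1; linear_combination -h1)
  funext a
  fin_cases a
  · exact hw0
  · exact hw1

end Groth.Agent.Lib.Helper4.HBAlg
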