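import Mathlib
import Groth.Agent.Lib.Helper28BigOpen
import Groth.Agent.Lib.Helper28Normal
import Groth.Agent.Lib.Helper20ZClos20
import Groth.Agent.Lib.Helper6CurveDeg
import Groth.Agent.Lib.Helper23AmpleIso
import Groth.Agent.Lib.Helper23TensorUnit

/-!
# Hartogs for invertible modules (helper4)

* `isReflexiveAt_of_isInvertible`, `isIso_unit_of_isInvertible`, `bijective_res_of_isInvertible`, `nonempty_iso_structureModule`:
  on a locally Noetherian scheme, if the local rings off an open `U` have depth `≥ 2` then for invertible `L` the unit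
  `L → j_* j^* L` is an isomorphism, `Γ(T, L) → Γ(U, L)` is bijective and `Pic(T) → Pic(U)` is injective.
-/

set_option autoImplicit false
set_option linter.style.haveILetI false
set_option linter.unusedSectionVars false
universe u
open CategoryTheory Limits AlgebraicGeometry TopologicalSpace Opposite

namespace Groth.Agent.Lib.Helper4.Hartogs

open Groth.Agent.Lib.Helper28.HomSh Groth.Agent.Lib.Helper28.BigOpen Groth.Agent.Lib.Helper6

variable {T : Scheme.{u}} [IsLocallyNoetherian T]

/-- stalks of invertible modules are reflexive -/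
theorem isReflexiveAt_of_isInvertible (L : T.Modules) (hL : PicF.IsInvertible L) (x : T) :
    RefHull.IsReflexiveAt L x := by
  obtain ⟨g, hg⟩ := Groth.Agent.Lib.Helper20.RegMero.exists_isGen L hL x
  let e : T.presheaf.stalk x ≃ₗ[T.presheaf.stalk x] L.presheaf.stalk x :=
    LinearEquiv.ofBijective (LinearMap.toSpanSingleton _ _ g) hg
  exact Module.equiv e

/-- Hartogs for invertible modules: the unit `L → j_* j^* L` is an isomorphism when the local rings off `U` have depth `≥ 2` -/
theorem isIso_unit_of_isInvertible (U : T.Opens)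
    (hdepth : ∀ x : T, x ∉ U → (2 : ℕ∞) ≤ LocCoh.depth (T.presheaf.stalk x) (T.presheaf.stalk x))
    (L : T.Modules) (hL : PicF.IsInvertible L) :
    IsIso ((Scheme.Modules.restrictAdjunction U.ι).unit.app L) :=
  isIso_unit_of_isReflexiveAt L (CurveDeg.isCoh_of_isInvertible L hL) U hdepth
    fun x _ => isReflexiveAt_of_isInvertible L hL x

omit [IsLocallyNoetherian T] in
theorem bijective_app_of_isIso {M N : T.Modules} (φ : M ⟶ N) [IsIso φ] (W : T.Opens) :
    Function.Bijective (φ.app W) := by
  rw [Function.bijective_iff_has_inverse]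
  refine ⟨(inv φ).app W, fun s => ?_, fun s => ?_⟩
  · have h : (φ ≫ inv φ).app W s = s := by rw [IsIso.hom_inv_id]; rfl
    exact h
  · have h : (inv φ ≫ φ).app W s = s := by rw [IsIso.inv_hom_id]; rfl
    exact h

theorem bijective_res_of_isInvertible (U : T.Opens)
    (hdepth : ∀ x : T, x ∉ U → (2 : ℕ∞) ≤ LocCoh.depth (T.presheaf.stalk x) (T.presheaf.stalk x))
    (L : T.Modules) (hL : PicF.IsInvertible L) :
    Function.Bijective (L.presheaf.map (homOfLE (le_top (a := U))).op) := by
  haveI := isIso_unit_of_isInvertible U hdepth L hL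
  have h1 := bijective_app_of_isIso ((Scheme.Modules.restrictAdjunction U.ι).unit.app L) ⊤
  rw [Scheme.Modules.restrictAdjunction_unit_app_app] at h1
  have hU : U.ι ''ᵁ (U.ι ⁻¹ᵁ ⊤) = U := by
    rw [Scheme.Hom.image_preimage_eq_opensRange_inf, Scheme.Opens.opensRange_ι, inf_top_eq]
  have hle : U ≤ U.ι ''ᵁ (U.ι ⁻¹ᵁ ⊤) := hU.ge
  have h2 : Function.Bijective (L.presheaf.map (homOfLE hle).op) := by
    have : IsIso (L.presheaf.map (homOfLE hle).op) := by
      have : IsIso (homOfLE hle) := ⟨homOfLE hU.le, rfl, rfl⟩
      infer_instance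
    exact (ConcreteCategory.isIso_iff_bijective _).1 this
  have h3 := h2.comp h1
  have heq : ⇑(ConcreteCategory.hom (L.presheaf.map (homOfLE (le_top (a := U))).op)) =
      ⇑(ConcreteCategory.hom (L.presheaf.map (homOfLE hle).op)) ∘
        ⇑(ConcreteCategory.hom (L.presheaf.map (homOfLE (U.ι.image_preimage_le ⊤)).op)) := by
    funext s
    change _ = L.presheaf.map (homOfLE hle).op (L.presheaf.map _ s)
    rw [← ConcreteCategory.comp_apply, ← Functor.map_comp]
    rfl
  rw [heq]
  exact h3

/-- `Pic(T) → Pic(U)` is injective when the local rings off `U` have depth `≥ 2` -/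
theorem nonempty_iso_structureModule (U : T.Opens)
    (hdepth : ∀ x : T, x ∉ U → (2 : ℕ∞) ≤ LocCoh.depth (T.presheaf.stalk x) (T.presheaf.stalk x))
    (L : T.Modules) (hL : PicF.IsInvertible L)
    (e : L.restrict U.ι ≅ Coh.structureModule (U : Scheme.{u})) :
    Nonempty (L ≅ Coh.structureModule T) := by
  haveI := isIso_unit_of_isInvertible U hdepth L hL
  haveI := isIso_unit_of_isInvertible U hdepth (Coh.structureModule T)
    (Groth.Agent.Lib.Helper23.TensorUnit.isInvertible_structureModule T)
  let adj := Scheme.Modules.restrictAdjunction U.ι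
  exact ⟨asIso (adj.unit.app L) ≪≫
    (Scheme.Modules.pushforward U.ι).mapIso (e ≪≫ (Scheme.Modules.restrictUnitIso U.ι).symm) ≪≫
    (asIso (adj.unit.app (Coh.structureModule T))).symm⟩

end Groth.Agent.Lib.Helper4.Hartogs
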