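import Mathlib

/-!
# Hilbert functions of quotients of polynomial rings: linear algebra (helper4)

`hilb J m` is the dimension of the degree-`m` piece of `k[x_σ]/J` (image of the forms of degree `m`).

* `finrank_eq_hilb_add`: `dim R_m = hilb J m + dim (J ∩ R_m)`;
* `hilb_le_add`: for `J` homogeneous and `f` a form of degree `δ ≤ m`:
  `hilb J m ≤ hilb J (m - δ) + hilb (J + (f)) m`;
* `hilb_eq_add`: equality if `f` is a nonzerodivisor modulo `J`;
* `hilb_anti`: `J ≤ J' → hilb J' m ≤ hilb J m`.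
-/

set_option autoImplicit false
set_option linter.style.haveILetI false

universe u

open MvPolynomial

namespace Groth.Agent.Lib.Helper4.HilbFun

attribute [local instance] MvPolynomial.gradedAlgebra

variable {k : Type u} [Field k] {σ : Type} [Fintype σ]

/-- The Hilbert function of `k[x_σ]/J`: dimension of the image of the forms of degree `m`. -/
noncomputable def hilb (J : Ideal (MvPolynomial σ k)) (m : ℕ) : ℕ :=
  Module.finrank k ↥((homogeneousSubmodule σ k m).map (Ideal.Quotient.mkₐ k J).toLinearMap)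

omit [Fintype σ] in
theorem ker_mkₐ (J : Ideal (MvPolynomial σ k)) :
    LinearMap.ker (Ideal.Quotient.mkₐ k J).toLinearMap = J.restrictScalars k := by
  ext x
  simp [Ideal.Quotient.eq_zero_iff_mem]

instance finite_homogeneousSubmodule (m : ℕ) : Module.Finite k ↥(homogeneousSubmodule σ k m) :=
  Module.Finite.iff_fg.2 (homogeneousSubmodule_fg σ k m)

instance finite_piece (J : Ideal (MvPolynomial σ k)) (m : ℕ) :
    Module.Finite k ↥((homogeneousSubmodule σ k m).map (Ideal.Quotient.mkₐ k J).toLinearMap) :=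
  Module.Finite.map _ _

theorem finrank_eq_hilb_add (J : Ideal (MvPolynomial σ k)) (m : ℕ) :
    Module.finrank k ↥(homogeneousSubmodule σ k m) =
      hilb J m + Module.finrank k ↥(J.restrictScalars k ⊓ homogeneousSubmodule σ k m) := by
  set W := homogeneousSubmodule σ k m with hW
  set f := (Ideal.Quotient.mkₐ k J).toLinearMap with hf
  have h := LinearMap.finrank_range_add_finrank_ker (f ∘ₗ W.subtype)
  have h1 : LinearMap.range (f ∘ₗ W.subtype) = W.map f := by
    rw [LinearMap.range_comp, Submodule.range_subtype]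
  have h2 : Module.finrank k ↥(LinearMap.ker (f ∘ₗ W.subtype)) =
      Module.finrank k ↥(J.restrictScalars k ⊓ W) := by
    rw [← Submodule.finrank_map_subtype_eq W (LinearMap.ker (f ∘ₗ W.subtype)), LinearMap.ker_comp,
      Submodule.map_comap_subtype, hf, ker_mkₐ, inf_comm]
  have h3 : Module.finrank k ↥W =
      Module.finrank k ↥(W.map f) + Module.finrank k ↥(J.restrictScalars k ⊓ W) := by
    rw [← h2, ← h1]
    exact h.symm
  exact h3

theorem hilb_anti {J J' : Ideal (MvPolynomial σ k)} (h : J ≤ J') (m : ℕ) :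
    hilb J' m ≤ hilb J m := by
  unfold hilb
  set W := homogeneousSubmodule σ k m with hW
  have hcomp : (Ideal.Quotient.mkₐ k J').toLinearMap =
      (Ideal.Quotient.factorₐ k h).toLinearMap ∘ₗ (Ideal.Quotient.mkₐ k J).toLinearMap := by
    ext x
    rfl
  rw [hcomp, Submodule.map_comp]
  exact Submodule.finrank_map_le _ _

section Key

/-- The degree-`m` piece of `k[x_σ]/J`. -/
noncomputable abbrev piece (J : Ideal (MvPolynomial σ k)) (m : ℕ) :
    Submodule k (MvPolynomial σ k ⧸ J) :=
  (homogeneousSubmodule σ k m).map (Ideal.Quotient.mkₐ k J).toLinearMap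

omit [Fintype σ] in
theorem hilb_eq_finrank_piece (J : Ideal (MvPolynomial σ k)) (m : ℕ) :
    hilb J m = Module.finrank k ↥(piece J m) := rfl

/-- multiplication by the class of `f` on `k[x_σ]/J`. -/
noncomputable def mulf (J : Ideal (MvPolynomial σ k)) (f : MvPolynomial σ k) :
    (MvPolynomial σ k ⧸ J) →ₗ[k] (MvPolynomial σ k ⧸ J) :=
  LinearMap.mulLeft k (Ideal.Quotient.mk J f)

omit [Fintype σ] in
theorem mulf_apply (J : Ideal (MvPolynomial σ k)) (f : MvPolynomial σ k)
    (x : MvPolynomial σ k ⧸ J) : mulf J f x = Ideal.Quotient.mk J f * x := rfl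

/-- the projection `R/J → R/(J + (f))`. -/
noncomputable def proj (J : Ideal (MvPolynomial σ k)) (f : MvPolynomial σ k) :
    (MvPolynomial σ k ⧸ J) →ₗ[k] (MvPolynomial σ k ⧸ (J ⊔ Ideal.span {f})) :=
  (Ideal.Quotient.factorₐ k (le_sup_left : J ≤ J ⊔ Ideal.span {f})).toLinearMap

omit [Fintype σ] in
theorem proj_mk (J : Ideal (MvPolynomial σ k)) (f r : MvPolynomial σ k) :
    proj J f (Ideal.Quotient.mk J r) = Ideal.Quotient.mk (J ⊔ Ideal.span {f}) r := rfl

omit [Fintype σ] in
theorem piece_inf_ker_le (J : Ideal (MvPolynomial σ k))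
    (hJ : J.IsHomogeneous (homogeneousSubmodule σ k))
    (f : MvPolynomial σ k) (δ : ℕ) (hf : f ∈ homogeneousSubmodule σ k δ) (m : ℕ) (hm : δ ≤ m) :
    piece J m ⊓ LinearMap.ker (proj J f) ≤ (piece J (m - δ)).map (mulf J f) := by
  classical
  rintro x ⟨hx1, hx2⟩
  obtain ⟨r, hr, rfl⟩ := hx1
  have hr' : r ∈ J ⊔ Ideal.span {f} := by
    have : proj J f (Ideal.Quotient.mk J r) = 0 := hx2
    rw [proj_mk] at this
    exact Ideal.Quotient.eq_zero_iff_mem.mp this
  obtain ⟨j, hj, g', hg', hsum⟩ := Submodule.mem_sup.mp hr'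
  obtain ⟨g, rfl⟩ := Ideal.mem_span_singleton'.mp hg'
  have hrm : (r : MvPolynomial σ k) =
      (DirectSum.decompose (homogeneousSubmodule σ k) r m : MvPolynomial σ k) := by
    rw [DirectSum.decompose_of_mem_same _ hr]
  have hdec : (DirectSum.decompose (homogeneousSubmodule σ k) r m : MvPolynomial σ k) =
      (DirectSum.decompose (homogeneousSubmodule σ k) j m : MvPolynomial σ k) +
        f * (DirectSum.decompose (homogeneousSubmodule σ k) g (m - δ) : MvPolynomial σ k) := by
    rw [← hsum, DirectSum.decompose_add, DirectSum.add_apply, Submodule.coe_add, mul_comm g f,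
      DirectSum.coe_decompose_mul_of_left_mem_of_le (homogeneousSubmodule σ k) hf hm]
  have hjm : (DirectSum.decompose (homogeneousSubmodule σ k) j m : MvPolynomial σ k) ∈ J :=
    hJ m hj
  refine ⟨Ideal.Quotient.mk J
    (DirectSum.decompose (homogeneousSubmodule σ k) g (m - δ) : MvPolynomial σ k),
    ⟨_, SetLike.coe_mem _, rfl⟩, ?_⟩
  rw [mulf_apply]
  change _ = Ideal.Quotient.mk J r
  rw [hrm, hdec, map_add, map_mul, Ideal.Quotient.eq_zero_iff_mem.mpr hjm, zero_add]

omit [Fintype σ] in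
theorem map_mulf_le (J : Ideal (MvPolynomial σ k))
    (f : MvPolynomial σ k) (δ : ℕ) (hf : f ∈ homogeneousSubmodule σ k δ) (m : ℕ) (hm : δ ≤ m) :
    (piece J (m - δ)).map (mulf J f) ≤ piece J m ⊓ LinearMap.ker (proj J f) := by
  rintro x ⟨y, ⟨g, hg, rfl⟩, rfl⟩
  have hfg : f * g ∈ homogeneousSubmodule σ k m := by
    have := SetLike.mul_mem_graded (A := homogeneousSubmodule σ k) hf hg
    rwa [Nat.add_sub_cancel' hm] at this
  refine ⟨⟨f * g, hfg, ?_⟩, ?_⟩
  · rw [mulf_apply]
    change Ideal.Quotient.mk J (f * g) = Ideal.Quotient.mk J f * Ideal.Quotient.mk J g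
    exact map_mul _ _ _
  · change proj J f (mulf J f (Ideal.Quotient.mk J g)) = 0
    rw [mulf_apply]
    rw [← map_mul, proj_mk]
    refine Ideal.Quotient.eq_zero_iff_mem.mpr (Ideal.mul_mem_right _ _ ?_)
    exact Ideal.mem_sup_right (Ideal.subset_span rfl)

omit [Fintype σ] in
theorem piece_proj (J : Ideal (MvPolynomial σ k)) (f : MvPolynomial σ k) (m : ℕ) :
    (piece J m).map (proj J f) = piece (J ⊔ Ideal.span {f}) m := by
  have hcomp : (Ideal.Quotient.mkₐ k (J ⊔ Ideal.span {f})).toLinearMap =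
      proj J f ∘ₗ (Ideal.Quotient.mkₐ k J).toLinearMap := by
    ext x
    rfl
  rw [piece, piece, hcomp, Submodule.map_comp]

theorem hilb_eq_ker_add (J : Ideal (MvPolynomial σ k)) (f : MvPolynomial σ k) (m : ℕ) :
    hilb J m = Module.finrank k ↥(piece J m ⊓ LinearMap.ker (proj J f)) +
      hilb (J ⊔ Ideal.span {f}) m := by
  have hrn := LinearMap.finrank_range_add_finrank_ker (proj J f ∘ₗ (piece J m).subtype)
  have h1 : LinearMap.range (proj J f ∘ₗ (piece J m).subtype) = piece (J ⊔ Ideal.span {f}) m := by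
    rw [LinearMap.range_comp, Submodule.range_subtype, piece_proj]
  have h2 : Module.finrank k ↥(LinearMap.ker (proj J f ∘ₗ (piece J m).subtype)) =
      Module.finrank k ↥(piece J m ⊓ LinearMap.ker (proj J f)) := by
    rw [← Submodule.finrank_map_subtype_eq (piece J m)
      (LinearMap.ker (proj J f ∘ₗ (piece J m).subtype)), LinearMap.ker_comp,
      Submodule.map_comap_subtype]
  rw [hilb_eq_finrank_piece, hilb_eq_finrank_piece, ← h2, ← h1, ← hrn]
  exact add_comm _ _

/-- `H_J(m) ≤ H_J(m-δ) + H_{J+(f)}(m)` for a form `f` of degree `δ ≤ m`. -/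
theorem hilb_le_add (J : Ideal (MvPolynomial σ k))
    (hJ : J.IsHomogeneous (homogeneousSubmodule σ k))
    (f : MvPolynomial σ k) (δ : ℕ) (hf : f ∈ homogeneousSubmodule σ k δ) (m : ℕ) (hm : δ ≤ m) :
    hilb J m ≤ hilb J (m - δ) + hilb (J ⊔ Ideal.span {f}) m := by
  rw [hilb_eq_ker_add J f m]
  have h3 : Module.finrank k ↥(piece J m ⊓ LinearMap.ker (proj J f)) ≤
      Module.finrank k ↥((piece J (m - δ)).map (mulf J f)) :=
    Submodule.finrank_mono (piece_inf_ker_le J hJ f δ hf m hm)
  have h4 : Module.finrank k ↥((piece J (m - δ)).map (mulf J f)) ≤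
      Module.finrank k ↥(piece J (m - δ)) := Submodule.finrank_map_le _ _
  rw [hilb_eq_finrank_piece J (m - δ)]
  omega

/-- `H_J(m) = H_J(m-δ) + H_{J+(f)}(m)` for a form `f` of degree `δ ≤ m` which is a nonzerodivisor
modulo `J`. -/
theorem hilb_eq_add (J : Ideal (MvPolynomial σ k))
    (hJ : J.IsHomogeneous (homogeneousSubmodule σ k))
    (f : MvPolynomial σ k) (δ : ℕ) (hf : f ∈ homogeneousSubmodule σ k δ)
    (hreg : ∀ g, f * g ∈ J → g ∈ J) (m : ℕ) (hm : δ ≤ m) :
    hilb J m = hilb J (m - δ) + hilb (J ⊔ Ideal.span {f}) m := by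
  rw [hilb_eq_ker_add J f m]
  have h3 : piece J m ⊓ LinearMap.ker (proj J f) = (piece J (m - δ)).map (mulf J f) :=
    le_antisymm (piece_inf_ker_le J hJ f δ hf m hm) (map_mulf_le J f δ hf m hm)
  have hinj : Function.Injective (mulf J f) := by
    rw [← LinearMap.ker_eq_bot, LinearMap.ker_eq_bot']
    intro x hx
    obtain ⟨g, rfl⟩ := Ideal.Quotient.mk_surjective x
    rw [mulf_apply, ← map_mul] at hx
    exact Ideal.Quotient.eq_zero_iff_mem.mpr (hreg g (Ideal.Quotient.eq_zero_iff_mem.mp hx))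
  have h4 : Module.finrank k ↥((piece J (m - δ)).map (mulf J f)) =
      Module.finrank k ↥(piece J (m - δ)) :=
    (Submodule.equivMapOfInjective (mulf J f) hinj (piece J (m - δ))).finrank_eq.symm
  rw [h3, h4, hilb_eq_finrank_piece J (m - δ)]

end Key

end Groth.Agent.Lib.Helper4.HilbFun
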