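import Mathlib
import Groth.Agent.Lib.Helper27ProjCodimOne
import Groth.Agent.Lib.Helper27ProjHypConn
import Groth.Agent.Lib.Helper27ProjDim
import Groth.Agent.Lib.Helper27ProjGamma2
import Groth.Agent.Lib.Helper28FGDim
import Groth.Agent.Lib.Helper28PolyCM
import Groth.Agent.Lib.Helper7Dim
import Groth.Agent.Lib.Helper6EquiSubA
import Groth.Agent.Lib.Helper28Hartshorne

/-!
# Helper4ProjCone: dimension of closed subsets of projective space via the affine cone

* `topologicalKrullDim_closed_eq`: dimension of a closed subset of a projective spectrum as the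
  Krull dimension of the poset of its points.
* `topologicalKrullDim_zeroLocus_point`: `dim V_+(x) = coheight x`.
* `exists_minimal_of_mem_irreducibleComponents`: irreducible components of closed subsets are
  `V_+` of minimal points.
* `ringKrullDim_quotient_eq_coheight_add_one`: `dim S/p = dim V_+(p) + 1` for the polynomial ring.
-/

set_option autoImplicit false
set_option linter.style.haveILetI false
universe u

open AlgebraicGeometry Order

namespace Groth.Agent.Lib.Helper4.ProjCone

section General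

variable {R A : Type u} [CommRing R] [CommRing A] [Algebra R A] (𝒜 : ℕ → Submodule R A)
  [GradedAlgebra 𝒜]

open Groth.Agent.Lib.Helper27ProjCodimOne in
/-- The dimension of a closed subset of a projective spectrum is the Krull dimension of the poset
of its points. -/
theorem topologicalKrullDim_closed_eq (Z : Set (ProjectiveSpectrum 𝒜)) (hZ : IsClosed Z) :
    topologicalKrullDim ↥Z = krullDim ↥Z := by
  haveI : QuasiSober ↥Z := hZ.isClosedEmbedding_subtypeVal.quasiSober
  rw [Groth.Agent.Lib.Helper7.topologicalKrullDim_eq_krullDim_points]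
  rw [← krullDim_orderDual (α := ↥Z)]
  let e : @OrderIso ↥Z (↥Z)ᵒᵈ (specializationOrder ↥Z).toLE _ :=
    { toFun := fun a => OrderDual.toDual a
      invFun := fun a => OrderDual.ofDual a
      left_inv := fun _ => rfl
      right_inv := fun _ => rfl
      map_rel_iff' := by
        intro a b
        change (b : ProjectiveSpectrum 𝒜) ≤ (a : ProjectiveSpectrum 𝒜) ↔ b ⤳ a
        rw [subtype_specializes_iff, specializes_iff_le] }
  exact @krullDim_eq_of_orderIso ↥Z (↥Z)ᵒᵈ (specializationOrder ↥Z).toPreorder _ e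

theorem zeroLocus_point_eq_Ici (x : ProjectiveSpectrum 𝒜) :
    ProjectiveSpectrum.zeroLocus 𝒜 (x.asHomogeneousIdeal : Set A) = Set.Ici x := by
  ext y
  rw [ProjectiveSpectrum.mem_zeroLocus]
  rfl

/-- `dim V_+(x) = coheight x`. -/
theorem topologicalKrullDim_zeroLocus_point (x : ProjectiveSpectrum 𝒜) :
    topologicalKrullDim ↥(ProjectiveSpectrum.zeroLocus 𝒜 (x.asHomogeneousIdeal : Set A)) =
      (Order.coheight x : ℕ∞) := by
  rw [topologicalKrullDim_closed_eq 𝒜 _ (ProjectiveSpectrum.isClosed_zeroLocus 𝒜 _),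
    Order.coheight_eq_krullDim_Ici]
  have h := zeroLocus_point_eq_Ici 𝒜 x
  generalize ProjectiveSpectrum.zeroLocus 𝒜 (x.asHomogeneousIdeal : Set A) = Z at h
  subst h
  rfl

open Groth.Agent.Lib.Helper27ProjCodimOne in
/-- An irreducible closed subset is `V_+` of its generic point. -/
theorem exists_eq_Ici_of_isIrreducible (X : Set (ProjectiveSpectrum 𝒜)) (hXc : IsClosed X)
    (hXi : IsIrreducible X) : ∃ x : ProjectiveSpectrum 𝒜, X = Set.Ici x := by
  refine ⟨gen 𝒜 ⟨X, hXi, hXc⟩, ?_⟩
  have := coe_eq_zeroLocus 𝒜 ⟨X, hXi, hXc⟩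
  rw [zeroLocus_point_eq_Ici] at this
  exact this

theorem topologicalKrullDim_Ici (x : ProjectiveSpectrum 𝒜) :
    topologicalKrullDim ↥(Set.Ici x) = (Order.coheight x : ℕ∞) := by
  have h := topologicalKrullDim_zeroLocus_point 𝒜 x
  have h2 := zeroLocus_point_eq_Ici 𝒜 x
  generalize ProjectiveSpectrum.zeroLocus 𝒜 (x.asHomogeneousIdeal : Set A) = Z at h h2
  subst h2
  exact h

open Groth.Agent.Lib.Helper27ProjCodimOne in
/-- Irreducible components of a closed subset `Z` are the `V_+(y)` for `y` a minimal point of `Z`,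
and `dim C = coheight y`. -/
theorem exists_minimal_of_mem_irreducibleComponents (Z : Set (ProjectiveSpectrum 𝒜))
    (hZ : IsClosed Z) (C : Set ↥Z) (hC : C ∈ irreducibleComponents ↥Z) :
    ∃ y : ProjectiveSpectrum 𝒜, y ∈ Z ∧ (∀ z ∈ Z, z ≤ y → z = y) ∧
      topologicalKrullDim ↥C = (Order.coheight y : ℕ∞) := by
  have hCirr : IsIrreducible C := hC.1
  have hCcl : IsClosed C := isClosed_of_mem_irreducibleComponents C hC
  have hemb : Topology.IsClosedEmbedding (Subtype.val : ↥Z → ProjectiveSpectrum 𝒜) :=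
    hZ.isClosedEmbedding_subtypeVal
  have hC'cl : IsClosed (Subtype.val '' C) := hemb.isClosedMap _ hCcl
  have hC'irr : IsIrreducible (Subtype.val '' C) := hCirr.image _ continuous_subtype_val.continuousOn
  obtain ⟨y, hy⟩ := exists_eq_Ici_of_isIrreducible 𝒜 _ hC'cl hC'irr
  have hyC : y ∈ Subtype.val '' C := by rw [hy]; exact Set.mem_Ici.mpr le_rfl
  obtain ⟨⟨y', hy'Z⟩, hy'C, rfl⟩ := hyC
  refine ⟨y', hy'Z, ?_, ?_⟩
  · intro z hzZ hzy
    have hirr : IsIrreducible (closure {(⟨z, hzZ⟩ : ↥Z)}) := isIrreducible_singleton.closure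
    have hle : C ≤ closure {(⟨z, hzZ⟩ : ↥Z)} := by
      intro c hc
      have h1 : (c : ProjectiveSpectrum 𝒜) ∈ Subtype.val '' C := ⟨c, hc, rfl⟩
      rw [hy] at h1
      have h2 : z ≤ (c : ProjectiveSpectrum 𝒜) := hzy.trans h1
      rw [← specializes_iff_le] at h2
      have h3 : (⟨z, hzZ⟩ : ↥Z) ⤳ c := (subtype_specializes_iff _ _).mpr h2
      exact h3.mem_closure
    have h4 := hC.2 hirr hle
    have h5 : (⟨z, hzZ⟩ : ↥Z) ∈ C := h4 (subset_closure rfl)
    have h6 : z ∈ Subtype.val '' C := ⟨_, h5, rfl⟩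
    rw [hy] at h6
    exact le_antisymm hzy h6
  · rw [← topologicalKrullDim_Ici 𝒜 y']
    have e1 : ↥C ≃ₜ ↥(Subtype.val '' C) := hemb.isEmbedding.homeomorphImage C
    have h7 := IsHomeomorph.topologicalKrullDim_eq e1 e1.isHomeomorph
    rw [h7]
    generalize Subtype.val '' C = D at hy
    subst hy
    rfl

end General

section Arith

theorem withBot_enat_le_of_height_le {a b : ℕ∞} {c N : ℕ} {D E : WithBot ℕ∞}
    (hp : ((a : ℕ∞) : WithBot ℕ∞) + D = N) (hq : ((b : ℕ∞) : WithBot ℕ∞) + E = N)
    (h : b ≤ a + c) : D ≤ E + c := by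
  induction D using WithBot.recBotCoe with
  | bot => exact bot_le
  | coe D =>
    induction E using WithBot.recBotCoe with
    | bot => simp at hq
    | coe E =>
      have hp' : a + D = N := by exact_mod_cast hp
      have hq' : b + E = N := by exact_mod_cast hq
      have ha : a ≠ ⊤ := by rintro rfl; simp at hp'
      have hD : D ≠ ⊤ := by rintro rfl; simp at hp'
      have hb : b ≠ ⊤ := by rintro rfl; simp at hq'
      have hE : E ≠ ⊤ := by rintro rfl; simp at hq'
      lift a to ℕ using ha
      lift b to ℕ using hb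
      lift D to ℕ using hD
      lift E to ℕ using hE
      have : D ≤ E + c := by
        norm_cast at hp' hq' h
        omega
      exact_mod_cast this

theorem withBot_enat_eq_of_height_eq {a b : ℕ∞} {c N : ℕ} {D E : WithBot ℕ∞}
    (hp : ((a : ℕ∞) : WithBot ℕ∞) + D = N) (hq : ((b : ℕ∞) : WithBot ℕ∞) + E = N)
    (h : b = a + c) : D = E + c := by
  induction D using WithBot.recBotCoe with
  | bot => simp at hp
  | coe D =>
    induction E using WithBot.recBotCoe with
    | bot => simp at hq
    | coe E =>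
      have hp' : a + D = N := by exact_mod_cast hp
      have hq' : b + E = N := by exact_mod_cast hq
      have ha : a ≠ ⊤ := by rintro rfl; simp at hp'
      have hD : D ≠ ⊤ := by rintro rfl; simp at hp'
      have hb : b ≠ ⊤ := by rintro rfl; simp at hq'
      have hE : E ≠ ⊤ := by rintro rfl; simp at hq'
      lift a to ℕ using ha
      lift b to ℕ using hb
      lift D to ℕ using hD
      lift E to ℕ using hE
      have : D = E + c := by
        norm_cast at hp' hq' h
        omega
      exact_mod_cast this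

theorem exists_nat_of_add_eq {a : ℕ∞} {N : ℕ} {D : WithBot ℕ∞}
    (hp : ((a : ℕ∞) : WithBot ℕ∞) + D = N) : ∃ d : ℕ, D = d := by
  induction D using WithBot.recBotCoe with
  | bot => simp at hp
  | coe D =>
    have hp' : a + D = N := by exact_mod_cast hp
    have hD : D ≠ ⊤ := by rintro rfl; simp at hp'
    lift D to ℕ using hD
    exact ⟨D, rfl⟩

theorem withBot_add_one_cancel {D : WithBot ℕ∞} {m : ℕ}
    (h : ((m + 1 : ℕ) : WithBot ℕ∞) = D + 1) : D = m := by
  induction D using WithBot.recBotCoe with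
  | bot => simp at h
  | coe D =>
    have h' : ((m + 1 : ℕ) : ℕ∞) = D + 1 := by exact_mod_cast h
    have hD : D ≠ ⊤ := by rintro rfl; simp at h'
    lift D to ℕ using hD
    have : D = m := by
      norm_cast at h'
      omega
    rw [this]
    rfl

end Arith

section PolyDim

variable (k : Type u) [Field k]

/-- `ht P + dim S/P = N` for primes of `k[x_1..x_N]`. -/
theorem height_add_dim (N : ℕ) (P : Ideal (MvPolynomial (Fin N) k)) [P.IsPrime] :
    ((P.height : ℕ∞) : WithBot ℕ∞) + ringKrullDim (MvPolynomial (Fin N) k ⧸ P) = N := by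
  have hk : LocCoh.IsCohenMacaulayRing k := Groth.Agent.Lib.Helper28.isCohenMacaulayRing_of_field k
  have hS : LocCoh.IsCohenMacaulayRing (MvPolynomial (Fin N) k) :=
    Groth.Agent.Lib.Helper28.isCohenMacaulayRing_mvPolynomial_fin N
  exact Groth.Agent.Lib.Helper28.height_add_ringKrullDim_quotient_eq_of_forall_isMaximal_height_eq N
    (Groth.Agent.Lib.Helper28.height_eq_of_isMaximal_mvPolynomial_fin k N) P

/-- A minimal prime `q` over `p + (s)` comes from a minimal prime `Q` over `(s̄)` in `S/p`, and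
`ht q = ht Q + ht p`. -/
theorem exists_quotient_prime (N : ℕ) (p q : Ideal (MvPolynomial (Fin N) k)) [p.IsPrime]
    (s : Set (MvPolynomial (Fin N) k)) (hq : q ∈ (p ⊔ Ideal.span s).minimalPrimes) :
    ∃ Q : Ideal (MvPolynomial (Fin N) k ⧸ p),
      Q ∈ (Ideal.span (Ideal.Quotient.mk p '' s)).minimalPrimes ∧
      q.height = Q.height + p.height := by
  have hk : LocCoh.IsCohenMacaulayRing k := Groth.Agent.Lib.Helper28.isCohenMacaulayRing_of_field k
  have hS : LocCoh.IsCohenMacaulayRing (MvPolynomial (Fin N) k) :=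
    Groth.Agent.Lib.Helper28.isCohenMacaulayRing_mvPolynomial_fin N
  have h1 : (Ideal.span (Ideal.Quotient.mk p '' s)).comap (Ideal.Quotient.mk p) =
      p ⊔ Ideal.span s := by
    rw [← Ideal.map_span, Ideal.comap_map_of_surjective' _ Ideal.Quotient.mk_surjective,
      Ideal.mk_ker, sup_comm]
  rw [← h1, Ideal.comap_minimalPrimes_eq_of_surjective Ideal.Quotient.mk_surjective] at hq
  obtain ⟨Q, hQ, rfl⟩ := hq
  haveI : Q.IsPrime := hQ.1.1
  refine ⟨Q, hQ, ?_⟩
  have hple : p ≤ Q.comap (Ideal.Quotient.mk p) := by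
    intro x hx
    rw [Ideal.mem_comap, Ideal.Quotient.eq_zero_iff_mem.mpr hx]
    exact Q.zero_mem
  have h2 := Groth.Agent.Lib.Helper28.height_comap_eq_height_add_height_map p Q
  rw [IsLocalization.height_map_of_disjoint (Q.comap (Ideal.Quotient.mk p)).primeCompl p
      (by
        rw [Set.disjoint_left]
        intro x hx hxp
        exact hx (hple hxp))] at h2
  exact h2

theorem ringKrullDim_quotient_le_add_card (N : ℕ) (p q : Ideal (MvPolynomial (Fin N) k))
    [p.IsPrime] (s : Finset (MvPolynomial (Fin N) k))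
    (hq : q ∈ (p ⊔ Ideal.span (s : Set (MvPolynomial (Fin N) k))).minimalPrimes) :
    ringKrullDim (MvPolynomial (Fin N) k ⧸ p) ≤
      ringKrullDim (MvPolynomial (Fin N) k ⧸ q) + (s.card : ℕ) := by
  classical
  obtain ⟨Q, hQ, hht⟩ := exists_quotient_prime k N p q _ hq
  haveI : q.IsPrime := hq.1.1
  have hQle : Q.height ≤ (s.card : ℕ) := by
    have h1 : Q ∈ (Ideal.span ((s.image (Ideal.Quotient.mk p) : Finset _) :
        Set (MvPolynomial (Fin N) k ⧸ p))).minimalPrimes := by
      rw [Finset.coe_image]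
      exact hQ
    refine (Ideal.height_le_card_of_mem_minimalPrimes_span_finset h1).trans ?_
    exact_mod_cast Finset.card_image_le
  refine withBot_enat_le_of_height_le (height_add_dim k N p) (height_add_dim k N q) ?_
  rw [hht, add_comm]
  exact add_le_add le_rfl hQle

theorem ringKrullDim_quotient_eq_add_one (N : ℕ) (p q : Ideal (MvPolynomial (Fin N) k))
    [p.IsPrime] (f : MvPolynomial (Fin N) k) (hf : f ∉ p)
    (hq : q ∈ (p ⊔ Ideal.span {f}).minimalPrimes) :
    ringKrullDim (MvPolynomial (Fin N) k ⧸ p) =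
      ringKrullDim (MvPolynomial (Fin N) k ⧸ q) + 1 := by
  obtain ⟨Q, hQ, hht⟩ := exists_quotient_prime k N p q _ hq
  haveI : q.IsPrime := hq.1.1
  haveI : Q.IsPrime := hQ.1.1
  rw [Set.image_singleton] at hQ
  have hQle : Q.height ≤ 1 :=
    Ideal.height_le_one_of_isPrincipal_of_mem_minimalPrimes (Ideal.span {Ideal.Quotient.mk p f}) Q hQ
  have hQge : 1 ≤ Q.height := by
    rw [Order.one_le_iff_pos, pos_iff_ne_zero]
    intro h0
    rw [Ideal.height_eq_zero_iff_eq_bot] at h0
    have hfQ : Ideal.Quotient.mk p f ∈ Q := hQ.1.2 (Ideal.subset_span rfl)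
    rw [h0, Ideal.mem_bot, Ideal.Quotient.eq_zero_iff_mem] at hfQ
    exact hf hfQ
  have hQ1 : Q.height = 1 := le_antisymm hQle hQge
  have := withBot_enat_eq_of_height_eq (c := 1) (height_add_dim k N p) (height_add_dim k N q)
    (by rw [hht, hQ1, add_comm]; rfl)
  exact_mod_cast this

end PolyDim

section Poly

open MvPolynomial

variable (k : Type u) [Field k] (n : ℕ)

/-- nonzero elements of degree zero are units -/
theorem isUnit_of_mem_zero (a : MvPolynomial (Fin (n + 1)) k)
    (ha : a ∈ CohB1.polyGrading n k 0) (hne : a ≠ 0) : IsUnit a := by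
  rw [MvPolynomial.mem_homogeneousSubmodule,
    ← MvPolynomial.totalDegree_zero_iff_isHomogeneous,
    MvPolynomial.totalDegree_eq_zero_iff_eq_C] at ha
  rw [ha] at hne ⊢
  have hc : MvPolynomial.coeff 0 a ≠ 0 := by
    intro h0
    apply hne
    rw [h0, map_zero]
  exact (isUnit_iff_ne_zero.mpr hc).map MvPolynomial.C

/-- The irrelevant ideal of the polynomial ring is maximal. -/
theorem irrelevant_isMaximal :
    (HomogeneousIdeal.irrelevant (CohB1.polyGrading n k)).toIdeal.IsMaximal := by
  rw [Ideal.isMaximal_iff]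
  refine ⟨?_, ?_⟩
  · intro h1
    have h2 : GradedRing.proj (CohB1.polyGrading n k) 0 1 = 0 :=
      (HomogeneousIdeal.mem_irrelevant_iff _ _).mp h1
    rw [GradedRing.proj_apply, DirectSum.decompose_of_mem_same _ SetLike.GradedOne.one_mem] at h2
    exact one_ne_zero h2
  · intro J a hle ha haJ
    have ha0 : GradedRing.proj (CohB1.polyGrading n k) 0 a ≠ 0 :=
      fun h => ha ((HomogeneousIdeal.mem_irrelevant_iff _ _).mpr h)
    have hmem : GradedRing.proj (CohB1.polyGrading n k) 0 a ∈ CohB1.polyGrading n k 0 := by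
      rw [GradedRing.proj_apply]
      exact SetLike.coe_mem _
    have hsub : a - GradedRing.proj (CohB1.polyGrading n k) 0 a ∈
        (HomogeneousIdeal.irrelevant (CohB1.polyGrading n k)).toIdeal := by
      change _ ∈ HomogeneousIdeal.irrelevant (CohB1.polyGrading n k)
      rw [HomogeneousIdeal.mem_irrelevant_iff, map_sub]
      conv_lhs => rw [GradedRing.proj_apply (CohB1.polyGrading n k) 0
        (GradedRing.proj (CohB1.polyGrading n k) 0 a), DirectSum.decompose_of_mem_same _ hmem]
      exact sub_self _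
    have h3 : GradedRing.proj (CohB1.polyGrading n k) 0 a ∈ J := by
      have := J.sub_mem haJ (hle hsub)
      simpa using this
    exact (Ideal.eq_top_iff_one J).mp
      (Ideal.eq_top_of_isUnit_mem J h3 (isUnit_of_mem_zero k n _ hmem ha0))

theorem not_irrelevant_le_of_one_le_dim (q : Ideal (MvPolynomial (Fin (n + 1)) k))
    (hq : q ≤ (HomogeneousIdeal.irrelevant (CohB1.polyGrading n k)).toIdeal)
    (hdim : 1 ≤ ringKrullDim (MvPolynomial (Fin (n + 1)) k ⧸ q)) :
    ¬ (HomogeneousIdeal.irrelevant (CohB1.polyGrading n k)).toIdeal ≤ q := by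
  intro h
  have heq : q = (HomogeneousIdeal.irrelevant (CohB1.polyGrading n k)).toIdeal := le_antisymm hq h
  have hmax := irrelevant_isMaximal k n
  rw [← heq] at hmax
  have h0 : ringKrullDim (MvPolynomial (Fin (n + 1)) k ⧸ q) = 0 :=
    ringKrullDim_eq_zero_of_isField ((Ideal.Quotient.maximal_ideal_iff_isField_quotient q).mp hmax)
  rw [h0] at hdim
  exact absurd hdim (by decide)

theorem le_irrelevant (x : ProjectiveSpectrum (CohB1.polyGrading n k)) :
    x.asHomogeneousIdeal.toIdeal ≤ (HomogeneousIdeal.irrelevant (CohB1.polyGrading n k)).toIdeal :=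
  Groth.Agent.Lib.Helper27ProjHypConn.le_irrelevant k n x

theorem coheight_ne_top (x : ProjectiveSpectrum (CohB1.polyGrading n k)) :
    Order.coheight x ≠ ⊤ := by
  intro h
  have h1 := Order.coheight_le_krullDim x
  rw [Groth.Agent.Lib.Helper27ProjDim.krullDim_projectiveSpectrum k n, h] at h1
  exact absurd h1 (by
    rw [not_le]
    exact_mod_cast (WithBot.coe_lt_coe.mpr (ENat.natCast_lt_top n)))

/-- `coheight x + 1 ≤ dim S/x`. -/
theorem coheight_add_one_le (x : ProjectiveSpectrum (CohB1.polyGrading n k)) :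
    ((Order.coheight x + 1 : ℕ∞) : WithBot ℕ∞) ≤
      ringKrullDim (MvPolynomial (Fin (n + 1)) k ⧸ x.asHomogeneousIdeal.toIdeal) := by
  have hprime : (HomogeneousIdeal.irrelevant (CohB1.polyGrading n k)).toIdeal.IsPrime :=
    (irrelevant_isMaximal k n).isPrime
  have h1 := Groth.Agent.Lib.Helper6.EquiSub.coheight_add_one_le_of_strictMono
    (Groth.Agent.Lib.Helper27ProjDim.toSpec (CohB1.polyGrading n k))
    (Groth.Agent.Lib.Helper27ProjDim.toSpec_strictMono (CohB1.polyGrading n k)) x
    (coheight_ne_top k n x)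
    (fun w _ => ⟨⟨(HomogeneousIdeal.irrelevant (CohB1.polyGrading n k)).toIdeal, hprime⟩,
      Groth.Agent.Lib.Helper27ProjDim.lt_irrelevant (CohB1.polyGrading n k)
        (isUnit_of_mem_zero k n) w⟩)
  have h2 := Groth.Agent.Lib.Helper28.ringKrullDim_quotient_asIdeal_eq_coheight
    (Groth.Agent.Lib.Helper27ProjDim.toSpec (CohB1.polyGrading n k) x)
  change ringKrullDim (MvPolynomial (Fin (n + 1)) k ⧸ x.asHomogeneousIdeal.toIdeal) = _ at h2
  rw [h2]
  exact_mod_cast h1

/-- main induction: there is a chain of relevant homogeneous primes of length `dim S/x - 1`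
starting at `x`. -/
theorem le_coheight_of_dim_eq : ∀ (m : ℕ) (x : ProjectiveSpectrum (CohB1.polyGrading n k)),
    ringKrullDim (MvPolynomial (Fin (n + 1)) k ⧸ x.asHomogeneousIdeal.toIdeal) =
      ((m + 1 : ℕ) : WithBot ℕ∞) → (m : ℕ∞) ≤ Order.coheight x := by
  intro m
  induction m with
  | zero =>
    intro x _
    simp
  | succ m ih =>
    intro x hx
    obtain ⟨i, hi⟩ : ∃ i : Fin (n + 1),
        (X i : MvPolynomial (Fin (n + 1)) k) ∉ x.asHomogeneousIdeal.toIdeal := by
      by_contra hcon
      push Not at hcon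
      apply x.not_irrelevant_le
      refine (Groth.Agent.Lib.Helper27ProjGamma.irrelevant_le n k).trans ?_
      rw [Ideal.span_le]
      rintro _ ⟨j, rfl⟩
      exact hcon j
    have hXi : (X i : MvPolynomial (Fin (n + 1)) k) ∈
        (HomogeneousIdeal.irrelevant (CohB1.polyGrading n k)).toIdeal :=
      HomogeneousIdeal.mem_irrelevant_of_mem _ (i := 1) Nat.zero_lt_one
        ((MvPolynomial.mem_homogeneousSubmodule _ _).mpr (MvPolynomial.isHomogeneous_X k i))
    have hJle : x.asHomogeneousIdeal.toIdeal ⊔ Ideal.span {(X i : MvPolynomial (Fin (n + 1)) k)} ≤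
        (HomogeneousIdeal.irrelevant (CohB1.polyGrading n k)).toIdeal :=
      sup_le (le_irrelevant k n x) (by rw [Ideal.span_singleton_le_iff_mem]; exact hXi)
    haveI : (HomogeneousIdeal.irrelevant (CohB1.polyGrading n k)).toIdeal.IsPrime :=
      (irrelevant_isMaximal k n).isPrime
    obtain ⟨q, hq, hqle⟩ := Ideal.exists_minimalPrimes_le hJle
    haveI : q.IsPrime := hq.1.1
    have hJhom : (x.asHomogeneousIdeal.toIdeal ⊔
        Ideal.span {(X i : MvPolynomial (Fin (n + 1)) k)}).IsHomogeneous (CohB1.polyGrading n k) := by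
      refine Ideal.IsHomogeneous.sup x.asHomogeneousIdeal.isHomogeneous ?_
      apply Ideal.homogeneous_span
      rintro _ rfl
      exact ⟨1, (MvPolynomial.mem_homogeneousSubmodule _ _).mpr (MvPolynomial.isHomogeneous_X k i)⟩
    have hqhom := Groth.Agent.Lib.Helper27ProjHypConn.isHomogeneous_of_mem_minimalPrimes
      (CohB1.polyGrading n k) hJhom hq
    haveI : x.asHomogeneousIdeal.toIdeal.IsPrime := x.isPrime
    have hdrop := ringKrullDim_quotient_eq_add_one k (n + 1) x.asHomogeneousIdeal.toIdeal q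
      (X i) hi hq
    rw [hx] at hdrop
    have hqdim : ringKrullDim (MvPolynomial (Fin (n + 1)) k ⧸ q) = ((m + 1 : ℕ) : WithBot ℕ∞) :=
      withBot_add_one_cancel hdrop
    have hrel := not_irrelevant_le_of_one_le_dim k n q hqle (by
      rw [hqdim]
      exact_mod_cast Nat.le_add_left 1 m)
    obtain ⟨y, hy⟩ : ∃ y : ProjectiveSpectrum (CohB1.polyGrading n k),
        y.asHomogeneousIdeal.toIdeal = q := ⟨⟨⟨q, hqhom⟩, hq.1.1, hrel⟩, rfl⟩
    have hxy : x < y := by
      refine lt_of_le_of_ne ?_ ?_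
      · change x.asHomogeneousIdeal.toIdeal ≤ y.asHomogeneousIdeal.toIdeal
        rw [hy]
        exact le_sup_left.trans hq.1.2
      · intro h
        apply hi
        have h1 : (X i : MvPolynomial (Fin (n + 1)) k) ∈ q :=
          hq.1.2 (le_sup_right (a := x.asHomogeneousIdeal.toIdeal) (Ideal.subset_span rfl))
        rw [h, hy]
        exact h1
    rw [← hy] at hqdim
    have h1 := ih y hqdim
    have h2 := Order.coheight_add_one_le hxy
    calc ((m + 1 : ℕ) : ℕ∞) = (m : ℕ∞) + 1 := by push_cast; rfl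
      _ ≤ Order.coheight y + 1 := add_le_add h1 le_rfl
      _ ≤ Order.coheight x := h2

/-- `dim S/x = coheight x + 1 = dim V_+(x) + 1`. -/
theorem ringKrullDim_quotient_eq_coheight_add_one (x : ProjectiveSpectrum (CohB1.polyGrading n k)) :
    ringKrullDim (MvPolynomial (Fin (n + 1)) k ⧸ x.asHomogeneousIdeal.toIdeal) =
      ((Order.coheight x + 1 : ℕ∞) : WithBot ℕ∞) := by
  have h1 := coheight_add_one_le k n x
  apply le_antisymm _ h1
  haveI : x.asHomogeneousIdeal.toIdeal.IsPrime := x.isPrime
  obtain ⟨d, hd⟩ := exists_nat_of_add_eq (height_add_dim k (n + 1) x.asHomogeneousIdeal.toIdeal)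
  have hd1 : 1 ≤ d := by
    rw [hd] at h1
    have h3 : ((1 : ℕ∞) : WithBot ℕ∞) ≤ ((d : ℕ∞) : WithBot ℕ∞) :=
      le_trans (WithBot.coe_le_coe.mpr le_add_self) h1
    exact_mod_cast h3
  obtain ⟨m, rfl⟩ : ∃ m, d = m + 1 := ⟨d - 1, by omega⟩
  have h2 := le_coheight_of_dim_eq k n m x hd
  rw [hd]
  have h4 : ((m + 1 : ℕ) : ℕ∞) ≤ Order.coheight x + 1 := by
    push_cast
    exact add_le_add h2 le_rfl
  exact_mod_cast h4

end Poly

end Groth.Agent.Lib.Helper4.ProjCone
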