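import Mathlib
import Groth.Agent.Lib.Helper4ProjCone

/-!
# Helper4ProjCone2: sections of closed subsets of projective space by homogeneous elements

* `exists_point_of_minimalPrimes`: a relevant minimal prime over `x + (s)` is a point of
  `V_+(x) ∩ V_+(s)`.
* `mem_minimalPrimes_of_minimal`: minimal points of `V_+(x) ∩ V_+(s)` are minimal primes over
  `x + (s)`.
-/

set_option autoImplicit false
set_option linter.style.haveILetI false
universe u

open AlgebraicGeometry Order

namespace Groth.Agent.Lib.Helper4.ProjCone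

section Cut

open MvPolynomial

variable (k : Type u) [Field k] (n : ℕ)

theorem isHomogeneous_sup_span (x : ProjectiveSpectrum (CohB1.polyGrading n k))
    (s : Set (MvPolynomial (Fin (n + 1)) k))
    (hs : ∀ f ∈ s, ∃ d, f ∈ CohB1.polyGrading n k d) :
    (x.asHomogeneousIdeal.toIdeal ⊔ Ideal.span s).IsHomogeneous (CohB1.polyGrading n k) := by
  refine Ideal.IsHomogeneous.sup x.asHomogeneousIdeal.isHomogeneous ?_
  apply Ideal.homogeneous_span
  intro f hf
  exact hs f hf

theorem exists_point_of_minimalPrimes (x : ProjectiveSpectrum (CohB1.polyGrading n k))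
    (s : Set (MvPolynomial (Fin (n + 1)) k))
    (hs : ∀ f ∈ s, ∃ d, f ∈ CohB1.polyGrading n k d)
    (q : Ideal (MvPolynomial (Fin (n + 1)) k))
    (hq : q ∈ (x.asHomogeneousIdeal.toIdeal ⊔ Ideal.span s).minimalPrimes)
    (hrel : ¬ (HomogeneousIdeal.irrelevant (CohB1.polyGrading n k)).toIdeal ≤ q) :
    ∃ y : ProjectiveSpectrum (CohB1.polyGrading n k), y.asHomogeneousIdeal.toIdeal = q ∧
      y ∈ Set.Ici x ∩ ProjectiveSpectrum.zeroLocus (CohB1.polyGrading n k) s := by
  have hqhom := Groth.Agent.Lib.Helper27ProjHypConn.isHomogeneous_of_mem_minimalPrimes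
    (CohB1.polyGrading n k) (isHomogeneous_sup_span k n x s hs) hq
  refine ⟨⟨⟨q, hqhom⟩, hq.1.1, hrel⟩, rfl, ?_, ?_⟩
  · change x.asHomogeneousIdeal.toIdeal ≤ q
    exact le_sup_left.trans hq.1.2
  · rw [ProjectiveSpectrum.mem_zeroLocus]
    intro f hf
    exact hq.1.2 (le_sup_right (a := x.asHomogeneousIdeal.toIdeal) (Ideal.subset_span hf))

theorem mem_minimalPrimes_of_minimal (x y : ProjectiveSpectrum (CohB1.polyGrading n k))
    (s : Set (MvPolynomial (Fin (n + 1)) k))
    (hs : ∀ f ∈ s, ∃ d, f ∈ CohB1.polyGrading n k d)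
    (hy : y ∈ Set.Ici x ∩ ProjectiveSpectrum.zeroLocus (CohB1.polyGrading n k) s)
    (hmin : ∀ z ∈ Set.Ici x ∩ ProjectiveSpectrum.zeroLocus (CohB1.polyGrading n k) s,
      z ≤ y → z = y) :
    y.asHomogeneousIdeal.toIdeal ∈ (x.asHomogeneousIdeal.toIdeal ⊔ Ideal.span s).minimalPrimes := by
  haveI : y.asHomogeneousIdeal.toIdeal.IsPrime := y.isPrime
  have hJy : x.asHomogeneousIdeal.toIdeal ⊔ Ideal.span s ≤ y.asHomogeneousIdeal.toIdeal := by
    refine sup_le hy.1 ?_
    rw [Ideal.span_le]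
    exact (ProjectiveSpectrum.mem_zeroLocus _ _ _).mp hy.2
  obtain ⟨q, hq, hqy⟩ := Ideal.exists_minimalPrimes_le hJy
  obtain ⟨z, hz, hzZ⟩ := exists_point_of_minimalPrimes k n x s hs q hq
    (fun h => y.not_irrelevant_le (h.trans hqy))
  have hzy : z ≤ y := by
    change z.asHomogeneousIdeal.toIdeal ≤ y.asHomogeneousIdeal.toIdeal
    rw [hz]
    exact hqy
  have := hmin z hzZ hzy
  rw [← this, hz]
  exact hq

theorem isClosed_Ici_inter (x : ProjectiveSpectrum (CohB1.polyGrading n k))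
    (s : Set (MvPolynomial (Fin (n + 1)) k)) :
    IsClosed (Set.Ici x ∩ ProjectiveSpectrum.zeroLocus (CohB1.polyGrading n k) s) := by
  rw [← zeroLocus_point_eq_Ici]
  exact (ProjectiveSpectrum.isClosed_zeroLocus _ _).inter (ProjectiveSpectrum.isClosed_zeroLocus _ _)

end Cut

end Groth.Agent.Lib.Helper4.ProjCone
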