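import Mathlib
import Groth.Agent.Lib.Helper4ProjCone2
import Groth.Agent.Lib.Helper4DiagDim

/-!
# Helper4ProjCone3: intersections of closed subsets of projective space

* `exists_mem_le_coheight`, `coheight_le_topologicalKrullDim`: dimension of closed subsets of a
  projective spectrum via coheights of points.
* `inter_nonempty_and_dim_ge`: closed `X`, `Y ⊆ P^n_k` of dimensions `r`, `s` with `r + s ≥ n`
  meet, and `dim (X ∩ Y) ≥ r + s - n`.
-/

set_option autoImplicit false
set_option linter.style.haveILetI false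
universe u

open AlgebraicGeometry Order

namespace Groth.Agent.Lib.Helper4.ProjCone

section General

variable {R A : Type u} [CommRing R] [CommRing A] [Algebra R A] (𝒜 : ℕ → Submodule R A)
  [GradedAlgebra 𝒜]

theorem mem_of_le_of_isClosed (Z : Set (ProjectiveSpectrum 𝒜)) (hZ : IsClosed Z)
    {z w : ProjectiveSpectrum 𝒜} (hz : z ∈ Z) (hzw : z ≤ w) : w ∈ Z :=
  ((Groth.Agent.Lib.Helper27ProjCodimOne.specializes_iff_le 𝒜 z w).mpr hzw).mem_closed hZ hz

/-- a closed subset of dimension `r` contains a point of coheight at least `r` -/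
theorem exists_mem_le_coheight (Z : Set (ProjectiveSpectrum 𝒜)) (hZ : IsClosed Z) (r : ℕ)
    (hr : topologicalKrullDim ↥Z = r) : ∃ x ∈ Z, (r : ℕ∞) ≤ Order.coheight x := by
  rw [topologicalKrullDim_closed_eq 𝒜 Z hZ] at hr
  obtain ⟨l, hl⟩ := (Order.le_krullDim_iff (α := ↥Z) (n := r)).mp hr.ge
  refine ⟨l.head, l.head.2, ?_⟩
  have h1 : (l.length : ℕ∞) ≤ Order.coheight l.head := Order.length_le_coheight_head
  have h2 := Order.coheight_le_coheight_apply_of_strictMono (Subtype.val : ↥Z → _)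
    (fun _ _ h => h) l.head
  rw [hl] at h1
  exact h1.trans h2

/-- the coheight of a point of a closed subset is at most its dimension -/
theorem coheight_le_topologicalKrullDim (Z : Set (ProjectiveSpectrum 𝒜)) (hZ : IsClosed Z)
    (z : ProjectiveSpectrum 𝒜) (hz : z ∈ Z) :
    ((Order.coheight z : ℕ∞) : WithBot ℕ∞) ≤ topologicalKrullDim ↥Z := by
  rw [topologicalKrullDim_closed_eq 𝒜 Z hZ, Order.coheight_eq_krullDim_Ici]
  exact Order.krullDim_le_of_strictMono
    (fun w : Set.Ici z => (⟨w.1, mem_of_le_of_isClosed 𝒜 Z hZ hz w.2⟩ : ↥Z)) (fun _ _ h => h)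

end General

section Inter

open MvPolynomial

variable (k : Type u) [Field k] (n : ℕ)

/-- **Projective dimension theorem**: closed subsets `X`, `Y` of `P^n_k` of dimensions `r`, `s`
with `r + s ≥ n` meet, and `dim (X ∩ Y) ≥ r + s - n`. -/
theorem inter_nonempty_and_dim_ge (r s : ℕ)
    (X Y : Set (ProjectiveSpectrum (CohB1.polyGrading n k))) (hX : IsClosed X) (hY : IsClosed Y)
    (hXr : topologicalKrullDim ↥X = r) (hYs : topologicalKrullDim ↥Y = s) (hrs : n ≤ r + s) :
    (X ∩ Y).Nonempty ∧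
      ((r + s : ℕ) : WithBot ℕ∞) ≤ topologicalKrullDim ↥(X ∩ Y) + (n : WithBot ℕ∞) := by
  obtain ⟨x, hxX, hxr⟩ := exists_mem_le_coheight (CohB1.polyGrading n k) X hX r hXr
  obtain ⟨y, hyY, hys⟩ := exists_mem_le_coheight (CohB1.polyGrading n k) Y hY s hYs
  haveI : x.asHomogeneousIdeal.toIdeal.IsPrime := x.isPrime
  haveI : y.asHomogeneousIdeal.toIdeal.IsPrime := y.isPrime
  haveI hprime : (HomogeneousIdeal.irrelevant (CohB1.polyGrading n k)).toIdeal.IsPrime :=
    (irrelevant_isMaximal k n).isPrime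
  have hJle : x.asHomogeneousIdeal.toIdeal ⊔ y.asHomogeneousIdeal.toIdeal ≤
      (HomogeneousIdeal.irrelevant (CohB1.polyGrading n k)).toIdeal :=
    sup_le (le_irrelevant k n x) (le_irrelevant k n y)
  obtain ⟨P, hP, hPle⟩ := Ideal.exists_minimalPrimes_le hJle
  haveI : P.IsPrime := hP.1.1
  have hJhom : (x.asHomogeneousIdeal.toIdeal ⊔ y.asHomogeneousIdeal.toIdeal).IsHomogeneous
      (CohB1.polyGrading n k) :=
    Ideal.IsHomogeneous.sup x.asHomogeneousIdeal.isHomogeneous y.asHomogeneousIdeal.isHomogeneous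
  have hPhom := Groth.Agent.Lib.Helper27ProjHypConn.isHomogeneous_of_mem_minimalPrimes
    (CohB1.polyGrading n k) hJhom hP
  have hadt := Groth.Agent.Lib.Helper4.DiagDim.ringKrullDim_add_le (k := k) (n + 1)
    (fun i : Fin (n + 1) => (MvPolynomial.X i : MvPolynomial (Fin (n + 1)) k))
    MvPolynomial.adjoin_range_X
    x.asHomogeneousIdeal.toIdeal y.asHomogeneousIdeal.toIdeal P hP
  rw [ringKrullDim_quotient_eq_coheight_add_one, ringKrullDim_quotient_eq_coheight_add_one] at hadt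
  obtain ⟨e, he⟩ := exists_nat_of_add_eq (height_add_dim k (n + 1) P)
  obtain ⟨a, ha⟩ := ENat.ne_top_iff_exists.mp (coheight_ne_top k n x)
  obtain ⟨b, hb⟩ := ENat.ne_top_iff_exists.mp (coheight_ne_top k n y)
  rw [he, ← ha, ← hb] at hadt
  rw [← ha] at hxr
  rw [← hb] at hys
  have h1 : (a + 1) + (b + 1) ≤ e + (n + 1) := by exact_mod_cast hadt
  have h2 : r ≤ a := by exact_mod_cast hxr
  have h3 : s ≤ b := by exact_mod_cast hys
  have h4 : 1 ≤ e := by omega
  have hrel := not_irrelevant_le_of_one_le_dim k n P hPle (by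
    rw [he]
    exact_mod_cast h4)
  obtain ⟨z, hz⟩ : ∃ z : ProjectiveSpectrum (CohB1.polyGrading n k),
      z.asHomogeneousIdeal.toIdeal = P := ⟨⟨⟨P, hPhom⟩, hP.1.1, hrel⟩, rfl⟩
  have hxz : x ≤ z := by
    change x.asHomogeneousIdeal.toIdeal ≤ z.asHomogeneousIdeal.toIdeal
    rw [hz]
    exact le_sup_left.trans hP.1.2
  have hyz : y ≤ z := by
    change y.asHomogeneousIdeal.toIdeal ≤ z.asHomogeneousIdeal.toIdeal
    rw [hz]
    exact le_sup_right.trans hP.1.2
  have hzXY : z ∈ X ∩ Y :=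
    ⟨mem_of_le_of_isClosed _ X hX hxX hxz, mem_of_le_of_isClosed _ Y hY hyY hyz⟩
  refine ⟨⟨z, hzXY⟩, ?_⟩
  have h5 := coheight_le_topologicalKrullDim (CohB1.polyGrading n k) (X ∩ Y) (hX.inter hY) z hzXY
  have h6 := ringKrullDim_quotient_eq_coheight_add_one k n z
  rw [hz, he] at h6
  obtain ⟨c, hc⟩ := ENat.ne_top_iff_exists.mp (coheight_ne_top k n z)
  rw [← hc] at h5 h6
  have h7 : e = c + 1 := by exact_mod_cast h6
  have h8 : r + s ≤ c + n := by omega
  calc ((r + s : ℕ) : WithBot ℕ∞) ≤ ((c + n : ℕ) : WithBot ℕ∞) := by exact_mod_cast h8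
    _ = ((c : ℕ∞) : WithBot ℕ∞) + (n : WithBot ℕ∞) := by push_cast; rfl
    _ ≤ topologicalKrullDim ↥(X ∩ Y) + (n : WithBot ℕ∞) := add_le_add h5 le_rfl

end Inter

end Groth.Agent.Lib.Helper4.ProjCone
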