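import Mathlib
import Groth.Agent.Lib.Helper4ProjCone3

/-!
# Helper4ProjCone5: linear forms missing a projective variety

* `le_irrelevant_of_isHomogeneous`: proper homogeneous ideals of `k[x_0..x_n]` lie in `S_+`.
* `exists_linear_notMem_minimalPrimes`: over an infinite field there is a linear form outside all
  relevant minimal primes of an ideal.
* `exists_linear_forms_pow_le`: for a homogeneous prime `I` with `dim S/I = r + 1` there are
  `r + 1` linear forms `h` with `(x_0..x_n)^N ≤ I + (h)`.
-/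

set_option autoImplicit false
set_option linter.style.haveILetI false
universe u

open AlgebraicGeometry Order

namespace Groth.Agent.Lib.Helper4.ProjCone

section Linear

open MvPolynomial

variable (k : Type u) [Field k] (n : ℕ)

theorem le_irrelevant_of_isHomogeneous (I : Ideal (MvPolynomial (Fin (n + 1)) k))
    (hI : I.IsHomogeneous (CohB1.polyGrading n k)) (hne : I ≠ ⊤) :
    I ≤ (HomogeneousIdeal.irrelevant (CohB1.polyGrading n k)).toIdeal := by
  intro f hf
  change f ∈ HomogeneousIdeal.irrelevant (CohB1.polyGrading n k)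
  rw [HomogeneousIdeal.mem_irrelevant_iff, GradedRing.proj_apply]
  by_contra hne0
  have h1 : ((DirectSum.decompose (CohB1.polyGrading n k) f 0 : CohB1.polyGrading n k 0) :
      MvPolynomial (Fin (n + 1)) k) ∈ I := hI 0 hf
  have h2 := isUnit_of_mem_zero k n _ (DirectSum.decompose (CohB1.polyGrading n k) f 0).2 hne0
  exact hne (Ideal.eq_top_of_isUnit_mem _ h1 h2)

theorem span_range_X_le_irrelevant :
    Ideal.span (Set.range (MvPolynomial.X : Fin (n + 1) → MvPolynomial (Fin (n + 1)) k)) ≤
      (HomogeneousIdeal.irrelevant (CohB1.polyGrading n k)).toIdeal := by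
  rw [Ideal.span_le]
  rintro _ ⟨i, rfl⟩
  exact HomogeneousIdeal.mem_irrelevant_of_mem _ (i := 1) Nat.zero_lt_one
    ((MvPolynomial.mem_homogeneousSubmodule _ _).mpr (MvPolynomial.isHomogeneous_X k i))

/-- over an infinite field there is a linear form outside all relevant minimal primes -/
theorem exists_linear_notMem_minimalPrimes [Infinite k]
    (J : Ideal (MvPolynomial (Fin (n + 1)) k)) :
    ∃ h : MvPolynomial (Fin (n + 1)) k, h.IsHomogeneous 1 ∧
      ∀ q ∈ J.minimalPrimes,
        ¬ (HomogeneousIdeal.irrelevant (CohB1.polyGrading n k)).toIdeal ≤ q → h ∉ q := by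
  have hfin : {q ∈ J.minimalPrimes |
      ¬ (HomogeneousIdeal.irrelevant (CohB1.polyGrading n k)).toIdeal ≤ q}.Finite :=
    (Ideal.finite_minimalPrimes_of_isNoetherianRing _ J).subset (fun q hq => hq.1)
  haveI : Finite ↥{q ∈ J.minimalPrimes |
      ¬ (HomogeneousIdeal.irrelevant (CohB1.polyGrading n k)).toIdeal ≤ q} := hfin.to_subtype
  let p : ↥{q ∈ J.minimalPrimes |
      ¬ (HomogeneousIdeal.irrelevant (CohB1.polyGrading n k)).toIdeal ≤ q} →
      Submodule k ↥(CohB1.polyGrading n k 1) :=
    fun q => Submodule.comap (CohB1.polyGrading n k 1).subtype (q.1.restrictScalars k)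
  have hp : ∀ q, p q ≠ ⊤ := by
    intro q htop
    apply q.2.2
    refine (Groth.Agent.Lib.Helper27ProjGamma.irrelevant_le n k).trans ?_
    rw [Ideal.span_le]
    rintro _ ⟨i, rfl⟩
    have hmem : (MvPolynomial.X i : MvPolynomial (Fin (n + 1)) k) ∈ CohB1.polyGrading n k 1 :=
      (MvPolynomial.mem_homogeneousSubmodule _ _).mpr (MvPolynomial.isHomogeneous_X k i)
    have h1 : (⟨MvPolynomial.X i, hmem⟩ : ↥(CohB1.polyGrading n k 1)) ∈ p q := by
      rw [htop]; trivial
    exact h1
  obtain ⟨x, hx⟩ := Submodule.exists_forall_notMem_of_forall_ne_top p hp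
  refine ⟨x.1, (MvPolynomial.mem_homogeneousSubmodule _ _).mp x.2, ?_⟩
  intro q hq hrel hxq
  exact hx ⟨q, hq, hrel⟩ hxq

/-- the inductive construction of linear forms cutting down the dimension -/
theorem exists_linear_forms [Infinite k] (I : Ideal (MvPolynomial (Fin (n + 1)) k)) [I.IsPrime]
    (hIh : I.IsHomogeneous (CohB1.polyGrading n k)) (r : ℕ)
    (hdim : ringKrullDim (MvPolynomial (Fin (n + 1)) k ⧸ I) = (r : WithBot ℕ∞) + 1) :
    ∀ j : ℕ, ∃ h : Fin j → MvPolynomial (Fin (n + 1)) k, (∀ i, (h i).IsHomogeneous 1) ∧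
      ∀ z : ProjectiveSpectrum (CohB1.polyGrading n k),
        I ⊔ Ideal.span (Set.range h) ≤ z.asHomogeneousIdeal.toIdeal →
          Order.coheight z + (j : ℕ∞) ≤ (r : ℕ∞) := by
  intro j
  induction j with
  | zero =>
    refine ⟨Fin.elim0, fun i => i.elim0, ?_⟩
    intro z hz
    have hIle := le_irrelevant_of_isHomogeneous k n I hIh (Ideal.IsPrime.ne_top inferInstance)
    have hrel := not_irrelevant_le_of_one_le_dim k n I hIle (by
      rw [hdim]
      exact_mod_cast Nat.le_add_left 1 r)
    obtain ⟨x, hx⟩ : ∃ x : ProjectiveSpectrum (CohB1.polyGrading n k),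
        x.asHomogeneousIdeal.toIdeal = I := ⟨⟨⟨I, hIh⟩, inferInstance, hrel⟩, rfl⟩
    have hxz : x ≤ z := by
      change x.asHomogeneousIdeal.toIdeal ≤ z.asHomogeneousIdeal.toIdeal
      rw [hx]
      exact le_sup_left.trans hz
    have h1 := Order.coheight_anti hxz
    have h2 := ringKrullDim_quotient_eq_coheight_add_one k n x
    rw [hx, hdim] at h2
    obtain ⟨a, ha⟩ := ENat.ne_top_iff_exists.mp (coheight_ne_top k n x)
    rw [← ha] at h2 h1
    have h3 : r + 1 = a + 1 := by exact_mod_cast h2
    have h4 : a = r := by omega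
    rw [h4] at h1
    simpa using h1
  | succ j ih =>
    obtain ⟨h, hh, hz⟩ := ih
    obtain ⟨h', hh', hav⟩ := exists_linear_notMem_minimalPrimes k n (I ⊔ Ideal.span (Set.range h))
    refine ⟨Fin.cons h' h, ?_, ?_⟩
    · intro i
      refine Fin.cases ?_ (fun i => ?_) i
      · rw [Fin.cons_zero]; exact hh'
      · rw [Fin.cons_succ]; exact hh i
    · intro z hzle
      rw [Fin.range_cons, Ideal.span_insert] at hzle
      have hJz : I ⊔ Ideal.span (Set.range h) ≤ z.asHomogeneousIdeal.toIdeal :=
        sup_le (le_sup_left.trans hzle) ((le_sup_right.trans le_sup_right).trans hzle)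
      have hh'z : h' ∈ z.asHomogeneousIdeal.toIdeal :=
        hzle (Ideal.mem_sup_right (Ideal.mem_sup_left (Ideal.subset_span rfl)))
      haveI : z.asHomogeneousIdeal.toIdeal.IsPrime := z.isPrime
      obtain ⟨q, hq, hqz⟩ := Ideal.exists_minimalPrimes_le hJz
      have hJhom : (I ⊔ Ideal.span (Set.range h)).IsHomogeneous (CohB1.polyGrading n k) := by
        refine Ideal.IsHomogeneous.sup hIh ?_
        apply Ideal.homogeneous_span
        rintro _ ⟨i, rfl⟩
        exact ⟨1, (MvPolynomial.mem_homogeneousSubmodule _ _).mpr (hh i)⟩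
      have hqhom := Groth.Agent.Lib.Helper27ProjHypConn.isHomogeneous_of_mem_minimalPrimes
        (CohB1.polyGrading n k) hJhom hq
      have hrel : ¬ (HomogeneousIdeal.irrelevant (CohB1.polyGrading n k)).toIdeal ≤ q :=
        fun hle => z.not_irrelevant_le (hle.trans hqz)
      obtain ⟨y, hy⟩ : ∃ y : ProjectiveSpectrum (CohB1.polyGrading n k),
          y.asHomogeneousIdeal.toIdeal = q := ⟨⟨⟨q, hqhom⟩, hq.1.1, hrel⟩, rfl⟩
      have hyz : y < z := by
        refine lt_of_le_of_ne ?_ ?_
        · change y.asHomogeneousIdeal.toIdeal ≤ z.asHomogeneousIdeal.toIdeal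
          rw [hy]
          exact hqz
        · intro heq
          apply hav q hq hrel
          rw [← hy, heq]
          exact hh'z
      have h1 := Order.coheight_add_one_le hyz
      have h2 := hz y (by rw [hy]; exact hq.1.2)
      calc Order.coheight z + ((j + 1 : ℕ) : ℕ∞) = (Order.coheight z + 1) + (j : ℕ∞) := by
            push_cast; ring
        _ ≤ Order.coheight y + (j : ℕ∞) := add_le_add h1 le_rfl
        _ ≤ (r : ℕ∞) := h2

/-- **linear forms missing a projective variety** -/
theorem exists_linear_forms_pow_le [Infinite k] (r : ℕ)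
    (I : Ideal (MvPolynomial (Fin (n + 1)) k)) (hIh : I.IsHomogeneous (CohB1.polyGrading n k))
    [I.IsPrime]
    (hdim : ringKrullDim (MvPolynomial (Fin (n + 1)) k ⧸ I) = (r : WithBot ℕ∞) + 1) :
    ∃ h : Fin (r + 1) → MvPolynomial (Fin (n + 1)) k, (∀ i, (h i).IsHomogeneous 1) ∧
      ∃ N : ℕ, (Ideal.span (Set.range
        (MvPolynomial.X : Fin (n + 1) → MvPolynomial (Fin (n + 1)) k))) ^ N ≤
        I ⊔ Ideal.span (Set.range h) := by
  obtain ⟨h, hh, hz⟩ := exists_linear_forms k n I hIh r hdim (r + 1)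
  refine ⟨h, hh, ?_⟩
  have hJhom : (I ⊔ Ideal.span (Set.range h)).IsHomogeneous (CohB1.polyGrading n k) := by
    refine Ideal.IsHomogeneous.sup hIh ?_
    apply Ideal.homogeneous_span
    rintro _ ⟨i, rfl⟩
    exact ⟨1, (MvPolynomial.mem_homogeneousSubmodule _ _).mpr (hh i)⟩
  have hrad : Ideal.span (Set.range
      (MvPolynomial.X : Fin (n + 1) → MvPolynomial (Fin (n + 1)) k)) ≤
      (I ⊔ Ideal.span (Set.range h)).radical := by
    rw [← Ideal.sInf_minimalPrimes]
    refine le_sInf fun q hq => ?_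
    refine (span_range_X_le_irrelevant k n).trans ?_
    by_contra hrel
    have hqhom := Groth.Agent.Lib.Helper27ProjHypConn.isHomogeneous_of_mem_minimalPrimes
      (CohB1.polyGrading n k) hJhom hq
    obtain ⟨y, hy⟩ : ∃ y : ProjectiveSpectrum (CohB1.polyGrading n k),
        y.asHomogeneousIdeal.toIdeal = q := ⟨⟨⟨q, hqhom⟩, hq.1.1, hrel⟩, rfl⟩
    have h1 := hz y (by rw [hy]; exact hq.1.2)
    have h2 : ((r + 1 : ℕ) : ℕ∞) ≤ (r : ℕ∞) := le_trans le_add_self h1
    have h3 : r + 1 ≤ r := by exact_mod_cast h2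
    omega
  exact Ideal.exists_pow_le_of_le_radical_of_fg hrad (IsNoetherian.noetherian _)

end Linear

end Groth.Agent.Lib.Helper4.ProjCone
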