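import Mathlib
import Groth.Agent.Lib.Helper4ProjCone5

/-!
# Helper4ProjCone7: homogeneous prime avoidance and hypersurfaces through a closed subset

* `exists_homogeneous_notMem_of_not_le`: a homogeneous ideal not contained in `P` has a
  homogeneous element outside `P`.
* `homogeneous_prime_avoidance`: a homogeneous ideal `I ≤ A_+` not contained in any of finitely
  many homogeneous primes contains a homogeneous element of positive degree outside all of them.
* `exists_hypersurfaces`: for closed `X'`, `Y' ⊆ P^n_k` with `dim X' = r` there are `r + 1`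
  homogeneous polynomials of positive degree vanishing on `Y'` with no common zero on `X' ∖ Y'`.
-/

set_option autoImplicit false
set_option linter.style.haveILetI false
universe u

open AlgebraicGeometry Order

namespace Groth.Agent.Lib.Helper4.ProjCone

section PA

variable {R A : Type u} [CommRing R] [CommRing A] [Algebra R A] (𝒜 : ℕ → Submodule R A)
  [GradedAlgebra 𝒜]

theorem exists_homogeneous_notMem_of_not_le (K : Ideal A) (hK : K.IsHomogeneous 𝒜) (P : Ideal A)
    (hKP : ¬ K ≤ P) : ∃ (e : ℕ) (u : A), u ∈ 𝒜 e ∧ u ∈ K ∧ u ∉ P := by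
  classical
  obtain ⟨f, hfK, hfP⟩ := Set.not_subset.mp hKP
  by_contra hcon
  push Not at hcon
  apply hfP
  rw [← DirectSum.sum_support_decompose 𝒜 f]
  refine Ideal.sum_mem _ fun i _ => ?_
  exact hcon i _ (SetLike.coe_mem _) (hK i hfK)

theorem pos_of_mem_irrelevant {e : ℕ} {u : A} (hu : u ∈ 𝒜 e)
    (hirr : u ∈ (HomogeneousIdeal.irrelevant 𝒜).toIdeal) (hne : u ≠ 0) : 0 < e := by
  by_contra h0
  have he : e = 0 := by omega
  subst he
  have h1 : GradedRing.proj 𝒜 0 u = 0 := (HomogeneousIdeal.mem_irrelevant_iff _ _).mp hirr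
  rw [GradedRing.proj_apply, DirectSum.decompose_of_mem_same _ hu] at h1
  exact hne h1

/-- **homogeneous prime avoidance** -/
theorem homogeneous_prime_avoidance (I : Ideal A) (hI : I.IsHomogeneous 𝒜)
    (hIirr : I ≤ (HomogeneousIdeal.irrelevant 𝒜).toIdeal) :
    ∀ (m : ℕ) (s : Finset (Ideal A)), s.card = m →
      (∀ P ∈ s, P.IsPrime ∧ P.IsHomogeneous 𝒜 ∧ ¬ I ≤ P) →
      ∃ (d : ℕ) (h : A), 0 < d ∧ h ∈ 𝒜 d ∧ h ∈ I ∧ ∀ P ∈ s, h ∉ P := by
  classical
  intro m
  induction m using Nat.strong_induction_on with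
  | _ m ih =>
    intro s hcard hs
    by_cases hemp : s = ∅
    · subst hemp
      exact ⟨1, 0, Nat.one_pos, Submodule.zero_mem _, Submodule.zero_mem _, by simp⟩
    by_cases hcomp : ∃ Q ∈ s, ∃ P ∈ s, Q ≠ P ∧ Q ≤ P
    · obtain ⟨Q, hQ, P, hP, hne, hle⟩ := hcomp
      have hc : (s.erase Q).card < m := by
        rw [Finset.card_erase_of_mem hQ, ← hcard]
        exact Nat.sub_lt (Finset.card_pos.mpr ⟨Q, hQ⟩) Nat.one_pos
      obtain ⟨d, h, hd, hhd, hhI, hav⟩ := ih _ hc (s.erase Q) rfl
        (fun P' hP' => hs P' (Finset.mem_of_mem_erase hP'))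
      refine ⟨d, h, hd, hhd, hhI, ?_⟩
      intro P' hP'
      by_cases hPQ : P' = Q
      · subst hPQ
        intro hmem
        exact hav P (Finset.mem_erase.mpr ⟨hne.symm, hP⟩) (hle hmem)
      · exact hav P' (Finset.mem_erase.mpr ⟨hPQ, hP'⟩)
    · push Not at hcomp
      obtain ⟨P, hP⟩ := Finset.nonempty_iff_ne_empty.mpr hemp
      have hc : (s.erase P).card < m := by
        rw [Finset.card_erase_of_mem hP, ← hcard]
        exact Nat.sub_lt (Finset.card_pos.mpr ⟨P, hP⟩) Nat.one_pos
      obtain ⟨d', h', hd', hh'd, hh'I, hav⟩ := ih _ hc (s.erase P) rfl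
        (fun P' hP' => hs P' (Finset.mem_of_mem_erase hP'))
      by_cases hh'P : h' ∉ P
      · refine ⟨d', h', hd', hh'd, hh'I, ?_⟩
        intro P' hP'
        by_cases hPP : P' = P
        · subst hPP; exact hh'P
        · exact hav P' (Finset.mem_erase.mpr ⟨hPP, hP'⟩)
      · rw [not_not] at hh'P
        obtain ⟨hPprime, hPhom, hIP⟩ := hs P hP
        have hKhom : (I ⊓ (s.erase P).inf id).IsHomogeneous 𝒜 := by
          refine Ideal.IsHomogeneous.inf hI ?_
          rw [Finset.inf_eq_iInf]
          exact Ideal.IsHomogeneous.iInf₂ fun Q hQ => (hs Q (Finset.mem_of_mem_erase hQ)).2.1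
        have hKP : ¬ (I ⊓ (s.erase P).inf id) ≤ P := by
          intro hle
          rcases hPprime.inf_le.mp hle with h1 | h1
          · exact hIP h1
          · obtain ⟨Q, hQ, hQP⟩ := hPprime.inf_le'.mp h1
            have hQs := Finset.mem_of_mem_erase hQ
            have hQne : Q ≠ P := (Finset.mem_erase.mp hQ).1
            exact hcomp Q hQs P hP hQne hQP
        obtain ⟨e, u, hue, huK, huP⟩ := exists_homogeneous_notMem_of_not_le 𝒜 _ hKhom P hKP
        have huI : u ∈ I := huK.1
        have hu0 : u ≠ 0 := fun h => huP (h ▸ P.zero_mem)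
        have he : 0 < e := pos_of_mem_irrelevant 𝒜 hue (hIirr huI) hu0
        have huQ : ∀ Q ∈ s.erase P, u ∈ Q := fun Q hQ =>
          (Finset.inf_le (f := id) hQ : (s.erase P).inf id ≤ Q) huK.2
        refine ⟨d' * e, h' ^ e + u ^ d', Nat.mul_pos hd' he, ?_, ?_, ?_⟩
        · refine Submodule.add_mem _ ?_ ?_
          · have := SetLike.pow_mem_graded e hh'd
            rw [smul_eq_mul, mul_comm] at this
            exact this
          · have := SetLike.pow_mem_graded d' hue
            rw [smul_eq_mul] at this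
            exact this
        · exact I.add_mem (Ideal.pow_mem_of_mem _ hh'I _ he) (Ideal.pow_mem_of_mem _ huI _ hd')
        · intro P' hP'
          by_cases hPP : P' = P
          · subst hPP
            intro hmem
            have h1 : h' ^ e ∈ P' := Ideal.pow_mem_of_mem _ hh'P _ he
            have h2 : u ^ d' ∈ P' := (Ideal.add_mem_iff_right _ h1).mp hmem
            exact huP (hPprime.mem_of_pow_mem _ h2)
          · have hP'e : P' ∈ s.erase P := Finset.mem_erase.mpr ⟨hPP, hP'⟩
            haveI := (hs P' hP').1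
            intro hmem
            have h1 : u ^ d' ∈ P' := Ideal.pow_mem_of_mem _ (huQ P' hP'e) _ hd'
            have h2 : h' ^ e ∈ P' := (Ideal.add_mem_iff_left _ h1).mp hmem
            exact hav P' hP'e ((hs P' hP').1.mem_of_pow_mem _ h2)

end PA

section Hyp

open MvPolynomial

variable (k : Type u) [Field k] (n : ℕ)

theorem mem_iff_vanishingIdeal_le (Z : Set (ProjectiveSpectrum (CohB1.polyGrading n k)))
    (hZ : IsClosed Z) (z : ProjectiveSpectrum (CohB1.polyGrading n k)) :
    z ∈ Z ↔ (ProjectiveSpectrum.vanishingIdeal Z).toIdeal ≤ z.asHomogeneousIdeal.toIdeal := by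
  conv_lhs => rw [← hZ.closure_eq, ← ProjectiveSpectrum.zeroLocus_vanishingIdeal_eq_closure,
    ProjectiveSpectrum.mem_zeroLocus]
  rfl

theorem exists_hypersurfaces_aux (X' Y' : Set (ProjectiveSpectrum (CohB1.polyGrading n k)))
    (hX' : IsClosed X') (hY' : IsClosed Y') (r : ℕ) (hdim : topologicalKrullDim ↥X' = r) :
    ∀ j : ℕ, ∃ h : Fin j → MvPolynomial (Fin (n + 1)) k,
      (∀ i, ∃ d, 0 < d ∧ (h i).IsHomogeneous d) ∧
      (∀ i, ∀ y ∈ Y', h i ∈ y.asHomogeneousIdeal.toIdeal) ∧
      ∀ z ∈ X', z ∉ Y' → (∀ i, h i ∈ z.asHomogeneousIdeal.toIdeal) →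
        Order.coheight z + (j : ℕ∞) ≤ (r : ℕ∞) := by
  classical
  intro j
  induction j with
  | zero =>
    refine ⟨Fin.elim0, fun i => i.elim0, fun i => i.elim0, ?_⟩
    intro z hz _ _
    have h1 := coheight_le_topologicalKrullDim (CohB1.polyGrading n k) X' hX' z hz
    rw [hdim] at h1
    have h2 : Order.coheight z ≤ (r : ℕ∞) := by exact_mod_cast h1
    simpa using h2
  | succ j ih =>
    obtain ⟨h, hh, hhY, hz⟩ := ih
    set IX := (ProjectiveSpectrum.vanishingIdeal X').toIdeal with hIX
    set IY := (ProjectiveSpectrum.vanishingIdeal Y').toIdeal with hIY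
    have hJhom : (IX ⊔ Ideal.span (Set.range h)).IsHomogeneous (CohB1.polyGrading n k) := by
      refine Ideal.IsHomogeneous.sup (ProjectiveSpectrum.vanishingIdeal X').isHomogeneous ?_
      apply Ideal.homogeneous_span
      rintro _ ⟨i, rfl⟩
      obtain ⟨d, _, hd⟩ := hh i
      exact ⟨d, (MvPolynomial.mem_homogeneousSubmodule _ _).mpr hd⟩
    have hfin : {q ∈ (IX ⊔ Ideal.span (Set.range h)).minimalPrimes |
        ¬ (HomogeneousIdeal.irrelevant (CohB1.polyGrading n k)).toIdeal ≤ q ∧ ¬ IY ≤ q}.Finite :=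
      (Ideal.finite_minimalPrimes_of_isNoetherianRing _ _).subset (fun q hq => hq.1)
    have hIhom : (IY ⊓ (HomogeneousIdeal.irrelevant (CohB1.polyGrading n k)).toIdeal).IsHomogeneous
        (CohB1.polyGrading n k) :=
      Ideal.IsHomogeneous.inf (ProjectiveSpectrum.vanishingIdeal Y').isHomogeneous
        (HomogeneousIdeal.irrelevant (CohB1.polyGrading n k)).isHomogeneous
    obtain ⟨d, h', hd, hh'd, hh'I, hav⟩ := homogeneous_prime_avoidance (CohB1.polyGrading n k)
      (IY ⊓ (HomogeneousIdeal.irrelevant (CohB1.polyGrading n k)).toIdeal) hIhom inf_le_right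
      hfin.toFinset.card hfin.toFinset rfl (by
        intro q hq
        rw [Set.Finite.mem_toFinset] at hq
        obtain ⟨hqmin, hqrel, hqY⟩ := hq
        refine ⟨hqmin.1.1, ?_, ?_⟩
        · exact Groth.Agent.Lib.Helper27ProjHypConn.isHomogeneous_of_mem_minimalPrimes
            (CohB1.polyGrading n k) hJhom hqmin
        · intro hle
          rcases hqmin.1.1.inf_le.mp hle with h1 | h1
          · exact hqY h1
          · exact hqrel h1)
    refine ⟨Fin.cons h' h, ?_, ?_, ?_⟩
    · intro i
      refine Fin.cases ?_ (fun i => ?_) i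
      · rw [Fin.cons_zero]
        exact ⟨d, hd, (MvPolynomial.mem_homogeneousSubmodule _ _).mp hh'd⟩
      · rw [Fin.cons_succ]; exact hh i
    · intro i
      refine Fin.cases ?_ (fun i => ?_) i
      · rw [Fin.cons_zero]
        intro y hy
        have h1 : h' ∈ ProjectiveSpectrum.vanishingIdeal Y' := hh'I.1
        exact (ProjectiveSpectrum.mem_vanishingIdeal _ _).mp h1 y hy
      · rw [Fin.cons_succ]; exact hhY i
    · intro z hzX hzY hall
      have hh'z : h' ∈ z.asHomogeneousIdeal.toIdeal := by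
        have := hall 0
        rwa [Fin.cons_zero] at this
      have hhz : ∀ i, h i ∈ z.asHomogeneousIdeal.toIdeal := by
        intro i
        have := hall i.succ
        rwa [Fin.cons_succ] at this
      have hJz : IX ⊔ Ideal.span (Set.range h) ≤ z.asHomogeneousIdeal.toIdeal := by
        refine sup_le ((mem_iff_vanishingIdeal_le k n X' hX' z).mp hzX) ?_
        rw [Ideal.span_le]
        rintro _ ⟨i, rfl⟩
        exact hhz i
      haveI : z.asHomogeneousIdeal.toIdeal.IsPrime := z.isPrime
      obtain ⟨q, hq, hqz⟩ := Ideal.exists_minimalPrimes_le hJz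
      have hqhom := Groth.Agent.Lib.Helper27ProjHypConn.isHomogeneous_of_mem_minimalPrimes
        (CohB1.polyGrading n k) hJhom hq
      have hrel : ¬ (HomogeneousIdeal.irrelevant (CohB1.polyGrading n k)).toIdeal ≤ q :=
        fun hle => z.not_irrelevant_le (hle.trans hqz)
      have hqY : ¬ IY ≤ q := fun hle =>
        hzY ((mem_iff_vanishingIdeal_le k n Y' hY' z).mpr (hle.trans hqz))
      have hh'q : h' ∉ q := hav q (by
        rw [Set.Finite.mem_toFinset]
        exact ⟨hq, hrel, hqY⟩)
      obtain ⟨y, hy⟩ : ∃ y : ProjectiveSpectrum (CohB1.polyGrading n k),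
          y.asHomogeneousIdeal.toIdeal = q := ⟨⟨⟨q, hqhom⟩, hq.1.1, hrel⟩, rfl⟩
      have hyz : y < z := by
        refine lt_of_le_of_ne ?_ ?_
        · change y.asHomogeneousIdeal.toIdeal ≤ z.asHomogeneousIdeal.toIdeal
          rw [hy]
          exact hqz
        · intro heq
          apply hh'q
          rw [← hy, heq]
          exact hh'z
      have hyX : y ∈ X' := by
        rw [mem_iff_vanishingIdeal_le k n X' hX' y, hy]
        exact le_sup_left.trans hq.1.2
      have hyY : y ∉ Y' := by
        rw [mem_iff_vanishingIdeal_le k n Y' hY' y, hy]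
        exact hqY
      have hyall : ∀ i, h i ∈ y.asHomogeneousIdeal.toIdeal := by
        intro i
        rw [hy]
        exact hq.1.2 (Ideal.mem_sup_right (Ideal.subset_span ⟨i, rfl⟩))
      have h1 := Order.coheight_add_one_le hyz
      have h2 := hz y hyX hyY hyall
      calc Order.coheight z + ((j + 1 : ℕ) : ℕ∞) = (Order.coheight z + 1) + (j : ℕ∞) := by
            push_cast; ring
        _ ≤ Order.coheight y + (j : ℕ∞) := add_le_add h1 le_rfl
        _ ≤ (r : ℕ∞) := h2

/-- for closed `X'`, `Y' ⊆ P^n_k` with `dim X' = r` there are `r + 1` homogeneous polynomials of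
positive degree vanishing on `Y'` with no common zero on `X' ∖ Y'` -/
theorem exists_hypersurfaces (X' Y' : Set (ProjectiveSpectrum (CohB1.polyGrading n k)))
    (hX' : IsClosed X') (hY' : IsClosed Y') (r : ℕ) (hdim : topologicalKrullDim ↥X' = r) :
    ∃ h : Fin (r + 1) → MvPolynomial (Fin (n + 1)) k,
      (∀ i, ∃ d, 0 < d ∧ (h i).IsHomogeneous d) ∧
      (∀ i, ∀ y ∈ Y', h i ∈ y.asHomogeneousIdeal.toIdeal) ∧
      ∀ z ∈ X', z ∉ Y' → ∃ i, h i ∉ z.asHomogeneousIdeal.toIdeal := by
  obtain ⟨h, hh, hhY, hz⟩ := exists_hypersurfaces_aux k n X' Y' hX' hY' r hdim (r + 1)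
  refine ⟨h, hh, hhY, ?_⟩
  intro z hzX hzY
  by_contra hcon
  push Not at hcon
  have h1 := hz z hzX hzY hcon
  have h2 : ((r + 1 : ℕ) : ℕ∞) ≤ (r : ℕ∞) := le_trans le_add_self h1
  have h3 : r + 1 ≤ r := by exact_mod_cast h2
  omega

end Hyp

end Groth.Agent.Lib.Helper4.ProjCone
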