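import Mathlib
import Groth.Agent.Lib.Helper14FTDim
import Groth.Agent.Lib.Helper24CIHilb
import Groth.Agent.Lib.Helper27ProjHypConn
import Groth.Agent.Lib.Helper4ProjCone
import Groth.Agent.Lib.Helper4ProjCone5
import Groth.Agent.Lib.Helper4ProjCone7
import Groth.Agent.Lib.Helper4HilbFunA

/-!
# Growth of Hilbert functions of homogeneous ideals of `k[x_0..x_n]` (helper4)

* `hilb_eq_zero_of_dim_le_zero`: `dim R/J ≤ 0` ⇒ `hilb J m = 0` for `m ≫ 0`;
* `exists_hilb_le`: `dim R/J ≤ e + 1` ⇒ `hilb J m ≤ C (m+1)^e`;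
* `choose_le_hilb`: `dim R/I = d` ⇒ `C(d + m - 1, m) ≤ hilb I m`.
-/

set_option autoImplicit false
set_option linter.style.haveILetI false

universe u

open MvPolynomial

namespace Groth.Agent.Lib.Helper4.HilbFun

section General

/-- In a ring quotient of dimension `≤ 0`, comparable primes over `J` coincide. -/
theorem eq_of_le_of_dim_le_zero {A : Type*} [CommRing A] (J : Ideal A)
    (hdim : ringKrullDim (A ⧸ J) ≤ 0) (P Q : Ideal A) [hP : P.IsPrime] [hQ : Q.IsPrime]
    (hJP : J ≤ P) (hPQ : P ≤ Q) : P = Q := by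
  rw [ringKrullDim_quotient, Order.krullDim_nonpos_iff_forall_isMax] at hdim
  let a : PrimeSpectrum.zeroLocus (J : Set A) := ⟨⟨P, hP⟩, hJP⟩
  let b : PrimeSpectrum.zeroLocus (J : Set A) := ⟨⟨Q, hQ⟩, hJP.trans hPQ⟩
  have hab : a ≤ b := hPQ
  have hba : b ≤ a := hdim a hab
  exact le_antisymm hPQ hba

/-- Cutting by an element outside all non-maximal minimal primes drops the dimension. -/
theorem dim_quotient_sup_span_le {A : Type*} [CommRing A] (J : Ideal A) (f : A) (e : ℕ)
    (hdim : ringKrullDim (A ⧸ J) ≤ ((e + 1 : ℕ) : WithBot ℕ∞))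
    (hf : ∀ P ∈ J.minimalPrimes, f ∉ P ∨ P.IsMaximal) :
    ringKrullDim (A ⧸ (J ⊔ Ideal.span {f})) ≤ (e : WithBot ℕ∞) := by
  rw [ringKrullDim_quotient] at hdim ⊢
  rw [Order.krullDim]
  refine iSup_le fun p => ?_
  have hJle : J ≤ J ⊔ Ideal.span {f} := le_sup_left
  have hfmem : f ∈ p.head.1.asIdeal :=
    p.head.2 (Ideal.mem_sup_right (Ideal.subset_span rfl) : f ∈ J ⊔ Ideal.span {f})
  have hJhead : J ≤ p.head.1.asIdeal := fun x hx => p.head.2 (hJle hx)
  obtain ⟨P, hPmin, hPle⟩ := Ideal.exists_minimalPrimes_le hJhead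
  haveI := hPmin.1.1
  rcases hf P hPmin with hfP | hPmax
  · let ι : PrimeSpectrum.zeroLocus ((J ⊔ Ideal.span {f} : Ideal A) : Set A) →
        PrimeSpectrum.zeroLocus (J : Set A) := fun x => ⟨x.1, fun y hy => x.2 (hJle hy)⟩
    have hι : StrictMono ι := fun x y hxy => hxy
    let a : PrimeSpectrum.zeroLocus (J : Set A) := ⟨⟨P, hPmin.1.1⟩, hPmin.1.2⟩
    have ha : a < (p.map ι hι).head := by
      rw [LTSeries.head_map]
      refine lt_of_le_of_ne hPle ?_
      intro heq
      apply hfP
      have : P = p.head.1.asIdeal := congrArg (fun z => z.1.asIdeal) heq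
      rw [this]
      exact hfmem
    have hlen := Order.LTSeries.length_le_krullDim ((p.map ι hι).cons a ha)
    rw [RelSeries.cons_length, LTSeries.map_length] at hlen
    have h2 := hlen.trans hdim
    have h3 : p.length + 1 ≤ e + 1 := by exact_mod_cast h2
    exact_mod_cast Nat.le_of_succ_le_succ h3
  · have hlen0 : p.length = 0 := by
      by_contra hne
      have hpos : 0 < p.length := Nat.pos_of_ne_zero hne
      have hlt : p ⟨0, by omega⟩ < p ⟨1, by omega⟩ := p.strictMono (by simp [Fin.lt_def])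
      have hlt' : (p ⟨0, by omega⟩).1.asIdeal < (p ⟨1, by omega⟩).1.asIdeal := hlt
      have h0 : P = (p ⟨0, by omega⟩).1.asIdeal :=
        hPmax.eq_of_le (p ⟨0, by omega⟩).1.isPrime.ne_top hPle
      have h1 : P = (p ⟨1, by omega⟩).1.asIdeal :=
        hPmax.eq_of_le (p ⟨1, by omega⟩).1.isPrime.ne_top (h0 ▸ hlt'.le)
      rw [← h0, ← h1] at hlt'
      exact lt_irrefl _ hlt'
    rw [hlen0]
    exact_mod_cast Nat.zero_le e

end General

section Poly

variable (k : Type u) [Field k] (n : ℕ)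

theorem homogeneous_le_pow_idealOfVars (m : ℕ) (r : MvPolynomial (Fin (n + 1)) k)
    (hr : r ∈ homogeneousSubmodule (Fin (n + 1)) k m) :
    r ∈ idealOfVars (Fin (n + 1)) k ^ m := by
  rw [mem_pow_idealOfVars_iff]
  intro x hx
  by_contra hcon
  have hne : x.degree ≠ m := fun h => hcon h.ge
  exact (mem_support_iff.mp hx) (((mem_homogeneousSubmodule _ _).mp hr).coeff_eq_zero hne)

theorem hilb_top (m : ℕ) : hilb (⊤ : Ideal (MvPolynomial (Fin (n + 1)) k)) m = 0 := by
  haveI : Subsingleton (MvPolynomial (Fin (n + 1)) k ⧸ (⊤ : Ideal (MvPolynomial (Fin (n + 1)) k))) :=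
    Ideal.Quotient.subsingleton_iff.mpr rfl
  rw [hilb_eq_finrank_piece]
  exact Module.finrank_zero_of_subsingleton

/-- If `dim R/J ≤ 0` for a homogeneous ideal `J`, the Hilbert function vanishes eventually. -/
theorem hilb_eq_zero_of_dim_le_zero (J : Ideal (MvPolynomial (Fin (n + 1)) k))
    (hJ : J.IsHomogeneous (CohB1.polyGrading n k))
    (hdim : ringKrullDim (MvPolynomial (Fin (n + 1)) k ⧸ J) ≤ 0) :
    ∃ N : ℕ, ∀ m : ℕ, N ≤ m → hilb J m = 0 := by
  by_cases htop : J = ⊤
  · subst htop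
    exact ⟨0, fun m _ => hilb_top k n m⟩
  have hle : idealOfVars (Fin (n + 1)) k ≤ J.radical := by
    rw [Ideal.radical_eq_sInf]
    refine le_sInf ?_
    rintro P ⟨hJP, hP⟩
    have hcore : ((P.homogeneousCore (CohB1.polyGrading n k)).toIdeal).IsPrime :=
      hP.homogeneousCore
    have hJcore : J ≤ (P.homogeneousCore (CohB1.polyGrading n k)).toIdeal := by
      have h1 := Ideal.homogeneousCore_mono (CohB1.polyGrading n k) hJP
      have h2 : (J.homogeneousCore (CohB1.polyGrading n k)).toIdeal ≤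
          (P.homogeneousCore (CohB1.polyGrading n k)).toIdeal := h1
      rwa [hJ.toIdeal_homogeneousCore_eq_self] at h2
    have hcoreP : (P.homogeneousCore (CohB1.polyGrading n k)).toIdeal ≤ P :=
      Ideal.toIdeal_homogeneousCore_le _ P
    have hcore_irr := Groth.Agent.Lib.Helper4.ProjCone.le_irrelevant_of_isHomogeneous k n _
      (P.homogeneousCore (CohB1.polyGrading n k)).isHomogeneous hcore.ne_top
    haveI := (Groth.Agent.Lib.Helper4.ProjCone.irrelevant_isMaximal k n).isPrime
    have heq := eq_of_le_of_dim_le_zero J hdim _ _ hJcore hcore_irr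
    refine (Groth.Agent.Lib.Helper4.ProjCone.span_range_X_le_irrelevant k n).trans ?_
    rw [← heq]
    exact hcoreP
  obtain ⟨N, hN⟩ := Ideal.exists_pow_le_of_le_radical_of_fg hle (idealOfVars_fg _ _)
  refine ⟨N, fun m hm => ?_⟩
  have hbot : piece J m = ⊥ := by
    rw [eq_bot_iff]
    rintro _ ⟨r, hr, rfl⟩
    have hrJ : r ∈ J :=
      hN (Ideal.pow_le_pow_right hm (homogeneous_le_pow_idealOfVars k n m r hr))
    exact (Submodule.mem_bot k).mpr (Ideal.Quotient.eq_zero_iff_mem.mpr hrJ)
  rw [hilb_eq_finrank_piece, hbot, finrank_bot]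

/-- A form of positive degree cutting down the dimension of `R/J`. -/
theorem exists_form_dim_drop (J : Ideal (MvPolynomial (Fin (n + 1)) k))
    (hJ : J.IsHomogeneous (CohB1.polyGrading n k)) (e : ℕ)
    (hdim : ringKrullDim (MvPolynomial (Fin (n + 1)) k ⧸ J) ≤ ((e + 1 : ℕ) : WithBot ℕ∞)) :
    ∃ (δ : ℕ) (f : MvPolynomial (Fin (n + 1)) k), 0 < δ ∧ f ∈ CohB1.polyGrading n k δ ∧
      ringKrullDim (MvPolynomial (Fin (n + 1)) k ⧸ (J ⊔ Ideal.span {f})) ≤ (e : WithBot ℕ∞) := by
  classical
  have hfin := Ideal.finite_minimalPrimes_of_isNoetherianRing (MvPolynomial (Fin (n + 1)) k) J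
  set irr := (HomogeneousIdeal.irrelevant (CohB1.polyGrading n k)).toIdeal with hirr
  have hmax : irr.IsMaximal := Groth.Agent.Lib.Helper4.ProjCone.irrelevant_isMaximal k n
  set s : Finset (Ideal (MvPolynomial (Fin (n + 1)) k)) :=
    hfin.toFinset.filter (fun P => ¬ irr ≤ P) with hs
  have hs' : ∀ P ∈ s, P.IsPrime ∧ P.IsHomogeneous (CohB1.polyGrading n k) ∧ ¬ irr ≤ P := by
    intro P hP
    rw [hs, Finset.mem_filter, Set.Finite.mem_toFinset] at hP
    exact ⟨hP.1.1.1, Groth.Agent.Lib.Helper27ProjHypConn.isHomogeneous_of_mem_minimalPrimes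
      (CohB1.polyGrading n k) hJ hP.1, hP.2⟩
  obtain ⟨δ, f, hδ, hfδ, -, hav⟩ :=
    Groth.Agent.Lib.Helper4.ProjCone.homogeneous_prime_avoidance (CohB1.polyGrading n k) irr
      (HomogeneousIdeal.irrelevant (CohB1.polyGrading n k)).isHomogeneous le_rfl s.card s rfl hs'
  refine ⟨δ, f, hδ, hfδ, dim_quotient_sup_span_le J f e hdim ?_⟩
  intro P hP
  by_cases hle : irr ≤ P
  · right
    have : irr = P := hmax.eq_of_le hP.1.1.ne_top hle
    rw [← this]
    exact hmax
  · left
    apply hav P
    rw [hs, Finset.mem_filter, Set.Finite.mem_toFinset]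
    exact ⟨hP, hle⟩

theorem nat_bound_of_rec (g b : ℕ → ℕ) (δ : ℕ) (hδ : 0 < δ) (hb : Monotone b)
    (h : ∀ m, δ ≤ m → g m ≤ g (m - δ) + b m) :
    ∀ m, g m ≤ (Finset.range δ).sup g + m * b m := by
  intro m
  induction m using Nat.strong_induction_on with
  | _ m ih =>
    by_cases hm : m < δ
    · exact le_trans (Finset.le_sup (f := g) (Finset.mem_range.mpr hm)) (Nat.le_add_right _ _)
    · push Not at hm
      have h1 := h m hm
      have h2 := ih (m - δ) (by omega)
      have h3 : b (m - δ) ≤ b m := hb (Nat.sub_le _ _)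
      have h4 : (m - δ) * b (m - δ) ≤ (m - δ) * b m := Nat.mul_le_mul_left _ h3
      have h5 : (m - δ) * b m + b m ≤ m * b m := by
        have h6 : (m - δ) + 1 ≤ m := by omega
        calc (m - δ) * b m + b m = ((m - δ) + 1) * b m := by ring
          _ ≤ m * b m := Nat.mul_le_mul_right _ h6
      omega

theorem nat_bound_of_rec_zero (g b : ℕ → ℕ) (δ N : ℕ) (hδ : 0 < δ)
    (hb : ∀ m, N ≤ m → b m = 0) (h : ∀ m, δ ≤ m → g m ≤ g (m - δ) + b m) :
    ∀ m, g m ≤ (Finset.range (max N δ)).sup g := by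
  intro m
  induction m using Nat.strong_induction_on with
  | _ m ih =>
    by_cases hm : m < max N δ
    · exact Finset.le_sup (f := g) (Finset.mem_range.mpr hm)
    · push Not at hm
      have hmδ : δ ≤ m := le_trans (le_max_right _ _) hm
      have hmN : N ≤ m := le_trans (le_max_left _ _) hm
      have h1 := h m hmδ
      have h2 := ih (m - δ) (by omega)
      rw [hb m hmN] at h1
      omega

/-- **Upper bound**: if `dim R/J ≤ e + 1` then the Hilbert function of `R/J` is `O(m^e)`. -/
theorem exists_hilb_le : ∀ (e : ℕ) (J : Ideal (MvPolynomial (Fin (n + 1)) k)),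
    J.IsHomogeneous (CohB1.polyGrading n k) →
    ringKrullDim (MvPolynomial (Fin (n + 1)) k ⧸ J) ≤ ((e + 1 : ℕ) : WithBot ℕ∞) →
    ∃ C : ℕ, ∀ m : ℕ, hilb J m ≤ C * (m + 1) ^ e := by
  intro e
  induction e with
  | zero =>
    intro J hJ hdim
    obtain ⟨δ, f, hδ, hf, hdrop⟩ := exists_form_dim_drop k n J hJ 0 hdim
    have hJ' : (J ⊔ Ideal.span {f}).IsHomogeneous (CohB1.polyGrading n k) := by
      refine Ideal.IsHomogeneous.sup hJ ?_
      apply Ideal.homogeneous_span
      rintro _ rfl
      exact ⟨δ, hf⟩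
    have hdrop' : ringKrullDim (MvPolynomial (Fin (n + 1)) k ⧸ (J ⊔ Ideal.span {f})) ≤ 0 := by
      exact_mod_cast hdrop
    obtain ⟨N, hN⟩ := hilb_eq_zero_of_dim_le_zero k n _ hJ' hdrop'
    refine ⟨(Finset.range (max N δ)).sup (hilb J), fun m => ?_⟩
    have := nat_bound_of_rec_zero (hilb J) (hilb (J ⊔ Ideal.span {f})) δ N hδ hN
      (fun m hm => hilb_le_add J hJ f δ hf m hm) m
    simpa using this
  | succ e ih =>
    intro J hJ hdim
    obtain ⟨δ, f, hδ, hf, hdrop⟩ := exists_form_dim_drop k n J hJ (e + 1) hdim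
    have hJ' : (J ⊔ Ideal.span {f}).IsHomogeneous (CohB1.polyGrading n k) := by
      refine Ideal.IsHomogeneous.sup hJ ?_
      apply Ideal.homogeneous_span
      rintro _ rfl
      exact ⟨δ, hf⟩
    obtain ⟨C', hC'⟩ := ih _ hJ' hdrop
    have hmono : Monotone (fun m : ℕ => C' * (m + 1) ^ e) := by
      intro a b hab
      exact Nat.mul_le_mul_left _ (Nat.pow_le_pow_left (by omega) _)
    have hrec := nat_bound_of_rec (hilb J) (fun m : ℕ => C' * (m + 1) ^ e) δ hδ hmono
      (fun m hm => (hilb_le_add J hJ f δ hf m hm).trans (Nat.add_le_add_left (hC' m) _))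
    refine ⟨(Finset.range δ).sup (hilb J) + C', fun m => ?_⟩
    set M := (Finset.range δ).sup (hilb J) with hM
    have h1 : 1 ≤ (m + 1) ^ (e + 1) := Nat.one_le_pow _ _ (Nat.succ_pos m)
    have h2 : m * (C' * (m + 1) ^ e) ≤ C' * (m + 1) ^ (e + 1) := by
      rw [pow_succ]
      calc m * (C' * (m + 1) ^ e) = C' * ((m + 1) ^ e * m) := by ring
        _ ≤ C' * ((m + 1) ^ e * (m + 1)) :=
          Nat.mul_le_mul_left _ (Nat.mul_le_mul_left _ (Nat.le_succ m))
    calc hilb J m ≤ M + m * (C' * (m + 1) ^ e) := hrec m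
      _ ≤ M * (m + 1) ^ (e + 1) + C' * (m + 1) ^ (e + 1) :=
          Nat.add_le_add (Nat.le_mul_of_pos_right _ h1) h2
      _ = (M + C') * (m + 1) ^ (e + 1) := by ring

end Poly

section Lower

/-- A prime over `I` whose quotient has the same (finite) dimension as `A/I`. -/
theorem exists_prime_dim_eq {A : Type*} [CommRing A] (I : Ideal A) (d : ℕ)
    (hdim : ringKrullDim (A ⧸ I) = d) :
    ∃ P : Ideal A, P.IsPrime ∧ I ≤ P ∧ ringKrullDim (A ⧸ P) = d := by
  have hdim' := hdim
  rw [ringKrullDim_quotient] at hdim'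
  obtain ⟨l, hl⟩ := Order.le_krullDim_iff.mp hdim'.ge
  refine ⟨l.head.1.asIdeal, l.head.1.isPrime, l.head.2, le_antisymm ?_ ?_⟩
  · rw [← hdim]
    exact ringKrullDim_le_of_surjective (Ideal.Quotient.factor (l.head.2 : I ≤ l.head.1.asIdeal))
      (Ideal.Quotient.factor_surjective _)
  · rw [ringKrullDim_quotient]
    refine Order.le_krullDim_iff.mpr ⟨LTSeries.mk l.length
      (fun i => ⟨(l i).1, (LTSeries.head_le l i : l.head ≤ l i)⟩) ?_, hl⟩
    intro a b hab
    exact l.strictMono hab

variable {k : Type u} [Field k] {σ : Type} [Fintype σ]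

/-- Some `n = dim S/P` of the variables are algebraically independent modulo the prime `P`
(version with the variables indexed by a type in `Type`). -/
theorem exists_injective_algebraicIndependent' (P : Ideal (MvPolynomial σ k)) [P.IsPrime] (n : ℕ)
    (hdim : ringKrullDim (MvPolynomial σ k ⧸ P) = n) :
    ∃ j : Fin n → σ, Function.Injective j ∧
      AlgebraicIndependent k
        (fun a : Fin n => (Ideal.Quotient.mk P (X (j a)) : MvPolynomial σ k ⧸ P)) := by
  set A := MvPolynomial σ k ⧸ P with hA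
  obtain ⟨n', h1, h2, -⟩ := Groth.Agent.Lib.Helper14.FTDim.exists_dim k A
  have hn : n = n' := by
    rw [hdim] at h2
    exact_mod_cast h2
  subst hn
  set s : Set A := Set.range (fun i : σ => (Ideal.Quotient.mk P (X i) : A)) with hs
  have hadj : Algebra.adjoin k s = ⊤ := by
    have h := MvPolynomial.adjoin_range_X (R := k) (σ := σ)
    have h2 : (Algebra.adjoin k (Set.range (X : σ → MvPolynomial σ k))).map
        (Ideal.Quotient.mkₐ k P) = ⊤ := by
      rw [h, Algebra.map_top, AlgHom.range_eq_top]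
      exact Ideal.Quotient.mkₐ_surjective k P
    rw [AlgHom.map_adjoin, ← Set.range_comp] at h2
    exact h2
  haveI : Algebra.IsAlgebraic (Algebra.adjoin k s) A := by
    haveI : Algebra.IsIntegral (Algebra.adjoin k s) A := by
      apply Algebra.isIntegral_of_surjective
      intro a
      exact ⟨⟨a, by rw [hadj]; trivial⟩, rfl⟩
    exact Algebra.IsIntegral.isAlgebraic
  haveI : FaithfulSMul k A :=
    (faithfulSMul_iff_algebraMap_injective k A).mpr (algebraMap k A).injective
  obtain ⟨t, hts, ht⟩ := exists_isTranscendenceBasis_subset (R := k) s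
  haveI : Algebra.IsAlgebraic A (FractionRing A) :=
    IsLocalization.isAlgebraic _ (nonZeroDivisors A)
  have htL := ht.algebraMap_comp (A := FractionRing A)
  have hcard : Cardinal.mk t = n := by
    rw [htL.cardinalMk_eq_trdeg, h1]
  haveI : Finite t := by
    rw [← Cardinal.lt_aleph0_iff_finite, hcard]
    exact Cardinal.natCast_lt_aleph0
  haveI : Fintype t := Fintype.ofFinite t
  have hcard' : Fintype.card t = n := by
    rw [Cardinal.mk_fintype] at hcard
    exact_mod_cast hcard
  let e : Fin n ≃ t := (Fintype.equivFinOfCardEq hcard').symm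
  choose c hc using fun y : t => hts y.2
  refine ⟨fun a => c (e a), ?_, ?_⟩
  · intro a b hab
    apply e.injective
    apply Subtype.ext
    have ha := hc (e a)
    have hb := hc (e b)
    simp only at ha hb
    rw [← ha, ← hb]
    exact congrArg (fun i => (Ideal.Quotient.mk P (X i) : A)) hab
  · have h := ht.1.comp e e.injective
    convert h using 1
    funext a
    exact hc (e a)

/-- **Lower bound**: if `dim R/I = d` then `C(d + m - 1, m) ≤ hilb I m`. -/
theorem choose_le_hilb (I : Ideal (MvPolynomial σ k)) (d : ℕ)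
    (hdim : ringKrullDim (MvPolynomial σ k ⧸ I) = d) (m : ℕ) :
    (d + m - 1).choose m ≤ hilb I m := by
  obtain ⟨P, hP, hIP, hdimP⟩ := exists_prime_dim_eq I d hdim
  obtain ⟨j, -, hind⟩ := exists_injective_algebraicIndependent' P d hdimP
  let φ : MvPolynomial (Fin d) k →ₐ[k] MvPolynomial σ k ⧸ I :=
    (Ideal.Quotient.mkₐ k I).comp (rename j)
  have hφ : Function.Injective φ.toLinearMap := by
    have hcomp : (aeval (fun a : Fin d => (Ideal.Quotient.mk P (X (j a)) : MvPolynomial σ k ⧸ P))) =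
        (Ideal.Quotient.factorₐ k hIP).comp φ := by
      apply MvPolynomial.algHom_ext
      intro a
      simp [φ]
    have hinj : Function.Injective ((Ideal.Quotient.factorₐ k hIP).comp φ) := by
      rw [← hcomp]
      exact hind
    intro x y hxy
    apply hinj
    change Ideal.Quotient.factorₐ k hIP (φ x) = Ideal.Quotient.factorₐ k hIP (φ y)
    exact congrArg _ hxy
  have hle : (homogeneousSubmodule (Fin d) k m).map φ.toLinearMap ≤ piece I m := by
    rintro _ ⟨p, hp, rfl⟩
    refine ⟨rename j p, ?_, rfl⟩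
    exact (mem_homogeneousSubmodule _ _).mpr
      (IsHomogeneous.rename_isHomogeneous ((mem_homogeneousSubmodule _ _).mp hp))
  have h1 := Submodule.finrank_mono hle
  have h2 : Module.finrank k ↥((homogeneousSubmodule (Fin d) k m).map φ.toLinearMap) =
      Module.finrank k ↥(homogeneousSubmodule (Fin d) k m) :=
    (Submodule.equivMapOfInjective φ.toLinearMap hφ _).finrank_eq.symm
  rw [hilb_eq_finrank_piece, ← Groth.Agent.Lib.Helper24CIHilb.finrank_homog k d m, ← h2]
  exact h1

end Lower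

end Groth.Agent.Lib.Helper4.HilbFun
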