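import Mathlib

/-!
# Polynomial lemmas for Hilbert polynomials (helper4)

* `natDegree_le_of_abs_eval_le`: `|P(m)| ≤ C (m+1)^e` for all large naturals `m` ⇒ `deg P ≤ e`;
* `le_natDegree_of_le_eval`: `c m^e ≤ P(m)` with `c > 0` for all large naturals `m` ⇒ `e ≤ deg P`;
* `coeff_comp_X_add_C_top`, `coeff_comp_X_add_C_pred`: top coefficients of `P(X + r)`;
* `natDegree_sub_comp`, `leadingCoeff_sub_comp`: the difference `P(X) - P(X - d)`.
-/

set_option autoImplicit false
set_option linter.style.haveILetI false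

open Polynomial Filter Topology

namespace Groth.Agent.Lib.Helper4.HilbFun

theorem natDegree_le_of_abs_eval_le (P : ℚ[X]) (e : ℕ) (K : ℚ) (m₀ : ℕ)
    (h : ∀ m : ℕ, m₀ ≤ m → |P.eval (m : ℚ)| ≤ K * ((m : ℚ) + 1) ^ e) : P.natDegree ≤ e := by
  by_contra hcon
  push Not at hcon
  set Q : ℚ[X] := (X + C 1) ^ e with hQ
  have hQ0 : Q ≠ 0 := pow_ne_zero _ (X_add_C_ne_zero 1)
  have hQdeg : Q.degree = e := by
    rw [hQ, degree_pow, degree_X_add_C]
    simp
  have hP0 : P ≠ 0 := by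
    rintro rfl
    simp at hcon
  have hdeg : Q.degree < P.degree := by
    rw [hQdeg, degree_eq_natDegree hP0]
    exact_mod_cast hcon
  have ht := Polynomial.abs_div_tendsto_atTop_atTop_of_degree_gt P Q hdeg hQ0
  have ht' := ht.comp (tendsto_natCast_atTop_atTop (R := ℚ))
  have hev := (ht'.eventually (eventually_gt_atTop K)).and (eventually_ge_atTop m₀)
  obtain ⟨m, hm1, hm2⟩ := hev.exists
  have hQm : Q.eval (m : ℚ) = ((m : ℚ) + 1) ^ e := by
    simp [hQ]
  have hpos : (0 : ℚ) < ((m : ℚ) + 1) ^ e := by positivity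
  have h1 := h m hm2
  simp only [Function.comp_apply, hQm, abs_div, abs_of_pos hpos] at hm1
  rw [lt_div_iff₀ hpos] at hm1
  linarith

theorem le_natDegree_of_le_eval (P : ℚ[X]) (e : ℕ) (c : ℚ) (hc : 0 < c) (m₀ : ℕ)
    (h : ∀ m : ℕ, m₀ ≤ m → c * (m : ℚ) ^ e ≤ P.eval (m : ℚ)) : e ≤ P.natDegree := by
  by_contra hcon
  push Not at hcon
  have hdeg : P.degree < (X ^ e : ℚ[X]).degree := by
    rw [degree_X_pow]
    exact lt_of_le_of_lt degree_le_natDegree (by exact_mod_cast hcon)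
  have ht := Polynomial.div_tendsto_atTop_zero_of_degree_lt P (X ^ e) hdeg
  have ht' := ht.comp (tendsto_natCast_atTop_atTop (R := ℚ))
  have hev := ((ht'.eventually (gt_mem_nhds hc)).and (eventually_ge_atTop m₀)).and
    (eventually_ge_atTop 1)
  obtain ⟨m, ⟨hm1, hm2⟩, hm3⟩ := hev.exists
  have hpos : (0 : ℚ) < (m : ℚ) ^ e := by
    have : (0 : ℚ) < (m : ℚ) := by exact_mod_cast hm3
    positivity
  have h1 := h m hm2
  simp only [Function.comp_apply, eval_pow, eval_X] at hm1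
  rw [div_lt_iff₀ hpos] at hm1
  linarith

/-- top coefficient of `P(X + r)` -/
theorem coeff_comp_X_add_C_top {R : Type*} [CommRing R] (P : R[X]) (r : R) (n : ℕ)
    (hn : P.natDegree ≤ n) : (P.comp (X + C r)).coeff n = P.coeff n := by
  rw [← taylor_apply, taylor_coeff]
  have h0 : (hasseDeriv n P).natDegree < 1 := by
    have := natDegree_hasseDeriv_le P n
    omega
  rw [eval_eq_sum_range' h0, Finset.sum_range_one, hasseDeriv_coeff]
  simp

/-- second coefficient of `P(X + r)` -/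
theorem coeff_comp_X_add_C_pred {R : Type*} [CommRing R] (P : R[X]) (r : R) (n : ℕ)
    (hn : P.natDegree ≤ n + 1) :
    (P.comp (X + C r)).coeff n = P.coeff n + (n + 1 : ℕ) * P.coeff (n + 1) * r := by
  rw [← taylor_apply, taylor_coeff]
  have h0 : (hasseDeriv n P).natDegree < 2 := by
    have := natDegree_hasseDeriv_le P n
    omega
  rw [eval_eq_sum_range' h0, Finset.sum_range_succ, Finset.sum_range_one, hasseDeriv_coeff,
    hasseDeriv_coeff]
  simp [add_comm]

/-- the coefficients of `P(X) - P(X - d)` vanish from degree `deg P` on -/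
theorem coeff_sub_comp_eq_zero (P : ℚ[X]) (d : ℚ) (j : ℕ) (hj : P.natDegree ≤ j) :
    (P - P.comp (X - C d)).coeff j = 0 := by
  have h := coeff_comp_X_add_C_top P (-d) j hj
  rw [map_neg, ← sub_eq_add_neg] at h
  rw [coeff_sub, h, sub_self]

theorem coeff_sub_comp_pred (P : ℚ[X]) (d : ℚ) (D : ℕ) (hD : P.natDegree = D + 1) :
    (P - P.comp (X - C d)).coeff D = d * ((D + 1 : ℕ) * P.leadingCoeff) := by
  have h := coeff_comp_X_add_C_pred P (-d) D hD.le
  rw [map_neg, ← sub_eq_add_neg] at h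
  rw [coeff_sub, h, leadingCoeff, hD]
  ring

theorem natDegree_sub_comp (P : ℚ[X]) (d : ℚ) (hd : d ≠ 0) (D : ℕ) (hD : P.natDegree = D + 1) :
    (P - P.comp (X - C d)).natDegree = D := by
  have hP0 : P ≠ 0 := by
    rintro rfl
    simp at hD
  apply le_antisymm
  · rw [natDegree_le_iff_coeff_eq_zero]
    intro N hN
    exact coeff_sub_comp_eq_zero P d N (by omega)
  · apply le_natDegree_of_ne_zero
    rw [coeff_sub_comp_pred P d D hD]
    have h1 : P.leadingCoeff ≠ 0 := leadingCoeff_ne_zero.mpr hP0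
    have h2 : ((D + 1 : ℕ) : ℚ) ≠ 0 := by exact_mod_cast Nat.succ_ne_zero D
    exact mul_ne_zero hd (mul_ne_zero h2 h1)

theorem leadingCoeff_sub_comp (P : ℚ[X]) (d : ℚ) (hd : d ≠ 0) (D : ℕ) (hD : P.natDegree = D + 1) :
    (P - P.comp (X - C d)).leadingCoeff = d * ((D + 1 : ℕ) * P.leadingCoeff) := by
  rw [leadingCoeff, natDegree_sub_comp P d hd D hD, coeff_sub_comp_pred P d D hD]

end Groth.Agent.Lib.Helper4.HilbFun
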