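import Mathlib
import Groth.Agent.Lib.Helper28Unmixed
import Groth.Agent.Lib.Helper24CIHilb
import Groth.Agent.Lib.Helper27ProjHypConn
import Groth.Agent.Lib.Helper4ProjCone
import Groth.Agent.Lib.Helper4ProjCone5
import Groth.Agent.Lib.Helper4HilbFunA
import Groth.Agent.Lib.Helper4HilbFunC

/-!
# Hilbert function of a complete intersection of `n` hypersurfaces in `P^n` (helper4)

If `f_1, …, f_n` are forms of degrees `d_i ≥ 1` in `k[x_0..x_n]` with `dim S/(f) = 1` then they form a
regular sequence and the Hilbert function of `S/(f)` is eventually `∏ d_i`.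
-/

set_option autoImplicit false
set_option linter.style.haveILetI false

universe u

namespace Groth.Agent.Lib.Helper4.HilbFun

section Arith

theorem le_of_add_eq_of_le {a : ℕ∞} {D : WithBot ℕ∞} {N c : ℕ}
    (h : ((a : ℕ∞) : WithBot ℕ∞) + D = N) (hD : D ≤ ((c : ℕ) : WithBot ℕ∞)) :
    ((N - c : ℕ) : ℕ∞) ≤ a := by
  induction D using WithBot.recBotCoe with
  | bot => simp at h
  | coe D =>
    have h' : a + D = N := by exact_mod_cast h
    have hD' : D ≤ (c : ℕ∞) := by exact_mod_cast hD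
    have ha : a ≠ ⊤ := by rintro rfl; simp at h'
    have hD2 : D ≠ ⊤ := by rintro rfl; simp at h'
    lift a to ℕ using ha
    lift D to ℕ using hD2
    have : N - c ≤ a := by
      norm_cast at h' hD'
      omega
    exact_mod_cast this

end Arith

section P0

open Polynomial

/-- the polynomial `m ↦ C(n + m, n)` -/
noncomputable def P0 (n : ℕ) : ℚ[X] :=
  Polynomial.C (1 / (n.factorial : ℚ)) * (ascPochhammer ℚ n).comp (Polynomial.X + 1)

theorem P0_eval (n m : ℕ) : (P0 n).eval (m : ℚ) = ((n + m).choose m : ℚ) := by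
  have h1 : (ascPochhammer ℚ n).eval (((m + 1 : ℕ) : ℚ)) = ((m + 1).ascFactorial n : ℕ) :=
    ascPochhammer_nat_eq_natCast_ascFactorial ℚ (m + 1) n
  rw [Nat.ascFactorial_eq_factorial_mul_choose] at h1
  have hn : (n.factorial : ℚ) ≠ 0 := by exact_mod_cast n.factorial_ne_zero
  unfold P0
  rw [eval_mul, eval_C, eval_comp, eval_add, eval_X, eval_one]
  have h2 : ((m : ℚ) + 1) = ((m + 1 : ℕ) : ℚ) := by push_cast; ring
  rw [h2, h1, Nat.add_comm m n, Nat.choose_symm_add]
  push_cast
  field_simp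

theorem P0_natDegree (n : ℕ) : (P0 n).natDegree = n := by
  unfold P0
  have hn : (1 / (n.factorial : ℚ)) ≠ 0 := by
    have : (n.factorial : ℚ) ≠ 0 := by exact_mod_cast n.factorial_ne_zero
    positivity
  rw [natDegree_C_mul hn, natDegree_comp, ascPochhammer_natDegree]
  have : (Polynomial.X + 1 : ℚ[X]).natDegree = 1 := natDegree_X_add_C (1 : ℚ)
  rw [this, mul_one]

theorem P0_leadingCoeff (n : ℕ) : (n.factorial : ℚ) * (P0 n).leadingCoeff = 1 := by
  unfold P0
  have h1 : (Polynomial.X + 1 : ℚ[X]).natDegree ≠ 0 := by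
    have : (Polynomial.X + 1 : ℚ[X]).natDegree = 1 := natDegree_X_add_C (1 : ℚ)
    rw [this]
    exact one_ne_zero
  have h2 : (Polynomial.X + 1 : ℚ[X]).leadingCoeff = 1 := by
    have := leadingCoeff_X_add_C (1 : ℚ)
    simpa using this
  rw [leadingCoeff_mul, leadingCoeff_C, leadingCoeff_comp h1, h2, one_pow, mul_one,
    (monic_ascPochhammer ℚ n).leadingCoeff, mul_one]
  have hn : (n.factorial : ℚ) ≠ 0 := by exact_mod_cast n.factorial_ne_zero
  field_simp

end P0

section CI

open MvPolynomial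

variable (k : Type u) [Field k] (n : ℕ) (f : Fin n → MvPolynomial (Fin (n + 1)) k)

/-- the ideal generated by the first `r` forms -/
noncomputable def Jr (r : ℕ) : Ideal (MvPolynomial (Fin (n + 1)) k) :=
  Ideal.span (f '' {i : Fin n | i.val < r})

theorem Jr_zero : Jr k n f 0 = ⊥ := by
  unfold Jr
  simp

theorem Jr_n : Jr k n f n = Ideal.span (Set.range f) := by
  unfold Jr
  have : {i : Fin n | i.val < n} = Set.univ := by
    ext i
    simp
  rw [this, Set.image_univ]

theorem Jr_succ (r : ℕ) (hr : r < n) :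
    Jr k n f (r + 1) = Jr k n f r ⊔ Ideal.span {f ⟨r, hr⟩} := by
  unfold Jr
  rw [← Ideal.span_union]
  congr 1
  have : {i : Fin n | i.val < r + 1} = {i : Fin n | i.val < r} ∪ {⟨r, hr⟩} := by
    ext i
    simp only [Set.mem_ofPred_eq, Set.mem_union, Set.mem_singleton_iff, Fin.ext_iff]
    omega
  rw [this, Set.image_union, Set.image_singleton]

variable {k n f}
variable {d : Fin n → ℕ} (hd : ∀ i, 1 ≤ d i) (hf : ∀ i, (f i).IsHomogeneous (d i))

include hf in
theorem Jr_isHomogeneous (r : ℕ) : (Jr k n f r).IsHomogeneous (CohB1.polyGrading n k) := by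
  apply Ideal.homogeneous_span
  rintro _ ⟨i, -, rfl⟩
  exact ⟨d i, (mem_homogeneousSubmodule _ _).mpr (hf i)⟩

include hd hf in
theorem f_mem_irrelevant (i : Fin n) :
    f i ∈ (HomogeneousIdeal.irrelevant (CohB1.polyGrading n k)).toIdeal :=
  HomogeneousIdeal.mem_irrelevant_of_mem _ (i := d i) (hd i)
    ((mem_homogeneousSubmodule _ _).mpr (hf i))

include hd hf in
theorem le_height_Jr
    (hdim : ringKrullDim (MvPolynomial (Fin (n + 1)) k ⧸ Ideal.span (Set.range f)) = 1)
    (r : ℕ) (hr : r ≤ n) : (r : ℕ∞) ≤ (Jr k n f r).height := by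
  classical
  rw [Ideal.height_eq_inf_minimalPrimes]
  refine le_iInf₂ fun p hp => ?_
  haveI := hp.1.1
  have hphom := Groth.Agent.Lib.Helper27ProjHypConn.isHomogeneous_of_mem_minimalPrimes
    (CohB1.polyGrading n k) (Jr_isHomogeneous hf r) hp
  have hpirr := Groth.Agent.Lib.Helper4.ProjCone.le_irrelevant_of_isHomogeneous k n p hphom
    hp.1.1.ne_top
  set s : Finset (MvPolynomial (Fin (n + 1)) k) :=
    (Finset.range (n - r)).image (fun j => if h : r + j < n then f ⟨r + j, h⟩ else 0) with hs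
  have hscard : s.card ≤ n - r := by
    refine Finset.card_image_le.trans ?_
    rw [Finset.card_range]
  have hfs : ∀ i : Fin n, r ≤ i.val → f i ∈ Ideal.span (s : Set (MvPolynomial (Fin (n + 1)) k)) := by
    intro i hi
    apply Ideal.subset_span
    rw [hs, Finset.coe_image]
    refine ⟨i.val - r, ?_, ?_⟩
    · rw [Finset.coe_range, Set.mem_Iio]
      have := i.2
      omega
    · have h : r + (i.val - r) < n := by
        have := i.2
        omega
      beta_reduce
      rw [dif_pos h]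
      congr 1
      apply Fin.ext
      simp only
      omega
  have hsirr : Ideal.span (s : Set (MvPolynomial (Fin (n + 1)) k)) ≤
      (HomogeneousIdeal.irrelevant (CohB1.polyGrading n k)).toIdeal := by
    rw [Ideal.span_le, hs, Finset.coe_image]
    rintro _ ⟨j, -, rfl⟩
    by_cases h : r + j < n
    · beta_reduce
      rw [dif_pos h]
      exact f_mem_irrelevant hd hf _
    · beta_reduce
      rw [dif_neg h]
      exact Ideal.zero_mem _
  have hmax := Groth.Agent.Lib.Helper4.ProjCone.irrelevant_isMaximal k n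
  have hne : p ⊔ Ideal.span (s : Set (MvPolynomial (Fin (n + 1)) k)) ≠ ⊤ :=
    ne_top_of_le_ne_top hmax.ne_top (sup_le hpirr hsirr)
  obtain ⟨⟨q, hq⟩⟩ := Ideal.nonempty_minimalPrimes hne
  haveI := hq.1.1
  have h1 := Groth.Agent.Lib.Helper4.ProjCone.ringKrullDim_quotient_le_add_card k (n + 1) p q s hq
  have hJq : Ideal.span (Set.range f) ≤ q := by
    rw [Ideal.span_le]
    rintro _ ⟨i, rfl⟩
    by_cases hi : i.val < r
    · exact hq.1.2 (Ideal.mem_sup_left (hp.1.2 (Ideal.subset_span ⟨i, hi, rfl⟩)))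
    · exact hq.1.2 (Ideal.mem_sup_right (hfs i (not_lt.mp hi)))
  have h2 : ringKrullDim (MvPolynomial (Fin (n + 1)) k ⧸ q) ≤ 1 := by
    rw [← hdim]
    exact ringKrullDim_le_of_surjective (Ideal.Quotient.factor hJq)
      (Ideal.Quotient.factor_surjective _)
  have h3 := Groth.Agent.Lib.Helper4.ProjCone.height_add_dim k (n + 1) p
  have hD : ringKrullDim (MvPolynomial (Fin (n + 1)) k ⧸ p) ≤
      ((1 + (n - r) : ℕ) : WithBot ℕ∞) := by
    refine h1.trans ?_
    have h4 : ((s.card : ℕ) : WithBot ℕ∞) ≤ ((n - r : ℕ) : WithBot ℕ∞) := by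
      exact_mod_cast hscard
    calc ringKrullDim (MvPolynomial (Fin (n + 1)) k ⧸ q) + ((s.card : ℕ) : WithBot ℕ∞)
        ≤ 1 + ((n - r : ℕ) : WithBot ℕ∞) := add_le_add h2 h4
      _ = ((1 + (n - r) : ℕ) : WithBot ℕ∞) := by push_cast; rfl
  have h5 := le_of_add_eq_of_le h3 hD
  have h6 : n + 1 - (1 + (n - r)) = r := by omega
  rw [h6] at h5
  exact h5

include hd hf in
theorem Jr_regular
    (hdim : ringKrullDim (MvPolynomial (Fin (n + 1)) k ⧸ Ideal.span (Set.range f)) = 1)
    (r : ℕ) (hr : r < n) (g : MvPolynomial (Fin (n + 1)) k)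
    (hg : f ⟨r, hr⟩ * g ∈ Jr k n f r) : g ∈ Jr k n f r := by
  by_contra hgn
  haveI hk : LocCoh.IsCohenMacaulayRing k := Groth.Agent.Lib.Helper28.isCohenMacaulayRing_of_field k
  haveI hS : LocCoh.IsCohenMacaulayRing (MvPolynomial (Fin (n + 1)) k) :=
    Groth.Agent.Lib.Helper28.isCohenMacaulayRing_mvPolynomial_fin (n + 1)
  set xs : List (MvPolynomial (Fin (n + 1)) k) :=
    List.ofFn (fun i : Fin r => f ⟨i.val, lt_trans i.2 hr⟩) with hxs
  have hxsJ : Ideal.ofList xs = Jr k n f r := by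
    unfold Jr Ideal.ofList
    congr 1
    ext x
    simp only [Set.mem_ofPred_eq, hxs, List.mem_ofFn, Set.mem_image]
    constructor
    · rintro ⟨i, rfl⟩
      exact ⟨⟨i.val, lt_trans i.2 hr⟩, i.2, rfl⟩
    · rintro ⟨i, hi, rfl⟩
      exact ⟨⟨i.val, hi⟩, rfl⟩
  have hlen : xs.length = r := List.length_ofFn
  have hht : (xs.length : ℕ∞) ≤ (Ideal.ofList xs).height := by
    rw [hlen, hxsJ]
    exact le_height_Jr hd hf hdim r hr.le
  have hsm : (Ideal.ofList xs • ⊤ : Submodule (MvPolynomial (Fin (n + 1)) k)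
      (MvPolynomial (Fin (n + 1)) k)) = Jr k n f r := by
    rw [smul_eq_mul, Ideal.mul_top, hxsJ]
  have hx : (Submodule.Quotient.mk g : MvPolynomial (Fin (n + 1)) k ⧸
      (Ideal.ofList xs • ⊤ : Submodule (MvPolynomial (Fin (n + 1)) k)
        (MvPolynomial (Fin (n + 1)) k))) ≠ 0 := by
    intro h0
    rw [Submodule.Quotient.mk_eq_zero, hsm] at h0
    exact hgn h0
  obtain ⟨P, hP, hcolon⟩ := exists_le_isAssociatedPrime_of_isNoetherianRing
    (MvPolynomial (Fin (n + 1)) k) _ hx
  have hPh := Groth.Agent.Lib.Helper28.height_eq_length_of_mem_associatedPrimes_quot_ofList xs hht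
    (P := P) hP
  have hkill : ∀ a : MvPolynomial (Fin (n + 1)) k, a * g ∈ Jr k n f r → a ∈ P := by
    intro a ha
    apply hcolon
    rw [Submodule.mem_colon_singleton, Submodule.mem_bot, ← Submodule.Quotient.mk_smul,
      Submodule.Quotient.mk_eq_zero, hsm, smul_eq_mul]
    exact ha
  have hJP : Jr k n f (r + 1) ≤ P := by
    rw [Jr_succ k n f r hr]
    refine sup_le ?_ ?_
    · intro a ha
      exact hkill a (Ideal.mul_mem_right _ _ ha)
    · rw [Ideal.span_le, Set.singleton_subset_iff]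
      exact hkill _ hg
  have h1 := le_height_Jr hd hf hdim (r + 1) hr
  have h2 := Ideal.height_mono hJP
  rw [hPh, hlen] at h2
  have h3 : ((r + 1 : ℕ) : ℕ∞) ≤ (r : ℕ∞) := h1.trans h2
  have h4 : r + 1 ≤ r := by exact_mod_cast h3
  omega

/-- the degrees, extended by `1` to all naturals -/
def dd {n : ℕ} (d : Fin n → ℕ) (r : ℕ) : ℕ := if h : r < n then d ⟨r, h⟩ else 1

/-- the Hilbert polynomials of the partial intersections -/
noncomputable def Pr (n : ℕ) (d : Fin n → ℕ) : ℕ → Polynomial ℚ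
  | 0 => P0 n
  | r + 1 => Pr n d r - (Pr n d r).comp (Polynomial.X - Polynomial.C (dd d r : ℚ))

include hd in
theorem dd_pos (r : ℕ) : 1 ≤ dd d r := by
  unfold dd
  split_ifs with h
  · exact hd _
  · exact le_rfl

theorem hilb_bot (m : ℕ) :
    hilb (⊥ : Ideal (MvPolynomial (Fin (n + 1)) k)) m = (n + m).choose m := by
  have h := finrank_eq_hilb_add (⊥ : Ideal (MvPolynomial (Fin (n + 1)) k)) m
  have h0 : Submodule.restrictScalars k (⊥ : Ideal (MvPolynomial (Fin (n + 1)) k)) ⊓
      homogeneousSubmodule (Fin (n + 1)) k m = ⊥ := by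
    rw [Submodule.restrictScalars_bot, bot_inf_eq]
  rw [h0, finrank_bot, add_zero, Groth.Agent.Lib.Helper24CIHilb.finrank_homog k (n + 1) m] at h
  rw [← h]
  congr 1
  omega

include hd hf in
theorem hilb_Jr_eq
    (hdim : ringKrullDim (MvPolynomial (Fin (n + 1)) k ⧸ Ideal.span (Set.range f)) = 1) :
    ∀ r, r ≤ n → ∀ m, (∑ i ∈ Finset.range r, dd d i) ≤ m →
      (hilb (Jr k n f r) m : ℚ) = (Pr n d r).eval (m : ℚ) := by
  intro r
  induction r with
  | zero =>
    intro _ m _
    rw [Jr_zero, hilb_bot]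
    change _ = (P0 n).eval (m : ℚ)
    rw [P0_eval]
  | succ r ih =>
    intro hr m hm
    have hr' : r < n := hr
    rw [Finset.sum_range_succ] at hm
    have hdd : dd d r = d ⟨r, hr'⟩ := by
      unfold dd
      rw [dif_pos hr']
    have hdm : d ⟨r, hr'⟩ ≤ m := by
      rw [← hdd]
      exact le_trans (Nat.le_add_left _ _) hm
    have hrec := hilb_eq_add (Jr k n f r) (Jr_isHomogeneous hf r) (f ⟨r, hr'⟩) (d ⟨r, hr'⟩)
      ((mem_homogeneousSubmodule _ _).mpr (hf _)) (Jr_regular hd hf hdim r hr') m hdm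
    rw [← Jr_succ k n f r hr'] at hrec
    have h1 := ih hr'.le m (le_trans (Nat.le_add_right _ _) hm)
    have h2 := ih hr'.le (m - d ⟨r, hr'⟩) (by rw [← hdd]; omega)
    change _ = (Pr n d r - (Pr n d r).comp (Polynomial.X - Polynomial.C (dd d r : ℚ))).eval (m : ℚ)
    rw [Polynomial.eval_sub, Polynomial.eval_comp, Polynomial.eval_sub, Polynomial.eval_X,
      Polynomial.eval_C, ← h1, hdd, ← Nat.cast_sub hdm, ← h2, hrec]
    push_cast
    ring

include hd in
theorem Pr_spec : ∀ r, r ≤ n → (Pr n d r).natDegree = n - r ∧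
    ((n - r).factorial : ℚ) * (Pr n d r).leadingCoeff = ∏ i ∈ Finset.range r, (dd d i : ℚ) := by
  intro r
  induction r with
  | zero =>
    intro _
    refine ⟨P0_natDegree n, ?_⟩
    change ((n - 0).factorial : ℚ) * (P0 n).leadingCoeff = _
    rw [Nat.sub_zero, P0_leadingCoeff, Finset.prod_range_zero]
  | succ r ih =>
    intro hr
    have hr' : r < n := hr
    obtain ⟨h1, h2⟩ := ih hr'.le
    obtain ⟨D, hD⟩ : ∃ D, n - r = D + 1 := ⟨n - r - 1, by omega⟩
    have hD' : n - (r + 1) = D := by omega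
    rw [hD] at h1 h2
    have hd0 : (dd d r : ℚ) ≠ 0 := by
      have := dd_pos hd r
      have : 0 < dd d r := this
      exact_mod_cast this.ne'
    have hnat := natDegree_sub_comp (Pr n d r) (dd d r : ℚ) hd0 D h1
    have hlc := leadingCoeff_sub_comp (Pr n d r) (dd d r : ℚ) hd0 D h1
    change (Pr n d r - (Pr n d r).comp (Polynomial.X - Polynomial.C (dd d r : ℚ))).natDegree = _ ∧
      _ * (Pr n d r - (Pr n d r).comp (Polynomial.X - Polynomial.C (dd d r : ℚ))).leadingCoeff = _
    rw [hD', hnat, hlc, Finset.prod_range_succ, ← h2, Nat.factorial_succ]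
    refine ⟨rfl, ?_⟩
    push_cast
    ring

include hd hf in
/-- The Hilbert function of `S/(f_1, …, f_n)` is eventually `∏ d_i`. -/
theorem hilb_span_range_eventually
    (hdim : ringKrullDim (MvPolynomial (Fin (n + 1)) k ⧸ Ideal.span (Set.range f)) = 1) :
    ∃ m₀ : ℕ, ∀ m : ℕ, m₀ ≤ m → hilb (Ideal.span (Set.range f)) m = ∏ i : Fin n, d i := by
  refine ⟨∑ i ∈ Finset.range n, dd d i, fun m hm => ?_⟩
  have h1 := hilb_Jr_eq hd hf hdim n le_rfl m hm
  obtain ⟨h2, h3⟩ := Pr_spec hd n le_rfl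
  rw [Nat.sub_self] at h2 h3
  rw [Jr_n] at h1
  have h4 : Pr n d n = Polynomial.C ((Pr n d n).coeff 0) := Polynomial.eq_C_of_natDegree_eq_zero h2
  have h5 : (Pr n d n).leadingCoeff = (Pr n d n).coeff 0 := by
    rw [Polynomial.leadingCoeff, h2]
  rw [h4, Polynomial.eval_C, ← h5] at h1
  rw [Nat.factorial_zero, Nat.cast_one, one_mul] at h3
  rw [h3, Finset.prod_range (fun i => (dd d i : ℚ))] at h1
  have h6 : ∀ i : Fin n, (dd d i.val : ℚ) = (d i : ℚ) := by
    intro i
    unfold dd
    rw [dif_pos i.2]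
  rw [Finset.prod_congr rfl (fun i _ => h6 i)] at h1
  exact_mod_cast h1

end CI

end Groth.Agent.Lib.Helper4.HilbFun
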