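import Mathlib
import Groth.Agent.Lib.Helper5PolyLike
import Groth.Agent.Lib.Helper4HilbFunA
import Groth.Agent.Lib.Helper4HilbFunB

/-!
# Hilbert functions of homogeneous ideals are polynomial-like (helper4)

* `hilb_eq_colon_add`: `H_J(m) = H_{(J:f)}(m-δ) + H_{J+(f)}(m)` for a form `f` of degree `δ ≤ m`;
* `colon_isHomogeneous`;
* `hom_induction`: an induction principle for homogeneous ideals of `k[x_0..x_n]`;
* `isPolyLike_hfun`: `dim R/J ≤ s` ⇒ the Hilbert function of `J` is eventually polynomial of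
  degree `< s` (in the sense of helper5's `IsPolyLike`).
-/

set_option autoImplicit false
set_option linter.style.haveILetI false

universe u

open MvPolynomial
open Groth.Agent.Lib.Helper5.PolyLike

namespace Groth.Agent.Lib.Helper4.HilbFun

attribute [local instance] MvPolynomial.gradedAlgebra

section Colon

variable {k : Type u} [Field k] {σ : Type} [Fintype σ]

omit [Fintype σ] in
/-- `(J : f)` is homogeneous for `J` homogeneous and `f` a form. -/
theorem colon_isHomogeneous (J : Ideal (MvPolynomial σ k))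
    (hJ : J.IsHomogeneous (homogeneousSubmodule σ k))
    (f : MvPolynomial σ k) (δ : ℕ) (hf : f ∈ homogeneousSubmodule σ k δ) :
    (J.colon {f}).IsHomogeneous (homogeneousSubmodule σ k) := by
  intro i r hr
  rw [Submodule.mem_colon_singleton] at hr ⊢
  have h1 := hJ (i + δ) hr
  rw [smul_eq_mul, DirectSum.coe_decompose_mul_add_of_right_mem _ hf] at h1
  exact h1

omit [Fintype σ] in
theorem le_colon (J : Ideal (MvPolynomial σ k)) (f : MvPolynomial σ k) : J ≤ J.colon {f} := by
  intro r hr
  rw [Submodule.mem_colon_singleton]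
  exact J.mul_mem_right _ hr

/-- `H_J(m) = H_{(J:f)}(m-δ) + H_{J+(f)}(m)` for a form `f` of degree `δ ≤ m`. -/
theorem hilb_eq_colon_add (J : Ideal (MvPolynomial σ k))
    (hJ : J.IsHomogeneous (homogeneousSubmodule σ k))
    (f : MvPolynomial σ k) (δ : ℕ) (hf : f ∈ homogeneousSubmodule σ k δ) (m : ℕ) (hm : δ ≤ m) :
    hilb J m = hilb (J.colon {f}) (m - δ) + hilb (J ⊔ Ideal.span {f}) m := by
  rw [hilb_eq_ker_add J f m]
  have h3 : piece J m ⊓ LinearMap.ker (proj J f) = (piece J (m - δ)).map (mulf J f) :=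
    le_antisymm (piece_inf_ker_le J hJ f δ hf m hm) (map_mulf_le J f δ hf m hm)
  rw [h3]
  congr 1
  have hker : LinearMap.ker (mulf J f ∘ₗ (Ideal.Quotient.mkₐ k J).toLinearMap) =
      (J.colon {f}).restrictScalars k := by
    ext x
    rw [LinearMap.mem_ker, Submodule.restrictScalars_mem, Submodule.mem_colon_singleton]
    change Ideal.Quotient.mk J f * Ideal.Quotient.mk J x = 0 ↔ _
    rw [← map_mul, Ideal.Quotient.eq_zero_iff_mem, smul_eq_mul, mul_comm]
  have h := LinearMap.finrank_range_add_finrank_ker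
    ((mulf J f ∘ₗ (Ideal.Quotient.mkₐ k J).toLinearMap) ∘ₗ
      (homogeneousSubmodule σ k (m - δ)).subtype)
  have h1 : LinearMap.range ((mulf J f ∘ₗ (Ideal.Quotient.mkₐ k J).toLinearMap) ∘ₗ
      (homogeneousSubmodule σ k (m - δ)).subtype) = (piece J (m - δ)).map (mulf J f) := by
    rw [LinearMap.range_comp, Submodule.range_subtype, Submodule.map_comp]
  have h2 : Module.finrank k ↥(LinearMap.ker ((mulf J f ∘ₗ (Ideal.Quotient.mkₐ k J).toLinearMap) ∘ₗ
      (homogeneousSubmodule σ k (m - δ)).subtype)) =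
      Module.finrank k ↥((J.colon {f}).restrictScalars k ⊓ homogeneousSubmodule σ k (m - δ)) := by
    rw [← Submodule.finrank_map_subtype_eq (homogeneousSubmodule σ k (m - δ))
      (LinearMap.ker ((mulf J f ∘ₗ (Ideal.Quotient.mkₐ k J).toLinearMap) ∘ₗ
      (homogeneousSubmodule σ k (m - δ)).subtype)), LinearMap.ker_comp,
      Submodule.map_comap_subtype, hker, inf_comm]
  have h4 := finrank_eq_hilb_add (J.colon {f}) (m - δ)
  rw [h1, h2] at h
  omega

/-- The Hilbert function as an integer sequence. -/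
noncomputable def hfun (J : Ideal (MvPolynomial σ k)) : ℕ → ℤ := fun m => (hilb J m : ℤ)

omit [Fintype σ] in
theorem hfun_apply (J : Ideal (MvPolynomial σ k)) (m : ℕ) : hfun J m = (hilb J m : ℤ) := rfl

theorem ringKrullDim_quotient_anti {A : Type*} [CommRing A] {J J' : Ideal A} (h : J ≤ J') :
    ringKrullDim (A ⧸ J') ≤ ringKrullDim (A ⧸ J) :=
  ringKrullDim_le_of_surjective (Ideal.Quotient.factor h) (Ideal.Quotient.factor_surjective h)

end Colon

section Induction

variable (k : Type u) [Field k] (n : ℕ)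

/-- If all the variables lie in `J`, the Hilbert function vanishes in positive degrees. -/
theorem hilb_eq_zero_of_forall_X_mem (J : Ideal (MvPolynomial (Fin (n + 1)) k))
    (hX : ∀ i, (X i : MvPolynomial (Fin (n + 1)) k) ∈ J) (m : ℕ) (hm : 1 ≤ m) :
    hilb J m = 0 := by
  have hle : idealOfVars (Fin (n + 1)) k ≤ J := by
    rw [idealOfVars, Ideal.span_le]
    rintro _ ⟨i, rfl⟩
    exact hX i
  have hbot : piece J m = ⊥ := by
    rw [eq_bot_iff]
    rintro _ ⟨r, hr, rfl⟩
    have h1 : r ∈ idealOfVars (Fin (n + 1)) k ^ m := homogeneous_le_pow_idealOfVars k n m r hr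
    have h2 : idealOfVars (Fin (n + 1)) k ^ m ≤ idealOfVars (Fin (n + 1)) k := by
      calc idealOfVars (Fin (n + 1)) k ^ m ≤ idealOfVars (Fin (n + 1)) k ^ 1 :=
            Ideal.pow_le_pow_right hm
        _ = idealOfVars (Fin (n + 1)) k := pow_one _
    exact (Submodule.mem_bot k).mpr (Ideal.Quotient.eq_zero_iff_mem.mpr (hle (h2 h1)))
  rw [hilb_eq_finrank_piece, hbot, finrank_bot]

/-- An induction principle for homogeneous ideals of `k[x_0..x_n]`. -/
theorem hom_induction (C : Ideal (MvPolynomial (Fin (n + 1)) k) → Prop)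
    (ha : ∀ J : Ideal (MvPolynomial (Fin (n + 1)) k), J.IsHomogeneous (CohB1.polyGrading n k) →
      (∀ i, (X i : MvPolynomial (Fin (n + 1)) k) ∈ J) → C J)
    (hb : ∀ q : Ideal (MvPolynomial (Fin (n + 1)) k), q.IsHomogeneous (CohB1.polyGrading n k) →
      q.IsPrime → ∀ i, (X i : MvPolynomial (Fin (n + 1)) k) ∉ q →
        C (q ⊔ Ideal.span {X i}) → C q)
    (hc : ∀ J : Ideal (MvPolynomial (Fin (n + 1)) k), J.IsHomogeneous (CohB1.polyGrading n k) →
      ∀ (e : ℕ) (a : MvPolynomial (Fin (n + 1)) k), a ∈ CohB1.polyGrading n k e →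
        C (J ⊔ Ideal.span {a}) → C (J.colon {a}) → C J) :
    ∀ J : Ideal (MvPolynomial (Fin (n + 1)) k), J.IsHomogeneous (CohB1.polyGrading n k) → C J := by
  intro J
  induction J using WellFoundedGT.induction with
  | ind J ih =>
    intro hJ
    by_cases hX : ∀ i, (X i : MvPolynomial (Fin (n + 1)) k) ∈ J
    · exact ha J hJ hX
    by_cases hprime : J.IsPrime
    · push Not at hX
      obtain ⟨i, hi⟩ := hX
      refine hb J hJ hprime i hi (ih _ ?_ ?_)
      · refine lt_of_le_of_ne le_sup_left (fun h => hi ?_)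
        rw [h]
        exact Ideal.mem_sup_right (Ideal.subset_span rfl)
      · refine hJ.sup (Ideal.homogeneous_span _ _ ?_)
        rintro _ rfl
        exact ⟨1, isHomogeneous_X k i⟩
    · have hne : J ≠ ⊤ := by
        rintro rfl
        exact hX (fun i => trivial)
      have hnot : ¬ ∀ {x y : MvPolynomial (Fin (n + 1)) k},
          SetLike.IsHomogeneousElem (CohB1.polyGrading n k) x →
          SetLike.IsHomogeneousElem (CohB1.polyGrading n k) y → x * y ∈ J → x ∈ J ∨ y ∈ J :=
        fun h => hprime (hJ.isPrime_of_homogeneous_mem_or_mem hne h)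
      push Not at hnot
      obtain ⟨x, y, hx, hy, hxy, hxJ, hyJ⟩ := hnot
      obtain ⟨e, hxe⟩ := hx
      refine hc J hJ e x hxe (ih _ ?_ ?_) (ih _ ?_ ?_)
      · refine lt_of_le_of_ne le_sup_left (fun h => hxJ ?_)
        rw [h]
        exact Ideal.mem_sup_right (Ideal.subset_span rfl)
      · refine hJ.sup (Ideal.homogeneous_span _ _ ?_)
        rintro _ rfl
        exact ⟨e, hxe⟩
      · refine lt_of_le_of_ne (le_colon J x) (fun h => hyJ ?_)
        rw [h, Submodule.mem_colon_singleton, smul_eq_mul, mul_comm]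
        exact hxy
      · exact colon_isHomogeneous J hJ x e hxe

/-- **Hilbert–Serre** for homogeneous ideals of `k[x_0..x_n]`: if `dim R/J ≤ s` the Hilbert function
of `J` is eventually a polynomial of degree `< s`. -/
theorem isPolyLike_hfun : ∀ J : Ideal (MvPolynomial (Fin (n + 1)) k),
    J.IsHomogeneous (CohB1.polyGrading n k) → ∀ s : ℕ,
      ringKrullDim (MvPolynomial (Fin (n + 1)) k ⧸ J) ≤ (s : WithBot ℕ∞) →
        IsPolyLike s (hfun J) := by
  apply hom_induction k n
    (fun J => ∀ s : ℕ, ringKrullDim (MvPolynomial (Fin (n + 1)) k ⧸ J) ≤ (s : WithBot ℕ∞) →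
        IsPolyLike s (hfun J))
  · intro J _ hX s _
    apply isPolyLike_of_evZero
    refine ⟨1, fun m hm => ?_⟩
    rw [hfun_apply, hilb_eq_zero_of_forall_X_mem k n J hX m hm]
    rfl
  · intro q hq hqp i hi ih s hdim
    cases s with
    | zero =>
      rw [isPolyLike_zero_iff]
      obtain ⟨N, hN⟩ := hilb_eq_zero_of_dim_le_zero k n q hq (by simpa using hdim)
      refine ⟨N, fun m hm => ?_⟩
      rw [hfun_apply, hN m hm]
      rfl
    | succ t =>
      have hdim' : ringKrullDim (MvPolynomial (Fin (n + 1)) k ⧸ (q ⊔ Ideal.span {X i})) ≤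
          (t : WithBot ℕ∞) := by
        refine dim_quotient_sup_span_le q (X i) t hdim ?_
        intro P hP
        rw [Ideal.minimalPrimes_eq_subsingleton_self, Set.mem_singleton_iff] at hP
        left
        rw [hP]
        exact hi
      have h1 := ih t hdim'
      have h2 : Δ (hfun q) = Groth.Agent.Lib.Helper5.PolyLike.σ (hfun (q ⊔ Ideal.span {X i})) := by
        funext m
        rw [Δ_apply, σ_apply, hfun_apply, hfun_apply, hfun_apply]
        have h3 := hilb_eq_add q hq (X i) 1 (isHomogeneous_X k i)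
          (fun g hg => (hqp.mem_or_mem hg).resolve_left hi) (m + 1) (by omega)
        rw [Nat.add_sub_cancel] at h3
        rw [h3]
        push_cast
        ring
      rw [isPolyLike_succ_iff, h2]
      exact h1.shift
  · intro J hJ e a ha ih1 ih2 s hdim
    have hd1 : ringKrullDim (MvPolynomial (Fin (n + 1)) k ⧸ (J ⊔ Ideal.span {a})) ≤
        (s : WithBot ℕ∞) := (ringKrullDim_quotient_anti le_sup_left).trans hdim
    have hd2 : ringKrullDim (MvPolynomial (Fin (n + 1)) k ⧸ (J.colon {a})) ≤
        (s : WithBot ℕ∞) := (ringKrullDim_quotient_anti (le_colon J a)).trans hdim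
    have h1 := ih1 s hd1
    have h2 := ih2 s hd2
    have h3 : (Groth.Agent.Lib.Helper5.PolyLike.σ ^ e) (hfun J) =
        hfun (J.colon {a}) + (Groth.Agent.Lib.Helper5.PolyLike.σ ^ e) (hfun (J ⊔ Ideal.span {a})) := by
      funext m
      rw [Pi.add_apply, σ_pow_apply, σ_pow_apply, hfun_apply, hfun_apply, hfun_apply]
      have h4 := hilb_eq_colon_add J hJ a e ha (m + e) (by omega)
      rw [Nat.add_sub_cancel] at h4
      rw [h4]
      push_cast
      ring
    apply IsPolyLike.of_shift_pow e
    rw [h3]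
    exact h2.add (h1.shift_pow e)

end Induction

end Groth.Agent.Lib.Helper4.HilbFun
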