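import Mathlib

/-!
# Lengths of localizations of cyclic modules at primes (helper4)

`locLength J p` is the length of `(A/J)_p` over `A_p`.

* `locLength_eq_zero_of_not_le`: zero if `J ⊄ p`;
* `locLength_self`: `locLength p p = 1`;
* `locLength_eq_add`: `locLength J p = locLength (J : a) p + locLength (J + (a)) p`.
-/

set_option autoImplicit false
set_option linter.style.haveILetI false

universe u

namespace Groth.Agent.Lib.Helper4.HilbFun

variable {A : Type u} [CommRing A]

/-- The length of `(A/J)_p` over `A_p`. -/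
noncomputable def locLength (J p : Ideal A) [p.IsPrime] : ℕ∞ :=
  Module.length (Localization.AtPrime p) (LocalizedModule p.primeCompl (A ⧸ J))

theorem locLength_eq_zero_of_not_le (J p : Ideal A) [p.IsPrime] (h : ¬ J ≤ p) :
    locLength J p = 0 := by
  rw [locLength, Module.length_eq_zero_iff, LocalizedModule.subsingleton_iff]
  obtain ⟨s, hsJ, hsp⟩ := Set.not_subset.mp h
  intro m
  refine ⟨s, hsp, ?_⟩
  obtain ⟨r, rfl⟩ := Ideal.Quotient.mk_surjective m
  change Ideal.Quotient.mk J (s * r) = 0
  exact Ideal.Quotient.eq_zero_iff_mem.mpr (J.mul_mem_right _ hsJ)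

theorem locLength_self (p : Ideal A) [hp : p.IsPrime] : locLength p p = 1 := by
  rw [locLength, Module.length_eq_one_iff, isSimpleModule_iff_toSpanSingleton_surjective]
  refine ⟨?_, ?_⟩
  · rw [← not_subsingleton_iff_nontrivial, LocalizedModule.subsingleton_iff]
    intro h
    obtain ⟨r, hr, h0⟩ := h (Ideal.Quotient.mk p 1)
    have h1 : Ideal.Quotient.mk p (r * 1) = 0 := h0
    rw [mul_one, Ideal.Quotient.eq_zero_iff_mem] at h1
    exact hr h1
  · intro x hx y
    induction x using LocalizedModule.induction_on with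
    | h m s =>
      induction y using LocalizedModule.induction_on with
      | h m' s' =>
        obtain ⟨r, rfl⟩ := Ideal.Quotient.mk_surjective m
        obtain ⟨r', rfl⟩ := Ideal.Quotient.mk_surjective m'
        have hr : r ∈ p.primeCompl := by
          intro h
          apply hx
          rw [Ideal.Quotient.eq_zero_iff_mem.mpr h, LocalizedModule.zero_mk]
        refine ⟨Localization.mk (r' * s) ((⟨r, hr⟩ : p.primeCompl) * s'), ?_⟩
        rw [LinearMap.toSpanSingleton_apply, LocalizedModule.mk_smul_mk, LocalizedModule.mk_eq]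
        refine ⟨1, ?_⟩
        rw [one_smul, one_smul]
        change Ideal.Quotient.mk p (s' * ((r' * s) * r)) =
          Ideal.Quotient.mk p ((r * s' * s) * r')
        congr 1
        ring

theorem locLength_eq_add (J : Ideal A) (a : A) (p : Ideal A) [p.IsPrime] :
    locLength J p = locLength (J.colon {a}) p + locLength (J ⊔ Ideal.span {a}) p := by
  have hle1 : J.colon {a} ≤ Submodule.comap (LinearMap.lsmul A A a) J := by
    intro r hr
    rw [Submodule.mem_colon_singleton] at hr
    rw [Submodule.mem_comap, LinearMap.lsmul_apply, smul_eq_mul, mul_comm]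
    exact hr
  have hle2 : J ≤ Submodule.comap (LinearMap.id : A →ₗ[A] A) (J ⊔ Ideal.span {a}) := by
    rw [Submodule.comap_id]
    exact le_sup_left
  let f₁ : (A ⧸ J.colon {a}) →ₗ[A] (A ⧸ J) :=
    Submodule.mapQ (J.colon {a}) J (LinearMap.lsmul A A a) hle1
  let f₂ : (A ⧸ J) →ₗ[A] (A ⧸ (J ⊔ Ideal.span {a})) :=
    Submodule.mapQ J (J ⊔ Ideal.span {a}) LinearMap.id hle2
  have hf₁ : ∀ r : A, f₁ (Ideal.Quotient.mk _ r) = Ideal.Quotient.mk J (a * r) := fun r => rfl
  have hf₂ : ∀ r : A, f₂ (Ideal.Quotient.mk _ r) = Ideal.Quotient.mk _ r := fun r => rfl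
  have hinj : Function.Injective f₁ := by
    rw [injective_iff_map_eq_zero]
    intro x hx
    obtain ⟨r, rfl⟩ := Ideal.Quotient.mk_surjective x
    rw [hf₁, Ideal.Quotient.eq_zero_iff_mem] at hx
    rw [Ideal.Quotient.eq_zero_iff_mem, Submodule.mem_colon_singleton, smul_eq_mul, mul_comm]
    exact hx
  have hsurj : Function.Surjective f₂ := by
    intro y
    obtain ⟨r, rfl⟩ := Ideal.Quotient.mk_surjective y
    exact ⟨Ideal.Quotient.mk _ r, hf₂ r⟩
  have hex : Function.Exact f₁ f₂ := by
    intro y
    obtain ⟨r, rfl⟩ := Ideal.Quotient.mk_surjective y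
    rw [hf₂, Ideal.Quotient.eq_zero_iff_mem]
    constructor
    · intro hr
      obtain ⟨j, hj, g', hg', hsum⟩ := Submodule.mem_sup.mp hr
      obtain ⟨g, rfl⟩ := Ideal.mem_span_singleton'.mp hg'
      refine ⟨Ideal.Quotient.mk _ g, ?_⟩
      rw [hf₁, ← hsum, map_add, Ideal.Quotient.eq_zero_iff_mem.mpr hj, zero_add, mul_comm]
    · rintro ⟨x, hx⟩
      obtain ⟨g, rfl⟩ := Ideal.Quotient.mk_surjective x
      rw [hf₁] at hx
      have h1 : r - a * g ∈ J := by
        rw [← Ideal.Quotient.eq_zero_iff_mem, map_sub, hx, sub_self]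
      have h2 : r = (r - a * g) + g * a := by ring
      rw [h2]
      exact Ideal.add_mem _ (Ideal.mem_sup_left h1)
        (Ideal.mem_sup_right (Ideal.mem_span_singleton'.mpr ⟨g, rfl⟩))
  have hex' : Function.Exact (LocalizedModule.map p.primeCompl f₁)
      (LocalizedModule.map p.primeCompl f₂) := LocalizedModule.map_exact p.primeCompl f₁ f₂ hex
  rw [locLength, locLength, locLength]
  exact Module.length_eq_add_of_exact (LocalizedModule.map p.primeCompl f₁)
    (LocalizedModule.map p.primeCompl f₂) (LocalizedModule.map_injective _ _ hinj)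
    (LocalizedModule.map_surjective _ _ hsurj) hex'

end Groth.Agent.Lib.Helper4.HilbFun
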