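import Mathlib
import Groth.Agent.Lib.Helper5PolyLike
import Groth.Agent.Lib.Helper4HilbFunA
import Groth.Agent.Lib.Helper4HilbFunB
import Groth.Agent.Lib.Helper4HilbFunC
import Groth.Agent.Lib.Helper4HilbMultA
import Groth.Agent.Lib.Helper4HilbMultB

/-!
# Multiplicities of homogeneous ideals and the associativity formula (helper4)

`mult t J` is the eventual value of the `t`-th difference of the Hilbert function of `J`
(`= t! ·` the coefficient of degree `t` of the Hilbert polynomial).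

* `mult_eq_sum`: if `dim R/J ≤ t + 1` then
  `mult t J = ∑_{p ⊇ J, dim R/p = t+1} length((R/J)_p) · mult t p`;
* `mult_eq_of_hilbertPoly`: `mult t J = t! · coeff P t` for the Hilbert polynomial `P` of `J`
  when `deg P ≤ t`.
-/

set_option autoImplicit false
set_option linter.style.haveILetI false

universe u

open Groth.Agent.Lib.Helper5.PolyLike

namespace Groth.Agent.Lib.Helper4.HilbFun

section Evc

open scoped Classical in
/-- The eventual value of an eventually constant integer sequence (and `0` otherwise). -/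
noncomputable def evc (u : ℕ → ℤ) : ℤ :=
  if h : ∃ c : ℤ, ∃ N : ℕ, ∀ m, N ≤ m → u m = c then h.choose else 0

open scoped Classical in
theorem evc_eq {u : ℕ → ℤ} {c : ℤ} {N : ℕ} (h : ∀ m, N ≤ m → u m = c) : evc u = c := by
  have hex : ∃ c : ℤ, ∃ N : ℕ, ∀ m, N ≤ m → u m = c := ⟨c, N, h⟩
  rw [evc, dif_pos hex]
  obtain ⟨N', hN'⟩ := hex.choose_spec
  rw [← hN' (max N N') (le_max_right _ _), h (max N N') (le_max_left _ _)]

theorem evc_of_evZero {u : ℕ → ℤ} (h : EvZero u) : evc u = 0 := by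
  obtain ⟨N, hN⟩ := h
  exact evc_eq hN

theorem exists_eventually_const {u : ℕ → ℤ} {t : ℕ} (h : IsPolyLike (t + 1) u) :
    ∃ N, ∀ m, N ≤ m → (Δ ^ t) u m = evc ((Δ ^ t) u) := by
  rw [IsPolyLike, pow_succ_apply'] at h
  obtain ⟨N, hN⟩ := eventually_const_of_evZero_Δ h
  exact ⟨N, fun m hm => by rw [evc_eq hN]; exact hN m hm⟩

theorem withBot_le_of_le_succ_of_ne {x : WithBot ℕ∞} {t : ℕ}
    (h : x ≤ ((t + 1 : ℕ) : WithBot ℕ∞)) (hne : x ≠ ((t + 1 : ℕ) : WithBot ℕ∞)) :
    x ≤ (t : WithBot ℕ∞) := by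
  induction x using WithBot.recBotCoe with
  | bot => exact bot_le
  | coe a =>
    have ha : a ≤ ((t + 1 : ℕ) : ℕ∞) := by exact_mod_cast h
    obtain ⟨d, rfl⟩ := ENat.ne_top_iff_exists.mp
      (ne_top_of_le_ne_top (ENat.natCast_ne_top (t + 1)) ha)
    have h1 : d ≤ t + 1 := by exact_mod_cast ha
    have h2 : d ≠ t + 1 := by
      intro h
      apply hne
      rw [h]
      rfl
    have h3 : d ≤ t := by omega
    exact_mod_cast h3

theorem ringKrullDim_quotient_eq_coheight'' {R : Type*} [CommRing R] (q : PrimeSpectrum R) :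
    ringKrullDim (R ⧸ q.asIdeal) = ((Order.coheight q : ℕ∞) : WithBot ℕ∞) := by
  rw [ringKrullDim_quotient, Order.coheight_eq_krullDim_Ici]
  have h : PrimeSpectrum.zeroLocus (q.asIdeal : Set R) = Set.Ici q := by
    ext p
    rw [PrimeSpectrum.mem_zeroLocus, Set.mem_Ici, SetLike.coe_subset_coe,
      PrimeSpectrum.asIdeal_le_asIdeal]
  rw [h]

/-- Comparable primes with the same finite coheight coincide. -/
theorem eq_of_le_of_dim_eq {R : Type*} [CommRing R] (q p : Ideal R) [hq : q.IsPrime]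
    [hp : p.IsPrime] (hle : q ≤ p) (d : ℕ) (h1 : ringKrullDim (R ⧸ q) = (d : WithBot ℕ∞))
    (h2 : ringKrullDim (R ⧸ p) = (d : WithBot ℕ∞)) : q = p := by
  by_contra hne
  have hlt : (⟨q, hq⟩ : PrimeSpectrum R) < ⟨p, hp⟩ := lt_of_le_of_ne hle (fun h => hne (by
    have := congrArg PrimeSpectrum.asIdeal h
    exact this))
  have h3 := Order.coheight_add_one_le hlt
  have e1 := ringKrullDim_quotient_eq_coheight'' (⟨q, hq⟩ : PrimeSpectrum R)
  have e2 := ringKrullDim_quotient_eq_coheight'' (⟨p, hp⟩ : PrimeSpectrum R)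
  rw [h1] at e1
  rw [h2] at e2
  have e1' : Order.coheight (⟨q, hq⟩ : PrimeSpectrum R) = (d : ℕ∞) := by exact_mod_cast e1.symm
  have e2' : Order.coheight (⟨p, hp⟩ : PrimeSpectrum R) = (d : ℕ∞) := by exact_mod_cast e2.symm
  rw [e1', e2'] at h3
  have h4 : d + 1 ≤ d := by exact_mod_cast h3
  omega

end Evc

section PolyLink

open Polynomial

/-- The `t`-th difference of a sequence which agrees eventually with a polynomial `P` of degree
`≤ t` is eventually `t! · coeff P t`. -/
theorem Δ_pow_eq_of_eval_eq : ∀ (t : ℕ) (P : ℚ[X]) (h : ℕ → ℤ) (m₀ : ℕ), P.natDegree ≤ t →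
    (∀ m, m₀ ≤ m → P.eval (m : ℚ) = (h m : ℚ)) →
    ∀ m, m₀ ≤ m → (((Δ ^ t) h m : ℤ) : ℚ) = (t.factorial : ℚ) * P.coeff t := by
  intro t
  induction t with
  | zero =>
    intro P h m₀ hdeg hP m hm
    rw [pow_zero, Module.End.one_apply, ← hP m hm, eq_C_of_natDegree_le_zero hdeg]
    simp
  | succ t ih =>
    intro P h m₀ hdeg hP m hm
    have hdeg' : (P.comp (X + C 1) - P).natDegree ≤ t := by
      rw [natDegree_le_iff_coeff_eq_zero]
      intro N hN
      rw [coeff_sub, coeff_comp_X_add_C_top P 1 N (by omega), sub_self]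
    have hcoeff : (P.comp (X + C 1) - P).coeff t = ((t + 1 : ℕ) : ℚ) * P.coeff (t + 1) := by
      rw [coeff_sub, coeff_comp_X_add_C_pred P 1 t hdeg]
      ring
    have hP' : ∀ m, m₀ ≤ m → (P.comp (X + C 1) - P).eval (m : ℚ) = ((Δ h) m : ℚ) := by
      intro m hm
      rw [eval_sub, eval_comp, eval_add, eval_X, eval_C, Δ_apply, Int.cast_sub, ← hP m hm,
        ← hP (m + 1) (by omega)]
      push_cast
      rfl
    have h1 := ih (P.comp (X + C 1) - P) (Δ h) m₀ hdeg' hP' m hm
    rw [pow_succ_apply, h1, hcoeff, Nat.factorial_succ]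
    push_cast
    ring

end PolyLink

open MvPolynomial

attribute [local instance] MvPolynomial.gradedAlgebra

section Mult

variable {k : Type u} [Field k] {σ : Type} [Fintype σ]

/-- The multiplicity (in dimension `t`) of the graded ring `k[x_σ]/J`: the eventual value of the
`t`-th difference of its Hilbert function. -/
noncomputable def mult (t : ℕ) (J : Ideal (MvPolynomial σ k)) : ℤ := evc ((Δ ^ t) (hfun J))

omit [Fintype σ] in
theorem mult_eq_zero_of_evZero (t : ℕ) (J : Ideal (MvPolynomial σ k)) (h : EvZero (hfun J)) :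
    mult t J = 0 :=
  evc_of_evZero (h.diff_pow t)

/-- Additivity of the multiplicity along `0 → R/(J:a)(-e) → R/J → R/(J+(a)) → 0`. -/
theorem mult_eq_add (t : ℕ) (J : Ideal (MvPolynomial σ k))
    (hJ : J.IsHomogeneous (homogeneousSubmodule σ k)) (e : ℕ) (a : MvPolynomial σ k)
    (ha : a ∈ homogeneousSubmodule σ k e)
    (h1 : IsPolyLike (t + 1) (hfun (J ⊔ Ideal.span {a})))
    (h2 : IsPolyLike (t + 1) (hfun (J.colon {a}))) :
    mult t J = mult t (J.colon {a}) + mult t (J ⊔ Ideal.span {a}) := by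
  have h3 : (Groth.Agent.Lib.Helper5.PolyLike.σ ^ e) (hfun J) =
      hfun (J.colon {a}) + (Groth.Agent.Lib.Helper5.PolyLike.σ ^ e) (hfun (J ⊔ Ideal.span {a})) := by
    funext m
    rw [Pi.add_apply, σ_pow_apply, σ_pow_apply, hfun_apply, hfun_apply, hfun_apply]
    have h4 := hilb_eq_colon_add J hJ a e ha (m + e) (by omega)
    rw [Nat.add_sub_cancel] at h4
    rw [h4]
    push_cast
    ring
  have h5 : (Groth.Agent.Lib.Helper5.PolyLike.σ ^ e) ((Δ ^ t) (hfun J)) =
      (Δ ^ t) (hfun (J.colon {a})) +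
        (Groth.Agent.Lib.Helper5.PolyLike.σ ^ e) ((Δ ^ t) (hfun (J ⊔ Ideal.span {a}))) := by
    rw [← Δ_pow_σ_pow, h3, map_add, Δ_pow_σ_pow]
  obtain ⟨N₁, hN₁⟩ := exists_eventually_const h1
  obtain ⟨N₂, hN₂⟩ := exists_eventually_const h2
  unfold mult
  apply evc_eq (N := max N₁ N₂ + e)
  intro m hm
  have h6 := congrFun h5 (m - e)
  rw [Pi.add_apply, σ_pow_apply, σ_pow_apply, Nat.sub_add_cancel (by omega)] at h6
  rw [h6, hN₁ m (by omega), hN₂ (m - e) (by omega)]

end Mult

section Main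

variable (k : Type u) [Field k] (n : ℕ)

/-- If all variables lie in `J`, no prime `q ⊇ J` has `dim R/q ≥ 1`. -/
theorem not_le_of_forall_X_mem (J : Ideal (MvPolynomial (Fin (n + 1)) k))
    (hX : ∀ i, (X i : MvPolynomial (Fin (n + 1)) k) ∈ J)
    (q : Ideal (MvPolynomial (Fin (n + 1)) k)) (t : ℕ)
    (hq : ringKrullDim (MvPolynomial (Fin (n + 1)) k ⧸ q) = ((t + 1 : ℕ) : WithBot ℕ∞)) :
    ¬ J ≤ q := by
  intro hle
  have h1 := choose_le_hilb q (t + 1) hq 1
  have h2 := hilb_anti hle 1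
  rw [hilb_eq_zero_of_forall_X_mem k n J hX 1 le_rfl] at h2
  have h3 : (t + 1 + 1 - 1).choose 1 = t + 1 := by
    rw [Nat.choose_one_right]
    omega
  omega

open scoped Classical in
/-- **Associativity formula** for the multiplicities of homogeneous ideals. -/
theorem mult_eq_sum : ∀ J : Ideal (MvPolynomial (Fin (n + 1)) k),
    J.IsHomogeneous (CohB1.polyGrading n k) → ∀ t : ℕ,
    ringKrullDim (MvPolynomial (Fin (n + 1)) k ⧸ J) ≤ ((t + 1 : ℕ) : WithBot ℕ∞) →
    ∀ {ι : Type} [Fintype ι] (p : ι → Ideal (MvPolynomial (Fin (n + 1)) k))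
      [hp : ∀ i, (p i).IsPrime], Function.Injective p →
      (∀ q : Ideal (MvPolynomial (Fin (n + 1)) k), q.IsPrime → J ≤ q →
        ringKrullDim (MvPolynomial (Fin (n + 1)) k ⧸ q) = ((t + 1 : ℕ) : WithBot ℕ∞) →
          ∃ i, q = p i) →
      (∀ i, ringKrullDim (MvPolynomial (Fin (n + 1)) k ⧸ p i) = ((t + 1 : ℕ) : WithBot ℕ∞) →
        locLength J (p i) ≠ ⊤) ∧
      mult t J = ∑ i, if ringKrullDim (MvPolynomial (Fin (n + 1)) k ⧸ p i) =
          ((t + 1 : ℕ) : WithBot ℕ∞) then ((locLength J (p i)).toNat : ℤ) * mult t (p i) else 0 := by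
  apply hom_induction k n
    (fun J => ∀ t : ℕ,
    ringKrullDim (MvPolynomial (Fin (n + 1)) k ⧸ J) ≤ ((t + 1 : ℕ) : WithBot ℕ∞) →
    ∀ {ι : Type} [Fintype ι] (p : ι → Ideal (MvPolynomial (Fin (n + 1)) k))
      [hp : ∀ i, (p i).IsPrime], Function.Injective p →
      (∀ q : Ideal (MvPolynomial (Fin (n + 1)) k), q.IsPrime → J ≤ q →
        ringKrullDim (MvPolynomial (Fin (n + 1)) k ⧸ q) = ((t + 1 : ℕ) : WithBot ℕ∞) →
          ∃ i, q = p i) →
      (∀ i, ringKrullDim (MvPolynomial (Fin (n + 1)) k ⧸ p i) = ((t + 1 : ℕ) : WithBot ℕ∞) →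
        locLength J (p i) ≠ ⊤) ∧
      mult t J = ∑ i, if ringKrullDim (MvPolynomial (Fin (n + 1)) k ⧸ p i) =
          ((t + 1 : ℕ) : WithBot ℕ∞) then ((locLength J (p i)).toNat : ℤ) * mult t (p i) else 0)
  · -- all variables in `J`
    intro J _ hX t _ ι _ p hp _ _
    have hzero : ∀ i, ringKrullDim (MvPolynomial (Fin (n + 1)) k ⧸ p i) =
        ((t + 1 : ℕ) : WithBot ℕ∞) → locLength J (p i) = 0 := fun i hi =>
      locLength_eq_zero_of_not_le J (p i) (not_le_of_forall_X_mem k n J hX (p i) t hi)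
    refine ⟨fun i hi => by rw [hzero i hi]; exact ENat.zero_ne_top, ?_⟩
    rw [mult_eq_zero_of_evZero t J ⟨1, fun m hm => by
      rw [hfun_apply, hilb_eq_zero_of_forall_X_mem k n J hX m hm]; rfl⟩]
    symm
    apply Finset.sum_eq_zero
    intro i _
    split_ifs with hi
    · rw [hzero i hi]
      simp
    · rfl
  · -- prime ideals
    intro q hq hqp _ _ _ t hdim ι _ p hp hinj hcov
    by_cases hd : ringKrullDim (MvPolynomial (Fin (n + 1)) k ⧸ q) = ((t + 1 : ℕ) : WithBot ℕ∞)
    · obtain ⟨i₀, hi₀⟩ := hcov q hqp le_rfl hd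
      have hother : ∀ i, i ≠ i₀ → ringKrullDim (MvPolynomial (Fin (n + 1)) k ⧸ p i) =
          ((t + 1 : ℕ) : WithBot ℕ∞) → locLength q (p i) = 0 := by
        intro i hne hi
        apply locLength_eq_zero_of_not_le
        intro hle
        have := eq_of_le_of_dim_eq q (p i) hle (t + 1) hd hi
        exact hne (hinj (by rw [← this, hi₀]))
      have hself : locLength q (p i₀) = 1 := by
        have h := locLength_self q
        convert h using 2
        · exact hi₀.symm
      refine ⟨fun i hi => ?_, ?_⟩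
      · by_cases hii : i = i₀
        · rw [hii, hself]
          exact ENat.one_ne_top
        · rw [hother i hii hi]
          exact ENat.zero_ne_top
      · rw [Finset.sum_eq_single i₀]
        · rw [if_pos (by rw [← hi₀]; exact hd), hself, ← hi₀]
          simp
        · intro i _ hii
          split_ifs with hi
          · rw [hother i hii hi]
            simp
          · rfl
        · intro h
          exact absurd (Finset.mem_univ i₀) h
    · have hdt : ringKrullDim (MvPolynomial (Fin (n + 1)) k ⧸ q) ≤ (t : WithBot ℕ∞) :=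
        withBot_le_of_le_succ_of_ne hdim hd
      have hzero : ∀ i, ringKrullDim (MvPolynomial (Fin (n + 1)) k ⧸ p i) =
          ((t + 1 : ℕ) : WithBot ℕ∞) → locLength q (p i) = 0 := by
        intro i hi
        apply locLength_eq_zero_of_not_le
        intro hle
        have h1 := (ringKrullDim_quotient_anti hle).trans hdt
        rw [hi] at h1
        have h2 : t + 1 ≤ t := by exact_mod_cast h1
        omega
      refine ⟨fun i hi => by rw [hzero i hi]; exact ENat.zero_ne_top, ?_⟩
      have hm0 : mult t q = 0 := evc_of_evZero (isPolyLike_hfun k n q hq t hdt)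
      rw [hm0]
      symm
      apply Finset.sum_eq_zero
      intro i _
      split_ifs with hi
      · rw [hzero i hi]
        simp
      · rfl
  · -- additivity
    intro J hJ e a ha ih1 ih2 t hdim ι _ p hp hinj hcov
    have hd1 : ringKrullDim (MvPolynomial (Fin (n + 1)) k ⧸ (J ⊔ Ideal.span {a})) ≤
        ((t + 1 : ℕ) : WithBot ℕ∞) := (ringKrullDim_quotient_anti le_sup_left).trans hdim
    have hd2 : ringKrullDim (MvPolynomial (Fin (n + 1)) k ⧸ (J.colon {a})) ≤
        ((t + 1 : ℕ) : WithBot ℕ∞) := (ringKrullDim_quotient_anti (le_colon J a)).trans hdim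
    obtain ⟨fin1, eq1⟩ := ih1 t hd1 p hinj
      (fun q hqp hle hq => hcov q hqp (le_sup_left.trans hle) hq)
    obtain ⟨fin2, eq2⟩ := ih2 t hd2 p hinj
      (fun q hqp hle hq => hcov q hqp ((le_colon J a).trans hle) hq)
    refine ⟨fun i hi => ?_, ?_⟩
    · rw [locLength_eq_add J a (p i)]
      exact WithTop.add_ne_top.mpr ⟨fin2 i hi, fin1 i hi⟩
    · rw [mult_eq_add t J hJ e a ha (isPolyLike_hfun k n _ (hJ.sup (Ideal.homogeneous_span _ _ (by
          rintro _ rfl
          exact ⟨e, ha⟩))) (t + 1) hd1)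
        (isPolyLike_hfun k n _ (colon_isHomogeneous J hJ a e ha) (t + 1) hd2), eq1, eq2,
        ← Finset.sum_add_distrib]
      apply Finset.sum_congr rfl
      intro i _
      split_ifs with hi
      · rw [locLength_eq_add J a (p i), ENat.toNat_add (fin2 i hi) (fin1 i hi)]
        push_cast
        ring
      · simp

end Main


section Link

variable {k : Type u} [Field k] {σ : Type} [Fintype σ]

omit [Fintype σ] in
/-- `mult t J = t! · coeff P t` for the Hilbert polynomial `P` of `J`, if `deg P ≤ t`. -/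
theorem mult_eq_of_hilbertPoly (J : Ideal (MvPolynomial σ k)) (P : Polynomial ℚ) (t : ℕ)
    (hdeg : P.natDegree ≤ t) (m₀ : ℕ)
    (hP : ∀ m, m₀ ≤ m → Polynomial.eval (m : ℚ) P = (hilb J m : ℚ)) :
    ((mult t J : ℤ) : ℚ) = (t.factorial : ℚ) * Polynomial.coeff P t := by
  have h1 := Δ_pow_eq_of_eval_eq t P (hfun J) m₀ hdeg (fun m hm => by
    rw [hP m hm, hfun_apply]
    push_cast
    rfl)
  have h2 : mult t J = (Δ ^ t) (hfun J) m₀ := by
    unfold mult
    apply evc_eq (N := m₀)
    intro m hm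
    have := (h1 m hm).trans (h1 m₀ le_rfl).symm
    exact_mod_cast this
  rw [h2]
  exact h1 m₀ le_rfl

end Link

end Groth.Agent.Lib.Helper4.HilbFun
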