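import Groth.Agent.Lib.Helper11EffCartFrame
import Groth.Agent.Lib.Helper23SecTw6
import Groth.Agent.Lib.Helper18Cart1

/-!
# The ideal module of a power of an effective Cartier ideal (helper4; S2942)

* `nonempty_idealMod_pow_iso` : for an effective Cartier ideal `I`, the ideal module of `I ^ n` is the `n`-th
  tensor power of the ideal module of `I`.
-/

set_option autoImplicit false
set_option linter.unusedSectionVars false
set_option linter.style.haveILetI false
set_option backward.isDefEq.respectTransparency.types false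
universe u
open CategoryTheory CategoryTheory.Limits AlgebraicGeometry TopologicalSpace Opposite

namespace Groth.Agent.Lib.Helper4.HqNeg

open Groth.Agent.Lib.Helper23.SecTw Groth.Agent.Lib.Helper6 Groth.Agent.Lib.Helper23.GenLocus
  Groth.Agent.Lib.Helper23.GenNear Groth.Agent.Lib.Helper11.EffCartFrame

theorem nonempty_idealMod_pow_iso {X : Scheme.{u}} (I : X.IdealSheafData) (hI : BlowUp.IsEffCartierIdeal I)
    (n : ℕ) : Nonempty (ClSub.idealMod (I ^ n) ≅ CohB1.tensorPow (ClSub.idealMod I) n) := by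
  choose U hxU f hf hIf using hI
  have hα : ∀ x : X, ∃ α : Γ(ClSub.idealMod I, (U x).1), isec I (U x).1 α = f x ∧
      IsGen (ClSub.idealMod I) (U x).1 α := fun x =>
    exists_isGen_idealMod I (U x).2 (f x) (hf x) (hIf x)
  choose α hαf hαgen using hα
  have ha : ∀ x : X, ∃ a : Γ(ClSub.idealMod (I ^ n), (U x).1), isec (I ^ n) (U x).1 a = f x ^ n ∧
      IsGen (ClSub.idealMod (I ^ n)) (U x).1 a := fun x =>
    exists_isGen_idealMod (I ^ n) (U x).2 (f x ^ n) (pow_mem (hf x) n) (by
      rw [Scheme.IdealSheafData.ideal_pow]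
      change (I.ideal (U x)) ^ n = _
      rw [hIf x, Ideal.span_singleton_pow])
  choose a haf hagen using ha
  obtain ⟨Φ, -⟩ := exists_iso_of_frames (ClSub.idealMod (I ^ n)) (CohB1.tensorPow (ClSub.idealMod I) n)
    (fun x => (U x).1) (fun x => ⟨x, hxU x⟩) a (fun x => pw (ClSub.idealMod I) (U x).1 (α x) n) hagen
    (fun x => isGen_pw _ _ _ (hαgen x) n) (by
      intro x y g hg
      obtain ⟨u, hu⟩ : ∃ u, u = coef (hαgen y) inf_le_right
        (res (ClSub.idealMod I) (inf_le_left : (U x).1 ⊓ (U y).1 ≤ (U x).1) (α x)) := ⟨_, rfl⟩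
      have hspec : u • res (ClSub.idealMod I) (inf_le_right : (U x).1 ⊓ (U y).1 ≤ (U y).1) (α y) =
          res (ClSub.idealMod I) (inf_le_left : (U x).1 ⊓ (U y).1 ≤ (U x).1) (α x) := by
        rw [hu]; exact coef_spec (hαgen y) inf_le_right _
      -- functions
      have h1 : resf (inf_le_left : (U x).1 ⊓ (U y).1 ≤ (U x).1) (f x) =
          u * resf (inf_le_right : (U x).1 ⊓ (U y).1 ≤ (U y).1) (f y) := by
        have := congrArg (isec I ((U x).1 ⊓ (U y).1)) hspec
        rw [isec_smul, isec_res, isec_res, hαf, hαf] at this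
        exact this.symm
      have h2 : resf (inf_le_left : (U x).1 ⊓ (U y).1 ≤ (U x).1) (f x ^ n) =
          g * resf (inf_le_right : (U x).1 ⊓ (U y).1 ≤ (U y).1) (f y ^ n) := by
        have := congrArg (isec (I ^ n) ((U x).1 ⊓ (U y).1)) hg
        rw [isec_smul, isec_res, isec_res, haf, haf] at this
        exact this
      have h3 : (g - u ^ n) • res (ClSub.idealMod (I ^ n)) (inf_le_right : (U x).1 ⊓ (U y).1 ≤ (U y).1) (a y) =
          (0 : Γ(X, (U x).1 ⊓ (U y).1)) • res (ClSub.idealMod (I ^ n)) (inf_le_right : (U x).1 ⊓ (U y).1 ≤ (U y).1) (a y) := by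
        apply isec_injective (I ^ n)
        have hp : ∀ {V : X.Opens} (h : (U x).1 ⊓ (U y).1 ≤ V) (r : Γ(X, V)), resf h (r ^ n) = resf h r ^ n :=
          fun h r => map_pow (X.presheaf.map (homOfLE h).op).hom r n
        rw [isec_smul, isec_smul, isec_res, haf, zero_mul, sub_mul, ← h2, hp, hp, h1, mul_pow, sub_self]
      have h4 : g = u ^ n := sub_eq_zero.mp ((hagen y _ inf_le_right).1 h3)
      rw [res_pw, res_pw, ← hspec, pw_smul, h4])
  exact ⟨Φ⟩

end Groth.Agent.Lib.Helper4.HqNeg
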