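import Groth.Agent.Lib.Helper4HqNegC
import Groth.Agent.Lib.Helper4HqNegP
import Groth.Agent.Lib.Helper21ExtCartier2
import Groth.Agent.Lib.Helper23UnitStalk

/-!
# Cohomology of the thickenings of an ample divisor (helper4; S2942)
-/

set_option autoImplicit false
set_option linter.unusedSectionVars false
set_option linter.style.haveILetI false
set_option backward.isDefEq.respectTransparency.types false
universe u
open CategoryTheory CategoryTheory.Limits AlgebraicGeometry TopologicalSpace Opposite Abelian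

namespace Groth.Agent.Lib.Helper4.HqNeg

open Groth.Agent.Lib.Helper23.QCohLocal Groth.Agent.Lib.Helper27CohFin

section LES

variable {X : Scheme.{u}} (S : ShortComplex X.Modules) (hS : S.ShortExact)

include hS

theorem injective_H_g (i : ℕ) (h1 : Subsingleton (Coh.HH X S.X₁ i)) :
    Function.Injective (Sheaf.H.map ((SheafOfModules.toSheaf X.ringCatSheaf).map S.g) i) := by
  rw [injective_iff_map_eq_zero]
  intro x hx
  have hS' := shortExact_toAbF S hS
  obtain ⟨y, hy⟩ := Ext.covariant_sequence_exact₂ _ hS' (n := i) x hx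
  have hy0 : y = 0 := Subsingleton.elim (α := Coh.HH X S.X₁ i) y 0
  rw [← hy, hy0]
  exact Ext.zero_comp (n := i) _ (Ext.mk₀ ((toAbF X).map S.f)) i (add_zero i)

theorem surjective_H_g (i : ℕ) (h1 : Subsingleton (Coh.HH X S.X₁ (i + 1))) :
    Function.Surjective (Sheaf.H.map ((SheafOfModules.toSheaf X.ringCatSheaf).map S.g) i) := fun x =>
  exact_delta S hS i x (Subsingleton.elim (α := Coh.HH X S.X₁ (i + 1)) _ _)

end LES

open Groth.Agent.Lib.Helper23.AmpleFam2 Groth.Agent.Lib.Helper23.TensorUnit Groth.Agent.Lib.Helper4.Dev in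
theorem main_S2942 (k : Type u) [Field k] (X : Scheme.{u}) [X.Over (Spec (CommRingCat.of k))]
    [IsProper (X ↘ (Spec (CommRingCat.of k)))] (𝓘 : X.IdealSheafData) (L : X.Modules)
    (hL : ClSub.IsInverseOf L (ClSub.idealMod 𝓘)) (hamp : CohB1.IsAmple L) (n : ℕ)
    (hdepth : ∀ x : X, IsClosed ({x} : Set X) →
      (n : ℕ∞) < LocCoh.depth (X.presheaf.stalk x) (X.presheaf.stalk x)) :
    ∃ m₀ : ℕ, ∀ m : ℕ, m₀ ≤ m →
      (∀ i : ℕ, i < n → Function.Bijective (Sheaf.H.map ((SheafOfModules.toSheaf X.ringCatSheaf).map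
        (ClSub.toSubscheme (𝓘 ^ (m + 1)))) i)) ∧
      Function.Injective (Sheaf.H.map ((SheafOfModules.toSheaf X.ringCatSheaf).map
        (ClSub.toSubscheme (𝓘 ^ (m + 1)))) n) := by
  haveI : IsNoetherian X := Groth.Agent.Lib.Helper4.CurveRR.isNoetherian_of_proper k X
  obtain ⟨e₀⟩ := hL
  have hMinv : PicF.IsInvertible (ClSub.idealMod 𝓘) :=
    Groth.Agent.Lib.Helper2.TensorInv.isInvertible_of_tensor_iso (ClSub.idealMod 𝓘) L
      (tensorBraid (ClSub.idealMod 𝓘) L ≪≫ e₀)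
  have hEC := Groth.Agent.Helper18Cart.isEffCartier_of_isInvertible 𝓘 hMinv
  have hO := isCoh_structureModule X
  have hd : ∀ q : ℕ, q ≤ n → ∀ x : X, IsClosed ({x} : Set X) → ((q + 1 : ℕ) : ℕ∞) ≤
      LocCoh.depth (X.presheaf.stalk x) ((Coh.structureModule X).presheaf.stalk x) := by
    intro q hq x hx
    have h1 : LocCoh.depth (X.presheaf.stalk x) (X.presheaf.stalk x) =
        LocCoh.depth (X.presheaf.stalk x) ((Coh.structureModule X).presheaf.stalk x) :=
      Groth.Agent.Lib.Helper28.idealDepth_congr (Groth.Agent.Lib.Helper23.UnitStalk.unitStalkEquiv x) _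
    rw [← h1]
    have h2 := Order.add_one_le_of_lt (hdepth x hx)
    refine le_trans ?_ h2
    exact_mod_cast Nat.succ_le_succ hq
  have hv : ∀ q : ℕ, q ≤ n → ∃ m₀ : ℕ, ∀ m : ℕ, m₀ ≤ m → Subsingleton (Coh.HH X
      (CohB1.tensorMod (Coh.structureModule X) (CohB1.tensorPow (ClSub.idealMod 𝓘) m)) q) := fun q hq =>
    main k X L hamp (ClSub.idealMod 𝓘) ⟨e₀⟩ q _ hO (hd q hq)
  choose! m₀ hm₀ using hv
  refine ⟨(Finset.range (n + 1)).sup m₀, fun m hm => ?_⟩
  have hvan : ∀ q : ℕ, q ≤ n → Subsingleton (Coh.HH X (ClSub.idealMod (𝓘 ^ (m + 1))) q) := by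
    intro q hq
    obtain ⟨Φ⟩ := nonempty_idealMod_pow_iso 𝓘 hEC (m + 1)
    have h1 : m₀ q ≤ m + 1 :=
      le_trans (Finset.le_sup (Finset.mem_range.2 (Nat.lt_succ_of_le hq))) (le_trans hm (Nat.le_succ m))
    exact Groth.Agent.Lib.Helper27SerreVan.subsingleton_HH_of_iso (Φ ≪≫ (unitTensorIso _).symm) q
      (hm₀ q hq (m + 1) h1)
  have hS := Groth.Agent.Lib.Helper21.ExtCartier.idealSES_shortExact (𝓘 ^ (m + 1))
  refine ⟨fun i hi => ⟨?_, ?_⟩, ?_⟩
  · exact injective_H_g _ hS i (hvan i hi.le)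
  · exact surjective_H_g _ hS i (hvan (i + 1) hi)
  · exact injective_H_g _ hS n (hvan n le_rfl)

end Groth.Agent.Lib.Helper4.HqNeg
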