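import Groth.Agent.Lib.Helper4HypIdealD
import Groth.Agent.Lib.Helper27PushLin
import Groth.Agent.Lib.Helper27LesLin
import Groth.Agent.Lib.Helper23TensorUnit
import Groth.Agent.Lib.Helper4CurvePt
import Groth.Agent.Lib.Helper4EtP1
import Groth.Agent.S19434

/-!
# Cohomology of the structure sheaf of a hypersurface `V_+(G) ⊆ P^N_k` (helper4)

* `nonempty_HH_subscheme_linearEquiv` : `H^p(Z, O_Z) ≃ H^p(P^N, O_Z ⊗ O(0))` for a closed
  subscheme `Z = V(I)`;
* `hyp_cohomology` : vanishing and dimensions of `H^p(V_+(G), O)` for a nonzero form `G` of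
  degree `κ ≥ 1` on `P^{m+1}`, `m ≥ 1`;
* `connectedSpace_of_finrank_eq_one`.
-/

set_option autoImplicit false
set_option linter.style.haveILetI false
universe u

open CategoryTheory CategoryTheory.Limits AlgebraicGeometry TopologicalSpace Opposite

namespace Groth.Agent.Lib.Helper4.HypIdeal

open Groth.Agent.Lib.Helper27PushLin Groth.Agent.Lib.Helper27LesLin
  Groth.Agent.Lib.Helper27GlobGenPn

theorem nonempty_tensor_trivial_iso {X : Scheme.{u}} (M L : X.Modules)
    (e0 : L ≅ Coh.structureModule X) : Nonempty (CohB1.tensorMod M L ≅ M) :=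
  ⟨(tl M).mapIso e0 ≪≫ Groth.Agent.Lib.Helper23.TensorUnit.tensorUnitIso M⟩

variable (k : Type u) [Field k]

theorem nonempty_HH_subscheme_linearEquiv (N : ℕ) (I : (CohB1.ProjSpace N k).IdealSheafData)
    [inst : I.subscheme.Over (Spec (CommRingCat.of k))]
    (hinst : I.subscheme ↘ Spec (CommRingCat.of k) = I.subschemeι ≫ CohB1.ProjSpace.toSpec N k)
    (p : ℕ) :
    Nonempty (Coh.HH I.subscheme (Coh.structureModule I.subscheme) p ≃ₗ[k]
      Coh.HH (CohB1.ProjSpace N k)
        (CohB1.tensorMod (ClSub.quotMod I) (Twist.twistProjSpace N k 0)) p) := by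
  obtain ⟨e1⟩ := nonempty_HH_push_linearEquiv k I.subschemeι hinst.symm
    (Coh.structureModule I.subscheme) p
  obtain ⟨e0⟩ : Nonempty (Twist.twistProjSpace N k 0 ≅
      Coh.structureModule (CohB1.ProjSpace N k)) := by
    rw [Groth.Agent.Lib.Helper27TwistEq.twistProjSpace_apply]
    exact nonempty_OO_zero_iso N k
  obtain ⟨e2⟩ := nonempty_tensor_trivial_iso (ClSub.quotMod I) _ e0
  exact ⟨e1 ≪≫ₗ (HHequiv (A := k) e2 p).symm⟩

/-- cohomology of the structure sheaf of a hypersurface of degree `κ ≥ 1` in `P^{m+1}_k`, `m ≥ 1`. -/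
theorem hyp_cohomology (m κ : ℕ) (hm : 1 ≤ m) (hκ : 1 ≤ κ) (G : LefPen.Form (m + 1) k κ) (hG : G ≠ 0)
    [inst : (LefPen.hypIdeal G).subscheme.Over (Spec (CommRingCat.of k))]
    (hinst : (LefPen.hypIdeal G).subscheme ↘ Spec (CommRingCat.of k) =
      (LefPen.hypIdeal G).subschemeι ≫ CohB1.ProjSpace.toSpec (m + 1) k) :
    (∀ p : ℕ, p ≠ 0 → p ≠ m → Subsingleton (Coh.HH (LefPen.hypIdeal G).subscheme
      (Coh.structureModule (LefPen.hypIdeal G).subscheme) p)) ∧
    (Module.Finite k (Coh.HH (LefPen.hypIdeal G).subscheme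
        (Coh.structureModule (LefPen.hypIdeal G).subscheme) 0) ∧
      Module.finrank k (Coh.HH (LefPen.hypIdeal G).subscheme
        (Coh.structureModule (LefPen.hypIdeal G).subscheme) 0) = 1) ∧
    (Module.Finite k (Coh.HH (LefPen.hypIdeal G).subscheme
        (Coh.structureModule (LefPen.hypIdeal G).subscheme) m) ∧
      Module.finrank k (Coh.HH (LefPen.hypIdeal G).subscheme
        (Coh.structureModule (LefPen.hypIdeal G).subscheme) m) = Nat.choose (κ - 1) (m + 1)) := by
  obtain ⟨h1, ⟨f0, r0⟩, ⟨fm, rm⟩⟩ := Groth.Agent.S19434.result k m κ hm hκ (LefPen.hypIdeal G)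
    (nonempty_idealMod_hypIdeal_iso G hG) 0
  refine ⟨fun p hp0 hpm => ?_, ?_, ?_⟩
  · obtain ⟨e⟩ := nonempty_HH_subscheme_linearEquiv k (m + 1) (LefPen.hypIdeal G) hinst p
    haveI := h1 p hp0 hpm
    exact e.toEquiv.subsingleton
  · obtain ⟨e⟩ := nonempty_HH_subscheme_linearEquiv k (m + 1) (LefPen.hypIdeal G) hinst 0
    refine ⟨Module.Finite.equiv e.symm, ?_⟩
    rw [e.finrank_eq, r0]
    have e1 : ((0 : ℤ) + ((m : ℤ) + 1)).toNat = m + 1 := by omega
    have e2 : ((0 : ℤ) - (κ : ℤ) + ((m : ℤ) + 1)).toNat < m + 1 := by omega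
    rw [e1, Nat.choose_self, Nat.choose_eq_zero_of_lt e2]
  · obtain ⟨e⟩ := nonempty_HH_subscheme_linearEquiv k (m + 1) (LefPen.hypIdeal G) hinst m
    refine ⟨Module.Finite.equiv e.symm, ?_⟩
    rw [e.finrank_eq, rm]
    have e1 : (((κ : ℤ) - 2 - (m : ℤ) - 0) + ((m : ℤ) + 1)).toNat = κ - 1 := by omega
    have e2 : (((κ : ℤ) - 2 - (m : ℤ) - 0) - (κ : ℤ) + ((m : ℤ) + 1)).toNat < m + 1 := by omega
    rw [e1, Nat.choose_eq_zero_of_lt e2, Nat.sub_zero]

/-- a closed subscheme of `P^N_k` with `h^0(O) = 1` is connected. -/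
theorem connectedSpace_of_finrank_eq_one (N : ℕ) (I : (CohB1.ProjSpace N k).IdealSheafData)
    [inst : I.subscheme.Over (Spec (CommRingCat.of k))]
    (hinst : I.subscheme ↘ Spec (CommRingCat.of k) = I.subschemeι ≫ CohB1.ProjSpace.toSpec N k)
    (h : Module.finrank k (Coh.HH I.subscheme (Coh.structureModule I.subscheme) 0) = 1) :
    ConnectedSpace ↥I.subscheme := by
  have h2 := finrank_HH_push I.subschemeι hinst.symm (Coh.structureModule I.subscheme) 0
  rw [h, Groth.Agent.Lib.Helper4.CurvePt.finrank_hh0_push I.subschemeι k] at h2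
  letI alg : Algebra k Γ(I.subscheme, ⊤) :=
    (Groth.Agent.Lib.Helper6.H0Const.gsMap k (I.subschemeι ≫
      (CohB1.ProjSpace N k ↘ Spec (CommRingCat.of k)))).hom.toAlgebra
  haveI := Groth.Agent.Lib.Helper4.EtP1.preconnectedSpace_of_finrank_eq_one k I.subscheme h2.symm
  haveI : Nontrivial Γ(I.subscheme, ⊤) := Module.nontrivial_of_finrank_pos (R := k) (by omega)
  haveI : Nonempty ↥I.subscheme := by
    by_contra hne
    rw [not_nonempty_iff] at hne
    exact not_subsingleton Γ(I.subscheme, ⊤) inferInstance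
  exact ConnectedSpace.mk inferInstance

end Groth.Agent.Lib.Helper4.HypIdeal
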