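import Groth.Agent.Lib.Helper4HypCoh

/-!
# Hypersurfaces (helper4): the degenerate case `G = 0` and the structure map on global functions

* `hypIdeal_zero` : `LefPen.hypIdeal 0 = ⊥`;
* `bot_cohomology` : `H^p(V(⊥), O)` for the zero ideal on `P^N_k`;
* `bijective_appTop_of_finrank_eq_one`.
-/

set_option autoImplicit false
set_option linter.style.haveILetI false
universe u

open CategoryTheory CategoryTheory.Limits AlgebraicGeometry TopologicalSpace Opposite

namespace Groth.Agent.Lib.Helper4.HypIdeal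

open Groth.Agent.Lib.Helper27PushLin Groth.Agent.Lib.Helper27LesLin
  Groth.Agent.Lib.Helper27GlobGenPn Groth.Agent.Lib.Helper27PnHom
  Groth.Agent.Lib.Helper27PnLauMul Groth.Agent.Lib.Helper21.ExtCartier

variable (k : Type u) [Field k]

theorem cfun_zero {n d : ℕ} (i : Fin (n + 1)) :
    cfun (n := n) (R := k) (d := d) 0 (Submodule.zero_mem _) i = 0 := by
  apply eq_zero_of_lauF_eq_zero i
  rw [lauF_cfun, map_zero, zero_mul]

theorem hypIdeal_zero (r d : ℕ) : LefPen.hypIdeal (0 : LefPen.Form r k d) = ⊥ := by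
  refine Scheme.IdealSheafData.ext_of_iSup_eq_top
    (fun i : Fin (r + 1) => (⟨LefPen.chart r k i, isAffineOpen_chart i⟩ :
      (CohB1.ProjSpace r k).affineOpens)) iSup_chart (fun i => ?_)
  rw [hypIdeal_ideal_chart, Scheme.IdealSheafData.ideal_bot]
  have h : LefPen.dehom (0 : LefPen.Form r k d) i = 0 := cfun_zero k i
  rw [h]
  exact Ideal.span_singleton_eq_bot.mpr rfl

/-- a one-dimensional algebra of global functions: the structure map is bijective. -/
theorem bijective_appTop_of_finrank_eq_one {Y : Scheme.{u}} (f : Y ⟶ Spec (CommRingCat.of k))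
    (h : letI : Algebra k Γ(Y, ⊤) := (Groth.Agent.Lib.Helper6.H0Const.gsMap k f).hom.toAlgebra
      Module.finrank k Γ(Y, ⊤) = 1) : Function.Bijective f.appTop.hom := by
  letI alg : Algebra k Γ(Y, ⊤) := (Groth.Agent.Lib.Helper6.H0Const.gsMap k f).hom.toAlgebra
  haveI : Module.Finite k Γ(Y, ⊤) := Module.finite_of_finrank_pos (by omega)
  haveI : Nontrivial Γ(Y, ⊤) := Module.nontrivial_of_finrank_pos (R := k) (by omega)
  have hinj : Function.Injective (Algebra.linearMap k Γ(Y, ⊤)) :=
    (algebraMap k Γ(Y, ⊤)).injective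
  have hsurj : Function.Surjective (Algebra.linearMap k Γ(Y, ⊤)) :=
    (LinearMap.injective_iff_surjective_of_finrank_eq_finrank
      (f := Algebra.linearMap k Γ(Y, ⊤)) (by rw [Module.finrank_self, h])).1 hinj
  have hb : Function.Bijective (Groth.Agent.Lib.Helper6.H0Const.gsMap k f).hom := ⟨hinj, hsurj⟩
  have hiso : Function.Bijective (Scheme.ΓSpecIso (CommRingCat.of k)).hom.hom :=
    ConcreteCategory.bijective_of_isIso (Scheme.ΓSpecIso (CommRingCat.of k)).hom
  have heq : f.appTop = (Scheme.ΓSpecIso (CommRingCat.of k)).hom ≫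
      Groth.Agent.Lib.Helper6.H0Const.gsMap k f := by
    unfold Groth.Agent.Lib.Helper6.H0Const.gsMap
    rw [Iso.hom_inv_id_assoc]
  rw [heq]
  exact hb.comp hiso

theorem nonempty_HH_bot_linearEquiv (N : ℕ) (I : (CohB1.ProjSpace N k).IdealSheafData) (hI : I = ⊥)
    [inst : I.subscheme.Over (Spec (CommRingCat.of k))]
    (hinst : I.subscheme ↘ Spec (CommRingCat.of k) = I.subschemeι ≫ CohB1.ProjSpace.toSpec N k)
    (p : ℕ) :
    Nonempty (Coh.HH I.subscheme (Coh.structureModule I.subscheme) p ≃ₗ[k]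
      Coh.HH (CohB1.ProjSpace N k) (Twist.twistProjSpace N k 0) p) := by
  haveI : IsIso I.subschemeι := by
    rw [AlgebraicGeometry.Scheme.isIso_subschemeι_iff_eq_bot]; exact hI
  haveI : IsIso (ClSub.toSubscheme I) := isIso_unitToPush_of_isIso _
  obtain ⟨e0⟩ : Nonempty (Twist.twistProjSpace N k 0 ≅
      Coh.structureModule (CohB1.ProjSpace N k)) := by
    rw [Groth.Agent.Lib.Helper27TwistEq.twistProjSpace_apply]
    exact nonempty_OO_zero_iso N k
  obtain ⟨e1⟩ := nonempty_HH_push_linearEquiv k I.subschemeι hinst.symm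
    (Coh.structureModule I.subscheme) p
  exact ⟨e1 ≪≫ₗ (HHequiv (A := k) (e0 ≪≫ asIso (ClSub.toSubscheme I)) p).symm⟩

/-- cohomology of the structure sheaf of `V(⊥) ≅ P^N_k`. -/
theorem bot_cohomology (N : ℕ) (hN : 1 ≤ N) (I : (CohB1.ProjSpace N k).IdealSheafData) (hI : I = ⊥)
    [inst : I.subscheme.Over (Spec (CommRingCat.of k))]
    (hinst : I.subscheme ↘ Spec (CommRingCat.of k) = I.subschemeι ≫ CohB1.ProjSpace.toSpec N k) :
    (∀ p : ℕ, 1 ≤ p → Subsingleton (Coh.HH I.subscheme (Coh.structureModule I.subscheme) p)) ∧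
      Module.finrank k (Coh.HH I.subscheme (Coh.structureModule I.subscheme) 0) = 1 := by
  refine ⟨fun p hp => ?_, ?_⟩
  · obtain ⟨e⟩ := nonempty_HH_bot_linearEquiv k N I hI hinst p
    haveI := Groth.Agent.Lib.Helper27PnCohVanish.subsingleton_HH N k 0 p
      (fun h => by omega) (fun h => by omega)
    exact e.toEquiv.subsingleton
  · obtain ⟨e⟩ := nonempty_HH_bot_linearEquiv k N I hI hinst 0
    rw [e.finrank_eq, (Groth.Agent.Lib.Helper27HypDim.finrank_HH_zero k N hN 0).2]
    have : ((0 : ℤ) + (N : ℤ)).toNat = N := by omega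
    rw [this, Nat.choose_self]

end Groth.Agent.Lib.Helper4.HypIdeal
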