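import Groth.Agent.Lib.Helper27KoszHom
import Groth.Agent.Lib.Helper27GrTildeBridge2
import Groth.Agent.Lib.Helper23SecTw3
import Groth.Agent.Lib.Helper20ZeroIdeal

/-!
# Hypersurfaces in `P^n_R` (helper4), part A: local equations

For a form `G` of degree `d` on `P^n_R`:
* `cfun G i` : the function `G / X_i^d` on `D₊(X_i)`;
* `lauF_cfun` : its Laurent expansion;
* `mulF_gen` : multiplication by `G`, `O(a) ⟶ O(a + d)`, sends the generator `X_i^a` to
  `cfun G i • X_i^(a+d)`;
* `res_formSec` : the section `G` of `O(d)` restricted to `D₊(X_i)` is `cfun G i • X_i^d`.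
-/

set_option autoImplicit false
set_option linter.style.haveILetI false
universe u

open CategoryTheory CategoryTheory.Limits AlgebraicGeometry TopologicalSpace Opposite
  HomogeneousLocalization MvPolynomial

namespace Groth.Agent.Lib.Helper4.HypIdeal

open Groth.Agent.Lib.Helper27GrTildeSect Groth.Agent.Lib.Helper27ProjGamma
  Groth.Agent.Lib.Helper27PnSections Groth.Agent.Lib.Helper27Laurent
  Groth.Agent.Lib.Helper27PnLau Groth.Agent.Lib.Helper27PnLauMul
  Groth.Agent.Lib.Helper27PnHom Groth.Agent.Lib.Helper27KoszHom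
  Groth.Agent.Lib.Helper23.SecTw Groth.Agent.Lib.Helper6 Groth.Agent.Lib.Helper23.Extend

variable {n : ℕ} {R : Type u} [CommRing R]

local notation "𝒢" => CohB1.polyGrading n R
local notation "σ'" => Fin (n + 1)

/-- the function `G / X_i^d` on `D₊(X_i)`. -/
noncomputable def cfun {d : ℕ} (G : MvPolynomial σ' R) (hG : G ∈ 𝒢 d) (i : σ') :
    Γ(Proj 𝒢, Ui n R i) :=
  (Proj.awayToSection 𝒢 (X i : MvPolynomial σ' R)).hom
    (Away.mk 𝒢 (hX n R i) d G (by rw [smul_eq_mul, mul_one]; exact hG))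

theorem neg_ev (i : σ') (a : ℤ) : -(ev i a) = ev (n := n) i (-a) := by
  funext j
  unfold ev
  by_cases h : j = i
  · simp [h]
  · simp [h]

theorem ev_add (i : σ') (a b : ℤ) : ev (n := n) i a + ev i b = ev i (a + b) := by
  funext j
  unfold ev
  by_cases h : j = i
  · simp [h]
  · simp [h]

theorem ev_zero (i : σ') : ev (n := n) i 0 = 0 := by
  funext j
  unfold ev
  simp

theorem lauF_cfun {d : ℕ} (G : MvPolynomial σ' R) (hG : G ∈ 𝒢 d) (i : σ') :
    lauF (Ui n R i) (torus_le_Ui n R i) (cfun G hG i) =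
      toL G * AddMonoidAlgebra.single (ev i (-(d : ℤ))) 1 := by
  unfold lauF
  rw [lau_eq 0 (Ui n R i) (torus_le_Ui n R i) _ (Finsupp.single i 1) d d G hG
    (by rw [Finsupp.degree_single]; simp)
    (fun y hy => by
      rw [secVal_smul', secVal_one₀, mul_one]
      exact funVal_awayToSection_val (hX n R i) d G _ y (torus_le_Ui n R i hy))]
  congr 2
  funext j
  rw [Pi.neg_apply, Finsupp.single_apply, ev]
  by_cases hji : j = i
  · subst hji
    simp
  · rw [if_neg (Ne.symm hji), if_neg hji]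
    simp

/-- multiplication by `G` sends the generator `X_i^a` of `O(a)` over `D₊(X_i)` to
`(G / X_i^d) • X_i^(a + d)`. -/
theorem mulF_gen {a b : ℤ} {d : ℕ} (h : a + d = b) (G : MvPolynomial σ' R) (hG : G ∈ 𝒢 d) (i : σ') :
    (mulF d h G hG).app (Ui n R i) (gen a i) = cfun G hG i • gen b i := by
  apply lau_injective b (Finsupp.single i 1) (Ui n R i) rfl (by simp) (torus_le_Ui n R i)
  rw [lau_app_gen, sym_mulF, lau_smul, lau_gen, lauF_cfun]
  rw [mul_comm (AddMonoidAlgebra.single (ev i b) (1 : R)), mul_assoc,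
    AddMonoidAlgebra.single_mul_single, mul_one, ev_add]
  congr 3
  omega

/-- the section `G` of `O(d)` restricted to `D₊(X_i)` is `(G / X_i^d) • X_i^d`. -/
theorem res_formSec {d : ℕ} (G : MvPolynomial σ' R) (hG : G ∈ 𝒢 d) (i : σ') :
    res (OO n R (d : ℤ)) (le_top : Ui n R i ≤ ⊤) (formSec d G hG) = cfun G hG i • gen (d : ℤ) i := by
  apply lau_injective (d : ℤ) (Finsupp.single i 1) (Ui n R i) rfl (by simp) (torus_le_Ui n R i)
  rw [lau_smul, lau_gen, lauF_cfun]
  have h1 : lau (d : ℤ) (Ui n R i) (torus_le_Ui n R i)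
      (res (OO n R (d : ℤ)) (le_top : Ui n R i ≤ ⊤) (formSec d G hG)) = toL G :=
    (lau_map (d : ℤ) (torus_le_Ui n R i) le_top (formSec d G hG)).trans
      (lau_fracSec_one (d : ℤ) d (by simp) G hG ⊤ _)
  rw [h1, mul_comm (AddMonoidAlgebra.single (ev i (d : ℤ)) (1 : R)), mul_assoc,
    AddMonoidAlgebra.single_mul_single, mul_one, ev_add, neg_add_cancel, ev_zero]
  exact (mul_one _).symm

end Groth.Agent.Lib.Helper4.HypIdeal
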