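import Groth.Agent.Lib.Helper4HypIdealA
import Groth.Agent.Lib.Helper27KoszReg
import Groth.Prelude.Def_LefPen

/-!
# Hypersurfaces in `P^n` (helper4), part B: `LefPen.hypIdeal G` is the zero scheme of `G`

* `sG G hG : O ⟶ O(d)` : the section defined by the form `G`;
* `zeroScheme_ideal_Ui` : the ideal of `Z(G)` on `D₊(X_i)` is generated by `G / X_i^d`;
* `hypIdeal_eq_zeroScheme`, `hypIdeal_ideal_Ui`.
-/

set_option autoImplicit false
set_option linter.style.haveILetI false
universe u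

open CategoryTheory CategoryTheory.Limits AlgebraicGeometry TopologicalSpace Opposite
  HomogeneousLocalization MvPolynomial

namespace Groth.Agent.Lib.Helper4.HypIdeal

open Groth.Agent.Lib.Helper27GrTildeSect Groth.Agent.Lib.Helper27ProjGamma
  Groth.Agent.Lib.Helper27PnSections Groth.Agent.Lib.Helper27Laurent
  Groth.Agent.Lib.Helper27PnLau Groth.Agent.Lib.Helper27PnLauMul
  Groth.Agent.Lib.Helper27PnHom Groth.Agent.Lib.Helper27KoszHom
  Groth.Agent.Lib.Helper27KoszPn Groth.Agent.Lib.Helper27KoszReg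
  Groth.Agent.Lib.Helper23.SecTw Groth.Agent.Lib.Helper6 Groth.Agent.Lib.Helper23.Extend
  Groth.Agent.Lib.Helper20.ZeroIdeal

section Ring

variable {n : ℕ} {R : Type u} [CommRing R]

local notation "𝒢" => CohB1.polyGrading n R
local notation "σ'" => Fin (n + 1)

/-- the section of `O(d)` defined by a form of degree `d`, as a morphism `O ⟶ O(d)`. -/
noncomputable def sG {d : ℕ} (G : MvPolynomial σ' R) (hG : G ∈ 𝒢 d) :
    Coh.structureModule (Proj 𝒢) ⟶ OO n R (d : ℤ) :=
  secHom (OO n R (d : ℤ)) (formSec d G hG)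

theorem sv_sG {d : ℕ} (G : MvPolynomial σ' R) (hG : G ∈ 𝒢 d) (i : σ') :
    sv (sG G hG) (Ui n R i) = cfun G hG i • gen (d : ℤ) i := by
  rw [sG, sv_secHom, res_formSec]

/-- the ideal of the zero scheme of `G` on `D₊(X_i)` is generated by `G / X_i^d`. -/
theorem zeroScheme_ideal_Ui {d : ℕ} (G : MvPolynomial σ' R) (hG : G ∈ 𝒢 d) (i : σ') :
    (PicF2.zeroScheme (OO n R (d : ℤ)) (sG G hG)).ideal ⟨Ui n R i, isAffineOpen_Ui n R i⟩ =
      Ideal.span {cfun G hG i} :=
  zeroScheme_ideal_eq_span _ _ (isInvertible_OO n R (d : ℤ)) (isAffineOpen_Ui n R i)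
    (isGen_gen (d : ℤ) i) (sv_sG G hG i)

end Ring

section Field

variable {r : ℕ} {k : Type u} [Field k]

theorem isAffineOpen_chart (i : Fin (r + 1)) : IsAffineOpen (LefPen.chart r k i) :=
  isAffineOpen_Ui r k i

theorem iSup_chart : ⨆ i : Fin (r + 1), LefPen.chart r k i = ⊤ :=
  (isOpenCover_Ui r k).iSup_eq_top

theorem bijective_res_inf_self {X : Scheme.{u}} (U : X.Opens) :
    Function.Bijective (X.presheaf.map (homOfLE (inf_le_left : U ⊓ U ≤ U)).op).hom := by
  haveI : IsIso (homOfLE (inf_le_left : U ⊓ U ≤ U)) :=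
    ⟨homOfLE (le_inf le_rfl le_rfl), Subsingleton.elim _ _, Subsingleton.elim _ _⟩
  exact ConcreteCategory.bijective_of_isIso (X.presheaf.map (homOfLE (inf_le_left : U ⊓ U ≤ U)).op)

theorem hypFamily_chart_le {d : ℕ} (G : LefPen.Form r k d) (i : Fin (r + 1)) :
    LefPen.hypFamily G ⟨LefPen.chart r k i, isAffineOpen_chart i⟩ ≤
      Ideal.span {LefPen.dehom G i} := by
  intro a ha
  have h1 := (Ideal.mem_iInf.mp ha) i
  rw [Ideal.mem_comap, Ideal.mem_span_singleton'] at h1
  obtain ⟨b, hb⟩ := h1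
  obtain ⟨b', rfl⟩ := (bijective_res_inf_self (LefPen.chart r k i)).2 b
  rw [Ideal.mem_span_singleton']
  refine ⟨b', (bijective_res_inf_self (LefPen.chart r k i)).1 ?_⟩
  rw [map_mul]
  exact hb

/-- the zero scheme of the form `G`, as an ideal sheaf on `CohB1.ProjSpace r k`. -/
noncomputable def zG {d : ℕ} (G : LefPen.Form r k d) : (CohB1.ProjSpace r k).IdealSheafData :=
  (PicF2.zeroScheme (OO r k (d : ℤ)) (sG G.1 G.2) :
    (Proj (CohB1.polyGrading r k)).IdealSheafData)

theorem zG_ideal_chart {d : ℕ} (G : LefPen.Form r k d) (i : Fin (r + 1)) :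
    (zG G).ideal ⟨LefPen.chart r k i, isAffineOpen_chart i⟩ = Ideal.span {LefPen.dehom G i} :=
  zeroScheme_ideal_Ui G.1 G.2 i

instance isSeparated_projSpace : (CohB1.ProjSpace r k).IsSeparated :=
  inferInstanceAs (Scheme.IsSeparated (Proj (CohB1.polyGrading r k)))

theorem zG_le_hypFamily {d : ℕ} (G : LefPen.Form r k d) (U : (CohB1.ProjSpace r k).affineOpens) :
    (zG G).ideal U ≤ LefPen.hypFamily G U := by
  intro a ha
  unfold LefPen.hypFamily
  rw [Ideal.mem_iInf]
  intro i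
  rw [Ideal.mem_comap]
  have hV : IsAffineOpen (U.1 ⊓ LefPen.chart r k i) := U.2.inf (isAffineOpen_chart i)
  let V : (CohB1.ProjSpace r k).affineOpens := ⟨U.1 ⊓ LefPen.chart r k i, hV⟩
  have h1 : V ≤ U := (inf_le_left : U.1 ⊓ LefPen.chart r k i ≤ U.1)
  have h2 : V ≤ (⟨LefPen.chart r k i, isAffineOpen_chart i⟩ : (CohB1.ProjSpace r k).affineOpens) :=
    (inf_le_right : U.1 ⊓ LefPen.chart r k i ≤ LefPen.chart r k i)
  have h3 := (zG G).ideal_le_comap_ideal h1 ha
  rw [← (zG G).map_ideal h2, zG_ideal_chart, Ideal.map_span, Set.image_singleton] at h3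
  exact h3

/-- `LefPen.hypIdeal G` is the zero scheme of the section `G` of `O(d)`. -/
theorem hypIdeal_eq_zG {d : ℕ} (G : LefPen.Form r k d) : LefPen.hypIdeal G = zG G := by
  apply le_antisymm
  · refine Scheme.IdealSheafData.le_of_iSup_eq_top
      (fun i : Fin (r + 1) => (⟨LefPen.chart r k i, isAffineOpen_chart i⟩ :
        (CohB1.ProjSpace r k).affineOpens)) iSup_chart (fun i => ?_)
    rw [zG_ideal_chart]
    exact (Scheme.IdealSheafData.ideal_ofIdeals_le _ _).trans (hypFamily_chart_le G i)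
  · exact Scheme.IdealSheafData.le_ofIdeals_iff.mpr (zG_le_hypFamily G)

/-- the ideal of `V_+(G)` on the chart `D₊(T_i)` is generated by `G / T_i^d`. -/
theorem hypIdeal_ideal_chart {d : ℕ} (G : LefPen.Form r k d) (i : Fin (r + 1)) :
    (LefPen.hypIdeal G).ideal ⟨LefPen.chart r k i, isAffineOpen_chart i⟩ =
      Ideal.span {LefPen.dehom G i} := by
  rw [hypIdeal_eq_zG, zG_ideal_chart]

end Field
end Groth.Agent.Lib.Helper4.HypIdeal
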