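import Mathlib
import Groth.Agent.Lib.Helper18Hyp

set_option autoImplicit false
set_option linter.style.haveILetI false
universe u

open TensorProduct KaehlerDifferential MvPolynomial

namespace Groth.Agent.Lib.Helper4.JacCrit

variable {k : Type u} [Field k] {m : ℕ}

local notation "Pm" => MvPolynomial (Fin m) k

/-- pointwise Jacobian criterion for an affine hypersurface in `𝔸^m_k`. -/
theorem isSmoothAt_iff_exists_pderiv (g : Pm) (hg : g ≠ 0)
    (p : PrimeSpectrum (Pm ⧸ Ideal.span {g})) :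
    Algebra.FormallySmooth k (Localization.AtPrime p.asIdeal) ↔
      ∃ i, pderiv i g ∉ p.asIdeal.comap (Ideal.Quotient.mk (Ideal.span {g})) := by
  have hreg : IsSMulRegular Pm g := IsSMulRegular.of_ne_zero hg
  have hsurj : Function.Surjective (algebraMap Pm (Pm ⧸ Ideal.span {g})) :=
    Ideal.Quotient.mk_surjective
  have hker : RingHom.ker (algebraMap Pm (Pm ⧸ Ideal.span {g})) = Ideal.span {g} := by
    rw [Ideal.Quotient.algebraMap_eq, Ideal.mk_ker]
  haveI : Algebra.Smooth k Pm := ⟨inferInstance, inferInstance⟩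
  have h1 := Groth.Agent.Helper18Hyp.isSmoothAt_iff (A := k) (B := Pm)
    (R := Pm ⧸ Ideal.span {g}) g hreg hsurj hker p
  rw [h1]
  let R := Pm ⧸ Ideal.span {g}
  let κ := p.asIdeal.ResidueField
  let e1 : κ ⊗[R] (R ⊗[Pm] Ω[Pm⁄k]) ≃ₗ[κ] κ ⊗[Pm] Ω[Pm⁄k] :=
    AlgebraTensorModule.cancelBaseChange Pm R κ κ Ω[Pm⁄k]
  let b : Module.Basis (Fin m) κ (κ ⊗[Pm] Ω[Pm⁄k]) := (mvPolynomialBasis k (Fin m)).baseChange κ
  have he1 : e1 ((1 : κ) ⊗ₜ[R] ((1 : R) ⊗ₜ[Pm] D k Pm g)) = (1 : κ) ⊗ₜ[Pm] D k Pm g := by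
    simp only [e1]
    rw [AlgebraTensorModule.cancelBaseChange_tmul, one_smul]
  have hrepr : ∀ i, b.repr ((1 : κ) ⊗ₜ[Pm] D k Pm g) i = algebraMap Pm κ (pderiv i g) := by
    intro i
    rw [Module.Basis.baseChange_repr_tmul, mvPolynomialBasis_repr_apply, Algebra.smul_def, mul_one]
  change (1 : κ) ⊗ₜ[R] ((1 : R) ⊗ₜ[Pm] D k Pm g) ≠ 0 ↔ _
  rw [← LinearEquiv.map_ne_zero_iff e1, he1, ← LinearEquiv.map_ne_zero_iff b.repr,
    DFunLike.ne_iff]
  refine exists_congr fun i => ?_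
  rw [hrepr, Finsupp.zero_apply, Ne, IsScalarTower.algebraMap_apply Pm R κ,
    Ideal.algebraMap_residueField_eq_zero, Ideal.mem_comap]
  rfl

/-- the Jacobian ideal of `g`. -/
noncomputable def jacIdeal (g : Pm) : Ideal Pm :=
  Ideal.span ({g} ∪ Set.range fun i => pderiv i g)

theorem mem_jacIdeal_self (g : Pm) : g ∈ jacIdeal g :=
  Ideal.subset_span (Or.inl rfl)

theorem pderiv_mem_jacIdeal (g : Pm) (i : Fin m) : pderiv i g ∈ jacIdeal g :=
  Ideal.subset_span (Or.inr ⟨i, rfl⟩)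

/-- global Jacobian criterion for an affine hypersurface in `𝔸^m_k`. -/
theorem smooth_quotient_iff (g : Pm) (hg : g ≠ 0) :
    Algebra.Smooth k (Pm ⧸ Ideal.span {g}) ↔ jacIdeal g = ⊤ := by
  haveI : Algebra.FinitePresentation k (Pm ⧸ Ideal.span {g}) :=
    Algebra.FinitePresentation.quotient ⟨{g}, by simp⟩
  have hS : Algebra.Smooth k (Pm ⧸ Ideal.span {g}) ↔
      Algebra.FormallySmooth k (Pm ⧸ Ideal.span {g}) :=
    ⟨fun h => h.1, fun h => ⟨h, inferInstance⟩⟩
  rw [hS, ← Algebra.smoothLocus_eq_univ_iff, Set.eq_univ_iff_forall]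
  constructor
  · intro h
    by_contra hJ
    obtain ⟨M, hM, hJM⟩ := Ideal.exists_le_maximal _ hJ
    have hker : RingHom.ker (Ideal.Quotient.mk (Ideal.span {g})) ≤ M := by
      rw [Ideal.mk_ker, Ideal.span_le, Set.singleton_subset_iff]
      exact hJM (mem_jacIdeal_self g)
    haveI : M.IsPrime := hM.isPrime
    haveI hp : (M.map (Ideal.Quotient.mk (Ideal.span {g}))).IsPrime :=
      Ideal.map_isPrime_of_surjective Ideal.Quotient.mk_surjective hker
    have hc : (M.map (Ideal.Quotient.mk (Ideal.span {g}))).comap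
        (Ideal.Quotient.mk (Ideal.span {g})) = M := by
      rw [Ideal.comap_map_of_surjective' _ Ideal.Quotient.mk_surjective]
      exact sup_eq_left.mpr hker
    obtain ⟨i, hi⟩ := (isSmoothAt_iff_exists_pderiv g hg ⟨_, hp⟩).mp (h ⟨_, hp⟩)
    rw [hc] at hi
    exact hi (hJM (pderiv_mem_jacIdeal g i))
  · intro hJ p
    refine (isSmoothAt_iff_exists_pderiv g hg p).mpr ?_
    by_contra hcon
    push Not at hcon
    have hq : (p.asIdeal.comap (Ideal.Quotient.mk (Ideal.span {g}))).IsPrime := inferInstance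
    apply hq.ne_top
    rw [eq_top_iff, ← hJ]
    unfold jacIdeal
    rw [Ideal.span_le]
    rintro x (hx | ⟨i, rfl⟩)
    · rw [Set.mem_singleton_iff] at hx
      subst hx
      rw [SetLike.mem_coe, Ideal.mem_comap]
      have : Ideal.Quotient.mk (Ideal.span {x}) x = 0 :=
        Ideal.Quotient.eq_zero_iff_mem.mpr (Ideal.mem_span_singleton_self x)
      rw [this]
      exact zero_mem _
    · exact hcon i

end Groth.Agent.Lib.Helper4.JacCrit
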