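import Groth.Agent.Lib.Helper4CIChart
import Groth.Agent.Lib.Helper4JacCrit

/-!
# Smoothness of a projective hypersurface on a standard chart (helper4)
-/

set_option autoImplicit false
set_option linter.style.haveILetI false
universe u

open CategoryTheory CategoryTheory.Limits AlgebraicGeometry TopologicalSpace Opposite
  HomogeneousLocalization MvPolynomial

namespace Groth.Agent.Lib.Helper4.HypSmooth

open Groth.Agent.Lib.Helper4.HypIdeal Groth.Agent.Lib.Helper4.CIChart
  Groth.Agent.Lib.Helper27ChartPoly Groth.Agent.Lib.Helper27ProjSpaceBC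
  Groth.Agent.Lib.Helper27DehomAway

variable {n : ℕ} {k : Type u} [Field k]

local notation "𝒢" => CohB1.polyGrading n k

theorem fromSpec_basicOpen (f : MvPolynomial (Fin (n + 1)) k) (hf : f ∈ 𝒢 1) :
    (Proj.isAffineOpen_basicOpen 𝒢 f hf Nat.one_pos).fromSpec =
      Spec.map (Proj.awayToSection 𝒢 f) ≫ Proj.awayι 𝒢 f hf Nat.one_pos := by
  have h1 : (Proj.basicOpenIsoSpec 𝒢 f hf Nat.one_pos).hom =
      (Proj.isAffineOpen_basicOpen 𝒢 f hf Nat.one_pos).isoSpec.hom ≫
        Spec.map (Proj.awayToSection 𝒢 f) := by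
    rw [Proj.basicOpenIsoSpec_hom, Proj.basicOpenToSpec, IsAffineOpen.isoSpec_hom]
  unfold Proj.awayι IsAffineOpen.fromSpec
  rw [← Category.assoc]
  congr 1
  rw [Iso.eq_comp_inv, h1, Iso.inv_hom_id_assoc]

/-- the structure map `k → Γ(P^n, D₊(T_i))`. -/
noncomputable def strChart (i : Fin (n + 1)) :
    k →+* Γ(CohB1.ProjSpace n k, LefPen.chart n k i) :=
  (Proj.awayToSection 𝒢 (X i)).hom.comp (strA 𝒢 (X i))

/-- the structure map, in `CommRingCat`. -/
noncomputable def strChartHom (i : Fin (n + 1)) :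
    CommRingCat.of k ⟶ Γ(CohB1.ProjSpace n k, LefPen.chart n k i) :=
  CommRingCat.ofHom (strA 𝒢 (X i)) ≫ Proj.awayToSection 𝒢 (X i)

theorem strChartHom_hom (i : Fin (n + 1)) (c : k) :
    (strChartHom (n := n) (k := k) i).hom c = strChart i c := rfl

theorem fromSpec_chart_toSpec' (i : Fin (n + 1)) :
    (Proj.isAffineOpen_basicOpen 𝒢 (X i) (LefPen.X_mem n k i) Nat.one_pos).fromSpec ≫
        toSpec' n k =
      Spec.map (CommRingCat.ofHom (strA 𝒢 (X i)) ≫ Proj.awayToSection 𝒢 (X i)) := by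
  rw [fromSpec_basicOpen (n := n) (k := k) (X i) (LefPen.X_mem n k i), Category.assoc,
    awayι_toSpec n k (X i) (LefPen.X_mem n k i), ← Spec.map_comp]

theorem fromSpec_chart_toSpec (i : Fin (n + 1)) :
    (isAffineOpen_chart (k := k) i).fromSpec ≫ CohB1.ProjSpace.toSpec n k =
      Spec.map (strChartHom (n := n) (k := k) i) :=
  fromSpec_chart_toSpec' i

/-- `chartEquiv`, typed on `Proj`. -/
noncomputable def chartEquiv' (i : Fin (n + 1)) :
    Γ(Proj 𝒢, Proj.basicOpen 𝒢 (X i)) ≃+* MvPolynomial (Fin n) k :=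
  ((Proj.basicOpenIsoAway 𝒢 (X i : MvPolynomial (Fin (n + 1)) k)
      (LefPen.X_mem n k i) Nat.one_pos).commRingCatIsoToRingEquiv.symm.trans
    (awayEquiv n k i)).trans
    (MvPolynomial.renameEquiv k (finSuccAboveEquiv i).symm).toRingEquiv

theorem chartEquiv'_awayToSection (i : Fin (n + 1)) (y : Away 𝒢 (X i)) :
    chartEquiv' (k := k) i ((Proj.awayToSection 𝒢 (X i)).hom y) =
      rename (finSuccAboveEquiv i).symm (toPoly n k i y) := by
  unfold chartEquiv'
  rw [RingEquiv.trans_apply, RingEquiv.trans_apply]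
  have h1 : (Proj.basicOpenIsoAway 𝒢 (X i : MvPolynomial (Fin (n + 1)) k)
      (LefPen.X_mem n k i) Nat.one_pos).commRingCatIsoToRingEquiv.symm
      ((Proj.awayToSection 𝒢 (X i)).hom y) = y := by
    apply (Proj.basicOpenIsoAway 𝒢 (X i : MvPolynomial (Fin (n + 1)) k)
      (LefPen.X_mem n k i) Nat.one_pos).commRingCatIsoToRingEquiv.injective
    rw [RingEquiv.apply_symm_apply]
    rfl
  rw [h1]
  rfl

theorem chartEquiv_awayToSection (i : Fin (n + 1)) (y : Away 𝒢 (X i)) :
    chartEquiv n k i ((Proj.awayToSection 𝒢 (X i)).hom y) =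
      rename (finSuccAboveEquiv i).symm (toPoly n k i y) :=
  chartEquiv'_awayToSection i y

theorem chartEquiv_strChart (i : Fin (n + 1)) (c : k) :
    chartEquiv n k i (strChart i c) = C c := by
  have h0 : strChart (n := n) i c = (Proj.awayToSection 𝒢 (X i)).hom (strA 𝒢 (X i) c) := rfl
  rw [h0, chartEquiv_awayToSection, strA_eq_comp, RingHom.comp_apply]
  have := congrArg (fun φ => φ (C c)) (toPoly_comp_ofPoly n k i)
  simp only [RingHom.comp_apply, RingHom.id_apply] at this
  rw [this, rename_C]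

/-- the dehomogenization of `W` with respect to `T_i`, as a polynomial in `n` variables. -/
noncomputable def dehomPoly {d : ℕ} (W : LefPen.Form n k d) (i : Fin (n + 1)) :
    MvPolynomial (Fin n) k :=
  rename (finSuccAboveEquiv i).symm (eval₂Hom C (cpt n k i) W.1)

theorem chartEquiv_dehom {d : ℕ} (W : LefPen.Form n k d) (i : Fin (n + 1)) :
    chartEquiv n k i (LefPen.dehom W i) = dehomPoly W i := by
  unfold LefPen.dehom dehomPoly
  rw [chartEquiv_awayToSection]
  congr 1
  rw [← dehA_of_mem (LefPen.X_mem n k i) W.2]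
  exact evB_dehA _ i _ _ W.1

theorem subschemeCover_f_comp {X : Scheme.{u}} (I : X.IdealSheafData) (U : X.affineOpens)
    {R : CommRingCat.{u}} (π : X ⟶ Spec R) (ψ : R ⟶ Γ(X, U)) (h : U.2.fromSpec ≫ π = Spec.map ψ) :
    I.subschemeCover.f U ≫ I.subschemeι ≫ π =
      Spec.map (ψ ≫ CommRingCat.ofHom (Ideal.Quotient.mk (I.ideal U))) := by
  have h1 := I.subschemeCover_map_subschemeι U
  have h2 := I.glueDataObjι_ι U
  have h3 : I.subschemeCover.f U ≫ I.subschemeι =
      Spec.map (CommRingCat.ofHom (Ideal.Quotient.mk (I.ideal U))) ≫ U.2.fromSpec := h1.trans h2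
  have h4 : (I.subschemeCover.f U ≫ I.subschemeι) ≫ π =
      (Spec.map (CommRingCat.ofHom (Ideal.Quotient.mk (I.ideal U))) ≫ U.2.fromSpec) ≫ π :=
    congrArg (· ≫ π) h3
  rw [Category.assoc, Category.assoc, h, ← Spec.map_comp] at h4
  exact h4

theorem smooth_chart_iff {d : ℕ} (W : LefPen.Form n k d) (i : Fin (n + 1)) :
    Smooth ((LefPen.hypIdeal W).subschemeCover.f ⟨LefPen.chart n k i, isAffineOpen_chart i⟩ ≫
        (LefPen.hypIdeal W).subschemeι ≫ CohB1.ProjSpace.toSpec n k) ↔
      Algebra.Smooth k (MvPolynomial (Fin n) k ⧸ Ideal.span {dehomPoly W i}) := by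
  have h1 := subschemeCover_f_comp (LefPen.hypIdeal W) ⟨LefPen.chart n k i, isAffineOpen_chart i⟩
    (R := CommRingCat.of k) (CohB1.ProjSpace.toSpec n k)
    (strChartHom (n := n) (k := k) i) (fromSpec_chart_toSpec i)
  rw [h1]
  refine Iff.trans (HasRingHomProperty.Spec_iff (P := @Smooth)) ?_
  change ((Ideal.Quotient.mk ((LefPen.hypIdeal W).ideal
      ⟨LefPen.chart n k i, isAffineOpen_chart i⟩)).comp (strChart i)).Smooth ↔ _
  let e : (Γ(CohB1.ProjSpace n k, LefPen.chart n k i) ⧸
        (LefPen.hypIdeal W).ideal ⟨LefPen.chart n k i, isAffineOpen_chart i⟩) ≃+*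
      (MvPolynomial (Fin n) k ⧸ Ideal.span {dehomPoly W i}) :=
    Ideal.quotientEquiv _ _ (chartEquiv n k i) (by
      rw [hypIdeal_ideal_chart, Ideal.map_span, Set.image_singleton]
      congr 2
      exact (chartEquiv_dehom W i).symm)
  have he : e.toRingHom.comp ((Ideal.Quotient.mk ((LefPen.hypIdeal W).ideal
      ⟨LefPen.chart n k i, isAffineOpen_chart i⟩)).comp (strChart i)) =
      algebraMap k (MvPolynomial (Fin n) k ⧸ Ideal.span {dehomPoly W i}) := by
    ext c
    simp only [RingHom.comp_apply, RingEquiv.toRingHom_eq_coe, RingEquiv.coe_toRingHom, e]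
    rw [Ideal.quotientEquiv_mk]
    change Ideal.Quotient.mk _ (chartEquiv n k i (strChart i c)) = _
    rw [chartEquiv_strChart]
    rfl
  rw [← RingHom.smooth_algebraMap, ← he]
  constructor
  · intro h
    exact RingHom.Smooth.comp h (RingHom.Smooth.of_bijective e.bijective)
  · intro h
    have h2 : (Ideal.Quotient.mk ((LefPen.hypIdeal W).ideal
        ⟨LefPen.chart n k i, isAffineOpen_chart i⟩)).comp (strChart i) =
        e.symm.toRingHom.comp (e.toRingHom.comp
          ((Ideal.Quotient.mk ((LefPen.hypIdeal W).ideal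
            ⟨LefPen.chart n k i, isAffineOpen_chart i⟩)).comp (strChart i))) := by
      ext c
      simp
    change ((Ideal.Quotient.mk ((LefPen.hypIdeal W).ideal
        ⟨LefPen.chart n k i, isAffineOpen_chart i⟩)).comp (strChart i)).Smooth
    rw [h2]
    exact RingHom.Smooth.comp h (RingHom.Smooth.of_bijective e.symm.bijective)

end Groth.Agent.Lib.Helper4.HypSmooth
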