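import Groth.Agent.Lib.Helper4HypSmooth
import Groth.Agent.Lib.Helper4CIDimB

/-!
# Smoothness of a closed subscheme from charts (helper4)
-/

set_option autoImplicit false
set_option linter.style.haveILetI false
universe u

open CategoryTheory CategoryTheory.Limits AlgebraicGeometry TopologicalSpace Opposite
  HomogeneousLocalization MvPolynomial

namespace Groth.Agent.Lib.Helper4.HypSmooth

set_option backward.isDefEq.respectTransparency.types false in
/-- smoothness of `V(I) → Y` can be checked on the charts `Spec Γ(X, U_i)/I(U_i)` for a family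
of affine opens `U_i` covering `V(I)`. -/
theorem smooth_of_charts {X Y : Scheme.{u}} (I : X.IdealSheafData) (π : X ⟶ Y) {J : Type*}
    (U : J → X.affineOpens)
    (hcov : ∀ z : I.subscheme, ∃ i, I.subschemeι z ∈ (U i).1)
    (h : ∀ i, Smooth (I.subschemeCover.f (U i) ≫ I.subschemeι ≫ π)) :
    Smooth (I.subschemeι ≫ π) := by
  haveI : ∀ i, IsOpenImmersion (I.subschemeCover.f (U i)) :=
    fun i => I.subschemeCover.map_prop (U i)
  refine IsZariskiLocalAtSource.of_iSup_eq_top (P := @Smooth)
    (fun i => (I.subschemeCover.f (U i)).opensRange) ?_ (fun i => ?_)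
  · rw [eq_top_iff]
    intro z _
    obtain ⟨i, hi⟩ := hcov z
    refine Opens.mem_iSup.mpr ⟨i, ?_⟩
    rw [I.opensRange_subschemeCover_map (U i)]
    exact hi
  · have h1 : (I.subschemeCover.f (U i)).opensRange.ι ≫ I.subschemeι ≫ π =
        (I.subschemeCover.f (U i)).isoOpensRange.inv ≫
          (I.subschemeCover.f (U i) ≫ I.subschemeι ≫ π) := by
      rw [← Category.assoc, ← Category.assoc, Scheme.Hom.isoOpensRange_inv_comp, Category.assoc]
    rw [h1]
    exact (MorphismProperty.cancel_left_of_respectsIso @Smooth _ _).mpr (h i)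

set_option backward.isDefEq.respectTransparency.types false in
theorem smooth_chart_of_smooth {X Y : Scheme.{u}} (I : X.IdealSheafData) (π : X ⟶ Y)
    (U : X.affineOpens) (h : Smooth (I.subschemeι ≫ π)) :
    Smooth (I.subschemeCover.f U ≫ I.subschemeι ≫ π) := by
  haveI : IsOpenImmersion (I.subschemeCover.f U) := I.subschemeCover.map_prop U
  exact IsZariskiLocalAtSource.comp h _

end Groth.Agent.Lib.Helper4.HypSmooth
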