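import Groth.Agent.Lib.Helper4CIConormalC
import Groth.Agent.Lib.Helper20StalkExact

/-!
# Presentations of ideal sheaves from chart data (helper4)

In the setting of `Helper4CIConormalB` (an ideal sheaf `J`, maps `μ_j : M_j ⟶ O_X` with chart
generators whose images generate `J` on an affine cover), suppose moreover given modules `N_a`
with chart generators and a matrix of maps `ρ_{a,j} : N_a ⟶ M_j` acting on generators through
coefficients `R_{i,a,j}`.  If the rows `R_{i,a,·}` freely generate the relations between the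
`v_{j,i}`, then `0 → ∐ N_a → ∐ M_j → J → 0` is exact.
-/

set_option autoImplicit false
set_option linter.style.haveILetI false
universe u

open CategoryTheory CategoryTheory.Limits AlgebraicGeometry TopologicalSpace Opposite

namespace Groth.Agent.Lib.Helper4.CIConormal

open Groth.Agent.Lib.Helper23.SecTw Groth.Agent.Lib.Helper23.GenLocus Groth.Agent.Lib.Helper6
  Groth.Agent.Lib.Helper23.Extend Groth.Agent.Lib.Helper23.IdealSec
  Groth.Agent.Lib.Helper20.IdealModSec Groth.Agent.Lib.Helper27EpiGen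

variable {X : Scheme.{u}}

section sections

variable {t : ℕ} (M : Fin t → X.Modules)

theorem sigma_section_eq (U : X.Opens) (x : Γ((∐ M : X.Modules), U)) :
    x = ∑ j, (Sigma.ι M j).app U ((Sigma.π M j).app U x) := by
  have h : (∑ j, Sigma.π M j ≫ Sigma.ι M j).app U x = x := by
    rw [sigma_total]; rfl
  rw [sum_app] at h
  exact h.symm

theorem sigma_section_ext (U : X.Opens) (x x' : Γ((∐ M : X.Modules), U))
    (h : ∀ j, (Sigma.π M j).app U x = (Sigma.π M j).app U x') : x = x' := by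
  rw [sigma_section_eq M U x, sigma_section_eq M U x']
  exact Finset.sum_congr rfl fun j _ => by rw [h j]

theorem π_app_sum_ι (U : X.Opens) (z : ∀ j, Γ(M j, U)) (j : Fin t) :
    (Sigma.π M j).app U (∑ b, (Sigma.ι M b).app U (z b)) = z j := by
  rw [app_sum, Finset.sum_eq_single j]
  · have h : (Sigma.ι M j ≫ Sigma.π M j).app U (z j) = z j := by
      rw [Sigma.ι_π_eq_id]; rfl
    exact h
  · intro b _ hb
    have h : (Sigma.ι M b ≫ Sigma.π M j).app U (z b) = 0 := by
      rw [Sigma.ι_π_of_ne _ hb]; rfl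
    exact h
  · intro h; exact absurd (Finset.mem_univ j) h

end sections

section pres

variable (J : X.IdealSheafData) {t s : ℕ} (M : Fin t → X.Modules) (N : Fin s → X.Modules)
  (μ : ∀ j, M j ⟶ Coh.structureModule X) (ρ : ∀ a j, N a ⟶ M j)
  {ι : Type*} (W : ι → X.Opens) (hW : IsOpenCover W) (hWa : ∀ i, IsAffineOpen (W i))
  (g : ∀ j i, Γ(M j, W i)) (hg : ∀ j i, IsGen (M j) (W i) (g j i))
  (e : ∀ a i, Γ(N a, W i)) (he : ∀ a i, IsGen (N a) (W i) (e a i))
  (R : ∀ i, Fin s → Fin t → Γ(X, W i))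
  (hρ : ∀ a j i, (ρ a j).app (W i) (e a i) = R i a j • g j i)

/-- the map `∐ N_a ⟶ ∐ M_j` with matrix `ρ`. -/
noncomputable def matMap : (∐ N) ⟶ (∐ M) := Sigma.desc (fun a => ∑ j, ρ a j ≫ Sigma.ι M j)

theorem matMap_π (j : Fin t) : matMap M N ρ ≫ Sigma.π M j = ∑ a, Sigma.π N a ≫ ρ a j := by
  refine Sigma.hom_ext _ _ fun a => ?_
  unfold matMap
  rw [← Category.assoc, Sigma.ι_desc, Preadditive.sum_comp, Preadditive.comp_sum,
    Finset.sum_eq_single j, Finset.sum_eq_single a]
  · rw [Category.assoc, Sigma.ι_π_eq_id, Category.comp_id, ← Category.assoc, Sigma.ι_π_eq_id,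
      Category.id_comp]
  · intro b _ hb
    rw [← Category.assoc, Sigma.ι_π_of_ne _ (Ne.symm hb), zero_comp]
  · intro h; exact absurd (Finset.mem_univ a) h
  · intro b _ hb
    rw [Category.assoc, Sigma.ι_π_of_ne _ hb, comp_zero]
  · intro h; exact absurd (Finset.mem_univ j) h

/-- coefficient of the `j`-th component of a section of `∐ M` over `W i`. -/
noncomputable def cf (i : ι) (j : Fin t) (x : Γ((∐ M : X.Modules), W i)) : Γ(X, W i) :=
  coef (hg j i) le_rfl ((Sigma.π M j).app (W i) x)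

theorem cf_spec (i : ι) (j : Fin t) (x : Γ((∐ M : X.Modules), W i)) :
    cf M W g hg i j x • g j i = (Sigma.π M j).app (W i) x := by
  have h := coef_spec (hg j i) le_rfl ((Sigma.π M j).app (W i) x)
  rw [res_self] at h
  exact h

theorem cf_unique (i : ι) (j : Fin t) (x : Γ((∐ M : X.Modules), W i)) (c : Γ(X, W i))
    (h : c • g j i = (Sigma.π M j).app (W i) x) : c = cf M W g hg i j x := by
  refine coef_unique (hg j i) le_rfl _ c ?_
  rw [res_self]
  exact h

theorem section_ext_cf (i : ι) (x x' : Γ((∐ M : X.Modules), W i))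
    (h : ∀ j, cf M W g hg i j x = cf M W g hg i j x') : x = x' := by
  refine sigma_section_ext M (W i) x x' fun j => ?_
  rw [← cf_spec M W g hg i j x, ← cf_spec M W g hg i j x', h j]

theorem cf_zero (i : ι) (j : Fin t) : cf M W g hg i j 0 = 0 := by
  refine (cf_unique M W g hg i j 0 0 ?_).symm
  rw [zero_smul, map_zero]

include hρ in
theorem cf_matMap (i : ι) (j : Fin t) (y : Γ((∐ N : X.Modules), W i)) :
    cf M W g hg i j ((matMap M N ρ).app (W i) y) = ∑ a, cf N W e he i a y * R i a j := by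
  refine (cf_unique M W g hg i j _ _ ?_).symm
  have h1 : (Sigma.π M j).app (W i) ((matMap M N ρ).app (W i) y) =
      (matMap M N ρ ≫ Sigma.π M j).app (W i) y := rfl
  rw [h1, matMap_π, sum_app, Finset.sum_smul]
  refine Finset.sum_congr rfl fun a _ => ?_
  change _ = (ρ a j).app (W i) ((Sigma.π N a).app (W i) y)
  rw [← cf_spec N W e he i a y, Scheme.Modules.Hom.app_smul, hρ, mul_smul]

theorem ofS_sumMap_app_cf (i : ι) (x : Γ((∐ M : X.Modules), W i)) :
    ofS (W i) ((sumMap M μ).app (W i) x) = ∑ j, cf M W g hg i j x * vv M μ W g j i :=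
  ofS_sumMap_app M μ W g hg i x

variable (hJ : ∀ i, J.ideal ⟨W i, hWa i⟩ = Ideal.span (Set.range fun j => vv M μ W g j i))
  (hrel : ∀ i a, ∑ j, R i a j * vv M μ W g j i = 0)
  (hun : ∀ i (w : Fin s → Γ(X, W i)), (∀ j, ∑ a, w a * R i a j = 0) → w = 0)
  (hex : ∀ i (c : Fin t → Γ(X, W i)), ∑ j, c j * vv M μ W g j i = 0 →
    ∃ w : Fin s → Γ(X, W i), ∀ j, c j = ∑ a, w a * R i a j)

include hW hWa hρ hrel hg he in
theorem matMap_sumMap (hN : ∀ a, (N a).IsQuasicoherent) : matMap M N ρ ≫ sumMap M μ = 0 := by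
  have hcov : ∀ x : X, ∃ i, x ∈ W i := fun x => by
    have := hW.iSup_eq_top
    have hx : x ∈ (⨆ i, W i : X.Opens) := by rw [this]; trivial
    exact Opens.mem_iSup.mp hx
  haveI : (∐ N : X.Modules).IsQuasicoherent :=
    Groth.Agent.Lib.Helper27CoprodFin.isQuasicoherent_sigma N hN
  refine hom_ext_of_affine_cover _ _ W hWa hcov _ 0 (fun i y => ?_)
  change (sumMap M μ).app (W i) ((matMap M N ρ).app (W i) y) = 0
  have h1 : ofS (W i) ((sumMap M μ).app (W i) ((matMap M N ρ).app (W i) y)) = 0 := by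
    rw [ofS_sumMap_app_cf M μ W g hg]
    simp only [cf_matMap M N ρ W g hg e he R hρ]
    calc ∑ j, (∑ a, cf N W e he i a y * R i a j) * vv M μ W g j i
        = ∑ a, cf N W e he i a y * ∑ j, R i a j * vv M μ W g j i := by
          simp only [Finset.sum_mul, Finset.mul_sum]
          rw [Finset.sum_comm]
          exact Finset.sum_congr rfl fun a _ => Finset.sum_congr rfl fun j _ => by ring
      _ = 0 := Finset.sum_eq_zero fun a _ => by rw [hrel i a, mul_zero]
  exact h1

include hW hWa hρ hun hg he in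
theorem mono_matMap (hM : ∀ j, (M j).IsQuasicoherent) (hN : ∀ a, (N a).IsQuasicoherent) :
    Mono (matMap M N ρ) := by
  have hcov : ∀ x : X, ∃ i, x ∈ W i := fun x => by
    have := hW.iSup_eq_top
    have hx : x ∈ (⨆ i, W i : X.Opens) := by rw [this]; trivial
    exact Opens.mem_iSup.mp hx
  haveI : (∐ N : X.Modules).IsQuasicoherent :=
    Groth.Agent.Lib.Helper27CoprodFin.isQuasicoherent_sigma N hN
  haveI : (∐ M : X.Modules).IsQuasicoherent :=
    Groth.Agent.Lib.Helper27CoprodFin.isQuasicoherent_sigma M hM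
  haveI : (kernel (matMap M N ρ)).IsQuasicoherent :=
    Groth.Agent.Lib.Helper23.QCohLocal.isQuasicoherent_kernel _
  apply Abelian.mono_of_kernel_ι_eq_zero
  refine hom_ext_of_affine_cover _ _ W hWa hcov _ 0 (fun i m => ?_)
  change (kernel.ι (matMap M N ρ)).app (W i) m = 0
  set y := (kernel.ι (matMap M N ρ)).app (W i) m with hy
  have h1 : (matMap M N ρ).app (W i) y = 0 := by
    have h2 : kernel.ι (matMap M N ρ) ≫ matMap M N ρ = 0 := kernel.condition _
    have h3 : (kernel.ι (matMap M N ρ) ≫ matMap M N ρ).app (W i) m = 0 := by rw [h2]; rfl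
    exact h3
  have h4 : (fun a => cf N W e he i a y) = 0 := by
    refine hun i _ (fun j => ?_)
    rw [← cf_matMap M N ρ W g hg e he R hρ, h1, cf_zero]
  refine section_ext_cf N W e he i y 0 (fun a => ?_)
  rw [cf_zero]
  exact congrFun h4 a

include hW hWa hρ hex hg he in
theorem exact_matMap_toIdeal (hM : ∀ j, (M j).IsQuasicoherent)
    (hN : ∀ a, (N a).IsQuasicoherent) (h0 : sumMap M μ ≫ ClSub.toSubscheme J = 0)
    (w0 : matMap M N ρ ≫ toIdeal J M μ h0 = 0) :
    (ShortComplex.mk (matMap M N ρ) (toIdeal J M μ h0) w0).Exact := by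
  haveI : (∐ N : X.Modules).IsQuasicoherent :=
    Groth.Agent.Lib.Helper27CoprodFin.isQuasicoherent_sigma N hN
  haveI : (∐ M : X.Modules).IsQuasicoherent :=
    Groth.Agent.Lib.Helper27CoprodFin.isQuasicoherent_sigma M hM
  haveI : (kernel (toIdeal J M μ h0)).IsQuasicoherent :=
    Groth.Agent.Lib.Helper23.QCohLocal.isQuasicoherent_kernel _
  rw [ShortComplex.exact_iff_epi_kernel_lift]
  refine Groth.Agent.Helper18OmLS.epi_of_surjective_app_cover _ W hW hWa (fun i => ?_)
  intro x
  set a := (kernel.ι (toIdeal J M μ h0)).app (W i) x with ha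
  have h1 : (toIdeal J M μ h0).app (W i) a = 0 := by
    have h2 : kernel.ι (toIdeal J M μ h0) ≫ toIdeal J M μ h0 = 0 := kernel.condition _
    have h3 : (kernel.ι (toIdeal J M μ h0) ≫ toIdeal J M μ h0).app (W i) x = 0 := by
      rw [h2]; rfl
    exact h3
  have h4 : (sumMap M μ).app (W i) a = 0 := by
    rw [← toIdeal_ι_app J M μ h0, h1, map_zero]
  obtain ⟨w, hw⟩ := hex i (fun j => cf M W g hg i j a)
    (by rw [← ofS_sumMap_app_cf M μ W g hg i a, h4]; rfl)
  set y : Γ((∐ N : X.Modules), W i) := ∑ b, (Sigma.ι N b).app (W i) (w b • e b i) with hy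
  have hcy : ∀ b, cf N W e he i b y = w b := by
    intro b
    refine (cf_unique N W e he i b y (w b) ?_).symm
    rw [hy, π_app_sum_ι]
  have h5 : (matMap M N ρ).app (W i) y = a := by
    refine section_ext_cf M W g hg i _ _ (fun j => ?_)
    rw [cf_matMap M N ρ W g hg e he R hρ, hw j]
    exact Finset.sum_congr rfl fun b _ => by rw [hcy b]
  refine ⟨y, ?_⟩
  apply Groth.Agent.Lib.Helper20.StalkExact.injective_app_of_mono
    (kernel.ι (toIdeal J M μ h0)) (W i)
  have h6 : kernel.lift (toIdeal J M μ h0) (matMap M N ρ) w0 ≫ kernel.ι (toIdeal J M μ h0) =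
      matMap M N ρ := kernel.lift_ι _ _ _
  have h7 : (kernel.ι (toIdeal J M μ h0)).app (W i)
      ((kernel.lift (toIdeal J M μ h0) (matMap M N ρ) w0).app (W i) y) =
      (matMap M N ρ).app (W i) y := congrArg (fun φ => φ.app (W i) y) h6
  exact h7.trans h5

include hW hWa hρ hg he hJ hrel hun hex in
/-- **the presentation** `0 → ∐ N_a → ∐ M_j → J → 0`. -/
theorem exists_shortExact_pres (hM : ∀ j, (M j).IsQuasicoherent)
    (hN : ∀ a, (N a).IsQuasicoherent) :
    ∃ (f : (∐ N) ⟶ (∐ M)) (p : (∐ M) ⟶ ClSub.idealMod J) (w : f ≫ p = 0),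
      (ShortComplex.mk f p w).ShortExact := by
  have h0 := sumMap_toSubscheme J M μ W hW hWa g hg hJ
  have w0 : matMap M N ρ ≫ toIdeal J M μ h0 = 0 := by
    rw [← cancel_mono (ClSub.idealModι J), zero_comp, Category.assoc]
    have h : toIdeal J M μ h0 ≫ ClSub.idealModι J = sumMap M μ := kernel.lift_ι _ _ _
    rw [h]
    exact matMap_sumMap M N μ ρ W hW hWa g hg e he R hρ hrel hN
  haveI := epi_toIdeal J M μ W hW hWa g hJ hM h0
  haveI := mono_matMap M N ρ W hW hWa g hg e he R hρ hun hM hN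
  refine ⟨matMap M N ρ, toIdeal J M μ h0, w0, ?_⟩
  exact { exact := exact_matMap_toIdeal J M N μ ρ W hW hWa g hg e he R hρ hex hM hN h0 w0
          mono_f := inferInstance
          epi_g := inferInstance }

end pres

end Groth.Agent.Lib.Helper4.CIConormal
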