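import Mathlib
import Groth.Agent.Lib.Helper4DimFormulaAO
import Groth.Agent.Lib.Helper4FibDimL

/-!
# Dimension of the image of an irreducible closed subset with an isolated fibre point (helper4)

`topologicalKrullDim_le_closure_image_of_isolated`: for `π : X ⟶ Y` locally of finite type with `Y`
locally Noetherian, `Z ⊆ X` irreducible closed containing a point isolated in its `π`-fibre,
`dim Z ≤ dim closure (π Z)` (dimension inequality).
-/

set_option autoImplicit false
set_option linter.style.haveILetI false

universe u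

open AlgebraicGeometry CategoryTheory TopologicalSpace

namespace Groth.Agent.Lib.Helper4.IsolFib

open Groth.Agent.Lib.Helper4.VarDim Groth.Agent.Lib.Helper4.FibDim
  Groth.Agent.Lib.Helper4.DimFormula Groth.Agent.Lib.Helper6.EquiSub

theorem topologicalKrullDim_subscheme_vanishingIdeal {X : Scheme.{u}} (X' : Closeds X) :
    topologicalKrullDim ↥(Scheme.IdealSheafData.vanishingIdeal X').subscheme =
      topologicalKrullDim ↥(X' : Set X) := by
  rw [IsHomeomorph.topologicalKrullDim_eq _
    (Scheme.IdealSheafData.vanishingIdeal X').subschemeι.isEmbedding.toHomeomorph.isHomeomorph]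
  rw [range_subschemeι_vanishingIdeal X']

theorem topologicalKrullDim_le_closure_image_of_isolated {X Y : Scheme.{u}}
    [IsLocallyNoetherian Y] (π : X ⟶ Y) [LocallyOfFiniteType π]
    (Z : Set X) (hZirr : IsIrreducible Z) (hZcl : IsClosed Z) (x : X) (hxZ : x ∈ Z)
    (hx : ∃ U : X.Opens, x ∈ U ∧ ∀ x' ∈ U, π.base x' = π.base x → x' = x) :
    topologicalKrullDim ↥Z ≤ topologicalKrullDim ↥(closure (π.base '' Z)) := by
  set X' : Closeds X := ⟨Z, hZcl⟩ with hX'
  set W' : Closeds Y := ⟨closure (π.base '' (X' : Set X)), isClosed_closure⟩ with hW'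
  obtain ⟨ζ, hζ⟩ := QuasiSober.sober hZirr hZcl
  have hζcl : closure ({ζ} : Set X) = Z := hζ.def
  have hη' : closure ({π.base ζ} : Set Y) = closure (π.base '' (X' : Set X)) := by
    show _ = closure (π.base '' Z)
    rw [← hζcl, closure_image_closure π.continuous, Set.image_singleton]
  have hrX := range_subschemeι_vanishingIdeal X'
  have hrY := range_subschemeι_vanishingIdeal W'
  -- the point over `x`
  obtain ⟨wx, rfl⟩ : x ∈ Set.range (Scheme.IdealSheafData.vanishingIdeal X').subschemeι.base := by
    rw [hrX]; exact hxZ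
  have hexv : ∀ w : ↥(Scheme.IdealSheafData.vanishingIdeal X').subscheme,
      ∃ v : ↥(Scheme.IdealSheafData.vanishingIdeal W').subscheme,
        (Scheme.IdealSheafData.vanishingIdeal W').subschemeι.base v =
          π.base ((Scheme.IdealSheafData.vanishingIdeal X').subschemeι.base w) := by
    intro w
    have : π.base ((Scheme.IdealSheafData.vanishingIdeal X').subschemeι.base w) ∈
        Set.range (Scheme.IdealSheafData.vanishingIdeal W').subschemeι.base := by
      rw [hrY]
      refine subset_closure ⟨_, ?_, rfl⟩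
      rw [← hrX]
      exact ⟨w, rfl⟩
    exact this
  -- generic fibre dimension is zero
  obtain ⟨vx, hvx⟩ := hexv wx
  obtain ⟨a, a', k, k', b', tw, tζ, -, -, -, -, -, hfg, -, hζdim, -, -, -, -, htζ⟩ :=
    dim_subscheme_facts_vanishingIdeal π X' hZirr wx vx hvx (π.base ζ) hη'
  have hfib0 : FlatMor.fibreDimAt ((Scheme.IdealSheafData.vanishingIdeal X').subschemeι ≫ π) wx ≤ 0 := by
    obtain ⟨U, hxU, hU⟩ := hx
    have hmem : (Scheme.IdealSheafData.vanishingIdeal X').subschemeι.base wx ∈ (X' : Set X) ∩
        π.base ⁻¹' {π.base ((Scheme.IdealSheafData.vanishingIdeal X').subschemeι.base wx)} :=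
      ⟨hxZ, rfl⟩
    rw [fibreDimAt_subscheme π X' wx hmem]
    have hopen : IsOpen ({⟨(Scheme.IdealSheafData.vanishingIdeal X').subschemeι.base wx, hmem⟩} :
        Set ↥((X' : Set X) ∩
          π.base ⁻¹' {π.base ((Scheme.IdealSheafData.vanishingIdeal X').subschemeι.base wx)})) := by
      have : ({⟨(Scheme.IdealSheafData.vanishingIdeal X').subschemeι.base wx, hmem⟩} :
          Set ↥((X' : Set X) ∩
            π.base ⁻¹' {π.base ((Scheme.IdealSheafData.vanishingIdeal X').subschemeι.base wx)})) =
          Subtype.val ⁻¹' (U : Set X) := by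
        ext t
        simp only [Set.mem_singleton_iff, Set.mem_preimage]
        constructor
        · rintro rfl
          exact hxU
        · intro ht
          exact Subtype.ext (hU t.1 ht t.2.2)
      rw [this]
      exact U.isOpen.preimage continuous_subtype_val
    refine (Groth.Agent.Lib.Helper7.TopDim.localDim_le _ ⟨_, hopen⟩ rfl).trans ?_
    haveI : Subsingleton (({⟨(Scheme.IdealSheafData.vanishingIdeal X').subschemeι.base wx, hmem⟩} :
        Set ↥((X' : Set X) ∩
          π.base ⁻¹' {π.base ((Scheme.IdealSheafData.vanishingIdeal X').subschemeι.base wx)})) :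
        Type _) := (Set.subsingleton_coe _).mpr Set.subsingleton_singleton
    exact topologicalKrullDim_zero_of_discreteTopology _
  have htζ0 : tζ = 0 := by
    rw [hfg] at hfib0
    have : k' + tw ≤ 0 := by exact_mod_cast hfib0
    omega
  -- main inequality
  have hZ' : topologicalKrullDim ↥Z =
      topologicalKrullDim ↥(Scheme.IdealSheafData.vanishingIdeal X').subscheme :=
    (topologicalKrullDim_subscheme_vanishingIdeal X').symm
  have hW : topologicalKrullDim ↥(closure (π.base '' Z)) =
      topologicalKrullDim ↥(Scheme.IdealSheafData.vanishingIdeal W').subscheme :=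
    (topologicalKrullDim_subscheme_vanishingIdeal W').symm
  rw [hZ', hW, topologicalKrullDim_eq_iSup_ringKrullDim_stalk]
  refine iSup_le fun w => ?_
  obtain ⟨v, hv⟩ := hexv w
  obtain ⟨a₁, a₁', k₁, k₁', b₁', tw₁, tζ₁, -, ha₁', -, -, hb₁', -, -, hζdim₁, -, -, -, hineq, -⟩ :=
    dim_subscheme_facts_vanishingIdeal π X' hZirr w v hv (π.base ζ) hη'
  have htζ₁ : tζ₁ = 0 := by
    have : ((tζ₁ : ℕ) : WithBot ℕ∞) = ((tζ : ℕ) : WithBot ℕ∞) := hζdim₁.symm.trans hζdim
    have : tζ₁ = tζ := by exact_mod_cast this
    omega
  rw [hb₁']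
  refine le_trans ?_ (ringKrullDim_stalk_le_topologicalKrullDim _ v)
  rw [ha₁']
  exact_mod_cast (by omega : b₁' ≤ a₁')

/-- The dimension of a space is bounded by any bound for the dimensions of its irreducible
components. -/
theorem topologicalKrullDim_le_of_forall_irreducibleComponents {T : Type*} [TopologicalSpace T]
    (d : WithBot ℕ∞) (h : ∀ C ∈ irreducibleComponents T, topologicalKrullDim ↥C ≤ d) :
    topologicalKrullDim T ≤ d := by
  unfold topologicalKrullDim
  refine iSup_le fun p => ?_
  obtain ⟨C, hCirr, hpC, hCmax⟩ := exists_preirreducible (p.last : Set T)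
    p.last.isIrreducible.isPreirreducible
  have hCirr' : IsIrreducible C := ⟨p.last.isIrreducible.nonempty.mono hpC, hCirr⟩
  have hC : C ∈ irreducibleComponents T := by
    refine ⟨hCirr', fun u hu hCu => ?_⟩
    exact (hCmax u hu.isPreirreducible hCu).le
  have hsub : ∀ i, (p i : Set T) ⊆ C := fun i =>
    (show (p i : Set T) ⊆ (p.last : Set T) from
      SetLike.coe_subset_coe.mpr (p.monotone (Fin.le_last i))).trans hpC
  have hirr : ∀ i, IsIrreducible ((Subtype.val : ↥C → T) ⁻¹' (p i : Set T)) := by
    intro i
    haveI : IrreducibleSpace ↥(p i : Set T) := Subtype.irreducibleSpace (p i).isIrreducible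
    have h1 := (IrreducibleSpace.isIrreducible_univ ↥(p i : Set T)).image
      (Set.inclusion (hsub i)) (continuous_inclusion (hsub i)).continuousOn
    rw [Set.image_univ, Set.range_inclusion] at h1
    exact h1
  let q : LTSeries (IrreducibleCloseds ↥C) :=
    { length := p.length
      toFun := fun i => ⟨(Subtype.val : ↥C → T) ⁻¹' (p i : Set T), hirr i,
        (p i).isClosed.preimage continuous_subtype_val⟩
      step := fun i => by
        have hlt : p.toFun i.castSucc < p.toFun i.succ := p.step i
        show (⟨_, hirr i.castSucc, _⟩ : IrreducibleCloseds ↥C) < ⟨_, hirr i.succ, _⟩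
        rw [← SetLike.coe_ssubset_coe] at hlt ⊢
        refine ⟨fun t ht => hlt.1 ht, fun hcon => hlt.2 ?_⟩
        intro t ht
        exact hcon (a := ⟨t, hsub _ ht⟩) ht }
  have h2 : (q.length : WithBot ℕ∞) ≤ topologicalKrullDim ↥C := Order.LTSeries.length_le_krullDim q
  exact h2.trans (h C hC)

end Groth.Agent.Lib.Helper4.IsolFib
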