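import Mathlib

set_option autoImplicit false
set_option linter.style.haveILetI false
universe u
open TensorProduct

/-! Helper lemmas for S5663 (iterated equaliser subalgebras of a finite algebra terminate). -/

namespace Groth.Agent.Lib.Helper4.IterEq

/-- linear algebra: `v ⊗ e = e ⊗ v` with `e ≠ 0` forces `v ∈ k e`. -/
theorem mem_span_of_tmul_comm {k V : Type*} [Field k] [AddCommGroup V] [Module k V] (e v : V)
    (he : e ≠ 0) (h : v ⊗ₜ[k] e = e ⊗ₜ[k] v) : v ∈ Submodule.span k {e} := by
  obtain ⟨φ, hφ⟩ : ∃ φ : Module.Dual k V, φ e ≠ 0 := by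
    by_contra hcon
    push Not at hcon
    exact he ((Module.forall_dual_apply_eq_zero_iff k e).mp hcon)
  let f : V ⊗[k] V →ₗ[k] V := (TensorProduct.lid k V).toLinearMap ∘ₗ (φ.rTensor V)
  have h1 : f (v ⊗ₜ[k] e) = φ v • e := by simp [f]
  have h2 : f (e ⊗ₜ[k] v) = φ e • v := by simp [f]
  rw [h, h2] at h1
  have : v = (φ e)⁻¹ • φ v • e := by
    rw [← h1, smul_smul, inv_mul_cancel₀ hφ, one_smul]
  rw [this]
  exact Submodule.smul_mem _ _ (Submodule.smul_mem _ _ (Submodule.mem_span_singleton_self e))

/-- uniform denominators on an f.g. submodule -/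
theorem exists_uniform_smul {A X : Type*} [CommRing A] [AddCommGroup X] [Module A X]
    (S : Submonoid A) (N' N'' : Submodule A X) (hfg : N'.FG)
    (h : ∀ x ∈ N', ∃ s ∈ S, s • x ∈ N'') : ∃ s ∈ S, ∀ x ∈ N', s • x ∈ N'' := by
  classical
  obtain ⟨T, hT⟩ := hfg
  have h' : ∀ x : X, ∃ s, x ∈ T → s ∈ S ∧ s • x ∈ N'' := by
    intro x
    by_cases hx : x ∈ T
    · obtain ⟨s, hs, hsx⟩ := h x (hT ▸ Submodule.subset_span hx)
      exact ⟨s, fun _ => ⟨hs, hsx⟩⟩
    · exact ⟨1, fun h => absurd h hx⟩
  choose s hs using h'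
  refine ⟨∏ y ∈ T, s y, Submonoid.prod_mem _ fun y hy => (hs y hy).1, ?_⟩
  intro x hx
  rw [← hT] at hx
  induction hx using Submodule.span_induction with
  | mem x hx =>
    have hx' : x ∈ T := hx
    rw [← Finset.prod_erase_mul T s hx', mul_smul]
    exact Submodule.smul_mem _ _ (hs x hx').2
  | zero => simp
  | add x y _ _ hx hy => rw [smul_add]; exact add_mem hx hy
  | smul a x _ hx => rw [smul_comm]; exact Submodule.smul_mem _ _ hx

/-- finite module over a ring whose quotient by an ideal in the annihilator is Artinian. -/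
theorem isArtinian_of_quotient {R M : Type*} [CommRing R] [AddCommGroup M] [Module R M]
    [Module.Finite R M] (I : Ideal R) (hI : I ≤ Module.annihilator R M)
    [IsArtinianRing (R ⧸ I)] : IsArtinian R M := by
  have htors : Module.IsTorsionBySet R M I := fun x a =>
    Module.mem_annihilator.mp (hI a.2) x
  letI := htors.module
  haveI : IsScalarTower R (R ⧸ I) M := htors.isScalarTower
  haveI : Module.Finite (R ⧸ I) M := Module.Finite.of_restrictScalars_finite R (R ⧸ I) M
  exact isArtinian_of_surjective_algebraMap (R := R ⧸ I) (S := R) Ideal.Quotient.mk_surjective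

/-- Localisation of a finite module at a minimal prime of its annihilator is Artinian. -/
theorem isArtinian_localizedModule {A X : Type*} [CommRing A] [IsNoetherianRing A]
    [AddCommGroup X] [Module A X] [Module.Finite A X] (p : Ideal A)
    (hp : p ∈ (Module.annihilator A X).minimalPrimes) :
    haveI := hp.1.1
    IsArtinian (Localization.AtPrime p) (LocalizedModule p.primeCompl X) := by
  haveI := hp.1.1
  let f := algebraMap A (Localization.AtPrime p)
  have hmin : IsLocalRing.maximalIdeal (Localization.AtPrime p) ∈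
      ((Module.annihilator A X).map f).minimalPrimes := by
    rwa [IsLocalization.minimalPrimes_map p.primeCompl (Localization.AtPrime p),
      Set.mem_preimage, Localization.AtPrime.under_maximalIdeal]
  haveI := IsLocalRing.quotient_artinian_of_mem_minimalPrimes_of_isLocalRing _ hmin
  refine isArtinian_of_quotient ((Module.annihilator A X).map f) ?_
  rw [Ideal.map_le_iff_le_comap]
  intro a ha
  rw [Ideal.mem_comap, Module.mem_annihilator]
  intro x
  induction x using LocalizedModule.induction_on with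
  | h m s =>
    rw [algebraMap_smul, LocalizedModule.smul'_mk, Module.mem_annihilator.mp ha m,
      LocalizedModule.zero_mk]

theorem exists_smul_mem_succ {A X : Type*} [CommRing A] [IsNoetherianRing A]
    [AddCommGroup X] [Module A X] [Module.Finite A X] (p : Ideal A)
    (hp : p ∈ (Module.annihilator A X).minimalPrimes)
    (F : ℕ → Submodule A X) (hF : Antitone F) :
    ∃ j : ℕ, ∃ s : A, s ∉ p ∧ ∀ x ∈ F j, s • x ∈ F (j + 1) := by
  haveI := hp.1.1
  haveI := isArtinian_localizedModule p hp
  let G : ℕ →o (Submodule (Localization.AtPrime p) (LocalizedModule p.primeCompl X))ᵒᵈ :=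
    ⟨fun j => OrderDual.toDual ((F j).localized p.primeCompl), fun i j hij =>
      OrderDual.toDual_le_toDual.mpr
        ((Submodule.localized'gi (Localization.AtPrime p) p.primeCompl
          (LocalizedModule.mkLinearMap p.primeCompl X)).gc.monotone_l (hF hij))⟩
  obtain ⟨j, hj⟩ := IsArtinian.monotone_stabilizes G
  have hj1 : (F j).localized p.primeCompl = (F (j + 1)).localized p.primeCompl :=
    congrArg OrderDual.ofDual (hj (j + 1) (Nat.le_succ j))
  haveI : IsNoetherian A X := isNoetherian_of_isNoetherianRing_of_finite A X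
  obtain ⟨s, hs, hsx⟩ := exists_uniform_smul p.primeCompl (F j) (F (j + 1))
    (IsNoetherian.noetherian _) (by
      intro x hx
      have hmem : LocalizedModule.mkLinearMap p.primeCompl X x ∈
          (F (j + 1)).localized p.primeCompl := by
        rw [← hj1]
        exact ⟨x, hx, 1, by simp⟩
      obtain ⟨y, hy, t, hyt⟩ := hmem
      rw [IsLocalizedModule.mk'_eq_iff] at hyt
      have := IsLocalizedModule.exists_of_eq (S := p.primeCompl)
        (f := LocalizedModule.mkLinearMap p.primeCompl X)
        (by rw [hyt, LinearMap.map_smul_of_tower] : LocalizedModule.mkLinearMap p.primeCompl X y =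
          LocalizedModule.mkLinearMap p.primeCompl X (t • x))
      obtain ⟨u, hu⟩ := this
      refine ⟨u * t, (u * t).2, ?_⟩
      have : ((u : A) * (t : A)) • x = (u : A) • y := by
        rw [mul_smul]; exact hu.symm
      rw [this]
      exact Submodule.smul_mem _ _ hy)
  exact ⟨j, s, hs, hsx⟩

/-- finite + `c ⊗ 1 = 1 ⊗ c` up to a denominator outside `p` forces `C_p = A_p`. -/
theorem key {A B : Type u} [CommRing A] [CommRing B] [Algebra A B] (C : Subalgebra A B)
    [Module.Finite A C] (p : Ideal A) [p.IsPrime] (s : A) (hs : s ∉ p)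
    (h : ∀ c : C, ((s • c) ⊗ₜ[A] (1 : C) : C ⊗[A] C) = (1 : C) ⊗ₜ[A] (s • c)) :
    ∃ t : A, t ∉ p ∧ ∀ c : C, ∃ a : A, t • c = algebraMap A C a := by
  let k := p.ResidueField
  let V := k ⊗[A] C
  let ι : C →ₗ[A] V := TensorProduct.mk A k C 1
  let Φ : C ⊗[A] C →ₗ[A] V ⊗[k] V :=
    TensorProduct.lift (((TensorProduct.mk k V V).restrictScalars₁₂ A A).compl₁₂ ι ι)
  have hΦ : ∀ c d : C, Φ (c ⊗ₜ d) = ι c ⊗ₜ ι d := fun c d => by simp [Φ]
  have hsk : algebraMap A k s ≠ 0 := by
    rwa [Ne, Ideal.algebraMap_residueField_eq_zero]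
  have h1 : ∀ c : C, ι c ⊗ₜ[k] (1 : V) = (1 : V) ⊗ₜ[k] ι c := by
    intro c
    have := congrArg Φ (h c)
    rw [hΦ, hΦ, map_smul] at this
    have hι1 : ι 1 = 1 := rfl
    rw [hι1, ← algebraMap_smul k s (ι c), ← TensorProduct.smul_tmul', TensorProduct.tmul_smul] at this
    exact (IsUnit.mk0 _ hsk).smul_left_cancel.mp this
  have h2 : ∀ v : V, v ∈ Submodule.span k {(1 : V)} := by
    by_cases h10 : (1 : V) = 0
    · intro v
      have : v = 0 := by rw [← mul_one v, h10, mul_zero]
      rw [this]; exact zero_mem _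
    intro v
    induction v using TensorProduct.induction_on with
    | zero => exact zero_mem _
    | add x y hx hy => exact add_mem hx hy
    | tmul x c =>
      have : x ⊗ₜ[A] c = x • ι c := by
        show x ⊗ₜ[A] c = x • ((1 : k) ⊗ₜ[A] c)
        rw [TensorProduct.smul_tmul', smul_eq_mul, mul_one]
      rw [this]
      exact Submodule.smul_mem _ _ (mem_span_of_tmul_comm 1 (ι c) h10 (h1 c))
  -- quotient
  let A₀ : Submodule A C := LinearMap.range (Algebra.linearMap A C)
  let M := C ⧸ A₀
  have hsub : Subsingleton (k ⊗[A] M) := by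
    refine ⟨fun a b => ?_⟩
    suffices ∀ z : k ⊗[A] M, z = 0 by rw [this a, this b]
    intro z
    obtain ⟨v, rfl⟩ := LinearMap.lTensor_surjective k (Submodule.mkQ_surjective A₀) z
    obtain ⟨x, rfl⟩ := Submodule.mem_span_singleton.mp (h2 v)
    rw [Algebra.TensorProduct.one_def, TensorProduct.smul_tmul', LinearMap.lTensor_tmul]
    have : A₀.mkQ (1 : C) = 0 := (Submodule.Quotient.mk_eq_zero _).mpr ⟨1, by simp⟩
    rw [this, TensorProduct.tmul_zero]
  have hnot : (⟨p, inferInstance⟩ : PrimeSpectrum A) ∉ Module.support A M := by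
    rw [Module.mem_support_iff_nontrivial_residueField_tensorProduct]
    exact not_nontrivial _
  rw [Module.mem_support_iff_of_finite] at hnot
  obtain ⟨t, ht, htp⟩ := SetLike.not_le_iff_exists.mp hnot
  refine ⟨t, htp, fun c => ?_⟩
  have := Module.mem_annihilator.mp ht (A₀.mkQ c)
  rw [← map_smul, Submodule.mkQ_apply, Submodule.Quotient.mk_eq_zero] at this
  obtain ⟨a, ha⟩ := this
  exact ⟨a, ha.symm⟩

end Groth.Agent.Lib.Helper4.IterEq
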