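import Groth.Agent.Lib.Helper4Japanese
import Mathlib.FieldTheory.RatFunc.Basic
import Mathlib.Algebra.CharP.Frobenius
import Mathlib.Algebra.Polynomial.Lifts
import Mathlib.Algebra.Polynomial.Expand
import Mathlib.RingTheory.Polynomial.IsIntegral
import Mathlib.RingTheory.PolynomialAlgebra
import Mathlib.RingTheory.Localization.Algebra

/-!
# Polynomial rings over N-1 / N-2 domains (helper4)

* `FrobTwist K p n`: `K` as a `K`-algebra through the iterated Frobenius.
* `exists_embedding_ratFunc`: a finite extension `L` of `K(x)` with `L^q ⊆ K(x)` embeds into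
  `K₁(x^{1/q})` for a finite extension `K₁/K` (as a map `L → RatFunc K₁` sending `f(x)` to
  `expand q f`).
* `finite_integralClosure_ratFunc_twisted`: finiteness of the integral closure of `R[X]` in
  `RatFunc K₁` for the structure `f ↦ expand q f`.
* `isN2_polynomial`, `isN1_polynomial` (Stacks 0332 / EGA 0_IV 23.1.?).
-/

set_option autoImplicit false
set_option linter.style.haveILetI false
universe u

namespace Groth.Agent.Lib.Helper4.Japanese

open Polynomial Groth.Agent.Lib.Helper14 CAlg

/-- `K` viewed as a `K`-algebra through the `n`-fold Frobenius. -/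
def FrobTwist (K : Type*) (_p _n : ℕ) := K

section FrobTwist

variable (K : Type*) [Field K] (p : ℕ) [ExpChar K p] (n : ℕ)

noncomputable instance : Field (FrobTwist K p n) := inferInstanceAs (Field K)

noncomputable instance : Algebra K (FrobTwist K p n) := (iterateFrobenius K p n).toAlgebra

/-- The identity ring isomorphism. -/
def FrobTwist.toK : FrobTwist K p n ≃+* K := RingEquiv.refl K

theorem FrobTwist.toK_algebraMap (c : K) :
    FrobTwist.toK K p n (algebraMap K (FrobTwist K p n) c) = c ^ p ^ n := rfl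

theorem FrobTwist.algebraMap_toK (s : FrobTwist K p n) :
    algebraMap K (FrobTwist K p n) (FrobTwist.toK K p n s) = s ^ p ^ n := rfl

theorem FrobTwist.isIntegral (s : FrobTwist K p n) : IsIntegral K s := by
  have hp : p ^ n ≠ 0 := pow_ne_zero _ (expChar_pos K p).ne'
  refine ⟨X ^ p ^ n - C (FrobTwist.toK K p n s), monic_X_pow_sub_C _ hp, ?_⟩
  rw [eval₂_sub, eval₂_pow, eval₂_X, eval₂_C, FrobTwist.algebraMap_toK, sub_self]

end FrobTwist

theorem exists_embedding_ratFunc (K : Type u) [Field K] (p : ℕ) [ExpChar K p] (n : ℕ)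
    (F L : Type u) [Field F] [Field L] [Algebra K[X] F] [IsFractionRing K[X] F] [Algebra F L]
    (ι : Type) [Finite ι] (y : ι → L) (hy : Algebra.adjoin F (Set.range y) = ⊤)
    (hyq : ∀ i, y i ^ p ^ n ∈ (algebraMap F L).range) :
    ∃ (K₁ : Type u) (_ : Field K₁) (_ : Algebra K K₁) (_ : FiniteDimensional K K₁)
      (σ : L →+* RatFunc K₁), ∀ f : K[X],
        σ (algebraMap F L (algebraMap K[X] F f)) =
          algebraMap K₁[X] (RatFunc K₁) (expand K₁ (p ^ n) (f.map (algebraMap K K₁))) := by
  classical
  let T := FrobTwist K p n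
  have hfrac : ∀ i, ∃ a b : K[X], b ≠ 0 ∧
      algebraMap F L (algebraMap K[X] F a / algebraMap K[X] F b) = y i ^ p ^ n := by
    intro i
    obtain ⟨g, hg⟩ := hyq i
    obtain ⟨a, b, hb, rfl⟩ := IsFractionRing.div_surjective (A := K[X]) g
    exact ⟨a, b, nonZeroDivisors.ne_zero hb, hg⟩
  choose a b hb hab using hfrac
  let S : Set T := ⋃ i, ((↑(a i).coeffs : Set K) ∪ (↑(b i).coeffs : Set K))
  have hSfin : S.Finite :=
    Set.finite_iUnion (fun i => (Finset.finite_toSet _).union (Finset.finite_toSet _))
  haveI : Finite S := hSfin.to_subtype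
  let K₁ : IntermediateField K T := IntermediateField.adjoin K S
  haveI : FiniteDimensional K K₁ :=
    IntermediateField.finiteDimensional_adjoin (fun s _ => FrobTwist.isIntegral K p n s)
  let inc : K₁ →+* K := (FrobTwist.toK K p n).toRingHom.comp (algebraMap K₁ T)
  let j : K₁[X] →+* K[X] := mapRingHom inc
  have hj_inj : Function.Injective j := map_injective _ inc.injective
  let ρ₀ : K₁[X] →+* F := (algebraMap K[X] F).comp j
  have hρ₀ : Function.Injective ρ₀ := (IsFractionRing.injective K[X] F).comp hj_inj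
  let ρ : RatFunc K₁ →+* F := IsFractionRing.lift hρ₀
  have hρ : ∀ f, ρ (algebraMap K₁[X] (RatFunc K₁) f) = algebraMap K[X] F (j f) :=
    IsFractionRing.lift_algebraMap hρ₀
  let ρ' : RatFunc K₁ →+* L := (algebraMap F L).comp ρ
  have hinc : inc.comp (algebraMap K K₁) = iterateFrobenius K p n := by
    ext c; rfl
  have h1 : ∀ h : K[X], j (expand K₁ (p ^ n) (h.map (algebraMap K K₁))) = h ^ p ^ n := by
    intro h
    simp only [j, coe_mapRingHom]
    rw [map_expand, map_map, hinc, ← map_expand]
    exact map_iterateFrobenius_expand p h n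
  have h2 : ∀ g : F, g ^ p ^ n ∈ ρ.fieldRange := by
    intro g
    obtain ⟨c, d, hd, rfl⟩ := IsFractionRing.div_surjective (A := K[X]) g
    rw [div_pow, ← map_pow, ← map_pow, ← h1 c, ← h1 d]
    exact div_mem ⟨algebraMap _ _ _, hρ _⟩ ⟨algebraMap _ _ _, hρ _⟩
  have h3 : ∀ (c : K[X]), (∀ m, c.coeff m ∈ Set.range inc) →
      algebraMap K[X] F c ∈ ρ.fieldRange := by
    intro c hc
    have hl : c ∈ lifts inc := (lifts_iff_coeff_lifts c).mpr hc
    obtain ⟨c', rfl⟩ := (mem_lifts c).mp hl
    exact ⟨algebraMap _ _ c', hρ c'⟩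
  have hS : ∀ s ∈ S, (s : K) ∈ Set.range inc := fun s hs =>
    ⟨⟨s, IntermediateField.subset_adjoin K S hs⟩, rfl⟩
  have hcoef : ∀ (c : K[X]), ((↑c.coeffs : Set K) ⊆ S) → ∀ m, c.coeff m ∈ Set.range inc := by
    intro c hc m
    by_cases h0 : c.coeff m = 0
    · rw [h0]; exact ⟨0, map_zero _⟩
    · exact hS _ (hc (coeff_mem_coeffs h0))
  have ha : ∀ i, algebraMap K[X] F (a i) ∈ ρ.fieldRange := fun i =>
    h3 _ (hcoef _ (fun s hs => Set.mem_iUnion.mpr ⟨i, Or.inl hs⟩))
  have hb' : ∀ i, algebraMap K[X] F (b i) ∈ ρ.fieldRange := fun i =>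
    h3 _ (hcoef _ (fun s hs => Set.mem_iUnion.mpr ⟨i, Or.inr hs⟩))
  haveI : ExpChar F p :=
    expChar_of_injective_ringHom (f := (algebraMap K[X] F).comp C)
      ((IsFractionRing.injective K[X] F).comp C_injective) p
  haveI : ExpChar L p := expChar_of_injective_ringHom (algebraMap F L).injective p
  let W : Subalgebra F L :=
    { (ρ'.range.comap (iterateFrobenius L p n)).toSubsemiring with
      algebraMap_mem' := fun g => by
        obtain ⟨z, hz⟩ := h2 g
        refine ⟨z, ?_⟩
        change algebraMap F L (ρ z) = iterateFrobenius L p n (algebraMap F L g)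
        rw [hz, iterateFrobenius_def, map_pow] }
  have hW : W = ⊤ := by
    rw [_root_.eq_top_iff, ← hy]
    refine Algebra.adjoin_le ?_
    rintro _ ⟨i, rfl⟩
    obtain ⟨z, hz⟩ := div_mem (ha i) (hb' i)
    refine ⟨z, ?_⟩
    change algebraMap F L (ρ z) = iterateFrobenius L p n (y i)
    rw [hz, hab, iterateFrobenius_def]
  have hsurj : ∀ v : L, iterateFrobenius L p n v ∈ ρ'.range := fun v => by
    have : v ∈ W := hW ▸ Algebra.mem_top
    exact this
  have hρ'inj : Function.Injective ρ' := ρ'.injective
  let e : RatFunc K₁ ≃+* ρ'.range := RingEquiv.ofBijective ρ'.rangeRestrict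
    ⟨fun x y hxy => hρ'inj (congrArg Subtype.val hxy), ρ'.rangeRestrict_surjective⟩
  let σ : L →+* RatFunc K₁ :=
    e.symm.toRingHom.comp ((iterateFrobenius L p n).codRestrict ρ'.range hsurj)
  have hσ : ∀ v, ρ' (σ v) = v ^ p ^ n := fun v => by
    have := e.apply_symm_apply ((iterateFrobenius L p n).codRestrict ρ'.range hsurj v)
    exact congrArg Subtype.val this
  refine ⟨K₁, inferInstance, inferInstance, inferInstance, σ, fun f => ?_⟩
  apply hρ'inj
  rw [hσ]
  symm
  change algebraMap F L (ρ _) = _
  rw [hρ, h1, map_pow, map_pow]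

/-- `S[X]` is a finite `R[X]`-module if `S` is a finite `R`-module. -/
theorem finite_mapRingHom (R S : Type*) [CommRing R] [CommRing S] [Algebra R S]
    [Module.Finite R S] : (mapRingHom (algebraMap R S)).Finite := by
  letI := Polynomial.algebra (R := R) (A := S)
  have : Module.Finite R[X] S[X] :=
    Module.Finite.equiv (Algebra.IsPushout.equiv R R[X] S S[X]).toLinearEquiv
  exact RingHom.finite_algebraMap.mpr this

/-- A ring map whose target is generated by one integral element is finite. -/
theorem finite_of_closure_integral {A B : Type*} [CommRing A] [CommRing B] (φ : A →+* B) (x : B)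
    (hx : φ.IsIntegralElem x)
    (hgen : ∀ b : B, b ∈ Subring.closure ((φ.range : Set B) ∪ {x})) : φ.Finite := by
  letI := φ.toAlgebra
  refine RingHom.finite_algebraMap.mpr ?_
  have hX : IsIntegral A x := hx
  have htop : Algebra.adjoin A {x} = ⊤ := by
    rw [_root_.eq_top_iff]
    intro b _
    have h1 : Subring.closure ((φ.range : Set B) ∪ {x}) ≤ (Algebra.adjoin A {x}).toSubring := by
      rw [Subring.closure_le]
      rintro b (⟨a, rfl⟩ | rfl)
      · exact Subalgebra.algebraMap_mem (Algebra.adjoin A {x}) a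
      · exact Algebra.subset_adjoin rfl
    exact h1 (hgen b)
  have := Algebra.finite_adjoin_simple_of_isIntegral hX
  rw [htop] at this
  exact Module.Finite.equiv (Subalgebra.topEquiv (R := A) (A := B)).toLinearEquiv

/-- `expand q` is a finite ring endomorphism of `S[X]` for `q > 0`. -/
theorem finite_expand (S : Type*) [CommRing S] (q : ℕ) (hq : 0 < q) :
    (expand S q : S[X] →+* S[X]).Finite := by
  refine finite_of_closure_integral _ (X : S[X]) ?_ ?_
  · refine ⟨X ^ q - C (X : S[X]), monic_X_pow_sub_C _ hq.ne', ?_⟩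
    rw [eval₂_sub, eval₂_pow, eval₂_X, eval₂_C]
    simp
  · intro g
    induction g using Polynomial.induction_on' with
    | add f g hf hg => exact add_mem hf hg
    | monomial m a =>
      rw [← C_mul_X_pow_eq_monomial]
      have h1 : (X : S[X]) ∈ Subring.closure
          (((expand S q : S[X] →+* S[X]).range : Set S[X]) ∪ {X}) :=
        Subring.subset_closure (Or.inr rfl)
      have h2 : (C a : S[X]) ∈ Subring.closure
          (((expand S q : S[X] →+* S[X]).range : Set S[X]) ∪ {X}) :=
        Subring.subset_closure (Or.inl ⟨C a, by simp⟩)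
      exact mul_mem h2 (pow_mem h1 _)

theorem finite_integralClosure_ratFunc_twisted (R S : Type u) [CommRing R] [CommRing S]
    [IsDomain S] [IsIntegrallyClosed S] [Algebra R S] [Module.Finite R S] (K₁ : Type u) [Field K₁]
    [Algebra S K₁] [IsFractionRing S K₁] (q : ℕ) (hq : 0 < q) [Algebra R[X] (RatFunc K₁)]
    (halg : ∀ f : R[X], algebraMap R[X] (RatFunc K₁) f =
      algebraMap K₁[X] (RatFunc K₁)
        (expand K₁ q (f.map ((algebraMap S K₁).comp (algebraMap R S))))) :
    Module.Finite R[X] (integralClosure R[X] (RatFunc K₁)) := by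
  letI a1 : Algebra S[X] K₁[X] := Polynomial.algebra S K₁
  haveI : IsScalarTower S[X] K₁[X] (RatFunc K₁) := inferInstance
  have ha2 : ∀ g : S[X], algebraMap S[X] (RatFunc K₁) g =
      algebraMap K₁[X] (RatFunc K₁) (map (algebraMap S K₁) g) := fun g => by
    rw [IsScalarTower.algebraMap_apply S[X] K₁[X] (RatFunc K₁)]; rfl
  haveI : IsLocalization ((nonZeroDivisors S).map C) K₁[X] :=
    Polynomial.isLocalization (nonZeroDivisors S) K₁
  haveI : IsFractionRing S[X] (RatFunc K₁) :=
    isFractionRing_of_isLocalization_of_isFractionRing ((nonZeroDivisors S).map C) K₁[X]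
      (RatFunc K₁)
  have h0 : integralClosure S[X] (RatFunc K₁) = ⊥ :=
    IsIntegrallyClosed.integralClosure_eq_bot S[X] (RatFunc K₁)
  have h1 : Module.Finite S[X] (integralClosure S[X] (RatFunc K₁)) := by
    rw [h0]; infer_instance
  letI a3 : Algebra R[X] S[X] :=
    ((expand S q : S[X] →+* S[X]).comp (mapRingHom (algebraMap R S))).toAlgebra
  haveI : Module.Finite R[X] S[X] :=
    RingHom.finite_algebraMap.mp
      (RingHom.Finite.comp (finite_expand S q hq) (finite_mapRingHom R S))
  haveI : IsScalarTower R[X] S[X] (RatFunc K₁) := IsScalarTower.of_algebraMap_eq (fun f => by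
    rw [halg, ha2]
    change _ = algebraMap K₁[X] _ (map (algebraMap S K₁) (expand S q (map (algebraMap R S) f)))
    rw [map_expand, map_map])
  exact finite_integralClosure_of_finite_tower R[X] S[X] (RatFunc K₁) h1

/-- A finite purely inseparable extension has a uniform exponent on a basis. -/
theorem exists_uniform_exponent (F L : Type*) [Field F] [Field L] [Algebra F L]
    [FiniteDimensional F L] [IsPurelyInseparable F L] (p : ℕ) [ExpChar F p] :
    ∃ (d : ℕ) (y : Fin d → L) (n : ℕ), Algebra.adjoin F (Set.range y) = ⊤ ∧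
      ∀ i, y i ^ p ^ n ∈ (algebraMap F L).range := by
  let b := Module.finBasis F L
  have hex : ∀ i, ∃ n : ℕ, b i ^ p ^ n ∈ (algebraMap F L).range := fun i =>
    IsPurelyInseparable.pow_mem F p (b i)
  choose m hm using hex
  refine ⟨_, b, Finset.univ.sup m, ?_, fun i => ?_⟩
  · rw [_root_.eq_top_iff]
    intro v _
    have : v ∈ Submodule.span F (Set.range b) := by rw [b.span_eq]; trivial
    exact Algebra.span_le_adjoin F _ this
  · have hle : m i ≤ Finset.univ.sup m := Finset.le_sup (Finset.mem_univ i)
    obtain ⟨k, hk⟩ := Nat.exists_eq_add_of_le hle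
    rw [hk, pow_add, pow_mul]
    exact pow_mem (hm i) _

theorem isN2_polynomial (R : Type u) [CommRing R] [IsDomain R] [IsNoetherianRing R]
    (h : IsN2 R) : IsN2 R[X] := by
  intro L _ _ _ _ hfd
  let K := FractionRing R
  let F₀ := FractionRing R[X]
  refine finite_integralClosure_of_purelyInseparable R[X] F₀ ?_ L
  intro L' _ _ _ _ hfd' hpi
  let p := ringExpChar K
  haveI : ExpChar K p := ringExpChar.expChar K
  let M : Submonoid R[X] := (nonZeroDivisors R).map C
  letI aP : Algebra R[X] K[X] := Polynomial.algebra R K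
  haveI : IsLocalization M K[X] := Polynomial.isLocalization (nonZeroDivisors R) K
  have hunit : ∀ y : M, IsUnit (algebraMap R[X] F₀ y) := by
    rintro ⟨_, r, hr, rfl⟩
    refine IsUnit.mk0 _ ?_
    rw [Ne, map_eq_zero_iff _ (IsFractionRing.injective R[X] F₀), C_eq_zero]
    exact nonZeroDivisors.ne_zero hr
  let φ : K[X] →+* F₀ := IsLocalization.lift (M := M) hunit
  letI : Algebra K[X] F₀ := φ.toAlgebra
  haveI : IsScalarTower R[X] K[X] F₀ :=
    IsScalarTower.of_algebraMap_eq (fun f => (IsLocalization.lift_eq hunit f).symm)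
  haveI : IsFractionRing K[X] F₀ :=
    IsFractionRing.isFractionRing_of_isDomain_of_isLocalization M K[X] F₀
  haveI : ExpChar F₀ p :=
    expChar_of_injective_ringHom (f := (algebraMap K[X] F₀).comp C)
      ((IsFractionRing.injective K[X] F₀).comp C_injective) p
  obtain ⟨d, y, n, hy, hyq⟩ := exists_uniform_exponent F₀ L' p
  obtain ⟨K₁, _, _, _, σ, hσ⟩ := exists_embedding_ratFunc K p n F₀ L' (Fin d) y hy hyq
  letI : Algebra R[X] (RatFunc K₁) := (σ.comp (algebraMap R[X] L')).toAlgebra
  let σA : L' →ₐ[R[X]] RatFunc K₁ := { σ with commutes' := fun _ => rfl }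
  refine finite_integralClosure_of_injective R[X] L' (RatFunc K₁) σA σ.injective ?_
  letI : Algebra R K₁ := ((algebraMap K K₁).comp (algebraMap R K)).toAlgebra
  haveI : IsScalarTower R K K₁ := IsScalarTower.of_algebraMap_eq (fun _ => rfl)
  haveI hfin : Module.Finite R (integralClosure R K₁) := IsN2.finite h K K₁
  haveI : IsFractionRing (integralClosure R K₁) K₁ :=
    integralClosure.isFractionRing_of_finite_extension K K₁
  haveI : IsIntegrallyClosed (integralClosure R K₁) :=
    integralClosure.isIntegrallyClosedOfFiniteExtension K (L := K₁)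
  refine finite_integralClosure_ratFunc_twisted R (integralClosure R K₁) K₁ (p ^ n)
    (pow_pos (expChar_pos K p) n) (fun f => ?_)
  change σ (algebraMap R[X] L' f) = _
  rw [IsScalarTower.algebraMap_apply R[X] F₀ L', IsScalarTower.algebraMap_apply R[X] K[X] F₀, hσ]
  congr 2
  change map (algebraMap K K₁) (map (algebraMap R K) f) = _
  rw [map_map]
  rfl

theorem isN1_polynomial (R : Type u) [CommRing R] [IsDomain R]
    (h : IsN1 R) : IsN1 R[X] := by
  let K := FractionRing R
  let R' := integralClosure R K
  haveI : Module.Finite R R' := h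
  haveI : IsFractionRing R' K := integralClosure.isFractionRing_of_finite_extension K K
  haveI : IsIntegrallyClosed R' := integralClosure.isIntegrallyClosedOfFiniteExtension K (L := K)
  letI aP : Algebra R[X] K[X] := Polynomial.algebra R K
  let M : Submonoid R[X] := (nonZeroDivisors R).map C
  haveI : IsLocalization M K[X] := Polynomial.isLocalization (nonZeroDivisors R) K
  haveI : IsScalarTower R[X] K[X] (RatFunc K) := inferInstance
  haveI : IsFractionRing R[X] (RatFunc K) :=
    isFractionRing_of_isLocalization_of_isFractionRing M K[X] (RatFunc K)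
  rw [isN1_iff_of_isFractionRing R[X] (RatFunc K)]
  refine finite_integralClosure_ratFunc_twisted R R' K 1 one_pos (fun f => ?_)
  rw [IsScalarTower.algebraMap_apply R[X] K[X] (RatFunc K), expand_one,
    ← IsScalarTower.algebraMap_eq R R' K]
  rfl

end Groth.Agent.Lib.Helper4.Japanese
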