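import Groth.Agent.Lib.Helper4LambdaSplit
import Groth.Agent.Lib.Helper4LambdaFil
import Groth.Prelude.Def_KRR

/-!
# Ample line elements (helper4): `w - 1` is nilpotent for every line element `w`.
-/

universe u
namespace Groth.Agent.Lib.Helper4
open PowerSeries LambdaRing Finset

section
variable {K : Type u} [CommRing K] [LambdaOps K]

theorem gamma_sub_natCast_eq_zero (h1 : ∀ k : ℕ, 2 ≤ k → LambdaOps.lam k (1 : K) = 0)
    (e : K) (m : ℕ) (he : ∀ i, m < i → LambdaOps.lam i e = 0) (k : ℕ) (hk : m < k) :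
    gamma k (e - (m : K)) = 0 := by
  rw [← coeff_gammaSeries, gammaSeries_sub_natCast h1 e m he, map_sum]
  apply sum_eq_zero
  intro i hi
  rw [mem_range] at hi
  rw [coeff_C_mul, coeff_X_pow_mul', if_pos (by omega), coeff_one_sub_X_pow,
    Nat.choose_eq_zero_of_lt (by omega)]
  simp

/-- if `l₁ - l₂ = e - m` with `l₁, l₂` "lines" and `λ^i e = 0` for `i > m`, then
`(l₂ - 1)^m (l₁ - l₂) = 0`. -/
theorem pow_mul_sub_eq_zero (h1 : ∀ k : ℕ, 2 ≤ k → LambdaOps.lam k (1 : K) = 0)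
    (l₁ l₂ : K) (hl₁ : ∀ j : ℕ, 2 ≤ j → LambdaOps.lam j l₁ = 0)
    (hl₂ : ∀ j : ℕ, 2 ≤ j → LambdaOps.lam j l₂ = 0)
    (e : K) (m : ℕ) (he : ∀ i, m < i → LambdaOps.lam i e = 0) (heq : l₁ - l₂ = e - (m : K)) :
    (l₂ - 1) ^ m * (l₁ - l₂) = 0 := by
  have hG : gammaSeries (l₁ - l₂) * (1 + C (l₂ - 1) * X) = 1 + C (l₁ - 1) * X := by
    rw [← gammaSeries_sub_one h1 l₂ hl₂, ← gammaSeries_sub_one h1 l₁ hl₁, ← gammaSeries_add]
    congr 1; ring
  have hrec : ∀ k, gamma (k + 2) (l₁ - l₂) = -(l₂ - 1) * gamma (k + 1) (l₁ - l₂) := by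
    intro k
    have := congrArg (coeff (k + 2)) hG
    rw [mul_add, mul_one, map_add, ← mul_assoc, coeff_succ_mul_X, coeff_mul_C, coeff_gammaSeries,
      coeff_gammaSeries, map_add, coeff_one, if_neg (by omega), coeff_succ_mul_X, coeff_C,
      if_neg (by omega), add_zero] at this
    linear_combination this
  have h1' : gamma 1 (l₁ - l₂) = l₁ - l₂ := gamma_one _
  have hall : ∀ k, gamma (k + 1) (l₁ - l₂) = (-(l₂ - 1)) ^ k * (l₁ - l₂) := by
    intro k
    induction k with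
    | zero => rw [pow_zero, one_mul, h1']
    | succ k ih => rw [hrec, ih, pow_succ]; ring
  have hz := gamma_sub_natCast_eq_zero h1 e m he (m + 1) (by omega)
  rw [← heq, hall] at hz
  rw [neg_pow] at hz
  have hu : IsUnit ((-1 : K) ^ m) := (isUnit_one.neg).pow m
  rw [mul_assoc] at hz
  exact (hu.mul_right_eq_zero).1 hz

theorem isUnit_of_isLine (P : PosStructure K) (u : K) (hu : P.IsLine u) : IsUnit u := by
  have := P.isUnit_lam u hu.1
  rw [hu.2] at this
  simpa [LambdaOps.lam_one] using this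

theorem isNilpotent_line_sub_one_of_isAmpleElt (P : PosStructure K) (u : K)
    (hu : KRR.IsAmpleElt P u) (w : K) (hw : P.IsLine w) : IsNilpotent (w - 1) := by
  obtain ⟨huL, hamp⟩ := hu
  obtain ⟨n₁, hn₁⟩ := hamp (1 - w)
  obtain ⟨n₂, hn₂⟩ := hamp (w - 1)
  set n := max n₁ n₂ with hn
  obtain ⟨e, m, he, hem⟩ := hn₁ n (le_max_left _ _)
  obtain ⟨e', m', he', hem'⟩ := hn₂ n (le_max_right _ _)
  have hun : P.IsLine (u ^ n) := isLine_pow P huL n
  have hunw : P.IsLine (u ^ n * w) := isLine_mul P hun hw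
  have h1 := lam_one_eq_zero P
  have hm : (P.aug e).toNat = m := by
    have := congrArg P.aug hem
    rw [map_mul, map_sub, map_one, hw.2, sub_self, mul_zero, map_sub, map_natCast] at this
    have h2 : P.aug e = m := by linarith
    rw [h2]; rfl
  have hm' : (P.aug e').toNat = m' := by
    have := congrArg P.aug hem'
    rw [map_mul, map_sub, map_one, hw.2, sub_self, mul_zero, map_sub, map_natCast] at this
    have h2 : P.aug e' = m' := by linarith
    rw [h2]; rfl
  have ha := pow_mul_sub_eq_zero h1 (u ^ n) (u ^ n * w) (lam_eq_zero_of_isLine P _ hun)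
    (lam_eq_zero_of_isLine P _ hunw) e m (fun i hi => lam_eq_zero_of_pos P e he i (by omega))
    (by rw [← hem]; ring)
  have hb := pow_mul_sub_eq_zero h1 (u ^ n * w) (u ^ n) (lam_eq_zero_of_isLine P _ hunw)
    (lam_eq_zero_of_isLine P _ hun) e' m' (fun i hi => lam_eq_zero_of_pos P e' he' i (by omega))
    (by rw [← hem']; ring)
  have huu : IsUnit (u ^ n) := (isUnit_of_isLine P u huL).pow n
  -- annihilator ideal of (w - 1)
  set I : Ideal K := (Submodule.span K {w - 1}).annihilator with hI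
  have hmemI : ∀ y : K, y ∈ I ↔ y * (w - 1) = 0 := by
    intro y
    rw [hI, Submodule.mem_annihilator_span_singleton, smul_eq_mul]
  have hβ : (u ^ n * w - 1) ∈ I.radical := by
    refine ⟨m, ?_⟩
    rw [hmemI]
    have : (u ^ n * w - 1) ^ m * (u ^ n - u ^ n * w) = -(u ^ n) * ((u ^ n * w - 1) ^ m * (w - 1)) := by
      ring
    rw [this] at ha
    exact (huu.neg.mul_right_eq_zero).1 ha
  have hα : (u ^ n - 1) ∈ I.radical := by
    refine ⟨m', ?_⟩
    rw [hmemI]
    have : (u ^ n - 1) ^ m' * (u ^ n * w - u ^ n) = (u ^ n) * ((u ^ n - 1) ^ m' * (w - 1)) := by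
      ring
    rw [this] at hb
    exact (huu.mul_right_eq_zero).1 hb
  have hdiff : u ^ n * (w - 1) ∈ I.radical := by
    have : u ^ n * (w - 1) = (u ^ n * w - 1) - (u ^ n - 1) := by ring
    rw [this]
    exact Ideal.sub_mem _ hβ hα
  obtain ⟨v, hv⟩ := huu
  have hw1 : w - 1 ∈ I.radical := by
    have := Ideal.mul_mem_left I.radical (↑v⁻¹ : K) hdiff
    rwa [← hv, ← mul_assoc, Units.inv_mul, one_mul] at this
  obtain ⟨N, hN⟩ := hw1
  rw [hmemI] at hN
  exact ⟨N + 1, by rw [pow_succ]; exact hN⟩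

end

end Groth.Agent.Lib.Helper4
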