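import Groth.Prelude.Def_LambdaSp
import Mathlib
import Groth.Agent.Lib.Helper4LambdaUniv3

/-!
# Helper4: binomial rings are special λ-rings.
-/
set_option autoImplicit false
universe u
open Finset LambdaRing

namespace Groth.Agent.Lib.Helper4.LUniv

open PowerSeries Groth.Agent.Lib.Helper4.Newton

section Binomial

variable {K : Type u} [CommRing K] [LambdaOps K] [BinomialRing K]

theorem lam_succ_mul_of_isBinomial (hKb : IsBinomial K) (n : ℕ) (x : K) :
    LambdaOps.lam (n + 1) x * ((n : K) + 1) = (x - n) * LambdaOps.lam n x := by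
  rw [hKb, hKb]
  have h := Ring.choose_smul_choose x (Nat.le_succ n)
  rw [Nat.choose_succ_self_right, Nat.succ_sub (le_refl n), Nat.sub_self,
    Ring.choose_one_right, nsmul_eq_mul] at h
  push_cast at h
  rw [mul_comm, h, mul_comm]

theorem ode_of_isBinomial (hKb : IsBinomial K) (x : K) :
    (1 + X) * derivative K (lamSeries x) = C x * lamSeries x := by
  ext n
  rw [add_mul, one_mul, map_add, coeff_derivative, coeff_lamSeries', coeff_C_mul, coeff_lamSeries']
  rcases n with _ | n
  · rw [coeff_zero_X_mul, add_zero, lam_succ_mul_of_isBinomial hKb]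
    simp
  · rw [coeff_succ_X_mul, coeff_derivative, coeff_lamSeries', lam_succ_mul_of_isBinomial hKb]
    push_cast
    ring

theorem logDerivSeries_of_isBinomial (hKb : IsBinomial K) (x : K) :
    logDerivSeries x = C x * PowerSeries.mk (fun k => (-1 : K) ^ k) := by
  have h1 : (1 + X) * logDerivSeries x = C x := by
    rw [logDerivSeries, ← mul_assoc, ode_of_isBinomial hKb, mul_assoc, lamSeries_mul_invOfUnit,
      mul_one]
  have h2 := Groth.Agent.S8686.one_add_X_mul K
  calc logDerivSeries x = logDerivSeries x * ((1 + X) * PowerSeries.mk (fun k => (-1 : K) ^ k)) := by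
        rw [h2, mul_one]
    _ = ((1 + X) * logDerivSeries x) * PowerSeries.mk (fun k => (-1 : K) ^ k) := by ring
    _ = _ := by rw [h1]

theorem adamsOp_of_isBinomial (hKb : IsBinomial K) (k : ℕ) (x : K) : adamsOp (k + 1) x = x := by
  rw [adamsOp, logDerivSeries_of_isBinomial hKb, coeff_C_mul, coeff_mk]
  have : (-1 : K) ^ k * (-1 : K) ^ k = 1 := by
    rw [← pow_add, ← two_mul, pow_mul, neg_one_sq, one_pow]
  calc (-1 : K) ^ k * (x * (-1 : K) ^ k) = ((-1 : K) ^ k * (-1 : K) ^ k) * x := by ring
    _ = x := by rw [this, one_mul]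

attribute [local instance] BinomialRing.toIsAddTorsionFree in
theorem isSpecial_of_isBinomial (hKb : IsBinomial K) : IsSpecial K := by
  have hid : ∀ k : ℕ, 1 ≤ k → ∀ x : K, adamsOp k x = x := by
    intro k hk x
    obtain ⟨k, rfl⟩ := Nat.exists_eq_succ_of_ne_zero (Nat.one_le_iff_ne_zero.mp hk)
    exact adamsOp_of_isBinomial hKb k x
  apply isSpecial_of_adamsOp' natCancel_of_isAddTorsionFree
  · intro k hk; exact hid k hk 1
  · intro k hk x y; rw [hid k hk, hid k hk, hid k hk]
  · intro k k' hk hk' x
    rw [hid k' hk', hid k hk, hid (k * k') (Nat.mul_pos hk hk')]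

end Binomial

end Groth.Agent.Lib.Helper4.LUniv
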