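import Groth.Agent.Lib.Helper4LambdaAdamsFil
import Groth.Prelude.Def_KRR

/-!
# Bott's cannibalistic class (helper4): `ψ^j(λ_{-1} e) = λ_{-1}(e) θ^j(e)`.
-/

universe u
namespace Groth.Agent.Lib.Helper4
open PowerSeries LambdaRing Finset

section
variable {K : Type u} [CommRing K] [LambdaOps K]

theorem aeval_esymm_bottPoly (j m : ℕ) :
    MvPolynomial.aeval (fun i : Fin m => MvPolynomial.esymm (Fin m) ℤ (i + 1)) (KRR.bottPoly j m) =
      KRR.bottSym j m := by
  rw [← MvPolynomial.esymmAlgHom_apply]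
  have : MvPolynomial.esymmAlgHom (Fin m) ℤ m (KRR.bottPoly j m) =
      ⟨KRR.bottSym j m, KRR.bottSym_isSymmetric j m⟩ := by
    have := (MvPolynomial.esymmAlgEquiv (Fin m) ℤ (Fintype.card_fin m)).apply_symm_apply
      ⟨KRR.bottSym j m, KRR.bottSym_isSymmetric j m⟩
    rwa [MvPolynomial.esymmAlgEquiv_apply] at this
  rw [this]

theorem lam_sum_lines (P : PosStructure K) {n : ℕ} (u : Fin n → K) (hu : ∀ k, P.IsLine (u k))
    (i : ℕ) :
    LambdaOps.lam i (∑ k, u k) = ∑ t ∈ (univ : Finset (Fin n)).powersetCard i, ∏ k ∈ t, u k := by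
  classical
  rw [← coeff_lamSeries, lamSeries_sum,
    prod_congr rfl (fun k _ => lamSeries_of_isLine P (u k) (hu k)), coeff_prod_one_add_C_mul_X]

theorem lamAlt_sum_lines (P : PosStructure K) {n : ℕ} (u : Fin n → K) (hu : ∀ k, P.IsLine (u k)) :
    ∑ i ∈ range (n + 1), (-1 : K) ^ i * LambdaOps.lam i (∑ k, u k) = ∏ k, (1 - u k) := by
  classical
  have h1 : ∏ k, (1 - u k) = ∏ k, (1 + -u k) := by simp [sub_eq_add_neg]
  rw [h1, prod_one_add, sum_powerset, card_univ, Fintype.card_fin]
  refine sum_congr rfl fun i _ => ?_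
  rw [lam_sum_lines P u hu, mul_sum]
  refine sum_congr rfl fun t ht => ?_
  rw [mem_powersetCard] at ht
  rw [prod_neg, ht.2]

theorem adams_lamAlt_eq_mul_bott {P : PosStructure K} (hK : HasSplitting K P) (e : K)
    (he : e ∈ P.pos) (j : ℕ) :
    adams P j (KRR.lamAlt P e) = KRR.lamAlt P e * KRR.bott P j e := by
  obtain ⟨L, f, hf, hL, s, hs, hsum⟩ := exists_extension_multiset hK e he
  obtain ⟨n, u, hu, husum, hn⟩ := exists_fin_of_multiset L.posStr s hs
  have hm : (P.aug e).toNat = n := by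
    rw [hn, ← hf.aug_comp, ← hsum, aug_multiset_sum_lines _ s hs, Int.toNat_natCast]
  have hfe : f e = ∑ k, u k := by rw [husum, hsum]
  apply hf.injective
  have hlamAlt : f (KRR.lamAlt P e) = ∏ k, (1 - u k) := by
    rw [KRR.lamAlt, hm, map_sum, ← lamAlt_sum_lines L.posStr u hu]
    refine sum_congr rfl fun i _ => ?_
    rw [map_mul, map_pow, map_neg, map_one, hf.isLambdaHom, hfe]
  have hbott : f (KRR.bott P j e) = ∏ k, ∑ l ∈ range j, u k ^ l := by
    unfold KRR.bott
    have h1 := MvPolynomial.comp_aeval_apply (R := ℤ)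
      (f := fun i : Fin (P.aug e).toNat => LambdaOps.lam (i.1 + 1) e) (φ := f.toIntAlgHom)
      (KRR.bottPoly j (P.aug e).toNat)
    simp only [RingHom.toIntAlgHom_apply] at h1
    rw [h1]
    clear h1
    revert u
    rw [← hm]
    intro u hu husum hfe hlamAlt
    have e2 : (fun i : Fin (P.aug e).toNat => f (LambdaOps.lam (i.1 + 1) e)) =
        fun i : Fin (P.aug e).toNat => MvPolynomial.aeval u
          (MvPolynomial.esymm (Fin (P.aug e).toNat) ℤ (i.1 + 1)) := by
      funext i
      rw [hf.isLambdaHom, hfe, lam_sum_lines L.posStr u hu, aeval_esymm_eq]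
    rw [e2, ← MvPolynomial.comp_aeval_apply (φ := MvPolynomial.aeval u), aeval_esymm_bottPoly,
      KRR.bottSym, map_prod]
    refine prod_congr rfl fun k _ => ?_
    rw [map_sum]
    refine sum_congr rfl fun l _ => ?_
    rw [map_pow, MvPolynomial.aeval_X]
  rw [isExtension_map_adams hf, map_mul, hlamAlt, hbott, ← adamsRingHom_apply hL, map_prod,
    ← prod_mul_distrib]
  refine prod_congr rfl fun k _ => ?_
  rw [map_sub, map_one, adamsRingHom_apply, adams_of_isLine _ _ (hu k), mul_neg_geom_sum]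

end

end Groth.Agent.Lib.Helper4
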