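import Groth.Agent.Lib.Helper4LambdaAdamsFil
import Groth.Agent.Lib.Helper4EigenFil

/-!
# Eigenspace decomposition of `ℚ ⊗ K` under Adams operations (helper4)
-/

universe u
namespace Groth.Agent.Lib.Helper4
open PowerSeries LambdaRing Finset TensorProduct

section
variable {K : Type u} [CommRing K] [LambdaOps K]

/-- the ℚ-span of the image of `F^n K` in `ℚ ⊗ K`. -/
noncomputable def QF (P : PosStructure K) (n : ℕ) : Submodule ℚ (ℚ ⊗[ℤ] K) :=
  Submodule.span ℚ ((fun x : K => (1 : ℚ) ⊗ₜ[ℤ] x) '' (gammaFiltration P n : Set K))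

omit [LambdaOps K] in
theorem natCast_pow_smul_one_tmul (j n : ℕ) (x : K) :
    ((j : ℚ) ^ n) • ((1 : ℚ) ⊗ₜ[ℤ] x) = (1 : ℚ) ⊗ₜ[ℤ] ((j : K) ^ n * x) := by
  rw [TensorProduct.smul_tmul', smul_eq_mul, mul_one]
  have h1 : ((j : ℚ) ^ n) = ((j ^ n : ℕ) : ℤ) • (1 : ℚ) := by simp
  have h2 : (j : K) ^ n * x = ((j ^ n : ℕ) : ℤ) • x := by simp
  rw [h1, h2, TensorProduct.smul_tmul]

theorem filEigen_QF {P : PosStructure K} (hK : HasSplitting K P) (d : ℕ)
    (hd : gammaFiltration P (d + 1) = ⊥) (j : ℕ) (hj : 2 ≤ j)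
    (Ψ : ℚ ⊗[ℤ] K →ₗ[ℚ] ℚ ⊗[ℤ] K)
    (hΨ : ∀ x : K, Ψ (1 ⊗ₜ[ℤ] x) = 1 ⊗ₜ[ℤ] adams P j x) :
    FilEigen Ψ (QF P) (fun m => (j : ℚ) ^ m) d where
  anti n := Submodule.span_mono (Set.image_mono (gammaFiltration_anti P (Nat.le_succ n)))
  top := by
    rw [eq_top_iff]
    intro z hz
    clear hz
    induction z using TensorProduct.induction_on with
    | zero => exact Submodule.zero_mem _
    | tmul q x =>
      have : q ⊗ₜ[ℤ] x = q • ((1 : ℚ) ⊗ₜ[ℤ] x) := by
        rw [TensorProduct.smul_tmul', smul_eq_mul, mul_one]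
      rw [this]
      apply Submodule.smul_mem
      apply Submodule.subset_span
      exact ⟨x, by rw [gammaFiltration_zero]; trivial, rfl⟩
    | add a b ha hb => exact Submodule.add_mem _ ha hb
  bot := by
    rw [QF, hd, eq_bot_iff, Submodule.span_le]
    rintro _ ⟨x, hx, rfl⟩
    have : x = 0 := by simpa using hx
    subst this
    simp
  inj := by
    have h0 : (0 : ℚ) < (j : ℚ) := by exact_mod_cast (by omega : 0 < j)
    have h1 : (j : ℚ) ≠ 1 := by exact_mod_cast (by omega : j ≠ 1)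
    exact pow_right_injective₀ h0 h1
  shift n w hw := by
    induction hw using Submodule.span_induction with
    | mem w hw =>
      obtain ⟨x, hx, rfl⟩ := hw
      rw [hΨ, natCast_pow_smul_one_tmul, ← TensorProduct.tmul_sub]
      apply Submodule.subset_span
      exact ⟨_, adams_sub_pow_mul_mem hK j n x hx, rfl⟩
    | zero => simp
    | add a b _ _ ha hb =>
      have : Ψ (a + b) - (j : ℚ) ^ n • (a + b) =
          (Ψ a - (j : ℚ) ^ n • a) + (Ψ b - (j : ℚ) ^ n • b) := by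
        rw [map_add, smul_add]; abel
      rw [this]; exact Submodule.add_mem _ ha hb
    | smul c a _ ha =>
      have : Ψ (c • a) - (j : ℚ) ^ n • (c • a) = c • (Ψ a - (j : ℚ) ^ n • a) := by
        rw [map_smul, smul_sub, smul_comm]
      rw [this]; exact Submodule.smul_mem _ _ ha

theorem commute_of_adams {P : PosStructure K} (hK : HasSplitting K P) (j l : ℕ)
    (Ψj Ψl : ℚ ⊗[ℤ] K →ₗ[ℚ] ℚ ⊗[ℤ] K)
    (hΨj : ∀ x : K, Ψj (1 ⊗ₜ[ℤ] x) = 1 ⊗ₜ[ℤ] adams P j x)
    (hΨl : ∀ x : K, Ψl (1 ⊗ₜ[ℤ] x) = 1 ⊗ₜ[ℤ] adams P l x) :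
    Ψj * Ψl = Ψl * Ψj := by
  apply LinearMap.ext
  intro z
  induction z using TensorProduct.induction_on with
  | zero => simp
  | tmul q x =>
    have : q ⊗ₜ[ℤ] x = q • ((1 : ℚ) ⊗ₜ[ℤ] x) := by
      rw [TensorProduct.smul_tmul', smul_eq_mul, mul_one]
    rw [this, map_smul, map_smul, Module.End.mul_apply, Module.End.mul_apply, hΨl, hΨj, hΨj, hΨl,
      adams_adams hK, adams_adams hK, mul_comm]
  | add a b ha hb => rw [map_add, map_add, ha, hb]

end

end Groth.Agent.Lib.Helper4
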