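import Mathlib

/-!
# The quotient `(p(T) - p(1)) / (T - 1)` of a monic polynomial (helper4)

For `p = Σ_{k ≤ m} a_k T^(m-k)` (`a_0 = 1`): `(1 - T) * quotPoly a m = p(1) - p`, and a polynomial `g`
of degree `< m` with `p ∣ g (1 - T)` is a constant multiple of `quotPoly a m`.
-/

namespace Groth.Agent.Lib.Helper4
open Finset Polynomial

section Poly
variable {K : Type*} [CommRing K]

/-- the monic polynomial `Σ_{k ≤ m} a_k T^(m-k)` -/
noncomputable def revPoly (a : ℕ → K) (m : ℕ) : K[X] := ∑ k ∈ range (m + 1), C (a k) * X ^ (m - k)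

/-- `Σ_{i < n} Σ_{k ≤ i} a_k T^(i-k)` -/
noncomputable def quotPoly (a : ℕ → K) (n : ℕ) : K[X] :=
  ∑ i ∈ range n, ∑ k ∈ range (i + 1), C (a k) * X ^ (i - k)

theorem revPoly_eq (a : ℕ → K) (m : ℕ) (ha0 : a 0 = 1) :
    revPoly a m = X ^ m + ∑ k ∈ range m, C (a (k + 1)) * X ^ (m - (k + 1)) := by
  rw [revPoly, sum_range_succ', ha0, map_one, one_mul, Nat.sub_zero, add_comm]

theorem degree_revPoly_tail_lt (a : ℕ → K) (m : ℕ) :
    (∑ k ∈ range m, C (a (k + 1)) * X ^ (m - (k + 1)) : K[X]).degree < (m : WithBot ℕ) := by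
  rw [degree_lt_iff_coeff_zero]
  intro n hn
  rw [finsetSum_coeff]
  apply sum_eq_zero
  intro k hk
  rw [mem_range] at hk
  rw [coeff_C_mul_X_pow, if_neg (by omega)]

theorem revPoly_monic (a : ℕ → K) (m : ℕ) (ha0 : a 0 = 1) : (revPoly a m).Monic := by
  rw [revPoly_eq a m ha0]
  exact monic_X_pow_add (degree_revPoly_tail_lt a m)

theorem natDegree_revPoly [Nontrivial K] (a : ℕ → K) (m : ℕ) (ha0 : a 0 = 1) :
    (revPoly a m).natDegree = m := by
  rw [revPoly_eq a m ha0, natDegree_add_eq_left_of_degree_lt, natDegree_X_pow]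
  rw [degree_X_pow]
  exact degree_revPoly_tail_lt a m

theorem one_sub_X_mul_quotPoly (a : ℕ → K) (n : ℕ) :
    (1 - X) * quotPoly a n = ∑ k ∈ range n, C (a k) * (1 - X ^ (n - k)) := by
  induction n with
  | zero => simp [quotPoly]
  | succ n ih =>
    rw [quotPoly, sum_range_succ, ← quotPoly, mul_add, ih, sum_range_succ _ n,
      sum_range_succ _ n]
    simp only [Nat.sub_self, pow_zero, mul_one]
    rw [mul_add, mul_sum, ← add_assoc, ← sum_add_distrib]
    have e : n + 1 - n = 1 := by omega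
    rw [e, pow_one]
    congr 1
    · refine sum_congr rfl fun k hk => ?_
      rw [mem_range] at hk
      have : n + 1 - k = (n - k) + 1 := by omega
      rw [this, pow_succ]; ring
    · ring

theorem one_sub_X_mul_quotPoly_eq (a : ℕ → K) (m : ℕ) :
    (1 - X) * quotPoly a m = C (∑ k ∈ range (m + 1), a k) - revPoly a m := by
  rw [one_sub_X_mul_quotPoly, revPoly, map_sum, ← sum_sub_distrib, sum_range_succ _ m, Nat.sub_self]
  simp only [pow_zero, mul_one, sub_self, add_zero]
  refine sum_congr rfl fun k _ => by ring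

theorem eval_one_revPoly (a : ℕ → K) (m : ℕ) :
    (revPoly a m).eval 1 = ∑ k ∈ range (m + 1), a k := by
  rw [revPoly, eval_finsetSum]
  simp

theorem eq_neg_C_mul_quotPoly (a : ℕ → K) (m : ℕ) (ha0 : a 0 = 1) (g : K[X])
    (hg : g.natDegree < m) (hdvd : revPoly a m ∣ g * (1 - X)) :
    ∃ t : K, g = -(C t * quotPoly a m) := by
  nontriviality K
  obtain ⟨w, hw⟩ := hdvd
  have hmonic := revPoly_monic a m ha0
  have hdeg := natDegree_revPoly a m ha0
  have hw' : ∃ t : K, w = C t := by
    by_cases hw0 : w = 0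
    · exact ⟨0, by rw [hw0, map_zero]⟩
    · have h1 := hmonic.natDegree_mul' hw0
      rw [← hw, hdeg] at h1
      have h2 : (g * (1 - X)).natDegree ≤ g.natDegree + 1 := by
        refine natDegree_mul_le.trans ?_
        have : (1 - X : K[X]).natDegree ≤ 1 := by
          rw [show (1 - X : K[X]) = -(X - C 1) by rw [map_one]; ring, natDegree_neg,
            natDegree_X_sub_C]
        omega
      have h3 : w.natDegree = 0 := by omega
      exact ⟨_, eq_C_of_natDegree_eq_zero h3⟩
  obtain ⟨t, rfl⟩ := hw'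
  have hN : t * ∑ k ∈ range (m + 1), a k = 0 := by
    have := congrArg (eval 1) hw
    rw [eval_mul, eval_mul, eval_sub, eval_one, eval_X, sub_self, mul_zero, eval_one_revPoly,
      eval_C] at this
    rw [mul_comm]; exact this.symm
  refine ⟨t, ?_⟩
  have hreg : (X - C 1 : K[X]).Monic := monic_X_sub_C 1
  have h4 : (X - C 1) * (g + C t * quotPoly a m) = 0 := by
    have e1 : (X - C 1 : K[X]) = -(1 - X) := by rw [map_one]; ring
    have e2 := one_sub_X_mul_quotPoly_eq a m
    have : (1 - X) * (g + C t * quotPoly a m) = 0 := by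
      rw [mul_add, mul_comm (1 - X) g, hw, mul_left_comm, e2, mul_sub, ← map_mul, hN, map_zero]
      ring
    rw [e1, neg_mul, this, neg_zero]
  have h5 := hreg.mul_right_eq_zero_iff.1 h4
  exact eq_neg_of_add_eq_zero_left h5

end Poly

end Groth.Agent.Lib.Helper4
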