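import Groth.Agent.Lib.Helper4LambdaSigma
import Groth.Agent.Lib.Helper4QuotPoly

/-!
# Elements of the elementary extension killed by `1 - ℓ` (helper4)
-/

universe u
namespace Groth.Agent.Lib.Helper4
open PowerSeries LambdaRing Finset

section
variable {K : Type u} [CommRing K] [LambdaOps K]

/-- coefficients of `extPoly` -/
def extCoeff (e : K) (k : ℕ) : K := (-1 : K) ^ k * LambdaOps.lam k e

theorem extPoly_eq_revPoly (P : PosStructure K) (e : K) :
    KRR.extPoly P e = revPoly (extCoeff e) (P.aug e).toNat := rfl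

theorem neg_one_pow_mul_lam_sub_root {P : PosStructure K} (e : K)
    (inst : LambdaOps (AdjoinRoot (KRR.extPoly P e)))
    (hext : ∀ (i : ℕ) (x : K), @LambdaOps.lam _ _ inst i (AdjoinRoot.of (KRR.extPoly P e) x) =
      AdjoinRoot.of (KRR.extPoly P e) (LambdaOps.lam i x))
    (hroot : ∀ i : ℕ, 2 ≤ i → @LambdaOps.lam _ _ inst i (AdjoinRoot.root (KRR.extPoly P e)) = 0)
    (i : ℕ) :
    (-1 : AdjoinRoot (KRR.extPoly P e)) ^ i * @LambdaOps.lam _ _ inst i
        (AdjoinRoot.of (KRR.extPoly P e) e - AdjoinRoot.root (KRR.extPoly P e)) =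
      ∑ k ∈ range (i + 1), AdjoinRoot.of (KRR.extPoly P e) (extCoeff e k) *
        AdjoinRoot.root (KRR.extPoly P e) ^ (i - k) := by
  let _ := inst
  rw [lam_sub_line _ _ hroot, mul_sum]
  refine sum_congr rfl fun k hk => ?_
  rw [mem_range] at hk
  rw [hext, extCoeff, map_mul, map_pow, map_neg, map_one, neg_pow (AdjoinRoot.root _)]
  have h2 : (-1 : AdjoinRoot (KRR.extPoly P e)) ^ i = (-1) ^ (i - k) * (-1) ^ k := by
    rw [← pow_add]; congr 1; omega
  rw [h2]
  have h3 : ((-1 : AdjoinRoot (KRR.extPoly P e)) ^ (i - k)) * (-1) ^ (i - k) = 1 := by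
    rw [← mul_pow]; simp
  linear_combination (AdjoinRoot.of (KRR.extPoly P e) (LambdaOps.lam k e) * (-1) ^ k *
    AdjoinRoot.root (KRR.extPoly P e) ^ (i - k)) * h3

theorem sum_lamAlt_eq_mk_quotPoly {P : PosStructure K} (e : K)
    (inst : LambdaOps (AdjoinRoot (KRR.extPoly P e)))
    (hext : ∀ (i : ℕ) (x : K), @LambdaOps.lam _ _ inst i (AdjoinRoot.of (KRR.extPoly P e) x) =
      AdjoinRoot.of (KRR.extPoly P e) (LambdaOps.lam i x))
    (hroot : ∀ i : ℕ, 2 ≤ i → @LambdaOps.lam _ _ inst i (AdjoinRoot.root (KRR.extPoly P e)) = 0)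
    (n : ℕ) :
    ∑ i ∈ range n, (-1 : AdjoinRoot (KRR.extPoly P e)) ^ i * @LambdaOps.lam _ _ inst i
        (AdjoinRoot.of (KRR.extPoly P e) e - AdjoinRoot.root (KRR.extPoly P e)) =
      AdjoinRoot.mk (KRR.extPoly P e) (quotPoly (extCoeff e) n) := by
  rw [quotPoly, map_sum]
  refine sum_congr rfl fun i _ => ?_
  rw [neg_one_pow_mul_lam_sub_root e inst hext hroot, map_sum]
  refine sum_congr rfl fun k _ => ?_
  rw [map_mul, map_pow, AdjoinRoot.mk_C, AdjoinRoot.mk_X]

theorem eq_of_mul_one_sub_root {P : PosStructure K} (e : K) (he : e ∈ P.pos) (r : ℕ)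
    (hr : P.aug e = r + 1)
    (inst : LambdaOps (AdjoinRoot (KRR.extPoly P e)))
    (hext : ∀ (i : ℕ) (x : K), @LambdaOps.lam _ _ inst i (AdjoinRoot.of (KRR.extPoly P e) x) =
      AdjoinRoot.of (KRR.extPoly P e) (LambdaOps.lam i x))
    (hroot : ∀ i : ℕ, 2 ≤ i → @LambdaOps.lam _ _ inst i (AdjoinRoot.root (KRR.extPoly P e)) = 0)
    (f : AdjoinRoot (KRR.extPoly P e) →ₗ[K] K)
    (hf : ∀ i : ℕ, i ≤ r → f (AdjoinRoot.root (KRR.extPoly P e) ^ i) = KRR.sigma i e)
    (z : AdjoinRoot (KRR.extPoly P e)) (hz : z * (1 - AdjoinRoot.root (KRR.extPoly P e)) = 0) :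
    z = AdjoinRoot.of (KRR.extPoly P e) (f z) *
      ∑ i ∈ range (r + 1), (-1 : AdjoinRoot (KRR.extPoly P e)) ^ i * @LambdaOps.lam _ _ inst i
        (AdjoinRoot.of (KRR.extPoly P e) e - AdjoinRoot.root (KRR.extPoly P e)) := by
  have hm : (P.aug e).toNat = r + 1 := by rw [hr]; rfl
  have ha0 : extCoeff e 0 = 1 := by simp [extCoeff, LambdaOps.lam_zero]
  have hmonic : (KRR.extPoly P e).Monic := by
    rw [extPoly_eq_revPoly]; exact revPoly_monic _ _ ha0
  -- f Λ = 1
  have hfΛ : f (∑ i ∈ range (r + 1), (-1 : AdjoinRoot (KRR.extPoly P e)) ^ i *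
      @LambdaOps.lam _ _ inst i
        (AdjoinRoot.of (KRR.extPoly P e) e - AdjoinRoot.root (KRR.extPoly P e))) = 1 := by
    rw [map_sum, sum_range_succ']
    have hall := functional_root_pow e he r hr f hf
    have h0 : ∀ i, f ((-1 : AdjoinRoot (KRR.extPoly P e)) ^ i * @LambdaOps.lam _ _ inst i
        (AdjoinRoot.of (KRR.extPoly P e) e - AdjoinRoot.root (KRR.extPoly P e))) =
        (-1 : K) ^ i * (if i = 0 then 1 else 0) := by
      intro i
      have : (-1 : AdjoinRoot (KRR.extPoly P e)) ^ i = algebraMap K _ ((-1 : K) ^ i) := by simp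
      rw [this, ← Algebra.smul_def, map_smul, functional_lam_sub_root e inst hext hroot f hall,
        smul_eq_mul]
    rw [h0 0, sum_eq_zero (fun i _ => by rw [h0 (i + 1), if_neg (by omega), mul_zero])]
    simp
  rw [sum_lamAlt_eq_mk_quotPoly e inst hext hroot] at hfΛ ⊢
  -- represent z
  obtain ⟨g₀, rfl⟩ := AdjoinRoot.mk_surjective z
  have : Nontrivial K := ⟨⟨0, 1, fun h => by
    have := congrArg P.aug h
    rw [map_zero, map_one] at this
    exact zero_ne_one this⟩⟩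
  have hne1 : KRR.extPoly P e ≠ 1 := by
    intro h
    have := natDegree_revPoly (extCoeff e) (P.aug e).toNat ha0
    rw [← extPoly_eq_revPoly, h, Polynomial.natDegree_one, hm] at this
    omega
  set g := g₀ %ₘ KRR.extPoly P e with hg
  have hgz : AdjoinRoot.mk (KRR.extPoly P e) g = AdjoinRoot.mk (KRR.extPoly P e) g₀ := by
    have := AdjoinRoot.mk_leftInverse hmonic (AdjoinRoot.mk (KRR.extPoly P e) g₀)
    rwa [AdjoinRoot.modByMonicHom_mk] at this
  have hgdeg : g.natDegree < r + 1 := by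
    have := Polynomial.natDegree_modByMonic_lt g₀ hmonic hne1
    have h2 : (KRR.extPoly P e).natDegree = r + 1 := by
      rw [extPoly_eq_revPoly, natDegree_revPoly _ _ ha0, hm]
    rwa [h2] at this
  have hdvd : revPoly (extCoeff e) (r + 1) ∣ g * (1 - Polynomial.X) := by
    rw [← hm, ← extPoly_eq_revPoly, ← AdjoinRoot.mk_eq_zero, map_mul, map_sub, map_one,
      AdjoinRoot.mk_X, hgz]
    exact hz
  obtain ⟨t, ht⟩ := eq_neg_C_mul_quotPoly (extCoeff e) (r + 1) ha0 g hgdeg hdvd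
  rw [← hgz, ht, map_neg, map_mul, AdjoinRoot.mk_C, ← neg_mul, ← map_neg]
  congr 2
  rw [← AdjoinRoot.algebraMap_eq, ← Algebra.smul_def, map_smul, hfΛ, smul_eq_mul, mul_one]

end

end Groth.Agent.Lib.Helper4
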