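import Groth.Agent.Lib.Helper4CIDimB
import Groth.Agent.Lib.Helper4VarDim8
import Groth.Agent.Lib.Helper27PnSections

/-!
# Linear subspaces of `P^n_k` (helper4), part A

* `le_dim_inter_zeroLocus` : cutting a closed subset of `P^n_k` by `|T|` forms of positive degree
  lowers the dimension by at most `|T|`;
* `exists_finset_vars` : `r` linearly independent linear forms can be completed by at most
  `n + 1 - r` variables to a family spanning all the variables;
* `dim_zeroLocus_linear_le` : the common zero locus of `r` linearly independent linear forms in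
  `P^n_k` has dimension `≤ n - r`.
-/

set_option autoImplicit false
set_option linter.style.haveILetI false
universe u

namespace Groth.Agent.Lib.Helper4.LinDim

open MvPolynomial Groth.Agent.Lib.Helper4.CIDim

variable (k : Type u) [Field k] (n : ℕ)

theorem le_dim_inter_zeroLocus (T : Finset (MvPolynomial (Fin (n + 1)) k)) :
    (∀ f ∈ T, ∃ d, 0 < d ∧ f ∈ CohB1.polyGrading n k d) →
    ∀ (Z : Set (ProjectiveSpectrum (CohB1.polyGrading n k))) (_ : IsClosed Z) (c : ℕ),
      T.card ≤ c → (c : WithBot ℕ∞) ≤ topologicalKrullDim ↥Z →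
      ((c - T.card : ℕ) : WithBot ℕ∞) ≤ topologicalKrullDim
        ↥(Z ∩ ProjectiveSpectrum.zeroLocus (CohB1.polyGrading n k)
          (T : Set (MvPolynomial (Fin (n + 1)) k))) := by
  classical
  induction T using Finset.induction_on with
  | empty =>
    intro _ Z _ c _ hc
    have : Z ∩ ProjectiveSpectrum.zeroLocus (CohB1.polyGrading n k)
        ((∅ : Finset (MvPolynomial (Fin (n + 1)) k)) : Set (MvPolynomial (Fin (n + 1)) k)) = Z := by
      rw [Finset.coe_empty, ProjectiveSpectrum.zeroLocus_empty, Set.inter_univ]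
    rw [this, Finset.card_empty, Nat.sub_zero]
    exact hc
  | insert g T' hg ih =>
    intro hT Z hZ c hcard hc
    rw [Finset.card_insert_of_notMem hg] at hcard ⊢
    have ih' := ih (fun f hf => hT f (Finset.mem_insert_of_mem hf)) Z hZ c (by omega) hc
    set Z' := Z ∩ ProjectiveSpectrum.zeroLocus (CohB1.polyGrading n k)
      (T' : Set (MvPolynomial (Fin (n + 1)) k)) with hZ'
    have hZ'c : IsClosed Z' := hZ.inter (ProjectiveSpectrum.isClosed_zeroLocus _ _)
    have hset : Z ∩ ProjectiveSpectrum.zeroLocus (CohB1.polyGrading n k)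
        ((insert g T' : Finset (MvPolynomial (Fin (n + 1)) k)) :
          Set (MvPolynomial (Fin (n + 1)) k)) =
        Z' ∩ ProjectiveSpectrum.zeroLocus (CohB1.polyGrading n k) {g} := by
      rw [Finset.coe_insert, Set.insert_eq, ProjectiveSpectrum.zeroLocus_union, hZ']
      ext x
      simp only [Set.mem_inter_iff]
      tauto
    rw [hset]
    have hle := topologicalKrullDim_closed_le Z' hZ'c
    obtain ⟨d, hd, hgd⟩ := hT g (Finset.mem_insert_self _ _)
    generalize hD : topologicalKrullDim ↥Z' = D at ih' hle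
    induction D using WithBot.recBotCoe with
    | bot => exact absurd ih' (by simp)
    | coe D =>
      have hDn : D ≤ (n : ℕ∞) := WithBot.coe_le_coe.mp hle
      have hDt : D ≠ ⊤ := fun h => by rw [h] at hDn; exact absurd hDn (by simp)
      lift D to ℕ using hDt
      have h1 : c - T'.card ≤ D := by
        have : ((c - T'.card : ℕ) : ℕ∞) ≤ (D : ℕ∞) := WithBot.coe_le_coe.mp ih'
        exact_mod_cast this
      have h2 := le_dim_inter_hypersurface_add_one k n Z' hZ'c D (by omega) hD g d hd hgd
      generalize topologicalKrullDim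
        ↥(Z' ∩ ProjectiveSpectrum.zeroLocus (CohB1.polyGrading n k) {g}) = E at h2 ⊢
      induction E using WithBot.recBotCoe with
      | bot =>
        rw [WithBot.bot_add] at h2
        exact absurd h2 (by simp)
      | coe E =>
        have h3 : ((D : ℕ) : ℕ∞) ≤ E + 1 := by exact_mod_cast h2
        have h4 : ((c - (T'.card + 1) : ℕ) : ℕ∞) ≤ E := by
          induction E using ENat.recTopCoe with
          | top => exact le_top
          | coe E =>
            have : D ≤ E + 1 := by exact_mod_cast h3
            have : c - (T'.card + 1) ≤ E := by omega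
            exact_mod_cast this
        exact WithBot.coe_le_coe.mpr h4


theorem exists_finset_vars {r : ℕ} (l : Fin r → MvPolynomial (Fin (n + 1)) k)
    (hl : ∀ j, l j ∈ CohB1.polyGrading n k 1) (hlin : LinearIndependent k l) :
    ∃ T : Finset (MvPolynomial (Fin (n + 1)) k), T.card + r ≤ n + 1 ∧
      (∀ f ∈ T, f ∈ CohB1.polyGrading n k 1) ∧
      ∀ i, (X i : MvPolynomial (Fin (n + 1)) k) ∈
        Submodule.span k (Set.range l ∪ (T : Set (MvPolynomial (Fin (n + 1)) k))) := by
  classical
  let v : Fin r ⊕ Fin (n + 1) → MvPolynomial (Fin (n + 1)) k := Sum.elim l X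
  have hs : LinearIndepOn k v (Set.range Sum.inl) := by
    have h1 : LinearIndependent k (v ∘ (Sum.inl : Fin r → Fin r ⊕ Fin (n + 1))) := hlin
    exact (linearIndepOn_range_iff Sum.inl_injective v).mpr h1
  obtain ⟨b, -, hsb, hspan, hb⟩ := exists_linearIndepOn_extension hs (Set.subset_univ _)
  have hv1 : ∀ x, v x ∈ CohB1.polyGrading n k 1 := by
    rintro (j | i)
    · exact hl j
    · exact LefPen.X_mem n k i
  -- cardinality of `b`
  let bF : Finset (Fin r ⊕ Fin (n + 1)) := Finset.univ.filter (· ∈ b)
  let cF : Finset (Fin (n + 1)) := Finset.univ.filter (fun i => Sum.inr i ∈ b)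
  have hbF : bF = (Finset.univ : Finset (Fin r)).image Sum.inl ∪ cF.image Sum.inr := by
    ext x
    simp only [bF, cF, Finset.mem_filter, Finset.mem_univ, true_and, Finset.mem_union,
      Finset.mem_image]
    constructor
    · intro hx
      rcases x with j | i
      · exact Or.inl ⟨j, rfl⟩
      · exact Or.inr ⟨i, hx, rfl⟩
    · rintro (⟨j, rfl⟩ | ⟨i, hi, rfl⟩)
      · exact hsb ⟨j, rfl⟩
      · exact hi
  have hdisj : Disjoint ((Finset.univ : Finset (Fin r)).image Sum.inl) (cF.image Sum.inr) := by
    rw [Finset.disjoint_left]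
    rintro x hx hx'
    obtain ⟨j, -, rfl⟩ := Finset.mem_image.mp hx
    obtain ⟨i, -, hi⟩ := Finset.mem_image.mp hx'
    exact absurd hi (by simp)
  have hcard : bF.card = r + cF.card := by
    rw [hbF, Finset.card_union_of_disjoint hdisj, Finset.card_image_of_injective _ Sum.inl_injective,
      Finset.card_image_of_injective _ Sum.inr_injective, Finset.card_univ, Fintype.card_fin]
  have hle : bF.card ≤ n + 1 := by
    have h1 : LinearIndependent k (fun x : b => v x) := hb
    have h2 : Set.range (fun x : b => v x) ≤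
        Submodule.span k (Set.range (X : Fin (n + 1) → MvPolynomial (Fin (n + 1)) k)) := by
      rintro _ ⟨x, rfl⟩
      rw [← homogeneousSubmodule_one_eq_span_X]
      exact hv1 x
    have h3 := linearIndependent_le_span_aux' (fun x : b => v x) h1
      (Set.range (X : Fin (n + 1) → MvPolynomial (Fin (n + 1)) k)) h2
    have h4 : Fintype.card b = bF.card := by
      rw [Fintype.card_subtype]
    have h5 : Fintype.card (Set.range (X : Fin (n + 1) → MvPolynomial (Fin (n + 1)) k)) ≤ n + 1 := by
      have := Fintype.card_range_le (X : Fin (n + 1) → MvPolynomial (Fin (n + 1)) k)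
      rwa [Fintype.card_fin] at this
    omega
  refine ⟨cF.image X, ?_, ?_, ?_⟩
  · have := Finset.card_image_le (s := cF) (f := (X : Fin (n + 1) → MvPolynomial (Fin (n + 1)) k))
    omega
  · intro f hf
    obtain ⟨i, -, rfl⟩ := Finset.mem_image.mp hf
    exact LefPen.X_mem n k i
  · intro i
    have h1 : v (Sum.inr i) ∈ Submodule.span k (v '' b) := hspan ⟨Sum.inr i, trivial, rfl⟩
    refine Submodule.span_mono ?_ h1
    rintro _ ⟨x, hx, rfl⟩
    rcases x with j | i'
    · exact Or.inl ⟨j, rfl⟩
    · refine Or.inr ?_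
      rw [Finset.coe_image]
      exact ⟨i', by simpa [cF] using hx, rfl⟩

/-- the common zero locus of `r` linearly independent linear forms has dimension `≤ n - r`. -/
theorem dim_zeroLocus_linear_le {r : ℕ} (hr : r ≤ n) (l : Fin r → MvPolynomial (Fin (n + 1)) k)
    (hl : ∀ j, l j ∈ CohB1.polyGrading n k 1) (hlin : LinearIndependent k l) :
    topologicalKrullDim ↥(ProjectiveSpectrum.zeroLocus (CohB1.polyGrading n k) (Set.range l)) ≤
      ((n - r : ℕ) : WithBot ℕ∞) := by
  classical
  obtain ⟨T, hTcard, hT1, hTspan⟩ := exists_finset_vars k n l hl hlin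
  set Z := ProjectiveSpectrum.zeroLocus (CohB1.polyGrading n k) (Set.range l) with hZdef
  have hZ : IsClosed Z := ProjectiveSpectrum.isClosed_zeroLocus _ _
  by_contra hcon
  rw [not_le] at hcon
  have hc : ((n - r + 1 : ℕ) : WithBot ℕ∞) ≤ topologicalKrullDim ↥Z := by
    generalize topologicalKrullDim ↥Z = D at hcon ⊢
    induction D using WithBot.recBotCoe with
    | bot => exact absurd hcon (by simp)
    | coe D =>
      have h1 : ((n - r : ℕ) : ℕ∞) < D := WithBot.coe_lt_coe.mp hcon
      have h2 : ((n - r + 1 : ℕ) : ℕ∞) ≤ D := by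
        rw [Nat.cast_add, Nat.cast_one]
        exact Order.add_one_le_of_lt h1
      exact WithBot.coe_le_coe.mpr h2
  have h1 := le_dim_inter_zeroLocus k n T
    (fun f hf => ⟨1, Nat.one_pos, hT1 f hf⟩) Z hZ (n - r + 1) (by omega) hc
  have hempty : IsEmpty ↥(Z ∩ ProjectiveSpectrum.zeroLocus (CohB1.polyGrading n k)
      (T : Set (MvPolynomial (Fin (n + 1)) k))) := by
    refine ⟨fun ⟨y, hyZ, hyT⟩ => ?_⟩
    obtain ⟨i, hi⟩ := Groth.Agent.Lib.Helper27PnSections.exists_X_not_mem n k y
    apply hi
    have h2 : Submodule.span k (Set.range l ∪ (T : Set (MvPolynomial (Fin (n + 1)) k))) ≤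
        (y.asHomogeneousIdeal.toIdeal.restrictScalars k) := by
      rw [Submodule.span_le]
      rintro f (hf | hf)
      · exact (ProjectiveSpectrum.mem_zeroLocus _ _ _).mp hyZ hf
      · exact (ProjectiveSpectrum.mem_zeroLocus _ _ _).mp hyT hf
    exact h2 (hTspan i)
  rw [Groth.Agent.Lib.Helper4.VarDim.topologicalKrullDim_eq_bot_of_isEmpty] at h1
  exact absurd h1 (by simp)

end Groth.Agent.Lib.Helper4.LinDim
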