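import Groth.Agent.Lib.Helper4LinDimA

/-!
# Linear subspaces of `P^n_k` (helper4), part B: the scheme `V(ℓ_1, …, ℓ_r)`
-/

set_option autoImplicit false
set_option linter.style.haveILetI false
universe u

namespace Groth.Agent.Lib.Helper4.LinDim

open MvPolynomial Groth.Agent.Lib.Helper4.CIDim

variable {k : Type u} [Field k] {n : ℕ}

/-- `r ≤ n` linearly independent linear forms cut out a subscheme of dimension `≤ n - r`. -/
theorem dim_ciIdeal_linear_le {r : ℕ} (hr : r ≤ n) (ℓ : Fin r → LefPen.Form n k 1)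
    (hlin : LinearIndependent k ℓ) :
    topologicalKrullDim ↥(LefPen.ciIdeal (a := fun _ : Fin r => 1) ℓ).subscheme ≤
      ((n - r : ℕ) : WithBot ℕ∞) := by
  rw [topologicalKrullDim_ciIdeal]
  have h1 : LinearIndependent k (fun j => ((ℓ j).1 : MvPolynomial (Fin (n + 1)) k)) :=
    hlin.map' (Submodule.subtype _) (Submodule.ker_subtype _)
  exact dim_zeroLocus_linear_le k n hr (fun j => (ℓ j).1) (fun j => (ℓ j).2) h1

end Groth.Agent.Lib.Helper4.LinDim
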