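import Groth.Prelude.Def_LocCohZ
set_option autoImplicit false
universe u
open CategoryTheory CategoryTheory.Limits TopologicalSpace Opposite
open LocCohZ

namespace Groth.Agent.Lib.Helper4.LCZ

/-- restriction from the whole space is surjective when `H^1_Z(X,F) = 0` -/
theorem top_surj {X : TopCat.{u}} (F : CohTop.Ab X) (V : Opens X)
    (h : Subsingleton (LocCohZ.HZc F 1 V)) (s : F.obj.obj (op V)) :
    ∃ t : F.obj.obj (op (⊤ : Opens X)), (F.obj.map (homOfLE (le_top : V ≤ ⊤)).op).hom t = s := by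
  set J := Opens.grothendieckTopology X
  let φ := CohFree.ofSect J V F s
  have hS := zqSeq_shortExact (le_top : V ≤ ⊤)
  have h0 : hS.extClass.comp (Abelian.Ext.mk₀ φ) (add_zero 1) = 0 :=
    Subsingleton.elim (α := LocCohZ.HZc F 1 V) _ _
  obtain ⟨x₂, hx₂⟩ := Abelian.Ext.contravariant_sequence_exact₁ hS F (Abelian.Ext.mk₀ φ) (add_zero 1) h0
  change Abelian.Ext (CohCx.freeSheaf J ⊤) F 0 at x₂
  obtain ⟨ψ, rfl⟩ := (Abelian.Ext.mk₀_bijective (CohCx.freeSheaf J ⊤) F).2 x₂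
  have hx₂' : Abelian.Ext.mk₀ (CohCx.freeSheafMap J (homOfLE (le_top : V ≤ ⊤)) ≫ ψ) = Abelian.Ext.mk₀ φ := by
    exact (Abelian.Ext.mk₀_comp_mk₀ _ _).symm.trans hx₂
  have hx₃ : CohCx.freeSheafMap J (homOfLE (le_top : V ≤ ⊤)) ≫ ψ = φ :=
    (Abelian.Ext.mk₀_bijective _ _).1 hx₂'
  refine ⟨CohFree.evalGen J ⊤ F ψ, ?_⟩
  rw [← CohFree.evalGen_freeSheafMap_comp, hx₃]
  exact CohFree.evalGen_ofSect J V F s


end Groth.Agent.Lib.Helper4.LCZ
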