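import Mathlib
import Groth.Agent.Lib.Helper4ClosedPtsC

/-!
# A criterion for quasi-finiteness at a prime; Zariski's main theorem data (helper4)

* `weaklyQuasiFiniteAt_of_min_max`: a prime `𝔮` of a finite type `R`-algebra which is both minimal and
  maximal among the primes with the same contraction to `R` is (weakly) quasi-finite.
* `exists_zmt_of_min_max`: the resulting Zariski main theorem data.
-/

set_option autoImplicit false
set_option linter.style.haveILetI false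

universe u v

namespace Groth.Agent.Lib.Helper4.LocParam

section QF

variable {R : Type u} {S : Type v} [CommRing R] [CommRing S] [Algebra R S] [Algebra.FiniteType R S]

theorem weaklyQuasiFiniteAt_of_min_max (𝔮 : Ideal S) [h𝔮 : 𝔮.IsPrime]
    (hmin : ∀ 𝔯 : Ideal S, 𝔯.IsPrime → 𝔯 ≤ 𝔮 → 𝔯.under R = 𝔮.under R → 𝔯 = 𝔮)
    (hmax : ∀ 𝔯 : Ideal S, 𝔯.IsPrime → 𝔮 ≤ 𝔯 → 𝔯.under R = 𝔮.under R → 𝔯 = 𝔮) :
    Algebra.WeaklyQuasiFiniteAt R 𝔮 := by
  set p : Ideal R := 𝔮.under R with hp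
  haveI hpprime : p.IsPrime := Ideal.IsPrime.under R 𝔮
  haveI hlies : 𝔮.LiesOver p := ⟨rfl⟩
  let e := PrimeSpectrum.primesOverOrderIsoFiber R S p
  let a : p.primesOver S := ⟨𝔮, h𝔮, hlies⟩
  set Q : PrimeSpectrum (p.Fiber S) := e a with hQdef
  have hQ : Q.asIdeal.comap Algebra.TensorProduct.includeRight.toRingHom = 𝔮 := by
    have h1 := e.symm_apply_apply a
    have h2 := congrArg Subtype.val h1
    rw [PrimeSpectrum.coe_primesOverOrderIsoFiber_symm_apply] at h2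
    exact h2
  have hmaxa : IsMax a := by
    intro b hab
    have h1 : 𝔮 ≤ b.1 := hab
    have h2 : b.1.under R = 𝔮.under R := (b.2.2.over).symm
    have h3 := hmax b.1 b.2.1 h1 h2
    exact le_of_eq (Subtype.ext h3)
  have hmina : IsMin a := by
    intro b hba
    have h1 : b.1 ≤ 𝔮 := hba
    have h2 : b.1.under R = 𝔮.under R := (b.2.2.over).symm
    have h3 := hmin b.1 b.2.1 h1 h2
    exact ge_of_eq (Subtype.ext h3)
  have hmaxQ : IsMax Q := (OrderIso.isMax_apply e).mpr hmaxa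
  have hminQ : IsMin Q := (OrderIso.isMin_apply e).mpr hmina
  haveI : IsNoetherianRing (p.Fiber S) := Algebra.FiniteType.isNoetherianRing p.ResidueField _
  haveI : IsJacobsonRing (p.Fiber S) := isJacobsonRing_of_finiteType (A := p.ResidueField)
  have hopen : IsOpen ({Q} : Set (PrimeSpectrum (p.Fiber S))) := by
    have htfae := (PrimeSpectrum.isOpen_singleton_tfae_of_isNoetherian_of_isJacobsonRing Q).out 0 2
    have h3 : IsClosed ({Q} : Set (PrimeSpectrum (p.Fiber S))) ∧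
        StableUnderGeneralization ({Q} : Set (PrimeSpectrum (p.Fiber S))) := by
      refine ⟨?_, ?_⟩
      · rw [PrimeSpectrum.isClosed_singleton_iff_isMaximal]
        exact PrimeSpectrum.isMax_iff.mp hmaxQ
      · rw [PrimeSpectrum.stableUnderGeneralization_singleton]
        exact PrimeSpectrum.isMin_iff.mp hminQ
    exact htfae.mpr h3
  haveI : Algebra.QuasiFiniteAt p.ResidueField Q.asIdeal :=
    Algebra.QuasiFiniteAt.of_isOpen_singleton Q hopen
  exact Algebra.WeaklyQuasiFiniteAt.of_quasiFiniteAt_residueField p 𝔮 Q.asIdeal hQ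

/-- Zariski's main theorem at a prime which is minimal and maximal in its fibre. -/
theorem exists_zmt_of_min_max (𝔮 : Ideal S) [h𝔮 : 𝔮.IsPrime]
    (hmin : ∀ 𝔯 : Ideal S, 𝔯.IsPrime → 𝔯 ≤ 𝔮 → 𝔯.under R = 𝔮.under R → 𝔯 = 𝔮)
    (hmax : ∀ 𝔯 : Ideal S, 𝔯.IsPrime → 𝔮 ≤ 𝔯 → 𝔯.under R = 𝔮.under R → 𝔯 = 𝔮) :
    ∃ r : S, r ∉ 𝔮 ∧ IsIntegral R r ∧ ∀ x : S, ∃ m : ℕ, IsIntegral R (r ^ m * x) := by
  haveI := weaklyQuasiFiniteAt_of_min_max 𝔮 hmin hmax
  have hZ := Algebra.ZariskisMainProperty.of_finiteType_of_weaklyQuasiFiniteAt (R := R) 𝔮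
  rwa [Algebra.zariskisMainProperty_iff] at hZ

end QF

section Local

variable {R : Type u} {B : Type v} [CommRing R] [CommRing B] [Algebra R B] [IsLocalRing B]
  [Algebra.EssFiniteType R B]

omit [Algebra.EssFiniteType R B] in
/-- A local ring `B` all of whose elements are fractions of elements of a subalgebra `B₀`, with
denominators units of `B`, is the localization of `B₀` at the contraction of the maximal ideal. -/
theorem isLocalization_atPrime_of_forall_exists (B₀ : Subalgebra R B)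
    (hloc : ∀ b : B, ∃ t b₁ : B₀, IsUnit (t : B) ∧ b * (t : B) = (b₁ : B)) :
    IsLocalization.AtPrime B ((IsLocalRing.maximalIdeal B).comap (algebraMap B₀ B)) := by
  constructor; constructor
  · rintro ⟨t, ht⟩
    have h3 : (t : B) ∉ IsLocalRing.maximalIdeal B := ht
    rw [IsLocalRing.mem_maximalIdeal, mem_nonunits_iff, not_not] at h3
    exact h3
  · intro b
    obtain ⟨t, b₁, htu, hbt⟩ := hloc b
    refine ⟨⟨b₁, ⟨t, ?_⟩⟩, hbt⟩
    intro ht
    have ht' : (t : B) ∈ IsLocalRing.maximalIdeal B := ht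
    exact (IsLocalRing.mem_maximalIdeal _).mp ht' htu
  · intro x y hxy
    exact ⟨1, by simpa using Subtype.ext hxy⟩

/-- **Zariski's main theorem for a local ring essentially of finite type.** Suppose the maximal ideal of
`B` is the only prime containing the image of `m_B ∩ R`, and the residue field of `B` is algebraic over
the image of `R` (elementary formulation). Then there is a finite type subalgebra `B₀` of which `B` is a
localization, and `r ∈ B₀`, a unit of `B`, integral over `R` with `B₀[1/r]` integral over `R` up to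
powers of `r`. -/
theorem exists_zmt_local
    (h1 : ∀ 𝔯 : Ideal B, 𝔯.IsPrime →
      (∀ a : R, algebraMap R B a ∈ IsLocalRing.maximalIdeal B → algebraMap R B a ∈ 𝔯) →
      𝔯 = IsLocalRing.maximalIdeal B)
    (h2 : ∀ u : B, u ∉ IsLocalRing.maximalIdeal B → ∃ p : Polynomial R,
      algebraMap R B (p.coeff 0) ∉ IsLocalRing.maximalIdeal B ∧
        Polynomial.aeval u p ∈ IsLocalRing.maximalIdeal B) :
    ∃ (B₀ : Subalgebra R B), Algebra.FiniteType R B₀ ∧
      (∀ b : B, ∃ t b₁ : B₀, IsUnit (t : B) ∧ b * (t : B) = (b₁ : B)) ∧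
      ∃ r : B₀, IsUnit (r : B) ∧ IsIntegral R r ∧ ∀ x : B₀, ∃ m : ℕ, IsIntegral R (r ^ m * x) := by
  classical
  obtain ⟨σ, hσ⟩ := (Algebra.essFiniteType_iff R B).mp inferInstance
  set B₀ : Subalgebra R B := Algebra.adjoin R (σ : Set B) with hB₀
  haveI hft : Algebra.FiniteType R B₀ := (Subalgebra.fg_iff_finiteType _).mp (Subalgebra.fg_adjoin_finset σ)
  have hloc : ∀ b : B, ∃ t b₁ : B₀, IsUnit (t : B) ∧ b * (t : B) = (b₁ : B) := by
    intro b
    obtain ⟨t, ht, htu, hbt⟩ := hσ b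
    exact ⟨⟨t, ht⟩, ⟨b * t, hbt⟩, htu, rfl⟩
  set 𝔮₀ : Ideal B₀ := (IsLocalRing.maximalIdeal B).comap (algebraMap B₀ B) with h𝔮₀
  haveI h𝔮₀prime : 𝔮₀.IsPrime := Ideal.comap_isPrime _ _
  have hmem𝔮₀ : ∀ t : B₀, t ∈ 𝔮₀ ↔ (t : B) ∈ IsLocalRing.maximalIdeal B := fun t => Iff.rfl
  have hunder : ∀ a : R, a ∈ 𝔮₀.under R ↔ algebraMap R B a ∈ IsLocalRing.maximalIdeal B := by
    intro a
    rfl
  haveI hisloc : IsLocalization.AtPrime B 𝔮₀ := isLocalization_atPrime_of_forall_exists B₀ hloc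
  refine ⟨B₀, hft, hloc, ?_⟩
  have hmin : ∀ 𝔯 : Ideal B₀, 𝔯.IsPrime → 𝔯 ≤ 𝔮₀ → 𝔯.under R = 𝔮₀.under R → 𝔯 = 𝔮₀ := by
    intro 𝔯 h𝔯 hle hun
    have hdisj : Disjoint (𝔮₀.primeCompl : Set B₀) (𝔯 : Set B₀) := by
      rw [Set.disjoint_left]
      intro t ht ht𝔯
      exact ht (hle ht𝔯)
    have hprime : (𝔯.map (algebraMap B₀ B)).IsPrime :=
      IsLocalization.isPrime_of_isPrime_disjoint 𝔮₀.primeCompl B 𝔯 h𝔯 hdisj
    have hcomap : (𝔯.map (algebraMap B₀ B)).comap (algebraMap B₀ B) = 𝔯 :=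
      IsLocalization.under_map_of_isPrime_disjoint 𝔮₀.primeCompl B h𝔯 hdisj
    have h3 := h1 _ hprime (by
      intro a ha
      have h4 : a ∈ 𝔯.under R := by
        rw [hun]
        exact (hunder a).mpr ha
      have h5 : algebraMap R B a = algebraMap B₀ B (algebraMap R B₀ a) := rfl
      rw [h5]
      exact Ideal.mem_map_of_mem _ h4)
    rw [← hcomap, h3]
  have hmax : ∀ 𝔯 : Ideal B₀, 𝔯.IsPrime → 𝔮₀ ≤ 𝔯 → 𝔯.under R = 𝔮₀.under R → 𝔯 = 𝔮₀ := by
    intro 𝔯 h𝔯 hle hun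
    apply le_antisymm _ hle
    intro u hu
    by_contra hu𝔮₀
    have hu' : (u : B) ∉ IsLocalRing.maximalIdeal B := hu𝔮₀
    obtain ⟨p, hp0, hp⟩ := h2 u hu'
    rw [Subalgebra.aeval_coe] at hp
    have hp' : Polynomial.aeval u p ∈ 𝔯 := hle hp
    have hdecomp : Polynomial.aeval u p =
        u * Polynomial.aeval u p.divX + algebraMap R B₀ (p.coeff 0) := by
      conv_lhs => rw [← Polynomial.divX_mul_X_add p]
      rw [map_add, map_mul, Polynomial.aeval_X, Polynomial.aeval_C, mul_comm]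
    rw [hdecomp] at hp'
    have h3 : algebraMap R B₀ (p.coeff 0) ∈ 𝔯 :=
      (Ideal.add_mem_iff_right 𝔯 (𝔯.mul_mem_right _ hu)).mp hp'
    have h4 : p.coeff 0 ∈ 𝔮₀.under R := by
      rw [← hun]
      exact h3
    exact hp0 ((hunder _).mp h4)
  obtain ⟨r, hr𝔮₀, hrint, hr⟩ := exists_zmt_of_min_max (R := R) 𝔮₀ hmin hmax
  refine ⟨r, ?_, hrint, hr⟩
  have h3 : (r : B) ∉ IsLocalRing.maximalIdeal B := hr𝔮₀
  rw [IsLocalRing.mem_maximalIdeal, mem_nonunits_iff, not_not] at h3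
  exact h3

/-- Under the hypotheses of `exists_zmt_local`, `B` is algebraic over `R`. -/
theorem isAlgebraic_of_local [IsDomain R] [IsDomain B]
    (h1 : ∀ 𝔯 : Ideal B, 𝔯.IsPrime →
      (∀ a : R, algebraMap R B a ∈ IsLocalRing.maximalIdeal B → algebraMap R B a ∈ 𝔯) →
      𝔯 = IsLocalRing.maximalIdeal B)
    (h2 : ∀ u : B, u ∉ IsLocalRing.maximalIdeal B → ∃ p : Polynomial R,
      algebraMap R B (p.coeff 0) ∉ IsLocalRing.maximalIdeal B ∧
        Polynomial.aeval u p ∈ IsLocalRing.maximalIdeal B) :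
    Algebra.IsAlgebraic R B := by
  obtain ⟨B₀, hft, hloc, r, hru, hrint, hr⟩ := exists_zmt_local h1 h2
  have hr0 : r ≠ 0 := by
    intro h0
    rw [h0] at hru
    exact not_isUnit_zero hru
  have hB₀alg : ∀ x : B₀, IsAlgebraic R (x : B) := by
    intro x
    obtain ⟨m, hm⟩ := hr x
    have h3 : IsAlgebraic R x :=
      Groth.Agent.Lib.Helper4.ClosedPts.isAlgebraic_of_pow_mul r x m hr0 hrint.isAlgebraic
        hm.isAlgebraic
    exact h3.algebraMap (A := B)
  constructor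
  intro b
  obtain ⟨t, b₁, htu, hbt⟩ := hloc b
  apply Groth.Agent.Lib.Helper4.ClosedPts.isAlgebraic_of_pow_mul (t : B) b 1 htu.ne_zero (hB₀alg t)
  rw [pow_one, mul_comm, hbt]
  exact hB₀alg b₁

/-- Under the hypotheses of `exists_zmt_local`, if moreover `R` is an integrally closed domain contained
in the domain `B`, going down holds at the maximal ideal of `B`. -/
theorem exists_prime_under_local [IsDomain R] [IsIntegrallyClosed R] [IsDomain B] [FaithfulSMul R B]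
    (h1 : ∀ 𝔯 : Ideal B, 𝔯.IsPrime →
      (∀ a : R, algebraMap R B a ∈ IsLocalRing.maximalIdeal B → algebraMap R B a ∈ 𝔯) →
      𝔯 = IsLocalRing.maximalIdeal B)
    (h2 : ∀ u : B, u ∉ IsLocalRing.maximalIdeal B → ∃ p : Polynomial R,
      algebraMap R B (p.coeff 0) ∉ IsLocalRing.maximalIdeal B ∧
        Polynomial.aeval u p ∈ IsLocalRing.maximalIdeal B)
    (𝔭 : Ideal R) [h𝔭 : 𝔭.IsPrime] (hle : 𝔭 ≤ (IsLocalRing.maximalIdeal B).under R) :
    ∃ 𝔮 : Ideal B, 𝔮.IsPrime ∧ 𝔮.under R = 𝔭 := by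
  obtain ⟨B₀, hft, hloc, r, hru, hrint, hr⟩ := exists_zmt_local h1 h2
  set 𝔮₀ : Ideal B₀ := (IsLocalRing.maximalIdeal B).comap (algebraMap B₀ B) with h𝔮₀
  haveI h𝔮₀prime : 𝔮₀.IsPrime := Ideal.comap_isPrime _ _
  haveI hisloc : IsLocalization.AtPrime B 𝔮₀ := isLocalization_atPrime_of_forall_exists B₀ hloc
  haveI : FaithfulSMul R B₀ := by
    rw [faithfulSMul_iff_algebraMap_injective]
    intro a b hab
    exact FaithfulSMul.algebraMap_injective R B (congrArg Subtype.val hab)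
  have hr𝔮₀ : r ∉ 𝔮₀ := by
    intro hmem
    have h3 : (r : B) ∈ IsLocalRing.maximalIdeal B := hmem
    exact (IsLocalRing.mem_maximalIdeal _).mp h3 hru
  have hle' : 𝔭 ≤ 𝔮₀.under R := hle
  obtain ⟨𝔮, h𝔮prime, h𝔮le, h𝔮under⟩ :=
    Groth.Agent.Lib.Helper4.ClosedPts.exists_prime_under_eq 𝔮₀ r hr𝔮₀ hrint hr 𝔭 hle'
  have hdisj : Disjoint (𝔮₀.primeCompl : Set B₀) (𝔮 : Set B₀) := by
    rw [Set.disjoint_left]
    intro t ht ht𝔮
    exact ht (h𝔮le ht𝔮)
  refine ⟨𝔮.map (algebraMap B₀ B),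
    IsLocalization.isPrime_of_isPrime_disjoint 𝔮₀.primeCompl B 𝔮 h𝔮prime hdisj, ?_⟩
  have hcomap : (𝔮.map (algebraMap B₀ B)).under B₀ = 𝔮 :=
    IsLocalization.under_map_of_isPrime_disjoint 𝔮₀.primeCompl B h𝔮prime hdisj
  rw [← h𝔮under]
  conv_rhs => rw [← hcomap]
  rfl

end Local

end Groth.Agent.Lib.Helper4.LocParam
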