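import Mathlib
import Groth.Agent.Lib.Helper4ClosedPtsB

/-!
# Algebraic independence of parameters (helper4)

* `aeval_injective_of_linearIndependent`, `linearIndependent_of_aeval_injective`: algebraic independence
  in terms of linear independence of monomials.
* `aeval_injective_of_flat`: over a local ring `A`, a family of elements of a flat `A`-algebra `B` which is
  algebraically independent modulo `m_A` is algebraically independent.
* `aeval_sumElim_injective`: in a Noetherian local algebra `F` over a field, a system of parameters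
  together with lifts of elements of the residue field which are algebraically independent is
  algebraically independent.
-/

set_option autoImplicit false
set_option linter.style.haveILetI false

universe u v w

open MvPolynomial IsLocalRing TensorProduct

namespace Groth.Agent.Lib.Helper4.LocParam

theorem aeval_injective_of_linearIndependent {A : Type u} {B : Type v} [CommRing A] [CommRing B]
    [Algebra A B] {σ : Type w} (x : σ → B)
    (h : LinearIndependent A (fun m : σ →₀ ℕ => aeval x (monomial m (1 : A)))) :
    Function.Injective (aeval x : MvPolynomial σ A →ₐ[A] B) := by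
  rw [← AlgHom.coe_toRingHom, injective_iff_map_eq_zero]
  intro P hP
  have h1 : (aeval x : MvPolynomial σ A →ₐ[A] B) P = 0 := hP
  rw [MvPolynomial.as_sum P, map_sum] at h1
  rw [linearIndependent_iff'] at h
  have h2 := h P.support (fun m => P.coeff m) (by
    rw [← h1]
    apply Finset.sum_congr rfl
    intro m _
    rw [← map_smul, smul_monomial, smul_eq_mul, mul_one])
  ext m
  rw [coeff_zero]
  by_cases hm : m ∈ P.support
  · exact h2 m hm
  · exact MvPolynomial.notMem_support_iff.mp hm

theorem linearIndependent_of_aeval_injective {A : Type u} {B : Type v} [CommRing A] [CommRing B]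
    [Algebra A B] {σ : Type w} (x : σ → B)
    (h : Function.Injective (aeval x : MvPolynomial σ A →ₐ[A] B)) :
    LinearIndependent A (fun m : σ →₀ ℕ => aeval x (monomial m (1 : A))) := by
  have h1 := (MvPolynomial.basisMonomials σ A).linearIndependent
  have h2 := h1.map' (aeval x : MvPolynomial σ A →ₐ[A] B).toLinearMap
    (LinearMap.ker_eq_bot.mpr h)
  have h3 : (fun m : σ →₀ ℕ => aeval x (monomial m (1 : A))) =
      ⇑(aeval x : MvPolynomial σ A →ₐ[A] B).toLinearMap ∘ ⇑(MvPolynomial.basisMonomials σ A) := by
    funext m
    simp [MvPolynomial.coe_basisMonomials]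
  rw [h3]
  exact h2

/-- Flatness over a local ring lifts algebraic independence from the closed fibre. -/
theorem aeval_injective_of_flat {A : Type u} {B : Type v} [CommRing A] [IsLocalRing A] [CommRing B]
    [Algebra A B] [Module.Flat A B] {σ : Type w} (x : σ → B)
    (h : Function.Injective
      (aeval (fun i => Ideal.Quotient.mk ((maximalIdeal A).map (algebraMap A B)) (x i)) :
        MvPolynomial σ (A ⧸ maximalIdeal A) →ₐ[A ⧸ maximalIdeal A]
          B ⧸ (maximalIdeal A).map (algebraMap A B))) :
    Function.Injective (aeval x : MvPolynomial σ A →ₐ[A] B) := by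
  apply aeval_injective_of_linearIndependent
  apply Module.IsLocalRing.linearIndependent_of_flat
  let e₁ := Algebra.TensorProduct.quotIdealMapEquivQuotTensor B (maximalIdeal A)
  have h1 := linearIndependent_of_aeval_injective (A := A ⧸ maximalIdeal A) _ h
  have h2 := h1.map' e₁.toLinearMap (LinearMap.ker_eq_bot.mpr e₁.injective)
  have h3 : (⇑(TensorProduct.mk A (ResidueField A) B 1) ∘
      fun m : σ →₀ ℕ => aeval x (monomial m (1 : A))) =
      ⇑e₁.toLinearMap ∘ fun m : σ →₀ ℕ =>
        aeval (fun i => Ideal.Quotient.mk ((maximalIdeal A).map (algebraMap A B)) (x i))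
          (monomial m (1 : A ⧸ maximalIdeal A)) := by
    funext m
    simp only [Function.comp_apply]
    have h4 := Groth.Agent.Lib.Helper4.ClosedPts.mk_aeval_eq (maximalIdeal A) x (monomial m (1 : A))
    rw [MvPolynomial.map_monomial, RingHom.map_one] at h4
    rw [← h4]
    rfl
  rw [h3]
  exact h2

/-- In a Noetherian local algebra `F` over a field `κ`, a system of parameters `y` and elements `z` such
that no nonzero polynomial in `z` lies in the maximal ideal are algebraically independent. -/
theorem aeval_sumElim_injective {κ : Type u} [Field κ] {F : Type v} [CommRing F] [Algebra κ F]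
    [IsNoetherianRing F] [IsLocalRing F] (d e : ℕ) (y : Fin d → F) (z : Fin e → F)
    (hmin : maximalIdeal F ∈ (Ideal.span (Set.range y)).minimalPrimes)
    (hht : (maximalIdeal F).height = d)
    (hz : ∀ P : MvPolynomial (Fin e) κ, P ≠ 0 → aeval z P ∉ maximalIdeal F) :
    Function.Injective (aeval (Sum.elim y z) : MvPolynomial (Fin d ⊕ Fin e) κ →ₐ[κ] F) := by
  classical
  set ψ : MvPolynomial (Fin e) κ →ₐ[κ] F := aeval z with hψ
  have hunits : ∀ P : nonZeroDivisors (MvPolynomial (Fin e) κ), IsUnit (ψ.toRingHom P) := by
    rintro ⟨P, hP⟩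
    have hP0 : P ≠ 0 := nonZeroDivisors.ne_zero hP
    by_contra hnu
    exact hz P hP0 ((mem_maximalIdeal _).mpr hnu)
  set κ' := FractionRing (MvPolynomial (Fin e) κ) with hκ'
  set lft : κ' →+* F :=
    IsLocalization.lift (M := nonZeroDivisors (MvPolynomial (Fin e) κ)) hunits with hlft
  letI algF : Algebra κ' F := lft.toAlgebra
  have hlft_eq : ∀ P : MvPolynomial (Fin e) κ, algebraMap κ' F (algebraMap _ κ' P) = ψ P := by
    intro P
    exact IsLocalization.lift_eq hunits P
  have hinj' : Function.Injective (aeval y : MvPolynomial (Fin d) κ' →ₐ[κ'] F) :=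
    Groth.Agent.Lib.Helper4.ClosedPts.aeval_injective_of_minimalPrimes (κ := κ') (maximalIdeal F) d y
      hmin hht
  set Φ : MvPolynomial (Fin d ⊕ Fin e) κ →+* F :=
    ((aeval y : MvPolynomial (Fin d) κ' →ₐ[κ'] F).toRingHom.comp
      (MvPolynomial.map (algebraMap (MvPolynomial (Fin e) κ) κ'))).comp
      (MvPolynomial.sumAlgEquiv κ (Fin d) (Fin e)).toAlgHom.toRingHom with hΦ
  have hfac : (aeval (Sum.elim y z) : MvPolynomial (Fin d ⊕ Fin e) κ →ₐ[κ] F).toRingHom = Φ := by
    apply MvPolynomial.ringHom_ext
    · intro a
      have h1 : Φ (C a) = (aeval y : MvPolynomial (Fin d) κ' →ₐ[κ'] F)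
          (MvPolynomial.map (algebraMap (MvPolynomial (Fin e) κ) κ')
            (MvPolynomial.sumAlgEquiv κ (Fin d) (Fin e) (C a))) := rfl
      rw [h1, MvPolynomial.sumAlgEquiv_C_inl, MvPolynomial.map_C, aeval_C, hlft_eq, hψ, aeval_C]
      simp
    · intro i
      have h1 : Φ (X i) = (aeval y : MvPolynomial (Fin d) κ' →ₐ[κ'] F)
          (MvPolynomial.map (algebraMap (MvPolynomial (Fin e) κ) κ')
            (MvPolynomial.sumAlgEquiv κ (Fin d) (Fin e) (X i))) := rfl
      rw [h1]
      rcases i with i | j
      · rw [MvPolynomial.sumAlgEquiv_X_inl, MvPolynomial.map_X, aeval_X]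
        simp
      · rw [MvPolynomial.sumAlgEquiv_X_inr, MvPolynomial.map_C, aeval_C, hlft_eq, hψ, aeval_X]
        simp
  have hΦinj : Function.Injective Φ := by
    have h1 : Function.Injective (MvPolynomial.map (σ := Fin d)
        (algebraMap (MvPolynomial (Fin e) κ) κ')) :=
      MvPolynomial.map_injective _ (IsFractionRing.injective _ _)
    intro P Q hPQ
    have h2 : (aeval y : MvPolynomial (Fin d) κ' →ₐ[κ'] F)
        (MvPolynomial.map (algebraMap (MvPolynomial (Fin e) κ) κ')
          (MvPolynomial.sumAlgEquiv κ (Fin d) (Fin e) P)) =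
        (aeval y : MvPolynomial (Fin d) κ' →ₐ[κ'] F)
        (MvPolynomial.map (algebraMap (MvPolynomial (Fin e) κ) κ')
          (MvPolynomial.sumAlgEquiv κ (Fin d) (Fin e) Q)) := hPQ
    exact (MvPolynomial.sumAlgEquiv κ (Fin d) (Fin e)).injective (h1 (hinj' h2))
  intro P Q hPQ
  apply hΦinj
  rw [← hfac]
  exact hPQ

end Groth.Agent.Lib.Helper4.LocParam
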