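import Mathlib
import Groth.Agent.Lib.Helper4LocParamA

/-!
# Parameters of a local ring essentially of finite type over a local ring (helper4)

Set-up lemmas for a local homomorphism `A → B` essentially of finite type: the closed fibre
`B / m_A B` is a Noetherian local ring; systems of parameters of quotients of `B`; lifts of a
transcendence basis of the residue field extension; and the verification of the hypotheses of
`exists_zmt_local` for them.
-/

set_option autoImplicit false
set_option linter.style.haveILetI false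

universe u v w

open IsLocalRing

namespace Groth.Agent.Lib.Helper4.LocParam

section Quot

variable {B : Type v} [CommRing B] [IsLocalRing B]

theorem isLocalRing_quotient_of_le (I₀ : Ideal B) (hI : I₀ ≤ maximalIdeal B) :
    IsLocalRing (B ⧸ I₀) := by
  haveI : Nontrivial (B ⧸ I₀) := Ideal.Quotient.nontrivial_iff.mpr (fun h =>
    (maximalIdeal.isMaximal B).ne_top (top_le_iff.mp (h ▸ hI)))
  exact IsLocalRing.of_surjective' (Ideal.Quotient.mk I₀) Ideal.Quotient.mk_surjective

theorem comap_maximalIdeal_quotient (I₀ : Ideal B) (hI : I₀ ≤ maximalIdeal B) :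
    haveI := isLocalRing_quotient_of_le I₀ hI
    (maximalIdeal (B ⧸ I₀)).comap (Ideal.Quotient.mk I₀) = maximalIdeal B := by
  haveI := isLocalRing_quotient_of_le I₀ hI
  haveI : ((maximalIdeal (B ⧸ I₀)).comap (Ideal.Quotient.mk I₀)).IsMaximal :=
    Ideal.comap_isMaximal_of_surjective _ Ideal.Quotient.mk_surjective
  exact IsLocalRing.eq_maximalIdeal inferInstance

/-- A system of parameters of the Noetherian local ring `B / I₀`, lifted to `B`. -/
theorem exists_params_quot (I₀ : Ideal B) (hI : I₀ ≤ maximalIdeal B) [IsNoetherianRing (B ⧸ I₀)] :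
    haveI := isLocalRing_quotient_of_le I₀ hI
    ∃ (d : ℕ) (y : Fin d → B), (∀ i, y i ∈ maximalIdeal B) ∧
      (maximalIdeal (B ⧸ I₀)).height = d ∧
      maximalIdeal (B ⧸ I₀) ∈
        (Ideal.span (Set.range fun i => Ideal.Quotient.mk I₀ (y i))).minimalPrimes ∧
      maximalIdeal B ∈ (I₀ ⊔ Ideal.span (Set.range y)).minimalPrimes := by
  classical
  haveI := isLocalRing_quotient_of_le I₀ hI
  have hcm := comap_maximalIdeal_quotient I₀ hI
  obtain ⟨s, hsmin, hscard⟩ :=
    Ideal.exists_finset_card_eq_height_of_isNoetherianRing (maximalIdeal (B ⧸ I₀))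
  set d := s.card with hd
  set y' : Fin d → B ⧸ I₀ := fun i => ((s.equivFin.symm i : s) : B ⧸ I₀) with hy'
  have hrange : Set.range y' = (s : Set (B ⧸ I₀)) := by
    ext z
    constructor
    · rintro ⟨i, rfl⟩
      exact (s.equivFin.symm i).2
    · intro hz
      exact ⟨s.equivFin ⟨z, hz⟩, by simp [hy']⟩
  have hsurj : ∀ i, ∃ b : B, Ideal.Quotient.mk I₀ b = y' i := fun i => Ideal.Quotient.mk_surjective _
  choose y hy using hsurj
  have hfun : (fun i => Ideal.Quotient.mk I₀ (y i)) = y' := funext hy
  have hy𝔪 : ∀ i, y i ∈ maximalIdeal B := by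
    intro i
    rw [← hcm, Ideal.mem_comap, hy]
    apply hsmin.1.2
    apply Ideal.subset_span
    rw [← hrange]
    exact ⟨i, rfl⟩
  refine ⟨d, y, hy𝔪, hscard.symm, ?_, ?_⟩
  · rw [hfun, hrange]
    exact hsmin
  · refine ⟨⟨inferInstance, sup_le hI ?_⟩, ?_⟩
    · rw [Ideal.span_le]
      rintro _ ⟨i, rfl⟩
      exact hy𝔪 i
    · rintro 𝔯 ⟨h𝔯prime, h𝔯J⟩ h𝔯le
      have hI𝔯 : I₀ ≤ 𝔯 := le_sup_left.trans h𝔯J
      have hcomap : (𝔯.map (Ideal.Quotient.mk I₀)).comap (Ideal.Quotient.mk I₀) = 𝔯 := by
        rw [Ideal.comap_map_of_surjective _ Ideal.Quotient.mk_surjective, ← RingHom.ker_eq_comap_bot,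
          Ideal.mk_ker]
        exact sup_eq_left.mpr hI𝔯
      haveI : (𝔯.map (Ideal.Quotient.mk I₀)).IsPrime :=
        Ideal.isPrime_map_quotientMk_of_isPrime hI𝔯
      have h1 : Ideal.span (s : Set (B ⧸ I₀)) ≤ 𝔯.map (Ideal.Quotient.mk I₀) := by
        rw [Ideal.span_le, ← hrange]
        rintro _ ⟨i, rfl⟩
        rw [← hy i]
        exact Ideal.mem_map_of_mem _ (h𝔯J (Ideal.mem_sup_right (Ideal.subset_span ⟨i, rfl⟩)))
      have h2 : 𝔯.map (Ideal.Quotient.mk I₀) ≤ maximalIdeal (B ⧸ I₀) :=
        IsLocalRing.le_maximalIdeal (Ideal.IsPrime.ne_top inferInstance)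
      have h3 : maximalIdeal (B ⧸ I₀) ≤ 𝔯.map (Ideal.Quotient.mk I₀) :=
        hsmin.2 ⟨inferInstance, h1⟩ h2
      have h4 := Ideal.comap_mono (f := Ideal.Quotient.mk I₀) h3
      rwa [hcm, hcomap] at h4

/-- The first hypothesis of `exists_zmt_local`. -/
theorem h1_of_minimalPrimes {R : Type w} [CommRing R] [Algebra R B] (J : Ideal B)
    (hmin : maximalIdeal B ∈ J.minimalPrimes)
    (hJ : J ≤ ((maximalIdeal B).comap (algebraMap R B)).map (algebraMap R B)) :
    ∀ 𝔯 : Ideal B, 𝔯.IsPrime →
      (∀ a : R, algebraMap R B a ∈ maximalIdeal B → algebraMap R B a ∈ 𝔯) →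
      𝔯 = maximalIdeal B := by
  intro 𝔯 h𝔯 h
  have h1 : J ≤ 𝔯 := by
    refine hJ.trans ?_
    rw [Ideal.map_le_iff_le_comap]
    intro a ha
    exact h a ha
  have h2 : 𝔯 ≤ maximalIdeal B := IsLocalRing.le_maximalIdeal h𝔯.ne_top
  exact le_antisymm h2 (hmin.2 ⟨h𝔯, h1⟩ h2)

/-- Algebraicity is monotone in the base subring (mixed subalgebra/subring version). -/
theorem isAlgebraic_subring_of_subalgebra {k K : Type*} [CommRing k] [CommRing K] [Algebra k K]
    (S₁ : Subalgebra k K) (T : Subring K) (hle : ∀ x ∈ S₁, x ∈ T) (u : K) (hu : IsAlgebraic S₁ u) :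
    IsAlgebraic T u := by
  obtain ⟨p, hp0, hp⟩ := hu
  let f : S₁ →+* T :=
    { toFun := fun x => ⟨x.1, hle x.1 x.2⟩
      map_one' := rfl
      map_mul' := fun _ _ => rfl
      map_zero' := rfl
      map_add' := fun _ _ => rfl }
  have hf : Function.Injective f := by
    intro a b hab
    exact Subtype.ext (congrArg (fun t : T => (t : K)) hab)
  refine ⟨p.map f, (Polynomial.map_ne_zero_iff hf).mpr hp0, ?_⟩
  rw [Polynomial.aeval_def, Polynomial.eval₂_map]
  rw [Polynomial.aeval_def] at hp
  exact hp

/-- The second hypothesis of `exists_zmt_local`. -/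
theorem h2_of_isAlgebraic {R : Type w} [CommRing R] [Algebra R B]
    (halg : ∀ ū : ResidueField B, IsAlgebraic ((residue B).comp (algebraMap R B)).range ū) :
    ∀ u : B, u ∉ maximalIdeal B → ∃ p : Polynomial R,
      algebraMap R B (p.coeff 0) ∉ maximalIdeal B ∧ Polynomial.aeval u p ∈ maximalIdeal B := by
  intro u hu
  set g : R →+* ResidueField B := (residue B).comp (algebraMap R B) with hg
  have hū0 : residue B u ≠ 0 := by
    rwa [Ne, residue_eq_zero_iff]
  obtain ⟨q, hq0, hq⟩ := (halg (residue B u)).exists_nonzero_coeff_and_aeval_eq_zero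
    (mem_nonZeroDivisors_of_ne_zero hū0)
  set q' : Polynomial (ResidueField B) := q.map g.range.subtype with hq'
  have hlifts : q' ∈ Polynomial.lifts g := by
    rw [Polynomial.lifts_iff_coeff_lifts]
    intro n
    rw [hq', Polynomial.coeff_map]
    exact (q.coeff n).2
  obtain ⟨p, hp⟩ := (Polynomial.mem_lifts _).mp hlifts
  refine ⟨p, ?_, ?_⟩
  · have h1 : g (p.coeff 0) = q'.coeff 0 := by
      rw [← hp, Polynomial.coeff_map]
    have h2 : q'.coeff 0 ≠ 0 := by
      rw [hq', Polynomial.coeff_map]
      intro h0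
      apply hq0
      exact Subtype.ext h0
    intro hmem
    apply h2
    rw [← h1, hg, RingHom.comp_apply, residue_eq_zero_iff]
    exact hmem
  · rw [← residue_eq_zero_iff]
    have h1 : residue B (Polynomial.aeval u p) = Polynomial.eval₂ g (residue B u) p := by
      rw [Polynomial.aeval_def, Polynomial.hom_eval₂]
    rw [h1, ← Polynomial.eval_map, hp, hq', Polynomial.eval_map]
    rw [Polynomial.aeval_def] at hq
    exact hq

end Quot

section LocalHom

variable {A : Type u} {B : Type v} [CommRing A] [CommRing B] [IsLocalRing A] [IsLocalRing B]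
  [Algebra A B] [IsLocalHom (algebraMap A B)]

theorem map_maximalIdeal_le : (maximalIdeal A).map (algebraMap A B) ≤ maximalIdeal B := by
  rw [Ideal.map_le_iff_le_comap]
  intro a ha
  rw [Ideal.mem_comap, mem_maximalIdeal, map_mem_nonunits_iff]
  exact ha

omit [IsLocalRing B] [IsLocalHom (algebraMap A B)] in
theorem isNoetherianRing_quotient_of_map_le [Algebra.EssFiniteType A B] (I₀ : Ideal B)
    (h : (maximalIdeal A).map (algebraMap A B) ≤ I₀) : IsNoetherianRing (B ⧸ I₀) := by
  letI : Field (A ⧸ maximalIdeal A) := Ideal.Quotient.field _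
  haveI : IsNoetherianRing (B ⧸ (maximalIdeal A).map (algebraMap A B)) :=
    Algebra.EssFiniteType.isNoetherianRing (A ⧸ maximalIdeal A) _
  exact isNoetherianRing_of_surjective _ _ (Ideal.Quotient.factor h)
    (Ideal.Quotient.factor_surjective h)

/-- A lift to `B` of a transcendence basis of the residue field extension. -/
theorem exists_lift_transcendenceBasis [Algebra.EssFiniteType A B] :
    ∃ (e : ℕ) (z : Fin e → B), Algebra.trdeg (ResidueField A) (ResidueField B) = e ∧
      AlgebraicIndependent (ResidueField A) (fun i => residue B (z i)) ∧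
      Algebra.IsAlgebraic
        (Algebra.adjoin (ResidueField A) (Set.range fun i => residue B (z i))) (ResidueField B) := by
  haveI : Algebra.EssFiniteType A (ResidueField B) :=
    inferInstanceAs (Algebra.EssFiniteType A (B ⧸ maximalIdeal B))
  haveI : Algebra.EssFiniteType (ResidueField A) (ResidueField B) :=
    Algebra.EssFiniteType.of_comp A (ResidueField A) (ResidueField B)
  have hfin : Algebra.trdeg (ResidueField A) (ResidueField B) < Cardinal.aleph0 :=
    trdeg_lt_aleph0 (ResidueField A) (ResidueField B)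
  obtain ⟨s, hs⟩ := exists_isTranscendenceBasis (ResidueField A) (ResidueField B)
  have hcard := hs.cardinalMk_eq_trdeg
  have hsfin : s.Finite := Cardinal.lt_aleph0_iff_set_finite.mp (hcard.trans_lt hfin)
  haveI : Finite s := hsfin
  obtain ⟨e, ⟨eq⟩⟩ := Finite.exists_equiv_fin s
  set z' : Fin e → ResidueField B := fun i => ((eq.symm i : s) : ResidueField B) with hz'
  have hrange : Set.range z' = s := by
    ext x
    constructor
    · rintro ⟨i, rfl⟩
      exact (eq.symm i).2
    · intro hx
      exact ⟨eq ⟨x, hx⟩, by simp [hz']⟩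
  have hsurj : ∀ i, ∃ b : B, residue B b = z' i := fun i => residue_surjective _
  choose z hz using hsurj
  have hfun : (fun i => residue B (z i)) = z' := funext hz
  refine ⟨e, z, ?_, ?_, ?_⟩
  · letI : Fintype s := Fintype.ofEquiv (Fin e) eq.symm
    rw [← hcard, Cardinal.mk_fintype, Fintype.card_congr eq, Fintype.card_fin]
  · rw [hfun]
    exact hs.1.comp eq.symm eq.symm.injective
  · rw [hfun, hrange]
    have h1 := hs.isAlgebraic
    rwa [Subtype.range_coe] at h1

/-- The algebraicity hypothesis of `h2_of_isAlgebraic` for an intermediate ring `A → R → B` through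
which the lifts `z` factor. -/
theorem halg_of_lift {R : Type w} [CommRing R] [Algebra A R] [Algebra R B] [IsScalarTower A R B]
    {e : ℕ} (z : Fin e → B) (hzR : ∀ i, ∃ a : R, algebraMap R B a = z i)
    (hz : Algebra.IsAlgebraic
      (Algebra.adjoin (ResidueField A) (Set.range fun i => residue B (z i))) (ResidueField B)) :
    ∀ ū : ResidueField B, IsAlgebraic ((residue B).comp (algebraMap R B)).range ū := by
  intro ū
  apply isAlgebraic_subring_of_subalgebra
    (Algebra.adjoin (ResidueField A) (Set.range fun i => residue B (z i))) _ _ ū (hz.isAlgebraic ū)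
  intro x hx
  induction hx using Algebra.adjoin_induction with
  | mem x hx =>
    obtain ⟨i, rfl⟩ := hx
    obtain ⟨a, ha⟩ := hzR i
    exact ⟨a, by rw [RingHom.comp_apply, ha]⟩
  | algebraMap c =>
    obtain ⟨a₀, rfl⟩ := residue_surjective c
    refine ⟨algebraMap A R a₀, ?_⟩
    rw [RingHom.comp_apply, ← IsScalarTower.algebraMap_apply]
    rfl
  | add x y _ _ hx hy => exact Subring.add_mem _ hx hy
  | mul x y _ _ hx hy => exact Subring.mul_mem _ hx hy

/-- Reduction to the residue fields commutes with `aeval`. -/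
theorem residue_aeval_eq {σ : Type*} (z : σ → B) (P : MvPolynomial σ A) :
    residue B (MvPolynomial.aeval z P) =
      MvPolynomial.aeval (R := ResidueField A) (fun i => residue B (z i))
        (MvPolynomial.map (residue A) P) := by
  have h : (residue B).comp (MvPolynomial.aeval z : MvPolynomial σ A →ₐ[A] B).toRingHom =
      (MvPolynomial.aeval (R := ResidueField A) (fun i => residue B (z i)) :
        MvPolynomial σ (ResidueField A) →ₐ[ResidueField A] ResidueField B).toRingHom.comp
        (MvPolynomial.map (residue A)) := by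
    apply MvPolynomial.ringHom_ext
    · intro a
      simp only [RingHom.comp_apply, AlgHom.toRingHom_eq_coe, RingHom.coe_coe, MvPolynomial.aeval_C,
        MvPolynomial.map_C]
      rfl
    · intro i
      simp only [RingHom.comp_apply, AlgHom.toRingHom_eq_coe, RingHom.coe_coe, MvPolynomial.aeval_X,
        MvPolynomial.map_X]
  exact congrFun (congrArg DFunLike.coe h) P

end LocalHom

end Groth.Agent.Lib.Helper4.LocParam
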