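import Mathlib
import Groth.Agent.Lib.Helper4LocParamC

/-!
# Parameters and Zariski's main theorem for local homomorphisms essentially of finite type (helper4)

* `h1_h2_of_params`: the hypotheses of `exists_zmt_local` hold for any intermediate ring `A → R → B`
  through which a system of parameters `y` of the closed fibre and lifts `z` of a transcendence basis of
  the residue field extension factor.
* `isAlgebraic_adjoin_of_params`: `B` is algebraic over `A[y, z]`.
-/

set_option autoImplicit false
set_option linter.style.haveILetI false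

universe u v w

open IsLocalRing

namespace Groth.Agent.Lib.Helper4.LocParam

section LocalHom

variable {A : Type u} {B : Type v} [CommRing A] [CommRing B] [IsLocalRing A] [IsLocalRing B]
  [Algebra A B] [IsLocalHom (algebraMap A B)]

theorem h1_h2_of_params {R : Type w} [CommRing R] [Algebra A R] [Algebra R B] [IsScalarTower A R B]
    {d e : ℕ} (y : Fin d → B) (z : Fin e → B) (hy : ∀ i, y i ∈ maximalIdeal B)
    (hyR : ∀ i, ∃ a : R, algebraMap R B a = y i) (hzR : ∀ i, ∃ a : R, algebraMap R B a = z i)
    (hmin : maximalIdeal B ∈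
      ((maximalIdeal A).map (algebraMap A B) ⊔ Ideal.span (Set.range y)).minimalPrimes)
    (hzalg : Algebra.IsAlgebraic
      (Algebra.adjoin (ResidueField A) (Set.range fun i => residue B (z i))) (ResidueField B)) :
    (∀ 𝔯 : Ideal B, 𝔯.IsPrime →
      (∀ a : R, algebraMap R B a ∈ maximalIdeal B → algebraMap R B a ∈ 𝔯) → 𝔯 = maximalIdeal B) ∧
    (∀ u : B, u ∉ maximalIdeal B → ∃ p : Polynomial R,
      algebraMap R B (p.coeff 0) ∉ maximalIdeal B ∧ Polynomial.aeval u p ∈ maximalIdeal B) := by
  refine ⟨?_, h2_of_isAlgebraic (halg_of_lift (R := R) z hzR hzalg)⟩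
  apply h1_of_minimalPrimes (R := R) _ hmin
  apply sup_le
  · rw [Ideal.map_le_iff_le_comap]
    intro a₀ ha₀
    rw [Ideal.mem_comap, IsScalarTower.algebraMap_apply A R B]
    apply Ideal.mem_map_of_mem
    rw [Ideal.mem_comap, ← IsScalarTower.algebraMap_apply A R B]
    exact map_maximalIdeal_le (Ideal.mem_map_of_mem _ ha₀)
  · rw [Ideal.span_le]
    rintro _ ⟨i, rfl⟩
    obtain ⟨a, ha⟩ := hyR i
    rw [← ha]
    apply Ideal.mem_map_of_mem
    rw [Ideal.mem_comap, ha]
    exact hy i

theorem isAlgebraic_adjoin_of_params [IsDomain B] [Algebra.EssFiniteType A B] {ι : Type*} (x : ι → B)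
    {d e : ℕ} (y : Fin d → B) (z : Fin e → B) (hy : ∀ i, y i ∈ maximalIdeal B)
    (hyx : ∀ i, y i ∈ Set.range x) (hzx : ∀ i, z i ∈ Set.range x)
    (hmin : maximalIdeal B ∈
      ((maximalIdeal A).map (algebraMap A B) ⊔ Ideal.span (Set.range y)).minimalPrimes)
    (hzalg : Algebra.IsAlgebraic
      (Algebra.adjoin (ResidueField A) (Set.range fun i => residue B (z i))) (ResidueField B)) :
    Algebra.IsAlgebraic (Algebra.adjoin A (Set.range x)) B := by
  haveI : Algebra.EssFiniteType (Algebra.adjoin A (Set.range x)) B :=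
    Algebra.EssFiniteType.of_comp A _ B
  obtain ⟨h1, h2⟩ := h1_h2_of_params (R := Algebra.adjoin A (Set.range x)) y z hy
    (fun i => ⟨⟨y i, Algebra.subset_adjoin (hyx i)⟩, rfl⟩)
    (fun i => ⟨⟨z i, Algebra.subset_adjoin (hzx i)⟩, rfl⟩) hmin hzalg
  exact isAlgebraic_of_local h1 h2

end LocalHom

end Groth.Agent.Lib.Helper4.LocParam
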