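import Mathlib
import Groth.Agent.Lib.Helper4LocParamD

/-!
# Parameters containing a prescribed element; going down after normalization (helper4)

* `ringKrullDim_quotient_succ_le_of_forall_notMem`: `dim R/r + 1 ≤ dim R` if `r` lies in no minimal prime.
* `exists_params_with`: a system of parameters of the closed fibre `B / m_A B` starting with a prescribed
  element `g` lying in no minimal prime of the closed fibre.
* `exists_prime_of_zmt_normalization`: going down through Zariski's main theorem after enlarging the base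
  to an integrally closed ring over which everything stays integral.
-/

set_option autoImplicit false
set_option linter.style.haveILetI false

universe u v w

open IsLocalRing

namespace Groth.Agent.Lib.Helper4.LocParam

set_option backward.isDefEq.respectTransparency false in
theorem ringKrullDim_quotient_succ_le_of_forall_notMem {R : Type*} [CommRing R] {r : R}
    (hr : ∀ p ∈ minimalPrimes R, r ∉ p) :
    ringKrullDim (R ⧸ Ideal.span {r}) + 1 ≤ ringKrullDim R := by
  by_cases hr' : Ideal.span {r} = ⊤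
  · rw [hr', ringKrullDim_eq_bot_of_subsingleton]
    simp
  have : Nonempty (PrimeSpectrum.zeroLocus (R := R) (Ideal.span {r})) := by
    rwa [Set.nonempty_coe_sort, Set.nonempty_iff_ne_empty, ne_eq,
      PrimeSpectrum.zeroLocus_empty_iff_eq_top]
  have := Ideal.Quotient.nontrivial_iff.mpr hr'
  have := (Ideal.Quotient.mk (Ideal.span {r})).domain_nontrivial
  rw [ringKrullDim_quotient, Order.krullDim_eq_iSup_length, ringKrullDim,
    Order.krullDim_eq_iSup_length, ← WithBot.coe_one, ← WithBot.coe_add,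
    ENat.iSup_add, WithBot.coe_le_coe, iSup_le_iff]
  intro l
  obtain ⟨p, hp, hp'⟩ := Ideal.exists_minimalPrimes_le (J := l.head.1.asIdeal) bot_le
  let p' : PrimeSpectrum R := ⟨p, hp.1.1⟩
  have hp' : p' < l.head := lt_of_le_of_ne hp' fun h ↦ hr p hp
    (show r ∈ p by simpa [← h] using l.head.2)
  refine le_trans ?_ (le_iSup _ ((l.map Subtype.val (fun _ _ ↦ id)).cons p' hp'))
  simp

section Quot

variable {B : Type v} [CommRing B] [IsLocalRing B]

/-- Minimality of the maximal ideal over `I₀ ⊔ J` passes to the quotient by `I₀`. -/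
theorem maximalIdeal_quotient_mem_minimalPrimes (I₀ J : Ideal B) (hI : I₀ ≤ maximalIdeal B)
    (hmin : maximalIdeal B ∈ (I₀ ⊔ J).minimalPrimes) :
    haveI := isLocalRing_quotient_of_le I₀ hI
    maximalIdeal (B ⧸ I₀) ∈ (J.map (Ideal.Quotient.mk I₀)).minimalPrimes := by
  haveI := isLocalRing_quotient_of_le I₀ hI
  have hcm := comap_maximalIdeal_quotient I₀ hI
  refine ⟨⟨inferInstance, ?_⟩, ?_⟩
  · rw [Ideal.map_le_iff_le_comap, hcm]
    exact le_sup_right.trans hmin.1.2
  · rintro 𝔯' ⟨h𝔯'prime, hJ𝔯'⟩ _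
    haveI := h𝔯'prime
    have h1 : I₀ ⊔ J ≤ 𝔯'.comap (Ideal.Quotient.mk I₀) := by
      apply sup_le
      · intro b hb
        rw [Ideal.mem_comap, Ideal.Quotient.eq_zero_iff_mem.mpr hb]
        exact 𝔯'.zero_mem
      · exact Ideal.map_le_iff_le_comap.mp hJ𝔯'
    have h2 : 𝔯'.comap (Ideal.Quotient.mk I₀) ≤ maximalIdeal B :=
      IsLocalRing.le_maximalIdeal (Ideal.IsPrime.ne_top inferInstance)
    have h3 : maximalIdeal B ≤ 𝔯'.comap (Ideal.Quotient.mk I₀) :=
      hmin.2 ⟨inferInstance, h1⟩ h2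
    intro w hw
    obtain ⟨b, rfl⟩ := Ideal.Quotient.mk_surjective w
    have hb : b ∈ maximalIdeal B := by
      rw [← hcm]
      exact hw
    exact h3 hb

end Quot

section LocalHom

variable {A : Type u} {B : Type v} [CommRing A] [CommRing B] [IsLocalRing A] [IsLocalRing B]
  [Algebra A B] [IsLocalHom (algebraMap A B)]

/-- A system of parameters of the closed fibre starting with `g`. -/
theorem exists_params_with [Algebra.EssFiniteType A B] (g : B) (hg : g ∈ maximalIdeal B)
    (hmin : ∀ q ∈ ((maximalIdeal A).map (algebraMap A B)).minimalPrimes, g ∉ q)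
    (d : ℕ) (hd : ringKrullDim (B ⧸ (maximalIdeal A).map (algebraMap A B)) = d) :
    ∃ (d₁ : ℕ) (y : Fin (d₁ + 1) → B), d = d₁ + 1 ∧ y 0 = g ∧ (∀ i, y i ∈ maximalIdeal B) ∧
      maximalIdeal B ∈
        ((maximalIdeal A).map (algebraMap A B) ⊔ Ideal.span (Set.range y)).minimalPrimes := by
  classical
  have hIle : (maximalIdeal A).map (algebraMap A B) ≤ maximalIdeal B := map_maximalIdeal_le
  have hI₁le : (maximalIdeal A).map (algebraMap A B) ⊔ Ideal.span {g} ≤ maximalIdeal B := by
    apply sup_le hIle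
    rw [Ideal.span_le, Set.singleton_subset_iff]
    exact hg
  haveI hnoeth : IsNoetherianRing (B ⧸ (maximalIdeal A).map (algebraMap A B)) :=
    isNoetherianRing_quotient_of_map_le _ le_rfl
  haveI hloc := isLocalRing_quotient_of_le _ hIle
  haveI hnoeth₁ : IsNoetherianRing (B ⧸ ((maximalIdeal A).map (algebraMap A B) ⊔ Ideal.span {g})) :=
    isNoetherianRing_quotient_of_map_le _ le_sup_left
  haveI hloc₁ := isLocalRing_quotient_of_le _ hI₁le
  obtain ⟨d₁, y'', hy'', hht₁, -, hminB₁⟩ := exists_params_quot _ hI₁le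
  set y : Fin (d₁ + 1) → B := Fin.cons g y'' with hy
  have hrange : Set.range y = insert g (Set.range y'') := by
    rw [hy, Fin.range_cons]
  have hsup : (maximalIdeal A).map (algebraMap A B) ⊔ Ideal.span (Set.range y) =
      ((maximalIdeal A).map (algebraMap A B) ⊔ Ideal.span {g}) ⊔ Ideal.span (Set.range y'') := by
    rw [hrange, Ideal.span_insert, sup_assoc]
  have hminB : maximalIdeal B ∈
      ((maximalIdeal A).map (algebraMap A B) ⊔ Ideal.span (Set.range y)).minimalPrimes := by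
    rw [hsup]
    exact hminB₁
  have hy𝔪 : ∀ i, y i ∈ maximalIdeal B := by
    intro i
    refine Fin.cases ?_ (fun j => ?_) i
    · simpa [hy] using hg
    · simpa [hy] using hy'' j
  refine ⟨d₁, y, ?_, by simp [hy], hy𝔪, hminB⟩
  -- the dimension count
  have hdF : (maximalIdeal (B ⧸ (maximalIdeal A).map (algebraMap A B))).height = d := by
    have h1 := IsLocalRing.maximalIdeal_height_eq_ringKrullDim
      (R := B ⧸ (maximalIdeal A).map (algebraMap A B))
    rw [hd] at h1
    exact_mod_cast h1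
  apply le_antisymm
  · -- `d ≤ d₁ + 1` by Krull's height theorem
    have hminF := maximalIdeal_quotient_mem_minimalPrimes _ (Ideal.span (Set.range y)) hIle hminB
    have h1 : (Ideal.span (Set.range y)).map
        (Ideal.Quotient.mk ((maximalIdeal A).map (algebraMap A B))) =
        Ideal.span ((Finset.univ.image fun i =>
          Ideal.Quotient.mk ((maximalIdeal A).map (algebraMap A B)) (y i) : Finset _) : Set _) := by
      rw [Ideal.map_span, Finset.coe_image, Finset.coe_univ, Set.image_univ, ← Set.range_comp]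
      rfl
    rw [h1] at hminF
    have h2 := Ideal.height_le_card_of_mem_minimalPrimes_span_finset hminF
    rw [hdF] at h2
    have h3 : (Finset.univ.image fun i =>
        Ideal.Quotient.mk ((maximalIdeal A).map (algebraMap A B)) (y i)).card ≤ d₁ + 1 := by
      refine Finset.card_image_le.trans ?_
      rw [Finset.card_univ, Fintype.card_fin]
    have h4 : (d : ℕ∞) ≤ ((d₁ + 1 : ℕ) : ℕ∞) := h2.trans (by exact_mod_cast h3)
    exact_mod_cast h4
  · -- `d₁ + 1 ≤ d` since `g` lies in no minimal prime of the closed fibre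
    have hgmin : ∀ p ∈ minimalPrimes (B ⧸ (maximalIdeal A).map (algebraMap A B)),
        Ideal.Quotient.mk ((maximalIdeal A).map (algebraMap A B)) g ∉ p := by
      intro p hp hgp
      have h1 : p.comap (Ideal.Quotient.mk ((maximalIdeal A).map (algebraMap A B))) ∈
          ((maximalIdeal A).map (algebraMap A B)).minimalPrimes := by
        rw [Ideal.minimalPrimes_eq_comap]
        exact ⟨p, hp, rfl⟩
      exact hmin _ h1 hgp
    have h1 := ringKrullDim_quotient_succ_le_of_forall_notMem hgmin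
    have h2 : ringKrullDim ((B ⧸ (maximalIdeal A).map (algebraMap A B)) ⧸
        Ideal.span {Ideal.Quotient.mk ((maximalIdeal A).map (algebraMap A B)) g}) =
        ringKrullDim (B ⧸ ((maximalIdeal A).map (algebraMap A B) ⊔ Ideal.span {g})) := by
      have h3 : Ideal.span {Ideal.Quotient.mk ((maximalIdeal A).map (algebraMap A B)) g} =
          (Ideal.span {g}).map (Ideal.Quotient.mk ((maximalIdeal A).map (algebraMap A B))) := by
        rw [Ideal.map_span, Set.image_singleton]
      rw [h3]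
      exact ringKrullDim_eq_of_ringEquiv (DoubleQuot.quotQuotEquivQuotSup _ _)
    have h4 : ringKrullDim (B ⧸ ((maximalIdeal A).map (algebraMap A B) ⊔ Ideal.span {g})) = d₁ := by
      rw [← IsLocalRing.maximalIdeal_height_eq_ringKrullDim, hht₁]
      rfl
    rw [h2, h4, hd] at h1
    exact_mod_cast h1

end LocalHom

section GD

variable {R₂ : Type u} {E : Type v} {B₀ : Type w} {L : Type*} [CommRing R₂] [CommRing E] [IsDomain E]
  [IsIntegrallyClosed E] [CommRing B₀] [Algebra R₂ B₀] [Field L] [Algebra E L] [FaithfulSMul E L]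

omit [IsDomain E] in
/-- **Going down through Zariski's main theorem after enlarging the base.** `B₀ ⊆ L` carries Zariski main
theorem data `r` over `R₂`; `R₂ → E` is a map to an integrally closed domain `E ⊆ L`, integral over `B₀`
inside `L`. Then for a principal prime `(c₀)` of `E` whose generator becomes an element `b₀` of the prime
`𝔮₀ ∌ r` of `B₀`, there is a prime `𝔮 ⊆ 𝔮₀` of `B₀` containing `b₀` and contracting into `(c₀)`. -/
theorem exists_prime_of_zmt_normalization (φ : R₂ →+* E) (ψ : B₀ →+* L) (hψ : Function.Injective ψ)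
    (hcomp : (algebraMap E L).comp φ = ψ.comp (algebraMap R₂ B₀))
    (hEint : ∀ c : E, ψ.IsIntegralElem (algebraMap E L c))
    (r : B₀) (hrint : IsIntegral R₂ r) (hr : ∀ b : B₀, ∃ m : ℕ, IsIntegral R₂ (r ^ m * b))
    (𝔮₀ : Ideal B₀) [h𝔮₀ : 𝔮₀.IsPrime] (hr𝔮₀ : r ∉ 𝔮₀)
    (c₀ : E) (hc₀ : (Ideal.span {c₀}).IsPrime) (b₀ : B₀) (hb₀ : b₀ ∈ 𝔮₀)
    (hcb : algebraMap E L c₀ = ψ b₀) :
    ∃ 𝔮 : Ideal B₀, 𝔮.IsPrime ∧ 𝔮 ≤ 𝔮₀ ∧ b₀ ∈ 𝔮 ∧
      ∀ a : R₂, algebraMap R₂ B₀ a ∈ 𝔮 → φ a ∈ Ideal.span {c₀} := by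
  classical
  set D' : Subalgebra E L := Algebra.adjoin E (Set.range ψ) with hD'
  have hψmem : ∀ b, ψ b ∈ D' := fun b => Algebra.subset_adjoin ⟨b, rfl⟩
  set ι₀ : B₀ →+* D' := ψ.codRestrict D' hψmem with hι₀
  have hι₀val : ∀ b, ((ι₀ b : D') : L) = ψ b := fun b => rfl
  have hι₀inj : Function.Injective ι₀ := by
    intro a b hab
    exact hψ (congrArg Subtype.val hab)
  letI algB₀D' : Algebra B₀ D' := ι₀.toAlgebra
  haveI : FaithfulSMul E D' := by
    rw [faithfulSMul_iff_algebraMap_injective]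
    intro a b hab
    exact FaithfulSMul.algebraMap_injective E L (congrArg Subtype.val hab)
  -- `D'` is integral over `B₀`
  have hintL : ∀ w ∈ D', ψ.IsIntegralElem w := by
    intro w hw
    induction hw using Algebra.adjoin_induction with
    | mem w hw =>
      obtain ⟨b, rfl⟩ := hw
      exact ψ.isIntegralElem_map
    | algebraMap c => exact hEint c
    | add w₁ w₂ _ _ h₁ h₂ => exact RingHom.IsIntegralElem.add ψ h₁ h₂
    | mul w₁ w₂ _ _ h₁ h₂ => exact RingHom.IsIntegralElem.mul ψ h₁ h₂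
  haveI : Algebra.IsIntegral B₀ D' := by
    constructor
    intro w
    obtain ⟨p, hpm, hp⟩ := hintL w.1 w.2
    refine ⟨p, hpm, ?_⟩
    apply Subtype.val_injective
    have h1 : ((Polynomial.eval₂ (algebraMap B₀ D') w p : D') : L) =
        Polynomial.eval₂ ψ (w : L) p := by
      have h2 := Polynomial.hom_eval₂ p (algebraMap B₀ D') D'.val.toRingHom w
      exact h2
    rw [h1, hp]
    rfl
  obtain ⟨𝔫', h𝔫'prime, h𝔫'comap⟩ :=
    Ideal.exists_ideal_over_prime_of_isIntegral_of_isDomain (S := D') 𝔮₀ (by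
      have h1 : RingHom.ker (algebraMap B₀ D') = ⊥ :=
        (RingHom.injective_iff_ker_eq_bot _).mp hι₀inj
      rw [h1]
      exact bot_le)
  haveI := h𝔫'prime
  have h𝔫'mem : ∀ b : B₀, ι₀ b ∈ 𝔫' ↔ b ∈ 𝔮₀ := by
    intro b
    rw [← h𝔫'comap]
    rfl
  -- Zariski main theorem data over `E`
  set ρ : L := ψ r with hρ
  have hρint : IsIntegral E ρ := IsIntegral.map_of_comp_eq φ ψ hcomp hrint
  have hT : ∀ w ∈ D', ∃ m : ℕ, IsIntegral E (ρ ^ m * w) := by
    intro w hw
    induction hw using Algebra.adjoin_induction with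
    | mem w hw =>
      obtain ⟨b, rfl⟩ := hw
      obtain ⟨m, hm⟩ := hr b
      refine ⟨m, ?_⟩
      have h1 := IsIntegral.map_of_comp_eq φ ψ hcomp hm
      rwa [map_mul, map_pow] at h1
    | algebraMap c => exact ⟨0, by rw [pow_zero, one_mul]; exact isIntegral_algebraMap⟩
    | add w₁ w₂ _ _ h₁ h₂ =>
      obtain ⟨m₁, hm₁⟩ := h₁
      obtain ⟨m₂, hm₂⟩ := h₂
      refine ⟨m₁ + m₂, ?_⟩
      have h3 : ρ ^ (m₁ + m₂) * (w₁ + w₂) = ρ ^ m₂ * (ρ ^ m₁ * w₁) + ρ ^ m₁ * (ρ ^ m₂ * w₂) := by
        ring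
      rw [h3]
      exact ((hρint.pow m₂).mul hm₁).add ((hρint.pow m₁).mul hm₂)
    | mul w₁ w₂ _ _ h₁ h₂ =>
      obtain ⟨m₁, hm₁⟩ := h₁
      obtain ⟨m₂, hm₂⟩ := h₂
      refine ⟨m₁ + m₂, ?_⟩
      have h3 : ρ ^ (m₁ + m₂) * (w₁ * w₂) = (ρ ^ m₁ * w₁) * (ρ ^ m₂ * w₂) := by ring
      rw [h3]
      exact hm₁.mul hm₂
  set r' : D' := ι₀ r with hr'
  have hr'int : IsIntegral E r' :=
    (isIntegral_algHom_iff D'.val Subtype.val_injective).mp hρint
  have hr'all : ∀ w : D', ∃ m : ℕ, IsIntegral E (r' ^ m * w) := by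
    intro w
    obtain ⟨m, hm⟩ := hT w.1 w.2
    refine ⟨m, (isIntegral_algHom_iff D'.val Subtype.val_injective).mp ?_⟩
    rw [map_mul, map_pow]
    exact hm
  have hr'𝔫' : r' ∉ 𝔫' := fun h => hr𝔮₀ ((h𝔫'mem r).mp h)
  have hc₀D' : algebraMap E D' c₀ = ι₀ b₀ := Subtype.ext hcb
  haveI := hc₀
  have hle : Ideal.span {c₀} ≤ 𝔫'.under E := by
    rw [Ideal.span_le, Set.singleton_subset_iff]
    show algebraMap E D' c₀ ∈ 𝔫'
    rw [hc₀D']
    exact (h𝔫'mem b₀).mpr hb₀
  obtain ⟨𝔮', h𝔮'prime, h𝔮'le, h𝔮'under⟩ :=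
    Groth.Agent.Lib.Helper4.ClosedPts.exists_prime_under_eq 𝔫' r' hr'𝔫' hr'int hr'all
      (Ideal.span {c₀}) hle
  haveI := h𝔮'prime
  refine ⟨𝔮'.comap ι₀, Ideal.comap_isPrime _ _, ?_, ?_, ?_⟩
  · intro b hb
    exact (h𝔫'mem b).mp (h𝔮'le hb)
  · rw [Ideal.mem_comap, ← hc₀D']
    have h1 : c₀ ∈ 𝔮'.under E := by
      rw [h𝔮'under]
      exact Ideal.mem_span_singleton_self c₀
    exact h1
  · intro a ha
    rw [← h𝔮'under]
    show algebraMap E D' (φ a) ∈ 𝔮'
    have h1 : algebraMap E D' (φ a) = ι₀ (algebraMap R₂ B₀ a) := by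
      apply Subtype.ext
      exact congrFun (congrArg DFunLike.coe hcomp) a
    rw [h1]
    exact ha

end GD

end Groth.Agent.Lib.Helper4.LocParam
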