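import Mathlib
import Groth.Agent.Lib.Helper4LocParamE

/-!
# Horizontal elements: `A → B / g B` is injective (helper4)

`injective_algebraMap_quotient_of_params`: for an injective local homomorphism `A → B` of local domains,
essentially of finite type, a system of parameters `y` of the closed fibre and lifts `z` of a
transcendence basis of the residue field extension which together are algebraically independent over `A`,
the map `A → B / (y 0)` is injective.
-/

set_option autoImplicit false
set_option linter.style.haveILetI false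

universe u

open IsLocalRing

namespace Groth.Agent.Lib.Helper4.LocParam

theorem isIntegrallyClosed_mvPolynomial_of_finite (R : Type u) [CommRing R] [IsDomain R]
    [IsIntegrallyClosed R] (ι : Type*) [Finite ι] : IsIntegrallyClosed (MvPolynomial ι R) := by
  obtain ⟨n, ⟨eq⟩⟩ := Finite.exists_equiv_fin ι
  haveI := Groth.Agent.Lib.Helper4.ClosedPts.isIntegrallyClosed_mvPolynomial_fin R n
  exact IsIntegrallyClosed.of_equiv (MvPolynomial.renameEquiv R eq).symm.toRingEquiv

theorem injective_algebraMap_quotient_of_params {A B : Type u} [CommRing A] [CommRing B] [IsDomain A]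
    [IsDomain B] [IsLocalRing A] [IsLocalRing B] [Algebra A B] [IsLocalHom (algebraMap A B)]
    [FaithfulSMul A B] [Algebra.EssFiniteType A B] {d₁ e : ℕ} (y : Fin (d₁ + 1) → B) (z : Fin e → B)
    (hy : ∀ i, y i ∈ maximalIdeal B)
    (hmin : maximalIdeal B ∈
      ((maximalIdeal A).map (algebraMap A B) ⊔ Ideal.span (Set.range y)).minimalPrimes)
    (hzalg : Algebra.IsAlgebraic
      (Algebra.adjoin (ResidueField A) (Set.range fun i => residue B (z i))) (ResidueField B))
    (hind : AlgebraicIndependent A (Sum.elim y z)) :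
    Function.Injective (algebraMap A (B ⧸ Ideal.span {y 0})) := by
  classical
  set x : Fin (d₁ + 1) ⊕ Fin e → B := Sum.elim y z with hx
  letI algR₂B : Algebra (MvPolynomial (Fin (d₁ + 1) ⊕ Fin e) A) B :=
    (MvPolynomial.aeval x : MvPolynomial (Fin (d₁ + 1) ⊕ Fin e) A →ₐ[A] B).toRingHom.toAlgebra
  have halgR₂ : ∀ P : MvPolynomial (Fin (d₁ + 1) ⊕ Fin e) A,
      algebraMap (MvPolynomial (Fin (d₁ + 1) ⊕ Fin e) A) B P = MvPolynomial.aeval x P := fun _ => rfl
  haveI : IsScalarTower A (MvPolynomial (Fin (d₁ + 1) ⊕ Fin e) A) B :=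
    IsScalarTower.of_algebraMap_eq (fun a => by
      rw [halgR₂, MvPolynomial.algebraMap_eq, MvPolynomial.aeval_C])
  haveI : Algebra.EssFiniteType (MvPolynomial (Fin (d₁ + 1) ⊕ Fin e) A) B :=
    Algebra.EssFiniteType.of_comp A _ B
  obtain ⟨h1, h2⟩ := h1_h2_of_params (R := MvPolynomial (Fin (d₁ + 1) ⊕ Fin e) A) y z hy
    (fun i => ⟨MvPolynomial.X (Sum.inl i), by rw [halgR₂, MvPolynomial.aeval_X]; rfl⟩)
    (fun i => ⟨MvPolynomial.X (Sum.inr i), by rw [halgR₂, MvPolynomial.aeval_X]; rfl⟩) hmin hzalg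
  obtain ⟨B₀, hft, hloc, r, hru, hrint, hr⟩ := exists_zmt_local h1 h2
  have hB₀val : ∀ P : MvPolynomial (Fin (d₁ + 1) ⊕ Fin e) A,
      ((algebraMap (MvPolynomial (Fin (d₁ + 1) ⊕ Fin e) A) B₀ P : B₀) : B) = MvPolynomial.aeval x P :=
    fun _ => rfl
  -- the normalization of `A` in the fraction field of `B`
  haveI : FaithfulSMul A (FractionRing B) := by
    rw [faithfulSMul_iff_algebraMap_injective, IsScalarTower.algebraMap_eq A B (FractionRing B)]
    exact (IsFractionRing.injective B (FractionRing B)).comp (FaithfulSMul.algebraMap_injective A B)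
  haveI : IsIntegrallyClosed (integralClosure A (FractionRing B)) :=
    IsIntegrallyClosed.of_isIntegrallyClosed_of_isIntegrallyClosedIn _ (FractionRing B)
  haveI hEic : IsIntegrallyClosed
      (MvPolynomial (Fin (d₁ + 1) ⊕ Fin e) (integralClosure A (FractionRing B))) :=
    isIntegrallyClosed_mvPolynomial_of_finite _ _
  set xL : Fin (d₁ + 1) ⊕ Fin e → FractionRing B := fun i => algebraMap B (FractionRing B) (x i)
    with hxL
  have hindL : AlgebraicIndependent A xL :=
    hind.map' (f := IsScalarTower.toAlgHom A B (FractionRing B))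
      (IsFractionRing.injective B (FractionRing B))
  have hindA' : AlgebraicIndependent (integralClosure A (FractionRing B)) xL := hindL.integralClosure
  letI algEL : Algebra (MvPolynomial (Fin (d₁ + 1) ⊕ Fin e) (integralClosure A (FractionRing B)))
      (FractionRing B) :=
    (MvPolynomial.aeval xL : MvPolynomial (Fin (d₁ + 1) ⊕ Fin e) (integralClosure A (FractionRing B))
      →ₐ[integralClosure A (FractionRing B)] FractionRing B).toRingHom.toAlgebra
  have halgEL : ∀ P : MvPolynomial (Fin (d₁ + 1) ⊕ Fin e) (integralClosure A (FractionRing B)),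
      algebraMap _ (FractionRing B) P = MvPolynomial.aeval xL P := fun _ => rfl
  haveI : FaithfulSMul (MvPolynomial (Fin (d₁ + 1) ⊕ Fin e) (integralClosure A (FractionRing B)))
      (FractionRing B) :=
    (faithfulSMul_iff_algebraMap_injective _ _).mpr
      (algebraicIndependent_iff_injective_aeval.mp hindA')
  -- the comparison maps
  set φ : MvPolynomial (Fin (d₁ + 1) ⊕ Fin e) A →+*
      MvPolynomial (Fin (d₁ + 1) ⊕ Fin e) (integralClosure A (FractionRing B)) :=
    MvPolynomial.map (algebraMap A (integralClosure A (FractionRing B))) with hφ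
  set ψ : B₀ →+* FractionRing B := (algebraMap B (FractionRing B)).comp B₀.val.toRingHom with hψ
  have hψapp : ∀ b : B₀, ψ b = algebraMap B (FractionRing B) (b : B) := fun _ => rfl
  have hψinj : Function.Injective ψ := by
    intro a b hab
    exact Subtype.ext (IsFractionRing.injective B (FractionRing B) hab)
  have hcomp : (algebraMap (MvPolynomial (Fin (d₁ + 1) ⊕ Fin e) (integralClosure A (FractionRing B)))
      (FractionRing B)).comp φ =
      ψ.comp (algebraMap (MvPolynomial (Fin (d₁ + 1) ⊕ Fin e) A) B₀) := by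
    apply MvPolynomial.ringHom_ext
    · intro a
      rw [RingHom.comp_apply, RingHom.comp_apply, hφ, MvPolynomial.map_C, halgEL,
        MvPolynomial.aeval_C, hψapp, hB₀val, MvPolynomial.aeval_C,
        ← IsScalarTower.algebraMap_apply A B (FractionRing B)]
      rfl
    · intro i
      rw [RingHom.comp_apply, RingHom.comp_apply, hφ, MvPolynomial.map_X, halgEL,
        MvPolynomial.aeval_X, hψapp, hB₀val, MvPolynomial.aeval_X]
  have hEint : ∀ c : MvPolynomial (Fin (d₁ + 1) ⊕ Fin e) (integralClosure A (FractionRing B)),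
      ψ.IsIntegralElem (algebraMap _ (FractionRing B) c) := by
    intro c
    induction c using MvPolynomial.induction_on with
    | C a' =>
      rw [halgEL, MvPolynomial.aeval_C]
      obtain ⟨p, hpm, hp⟩ := a'.2
      set fA : A →+* B₀ :=
        (algebraMap (MvPolynomial (Fin (d₁ + 1) ⊕ Fin e) A) B₀).comp MvPolynomial.C with hfA
      have hfAcomp : ψ.comp fA = algebraMap A (FractionRing B) := by
        refine RingHom.ext fun a => ?_
        have h4 : ((algebraMap (MvPolynomial (Fin (d₁ + 1) ⊕ Fin e) A) B₀ (MvPolynomial.C a) : B₀) : B)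
            = algebraMap A B a := by
          rw [hB₀val, MvPolynomial.aeval_C]
        have h5 : (ψ.comp fA) a = algebraMap B (FractionRing B)
            ((algebraMap (MvPolynomial (Fin (d₁ + 1) ⊕ Fin e) A) B₀ (MvPolynomial.C a) : B₀) : B) := rfl
        rw [h5, h4, ← IsScalarTower.algebraMap_apply A B (FractionRing B)]
      refine ⟨p.map fA, hpm.map fA, ?_⟩
      rw [Polynomial.eval₂_map, hfAcomp]
      exact hp
    | add P Q hP hQ =>
      rw [map_add]
      exact RingHom.IsIntegralElem.add ψ hP hQ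
    | mul_X P i hP =>
      rw [map_mul]
      refine RingHom.IsIntegralElem.mul ψ hP ?_
      have h3 : algebraMap (MvPolynomial (Fin (d₁ + 1) ⊕ Fin e) (integralClosure A (FractionRing B)))
          (FractionRing B) (MvPolynomial.X i) =
          ψ (algebraMap (MvPolynomial (Fin (d₁ + 1) ⊕ Fin e) A) B₀ (MvPolynomial.X i)) := by
        rw [halgEL, MvPolynomial.aeval_X, hψapp, hB₀val, MvPolynomial.aeval_X]
      rw [h3]
      exact ψ.isIntegralElem_map
  -- the prime of `B₀` below the maximal ideal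
  set 𝔮₀ : Ideal B₀ := (maximalIdeal B).comap B₀.val.toRingHom with h𝔮₀
  haveI h𝔮₀p : 𝔮₀.IsPrime := Ideal.IsPrime.comap _
  have hr𝔮₀ : r ∉ 𝔮₀ := by
    intro hmem
    have h6 : (r : B) ∈ maximalIdeal B := hmem
    exact (IsLocalRing.mem_maximalIdeal _).mp h6 hru
  set c₀ : MvPolynomial (Fin (d₁ + 1) ⊕ Fin e) (integralClosure A (FractionRing B)) :=
    MvPolynomial.X (Sum.inl 0) with hc₀
  have hc₀p : (Ideal.span {c₀}).IsPrime :=
    (Ideal.span_singleton_prime (MvPolynomial.X_ne_zero _)).mpr MvPolynomial.X_prime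
  set b₀ : B₀ := algebraMap (MvPolynomial (Fin (d₁ + 1) ⊕ Fin e) A) B₀ (MvPolynomial.X (Sum.inl 0))
    with hb₀
  have hb₀val : (b₀ : B) = y 0 := by
    rw [hb₀, hB₀val, MvPolynomial.aeval_X]; rfl
  have hb₀𝔮₀ : b₀ ∈ 𝔮₀ := by
    change (b₀ : B) ∈ maximalIdeal B
    rw [hb₀val]; exact hy 0
  have hcb : algebraMap _ (FractionRing B) c₀ = ψ b₀ := by
    rw [halgEL, hc₀, MvPolynomial.aeval_X, hψapp, hb₀val]; rfl
  obtain ⟨𝔮, h𝔮p, h𝔮le, hb₀𝔮, h𝔮⟩ := exists_prime_of_zmt_normalization φ ψ hψinj hcomp hEint r hrint hr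
    𝔮₀ hr𝔮₀ c₀ hc₀p b₀ hb₀𝔮₀ hcb
  -- conclusion
  rw [injective_iff_map_eq_zero]
  intro a ha
  rw [IsScalarTower.algebraMap_apply A B (B ⧸ Ideal.span {y 0}), Ideal.Quotient.algebraMap_eq,
    Ideal.Quotient.eq_zero_iff_mem, Ideal.mem_span_singleton'] at ha
  obtain ⟨b, hb⟩ := ha
  obtain ⟨t, b₁, htu, htb⟩ := hloc b
  have h7 : algebraMap (MvPolynomial (Fin (d₁ + 1) ⊕ Fin e) A) B₀ (MvPolynomial.C a) * t = b₀ * b₁ := by
    apply Subtype.ext
    rw [MulMemClass.coe_mul, MulMemClass.coe_mul, hB₀val, MvPolynomial.aeval_C, hb₀val, ← htb, ← hb]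
    ring
  have ht𝔮 : t ∉ 𝔮 := by
    intro hmem
    have h8 : (t : B) ∈ maximalIdeal B := h𝔮le hmem
    exact (IsLocalRing.mem_maximalIdeal _).mp h8 htu
  have h9 : algebraMap (MvPolynomial (Fin (d₁ + 1) ⊕ Fin e) A) B₀ (MvPolynomial.C a) ∈ 𝔮 := by
    have h10 : algebraMap (MvPolynomial (Fin (d₁ + 1) ⊕ Fin e) A) B₀ (MvPolynomial.C a) * t ∈ 𝔮 := by
      rw [h7]; exact 𝔮.mul_mem_right _ hb₀𝔮
    exact (h𝔮p.mem_or_mem h10).resolve_right ht𝔮
  have h11 := h𝔮 _ h9
  rw [hφ, MvPolynomial.map_C, Ideal.mem_span_singleton'] at h11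
  obtain ⟨Q, hQ⟩ := h11
  have h12 := congrArg MvPolynomial.constantCoeff hQ
  rw [map_mul, hc₀, MvPolynomial.constantCoeff_X, mul_zero, MvPolynomial.constantCoeff_C] at h12
  have h13 : Function.Injective (algebraMap A (integralClosure A (FractionRing B))) :=
    FaithfulSMul.algebraMap_injective A _
  exact h13 (by rw [← h12, map_zero])

end Groth.Agent.Lib.Helper4.LocParam
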