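import Mathlib
import Groth.Agent.Lib.Helper4CurveDegT
import Groth.Agent.Lib.Helper23QAffSec

/-!
# A nef invertible module on a proper scheme of dimension one has nonnegative degree (helper4)
-/

set_option autoImplicit false
set_option linter.style.haveILetI false
universe u
open CategoryTheory CategoryTheory.Limits AlgebraicGeometry TopologicalSpace Opposite

namespace Groth.Agent.Lib.Helper4.NefDeg
open Groth.Agent.Lib.Helper4.KFilt Groth.Agent.Lib.Helper17.K0a Groth.Agent.Lib.Helper4.CurveChi
  Groth.Agent.Lib.Helper4.CurveDegT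

variable (k : Type u) [Field k] (X : Scheme.{u}) [X.Over (Spec (CommRingCat.of k))]
  [IsProper (X ↘ (Spec (CommRingCat.of k)))]

/-- the degree of `E` is a nonnegative combination of the numbers `χ(O_C ⊗ E) − n χ(O_C)`, `C` the
one-dimensional integral closed subschemes -/
theorem deg_nonneg_of_forall (hdim : topologicalKrullDim X ≤ 1) (n : ℕ) (E : X.Modules)
    (hE : FlatMod.IsFinLocFreeOfRank n E)
    (hnef : ∀ x : X, topologicalKrullDim ↥(closure ({x} : Set X)) = ((1 : ℕ) : WithBot ℕ∞) →
      0 ≤ Curv2.euler k X (CohB1.tensorMod (Cyc.closureStructureSheaf x) E) -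
        n * Curv2.euler k X (Cyc.closureStructureSheaf x)) :
    0 ≤ Curv2.deg k X E n := by
  classical
  haveI : IsLocallyNoetherian (Spec (CommRingCat.of k)) := inferInstance
  haveI : IsLocallyNoetherian X := LocallyOfFiniteType.isLocallyNoetherian (X ↘ (Spec (CommRingCat.of k)))
  haveI : CompactSpace X := by
    have : QuasiCompact (X ↘ (Spec (CommRingCat.of k))) := inferInstance
    exact (quasiCompact_iff_compactSpace (X ↘ (Spec (CommRingCat.of k)))).1 this
  haveI : IsNoetherian X := {}
  have hO := Groth.Agent.Lib.Helper4.Dev.isCoh_structureModule X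
  have hdimO : topologicalKrullDim (CohB1.support (Coh.structureModule X)) ≤ ((1 : ℕ) : WithBot ℕ∞) :=
    (topologicalKrullDim_subspace_le X _).trans (by exact_mod_cast hdim)
  have g := good_of_dim_le 1 (Coh.structureModule X) hO hdimO
  have h2 := phi_lowSub k X n E hE _ g.mem
  rw [map_sub, phi_cl k X n E hE _ hO,
    euler_congr_iso k (Groth.Agent.Lib.Helper23.TensorUnit.unitTensorIso E),
    finsum_eq_sum_of_support_subset _ (s := g.fin.toFinset)
      (fun x hx => by
        rw [Finset.mem_coe, Set.Finite.mem_toFinset]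
        exact support_cfun_subset 1 _ hx), map_sum] at h2
  have h3 : Curv2.deg k X E n =
      ∑ x ∈ g.fin.toFinset, phi k X n E hE (cfun 1 (Coh.structureModule X) x) := by
    unfold Curv2.deg
    linear_combination h2
  rw [h3]
  refine Finset.sum_nonneg fun x _ => ?_
  unfold cfun
  by_cases hd : topologicalKrullDim ↥(closure ({x} : Set X)) = ((1 : ℕ) : WithBot ℕ∞)
  · rw [if_pos hd, map_nsmul, phi_cl k X n E hE _ (isCoh_closureStructureSheaf x)]
    exact nsmul_nonneg (hnef x hd) _
  · rw [if_neg hd, map_zero]

end Groth.Agent.Lib.Helper4.NefDeg
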