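import Mathlib
import Groth.Agent.Lib.Helper12SnapD
import Groth.Agent.Lib.Helper4KTensor
import Groth.Agent.Lib.Helper4P1CritF
import Groth.Agent.Lib.Helper23SecTw9
import Groth.Agent.Lib.Helper2Ass
import Groth.Agent.Lib.Helper4CurveAsym
import Groth.Agent.Lib.Helper4ZeroDimGG
import Groth.Agent.Lib.Helper27MinPres
import Groth.Agent.Lib.Helper28HomShRefl2
import Groth.Agent.Lib.Helper23AmpleFam2
import Groth.Agent.Lib.Helper27AmpleSerre
import Groth.Agent.S1576
import Groth.Agent.S0002

/-!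
# Vanishing of `H⁰(F ⊗ L^{-n})` for `n ≫ 0` when `F` has no closed associated point (helper4) — part A
-/

set_option autoImplicit false
set_option linter.style.haveILetI false
set_option backward.isDefEq.respectTransparency.types false
universe u
open CategoryTheory CategoryTheory.Limits AlgebraicGeometry TopologicalSpace Opposite TensorProduct MonoidalCategory

namespace Groth.Agent.Lib.Helper4.NegTwist

open Groth.Agent.Lib.Helper4.Dev Groth.Agent.Lib.Helper1.StalkTensor Groth.Agent.Lib.Helper4.KTensor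
  Groth.Agent.Lib.Helper23.ResProp

section LA
variable {R : Type*} [CommRing R] (I : Ideal R)
variable {M M' M'' Q : Type*} [AddCommGroup M] [Module R M] [AddCommGroup M'] [Module R M']
  [AddCommGroup M''] [Module R M''] [AddCommGroup Q] [Module R Q]

/-- the linear map `g` has image in `I^n • ⊤` -/
def IntoPow (n : ℕ) (g : M →ₗ[R] M') : Prop := ∀ a, g a ∈ (I ^ n) • (⊤ : Submodule R M')

theorem IntoPow.comp {a b : ℕ} {g : M →ₗ[R] M'} {h : M' →ₗ[R] M''} (hg : IntoPow I a g) (hh : IntoPow I b h) :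
    IntoPow I (a + b) (h.comp g) := by
  intro z
  have h1 : g z ∈ (I ^ a) • (⊤ : Submodule R M') := hg z
  have h2 : h (g z) ∈ Submodule.map h ((I ^ a) • (⊤ : Submodule R M')) := Submodule.mem_map_of_mem h1
  rw [Submodule.map_smul''] at h2
  have h3 : Submodule.map h ⊤ ≤ (I ^ b) • (⊤ : Submodule R M'') := by
    rintro _ ⟨w, -, rfl⟩
    exact hh w
  have h4 := Submodule.smul_mono (le_refl (I ^ a)) h3 h2
  rw [← Submodule.mul_smul, ← pow_add] at h4
  exact h4

theorem IntoPow.of_equiv_left {n : ℕ} {g : M →ₗ[R] M'} (hg : IntoPow I n g) (e : M'' →ₗ[R] M) :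
    IntoPow I n (g.comp e) := fun z => hg (e z)

theorem IntoPow.of_equiv_right {n : ℕ} {g : M →ₗ[R] M'} (hg : IntoPow I n g) (e : M' →ₗ[R] M'') :
    IntoPow I n (e.comp g) := by
  have h0 : IntoPow I 0 e := by
    intro w
    rw [pow_zero, Ideal.one_eq_top, Submodule.top_smul]
    trivial
  have := hg.comp I h0
  rwa [add_zero] at this

theorem IntoPow.rTensor {n : ℕ} {g : M →ₗ[R] M'} (hg : IntoPow I n g) :
    IntoPow I n (LinearMap.rTensor Q g) := by
  intro z
  induction z using TensorProduct.induction_on with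
  | zero => rw [map_zero]; exact Submodule.zero_mem _
  | add a b ha hb => rw [map_add]; exact Submodule.add_mem _ ha hb
  | tmul m q =>
    rw [LinearMap.rTensor_tmul]
    have h1 : g m ∈ (I ^ n) • (⊤ : Submodule R M') := hg m
    refine Submodule.smul_induction_on h1 ?_ ?_
    · intro r hr w _
      rw [← TensorProduct.smul_tmul']
      exact Submodule.smul_mem_smul hr trivial
    · intro w w' hw hw'
      rw [TensorProduct.add_tmul]
      exact Submodule.add_mem _ hw hw'

end LA
variable {X : Scheme.{u}}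

/-- abbreviation: the maximal ideal of the local ring at `x` -/
noncomputable abbrev mx (x : X) : Ideal (X.presheaf.stalk x) := IsLocalRing.maximalIdeal (X.presheaf.stalk x)

theorem stalkTensorEquiv_etaX (A D : X.Modules) (x : X) (z0 : St (toPM A ⊗ toPM D) x) :
    stalkTensorEquiv A D x (sm (etaX (toPM A ⊗ toPM D)) x z0) = α (toPM A) (toPM D) x z0 := by
  have h : (LinearEquiv.ofBijective (smₗ (etaX (toPM A ⊗ toPM D)) x) (sm_etaX_bijective _ x)).symm
      (sm (etaX (toPM A ⊗ toPM D)) x z0) = z0 := by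
    apply (LinearEquiv.ofBijective (smₗ (etaX (toPM A ⊗ toPM D)) x) (sm_etaX_bijective _ x)).injective
    rw [LinearEquiv.apply_symm_apply]
    rfl
  change αLin (toPM A) (toPM D) x ((LinearEquiv.ofBijective (smₗ (etaX (toPM A ⊗ toPM D)) x)
    (sm_etaX_bijective _ x)).symm (sm (etaX (toPM A ⊗ toPM D)) x z0)) = _
  rw [h]
  rfl

/-- naturality of the stalk of a tensor product in the first variable -/
theorem stalkTensorEquiv_tmapR {A A' : X.Modules} (φ : A ⟶ A') (D : X.Modules) (x : X)
    (z : (CohB1.tensorMod A D).presheaf.stalk x) :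
    stalkTensorEquiv A' D x (stalkL (tmapR φ D) x z) =
      LinearMap.rTensor _ (stalkL φ x) (stalkTensorEquiv A D x z) := by
  obtain ⟨z0, rfl⟩ := (sm_etaX_bijective (toPM A ⊗ toPM D) x).2 z
  rw [stalkTensorEquiv_etaX]
  have h1 : stalkL (tmapR φ D) x (sm (etaX (toPM A ⊗ toPM D)) x z0) =
      sm (etaX (toPM A' ⊗ toPM D)) x (sm (toPMMap φ ▷ toPM D) x z0) :=
    (sm_etaX_naturality (toPMMap φ ▷ toPM D) x z0).symm
  rw [h1, stalkTensorEquiv_etaX, α_nat_left]
  rfl

theorem stalkL_tmapR_eq {A A' : X.Modules} (φ : A ⟶ A') (D : X.Modules) (x : X) :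
    stalkL (tmapR φ D) x = ((stalkTensorEquiv A' D x).symm.toLinearMap.comp
      (LinearMap.rTensor _ (stalkL φ x))).comp (stalkTensorEquiv A D x).toLinearMap := by
  ext z
  apply (stalkTensorEquiv A' D x).injective
  rw [stalkTensorEquiv_tmapR]
  simp

theorem intoPow_stalkL_tmapR {A A' : X.Modules} (φ : A ⟶ A') (D : X.Modules) (x : X) (n : ℕ)
    (h : IntoPow (mx x) n (stalkL φ x)) : IntoPow (mx x) n (stalkL (tmapR φ D) x) := by
  rw [stalkL_tmapR_eq]
  exact ((h.rTensor (mx x)).of_equiv_right (mx x) _).of_equiv_left (mx x) _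

theorem bijective_stalkL_tmapR {A A' : X.Modules} (φ : A ⟶ A') (D : X.Modules) (x : X)
    (h : Function.Bijective (stalkL φ x)) : Function.Bijective (stalkL (tmapR φ D) x) := by
  rw [stalkL_tmapR_eq]
  let e := LinearEquiv.ofBijective (stalkL φ x) h
  have h2 : LinearMap.rTensor (↑(D.presheaf.stalk x)) (stalkL φ x) =
      (TensorProduct.congr e (LinearEquiv.refl _ _)).toLinearMap := by
    ext a d
    simp [e]
  rw [h2]
  exact ((stalkTensorEquiv A' D x).symm.bijective.comp
    (TensorProduct.congr e (LinearEquiv.refl _ _)).bijective).comp (stalkTensorEquiv A D x).bijective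

theorem bijective_stalkL_of_isIso {A B : X.Modules} (φ : A ⟶ B) [IsIso φ] (x : X) :
    Function.Bijective (stalkL φ x) := by
  have h1 : (stalkL (inv φ) x).comp (stalkL φ x) = LinearMap.id := by
    rw [← stalkL_comp, IsIso.hom_inv_id, stalkL_id]
  have h2 : (stalkL φ x).comp (stalkL (inv φ) x) = LinearMap.id := by
    rw [← stalkL_comp, IsIso.inv_hom_id, stalkL_id]
  refine ⟨Function.LeftInverse.injective (g := stalkL (inv φ) x) (fun a => ?_),
    Function.RightInverse.surjective (g := stalkL (inv φ) x) (fun a => ?_)⟩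
  · exact congrArg (fun f => f a) h1
  · exact congrArg (fun f => f a) h2

open Groth.Agent.Lib.Helper23.Extend Groth.Agent.Lib.Helper23.GenLocus in
theorem bijective_stalkL_of_mem_genLocus (P : X.Modules) (s : Coh.structureModule X ⟶ P) (x : X)
    (hx : x ∈ CohB1.genLocus P s) : Function.Bijective (stalkL s x) := by
  obtain ⟨V, hxV, hV⟩ := (mem_genLocus_iff P s x).1 hx
  have hbij : ∀ W : X.Opens, W ≤ V → Function.Bijective (s.app W) := fun W hW => by
    haveI := hV W hW
    exact ConcreteCategory.bijective_of_isIso (s.app W)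
  constructor
  · rw [injective_iff_map_eq_zero]
    intro a ha
    obtain ⟨W, hxW, m, rfl⟩ := (Coh.structureModule X).presheaf.exists_germ_eq a
    -- shrink to `W ⊓ V`
    have hxWV : x ∈ W ⊓ V := ⟨hxW, hxV⟩
    rw [← (Coh.structureModule X).presheaf.germ_res_apply (homOfLE (inf_le_left : W ⊓ V ≤ W)) x hxWV m] at ha ⊢
    set m' := (Coh.structureModule X).presheaf.map (homOfLE (inf_le_left : W ⊓ V ≤ W)).op m with hm'
    rw [stalkL_germ] at ha
    have hg : P.presheaf.germ (W ⊓ V) x hxWV (s.app (W ⊓ V) m') = P.presheaf.germ (W ⊓ V) x hxWV 0 := by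
      rw [ha, map_zero]
    obtain ⟨W', hxW', i1, _, e⟩ := P.presheaf.germ_eq x hxWV hxWV _ _ hg
    rw [map_zero] at e
    have e' : s.app W' ((Coh.structureModule X).presheaf.map i1.op m') = 0 := by
      rw [← e]
      exact congr($((Scheme.Modules.Hom.mapPresheaf s).naturality i1.op) m')
    have h0 : (Coh.structureModule X).presheaf.map i1.op m' = 0 := by
      apply (hbij W' ((leOfHom i1).trans inf_le_right)).1
      rw [e', map_zero]
    rw [← (Coh.structureModule X).presheaf.germ_res_apply i1 x hxW' m', h0, map_zero]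
  · intro b
    obtain ⟨W, hxW, n, rfl⟩ := P.presheaf.exists_germ_eq b
    have hxWV : x ∈ W ⊓ V := ⟨hxW, hxV⟩
    obtain ⟨m, hm⟩ := (hbij (W ⊓ V) inf_le_right).2
      (P.presheaf.map (homOfLE (inf_le_left : W ⊓ V ≤ W)).op n)
    refine ⟨(Coh.structureModule X).presheaf.germ (W ⊓ V) x hxWV m, ?_⟩
    rw [stalkL_germ, hm, P.presheaf.germ_res_apply (homOfLE (inf_le_left : W ⊓ V ≤ W)) x hxWV n]

theorem intoPow_stalkL_of_notMem_genLocus (P : X.Modules) (hP : PicF.IsInvertible P)
    (s : Coh.structureModule X ⟶ P) (x : X) (hx : x ∉ CohB1.genLocus P s) :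
    IntoPow (mx x) 1 (stalkL s x) := by
  obtain ⟨g, hg⟩ := Groth.Agent.Lib.Helper20.RegMero.exists_isGen P hP x
  by_contra hcon
  apply hx
  apply Groth.Agent.Lib.Helper4.P1CritF.mem_genLocus_of_stalkL_surjective P hP s x
  unfold IntoPow at hcon
  push Not at hcon
  obtain ⟨a, ha⟩ := hcon
  obtain ⟨c, hc⟩ := hg.2 (stalkL s x a)
  have hc' : c • g = stalkL s x a := hc
  have hcu : IsUnit c := by
    by_contra hnu
    apply ha
    rw [← hc', pow_one]
    exact Submodule.smul_mem_smul ((IsLocalRing.mem_maximalIdeal c).2 hnu) trivial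
  obtain ⟨c', rfl⟩ := hcu
  intro b
  obtain ⟨r, hr⟩ := hg.2 b
  have hr' : r • g = b := hr
  refine ⟨(r * ((c'⁻¹ : (X.presheaf.stalk x)ˣ) : X.presheaf.stalk x)) • a, ?_⟩
  rw [map_smul, ← hc', ← hr', smul_smul, mul_assoc, Units.inv_mul, mul_one]

open Groth.Agent.Lib.Helper23.AmpleFam2 Groth.Agent.Lib.Helper23.LocGen Groth.Agent.Lib.Helper23.AmpleIso
  Groth.Agent.Lib.Helper23.TensorUnit

/-- multiplication by the section `s` of `P`: `B ⟶ P ⊗ B` -/
noncomputable def mulSec (B P : X.Modules) (s : Coh.structureModule X ⟶ P) : B ⟶ CohB1.tensorMod P B :=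
  (unitTensorIso B).inv ≫ tmapR s B

/-- `(P ⊗ B) ⊗ D ≅ B` when `P ⊗ D ≅ O` -/
noncomputable def untwIso (B P D : X.Modules) (e : CohB1.tensorMod P D ≅ Coh.structureModule X) :
    CohB1.tensorMod (CohB1.tensorMod P B) D ≅ B :=
  tensorModIso (tensorBraid P B) (Iso.refl D) ≪≫ tensorAssoc B P D ≪≫ tensorModIso (Iso.refl B) e ≪≫
    tensorUnitIso B

/-- the morphism `B ⊗ D ⟶ B` induced by a section `s` of an inverse `P` of `D` -/
noncomputable def mu (B P D : X.Modules) (s : Coh.structureModule X ⟶ P)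
    (e : CohB1.tensorMod P D ≅ Coh.structureModule X) : CohB1.tensorMod B D ⟶ B :=
  tmapR (mulSec B P s) D ≫ (untwIso B P D e).hom

theorem bijective_stalkL_comp {A B C : X.Modules} (φ : A ⟶ B) (ψ : B ⟶ C) (x : X)
    (h1 : Function.Bijective (stalkL φ x)) (h2 : Function.Bijective (stalkL ψ x)) :
    Function.Bijective (stalkL (φ ≫ ψ) x) := by
  have h : ⇑(stalkL (φ ≫ ψ) x) = ⇑(stalkL ψ x) ∘ ⇑(stalkL φ x) := by
    funext a
    exact stalkL_comp_apply φ ψ x a
  rw [h]
  exact h2.comp h1

theorem bijective_stalkL_mulSec (B P : X.Modules) (s : Coh.structureModule X ⟶ P)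
    (x : X) (hx : x ∈ CohB1.genLocus P s) : Function.Bijective (stalkL (mulSec B P s) x) :=
  bijective_stalkL_comp _ _ x (bijective_stalkL_of_isIso _ x)
    (bijective_stalkL_tmapR s B x (bijective_stalkL_of_mem_genLocus P s x hx))

theorem bijective_stalkL_mu (B P D : X.Modules) (s : Coh.structureModule X ⟶ P)
    (e : CohB1.tensorMod P D ≅ Coh.structureModule X) (x : X) (hx : x ∈ CohB1.genLocus P s) :
    Function.Bijective (stalkL (mu B P D s e) x) :=
  bijective_stalkL_comp _ _ x (bijective_stalkL_tmapR _ D x (bijective_stalkL_mulSec B P s x hx))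
    (bijective_stalkL_of_isIso _ x)

theorem intoPow_stalkL_mulSec (B P : X.Modules) (hP : PicF.IsInvertible P) (s : Coh.structureModule X ⟶ P)
    (x : X) (hx : x ∉ CohB1.genLocus P s) : IntoPow (mx x) 1 (stalkL (mulSec B P s) x) := by
  unfold mulSec
  rw [stalkL_comp]
  exact IntoPow.of_equiv_left (mx x)
    (intoPow_stalkL_tmapR s B x 1 (intoPow_stalkL_of_notMem_genLocus P hP s x hx)) _

theorem intoPow_stalkL_mu (B P D : X.Modules) (hP : PicF.IsInvertible P) (s : Coh.structureModule X ⟶ P)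
    (e : CohB1.tensorMod P D ≅ Coh.structureModule X) (x : X) (hx : x ∉ CohB1.genLocus P s) :
    IntoPow (mx x) 1 (stalkL (mu B P D s e) x) := by
  unfold mu
  rw [stalkL_comp]
  exact IntoPow.of_equiv_right (mx x) (intoPow_stalkL_tmapR _ D x 1 (intoPow_stalkL_mulSec B P hP s x hx)) _

/-- the tower `B_0 = A`, `B_{i+1} = B_i ⊗ D` -/
noncomputable def tower (A D : X.Modules) : ℕ → X.Modules
  | 0 => A
  | i + 1 => CohB1.tensorMod (tower A D i) D

/-- the composite `B_{i+j} ⟶ B_i` -/
noncomputable def muN (A P D : X.Modules) (s : Coh.structureModule X ⟶ P)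
    (e : CohB1.tensorMod P D ≅ Coh.structureModule X) (i : ℕ) : (j : ℕ) → (tower A D (i + j) ⟶ tower A D i)
  | 0 => 𝟙 _
  | j + 1 => mu (tower A D (i + j)) P D s e ≫ muN A P D s e i j

theorem intoPow_stalkL_muN (A P D : X.Modules) (hP : PicF.IsInvertible P) (s : Coh.structureModule X ⟶ P)
    (e : CohB1.tensorMod P D ≅ Coh.structureModule X) (x : X) (hx : x ∉ CohB1.genLocus P s) (i : ℕ) :
    ∀ j, IntoPow (mx x) j (stalkL (muN A P D s e i j) x) := by
  intro j
  induction j with
  | zero =>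
    intro a
    rw [pow_zero, Ideal.one_eq_top, Submodule.top_smul]
    trivial
  | succ j ih =>
    change IntoPow (mx x) (j + 1) (stalkL (mu (tower A D (i + j)) P D s e ≫ muN A P D s e i j) x)
    rw [stalkL_comp]
    have := (intoPow_stalkL_mu (tower A D (i + j)) P D hP s e x hx).comp (mx x) ih
    rwa [Nat.add_comm 1 j] at this

end Groth.Agent.Lib.Helper4.NegTwist
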