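import Groth.Agent.Lib.Helper4NegTwistA
set_option autoImplicit false
set_option linter.style.haveILetI false
set_option backward.isDefEq.respectTransparency.types false
universe u
open CategoryTheory CategoryTheory.Limits AlgebraicGeometry TopologicalSpace Opposite TensorProduct MonoidalCategory

namespace Groth.Agent.Lib.Helper4.NegTwist

open Groth.Agent.Lib.Helper4.Dev Groth.Agent.Lib.Helper1.StalkTensor Groth.Agent.Lib.Helper4.KTensor
  Groth.Agent.Lib.Helper23.ResProp

/-- a point whose closure lies in an affine open of a proper `k`-scheme is closed -/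
theorem isClosed_singleton_of_closure_subset_affine (k : Type u) [Field k] (X : Scheme.{u})
    [X.Over (Spec (CommRingCat.of k))] [IsProper (X ↘ (Spec (CommRingCat.of k)))]
    (U : X.Opens) (hU : IsAffineOpen U) (y : X) (hy : closure {y} ⊆ (U : Set X)) :
    IsClosed ({y} : Set X) := by
  let Z : Closeds X := ⟨closure {y}, isClosed_closure⟩
  let I := Scheme.IdealSheafData.vanishingIdeal Z
  have hr : Set.range I.subschemeι = closure {y} := by
    rw [Scheme.IdealSheafData.range_subschemeι, Scheme.IdealSheafData.coe_support_vanishingIdeal]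
    rfl
  have hsub : Set.range I.subschemeι ⊆ Set.range U.ι := by
    rw [hr, Scheme.Opens.range_ι]
    exact hy
  let j : I.subscheme ⟶ (U : Scheme.{u}) := IsOpenImmersion.lift U.ι I.subschemeι hsub
  have hj : j ≫ U.ι = I.subschemeι := IsOpenImmersion.lift_fac _ _ _
  haveI : IsClosedImmersion (j ≫ U.ι) := by rw [hj]; infer_instance
  haveI : IsClosedImmersion j := IsClosedImmersion.of_comp j U.ι
  haveI : IsAffine (U : Scheme.{u}) := hU
  haveI : IsAffine I.subscheme := isAffine_of_isAffineHom j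
  have hdim := Groth.Agent.Lib.Helper4.CurveAsym.dim_le_zero_of_isAffine_of_isProper k I.subscheme
    (I.subschemeι ≫ (X ↘ (Spec (CommRingCat.of k))))
  obtain ⟨y', hy'⟩ : y ∈ Set.range I.subschemeι := by
    rw [hr]; exact subset_closure rfl
  have hdim' : topologicalKrullDim (Set.univ : Set I.subscheme) ≤ 0 := by
    rw [IsHomeomorph.topologicalKrullDim_eq _ (Homeomorph.Set.univ I.subscheme).isHomeomorph]
    exact hdim
  have hcl : IsClosed ({y'} : Set I.subscheme) :=
    Groth.Agent.Lib.Helper4.ZeroDimGG.isClosed_singleton_of_dim_le_zero Set.univ isClosed_univ hdim' y' trivial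
  have := I.subschemeι.isClosedEmbedding.isClosedMap _ hcl
  rwa [Set.image_singleton, hy'] at this


section Tower
variable {X : Scheme.{u}}

open Groth.Agent.Lib.Helper12.Snap Groth.Agent.Lib.Helper23.AmpleFam2

theorem isCoh_tower (A D : X.Modules) (hA : Coh.IsCoh A) (hD : PicF.IsInvertible D) :
    ∀ i, Coh.IsCoh (tower A D i)
  | 0 => hA
  | i + 1 => isCoh_of_iso (tensorBraid D (tower A D i))
      (isCoh_invertible_tensor D _ hD (isCoh_tower A D hA hD i))

theorem isAssPoint_iff_of_iso {A B : X.Modules} (e : A ≅ B) (x : X) :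
    Curv2.IsAssPoint A x ↔ Curv2.IsAssPoint B x :=
  ⟨fun h => isAssPoint_of_mono e.hom x h, fun h => isAssPoint_of_mono e.inv x h⟩

theorem isAssPoint_tower_iff (A D : X.Modules) (hD : PicF.IsInvertible D) (x : X) :
    ∀ i, Curv2.IsAssPoint (tower A D i) x ↔ Curv2.IsAssPoint A x
  | 0 => Iff.rfl
  | i + 1 => ((isAssPoint_iff_of_iso (tensorBraid (tower A D i) D) x).trans
      (isAssPoint_tensor_invertible_iff D _ hD x)).trans (isAssPoint_tower_iff A D hD x i)

/-- a morphism from a quasi-coherent module which is injective on the stalks at the associated points is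
injective on global sections -/
theorem app_top_injective_of_stalk {B' B : X.Modules} [B'.IsQuasicoherent] (φ : B' ⟶ B)
    (h : ∀ y, Curv2.IsAssPoint B' y → Function.Injective (stalkL φ y)) :
    Function.Injective (φ.app ⊤) := by
  rw [injective_iff_map_eq_zero]
  intro σ hσ
  by_contra hne
  obtain ⟨y, hy, hass, hgerm⟩ := Groth.Agent.Lib.Helper2.Ass.exists_isWeakAssPoint_of_ne_zero_open B' ⊤ σ hne
  apply hgerm
  apply h y ((Groth.Agent.Lib.Helper2.Ass.isAssPoint_iff_isWeakAssPoint B' y).2 hass)
  rw [stalkL_germ, hσ, map_zero, map_zero]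

end Tower

section Core

open Groth.Agent.Lib.Helper27PnSections Groth.Agent.Lib.Helper27MinPres

theorem subsingleton_HH_tower (k : Type u) [Field k] (X : Scheme.{u}) [X.Over (Spec (CommRingCat.of k))]
    [IsProper (X ↘ (Spec (CommRingCat.of k)))] (P D : X.Modules) (hP : PicF.IsInvertible P) (hD : PicF.IsInvertible D)
    (e : CohB1.tensorMod P D ≅ Coh.structureModule X) (s : Coh.structureModule X ⟶ P)
    (haff : IsAffineOpen (CohB1.genLocus P s)) (A : X.Modules) (hA : Coh.IsCoh A)
    (hassU : ∀ x, Curv2.IsAssPoint A x → x ∈ CohB1.genLocus P s)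
    (hass : ∀ x : X, IsClosed ({x} : Set X) → ¬ Curv2.IsAssPoint A x) :
    ∃ i₀ : ℕ, ∀ i, i₀ ≤ i → Subsingleton (Coh.HH X (tower A D i) 0) := by
  haveI : IsNoetherian X := Groth.Agent.Lib.Helper4.CurveRR.isNoetherian_of_proper k X
  have hcoh := isCoh_tower A D hA hD
  haveI hfin : ∀ i, Module.Finite k (Coh.HH X (tower A D i) 0) :=
    fun i => Groth.Agent.S0002.result k X _ (hcoh i) 0
  haveI hqc : ∀ i, (tower A D i).IsQuasicoherent := fun i => (hcoh i).1
  have hminj : ∀ i, Function.Injective ((mu (tower A D i) P D s e).app ⊤) := fun i => by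
    haveI : (CohB1.tensorMod (tower A D i) D).IsQuasicoherent := hqc (i + 1)
    apply app_top_injective_of_stalk
    intro y hy
    exact (bijective_stalkL_mu _ P D s e y (hassU y ((isAssPoint_tower_iff A D hD y (i + 1)).1 hy))).1
  have hhinj : ∀ i, Function.Injective (Canon.HHlin k (mu (tower A D i) P D s e) 0) := fun i => by
    rw [injective_iff_map_eq_zero]
    intro y hy
    have h1 := hh0Equiv_HHlin k (mu (tower A D i) P D s e) y
    rw [hy, map_zero] at h1
    have h2 := hminj i (h1.symm.trans (map_zero _).symm)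
    exact (hh0Equiv X _).injective (h2.trans (map_zero _).symm)
  -- dimensions
  let d : ℕ → ℕ := fun i => Module.finrank k (Coh.HH X (tower A D i) 0)
  have hd : ∀ i, d (i + 1) ≤ d i := fun i =>
    LinearMap.finrank_le_finrank_of_injective (hhinj i)
  have hanti : Antitone d := antitone_nat_of_succ_le hd
  obtain ⟨i₀, hi₀⟩ : ∃ i₀, ∀ i, d i₀ ≤ d i := by
    obtain ⟨_, ⟨i₀, rfl⟩, hmin⟩ := WellFounded.has_min Nat.lt_wfRel.wf (Set.range d) ⟨d 0, 0, rfl⟩
    exact ⟨i₀, fun i => not_lt.1 (hmin _ ⟨i, rfl⟩)⟩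
  have hdeq : ∀ i, i₀ ≤ i → d i = d i₀ := fun i hi => le_antisymm (hanti hi) (hi₀ i)
  have hhsurj : ∀ i, i₀ ≤ i → Function.Surjective (Canon.HHlin k (mu (tower A D i) P D s e) 0) := by
    intro i hi
    have heq : Module.finrank k (Coh.HH X (tower A D (i + 1)) 0) = Module.finrank k (Coh.HH X (tower A D i) 0) :=
      (hdeq (i + 1) (by omega)).trans (hdeq i hi).symm
    exact (LinearMap.injective_iff_surjective_of_finrank_eq_finrank heq).1 (hhinj i)
  have hmsurj : ∀ i, i₀ ≤ i → Function.Surjective ((mu (tower A D i) P D s e).app ⊤) := by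
    intro i hi τ
    obtain ⟨y', hy'⟩ := hhsurj i hi ((hh0Equiv X _).symm τ)
    refine ⟨hh0Equiv X _ y', ?_⟩
    rw [← hh0Equiv_HHlin k, hy']
    exact (hh0Equiv X _).apply_symm_apply τ
  refine ⟨i₀, fun i hi => ?_⟩
  -- divisibility
  have hdiv : ∀ j, ∀ σ : Γ(tower A D i, ⊤), ∃ σ' : Γ(tower A D (i + j), ⊤),
      (muN A P D s e i j).app ⊤ σ' = σ := by
    intro j
    induction j with
    | zero => intro σ; exact ⟨σ, rfl⟩
    | succ j ih =>
      intro σ
      obtain ⟨σ', hσ'⟩ := ih σ
      obtain ⟨σ'', hσ''⟩ := hmsurj (i + j) (by omega) σ'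
      refine ⟨σ'', ?_⟩
      change (mu (tower A D (i + j)) P D s e ≫ muN A P D s e i j).app ⊤ σ'' = σ
      rw [Scheme.Modules.Hom.comp_app]
      change (muN A P D s e i j).app ⊤ ((mu (tower A D (i + j)) P D s e).app ⊤ σ'') = σ
      rw [hσ'', hσ']
  -- germs vanish off the generating locus
  have hgerm : ∀ σ : Γ(tower A D i, ⊤), ∀ x (_ : x ∉ CohB1.genLocus P s),
      (tower A D i).presheaf.germ ⊤ x trivial σ = 0 := by
    intro σ x hx
    haveI : Module.Finite (X.presheaf.stalk x) ((tower A D i).presheaf.stalk x) :=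
      Groth.Agent.Lib.Helper28.HomSh.finite_stalk_of_isCoh _ (hcoh i) x
    haveI : IsNoetherianRing (X.presheaf.stalk x) := inferInstance
    have hmem : (tower A D i).presheaf.germ ⊤ x trivial σ ∈
        (⨅ j : ℕ, (mx x) ^ j • ⊤ : Submodule (X.presheaf.stalk x) ((tower A D i).presheaf.stalk x)) := by
      rw [Submodule.mem_iInf]
      intro j
      obtain ⟨σ', rfl⟩ := hdiv j σ
      rw [← stalkL_germ]
      exact intoPow_stalkL_muN A P D hP s e x hx i j _
    rw [Ideal.iInf_pow_smul_eq_bot_of_isLocalRing _ (IsLocalRing.maximalIdeal.isMaximal _).ne_top] at hmem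
    exact (Submodule.mem_bot _).1 hmem
  -- all sections vanish
  have hzero : ∀ σ : Γ(tower A D i, ⊤), σ = 0 := by
    intro σ
    by_contra hne
    obtain ⟨y, hy, hassy, hgy⟩ :=
      Groth.Agent.Lib.Helper2.Ass.exists_isWeakAssPoint_of_ne_zero_open (tower A D i) ⊤ σ hne
    have hassA : Curv2.IsAssPoint A y := (isAssPoint_tower_iff A D hD y i).1
      ((Groth.Agent.Lib.Helper2.Ass.isAssPoint_iff_isWeakAssPoint _ y).2 hassy)
    refine hass y ?_ hassA
    apply isClosed_singleton_of_closure_subset_affine k X _ haff y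
    intro z hz
    by_contra hzU
    have h0 := hgerm σ z hzU
    have h0' : (tower A D i).presheaf.germ ⊤ z trivial σ = (tower A D i).presheaf.germ ⊤ z trivial 0 := by
      rw [h0, map_zero]
    obtain ⟨W, hzW, i1, _, eq⟩ := (tower A D i).presheaf.germ_eq z (U := ⊤) (V := ⊤) trivial trivial _ _ h0'
    have hyW : y ∈ W := (specializes_iff_mem_closure.2 hz).mem_open W.2 hzW
    apply hgy
    rw [← (tower A D i).presheaf.germ_res_apply i1 y hyW σ, eq, map_zero, map_zero]
  exact ⟨fun a b => (hh0Equiv X _).injective ((hzero _).trans (hzero _).symm)⟩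

end Core

end Groth.Agent.Lib.Helper4.NegTwist
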