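import Groth.Agent.Lib.Helper4NegTwistB
import Groth.Agent.Lib.Helper2TensorInv
set_option autoImplicit false
set_option linter.style.haveILetI false
set_option backward.isDefEq.respectTransparency.types false
universe u
open CategoryTheory CategoryTheory.Limits AlgebraicGeometry TopologicalSpace Opposite TensorProduct MonoidalCategory

namespace Groth.Agent.Lib.Helper4.NegTwist

open Groth.Agent.Lib.Helper4.Dev Groth.Agent.Lib.Helper23.AmpleFam2 Groth.Agent.Lib.Helper23.LocGen
  Groth.Agent.Lib.Helper23.AmpleIso Groth.Agent.Lib.Helper23.TensorUnit Groth.Agent.Lib.Helper23.SecTw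
  Groth.Agent.Lib.Helper12.Snap

variable {X : Scheme.{u}}

/-- `tower (F ⊗ M^r) (M^m) i ≅ F ⊗ M^(r + i m)` -/
theorem nonempty_tower_iso (F M : X.Modules) (hM : PicF.IsInvertible M) (r m : ℕ) :
    ∀ i, Nonempty (tower (CohB1.tensorMod F (CohB1.tensorPow M r)) (CohB1.tensorPow M m) i ≅
      CohB1.tensorMod F (CohB1.tensorPow M (r + i * m)))
  | 0 => ⟨eqToIso (by simp [tower])⟩
  | i + 1 => by
    obtain ⟨ih⟩ := nonempty_tower_iso F M hM r m i
    obtain ⟨ea⟩ := Groth.Agent.Lib.Helper27AmpleSerre.nonempty_tensorPow_add_iso M hM (r + i * m) m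
      (r + (i + 1) * m) (by ring)
    exact ⟨tensorModIso ih (Iso.refl _) ≪≫ tensorAssoc F _ _ ≪≫ tensorModIso (Iso.refl F) ea⟩


/-- **Stacks 0FD7**: on a proper `k`-scheme with an ample `L`, a coherent module without closed
associated points has no sections after a sufficiently negative twist. -/
theorem main (k : Type u) [Field k] (X : Scheme.{u}) [X.Over (Spec (CommRingCat.of k))]
    [IsProper (X ↘ (Spec (CommRingCat.of k)))]
    (L : X.Modules) (hL : CohB1.IsAmple L) (M : X.Modules) (hM : ClSub.IsInverseOf L M)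
    (F : X.Modules) (hF : Coh.IsCoh F)
    (hass : ∀ x : X, IsClosed ({x} : Set X) → ¬ Curv2.IsAssPoint F x) :
    ∃ n₀ : ℕ, ∀ n : ℕ, n₀ ≤ n →
      Subsingleton (Coh.HH X (CohB1.tensorMod F (CohB1.tensorPow M n)) 0) := by
  haveI : IsNoetherian X := Groth.Agent.Lib.Helper4.CurveRR.isNoetherian_of_proper k X
  obtain ⟨e₀⟩ := hM
  have hMinv : PicF.IsInvertible M :=
    Groth.Agent.Lib.Helper2.TensorInv.isInvertible_of_tensor_iso M L (tensorBraid M L ≪≫ e₀)
  -- the section
  have hZfin : {x : X | Curv2.IsAssPoint F x}.Finite := by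
    have := Groth.Agent.S1576.result X F hF ⊤ (by simpa using isCompact_univ)
    refine this.subset (fun x hx => ⟨trivial, hx⟩)
  obtain ⟨m, hmpos, s, hZs, haff⟩ : ∃ m : ℕ, 0 < m ∧ ∃ s : Coh.structureModule X ⟶ CohB1.tensorPow L m,
      {x : X | Curv2.IsAssPoint F x} ⊆ CohB1.genLocus _ s ∧ IsAffineOpen (CohB1.genLocus _ s) := by
    obtain ⟨n₁, s, hZs, -, haff⟩ := exists_affine_genLocus_of_finite L hL _ hZfin ⊤ (fun _ _ => trivial)
    exact ⟨n₁ + 1, Nat.succ_pos _, s, hZs, haff⟩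
  have hP : PicF.IsInvertible (CohB1.tensorPow L m) := isInvertible_tensorPow hL.1 m
  have hD : PicF.IsInvertible (CohB1.tensorPow M m) := isInvertible_tensorPow hMinv m
  obtain ⟨e₁⟩ := nonempty_tensorPow_tensorMod_iso L M hL.1 hMinv m
  let e : CohB1.tensorMod (CohB1.tensorPow L m) (CohB1.tensorPow M m) ≅ Coh.structureModule X :=
    e₁ ≪≫ tensorPowIso e₀ m ≪≫ tensorPowUnitIso m
  -- the residues
  have hA : ∀ r : ℕ, Coh.IsCoh (CohB1.tensorMod F (CohB1.tensorPow M r)) := fun r =>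
    isCoh_of_iso (tensorBraid (CohB1.tensorPow M r) F)
      (isCoh_invertible_tensor _ F (isInvertible_tensorPow hMinv r) hF)
  have hAss : ∀ (r : ℕ) (x : X), Curv2.IsAssPoint (CohB1.tensorMod F (CohB1.tensorPow M r)) x ↔
      Curv2.IsAssPoint F x := fun r x =>
    (isAssPoint_iff_of_iso (tensorBraid F (CohB1.tensorPow M r)) x).trans
      (isAssPoint_tensor_invertible_iff _ F (isInvertible_tensorPow hMinv r) x)
  have hkey : ∀ r : ℕ, ∃ i₀ : ℕ, ∀ i, i₀ ≤ i → Subsingleton (Coh.HH X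
      (tower (CohB1.tensorMod F (CohB1.tensorPow M r)) (CohB1.tensorPow M m) i) 0) := fun r =>
    subsingleton_HH_tower k X (CohB1.tensorPow L m) (CohB1.tensorPow M m) hP hD e s haff _ (hA r)
      (fun x hx => hZs ((hAss r x).1 hx)) (fun x hcl hx => hass x hcl ((hAss r x).1 hx))
  choose i₀ hi₀ using hkey
  refine ⟨m * (Finset.range m).sup i₀, fun n hn => ?_⟩
  have hr : n % m < m := Nat.mod_lt n hmpos
  have hi : i₀ (n % m) ≤ n / m := by
    have h1 : i₀ (n % m) ≤ (Finset.range m).sup i₀ := Finset.le_sup (Finset.mem_range.2 hr)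
    have h2 : (Finset.range m).sup i₀ ≤ n / m := (Nat.le_div_iff_mul_le hmpos).2 (by rw [mul_comm]; exact hn)
    exact h1.trans h2
  obtain ⟨Φ⟩ := nonempty_tower_iso F M hMinv (n % m) m (n / m)
  have hn' : n % m + n / m * m = n := by rw [mul_comm]; exact Nat.mod_add_div n m
  rw [hn'] at Φ
  exact Groth.Agent.Lib.Helper27SerreVan.subsingleton_HH_of_iso Φ.symm 0 (hi₀ (n % m) (n / m) hi)

end Groth.Agent.Lib.Helper4.NegTwist
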