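import Groth.Agent.Lib.Helper4NegTwistD

/-!
# `h⁰(F ⊗ D) < h⁰(F)` for `F` without closed associated points (helper4; S5638, S5639)

`X` proper over a field, `D` an inverse of `P`, `s`, `s₂` sections of `P`, the generating locus of `s` affine,
`F` coherent without closed associated points, `Ass(F) ⊆ X_s` and `Ass(F / s F ⊗ D) ⊆ X_{s₂}`.  Then
`H⁰(F) ≠ 0 → h⁰(F ⊗ D) + 1 ≤ h⁰(F)` (`strict_drop`).
-/

set_option autoImplicit false
set_option linter.style.haveILetI false
set_option backward.isDefEq.respectTransparency.types false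
universe u
open CategoryTheory CategoryTheory.Limits AlgebraicGeometry TopologicalSpace Opposite TensorProduct MonoidalCategory

namespace Groth.Agent.Lib.Helper4.NegTwist

open Groth.Agent.Lib.Helper4.Dev Groth.Agent.Lib.Helper1.StalkTensor Groth.Agent.Lib.Helper4.KTensor
  Groth.Agent.Lib.Helper23.ResProp
open Groth.Agent.Lib.Helper21.ModTensor3 Groth.Agent.Lib.Helper21.ModTensor5

section Maps

variable {X : Scheme.{u}} (P D : X.Modules) (s : Coh.structureModule X ⟶ P)
  (e : CohB1.tensorMod P D ≅ Coh.structureModule X) (F : X.Modules)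

/-- the twisted multiplications `a_i : F ⊗ D^{i+1} ⟶ F ⊗ D^i` -/
noncomputable def aMap : ∀ i, tower F D (i + 1) ⟶ tower F D i
  | 0 => nuApp P D s e F
  | i + 1 => tmapR (aMap i) D

/-- `C₀ = F / s (F ⊗ D)` -/
noncomputable def C0 : X.Modules := cokernel (nuApp P D s e F)

/-- the twisted projections `F ⊗ D^i ⟶ C₀ ⊗ D^i` -/
noncomputable def piMap : ∀ i, tower F D i ⟶ tower (C0 P D s e F) D i
  | 0 => cokernel.π (nuApp P D s e F)
  | i + 1 => tmapR (piMap i) D

theorem tmapR_zero (A B D : X.Modules) : tmapR (0 : A ⟶ B) D = 0 :=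
  (tR X.sheaf D).map_zero (A : ModSite.Mod X.sheaf) (B : ModSite.Mod X.sheaf)

theorem aMap_piMap : ∀ i, aMap P D s e F i ≫ piMap P D s e F i = 0
  | 0 => cokernel.condition _
  | i + 1 => by
    change tmapR (aMap P D s e F i) D ≫ tmapR (piMap P D s e F i) D = 0
    rw [← tmapR_comp, aMap_piMap i, tmapR_zero]

/-- the sequences `0 ⟶ F ⊗ D^{i+1} ⟶ F ⊗ D^i ⟶ C₀ ⊗ D^i ⟶ 0` -/
noncomputable def ses (i : ℕ) : ShortComplex X.Modules :=
  ShortComplex.mk (aMap P D s e F i) (piMap P D s e F i) (aMap_piMap P D s e F i)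

theorem ses_succ (i : ℕ) :
    ses P D s e F (i + 1) = (ses P D s e F i).map (Groth.Agent.Lib.Helper27SerreVan.tw D) :=
  rfl

theorem ses_shortExact (hD : PicF.IsInvertible D) [Mono (nuApp P D s e F)] :
    ∀ i, (ses P D s e F i).ShortExact
  | 0 => sesOfMono_shortExact (nuApp P D s e F)
  | i + 1 => by
    rw [ses_succ]
    exact Groth.Agent.Lib.Helper27SerreVan.shortExact_tw D hD (ses P D s e F i) (ses_shortExact hD i)

/-- the composites `F ⊗ D^j ⟶ F` -/
noncomputable def aN : ∀ j, tower F D j ⟶ F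
  | 0 => 𝟙 _
  | j + 1 => aMap P D s e F j ≫ aN j

theorem intoPow_stalkL_aMap (hP : PicF.IsInvertible P) (x : X) (hx : x ∉ CohB1.genLocus P s) :
    ∀ i, IntoPow (mx x) 1 (stalkL (aMap P D s e F i) x)
  | 0 => intoPow_stalkL_nuApp P D hP s e F x hx
  | i + 1 => intoPow_stalkL_tmapR _ D x 1 (intoPow_stalkL_aMap hP x hx i)

theorem intoPow_stalkL_aN (hP : PicF.IsInvertible P) (x : X) (hx : x ∉ CohB1.genLocus P s) :
    ∀ j, IntoPow (mx x) j (stalkL (aN P D s e F j) x) := by
  intro j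
  induction j with
  | zero =>
    intro a
    rw [pow_zero, Ideal.one_eq_top, Submodule.top_smul]
    trivial
  | succ j ih =>
    change IntoPow (mx x) (j + 1) (stalkL (aMap P D s e F j ≫ aN P D s e F j) x)
    rw [stalkL_comp]
    have := (intoPow_stalkL_aMap P D s e F hP x hx j).comp (mx x) ih
    rwa [Nat.add_comm 1 j] at this

end Maps

section Inj

variable {X : Scheme.{u}}

/-- a morphism from a quasi-coherent module which is injective on the stalks at the associated points is a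
monomorphism -/
theorem mono_of_stalk {B' B : X.Modules} [B'.IsQuasicoherent] (φ : B' ⟶ B)
    (h : ∀ y, Curv2.IsAssPoint B' y → Function.Injective (stalkL φ y)) : Mono φ := by
  apply Groth.Agent.Lib.Helper4.Dev.mono_of_injective_app
  intro U
  rw [injective_iff_map_eq_zero]
  intro σ hσ
  by_contra hne
  obtain ⟨y, hy, hass, hgerm⟩ := Groth.Agent.Lib.Helper2.Ass.exists_isWeakAssPoint_of_ne_zero_open B' U σ hne
  apply hgerm
  apply h y ((Groth.Agent.Lib.Helper2.Ass.isAssPoint_iff_isWeakAssPoint B' y).2 hass)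
  rw [stalkL_germ, hσ, map_zero, map_zero]

end Inj

section Core

open Groth.Agent.Lib.Helper27PnSections Groth.Agent.Lib.Helper27MinPres

/-- left exactness of global sections -/
theorem exact_app_top (k : Type u) [Field k] (X : Scheme.{u}) [X.Over (Spec (CommRingCat.of k))]
    (S : ShortComplex X.Modules) (hS : S.ShortExact) (t : Γ(S.X₂, ⊤)) (ht : S.g.app ⊤ t = 0) :
    ∃ u : Γ(S.X₁, ⊤), S.f.app ⊤ u = t := by
  have hker : (hh0Equiv X S.X₂).symm t ∈ LinearMap.ker (Canon.HHlin k S.g 0) := by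
    rw [LinearMap.mem_ker]
    apply (hh0Equiv X S.X₃).injective
    rw [hh0Equiv_HHlin k, (hh0Equiv X S.X₂).apply_symm_apply, ht]
    exact (map_zero _).symm
  rw [← Groth.Agent.Lib.Helper6.Euler.range_f_eq_ker_g k S hS 0] at hker
  obtain ⟨z, hz⟩ := hker
  refine ⟨hh0Equiv X S.X₁ z, ?_⟩
  rw [← hh0Equiv_HHlin k, hz]
  exact (hh0Equiv X S.X₂).apply_symm_apply t

theorem comp_app_apply {X : Scheme.{u}} {A B C : X.Modules} (φ : A ⟶ B) (ψ : B ⟶ C) (t : Γ(A, ⊤)) :
    (φ ≫ ψ).app ⊤ t = ψ.app ⊤ (φ.app ⊤ t) := by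
  rw [Scheme.Modules.Hom.comp_app]; rfl

/-- propagation of surjectivity on global sections along a second multiplication -/
theorem propagate {X : Scheme.{u}} {T₂ T₁ T₀ C₁ C₀ : X.Modules} (a₁ : T₂ ⟶ T₁) (π₁ : T₁ ⟶ C₁)
    (a₀ : T₁ ⟶ T₀) (π₀ : T₀ ⟶ C₀) (b : T₁ ⟶ T₀) (bC : C₁ ⟶ C₀) (w₀ : a₀ ≫ π₀ = 0)
    (hex : ∀ t : Γ(T₁, ⊤), π₁.app ⊤ t = 0 → ∃ u : Γ(T₂, ⊤), a₁.app ⊤ u = t)
    (hcomm : π₁ ≫ bC = b ≫ π₀) (hinj : Function.Injective (bC.app ⊤))
    (hsurj : Function.Surjective (a₀.app ⊤)) : Function.Surjective (a₁.app ⊤) := by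
  intro t
  apply hex t
  refine hinj (Eq.trans ?_ (map_zero _).symm)
  obtain ⟨u, hu⟩ := hsurj (b.app ⊤ t)
  calc bC.app ⊤ (π₁.app ⊤ t) = (π₁ ≫ bC).app ⊤ t := (comp_app_apply π₁ bC t).symm
    _ = (b ≫ π₀).app ⊤ t := by rw [hcomm]
    _ = π₀.app ⊤ (b.app ⊤ t) := comp_app_apply b π₀ t
    _ = π₀.app ⊤ (a₀.app ⊤ u) := by rw [hu]
    _ = (a₀ ≫ π₀).app ⊤ u := (comp_app_apply a₀ π₀ u).symm
    _ = 0 := by rw [w₀]; rfl

/-- sections which are divisible to all orders off an affine open vanish, if there are no closed associated points -/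
theorem vanish_of_divisible (k : Type u) [Field k] (X : Scheme.{u}) [X.Over (Spec (CommRingCat.of k))]
    [IsProper (X ↘ (Spec (CommRingCat.of k)))] (U : X.Opens) (haff : IsAffineOpen U)
    (F : X.Modules) (hF : Coh.IsCoh F)
    (hass : ∀ x : X, IsClosed ({x} : Set X) → ¬ Curv2.IsAssPoint F x)
    (hdiv : ∀ (j : ℕ) (σ : Γ(F, ⊤)), ∃ (T : X.Modules) (g : T ⟶ F) (σ' : Γ(T, ⊤)), g.app ⊤ σ' = σ ∧
      ∀ x, x ∉ U → IntoPow (mx x) j (stalkL g x)) :
    ∀ σ : Γ(F, ⊤), σ = 0 := by
  haveI : IsNoetherian X := Groth.Agent.Lib.Helper4.CurveRR.isNoetherian_of_proper k X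
  -- germs vanish off `U`
  have hgerm : ∀ σ : Γ(F, ⊤), ∀ x (_ : x ∉ U), F.presheaf.germ ⊤ x trivial σ = 0 := by
    intro σ x hx
    haveI : Module.Finite (X.presheaf.stalk x) (F.presheaf.stalk x) :=
      Groth.Agent.Lib.Helper28.HomSh.finite_stalk_of_isCoh _ hF x
    haveI : IsNoetherianRing (X.presheaf.stalk x) := inferInstance
    have hmem : F.presheaf.germ ⊤ x trivial σ ∈
        (⨅ j : ℕ, (mx x) ^ j • ⊤ : Submodule (X.presheaf.stalk x) (F.presheaf.stalk x)) := by
      rw [Submodule.mem_iInf]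
      intro j
      obtain ⟨T, g, σ', rfl, hg⟩ := hdiv j σ
      rw [← stalkL_germ]
      exact hg x hx _
    rw [Ideal.iInf_pow_smul_eq_bot_of_isLocalRing _ (IsLocalRing.maximalIdeal.isMaximal _).ne_top] at hmem
    exact (Submodule.mem_bot _).1 hmem
  intro σ
  by_contra hne
  haveI : F.IsQuasicoherent := hF.1
  obtain ⟨y, hy, hassy, hgy⟩ :=
    Groth.Agent.Lib.Helper2.Ass.exists_isWeakAssPoint_of_ne_zero_open F ⊤ σ hne
  have hassA : Curv2.IsAssPoint F y :=
    (Groth.Agent.Lib.Helper2.Ass.isAssPoint_iff_isWeakAssPoint _ y).2 hassy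
  refine hass y ?_ hassA
  apply isClosed_singleton_of_closure_subset_affine k X _ haff y
  intro z hz
  by_contra hzU
  have h0 := hgerm σ z hzU
  have h0' : F.presheaf.germ ⊤ z trivial σ = F.presheaf.germ ⊤ z trivial 0 := by
    rw [h0, map_zero]
  obtain ⟨W, hzW, i1, _, eq⟩ := F.presheaf.germ_eq z (U := ⊤) (V := ⊤) trivial trivial _ _ h0'
  have hyW : y ∈ W := (specializes_iff_mem_closure.2 hz).mem_open W.2 hzW
  apply hgy
  rw [← F.presheaf.germ_res_apply i1 y hyW σ, eq, map_zero, map_zero]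

section Drop

variable (k : Type u) [Field k] (X : Scheme.{u}) [X.Over (Spec (CommRingCat.of k))]
  [IsProper (X ↘ (Spec (CommRingCat.of k)))] (P D : X.Modules) (hP : PicF.IsInvertible P)
  (hD : PicF.IsInvertible D) (e : CohB1.tensorMod P D ≅ Coh.structureModule X)
  (s s₂ : Coh.structureModule X ⟶ P) (F : X.Modules) (hF : Coh.IsCoh F)

include hD hF in
theorem mono_nuApp (h1 : ∀ x, Curv2.IsAssPoint F x → x ∈ CohB1.genLocus P s) :
    Mono (nuApp P D s e F) := by
  have hcoh := isCoh_tower F D hF hD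
  haveI : (CohB1.tensorMod F D).IsQuasicoherent := (hcoh 1).1
  apply mono_of_stalk
  intro y hy
  exact (bijective_stalkL_nuApp P D s e F y (h1 y ((isAssPoint_tower_iff F D hD y 1).1 hy))).1

include k hD hF in
theorem surjective_aMap_succ [IsNoetherian X] [Mono (nuApp P D s e F)]
    (h2 : ∀ x, Curv2.IsAssPoint (C0 P D s e F) x → x ∈ CohB1.genLocus P s₂) (i : ℕ)
    (hsurj : Function.Surjective ((aMap P D s e F i).app ⊤)) :
    Function.Surjective ((aMap P D s e F (i + 1)).app ⊤) := by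
  have hcoh := isCoh_tower F D hF hD
  have hC0 : Coh.IsCoh (C0 P D s e F) := isCoh_cokernel _ (hcoh 1) hF
  have hcohC := isCoh_tower (C0 P D s e F) D hC0 hD
  have hses := ses_shortExact P D s e F hD
  refine propagate (aMap P D s e F (i + 1)) (piMap P D s e F (i + 1)) (aMap P D s e F i) (piMap P D s e F i)
    (nuApp P D s₂ e (tower F D i)) (nuApp P D s₂ e (tower (C0 P D s e F) D i)) (aMap_piMap P D s e F i)
    (fun t ht => exact_app_top k X (ses P D s e F (i + 1)) (hses (i + 1)) t ht)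
    (nuApp_naturality P D s₂ e (piMap P D s e F i)) ?_ hsurj
  haveI : (tower (C0 P D s e F) D (i + 1)).IsQuasicoherent := (hcohC (i + 1)).1
  apply app_top_injective_of_stalk (B' := tower (C0 P D s e F) D (i + 1))
  intro y hy
  exact (bijective_stalkL_nuApp P D s₂ e _ y
    (h2 y ((isAssPoint_tower_iff (C0 P D s e F) D hD y (i + 1)).1 hy))).1

theorem exists_aN_apply (hsurj : ∀ i, Function.Surjective ((aMap P D s e F i).app ⊤)) :
    ∀ (j : ℕ) (σ : Γ(F, ⊤)), ∃ σ' : Γ(tower F D j, ⊤), (aN P D s e F j).app ⊤ σ' = σ := by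
  intro j
  induction j with
  | zero => intro σ; exact ⟨σ, rfl⟩
  | succ j ih =>
    intro σ
    obtain ⟨σ', hσ'⟩ := ih σ
    obtain ⟨σ'', hσ''⟩ := hsurj j σ'
    refine ⟨σ'', ?_⟩
    have h : (aN P D s e F (j + 1)).app ⊤ σ'' =
        (aN P D s e F j).app ⊤ ((aMap P D s e F j).app ⊤ σ'') :=
      comp_app_apply (aMap P D s e F j) (aN P D s e F j) σ''
    rw [h, hσ'', hσ']

include hP hD hF in
theorem strict_drop (haff : IsAffineOpen (CohB1.genLocus P s))
    (hass : ∀ x : X, IsClosed ({x} : Set X) → ¬ Curv2.IsAssPoint F x)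
    (h1 : ∀ x, Curv2.IsAssPoint F x → x ∈ CohB1.genLocus P s)
    (h2 : ∀ x, Curv2.IsAssPoint (C0 P D s e F) x → x ∈ CohB1.genLocus P s₂)
    (h0 : 1 ≤ Module.finrank k (Coh.HH X F 0)) :
    Module.finrank k (Coh.HH X (CohB1.tensorMod F D) 0) + 1 ≤ Module.finrank k (Coh.HH X F 0) := by
  haveI : IsNoetherian X := Groth.Agent.Lib.Helper4.CurveRR.isNoetherian_of_proper k X
  have hcoh := isCoh_tower F D hF hD
  haveI hmono : Mono (nuApp P D s e F) := mono_nuApp X P D hD e s F hF h1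
  -- dimension count
  haveI : Module.Finite k (Coh.HH X F 0) := Groth.Agent.S0002.result k X _ hF 0
  haveI : Module.Finite k (Coh.HH X (CohB1.tensorMod F D) 0) := Groth.Agent.S0002.result k X _ (hcoh 1) 0
  have hinj : Function.Injective (Canon.HHlin k (nuApp P D s e F) 0) :=
    Groth.Agent.Lib.Helper6.Euler.injective_f_zero k (sesOfMono (nuApp P D s e F))
      (sesOfMono_shortExact (nuApp P D s e F))
  have hle := LinearMap.finrank_le_finrank_of_injective hinj
  by_contra hcon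
  have heq : Module.finrank k (Coh.HH X (CohB1.tensorMod F D) 0) = Module.finrank k (Coh.HH X F 0) := by
    omega
  have hsurj0H : Function.Surjective (Canon.HHlin k (nuApp P D s e F) 0) :=
    (LinearMap.injective_iff_surjective_of_finrank_eq_finrank heq).1 hinj
  have hsurj0 : Function.Surjective ((nuApp P D s e F).app ⊤) := by
    intro τ
    obtain ⟨y', hy'⟩ := hsurj0H ((hh0Equiv X _).symm τ)
    refine ⟨hh0Equiv X _ y', ?_⟩
    rw [← hh0Equiv_HHlin k, hy']
    exact (hh0Equiv X _).apply_symm_apply τ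
  have hsurj : ∀ i, Function.Surjective ((aMap P D s e F i).app ⊤) := by
    intro i
    induction i with
    | zero => exact hsurj0
    | succ i ih => exact surjective_aMap_succ k X P D hD e s s₂ F hF h2 i ih
  have hzero := vanish_of_divisible k X (CohB1.genLocus P s) haff F hF hass (fun j σ => by
    obtain ⟨σ', hσ'⟩ := exists_aN_apply X P D e s F hsurj j σ
    exact ⟨tower F D j, aN P D s e F j, σ', hσ', fun x hx => intoPow_stalkL_aN P D s e F hP x hx j⟩)
  have hsub : Subsingleton (Coh.HH X F 0) :=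
    ⟨fun a b => (hh0Equiv X _).injective ((hzero _).trans (hzero _).symm)⟩
  rw [Module.finrank_zero_of_subsingleton] at h0
  omega

end Drop

end Core

end Groth.Agent.Lib.Helper4.NegTwist
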