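import Mathlib
import Groth.Agent.Lib.Helper4NilFreeA
import Groth.Agent.Lib.Helper4UnivSchDomE
/-!
# helper4: schematic density modulo a nilpotent ideal with free graded pieces (scheme level)

* `exists_pow_appLE_eq_zero`: a section vanishing on a member of the family, written as a fraction
  on a basic open, is killed by a power of the denominator on affine pieces of the member.
* `schDominant_of_mod_nilpotent`: SGA 3 XVIII-ish: over `Spec A` with `J ⊆ A` nilpotent and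
  `J^k/J^(k+1)` free over `A/J`, a family of `A`-flat `X`-schemes which is schematically dominant
  modulo `J` is schematically dominant.
-/

set_option autoImplicit false
set_option linter.style.haveILetI false
universe u v w
namespace Groth.Agent.Lib.Helper4.NilFree
open TensorProduct CategoryTheory CategoryTheory.Limits AlgebraicGeometry
open Groth.Agent.Lib.Helper4.SchDom Groth.Agent.Lib.Helper4.UnivSchDom

/-- vanishing of a fraction on affine pieces. -/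
theorem exists_pow_appLE_eq_zero {Z X : Scheme.{u}} (f : Z ⟶ X) {U : X.Opens} {W : Z.Opens}
    (hW : IsAffineOpen W) (e : W ≤ f ⁻¹ᵁ U) {V : X.Opens} (s : Γ(X, U))
    (hsV : X.basicOpen s ≤ V) (t : Γ(X, V)) (a' : Γ(X, U)) (N : ℕ)
    (hN : X.presheaf.map (homOfLE hsV).op t *
      X.presheaf.map (homOfLE (X.basicOpen_le s)).op (s ^ N) =
      X.presheaf.map (homOfLE (X.basicOpen_le s)).op a')
    (ht : f.app V t = 0) : ∃ M : ℕ, f.appLE U W e (s ^ M * a') = 0 := by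
  have hres : Z.presheaf.map (homOfLE (Z.basicOpen_le (f.appLE U W e s))).op
      (f.appLE U W e a') = 0 := by
    have hQ : Z.basicOpen (f.appLE U W e s) = W ⊓ f ⁻¹ᵁ X.basicOpen s :=
      Scheme.basicOpen_appLE ..
    have hQ1 : Z.basicOpen (f.appLE U W e s) ≤ f ⁻¹ᵁ X.basicOpen s := hQ ▸ inf_le_right
    have e1 : f.appLE U W e ≫ Z.presheaf.map (homOfLE (Z.basicOpen_le (f.appLE U W e s))).op =
        X.presheaf.map (homOfLE (X.basicOpen_le s)).op ≫ f.appLE (X.basicOpen s) _ hQ1 := by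
      rw [Scheme.Hom.appLE_map, Scheme.Hom.map_appLE]
    have e2 : X.presheaf.map (homOfLE hsV).op ≫ f.appLE (X.basicOpen s) _ hQ1 =
        f.app V ≫ Z.presheaf.map (homOfLE (hQ1.trans (f.preimage_mono hsV))).op := by
      rw [Scheme.Hom.map_appLE, Scheme.Hom.app_eq_appLE, Scheme.Hom.appLE_map]
    have e1' := congrArg (fun m => m.hom a') e1
    have e2' := congrArg (fun m => m.hom t) e2
    simp only [CommRingCat.hom_comp, RingHom.comp_apply] at e1' e2'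
    rw [ht, map_zero] at e2'
    rw [e1', ← hN, map_mul, e2', zero_mul]
  obtain ⟨n, hn⟩ := exists_pow_mul_eq_zero_of_res_basicOpen_eq_zero_of_isAffineOpen _ hW
    (f.appLE U W e a') (f.appLE U W e s) hres
  exact ⟨n, by rw [map_mul, map_pow]; exact hn⟩

/-- **Schematic dominance modulo a nilpotent ideal with free graded pieces.** -/
theorem schDominant_of_mod_nilpotent {X : Scheme.{u}} (A : CommRingCat.{u}) (p : X ⟶ Spec A)
    (J : Ideal ↑A) (hJ : IsNilpotent J)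
    (hfree : ∀ k : ℕ, Module.Free (↑A ⧸ J) ((↑A ⧸ J) ⊗[↑A] ↥(J ^ k)))
    {ι : Type*} (Z : ι → Scheme.{u}) (v : ∀ i, Z i ⟶ X) [∀ i, Flat (v i ≫ p)]
    (h0 : ∀ (V : (pullback p (Spec.map (CommRingCat.ofHom (Ideal.Quotient.mk J)))).Opens)
      (t : Γ(pullback p (Spec.map (CommRingCat.ofHom (Ideal.Quotient.mk J))), V)),
      (∀ i, (bcMap p (Spec.map (CommRingCat.ofHom (Ideal.Quotient.mk J))) (v i)).app V t = 0) →
        t = 0)
    (V : X.Opens) (t : Γ(X, V)) (ht : ∀ i, (v i).app V t = 0) : t = 0 := by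
  classical
  set q : Spec (CommRingCat.of (↑A ⧸ J)) ⟶ Spec A :=
    Spec.map (CommRingCat.ofHom (Ideal.Quotient.mk J)) with hq
  refine eq_zero_of_locally_zero V t fun x hx => ?_
  obtain ⟨_, ⟨U, hU, rfl⟩, hxU, -⟩ := X.isBasis_affineOpens.exists_subset_of_mem_open
    (Set.mem_univ x) isOpen_univ
  obtain ⟨s, hsV, hxs⟩ := hU.exists_basicOpen_le (V := V) ⟨x, hx⟩ hxU
  refine ⟨X.basicOpen s, hsV, hxs, ?_⟩
  -- write `t|D(s)` as a fraction
  have hloc := hU.isLocalization_basicOpen s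
  obtain ⟨⟨a', ⟨_, N, rfl⟩⟩, hN⟩ := IsLocalization.surj (Submonoid.powers s)
    (X.presheaf.map (homOfLE hsV).op t)
  replace hN : X.presheaf.map (homOfLE hsV).op t *
      X.presheaf.map (homOfLE (X.basicOpen_le s)).op (s ^ N) =
      X.presheaf.map (homOfLE (X.basicOpen_le s)).op a' := hN
  have hunit : IsUnit (X.presheaf.map (homOfLE (X.basicOpen_le s)).op s) :=
    RingedSpace.isUnit_res_basicOpen X.toRingedSpace s
  suffices hM : ∃ M : ℕ, s ^ M * a' = 0 by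
    obtain ⟨M, hM⟩ := hM
    have h3 := congrArg (X.presheaf.map (homOfLE (X.basicOpen_le s)).op) hM
    rw [map_mul, ← hN, map_pow, map_pow, map_zero, ← mul_assoc, mul_comm _
      (X.presheaf.map (homOfLE hsV).op t), mul_assoc, ← pow_add] at h3
    exact (hunit.pow (M + N)).mul_left_eq_zero.mp h3
  -- the ring-level data
  let e₁ := Scheme.ΓSpecIso A
  let e₃ := Scheme.ΓSpecIso (CommRingCat.of (↑A ⧸ J))
  let rA : A ⟶ Γ(X, U) := e₁.inv ≫ p.appLE ⊤ U le_top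
  let Jx := Σ i : ι, {W : (Z i).Opens // IsAffineOpen W ∧ W ≤ v i ⁻¹ᵁ U}
  let ψ : ∀ j : Jx, Γ(X, U) ⟶ Γ(Z j.1, j.2.1) := fun j => (v j.1).appLE U j.2.1 j.2.2.2
  letI : Algebra ↑A Γ(X, U) := rA.hom.toAlgebra
  letI : ∀ j : Jx, Algebra ↑A Γ(Z j.1, j.2.1) := fun j => (rA ≫ ψ j).hom.toAlgebra
  let ψa : ∀ j : Jx, Γ(X, U) →ₐ[↑A] Γ(Z j.1, j.2.1) := fun j =>
    { (ψ j).hom with commutes' := fun _ => rfl }
  haveI : ∀ j : Jx, Module.Flat ↑A Γ(Z j.1, j.2.1) := by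
    intro j
    have hle : j.2.1 ≤ (v j.1 ≫ p) ⁻¹ᵁ ⊤ := le_top
    have h1 : ((v j.1 ≫ p).appLE ⊤ j.2.1 hle).hom.Flat :=
      HasRingHomProperty.appLE (P := @Flat) _ (inferInstance : Flat (v j.1 ≫ p))
        ⟨⊤, isAffineOpen_top _⟩ ⟨j.2.1, j.2.2.1⟩ hle
    have e' : (v j.1 ≫ p).appLE ⊤ j.2.1 hle = p.appLE ⊤ U le_top ≫ (v j.1).appLE U j.2.1 j.2.2.2 :=
      (Scheme.Hom.appLE_comp_appLE _ _ _ _ _ _ _).symm
    rw [e'] at h1
    have h2 : (e₁.inv).hom.Flat :=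
      RingHom.Flat.of_bijective (ConcreteCategory.bijective_of_isIso e₁.inv)
    have h3 : ((rA ≫ ψ j).hom).Flat := by
      have h4 : (rA ≫ ψ j).hom =
          ((p.appLE ⊤ U le_top ≫ (v j.1).appLE U j.2.1 j.2.2.2).hom).comp e₁.inv.hom := rfl
      rw [h4]
      exact RingHom.Flat.comp h2 h1
    exact h3
  -- the reduction modulo `J`
  have hP : IsAffineOpen (box p q U ⊤) :=
    isAffineOpen_box (IsPullback.of_hasPullback p q) (US := ⊤) le_top le_top
      (isAffineOpen_top _) (isAffineOpen_top _) hU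
  have hsd0 : ∀ r a : Γ(pullback p q, box p q U ⊤),
      (∀ j : Jx, ∃ n : ℕ, (bcMap p q (v j.1)).appLE (box p q U ⊤) (box (v j.1 ≫ p) q j.2.1 ⊤)
        (box_le p q (v j.1) j.2.2.2) (r ^ n * a) = 0) → ∃ n : ℕ, r ^ n * a = 0 := by
    intro r a hj
    exact hsd_box_of_schematicallyDominant p q Z v h0 hP r a
      (fun i W hW e => hj ⟨i, W, hW, e⟩)
  have hg : (CommRingCat.ofHom (Ideal.Quotient.mk J) : A ⟶ CommRingCat.of (↑A ⧸ J)) ≫ e₃.inv =
      e₁.inv ≫ q.appLE ⊤ ⊤ le_top := by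
    rw [Scheme.ΓSpecIso_inv_naturality]
    rfl
  have hR : IsPushout (CommRingCat.ofHom (algebraMap ↑A Γ(X, U)))
      (CommRingCat.ofHom (algebraMap ↑A (↑A ⧸ J)))
      ((pullback.fst p q).appLE U (box p q U ⊤) inf_le_left)
      (e₃.inv ≫ (pullback.snd p q).appLE ⊤ (box p q U ⊤) inf_le_right) := by
    have hpo := isPushout_box p q (US := ⊤) (UT := ⊤) (U := U) le_top le_top
      (isAffineOpen_top _) (isAffineOpen_top _) hU
    refine hpo.of_iso e₁ (Iso.refl _) e₃ (Iso.refl _) ?_ ?_ ?_ ?_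
    · show p.appLE ⊤ U le_top ≫ 𝟙 _ = e₁.hom ≫ (e₁.inv ≫ p.appLE ⊤ U le_top)
      rw [Category.comp_id, Iso.hom_inv_id_assoc]
    · show q.appLE ⊤ ⊤ le_top ≫ e₃.hom = e₁.hom ≫ CommRingCat.ofHom (Ideal.Quotient.mk J)
      rw [← cancel_mono e₃.inv, Category.assoc, Iso.hom_inv_id, Category.comp_id, Category.assoc,
        hg, Iso.hom_inv_id_assoc]
    · simp
    · simp
  have hR' : ∀ j : Jx, IsPushout (CommRingCat.ofHom (algebraMap ↑A Γ(Z j.1, j.2.1)))
      (CommRingCat.ofHom (algebraMap ↑A (↑A ⧸ J)))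
      ((pullback.fst (v j.1 ≫ p) q).appLE j.2.1 (box (v j.1 ≫ p) q j.2.1 ⊤) inf_le_left)
      (e₃.inv ≫ (pullback.snd (v j.1 ≫ p) q).appLE ⊤ (box (v j.1 ≫ p) q j.2.1 ⊤)
        inf_le_right) := by
    intro j
    have hpo := isPushout_box_comp p q (v j.1) (US := ⊤) (UT := ⊤) (U := U) (W := j.2.1)
      le_top le_top j.2.2.2 (isAffineOpen_top _) (isAffineOpen_top _) j.2.2.1
    refine hpo.of_iso e₁ (Iso.refl _) e₃ (Iso.refl _) ?_ ?_ ?_ ?_
    · show (p.appLE ⊤ U le_top ≫ (v j.1).appLE U j.2.1 j.2.2.2) ≫ 𝟙 _ =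
        e₁.hom ≫ ((e₁.inv ≫ p.appLE ⊤ U le_top) ≫ (v j.1).appLE U j.2.1 j.2.2.2)
      rw [Category.comp_id, Category.assoc, Iso.hom_inv_id_assoc]
    · show q.appLE ⊤ ⊤ le_top ≫ e₃.hom = e₁.hom ≫ CommRingCat.ofHom (Ideal.Quotient.mk J)
      rw [← cancel_mono e₃.inv, Category.assoc, Iso.hom_inv_id, Category.comp_id, Category.assoc,
        hg, Iso.hom_inv_id_assoc]
    · simp
    · simp
  have hSD : SD ↑A ψa (↑A ⧸ J) :=
    (hsd_pushout_iff ψa ((pullback.fst p q).appLE U (box p q U ⊤) inf_le_left)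
      (e₃.inv ≫ (pullback.snd p q).appLE ⊤ (box p q U ⊤) inf_le_right) hR
      (fun j => (pullback.fst (v j.1 ≫ p) q).appLE j.2.1 (box (v j.1 ≫ p) q j.2.1 ⊤) inf_le_left)
      (fun j => e₃.inv ≫ (pullback.snd (v j.1 ≫ p) q).appLE ⊤ (box (v j.1 ≫ p) q j.2.1 ⊤)
        inf_le_right) hR'
      (fun j => (bcMap p q (v j.1)).appLE (box p q U ⊤) (box (v j.1 ≫ p) q j.2.1 ⊤)
        (box_le p q (v j.1) j.2.2.2))
      (fun j => box_h1 p q (v j.1) j.2.2.2)
      (fun j => by rw [Category.assoc, box_h2 p q (v j.1) j.2.2.2])).mp hsd0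
  -- the graded pieces
  obtain ⟨N₀, hN₀⟩ := hJ
  choose I e he hspan hind using fun r => @exists_basis_lifts ↑A _ J r (hfree r)
  have hsurj : Function.Surjective (algebraMap ↑A (↑A ⧸ J)) := Ideal.Quotient.mk_surjective
  have hker : RingHom.ker (algebraMap ↑A (↑A ⧸ J)) = J := by
    rw [Ideal.Quotient.algebraMap_eq, Ideal.mk_ker]
  refine nil_free_claim J s (fun j : Jx => Γ(Z j.1, j.2.1)) ψa N₀ (by rw [hN₀, Ideal.zero_eq_bot])
    I e he hspan hind ?_ a' ?_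
  · intro τ hτ
    obtain ⟨n, hn⟩ := hSD ((1 : ↑A ⧸ J) ⊗ₜ[↑A] s) ((1 : ↑A ⧸ J) ⊗ₜ[↑A] τ) (fun j => by
      obtain ⟨n, hn⟩ := hτ j
      refine ⟨n, ?_⟩
      rw [Algebra.TensorProduct.tmul_pow, one_pow, Algebra.TensorProduct.tmul_mul_tmul, one_mul,
        Algebra.TensorProduct.map_tmul]
      exact (one_tmul_eq_zero_iff_mem_map J (↑A ⧸ J) hsurj hker _).mpr hn)
    refine ⟨n, ?_⟩
    rw [Algebra.TensorProduct.tmul_pow, one_pow, Algebra.TensorProduct.tmul_mul_tmul, one_mul] at hn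
    exact (one_tmul_eq_zero_iff_mem_map J (↑A ⧸ J) hsurj hker _).mp hn
  · intro j
    exact exists_pow_appLE_eq_zero (v j.1) j.2.2.1 j.2.2.2 s hsV t a' N hN (ht j.1)

end Groth.Agent.Lib.Helper4.NilFree
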