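import Groth.Agent.Lib.Helper4Branches
import Groth.Agent.Lib.Helper4TotalFracFin
import Groth.Agent.Lib.Helper4BranchCount
import Groth.Agent.Lib.Helper4Unibranch

/-!
# Branches of an integral scheme at a point and the fibre of its normalization: ring part (helper4)

* `enat_card_sigma_tsum`: `ENat.card (Σ i, X i) = ∑' i, ENat.card (X i)`.
* `maxSpecToPrimesOver(_bijective)`: for `R = A_p` local, `R''` integral over `R` and a localization
  of `B` at `A ∖ p`: maximal ideals of `R''` ↔ primes of `B` over `p`.
* `homRestrict(_bijective)`: ring maps `R'' → Ω` over `R → Ω` ↔ ring maps `B → Ω` over `A → Ω`.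
* `kerPt`, `card_hom_eq_tsum`: count ring maps `B → Ω` over `A` by their kernels.
* `sigmaEmbToHom(_bijective)`, `homNormRed(_bijective)`: geometric branches of a local domain as
  ring maps from the integral closure to the algebraic closure of the residue field.
-/

set_option autoImplicit false
set_option linter.style.haveILetI false
set_option linter.unusedSectionVars false
universe u

namespace Groth.Agent.Lib.Helper4.NormBranch

open Groth.Agent.Lib.Helper4.TotalFracFin IsLocalRing

theorem enat_card_sigma_tsum {ι : Type*} (X : ι → Type*) :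
    ENat.card (Σ i, X i) = ∑' i, ENat.card (X i) := by
  classical
  symm
  apply HasSum.tsum_eq
  apply hasSum_of_isLUB
  constructor
  · rintro _ ⟨s, rfl⟩
    show ∑ i ∈ s, ENat.card (X i) ≤ _
    have h1 : ∑ i ∈ s, ENat.card (X i) = ENat.card (Σ i : s, X i.1) := by
      rw [enat_card_sigma (fun i : s => X i.1)]
      exact (Finset.sum_coe_sort s (fun i => ENat.card (X i))).symm
    rw [h1]
    refine ENat.card_le_card_of_injective (f := fun z : (Σ i : s, X i.1) => (⟨z.1.1, z.2⟩ : Σ i, X i)) ?_
    rintro ⟨⟨i, hi⟩, a⟩ ⟨⟨j, hj⟩, b⟩ h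
    simp only [Sigma.mk.injEq] at h
    obtain ⟨rfl, h2⟩ := h
    rw [heq_eq_eq] at h2
    subst h2
    rfl
  · intro b hb
    apply Groth.Agent.Lib.Helper4.Branches.card_le_of_forall_finset
    intro t
    have h1 : (t.card : ℕ∞) ≤ ∑ i ∈ t.image Sigma.fst, ENat.card (X i) := by
      have h2 : ∑ i ∈ t.image Sigma.fst, ENat.card (X i) =
          ENat.card (Σ i : (t.image Sigma.fst : Finset ι), X i.1) := by
        rw [enat_card_sigma (fun i : (t.image Sigma.fst : Finset ι) => X i.1)]
        exact (Finset.sum_coe_sort (t.image Sigma.fst) (fun i => ENat.card (X i))).symm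
      rw [h2]
      have h3 : (t.card : ℕ∞) = ENat.card t := by
        rw [ENat.card_eq_coe_fintype_card, Fintype.card_coe]
      rw [h3]
      refine ENat.card_le_card_of_injective (f := fun z : t =>
        (⟨⟨z.1.1, Finset.mem_image_of_mem _ z.2⟩, z.1.2⟩ :
          Σ i : (t.image Sigma.fst : Finset ι), X i.1)) ?_
      rintro ⟨⟨i, a⟩, hz⟩ ⟨⟨j, b⟩, hw⟩ h
      simp only [Sigma.mk.injEq, Subtype.mk.injEq] at h
      obtain ⟨rfl, h2⟩ := h
      rw [heq_eq_eq] at h2
      subst h2
      rfl
    exact h1.trans (hb ⟨_, rfl⟩)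


section Loc

variable {A : Type*} [CommRing A] (p : Ideal A) [p.IsPrime]
  (R : Type*) [CommRing R] [IsLocalRing R] [Algebra A R] [IsLocalization.AtPrime R p]
  (B : Type*) [CommRing B] [Algebra A B]
  (R'' : Type*) [CommRing R''] [Algebra R R''] [Algebra B R''] [Algebra A R'']
  [IsScalarTower A R R''] [IsScalarTower A B R''] [Algebra.IsIntegral R R'']
  [IsLocalization (Algebra.algebraMapSubmonoid B p.primeCompl) R'']

/-- primes of `B` over `p`. -/
abbrev PrimesOver' : Type _ := {q : PrimeSpectrum B // q.asIdeal.comap (algebraMap A B) = p}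

include R in
theorem comap_comap_eq_of_isMaximal (m : Ideal R'') [hm : m.IsMaximal] :
    (m.comap (algebraMap B R'')).comap (algebraMap A B) = p := by
  have h1 : m.comap (algebraMap R R'') = maximalIdeal R :=
    eq_maximalIdeal (Ideal.isMaximal_comap_of_isIntegral_of_isMaximal m)
  rw [Ideal.comap_comap, ← IsScalarTower.algebraMap_eq, IsScalarTower.algebraMap_eq A R R'',
    ← Ideal.comap_comap, h1]
  exact IsLocalization.AtPrime.comap_maximalIdeal R p

/-- Maximal ideals of the localization `R''` of `B` correspond to primes of `B` over `p`. -/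
noncomputable def maxSpecToPrimesOver : MaximalSpectrum R'' → PrimesOver' p B := fun m =>
  ⟨⟨m.asIdeal.comap (algebraMap B R''), haveI := m.isMaximal.isPrime; Ideal.comap_isPrime _ _⟩,
    haveI := m.isMaximal; comap_comap_eq_of_isMaximal p R B R'' m.asIdeal⟩

theorem maxSpecToPrimesOver_bijective :
    Function.Bijective (maxSpecToPrimesOver p R B R'') := by
  constructor
  · intro m₁ m₂ h
    have h1 : m₁.asIdeal.comap (algebraMap B R'') = m₂.asIdeal.comap (algebraMap B R'') :=
      congrArg (fun q : PrimesOver' p B => q.1.asIdeal) h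
    apply MaximalSpectrum.ext
    rw [← IsLocalization.map_comap (Algebra.algebraMapSubmonoid B p.primeCompl) R'' m₁.asIdeal,
      ← IsLocalization.map_comap (Algebra.algebraMapSubmonoid B p.primeCompl) R'' m₂.asIdeal]
    exact congrArg (Ideal.map (algebraMap B R'')) h1
  · rintro ⟨q, hq⟩
    have hdisj : Disjoint (Algebra.algebraMapSubmonoid B p.primeCompl : Set B) (q.asIdeal : Set B) := by
      rw [Set.disjoint_left]
      rintro _ ⟨s, hs, rfl⟩ hsq
      apply hs
      rw [← hq]
      exact hsq
    have hprime : (q.asIdeal.map (algebraMap B R'')).IsPrime :=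
      IsLocalization.isPrime_of_isPrime_disjoint _ R'' q.asIdeal q.2 hdisj
    have hcomap : (q.asIdeal.map (algebraMap B R'')).comap (algebraMap B R'') = q.asIdeal :=
      IsLocalization.comap_map_of_isPrime_disjoint _ R'' q.2 hdisj
    have hmax : (q.asIdeal.map (algebraMap B R'')).IsMaximal := by
      apply Ideal.isMaximal_of_isIntegral_of_isMaximal_comap (R := R)
      have hle : maximalIdeal R ≤ (q.asIdeal.map (algebraMap B R'')).comap (algebraMap R R'') := by
        intro r hr
        obtain ⟨a, s, rfl⟩ := IsLocalization.exists_mk'_eq p.primeCompl r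
        have ha : a ∈ p := by
          have := (IsLocalization.AtPrime.mk'_mem_maximal_iff R p a s).mp hr
          exact this
        rw [Ideal.mem_comap]
        have h2 : algebraMap A R'' a ∈ q.asIdeal.map (algebraMap B R'') := by
          rw [IsScalarTower.algebraMap_apply A B R'']
          apply Ideal.mem_map_of_mem
          have : a ∈ q.asIdeal.comap (algebraMap A B) := hq ▸ ha
          exact this
        have h3 : algebraMap R R'' (IsLocalization.mk' R a s) * algebraMap A R'' s =
            algebraMap A R'' a := by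
          rw [IsScalarTower.algebraMap_apply A R R'', IsScalarTower.algebraMap_apply A R R'',
            ← map_mul, IsLocalization.mk'_spec]
        have h4 : IsUnit (algebraMap A R'' s) := by
          rw [IsScalarTower.algebraMap_apply A R R'']
          exact (IsLocalization.map_units R s).map _
        rw [← h3] at h2
        exact (hprime.mem_or_mem h2).resolve_right
          (fun h => hprime.ne_top (Ideal.eq_top_of_isUnit_mem _ h h4))
      have hne : (q.asIdeal.map (algebraMap B R'')).comap (algebraMap R R'') ≠ ⊤ :=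
        (Ideal.comap_isPrime _ _).ne_top
      rw [← (maximalIdeal.isMaximal R).eq_of_le hne hle]
      exact maximalIdeal.isMaximal R
    refine ⟨⟨_, hmax⟩, ?_⟩
    apply Subtype.ext
    apply PrimeSpectrum.ext
    exact hcomap

variable {Ω : Type*} [Field Ω] (c : R →+* Ω)

/-- ring maps from the localization restrict to ring maps from `B`. -/
def homRestrict : {τ : R'' →+* Ω // τ.comp (algebraMap R R'') = c} →
    {τ : B →+* Ω // τ.comp (algebraMap A B) = c.comp (algebraMap A R)} := fun τ =>
  ⟨τ.1.comp (algebraMap B R''), by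
    rw [RingHom.comp_assoc, ← IsScalarTower.algebraMap_eq, IsScalarTower.algebraMap_eq A R R'',
      ← RingHom.comp_assoc, τ.2]⟩

include p in
theorem homRestrict_bijective : Function.Bijective (homRestrict (A := A) R B R'' c) := by
  constructor
  · intro τ₁ τ₂ h
    apply Subtype.ext
    apply IsLocalization.ringHom_ext (Algebra.algebraMapSubmonoid B p.primeCompl)
    exact congrArg Subtype.val h
  · rintro ⟨τ, hτ⟩
    have hunits : ∀ y : Algebra.algebraMapSubmonoid B p.primeCompl, IsUnit (τ y) := by
      rintro ⟨_, s, hs, rfl⟩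
      have h1 : τ (algebraMap A B s) = c (algebraMap A R s) := congrArg (fun φ => φ s) hτ
      show IsUnit (τ (algebraMap A B s))
      rw [h1]
      exact (IsLocalization.map_units R (⟨s, hs⟩ : p.primeCompl)).map c
    refine ⟨⟨IsLocalization.lift hunits, ?_⟩, ?_⟩
    · apply IsLocalization.ringHom_ext p.primeCompl
      ext a
      simp only [RingHom.comp_apply]
      rw [← IsScalarTower.algebraMap_apply A R R'', IsScalarTower.algebraMap_apply A B R'',
        IsLocalization.lift_eq]
      exact congrArg (fun φ => φ a) hτ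
    · apply Subtype.ext
      ext b
      exact IsLocalization.lift_eq hunits b

end Loc

section Ker

variable {A : Type*} [CommRing A] (p : Ideal A) (B : Type*) [CommRing B] [Algebra A B]
  {Ω : Type*} [Field Ω] (cA : A →+* Ω) (hc : RingHom.ker cA = p)

include hc in
/-- the kernel of a ring map to a field over `A`, as a prime over `p`. -/
noncomputable def kerPt : {τ : B →+* Ω // τ.comp (algebraMap A B) = cA} → PrimesOver' p B :=
  fun τ => ⟨⟨RingHom.ker τ.1, RingHom.ker_isPrime τ.1⟩, by
    show (RingHom.ker τ.1).comap (algebraMap A B) = p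
    rw [RingHom.comap_ker, τ.2, hc]⟩

theorem card_hom_eq_tsum :
    ENat.card {τ : B →+* Ω // τ.comp (algebraMap A B) = cA} =
      ∑' q : PrimesOver' p B, ENat.card {τ : {τ : B →+* Ω // τ.comp (algebraMap A B) = cA} //
        kerPt p B cA hc τ = q} := by
  rw [← enat_card_sigma_tsum]
  exact ENat.card_congr (Equiv.sigmaFiberEquiv (kerPt p B cA hc)).symm

end Ker

section Emb

open Groth.Agent.Lib.Helper4.Unibranch

variable (R : Type u) [CommRing R] [IsLocalRing R]

/-- geometric branches as ring maps `normRed R → κ̄` over `R`. -/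
noncomputable def sigmaEmbToHom : (Σ m' : MaximalSpectrum (CAlg2.normRed R), Brnch.Emb R m') →
    {τ : CAlg2.normRed R →+* AlgebraicClosure (ResidueField R) //
      τ.comp (canNorm R) = Brnch.toClosure R} := fun x => ⟨mapOf R x, mapOf_comp R x⟩

theorem sigmaEmbToHom_bijective : Function.Bijective (sigmaEmbToHom R) := by
  constructor
  · intro x y h
    exact mapOf_injective R (congrArg Subtype.val h)
  · rintro ⟨τ, hτ⟩
    exact ⟨branchOf R τ hτ, Subtype.ext (mapOf_branchOf R τ hτ)⟩

variable [IsDomain R] (K : Type*) [Field K] [Algebra R K] [IsFractionRing R K]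
  {Ω : Type*} [Field Ω] (c : R →+* Ω)

/-- transport along `normRed R ≃ integralClosure R K`. -/
noncomputable def homNormRed :
    {τ : integralClosure R K →+* Ω // τ.comp (algebraMap R (integralClosure R K)) = c} →
    {τ : CAlg2.normRed R →+* Ω // τ.comp (canNorm R) = c} := fun τ =>
  ⟨τ.1.comp (normRedEquiv R K).toRingHom, by
    ext r
    have h1 : (normRedEquiv R K) (canNorm R r) = algebraMap R (integralClosure R K) r :=
      normRedEquiv_apply R K r
    show τ.1 ((normRedEquiv R K) (canNorm R r)) = c r
    rw [h1]
    exact congrArg (fun φ => φ r) τ.2⟩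

theorem homNormRed_bijective : Function.Bijective (homNormRed R K c) := by
  constructor
  · intro τ₁ τ₂ h
    apply Subtype.ext
    ext z
    have h1 := congrArg (fun φ => φ.1 ((normRedEquiv R K).symm z)) h
    simp only [homNormRed, RingHom.comp_apply] at h1
    simpa using h1
  · rintro ⟨τ, hτ⟩
    refine ⟨⟨τ.comp (normRedEquiv R K).symm.toRingHom, ?_⟩, ?_⟩
    · ext r
      have h1 : (normRedEquiv R K) (canNorm R r) = algebraMap R (integralClosure R K) r :=
        normRedEquiv_apply R K r
      show τ ((normRedEquiv R K).symm (algebraMap R (integralClosure R K) r)) = c r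
      rw [← h1, RingEquiv.symm_apply_apply]
      exact congrArg (fun φ => φ r) hτ
    · apply Subtype.ext
      ext z
      show τ ((normRedEquiv R K).symm ((normRedEquiv R K) z)) = τ z
      rw [RingEquiv.symm_apply_apply]

end Emb

section ResHom

variable {A B R S : Type u} [CommRing A] [CommRing B] [Algebra A B] [Algebra.IsIntegral A B]
  (p : Ideal A) [p.IsPrime] (q : Ideal B) [q.IsPrime] (hqp : q.comap (algebraMap A B) = p)
  [CommRing R] [IsLocalRing R] [Algebra A R] [IsLocalization.AtPrime R p]
  [CommRing S] [IsLocalRing S] [Algebra B S] [IsLocalization.AtPrime S q]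
  (φ : R →+* S) [IsLocalHom φ]
  (hφ : φ.comp (algebraMap A R) = (algebraMap B S).comp (algebraMap A B))

/-- two ring maps out of a ring of fractions agreeing on numerators agree. -/
theorem ringHom_ext_of_frac {C κ Ω : Type*} [CommRing C] [CommRing κ] [CommRing Ω]
    (ε : C →+* κ) (hε : ∀ k : κ, ∃ a s : C, IsUnit (ε s) ∧ k * ε s = ε a)
    (σ₁ σ₂ : κ →+* Ω) (h : σ₁.comp ε = σ₂.comp ε) : σ₁ = σ₂ := by
  ext k
  obtain ⟨a, s, hs, hk⟩ := hε k
  have h1 : σ₁ k * σ₁ (ε s) = σ₂ k * σ₁ (ε s) := by
    rw [← map_mul, hk]
    have e1 : σ₁ (ε a) = σ₂ (ε a) := congrArg (fun ψ => ψ a) h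
    have e2 : σ₁ (ε s) = σ₂ (ε s) := congrArg (fun ψ => ψ s) h
    rw [e1, e2, ← map_mul, hk]
  exact (hs.map σ₁).mul_left_injective h1

include p in
theorem residue_frac (k : ResidueField R) :
    ∃ a s : A, IsUnit ((residue R).comp (algebraMap A R) s) ∧
      k * (residue R).comp (algebraMap A R) s = (residue R).comp (algebraMap A R) a := by
  obtain ⟨r, rfl⟩ := residue_surjective k
  obtain ⟨a, s, rfl⟩ := IsLocalization.exists_mk'_eq p.primeCompl r
  refine ⟨a, s, ((IsLocalization.map_units R s).map (residue R)), ?_⟩
  simp only [RingHom.comp_apply]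
  rw [← map_mul, IsLocalization.mk'_spec]

/-- evaluation `B → κ(S)`. -/
noncomputable abbrev evB (B S : Type u) [CommRing B] [CommRing S] [IsLocalRing S] [Algebra B S] :
    B →+* ResidueField S := (residue S).comp (algebraMap B S)

include q in
theorem evB_eq_zero_iff (b : B) : evB B S b = 0 ↔ b ∈ q := by
  show residue S (algebraMap B S b) = 0 ↔ _
  rw [residue_eq_zero_iff]
  exact IsLocalization.AtPrime.to_map_mem_maximal_iff S q b

include q in
theorem ker_evB : RingHom.ker (evB B S) = q := by
  ext b
  rw [RingHom.mem_ker]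
  exact evB_eq_zero_iff q b

include q in
theorem evB_frac (k : ResidueField S) :
    ∃ a s : B, IsUnit (evB B S s) ∧ k * evB B S s = evB B S a := by
  obtain ⟨r, rfl⟩ := residue_surjective k
  obtain ⟨a, s, rfl⟩ := IsLocalization.exists_mk'_eq q.primeCompl r
  refine ⟨a, s, ((IsLocalization.map_units S s).map (residue S)), ?_⟩
  simp only [RingHom.comp_apply]
  rw [← map_mul, IsLocalization.mk'_spec]

include hφ in
theorem residueMap_comp :
    (ResidueField.map φ).comp ((residue R).comp (algebraMap A R)) =
      (evB B S).comp (algebraMap A B) := by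
  ext a
  simp only [RingHom.comp_apply]
  rw [ResidueField.map_residue]
  congr 1
  exact congrArg (fun ψ => ψ a) hφ

include p q hφ in
theorem isAlgebraic_residueField :
    letI := (ResidueField.map φ).toAlgebra
    Algebra.IsAlgebraic (ResidueField R) (ResidueField S) := by
  letI := (ResidueField.map φ).toAlgebra
  constructor
  intro z
  obtain ⟨b, t, ht, hz⟩ := evB_frac q z
  have hint : ∀ b : B, IsIntegral (ResidueField R) (evB B S b) := by
    intro b
    exact IsIntegral.map_of_comp_eq ((residue R).comp (algebraMap A R)) (evB B S)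
      (residueMap_comp φ hφ) (Algebra.IsIntegral.isIntegral (R := A) b)
  have hz' : z = evB B S b * (evB B S t)⁻¹ := by
    rw [← hz, mul_assoc, mul_inv_cancel₀ ht.ne_zero, mul_one]
  rw [hz']
  exact ((hint b).mul (hint t).inv).isAlgebraic

variable (Ω : Type*) [Field Ω] [Algebra (ResidueField R) Ω]

/-- the structure map `A → R → κ(R) → Ω`. -/
noncomputable abbrev cA (A R : Type u) [CommRing A] [CommRing R] [IsLocalRing R] [Algebra A R]
    (Ω : Type*) [Field Ω] [Algebra (ResidueField R) Ω] : A →+* Ω :=
  ((algebraMap (ResidueField R) Ω).comp (residue R)).comp (algebraMap A R)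

include p in
theorem ker_cA : RingHom.ker (cA A R Ω) = p := by
  ext a
  rw [RingHom.mem_ker]
  show algebraMap (ResidueField R) Ω (residue R (algebraMap A R a)) = 0 ↔ _
  rw [map_eq_zero_iff _ (algebraMap (ResidueField R) Ω).injective, residue_eq_zero_iff]
  exact IsLocalization.AtPrime.to_map_mem_maximal_iff R p a

/-- the prime `q` as a point of `PrimesOver' p B`. -/
def qPt : PrimesOver' p B := ⟨⟨q, inferInstance⟩, hqp⟩

/-- `κ(R)`-embeddings of `κ(S)` into `Ω` as ring maps `B → Ω` over `A` with kernel `q`. -/
noncomputable def embToHom :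
    letI := (ResidueField.map φ).toAlgebra
    (ResidueField S →ₐ[ResidueField R] Ω) →
      {τ : {τ : B →+* Ω // τ.comp (algebraMap A B) = cA A R Ω} //
        kerPt p B (cA A R Ω) (ker_cA p Ω) τ = qPt p q hqp} :=
  letI := (ResidueField.map φ).toAlgebra
  fun σ => ⟨⟨σ.toRingHom.comp (evB B S), by
    rw [RingHom.comp_assoc, ← residueMap_comp φ hφ, ← RingHom.comp_assoc]
    have h1 : σ.toRingHom.comp (ResidueField.map φ) = algebraMap (ResidueField R) Ω := by
      ext k
      exact σ.commutes k
    rw [h1]
    rfl⟩, by
    apply Subtype.ext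
    apply PrimeSpectrum.ext
    show RingHom.ker (σ.toRingHom.comp (evB B S)) = q
    ext b
    rw [RingHom.mem_ker, RingHom.comp_apply, map_eq_zero_iff _ σ.toRingHom.injective]
    exact evB_eq_zero_iff q b⟩

theorem embToHom_bijective : Function.Bijective (embToHom p q hqp φ hφ Ω) := by
  letI := (ResidueField.map φ).toAlgebra
  constructor
  · intro σ₁ σ₂ h
    have h1 : σ₁.toRingHom.comp (evB B S) = σ₂.toRingHom.comp (evB B S) :=
      congrArg (fun τ => τ.1.1) h
    have h2 := ringHom_ext_of_frac (evB B S) (evB_frac q) _ _ h1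
    ext k
    exact congrArg (fun ψ => ψ k) h2
  · rintro ⟨⟨τ, hτ⟩, hker⟩
    have hkerτ : RingHom.ker τ = q := by
      have := congrArg (fun z : PrimesOver' p B => z.1.asIdeal) hker
      exact this
    have hunits : ∀ y : q.primeCompl, IsUnit (τ y) := by
      intro y
      rw [isUnit_iff_ne_zero]
      intro h0
      have hy : (y : B) ∈ RingHom.ker τ := RingHom.mem_ker.mpr h0
      exact y.2 (hkerτ.le hy)
    let τS : S →+* Ω := IsLocalization.lift hunits
    have hτS : ∀ b : B, τS (algebraMap B S b) = τ b := fun b => IsLocalization.lift_eq hunits b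
    haveI : IsLocalHom τS := by
      constructor
      intro s hs
      by_contra hns
      have hsm : s ∈ maximalIdeal S := (mem_maximalIdeal s).mpr hns
      obtain ⟨b, t, rfl⟩ := IsLocalization.exists_mk'_eq q.primeCompl s
      have hb : b ∈ q := (IsLocalization.AtPrime.mk'_mem_maximal_iff S q b t).mp hsm
      have h0 : τS (IsLocalization.mk' S b t) = 0 := by
        have h1 : τS (IsLocalization.mk' S b t) * τS (algebraMap B S t) = τS (algebraMap B S b) := by
          rw [← map_mul, IsLocalization.mk'_spec]
        rw [hτS, hτS] at h1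
        have h2 : τ b = 0 := RingHom.mem_ker.mp (hkerτ.ge hb)
        rw [h2] at h1
        exact (mul_eq_zero.mp h1).resolve_right (hunits t).ne_zero
      rw [h0] at hs
      exact not_isUnit_zero hs
    let σ₀ : ResidueField S →+* Ω := ResidueField.lift τS
    have hσ₀ : σ₀.comp (evB B S) = τ := by
      ext b
      show σ₀ (residue S (algebraMap B S b)) = τ b
      rw [ResidueField.lift_residue_apply, hτS]
    have hlin : σ₀.comp (ResidueField.map φ) = algebraMap (ResidueField R) Ω := by
      apply ringHom_ext_of_frac ((residue R).comp (algebraMap A R)) (residue_frac p)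
      rw [RingHom.comp_assoc, residueMap_comp φ hφ, ← RingHom.comp_assoc, hσ₀, hτ]
      rfl
    refine ⟨{ σ₀ with commutes' := fun k => congrArg (fun ψ => ψ k) hlin }, ?_⟩
    apply Subtype.ext
    apply Subtype.ext
    exact hσ₀

include p q hqp hφ in
/-- The number of embeddings of the residue field extension equals the number of ring maps
`B → κ̄` over `A` with kernel `q`. -/
theorem card_emb_eq [IsAlgClosed Ω] :
    letI := (ResidueField.map φ).toAlgebra
    ENat.card (Field.Emb (ResidueField R) (ResidueField S)) =
      ENat.card {τ : {τ : B →+* Ω // τ.comp (algebraMap A B) = cA A R Ω} //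
        kerPt p B (cA A R Ω) (ker_cA p Ω) τ = qPt p q hqp} := by
  letI := (ResidueField.map φ).toAlgebra
  haveI := isAlgebraic_residueField p q φ hφ
  rw [ENat.card_congr (Field.embEquivOfIsAlgClosed (ResidueField R) (ResidueField S) Ω)]
  exact ENat.card_congr (Equiv.ofBijective _ (embToHom_bijective p q hqp φ hφ Ω))

end ResHom

end Groth.Agent.Lib.Helper4.NormBranch
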