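import Groth.Agent.Lib.Helper4NormIso
import Groth.Agent.Lib.Helper4NormDimOne

set_option autoImplicit false
set_option linter.style.haveILetI false
set_option linter.unusedSectionVars false
set_option linter.unusedVariables false
universe u

open AlgebraicGeometry CategoryTheory CategoryTheory.Limits

namespace Groth.Agent.Lib.Helper4.NormFac

section RingLevel

variable (A : Type*) {K : Type*} (C : Type*) [CommRing A] [IsDomain A] [Field K] [Algebra A K]
  [IsFractionRing A K] [CommRing C] [Algebra A C]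

/-- All localizations of `C` at maximal ideals are normal domains into which `A` injects. -/
def LocGood : Prop :=
  ∀ (m : Ideal C) [m.IsMaximal], IsDomain (Localization.AtPrime m) ∧
    IsIntegrallyClosed (Localization.AtPrime m) ∧
    Function.Injective ((algebraMap C (Localization.AtPrime m)).comp (algebraMap A C))

variable {A C}

theorem LocGood.eq_zero_of_mul (hC : LocGood A C) {s : A} (hs : s ≠ 0) {d : C}
    (hd : algebraMap A C s * d = 0) : d = 0 := by
  apply eq_zero_of_localization
  intro m hm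
  obtain ⟨hdom, -, hinj⟩ := hC m
  have h1 : algebraMap C (Localization.AtPrime m) (algebraMap A C s) *
      algebraMap C (Localization.AtPrime m) d = 0 := by
    rw [← map_mul, hd, map_zero]
  rcases mul_eq_zero.mp h1 with h | h
  · exfalso
    apply hs
    apply hinj
    rw [map_zero]
    exact h
  · exact h

theorem LocGood.mul_left_cancel (hC : LocGood A C) {s : A} (hs : s ≠ 0) {c c' : C}
    (h : algebraMap A C s * c = algebraMap A C s * c') : c = c' := by
  have : algebraMap A C s * (c - c') = 0 := by rw [mul_sub, h, sub_self]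
  exact sub_eq_zero.mp (hC.eq_zero_of_mul hs this)

theorem LocGood.exists_mul_eq (hC : LocGood A C) {b : K} (hb : IsIntegral A b) {a s : A}
    (hs : s ≠ 0) (hbs : b * algebraMap A K s = algebraMap A K a) :
    ∃ c : C, algebraMap A C s * c = algebraMap A C a := by
  classical
  let J : Ideal C :=
    { carrier := {t | ∃ c : C, t * algebraMap A C a = algebraMap A C s * c}
      add_mem' := by
        rintro t t' ⟨c, hc⟩ ⟨c', hc'⟩
        exact ⟨c + c', by rw [add_mul, hc, hc', mul_add]⟩
      zero_mem' := ⟨0, by simp⟩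
      smul_mem' := by
        rintro r t ⟨c, hc⟩
        exact ⟨r * c, by rw [smul_eq_mul, mul_assoc, hc]; ring⟩ }
  by_cases hJ : J = ⊤
  · have h1 : (1 : C) ∈ J := by rw [hJ]; trivial
    obtain ⟨c, hc⟩ := h1
    exact ⟨c, by rw [← hc, one_mul]⟩
  exfalso
  obtain ⟨m, hm, hJm⟩ := Ideal.exists_le_maximal J hJ
  obtain ⟨hdom, hic, hinj⟩ := hC m
  set D := Localization.AtPrime m with hD
  let g : A →+* FractionRing D := (algebraMap D (FractionRing D)).comp
    ((algebraMap C D).comp (algebraMap A C))
  have hg : Function.Injective g := (IsFractionRing.injective D (FractionRing D)).comp hinj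
  let ℓ : K →+* FractionRing D := IsFractionRing.lift hg
  have hℓ : ∀ x : A, ℓ (algebraMap A K x) = g x := fun x => IsFractionRing.lift_algebraMap hg x
  -- `ℓ b` is integral over `D`
  have hβ : IsIntegral D (ℓ b) := by
    obtain ⟨P, hP, hPb⟩ := hb
    refine ⟨P.map ((algebraMap C D).comp (algebraMap A C)), hP.map _, ?_⟩
    rw [Polynomial.eval₂_map]
    have : (algebraMap D (FractionRing D)).comp ((algebraMap C D).comp (algebraMap A C)) =
        ℓ.comp (algebraMap A K) := by
      ext x; exact (hℓ x).symm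
    rw [this, ← Polynomial.hom_eval₂, hPb, map_zero]
  obtain ⟨δ, hδ⟩ := (IsIntegrallyClosed.isIntegral_iff (R := D) (K := FractionRing D)).mp hβ
  have h2 : algebraMap C D (algebraMap A C s) * δ = algebraMap C D (algebraMap A C a) := by
    apply IsFractionRing.injective D (FractionRing D)
    rw [map_mul, hδ]
    have := congrArg ℓ hbs
    rw [map_mul, hℓ, hℓ] at this
    rw [mul_comm]
    exact this
  obtain ⟨⟨c₀, t₀⟩, hct⟩ := IsLocalization.surj m.primeCompl δ
  -- hct : δ * algebraMap t₀ = algebraMap c₀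
  have h3 : algebraMap C D (algebraMap A C s * c₀ - algebraMap A C a * t₀) = 0 := by
    rw [map_sub, map_mul, map_mul, ← hct, ← h2]
    ring
  obtain ⟨t₁, ht₁⟩ := (IsLocalization.map_eq_zero_iff m.primeCompl D _).mp h3
  have h4 : (t₁ : C) * (t₀ : C) ∈ J := by
    refine ⟨t₁ * c₀, ?_⟩
    have : (t₁ : C) * (algebraMap A C s * c₀) = (t₁ : C) * (algebraMap A C a * t₀) := by
      have := ht₁
      rw [mul_sub] at this
      exact sub_eq_zero.mp this
    calc (t₁ : C) * t₀ * algebraMap A C a = (t₁ : C) * (algebraMap A C a * t₀) := by ring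
      _ = (t₁ : C) * (algebraMap A C s * c₀) := this.symm
      _ = algebraMap A C s * (t₁ * c₀) := by ring
  have h5 := hJm h4
  rcases hm.isPrime.mem_or_mem h5 with h | h
  · exact t₁.2 h
  · exact t₀.2 h

/-- every element of `K` is a quotient -/
theorem exists_rep (b : K) : ∃ a s : A, s ≠ 0 ∧ b * algebraMap A K s = algebraMap A K a := by
  obtain ⟨⟨a, s⟩, h⟩ := IsLocalization.surj (nonZeroDivisors A) b
  exact ⟨a, s, nonZeroDivisors.ne_zero s.2, h⟩

variable (K) in
/-- The value of the lift on an integral element. -/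
noncomputable def liftVal (hC : LocGood A C) (b : integralClosure A K) : C :=
  (hC.exists_mul_eq b.2 (exists_rep (A := A) b.1).choose_spec.choose_spec.1
    (exists_rep (A := A) b.1).choose_spec.choose_spec.2).choose

theorem liftVal_spec (hC : LocGood A C) (b : integralClosure A K) {a s : A} (hs : s ≠ 0)
    (hbs : b.1 * algebraMap A K s = algebraMap A K a) :
    algebraMap A C s * liftVal K hC b = algebraMap A C a := by
  set a₀ := (exists_rep (A := A) b.1).choose with ha₀
  set s₀ := (exists_rep (A := A) b.1).choose_spec.choose with hs₀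
  have hs₀ne : s₀ ≠ 0 := (exists_rep (A := A) b.1).choose_spec.choose_spec.1
  have h₀ : b.1 * algebraMap A K s₀ = algebraMap A K a₀ :=
    (exists_rep (A := A) b.1).choose_spec.choose_spec.2
  have hc : algebraMap A C s₀ * liftVal K hC b = algebraMap A C a₀ :=
    (hC.exists_mul_eq b.2 hs₀ne h₀).choose_spec
  -- `a * s₀ = a₀ * s`
  have hA : a * s₀ = a₀ * s := by
    apply IsFractionRing.injective A K
    rw [map_mul, map_mul, ← hbs, ← h₀]
    ring
  apply hC.mul_left_cancel hs₀ne
  calc algebraMap A C s₀ * (algebraMap A C s * liftVal K hC b)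
      = algebraMap A C s * (algebraMap A C s₀ * liftVal K hC b) := by ring
    _ = algebraMap A C s * algebraMap A C a₀ := by rw [hc]
    _ = algebraMap A C (a₀ * s) := by rw [map_mul]; ring
    _ = algebraMap A C (a * s₀) := by rw [hA]
    _ = algebraMap A C s₀ * algebraMap A C a := by rw [map_mul]; ring

theorem eq_liftVal (hC : LocGood A C) (b : integralClosure A K) {a s : A} (hs : s ≠ 0)
    (hbs : b.1 * algebraMap A K s = algebraMap A K a) {c : C}
    (hc : algebraMap A C s * c = algebraMap A C a) : c = liftVal K hC b :=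
  hC.mul_left_cancel hs (hc.trans (liftVal_spec hC b hs hbs).symm)

variable (K) in
/-- The unique `A`-algebra map from the integral closure of `A` (in its fraction field) to `C`. -/
noncomputable def lift (hC : LocGood A C) : integralClosure A K →ₐ[A] C where
  toFun := liftVal K hC
  map_one' := by
    symm
    apply eq_liftVal hC 1 (a := 1) (s := 1) one_ne_zero
    · simp
    · simp
  map_mul' b₁ b₂ := by
    obtain ⟨a₁, s₁, hs₁, h₁⟩ := exists_rep (A := A) b₁.1
    obtain ⟨a₂, s₂, hs₂, h₂⟩ := exists_rep (A := A) b₂.1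
    symm
    apply eq_liftVal hC (b₁ * b₂) (a := a₁ * a₂) (s := s₁ * s₂) (mul_ne_zero hs₁ hs₂)
    · rw [map_mul, map_mul, ← h₁, ← h₂]
      show b₁.1 * b₂.1 * _ = _
      ring
    · rw [map_mul, map_mul, ← liftVal_spec hC b₁ hs₁ h₁, ← liftVal_spec hC b₂ hs₂ h₂]
      ring
  map_zero' := by
    symm
    apply eq_liftVal hC 0 (a := 0) (s := 1) one_ne_zero
    · simp
    · simp
  map_add' b₁ b₂ := by
    obtain ⟨a₁, s₁, hs₁, h₁⟩ := exists_rep (A := A) b₁.1
    obtain ⟨a₂, s₂, hs₂, h₂⟩ := exists_rep (A := A) b₂.1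
    symm
    apply eq_liftVal hC (b₁ + b₂) (a := a₁ * s₂ + a₂ * s₁) (s := s₁ * s₂) (mul_ne_zero hs₁ hs₂)
    · rw [map_mul, map_add, map_mul, map_mul, ← h₁, ← h₂]
      show (b₁.1 + b₂.1) * _ = _
      ring
    · rw [map_mul, map_add, map_mul, map_mul, ← liftVal_spec hC b₁ hs₁ h₁,
        ← liftVal_spec hC b₂ hs₂ h₂]
      ring
  commutes' a := by
    symm
    apply eq_liftVal hC (algebraMap A (integralClosure A K) a) (a := a) (s := 1) one_ne_zero
    · simp
    · simp

theorem lift_unique (hC : LocGood A C) (ψ ψ' : integralClosure A K →+* C)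
    (hψ : ∀ a, ψ (algebraMap A _ a) = algebraMap A C a)
    (hψ' : ∀ a, ψ' (algebraMap A _ a) = algebraMap A C a) : ψ = ψ' := by
  ext b
  obtain ⟨a, s, hs, h⟩ := exists_rep (A := A) b.1
  apply hC.mul_left_cancel hs
  have hb : b * algebraMap A (integralClosure A K) s = algebraMap A (integralClosure A K) a := by
    apply Subtype.ext
    exact h
  have h1 : algebraMap A C s * ψ b = algebraMap A C a := by
    rw [← hψ s, ← map_mul, mul_comm, hb, hψ]
  have h2 : algebraMap A C s * ψ' b = algebraMap A C a := by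
    rw [← hψ' s, ← map_mul, mul_comm, hb, hψ']
  exact h1.trans h2.symm

end RingLevel

section SchemeLevel

open Groth.Agent.Lib.Helper4.NormCurve Groth.Agent.Lib.Helper4.NormDimOne

/-- stalks normal domains and stalk maps injective -/
def Good {T X : Scheme.{u}} (g : T ⟶ X) : Prop :=
  ∀ t : T, IsDomain (T.presheaf.stalk t) ∧ IsIntegrallyClosed (T.presheaf.stalk t) ∧
    Function.Injective (g.stalkMap t).hom

theorem stalkSpecializes_injective (X : Scheme.{u}) [IsIntegral X] {x x' : X} (h : x ⤳ x') :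
    Function.Injective (X.presheaf.stalkSpecializes h).hom := by
  rw [injective_iff_map_eq_zero]
  intro s hs
  obtain ⟨U, hx', s₀, rfl⟩ := X.presheaf.exists_germ_eq s
  have h1 : X.presheaf.germ U x (h.mem_open U.isOpen hx') s₀ = 0 := by
    rw [← X.presheaf.germ_stalkSpecializes hx' h]
    exact hs
  have h2 : s₀ = 0 := by
    apply germ_injective_of_isIntegral X x (h.mem_open U.isOpen hx')
    rw [h1, map_zero]
  rw [h2, map_zero]

theorem injective_of_eq_genericPoint (X : Scheme.{u}) [IsIntegral X] (x : X)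
    (hx : x = genericPoint X) {R : CommRingCat.{u}} [Nontrivial R] (φ : X.presheaf.stalk x ⟶ R) :
    Function.Injective φ.hom := by
  subst hx
  exact (φ.hom : X.functionField →+* R).injective

theorem good_of_normal_dominant (X : Scheme.{u}) [IsIntegral X] {Z : Scheme.{u}} (g : Z ⟶ X)
    (hZ : Pi1.IsNormalScheme Z)
    (hdom : ∀ z : Z, closure {z} ∈ irreducibleComponents ↥Z → g.base z = genericPoint ↥X) :
    Good g := by
  intro z
  obtain ⟨hd, hic⟩ := hZ z
  refine ⟨hd, hic, ?_⟩
  have hirr : IsIrreducible (irreducibleComponent z) := isIrreducible_irreducibleComponent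
  have hcl : IsClosed (irreducibleComponent z) := isClosed_irreducibleComponent
  set ξ := hirr.genericPoint with hξ
  have hgen : IsGenericPoint ξ (irreducibleComponent z) := hirr.isGenericPoint_genericPoint hcl
  have hξz : ξ ⤳ z := by
    rw [specializes_iff_mem_closure, hgen.def]
    exact mem_irreducibleComponent
  have hgξ : g.base ξ = genericPoint X := by
    apply hdom
    rw [hgen.def]
    exact irreducibleComponent_mem_irreducibleComponents z
  have hnat := Scheme.Hom.stalkSpecializes_stalkMap g ξ z hξz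
  haveI : Nontrivial (Z.presheaf.stalk ξ) := (hZ ξ).1.toNontrivial
  have h1 : Function.Injective (g.stalkMap ξ).hom := injective_of_eq_genericPoint X _ hgξ _
  have h2 : Function.Injective (X.presheaf.stalkSpecializes (g.base.hom.map_specializes hξz)).hom :=
    stalkSpecializes_injective X _
  have h3 : Function.Injective
      (X.presheaf.stalkSpecializes (g.base.hom.map_specializes hξz) ≫ g.stalkMap ξ).hom := by
    rw [CommRingCat.hom_comp]
    exact h1.comp h2
  rw [hnat, CommRingCat.hom_comp] at h3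
  exact Function.Injective.of_comp h3

theorem Good.comp_of_isOpenImmersion {T' T X : Scheme.{u}} (j : T' ⟶ T) [IsOpenImmersion j]
    {g : T ⟶ X} (hg : Good g) : Good (j ≫ g) := by
  intro t'
  obtain ⟨hd, hic, hinj⟩ := hg (j t')
  haveI hiso : IsIso (j.stalkMap t') := (IsOpenImmersion.iff_isIso_stalkMap.mp inferInstance).2 t'
  let e : T.presheaf.stalk (j t') ≃+* T'.presheaf.stalk t' :=
    (asIso (j.stalkMap t')).commRingCatIsoToRingEquiv
  refine ⟨?_, ?_, ?_⟩
  · exact e.symm.toMulEquiv.isDomain_iff.mpr hd  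
  · haveI := hd
    haveI := hic
    exact IsIntegrallyClosed.of_equiv e
  · have h1 : (j ≫ g).stalkMap t' = g.stalkMap (j t') ≫ j.stalkMap t' :=
      Scheme.Hom.stalkMap_comp j g t'
    have h2 : Function.Injective (g.stalkMap (j t') ≫ j.stalkMap t').hom := by
      rw [CommRingCat.hom_comp]
      exact (e.injective).comp hinj
    rw [h1]
    exact h2

theorem locGood_sections {T X : Scheme.{u}} [IsIntegral X] {g : T ⟶ X} (hg : Good g)
    (U : X.Opens) [hne : Nonempty U] (W : T.Opens) (hW : IsAffineOpen W) (e : W ≤ g ⁻¹ᵁ U) :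
    letI := (g.appLE U W e).hom.toAlgebra
    LocGood Γ(X, U) Γ(T, W) := by
  letI := (g.appLE U W e).hom.toAlgebra
  intro m hm
  let y : PrimeSpectrum Γ(T, W) := ⟨m, hm.isPrime⟩
  have ht : hW.fromSpec y ∈ W := by
    have : hW.fromSpec y ∈ hW.fromSpec.opensRange := ⟨y, rfl⟩
    rwa [hW.opensRange_fromSpec] at this
  set t := hW.fromSpec y with ht_def
  obtain ⟨hd, hic, hinj⟩ := hg t
  letI := TopCat.Presheaf.algebra_section_stalk T.presheaf ⟨t, ht⟩
  haveI hloc : IsLocalization.AtPrime (T.presheaf.stalk t) m := hW.isLocalization_stalk' y ht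
  let e' : Localization.AtPrime m ≃ₐ[Γ(T, W)] T.presheaf.stalk t :=
    IsLocalization.algEquiv m.primeCompl _ _
  refine ⟨?_, ?_, ?_⟩
  · exact e'.toRingEquiv.toMulEquiv.isDomain_iff.mpr hd
  · haveI := hd
    haveI := hic
    haveI : IsDomain (Localization.AtPrime m) := e'.toRingEquiv.toMulEquiv.isDomain_iff.mpr hd
    exact IsIntegrallyClosed.of_equiv e'.symm.toRingEquiv
  · have hgt : g t ∈ U := e ht
    have h1 : ∀ a : Γ(X, U), e' (algebraMap Γ(T, W) (Localization.AtPrime m)
        (algebraMap Γ(X, U) Γ(T, W) a)) = g.stalkMap t (X.presheaf.germ U (g t) hgt a) := by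
      intro a
      rw [e'.commutes]
      show T.presheaf.germ W t ht (g.appLE U W e a) = _
      rw [Scheme.Hom.germ_stalkMap_apply, Scheme.Hom.appLE]
      rw [CommRingCat.comp_apply, TopCat.Presheaf.germ_res_apply]
    intro a a' haa'
    have h2 := congrArg e' haa'
    simp only [RingHom.comp_apply] at h2
    rw [h1, h1] at h2
    exact germ_injective_of_isIntegral X (g t) hgt (hinj h2)


variable {X : Scheme.{u}} [IsIntegral X]
  [QuasiCompact (gen X X.functionField (RingHom.id _))]
  [QuasiSeparated (gen X X.functionField (RingHom.id _))]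

theorem appLE_eq_of_good {T : Scheme.{u}} {g : T ⟶ X} (hg : Good g)
    (k k' : T ⟶ (gen X X.functionField (RingHom.id _)).normalization)
    (hk : k ≫ (gen X X.functionField (RingHom.id _)).fromNormalization = g)
    (hk' : k' ≫ (gen X X.functionField (RingHom.id _)).fromNormalization = g)
    (U : X.Opens) (hU : IsAffineOpen U) [hne : Nonempty U] (W : T.Opens) (hW : IsAffineOpen W)
    (i : W ≤ k ⁻¹ᵁ ((gen X X.functionField (RingHom.id _)).fromNormalization ⁻¹ᵁ U))
    (i' : W ≤ k' ⁻¹ᵁ ((gen X X.functionField (RingHom.id _)).fromNormalization ⁻¹ᵁ U)) :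
    k.appLE _ W i = k'.appLE _ W i' := by
  set ν := (gen X X.functionField (RingHom.id _)).fromNormalization with hν
  have e : W ≤ g ⁻¹ᵁ U := by
    intro w hw
    have := i hw
    rw [← hk]
    exact this
  letI algK : Algebra Γ(X, U) X.functionField :=
    ((RingHom.id _).comp (X.germToFunctionField U).hom).toAlgebra
  letI algN := (ν.app U).hom.toAlgebra
  letI algC := (g.appLE U W e).hom.toAlgebra
  haveI : IsFractionRing Γ(X, U) X.functionField :=
    functionField_isFractionRing_of_isAffineOpen X U hU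
  obtain ⟨Φ⟩ := exists_normalizationSectionsAlgEquiv X.functionField (RingHom.id _) U hU
  have hC : LocGood Γ(X, U) Γ(T, W) := locGood_sections hg U W hW e
  have key : ∀ (k₁ : T ⟶ (gen X X.functionField (RingHom.id _)).normalization)
      (hk₁ : k₁ ≫ ν = g) (i₁ : W ≤ k₁ ⁻¹ᵁ (ν ⁻¹ᵁ U)) (a : Γ(X, U)),
      ((k₁.appLE _ W i₁).hom.comp Φ.symm.toRingEquiv.toRingHom)
        (algebraMap Γ(X, U) (integralClosure Γ(X, U) X.functionField) a) =
        algebraMap Γ(X, U) Γ(T, W) a := by
    intro k₁ hk₁ i₁ a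
    have h1 : Φ.symm (algebraMap Γ(X, U) (integralClosure Γ(X, U) X.functionField) a) =
        algebraMap Γ(X, U) _ a := Φ.symm.commutes a
    show (k₁.appLE _ W i₁).hom (Φ.symm _) = _
    rw [h1]
    have h3 : ν.app U ≫ k₁.appLE _ W i₁ = g.appLE U W e := by
      subst hk₁
      exact (Scheme.Hom.comp_appLE _ _ _ _ _).symm
    exact congrArg (fun f => f.hom a) h3
  have h2 := lift_unique (K := X.functionField) hC _ _ (key k hk i) (key k' hk' i')
  ext x
  have := congrArg (fun ψ => ψ (Φ x)) h2
  simpa using this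

theorem exists_affine_nhds {T : Scheme.{u}} (g : T ⟶ X) (t : T) :
    ∃ (U : X.Opens) (_ : IsAffineOpen U) (_ : Nonempty U) (W : T.Opens) (_ : IsAffineOpen W),
      t ∈ W ∧ W ≤ g ⁻¹ᵁ U := by
  obtain ⟨U, hU, htU, -⟩ := TopologicalSpace.Opens.isBasis_iff_nbhd.mp X.isBasis_affineOpens
    (show g t ∈ (⊤ : X.Opens) from trivial)
  obtain ⟨W, hW, htW, hWU⟩ := TopologicalSpace.Opens.isBasis_iff_nbhd.mp T.isBasis_affineOpens
    (show t ∈ g ⁻¹ᵁ U from htU)
  exact ⟨U, hU, ⟨⟨g t, htU⟩⟩, W, hW, htW, hWU⟩

theorem hom_ext_of_good {T : Scheme.{u}} {g : T ⟶ X} (hg : Good g)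
    (k k' : T ⟶ (gen X X.functionField (RingHom.id _)).normalization)
    (hk : k ≫ (gen X X.functionField (RingHom.id _)).fromNormalization = g)
    (hk' : k' ≫ (gen X X.functionField (RingHom.id _)).fromNormalization = g) : k = k' := by
  apply Scheme.hom_ext_of_forall
  intro t
  obtain ⟨U, hU, hne, W, hW, htW, hWU⟩ := exists_affine_nhds g t
  refine ⟨W, htW, ?_⟩
  set ν := (gen X X.functionField (RingHom.id _)).fromNormalization with hν
  have hV : IsAffineOpen (ν ⁻¹ᵁ U) := hU.preimage ν
  have i : W ≤ k ⁻¹ᵁ (ν ⁻¹ᵁ U) := by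
    intro w hw
    have := hWU hw
    rw [← hk] at this
    exact this
  have i' : W ≤ k' ⁻¹ᵁ (ν ⁻¹ᵁ U) := by
    intro w hw
    have := hWU hw
    rw [← hk'] at this
    exact this
  have h1 := appLE_eq_of_good hg k k' hk hk' U hU W hW i i'
  have h2 := IsAffineOpen.SpecMap_appLE_fromSpec k hV hW i
  have h3 := IsAffineOpen.SpecMap_appLE_fromSpec k' hV hW i'
  rw [h1] at h2
  have h4 : hW.fromSpec ≫ k = hW.fromSpec ≫ k' := h2.symm.trans h3
  rw [← hW.isoSpec_hom_fromSpec, Category.assoc, Category.assoc, h4]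

theorem exists_local_fac {T : Scheme.{u}} {g : T ⟶ X} (hg : Good g)
    (U : X.Opens) (hU : IsAffineOpen U) [hne : Nonempty U] (W : T.Opens) (hW : IsAffineOpen W)
    (e : W ≤ g ⁻¹ᵁ U) :
    ∃ h : W.toScheme ⟶ (gen X X.functionField (RingHom.id _)).normalization,
      h ≫ (gen X X.functionField (RingHom.id _)).fromNormalization = W.ι ≫ g := by
  set ν := (gen X X.functionField (RingHom.id _)).fromNormalization with hν
  have hV : IsAffineOpen (ν ⁻¹ᵁ U) := hU.preimage ν
  letI algK : Algebra Γ(X, U) X.functionField :=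
    ((RingHom.id _).comp (X.germToFunctionField U).hom).toAlgebra
  letI algN := (ν.app U).hom.toAlgebra
  letI algC := (g.appLE U W e).hom.toAlgebra
  haveI : IsFractionRing Γ(X, U) X.functionField :=
    functionField_isFractionRing_of_isAffineOpen X U hU
  obtain ⟨Φ⟩ := exists_normalizationSectionsAlgEquiv X.functionField (RingHom.id _) U hU
  have hC : LocGood Γ(X, U) Γ(T, W) := locGood_sections hg U W hW e
  let ψ : Γ((gen X X.functionField (RingHom.id _)).normalization, ν ⁻¹ᵁ U) →ₐ[Γ(X, U)] Γ(T, W) :=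
    (lift X.functionField hC).comp Φ.toAlgHom
  refine ⟨hW.isoSpec.hom ≫ Spec.map (CommRingCat.ofHom ψ.toRingHom) ≫ hV.fromSpec, ?_⟩
  have h1 : hV.fromSpec ≫ ν = Spec.map (ν.appLE U (ν ⁻¹ᵁ U) le_rfl) ≫ hU.fromSpec :=
    (IsAffineOpen.SpecMap_appLE_fromSpec ν hU hV le_rfl).symm
  have h2 : ν.appLE U (ν ⁻¹ᵁ U) le_rfl ≫ CommRingCat.ofHom ψ.toRingHom = g.appLE U W e := by
    ext a
    rw [Scheme.Hom.appLE_eq_app]
    exact ψ.commutes a
  rw [Category.assoc, Category.assoc, h1, ← Category.assoc (Spec.map _), ← Spec.map_comp, h2,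
    IsAffineOpen.SpecMap_appLE_fromSpec g hU hW e, ← Category.assoc, hW.isoSpec_hom_fromSpec]

theorem exists_fac_of_cover {T : Scheme.{u}} {g : T ⟶ X} (hg : Good g) (𝒰 : T.OpenCover)
    (hloc : ∀ i, ∃ h : 𝒰.X i ⟶ (gen X X.functionField (RingHom.id _)).normalization,
      h ≫ (gen X X.functionField (RingHom.id _)).fromNormalization = 𝒰.f i ≫ g) :
    ∃ h : T ⟶ (gen X X.functionField (RingHom.id _)).normalization,
      h ≫ (gen X X.functionField (RingHom.id _)).fromNormalization = g := by
  choose h hh using hloc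
  have hcompat : ∀ x y, pullback.fst (𝒰.f x) (𝒰.f y) ≫ h x =
      pullback.snd (𝒰.f x) (𝒰.f y) ≫ h y := by
    intro x y
    have hgood : Good ((pullback.fst (𝒰.f x) (𝒰.f y) ≫ 𝒰.f x) ≫ g) :=
      hg.comp_of_isOpenImmersion _
    apply hom_ext_of_good hgood
    · rw [Category.assoc, hh x, Category.assoc]
    · rw [Category.assoc, hh y, pullback.condition, Category.assoc]
  refine ⟨𝒰.glueMorphisms h hcompat, ?_⟩
  apply 𝒰.hom_ext
  intro t
  rw [Scheme.Cover.ι_glueMorphisms_assoc]
  exact hh t

theorem exists_fac_of_good {T : Scheme.{u}} {g : T ⟶ X} (hg : Good g) :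
    ∃ h : T ⟶ (gen X X.functionField (RingHom.id _)).normalization,
      h ≫ (gen X X.functionField (RingHom.id _)).fromNormalization = g := by
  choose U hU hne W hW htW hWU using exists_affine_nhds (X := X) g
  have hcov : TopologicalSpace.IsOpenCover W := by
    rw [TopologicalSpace.IsOpenCover, eq_top_iff]
    intro t _
    exact TopologicalSpace.Opens.mem_iSup.mpr ⟨t, htW t⟩
  refine exists_fac_of_cover hg (T.openCoverOfIsOpenCover W hcov) (fun t => ?_)
  haveI := hne t
  exact exists_local_fac hg (U t) (hU t) (W t) (hW t) (hWU t)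

theorem existsUnique_fac_of_good {T : Scheme.{u}} {g : T ⟶ X} (hg : Good g) :
    ∃! h : T ⟶ (gen X X.functionField (RingHom.id _)).normalization,
      h ≫ (gen X X.functionField (RingHom.id _)).fromNormalization = g := by
  obtain ⟨h, hh⟩ := exists_fac_of_good hg
  exact ⟨h, hh, fun h' hh' => hom_ext_of_good hg h' h hh' hh⟩


/-- Transport to any `γ` equal to `gen`. -/
theorem existsUnique_fac_of_eq (γ : Spec (CommRingCat.of X.functionField) ⟶ X)
    (hγ : γ = gen X X.functionField (RingHom.id _)) [QuasiCompact γ] [QuasiSeparated γ]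
    {T : Scheme.{u}} {g : T ⟶ X} (hg : Good g) :
    ∃! h : T ⟶ γ.normalization, h ≫ γ.fromNormalization = g := by
  subst hγ
  exact existsUnique_fac_of_good hg

end SchemeLevel

end Groth.Agent.Lib.Helper4.NormFac
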