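import Mathlib

/-!
# Linear algebra in a finite-dimensional commutative algebra over a field (helper4)

Let `Λ` be a finite-dimensional commutative algebra over a field `κ`, `a : Λ`, and `k` the multiplicity of
`0` as a root of the characteristic polynomial `P` of the multiplication by `a`, `P = X ^ k * Q`.

* `isNilpotent_mul_of_natTrailingDegree_le`: if `s` is killed by `a ^ k` and the characteristic polynomial
  of `a + s * b` still has `0` as a root of multiplicity `≥ k`, then `s * b` is nilpotent.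
* `not_isNilpotent_aeval_of_natTrailingDegree`: if `k ≥ 1`, then `Q(a)` is not nilpotent.
-/

set_option autoImplicit false

open Polynomial

namespace Groth.Agent.Lib.Helper4.Nwd

variable {κ Λ : Type*} [Field κ] [CommRing Λ] [Algebra κ Λ] [Module.Finite κ Λ]

omit [Module.Finite κ Λ] in
theorem mem_maxGenEigenspace_lmul_iff (y z : Λ) :
    z ∈ (Algebra.lmul κ Λ y).maxGenEigenspace 0 ↔ ∃ n : ℕ, y ^ n * z = 0 := by
  rw [Module.End.mem_maxGenEigenspace]
  simp only [zero_smul, sub_zero]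
  constructor
  · rintro ⟨n, hn⟩
    refine ⟨n, ?_⟩
    rw [← map_pow] at hn
    simpa using hn
  · rintro ⟨n, hn⟩
    refine ⟨n, ?_⟩
    rw [← map_pow]
    simpa using hn

theorem aeval_self_charpoly_lmul (a : Λ) : aeval a (Algebra.lmul κ Λ a).charpoly = 0 := by
  apply Algebra.lmul_injective (R := κ)
  rw [map_zero, ← Polynomial.aeval_algHom_apply]
  exact LinearMap.aeval_self_charpoly _

theorem isNilpotent_mul_of_natTrailingDegree_le (a b s : Λ) (k : ℕ)
    (hk : (Algebra.lmul κ Λ a).charpoly.natTrailingDegree = k) (hs : a ^ k * s = 0)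
    (hy : k ≤ (Algebra.lmul κ Λ (a + s * b)).charpoly.natTrailingDegree) :
    IsNilpotent (s * b) := by
  set y : Λ := a + s * b with hydef
  -- `a ^ k * y ^ n = a ^ (k + n)`
  have hpow : ∀ n : ℕ, a ^ k * y ^ n = a ^ (k + n) := by
    intro n
    induction n with
    | zero => simp
    | succ n ih =>
      rw [pow_succ, ← mul_assoc, ih, hydef, mul_add, ← pow_succ, add_assoc]
      have h1 : a ^ (k + n) * (s * b) = a ^ n * b * (a ^ k * s) := by ring
      rw [h1, hs, mul_zero, add_zero]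
  have hle : (Algebra.lmul κ Λ y).maxGenEigenspace 0 ≤ (Algebra.lmul κ Λ a).maxGenEigenspace 0 := by
    intro z hz
    rw [mem_maxGenEigenspace_lmul_iff] at hz ⊢
    obtain ⟨n, hn⟩ := hz
    refine ⟨k + n, ?_⟩
    rw [← hpow n, mul_assoc, hn, mul_zero]
  have hfin : Module.finrank κ ((Algebra.lmul κ Λ a).maxGenEigenspace 0) ≤
      Module.finrank κ ((Algebra.lmul κ Λ y).maxGenEigenspace 0) := by
    rw [LinearMap.finrank_maxGenEigenspace_zero_eq, LinearMap.finrank_maxGenEigenspace_zero_eq, hk]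
    exact hy
  have heq : (Algebra.lmul κ Λ y).maxGenEigenspace 0 = (Algebra.lmul κ Λ a).maxGenEigenspace 0 :=
    Submodule.eq_of_le_of_finrank_le hle hfin
  have hsmem : s ∈ (Algebra.lmul κ Λ y).maxGenEigenspace 0 := by
    rw [heq, mem_maxGenEigenspace_lmul_iff]
    exact ⟨k, hs⟩
  rw [mem_maxGenEigenspace_lmul_iff] at hsmem
  obtain ⟨n, hn⟩ := hsmem
  -- in `Λ ⧸ Ann s`, both `y` and `a` are nilpotent
  set 𝔞 : Ideal Λ := (Ideal.span {s}).annihilator with h𝔞
  have hmem : ∀ z : Λ, z ∈ 𝔞 ↔ z * s = 0 := by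
    intro z
    rw [h𝔞, Submodule.mem_annihilator_span_singleton, smul_eq_mul]
  have hy𝔞 : IsNilpotent (Ideal.Quotient.mk 𝔞 y) :=
    ⟨n, by rw [← map_pow, Ideal.Quotient.eq_zero_iff_mem, hmem]; exact hn⟩
  have ha𝔞 : IsNilpotent (Ideal.Quotient.mk 𝔞 a) :=
    ⟨k, by rw [← map_pow, Ideal.Quotient.eq_zero_iff_mem, hmem]; exact hs⟩
  have hsb : IsNilpotent (Ideal.Quotient.mk 𝔞 (s * b)) := by
    have h1 : s * b = y - a := by rw [hydef]; ring
    rw [h1, map_sub]
    exact (Commute.all _ _).isNilpotent_sub hy𝔞 ha𝔞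
  obtain ⟨N, hN⟩ := hsb
  rw [← map_pow, Ideal.Quotient.eq_zero_iff_mem, hmem] at hN
  refine ⟨N + 1, ?_⟩
  rw [pow_succ]
  have h2 : (s * b) ^ N * (s * b) = (s * b) ^ N * s * b := by ring
  rw [h2, hN, zero_mul]

theorem not_isNilpotent_aeval_of_natTrailingDegree (a : Λ) (k : ℕ) (hk1 : 1 ≤ k) (Q : κ[X])
    (hk : (Algebra.lmul κ Λ a).charpoly.natTrailingDegree = k)
    (hQ : (Algebra.lmul κ Λ a).charpoly = X ^ k * Q) :
    ¬ IsNilpotent (aeval a Q) := by
  have hP0 : (Algebra.lmul κ Λ a).charpoly ≠ 0 := (LinearMap.charpoly_monic _).ne_zero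
  have hQ0 : Q.coeff 0 ≠ 0 := by
    have h1 : (Algebra.lmul κ Λ a).charpoly.coeff k ≠ 0 := by
      rw [← hk]
      exact Polynomial.trailingCoeff_nonzero_iff_nonzero.mpr hP0
    rw [hQ, Polynomial.coeff_X_pow_mul' ] at h1
    simpa using h1
  -- a nonzero element `z'` with `a * z' = 0`
  have hfin : Module.finrank κ ((Algebra.lmul κ Λ a).maxGenEigenspace 0) = k := by
    rw [LinearMap.finrank_maxGenEigenspace_zero_eq, hk]
  have hne : (Algebra.lmul κ Λ a).maxGenEigenspace 0 ≠ ⊥ := by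
    intro hbot
    rw [hbot, finrank_bot] at hfin
    omega
  obtain ⟨z, hz, hz0⟩ := Submodule.exists_mem_ne_zero_of_ne_bot hne
  rw [mem_maxGenEigenspace_lmul_iff] at hz
  classical
  have hex : ∃ n : ℕ, a ^ n * z = 0 := hz
  set n := Nat.find hex with hn
  have hn0 : n ≠ 0 := by
    intro h0
    have := Nat.find_spec hex
    rw [← hn, h0, pow_zero, one_mul] at this
    exact hz0 this
  obtain ⟨n', hn'⟩ := Nat.exists_eq_succ_of_ne_zero hn0
  set z' : Λ := a ^ n' * z with hz'
  have hz'0 : z' ≠ 0 := by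
    have := Nat.find_min hex (m := n') (by omega)
    exact this
  have haz' : a * z' = 0 := by
    have := Nat.find_spec hex
    rw [← hn, hn', pow_succ'] at this
    rw [hz', ← mul_assoc]
    exact this
  have hQz' : ∀ N : ℕ, aeval a Q ^ N * z' = algebraMap κ Λ (Q.coeff 0 ^ N) * z' := by
    intro N
    induction N with
    | zero => simp
    | succ N ih =>
      have h1 : aeval a Q * z' = algebraMap κ Λ (Q.coeff 0) * z' := by
        conv_lhs => rw [← Polynomial.divX_mul_X_add Q]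
        rw [map_add, map_mul, aeval_X, aeval_C, add_mul, mul_assoc, haz', mul_zero, zero_add]
      rw [pow_succ, mul_assoc, h1, ← mul_assoc, mul_comm (aeval a Q ^ N), mul_assoc, ih, ← mul_assoc,
        ← map_mul, ← pow_succ']
  rintro ⟨N, hN⟩
  have h3 := hQz' N
  rw [hN, zero_mul] at h3
  have h4 : algebraMap κ Λ (Q.coeff 0 ^ N) * z' = (Q.coeff 0 ^ N) • z' := by
    rw [Algebra.smul_def]
  rw [h4] at h3
  exact hz'0 ((smul_eq_zero.mp h3.symm).resolve_left (pow_ne_zero N hQ0))

end Groth.Agent.Lib.Helper4.Nwd
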