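import Groth.Agent.Lib.Helper4NwdA

/-!
# Finite free algebras: a closed set dominating an open set of the base has nonempty interior (helper4)

Let `A` be a finite free `R`-algebra and `J` an ideal of `A` such that `V(J) → Spec R` covers a nonempty
basic open `D(g)`. Then `V(J)` contains a nonempty basic open of `Spec A`
(`exists_mul_nilpotent`). Consequently the image of a closed nowhere dense subset of `Spec A` in
`Spec R` has empty interior (`interior_image_comap_eq_empty`).
-/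

set_option autoImplicit false
set_option linter.style.haveILetI false

open Polynomial TensorProduct

namespace Groth.Agent.Lib.Helper4.Nwd

variable {R A : Type*} [CommRing R] [CommRing A] [Algebra R A] [Module.Free R A] [Module.Finite R A]

theorem aeval_self_charpoly_lmul' (a : A) : aeval a (Algebra.lmul R A a).charpoly = 0 := by
  apply Algebra.lmul_injective (R := R)
  rw [map_zero, ← Polynomial.aeval_algHom_apply]
  exact LinearMap.aeval_self_charpoly _

/-- The constant coefficient of the characteristic polynomial of `x` is a multiple of `x`. -/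
theorem algebraMap_coeff_zero_charpoly_mem (J : Ideal A) (x : A) (hx : x ∈ J) :
    algebraMap R A ((Algebra.lmul R A x).charpoly.coeff 0) ∈ J := by
  have h1 := aeval_self_charpoly_lmul' (R := R) x
  rw [← Polynomial.divX_mul_X_add (Algebra.lmul R A x).charpoly, map_add, map_mul, aeval_X, aeval_C]
    at h1
  have h2 : algebraMap R A ((Algebra.lmul R A x).charpoly.coeff 0) =
      -(aeval x (Algebra.lmul R A x).charpoly.divX * x) := eq_neg_of_add_eq_zero_right h1
  rw [h2]
  exact J.neg_mem (J.mul_mem_left _ hx)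

theorem charpoly_lmul_one_tmul (𝔭 : Ideal R) [𝔭.IsPrime] (x : A) :
    (Algebra.lmul 𝔭.ResidueField (𝔭.ResidueField ⊗[R] A) (1 ⊗ₜ[R] x)).charpoly =
      (Algebra.lmul R A x).charpoly.map (algebraMap R 𝔭.ResidueField) := by
  rw [← Algebra.baseChange_lmul, LinearMap.charpoly_baseChange]

theorem coeff_charpoly_lmul_one_tmul_eq_zero_iff (𝔭 : Ideal R) [𝔭.IsPrime] (x : A) (t : ℕ) :
    (Algebra.lmul 𝔭.ResidueField (𝔭.ResidueField ⊗[R] A) (1 ⊗ₜ[R] x)).charpoly.coeff t = 0 ↔
      (Algebra.lmul R A x).charpoly.coeff t ∈ 𝔭 := by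
  rw [charpoly_lmul_one_tmul, Polynomial.coeff_map, Ideal.algebraMap_residueField_eq_zero]

theorem le_natTrailingDegree_one_tmul (𝔭 : Ideal R) [𝔭.IsPrime] (x : A) (k : ℕ)
    (hx : ∀ t < k, (Algebra.lmul R A x).charpoly.coeff t ∈ 𝔭) :
    k ≤ (Algebra.lmul 𝔭.ResidueField (𝔭.ResidueField ⊗[R] A) (1 ⊗ₜ[R] x)).charpoly.natTrailingDegree := by
  apply Polynomial.le_natTrailingDegree (LinearMap.charpoly_monic _).ne_zero
  intro t ht
  rw [coeff_charpoly_lmul_one_tmul_eq_zero_iff]
  exact hx t ht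

/-- The analysis in the fibre over a prime `𝔭`. -/
theorem fibre_key (𝔭 : Ideal R) [𝔭.IsPrime] (a b : A) (k : ℕ) (hk1 : 1 ≤ k)
    (ha : ∀ t < k, (Algebra.lmul R A a).charpoly.coeff t ∈ 𝔭)
    (hak : (Algebra.lmul R A a).charpoly.coeff k ∉ 𝔭)
    (hy : ∀ t < k, (Algebra.lmul R A
      (a + aeval a ((Algebra.lmul R A a).charpoly /ₘ X ^ k) * b)).charpoly.coeff t ∈ 𝔭) :
    IsNilpotent ((1 : 𝔭.ResidueField) ⊗ₜ[R] (aeval a ((Algebra.lmul R A a).charpoly /ₘ X ^ k) * b)) ∧
      ¬ IsNilpotent ((1 : 𝔭.ResidueField) ⊗ₜ[R] (aeval a ((Algebra.lmul R A a).charpoly /ₘ X ^ k))) := by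
  set Q : R[X] := (Algebra.lmul R A a).charpoly /ₘ X ^ k with hQ
  set s₀ : A := aeval a Q with hs₀
  set κ := 𝔭.ResidueField
  set ā : κ ⊗[R] A := 1 ⊗ₜ[R] a with hā
  have hk : (Algebra.lmul κ (κ ⊗[R] A) ā).charpoly.natTrailingDegree = k := by
    apply le_antisymm
    · apply Polynomial.natTrailingDegree_le_of_ne_zero
      rw [Ne, coeff_charpoly_lmul_one_tmul_eq_zero_iff]
      exact hak
    · exact le_natTrailingDegree_one_tmul 𝔭 a k ha
  -- the factorization of the characteristic polynomial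
  have hfact : (Algebra.lmul κ (κ ⊗[R] A) ā).charpoly = X ^ k * Q.map (algebraMap R κ) := by
    have hdvd : X ^ k ∣ (Algebra.lmul κ (κ ⊗[R] A) ā).charpoly := by
      rw [Polynomial.X_pow_dvd_iff]
      intro t ht
      rw [coeff_charpoly_lmul_one_tmul_eq_zero_iff]
      exact ha t ht
    obtain ⟨Q', hQ'⟩ := hdvd
    have h1 : Q.map (algebraMap R κ) = Q' := by
      rw [hQ, Polynomial.map_divByMonic _ (monic_X_pow k), ← charpoly_lmul_one_tmul, hQ',
        Polynomial.map_pow, Polynomial.map_X, Polynomial.mul_divByMonic_cancel_left _ (monic_X_pow k)]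
    rw [h1]
    exact hQ'
  -- `1 ⊗ s₀` is `Q̄(ā)`
  have hsbar : (1 : κ) ⊗ₜ[R] s₀ = aeval ā (Q.map (algebraMap R κ)) := by
    rw [Polynomial.aeval_map_algebraMap, hā]
    have h1 : (1 : κ) ⊗ₜ[R] a = (Algebra.TensorProduct.includeRight : A →ₐ[R] κ ⊗[R] A) a := rfl
    rw [h1, Polynomial.aeval_algHom_apply]
    rfl
  have hkill : ā ^ k * ((1 : κ) ⊗ₜ[R] s₀) = 0 := by
    have h1 := aeval_self_charpoly_lmul (κ := κ) ā
    rw [hfact, map_mul, map_pow, aeval_X] at h1
    rw [hsbar]
    exact h1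
  constructor
  · have h1 : ā + ((1 : κ) ⊗ₜ[R] s₀) * ((1 : κ) ⊗ₜ[R] b) = (1 : κ) ⊗ₜ[R] (a + s₀ * b) := by
      rw [hā, Algebra.TensorProduct.tmul_mul_tmul, mul_one, TensorProduct.tmul_add]
    have h2 := isNilpotent_mul_of_natTrailingDegree_le (κ := κ) ā ((1 : κ) ⊗ₜ[R] b)
      ((1 : κ) ⊗ₜ[R] s₀) k hk hkill (by
        rw [h1]
        exact le_natTrailingDegree_one_tmul 𝔭 _ k hy)
    rw [Algebra.TensorProduct.tmul_mul_tmul, mul_one] at h2
    exact h2
  · rw [hsbar]
    exact not_isNilpotent_aeval_of_natTrailingDegree (κ := κ) ā k hk1 _ hk hfact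

end Groth.Agent.Lib.Helper4.Nwd
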