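import Groth.Agent.Lib.Helper4NwdB

/-!
# Finite free algebras: images of closed nowhere dense sets (helper4)

* `exists_mul_nilpotent`: `A` finite free over `R`, `J` an ideal of `A` with `V(J) → Spec R` covering a
  nonempty basic open `D(g)`; then there is a non-nilpotent `s : A` with `s * J` nilpotent, i.e.
  `∅ ≠ D(s) ⊆ V(J)`.
* `interior_image_comap_eq_empty_of_free`: the image in `Spec R` of a closed nowhere dense subset of
  `Spec A` has empty interior.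
-/

set_option autoImplicit false
set_option linter.style.haveILetI false

open Polynomial TensorProduct

namespace Groth.Agent.Lib.Helper4.Nwd

variable {R A : Type*} [CommRing R] [CommRing A] [Algebra R A] [Module.Free R A] [Module.Finite R A]

theorem exists_mul_nilpotent (J : Ideal A) (g : R) (hg : ¬ IsNilpotent g)
    (hJ : ∀ 𝔭 : Ideal R, 𝔭.IsPrime → g ∉ 𝔭 → ∃ 𝔮 : Ideal A, 𝔮.IsPrime ∧ J ≤ 𝔮 ∧ 𝔮.under R = 𝔭) :
    ∃ s : A, ¬ IsNilpotent s ∧ ∀ b ∈ J, IsNilpotent (s * b) := by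
  classical
  haveI : Nontrivial R := by
    by_contra hnt
    rw [not_nontrivial_iff_subsingleton] at hnt
    exact hg ⟨1, Subsingleton.elim _ _⟩
  -- the minimal index of a "non-nilpotent" coefficient
  have hex : ∃ k : ℕ, ∃ x ∈ J, ¬ IsNilpotent (g * (Algebra.lmul R A x).charpoly.coeff k) := by
    refine ⟨(Algebra.lmul R A (0 : A)).charpoly.natDegree, 0, J.zero_mem, ?_⟩
    rw [Polynomial.coeff_natDegree, (LinearMap.charpoly_monic _).leadingCoeff, mul_one]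
    exact hg
  set k := Nat.find hex with hkdef
  obtain ⟨a, haJ, hak⟩ := Nat.find_spec hex
  rw [← hkdef] at hak
  have hmin : ∀ t < k, ∀ x ∈ J, IsNilpotent (g * (Algebra.lmul R A x).charpoly.coeff t) := by
    intro t ht x hx
    by_contra hnot
    exact Nat.find_min hex ht ⟨x, hx, hnot⟩
  -- `k ≥ 1`
  have hk1 : 1 ≤ k := by
    by_contra hlt
    have hk0 : k = 0 := by omega
    apply hak
    rw [hk0, nilpotent_iff_mem_prime]
    intro 𝔭 h𝔭
    by_cases hg𝔭 : g ∈ 𝔭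
    · exact 𝔭.mul_mem_right _ hg𝔭
    · obtain ⟨𝔮, h𝔮, hJ𝔮, h𝔮𝔭⟩ := hJ 𝔭 h𝔭 hg𝔭
      apply 𝔭.mul_mem_left
      rw [← h𝔮𝔭]
      exact hJ𝔮 (algebraMap_coeff_zero_charpoly_mem J a haJ)
  set c : R := g * (Algebra.lmul R A a).charpoly.coeff k with hc
  set Q : R[X] := (Algebra.lmul R A a).charpoly /ₘ X ^ k with hQ
  set s₀ : A := aeval a Q with hs₀
  -- the fibrewise statement
  have hfib : ∀ 𝔭 : Ideal R, ∀ _ : 𝔭.IsPrime, c ∉ 𝔭 →
      (∀ b ∈ J, IsNilpotent ((1 : 𝔭.ResidueField) ⊗ₜ[R] (s₀ * b))) ∧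
        ¬ IsNilpotent ((1 : 𝔭.ResidueField) ⊗ₜ[R] s₀) := by
    intro 𝔭 h𝔭 hc𝔭
    have hg𝔭 : g ∉ 𝔭 := fun h => hc𝔭 (𝔭.mul_mem_right _ h)
    have hak𝔭 : (Algebra.lmul R A a).charpoly.coeff k ∉ 𝔭 := fun h => hc𝔭 (𝔭.mul_mem_left _ h)
    have hlow : ∀ x ∈ J, ∀ t < k, (Algebra.lmul R A x).charpoly.coeff t ∈ 𝔭 := by
      intro x hx t ht
      have h1 := nilpotent_iff_mem_prime.mp (hmin t ht x hx) 𝔭 h𝔭
      exact (h𝔭.mem_or_mem h1).resolve_left hg𝔭
    refine ⟨fun b hb => ?_, ?_⟩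
    · exact (fibre_key 𝔭 a b k hk1 (hlow a haJ) hak𝔭
        (hlow _ (J.add_mem haJ (J.mul_mem_left _ hb)))).1
    · exact (fibre_key 𝔭 a 0 k hk1 (hlow a haJ) hak𝔭
        (hlow _ (J.add_mem haJ (J.mul_mem_left _ J.zero_mem)))).2
  refine ⟨algebraMap R A c * s₀, ?_, ?_⟩
  · -- not nilpotent
    obtain ⟨𝔭, h𝔭, hc𝔭⟩ : ∃ 𝔭 : Ideal R, 𝔭.IsPrime ∧ c ∉ 𝔭 := by
      by_contra hnot
      push Not at hnot
      exact hak (nilpotent_iff_mem_prime.mpr hnot)
    intro hnil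
    have h1 := hnil.map (Algebra.TensorProduct.includeRight : A →ₐ[R] 𝔭.ResidueField ⊗[R] A)
    have h2 : (Algebra.TensorProduct.includeRight : A →ₐ[R] 𝔭.ResidueField ⊗[R] A)
        (algebraMap R A c * s₀) = algebraMap R 𝔭.ResidueField c • ((1 : 𝔭.ResidueField) ⊗ₜ[R] s₀) := by
      rw [← Algebra.smul_def, map_smul, algebraMap_smul]
      rfl
    rw [h2] at h1
    have hcu : algebraMap R 𝔭.ResidueField c ≠ 0 := by
      rw [Ne, Ideal.algebraMap_residueField_eq_zero]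
      exact hc𝔭
    obtain ⟨N, hN⟩ := h1
    rw [_root_.smul_pow] at hN
    apply (hfib 𝔭 h𝔭 hc𝔭).2
    exact ⟨N, (smul_eq_zero.mp hN).resolve_left (pow_ne_zero N hcu)⟩
  · intro b hb
    rw [nilpotent_iff_mem_prime]
    intro 𝔮 h𝔮
    by_cases hc𝔮 : algebraMap R A c ∈ 𝔮
    · rw [mul_assoc]
      exact 𝔮.mul_mem_right _ hc𝔮
    · rw [mul_assoc]
      apply 𝔮.mul_mem_left
      by_contra hsb
      have hc𝔭 : c ∉ 𝔮.under R := hc𝔮
      have h1 := (hfib (𝔮.under R) inferInstance hc𝔭).1 b hb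
      have h2 : (⟨𝔮.under R, inferInstance⟩ : PrimeSpectrum R) ∈
          PrimeSpectrum.comap (algebraMap R A) '' (PrimeSpectrum.basicOpen (s₀ * b) : Set _) :=
        ⟨⟨𝔮, h𝔮⟩, hsb, rfl⟩
      rw [PrimeSpectrum.mem_image_comap_basicOpen] at h2
      apply h2
      have h3 := h1.map (Algebra.TensorProduct.comm R (𝔮.under R).ResidueField A)
      rw [Algebra.TensorProduct.comm_tmul] at h3
      exact h3

end Groth.Agent.Lib.Helper4.Nwd
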