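import Groth.Agent.Lib.Helper4NwdC

/-!
# Finite ring maps send closed nowhere dense sets to nowhere dense sets (helper4)

* `interior_image_comap_eq_empty_of_free`: the finite free case.
* `isNowhereDense_image_comap_of_finite`: for a module-finite `R`-algebra `A`, the image in `Spec R` of a
  closed nowhere dense subset of `Spec A` is (closed and) nowhere dense. No Noetherian hypothesis.
-/

set_option autoImplicit false
set_option linter.style.haveILetI false

open Polynomial TensorProduct

namespace Groth.Agent.Lib.Helper4.Nwd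

theorem interior_image_comap_eq_empty_of_free {R A : Type*} [CommRing R] [CommRing A] [Algebra R A]
    [Module.Free R A] [Module.Finite R A] (T : Set (PrimeSpectrum A)) (hT : IsClosed T)
    (hnd : IsNowhereDense T) :
    interior (PrimeSpectrum.comap (algebraMap R A) '' T) = ∅ := by
  by_contra hne
  obtain ⟨x, hx⟩ := Set.nonempty_iff_ne_empty.mpr hne
  obtain ⟨_, ⟨g, rfl⟩, hxg, hgsub⟩ :=
    PrimeSpectrum.isTopologicalBasis_basic_opens.exists_subset_of_mem_open hx isOpen_interior
  have hg : ¬ IsNilpotent g := by
    intro hnil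
    have h1 : g ∈ x.asIdeal := nilpotent_iff_mem_prime.mp hnil x.asIdeal x.2
    exact hxg h1
  set J : Ideal A := PrimeSpectrum.vanishingIdeal T with hJdef
  have hTJ : PrimeSpectrum.zeroLocus (J : Set A) = T := by
    rw [hJdef, PrimeSpectrum.zeroLocus_vanishingIdeal_eq_closure, hT.closure_eq]
  obtain ⟨s, hs, hsJ⟩ := exists_mul_nilpotent (R := R) J g hg (by
    intro 𝔭 h𝔭 hg𝔭
    have h1 : (⟨𝔭, h𝔭⟩ : PrimeSpectrum R) ∈ PrimeSpectrum.comap (algebraMap R A) '' T :=
      interior_subset (hgsub hg𝔭)
    obtain ⟨𝔮, h𝔮T, h𝔮⟩ := h1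
    refine ⟨𝔮.asIdeal, 𝔮.2, ?_, congrArg PrimeSpectrum.asIdeal h𝔮⟩
    rw [← hTJ] at h𝔮T
    exact h𝔮T)
  have hsub : (PrimeSpectrum.basicOpen s : Set (PrimeSpectrum A)) ⊆ T := by
    intro 𝔮 h𝔮
    rw [← hTJ, PrimeSpectrum.mem_zeroLocus]
    intro b hb
    have h1 : s * b ∈ 𝔮.asIdeal := nilpotent_iff_mem_prime.mp (hsJ b hb) 𝔮.asIdeal 𝔮.2
    exact (𝔮.2.mem_or_mem h1).resolve_left h𝔮
  have hne' : (PrimeSpectrum.basicOpen s : Set (PrimeSpectrum A)).Nonempty := by
    rw [Set.nonempty_iff_ne_empty]
    intro hempty
    apply hs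
    rw [← PrimeSpectrum.basicOpen_eq_bot_iff]
    exact TopologicalSpace.Opens.ext hempty
  have h2 : (PrimeSpectrum.basicOpen s : Set (PrimeSpectrum A)) ⊆ interior (closure T) :=
    interior_maximal (hsub.trans subset_closure) (PrimeSpectrum.basicOpen s).isOpen
  rw [hnd] at h2
  exact hne'.ne_empty (Set.subset_empty_iff.mp h2)

universe u

/-- The general finite case, by induction on the number of algebra generators. -/
theorem interior_image_comap_eq_empty_aux (n : ℕ) :
    ∀ (R A : Type u) [CommRing R] [CommRing A] [Algebra R A] [Algebra.IsIntegral R A] (s : Finset A),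
      s.card = n → Algebra.adjoin R (s : Set A) = ⊤ →
      ∀ T : Set (PrimeSpectrum A), IsClosed T → IsNowhereDense T →
        interior (PrimeSpectrum.comap (algebraMap R A) '' T) = ∅ := by
  induction n with
  | zero =>
    intro R A _ _ _ _ s hs hadj T hT hnd
    rw [Finset.card_eq_zero] at hs
    rw [hs, Finset.coe_empty, Algebra.adjoin_empty] at hadj
    have hsurj : Function.Surjective (algebraMap R A) := by
      intro a
      have h1 : a ∈ (⊥ : Subalgebra R A) := by rw [hadj]; exact Algebra.mem_top
      exact Algebra.mem_bot.mp h1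
    have hemb := PrimeSpectrum.isClosedEmbedding_comap_of_surjective A (algebraMap R A) hsurj
    have h1 : IsNowhereDense (PrimeSpectrum.comap (algebraMap R A) '' T) :=
      hemb.isInducing.isNowhereDense_image hnd
    rwa [(hemb.isClosedMap T hT).isNowhereDense_iff] at h1
  | succ n ih =>
    intro R A _ _ _ _ s hs hadj T hT hnd
    classical
    obtain ⟨x, s', hxs', rfl, hs'⟩ := Finset.card_eq_succ.mp hs
    have hxint : IsIntegral R x := Algebra.IsIntegral.isIntegral x
    set P : R[X] := minpoly R x with hP
    have hPmonic : P.Monic := minpoly.monic hxint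
    have hPx : P.eval₂ (algebraMap R A) x = 0 := by
      rw [← Polynomial.aeval_def, hP, minpoly.aeval]
    letI algR'A : Algebra (AdjoinRoot P) A := (AdjoinRoot.lift (algebraMap R A) x hPx).toAlgebra
    have halg : ∀ z : AdjoinRoot P, algebraMap (AdjoinRoot P) A z =
        AdjoinRoot.lift (algebraMap R A) x hPx z := fun _ => rfl
    haveI : IsScalarTower R (AdjoinRoot P) A := IsScalarTower.of_algebraMap_eq (fun r => by
      rw [halg, AdjoinRoot.algebraMap_eq, AdjoinRoot.lift_of])
    haveI : Algebra.IsIntegral (AdjoinRoot P) A := Algebra.IsIntegral.tower_top (R := R)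
    haveI : Module.Free R (AdjoinRoot P) := Module.Free.of_basis (AdjoinRoot.powerBasis' hPmonic).basis
    haveI : Module.Finite R (AdjoinRoot P) := (AdjoinRoot.powerBasis' hPmonic).finite
    have hadj' : Algebra.adjoin (AdjoinRoot P) (s' : Set A) = ⊤ := by
      rw [eq_top_iff]
      intro a _
      have h1 : a ∈ Algebra.adjoin R ((insert x s' : Finset A) : Set A) := by rw [hadj]; exact Algebra.mem_top
      induction h1 using Algebra.adjoin_induction with
      | mem y hy =>
        rw [Finset.coe_insert, Set.mem_insert_iff] at hy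
        rcases hy with rfl | hy
        · have h3 : y = algebraMap (AdjoinRoot P) A (AdjoinRoot.root P) := by
            rw [halg, AdjoinRoot.lift_root]
          rw [h3]
          exact Subalgebra.algebraMap_mem _ _
        · exact Algebra.subset_adjoin hy
      | algebraMap r =>
        rw [IsScalarTower.algebraMap_apply R (AdjoinRoot P) A]
        exact Subalgebra.algebraMap_mem _ _
      | add y z _ _ hy hz => exact Subalgebra.add_mem _ (hy Algebra.mem_top) (hz Algebra.mem_top)
      | mul y z _ _ hy hz => exact Subalgebra.mul_mem _ (hy Algebra.mem_top) (hz Algebra.mem_top)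
    set T' : Set (PrimeSpectrum (AdjoinRoot P)) :=
      PrimeSpectrum.comap (algebraMap (AdjoinRoot P) A) '' T with hT'
    have hT'closed : IsClosed T' :=
      PrimeSpectrum.isClosedMap_comap_of_isIntegral _ (algebraMap_isIntegral_iff.mpr inferInstance) T hT
    have hT'int : interior T' = ∅ := ih (AdjoinRoot P) A s' hs' hadj' T hT hnd
    have hT'nd : IsNowhereDense T' := hT'closed.isNowhereDense_iff.mpr hT'int
    have h4 := interior_image_comap_eq_empty_of_free (R := R) T' hT'closed hT'nd
    have h5 : PrimeSpectrum.comap (algebraMap R A) '' T =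
        PrimeSpectrum.comap (algebraMap R (AdjoinRoot P)) '' T' := by
      rw [hT', Set.image_image]
      apply Set.image_congr
      intro 𝔮 _
      rw [← PrimeSpectrum.comap_comp_apply, ← IsScalarTower.algebraMap_eq]
    rw [h5]
    exact h4

theorem isNowhereDense_image_comap_of_finite {R A : Type u} [CommRing R] [CommRing A] [Algebra R A]
    [Module.Finite R A] (T : Set (PrimeSpectrum A)) (hT : IsClosed T) (hnd : IsNowhereDense T) :
    IsNowhereDense (PrimeSpectrum.comap (algebraMap R A) '' T) := by
  haveI : Algebra.IsIntegral R A := Algebra.IsIntegral.of_finite R A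
  have hcl : IsClosed (PrimeSpectrum.comap (algebraMap R A) '' T) :=
    PrimeSpectrum.isClosedMap_comap_of_isIntegral _ (algebraMap_isIntegral_iff.mpr inferInstance) T hT
  rw [hcl.isNowhereDense_iff]
  obtain ⟨s, hs⟩ := (inferInstance : Algebra.FiniteType R A).out
  exact interior_image_comap_eq_empty_aux s.card R A s rfl hs T hT hnd

end Groth.Agent.Lib.Helper4.Nwd
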