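import Groth.Agent.Lib.Helper4NwdD

/-!
# Nowhere dense sets: topological lemmas and the affine finite image lemma (helper4)

* `isNowhereDense_union`, `isNowhereDense_iUnion_of_finite`, `isNowhereDense_frontier_of_isOpen`,
  `isNowhereDense_preimage_of_isOpenMap`, `isNowhereDense_of_dense_of_forall`.
* `isNowhereDense_image_of_finite_appLE`: if `P ⊆ f⁻¹ U` are affine opens with `Γ(U) → Γ(P)` finite, then
  the image of a nowhere dense subset of `P`, closed in `P`, is nowhere dense in the target.
-/

set_option autoImplicit false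
set_option linter.style.haveILetI false

universe u

open AlgebraicGeometry CategoryTheory TopologicalSpace

namespace Groth.Agent.Lib.Helper4.Nwd

theorem isNowhereDense_union {X : Type*} [TopologicalSpace X] {s t : Set X}
    (hs : IsNowhereDense s) (ht : IsNowhereDense t) : IsNowhereDense (s ∪ t) := by
  rw [IsNowhereDense, closure_union, interior_union_isClosed_of_interior_empty isClosed_closure ht]
  exact hs

theorem isNowhereDense_biUnion_finset {X ι : Type*} [TopologicalSpace X] (F : Finset ι)
    (s : ι → Set X) (h : ∀ i ∈ F, IsNowhereDense (s i)) : IsNowhereDense (⋃ i ∈ F, s i) := by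
  classical
  induction F using Finset.induction_on with
  | empty => simp
  | insert a F ha ih =>
    rw [Finset.set_biUnion_insert]
    exact isNowhereDense_union (h a (Finset.mem_insert_self _ _))
      (ih fun i hi => h i (Finset.mem_insert_of_mem hi))

theorem isNowhereDense_iUnion_of_finite {X ι : Type*} [TopologicalSpace X] [Finite ι]
    (s : ι → Set X) (h : ∀ i, IsNowhereDense (s i)) : IsNowhereDense (⋃ i, s i) := by
  classical
  haveI := Fintype.ofFinite ι
  have := isNowhereDense_biUnion_finset (Finset.univ : Finset ι) s (fun i _ => h i)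
  simpa using this

theorem isNowhereDense_frontier_of_isOpen {X : Type*} [TopologicalSpace X] {s : Set X}
    (hs : IsOpen s) : IsNowhereDense (frontier s) := by
  rw [isClosed_frontier.isNowhereDense_iff, ← frontier_compl]
  exact interior_frontier hs.isClosed_compl

theorem isNowhereDense_preimage_of_isOpenMap {X Y : Type*} [TopologicalSpace X] [TopologicalSpace Y]
    {g : X → Y} (hg : Continuous g) (hg' : IsOpenMap g) {t : Set Y} (ht : IsNowhereDense t) :
    IsNowhereDense (g ⁻¹' t) := by
  rw [IsNowhereDense, Set.eq_empty_iff_forall_notMem]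
  intro x hx
  have h1 : g '' interior (closure (g ⁻¹' t)) ⊆ closure t := by
    refine (Set.image_mono interior_subset).trans ?_
    refine (image_closure_subset_closure_image hg).trans ?_
    exact closure_mono (Set.image_preimage_subset g t)
  have h2 : g x ∈ interior (closure t) :=
    interior_maximal h1 (hg' _ isOpen_interior) ⟨x, hx, rfl⟩
  rw [ht] at h2
  exact h2

theorem isNowhereDense_of_dense_of_forall {X : Type*} [TopologicalSpace X] {A U : Set X}
    (hU : Dense U)
    (h : ∀ x ∈ U, ∃ W : Set X, IsOpen W ∧ x ∈ W ∧ IsNowhereDense (A ∩ W)) : IsNowhereDense A := by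
  rw [IsNowhereDense, Set.eq_empty_iff_forall_notMem]
  intro x₀ hx₀
  obtain ⟨x, hx, hxU⟩ := hU.inter_open_nonempty _ isOpen_interior ⟨x₀, hx₀⟩
  obtain ⟨W, hWo, hxW, hnd⟩ := h x hxU
  have h1 : interior (closure A) ∩ W ⊆ closure (A ∩ W) :=
    (Set.inter_subset_inter_left W interior_subset).trans hWo.closure_inter
  have h2 : x ∈ interior (closure (A ∩ W)) :=
    interior_maximal h1 (isOpen_interior.inter hWo) ⟨hx, hxW⟩
  rw [hnd] at h2
  exact h2

/-- **Affine finite image lemma.** -/
theorem isNowhereDense_image_of_finite_appLE {X Y : Scheme.{u}} (f : Y ⟶ X) {U : X.Opens}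
    (hU : IsAffineOpen U) {P : Y.Opens} (hP : IsAffineOpen P) (e : P ≤ f ⁻¹ᵁ U)
    (hfin : (f.appLE U P e).hom.Finite) (T C : Set Y) (hC : IsClosed C)
    (hT : T = C ∩ (P : Set Y)) (hnd : IsNowhereDense T) :
    IsNowhereDense (f '' T) := by
  set φ := (f.appLE U P e).hom with hφ
  letI : Algebra Γ(X, U) Γ(Y, P) := φ.toAlgebra
  haveI : Module.Finite Γ(X, U) Γ(Y, P) := hfin
  have hcomm : Spec.map (f.appLE U P e) ≫ hU.fromSpec = hP.fromSpec ≫ f :=
    hU.SpecMap_appLE_fromSpec f hP e
  let T' : Set (PrimeSpectrum Γ(Y, P)) := (fun q : Spec Γ(Y, P) => hP.fromSpec q) ⁻¹' T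
  have hT'eq : T' = (fun q : Spec Γ(Y, P) => hP.fromSpec q) ⁻¹' C := by
    ext q
    change hP.fromSpec q ∈ T ↔ hP.fromSpec q ∈ C
    rw [hT]
    constructor
    · exact fun h => h.1
    · intro h
      refine ⟨h, ?_⟩
      have : hP.fromSpec q ∈ Set.range hP.fromSpec := ⟨q, rfl⟩
      rw [hP.range_fromSpec] at this
      exact this
  have hT'cl : IsClosed T' := by
    rw [hT'eq]
    exact hC.preimage hP.fromSpec.continuous
  have hT'nd : IsNowhereDense T' :=
    isNowhereDense_preimage_of_isOpenMap hP.fromSpec.continuous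
      hP.fromSpec.isOpenEmbedding.isOpenMap hnd
  have h1 := isNowhereDense_image_comap_of_finite (R := Γ(X, U)) (A := Γ(Y, P)) T' hT'cl hT'nd
  have hpt : ∀ q : Spec Γ(Y, P),
      hU.fromSpec (Spec.map (f.appLE U P e) q) = f (hP.fromSpec q) := by
    intro q
    rw [← Scheme.Hom.comp_apply, hcomm, Scheme.Hom.comp_apply]
  have h2 : f '' T = (fun q : Spec Γ(X, U) => hU.fromSpec q) ''
      (PrimeSpectrum.comap (algebraMap Γ(X, U) Γ(Y, P)) '' T') := by
    ext x
    constructor
    · rintro ⟨y, hy, rfl⟩
      have hyP : y ∈ (P : Set Y) := by rw [hT] at hy; exact hy.2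
      rw [← hP.range_fromSpec] at hyP
      obtain ⟨q, rfl⟩ := hyP
      refine ⟨PrimeSpectrum.comap (algebraMap Γ(X, U) Γ(Y, P)) q, ⟨q, hy, rfl⟩, ?_⟩
      exact hpt q
    · rintro ⟨_, ⟨q, hq, rfl⟩, rfl⟩
      refine ⟨hP.fromSpec q, hq, ?_⟩
      exact (hpt q).symm
  rw [h2]
  exact hU.fromSpec.isOpenEmbedding.isInducing.isNowhereDense_image h1

end Groth.Agent.Lib.Helper4.Nwd
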