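import Groth.Agent.Lib.Helper4NwdF

/-!
# Quasi-finite morphisms map closed nowhere dense sets to nowhere dense sets (helper4)
-/

set_option autoImplicit false
set_option linter.style.haveILetI false

universe u

open AlgebraicGeometry CategoryTheory TopologicalSpace

namespace Groth.Agent.Lib.Helper4.Nwd

open Groth.Agent.Lib.Helper4.GenFinite

set_option backward.isDefEq.respectTransparency.types false in
theorem isFinite_morphismRestrict_of_le {Y X : Scheme.{u}} (f : Y ⟶ X) {U W : X.Opens} (h : W ≤ U)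
    (hU : IsFinite (f ∣_ U)) : IsFinite (f ∣_ W) := by
  have e : U.ι ''ᵁ (U.ι ⁻¹ᵁ W) = W := by
    rw [Scheme.Hom.image_preimage_eq_opensRange_inf, Scheme.Opens.opensRange_ι]
    exact inf_eq_right.mpr h
  have h1 : IsFinite ((f ∣_ U) ∣_ (U.ι ⁻¹ᵁ W)) := inferInstance
  exact (MorphismProperty.arrow_mk_iso_iff @IsFinite
    (morphismRestrictRestrict f _ _ ≪≫ morphismRestrictEq f e)).mp h1

/-- If `f` is finite over a dense open of the target, then the image of a closed nowhere dense set is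
nowhere dense. -/
theorem isNowhereDense_image_of_isFinite_morphismRestrict {Y X : Scheme.{u}} (f : Y ⟶ X)
    (U : X.Opens) (hUd : Dense (U : Set X)) (hU : IsFinite (f ∣_ U))
    (T : Set Y) (hT : IsClosed T) (hT' : IsNowhereDense T) : IsNowhereDense (f '' T) := by
  apply isNowhereDense_of_dense_of_forall hUd
  intro x hx
  obtain ⟨_, ⟨W, hW, rfl⟩, hxW, hWU⟩ :=
    X.isBasis_affineOpens.exists_subset_of_mem_open hx U.isOpen
  refine ⟨W, W.isOpen, hxW, ?_⟩
  have hWfin : IsFinite (f ∣_ W) := isFinite_morphismRestrict_of_le f hWU hU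
  obtain ⟨hPaff, hfin⟩ := (isFinite_morphismRestrict_iff f hW).mp hWfin
  have hfin' : (f.appLE W (f ⁻¹ᵁ W) le_rfl).hom.Finite := by
    rw [Scheme.Hom.appLE_eq_app]
    exact hfin
  have h1 := isNowhereDense_image_of_finite_appLE f hW hPaff le_rfl hfin'
    (T ∩ (f ⁻¹ᵁ W : Set Y)) T hT rfl (hT'.mono Set.inter_subset_left)
  refine h1.mono ?_
  rintro _ ⟨⟨y, hy, rfl⟩, hyW⟩
  exact ⟨y, ⟨hy, hyW⟩, rfl⟩

end Groth.Agent.Lib.Helper4.Nwd
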