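import Mathlib
import Groth.Agent.Lib.Helper4RatPoint
import Groth.Agent.Lib.Helper4DualSec
import Groth.Agent.Lib.Helper4P1CritG
import Groth.Agent.Lib.Helper11SmInt

/-!
# A normal proper curve with two linearly equivalent rational points is the projective line (helper4)

* `residue_unique`, `eq_of_pt_eq` : a rational point (section of the structure morphism) is determined by its image point
* `exists_iso_P1_of_two_points` : **S7820**
-/

set_option autoImplicit false
set_option linter.style.haveILetI false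
set_option linter.unusedSectionVars false
universe u
open CategoryTheory CategoryTheory.Limits AlgebraicGeometry TopologicalSpace Opposite

namespace Groth.Agent.Lib.Helper4.P1Rat

open Groth.Agent.Lib.Helper4.CurveBun Groth.Agent.Lib.Helper4.DegAdd Groth.Agent.Lib.Helper4.CurveRR
  Groth.Agent.Lib.Helper4.Dev Groth.Agent.Lib.Helper4.RatPoint Groth.Agent.Lib.Helper4.DualSec

section

variable (k : Type u) [Field k] (X : Scheme.{u}) (p : X ⟶ Spec (CommRingCat.of k))

theorem residue_unique (z : X) (φ₁ φ₂ : X.residueField z ⟶ CommRingCat.of k)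
    (h₁ : (Spec.map φ₁ ≫ X.fromSpecResidueField z) ≫ p = 𝟙 _)
    (h₂ : (Spec.map φ₂ ≫ X.fromSpecResidueField z) ≫ p = 𝟙 _) : φ₁ = φ₂ := by
  obtain ⟨ψ, hψ⟩ : ∃ ψ : CommRingCat.of k ⟶ X.residueField z, Spec.map ψ = X.fromSpecResidueField z ≫ p :=
    ⟨Spec.preimage _, Spec.map_preimage _⟩
  rw [Category.assoc, ← hψ, ← Spec.map_comp, ← Spec.map_id, Spec.map_inj] at h₁ h₂
  have e₁ : ∀ a, φ₁ (ψ a) = a := fun a => by
    have := congrArg (fun f => f.hom a) h₁
    simpa using this
  have e₂ : ∀ a, φ₂ (ψ a) = a := fun a => by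
    have := congrArg (fun f => f.hom a) h₂
    simpa using this
  have hinj : Function.Injective φ₁.hom := φ₁.hom.injective
  ext b
  have hb : ψ (φ₁ b) = b := hinj (e₁ _)
  calc φ₁ b = φ₂ (ψ (φ₁ b)) := (e₂ _).symm
    _ = φ₂ b := by rw [hb]

/-- a rational point is determined by its image point -/
theorem eq_of_pt_eq (x y : Spec (CommRingCat.of k) ⟶ X) (hx : x ≫ p = 𝟙 _) (hy : y ≫ p = 𝟙 _)
    (h : x (IsLocalRing.closedPoint k) = y (IsLocalRing.closedPoint k)) : x = y := by
  obtain ⟨⟨z₁, φ₁⟩, rfl⟩ := (Scheme.SpecToEquivOfField k X).symm.surjective x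
  obtain ⟨⟨z₂, φ₂⟩, rfl⟩ := (Scheme.SpecToEquivOfField k X).symm.surjective y
  have hz : ∀ (z : X) (φ : X.residueField z ⟶ CommRingCat.of k) (w : Spec (CommRingCat.of k)),
      (Spec.map φ ≫ X.fromSpecResidueField z) w = z := fun z φ w => by simp
  have h1 : z₁ = z₂ := by
    have h' : (Spec.map φ₁ ≫ X.fromSpecResidueField z₁) (IsLocalRing.closedPoint k) =
      (Spec.map φ₂ ≫ X.fromSpecResidueField z₂) (IsLocalRing.closedPoint k) := h
    exact (hz z₁ φ₁ _).symm.trans (h'.trans (hz z₂ φ₂ _))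
  subst h1
  have := residue_unique k X p z₁ φ₁ φ₂ hx hy
  rw [this]

end

/-- **S7820**: a connected normal proper curve with two distinct linearly equivalent rational points is `P^1` -/
theorem exists_iso_P1_of_two_points (k : Type u) [Field k] {C : Scheme.{u}} (p : C ⟶ Spec (CommRingCat.of k))
    [IsProper p] [ConnectedSpace C] (hN : Pi1.IsNormalScheme C) (hC : topologicalKrullDim C = 1)
    (x y : Spec (CommRingCat.of k) ⟶ C) (hx : x ≫ p = 𝟙 _) (hy : y ≫ p = 𝟙 _) (hxy : x ≠ y)
    (hlin : Nonempty (ClSub.idealMod x.ker ≅ ClSub.idealMod y.ker)) :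
    ∃ e : C ≅ CohB1.ProjSpace 1 k, e.hom ≫ CohB1.ProjSpace.toSpec 1 k = p := by
  letI : C.Over (Spec (CommRingCat.of k)) := ⟨p⟩
  haveI : IsProper (C ↘ Spec (CommRingCat.of k)) := ‹IsProper p›
  haveI : IsLocallyNoetherian C := isLocallyNoetherian_of_proper k C
  haveI : IsNoetherian C := isNoetherian_of_proper k C
  haveI : IsIntegral C :=
    Groth.Agent.Lib.Helper11SmInt.isIntegral_of_connected_of_isDomain_stalk (fun z => (hN z).1)
  have hpid : PIDStalks C := fun z => by
    haveI := (hN z).1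
    haveI := (hN z).2
    exact isPrincipalIdealRing_of_dim_le_one _ ((Helper16LocSym.ringKrullDim_stalk_le C z).trans hC.le)
  obtain ⟨φ⟩ := hlin
  have hx' : x ≫ (C ↘ Spec (CommRingCat.of k)) = 𝟙 _ := hx
  have hy' : y ≫ (C ↘ Spec (CommRingCat.of k)) = 𝟙 _ := hy
  obtain ⟨hMinv, hMdeg⟩ := idealMod_ratPoint k C hpid hC x hx'
  set M := ClSub.idealMod x.ker with hM
  set L := RefHull.dual M with hL
  have hLinv : PicF.IsInvertible L := Groth.Agent.Lib.Helper23.InvDual.isInvertible_dual M hMinv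
  -- the degree of `L`
  have hdeg : Curv2.deg k C L 1 = 1 := by
    obtain ⟨e⟩ := Groth.Agent.Lib.Helper23.InvDual.nonempty_tensorMod_dual_iso M hMinv
    have h := Groth.Agent.Lib.Helper4.CurveDegT.deg_tensor k C hC.le 1 1 M L
      (Groth.Agent.Lib.Helper23.SecTw.isFinLocFreeOfRank_one_of_isInvertible _ hMinv)
      (Groth.Agent.Lib.Helper23.SecTw.isFinLocFreeOfRank_one_of_isInvertible _ hLinv)
    have h2 : Curv2.deg k C (CohB1.tensorMod M L) (1 * 1) = 0 := by
      rw [← Groth.Agent.Lib.Helper6.CurveDeg.deg_structureModule k C]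
      unfold Curv2.deg
      rw [Groth.Agent.Lib.Helper4.CurveChi.euler_congr_iso k e]
    rw [h2, hMdeg] at h
    push_cast at h
    linarith
  -- `H⁰(C, O_C) = k`
  have h0 : Module.finrank k (Coh.HH C (Coh.structureModule C) 0) = 1 :=
    Groth.Agent.Lib.Helper4.P1CritG.finrank_hh0_eq_one_of_finrank_eq_one k C (ClSub.quotMod x.ker) 0
      (quotMod_ratPoint k C x hx').1
  -- the two sections
  refine Groth.Agent.Lib.Helper4.P1CritE.exists_iso_P1 k C hC h0 L hLinv hdeg
    (dsec (ClSub.idealModι x.ker)) (dsec (φ.hom ≫ ClSub.idealModι y.ker)) ?_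
  intro z
  by_cases hz : z = pt k C x
  · right
    apply mem_genLocus_dsec hMinv
    rw [stalkL_comp]
    have hzy : z ≠ pt k C y := by
      rw [hz]
      intro h
      exact hxy (eq_of_pt_eq k C p x y hx hy h)
    exact (stalkL_idealModι_surjective k C y hy' z hzy).comp (stalkL_surjective_of_epi φ.hom z)
  · left
    exact mem_genLocus_dsec hMinv _ z (stalkL_idealModι_surjective k C x hx' z hz)

end Groth.Agent.Lib.Helper4.P1Rat
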