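import Mathlib
import Groth.Prelude.Def_PP16

/-!
# Helper4: base change of principal parts `P^n_{B/A} ⊗_B B' ≅ P^n_{B'/A'}` for `B' = B ⊗_A A'`
(categorical pasting in `CommRingCat`).
-/

set_option autoImplicit false
universe u
open CategoryTheory CategoryTheory.Limits TensorProduct PP16

namespace Groth.Agent.Lib.Helper4.PPBC

/-- Quotient by an extended ideal is a pushout in `CommRingCat`. -/
theorem isPushout_quotient {S S' : Type u} [CommRing S] [CommRing S'] (t : S →+* S')
    (J : Ideal S) (J' : Ideal S') (hJ : J.map t = J') (m : S ⧸ J →+* S' ⧸ J')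
    (hm : m.comp (Ideal.Quotient.mk J) = (Ideal.Quotient.mk J').comp t) :
    IsPushout (CommRingCat.ofHom (Ideal.Quotient.mk J)) (CommRingCat.ofHom t)
      (CommRingCat.ofHom m) (CommRingCat.ofHom (Ideal.Quotient.mk J')) := by
  have w : CommRingCat.ofHom (Ideal.Quotient.mk J) ≫ CommRingCat.ofHom m =
      CommRingCat.ofHom t ≫ CommRingCat.ofHom (Ideal.Quotient.mk J') := by
    ext x; exact congr($hm x)
  have key : ∀ s : PushoutCocone (CommRingCat.ofHom (Ideal.Quotient.mk J)) (CommRingCat.ofHom t),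
      ∀ a ∈ J', s.inr.hom a = 0 := by
    intro s a ha
    rw [← hJ] at ha
    have : J.map t ≤ RingHom.ker s.inr.hom := by
      rw [Ideal.map_le_iff_le_comap]
      intro j hj
      rw [Ideal.mem_comap, RingHom.mem_ker]
      have h1 := congr($(s.condition).hom j)
      simp only [CommRingCat.hom_comp, CommRingCat.hom_ofHom, RingHom.coe_comp,
        Function.comp_apply] at h1
      rw [← h1, Ideal.Quotient.eq_zero_iff_mem.mpr hj, map_zero]
    exact this ha
  refine ⟨⟨w⟩, ⟨PushoutCocone.IsColimit.mk w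
    (fun s => CommRingCat.ofHom (Ideal.Quotient.lift J' s.inr.hom (key s))) ?_ ?_ ?_⟩⟩
  · intro s
    ext x
    have h1 := congr($(s.condition).hom x)
    have h2 := congr($hm x)
    simp only [CommRingCat.hom_comp, CommRingCat.hom_ofHom, RingHom.coe_comp,
      Function.comp_apply] at h1 h2 ⊢
    rw [h2, Ideal.Quotient.lift_mk, h1]
  · intro s
    ext x
    simp
  · intro s m' _ h2
    ext x
    have := congr($(h2).hom x)
    simpa using this

variable (n : ℕ) (A B A' B' : Type u) [CommRing A] [CommRing B] [Algebra A B]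
    [CommRing A'] [CommRing B'] [Algebra A' B'] [Algebra A A'] [Algebra B B'] [Algebra A B']
    [IsScalarTower A A' B'] [IsScalarTower A B B']

theorem ideal_map_tensorMap_eq [Algebra.IsPushout A B A' B'] :
    (KaehlerDifferential.ideal A B).map (tensorMap A B A' B') =
      KaehlerDifferential.ideal A' B' := by
  apply le_antisymm (ideal_map_tensorMap_le A B A' B')
  rw [← KaehlerDifferential.span_range_eq_ideal, Ideal.span_le]
  rintro _ ⟨b', rfl⟩
  have h : IsBaseChange A' (IsScalarTower.toAlgHom A B B').toLinearMap :=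
    (Algebra.IsPushout.symm (inferInstanceAs (Algebra.IsPushout A B A' B'))).out
  refine h.inductionOn b' (fun s => (1 : B') ⊗ₜ[A'] s - s ⊗ₜ[A'] (1 : B') ∈
    (KaehlerDifferential.ideal A B).map (tensorMap A B A' B')) ?_ ?_ ?_ ?_
  · simp
  · intro b
    have : ((1 : B') ⊗ₜ[A'] (algebraMap B B' b) - (algebraMap B B' b) ⊗ₜ[A'] (1 : B')) =
        tensorMap A B A' B' ((1 : B) ⊗ₜ[A] b - b ⊗ₜ[A] (1 : B)) := by
      rw [map_sub, tensorMap_tmul, tensorMap_tmul, map_one]
    change ((1 : B') ⊗ₜ[A'] (algebraMap B B' b) - (algebraMap B B' b) ⊗ₜ[A'] (1 : B')) ∈ _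
    rw [this]
    exact Ideal.mem_map_of_mem _ (KaehlerDifferential.one_smul_sub_smul_one_mem_ideal A b)
  · intro a' x hx
    have : ((1 : B') ⊗ₜ[A'] (a' • x) - (a' • x) ⊗ₜ[A'] (1 : B')) =
        a' • ((1 : B') ⊗ₜ[A'] x - x ⊗ₜ[A'] (1 : B')) := by
      rw [smul_sub, TensorProduct.tmul_smul, TensorProduct.smul_tmul' a' x (1 : B')]
    change ((1 : B') ⊗ₜ[A'] (a' • x) - (a' • x) ⊗ₜ[A'] (1 : B')) ∈ _
    rw [this, Algebra.smul_def]
    exact Ideal.mul_mem_left _ _ hx
  · intro x y hx hy
    have : ((1 : B') ⊗ₜ[A'] (x + y) - (x + y) ⊗ₜ[A'] (1 : B')) =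
        ((1 : B') ⊗ₜ[A'] x - x ⊗ₜ[A'] (1 : B')) + ((1 : B') ⊗ₜ[A'] y - y ⊗ₜ[A'] (1 : B')) := by
      rw [TensorProduct.tmul_add, TensorProduct.add_tmul]; abel
    change ((1 : B') ⊗ₜ[A'] (x + y) - (x + y) ⊗ₜ[A'] (1 : B')) ∈ _
    rw [this]
    exact Ideal.add_mem _ hx hy

/-- `B' ⊗_{A'} B'` is the pushout of `B ⊗_A B` along `B → B'` (left structures). -/
theorem isPushout_tensorMap [Algebra.IsPushout A B A' B'] :
    IsPushout (CommRingCat.ofHom (algebraMap B B'))
      (CommRingCat.ofHom (Algebra.TensorProduct.includeLeftRingHom : B →+* B ⊗[A] B))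
      (CommRingCat.ofHom (Algebra.TensorProduct.includeLeftRingHom : B' →+* B' ⊗[A'] B'))
      (CommRingCat.ofHom (tensorMap A B A' B').toRingHom) := by
  have hsymm : Algebra.IsPushout A A' B B' :=
    Algebra.IsPushout.symm (inferInstanceAs (Algebra.IsPushout A B A' B'))
  have r1 := CommRingCat.isPushout_of_isPushout A A' B B'
  have r2 := CommRingCat.isPushout_tensorProduct A' B' B'
  have rI := r1.paste_horiz r2
  have e1 : CommRingCat.ofHom (algebraMap A A') ≫ CommRingCat.ofHom (algebraMap A' B') =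
      CommRingCat.ofHom (algebraMap A B) ≫ CommRingCat.ofHom (algebraMap B B') := by
    ext x
    simp only [CommRingCat.hom_comp, CommRingCat.hom_ofHom, RingHom.coe_comp, Function.comp_apply]
    rw [← IsScalarTower.algebraMap_apply, ← IsScalarTower.algebraMap_apply]
  have e2 : CommRingCat.ofHom (algebraMap B B') ≫
      CommRingCat.ofHom (Algebra.TensorProduct.includeRight (R := A') (A := B') (B := B')).toRingHom =
      CommRingCat.ofHom (Algebra.TensorProduct.includeRight (R := A) (A := B) (B := B)).toRingHom ≫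
        CommRingCat.ofHom (tensorMap A B A' B').toRingHom := by
    ext x
    simp [tensorMap_tmul]
  rw [e1, e2] at rI
  refine rI.of_left ?_ (CommRingCat.isPushout_tensorProduct A B B)
  ext x
  simp [tensorMap_tmul]

theorem isPushout_P [Algebra.IsPushout A B A' B'] :
    letI := mapAlgebra n A B A' B'
    letI := isScalarTower_mapAlgebra n A B A' B'
    Algebra.IsPushout B (P n A B) B' (P n A' B') := by
  let _ := mapAlgebra n A B A' B'
  let _ := isScalarTower_mapAlgebra n A B A' B'
  rw [← CommRingCat.isPushout_iff_isPushout]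
  have s1 := (isPushout_tensorMap A B A' B').flip
  have hJ : ((KaehlerDifferential.ideal A B) ^ (n + 1)).map (tensorMap A B A' B').toRingHom =
      (KaehlerDifferential.ideal A' B') ^ (n + 1) := by
    rw [← ideal_map_tensorMap_eq A B A' B', Ideal.map_pow]
    rfl
  have s2 := isPushout_quotient (tensorMap A B A' B').toRingHom _ _ hJ
    (map n A B A' B').toRingHom (RingHom.ext fun x => rfl)
  exact s1.paste_horiz s2

end Groth.Agent.Lib.Helper4.PPBC
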