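import Groth.Agent.Lib.Helper4PPPoly
import Mathlib.RingTheory.MvPolynomial.Ideal
import Mathlib.RingTheory.FiniteType

/-!
Finiteness of the modules of principal parts of an algebra of finite type.
-/

namespace Groth.Agent.Lib.Helper4

open PP16 MvPolynomial
open scoped TensorProduct

universe u

section QuotPow

variable (R : Type u) [CommRing R] (σ : Type u) [Finite σ]

theorem finite_quotient_pow_span_X (m : ℕ) :
    Module.Finite R (MvPolynomial σ R ⧸ Ideal.span (Set.range (X : σ → MvPolynomial σ R)) ^ m) := by
  classical
  have hfin := Finsupp.finite_of_degree_le (σ := σ) m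
  rw [Module.finite_def]
  have hspan : Submodule.span R
      ((fun d : σ →₀ ℕ => (Ideal.Quotient.mk
        (Ideal.span (Set.range (X : σ → MvPolynomial σ R)) ^ m)) (monomial d (1 : R))) ''
        {f : σ →₀ ℕ | Finsupp.degree f ≤ m}) = ⊤ := by
    rw [eq_top_iff]
    rintro x -
    obtain ⟨p, rfl⟩ := Ideal.Quotient.mk_surjective x
    induction p using MvPolynomial.induction_on' with
    | monomial d a =>
      have h1 : monomial d a = a • monomial d (1 : R) := by
        rw [smul_monomial, smul_eq_mul, mul_one]
      have h2 : (Ideal.Quotient.mk (Ideal.span (Set.range (X : σ → MvPolynomial σ R)) ^ m))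
          (a • monomial d (1 : R)) = a • (Ideal.Quotient.mk
            (Ideal.span (Set.range (X : σ → MvPolynomial σ R)) ^ m)) (monomial d (1 : R)) := rfl
      rw [h1, h2]
      by_cases hd : Finsupp.degree d ≤ m
      · exact Submodule.smul_mem _ _ (Submodule.subset_span ⟨d, hd, rfl⟩)
      · have h3 : monomial d (1 : R) ∈ Ideal.span (Set.range (X : σ → MvPolynomial σ R)) ^ m := by
          rw [mem_pow_idealOfVars_iff]
          intro x hx
          have := support_monomial_subset hx
          rw [Finset.mem_singleton] at this
          rw [this]
          exact le_of_lt (not_le.mp hd)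
        rw [Ideal.Quotient.eq_zero_iff_mem.mpr h3, smul_zero]
        exact Submodule.zero_mem _
    | add p q hp hq =>
      rw [map_add]
      exact Submodule.add_mem _ hp hq
  rw [← hspan]
  exact Submodule.fg_span (hfin.image _)

end QuotPow

section FinitePoly

variable (n : ℕ) (A : Type u) [CommRing A] (σ : Type u) [Finite σ]

theorem finite_P_poly : Module.Finite (MvPolynomial σ A) (P n A (MvPolynomial σ A)) := by
  haveI := finite_quotient_pow_span_X (MvPolynomial σ A) σ (n + 1)
  exact Module.Finite.equiv (polyPPEquiv n A σ).symm.toLinearEquiv

end FinitePoly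

section FiniteType

variable (n : ℕ) (A T B : Type u) [CommRing A] [CommRing T] [CommRing B] [Algebra A T]
  [Algebra T B] [Algebra A B] [IsScalarTower A T B]

theorem map_surjective_of_surjective (h : Function.Surjective (algebraMap T B)) :
    Function.Surjective (map n A T A B) :=
  (quotient_pow_map_ker (tensorMap A T A B).toRingHom
    (tensorMap_surjective_of_surjective A T A B h)
    (KaehlerDifferential.ideal A T) (KaehlerDifferential.ideal A B)
    (ideal_map_tensorMap_eq_of_surjective A T A B h) (n + 1)
    (map n A T A B).toRingHom (fun x => rfl)).1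

/-- The functoriality map as a `T`-linear map. -/
noncomputable def mapLin : P n A T →ₗ[T] P n A B :=
  { toFun := map n A T A B
    map_add' := map_add _
    map_smul' := fun t x => by
      rw [RingHom.id_apply, Algebra.smul_def, Algebra.smul_def, map_mul, map_algebraMap]
      rfl }

theorem finite_P_of_surjective (h : Function.Surjective (algebraMap T B))
    [Module.Finite T (P n A T)] : Module.Finite B (P n A B) := by
  haveI : Module.Finite T (P n A B) :=
    Module.Finite.of_surjective (mapLin n A T B) (map_surjective_of_surjective n A T B h)
  haveI : IsScalarTower T B (P n A B) := IsScalarTower.of_algebraMap_eq (fun t => rfl)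
  exact Module.Finite.of_restrictScalars_finite T B (P n A B)

end FiniteType

theorem finite_P_of_finiteType (n : ℕ) (A B : Type u) [CommRing A] [CommRing B] [Algebra A B]
    [Algebra.FiniteType A B] : Module.Finite B (P n A B) := by
  obtain ⟨ι, hι, f, hf⟩ := Algebra.FiniteType.iff_quotient_mvPolynomial'.mp
    (inferInstance : Algebra.FiniteType A B)
  letI : Algebra (MvPolynomial ι A) B := f.toRingHom.toAlgebra
  haveI : IsScalarTower A (MvPolynomial ι A) B :=
    IsScalarTower.of_algebraMap_eq (fun a => (f.commutes a).symm)
  haveI := finite_P_poly n A ι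
  exact finite_P_of_surjective n A (MvPolynomial ι A) B hf

end Groth.Agent.Lib.Helper4
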