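import Groth.Agent.Lib.Helper4PPRing
import Mathlib.RingTheory.TensorProduct.MvPolynomial

/-!
Principal parts of a polynomial algebra: `P^n_{A[T]/A} ≃ A[T][U] / (U)^(n+1)`.
-/

namespace Groth.Agent.Lib.Helper4

open PP16 MvPolynomial
open scoped TensorProduct

universe u

section Shift

variable (R : Type u) [CommRing R] (σ : Type u) (c : σ → R)

/-- The automorphism `X i ↦ X i + c i` of a polynomial ring. -/
noncomputable def shiftEquiv : MvPolynomial σ R ≃ₐ[R] MvPolynomial σ R :=
  AlgEquiv.ofAlgHom (aeval fun i => X i + C (c i)) (aeval fun i => X i - C (c i))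
    (by ext i; simp) (by ext i; simp)

@[simp] theorem shiftEquiv_X (i : σ) : shiftEquiv R σ c (X i) = X i + C (c i) := by
  simp [shiftEquiv]

@[simp] theorem shiftEquiv_C (r : R) : shiftEquiv R σ c (C r) = C r := by
  simp [shiftEquiv]

end Shift

section Poly

variable (n : ℕ) (A : Type u) [CommRing A] (σ : Type u)

/-- `A[T] ⊗ A[T] ≃ A[T][U]`, with `1 ⊗ T_i ↦ U_i + T_i` and `T_i ⊗ 1 ↦ T_i`. -/
noncomputable def polyTensorEquiv :
    (MvPolynomial σ A ⊗[A] MvPolynomial σ A) ≃ₐ[MvPolynomial σ A]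
      MvPolynomial σ (MvPolynomial σ A) :=
  (algebraTensorAlgEquiv A (MvPolynomial σ A)).trans
    (shiftEquiv (MvPolynomial σ A) σ (fun i => (X i : MvPolynomial σ A)))

theorem polyTensorEquiv_one_tmul_X (i : σ) :
    polyTensorEquiv A σ ((1 : MvPolynomial σ A) ⊗ₜ[A] (X i : MvPolynomial σ A)) =
      X i + C (X i : MvPolynomial σ A) := by
  simp [polyTensorEquiv]

theorem polyTensorEquiv_X_tmul_one (i : σ) :
    polyTensorEquiv A σ ((X i : MvPolynomial σ A) ⊗ₜ[A] (1 : MvPolynomial σ A)) =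
      C (X i : MvPolynomial σ A) := by
  simp [polyTensorEquiv, MvPolynomial.smul_eq_C_mul]

theorem polyTensorEquiv_gen (i : σ) :
    polyTensorEquiv A σ ((1 : MvPolynomial σ A) ⊗ₜ[A] (X i : MvPolynomial σ A) -
      (X i : MvPolynomial σ A) ⊗ₜ[A] (1 : MvPolynomial σ A)) = X i := by
  rw [map_sub, polyTensorEquiv_one_tmul_X, polyTensorEquiv_X_tmul_one, add_sub_cancel_right]

theorem ideal_map_polyTensorEquiv :
    (KaehlerDifferential.ideal A (MvPolynomial σ A)).map
      (polyTensorEquiv A σ : (MvPolynomial σ A ⊗[A] MvPolynomial σ A) →+*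
        MvPolynomial σ (MvPolynomial σ A)) =
      Ideal.span (Set.range (X : σ → MvPolynomial σ (MvPolynomial σ A))) := by
  rw [ideal_eq_span_of_adjoin A (MvPolynomial σ A) (Set.range X) (adjoin_range_X),
    Ideal.map_span, ← Set.range_comp, ← Set.range_comp]
  congr 2
  funext i
  exact polyTensorEquiv_gen A σ i

/-- EGA IV 16.4.?: principal parts of a polynomial algebra. -/
noncomputable def polyPPEquiv :
    P n A (MvPolynomial σ A) ≃ₐ[MvPolynomial σ A]
      (MvPolynomial σ (MvPolynomial σ A) ⧸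
        Ideal.span (Set.range (X : σ → MvPolynomial σ (MvPolynomial σ A))) ^ (n + 1)) :=
  Ideal.quotientEquivAlg _ _ (polyTensorEquiv A σ) (by
    rw [Ideal.map_pow, ideal_map_polyTensorEquiv])

theorem polyPPEquiv_dn_X (i : σ) :
    polyPPEquiv n A σ (dn n A (MvPolynomial σ A) (X i)) =
      Ideal.Quotient.mk _ (C (X i : MvPolynomial σ A) +
        (X i : MvPolynomial σ (MvPolynomial σ A))) := by
  change Ideal.Quotient.mk _ (polyTensorEquiv A σ
    ((1 : MvPolynomial σ A) ⊗ₜ[A] (X i : MvPolynomial σ A))) = _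
  rw [polyTensorEquiv_one_tmul_X, add_comm (X i : MvPolynomial σ (MvPolynomial σ A))]

end Poly

end Groth.Agent.Lib.Helper4
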