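import Groth.Agent.Lib.Helper4PPRing

/-!
Principal parts of an algebra with a retraction: `P^n_{B/A} ⊗_B A = B / K^(n+1)`.
-/

namespace Groth.Agent.Lib.Helper4

open PP16
open scoped TensorProduct

universe u

section Abstract

theorem pow_le_ker_of_map_le {R S T : Type*} [CommRing R] [CommRing S] [CommRing T]
    (θ : R →+* T) (π : S →+* T) (K : Ideal R) (J : Ideal S) (m : ℕ)
    (hK : K.map θ ≤ J.map π) (hJ : J ^ m = ⊥) : K ^ m ≤ RingHom.ker θ := by
  have h4 : (K ^ m).map θ ≤ ⊥ :=
    calc (K ^ m).map θ = (K.map θ) ^ m := Ideal.map_pow _ _ _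
      _ ≤ (J.map π) ^ m := Ideal.pow_right_mono hK m
      _ = (J ^ m).map π := (Ideal.map_pow _ _ _).symm
      _ = ⊥ := by rw [hJ, Ideal.map_bot]
  intro b hb
  exact h4 (Ideal.mem_map_of_mem _ hb)

end Abstract

section Retract

variable (n : ℕ) (A B : Type u) [CommRing A] [CommRing B] [Algebra A B] (g : B →ₐ[A] A)

/-- `τ : B ⊗ B → B`, `b ⊗ c ↦ g b • c`. -/
noncomputable def retTau : B ⊗[A] B →ₐ[A] B :=
  Algebra.TensorProduct.lift ((Algebra.ofId A B).comp g) (AlgHom.id A B)
    (fun _ _ => Commute.all _ _)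

theorem retTau_tmul (b c : B) : retTau A B g (b ⊗ₜ[A] c) = algebraMap A B (g b) * c := by
  simp [retTau, Algebra.TensorProduct.lift_tmul, Algebra.ofId_apply]

theorem sub_algebraMap_mem_ker (b : B) : b - algebraMap A B (g b) ∈ RingHom.ker g := by
  rw [RingHom.mem_ker, map_sub, AlgHom.commutes, Algebra.algebraMap_self_apply, sub_self]

theorem retTau_mem (x : B ⊗[A] B) (hx : x ∈ KaehlerDifferential.ideal A B) :
    retTau A B g x ∈ RingHom.ker g := by
  have h : KaehlerDifferential.ideal A B ≤ (RingHom.ker g).comap (retTau A B g) := by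
    rw [← KaehlerDifferential.span_range_eq_ideal, Ideal.span_le]
    rintro _ ⟨b, rfl⟩
    change retTau A B g ((1 : B) ⊗ₜ[A] b - b ⊗ₜ[A] (1 : B)) ∈ RingHom.ker g
    rw [map_sub, retTau_tmul, retTau_tmul, map_one, map_one, one_mul, mul_one]
    exact sub_algebraMap_mem_ker A B g b
  exact h hx

theorem retTau_mem_pow (x : B ⊗[A] B) (hx : x ∈ KaehlerDifferential.ideal A B ^ (n + 1)) :
    retTau A B g x ∈ RingHom.ker g ^ (n + 1) := by
  have h : KaehlerDifferential.ideal A B ≤ (RingHom.ker g).comap (retTau A B g) :=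
    fun y hy => retTau_mem A B g y hy
  have h2 := Ideal.pow_right_mono (Ideal.map_le_iff_le_comap.mpr h) (n + 1)
  rw [← Ideal.map_pow] at h2
  exact h2 (Ideal.mem_map_of_mem _ hx)

/-- `τ` on principal parts, with values in `B / K^(n+1)`. -/
noncomputable def retTauP : P n A B →+* B ⧸ RingHom.ker g ^ (n + 1) :=
  Ideal.Quotient.lift (KaehlerDifferential.ideal A B ^ (n + 1))
    ((Ideal.Quotient.mk (RingHom.ker g ^ (n + 1))).comp (retTau A B g).toRingHom)
    (fun x hx => Ideal.Quotient.eq_zero_iff_mem.mpr (retTau_mem_pow n A B g x hx))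

theorem retTauP_mk (x : B ⊗[A] B) :
    retTauP n A B g (Ideal.Quotient.mk _ x) = Ideal.Quotient.mk _ (retTau A B g x) := rfl

/-- `τ` on `P^n / K P^n`. -/
noncomputable def retTauQ :
    P n A B ⧸ (RingHom.ker g).map (algebraMap B (P n A B)) →+* B ⧸ RingHom.ker g ^ (n + 1) :=
  Ideal.Quotient.lift _ (retTauP n A B g) (by
    have h : (RingHom.ker g).map (algebraMap B (P n A B)) ≤ RingHom.ker (retTauP n A B g) := by
      rw [Ideal.map_le_iff_le_comap]
      intro k hk
      rw [Ideal.mem_comap, RingHom.mem_ker]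
      change retTauP n A B g (Ideal.Quotient.mk _ (k ⊗ₜ[A] (1 : B))) = 0
      rw [retTauP_mk, retTau_tmul, RingHom.mem_ker.mp hk, map_zero, zero_mul, map_zero]
    exact fun y hy => h hy)

/-- The map `θ : B → P^n / K P^n` induced by `d^n`. -/
noncomputable abbrev retTheta : B →+* P n A B ⧸ (RingHom.ker g).map (algebraMap B (P n A B)) :=
  (Ideal.Quotient.mk ((RingHom.ker g).map (algebraMap B (P n A B)))).comp (dn n A B).toRingHom

theorem retTauQ_theta (b : B) :
    retTauQ n A B g (retTheta n A B g b) = Ideal.Quotient.mk _ b := by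
  change retTauP n A B g (Ideal.Quotient.mk _ ((1 : B) ⊗ₜ[A] b)) = _
  rw [retTauP_mk, retTau_tmul, map_one, map_one, one_mul]

theorem retTheta_mk_tmul (b c : B) :
    Ideal.Quotient.mk ((RingHom.ker g).map (algebraMap B (P n A B)))
      (Ideal.Quotient.mk (KaehlerDifferential.ideal A B ^ (n + 1)) (b ⊗ₜ[A] c)) =
      retTheta n A B g (algebraMap A B (g b) * c) := by
  have h1 : b ⊗ₜ[A] c = (b - algebraMap A B (g b)) ⊗ₜ[A] (1 : B) * (1 : B) ⊗ₜ[A] c +
      (1 : B) ⊗ₜ[A] (algebraMap A B (g b) * c) := by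
    rw [Algebra.TensorProduct.tmul_mul_tmul, mul_one, one_mul, TensorProduct.sub_tmul,
      Algebra.algebraMap_eq_smul_one, smul_mul_assoc, one_mul, ← TensorProduct.smul_tmul,
      sub_add_cancel]
  have h3 : retTheta n A B g (algebraMap A B (g b) * c) =
      Ideal.Quotient.mk ((RingHom.ker g).map (algebraMap B (P n A B)))
        (Ideal.Quotient.mk (KaehlerDifferential.ideal A B ^ (n + 1))
          ((1 : B) ⊗ₜ[A] (algebraMap A B (g b) * c))) := rfl
  rw [h3, h1, map_add, map_add, map_mul, map_mul]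
  have h2 : Ideal.Quotient.mk ((RingHom.ker g).map (algebraMap B (P n A B)))
      (Ideal.Quotient.mk (KaehlerDifferential.ideal A B ^ (n + 1))
        ((b - algebraMap A B (g b)) ⊗ₜ[A] (1 : B))) = 0 := by
    rw [Ideal.Quotient.eq_zero_iff_mem]
    exact Ideal.mem_map_of_mem (algebraMap B (P n A B)) (sub_algebraMap_mem_ker A B g b)
  linear_combination (Ideal.Quotient.mk ((RingHom.ker g).map (algebraMap B (P n A B)))
      (Ideal.Quotient.mk (KaehlerDifferential.ideal A B ^ (n + 1)) ((1 : B) ⊗ₜ[A] c))) * h2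

theorem retTheta_surjective : Function.Surjective (retTheta n A B g) := by
  intro y
  obtain ⟨y, rfl⟩ := Ideal.Quotient.mk_surjective y
  obtain ⟨y, rfl⟩ := Ideal.Quotient.mk_surjective y
  induction y using TensorProduct.induction_on with
  | zero => exact ⟨0, by rw [map_zero, map_zero, map_zero]⟩
  | tmul b c => exact ⟨_, (retTheta_mk_tmul n A B g b c).symm⟩
  | add x y hx hy =>
    obtain ⟨x', hx'⟩ := hx
    obtain ⟨y', hy'⟩ := hy
    exact ⟨x' + y', by rw [map_add, hx', hy', map_add, map_add]⟩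

theorem retTheta_ker : RingHom.ker (retTheta n A B g) = RingHom.ker g ^ (n + 1) := by
  apply le_antisymm
  · intro b hb
    have h1 := retTauQ_theta n A B g b
    rw [RingHom.mem_ker.mp hb, map_zero] at h1
    exact Ideal.Quotient.eq_zero_iff_mem.mp h1.symm
  · -- `θ` maps `K` into the image of the augmentation ideal, whose `(n+1)`-st power vanishes
    have hK : (RingHom.ker g).map (retTheta n A B g) ≤
        (augIdeal n A B).map
          (Ideal.Quotient.mk ((RingHom.ker g).map (algebraMap B (P n A B)))) := by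
      rw [Ideal.map_le_iff_le_comap]
      intro k hk
      rw [Ideal.mem_comap]
      have h1 : retTheta n A B g k =
          Ideal.Quotient.mk ((RingHom.ker g).map (algebraMap B (P n A B)))
            (Ideal.Quotient.mk (KaehlerDifferential.ideal A B ^ (n + 1))
              ((1 : B) ⊗ₜ[A] k - k ⊗ₜ[A] (1 : B))) := by
        rw [map_sub, map_sub]
        have h2 : Ideal.Quotient.mk ((RingHom.ker g).map (algebraMap B (P n A B)))
            (Ideal.Quotient.mk (KaehlerDifferential.ideal A B ^ (n + 1)) (k ⊗ₜ[A] (1 : B))) = 0 := by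
          rw [Ideal.Quotient.eq_zero_iff_mem]
          exact Ideal.mem_map_of_mem (algebraMap B (P n A B)) hk
        rw [h2, sub_zero]
        rfl
      rw [h1]
      exact Ideal.mem_map_of_mem _ (Ideal.mem_map_of_mem _
        (KaehlerDifferential.one_smul_sub_smul_one_mem_ideal A k))
    have h3 : (augIdeal n A B) ^ (n + 1) = ⊥ := by
      rw [augIdeal, ← Ideal.map_pow, Ideal.map_quotient_self]
    exact pow_le_ker_of_map_le (T := P n A B ⧸ ((RingHom.ker g).map (algebraMap B (P n A B))))
      _ _ _ _ (n + 1) hK h3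

end Retract

end Groth.Agent.Lib.Helper4
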