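import Groth.Prelude.Def_PP16
import Mathlib.LinearAlgebra.TensorProduct.RightExactness
import Mathlib.RingTheory.Ideal.Quotient.Operations

/-!
Ring-theoretic lemmas on the rings of principal parts `PP16.P n A B`.
-/

namespace Groth.Agent.Lib.Helper4

open PP16
open scoped TensorProduct

universe u

section General

/-- A surjective ring map `φ : R → R'` carrying `I` onto `I'` induces a surjection
`R / I^m → R' / I'^m` whose kernel is the image of the kernel of `φ`. -/
theorem quotient_pow_map_ker {R R' : Type*} [CommRing R] [CommRing R'] (φ : R →+* R')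
    (hφ : Function.Surjective φ) (I : Ideal R) (I' : Ideal R') (hI : I.map φ = I') (m : ℕ)
    (ψ : R ⧸ I ^ m →+* R' ⧸ I' ^ m)
    (hψ : ∀ x, ψ (Ideal.Quotient.mk _ x) = Ideal.Quotient.mk _ (φ x)) :
    Function.Surjective ψ ∧
      RingHom.ker ψ = (RingHom.ker φ).map (Ideal.Quotient.mk (I ^ m)) := by
  constructor
  · intro y
    obtain ⟨y', rfl⟩ := Ideal.Quotient.mk_surjective y
    obtain ⟨x, rfl⟩ := hφ y'
    exact ⟨Ideal.Quotient.mk _ x, hψ x⟩
  · ext x
    obtain ⟨x, rfl⟩ := Ideal.Quotient.mk_surjective x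
    rw [RingHom.mem_ker, hψ, Ideal.Quotient.eq_zero_iff_mem, ← hI, ← Ideal.map_pow,
      ← Ideal.mem_comap, Ideal.comap_map_of_surjective φ hφ,
      Ideal.mem_map_iff_of_surjective _ Ideal.Quotient.mk_surjective]
    constructor
    · intro h
      obtain ⟨a, ha, b, hb, rfl⟩ := Submodule.mem_sup.mp h
      refine ⟨b, ?_, ?_⟩
      · exact hb
      · rw [map_add, Ideal.Quotient.eq_zero_iff_mem.mpr ha, zero_add]
    · rintro ⟨b, hb, hbx⟩
      have h1 : x - b ∈ I ^ m := by
        rw [← Ideal.Quotient.eq_zero_iff_mem, map_sub, hbx, sub_self]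
      have h2 : x = (x - b) + b := by ring
      rw [h2]
      exact Submodule.add_mem_sup h1 (by simpa [Ideal.mem_comap] using hb)

theorem ideal_map_map_eq {R S T F G H : Type*} [CommRing R] [CommRing S] [CommRing T]
    [FunLike F R S] [RingHomClass F R S] [FunLike G S T] [RingHomClass G S T]
    [FunLike H R T] [RingHomClass H R T] (f : F) (g : G) (h : H) (hh : ∀ x, g (f x) = h x)
    (K : Ideal R) : (K.map f).map g = K.map h := by
  apply le_antisymm
  · rw [Ideal.map_le_iff_le_comap, Ideal.map_le_iff_le_comap]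
    intro x hx
    rw [Ideal.mem_comap, Ideal.mem_comap, hh]
    exact Ideal.mem_map_of_mem h hx
  · rw [Ideal.map_le_iff_le_comap]
    intro x hx
    rw [Ideal.mem_comap, ← hh]
    exact Ideal.mem_map_of_mem g (Ideal.mem_map_of_mem f hx)

end General

section TensorMap

variable (A B A' B' : Type u) [CommRing A] [CommRing B] [Algebra A B]
  [CommRing A'] [CommRing B'] [Algebra A' B'] [Algebra A A'] [Algebra B B'] [Algebra A B']
  [IsScalarTower A A' B'] [IsScalarTower A B B']

theorem tensorMap_surjective_of_surjective (h : Function.Surjective (algebraMap B B')) :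
    Function.Surjective (tensorMap A B A' B') := by
  intro y
  induction y using TensorProduct.induction_on with
  | zero => exact ⟨0, map_zero _⟩
  | tmul b c =>
    obtain ⟨b, rfl⟩ := h b
    obtain ⟨c, rfl⟩ := h c
    exact ⟨b ⊗ₜ c, tensorMap_tmul A B A' B' b c⟩
  | add x y hx hy =>
    obtain ⟨x, rfl⟩ := hx
    obtain ⟨y, rfl⟩ := hy
    exact ⟨x + y, map_add _ _ _⟩

theorem ideal_map_tensorMap_eq_of_surjective (h : Function.Surjective (algebraMap B B')) :
    (KaehlerDifferential.ideal A B).map (tensorMap A B A' B') = KaehlerDifferential.ideal A' B' := by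
  refine le_antisymm (ideal_map_tensorMap_le A B A' B') ?_
  rw [← KaehlerDifferential.span_range_eq_ideal, Ideal.span_le]
  rintro _ ⟨c, rfl⟩
  obtain ⟨c, rfl⟩ := h c
  have : (1 : B') ⊗ₜ[A'] algebraMap B B' c - algebraMap B B' c ⊗ₜ[A'] (1 : B') =
      tensorMap A B A' B' ((1 : B) ⊗ₜ[A] c - c ⊗ₜ[A] (1 : B)) := by
    rw [map_sub, tensorMap_tmul, tensorMap_tmul, map_one]
  change (1 : B') ⊗ₜ[A'] algebraMap B B' c - algebraMap B B' c ⊗ₜ[A'] (1 : B') ∈ _
  rw [this]
  exact Ideal.mem_map_of_mem _ (KaehlerDifferential.one_smul_sub_smul_one_mem_ideal A c)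

end TensorMap

section Tower

variable (A B C : Type u) [CommRing A] [CommRing B] [CommRing C]
  [Algebra A B] [Algebra B C] [Algebra A C] [IsScalarTower A B C]

/-- The ideal of `C ⊗[A] C` generated by the `1 ⊗ b - b ⊗ 1` for `b` in `B`. -/
noncomputable def towerIdeal : Ideal (C ⊗[A] C) :=
  Ideal.span (Set.range fun b : B =>
    (1 : C) ⊗ₜ[A] algebraMap B C b - algebraMap B C b ⊗ₜ[A] (1 : C))

theorem tensorMap_towerIdeal (x : C ⊗[A] C) (hx : x ∈ towerIdeal A B C) :
    tensorMap A C B C x = 0 := by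
  have h : towerIdeal A B C ≤ RingHom.ker (tensorMap A C B C) := by
    rw [towerIdeal, Ideal.span_le]
    rintro _ ⟨b, rfl⟩
    rw [SetLike.mem_coe, RingHom.mem_ker, map_sub, tensorMap_tmul, tensorMap_tmul, map_one,
      Algebra.algebraMap_self_apply, Algebra.algebraMap_eq_smul_one, TensorProduct.smul_tmul,
      sub_self]
  exact h hx

/-- The inverse map `C ⊗[B] C → (C ⊗[A] C) ⧸ towerIdeal`. -/
noncomputable def towerInv : C ⊗[B] C →ₗ[B] (C ⊗[A] C) ⧸ towerIdeal A B C :=
  TensorProduct.lift
    { toFun := fun c =>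
        { toFun := fun c' => Ideal.Quotient.mk (towerIdeal A B C) (c ⊗ₜ[A] c')
          map_add' := fun c' c'' => by rw [TensorProduct.tmul_add, map_add]
          map_smul' := fun b c' => by
            rw [RingHom.id_apply, Algebra.smul_def]
            change _ = Ideal.Quotient.mk (towerIdeal A B C) (b • (c ⊗ₜ[A] c'))
            rw [TensorProduct.smul_tmul', Algebra.smul_def, ← sub_eq_zero, ← map_sub,
              Ideal.Quotient.eq_zero_iff_mem]
            have : c ⊗ₜ[A] (algebraMap B C b * c') - (algebraMap B C b * c) ⊗ₜ[A] c' =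
                (c ⊗ₜ[A] c') * ((1 : C) ⊗ₜ[A] algebraMap B C b - algebraMap B C b ⊗ₜ[A] (1 : C)) := by
              rw [mul_sub, Algebra.TensorProduct.tmul_mul_tmul, Algebra.TensorProduct.tmul_mul_tmul,
                mul_one, mul_one, mul_comm c', mul_comm c]
            rw [this]
            exact Ideal.mul_mem_left _ _ (Ideal.subset_span ⟨b, rfl⟩) }
      map_add' := fun c c' => by
        ext c''
        simp [TensorProduct.add_tmul]
      map_smul' := fun b c => by
        ext c'
        simp only [LinearMap.coe_mk, AddHom.coe_mk, RingHom.id_apply, LinearMap.smul_apply]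
        rw [Algebra.smul_def]
        change _ = Ideal.Quotient.mk (towerIdeal A B C) (b • (c ⊗ₜ[A] c'))
        rw [TensorProduct.smul_tmul', Algebra.smul_def] }

theorem towerInv_tensorMap (x : C ⊗[A] C) :
    towerInv A B C (tensorMap A C B C x) = Ideal.Quotient.mk (towerIdeal A B C) x := by
  induction x using TensorProduct.induction_on with
  | zero => rw [map_zero, map_zero, map_zero]
  | tmul c c' =>
    rw [tensorMap_tmul]
    rfl
  | add x y hx hy => rw [map_add, map_add, map_add, hx, hy]

theorem ker_tensorMap_tower :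
    RingHom.ker (tensorMap A C B C).toRingHom = towerIdeal A B C := by
  ext x
  constructor
  · intro hx
    have h1 := towerInv_tensorMap A B C x
    have h2 : tensorMap A C B C x = 0 := hx
    rw [h2, map_zero] at h1
    exact Ideal.Quotient.eq_zero_iff_mem.mp h1.symm
  · intro hx
    exact tensorMap_towerIdeal A B C x hx

end Tower

section Generators

variable (A B : Type u) [CommRing A] [CommRing B] [Algebra A B]

/-- The diagonal ideal is generated by the `1 ⊗ b - b ⊗ 1` for `b` in a set of algebra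
generators. -/
theorem ideal_eq_span_of_adjoin (s : Set B) (hs : Algebra.adjoin A s = ⊤) :
    KaehlerDifferential.ideal A B =
      Ideal.span ((fun b => (1 : B) ⊗ₜ[A] b - b ⊗ₜ[A] (1 : B)) '' s) := by
  apply le_antisymm
  · rw [← KaehlerDifferential.span_range_eq_ideal, Ideal.span_le]
    rintro _ ⟨b, rfl⟩
    change (1 : B) ⊗ₜ[A] b - b ⊗ₜ[A] (1 : B) ∈
      Ideal.span ((fun b => (1 : B) ⊗ₜ[A] b - b ⊗ₜ[A] (1 : B)) '' s)
    have hb : b ∈ Algebra.adjoin A s := hs ▸ Algebra.mem_top
    induction hb using Algebra.adjoin_induction with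
    | mem x hx => exact Ideal.subset_span ⟨x, hx, rfl⟩
    | algebraMap r =>
      rw [Algebra.algebraMap_eq_smul_one, ← TensorProduct.smul_tmul, sub_self]
      exact Submodule.zero_mem _
    | add x y _ _ hx hy =>
      have : (1 : B) ⊗ₜ[A] (x + y) - (x + y) ⊗ₜ[A] (1 : B) =
          ((1 : B) ⊗ₜ[A] x - x ⊗ₜ[A] (1 : B)) + ((1 : B) ⊗ₜ[A] y - y ⊗ₜ[A] (1 : B)) := by
        rw [TensorProduct.tmul_add, TensorProduct.add_tmul]
        abel
      rw [this]
      exact Submodule.add_mem _ hx hy
    | mul x y _ _ hx hy =>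
      have : (1 : B) ⊗ₜ[A] (x * y) - (x * y) ⊗ₜ[A] (1 : B) =
          ((1 : B) ⊗ₜ[A] x) * ((1 : B) ⊗ₜ[A] y - y ⊗ₜ[A] (1 : B)) +
            (y ⊗ₜ[A] (1 : B)) * ((1 : B) ⊗ₜ[A] x - x ⊗ₜ[A] (1 : B)) := by
        simp only [mul_sub, Algebra.TensorProduct.tmul_mul_tmul, mul_one, one_mul]
        rw [mul_comm y x]
        abel
      rw [this]
      exact Submodule.add_mem _ (Ideal.mul_mem_left _ _ hy) (Ideal.mul_mem_left _ _ hx)
  · rw [Ideal.span_le]
    rintro _ ⟨b, _, rfl⟩
    exact KaehlerDifferential.one_smul_sub_smul_one_mem_ideal A b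

end Generators

end Groth.Agent.Lib.Helper4
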