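import Groth.Agent.Lib.Helper4PPRetract

/-!
The augmentation ideal of principal parts along a section (affine computation).
-/

namespace Groth.Agent.Lib.Helper4

open PP16
open scoped TensorProduct

universe u

section Aug

variable (n : ℕ) (A B : Type u) [CommRing A] [CommRing B] [Algebra A B]

/-- The augmentation `P^n_{B/A} → B`. -/
noncomputable def augHom : P n A B →+* B :=
  Ideal.Quotient.lift (KaehlerDifferential.ideal A B ^ (n + 1))
    (Algebra.TensorProduct.lmul' (S := B) A).toRingHom
    (fun x hx => by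
      have h1 : x ∈ KaehlerDifferential.ideal A B := Ideal.pow_le_self (Nat.succ_ne_zero n) hx
      exact (RingHom.mem_ker).mp h1)

theorem augHom_mk (x : B ⊗[A] B) :
    augHom n A B (Ideal.Quotient.mk _ x) = Algebra.TensorProduct.lmul' (S := B) A x := rfl

theorem augHom_algebraMap (b : B) : augHom n A B (algebraMap B (P n A B) b) = b := by
  change augHom n A B (Ideal.Quotient.mk _ (b ⊗ₜ[A] (1 : B))) = b
  rw [augHom_mk, Algebra.TensorProduct.lmul'_apply_tmul, mul_one]

theorem augHom_of_mem_augIdeal (x : P n A B) (hx : x ∈ augIdeal n A B) : augHom n A B x = 0 := by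
  have h : augIdeal n A B ≤ RingHom.ker (augHom n A B) := by
    rw [augIdeal, Ideal.map_le_iff_le_comap]
    intro t ht
    rw [Ideal.mem_comap, RingHom.mem_ker, augHom_mk]
    exact (RingHom.mem_ker).mp ht
  exact h hx

theorem sub_algebraMap_augHom_mem (x : P n A B) :
    x - algebraMap B (P n A B) (augHom n A B x) ∈ augIdeal n A B := by
  obtain ⟨t, rfl⟩ := Ideal.Quotient.mk_surjective x
  rw [augHom_mk]
  change Ideal.Quotient.mk _ t - Ideal.Quotient.mk _
    ((Algebra.TensorProduct.lmul' (S := B) A t) ⊗ₜ[A] (1 : B)) ∈ _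
  rw [← map_sub]
  refine Ideal.mem_map_of_mem _ ?_
  change _ ∈ RingHom.ker _
  rw [RingHom.mem_ker, map_sub, Algebra.TensorProduct.lmul'_apply_tmul, mul_one, sub_self]

end Aug

section Section

variable (n : ℕ) (A B : Type u) [CommRing A] [CommRing B] [Algebra A B] (K : Ideal B)

/-- The `B`-submodule `K • T^n` of `P^n_{B/A}`. -/
noncomputable abbrev smulAug : Submodule B (P n A B) :=
  K • (augIdeal n A B).restrictScalars B

theorem mul_mem_smulAug (p x : P n A B) (hx : x ∈ smulAug n A B K) :
    p * x ∈ smulAug n A B K := by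
  refine Submodule.smul_induction_on hx (fun k hk y hy => ?_) (fun x y hx hy => ?_)
  · rw [mul_smul_comm]
    exact Submodule.smul_mem_smul hk (Ideal.mul_mem_left _ p hy)
  · rw [mul_add]
    exact Submodule.add_mem _ hx hy

theorem augHom_mem_of_mem_map (x : P n A B) (hx : x ∈ K.map (algebraMap B (P n A B))) :
    augHom n A B x ∈ K := by
  have h : K.map (algebraMap B (P n A B)) ≤ K.comap (augHom n A B) := by
    rw [Ideal.map_le_iff_le_comap]
    intro k hk
    rw [Ideal.mem_comap, Ideal.mem_comap, augHom_algebraMap]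
    exact hk
  exact h hx

theorem sub_mem_smulAug_of_mem_map (x : P n A B) (hx : x ∈ K.map (algebraMap B (P n A B))) :
    x - algebraMap B (P n A B) (augHom n A B x) ∈ smulAug n A B K := by
  rw [Ideal.map] at hx
  induction hx using Submodule.span_induction with
  | mem x hx =>
    obtain ⟨k, _, rfl⟩ := hx
    rw [augHom_algebraMap, sub_self]
    exact Submodule.zero_mem _
  | zero =>
    rw [map_zero, map_zero, sub_zero]
    exact Submodule.zero_mem _
  | add x y _ _ hx hy =>
    have : x + y - algebraMap B (P n A B) (augHom n A B (x + y)) =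
        (x - algebraMap B (P n A B) (augHom n A B x)) +
          (y - algebraMap B (P n A B) (augHom n A B y)) := by
      rw [map_add, map_add]
      ring
    rw [this]
    exact Submodule.add_mem _ hx hy
  | smul p x hx' hx =>
    have hxK : augHom n A B x ∈ K := augHom_mem_of_mem_map n A B K x hx'
    have : p • x - algebraMap B (P n A B) (augHom n A B (p • x)) =
        p * (x - algebraMap B (P n A B) (augHom n A B x)) +
          (augHom n A B x) • (p - algebraMap B (P n A B) (augHom n A B p)) := by
      rw [smul_eq_mul, map_mul, map_mul, Algebra.smul_def]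
      ring
    rw [this]
    exact Submodule.add_mem _ (mul_mem_smulAug n A B K _ _ hx)
      (Submodule.smul_mem_smul hxK (sub_algebraMap_augHom_mem n A B p))

theorem mem_smulAug_of_mem_map_of_mem_augIdeal (x : P n A B)
    (hx : x ∈ K.map (algebraMap B (P n A B))) (hx' : x ∈ augIdeal n A B) :
    x ∈ smulAug n A B K := by
  have h := sub_mem_smulAug_of_mem_map n A B K x hx
  rwa [augHom_of_mem_augIdeal n A B x hx', map_zero, sub_zero] at h

end Section

section Retraction

variable (n : ℕ) (A B : Type u) [CommRing A] [CommRing B] [Algebra A B] (g : B →ₐ[A] A)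

/-- The class `ζ_b` of `1 ⊗ b - b ⊗ 1` in `P^n`. -/
noncomputable abbrev zetaP (b : B) : P n A B :=
  Ideal.Quotient.mk _ ((1 : B) ⊗ₜ[A] b - b ⊗ₜ[A] (1 : B))

theorem zetaP_mem_augIdeal (b : B) : zetaP n A B b ∈ augIdeal n A B :=
  Ideal.mem_map_of_mem _ (KaehlerDifferential.one_smul_sub_smul_one_mem_ideal A b)

theorem zetaP_sub_algebraMap (b : B) (a : A) :
    zetaP n A B (b - algebraMap A B a) = zetaP n A B b := by
  unfold zetaP
  congr 1
  rw [TensorProduct.tmul_sub, TensorProduct.sub_tmul, Algebra.algebraMap_eq_smul_one,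
    TensorProduct.smul_tmul]
  abel

theorem retTauP_of_mem_smulAug (x : P n A B) (hx : x ∈ smulAug n A B (RingHom.ker g)) :
    retTauP n A B g x = 0 := by
  refine Submodule.smul_induction_on hx (fun k hk y hy => ?_) (fun x y hx hy => ?_)
  · rw [Algebra.smul_def, map_mul]
    have : retTauP n A B g (algebraMap B (P n A B) k) = 0 := by
      change retTauP n A B g (Ideal.Quotient.mk _ (k ⊗ₜ[A] (1 : B))) = 0
      rw [retTauP_mk, retTau_tmul, RingHom.mem_ker.mp hk, map_zero, zero_mul, map_zero]
    rw [this, zero_mul]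
  · rw [map_add, hx, hy, add_zero]

theorem retTauP_zetaP (b : B) :
    retTauP n A B g (zetaP n A B b) = Ideal.Quotient.mk _ (b - algebraMap A B (g b)) := by
  rw [zetaP, retTauP_mk, map_sub, retTau_tmul, retTau_tmul, map_one, map_one, one_mul, mul_one]

/-- `ζ_b ∈ K • T^n` iff `b - g b ∈ K^(n+1)`. -/
theorem zetaP_mem_smulAug_iff (b : B) :
    zetaP n A B b ∈ smulAug n A B (RingHom.ker g) ↔
      b - algebraMap A B (g b) ∈ RingHom.ker g ^ (n + 1) := by
  constructor
  · intro h
    have h1 := retTauP_of_mem_smulAug n A B g _ h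
    rw [retTauP_zetaP] at h1
    exact Ideal.Quotient.eq_zero_iff_mem.mp h1
  · intro h
    rw [← zetaP_sub_algebraMap n A B b (g b)]
    set c := b - algebraMap A B (g b) with hc
    refine mem_smulAug_of_mem_map_of_mem_augIdeal n A B (RingHom.ker g) _ ?_
      (zetaP_mem_augIdeal n A B c)
    -- `θ c = 0`, so `d^n c ∈ K P^n`, and `c ⊗ 1 ∈ K P^n`
    have h1 : retTheta n A B g c = 0 := by
      have : c ∈ RingHom.ker (retTheta n A B g) := by
        rw [retTheta_ker]
        exact h
      exact this
    have h2 : dn n A B c ∈ (RingHom.ker g).map (algebraMap B (P n A B)) :=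
      Ideal.Quotient.eq_zero_iff_mem.mp h1
    have h3 : algebraMap B (P n A B) c ∈ (RingHom.ker g).map (algebraMap B (P n A B)) :=
      Ideal.mem_map_of_mem _ (Ideal.pow_le_self (Nat.succ_ne_zero n) h)
    have h4 : zetaP n A B c = dn n A B c - algebraMap B (P n A B) c := by
      unfold zetaP
      rw [map_sub]
      rfl
    rw [h4]
    exact Submodule.sub_mem _ h2 h3

end Retraction

end Groth.Agent.Lib.Helper4
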