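import Groth.Agent.Lib.Helper4PPRing
import Mathlib.LinearAlgebra.SymmetricAlgebra.Basic

/-!
Principal parts of a symmetric algebra: `P^n_{S(E)/A} ≃ S(E) ⊗ (S(E) / K^(n+1))`.
-/

namespace Groth.Agent.Lib.Helper4

open PP16
open scoped TensorProduct

universe u

section Sym

variable (n : ℕ) (A : Type u) [CommRing A] (E : Type u) [AddCommGroup E] [Module A E]

local notation "SE" => SymmetricAlgebra A E

theorem adjoin_range_symι : Algebra.adjoin A (Set.range (SymmetricAlgebra.ι A E)) = ⊤ := by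
  rw [eq_top_iff]
  rintro x -
  induction x using SymmetricAlgebra.induction with
  | algebraMap r => exact Subalgebra.algebraMap_mem _ r
  | ι x => exact Algebra.subset_adjoin ⟨x, rfl⟩
  | mul a b ha hb => exact Subalgebra.mul_mem _ ha hb
  | add a b ha hb => exact Subalgebra.add_mem _ ha hb

/-- The augmentation ideal of the symmetric algebra is generated by `E`. -/
theorem ker_lift_zero_eq_span :
    RingHom.ker (SymmetricAlgebra.lift (0 : E →ₗ[A] A)) =
      Ideal.span (Set.range (SymmetricAlgebra.ι A E)) := by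
  apply le_antisymm
  · intro x hx
    have key : ∀ y : SE, y - algebraMap A SE (SymmetricAlgebra.lift (0 : E →ₗ[A] A) y) ∈
        Ideal.span (Set.range (SymmetricAlgebra.ι A E)) := by
      intro y
      induction y using SymmetricAlgebra.induction with
      | algebraMap r =>
        rw [AlgHom.commutes, Algebra.algebraMap_self_apply, sub_self]
        exact Submodule.zero_mem _
      | ι x =>
        rw [SymmetricAlgebra.lift_ι_apply, LinearMap.zero_apply, map_zero, sub_zero]
        exact Ideal.subset_span ⟨x, rfl⟩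
      | mul a b ha hb =>
        have : a * b - algebraMap A SE (SymmetricAlgebra.lift (0 : E →ₗ[A] A) (a * b)) =
            a * (b - algebraMap A SE (SymmetricAlgebra.lift (0 : E →ₗ[A] A) b)) +
              algebraMap A SE (SymmetricAlgebra.lift (0 : E →ₗ[A] A) b) *
                (a - algebraMap A SE (SymmetricAlgebra.lift (0 : E →ₗ[A] A) a)) := by
          rw [map_mul, map_mul]
          ring
        rw [this]
        exact Submodule.add_mem _ (Ideal.mul_mem_left _ _ hb) (Ideal.mul_mem_left _ _ ha)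
      | add a b ha hb =>
        have : a + b - algebraMap A SE (SymmetricAlgebra.lift (0 : E →ₗ[A] A) (a + b)) =
            (a - algebraMap A SE (SymmetricAlgebra.lift (0 : E →ₗ[A] A) a)) +
              (b - algebraMap A SE (SymmetricAlgebra.lift (0 : E →ₗ[A] A) b)) := by
          rw [map_add, map_add]
          ring
        rw [this]
        exact Submodule.add_mem _ ha hb
    have := key x
    rwa [RingHom.mem_ker.mp hx, map_zero, sub_zero] at this
  · rw [Ideal.span_le]
    rintro _ ⟨t, rfl⟩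
    rw [SetLike.mem_coe, RingHom.mem_ker, SymmetricAlgebra.lift_ι_apply, LinearMap.zero_apply]

/-- The comultiplication-like map `t ↦ t ⊗ 1 + 1 ⊗ t`. -/
noncomputable def symDelta : SE →ₐ[A] SE ⊗[A] SE :=
  SymmetricAlgebra.lift
    ((Algebra.TensorProduct.includeLeft : SE →ₐ[A] SE ⊗[A] SE).toLinearMap ∘ₗ
        SymmetricAlgebra.ι A E +
      (Algebra.TensorProduct.includeRight : SE →ₐ[A] SE ⊗[A] SE).toLinearMap ∘ₗ
        SymmetricAlgebra.ι A E)

theorem symDelta_ι (t : E) :
    symDelta A E (SymmetricAlgebra.ι A E t) =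
      SymmetricAlgebra.ι A E t ⊗ₜ[A] (1 : SE) + (1 : SE) ⊗ₜ[A] SymmetricAlgebra.ι A E t := by
  simp [symDelta]

/-- The map `t ↦ 1 ⊗ t - t ⊗ 1`. -/
noncomputable def symDelta' : SE →ₐ[A] SE ⊗[A] SE :=
  SymmetricAlgebra.lift
    ((Algebra.TensorProduct.includeRight : SE →ₐ[A] SE ⊗[A] SE).toLinearMap ∘ₗ
        SymmetricAlgebra.ι A E -
      (Algebra.TensorProduct.includeLeft : SE →ₐ[A] SE ⊗[A] SE).toLinearMap ∘ₗ
        SymmetricAlgebra.ι A E)

theorem symDelta'_ι (t : E) :
    symDelta' A E (SymmetricAlgebra.ι A E t) =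
      (1 : SE) ⊗ₜ[A] SymmetricAlgebra.ι A E t - SymmetricAlgebra.ι A E t ⊗ₜ[A] (1 : SE) := by
  simp [symDelta']

/-- `b ⊗ c ↦ (b ⊗ 1) Δ(c)`. -/
noncomputable def symPhi : SE ⊗[A] SE →ₐ[SE] SE ⊗[A] SE :=
  Algebra.TensorProduct.lift (Algebra.ofId SE (SE ⊗[A] SE)) (symDelta A E)
    (fun _ _ => Commute.all _ _)

noncomputable def symPhi' : SE ⊗[A] SE →ₐ[SE] SE ⊗[A] SE :=
  Algebra.TensorProduct.lift (Algebra.ofId SE (SE ⊗[A] SE)) (symDelta' A E)
    (fun _ _ => Commute.all _ _)

theorem symPhi_one_tmul (c : SE) : symPhi A E ((1 : SE) ⊗ₜ[A] c) = symDelta A E c := by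
  rw [symPhi, Algebra.TensorProduct.lift_tmul, map_one, one_mul]

theorem symPhi_tmul_one (b : SE) : symPhi A E (b ⊗ₜ[A] (1 : SE)) = b ⊗ₜ[A] (1 : SE) := by
  simp [symPhi, Algebra.ofId_apply]

theorem symPhi'_one_tmul (c : SE) : symPhi' A E ((1 : SE) ⊗ₜ[A] c) = symDelta' A E c := by
  rw [symPhi', Algebra.TensorProduct.lift_tmul, map_one, one_mul]

theorem symPhi'_tmul_one (b : SE) : symPhi' A E (b ⊗ₜ[A] (1 : SE)) = b ⊗ₜ[A] (1 : SE) := by
  simp [symPhi', Algebra.ofId_apply]

theorem symPhi_comp_symPhi' : (symPhi A E).comp (symPhi' A E) = AlgHom.id SE (SE ⊗[A] SE) := by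
  apply Algebra.TensorProduct.ext
  · ext
  · apply SymmetricAlgebra.algHom_ext
    ext t
    change symPhi A E (symPhi' A E ((1 : SE) ⊗ₜ[A] SymmetricAlgebra.ι A E t)) =
      (1 : SE) ⊗ₜ[A] SymmetricAlgebra.ι A E t
    rw [symPhi'_one_tmul, symDelta'_ι, map_sub, symPhi_one_tmul, symPhi_tmul_one, symDelta_ι,
      add_sub_cancel_left]

theorem symPhi'_comp_symPhi : (symPhi' A E).comp (symPhi A E) = AlgHom.id SE (SE ⊗[A] SE) := by
  apply Algebra.TensorProduct.ext
  · ext
  · apply SymmetricAlgebra.algHom_ext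
    ext t
    change symPhi' A E (symPhi A E ((1 : SE) ⊗ₜ[A] SymmetricAlgebra.ι A E t)) =
      (1 : SE) ⊗ₜ[A] SymmetricAlgebra.ι A E t
    rw [symPhi_one_tmul, symDelta_ι, map_add, symPhi'_one_tmul, symPhi'_tmul_one, symDelta'_ι,
      add_sub_cancel]

/-- `Φ` as an algebra automorphism. -/
noncomputable def symPhiEquiv : (SE ⊗[A] SE) ≃ₐ[SE] (SE ⊗[A] SE) :=
  AlgEquiv.ofAlgHom (symPhi A E) (symPhi' A E) (symPhi_comp_symPhi' A E) (symPhi'_comp_symPhi A E)

end Sym

section SymMain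

variable (n : ℕ) (A : Type u) [CommRing A] (E : Type u) [AddCommGroup E] [Module A E]

local notation "SE" => SymmetricAlgebra A E
local notation "KE" => RingHom.ker (SymmetricAlgebra.lift (0 : E →ₗ[A] A))

/-- `B ⊗ B → B ⊗ (B / K^(n+1))`. -/
noncomputable def symQuot : SE ⊗[A] SE →ₐ[SE] SE ⊗[A] (SE ⧸ KE ^ (n + 1)) :=
  Algebra.TensorProduct.map (AlgHom.id SE SE) (Ideal.Quotient.mkₐ A (KE ^ (n + 1)))

theorem symQuot_tmul (b c : SE) :
    symQuot n A E (b ⊗ₜ[A] c) = b ⊗ₜ[A] (Ideal.Quotient.mk (KE ^ (n + 1)) c) := rfl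

theorem symQuot_surjective : Function.Surjective (symQuot n A E) :=
  Algebra.TensorProduct.map_surjective (AlgHom.id SE SE) (Ideal.Quotient.mkₐ A (KE ^ (n + 1)))
    (fun x => ⟨x, rfl⟩) Ideal.Quotient.mk_surjective

theorem ker_symQuot :
    RingHom.ker (symQuot n A E) =
      (KE ^ (n + 1)).map (Algebra.TensorProduct.includeRight : SE →ₐ[A] SE ⊗[A] SE) := by
  have h := Algebra.TensorProduct.lTensor_ker (A := SE) (Ideal.Quotient.mkₐ A (KE ^ (n + 1)))
    Ideal.Quotient.mk_surjective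
  have hk : RingHom.ker (Ideal.Quotient.mkₐ A (KE ^ (n + 1))) = KE ^ (n + 1) := by
    ext x
    exact Ideal.Quotient.eq_zero_iff_mem
  rw [hk] at h
  rw [← h]
  rfl

theorem ideal_map_symPhi :
    (KaehlerDifferential.ideal A SE).map (symPhi A E) =
      (KE).map (Algebra.TensorProduct.includeRight : SE →ₐ[A] SE ⊗[A] SE) := by
  rw [ideal_eq_span_of_adjoin A SE (Set.range (SymmetricAlgebra.ι A E)) (adjoin_range_symι A E),
    ker_lift_zero_eq_span, Ideal.map_span, Ideal.map_span, ← Set.range_comp, ← Set.range_comp,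
    ← Set.range_comp]
  congr 2
  funext t
  simp only [Function.comp_apply]
  rw [map_sub, symPhi_one_tmul, symPhi_tmul_one, symDelta_ι, add_sub_cancel_left]
  rfl

/-- The composite `F : B ⊗ B → B ⊗ (B / K^(n+1))`. -/
noncomputable def symF : SE ⊗[A] SE →ₐ[SE] SE ⊗[A] (SE ⧸ KE ^ (n + 1)) :=
  (symQuot n A E).comp (symPhi A E)

theorem symF_surjective : Function.Surjective (symF n A E) :=
  (symQuot_surjective n A E).comp (symPhiEquiv A E).surjective

theorem ker_symF : RingHom.ker (symF n A E) = KaehlerDifferential.ideal A SE ^ (n + 1) := by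
  have hbij : Function.Bijective (symPhi A E) := (symPhiEquiv A E).bijective
  have h1 : (KaehlerDifferential.ideal A SE ^ (n + 1)).map (symPhi A E) =
      RingHom.ker (symQuot n A E) := by
    rw [ker_symQuot, Ideal.map_pow, Ideal.map_pow, ideal_map_symPhi]
  have h2 : RingHom.ker (symF n A E) = (RingHom.ker (symQuot n A E)).comap (symPhi A E) := by
    ext x
    rfl
  rw [h2, ← h1]
  exact Ideal.comap_map_of_bijective (symPhi A E) hbij

/-- EGA IV 16.4.?: principal parts of a symmetric algebra. -/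
noncomputable def symPPEquiv :
    P n A SE ≃ₐ[SE] SE ⊗[A] (SE ⧸ KE ^ (n + 1)) :=
  (Ideal.quotientEquivAlgOfEq SE (ker_symF n A E).symm).trans
    (Ideal.quotientKerAlgEquivOfSurjective (symF_surjective n A E))

theorem symPPEquiv_dn_ι (t : E) :
    symPPEquiv n A E (dn n A SE (SymmetricAlgebra.ι A E t)) =
      SymmetricAlgebra.ι A E t ⊗ₜ[A] (1 : SE ⧸ KE ^ (n + 1)) +
        (1 : SE) ⊗ₜ[A] Ideal.Quotient.mk (KE ^ (n + 1)) (SymmetricAlgebra.ι A E t) := by
  change symF n A E ((1 : SE) ⊗ₜ[A] SymmetricAlgebra.ι A E t) = _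
  rw [symF, AlgHom.comp_apply, symPhi_one_tmul, symDelta_ι, map_add, symQuot_tmul, symQuot_tmul,
    map_one]

end SymMain

end Groth.Agent.Lib.Helper4
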