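import Groth.Agent.Lib.Helper4IdealPres
import Groth.Agent.Lib.Helper4HBAlg
import Groth.Agent.Lib.Helper4CIConormalD
import Groth.Agent.Lib.Helper27DehomAway

/-!
# Hilbert–Burch resolution of the ideal sheaf of (plane ∪ quadric) in `P^n` (helper4), part A

On `Proj k[T_0..T_n]`: an ideal sheaf which on the standard charts is
`(l₁, l₂) ∩ (m, a l₁ + b l₂ + c m)` (dehomogenised), under chart regularity hypotheses, has a
resolution `0 → O(-3)^2 → O(-2)^3 → J → 0`.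
-/

set_option autoImplicit false
set_option linter.style.haveILetI false
universe u

open CategoryTheory CategoryTheory.Limits AlgebraicGeometry TopologicalSpace Opposite
  HomogeneousLocalization MvPolynomial

namespace Groth.Agent.Lib.Helper4.PlaneQuadric

open Groth.Agent.Lib.Helper27GrTildeSect Groth.Agent.Lib.Helper27ProjGamma
  Groth.Agent.Lib.Helper27PnSections Groth.Agent.Lib.Helper27Laurent
  Groth.Agent.Lib.Helper27PnLau Groth.Agent.Lib.Helper27PnLauMul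
  Groth.Agent.Lib.Helper27PnHom Groth.Agent.Lib.Helper27KoszHom
  Groth.Agent.Lib.Helper27KoszPn Groth.Agent.Lib.Helper27KoszReg
  Groth.Agent.Lib.Helper23.SecTw Groth.Agent.Lib.Helper6 Groth.Agent.Lib.Helper23.Extend
  Groth.Agent.Lib.Helper23.GenLocus Groth.Agent.Lib.Helper4.HypIdeal
  Groth.Agent.Lib.Helper4.CIChart Groth.Agent.Lib.Helper4.CIConormal
  Groth.Agent.Lib.Helper4

variable {n : ℕ} {k : Type u} [Field k]

local notation "𝒢" => CohB1.polyGrading n k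
local notation "σ'" => Fin (n + 1)

/-- dehomogenisation `G ↦ G / X_i^{deg G}` as a ring hom to functions on `D₊(X_i)`. -/
noncomputable def cfR (i : σ') : MvPolynomial σ' k →+* Γ(Proj 𝒢, Ui n k i) :=
  (Proj.awayToSection 𝒢 (X i : MvPolynomial σ' k)).hom.comp
    (Groth.Agent.Lib.Helper27DehomAway.dehA (hX n k i))

theorem cfun_eq_cfR {d : ℕ} (G : MvPolynomial σ' k) (hG : G ∈ 𝒢 d) (i : σ') :
    HypIdeal.cfun G hG i = cfR i G := by
  unfold HypIdeal.cfun cfR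
  rw [RingHom.comp_apply, Groth.Agent.Lib.Helper27DehomAway.dehA_of_mem (hX n k i) hG]


theorem exists_pres (J : (Proj 𝒢).IdealSheafData) (l₁ l₂ m a b c : MvPolynomial σ' k)
    (hl₁ : l₁ ∈ 𝒢 1) (hl₂ : l₂ ∈ 𝒢 1) (hm : m ∈ 𝒢 1) (ha : a ∈ 𝒢 1) (hb : b ∈ 𝒢 1)
    (hJ : ∀ i, J.ideal ⟨Ui n k i, isAffineOpen_Ui n k i⟩ =
      (Ideal.span {cfR i l₁} ⊔ Ideal.span {cfR i l₂}) ⊓
        (Ideal.span {cfR i m} ⊔
          Ideal.span {cfR i a * cfR i l₁ + cfR i b * cfR i l₂ + cfR i c * cfR i m}))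
    (hL1 : ∀ i x, x * cfR i l₁ = 0 → x = 0) (hM : ∀ i x, x * cfR i m = 0 → x = 0)
    (h1 : ∀ i x, x * cfR i l₂ ∈ Ideal.span {cfR i l₁} → x ∈ Ideal.span {cfR i l₁})
    (h2 : ∀ i x, x * cfR i m ∈ Ideal.span {cfR i l₁} ⊔ Ideal.span {cfR i l₂} →
      x ∈ Ideal.span {cfR i l₁} ⊔ Ideal.span {cfR i l₂})
    (h3 : ∀ i x, x * (cfR i a * cfR i l₁ + cfR i b * cfR i l₂ + cfR i c * cfR i m) ∈
      Ideal.span {cfR i m} → x ∈ Ideal.span {cfR i m}) :
    ∃ (f : (∐ fun _ : Fin 2 => OO n k (-3)) ⟶ (∐ fun _ : Fin 3 => OO n k (-2)))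
      (p : (∐ fun _ : Fin 3 => OO n k (-2)) ⟶ ClSub.idealMod J) (w : f ≫ p = 0),
      (ShortComplex.mk f p w).ShortExact := by
  obtain ⟨e0⟩ := Groth.Agent.Lib.Helper27GlobGenPn.nonempty_OO_zero_iso n k
  let u : ∀ i, Γ(Proj 𝒢, Ui n k i) := fun i => ofS (Ui n k i) (e0.hom.app (Ui n k i) (gen 0 i))
  have hu : ∀ i, IsUnit (u i) := by
    intro i
    have h1 := coef_spec (isGen_gen (n := n) (R := k) 0 i) le_rfl
      (e0.inv.app (Ui n k i) (toS (Ui n k i) 1))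
    rw [res_self] at h1
    have h2 := congrArg (e0.hom.app (Ui n k i)) h1
    rw [Scheme.Modules.Hom.app_smul] at h2
    have h3 : e0.hom.app (Ui n k i) (e0.inv.app (Ui n k i) (toS (Ui n k i) 1)) =
        toS (Ui n k i) 1 := by
      have := e0.inv_hom_id
      have h4 : (e0.inv ≫ e0.hom).app (Ui n k i) (toS (Ui n k i) 1) = toS (Ui n k i) 1 := by
        rw [this]; rfl
      exact h4
    rw [h3] at h2
    have h5 : coef (isGen_gen (n := n) (R := k) 0 i) le_rfl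
        (e0.inv.app (Ui n k i) (toS (Ui n k i) 1)) * u i = 1 := congrArg (ofS (Ui n k i)) h2
    rw [mul_comm] at h5
    exact IsUnit.of_mul_eq_one _ h5
  -- the generators and relations
  let Gp : Fin 3 → MvPolynomial σ' k := ![m * l₁, m * l₂, a * l₁ + b * l₂]
  have hGp : ∀ j, Gp j ∈ 𝒢 2 := by
    intro j
    fin_cases j
    · exact SetLike.mul_mem_graded hm hl₁
    · exact SetLike.mul_mem_graded hm hl₂
    · exact Submodule.add_mem _ (SetLike.mul_mem_graded ha hl₁) (SetLike.mul_mem_graded hb hl₂)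
  let Rp : Fin 2 → Fin 3 → MvPolynomial σ' k := ![![l₂, -l₁, 0], ![a, b, -m]]
  have hRp : ∀ r j, Rp r j ∈ 𝒢 1 := by
    intro r j
    fin_cases r <;> fin_cases j
    · exact hl₂
    · exact Submodule.neg_mem _ hl₁
    · exact Submodule.zero_mem _
    · exact ha
    · exact hb
    · exact Submodule.neg_mem _ hm
  have hGc : ∀ i j, HypIdeal.cfun (Gp j) (hGp j) i =
      HBAlg.gens (cfR i l₁) (cfR i l₂) (cfR i m) (cfR i a) (cfR i b) j := by
    intro i j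
    rw [cfun_eq_cfR]
    fin_cases j <;> simp [Gp, HBAlg.gens]
  have hRc : ∀ i r j, HypIdeal.cfun (Rp r j) (hRp r j) i =
      HBAlg.rels (cfR i l₁) (cfR i l₂) (cfR i m) (cfR i a) (cfR i b) r j := by
    intro i r j
    rw [cfun_eq_cfR]
    fin_cases r <;> fin_cases j <;> simp [Rp, HBAlg.rels]
  have hd2 : (-2 : ℤ) + ((2 : ℕ) : ℤ) = 0 := by norm_num
  have hd1 : (-3 : ℤ) + ((1 : ℕ) : ℤ) = -2 := by norm_num
  let M : Fin 3 → (Proj 𝒢).Modules := fun _ => OO n k (-2)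
  let N : Fin 2 → (Proj 𝒢).Modules := fun _ => OO n k (-3)
  let μ : ∀ j, M j ⟶ Coh.structureModule (Proj 𝒢) := fun j =>
    mulF 2 hd2 (Gp j) (hGp j) ≫ e0.hom
  let ρ : ∀ r j, N r ⟶ M j := fun r j => mulF 1 hd1 (Rp r j) (hRp r j)
  have hvv : ∀ j i, vv M μ (fun i => Ui n k i) (fun _ i => gen (-2 : ℤ) i) j i =
      HBAlg.gens (cfR i l₁) (cfR i l₂) (cfR i m) (cfR i a) (cfR i b) j * u i := by
    intro j i
    rw [← hGc]
    change ofS _ (e0.hom.app _ ((mulF 2 hd2 (Gp j) (hGp j)).app _ (gen _ i))) = _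
    rw [mulF_gen, Scheme.Modules.Hom.app_smul]
    rfl
  haveI hMq : ∀ j, (M j).IsQuasicoherent := fun j =>
    isQuasicoherent_of_isInvertible _ (isInvertible_OO n k _)
  haveI hNq : ∀ r, (N r).IsQuasicoherent := fun r =>
    isQuasicoherent_of_isInvertible _ (isInvertible_OO n k _)
  refine exists_shortExact_pres J M N μ ρ (fun i => Ui n k i)
    (isOpenCover_Ui n k) (isAffineOpen_Ui n k) (fun _ i => gen (-2 : ℤ) i)
    (fun _ i => isGen_gen _ i) (fun _ i => gen (-3 : ℤ) i) (fun _ i => isGen_gen _ i)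
    (fun i => HBAlg.rels (cfR i l₁) (cfR i l₂) (cfR i m) (cfR i a) (cfR i b))
    ?_ ?_ ?_ ?_ ?_ hMq hNq
  · intro r j i
    rw [← hRc]
    exact mulF_gen hd1 (Rp r j) (hRp r j) i
  · intro i
    simp only [hvv]
    rw [span_range_mul_unit _ (hu i)]
    exact (hJ i).trans (HBAlg.inter_eq _ _ _ _ _ _ (h2 i))
  · intro i r
    simp only [hvv]
    have := HBAlg.rels_gens (cfR i l₁) (cfR i l₂) (cfR i m) (cfR i a) (cfR i b) r
    calc _ = (∑ j, HBAlg.rels (cfR i l₁) (cfR i l₂) (cfR i m) (cfR i a) (cfR i b) r j *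
          HBAlg.gens (cfR i l₁) (cfR i l₂) (cfR i m) (cfR i a) (cfR i b) j) * u i := by
            rw [Finset.sum_mul]
            exact Finset.sum_congr rfl fun j _ => by ring
      _ = 0 := by rw [this, zero_mul]
  · intro i w hw
    exact HBAlg.syz_unique _ _ _ _ _ (hL1 i) (hM i) w hw
  · intro i cc hc
    simp only [hvv] at hc
    have h4 : (∑ j, cc j * HBAlg.gens (cfR i l₁) (cfR i l₂) (cfR i m) (cfR i a) (cfR i b) j) *
        u i = 0 := by
      rw [Finset.sum_mul, ← hc]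
      exact Finset.sum_congr rfl fun j _ => by ring
    have h5 := (hu i).mul_left_eq_zero.mp h4
    exact HBAlg.syz_exists _ _ _ _ _ (cfR i c) (hL1 i) (hM i) (h1 i) (h3 i) cc h5

/-- the same with the chart data in `cfun` form. -/
theorem exists_pres' (J : (Proj 𝒢).IdealSheafData) (l₁ l₂ m a b c q : MvPolynomial σ' k)
    (hl₁ : l₁ ∈ 𝒢 1) (hl₂ : l₂ ∈ 𝒢 1) (hm : m ∈ 𝒢 1) (ha : a ∈ 𝒢 1) (hb : b ∈ 𝒢 1)
    (hqm : q ∈ 𝒢 2) (hq : q = a * l₁ + b * l₂ + c * m)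
    (hJ : ∀ i, J.ideal ⟨Ui n k i, isAffineOpen_Ui n k i⟩ =
      (Ideal.span {HypIdeal.cfun l₁ hl₁ i} ⊔ Ideal.span {HypIdeal.cfun l₂ hl₂ i}) ⊓
        (Ideal.span {HypIdeal.cfun m hm i} ⊔ Ideal.span {HypIdeal.cfun q hqm i}))
    (hL1 : ∀ i x, x * HypIdeal.cfun l₁ hl₁ i = 0 → x = 0)
    (hM : ∀ i x, x * HypIdeal.cfun m hm i = 0 → x = 0)
    (h1 : ∀ i x, x * HypIdeal.cfun l₂ hl₂ i ∈ Ideal.span {HypIdeal.cfun l₁ hl₁ i} →
      x ∈ Ideal.span {HypIdeal.cfun l₁ hl₁ i})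
    (h2 : ∀ i x, x * HypIdeal.cfun m hm i ∈
        Ideal.span {HypIdeal.cfun l₁ hl₁ i} ⊔ Ideal.span {HypIdeal.cfun l₂ hl₂ i} →
      x ∈ Ideal.span {HypIdeal.cfun l₁ hl₁ i} ⊔ Ideal.span {HypIdeal.cfun l₂ hl₂ i})
    (h3 : ∀ i x, x * HypIdeal.cfun q hqm i ∈ Ideal.span {HypIdeal.cfun m hm i} →
      x ∈ Ideal.span {HypIdeal.cfun m hm i}) :
    ∃ (f : (∐ fun _ : Fin 2 => OO n k (-3)) ⟶ (∐ fun _ : Fin 3 => OO n k (-2)))
      (p : (∐ fun _ : Fin 3 => OO n k (-2)) ⟶ ClSub.idealMod J) (w : f ≫ p = 0),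
      (ShortComplex.mk f p w).ShortExact := by
  have hqc : ∀ i, HypIdeal.cfun q hqm i =
      cfR i a * cfR i l₁ + cfR i b * cfR i l₂ + cfR i c * cfR i m := by
    intro i
    rw [cfun_eq_cfR, hq, map_add, map_add, map_mul, map_mul, map_mul]
  refine exists_pres J l₁ l₂ m a b c hl₁ hl₂ hm ha hb ?_ ?_ ?_ ?_ ?_ ?_
  · intro i
    have h := hJ i
    rw [hqc i, cfun_eq_cfR l₁ hl₁ i, cfun_eq_cfR l₂ hl₂ i, cfun_eq_cfR m hm i] at h
    exact h
  · intro i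
    have h := hL1 i
    rw [cfun_eq_cfR l₁ hl₁ i] at h
    exact h
  · intro i
    have h := hM i
    rw [cfun_eq_cfR m hm i] at h
    exact h
  · intro i
    have h := h1 i
    rw [cfun_eq_cfR l₁ hl₁ i, cfun_eq_cfR l₂ hl₂ i] at h
    exact h
  · intro i
    have h := h2 i
    rw [cfun_eq_cfR l₁ hl₁ i, cfun_eq_cfR l₂ hl₂ i, cfun_eq_cfR m hm i] at h
    exact h
  · intro i
    have h := h3 i
    rw [hqc i, cfun_eq_cfR m hm i] at h
    exact h

end Groth.Agent.Lib.Helper4.PlaneQuadric
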