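import Groth.Agent.Lib.Helper4PlaneQuadricA
import Groth.Agent.Lib.Helper4LinDimB
import Groth.Agent.Lib.Helper4CICohB

/-!
# Hilbert–Burch resolution of the ideal sheaf of (plane ∪ quadric) in `P^n` (helper4), part B

Chart regularity facts on `P^n_k` and the resolution
`0 → O(-3)^2 → O(-2)^3 → I_{V(l₁,l₂) ∪ V(m,q)} → 0`.
-/

set_option autoImplicit false
set_option linter.style.haveILetI false
universe u

open CategoryTheory CategoryTheory.Limits AlgebraicGeometry TopologicalSpace Opposite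
  HomogeneousLocalization MvPolynomial

namespace Groth.Agent.Lib.Helper4.PlaneQuadric

open Groth.Agent.Lib.Helper4.HypIdeal Groth.Agent.Lib.Helper4.CIChart
  Groth.Agent.Lib.Helper4.CICoh Groth.Agent.Lib.Helper4.LinDim

variable {n : ℕ} {k : Type u} [Field k]

theorem span_range_fin_one {B : Type*} [CommRing B] (f : Fin 1 → B) :
    Ideal.span (Set.range f) = Ideal.span {f 0} := by
  rw [Set.range_unique]
  rfl

theorem span_range_fin_two {B : Type*} [CommRing B] (f : Fin 2 → B) :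
    Ideal.span (Set.range f) = Ideal.span {f 0} ⊔ Ideal.span {f 1} := by
  rw [← Ideal.span_union]
  congr 1
  ext x
  constructor
  · rintro ⟨j, rfl⟩
    fin_cases j
    · exact Or.inl rfl
    · exact Or.inr rfl
  · rintro (h | h)
    · exact ⟨0, h.symm⟩
    · exact ⟨1, h.symm⟩

/-- `l₂` is regular modulo `l₁` on the charts. -/
theorem reg_lin_two (hn : 2 ≤ n) (l₁ l₂ : LefPen.Form n k 1)
    (hlin : LinearIndependent k ![l₁, l₂]) (i : Fin (n + 1))
    (x : Γ(CohB1.ProjSpace n k, LefPen.chart n k i))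
    (hx : x * LefPen.dehom l₂ i ∈ Ideal.span {LefPen.dehom l₁ i}) :
    x ∈ Ideal.span {LefPen.dehom l₁ i} := by
  have hdim := dim_ciIdeal_linear_le (n := n) (r := 2) hn ![l₁, l₂] hlin
  have key := regular_chart (r := 1) hn (a := fun _ => 1) ![l₁, l₂] hdim i x
  rw [ciIdeal_ideal_chart, span_range_fin_one] at key
  exact key hx

/-- `m` is regular modulo `(l₁, l₂)` on the charts. -/
theorem reg_lin_three (hn : 3 ≤ n) (l₁ l₂ m : LefPen.Form n k 1)
    (hlin : LinearIndependent k ![l₁, l₂, m]) (i : Fin (n + 1))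
    (x : Γ(CohB1.ProjSpace n k, LefPen.chart n k i))
    (hx : x * LefPen.dehom m i ∈
      Ideal.span {LefPen.dehom l₁ i} ⊔ Ideal.span {LefPen.dehom l₂ i}) :
    x ∈ Ideal.span {LefPen.dehom l₁ i} ⊔ Ideal.span {LefPen.dehom l₂ i} := by
  have hdim := dim_ciIdeal_linear_le (n := n) (r := 3) hn ![l₁, l₂, m] hlin
  have key := regular_chart (r := 2) hn (a := fun _ => 1) ![l₁, l₂, m] hdim i x
  rw [ciIdeal_ideal_chart, span_range_fin_two] at key
  exact key hx

/-- the family `(m, q)` of degrees `(1, 2)`. -/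
noncomputable def mq (m : LefPen.Form n k 1) (q : LefPen.Form n k 2) :
    ∀ j : Fin 2, LefPen.Form n k ((j : ℕ) + 1)
  | ⟨0, _⟩ => m
  | ⟨1, _⟩ => q

theorem ciIdeal_mq (m : LefPen.Form n k 1) (q : LefPen.Form n k 2) :
    LefPen.ciIdeal (mq m q) = LefPen.hypIdeal m ⊔ LefPen.hypIdeal q := by
  unfold LefPen.ciIdeal
  apply le_antisymm
  · refine iSup_le fun j => ?_
    fin_cases j
    · exact le_sup_left
    · exact le_sup_right
  · exact sup_le (le_iSup (fun j => LefPen.hypIdeal (mq m q j)) 0)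
      (le_iSup (fun j => LefPen.hypIdeal (mq m q j)) 1)

/-- `q` is regular modulo `m` on the charts when `V(m, q)` has dimension `≤ n - 2`. -/
theorem reg_mq (hn : 2 ≤ n) (m : LefPen.Form n k 1) (q : LefPen.Form n k 2)
    (hdim : topologicalKrullDim ↥(LefPen.hypIdeal m ⊔ LefPen.hypIdeal q).subscheme ≤
      ((n - 2 : ℕ) : WithBot ℕ∞)) (i : Fin (n + 1))
    (x : Γ(CohB1.ProjSpace n k, LefPen.chart n k i))
    (hx : x * LefPen.dehom q i ∈ Ideal.span {LefPen.dehom m i}) :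
    x ∈ Ideal.span {LefPen.dehom m i} := by
  have hdim' : topologicalKrullDim ↥(LefPen.ciIdeal (mq m q)).subscheme ≤
      ((n - (1 + 1) : ℕ) : WithBot ℕ∞) := by
    rw [ciIdeal_mq]
    exact hdim
  have key := regular_chart (r := 1) hn (mq m q) hdim' i x
  rw [ciIdeal_ideal_chart, span_range_fin_one] at key
  exact key hx

theorem ideal_chart_inter {d₁ d₂ d₃ d₄ : ℕ} (l₁ : LefPen.Form n k d₁) (l₂ : LefPen.Form n k d₂)
    (m : LefPen.Form n k d₃) (q : LefPen.Form n k d₄) (i : Fin (n + 1)) :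
    ((LefPen.hypIdeal l₁ ⊔ LefPen.hypIdeal l₂) ⊓ (LefPen.hypIdeal m ⊔ LefPen.hypIdeal q)).ideal
        ⟨LefPen.chart n k i, isAffineOpen_chart i⟩ =
      (Ideal.span {LefPen.dehom l₁ i} ⊔ Ideal.span {LefPen.dehom l₂ i}) ⊓
        (Ideal.span {LefPen.dehom m i} ⊔ Ideal.span {LefPen.dehom q i}) := by
  rw [← hypIdeal_ideal_chart l₁ i, ← hypIdeal_ideal_chart l₂ i, ← hypIdeal_ideal_chart m i,
    ← hypIdeal_ideal_chart q i]
  rfl

/-- **Hilbert–Burch resolution** of the ideal sheaf of `V(l₁, l₂) ∪ V(m, q)`,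
`q = a l₁ + b l₂ + c m`: `0 → O(-3)^2 → O(-2)^3 → I → 0`. -/
theorem exists_pres_planeQuadric (hn : 3 ≤ n) (l₁ l₂ m : LefPen.Form n k 1)
    (hlin : LinearIndependent k ![l₁, l₂, m]) (q : LefPen.Form n k 2) (a b c : LefPen.Form n k 1)
    (hq : q.1 = a.1 * l₁.1 + b.1 * l₂.1 + c.1 * m.1)
    (hdim : topologicalKrullDim ↥(LefPen.hypIdeal m ⊔ LefPen.hypIdeal q).subscheme ≤
      ((n - 2 : ℕ) : WithBot ℕ∞)) :
    ∃ (f : (∐ fun _ : Fin 2 => Twist.twistProjSpace n k (-3)) ⟶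
        (∐ fun _ : Fin 3 => Twist.twistProjSpace n k (-2)))
      (p : (∐ fun _ : Fin 3 => Twist.twistProjSpace n k (-2)) ⟶
        ClSub.idealMod ((LefPen.hypIdeal l₁ ⊔ LefPen.hypIdeal l₂) ⊓
          (LefPen.hypIdeal m ⊔ LefPen.hypIdeal q))) (w : f ≫ p = 0),
      (ShortComplex.mk f p w).ShortExact := by
  have hlin2 : LinearIndependent k ![l₁, l₂] := by
    have h := hlin.comp Fin.castSucc (Fin.castSucc_injective _)
    have e : (![l₁, l₂, m] ∘ Fin.castSucc) = ![l₁, l₂] := by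
      funext j
      fin_cases j <;> rfl
    rwa [e] at h
  have hl₁0 : l₁.1 ≠ 0 := fun h => hlin.ne_zero 0 (Subtype.ext h)
  have hm0 : m.1 ≠ 0 := fun h => hlin.ne_zero 2 (Subtype.ext h)
  exact exists_pres' (n := n) (k := k)
    ((LefPen.hypIdeal l₁ ⊔ LefPen.hypIdeal l₂) ⊓ (LefPen.hypIdeal m ⊔ LefPen.hypIdeal q))
    l₁.1 l₂.1 m.1 a.1 b.1 c.1 q.1 l₁.2 l₂.2 m.2 a.2 b.2 q.2 hq
    (fun i => ideal_chart_inter l₁ l₂ m q i)
    (fun i x hx => cfun_regular l₁.1 l₁.2 hl₁0 i x hx)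
    (fun i x hx => cfun_regular m.1 m.2 hm0 i x hx)
    (fun i => reg_lin_two (by omega) l₁ l₂ hlin2 i)
    (fun i => reg_lin_three hn l₁ l₂ m hlin i)
    (fun i => reg_mq (by omega) m q hdim i)

end Groth.Agent.Lib.Helper4.PlaneQuadric
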