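import Groth.Agent.Lib.Helper4PlaneQuadricB
import Groth.Agent.Lib.Helper27SerreVanPn

/-!
# Cohomology of the twisted ideal sheaf of (plane ∪ quadric) in `P^n` (helper4), part C

`H^i(P^n, I_Σ(d)) = 0` for `i ≥ 1`, `d ≥ 3 - n`, from the Hilbert–Burch resolution.
-/

set_option autoImplicit false
set_option linter.style.haveILetI false
universe u

open CategoryTheory CategoryTheory.Limits AlgebraicGeometry TopologicalSpace Opposite

namespace Groth.Agent.Lib.Helper4.PlaneQuadric

open Groth.Agent.Lib.Helper27SerreVan Groth.Agent.Lib.Helper27SerreVanPn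

variable {n : ℕ} {k : Type u} [Field k]

/-- `H^i(P^n, I_Σ(d)) = 0` for `i ≥ 1`, `d ≥ 3 - n`, `Σ = V(l₁, l₂) ∪ V(m, q)`. -/
theorem subsingleton_HH_idealMod_twist (hn : 3 ≤ n) (l₁ l₂ m : LefPen.Form n k 1)
    (hlin : LinearIndependent k ![l₁, l₂, m]) (q : LefPen.Form n k 2) (a b c : LefPen.Form n k 1)
    (hq : q.1 = a.1 * l₁.1 + b.1 * l₂.1 + c.1 * m.1)
    (hdim : topologicalKrullDim ↥(LefPen.hypIdeal m ⊔ LefPen.hypIdeal q).subscheme ≤
      ((n - 2 : ℕ) : WithBot ℕ∞)) (d : ℤ) (hd : 3 - (n : ℤ) ≤ d) (i : ℕ) (hi : 1 ≤ i) :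
    Subsingleton (Coh.HH (CohB1.ProjSpace n k)
      (CohB1.tensorMod (ClSub.idealMod ((LefPen.hypIdeal l₁ ⊔ LefPen.hypIdeal l₂) ⊓
        (LefPen.hypIdeal m ⊔ LefPen.hypIdeal q))) (Twist.twistProjSpace n k d)) i) := by
  have H := exists_pres_planeQuadric hn l₁ l₂ m hlin q a b c hq hdim
  cases H with
  | intro f H1 =>
  cases H1 with
  | intro p H2 =>
  cases H2 with
  | intro w hS =>
  have hL := isInvertible_twist n k d
  have hS' := shortExact_tw (Twist.twistProjSpace n k d) hL _ hS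
  have h2 : Subsingleton (Coh.HH (CohB1.ProjSpace n k)
      ((tw (Twist.twistProjSpace n k d)).obj
        (∐ fun _ : Fin 3 => Twist.twistProjSpace n k (-2))) i) := by
    refine subsingleton_HH_map_sigma _ (tw (Twist.twistProjSpace n k d)) i (fun j => ?_)
    obtain ⟨e⟩ := nonempty_twist_tensor_iso n k (-2) d
    exact subsingleton_HH_of_iso e i
      (Groth.Agent.Lib.Helper27PnCohVanish.subsingleton_HH n k (-2 + d) i (by omega) (by omega))
  have h1 : Subsingleton (Coh.HH (CohB1.ProjSpace n k)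
      ((tw (Twist.twistProjSpace n k d)).obj
        (∐ fun _ : Fin 2 => Twist.twistProjSpace n k (-3))) (i + 1)) := by
    refine subsingleton_HH_map_sigma _ (tw (Twist.twistProjSpace n k d)) (i + 1) (fun j => ?_)
    obtain ⟨e⟩ := nonempty_twist_tensor_iso n k (-3) d
    exact subsingleton_HH_of_iso e (i + 1)
      (Groth.Agent.Lib.Helper27PnCohVanish.subsingleton_HH n k (-3 + d) (i + 1) (by omega)
        (by omega))
  have h3 : Subsingleton (Coh.HH (CohB1.ProjSpace n k)
      ((ShortComplex.mk f p w).map (tw (Twist.twistProjSpace n k d))).X₃ i) :=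
    subsingleton_of_shortExact _ hS' i h2 h1
  exact h3

end Groth.Agent.Lib.Helper4.PlaneQuadric
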