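import Mathlib
import Groth.Agent.Lib.Helper7Dim

/-!
# Helper4SoberDim: dimension theory of closed subsets of a sober space via the poset of points

`W` is a quasi-sober `T0` space with a partial order such that `a ⤳ b ↔ a ≤ b` (e.g. a prime
spectrum or a projective spectrum).

* `topologicalKrullDim_closed_eq`: `dim Z = krullDim Z` for closed `Z`.
* `topologicalKrullDim_Ici`: `dim (closure {x}) = coheight x`.
* `exists_minimal_of_mem_irreducibleComponents`: irreducible components of a closed subset are
  the closures of its minimal points.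
-/

set_option autoImplicit false
set_option linter.style.haveILetI false
universe u

open Order

namespace Groth.Agent.Lib.Helper4.SoberDim

variable {W : Type*} [TopologicalSpace W] [QuasiSober W] [T0Space W] [PartialOrder W]
  (hle : ∀ a b : W, a ⤳ b ↔ a ≤ b)

include hle

theorem topologicalKrullDim_closed_eq (Z : Set W) (hZ : IsClosed Z) :
    topologicalKrullDim ↥Z = krullDim ↥Z := by
  haveI : QuasiSober ↥Z := hZ.isClosedEmbedding_subtypeVal.quasiSober
  rw [Groth.Agent.Lib.Helper7.topologicalKrullDim_eq_krullDim_points]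
  rw [← krullDim_orderDual (α := ↥Z)]
  let e : @OrderIso ↥Z (↥Z)ᵒᵈ (specializationOrder ↥Z).toLE _ :=
    { toFun := fun a => OrderDual.toDual a
      invFun := fun a => OrderDual.ofDual a
      left_inv := fun _ => rfl
      right_inv := fun _ => rfl
      map_rel_iff' := by
        intro a b
        change (b : W) ≤ (a : W) ↔ b ⤳ a
        rw [subtype_specializes_iff, hle] }
  exact @krullDim_eq_of_orderIso ↥Z (↥Z)ᵒᵈ (specializationOrder ↥Z).toPreorder _ e

theorem closure_singleton_eq_Ici (x : W) : closure {x} = Set.Ici x := by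
  ext y
  rw [← specializes_iff_mem_closure, hle]
  rfl

theorem isClosed_Ici (x : W) : IsClosed (Set.Ici x) := by
  rw [← closure_singleton_eq_Ici hle]
  exact isClosed_closure

/-- `dim (closure {x}) = coheight x`. -/
theorem topologicalKrullDim_Ici (x : W) :
    topologicalKrullDim ↥(Set.Ici x) = (Order.coheight x : ℕ∞) := by
  rw [topologicalKrullDim_closed_eq hle _ (isClosed_Ici hle x), Order.coheight_eq_krullDim_Ici]

/-- An irreducible closed subset is the closure of its generic point. -/
theorem exists_eq_Ici_of_isIrreducible (X : Set W) (hXc : IsClosed X)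
    (hXi : IsIrreducible X) : ∃ x : W, X = Set.Ici x := by
  refine ⟨hXi.genericPoint, ?_⟩
  rw [← closure_singleton_eq_Ici hle]
  exact (hXi.isGenericPoint_genericPoint hXc).def.symm

theorem mem_of_le_of_isClosed (Z : Set W) (hZ : IsClosed Z) {z w : W} (hz : z ∈ Z)
    (hzw : z ≤ w) : w ∈ Z :=
  ((hle z w).mpr hzw).mem_closed hZ hz

/-- Irreducible components of a closed subset `Z` are the closures of the minimal points `y` of
`Z`, and `dim C = coheight y`. -/
theorem exists_minimal_of_mem_irreducibleComponents (Z : Set W)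
    (hZ : IsClosed Z) (C : Set ↥Z) (hC : C ∈ irreducibleComponents ↥Z) :
    ∃ y : W, y ∈ Z ∧ (∀ z ∈ Z, z ≤ y → z = y) ∧ Subtype.val '' C = Set.Ici y ∧
      topologicalKrullDim ↥C = (Order.coheight y : ℕ∞) := by
  have hCirr : IsIrreducible C := hC.1
  have hCcl : IsClosed C := isClosed_of_mem_irreducibleComponents C hC
  have hemb : Topology.IsClosedEmbedding (Subtype.val : ↥Z → W) :=
    hZ.isClosedEmbedding_subtypeVal
  have hC'cl : IsClosed (Subtype.val '' C) := hemb.isClosedMap _ hCcl
  have hC'irr : IsIrreducible (Subtype.val '' C) := hCirr.image _ continuous_subtype_val.continuousOn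
  obtain ⟨y, hy⟩ := exists_eq_Ici_of_isIrreducible hle _ hC'cl hC'irr
  have hyC : y ∈ Subtype.val '' C := by rw [hy]; exact Set.mem_Ici.mpr le_rfl
  obtain ⟨⟨y', hy'Z⟩, hy'C, rfl⟩ := hyC
  refine ⟨y', hy'Z, ?_, hy, ?_⟩
  · intro z hzZ hzy
    have hirr : IsIrreducible (closure {(⟨z, hzZ⟩ : ↥Z)}) := isIrreducible_singleton.closure
    have hle' : C ≤ closure {(⟨z, hzZ⟩ : ↥Z)} := by
      intro c hc
      have h1 : (c : W) ∈ Subtype.val '' C := ⟨c, hc, rfl⟩
      rw [hy] at h1
      have h2 : z ≤ (c : W) := hzy.trans h1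
      rw [← hle] at h2
      have h3 : (⟨z, hzZ⟩ : ↥Z) ⤳ c := (subtype_specializes_iff _ _).mpr h2
      exact h3.mem_closure
    have h4 := hC.2 hirr hle'
    have h5 : (⟨z, hzZ⟩ : ↥Z) ∈ C := h4 (subset_closure rfl)
    have h6 : z ∈ Subtype.val '' C := ⟨_, h5, rfl⟩
    rw [hy] at h6
    exact le_antisymm hzy h6
  · rw [← topologicalKrullDim_Ici hle y']
    have e1 : ↥C ≃ₜ ↥(Subtype.val '' C) := hemb.isEmbedding.homeomorphImage C
    have h7 := IsHomeomorph.topologicalKrullDim_eq e1 e1.isHomeomorph
    rw [h7]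
    generalize Subtype.val '' C = D at hy
    subst hy
    rfl

/-- every point of a closed subset lies above the generic point of an irreducible component -/
theorem exists_component_le (Z : Set W) (hZ : IsClosed Z) (z : W) (hz : z ∈ Z) :
    ∃ (C : Set ↥Z) (y : W), C ∈ irreducibleComponents ↥Z ∧ y ∈ Z ∧ y ≤ z ∧
      topologicalKrullDim ↥C = (Order.coheight y : ℕ∞) := by
  have hC := irreducibleComponent_mem_irreducibleComponents (⟨z, hz⟩ : ↥Z)
  obtain ⟨y, hyZ, _, hyC, hdim⟩ := exists_minimal_of_mem_irreducibleComponents hle Z hZ _ hC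
  refine ⟨_, y, hC, hyZ, ?_, hdim⟩
  have h1 : z ∈ Subtype.val '' irreducibleComponent (⟨z, hz⟩ : ↥Z) :=
    ⟨⟨z, hz⟩, mem_irreducibleComponent, rfl⟩
  rw [hyC] at h1
  exact h1

/-- a closed subset of dimension `r` contains a point of coheight at least `r` -/
theorem exists_mem_le_coheight (Z : Set W) (hZ : IsClosed Z) (r : ℕ)
    (hr : topologicalKrullDim ↥Z = r) : ∃ x ∈ Z, (r : ℕ∞) ≤ Order.coheight x := by
  rw [topologicalKrullDim_closed_eq hle Z hZ] at hr
  obtain ⟨l, hl⟩ := (Order.le_krullDim_iff (α := ↥Z) (n := r)).mp hr.ge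
  refine ⟨l.head, l.head.2, ?_⟩
  have h1 : (l.length : ℕ∞) ≤ Order.coheight l.head := Order.length_le_coheight_head
  have h2 := Order.coheight_le_coheight_apply_of_strictMono (Subtype.val : ↥Z → _)
    (fun _ _ h => h) l.head
  rw [hl] at h1
  exact h1.trans h2

/-- the coheight of a point of a closed subset is at most its dimension -/
theorem coheight_le_topologicalKrullDim (Z : Set W) (hZ : IsClosed Z) (z : W) (hz : z ∈ Z) :
    ((Order.coheight z : ℕ∞) : WithBot ℕ∞) ≤ topologicalKrullDim ↥Z := by
  rw [topologicalKrullDim_closed_eq hle Z hZ, Order.coheight_eq_krullDim_Ici]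
  exact Order.krullDim_le_of_strictMono
    (fun w : Set.Ici z => (⟨w.1, mem_of_le_of_isClosed hle Z hZ hz w.2⟩ : ↥Z)) (fun _ _ h => h)

end Groth.Agent.Lib.Helper4.SoberDim
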