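import Mathlib
import Groth.Agent.Lib.Helper4ProjCone3
import Groth.Agent.Lib.Helper4SoberDim

/-!
# Helper4ProjCone4: coordinate linear sections of closed subsets of projective space

`Lset k n i` is the set of coordinate functions `x_1, …, x_i`.

* `topologicalKrullDim_le_of_forall_coheight_le`
* `exists_mem_succ_of_one_le_coheight`: a point of coheight `≥ 1` of `V_+(x_1..x_i)` specializes
  into `V_+(x_1..x_{i+1})`.
* `coheight_eq_zero_of_mem_Lset_top`: points of `V_+(x_1..x_n)` have coheight `0`.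
-/

set_option autoImplicit false
set_option linter.style.haveILetI false
universe u

open AlgebraicGeometry Order

namespace Groth.Agent.Lib.Helper4.ProjCone

section General

variable {R A : Type u} [CommRing R] [CommRing A] [Algebra R A] (𝒜 : ℕ → Submodule R A)
  [GradedAlgebra 𝒜]

theorem topologicalKrullDim_le_of_forall_coheight_le (Z : Set (ProjectiveSpectrum 𝒜))
    (hZ : IsClosed Z) (m : ℕ∞) (h : ∀ z ∈ Z, Order.coheight z ≤ m) :
    topologicalKrullDim ↥Z ≤ ((m : ℕ∞) : WithBot ℕ∞) := by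
  rw [topologicalKrullDim_closed_eq 𝒜 Z hZ, Order.krullDim_eq_iSup_coheight]
  refine iSup_le fun z => ?_
  rw [WithBot.coe_le_coe]
  exact (Order.coheight_le_coheight_apply_of_strictMono (Subtype.val : ↥Z → _)
    (fun _ _ h => h) z).trans (h z.1 z.2)

end General

section Lin

open MvPolynomial

variable (k : Type u) [Field k] (n : ℕ)

/-- the coordinate functions `x_1, …, x_i` -/
def Lset (i : ℕ) : Set (MvPolynomial (Fin (n + 1)) k) :=
  (fun j : Fin (n + 1) => (MvPolynomial.X j : MvPolynomial (Fin (n + 1)) k)) ''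
    {j : Fin (n + 1) | 1 ≤ j.val ∧ j.val ≤ i}

theorem mem_zeroLocus_Lset_iff (i : ℕ) (y : ProjectiveSpectrum (CohB1.polyGrading n k)) :
    y ∈ ProjectiveSpectrum.zeroLocus (CohB1.polyGrading n k) (Lset k n i) ↔
      ∀ j : Fin (n + 1), 1 ≤ j.val → j.val ≤ i →
        (MvPolynomial.X j : MvPolynomial (Fin (n + 1)) k) ∈ y.asHomogeneousIdeal.toIdeal := by
  rw [ProjectiveSpectrum.mem_zeroLocus, Lset, Set.image_subset_iff]
  constructor
  · intro h j h1 h2
    exact h ⟨h1, h2⟩
  · intro h j hj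
    exact h j hj.1 hj.2

/-- a point of coheight `≥ 1` of `C ∩ V_+(x_1..x_i)` specializes into `C ∩ V_+(x_1..x_{i+1})` -/
theorem exists_mem_succ_of_one_le_coheight (C : Set (ProjectiveSpectrum (CohB1.polyGrading n k)))
    (hC : IsClosed C) (i : ℕ) (hi : i + 1 ≤ n)
    (x : ProjectiveSpectrum (CohB1.polyGrading n k))
    (hx : x ∈ C ∩ ProjectiveSpectrum.zeroLocus (CohB1.polyGrading n k) (Lset k n i))
    (hco : 1 ≤ Order.coheight x) :
    (C ∩ ProjectiveSpectrum.zeroLocus (CohB1.polyGrading n k) (Lset k n (i + 1))).Nonempty := by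
  classical
  haveI : x.asHomogeneousIdeal.toIdeal.IsPrime := x.isPrime
  haveI hprime : (HomogeneousIdeal.irrelevant (CohB1.polyGrading n k)).toIdeal.IsPrime :=
    (irrelevant_isMaximal k n).isPrime
  set f : MvPolynomial (Fin (n + 1)) k := MvPolynomial.X ⟨i + 1, Nat.lt_succ_of_le hi⟩ with hf
  have hfirr : f ∈ (HomogeneousIdeal.irrelevant (CohB1.polyGrading n k)).toIdeal :=
    HomogeneousIdeal.mem_irrelevant_of_mem _ (i := 1) Nat.zero_lt_one
      ((MvPolynomial.mem_homogeneousSubmodule _ _).mpr (MvPolynomial.isHomogeneous_X k _))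
  have hs : ∀ g ∈ ({f} : Set (MvPolynomial (Fin (n + 1)) k)),
      ∃ e, g ∈ CohB1.polyGrading n k e := by
    rintro _ rfl
    exact ⟨1, (MvPolynomial.mem_homogeneousSubmodule _ _).mpr (MvPolynomial.isHomogeneous_X k _)⟩
  have hJle : x.asHomogeneousIdeal.toIdeal ⊔ Ideal.span {f} ≤
      (HomogeneousIdeal.irrelevant (CohB1.polyGrading n k)).toIdeal := by
    refine sup_le (le_irrelevant k n x) ?_
    rw [Ideal.span_singleton_le_iff_mem]
    exact hfirr
  obtain ⟨q, hq, hqle⟩ := Ideal.exists_minimalPrimes_le hJle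
  haveI : q.IsPrime := hq.1.1
  have hq' : q ∈ (x.asHomogeneousIdeal.toIdeal ⊔ Ideal.span
      (({f} : Finset (MvPolynomial (Fin (n + 1)) k)) :
        Set (MvPolynomial (Fin (n + 1)) k))).minimalPrimes := by
    rw [Finset.coe_singleton]
    exact hq
  have hle := ringKrullDim_quotient_le_add_card k (n + 1) x.asHomogeneousIdeal.toIdeal q _ hq'
  rw [ringKrullDim_quotient_eq_coheight_add_one, Finset.card_singleton] at hle
  obtain ⟨e, he⟩ := exists_nat_of_add_eq (height_add_dim k (n + 1) q)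
  obtain ⟨a, ha⟩ := ENat.ne_top_iff_exists.mp (coheight_ne_top k n x)
  rw [he, ← ha] at hle
  rw [← ha] at hco
  have h1 : a + 1 ≤ e + 1 := by exact_mod_cast hle
  have h2 : 1 ≤ a := by exact_mod_cast hco
  have h3 : 1 ≤ e := by omega
  have hrel := not_irrelevant_le_of_one_le_dim k n q hqle (by
    rw [he]
    exact_mod_cast h3)
  obtain ⟨y, _, hyx, hyf⟩ := exists_point_of_minimalPrimes k n x {f} hs q hq hrel
  refine ⟨y, mem_of_le_of_isClosed _ C hC hx.1 hyx, ?_⟩
  rw [mem_zeroLocus_Lset_iff]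
  intro j hj1 hj2
  rcases Nat.lt_or_ge j.val (i + 1) with hlt | hge
  · have hxj := (mem_zeroLocus_Lset_iff k n i x).mp hx.2 j hj1 (Nat.lt_succ_iff.mp hlt)
    exact hyx hxj
  · have hjeq : j = ⟨i + 1, Nat.lt_succ_of_le hi⟩ := Fin.ext (le_antisymm hj2 hge)
    rw [hjeq]
    rw [ProjectiveSpectrum.mem_zeroLocus, Set.singleton_subset_iff] at hyf
    exact hyf

/-- points of `V_+(x_1..x_n)` have coheight `0` -/
theorem coheight_eq_zero_of_mem_Lset_top (y : ProjectiveSpectrum (CohB1.polyGrading n k))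
    (hy : y ∈ ProjectiveSpectrum.zeroLocus (CohB1.polyGrading n k) (Lset k n n)) :
    Order.coheight y = 0 := by
  rw [mem_zeroLocus_Lset_iff] at hy
  have hle : Groth.Agent.Lib.Helper27ProjDim.chainPt k n n ≤ y := by
    change Ideal.span (MvPolynomial.X '' Groth.Agent.Lib.Helper27ProjDim.varSet n n) ≤
      y.asHomogeneousIdeal.toIdeal
    rw [Ideal.span_le]
    rintro _ ⟨j, hj, rfl⟩
    refine hy j ?_ hj.2
    have : j.val ≠ 0 := fun h => hj.1 (Fin.ext h)
    omega
  have hht : (n : ℕ∞) ≤ Order.height y := by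
    have := Order.length_le_height (p := LTSeries.mk n
      (fun i : Fin (n + 1) => Groth.Agent.Lib.Helper27ProjDim.chainPt k n i.val)
      (Groth.Agent.Lib.Helper27ProjDim.chainPt_strictMono k n)) (x := y) (by
        change Groth.Agent.Lib.Helper27ProjDim.chainPt k n (Fin.last n).val ≤ y
        exact hle)
    exact this
  have hsum : Order.height y + Order.coheight y ≤ (n : ℕ∞) := by
    haveI : Nonempty (ProjectiveSpectrum (CohB1.polyGrading n k)) := ⟨y⟩
    have h1 := Order.krullDim_eq_iSup_height_add_coheight_of_nonempty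
      (α := ProjectiveSpectrum (CohB1.polyGrading n k))
    rw [Groth.Agent.Lib.Helper27ProjDim.krullDim_projectiveSpectrum k n] at h1
    have h2 : (⨆ a : ProjectiveSpectrum (CohB1.polyGrading n k),
        Order.height a + Order.coheight a) = (n : ℕ∞) := by
      exact_mod_cast h1.symm
    rw [← h2]
    exact le_iSup (fun a : ProjectiveSpectrum (CohB1.polyGrading n k) =>
      Order.height a + Order.coheight a) y
  obtain ⟨c, hc⟩ := ENat.ne_top_iff_exists.mp (coheight_ne_top k n y)
  have hhfin : Order.height y ≠ ⊤ := by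
    intro htop
    rw [htop, top_add] at hsum
    exact absurd hsum (by simp)
  obtain ⟨b, hb⟩ := ENat.ne_top_iff_exists.mp hhfin
  rw [← hc, ← hb] at hsum
  rw [← hb] at hht
  rw [← hc]
  have h3 : b + c ≤ n := by exact_mod_cast hsum
  have h4 : n ≤ b := by exact_mod_cast hht
  have h5 : c = 0 := by omega
  rw [h5]
  rfl

end Lin

end Groth.Agent.Lib.Helper4.ProjCone
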