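import Mathlib
import Groth.Agent.Lib.Helper4ProjCone4
import Groth.Agent.Lib.Helper4ProjCone5

/-!
# Helper4ProjCone6: common zeros of two coprime forms

For nonzero homogeneous `f`, `g` of positive degrees in `k[x_0..x_n]`:
* `exists_mem_zeroLocus_pair_of_common_divisor`: a common non-unit divisor gives a point of
  `V_+(f, g)` of coheight `n - 1`.
* `coheight_add_two_le_of_isRelPrime`: if `f`, `g` are coprime every point of `V_+(f, g)` has
  coheight `≤ n - 2`.
* `zeroLocus_pair_nonempty`: `V_+(f, g)` is nonempty if `n ≥ 2`.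
-/

set_option autoImplicit false
set_option linter.style.haveILetI false
universe u

open AlgebraicGeometry Order

namespace Groth.Agent.Lib.Helper4.ProjCone

section Pair

open MvPolynomial

variable (k : Type u) [Field k] (n : ℕ)

theorem mem_zeroLocus_pair_iff (f g : MvPolynomial (Fin (n + 1)) k)
    (z : ProjectiveSpectrum (CohB1.polyGrading n k)) :
    z ∈ ProjectiveSpectrum.zeroLocus (CohB1.polyGrading n k)
      ({f, g} : Set (MvPolynomial (Fin (n + 1)) k)) ↔
    f ∈ z.asHomogeneousIdeal.toIdeal ∧ g ∈ z.asHomogeneousIdeal.toIdeal := by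
  rw [ProjectiveSpectrum.mem_zeroLocus, Set.insert_subset_iff, Set.singleton_subset_iff]
  rfl

theorem ringKrullDim_quotient_bot :
    ringKrullDim (MvPolynomial (Fin (n + 1)) k ⧸ (⊥ : Ideal (MvPolynomial (Fin (n + 1)) k))) =
      ((n + 1 : ℕ) : WithBot ℕ∞) := by
  haveI hbot : (⊥ : Ideal (MvPolynomial (Fin (n + 1)) k)).IsPrime := Ideal.isPrime_bot
  have h1 := height_add_dim k (n + 1) (⊥ : Ideal (MvPolynomial (Fin (n + 1)) k))
  rw [Ideal.height_bot] at h1
  simpa using h1

/-- a common non-unit divisor of `f`, `g` gives a point of `V_+(f, g)` of coheight `n - 1` -/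
theorem exists_mem_zeroLocus_pair_of_common_divisor (d₁ : ℕ)
    (f g : MvPolynomial (Fin (n + 1)) k) (hf : f.IsHomogeneous d₁) (hf0 : f ≠ 0)
    (d : MvPolynomial (Fin (n + 1)) k) (hdf : d ∣ f) (hdg : d ∣ g) (hdu : ¬ IsUnit d)
    (hn : 1 ≤ n) :
    ∃ y ∈ ProjectiveSpectrum.zeroLocus (CohB1.polyGrading n k)
      ({f, g} : Set (MvPolynomial (Fin (n + 1)) k)), Order.coheight y + 1 = (n : ℕ∞) := by
  haveI hbot : (⊥ : Ideal (MvPolynomial (Fin (n + 1)) k)).IsPrime := Ideal.isPrime_bot
  have hfhom : (Ideal.span {f}).IsHomogeneous (CohB1.polyGrading n k) := by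
    apply Ideal.homogeneous_span
    rintro _ rfl
    exact ⟨d₁, (MvPolynomial.mem_homogeneousSubmodule _ _).mpr hf⟩
  have hd0 : d ≠ 0 := by
    rintro rfl
    exact hf0 (zero_dvd_iff.mp hdf)
  obtain ⟨π, hπ, hπd⟩ := WfDvdMonoid.exists_irreducible_factor hdu hd0
  have hπf : π ∣ f := hπd.trans hdf
  have hπg : π ∣ g := hπd.trans hdg
  have hπprime : (Ideal.span {π}).IsPrime :=
    (Ideal.span_singleton_prime hπ.ne_zero).mpr
      (UniqueFactorizationMonoid.irreducible_iff_prime.mp hπ)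
  have hmin : Ideal.span {π} ∈ (Ideal.span {f}).minimalPrimes := by
    refine ⟨⟨hπprime, ?_⟩, ?_⟩
    · rw [Ideal.span_singleton_le_iff_mem, Ideal.mem_span_singleton]
      exact hπf
    · intro P hP hle
      haveI : P.IsPrime := hP.1
      have hfP : f ∈ P := hP.2 (Ideal.subset_span rfl)
      have := Groth.Agent.Lib.Helper27ProjCodimOne.mem_of_le_span_irreducible k n π hπ P hle
        f hfP hf0
      rw [Ideal.span_singleton_le_iff_mem]
      exact this
  have hπhom := Groth.Agent.Lib.Helper27ProjHypConn.isHomogeneous_of_mem_minimalPrimes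
    (CohB1.polyGrading n k) hfhom hmin
  have hq : Ideal.span {π} ∈ ((⊥ : Ideal (MvPolynomial (Fin (n + 1)) k)) ⊔
      Ideal.span {π}).minimalPrimes := by
    rw [bot_sup_eq, Ideal.minimalPrimes_eq_subsingleton_self]
    rfl
  have hdrop := ringKrullDim_quotient_eq_add_one k (n + 1)
    (⊥ : Ideal (MvPolynomial (Fin (n + 1)) k)) (Ideal.span {π}) π
    (by rw [Ideal.mem_bot]; exact hπ.ne_zero) hq
  rw [ringKrullDim_quotient_bot] at hdrop
  have hdimπ : ringKrullDim (MvPolynomial (Fin (n + 1)) k ⧸ Ideal.span {π}) =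
      ((n : ℕ) : WithBot ℕ∞) := withBot_add_one_cancel hdrop
  have hle := le_irrelevant_of_isHomogeneous k n _ hπhom hπprime.ne_top
  have hrel := not_irrelevant_le_of_one_le_dim k n _ hle (by
    rw [hdimπ]
    exact_mod_cast hn)
  obtain ⟨y, hy⟩ : ∃ y : ProjectiveSpectrum (CohB1.polyGrading n k),
      y.asHomogeneousIdeal.toIdeal = Ideal.span {π} := ⟨⟨⟨_, hπhom⟩, hπprime, hrel⟩, rfl⟩
  refine ⟨y, ?_, ?_⟩
  · rw [mem_zeroLocus_pair_iff, hy]
    exact ⟨Ideal.mem_span_singleton.mpr hπf, Ideal.mem_span_singleton.mpr hπg⟩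
  · have h1 := ringKrullDim_quotient_eq_coheight_add_one k n y
    rw [hy, hdimπ] at h1
    exact_mod_cast h1.symm

/-- if `f`, `g` are coprime every point of `V_+(f, g)` has coheight `≤ n - 2` -/
theorem coheight_add_two_le_of_isRelPrime
    (f g : MvPolynomial (Fin (n + 1)) k) (hf0 : f ≠ 0) (hrp : IsRelPrime f g)
    (z : ProjectiveSpectrum (CohB1.polyGrading n k))
    (hz : z ∈ ProjectiveSpectrum.zeroLocus (CohB1.polyGrading n k)
      ({f, g} : Set (MvPolynomial (Fin (n + 1)) k))) :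
    Order.coheight z + 2 ≤ (n : ℕ∞) := by
  rw [mem_zeroLocus_pair_iff] at hz
  haveI : z.asHomogeneousIdeal.toIdeal.IsPrime := z.isPrime
  have h1 := ringKrullDim_quotient_eq_coheight_add_one k n z
  have h2 := height_add_dim k (n + 1) z.asHomogeneousIdeal.toIdeal
  rw [h1] at h2
  obtain ⟨c, hc⟩ := ENat.ne_top_iff_exists.mp (coheight_ne_top k n z)
  have hhfin : z.asHomogeneousIdeal.toIdeal.height ≠ ⊤ :=
    Ideal.height_ne_top (Ideal.IsPrime.ne_top inferInstance)
  obtain ⟨b, hb⟩ := ENat.ne_top_iff_exists.mp hhfin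
  rw [← hc, ← hb] at h2
  rw [← hc]
  have h3 : b + (c + 1) = n + 1 := by exact_mod_cast h2
  -- `2 ≤ b`
  have hb2 : 2 ≤ b := by
    by_contra hlt
    have hb1 : b ≤ 1 := by omega
    have hfz : Ideal.span {f} ≤ z.asHomogeneousIdeal.toIdeal := by
      rw [Ideal.span_singleton_le_iff_mem]
      exact hz.1
    obtain ⟨P, hP, hPz⟩ := Ideal.exists_minimalPrimes_le hfz
    haveI : P.IsPrime := hP.1.1
    have hPeq : P = z.asHomogeneousIdeal.toIdeal := by
      by_contra hPne
      have hlt' : P < z.asHomogeneousIdeal.toIdeal := lt_of_le_of_ne hPz hPne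
      have hht := Ideal.height_strict_mono_of_isPrime hlt'
      rw [← hb] at hht
      have hP0 : P.height = 0 := by
        have : P.height < (1 : ℕ∞) := lt_of_lt_of_le hht (by exact_mod_cast hb1)
        exact Order.lt_one_iff.mp this
      rw [Ideal.height_eq_zero_iff_eq_bot] at hP0
      have hfP : f ∈ P := hP.1.2 (Ideal.subset_span rfl)
      rw [hP0, Ideal.mem_bot] at hfP
      exact hf0 hfP
    obtain ⟨h, hh⟩ := Groth.Agent.Lib.Helper27ProjHypConn.exists_eq_span_of_mem_minimalPrimes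
      k n f hf0 P hP
    rw [hPeq] at hh
    have hhf : h ∣ f := by
      have := hz.1
      rw [hh, Ideal.mem_span_singleton] at this
      exact this
    have hhg : h ∣ g := by
      have := hz.2
      rw [hh, Ideal.mem_span_singleton] at this
      exact this
    have hu := hrp hhf hhg
    have : z.asHomogeneousIdeal.toIdeal = ⊤ := by
      rw [hh]
      exact Ideal.span_singleton_eq_top.mpr hu
    exact (Ideal.IsPrime.ne_top inferInstance) this
  have h4 : c + 2 ≤ n := by omega
  exact_mod_cast h4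

/-- `V_+(f, g)` is nonempty in `P^n`, `n ≥ 2` -/
theorem zeroLocus_pair_nonempty (d₁ d₂ : ℕ) (hd₁ : 0 < d₁) (hd₂ : 0 < d₂)
    (f g : MvPolynomial (Fin (n + 1)) k) (hf : f.IsHomogeneous d₁) (hg : g.IsHomogeneous d₂)
    (hn : 2 ≤ n) :
    (ProjectiveSpectrum.zeroLocus (CohB1.polyGrading n k)
      ({f, g} : Set (MvPolynomial (Fin (n + 1)) k))).Nonempty := by
  classical
  haveI hbot : (⊥ : Ideal (MvPolynomial (Fin (n + 1)) k)).IsPrime := Ideal.isPrime_bot
  haveI hprime : (HomogeneousIdeal.irrelevant (CohB1.polyGrading n k)).toIdeal.IsPrime :=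
    (irrelevant_isMaximal k n).isPrime
  have hJle : (⊥ : Ideal (MvPolynomial (Fin (n + 1)) k)) ⊔
      Ideal.span ((({f, g} : Finset (MvPolynomial (Fin (n + 1)) k)) :
        Set (MvPolynomial (Fin (n + 1)) k))) ≤
      (HomogeneousIdeal.irrelevant (CohB1.polyGrading n k)).toIdeal := by
    rw [bot_sup_eq, Ideal.span_le]
    intro x hx
    rw [Finset.coe_insert, Finset.coe_singleton] at hx
    rcases hx with rfl | rfl
    · exact HomogeneousIdeal.mem_irrelevant_of_mem _ hd₁
        ((MvPolynomial.mem_homogeneousSubmodule _ _).mpr hf)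
    · exact HomogeneousIdeal.mem_irrelevant_of_mem _ hd₂
        ((MvPolynomial.mem_homogeneousSubmodule _ _).mpr hg)
  obtain ⟨q, hq, hqle⟩ := Ideal.exists_minimalPrimes_le hJle
  haveI : q.IsPrime := hq.1.1
  have hle := ringKrullDim_quotient_le_add_card k (n + 1)
    (⊥ : Ideal (MvPolynomial (Fin (n + 1)) k)) q _ hq
  rw [ringKrullDim_quotient_bot] at hle
  obtain ⟨e, he⟩ := exists_nat_of_add_eq (height_add_dim k (n + 1) q)
  rw [he] at hle
  have hcard : ({f, g} : Finset (MvPolynomial (Fin (n + 1)) k)).card ≤ 2 := Finset.card_le_two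
  have h1 : n + 1 ≤ e + ({f, g} : Finset (MvPolynomial (Fin (n + 1)) k)).card := by
    exact_mod_cast hle
  have h3 : 1 ≤ e := by omega
  have hrel := not_irrelevant_le_of_one_le_dim k n q hqle (by
    rw [he]
    exact_mod_cast h3)
  have hJhom : ((⊥ : Ideal (MvPolynomial (Fin (n + 1)) k)) ⊔
      Ideal.span ((({f, g} : Finset (MvPolynomial (Fin (n + 1)) k)) :
        Set (MvPolynomial (Fin (n + 1)) k)))).IsHomogeneous (CohB1.polyGrading n k) := by
    rw [bot_sup_eq]
    apply Ideal.homogeneous_span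
    intro x hx
    rw [Finset.coe_insert, Finset.coe_singleton] at hx
    rcases hx with rfl | rfl
    · exact ⟨d₁, (MvPolynomial.mem_homogeneousSubmodule _ _).mpr hf⟩
    · exact ⟨d₂, (MvPolynomial.mem_homogeneousSubmodule _ _).mpr hg⟩
  have hqhom := Groth.Agent.Lib.Helper27ProjHypConn.isHomogeneous_of_mem_minimalPrimes
    (CohB1.polyGrading n k) hJhom hq
  refine ⟨⟨⟨q, hqhom⟩, hq.1.1, hrel⟩, ?_⟩
  rw [mem_zeroLocus_pair_iff]
  have hsub : Ideal.span ((({f, g} : Finset (MvPolynomial (Fin (n + 1)) k)) :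
      Set (MvPolynomial (Fin (n + 1)) k))) ≤ q := le_sup_right.trans hq.1.2
  refine ⟨hsub (Ideal.subset_span ?_), hsub (Ideal.subset_span ?_)⟩
  · rw [Finset.coe_insert]; exact Set.mem_insert _ _
  · rw [Finset.coe_insert, Finset.coe_singleton]; exact Set.mem_insert_of_mem _ rfl

end Pair

end Groth.Agent.Lib.Helper4.ProjCone
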