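import Mathlib
import Groth.Agent.Lib.Helper4PropSupp
import Groth.Agent.Lib.Helper17FinClosed
import Groth.Agent.Lib.Helper21RelExtSS
import Groth.Agent.Lib.Helper23ModAbBridge
import Groth.Agent.Lib.Helper23DerCompAcyclic
import Groth.Agent.Lib.Helper23LocSS
import Groth.Agent.Lib.Helper16ClosedEmb
import Groth.Agent.S0036

/-!
# Higher direct images of modules with proper support (helper4)

* `isZero_Rpush_push_injective`: `R^{q+1} f_* (i_* I) = 0` for `I` an injective module.
* `nonempty_Rpush_push_closedImmersion`: `R^n f_* (i_* G) ≅ R^n (i ≫ f)_* G` for a closed immersion `i`.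
* `isCoh_Rpush_of_isProperOver_support`: S0795.
-/

set_option autoImplicit false
set_option linter.style.haveILetI false
set_option linter.unusedSectionVars false
universe u
open CategoryTheory CategoryTheory.Limits AlgebraicGeometry

namespace Groth.Agent.Lib.Helper4.PropPush
open Groth.Agent.Lib.Helper4.Dev Groth.Agent.Lib.Helper4.PropSupp Groth.Agent.Lib.Helper21

local instance instEnoughInjectivesModules (X : Scheme.{u}) : EnoughInjectives X.Modules :=
  Groth.Agent.Lib.Helper17.QCPush.enoughInjectives X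

variable {Z X S : Scheme.{u}}

/-- `R^{q+1} f_* (i_* I) = 0` for an injective module `I`. -/
theorem isZero_Rpush_push_injective (i : Z ⟶ X) (f : X ⟶ S) (I : Z.Modules) [hI : Injective I]
    (q : ℕ) :
    IsZero (((Scheme.Modules.pushforward f).rightDerived (q + 1)).obj
      ((Scheme.Modules.pushforward i).obj I)) := by
  apply Groth.Agent.Lib.Helper21.RelExtSS.isZero_of_isZero_toAb
  obtain ⟨e⟩ := Groth.Agent.Lib.Helper23.ModAbBridge.nonempty_toAb_Rpush_iso f
    ((Scheme.Modules.pushforward i).obj I) (q + 1)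
  refine IsZero.of_iso ?_ e
  haveI := Groth.Agent.Lib.Helper16.ClosedEmb.push_preservesFiniteLimits i.base
  haveI := Groth.Agent.Lib.Helper16.ClosedEmb.push_preservesInjectiveObjects i.base
  have h : ∀ k : ℕ, IsZero ((CohTop.Rpush i.base (k + 1)).obj (Coh.toAb I)) := fun k =>
    @Groth.Agent.Lib.Helper23.ModAbBridge.isZero_RpushAb_of_injective _ _ i I hI k
  have e0 : CohTop.push i.base ⋙ CohTop.push f.base ≅ CohTop.push (i ≫ f).base :=
    NatIso.ofComponents (fun _ => Iso.refl _)
  have e1 := (Groth.Agent.Lib.Helper23DerCompAcyclic.compIsoOfAcyclic (CohTop.push i.base)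
    (CohTop.push f.base) (Z := Coh.toAb I) h (q + 1)).symm ≪≫
    (Groth.Agent.Lib.Helper23LocSS.rightDerivedIso e0 (q + 1)).app (Coh.toAb I)
  refine IsZero.of_iso ?_ e1
  exact @Groth.Agent.Lib.Helper23.ModAbBridge.isZero_RpushAb_of_injective _ _ (i ≫ f) I hI q

/-- `R^n f_* (i_* G) ≅ R^n (i ≫ f)_* G` for a closed immersion `i`. -/
theorem nonempty_Rpush_push_closedImmersion (i : Z ⟶ X) [IsClosedImmersion i] (f : X ⟶ S)
    (G : Z.Modules) (n : ℕ) :
    Nonempty (((Scheme.Modules.pushforward (i ≫ f)).rightDerived n).obj G ≅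
      ((Scheme.Modules.pushforward f).rightDerived n).obj ((Scheme.Modules.pushforward i).obj G)) := by
  haveI : (Scheme.Modules.pushforward i).PreservesEpimorphisms :=
    ⟨fun v _ => Groth.Agent.Lib.Helper18.PushHomeo.pushforward_map_epi_of_isClosedEmbedding i
      i.isClosedEmbedding v⟩
  haveI : (Scheme.Modules.pushforward i).PreservesHomology :=
    Functor.preservesHomology_of_preservesEpis_and_kernels _
  have hE : ∀ I : Z.Modules, Injective I → ∀ q : ℕ, 0 < q →
      IsZero (((Scheme.Modules.pushforward f).rightDerived q).obj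
        ((Scheme.Modules.pushforward i).obj I)) := by
    intro I hI q hq
    obtain ⟨q, rfl⟩ : ∃ k, q = k + 1 := ⟨q - 1, by omega⟩
    exact isZero_Rpush_push_injective i f I q
  obtain ⟨e⟩ := DerAcyc.nonempty_rightDerived_comp_iso (Scheme.Modules.pushforward i)
    (Scheme.Modules.pushforward f) hE G n
  let e0 : Scheme.Modules.pushforward (i ≫ f) ≅
      Scheme.Modules.pushforward i ⋙ Scheme.Modules.pushforward f :=
    (Scheme.Modules.pushforwardComp i f).symm
  exact ⟨(DerPost.natIsoRightDerived e0 n).app G ≪≫ e⟩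

/-- S0795 -/
theorem isCoh_Rpush_of_isProperOver_support (f : X ⟶ S)
    [LocallyOfFiniteType f] [IsLocallyNoetherian S] [HasInjectiveResolutions X.Modules]
    (F : X.Modules) (hF : Coh.IsCoh F) (hs : ClSub.IsProperOver f (CohB1.support F)) (p : ℕ) :
    Coh.IsCoh ((Coh.Rpush f p).obj F) := by
  have hcl : IsClosed (CohB1.support F) := Groth.Agent.S0020.result X F hF.2
  obtain ⟨J, hsupp, hGq, hGft, ⟨eF⟩⟩ := exists_closed_push_iso F hF.1 hF.2
  have hr : Set.range ⇑J.subschemeι = CohB1.support F := by
    rw [Scheme.IdealSheafData.range_subschemeι, hsupp]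
  haveI : IsProper (J.subschemeι ≫ f) :=
    ((Groth.Agent.S0787.result f _ hcl).2.1 hs) J.subscheme J.subschemeι inferInstance hr
  have hG : Coh.IsCoh ((Scheme.Modules.pullback J.subschemeι).obj F) := ⟨hGq, hGft⟩
  have hc := Groth.Agent.S0036.result (J.subschemeι ≫ f) _ hG p
  obtain ⟨e⟩ := nonempty_Rpush_push_closedImmersion J.subschemeι f
    ((Scheme.Modules.pullback J.subschemeι).obj F) p
  exact isCoh_of_iso (e ≪≫ ((Coh.Rpush f p).mapIso eF)) hc

end Groth.Agent.Lib.Helper4.PropPush
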