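import Mathlib
import Groth.Agent.Lib.Helper4CohThick
import Groth.Agent.Lib.Helper23QCohLocal
import Groth.Agent.S10865

/-!
# Dévissage for coherence of direct images (helper4)

For `f : X ⟶ Y` quasi-compact quasi-separated with `Y` locally Noetherian, the class of quasi-coherent `F` with `f_* F`
coherent is closed under subobjects and extensions; hence the dévissage S10865 applies.
-/

set_option autoImplicit false
set_option linter.style.haveILetI false
set_option linter.unusedSectionVars false
universe u
open CategoryTheory CategoryTheory.Limits AlgebraicGeometry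

namespace Groth.Agent.Lib.Helper4.PushDev
open Groth.Agent.Lib.Helper4.Dev Groth.Agent.Lib.Helper4.CohThick
open Groth.Agent.Lib.Helper23.QCohLocal Groth.Agent.Lib.Helper2 Groth.Agent.Lib.Helper23.FinType

variable {X Y : Scheme.{u}} (f : X ⟶ Y)

theorem quasiCompact_of_noetherianSpace [TopologicalSpace.NoetherianSpace X] : QuasiCompact f := by
  rw [quasiCompact_iff_forall_isAffineOpen]
  intro U _
  exact TopologicalSpace.NoetherianSpace.isCompact _

section
variable [QuasiCompact f] [QuasiSeparated f] [IsLocallyNoetherian Y]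

theorem isCoh_push_of_mono {A B : X.Modules} (m : A ⟶ B) [Mono m] (hA : A.IsQuasicoherent)
    (hB : Coh.IsCoh ((Scheme.Modules.pushforward f).obj B)) :
    Coh.IsCoh ((Scheme.Modules.pushforward f).obj A) := by
  haveI := hA
  haveI : ((Scheme.Modules.pushforward f).obj A).IsQuasicoherent :=
    Groth.Agent.Lib.Helper23.QCohLocal.isQuasicoherent_pushforward f A
  haveI : ((Scheme.Modules.pushforward f).obj B).IsQuasicoherent := hB.1
  haveI : SheafOfModules.IsFiniteType (R := Y.ringCatSheaf) ((Scheme.Modules.pushforward f).obj B) :=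
    hB.2
  haveI : Mono ((Scheme.Modules.pushforward f).map m) := inferInstance
  exact ⟨inferInstance, isFiniteType_of_mono ((Scheme.Modules.pushforward f).map m)⟩

theorem isCoh_push_of_shortExact (S : ShortComplex X.Modules) (hS : S.ShortExact)
    (h2 : S.X₂.IsQuasicoherent)
    (h1 : Coh.IsCoh ((Scheme.Modules.pushforward f).obj S.X₁))
    (h3 : Coh.IsCoh ((Scheme.Modules.pushforward f).obj S.X₃)) :
    Coh.IsCoh ((Scheme.Modules.pushforward f).obj S.X₂) := by
  haveI := hS.mono_f
  haveI := h2
  let S' := S.map (Scheme.Modules.pushforward f)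
  have hex : S'.Exact :=
    hS.exact.map_of_mono_of_preservesKernel (Scheme.Modules.pushforward f) inferInstance inferInstance
  haveI : Mono S'.f := by
    change Mono ((Scheme.Modules.pushforward f).map S.f)
    infer_instance
  haveI hmono : Mono (cokernel.desc S'.f S'.g S'.zero) := S'.exact_iff_mono_cokernel_desc.1 hex
  haveI q1 : S'.X₁.IsQuasicoherent := h1.1
  haveI q2 : S'.X₂.IsQuasicoherent :=
    Groth.Agent.Lib.Helper23.QCohLocal.isQuasicoherent_pushforward f S.X₂
  haveI q3 : S'.X₃.IsQuasicoherent := h3.1
  haveI qC : (cokernel S'.f).IsQuasicoherent := isQuasicoherent_cokernel S'.f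
  haveI : SheafOfModules.IsFiniteType (R := Y.ringCatSheaf) S'.X₃ := h3.2
  have hC : Coh.IsCoh (cokernel S'.f) :=
    ⟨qC, isFiniteType_of_mono (cokernel.desc S'.f S'.g S'.zero)⟩
  let T : ShortComplex Y.Modules := ShortComplex.mk S'.f (cokernel.π S'.f) (cokernel.condition _)
  have hT : T.ShortExact :=
    { exact := ShortComplex.exact_cokernel S'.f
      mono_f := by change Mono S'.f; infer_instance
      epi_g := by change Epi (cokernel.π S'.f); infer_instance }
  exact isCoh_of_shortExact T hT h1 hC

end

/-- S10866 -/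
theorem isCoh_push_of_gen [IsNoetherian X] [IsNoetherian Y]
    (hgen : ∀ (Z : Scheme.{u}) (i : Z ⟶ X) [IsClosedImmersion i] [IsIntegral Z],
      ∃ H : Z.Modules, Coh.IsCoh H ∧ Nontrivial (H.presheaf.stalk (genericPoint Z)) ∧
        Coh.IsCoh ((Scheme.Modules.pushforward (i ≫ f)).obj H))
    (F : X.Modules) (hF : Coh.IsCoh F) : Coh.IsCoh ((Scheme.Modules.pushforward f).obj F) := by
  haveI : IsLocallyNoetherian X := inferInstance
  haveI : IsLocallyNoetherian Y := inferInstance
  haveI : QuasiCompact f := quasiCompact_of_noetherianSpace f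
  haveI : QuasiSeparated f := inferInstance
  by_cases hne : Nonempty X
  · let K : ObjectProperty X.Modules := fun M => Coh.IsCoh ((Scheme.Modules.pushforward f).obj M)
    haveI : K.IsClosedUnderIsomorphisms :=
      ⟨fun e h => isCoh_of_iso ((Scheme.Modules.pushforward f).mapIso e) h⟩
    refine Groth.Agent.S10865.result X K ?_ ?_ ?_ F hF
    · intro S hS c1 c2 c3
      haveI := hS.mono_f
      exact ⟨fun k2 _ => isCoh_push_of_mono f S.f c1.1 k2,
        fun k1 k3 => isCoh_push_of_shortExact f S hS c2.1 k1 k3⟩
    · intro G d hd hG hK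
      let j : Fin d := ⟨0, hd⟩
      haveI : Mono (Sigma.ι (fun _ : Fin d => G) j) := inferInstance
      exact isCoh_push_of_mono f (Sigma.ι (fun _ : Fin d => G) j) hG.1 hK
    · intro Z i _ _
      obtain ⟨H, hH, hnt, hc⟩ := hgen Z i
      exact ⟨H, hH, hnt, isCoh_of_iso ((Scheme.Modules.pushforwardComp i f).app H).symm hc⟩
  · haveI : IsEmpty X := not_nonempty_iff.1 hne
    have hz : IsZero F := isZero_of_support_eq_empty F (Set.eq_empty_of_isEmpty _)
    exact isCoh_of_isZero ((Scheme.Modules.pushforward f).map_isZero hz)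
      (isCoh_structureModule Y)

end Groth.Agent.Lib.Helper4.PushDev
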