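import Mathlib
import Groth.Agent.Lib.Helper5CMAffSp
import Groth.Agent.Lib.Helper5TfaeCMReg
import Groth.Agent.Lib.Helper5FibMorLoci
import Groth.Agent.Lib.Helper3FibCritSch
import Groth.Agent.Lib.Helper3FlatFibDim
import Groth.Agent.Lib.Helper6SmRegSch
import Groth.Agent.Lib.Helper6LfpComp
import Groth.Agent.Lib.Helper4DimFormulaAF

/-!
# Morphisms between smooth schemes: open immersion criterion (helper5)

For `g : X ⟶ Y` over `S` with `Y`, `X` smooth over `S`: `g` is an open immersion iff it is a
monomorphism and the fibre dimensions agree (EGA IV 17.9.?/17.11).  The proof: the fibres are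
regular, so a quasi-finite map between them with equal local dimensions is flat (miracle flatness);
the critère de platitude par fibres gives flatness of `g`; a flat monomorphism locally of finite
presentation is an open immersion.
-/

set_option autoImplicit false
set_option linter.style.haveILetI false
universe u
open CategoryTheory CategoryTheory.Limits AlgebraicGeometry Topology TopologicalSpace

namespace Groth.Agent.Lib.Helper5.OpenImmSm
open Groth.Agent.Lib.Helper5.CMAffSp Groth.Agent.Lib.Helper5.TfaeCMReg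
  Groth.Agent.Lib.Helper5.FibMorLoci Groth.Agent.Lib.Helper3.FibCritSch
  Groth.Agent.Lib.Helper4.DimFormula Groth.Agent.Lib.Helper6.QFAff Groth.Agent.Lib.Helper5

/-- the fibres of a smooth morphism have regular local rings. -/
theorem isRegularLocalRing_fiber_of_smooth {X S : Scheme.{u}} (f : X ⟶ S) [Smooth f] (s : S)
    (z : f.fiber s) : IsRegularLocalRing ((f.fiber s).presheaf.stalk z) := by
  haveI : Smooth (f.fiberToSpecResidueField s) := by
    dsimp only [Scheme.Hom.fiberToSpecResidueField]
    exact MorphismProperty.pullback_snd (P := @Smooth) f _ inferInstance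
  exact Groth.Agent.Lib.Helper6.SmRegSch.isRegularLocalRing_stalk_of_smooth_over_field
    (S.residueField s) (f.fiber s) (f.fiberToSpecResidueField s) z

theorem fiberMap_asFiber {X Y S : Scheme.{u}} (g : X ⟶ Y) (f : Y ⟶ S) (x : X) :
    MoreMor.fiberMap g f (f (g x)) ((g ≫ f).asFiber x) = f.asFiber (g x) := by
  apply (f.fiberι (f (g x))).isEmbedding.injective
  rw [f.fiberι_asFiber (g x), ← Scheme.Hom.comp_apply,
    ← (isPullback_fiberMap g f (f (g x))).w, Scheme.Hom.comp_apply]
  congr 1
  exact (g ≫ f).fiberι_asFiber x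

/-- a quasi-finite morphism between smooth `S`-schemes with equal fibre dimensions at `x` is flat
at `x`. -/
theorem flat_stalkMap_of_fibreDimAt_eq {X Y S : Scheme.{u}} (g : X ⟶ Y) (f : Y ⟶ S) [Smooth f]
    [Smooth (g ≫ f)] [LocallyOfFiniteType g] [LocallyQuasiFinite g] (x : X)
    (hd : FlatMor.fibreDimAt f (g x) = FlatMor.fibreDimAt (g ≫ f) x) :
    (g.stalkMap x).hom.Flat := by
  refine flat_stalkMap_of_flat_of_fiberMap g f x (Flat.stalkMap _ _) ?_
  haveI : IsLocallyNoetherian (f.fiber (f (g x))) := isLocallyNoetherian_fiber f _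
  have hsq := isPullback_fiberMap g f (f (g x))
  haveI : LocallyOfFiniteType (MoreMor.fiberMap g f (f (g x))) :=
    MorphismProperty.of_isPullback (P := @LocallyOfFiniteType) hsq inferInstance
  haveI : LocallyQuasiFinite (MoreMor.fiberMap g f (f (g x))) :=
    MorphismProperty.of_isPullback (P := @LocallyQuasiFinite) hsq inferInstance
  have hreg : IsRegularLocalRing ((f.fiber (f (g x))).presheaf.stalk
      (MoreMor.fiberMap g f (f (g x)) ((g ≫ f).asFiber x))) :=
    isRegularLocalRing_fiber_of_smooth f _ _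
  have hCM : LocCoh.IsCohenMacaulayLocalRing
      (((g ≫ f).fiber (f (g x))).presheaf.stalk ((g ≫ f).asFiber x)) := by
    haveI := isRegularLocalRing_fiber_of_smooth (g ≫ f) (f (g x)) ((g ≫ f).asFiber x)
    exact isCohenMacaulayLocalRing_of_isRegularLocalRing _
  have htfae := tfae (MoreMor.fiberMap g f (f (g x))) ((g ≫ f).asFiber x) hreg hCM
  refine (htfae.out 1 4).mpr ?_
  have e1 := fibreDimAt_eq_stalk_add_ptTrdeg (g ≫ f) x
  have e2 := fibreDimAt_eq_stalk_add_ptTrdeg f (g x)
  have e3 := fibreDimAt_eq_stalk_add_ptTrdeg (MoreMor.fiberMap g f (f (g x))) ((g ≫ f).asFiber x)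
  have ht := ptTrdeg_comp g f x
  have ht0 := ptTrdeg_eq_zero_of_locallyQuasiFinite g x
  rw [ptTrdeg_eq_zero_of_locallyQuasiFinite (MoreMor.fiberMap g f (f (g x))) _, Nat.cast_zero,
    add_zero] at e3
  have hqf0 := (Groth.Agent.Lib.Helper3.GrpHomQF.locallyQuasiFinite_iff_forall_fibreDimAt_le_zero
    (MoreMor.fiberMap g f (f (g x)))).mp inferInstance ((g ≫ f).asFiber x)
  have h3 : ringKrullDim (((MoreMor.fiberMap g f (f (g x))).fiber
      (MoreMor.fiberMap g f (f (g x)) ((g ≫ f).asFiber x))).presheaf.stalk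
        ((MoreMor.fiberMap g f (f (g x))).asFiber ((g ≫ f).asFiber x))) = 0 := by
    refine le_antisymm ?_ ringKrullDim_nonneg_of_nontrivial
    rw [← e3]
    exact hqf0
  rw [h3, add_zero]
  have hpt := fiberMap_asFiber g f x
  have hb : ringKrullDim ((f.fiber (f (g x))).presheaf.stalk
      (MoreMor.fiberMap g f (f (g x)) ((g ≫ f).asFiber x))) =
      ringKrullDim ((f.fiber (f (g x))).presheaf.stalk (f.asFiber (g x))) := by
    rw [hpt]
  rw [hb]
  rw [ht, ht0, add_zero] at e1
  rw [e1, e2] at hd
  exact (withBot_enat_add_nat_cancel _ hd).symm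

theorem isOpenImmersion_iff {X Y S : Scheme.{u}} (f : Y ⟶ S) (h : X ⟶ S)
    [Smooth f] [Smooth h] (g : X ⟶ Y) (w : g ≫ f = h) :
    IsOpenImmersion g ↔
      Mono g ∧ ∀ x : X, FlatMor.fibreDimAt f (g x) = FlatMor.fibreDimAt h x := by
  subst w
  constructor
  · intro hg
    refine ⟨inferInstance, fun x => ?_⟩
    exact (Groth.Agent.Lib.Helper3.FlatFibDim.fibreDimAt_comp_of_isOpenImmersion g f x).symm
  · rintro ⟨hm, hd⟩
    haveI : LocallyOfFinitePresentation g :=
      Groth.Agent.Lib.Helper6.locallyOfFinitePresentation_of_comp (g := f) inferInstance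
        inferInstance
    haveI : LocallyQuasiFinite g := inferInstance
    haveI : Flat g := by
      rw [Flat.iff_flat_stalkMap]
      intro x
      exact flat_stalkMap_of_fibreDimAt_eq g f x (hd x)
    exact IsOpenImmersion.of_flat_of_mono g

end Groth.Agent.Lib.Helper5.OpenImmSm
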