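import Mathlib
import Groth.Agent.Lib.Helper4QFCoverA

/-!
# fppf sheaves via quasi-finite flat covers of affine schemes (helper4)

* `fppfTopology_eq_propQCTopology`: the fppf topology is the `qc`-topology of flat morphisms locally
  of finite presentation.
* `isSheafFor_singleton_of_qf`: a Zariski sheaf satisfying the sheaf condition for quasi-finite flat
  covers of affine schemes satisfies it for every fppf cover of an affine scheme by one morphism.
* `isSheaf_fppf_iff`: the criterion.
-/

set_option autoImplicit false
set_option linter.style.haveILetI false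
universe w u
open CategoryTheory CategoryTheory.Limits AlgebraicGeometry

namespace Groth.Agent.Lib.Helper4.QFSheaf

set_option backward.isDefEq.respectTransparency.types false in
theorem fppfPrecoverage_eq :
    Scheme.propQCPrecoverage (@Flat ⊓ @LocallyOfFinitePresentation) = Scheme.fppfPrecoverage.{u} := by
  rw [Scheme.propQCPrecoverage, Scheme.fppfPrecoverage]
  apply inf_eq_right.mpr
  exact Scheme.precoverage_le_qcPrecoverage_of_isOpenMap fun X Y f ⟨_, _⟩ ↦ f.isOpenMap

theorem fppfTopology_eq_propQCTopology :
    Scheme.fppfTopology.{u} = Scheme.propQCTopology (@Flat ⊓ @LocallyOfFinitePresentation) := by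
  show Scheme.fppfPrecoverage.toGrothendieck = (Scheme.propQCPrecoverage _).toGrothendieck
  rw [fppfPrecoverage_eq]

set_option backward.isDefEq.respectTransparency.types false in
theorem isSheafFor_singleton_of_qf {F : Scheme.{u}ᵒᵖ ⥤ Type w}
    (hzar : Presieve.IsSheaf Scheme.zariskiTopology F)
    (hqf : ∀ (T S : Scheme.{u}) [IsAffine T] [IsAffine S] (f : T ⟶ S)
      [Flat f] [Surjective f] [LocallyOfFinitePresentation f] [LocallyQuasiFinite f],
      Presieve.IsSheafFor F (Presieve.singleton f))
    {T S : Scheme.{u}} [IsAffine S] (f : T ⟶ S) [Flat f] [Surjective f]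
    [LocallyOfFinitePresentation f] : Presieve.IsSheafFor F (Presieve.singleton f) := by
  obtain ⟨S', g, h, hfg, hgfl, hglfp, hglqf, hgsurj, hS'⟩ :=
    Groth.Agent.Lib.Helper4.QFCover.exists_qf_flat_cover f
  haveI : IsAffine S' := hS' inferInstance
  rw [Presieve.isSheafFor_iff_generate]
  refine Presieve.isSheafFor_subsieve_aux F (S := Sieve.generate (Presieve.singleton g)) ?_ ?_ ?_
  · rintro Y u ⟨W, a, b, ⟨⟩, rfl⟩
    exact ⟨T, a ≫ h, f, ⟨⟩, by rw [Category.assoc, hfg]⟩
  · rw [← Presieve.isSheafFor_iff_generate]
    exact hqf S' S g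
  · intro Y₀ u _ x t₁ t₂ ht₁ ht₂
    refine (hzar _ Y₀.affineCover.mem_grothendieckTopology).isSeparatedFor.ext ?_
    rintro Z v ⟨W, a, b, ⟨i⟩, rfl⟩
    rw [op_comp, F.map_comp]
    simp only [types_comp_apply]
    congr 1
    have hsep := (hqf (pullback (Y₀.affineCover.f i ≫ u) g) (Y₀.affineCover.X i)
      (pullback.fst (Y₀.affineCover.f i ≫ u) g)).isSeparatedFor
    rw [Presieve.isSeparatedFor_singleton] at hsep
    apply hsep
    have hmem : (Sieve.generate (Presieve.singleton g)).pullback u
        (pullback.fst (Y₀.affineCover.f i ≫ u) g ≫ Y₀.affineCover.f i) :=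
      ⟨S', pullback.snd _ _, g, ⟨⟩, by rw [Category.assoc, pullback.condition]⟩
    have e1 := ht₁ _ hmem
    have e2 := ht₂ _ hmem
    rw [op_comp, F.map_comp] at e1 e2
    exact e1.trans e2.symm

local instance isMultiplicative_lfp : MorphismProperty.IsMultiplicative @LocallyOfFinitePresentation where
  id_mem _ := inferInstance

set_option backward.isDefEq.respectTransparency.types false in
/-- **fppf sheaves** are the Zariski sheaves satisfying the sheaf condition for quasi-finite flat covers
of affine schemes by one affine scheme. -/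
theorem isSheaf_fppf_iff (F : Scheme.{u}ᵒᵖ ⥤ Type w) :
    Presheaf.IsSheaf Scheme.fppfTopology F ↔
      Presheaf.IsSheaf Scheme.zariskiTopology F ∧
        ∀ (T S : Scheme.{u}) [IsAffine T] [IsAffine S] (f : T ⟶ S)
          [Flat f] [Surjective f] [LocallyOfFinitePresentation f] [LocallyQuasiFinite f],
          Presieve.IsSheafFor F (Presieve.singleton f) := by
  rw [isSheaf_iff_isSheaf_of_type, isSheaf_iff_isSheaf_of_type]
  constructor
  · intro hF
    refine ⟨Presieve.isSheaf_of_le _
      (Precoverage.toGrothendieck_mono Scheme.zariskiPrecoverage_le_fppfPrecoverage) hF, ?_⟩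
    intro T S _ _ f _ _ _ _
    rw [Presieve.isSheafFor_iff_generate]
    exact hF _ (Precoverage.generate_mem_toGrothendieck f.singleton_mem_fppfPrecoverage)
  · rintro ⟨hzar, hqf⟩
    rw [fppfTopology_eq_propQCTopology, isSheaf_type_propQCTopology_iff]
    refine ⟨hzar, ?_⟩
    intro R S φ hφ hsurj
    haveI : Flat (Spec.map φ) := hφ.1
    haveI : LocallyOfFinitePresentation (Spec.map φ) := hφ.2
    exact isSheafFor_singleton_of_qf hzar hqf (Spec.map φ)

end Groth.Agent.Lib.Helper4.QFSheaf
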