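import Mathlib

/-!
# Cutting down to a quasi-finite slice in a Noetherian ring (helper4)

* `exists_prime_step`: in a Noetherian domain, below a prime `𝔫` of height `≥ 2` there is a nonzero prime
  avoiding two given nonzero ideals.
* `exists_prime_qf`: in a Noetherian ring, given primes `𝔭₀ ≤ 𝔫` and ideals `I, 𝔞 ⊄ 𝔭₀`, there is a prime
  `𝔭₀ ≤ 𝔭 ≤ 𝔫` not containing `I` nor `𝔞` such that `𝔫` is minimal over `𝔭 + I`.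
* `exists_prime_slice`: the version for an algebra `A → C`, with `I` the extension of `𝔫 ∩ A`.
-/

set_option autoImplicit false
set_option linter.style.haveILetI false

namespace Groth.Agent.Lib.Helper4.QFSlice

theorem not_lt_lt_of_height_le_one {D : Type*} [CommRing D] [IsDomain D] [IsNoetherianRing D]
    (𝔮 𝔮' : Ideal D) [𝔮.IsPrime] [𝔮'.IsPrime] (h : 𝔮.height ≤ 1) (h0 : 𝔮' ≠ ⊥) (hlt : 𝔮' < 𝔮) :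
    False := by
  haveI : (⊥ : Ideal D).IsPrime := Ideal.isPrime_bot
  have h1 : (⊥ : Ideal D).height < 𝔮'.height :=
    Ideal.height_strict_mono_of_isPrime (bot_lt_iff_ne_bot.mpr h0)
  have h2 : 𝔮'.height < 𝔮.height := Ideal.height_strict_mono_of_isPrime hlt
  have h3 : (1 : ℕ∞) ≤ 𝔮'.height := Order.one_le_iff_pos.mpr (lt_of_le_of_lt (zero_le) h1)
  exact absurd (lt_of_le_of_lt h3 h2) (not_lt.mpr h)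

theorem exists_prime_step {D : Type*} [CommRing D] [IsDomain D] [IsNoetherianRing D]
    (𝔫 : Ideal D) [𝔫.IsPrime] (I 𝔞 : Ideal D) (hI : I ≠ ⊥) (h𝔞 : 𝔞 ≠ ⊥)
    (𝔯₀ : Ideal D) [𝔯₀.IsPrime] (h𝔯₀ : 𝔯₀ ≠ ⊥) (h𝔯₀lt : 𝔯₀ < 𝔫) :
    ∃ 𝔮 : Ideal D, 𝔮.IsPrime ∧ 𝔮 ≠ ⊥ ∧ 𝔮 ≤ 𝔫 ∧ ¬ I ≤ 𝔮 ∧ ¬ 𝔞 ≤ 𝔮 := by
  classical
  have hfinI : I.minimalPrimes.Finite := Ideal.finite_minimalPrimes_of_isNoetherianRing D I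
  have hfin𝔞 : 𝔞.minimalPrimes.Finite := Ideal.finite_minimalPrimes_of_isNoetherianRing D 𝔞
  set s : Finset (Ideal D) :=
    insert ⊥ ((hfinI.toFinset ∪ hfin𝔞.toFinset).filter (fun 𝔯 => ¬ 𝔫 ≤ 𝔯)) with hs
  have hsprime : ∀ 𝔯 ∈ s, 𝔯.IsPrime := by
    intro 𝔯 h𝔯
    rw [hs, Finset.mem_insert, Finset.mem_filter, Finset.mem_union, Set.Finite.mem_toFinset,
      Set.Finite.mem_toFinset] at h𝔯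
    rcases h𝔯 with rfl | ⟨h1 | h1, -⟩
    · exact Ideal.isPrime_bot
    · exact h1.1.1
    · exact h1.1.1
  have hnot : ¬ ((𝔫 : Set D) ⊆ ⋃ 𝔯 ∈ (s : Set (Ideal D)), (𝔯 : Set D)) := by
    intro hsub
    have h1 := (Ideal.subset_union_prime (s := s) (f := fun 𝔯 => 𝔯) ⊥ ⊥
      (fun 𝔯 h𝔯 _ _ => hsprime 𝔯 h𝔯)).mp hsub
    obtain ⟨𝔯, h𝔯s, h𝔫𝔯⟩ := h1
    rw [hs, Finset.mem_insert, Finset.mem_filter] at h𝔯s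
    rcases h𝔯s with rfl | ⟨-, h2⟩
    · exact h𝔯₀ (le_bot_iff.mp (h𝔯₀lt.le.trans h𝔫𝔯))
    · exact h2 h𝔫𝔯
  obtain ⟨g, hg𝔫, hgs⟩ := Set.not_subset.mp hnot
  have hgs' : ∀ 𝔯 ∈ s, g ∉ 𝔯 := by
    intro 𝔯 h𝔯 hg𝔯
    apply hgs
    exact Set.mem_biUnion (Finset.mem_coe.mpr h𝔯) hg𝔯
  have hg0 : g ≠ 0 := by
    intro h0
    exact hgs' ⊥ (by rw [hs]; exact Finset.mem_insert_self _ _) (by rw [h0]; exact Ideal.zero_mem _)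
  have hle : Ideal.span {g} ≤ 𝔫 := by
    rw [Ideal.span_le, Set.singleton_subset_iff]; exact hg𝔫
  obtain ⟨𝔮, h𝔮min, h𝔮𝔫⟩ := Ideal.exists_minimalPrimes_le hle
  haveI h𝔮prime : 𝔮.IsPrime := h𝔮min.1.1
  have hg𝔮 : g ∈ 𝔮 := h𝔮min.1.2 (Ideal.subset_span (Set.mem_singleton g))
  have hht : 𝔮.height ≤ 1 :=
    Ideal.height_le_one_of_isPrincipal_of_mem_minimalPrimes (Ideal.span {g}) 𝔮 h𝔮min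
  have h𝔫ht : ¬ 𝔫.height ≤ 1 := fun h => not_lt_lt_of_height_le_one 𝔫 𝔯₀ h h𝔯₀ h𝔯₀lt
  -- key: a nonzero ideal contained in `𝔮` has `𝔮` as a minimal prime
  have key : ∀ J : Ideal D, J ≠ ⊥ → J.minimalPrimes.Finite → (∀ 𝔯 ∈ J.minimalPrimes, ¬ 𝔫 ≤ 𝔯 → g ∉ 𝔯) →
      ¬ J ≤ 𝔮 := by
    intro J hJ0 _ hJ hJ𝔮
    obtain ⟨𝔮', h𝔮'min, h𝔮'𝔮⟩ := Ideal.exists_minimalPrimes_le hJ𝔮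
    haveI : 𝔮'.IsPrime := h𝔮'min.1.1
    have h𝔮'0 : 𝔮' ≠ ⊥ := by
      intro h0
      apply hJ0
      exact le_bot_iff.mp (h0 ▸ h𝔮'min.1.2)
    have heq : 𝔮' = 𝔮 := by
      by_contra hne
      exact not_lt_lt_of_height_le_one 𝔮 𝔮' hht h𝔮'0 (lt_of_le_of_ne h𝔮'𝔮 hne)
    rw [heq] at h𝔮'min
    by_cases h𝔫𝔮 : 𝔫 ≤ 𝔮
    · have : 𝔮 = 𝔫 := le_antisymm h𝔮𝔫 h𝔫𝔮
      exact h𝔫ht (this ▸ hht)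
    · exact hJ 𝔮 h𝔮'min h𝔫𝔮 hg𝔮
  refine ⟨𝔮, h𝔮prime, ?_, h𝔮𝔫, ?_, ?_⟩
  · intro h0
    exact hg0 (by rw [h0] at hg𝔮; exact (Ideal.mem_bot.mp hg𝔮))
  · apply key I hI hfinI
    intro 𝔯 h𝔯 h𝔫𝔯
    apply hgs' 𝔯
    rw [hs, Finset.mem_insert, Finset.mem_filter, Finset.mem_union, Set.Finite.mem_toFinset]
    exact Or.inr ⟨Or.inl h𝔯, h𝔫𝔯⟩
  · apply key 𝔞 h𝔞 hfin𝔞
    intro 𝔯 h𝔯 h𝔫𝔯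
    apply hgs' 𝔯
    rw [hs, Finset.mem_insert, Finset.mem_filter, Finset.mem_union, Set.Finite.mem_toFinset,
      Set.Finite.mem_toFinset]
    exact Or.inr ⟨Or.inr h𝔯, h𝔫𝔯⟩

theorem exists_prime_qf {C : Type*} [CommRing C] [IsNoetherianRing C] (𝔫 : Ideal C) [𝔫.IsPrime]
    (I 𝔞 : Ideal C) (𝔭₀ : Ideal C) [h𝔭₀prime : 𝔭₀.IsPrime] (h𝔭₀ : 𝔭₀ ≤ 𝔫) (hI : ¬ I ≤ 𝔭₀)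
    (h𝔞 : ¬ 𝔞 ≤ 𝔭₀) :
    ∃ 𝔭 : Ideal C, 𝔭.IsPrime ∧ 𝔭₀ ≤ 𝔭 ∧ 𝔭 ≤ 𝔫 ∧ ¬ I ≤ 𝔭 ∧ ¬ 𝔞 ≤ 𝔭 ∧
      ∀ 𝔯 : Ideal C, 𝔯.IsPrime → 𝔭 ≤ 𝔯 → I ≤ 𝔯 → 𝔯 ≤ 𝔫 → 𝔯 = 𝔫 := by
  refine IsWellFounded.induction (· > ·) (motive := fun 𝔭₀ : Ideal C => 𝔭₀.IsPrime → 𝔭₀ ≤ 𝔫 → ¬ I ≤ 𝔭₀ →
    ¬ 𝔞 ≤ 𝔭₀ → ∃ 𝔭 : Ideal C, 𝔭.IsPrime ∧ 𝔭₀ ≤ 𝔭 ∧ 𝔭 ≤ 𝔫 ∧ ¬ I ≤ 𝔭 ∧ ¬ 𝔞 ≤ 𝔭 ∧
      ∀ 𝔯 : Ideal C, 𝔯.IsPrime → 𝔭 ≤ 𝔯 → I ≤ 𝔯 → 𝔯 ≤ 𝔫 → 𝔯 = 𝔫) 𝔭₀ ?_ h𝔭₀prime h𝔭₀ hI h𝔞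
  clear h𝔭₀prime h𝔭₀ hI h𝔞 𝔭₀
  intro 𝔭₀ ih h𝔭₀prime h𝔭₀ hI h𝔞
  by_cases hall : ∀ 𝔯 : Ideal C, 𝔯.IsPrime → 𝔭₀ ≤ 𝔯 → I ≤ 𝔯 → 𝔯 ≤ 𝔫 → 𝔯 = 𝔫
  · exact ⟨𝔭₀, h𝔭₀prime, le_rfl, h𝔭₀, hI, h𝔞, hall⟩
  push Not at hall
  obtain ⟨𝔯₀, h𝔯₀prime, h𝔭₀𝔯₀, hI𝔯₀, h𝔯₀𝔫, h𝔯₀ne⟩ := hall
  -- pass to the domain `C ⧸ 𝔭₀`
  have hsurj : Function.Surjective (Ideal.Quotient.mk 𝔭₀) := Ideal.Quotient.mk_surjective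
  have hker : RingHom.ker (Ideal.Quotient.mk 𝔭₀) = 𝔭₀ := Ideal.mk_ker
  have hcm : ∀ J : Ideal C, 𝔭₀ ≤ J → (J.map (Ideal.Quotient.mk 𝔭₀)).comap (Ideal.Quotient.mk 𝔭₀) = J := by
    intro J hJ
    rw [Ideal.comap_map_of_surjective _ hsurj, ← RingHom.ker_eq_comap_bot, hker, sup_eq_left.mpr hJ]
  haveI h𝔫' : (𝔫.map (Ideal.Quotient.mk 𝔭₀)).IsPrime :=
    Ideal.map_isPrime_of_surjective hsurj (by rw [hker]; exact h𝔭₀)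
  haveI h𝔯₀' : (𝔯₀.map (Ideal.Quotient.mk 𝔭₀)).IsPrime :=
    Ideal.map_isPrime_of_surjective hsurj (by rw [hker]; exact h𝔭₀𝔯₀)
  have hbot : ∀ J : Ideal C, J.map (Ideal.Quotient.mk 𝔭₀) = ⊥ ↔ J ≤ 𝔭₀ := by
    intro J
    rw [Ideal.map_eq_bot_iff_le_ker, hker]
  have hI' : I.map (Ideal.Quotient.mk 𝔭₀) ≠ ⊥ := fun h => hI ((hbot I).mp h)
  have h𝔞' : 𝔞.map (Ideal.Quotient.mk 𝔭₀) ≠ ⊥ := fun h => h𝔞 ((hbot 𝔞).mp h)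
  have h𝔯₀'0 : 𝔯₀.map (Ideal.Quotient.mk 𝔭₀) ≠ ⊥ := fun h => hI (hI𝔯₀.trans ((hbot 𝔯₀).mp h))
  have h𝔯₀'lt : 𝔯₀.map (Ideal.Quotient.mk 𝔭₀) < 𝔫.map (Ideal.Quotient.mk 𝔭₀) := by
    refine lt_of_le_of_ne (Ideal.map_mono h𝔯₀𝔫) ?_
    intro heq
    apply h𝔯₀ne
    rw [← hcm 𝔯₀ h𝔭₀𝔯₀, ← hcm 𝔫 h𝔭₀, heq]
  obtain ⟨𝔮', h𝔮'prime, h𝔮'0, h𝔮'𝔫, hI𝔮', h𝔞𝔮'⟩ :=
    exists_prime_step (𝔫.map (Ideal.Quotient.mk 𝔭₀)) (I.map (Ideal.Quotient.mk 𝔭₀))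
      (𝔞.map (Ideal.Quotient.mk 𝔭₀)) hI' h𝔞' (𝔯₀.map (Ideal.Quotient.mk 𝔭₀)) h𝔯₀'0 h𝔯₀'lt
  set 𝔮 : Ideal C := 𝔮'.comap (Ideal.Quotient.mk 𝔭₀) with h𝔮
  haveI h𝔮prime : 𝔮.IsPrime := Ideal.IsPrime.comap _
  have h𝔭₀𝔮 : 𝔭₀ ≤ 𝔮 := by
    rw [← hker, RingHom.ker_eq_comap_bot]
    exact Ideal.comap_mono bot_le
  have h𝔮ne : 𝔮 ≠ 𝔭₀ := by
    intro heq
    apply h𝔮'0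
    have h1 : 𝔮.map (Ideal.Quotient.mk 𝔭₀) = 𝔮' := Ideal.map_comap_of_surjective _ hsurj 𝔮'
    rw [← h1, heq, hbot]
  have h𝔮𝔫 : 𝔮 ≤ 𝔫 := by
    rw [← hcm 𝔫 h𝔭₀]
    exact Ideal.comap_mono h𝔮'𝔫
  have hI𝔮 : ¬ I ≤ 𝔮 := fun h => hI𝔮' (Ideal.map_le_iff_le_comap.mpr h)
  have h𝔞𝔮 : ¬ 𝔞 ≤ 𝔮 := fun h => h𝔞𝔮' (Ideal.map_le_iff_le_comap.mpr h)
  obtain ⟨𝔭, h𝔭prime, h𝔮𝔭, h𝔭𝔫, hI𝔭, h𝔞𝔭, hmin⟩ :=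
    ih 𝔮 (lt_of_le_of_ne h𝔭₀𝔮 (Ne.symm h𝔮ne)) h𝔮prime h𝔮𝔫 hI𝔮 h𝔞𝔮
  exact ⟨𝔭, h𝔭prime, h𝔭₀𝔮.trans h𝔮𝔭, h𝔭𝔫, hI𝔭, h𝔞𝔭, hmin⟩

/-- The relative version: `C` a Noetherian `A`-algebra, `𝔭₀ ≤ 𝔫` primes of `C` with different
contractions to `A`, `𝔫` maximal among the primes with its contraction, `h ∉ 𝔭₀`. Then there are a prime
`𝔭₀ ≤ 𝔭 ≤ 𝔫` with `h ∉ 𝔭`, whose contraction is not that of `𝔫`, and `r ∉ 𝔫` such that `𝔫` is the only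
prime of `V(𝔭) ∩ D(r)` with the contraction of `𝔫`. -/
theorem exists_prime_slice {A C : Type*} [CommRing A] [CommRing C] [Algebra A C] [IsNoetherianRing C]
    (𝔫 𝔭₀ : Ideal C) [𝔫.IsPrime] [𝔭₀.IsPrime] (hle : 𝔭₀ ≤ 𝔫) (hne : 𝔭₀.under A ≠ 𝔫.under A)
    (hmax : ∀ 𝔯 : Ideal C, 𝔯.IsPrime → 𝔫 ≤ 𝔯 → 𝔯.under A = 𝔫.under A → 𝔯 = 𝔫)
    (h : C) (hh : h ∉ 𝔭₀) :
    ∃ (𝔭 : Ideal C) (r : C), 𝔭.IsPrime ∧ 𝔭₀ ≤ 𝔭 ∧ 𝔭 ≤ 𝔫 ∧ h ∉ 𝔭 ∧ 𝔭.under A ≠ 𝔫.under A ∧ r ∉ 𝔫 ∧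
      ∀ 𝔯 : Ideal C, 𝔯.IsPrime → 𝔭 ≤ 𝔯 → r ∉ 𝔯 → 𝔯.under A = 𝔫.under A → 𝔯 = 𝔫 := by
  classical
  set I : Ideal C := (𝔫.under A).map (algebraMap A C) with hIdef
  have hIle : ∀ 𝔯 : Ideal C, I ≤ 𝔯 ↔ 𝔫.under A ≤ 𝔯.under A := by
    intro 𝔯
    rw [hIdef, Ideal.map_le_iff_le_comap]
  have hI : ¬ I ≤ 𝔭₀ := by
    intro hc
    apply hne
    exact le_antisymm (Ideal.comap_mono hle) ((hIle 𝔭₀).mp hc)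
  have h𝔞 : ¬ Ideal.span {h} ≤ 𝔭₀ := by
    intro hc
    exact hh (hc (Ideal.subset_span (Set.mem_singleton h)))
  obtain ⟨𝔭, h𝔭prime, h𝔭₀𝔭, h𝔭𝔫, hI𝔭, h𝔞𝔭, hmin⟩ := exists_prime_qf 𝔫 I (Ideal.span {h}) 𝔭₀ hle hI h𝔞
  have hh𝔭 : h ∉ 𝔭 := by
    intro hc
    apply h𝔞𝔭
    rw [Ideal.span_le, Set.singleton_subset_iff]; exact hc
  have hne𝔭 : 𝔭.under A ≠ 𝔫.under A := by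
    intro hc
    apply hI𝔭
    rw [hIle, hc]
  -- the other minimal primes of `𝔭 ⊔ I`
  have hfin : (𝔭 ⊔ I).minimalPrimes.Finite := Ideal.finite_minimalPrimes_of_isNoetherianRing C _
  have hI𝔫 : I ≤ 𝔫 := (hIle 𝔫).mpr le_rfl
  set T : Finset (Ideal C) := hfin.toFinset.filter (fun 𝔯 => 𝔯 ≠ 𝔫) with hT
  have hprod : ¬ T.prod (fun 𝔯 => 𝔯) ≤ 𝔫 := by
    intro hc
    obtain ⟨𝔯, h𝔯T, h𝔯𝔫⟩ := (Ideal.IsPrime.prod_le inferInstance).mp hc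
    rw [hT, Finset.mem_filter, Set.Finite.mem_toFinset] at h𝔯T
    exact h𝔯T.2 (hmin 𝔯 h𝔯T.1.1.1 (le_sup_left.trans h𝔯T.1.1.2) (le_sup_right.trans h𝔯T.1.1.2) h𝔯𝔫)
  obtain ⟨r, hrT, hr𝔫⟩ := SetLike.not_le_iff_exists.mp hprod
  refine ⟨𝔭, r, h𝔭prime, h𝔭₀𝔭, h𝔭𝔫, hh𝔭, hne𝔭, hr𝔫, ?_⟩
  intro 𝔯 h𝔯prime h𝔭𝔯 hr𝔯 hunder
  have hI𝔯 : I ≤ 𝔯 := by rw [hIle, hunder]
  obtain ⟨𝔯', h𝔯'min, h𝔯'𝔯⟩ := Ideal.exists_minimalPrimes_le (sup_le h𝔭𝔯 hI𝔯)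
  have h𝔯'eq : 𝔯' = 𝔫 := by
    by_contra hne'
    apply hr𝔯
    apply h𝔯'𝔯
    have h1 : T.prod (fun 𝔯 => 𝔯) ≤ 𝔯' :=
      Ideal.prod_le_inf.trans (Finset.inf_le (f := fun 𝔯 => 𝔯) (by
        rw [hT, Finset.mem_filter, Set.Finite.mem_toFinset]
        exact ⟨h𝔯'min, hne'⟩))
    exact h1 hrT
  exact hmax 𝔯 h𝔯prime (h𝔯'eq ▸ h𝔯'𝔯) hunder

end Groth.Agent.Lib.Helper4.QFSlice
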