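import Groth.Agent.Lib.Helper4QFSliceA
import Groth.Agent.Lib.Helper4ClosedPtsE

/-!
# A closed subscheme through a point, quasi-finite there, meeting an open (helper4)

`exists_qf_slice`: for `f : X ⟶ S` locally of finite type over a locally Noetherian scheme, `x` closed in
its fibre and `x' ∈ U` a generization of `x` with `f x' ≠ f x`, there is a point `z ∈ U` with
`x' ⤳ z ⤳ x`, `f z ≠ f x` such that the reduced closed subscheme `closure {z}` is quasi-finite over `S`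
at `x`.
-/

set_option autoImplicit false
set_option linter.style.haveILetI false
universe u

open AlgebraicGeometry CategoryTheory TopologicalSpace Topology

namespace Groth.Agent.Lib.Helper4.QFSlice

open Groth.Agent.Lib.Helper4.VarDim Groth.Agent.Lib.Helper4.ClosedPts

theorem exists_qf_slice {X S : Scheme.{u}} (f : X ⟶ S) [LocallyOfFiniteType f] [IsLocallyNoetherian S]
    (x : X) (hcl : IsClosed (Subtype.val ⁻¹' {x} : Set ↑(f ⁻¹' {f x}))) (U : X.Opens)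
    (x' : X) (hx'U : x' ∈ U) (hsp : x' ⤳ x) (hne : f x' ≠ f x) :
    ∃ (I : X.IdealSheafData) (z₀ x₀ : ↑I.subscheme), I.subschemeι x₀ = x ∧
      (I.subschemeι ≫ f).QuasiFiniteAt x₀ ∧
      I.subschemeι z₀ ∈ U ∧ I.subschemeι z₀ ⤳ x ∧ f (I.subschemeι z₀) ≠ f x := by
  obtain ⟨V, hV, hfxV, -⟩ :=
    exists_isAffineOpen_mem_and_subset (X := S) (U := ⊤) (x := f x) trivial
  obtain ⟨W, hW, hxW, hWV⟩ :=
    exists_isAffineOpen_mem_and_subset (X := X) (U := f ⁻¹ᵁ V) (x := x) hfxV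
  have e : W ≤ f ⁻¹ᵁ V := hWV
  have hx'W : x' ∈ W := hsp.mem_open W.isOpen hxW
  obtain ⟨h₀, hh₀U, hx'h₀⟩ := hW.exists_basicOpen_le (V := U) ⟨x', hx'U⟩ hx'W
  letI algAC : Algebra Γ(S, V) Γ(X, W) := (f.appLE V W e).hom.toAlgebra
  have halg : ∀ 𝔯 : Ideal Γ(X, W), 𝔯.under Γ(S, V) = 𝔯.comap (f.appLE V W e).hom := fun _ => rfl
  haveI : IsNoetherianRing Γ(S, V) := IsLocallyNoetherian.component_noetherian ⟨V, hV⟩
  haveI : Algebra.FiniteType Γ(S, V) Γ(X, W) := f.finiteType_appLE hV hW e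
  haveI : IsNoetherianRing Γ(X, W) := Algebra.FiniteType.isNoetherianRing Γ(S, V) Γ(X, W)
  have hle : (hW.primeIdealOf ⟨x', hx'W⟩).asIdeal ≤ (hW.primeIdealOf ⟨x, hxW⟩).asIdeal :=
    (primeIdealOf_le_iff hW x' x hx'W hxW).mpr hsp
  have hne' : (hW.primeIdealOf ⟨x', hx'W⟩).asIdeal.under Γ(S, V) ≠
      (hW.primeIdealOf ⟨x, hxW⟩).asIdeal.under Γ(S, V) := by
    rw [halg, halg, comap_appLE_primeIdealOf f hV hW e x' hx'W, comap_appLE_primeIdealOf f hV hW e x hxW]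
    intro heq
    apply hne
    exact primeIdealOf_injective hV (f x') (f x) _ _ (PrimeSpectrum.ext heq)
  have hh₀ : h₀ ∉ (hW.primeIdealOf ⟨x', hx'W⟩).asIdeal := by
    rw [mem_primeIdealOf_iff_notMem_basicOpen hW x' hx'W h₀]
    exact not_not.mpr hx'h₀
  -- a point of `W` with the contraction of `x` lies in the fibre of `f x`
  have hfib : ∀ (y : X) (hyW : y ∈ W), (hW.primeIdealOf ⟨y, hyW⟩).asIdeal.under Γ(S, V) =
      (hW.primeIdealOf ⟨x, hxW⟩).asIdeal.under Γ(S, V) → f y = f x := by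
    intro y hyW hy
    rw [halg, halg, comap_appLE_primeIdealOf f hV hW e y hyW, comap_appLE_primeIdealOf f hV hW e x hxW]
      at hy
    exact primeIdealOf_injective hV (f y) (f x) _ _ (PrimeSpectrum.ext hy)
  have hmax : ∀ 𝔯 : Ideal Γ(X, W), 𝔯.IsPrime → (hW.primeIdealOf ⟨x, hxW⟩).asIdeal ≤ 𝔯 →
      𝔯.under Γ(S, V) = (hW.primeIdealOf ⟨x, hxW⟩).asIdeal.under Γ(S, V) →
      𝔯 = (hW.primeIdealOf ⟨x, hxW⟩).asIdeal := by
    intro 𝔯 h𝔯 hle𝔯 hunder
    have hyW : hW.fromSpec ⟨𝔯, h𝔯⟩ ∈ W := fromSpec_mem hW _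
    have hq : (hW.primeIdealOf ⟨hW.fromSpec ⟨𝔯, h𝔯⟩, hyW⟩).asIdeal = 𝔯 :=
      congrArg PrimeSpectrum.asIdeal (primeIdealOf_fromSpec hW ⟨𝔯, h𝔯⟩ hyW)
    have hxy : x ⤳ hW.fromSpec ⟨𝔯, h𝔯⟩ := by
      rw [← primeIdealOf_le_iff hW x _ hxW hyW, hq]
      exact hle𝔯
    have hfy : f (hW.fromSpec ⟨𝔯, h𝔯⟩) = f x := hfib _ hyW (by rw [hq]; exact hunder)
    have hsp' : (⟨x, rfl⟩ : ↑(f ⁻¹' {f x})) ⤳ ⟨hW.fromSpec ⟨𝔯, h𝔯⟩, hfy⟩ :=
      (subtype_specializes_iff _ _).mpr hxy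
    have hmem := hsp'.mem_closed hcl (by simp)
    have hyx : hW.fromSpec ⟨𝔯, h𝔯⟩ = x := hmem
    rw [← hq]
    congr 2
    exact Subtype.ext hyx
  obtain ⟨𝔭, r, h𝔭prime, h𝔭₀𝔭, h𝔭𝔫, hh𝔭, hne𝔭, hr𝔫, hiso⟩ :=
    exists_prime_slice (A := Γ(S, V)) (hW.primeIdealOf ⟨x, hxW⟩).asIdeal
      (hW.primeIdealOf ⟨x', hx'W⟩).asIdeal hle hne' hmax h₀ hh₀
  -- the point `z`
  set z : X := hW.fromSpec ⟨𝔭, h𝔭prime⟩ with hz
  have hzW : z ∈ W := fromSpec_mem hW _
  have hqz : (hW.primeIdealOf ⟨z, hzW⟩).asIdeal = 𝔭 :=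
    congrArg PrimeSpectrum.asIdeal (primeIdealOf_fromSpec hW ⟨𝔭, h𝔭prime⟩ hzW)
  have hzx : z ⤳ x := by
    rw [← primeIdealOf_le_iff hW z x hzW hxW, hqz]
    exact h𝔭𝔫
  have hzU : z ∈ U := by
    apply hh₀U
    by_contra hnot
    apply hh𝔭
    rw [← hqz]
    exact (mem_primeIdealOf_iff_notMem_basicOpen hW z hzW h₀).mpr hnot
  have hfz : f z ≠ f x := by
    intro heq
    apply hne𝔭
    rw [← hqz, halg, halg, comap_appLE_primeIdealOf f hV hW e z hzW,
      comap_appLE_primeIdealOf f hV hW e x hxW]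
    congr 2
    exact Subtype.ext heq
  -- the closed subscheme
  set Z : Closeds X := ⟨closure {z}, isClosed_closure⟩ with hZ
  set I : X.IdealSheafData := Scheme.IdealSheafData.vanishingIdeal Z with hI
  have hsupp : (I.support : Set X) = closure {z} := by
    rw [hI, Scheme.IdealSheafData.coe_support_vanishingIdeal]
    rfl
  have hrange : Set.range I.subschemeι = closure {z} := by
    rw [Scheme.IdealSheafData.range_subschemeι, hsupp]
  have hxmem : x ∈ Set.range I.subschemeι := by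
    rw [hrange]
    exact hzx.mem_closure
  have hzmem : z ∈ Set.range I.subschemeι := by
    rw [hrange]
    exact subset_closure (Set.mem_singleton z)
  obtain ⟨x₀, hx₀⟩ := hxmem
  obtain ⟨z₀, hz₀⟩ := hzmem
  refine ⟨I, z₀, x₀, hx₀, ?_, by rw [hz₀]; exact hzU, by rw [hz₀]; exact hzx, by rw [hz₀]; exact hfz⟩
  rw [Scheme.Hom.quasiFiniteAt_iff_isOpen_singleton_asFiber,
    ← ((I.subschemeι ≫ f).fiberHomeo ((I.subschemeι ≫ f) x₀)).isOpen_image]
  simp only [Set.image_singleton, Scheme.Hom.asFiber, Homeomorph.apply_symm_apply]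
  rw [isOpen_induced_iff]
  refine ⟨(I.subschemeι ⁻¹ᵁ X.basicOpen r : I.subscheme.Opens), (I.subschemeι ⁻¹ᵁ X.basicOpen r).isOpen, ?_⟩
  ext ⟨y, hy⟩
  simp only [Set.mem_preimage, Set.mem_singleton_iff]
  constructor
  · intro hyr
    have hyr' : I.subschemeι y ∈ X.basicOpen r := hyr
    have hyW : I.subschemeι y ∈ W := X.basicOpen_le r hyr'
    have hfy : f (I.subschemeι y) = f x := by
      have h1 : (I.subschemeι ≫ f) y = (I.subschemeι ≫ f) x₀ := hy
      rw [Scheme.Hom.comp_apply, Scheme.Hom.comp_apply, hx₀] at h1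
      exact h1
    have hzy : z ⤳ I.subschemeι y := by
      rw [specializes_iff_mem_closure, ← hrange]
      exact ⟨y, rfl⟩
    have h1 := hiso (hW.primeIdealOf ⟨I.subschemeι y, hyW⟩).asIdeal inferInstance
      (by rw [← hqz]; exact (primeIdealOf_le_iff hW z _ hzW hyW).mpr hzy)
      (by
        rw [mem_primeIdealOf_iff_notMem_basicOpen hW _ hyW r]
        exact not_not.mpr hyr')
      (by
        rw [halg, halg, comap_appLE_primeIdealOf f hV hW e _ hyW,
          comap_appLE_primeIdealOf f hV hW e x hxW]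
        congr 2
        exact Subtype.ext hfy)
    have h2 : I.subschemeι y = x := primeIdealOf_injective hW _ _ hyW hxW (PrimeSpectrum.ext h1)
    exact Subtype.ext (I.subschemeι.isClosedEmbedding.injective (h2.trans hx₀.symm))
  · intro hyx
    have hyx' : y = x₀ := congrArg Subtype.val hyx
    change I.subschemeι y ∈ X.basicOpen r
    rw [hyx', hx₀]
    by_contra hnot
    exact hr𝔫 ((mem_primeIdealOf_iff_notMem_basicOpen hW x hxW r).mpr hnot)

end Groth.Agent.Lib.Helper4.QFSlice
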