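import Groth.Agent.Lib.Helper4QFSliceB

/-!
# Points in the closure of an open subset of a locally Noetherian scheme (helper4)

Copies of three short lemmas of helper11 (`Helper11RigidBaseE`), to avoid importing its whole chain.
-/

set_option autoImplicit false
universe u

open AlgebraicGeometry CategoryTheory TopologicalSpace Topology

namespace Groth.Agent.Lib.Helper4.QFSlice

/-- in a noetherian quasi-sober space, a point in the closure of an open set is a specialization
of a point of the open set -/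
lemma exists_specializes_of_mem_closure {T : Type*} [TopologicalSpace T] [NoetherianSpace T]
    [QuasiSober T] {V : Set T} (hV : IsOpen V) {s' : T} (hs' : s' ∈ closure V) :
    ∃ w ∈ V, w ⤳ s' := by
  obtain ⟨F, hFfin, hFcl, hFirr, hF⟩ :=
    NoetherianSpace.exists_finite_set_isClosed_irreducible (isClosed_closure (s := V))
  let F' : Set (Set T) := {t ∈ F | (t ∩ V).Nonempty}
  have hF'fin : F'.Finite := hFfin.subset (Set.sep_subset _ _)
  have hC' : IsClosed (⋃₀ F') := by
    rw [Set.sUnion_eq_biUnion]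
    exact hF'fin.isClosed_biUnion (fun t ht => hFcl t ht.1)
  have hVC' : V ⊆ ⋃₀ F' := by
    intro v hv
    have : v ∈ ⋃₀ F := by rw [← hF]; exact subset_closure hv
    obtain ⟨t, htF, hvt⟩ := this
    exact ⟨t, ⟨htF, ⟨v, hvt, hv⟩⟩, hvt⟩
  obtain ⟨t, ⟨htF, htV⟩, hs't⟩ := (closure_minimal hVC' hC') hs'
  obtain ⟨ξ, hξ⟩ := QuasiSober.sober (hFirr t htF) (hFcl t htF)
  refine ⟨ξ, (hξ.mem_open_set_iff hV).mpr htV, ?_⟩
  rw [specializes_iff_mem_closure, hξ.def]
  exact hs't

/-- local version -/
lemma exists_specializes_of_mem_closure' {T : Type*} [TopologicalSpace T] (N : Set T)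
    (hN : IsOpen N) [NoetherianSpace N] [QuasiSober N] {W : Set T} (hW : IsOpen W) {s' : T}
    (hs'N : s' ∈ N) (hs' : s' ∈ closure W) : ∃ w ∈ W, w ⤳ s' := by
  have h1 : (⟨s', hs'N⟩ : N) ∈ closure ((↑) ⁻¹' W : Set N) := by
    rw [mem_closure_iff]
    intro O hO hsO
    have hO' : IsOpen ((↑) '' O : Set T) := hN.isOpenMap_subtype_val O hO
    obtain ⟨y, ⟨o, hoO, rfl⟩, hyW⟩ := mem_closure_iff.mp hs' _ hO' ⟨_, hsO, rfl⟩
    exact ⟨o, hoO, hyW⟩
  obtain ⟨w, hwW, hw⟩ := exists_specializes_of_mem_closure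
    (hW.preimage continuous_subtype_val) h1
  exact ⟨w, hwW, hw.map continuous_subtype_val⟩

lemma exists_specializes_of_mem_closure_scheme (S : Scheme.{u}) [IsLocallyNoetherian S]
    {W : Set S} (hW : IsOpen W) {s' : S} (hs' : s' ∈ closure W) : ∃ w ∈ W, w ⤳ s' := by
  obtain ⟨N, hN, hsN, -⟩ := exists_isAffineOpen_mem_and_subset (x := s') (U := ⊤) trivial
  have h1 : IsNoetherianRing Γ(S, N) := IsLocallyNoetherian.component_noetherian ⟨N, hN⟩
  have h2 : NoetherianSpace ((N : Set S) : Type u) := noetherianSpace_of_isAffineOpen N hN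
  have h3 : QuasiSober ((N : Set S) : Type u) := inferInstanceAs (QuasiSober (N : Scheme.{u}))
  exact exists_specializes_of_mem_closure' (N : Set S) N.isOpen hW hsN hs'

end Groth.Agent.Lib.Helper4.QFSlice
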