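import Mathlib
import Groth.Agent.Lib.Helper24CIHilb

/-!
# Linear algebra for "a curve with few sections lies on a hyperplane and a quadric" (helper4)

Given linear maps `Ψ₁` on linear forms and `Ψ₂` on quadratic forms whose targets are too small,
there are a nonzero linear form `l` killed by `Ψ₁` and a quadratic form `q` killed by `Ψ₂` which is
not a multiple of `l`.
-/

set_option autoImplicit false
universe u v w

namespace Groth.Agent.Lib.Helper4.QuinticLA

open MvPolynomial Module

attribute [local instance] MvPolynomial.gradedAlgebra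

variable {k : Type u} [Field k] (r : ℕ)

local notation "H" => homogeneousSubmodule (Fin r) k

/-- multiplication by a linear form, from linear forms to quadrics -/
noncomputable def mulL (l : H 1) : H 1 →ₗ[k] H 2 where
  toFun h := ⟨l.1 * h.1, SetLike.mul_mem_graded l.2 h.2⟩
  map_add' a b := Subtype.ext (by
    change l.1 * (a.1 + b.1) = l.1 * a.1 + l.1 * b.1
    ring)
  map_smul' c a := Subtype.ext (by
    change l.1 * (c • a.1) = c • (l.1 * a.1)
    rw [mul_smul_comm])

theorem exists_forms {W₁ : Type v} {W₂ : Type w} [AddCommGroup W₁] [Module k W₁]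
    [AddCommGroup W₂] [Module k W₂] [Module.Finite k W₁] [Module.Finite k W₂]
    (Ψ₁ : H 1 →ₗ[k] W₁) (Ψ₂ : H 2 →ₗ[k] W₂)
    (h1 : finrank k W₁ < finrank k (H 1))
    (h2 : finrank k W₂ + finrank k (H 1) < finrank k (H 2)) :
    ∃ (l : H 1) (q : H 2), l ≠ 0 ∧ Ψ₁ l = 0 ∧ Ψ₂ q = 0 ∧ q.1 ∉ Ideal.span {l.1} := by
  haveI := Groth.Agent.Lib.Helper24CIHilb.finite_homog k r 1
  haveI := Groth.Agent.Lib.Helper24CIHilb.finite_homog k r 2
  -- a nonzero linear form in the kernel
  have hninj : ¬ Function.Injective Ψ₁ := fun hinj => by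
    have := LinearMap.finrank_le_finrank_of_injective hinj
    omega
  rw [injective_iff_map_eq_zero] at hninj
  push Not at hninj
  obtain ⟨l, hl0, hl⟩ := hninj
  -- a quadric in the kernel outside `l · (linear forms)`
  have hq : ∃ q : H 2, Ψ₂ q = 0 ∧ q ∉ LinearMap.range (mulL r l) := by
    by_contra hcon
    push Not at hcon
    have hle : LinearMap.ker Ψ₂ ≤ LinearMap.range (mulL r l) := fun q hq => hcon q hq
    have e1 := Submodule.finrank_mono hle
    have e2 := LinearMap.finrank_range_le (mulL r l)
    have e3 := LinearMap.finrank_range_add_finrank_ker Ψ₂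
    have e4 := Submodule.finrank_le (LinearMap.range Ψ₂)
    omega
  obtain ⟨q, hq0, hq⟩ := hq
  refine ⟨l, q, hl, hl0, hq0, fun hmem => hq ?_⟩
  obtain ⟨a, ha⟩ := Ideal.mem_span_singleton'.mp hmem
  have hd := DirectSum.coe_decompose_mul_add_of_right_mem (homogeneousSubmodule (Fin r) k)
    (i := 1) (a := a) l.2
  rw [ha, DirectSum.decompose_of_mem_same _ q.2] at hd
  refine ⟨⟨_, (DirectSum.decompose (homogeneousSubmodule (Fin r) k) a 1).2⟩, Subtype.ext ?_⟩
  change l.1 * _ = q.1
  rw [hd, mul_comm]

end Groth.Agent.Lib.Helper4.QuinticLA
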