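import Groth.Agent.Lib.Helper4SecFactor
import Groth.Agent.Lib.Helper4QuinticLA
import Groth.Agent.Lib.Helper4CurveDegSec
import Groth.Agent.Lib.Helper4CurveCliff2
import Groth.Agent.Lib.Helper4CurveSpecial
import Groth.Agent.Lib.Helper4CurveDegT
import Groth.Agent.Lib.Helper4CurveSSAb
import Groth.Agent.Lib.Helper23QAffSec

/-!
# A genus two quintic in `P^4` lies on a hyperplane and a quadric (helper4)
-/

set_option autoImplicit false
set_option linter.style.haveILetI false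
universe u

open CategoryTheory CategoryTheory.Limits AlgebraicGeometry TopologicalSpace Opposite MvPolynomial

namespace Groth.Agent.Lib.Helper4.Quintic

open Groth.Agent.Lib.Helper27PnSections Groth.Agent.Lib.Helper27GrTildeSect
  Groth.Agent.Lib.Helper4.CurveDegSec Groth.Agent.Lib.Helper27PnHom

section secLin

variable (n : ℕ) (k : Type u) [Field k]

local notation "𝒫" => CohB1.polyGrading n k

/-- the section of `O(d)` attached to a form of degree `d`, as a linear map to `H⁰`. -/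
noncomputable def secLin (d : ℕ) : ↥(homogeneousSubmodule (Fin (n + 1)) k d) →ₗ[k]
    Coh.HH (CohB1.ProjSpace n k) (Twist.twistProjSpace n k (d : ℤ)) 0 where
  toFun b := (hh0Equiv (CohB1.ProjSpace n k) (Twist.twistProjSpace n k (d : ℤ))).symm
    (show ↑((Coh.toAb (Twist.twistProjSpace n k (d : ℤ))).obj.obj (op ⊤)) from gsec 𝒫 d ⊤ b.2)
  map_add' b b' := by
    have h := gsec_add n k d b.2 b'.2
    have h' : (show ↑((Coh.toAb (Twist.twistProjSpace n k (d : ℤ))).obj.obj (op ⊤)) from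
        gsec 𝒫 d ⊤ (b + b').2) =
        (show ↑((Coh.toAb (Twist.twistProjSpace n k (d : ℤ))).obj.obj (op ⊤)) from
          gsec 𝒫 d ⊤ b.2) +
        (show ↑((Coh.toAb (Twist.twistProjSpace n k (d : ℤ))).obj.obj (op ⊤)) from
          gsec 𝒫 d ⊤ b'.2) := h
    rw [h']
    exact map_add _ _ _
  map_smul' r b := by
    set e0 := hh0Equiv (CohB1.ProjSpace n k) (Twist.twistProjSpace n k (d : ℤ)) with he0
    apply e0.injective
    rw [RingHom.id_apply, AddEquiv.apply_symm_apply]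
    have h1 : e0 (r • e0.symm (show ↑((Coh.toAb (Twist.twistProjSpace n k (d : ℤ))).obj.obj
        (op ⊤)) from gsec 𝒫 d ⊤ b.2)) =
        e0 ((Coh.toGlobal (CohB1.ProjSpace n k ↘ Spec (CommRingCat.of k)) r) •
          e0.symm (show ↑((Coh.toAb (Twist.twistProjSpace n k (d : ℤ))).obj.obj (op ⊤)) from
            gsec 𝒫 d ⊤ b.2)) := rfl
    rw [h1, hh0Equiv_smul, Coh.smulAb_app, resTop_top, AddEquiv.apply_symm_apply]
    exact gsec_smul n k d r b.2

theorem hh0Equiv_secLin (d : ℕ) (b : ↥(homogeneousSubmodule (Fin (n + 1)) k d)) :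
    hh0Equiv (CohB1.ProjSpace n k) (Twist.twistProjSpace n k (d : ℤ)) (secLin n k d b) =
      (show ↑((Coh.toAb (Twist.twistProjSpace n k (d : ℤ))).obj.obj (op ⊤)) from
        gsec 𝒫 d ⊤ b.2) :=
  AddEquiv.apply_symm_apply _ _

end secLin

section pull

variable (n : ℕ) (k : Type u) [Field k] {X : Scheme.{u}} [X.Over (Spec (CommRingCat.of k))]
  (i : X ⟶ CohB1.ProjSpace n k)
  (hi : i ≫ CohB1.ProjSpace.toSpec n k = (X ↘ Spec (CommRingCat.of k)))

local notation "𝒫" => CohB1.polyGrading n k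

/-- the pullback of the section attached to a form, as a linear map to `H⁰(X, i^* O(d))`. -/
noncomputable def pullForm (d : ℕ) : ↥(homogeneousSubmodule (Fin (n + 1)) k d) →ₗ[k]
    Coh.HH X ((Scheme.Modules.pullback i).obj (Twist.twistProjSpace n k (d : ℤ))) 0 :=
  (pullH0Lin k i hi (Twist.twistProjSpace n k (d : ℤ))).comp (secLin n k d)

theorem pullSect_eq_zero_of_pullForm (d : ℕ) (b : ↥(homogeneousSubmodule (Fin (n + 1)) k d))
    (h : pullForm n k i hi d b = 0) :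
    OmegaSh.pullSect i (Twist.twistProjSpace n k (d : ℤ)) ⊤ (formSec d b.1 b.2) = 0 := by
  have h1 := hh0Equiv_pullH0 i (Twist.twistProjSpace n k (d : ℤ)) (secLin n k d b)
  have h2 : pullH0 i (Twist.twistProjSpace n k (d : ℤ)) (secLin n k d b) = 0 := h
  rw [h2, map_zero, hh0Equiv_secLin] at h1
  exact h1.symm

end pull

section main

variable (k : Type u) [Field k] [IsAlgClosed k] (C : Scheme.{u}) [C.Over (Spec (CommRingCat.of k))]
  [IsProper (C ↘ Spec (CommRingCat.of k))] [IsIntegral C]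

/-- Riemann–Roch for nonspecial degrees: `h⁰(L) = deg L + 1 - g` when `deg L > 2g - 2`. -/
theorem h0_of_deg (hC : topologicalKrullDim C = 1) (L : C.Modules) (hL : PicF.IsInvertible L)
    (hdeg : 2 * (Curv2.genus k C : ℤ) - 2 < Curv2.deg k C L 1) :
    (Module.finrank k (Coh.HH C L 0) : ℤ) = Curv2.deg k C L 1 + 1 - (Curv2.genus k C : ℤ) := by
  apply Groth.Agent.Lib.Helper4.CurveCliff.h0_eq_of_nonspecial k C hC L hL
  by_contra hne
  have hnt : Nontrivial (Coh.HH C L 1) := by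
    by_contra hs
    rw [not_nontrivial_iff_subsingleton] at hs
    exact hne Module.finrank_zero_of_subsingleton
  have h := Groth.Agent.Lib.Helper4.CurveSpecial.deg_le_of_H1_nontrivial k C hC L hL hnt
  rw [finrank_hh0_eq_one_of_isAlgClosed k C] at h
  push_cast at h
  linarith

theorem exists_hyperplane_quadric (hC : topologicalKrullDim C = 1) (hg : Curv2.genus k C = 2)
    (i : C ⟶ CohB1.ProjSpace 4 k)
    (hi : i ≫ CohB1.ProjSpace.toSpec 4 k = (C ↘ Spec (CommRingCat.of k)))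
    (hdeg : Curv2.deg k C ((Scheme.Modules.pullback i).obj (Twist.twistProjSpace 4 k 1)) 1 = 5) :
    ∃ (l : LefPen.Form 4 k 1) (q : LefPen.Form 4 k 2), l ≠ 0 ∧ q.1 ∉ Ideal.span {l.1} ∧
      OmegaSh.pullSect i (Twist.twistProjSpace 4 k ((1 : ℕ) : ℤ)) ⊤ (formSec 1 l.1 l.2) = 0 ∧
      OmegaSh.pullSect i (Twist.twistProjSpace 4 k ((2 : ℕ) : ℤ)) ⊤ (formSec 2 q.1 q.2) = 0 := by
  haveI : IsLocallyNoetherian C :=
    LocallyOfFiniteType.isLocallyNoetherian (C ↘ (Spec (CommRingCat.of k)))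
  set L₁ := (Scheme.Modules.pullback i).obj (Twist.twistProjSpace 4 k ((1 : ℕ) : ℤ)) with hL₁
  set L₂ := (Scheme.Modules.pullback i).obj (Twist.twistProjSpace 4 k ((2 : ℕ) : ℤ)) with hL₂
  have hdeg1 : Curv2.deg k C L₁ 1 = 5 := hdeg
  have iL₁ : PicF.IsInvertible L₁ := Groth.Agent.Lib.Helper23.PB.isInvertible_pullback i _
    (Groth.Agent.Lib.Helper27SerreVanPn.isInvertible_twist 4 k _)
  have iL₂ : PicF.IsInvertible L₂ := Groth.Agent.Lib.Helper23.PB.isInvertible_pullback i _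
    (Groth.Agent.Lib.Helper27SerreVanPn.isInvertible_twist 4 k _)
  -- degree of `L₂`
  have hdeg2 : Curv2.deg k C L₂ 1 = 10 := by
    obtain ⟨e1⟩ := Groth.Agent.Lib.Helper27SerreVanPn.nonempty_twist_tensor_iso 4 k
      ((1 : ℕ) : ℤ) ((1 : ℕ) : ℤ)
    obtain ⟨e2⟩ := Groth.Agent.Lib.Helper23.PB.nonempty_pullback_tensorMod_iso i
      (Twist.twistProjSpace 4 k ((1 : ℕ) : ℤ)) (Twist.twistProjSpace 4 k ((1 : ℕ) : ℤ))
      (Groth.Agent.Lib.Helper27SerreVanPn.isInvertible_twist 4 k _)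
      (Groth.Agent.Lib.Helper27SerreVanPn.isInvertible_twist 4 k _)
    have e3 : L₂ ≅ CohB1.tensorMod L₁ L₁ :=
      ((Scheme.Modules.pullback i).mapIso e1).symm ≪≫ e2
    rw [Groth.Agent.Lib.Helper4.CurveSSAb.deg_congr_iso k C e3 1]
    have hr := Groth.Agent.Lib.Helper23.SecTw.isFinLocFreeOfRank_one_of_isInvertible L₁ iL₁
    have h := Groth.Agent.Lib.Helper4.CurveDegT.deg_tensor k C hC.le 1 1 L₁ L₁ hr hr
    rw [hdeg1] at h
    simpa using h
  have h01 := h0_of_deg k C hC L₁ iL₁ (by rw [hg, hdeg1]; norm_num)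
  have h02 := h0_of_deg k C hC L₂ iL₂ (by rw [hg, hdeg2]; norm_num)
  rw [hg, hdeg1] at h01
  rw [hg, hdeg2] at h02
  have h01' : Module.finrank k (Coh.HH C L₁ 0) = 4 := by
    have : (Module.finrank k (Coh.HH C L₁ 0) : ℤ) = 4 := by rw [h01]; norm_num
    exact_mod_cast this
  have h02' : Module.finrank k (Coh.HH C L₂ 0) = 9 := by
    have : (Module.finrank k (Coh.HH C L₂ 0) : ℤ) = 9 := by rw [h02]; norm_num
    exact_mod_cast this
  haveI : Module.Finite k (Coh.HH C L₁ 0) :=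
    Groth.Agent.S0002.result k C _ (Groth.Agent.Lib.Helper6.CurveDeg.isCoh_of_isInvertible _ iL₁) 0
  haveI : Module.Finite k (Coh.HH C L₂ 0) :=
    Groth.Agent.S0002.result k C _ (Groth.Agent.Lib.Helper6.CurveDeg.isCoh_of_isInvertible _ iL₂) 0
  have hf1 : Module.finrank k (homogeneousSubmodule (Fin (4 + 1)) k 1) = 5 := by
    rw [Groth.Agent.Lib.Helper24CIHilb.finrank_homog k (4 + 1) 1]
    rfl
  have hf2 : Module.finrank k (homogeneousSubmodule (Fin (4 + 1)) k 2) = 15 := by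
    rw [Groth.Agent.Lib.Helper24CIHilb.finrank_homog k (4 + 1) 2]
    rfl
  obtain ⟨l, q, hl0, hl, hq, hql⟩ := Groth.Agent.Lib.Helper4.QuinticLA.exists_forms (4 + 1)
    (pullForm 4 k i hi 1) (pullForm 4 k i hi 2) (by rw [h01', hf1]; norm_num)
    (by rw [h02', hf1, hf2]; norm_num)
  exact ⟨l, q, hl0, hql, pullSect_eq_zero_of_pullForm 4 k i hi 1 l hl,
    pullSect_eq_zero_of_pullForm 4 k i hi 2 q hq⟩

/-- **S16534**: a genus two quintic in `P^4` lies in a hyperplane and on a quadric in it. -/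
theorem exists_factor_hyperplane_quadric (hC : topologicalKrullDim C = 1)
    (hg : Curv2.genus k C = 2) (i : C ⟶ CohB1.ProjSpace 4 k) [QuasiCompact i]
    (hi : i ≫ CohB1.ProjSpace.toSpec 4 k = (C ↘ Spec (CommRingCat.of k)))
    (hdeg : Curv2.deg k C ((Scheme.Modules.pullback i).obj (Twist.twistProjSpace 4 k 1)) 1 = 5) :
    ∃ (l : LefPen.Form 4 k 1) (q : LefPen.Form 4 k 2), l ≠ 0 ∧ q.1 ∉ Ideal.span {l.1} ∧
      ∃ j : C ⟶ (LefPen.hypIdeal l ⊔ LefPen.hypIdeal q).subscheme,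
        j ≫ (LefPen.hypIdeal l ⊔ LefPen.hypIdeal q).subschemeι = i := by
  obtain ⟨l, q, hl0, hql, hl, hq⟩ := exists_hyperplane_quadric k C hC hg i hi hdeg
  refine ⟨l, q, hl0, hql, ?_⟩
  have h1 := Groth.Agent.Lib.Helper4.SecFactor.hypIdeal_le_ker i l hl
  have h2 := Groth.Agent.Lib.Helper4.SecFactor.hypIdeal_le_ker i q hq
  have hle : (LefPen.hypIdeal l ⊔ LefPen.hypIdeal q).subschemeι.ker ≤ i.ker := by
    rw [Scheme.IdealSheafData.ker_subschemeι]
    exact sup_le h1 h2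
  exact ⟨IsClosedImmersion.lift _ i hle, IsClosedImmersion.lift_fac _ i hle⟩

end main

end Groth.Agent.Lib.Helper4.Quintic
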