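import Mathlib
import Groth.Agent.Lib.Helper4RatExt3

/-!
# Stalk lifts at isolated points of the fibre of the closure of a section (helper4)
-/

open IsLocalRing AlgebraicGeometry CategoryTheory

universe u

set_option linter.style.haveILetI false

namespace Groth.Agent.Lib.Helper4.RatExt

/-- Quasi-finiteness at a prime from an isolating open set, seen through an injective continuous
map out of the prime spectrum. -/
theorem quasiFiniteAt_of_isolated {R S : Type*} [CommRing R] [CommRing S] [Algebra R S]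
    [Algebra.FiniteType R S] (q : PrimeSpectrum S) {T : Type*} [TopologicalSpace T]
    (ψ : PrimeSpectrum S → T) (hψ : Continuous ψ) (W : Set T) (hW : IsOpen W) (hqW : ψ q ∈ W)
    (H : ∀ Q : PrimeSpectrum S, Q.comap (algebraMap R S) = q.comap (algebraMap R S) →
      ψ Q ∈ W → Q = q) :
    Algebra.QuasiFiniteAt R q.asIdeal := by
  apply Algebra.QuasiFiniteAt.of_isOpen_singleton_fiber q
  have : ({⟨q, rfl⟩} : Set (PrimeSpectrum.comap (algebraMap R S) ⁻¹'
      {q.comap (algebraMap R S)})) = Subtype.val ⁻¹' (ψ ⁻¹' W) := by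
    ext ⟨Q, hQ⟩
    simp only [Set.mem_singleton_iff, Set.mem_preimage]
    constructor
    · intro h
      have : Q = q := congr($(h).1)
      rw [this]
      exact hqW
    · intro hQW
      exact Subtype.ext (H Q hQ hQW)
  rw [this]
  exact (hW.preimage hψ).preimage continuous_subtype_val

set_option backward.isDefEq.respectTransparency false in
set_option maxHeartbeats 800000 in
/-- **Stalk lift at an isolated point.** Let `q : P ⟶ X` be locally of finite type, `z ∈ P` with
`𝒪_{X,q z}` a normal domain with fraction field `K`, and `t` a `K`-point of `P` over the generic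
point of `Spec 𝒪_{X,q z}` specializing to `z`. If `z` is isolated (through an open `W`) among the
specializations of `t` in the fibre over `q z`, then `t` extends to `Spec 𝒪_{X,q z} ⟶ P`. -/
theorem exists_stalk_lift_of_isolated {X P : Scheme.{u}} (q : P ⟶ X) [LocallyOfFiniteType q]
    (z : P) [IsDomain (X.presheaf.stalk (q z))] [IsIntegrallyClosed (X.presheaf.stalk (q z))]
    (t : Spec (CommRingCat.of (FractionRing (X.presheaf.stalk (q z)))) ⟶ P)
    (ht : t ≫ q = genericHom X (q z))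
    (hsp : t (closedPoint (FractionRing (X.presheaf.stalk (q z)))) ⤳ z)
    (W : P.Opens) (hzW : z ∈ W)
    (hiso : ∀ z' : P, z' ∈ W → t (closedPoint (FractionRing (X.presheaf.stalk (q z)))) ⤳ z' →
      q z' = q z → z' = z) :
    ∃ l : Spec (X.presheaf.stalk (q z)) ⟶ P, l ≫ q = X.fromSpecStalk (q z) ∧
      Spec.map (CommRingCat.ofHom (algebraMap (X.presheaf.stalk (q z))
        (FractionRing (X.presheaf.stalk (q z))))) ≫ l = t := by
  classical
  obtain ⟨_, ⟨W₀, hW₀, rfl⟩, hxW, -⟩ := X.isBasis_affineOpens.exists_subset_of_mem_open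
    (Set.mem_univ (q z)) isOpen_univ
  obtain ⟨_, ⟨V, hV, rfl⟩, hyV, hVW : V ≤ q ⁻¹ᵁ W₀⟩ :=
    P.isBasis_affineOpens.exists_subset_of_mem_open hxW (q ⁻¹ᵁ W₀).2
  have hft : (q.appLE W₀ V hVW).hom.FiniteType := q.finiteType_appLE hW₀ hV hVW
  algebraize [(q.appLE W₀ V hVW).hom]
  have hlo : (hV.primeIdealOf ⟨z, hyV⟩).asIdeal.LiesOver
      (hW₀.primeIdealOf ⟨q z, hxW⟩).asIdeal := by
    suffices hW₀.primeIdealOf ⟨q z, hxW⟩ =
        Spec.map (q.appLE W₀ V hVW) (hV.primeIdealOf ⟨z, hyV⟩) from ⟨congr(($this).1)⟩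
    apply hW₀.isoSpec.inv.homeomorph.injective
    apply Subtype.ext
    simp only [IsAffineOpen.primeIdealOf, Scheme.Hom.homeomorph_apply,
      ← Scheme.Hom.comp_apply, ← Scheme.Opens.ι_apply, IsAffineOpen.isoSpec_hom]
    simp
  letI algA : Algebra Γ(X, W₀) ↑(X.presheaf.stalk (q z)) :=
    (X.presheaf.germ W₀ (q z) hxW).hom.toAlgebra
  have hloc : IsLocalization.AtPrime ↑(X.presheaf.stalk (q z))
      (hW₀.primeIdealOf ⟨q z, hxW⟩).asIdeal := hW₀.isLocalization_stalk ⟨q z, hxW⟩
  haveI : IsScalarTower Γ(X, W₀) ↑(X.presheaf.stalk (q z))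
      (FractionRing ↑(X.presheaf.stalk (q z))) := inferInstance
  have hKmap : ∀ a : Γ(X, W₀), algebraMap Γ(X, W₀) (FractionRing ↑(X.presheaf.stalk (q z))) a =
      algebraMap ↑(X.presheaf.stalk (q z)) (FractionRing ↑(X.presheaf.stalk (q z)))
        (algebraMap Γ(X, W₀) ↑(X.presheaf.stalk (q z)) a) :=
    fun a => IsScalarTower.algebraMap_apply Γ(X, W₀) ↑(X.presheaf.stalk (q z))
      (FractionRing ↑(X.presheaf.stalk (q z))) a
  -- the `K`-point factors through `V`
  have hpt : ∀ pt : Spec (CommRingCat.of (FractionRing ↑(X.presheaf.stalk (q z)))),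
      pt = closedPoint (FractionRing ↑(X.presheaf.stalk (q z))) := fun pt => Subsingleton.elim _ _
  have htV : Set.range t ⊆ Set.range hV.fromSpec := by
    rintro _ ⟨pt, rfl⟩
    rw [hV.range_fromSpec, hpt pt]
    exact hsp.mem_open V.2 hyV
  let t' : Spec (CommRingCat.of (FractionRing ↑(X.presheaf.stalk (q z)))) ⟶ Spec Γ(P, V) :=
    IsOpenImmersion.lift hV.fromSpec t htV
  have ht' : t' ≫ hV.fromSpec = t := IsOpenImmersion.lift_fac _ _ _
  let φ' : Γ(P, V) ⟶ CommRingCat.of (FractionRing ↑(X.presheaf.stalk (q z))) := Spec.preimage t'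
  have hφ' : Spec.map φ' = t' := Spec.map_preimage t'
  have hφ'' : Spec.map φ' ≫ hV.fromSpec = t := by rw [hφ', ht']
  have hcomp : q.appLE W₀ V hVW ≫ φ' =
      X.presheaf.germ W₀ (q z) hxW ≫ CommRingCat.ofHom (algebraMap ↑(X.presheaf.stalk (q z))
        (FractionRing ↑(X.presheaf.stalk (q z)))) := by
    apply Spec.map_injective
    rw [← cancel_mono hW₀.fromSpec]
    rw [Spec.map_comp, Category.assoc, IsAffineOpen.SpecMap_appLE_fromSpec q hW₀ hV hVW,
      ← Category.assoc, hφ'', ht, Spec.map_comp, Category.assoc]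
    unfold genericHom
    rw [← hW₀.fromSpecStalk_eq_fromSpecStalk hxW, IsAffineOpen.fromSpecStalk]
  let φ : Γ(P, V) →ₐ[Γ(X, W₀)] (FractionRing ↑(X.presheaf.stalk (q z))) :=
    { φ'.hom with
      commutes' := fun a => by
        have := congr(($hcomp).hom a)
        rw [hKmap]
        exact this }
  have hφφ' : ∀ b, φ b = φ'.hom b := fun b => rfl
  -- the point `t' pt` has ideal `ker φ`
  have htI : ∀ b, b ∈ (t' (closedPoint (FractionRing ↑(X.presheaf.stalk (q z))))).asIdeal ↔
      φ b = 0 := by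
    intro b
    rw [← hφ']
    change φ'.hom b ∈ (closedPoint (FractionRing ↑(X.presheaf.stalk (q z)))).asIdeal ↔ _
    change φ'.hom b ∈ maximalIdeal (FractionRing ↑(X.presheaf.stalk (q z))) ↔ _
    rw [IsLocalRing.maximalIdeal_eq_bot, Ideal.mem_bot]
    rfl
  have hker : RingHom.ker φ ≤ (hV.primeIdealOf ⟨z, hyV⟩).asIdeal := by
    have h1 : t' (closedPoint (FractionRing ↑(X.presheaf.stalk (q z)))) ⤳
        hV.primeIdealOf ⟨z, hyV⟩ := by
      rw [← hV.fromSpec.isOpenEmbedding.isInducing.specializes_iff]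
      rw [hV.fromSpec_primeIdealOf]
      have : hV.fromSpec (t' (closedPoint (FractionRing ↑(X.presheaf.stalk (q z))))) =
          t (closedPoint (FractionRing ↑(X.presheaf.stalk (q z)))) := by
        rw [← Scheme.Hom.comp_apply, ht']
      rw [this]
      exact hsp
    have h2 := (PrimeSpectrum.le_iff_specializes _ _).mpr h1
    intro b hb
    exact h2 ((htI b).mpr hb)
  -- the quotient by `ker φ`
  let I : Ideal Γ(P, V) := RingHom.ker φ
  have hIp : I ≤ (hV.primeIdealOf ⟨z, hyV⟩).asIdeal := hker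
  let φbar : (Γ(P, V) ⧸ I) →ₐ[Γ(X, W₀)] (FractionRing ↑(X.presheaf.stalk (q z))) :=
    Ideal.Quotient.liftₐ I φ (fun a ha => ha)
  have hφbar : ∀ b, φbar (Ideal.Quotient.mk I b) = φ b := fun b => rfl
  haveI : Algebra.FiniteType Γ(X, W₀) (Γ(P, V) ⧸ I) :=
    Algebra.FiniteType.of_surjective (Ideal.Quotient.mkₐ Γ(X, W₀) I) Ideal.Quotient.mk_surjective
  have hmkker : RingHom.ker (Ideal.Quotient.mk I) ≤ (hV.primeIdealOf ⟨z, hyV⟩).asIdeal := by
    rw [Ideal.mk_ker]; exact hIp
  haveI hp1prime : ((hV.primeIdealOf ⟨z, hyV⟩).asIdeal.map (Ideal.Quotient.mk I)).IsPrime :=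
    Ideal.map_isPrime_of_surjective Ideal.Quotient.mk_surjective hmkker
  let pbar : PrimeSpectrum (Γ(P, V) ⧸ I) :=
    ⟨(hV.primeIdealOf ⟨z, hyV⟩).asIdeal.map (Ideal.Quotient.mk I), hp1prime⟩
  have hpbar : PrimeSpectrum.comap (Ideal.Quotient.mk I) pbar = hV.primeIdealOf ⟨z, hyV⟩ := by
    apply PrimeSpectrum.ext
    exact Ideal.comap_map_mk hIp
  haveI hlobar : pbar.asIdeal.LiesOver (hW₀.primeIdealOf ⟨q z, hxW⟩).asIdeal := by
    constructor
    have h1 : (hW₀.primeIdealOf ⟨q z, hxW⟩).asIdeal =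
        (hV.primeIdealOf ⟨z, hyV⟩).asIdeal.under Γ(X, W₀) := hlo.over
    rw [h1]
    ext a
    rw [Ideal.mem_comap, Ideal.mem_comap]
    have h2 : algebraMap Γ(X, W₀) (Γ(P, V) ⧸ I) a =
        Ideal.Quotient.mk I (algebraMap Γ(X, W₀) Γ(P, V) a) := rfl
    rw [h2]
    have h3 : (hV.primeIdealOf ⟨z, hyV⟩).asIdeal =
        Ideal.comap (Ideal.Quotient.mk I) pbar.asIdeal := congr(($hpbar).asIdeal).symm
    rw [h3, Ideal.mem_comap]
  -- quasi-finiteness at `pbar`
  let ψ : PrimeSpectrum (Γ(P, V) ⧸ I) → P :=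
    fun Q => hV.fromSpec (PrimeSpectrum.comap (Ideal.Quotient.mk I) Q)
  have hψc : Continuous ψ :=
    hV.fromSpec.continuous.comp (PrimeSpectrum.continuous_comap (Ideal.Quotient.mk I))
  have hψp : ψ pbar = z := by
    change hV.fromSpec (PrimeSpectrum.comap (Ideal.Quotient.mk I) pbar) = z
    rw [hpbar, hV.fromSpec_primeIdealOf]
  have hψinj : Function.Injective ψ := by
    intro Q₁ Q₂ h12
    exact PrimeSpectrum.comap_injective_of_surjective _ Ideal.Quotient.mk_surjective
      (hV.fromSpec.isOpenEmbedding.injective h12)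
  haveI hqfbar : Algebra.QuasiFiniteAt Γ(X, W₀) pbar.asIdeal := by
    apply quasiFiniteAt_of_isolated pbar ψ hψc (W : Set P) W.2 (by rw [hψp]; exact hzW)
    intro Q hQ hQW
    apply hψinj
    rw [hψp]
    apply hiso _ hQW
    · -- `t pt ⤳ ψ Q`
      have h1 : t' (closedPoint (FractionRing ↑(X.presheaf.stalk (q z)))) ⤳
          PrimeSpectrum.comap (Ideal.Quotient.mk I) Q := by
        rw [← PrimeSpectrum.le_iff_specializes]
        intro b hb
        change Ideal.Quotient.mk I b ∈ Q.asIdeal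
        have : Ideal.Quotient.mk I b = 0 := Ideal.Quotient.eq_zero_iff_mem.mpr ((htI b).mp hb)
        rw [this]
        exact zero_mem _
      have h2 := h1.map hV.fromSpec.continuous
      have h3 : hV.fromSpec (t' (closedPoint (FractionRing ↑(X.presheaf.stalk (q z))))) =
          t (closedPoint (FractionRing ↑(X.presheaf.stalk (q z)))) := by
        rw [← Scheme.Hom.comp_apply, ht']
      rw [h3] at h2
      exact h2
    · -- same image in `X`
      have hq : ∀ Q' : Spec Γ(P, V), q (hV.fromSpec Q') =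
          hW₀.fromSpec (Spec.map (q.appLE W₀ V hVW) Q') := by
        intro Q'
        rw [← Scheme.Hom.comp_apply, ← Scheme.Hom.comp_apply,
          IsAffineOpen.SpecMap_appLE_fromSpec q hW₀ hV hVW]
      have h4 : q (ψ Q) = q (ψ pbar) := by
        change q (hV.fromSpec _) = q (hV.fromSpec _)
        rw [hq, hq]
        congr 1
      rw [h4, hψp]
  -- apply the core
  have hkerbar : RingHom.ker φbar ≤ pbar.asIdeal := by
    intro c hc
    obtain ⟨b, rfl⟩ := Ideal.Quotient.mk_surjective c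
    have h1 : φ b = 0 := hc
    have : Ideal.Quotient.mk I b = 0 := Ideal.Quotient.eq_zero_iff_mem.mpr h1
    rw [this]
    exact zero_mem _
  obtain ⟨lbar, hlbar⟩ := exists_algHom_of_quasiFiniteAt (A₀ := Γ(X, W₀)) (B := Γ(P, V) ⧸ I)
    (A := ↑(X.presheaf.stalk (q z))) (K := FractionRing ↑(X.presheaf.stalk (q z)))
    pbar.asIdeal (hW₀.primeIdealOf ⟨q z, hxW⟩).asIdeal φbar hkerbar
  have hmem : ∀ b, φ'.hom b ∈ (algebraMap (X.presheaf.stalk (q z))
      (FractionRing (X.presheaf.stalk (q z)))).range := by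
    intro b
    refine ⟨lbar (Ideal.Quotient.mk I b), ?_⟩
    have := congr($hlbar (Ideal.Quotient.mk I b))
    exact this
  obtain ⟨l₀, -, hl₀q, hl₀t⟩ := exists_stalk_lift_of_forall_mem q z t ht hW₀ hxW hV hVW φ' hφ'' hmem
  exact ⟨Spec.map l₀ ≫ hV.fromSpec, hl₀q, hl₀t⟩

end Groth.Agent.Lib.Helper4.RatExt
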