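import Mathlib
import Groth.Agent.Lib.Helper4RectDepthD

/-!
# The rectified depth is the depth at nearby closed points (helper4)

EGA IV 10.8.x over a regular Jacobson base.
-/

set_option autoImplicit false
set_option linter.style.haveILetI false

universe u

open AlgebraicGeometry CategoryTheory TopologicalSpace IsLocalRing

namespace Groth.Agent.Lib.Helper4.RectDepth

open Groth.Agent.Lib.Helper4.DimFormula Groth.Agent.Lib.Helper4.VarDim Groth.Agent.Lib.Helper28

theorem coe_top_add_natCast (k : ℕ) :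
    ((⊤ : ℕ∞) : WithBot ℕ∞) + (k : WithBot ℕ∞) = ((⊤ : ℕ∞) : WithBot ℕ∞) := by
  rw [show ((k : ℕ) : WithBot ℕ∞) = ((k : ℕ∞) : WithBot ℕ∞) from rfl, ← WithBot.coe_add, top_add]

section Main

variable {X S : Scheme.{u}} [IsLocallyNoetherian S] [JacobsonSpace S]
  (hreg : ∀ s : S, IsRegularLocalRing ↑(S.presheaf.stalk s))
  (h3 : ∀ S' ∈ irreducibleComponents (S : Type u), ∀ s ∈ S', IsClosed ({s} : Set S) →
    topologicalKrullDim (↥S' : Type u) = topologicalKrullDim ↥{t : S | t ∈ S' ∧ t ⤳ s})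
  (g : X ⟶ S) [LocallyOfFiniteType g] (F : X.Modules) (hF : Coh.IsCoh F)

include hreg h3 g hF in
theorem exists_opens_depth_eq_rectifiedDepth (x : X) :
    ∃ U : X.Opens, x ∈ U ∧ ∀ x' : ↥U, (x' : X) ∈ closure ({x} : Set X) →
      IsClosed ({x'} : Set ↥U) →
      ((LocCoh.depth ↑(X.presheaf.stalk (x' : X)) ↑(F.presheaf.stalk (x' : X)) : ℕ∞) :
          WithBot ℕ∞) =
        ((LocCoh.depth ↑(X.presheaf.stalk x) ↑(F.presheaf.stalk x) : ℕ∞) : WithBot ℕ∞) +
          topologicalKrullDim ↥(closure ({x} : Set X)) := by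
  have h2 : ∀ s : S, CAlg.IsUniversallyCatenary (S.presheaf.stalk s) := fun s => by
    haveI := hreg s
    exact isUniversallyCatenary_of_isRegularLocalRing _
  haveI : IsLocallyNoetherian X := LocallyOfFiniteType.isLocallyNoetherian g
  haveI : JacobsonSpace X := LocallyOfFiniteType.jacobsonSpace g
  obtain ⟨δ, hδ1, hδ2⟩ := exists_delta_of_locallyOfFiniteType h2 h3 g
  by_cases hxS : x ∈ CohB1.support F
  swap
  · refine ⟨⟨(CohB1.support F)ᶜ, (Groth.Agent.S0020.result X F hF.2).isOpen_compl⟩, hxS, ?_⟩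
    intro x' _ _
    haveI : Subsingleton (F.presheaf.stalk (x' : X)) := not_not.mp x'.2
    haveI : Subsingleton (F.presheaf.stalk x) := not_not.mp hxS
    rw [depth_eq_top_of_subsingleton, depth_eq_top_of_subsingleton, hδ1 x, coe_top_add_natCast]
  -- the depth at `x` is finite
  obtain ⟨hfin, -⟩ := stalk_facts_of_isCoh F hF x
  haveI := hfin
  haveI : Nontrivial (F.presheaf.stalk x) := not_subsingleton_iff_nontrivial.mp hxS
  obtain ⟨k, hk⟩ : ∃ k : ℕ, LocCoh.depth ↑(X.presheaf.stalk x) ↑(F.presheaf.stalk x) = k := by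
    have h := idealDepth_ne_top (maximalIdeal_smul_top_ne_top (R := X.presheaf.stalk x)
      (M := F.presheaf.stalk x))
    obtain ⟨k, hk⟩ := ENat.ne_top_iff_exists.mp h
    exact ⟨k, hk.symm⟩
  have hT := isOpen_setOf_le_rectifiedDepth hreg h3 g F hF (k + δ x)
  have hxT : x ∈ {y : X | ((k + δ x : ℕ) : WithBot ℕ∞) ≤
      ((LocCoh.depth ↑(X.presheaf.stalk y) ↑(F.presheaf.stalk y) : ℕ∞) : WithBot ℕ∞) +
        topologicalKrullDim ↥(closure ({y} : Set X))} := by
    show ((k + δ x : ℕ) : WithBot ℕ∞) ≤ _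
    rw [hk, hδ1 x]
    push_cast
    rfl
  refine ⟨⟨_, hT⟩, hxT, ?_⟩
  rintro ⟨x', hx'T⟩ hx'cl hx'closed
  have hlc : IsLocallyClosed ({x'} : Set X) := by
    have := hx'closed.isLocallyClosed.image
      (f := (Subtype.val : ↥(⟨_, hT⟩ : X.Opens) → X)) Topology.IsInducing.subtypeVal
      (by rw [Subtype.range_coe]; exact hT.isLocallyClosed)
    rwa [Set.image_singleton] at this
  have hcl : IsClosed ({x'} : Set X) := isClosed_singleton_of_isLocallyClosed_singleton hlc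
  have hδ0 : δ x' = 0 := delta_eq_zero_of_isClosed δ hδ1 x' hcl
  have hsp : x ⤳ x' := specializes_iff_mem_closure.mpr hx'cl
  obtain ⟨𝔭, h𝔭, h𝔭x⟩ := exists_prime_fromSpecStalk_eq hsp
  have hxS' : X.fromSpecStalk x' ⟨𝔭, h𝔭⟩ ∈ CohB1.support F := by rw [h𝔭x]; exact hxS
  have hup := depth_stalk_le_of_fromSpecStalk F hF x' 𝔭 hxS'
  have hq := hδ2 x x' 𝔭 h𝔭 h𝔭x
  rw [hδ0, Nat.cast_zero, add_zero] at hq
  have hlow : ((k + δ x : ℕ) : WithBot ℕ∞) ≤
      ((LocCoh.depth ↑(X.presheaf.stalk x') ↑(F.presheaf.stalk x') : ℕ∞) : WithBot ℕ∞) +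
        topologicalKrullDim ↥(closure ({x'} : Set X)) := hx'T
  rw [hδ1 x', hδ0, Nat.cast_zero, add_zero] at hlow
  show ((LocCoh.depth ↑(X.presheaf.stalk x') ↑(F.presheaf.stalk x') : ℕ∞) : WithBot ℕ∞) = _
  rw [hδ1 x, hk]
  rw [hq] at hup
  revert hup
  rw [h𝔭x, hk]
  intro hup
  refine le_antisymm hup ?_
  refine le_trans (le_of_eq ?_) hlow
  push_cast
  rfl

end Main

end Groth.Agent.Lib.Helper4.RectDepth
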