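import Mathlib
import Groth.Agent.Lib.Helper4SchDomC
import Groth.Agent.Lib.Helper12SchDense
import Groth.Prelude.Def_CInt
/-!
# helper4: permanence of schematic density of opens
`schDense_iff_ι_app_injective`, `schDense_preimage_of_flat_lfp` (EGA IV 11.10.5, no quasi-compactness),
`app_injective_of_flat_surjective`, `schDense_of_preimage_of_flat_surjective`, `schDense_inf`.
-/

set_option autoImplicit false
set_option linter.style.haveILetI false
universe u v w
namespace Groth.Agent.Lib.Helper4.SchDense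
open CategoryTheory CategoryTheory.Limits AlgebraicGeometry
open Groth.Agent.Lib.Helper4.SchDom

/-- schematic density in terms of the open immersion. -/
theorem schDense_iff_ι_app_injective {X : Scheme.{u}} (W : X.Opens) :
    CInt.IsSchematicallyDense W ↔ ∀ V : X.Opens, Function.Injective (W.ι.app V) := by
  unfold CInt.IsSchematicallyDense
  exact forall_congr' fun V => Groth.Agent.Lib.Helper12.SchDense.injective_restrict_iff W V

/-- **EGA IV 11.10.5**: the preimage of a schematically dense open under a flat morphism locally of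
finite presentation is schematically dense (no quasi-compactness assumption). -/
theorem schDense_preimage_of_flat_lfp {X X' : Scheme.{u}} (g : X' ⟶ X) [Flat g]
    [LocallyOfFinitePresentation g] (W : X.Opens) (hW : CInt.IsSchematicallyDense W) :
    CInt.IsSchematicallyDense (g ⁻¹ᵁ W) := by
  rw [schDense_iff_ι_app_injective] at hW ⊢
  have h : ∀ (V : X.Opens) (t : Γ(X, V)), (∀ _ : Unit, W.ι.app V t = 0) → t = 0 := by
    intro V t ht
    exact hW V ((ht ()).trans (map_zero _).symm)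
  have key := schematicallyDominant_baseChange (fun _ : Unit => (W : Scheme.{u}))
    (fun _ => W.ι) g h
  intro V'
  rw [injective_iff_map_eq_zero]
  intro t ht
  refine key V' t (fun _ => ?_)
  have hrange : Set.range (pullback.snd W.ι g) ⊆ Set.range (g ⁻¹ᵁ W).ι := by
    rintro _ ⟨z, rfl⟩
    rw [Scheme.Opens.range_ι]
    show g (pullback.snd W.ι g z) ∈ W
    have h1 : (pullback.snd W.ι g ≫ g) z = (pullback.fst W.ι g ≫ W.ι) z := by
      rw [pullback.condition]
    rw [Scheme.Hom.comp_apply, Scheme.Hom.comp_apply] at h1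
    rw [h1]
    exact (pullback.fst W.ι g z).2
  have hfac : IsOpenImmersion.lift (g ⁻¹ᵁ W).ι (pullback.snd W.ι g) hrange ≫ (g ⁻¹ᵁ W).ι =
      pullback.snd W.ι g := IsOpenImmersion.lift_fac _ _ _
  have hle' : pullback.snd W.ι g ⁻¹ᵁ V' ≤
      IsOpenImmersion.lift (g ⁻¹ᵁ W).ι (pullback.snd W.ι g) hrange ⁻¹ᵁ ((g ⁻¹ᵁ W).ι ⁻¹ᵁ V') := by
    intro z hz
    show (g ⁻¹ᵁ W).ι (IsOpenImmersion.lift (g ⁻¹ᵁ W).ι (pullback.snd W.ι g) hrange z) ∈ V'
    rw [← Scheme.Hom.comp_apply, hfac]
    exact hz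
  have e1 : (g ⁻¹ᵁ W).ι.appLE V' ((g ⁻¹ᵁ W).ι ⁻¹ᵁ V') le_rfl ≫
      (IsOpenImmersion.lift (g ⁻¹ᵁ W).ι (pullback.snd W.ι g) hrange).appLE
        ((g ⁻¹ᵁ W).ι ⁻¹ᵁ V') (pullback.snd W.ι g ⁻¹ᵁ V') hle' =
      (pullback.snd W.ι g).appLE V' (pullback.snd W.ι g ⁻¹ᵁ V') le_rfl := by
    rw [Scheme.Hom.appLE_comp_appLE]
    simp only [hfac]
  have e2 := congrArg (fun m => m.hom t) e1
  simp only [CommRingCat.hom_comp, RingHom.comp_apply] at e2
  rw [Scheme.Hom.app_eq_appLE]
  rw [← e2, ← Scheme.Hom.app_eq_appLE]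
  have ht' : ((g ⁻¹ᵁ W).ι.app V').hom t = 0 := ht
  rw [ht', map_zero]

/-- sections inject along a flat surjective morphism. -/
theorem app_injective_of_flat_surjective {X X' : Scheme.{u}} (g : X' ⟶ X) [Flat g] [Surjective g]
    (V : X.Opens) : Function.Injective (g.app V) := by
  rw [injective_iff_map_eq_zero]
  intro t ht
  apply TopCat.Presheaf.section_ext X.sheaf V
  intro x hx
  obtain ⟨x', rfl⟩ := g.surjective x
  have h1 : g.stalkMap x' (X.presheaf.germ V (g x') hx t) =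
      X'.presheaf.germ (g ⁻¹ᵁ V) x' hx (g.app V t) := Scheme.Hom.germ_stalkMap_apply g V x' hx t
  rw [ht, map_zero] at h1
  have hinj : Function.Injective (g.stalkMap x') := by
    algebraize [(g.stalkMap x').hom]
    have : Module.FaithfullyFlat (X.presheaf.stalk (g x')) (X'.presheaf.stalk x') :=
      @Module.FaithfullyFlat.of_flat_of_isLocalHom _ _ _ _ _ _ _
        (Flat.stalkMap g x') (g.toLRSHom.prop x')
    exact ‹RingHom.FaithfullyFlat _›.injective
  have h2 : X.presheaf.germ V (g x') hx t = 0 := hinj (h1.trans (map_zero _).symm)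
  show X.sheaf.presheaf.germ V (g x') hx t = X.sheaf.presheaf.germ V (g x') hx 0
  rw [map_zero]
  exact h2

/-- schematic density descends along flat surjective morphisms. -/
theorem schDense_of_preimage_of_flat_surjective {X X' : Scheme.{u}} (g : X' ⟶ X) [Flat g]
    [Surjective g] (W : X.Opens) (H : CInt.IsSchematicallyDense (g ⁻¹ᵁ W)) :
    CInt.IsSchematicallyDense W := by
  intro V
  rw [injective_iff_map_eq_zero]
  intro t ht
  have hle : g ⁻¹ᵁ V ⊓ g ⁻¹ᵁ W ≤ g ⁻¹ᵁ (V ⊓ W) := fun _ hx => hx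
  have h1 : g.app V t = 0 := by
    apply H (g ⁻¹ᵁ V)
    rw [map_zero]
    have e1 : g.app V ≫ X'.presheaf.map (homOfLE (inf_le_left : g ⁻¹ᵁ V ⊓ g ⁻¹ᵁ W ≤ g ⁻¹ᵁ V)).op =
        X.presheaf.map (homOfLE (inf_le_left : V ⊓ W ≤ V)).op ≫
          g.appLE (V ⊓ W) (g ⁻¹ᵁ V ⊓ g ⁻¹ᵁ W) hle := by
      rw [Scheme.Hom.app_eq_appLE, Scheme.Hom.appLE_map, Scheme.Hom.map_appLE]
    have e2 := congrArg (fun m => m.hom t) e1
    simp only [CommRingCat.hom_comp, RingHom.comp_apply] at e2
    rw [e2, ht, map_zero]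
  exact app_injective_of_flat_surjective g V (h1.trans (map_zero _).symm)

/-- the intersection of two schematically dense opens is schematically dense. -/
theorem schDense_inf {X : Scheme.{u}} (W₁ W₂ : X.Opens) (h₁ : CInt.IsSchematicallyDense W₁)
    (h₂ : CInt.IsSchematicallyDense W₂) : CInt.IsSchematicallyDense (W₁ ⊓ W₂) := by
  intro V
  rw [injective_iff_map_eq_zero]
  intro t ht
  apply h₁ V
  rw [map_zero]
  apply h₂ (V ⊓ W₁)
  rw [map_zero, ← ConcreteCategory.comp_apply, ← Functor.map_comp]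
  have hle : V ⊓ W₁ ⊓ W₂ ≤ V ⊓ (W₁ ⊓ W₂) := le_of_eq (inf_assoc _ _ _)
  have e : X.presheaf.map (homOfLE (inf_le_left : V ⊓ (W₁ ⊓ W₂) ≤ V)).op ≫
      X.presheaf.map (homOfLE hle).op =
      X.presheaf.map ((homOfLE (inf_le_left : V ⊓ W₁ ≤ V)).op ≫
        (homOfLE (inf_le_left : V ⊓ W₁ ⊓ W₂ ≤ V ⊓ W₁)).op) := by
    rw [← Functor.map_comp]
    rfl
  rw [← e, ConcreteCategory.comp_apply, ht, map_zero]

end Groth.Agent.Lib.Helper4.SchDense
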