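import Mathlib
import Groth.Agent.Lib.Helper4SchDenseA
import Groth.Prelude.Def_AlgSpSub
/-!
# helper4: scheme theoretically dense open subspaces of algebraic spaces, chart independence
`opens_le_of_isPullback`, `isPullback_preimage`, `schDense_every_chart`.
-/

set_option autoImplicit false
universe u
open CategoryTheory CategoryTheory.Limits AlgebraicGeometry
open AlgSp

namespace Groth.Agent.Lib.Helper4.SchDense

/-- two opens of a scheme chart representing the same pullback are comparable. -/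
theorem opens_le_of_isPullback {S : Scheme.{u}} {F G : AlgSp.Sp S} (j : F ⟶ G) {T : Over S}
    (ψ : (AlgSp.yon S).obj T ⟶ G) (O₁ O₂ : T.left.Opens)
    (f₁ : (AlgSp.yon S).obj (Over.mk (O₁.ι ≫ T.hom)) ⟶ F)
    (f₂ : (AlgSp.yon S).obj (Over.mk (O₂.ι ≫ T.hom)) ⟶ F)
    (h₁ : IsPullback f₁ ((AlgSp.yon S).map (Over.homMk O₁.ι rfl : Over.mk (O₁.ι ≫ T.hom) ⟶ T)) j ψ)
    (h₂ : IsPullback f₂ ((AlgSp.yon S).map (Over.homMk O₂.ι rfl : Over.mk (O₂.ι ≫ T.hom) ⟶ T)) j ψ) :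
    O₁ ≤ O₂ := by
  let e := h₁.isoIsPullback _ _ h₂
  have he : e.hom ≫ (AlgSp.yon S).map (Over.homMk O₂.ι rfl : Over.mk (O₂.ι ≫ T.hom) ⟶ T) =
      (AlgSp.yon S).map (Over.homMk O₁.ι rfl : Over.mk (O₁.ι ≫ T.hom) ⟶ T) :=
    h₁.isoIsPullback_hom_snd _ _ h₂
  obtain ⟨a, ha⟩ := (AlgSp.yon S).map_surjective e.hom
  rw [← ha, ← Functor.map_comp] at he
  have he' := (AlgSp.yon S).map_injective he
  let a' : (O₁ : Scheme.{u}) ⟶ (O₂ : Scheme.{u}) := a.left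
  have he'' : a' ≫ O₂.ι = O₁.ι := congrArg (fun m => m.left) he'
  intro x hx
  have hx' : x ∈ Set.range O₁.ι := by rw [Scheme.Opens.range_ι]; exact hx
  obtain ⟨y, rfl⟩ := hx'
  have h1 : (a' ≫ O₂.ι) y = O₁.ι y := by rw [he'']
  rw [Scheme.Hom.comp_apply] at h1
  rw [← h1]
  have h3 : O₂.ι (a' y) ∈ Set.range O₂.ι := Set.mem_range_self _
  rw [Scheme.Opens.range_ι] at h3
  exact h3

/-- the standard pullback square for the preimage of an open under a morphism of `S`-schemes. -/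
theorem isPullback_preimage {S : Scheme.{u}} {F G : AlgSp.Sp S} (j : F ⟶ G) {T₀ T : Over S}
    (h : T ⟶ T₀) (ψ₀ : (AlgSp.yon S).obj T₀ ⟶ G) (W₀ : T₀.left.Opens)
    (f₀ : (AlgSp.yon S).obj (Over.mk (W₀.ι ≫ T₀.hom)) ⟶ F)
    (sq₀ : IsPullback f₀ ((AlgSp.yon S).map (Over.homMk W₀.ι rfl : Over.mk (W₀.ι ≫ T₀.hom) ⟶ T₀))
      j ψ₀) :
    ∃ f : (AlgSp.yon S).obj (Over.mk ((h.left ⁻¹ᵁ W₀).ι ≫ T.hom)) ⟶ F,
      IsPullback f ((AlgSp.yon S).map (Over.homMk (h.left ⁻¹ᵁ W₀).ι rfl :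
        Over.mk ((h.left ⁻¹ᵁ W₀).ι ≫ T.hom) ⟶ T)) j ((AlgSp.yon S).map h ≫ ψ₀) := by
  let r : Over.mk ((h.left ⁻¹ᵁ W₀).ι ≫ T.hom) ⟶ Over.mk (W₀.ι ≫ T₀.hom) :=
    Over.homMk (h.left ∣_ W₀) (by
      show (h.left ∣_ W₀) ≫ W₀.ι ≫ T₀.hom = (h.left ⁻¹ᵁ W₀).ι ≫ T.hom
      rw [← Category.assoc, morphismRestrict_ι, Category.assoc, Over.w h])
  have sqS : IsPullback r (Over.homMk (h.left ⁻¹ᵁ W₀).ι rfl :
      Over.mk ((h.left ⁻¹ᵁ W₀).ι ≫ T.hom) ⟶ T)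
      (Over.homMk W₀.ι rfl : Over.mk (W₀.ι ≫ T₀.hom) ⟶ T₀) h :=
    IsPullback.of_map (Over.forget S) (Over.OverMorphism.ext (morphismRestrict_ι h.left W₀))
      (isPullback_morphismRestrict h.left W₀)
  exact ⟨(AlgSp.yon S).map r ≫ f₀, (sqS.map (AlgSp.yon S)).paste_horiz sq₀⟩

/-- a scheme theoretically dense open subspace has schematically dense inverse image on every
etale scheme chart. -/
theorem schDense_every_chart {S : Scheme.{u}} {U X : AlgSp.Space S} (j : U ⟶ X)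
    (hj : AlgSp.IsSchDense j.hom) (V : Over S) (φ : (AlgSp.yon S).obj V ⟶ X.obj) (hφ : AlgSp.RepWith @Etale φ)
    (W : V.left.Opens) (fst : (AlgSp.yon S).obj (Over.mk (W.ι ≫ V.hom)) ⟶ U.obj)
    (sq : IsPullback fst ((AlgSp.yon S).map (Over.homMk W.ι rfl : Over.mk (W.ι ≫ V.hom) ⟶ V)) j.hom φ) :
    CInt.IsSchematicallyDense W := by
  obtain ⟨hjo, V₀, φ₀, W₀, fst₀, hφ₀e, hφ₀s, sq₀, hW₀⟩ := hj
  obtain ⟨U₁, π, h', sq₁⟩ := hφ₀e.1 φ
  have : Etale π.left := hφ₀e.2 _ _ π sq₁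
  have : Surjective π.left := hφ₀s.2 _ _ π sq₁
  obtain ⟨h, rfl⟩ := (AlgSp.yon S).map_surjective h'
  have : Etale h.left := hφ.2 _ _ h sq₁.flip
  have hd1 : CInt.IsSchematicallyDense (h.left ⁻¹ᵁ W₀) :=
    Groth.Agent.Lib.Helper4.SchDense.schDense_preimage_of_flat_lfp h.left W₀ hW₀
  obtain ⟨f₁, big₁⟩ := isPullback_preimage j.hom h φ₀ W₀ fst₀ sq₀
  obtain ⟨f₂, big₂⟩ := isPullback_preimage j.hom π φ W fst sq
  rw [sq₁.w] at big₁
  have heq : h.left ⁻¹ᵁ W₀ = π.left ⁻¹ᵁ W :=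
    le_antisymm (opens_le_of_isPullback j.hom _ _ _ f₁ f₂ big₁ big₂)
      (opens_le_of_isPullback j.hom _ _ _ f₂ f₁ big₂ big₁)
  rw [heq] at hd1
  exact Groth.Agent.Lib.Helper4.SchDense.schDense_of_preimage_of_flat_surjective π.left W hd1

end Groth.Agent.Lib.Helper4.SchDense
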