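import Mathlib
/-!
# helper4: equivalent forms of schematic dominance of a family (EGA IV 11.10.1)
-/
set_option autoImplicit false
set_option linter.style.haveILetI false
universe u
open CategoryTheory CategoryTheory.Limits AlgebraicGeometry

namespace Groth.Agent.Lib.Helper4.SchDomTfae

variable {X S : Scheme.{u}} (p : X ⟶ S) {ι : Type u} (Z : ι → Scheme.{u}) (f : ∀ i, Z i ⟶ X)

theorem app_image_eq_zero_of_restrict {Z X : Scheme.{u}} (f : Z ⟶ X) (U : X.Opens)
    (V : (U : Scheme.{u}).Opens) (t : Γ(X, U.ι ''ᵁ V)) (h : (f ∣_ U).app V t = 0) :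
    f.app (U.ι ''ᵁ V) t = 0 := by
  rw [morphismRestrict_app] at h
  have hiso : IsIso (Z.presheaf.map (eqToHom (image_morphismRestrict_preimage f U V)).op) :=
    inferInstance
  have hinj := (ConcreteCategory.bijective_of_isIso
    (Z.presheaf.map (eqToHom (image_morphismRestrict_preimage f U V)).op)).1
  apply hinj
  rw [map_zero]
  exact h

theorem b_to_c (hb : ∀ (V : X.Opens) (t : Γ(X, V)), (∀ i, (f i).app V t = 0) → t = 0)
    (U : X.Opens) (Y : Scheme.{u}) (j : Y ⟶ (U : Scheme.{u})) (hj : IsClosedImmersion j)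
    (hg : ∀ i, ∃ g : ((f i) ⁻¹ᵁ U : Scheme.{u}) ⟶ Y, g ≫ j = (f i) ∣_ U) : IsIso j := by
  rw [IsClosedImmersion.isIso_iff_ker_eq_bot]
  apply Scheme.IdealSheafData.ext
  funext V
  rw [Scheme.Hom.ker_apply]
  have hbot : (⊥ : Scheme.IdealSheafData (U : Scheme.{u})).ideal V = ⊥ := rfl
  rw [hbot, ← RingHom.injective_iff_ker_eq_bot, injective_iff_map_eq_zero]
  intro t ht
  refine hb (U.ι ''ᵁ V.1) t fun i => ?_
  apply app_image_eq_zero_of_restrict
  obtain ⟨g, hg⟩ := hg i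
  have key : ∀ (φ : ((f i) ⁻¹ᵁ U : Scheme.{u}) ⟶ (U : Scheme.{u})), g ≫ j = φ →
      φ.app V.1 t = 0 := by
    rintro _ rfl
    have h0 : j.app V.1 t = 0 := ht
    show (g.app (j ⁻¹ᵁ V.1)) (j.app V.1 t) = 0
    rw [h0, map_zero]
  exact key _ hg



theorem c_to_d
    (hc : ∀ (U : X.Opens) (Y : Scheme.{u}) (j : Y ⟶ (U : Scheme.{u})), IsClosedImmersion j →
        (∀ i, ∃ g : ((f i) ⁻¹ᵁ U : Scheme.{u}) ⟶ Y, g ≫ j = (f i) ∣_ U) → IsIso j)
    (X' : Scheme.{u}) (q : X' ⟶ S) (hq : IsSeparated q) (U : X.Opens)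
    (u v : (U : Scheme.{u}) ⟶ X') (hu : u ≫ q = U.ι ≫ p) (hv : v ≫ q = U.ι ≫ p)
    (huv : ∀ i, ((f i) ∣_ U) ≫ u = ((f i) ∣_ U) ≫ v) : u = v := by
  let XU : Over S := Over.mk (U.ι ≫ p)
  let XO : Over S := Over.mk q
  let u' : XU ⟶ XO := Over.homMk u hu
  let v' : XU ⟶ XO := Over.homMk v hv
  haveI : IsSeparated XO.hom := hq
  have hcl : IsClosedImmersion (equalizer.ι u' v').left := inferInstance
  have hiso : IsIso (equalizer.ι u' v').left := by
    refine hc U _ _ hcl fun i => ?_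
    let Zi : Over S := Over.mk (((f i) ∣_ U) ≫ U.ι ≫ p)
    let fi : Zi ⟶ XU := Over.homMk ((f i) ∣_ U) rfl
    have hfi : fi ≫ u' = fi ≫ v' := by
      ext
      exact huv i
    refine ⟨(equalizer.lift fi hfi).left, ?_⟩
    rw [← Over.comp_left, equalizer.lift_ι]
    rfl
  have hcond := congrArg (fun m => m.left) (equalizer.condition u' v')
  simp only [Over.comp_left] at hcond
  have h1 : (equalizer.ι u' v').left ≫ u = (equalizer.ι u' v').left ≫ v := hcond
  exact (cancel_epi _).mp h1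



theorem restrict_appTop_topIso_inv {Z X : Scheme.{u}} (f : Z ⟶ X) (V : X.Opens) (t : Γ(X, V))
    (h : f.app V t = 0) : (f ∣_ V).appTop (V.topIso.inv t) = 0 := by
  have e := morphismRestrict_appTop f V
  have h1 : V.topIso.inv ≫ f.app (V.ι ''ᵁ ⊤) = f.app V ≫
      Z.presheaf.map (homOfLE (f.preimage_mono (le_of_eq V.ι_image_top))).op := by
    rw [Scheme.Opens.topIso_inv]
    exact (f.naturality _)
  have h2 : f.app (V.ι ''ᵁ ⊤) (V.topIso.inv t) = 0 := by
    have := congrArg (fun m => m.hom t) h1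
    refine this.trans ?_
    show (Z.presheaf.map _).hom ((f.app V).hom t) = 0
    have h' : (f.app V).hom t = 0 := h
    rw [h', map_zero]
  have h3 := congrArg (fun m : Γ(↑V, ⊤) ⟶ Γ(↑(f ⁻¹ᵁ V), ⊤) => m.hom (V.topIso.inv t)) e
  simp only at h3
  refine h3.trans ?_
  show (Z.presheaf.map _).hom ((f.app (V.ι ''ᵁ ⊤)).hom (V.topIso.inv t)) = 0
  have h2' : (f.app (V.ι ''ᵁ ⊤)).hom (V.topIso.inv t) = 0 := h2
  rw [h2', map_zero]

theorem d_to_b
    (hd : ∀ (X' : Scheme.{u}) (q : X' ⟶ S), IsSeparated q → ∀ (U : X.Opens)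
      (u v : (U : Scheme.{u}) ⟶ X'),
      u ≫ q = U.ι ≫ p → v ≫ q = U.ι ≫ p → (∀ i, ((f i) ∣_ U) ≫ u = ((f i) ∣_ U) ≫ v) → u = v)
    (V : X.Opens) (t : Γ(X, V)) (ht : ∀ i, (f i).app V t = 0) : t = 0 := by
  have key := hd (𝔸(PUnit.{u+1}; S)) (𝔸(PUnit.{u+1}; S) ↘ S) inferInstance V
    (AffineSpace.homOfVector (V.ι ≫ p) (fun _ => V.topIso.inv t))
    (AffineSpace.homOfVector (V.ι ≫ p) (fun _ => 0))
    (AffineSpace.homOfVector_over _ _) (AffineSpace.homOfVector_over _ _) (fun i => by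
      rw [AffineSpace.comp_homOfVector, AffineSpace.comp_homOfVector]
      congr 1
      funext x
      simp only [Function.comp_apply, map_zero]
      exact restrict_appTop_topIso_inv (f i) V t (ht i))
  have h1 := congrArg (fun m => m.appTop (AffineSpace.coord S PUnit.unit)) key
  simp only [AffineSpace.homOfVector_appTop_coord] at h1
  have hinj := (ConcreteCategory.bijective_of_isIso V.topIso.inv).1
  apply hinj
  rw [map_zero]
  exact h1


end Groth.Agent.Lib.Helper4.SchDomTfae
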