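import Groth.Agent.Lib.Helper4HypIdealB
import Groth.Agent.Lib.Helper23PB
import Groth.Prelude.Def_Omega3

/-!
# A morphism to `P^n` along which a form pulls back to zero factors through the hypersurface (helper4)

`hypIdeal_le_ker` : for `i : X ⟶ P^n_k` quasi-compact and a form `G` of degree `d` whose section of
`O(d)` pulls back to the zero section of `i^* O(d)`, the ideal sheaf of `V_+(G)` is contained in the
kernel of `i`, so `i` factors through `V_+(G)`.
-/

set_option autoImplicit false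
set_option linter.style.haveILetI false
universe u

open CategoryTheory CategoryTheory.Limits AlgebraicGeometry TopologicalSpace Opposite
  HomogeneousLocalization MvPolynomial

namespace Groth.Agent.Lib.Helper4.SecFactor

open Groth.Agent.Lib.Helper27GrTildeSect Groth.Agent.Lib.Helper27ProjGamma
  Groth.Agent.Lib.Helper27PnSections Groth.Agent.Lib.Helper27Laurent
  Groth.Agent.Lib.Helper27PnLau Groth.Agent.Lib.Helper27PnLauMul
  Groth.Agent.Lib.Helper27PnHom Groth.Agent.Lib.Helper27KoszHom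
  Groth.Agent.Lib.Helper27KoszPn
  Groth.Agent.Lib.Helper23.SecTw Groth.Agent.Lib.Helper6 Groth.Agent.Lib.Helper23.Extend
  Groth.Agent.Lib.Helper23.GenLocus Groth.Agent.Lib.Helper4.HypIdeal
  Groth.Agent.Lib.Helper23.PB Groth.Agent.Helper13PullbackUnit

variable {n : ℕ} {k : Type u} [Field k]

local notation "𝒢" => CohB1.polyGrading n k
local notation "σ'" => Fin (n + 1)

theorem app_cfun_eq_zero {X : Scheme.{u}} (i : X ⟶ Proj 𝒢) {d : ℕ} (G : MvPolynomial σ' k)
    (hG : G ∈ 𝒢 d)
    (h : OmegaSh.pullSect i (OO n k (d : ℤ)) ⊤ (formSec d G hG) = 0) (j : σ') :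
    (i.app (Ui n k j)).hom (HypIdeal.cfun G hG j) = 0 := by
  haveI : (OO n k (d : ℤ)).IsQuasicoherent := isQuasicoherent_tilde 𝒢 𝒢 _
  -- the pulled back section vanishes on `i⁻¹ U_j`
  have h1 : unitSec i (OO n k (d : ℤ)) (le_refl (i ⁻¹ᵁ Ui n k j))
      (res (OO n k (d : ℤ)) (le_top : Ui n k j ≤ ⊤) (formSec d G hG)) = 0 := by
    rw [← res_unitSec i (OO n k (d : ℤ)) (le_refl (i ⁻¹ᵁ ⊤)) (le_refl (i ⁻¹ᵁ Ui n k j)) le_top
      (i.preimage_mono le_top)]
    have h2 : unitSec i (OO n k (d : ℤ)) (le_refl (i ⁻¹ᵁ ⊤)) (formSec d G hG) = 0 := by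
      rw [unitSec_apply]
      have : ((Scheme.Modules.pullbackPushforwardAdjunction i).unit.app (OO n k (d : ℤ))).app ⊤
          (formSec d G hG) = 0 := h
      rw [this]
      exact map_zero _
    rw [h2]
    exact map_zero _
  rw [res_formSec, unitSec_smul] at h1
  have hgen := isGen_unitSec i (OO n k (d : ℤ)) (isAffineOpen_Ui n k j) (gen (d : ℤ) j)
    (isGen_gen (d : ℤ) j)
  have hinj := (hgen (i ⁻¹ᵁ Ui n k j) le_rfl).1
  have h3 : (i.appLE (Ui n k j) (i ⁻¹ᵁ Ui n k j) le_rfl).hom (HypIdeal.cfun G hG j) = 0 := by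
    apply hinj
    simp only []
    rw [res_self, zero_smul]
    exact h1
  rw [Scheme.Hom.appLE, ] at h3
  simpa using h3

/-- a form whose section of `O(d)` pulls back to zero along `i` cuts out a hypersurface through
which `i` factors. -/
theorem hypIdeal_le_ker {X : Scheme.{u}} (i : X ⟶ CohB1.ProjSpace n k) [QuasiCompact i] {d : ℕ}
    (G : LefPen.Form n k d)
    (h : OmegaSh.pullSect i (Twist.twistProjSpace n k (d : ℤ)) ⊤ (formSec d G.1 G.2) = 0) :
    LefPen.hypIdeal G ≤ i.ker := by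
  refine Scheme.IdealSheafData.le_of_iSup_eq_top
    (fun j : Fin (n + 1) => (⟨LefPen.chart n k j, isAffineOpen_chart j⟩ :
      (CohB1.ProjSpace n k).affineOpens)) iSup_chart (fun j => ?_)
  rw [hypIdeal_ideal_chart, Ideal.span_singleton_le_iff_mem, Scheme.Hom.ker_apply, RingHom.mem_ker]
  exact app_cfun_eq_zero i G.1 G.2 h j

end Groth.Agent.Lib.Helper4.SecFactor
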