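import Mathlib
import Groth.Agent.Lib.Helper4SepFamB
/-!
# helper4: separating families (EGA IV 11.9), faithfully flat descent

* `exists_smul_eq_zero_of_one_tmul_eq_zero`: for `A'` flat over `A`, if `1 ⊗ t = 0` in `A' ⊗ P`
  then the annihilator of `t` generates the unit ideal of `A'`.
* `separating_of_pullback_flat_surjective`: a family of maps of quasi-coherent modules is
  separating as soon as its pull back along a flat surjective morphism is separating.
-/

set_option autoImplicit false
set_option linter.style.haveILetI false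
universe u v w
namespace Groth.Agent.Lib.Helper4.SepFam
open TensorProduct CategoryTheory CategoryTheory.Limits AlgebraicGeometry
open Groth.Agent.Helper13PullbackUnit Groth.Agent.Lib.Helper2.FPAff

/-- for `A'` flat over `A`: if `1 ⊗ t = 0` in `A' ⊗[A] P`, then some element of the annihilator of
`t` maps outside any given proper ideal of `A'`. -/
theorem exists_smul_eq_zero_of_one_tmul_eq_zero {A A' : Type*} [CommRing A] [CommRing A']
    [Algebra A A'] [Module.Flat A A'] {P : Type*} [AddCommGroup P] [Module A P] (t : P)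
    (ht : (1 : A') ⊗ₜ[A] t = 0) (𝔮 : Ideal A') (h𝔮 : 𝔮 ≠ ⊤) :
    ∃ f : A, algebraMap A A' f ∉ 𝔮 ∧ f • t = 0 := by
  have h1 : ∑ i : Fin 1, (fun _ => t : Fin 1 → P) i ⊗ₜ[A] (fun _ => (1 : A') : Fin 1 → A') i =
      (0 : P ⊗[A] A') := by
    simp only [Finset.univ_unique, Finset.sum_singleton]
    have := congrArg (TensorProduct.comm A A' P) ht
    rwa [TensorProduct.comm_tmul, map_zero] at this
  have hinj : Function.Injective (LinearMap.rTensor A'
      (Submodule.span A (Set.range (fun _ => t : Fin 1 → P))).subtype) :=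
    Module.Flat.rTensor_preserves_injective_linearMap _ (Submodule.injective_subtype _)
  obtain ⟨k, a, y, hy, ha⟩ :=
    TensorProduct.vanishesTrivially_of_sum_tmul_eq_zero_of_rTensor_injective A hinj h1
  by_contra hcon
  push Not at hcon
  apply h𝔮
  rw [Ideal.eq_top_iff_one]
  have h2 := hy 0
  simp only at h2
  rw [h2]
  refine Ideal.sum_mem _ fun j _ => ?_
  rw [Algebra.smul_def]
  refine Ideal.mul_mem_right _ _ ?_
  by_contra hj
  refine hcon (a 0 j) hj ?_
  have := ha j
  simpa using this

section descent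
variable {X X' : Scheme.{u}} (g : X' ⟶ X) (F : X.Modules) [F.IsQuasicoherent] {ι : Type w}
  (G : ι → X.Modules) (u : ∀ i, F ⟶ G i)

/-- **EGA IV 11.9.10 (i), descent**: if the pull back of a family of maps of quasi-coherent modules
along a flat surjective morphism is separating, then so is the family. -/
theorem separating_of_pullback_flat_surjective [Flat g] [Surjective g]
    (h : Separating ((Scheme.Modules.pullback g).obj F)
      (fun i => (Scheme.Modules.pullback g).obj (G i))
      (fun i => (Scheme.Modules.pullback g).map (u i))) : Separating F G u := by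
  intro V t ht
  refine Groth.Agent.Lib.Helper2.QcPush.section_eq_zero_of_cover F V t fun x hx => ?_
  obtain ⟨x', rfl⟩ := g.surjective x
  obtain ⟨_, ⟨U, hU, rfl⟩, hxU, hUV'⟩ := X.isBasis_affineOpens.exists_subset_of_mem_open
    hx V.isOpen
  have hUV : U ≤ V := hUV'
  obtain ⟨_, ⟨U', hU', rfl⟩, hxU', hle'⟩ := X'.isBasis_affineOpens.exists_subset_of_mem_open
    (show x' ∈ g ⁻¹ᵁ U from hxU) (g ⁻¹ᵁ U).isOpen
  have hle : U' ≤ g ⁻¹ᵁ U := hle'
  -- the restriction of `t` to `U` and its pull back
  set m : Γ(F, U) := F.presheaf.map (homOfLE hUV).op t with hm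
  have hs : unitSec g F hle m = 0 := by
    apply h
    intro i
    show ((Scheme.Modules.pullback g).map (u i)).app U' (unitSec g F hle m) = 0
    rw [Groth.Agent.Lib.Helper23.PB.map_unitSec g (u i) hle m, hm, app_res]
    have : (u i).app V t = 0 := ht i
    rw [this, map_zero, map_zero]
  letI := (g.appLE U U' hle).hom.toAlgebra
  haveI : Module.Flat Γ(X, U) Γ(X', U') :=
    HasRingHomProperty.appLE (P := @Flat) g inferInstance ⟨U, hU⟩ ⟨U', hU'⟩ hle
  letI : Module Γ(X, U) Γ((Scheme.Modules.pullback g).obj F, U') :=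
    Module.compHom _ (algebraMap Γ(X, U) Γ(X', U'))
  haveI : IsScalarTower Γ(X, U) Γ(X', U') Γ((Scheme.Modules.pullback g).obj F, U') :=
    IsScalarTower.of_algebraMap_smul (fun a m => rfl)
  let φ : Γ(F, U) →ₗ[Γ(X, U)] Γ((Scheme.Modules.pullback g).obj F, U') :=
    { toFun := unitSec g F hle, map_add' := (unitSec g F hle).map_add,
      map_smul' := fun a m => unitSec_smul g F hle a m }
  have hbc : IsBaseChange Γ(X', U') φ :=
    Groth.Agent.Helper13BCAlg.isBaseChange_of_existsUnique φ
      (fun P _ _ l hl => existsUnique_lift g F hU hU' hle P l hl)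
  have h1 : (1 : Γ(X', U')) ⊗ₜ[Γ(X, U)] m = 0 := by
    apply hbc.equiv.injective
    rw [IsBaseChange.equiv_tmul, one_smul, map_zero]
    exact hs
  -- the prime ideal of `x'`
  let 𝔮 : Ideal Γ(X', U') := Ideal.comap (X'.presheaf.germ U' x' hxU').hom
    (IsLocalRing.maximalIdeal (X'.presheaf.stalk x'))
  have h𝔮 : 𝔮 ≠ ⊤ := Ideal.IsPrime.ne_top inferInstance
  obtain ⟨f, hf𝔮, hft⟩ := exists_smul_eq_zero_of_one_tmul_eq_zero m h1 𝔮 h𝔮
  have hxf' : x' ∈ X'.basicOpen (g.appLE U U' hle f) := by
    rw [Scheme.mem_basicOpen _ _ _ hxU']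
    by_contra hnu
    exact hf𝔮 ((IsLocalRing.mem_maximalIdeal _).mpr hnu)
  have hxf : g x' ∈ X.basicOpen f := by
    have hD : X'.basicOpen (g.appLE U U' hle f) = U' ⊓ g ⁻¹ᵁ X.basicOpen f :=
      Scheme.basicOpen_appLE ..
    rw [hD] at hxf'
    exact hxf'.2
  refine ⟨X.basicOpen f, (X.basicOpen_le f).trans hUV, hxf, ?_⟩
  have h2 := res_basicOpen_eq_zero_of_pow_smul F f m 1 (by rw [pow_one]; exact hft)
  rw [hm, ← ConcreteCategory.comp_apply, ← Functor.map_comp] at h2
  exact h2

end descent

end Groth.Agent.Lib.Helper4.SepFam
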