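import Mathlib
import Groth.Agent.Lib.Helper4SepFamB
/-!
# helper4: separating families, part E — flat base change of a finite family (EGA IV 11.9.10 (ii))

* `MHSD_baseChange_of_flat_of_finite`: for a finite family, `MHSD` is stable under flat base change.
-/

set_option autoImplicit false
set_option linter.style.haveILetI false
universe u v w
namespace Groth.Agent.Lib.Helper4.SepFam
open TensorProduct

/-- For a finite family, `MHSD` is preserved by an arbitrary flat base change. -/
theorem MHSD_baseChange_of_flat_of_finite {A A' : Type u} [CommRing A] [CommRing A'] [Algebra A A']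
    [Module.Flat A A'] {M : Type u} [AddCommGroup M] [Module A M] {J : Type w} [Finite J]
    {N : J → Type u} [∀ j, AddCommGroup (N j)] [∀ j, Module A (N j)] (u : ∀ j, M →ₗ[A] N j)
    (H : MHSD A u) : MHSD A' (fun j => (u j).baseChange A') := by
  classical
  haveI : Fintype J := Fintype.ofFinite J
  have hinj : Function.Injective (LinearMap.pi u) := by
    rw [injective_iff_map_eq_zero]
    intro m hm
    obtain ⟨n, hn⟩ := H 1 m (fun j => ⟨0, by
      rw [pow_zero, one_smul]
      exact congrFun hm j⟩)
    rwa [one_pow, one_smul] at hn
  have hinj' : Function.Injective (LinearMap.lTensor A' (LinearMap.pi u)) :=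
    Module.Flat.lTensor_preserves_injective_linearMap _ hinj
  have hcomp : ∀ (x : A' ⊗[A] M) (j : J),
      TensorProduct.piRight A A' A' N (LinearMap.lTensor A' (LinearMap.pi u) x) j =
        (u j).baseChange A' x := by
    intro x j
    induction x using TensorProduct.induction_on with
    | zero => simp
    | tmul a m => simp
    | add x y hx hy =>
      rw [map_add, map_add, Pi.add_apply, hx, hy, map_add]
  intro h' m' hm
  choose n hn using hm
  refine ⟨Finset.univ.sup n, ?_⟩
  apply hinj'
  rw [map_zero]
  apply (TensorProduct.piRight A A' A' N).injective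
  rw [map_zero]
  funext j
  rw [hcomp, Pi.zero_apply]
  have hle : n j ≤ Finset.univ.sup n := Finset.le_sup (Finset.mem_univ j)
  obtain ⟨k, hk⟩ := Nat.exists_eq_add_of_le hle
  rw [hk, add_comm, pow_add, mul_smul, map_smul, hn j, smul_zero]

end Groth.Agent.Lib.Helper4.SepFam
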