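import Mathlib
import Groth.Agent.Lib.Helper4TensorQuot
import Groth.Agent.Lib.Helper4CartAss
import Groth.Agent.Lib.Helper4EquiDim
import Groth.Agent.Lib.Helper12SnapH
import Groth.Agent.Lib.Helper4ZeroDimChi
import Groth.Agent.S0047

/-!
# Intersection number of two effective Cartier divisors meeting in finitely many points (helper4; S7871, S11340)

`intNum_eq_finrank` : on a proper Cohen–Macaulay surface over a field, `(C · D) = dim_k H⁰(O/(I_C + I_D))` for effective
Cartier divisors `C`, `D` whose intersection is finite.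
-/

set_option autoImplicit false
set_option linter.style.haveILetI false
set_option linter.unusedSectionVars false
universe u
open CategoryTheory CategoryTheory.Limits AlgebraicGeometry TopologicalSpace Opposite

namespace Groth.Agent.Lib.Helper4.SurfInt

open Groth.Agent.Lib.Helper12.Snap Groth.Agent.Lib.Helper4.Dev Groth.Agent.Lib.Helper4.CurveChi
  Groth.Agent.Lib.Helper4.TensorQuot Groth.Agent.Lib.Helper4.CartAss Groth.Agent.Lib.Helper4.EquiDim

variable (k : Type u) [Field k] (X : Scheme.{u}) [X.Over (Spec (CommRingCat.of k))]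
  [IsProper (X ↘ (Spec (CommRingCat.of k)))]

theorem intNum_eq_finrank
    (hdim : ∀ Z ∈ irreducibleComponents (X : Type u), topologicalKrullDim Z = 2)
    (hCM : ∀ x : X, LocCoh.IsCohenMacaulayLocalRing (X.presheaf.stalk x))
    (IC ID : X.IdealSheafData) (hC : FGA.IsEffCartier IC) (hD : FGA.IsEffCartier ID)
    (hfin : ((IC ⊔ ID).support : Set X).Finite) :
    FGA.intNum k X 2 ![ClSub.idealMod IC, ClSub.idealMod ID] (Coh.structureModule X) =
      (Module.finrank k (Coh.HH X (ClSub.quotMod (IC ⊔ ID)) 0) : ℤ) := by
  haveI : IsNoetherian X := Groth.Agent.Lib.Helper4.CurveRR.isNoetherian_of_proper k X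
  haveI : IsLocallyNoetherian X := inferInstance
  have hC' : BlowUp.IsEffCartierIdeal IC := fun x => hC x
  have hD' : BlowUp.IsEffCartierIdeal ID := fun x => hD x
  have hinvC : PicF.IsInvertible (ClSub.idealMod IC) :=
    Groth.Agent.Helper18Cart.isInvertible_of_isEffCartier IC hC'
  -- dimension
  have hd : topologicalKrullDim X ≤ ((2 : ℕ) : WithBot ℕ∞) :=
    topologicalKrullDim_le_of_irreducibleComponents _ (fun T hT => by rw [hdim T hT]; rfl)
  -- points of the intersection are closed, with two-dimensional local rings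
  have hcl : ∀ x ∈ (IC ⊔ ID).support, IsClosed ({x} : Set X) := fun x hx =>
    isClosed_singleton_of_mem_finite_support k X (IC ⊔ ID) hfin hx
  have hdim2 : ∀ x : X, IsClosed ({x} : Set X) → (2 : WithBot ℕ∞) ≤ ringKrullDim (X.presheaf.stalk x) := by
    intro x hx
    have hT := irreducibleComponent_mem_irreducibleComponents x
    have := le_ringKrullDim_stalk_of_mem_component k X (irreducibleComponent x) hT x
      mem_irreducibleComponent hx
    rwa [hdim _ hT] at this
  set O := Coh.structureModule X with hO
  have hcO : Coh.IsCoh O := isCoh_structureModule X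
  have hcQD : Coh.IsCoh (ClSub.quotMod ID) := isCoh_quotMod ID
  -- first step
  rw [intNum_eq_dchi k X 2 hd]
  have hlist : List.ofFn ![ClSub.idealMod IC, ClSub.idealMod ID] =
      [ClSub.idealMod IC] ++ [ClSub.idealMod ID] := by simp
  rw [hlist, dchi_cartier k X [ClSub.idealMod IC] (by
      intro M hM
      rw [List.mem_singleton] at hM
      rw [hM]; exact hinvC) ID hD' O hcO (fun x hx => not_isAssPoint_of_mem_support ID hD' x hx)]
  -- second step
  set G := CohB1.tensorMod O (ClSub.quotMod ID) with hG
  have eG : G ≅ ClSub.quotMod ID := Groth.Agent.Lib.Helper23.TensorUnit.unitTensorIso _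
  have hcG : Coh.IsCoh G := isCoh_of_iso eG.symm hcQD
  have hassG : ∀ x ∈ IC.support, ¬ Curv2.IsAssPoint G x := by
    intro x hxC hass
    have h2 : Curv2.IsAssPoint (ClSub.quotMod ID) x := isAssPoint_of_mono eG.hom x hass
    by_cases hxD : x ∈ ID.support
    · have hx : x ∈ (IC ⊔ ID).support := by
        rw [Scheme.IdealSheafData.support_sup]
        exact ⟨hxC, hxD⟩
      exact not_isAssPoint_quotMod ID hD x (hCM x) (hdim2 x (hcl x hx)) h2
    · have hns : x ∉ CohB1.support (ClSub.quotMod ID) := fun h => hxD (support_quotMod_subset ID h)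
      simp only [CohB1.support, Set.mem_ofPred_eq, not_not] at hns
      haveI := hns
      exact not_isAssociatedPrime_of_subsingleton h2
  have hstep := dchi_cartier k X [] (by intro M hM; simp at hM) IC hC' G hcG hassG
  rw [List.nil_append] at hstep
  rw [hstep, dchi_nil]
  -- identify the tensor product
  obtain ⟨e1⟩ := tensor_congr_right (ClSub.quotMod IC) ⟨eG⟩
  obtain ⟨e2⟩ := nonempty_tensor_quotMod_iso ID IC
  have hsup : ID ⊔ IC = IC ⊔ ID := sup_comm _ _
  rw [euler_congr_iso k (e1 ≪≫ e2), hsup]
  -- zero-dimensional support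
  have hcQ : Coh.IsCoh (ClSub.quotMod (IC ⊔ ID)) := isCoh_quotMod _
  exact Groth.Agent.Lib.Helper4.ZeroDimChi.euler_eq_finrank_zero k _ (fun i hi =>
    Groth.Agent.S0047.result X _ hcQ (fun x hx => hcl x (support_quotMod_subset _ hx)) i hi)

end Groth.Agent.Lib.Helper4.SurfInt
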