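import Mathlib
import Groth.Agent.Lib.Helper4SepFamA
/-!
# helper4: `TSD` — schematic density of `D(I)` with respect to a module

* `TSD R I P`: for all `h : R`, `x : P`: if `x` vanishes on `D(g h)` for all `g ∈ I` then `x`
  vanishes on `D(h)` (exponent form).
* `TSD_span_iff`: `TSD` only depends on the ideal generated by `I`.
* `TSD.of_linearEquiv`, `TSD.of_ringEquiv`, `TSD.of_injective`: transports.
* `MHSD_iff_TSD`: link with `MHSD` for a family of maps whose kernels are the `b j`-power torsion.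
* `locFam`, `MHSD_locFam_iff`, `MHSD_locFam_baseChange_iff`: the family of localization maps and
  its base changes.
* `flat_localizedModule`: a localization of a `C`-flat module is `C`-flat.
-/

set_option autoImplicit false
set_option linter.style.haveILetI false
universe u v w
namespace Groth.Agent.Lib.Helper4.TorsSD
open TensorProduct
open Groth.Agent.Lib.Helper4.SepFam

/-- `D(I)` is schematically dense with respect to `P` (exponent form). -/
def TSD (R : Type*) [CommRing R] (I : Set R) (P : Type*) [AddCommGroup P] [Module R P] : Prop :=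
  ∀ (h : R) (x : P), (∀ g ∈ I, ∃ n : ℕ, (g * h) ^ n • x = 0) → ∃ n : ℕ, h ^ n • x = 0

section basic
variable {R : Type*} [CommRing R] {P : Type*} [AddCommGroup P] [Module R P]

theorem exists_pow_mul_smul_iff (g h : R) (x : P) :
    (∃ n k : ℕ, g ^ k • h ^ n • x = 0) ↔ ∃ n : ℕ, (g * h) ^ n • x = 0 := by
  constructor
  · rintro ⟨n, k, hnk⟩
    refine ⟨n + k, ?_⟩
    have : (g * h) ^ (n + k) = (g ^ n * h ^ k) * (g ^ k * h ^ n) := by
      rw [mul_pow, pow_add, pow_add]; ring
    rw [this, mul_smul, mul_smul (g ^ k), hnk, smul_zero]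
  · rintro ⟨n, hn⟩
    refine ⟨n, n, ?_⟩
    rw [← mul_smul, ← mul_pow]
    exact hn

/-- the elements `y` such that `x` vanishes on `D(y h)` form an ideal. -/
theorem exists_pow_smul_of_mem_span {I : Set R} (h : R) (x : P)
    (H : ∀ g ∈ I, ∃ n : ℕ, (g * h) ^ n • x = 0) :
    ∀ g ∈ Ideal.span I, ∃ n : ℕ, (g * h) ^ n • x = 0 := by
  let K : Ideal R := LinearMap.ker (LinearMap.toSpanSingleton R P x)
  have hK : ∀ y : R, y ∈ K ↔ y • x = 0 := fun y => by
    simp only [K, LinearMap.mem_ker, LinearMap.toSpanSingleton_apply]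
  have key : ∀ y : R, (∃ n : ℕ, (y * h) ^ n • x = 0) ↔ y * h ∈ K.radical := by
    intro y
    rw [Ideal.mem_radical_iff]
    exact exists_congr fun n => (hK _).symm
  intro g hg
  rw [key]
  induction hg using Submodule.span_induction with
  | mem y hy => exact (key y).mp (H y hy)
  | zero => rw [zero_mul]; exact Ideal.zero_mem _
  | add a b _ _ ha hb => rw [add_mul]; exact Ideal.add_mem _ ha hb
  | smul c a _ ha => rw [smul_eq_mul, mul_assoc]; exact Ideal.mul_mem_left _ _ ha

theorem TSD_span_iff (I : Set R) : TSD R (Ideal.span I : Set R) P ↔ TSD R I P := by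
  constructor
  · intro H h x hx
    exact H h x (fun g hg => exists_pow_smul_of_mem_span h x hx g hg)
  · intro H h x hx
    exact H h x (fun g hg => hx g (Ideal.subset_span hg))

theorem TSD.of_span_eq {I I' : Set R} (hII' : Ideal.span I = Ideal.span I') (H : TSD R I P) :
    TSD R I' P := by
  rw [← TSD_span_iff] at H ⊢
  rwa [← hII']

theorem TSD.of_linearEquiv {P' : Type*} [AddCommGroup P'] [Module R P'] (e : P ≃ₗ[R] P')
    {I : Set R} (H : TSD R I P) : TSD R I P' := by
  intro h x hx
  obtain ⟨n, hn⟩ := H h (e.symm x) (fun g hg => by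
    obtain ⟨n, hn⟩ := hx g hg
    exact ⟨n, by rw [← map_smul, hn, map_zero]⟩)
  refine ⟨n, ?_⟩
  rw [← map_smul] at hn
  exact (LinearEquiv.map_eq_zero_iff _).mp hn

/-- pulling back `TSD` along a semilinear injection. -/
theorem TSD.of_injective {R' : Type*} [CommRing R'] {P' : Type*} [AddCommGroup P'] [Module R' P']
    (e : R' →+* R) (eP : P' →+ P) (heP : ∀ (r : R') (x : P'), eP (r • x) = e r • eP x)
    (hinj : Function.Injective eP) (I' : Set R') (H : TSD R (e '' I') P) : TSD R' I' P' := by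
  intro h x hx
  obtain ⟨n, hn⟩ := H (e h) (eP x) (by
    rintro _ ⟨g, hg, rfl⟩
    obtain ⟨n, hn⟩ := hx g hg
    exact ⟨n, by rw [← map_mul, ← map_pow, ← heP, hn, map_zero]⟩)
  refine ⟨n, hinj ?_⟩
  rw [heP, map_pow, hn, map_zero]

/-- transport of `TSD` along a semilinear bijection. -/
theorem TSD.of_ringEquiv {R' : Type*} [CommRing R'] {P' : Type*} [AddCommGroup P'] [Module R' P']
    (e : R ≃+* R') (eP : P ≃+ P') (heP : ∀ (r : R) (x : P), eP (r • x) = e r • eP x)
    (I : Set R) (H : TSD R I P) : TSD R' (e '' I) P' := by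
  refine TSD.of_injective (R := R) (P := P) e.symm.toRingHom eP.symm.toAddMonoidHom ?_
    eP.symm.injective _ ?_
  · intro r x
    apply eP.injective
    show eP (eP.symm (r • x)) = eP (e.symm r • eP.symm x)
    rw [heP, AddEquiv.apply_symm_apply, AddEquiv.apply_symm_apply, RingEquiv.apply_symm_apply]
  · have : (e.symm.toRingHom '' (e '' I)) = I := by
      ext y
      constructor
      · rintro ⟨_, ⟨z, hz, rfl⟩, rfl⟩
        show e.symm (e z) ∈ I
        rwa [RingEquiv.symm_apply_apply]
      · intro hy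
        exact ⟨e y, ⟨y, hy, rfl⟩, e.symm_apply_apply y⟩
    rwa [this]

/-- link with `MHSD`. -/
theorem MHSD_iff_TSD {J : Type*} {N : J → Type*} [∀ j, AddCommGroup (N j)] [∀ j, Module R (N j)]
    (v : ∀ j, P →ₗ[R] N j) (b : J → R)
    (hv : ∀ j x, v j x = 0 ↔ ∃ k : ℕ, b j ^ k • x = 0) : MHSD R v ↔ TSD R (Set.range b) P := by
  have hequiv : ∀ (h : R) (x : P), (∀ j, ∃ n : ℕ, v j (h ^ n • x) = 0) ↔
      ∀ g ∈ Set.range b, ∃ n : ℕ, (g * h) ^ n • x = 0 := by
    intro h x
    constructor
    · rintro H _ ⟨j, rfl⟩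
      obtain ⟨n, hn⟩ := H j
      obtain ⟨k, hk⟩ := (hv j _).mp hn
      exact (exists_pow_mul_smul_iff _ _ _).mp ⟨n, k, hk⟩
    · intro H j
      obtain ⟨n, k, hk⟩ := (exists_pow_mul_smul_iff _ _ _).mpr (H (b j) ⟨j, rfl⟩)
      exact ⟨n, (hv j _).mpr ⟨k, hk⟩⟩
  constructor
  · intro H h x hx
    exact H h x ((hequiv h x).mpr hx)
  · intro H h x hx
    exact H h x ((hequiv h x).mp hx)

end basic

section loc
variable {R : Type u} [CommRing R] {P : Type u} [AddCommGroup P] [Module R P]

/-- the family of localization maps `P → P_g`, `g ∈ I`. -/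
noncomputable def locFam (I : Set R) (g : ↥I) :
    P →ₗ[R] LocalizedModule (Submonoid.powers (g : R)) P :=
  LocalizedModule.mkLinearMap (Submonoid.powers (g : R)) P

theorem locFam_eq_zero_iff (I : Set R) (g : ↥I) (x : P) :
    locFam I g x = 0 ↔ ∃ k : ℕ, (g : R) ^ k • x = 0 := by
  rw [locFam, IsLocalizedModule.eq_zero_iff (Submonoid.powers (g : R))]
  constructor
  · rintro ⟨⟨_, k, rfl⟩, hk⟩
    exact ⟨k, hk⟩
  · rintro ⟨k, hk⟩
    exact ⟨⟨_, k, rfl⟩, hk⟩

theorem MHSD_locFam_iff (I : Set R) : MHSD R (locFam (P := P) I) ↔ TSD R I P := by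
  rw [MHSD_iff_TSD (locFam (P := P) I) (fun g => (g : R)) (locFam_eq_zero_iff I)]
  rw [Subtype.range_coe]

variable {B' : Type u} [CommRing B'] [Algebra R B']

theorem baseChange_mk_eq_zero_iff (g : R) (x : B' ⊗[R] P) :
    (LocalizedModule.mkLinearMap (Submonoid.powers g) P).baseChange B' x = 0 ↔
      ∃ k : ℕ, (algebraMap R B' g) ^ k • x = 0 := by
  let S := Submonoid.powers g
  let ψ : P ⊗[R] B' →ₗ[R] LocalizedModule S P ⊗[R] B' :=
    TensorProduct.AlgebraTensorModule.rTensor R B' (LocalizedModule.mkLinearMap S P)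
  have key : ∀ y : B' ⊗[R] P, TensorProduct.comm R B' (LocalizedModule S P)
      ((LocalizedModule.mkLinearMap S P).baseChange B' y) = ψ (TensorProduct.comm R B' P y) := by
    intro y
    induction y using TensorProduct.induction_on with
    | zero => simp
    | tmul b p => simp [ψ]
    | add y z hy hz => rw [map_add, map_add, hy, hz, map_add, map_add]
  have h1 : (LocalizedModule.mkLinearMap S P).baseChange B' x = 0 ↔
      ψ (TensorProduct.comm R B' P x) = 0 := by
    rw [← key, LinearEquiv.map_eq_zero_iff]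
  rw [h1, IsLocalizedModule.eq_zero_iff S ψ]
  have h2 : ∀ k : ℕ, (algebraMap R B' g) ^ k • x = 0 ↔ g ^ k • TensorProduct.comm R B' P x = 0 := by
    intro k
    rw [← map_pow, algebraMap_smul, ← map_smul, LinearEquiv.map_eq_zero_iff]
  constructor
  · rintro ⟨⟨_, k, rfl⟩, hk⟩
    exact ⟨k, (h2 k).mpr hk⟩
  · rintro ⟨k, hk⟩
    exact ⟨⟨_, k, rfl⟩, (h2 k).mp hk⟩

theorem MHSD_locFam_baseChange_iff (I : Set R) :
    MHSD B' (fun g => (locFam (P := P) I g).baseChange B') ↔
      TSD B' (algebraMap R B' '' I) (B' ⊗[R] P) := by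
  rw [MHSD_iff_TSD (fun g => (locFam (P := P) I g).baseChange B')
    (fun g => algebraMap R B' (g : R)) (fun g x => baseChange_mk_eq_zero_iff (g : R) x)]
  have : Set.range (fun g : ↥I => algebraMap R B' (g : R)) = algebraMap R B' '' I := by
    ext y
    constructor
    · rintro ⟨g, rfl⟩
      exact ⟨g, g.2, rfl⟩
    · rintro ⟨g, hg, rfl⟩
      exact ⟨⟨g, hg⟩, rfl⟩
  rw [this]

/-- a localization of a `C`-flat module is `C`-flat. -/
theorem flat_localizedModule {C : Type u} [CommRing C] [Algebra C R] [Module C P]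
    [IsScalarTower C R P] [Module.Flat C P] (S : Submonoid R) :
    Module.Flat C (LocalizedModule S P) := by
  rw [Module.Flat.iff_lTensor_preserves_injective_linearMap]
  intro N N' _ _ _ _ f hf
  have h1 : Function.Injective (TensorProduct.AlgebraTensorModule.lTensor R P f) :=
    Module.Flat.lTensor_preserves_injective_linearMap f hf
  have h2 := IsLocalizedModule.map_injective S
    (TensorProduct.AlgebraTensorModule.rTensor C N (LocalizedModule.mkLinearMap S P))
    (TensorProduct.AlgebraTensorModule.rTensor C N' (LocalizedModule.mkLinearMap S P))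
    (TensorProduct.AlgebraTensorModule.lTensor R P f) h1
  rw [IsLocalizedModule.map_lTensor] at h2
  exact h2

end loc

end Groth.Agent.Lib.Helper4.TorsSD
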