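import Mathlib
import Groth.Agent.Lib.Helper4UnivSepB
/-!
# helper4: pointwise version of `noeth_fibre_mod`
-/

set_option autoImplicit false
set_option linter.style.haveILetI false
universe u v w
namespace Groth.Agent.Lib.Helper4.UnivSep
open TensorProduct
open Groth.Agent.Lib.Helper4.SepFam Groth.Agent.Lib.Helper4.UnivSchDom

section fibre
variable {C : Type u} [CommRing C] {A : Type u} [CommRing A] [Algebra C A]
  {M : Type u} [AddCommGroup M] [Module A M] [Module C M] [IsScalarTower C A M]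
  {J : Type w} {N : J → Type u} [∀ j, AddCommGroup (N j)] [∀ j, Module A (N j)]
  [∀ j, Module C (N j)] [∀ j, IsScalarTower C A (N j)] (u : ∀ j, M →ₗ[A] N j)

set_option maxHeartbeats 800000 in
/-- **Noetherian total space, pointwise fibrewise criterion for modules.** If `t` is not killed by a
power of `h` at the prime `𝔮` (`Ann t ≤ 𝔮`, `h ∉ 𝔮`), the family cannot be separating on the fibre
through `𝔮`. -/
theorem noeth_fibre_mod_at [IsNoetherianRing A] [Module.Finite A M] [∀ j, Module.Flat C (N j)]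
    (h : A) (t : M) (ht : ∀ j, ∃ n : ℕ, u j (h ^ n • t) = 0)
    (𝔮 : Ideal A) [h𝔮 : 𝔮.IsPrime] (hle : ∀ x : A, x • t = 0 → x ∈ 𝔮) (hh𝔮 : h ∉ 𝔮)
    (FH : ∀ (𝔭 : Ideal C) [𝔭.IsPrime], 𝔭 = 𝔮.comap (algebraMap C A) →
      PureSD C 𝔭.ResidueField u) : False := by
  classical
  have ht0 : LocalizedModule.mkLinearMap 𝔮.primeCompl M t ≠ 0 := by
    intro h0
    rw [IsLocalizedModule.eq_zero_iff 𝔮.primeCompl] at h0
    obtain ⟨c, hc⟩ := h0
    exact c.2 (hle _ hc)
  -- the prime of `C`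
  let 𝔭 : Ideal C := 𝔮.comap (algebraMap C A)
  haveI : 𝔭.IsPrime := Ideal.comap_isPrime _ _
  let I : Ideal (Localization.AtPrime 𝔮) := 𝔭.map (algebraMap C (Localization.AtPrime 𝔮))
  have hImax : I ≤ IsLocalRing.maximalIdeal (Localization.AtPrime 𝔮) := by
    rw [Ideal.map_le_iff_le_comap]
    intro c hc
    rw [Ideal.mem_comap, IsScalarTower.algebraMap_apply C A (Localization.AtPrime 𝔮),
      IsLocalization.AtPrime.to_map_mem_maximal_iff (Localization.AtPrime 𝔮) 𝔮]
    exact hc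
  have hItop : I ≠ ⊤ := fun h => (IsLocalRing.maximalIdeal.isMaximal _).ne_top
    (top_le_iff.mp (h ▸ hImax))
  have hkrull := Ideal.iInf_pow_smul_eq_bot_of_isLocalRing (R := Localization.AtPrime 𝔮)
    (M := LocalizedModule 𝔮.primeCompl M) I hItop
  have hn : ∃ n : ℕ, LocalizedModule.mkLinearMap 𝔮.primeCompl M t ∉
      I ^ (n + 1) • (⊤ : Submodule (Localization.AtPrime 𝔮) (LocalizedModule 𝔮.primeCompl M)) := by
    by_contra hcon
    push Not at hcon
    apply ht0
    have : LocalizedModule.mkLinearMap 𝔮.primeCompl M t ∈ (⨅ i : ℕ, I ^ i •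
        (⊤ : Submodule (Localization.AtPrime 𝔮) (LocalizedModule 𝔮.primeCompl M))) := by
      rw [Submodule.mem_iInf]
      intro i
      exact (Submodule.smul_mono (Ideal.pow_le_pow_right (Nat.le_succ i)) le_rfl) (hcon i)
    rwa [hkrull, Submodule.mem_bot] at this
  obtain ⟨n, hn⟩ := hn
  obtain ⟨m, hm⟩ := nil_fibre_mod u 𝔭 (FH 𝔭 rfl) n h t ht
  -- the comparison map `Thick 𝔭 n → A_𝔮 / I^(n+1)`
  let f1r : Localization.AtPrime 𝔭 →+* Localization.AtPrime 𝔮 :=
    Localization.localRingHom 𝔭 𝔮 (algebraMap C A) rfl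
  have hf1 : ∀ c : C, f1r (algebraMap C _ c) = algebraMap C (Localization.AtPrime 𝔮) c := by
    intro c
    rw [Localization.localRingHom_to_map, ← IsScalarTower.algebraMap_apply]
  let f0 : Localization.AtPrime 𝔭 →+* (Localization.AtPrime 𝔮 ⧸ I ^ (n + 1)) :=
    (Ideal.Quotient.mk (I ^ (n + 1))).comp f1r
  have hf0 : ∀ a ∈ (IsLocalRing.maximalIdeal (Localization.AtPrime 𝔭)) ^ (n + 1), f0 a = 0 := by
    intro a ha
    show Ideal.Quotient.mk _ (f1r a) = 0
    rw [Ideal.Quotient.eq_zero_iff_mem]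
    have hle2 : (IsLocalRing.maximalIdeal (Localization.AtPrime 𝔭)) ^ (n + 1) ≤
        (I ^ (n + 1)).comap f1r := by
      rw [← IsLocalization.AtPrime.map_eq_maximalIdeal 𝔭 (Localization.AtPrime 𝔭),
        ← Ideal.map_pow, Ideal.map_le_iff_le_comap, Ideal.comap_comap]
      intro c hc
      rw [Ideal.mem_comap, RingHom.comp_apply, hf1]
      rw [← Ideal.map_pow]
      exact Ideal.mem_map_of_mem _ hc
    exact hle2 ha
  let fT : Thick 𝔭 n →+* (Localization.AtPrime 𝔮 ⧸ I ^ (n + 1)) :=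
    Ideal.Quotient.lift _ f0 hf0
  have hfT : ∀ c : C, fT (algebraMap C (Thick 𝔭 n) c) =
      Ideal.Quotient.mk _ (algebraMap C (Localization.AtPrime 𝔮) c) := by
    intro c
    have : algebraMap C (Thick 𝔭 n) c =
        Ideal.Quotient.mk _ (algebraMap C (Localization.AtPrime 𝔭) c) := rfl
    rw [this, Ideal.Quotient.lift_mk]
    show Ideal.Quotient.mk _ (f1r _) = _
    rw [hf1]
  -- the map to `M_𝔮 / I^(n+1) M_𝔮`
  let Y := LocalizedModule 𝔮.primeCompl M ⧸
    (I ^ (n + 1) • (⊤ : Submodule (Localization.AtPrime 𝔮) (LocalizedModule 𝔮.primeCompl M)))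
  let g : M →+ Y := (Submodule.mkQ _).toAddMonoidHom.comp
    (LocalizedModule.mkLinearMap 𝔮.primeCompl M).toAddMonoidHom
  have hg : ∀ (c : C) (x : M), g (c • x) =
      Ideal.Quotient.mk (I ^ (n + 1)) (algebraMap C (Localization.AtPrime 𝔮) c) • g x := by
    intro c x
    show Submodule.Quotient.mk (LocalizedModule.mkLinearMap 𝔮.primeCompl M (c • x)) =
      Ideal.Quotient.mk (I ^ (n + 1)) (algebraMap C (Localization.AtPrime 𝔮) c) •
        Submodule.Quotient.mk (LocalizedModule.mkLinearMap 𝔮.primeCompl M x)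
    rw [Module.Quotient.mk_smul_mk, ← algebraMap_smul A c x, map_smul,
      IsScalarTower.algebraMap_apply C A (Localization.AtPrime 𝔮),
      algebraMap_smul (Localization.AtPrime 𝔮) (algebraMap C A c)
        (LocalizedModule.mkLinearMap 𝔮.primeCompl M x)]
  let β : Thick 𝔭 n →+ M →+ Y :=
    ((smulAddHom (Localization.AtPrime 𝔮 ⧸ I ^ (n + 1)) Y).comp fT.toAddMonoidHom).compl₂ g
  have hβ : ∀ (l : Thick 𝔭 n) (x : M), β l x = fT l • g x := fun l x => rfl
  let Θ : Thick 𝔭 n ⊗[C] M →+ Y := TensorProduct.liftAddHom β (fun c l x => by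
    rw [hβ, hβ, hg, Algebra.smul_def, map_mul, hfT, mul_comm, mul_smul])
  have hΘ : Θ ((1 : Thick 𝔭 n) ⊗ₜ[C] (h ^ m • t)) = g (h ^ m • t) := by
    show β 1 (h ^ m • t) = _
    rw [hβ, map_one, one_smul]
  rw [hm, map_zero] at hΘ
  have hmem : LocalizedModule.mkLinearMap 𝔮.primeCompl M (h ^ m • t) ∈
      I ^ (n + 1) • (⊤ : Submodule (Localization.AtPrime 𝔮) (LocalizedModule 𝔮.primeCompl M)) :=
    (Submodule.Quotient.mk_eq_zero _).mp hΘ.symm
  rw [map_smul, ← algebraMap_smul (Localization.AtPrime 𝔮), map_pow] at hmem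
  have hunit : IsUnit (algebraMap A (Localization.AtPrime 𝔮) h) :=
    IsLocalization.map_units _ (⟨h, hh𝔮⟩ : 𝔮.primeCompl)
  obtain ⟨w, hw⟩ := hunit.pow m
  apply hn
  have := Submodule.smul_mem _ (↑w⁻¹ : Localization.AtPrime 𝔮) hmem
  rwa [← hw, smul_smul, Units.inv_mul, one_smul] at this

end fibre

end Groth.Agent.Lib.Helper4.UnivSep
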