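import Mathlib
import Groth.Agent.Lib.Helper4TSDA
import Groth.Agent.Lib.Helper4UnivSepH
import Groth.Agent.Lib.Helper4UnivSepE

set_option autoImplicit false
set_option linter.style.haveILetI false
universe u v w
namespace Groth.Agent.Lib.Helper4.TorsSD
open TensorProduct
open Groth.Agent.Lib.Helper4.SepFam Groth.Agent.Lib.Helper4.UnivSchDom
open Groth.Agent.Lib.Helper4.UnivSep

attribute [local instance] Algebra.TensorProduct.rightAlgebra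

section model
variable {C₀ : Type u} [CommRing C₀] {A₀ : Type u} [CommRing A₀] [Algebra C₀ A₀]
  {M₀ : Type u} [AddCommGroup M₀] [Module A₀ M₀]

/-- elements of the base change to `E` come from a finitely generated subalgebra (finitely many ring
elements and one module element). -/
theorem exists_fg_subalgebra_mod' (E : Type u) [CommRing E] [Algebra C₀ E]
    (T : Finset (E ⊗[C₀] A₀)) (m : (E ⊗[C₀] A₀) ⊗[A₀] M₀) :
    ∃ E₀ : Subalgebra C₀ E, E₀.FG ∧ (∀ x ∈ T, ∃ y, ιA (A := A₀) E₀.val y = x) ∧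
      ∃ m₀, eP (A := A₀) E₀.val M₀ m₀ = m := by
  classical
  obtain ⟨T', hT'⟩ := TensorProduct.exists_finset m
  obtain ⟨E₀, hfg, hmem⟩ := exists_fg_subalgebra_mem_range_left (C := C₀) (A := A₀) (C' := E)
    (T ∪ T'.image Prod.fst)
  have hιr : ∀ x ∈ T ∪ T'.image Prod.fst, ∃ y : E₀ ⊗[C₀] A₀, ιA (A := A₀) E₀.val y = x := by
    intro x hx
    obtain ⟨y, hy⟩ := hmem x hx
    exact ⟨y, hy⟩
  choose! pre hpre using hιr
  refine ⟨E₀, hfg, fun x hx => ⟨pre x, hpre x (Finset.mem_union_left _ hx)⟩,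
    ∑ i ∈ T', pre i.1 ⊗ₜ[A₀] i.2, ?_⟩
  rw [map_sum, hT']
  refine Finset.sum_congr rfl fun i hi => ?_
  rw [eP_tmul, hpre i.1 (Finset.mem_union_right _ (Finset.mem_image_of_mem _ hi))]

section transport
variable (E₁ : Type u) [CommRing E₁] [Algebra C₀ E₁] (K : Type u) [CommRing K] [Algebra C₀ K]
  [Algebra E₁ K] [IsScalarTower C₀ E₁ K]

/-- the canonical identification `K ⊗[E₁] (E₁ ⊗[C₀] A₀) ≃ K ⊗[C₀] A₀` sends `1 ⊗ y` to the image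
of `y`. -/
theorem cancelBaseChange_one_tmul (y : E₁ ⊗[C₀] A₀) :
    Algebra.TensorProduct.cancelBaseChange C₀ E₁ K K A₀ ((1 : K) ⊗ₜ[E₁] y) =
      ιA (A := A₀) (IsScalarTower.toAlgHom C₀ E₁ K) y := by
  induction y using TensorProduct.induction_on with
  | zero => simp
  | tmul e a =>
    rw [Algebra.TensorProduct.cancelBaseChange_tmul, ιA_tmul, Algebra.smul_def, mul_one]
    rfl
  | add y z hy hz => rw [TensorProduct.tmul_add, map_add, hy, hz, map_add]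

set_option maxHeartbeats 800000 in
/-- **Transport**: `TSD` on the fibre `K ⊗[C₀] A₀` gives `Sep` over the base `E₁` for the family of
localization maps. -/
theorem Sep_locFam_of_TSD (I₁ : Set (E₁ ⊗[C₀] A₀))
    (H : TSD (K ⊗[C₀] A₀) (ιA (A := A₀) (IsScalarTower.toAlgHom C₀ E₁ K) '' I₁)
      ((K ⊗[C₀] A₀) ⊗[A₀] M₀)) :
    Sep E₁ (locFam (P := (E₁ ⊗[C₀] A₀) ⊗[A₀] M₀) I₁) K := by
  unfold UnivSep.Sep
  rw [MHSD_locFam_baseChange_iff]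
  letI : Algebra A₀ (K ⊗[E₁] (E₁ ⊗[C₀] A₀)) :=
    ((algebraMap (E₁ ⊗[C₀] A₀) (K ⊗[E₁] (E₁ ⊗[C₀] A₀))).comp
      (algebraMap A₀ (E₁ ⊗[C₀] A₀))).toAlgebra
  haveI : IsScalarTower A₀ (E₁ ⊗[C₀] A₀) (K ⊗[E₁] (E₁ ⊗[C₀] A₀)) :=
    IsScalarTower.of_algebraMap_eq' rfl
  let e0 : K ⊗[E₁] (E₁ ⊗[C₀] A₀) ≃ₐ[K] K ⊗[C₀] A₀ :=
    Algebra.TensorProduct.cancelBaseChange C₀ E₁ K K A₀
  let e : K ⊗[E₁] (E₁ ⊗[C₀] A₀) ≃ₐ[A₀] K ⊗[C₀] A₀ :=
    AlgEquiv.ofRingEquiv (f := e0.toRingEquiv) (fun a => by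
      show e0 ((1 : K) ⊗ₜ[E₁] ((1 : E₁) ⊗ₜ[C₀] a)) = (1 : K) ⊗ₜ[C₀] a
      simp [e0])
  let Φ₁ : (K ⊗[E₁] (E₁ ⊗[C₀] A₀)) ⊗[E₁ ⊗[C₀] A₀] ((E₁ ⊗[C₀] A₀) ⊗[A₀] M₀) ≃ₗ[A₀]
      (K ⊗[E₁] (E₁ ⊗[C₀] A₀)) ⊗[A₀] M₀ :=
    (TensorProduct.AlgebraTensorModule.cancelBaseChange A₀ (E₁ ⊗[C₀] A₀)
      (K ⊗[E₁] (E₁ ⊗[C₀] A₀)) (K ⊗[E₁] (E₁ ⊗[C₀] A₀)) M₀).restrictScalars A₀
  let Φ₂ : (K ⊗[E₁] (E₁ ⊗[C₀] A₀)) ⊗[A₀] M₀ ≃ₗ[A₀] (K ⊗[C₀] A₀) ⊗[A₀] M₀ :=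
    TensorProduct.congr e.toLinearEquiv (LinearEquiv.refl A₀ M₀)
  have hΦ₁ : ∀ (r : K ⊗[E₁] (E₁ ⊗[C₀] A₀))
      (x : (K ⊗[E₁] (E₁ ⊗[C₀] A₀)) ⊗[E₁ ⊗[C₀] A₀] ((E₁ ⊗[C₀] A₀) ⊗[A₀] M₀)),
      Φ₁ (r • x) = r • Φ₁ x := fun r x =>
    (TensorProduct.AlgebraTensorModule.cancelBaseChange A₀ (E₁ ⊗[C₀] A₀)
      (K ⊗[E₁] (E₁ ⊗[C₀] A₀)) (K ⊗[E₁] (E₁ ⊗[C₀] A₀)) M₀).map_smul r x
  have hΦ₂ : ∀ (r : K ⊗[E₁] (E₁ ⊗[C₀] A₀)) (x : (K ⊗[E₁] (E₁ ⊗[C₀] A₀)) ⊗[A₀] M₀),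
      Φ₂ (r • x) = e0 r • Φ₂ x := by
    intro r x
    induction x using TensorProduct.induction_on with
    | zero => simp
    | tmul r' m =>
      rw [TensorProduct.smul_tmul', TensorProduct.congr_tmul, TensorProduct.congr_tmul,
        TensorProduct.smul_tmul', smul_eq_mul, smul_eq_mul]
      congr 1
      exact map_mul e0 r r'
    | add x z hx hz => rw [smul_add, map_add, hx, hz, map_add, smul_add]
  have hsemi : ∀ (r : K ⊗[C₀] A₀) (x : (K ⊗[C₀] A₀) ⊗[A₀] M₀),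
      (Φ₁.trans Φ₂).symm (r • x) = e0.symm r • (Φ₁.trans Φ₂).symm x := by
    intro r x
    apply (Φ₁.trans Φ₂).injective
    rw [LinearEquiv.apply_symm_apply, LinearEquiv.trans_apply, hΦ₁, hΦ₂,
      ← LinearEquiv.trans_apply, LinearEquiv.apply_symm_apply, AlgEquiv.apply_symm_apply]
  have key := TSD.of_ringEquiv (R := K ⊗[C₀] A₀) (P := (K ⊗[C₀] A₀) ⊗[A₀] M₀)
    (R' := K ⊗[E₁] (E₁ ⊗[C₀] A₀))
    (P' := (K ⊗[E₁] (E₁ ⊗[C₀] A₀)) ⊗[E₁ ⊗[C₀] A₀] ((E₁ ⊗[C₀] A₀) ⊗[A₀] M₀))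
    e0.symm.toRingEquiv (Φ₁.trans Φ₂).symm.toAddEquiv
    (fun r x => hsemi r x) _ H
  have hset : (e0.symm.toRingEquiv '' (ιA (A := A₀) (IsScalarTower.toAlgHom C₀ E₁ K) '' I₁)) =
      algebraMap (E₁ ⊗[C₀] A₀) (K ⊗[E₁] (E₁ ⊗[C₀] A₀)) '' I₁ := by
    rw [Set.image_image]
    refine Set.image_congr fun y _ => ?_
    show e0.symm (ιA (A := A₀) (IsScalarTower.toAlgHom C₀ E₁ K) y) = (1 : K) ⊗ₜ[E₁] y
    rw [← cancelBaseChange_one_tmul E₁ K y]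
    exact e0.symm_apply_apply _
  rw [hset] at key
  exact key

end transport

theorem ιA_comp {E₁ E₂ E₃ : Type u} [CommRing E₁] [CommRing E₂] [CommRing E₃] [Algebra C₀ E₁]
    [Algebra C₀ E₂] [Algebra C₀ E₃] (φ : E₁ →ₐ[C₀] E₂) (ψ : E₂ →ₐ[C₀] E₃) (x : E₁ ⊗[C₀] A₀) :
    ιA (A := A₀) (ψ.comp φ) x = ιA (A := A₀) ψ (ιA (A := A₀) φ x) := by
  induction x using TensorProduct.induction_on with
  | zero => simp
  | tmul e a => simp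
  | add x y hx hy => rw [map_add, hx, hy, map_add, map_add]

section MF
variable [Module C₀ M₀] [IsScalarTower C₀ A₀ M₀]

set_option maxHeartbeats 1600000 in
set_option synthInstance.maxHeartbeats 400000 in
/-- **Fibrewise criterion, model form.** `C₀` Noetherian, `A₀` of finite type over `C₀`, `M₀` a
finite `A₀`-module flat over `C₀`. For any `C₀`-algebra `E` and any set `I ⊆ E ⊗ A₀`: if `D(I)` is
schematically dense w.r.t. `M₀` on all fibres over `Spec E`, then it is so on `Spec (E ⊗ A₀)`. -/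
theorem TSD_of_fibres_model [IsNoetherianRing C₀] [Algebra.FiniteType C₀ A₀] [Module.Finite A₀ M₀]
    [Module.Flat C₀ M₀] (E : Type u) [CommRing E] [Algebra C₀ E] (I : Set (E ⊗[C₀] A₀))
    (FH : ∀ (s : Ideal E) [s.IsPrime], ∃ (K : Type u) (_ : Field K) (_ : Algebra C₀ K)
      (_ : Algebra E K) (_ : IsScalarTower C₀ E K), RingHom.ker (algebraMap E K) = s ∧
      TSD (K ⊗[C₀] A₀) (ιA (A := A₀) (IsScalarTower.toAlgHom C₀ E K) '' I)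
        ((K ⊗[C₀] A₀) ⊗[A₀] M₀)) :
    TSD (E ⊗[C₀] A₀) I ((E ⊗[C₀] A₀) ⊗[A₀] M₀) := by
  classical
  intro h m hm
  by_contra hne
  push Not at hne
  -- a prime `𝔔` containing the annihilator of `m` and not `h`
  let It : Ideal (E ⊗[C₀] A₀) :=
    LinearMap.ker (LinearMap.toSpanSingleton (E ⊗[C₀] A₀) ((E ⊗[C₀] A₀) ⊗[A₀] M₀) m)
  have hIt : ∀ x, x ∈ It ↔ x • m = 0 := fun x => by
    simp only [It, LinearMap.mem_ker, LinearMap.toSpanSingleton_apply]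
  have hrad : h ∉ It.radical := by
    rintro ⟨n, hn⟩
    exact hne n ((hIt _).mp hn)
  rw [Ideal.radical_eq_sInf, Ideal.mem_sInf] at hrad
  push Not at hrad
  obtain ⟨𝔔, ⟨hle, h𝔔⟩, hh𝔔⟩ := hrad
  haveI := h𝔔
  let s : Ideal E := 𝔔.comap (algebraMap E (E ⊗[C₀] A₀))
  haveI : s.IsPrime := Ideal.comap_isPrime _ _
  obtain ⟨K, _, _, _, _, hker, HK⟩ := FH s
  let φK : E →ₐ[C₀] K := IsScalarTower.toAlgHom C₀ E K
  haveI : IsNoetherianRing (K ⊗[C₀] A₀) := Algebra.FiniteType.isNoetherianRing K (K ⊗[C₀] A₀)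
  -- finitely many elements of `I` generate the ideal on the fibre
  have hfg : (Ideal.span (ιA (A := A₀) φK '' I)).FG := IsNoetherian.noetherian _
  obtain ⟨T', hT'sub, hT'span⟩ := (Submodule.fg_span_iff_fg_span_finset_subset _).mp hfg
  obtain ⟨T, hTsub, hTimg⟩ := Finset.subset_set_image_iff.mp hT'sub
  -- a finitely generated subalgebra
  obtain ⟨E₁, hEfg, hpre, m₀, hm₀⟩ := exists_fg_subalgebra_mod' (M₀ := M₀) E (insert h T) m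
  obtain ⟨h₀, hh₀⟩ := hpre h (Finset.mem_insert_self _ _)
  haveI : Algebra.FiniteType C₀ E₁ := (Subalgebra.fg_iff_finiteType E₁).mp hEfg
  haveI : IsNoetherianRing E₁ := Algebra.FiniteType.isNoetherianRing C₀ E₁
  haveI : IsNoetherianRing (E₁ ⊗[C₀] A₀) :=
    Algebra.FiniteType.isNoetherianRing E₁ (E₁ ⊗[C₀] A₀)
  haveI : Module.Flat E₁ ((E₁ ⊗[C₀] A₀) ⊗[A₀] M₀) :=
    Module.Flat.of_linearEquiv (Algebra.IsPushout.cancelBaseChange C₀ E₁ A₀ (E₁ ⊗[C₀] A₀) M₀)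
  let I₁ : Set (E₁ ⊗[C₀] A₀) := (ιA (A := A₀) E₁.val) ⁻¹' I
  haveI : ∀ g : ↥I₁, Module.Flat E₁ (LocalizedModule (Submonoid.powers (g : E₁ ⊗[C₀] A₀))
      ((E₁ ⊗[C₀] A₀) ⊗[A₀] M₀)) := fun g =>
    flat_localizedModule (C := E₁) (R := E₁ ⊗[C₀] A₀) (P := (E₁ ⊗[C₀] A₀) ⊗[A₀] M₀)
      (Submonoid.powers (g : E₁ ⊗[C₀] A₀))
  have hinj : Function.Injective (eP (A := A₀) E₁.val M₀) :=
    eP_injective E₁.val M₀
      (Module.Flat.rTensor_preserves_injective_linearMap _ Subtype.val_injective)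
  let 𝔮 : Ideal (E₁ ⊗[C₀] A₀) := 𝔔.comap (ιA (A := A₀) E₁.val)
  haveI : 𝔮.IsPrime := Ideal.comap_isPrime _ _
  refine noeth_fibre_mod_at (C := E₁) (A := E₁ ⊗[C₀] A₀) (M := (E₁ ⊗[C₀] A₀) ⊗[A₀] M₀)
    (locFam I₁) h₀ m₀ ?_ 𝔮 ?_ ?_ ?_
  · intro g
    obtain ⟨n, hn⟩ := hm (ιA (A := A₀) E₁.val g) g.2
    have h0 : ((g : E₁ ⊗[C₀] A₀) * h₀) ^ n • m₀ = 0 := by
      apply hinj
      rw [map_zero, eP_smul, map_pow, map_mul, hh₀, hm₀]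
      exact hn
    obtain ⟨n', k, hk⟩ := (exists_pow_mul_smul_iff (g : E₁ ⊗[C₀] A₀) h₀ m₀).mpr ⟨n, h0⟩
    exact ⟨n', (locFam_eq_zero_iff I₁ g _).mpr ⟨k, hk⟩⟩
  · intro x hx
    show ιA (A := A₀) E₁.val x ∈ 𝔔
    apply hle
    show ιA (A := A₀) E₁.val x ∈ It
    rw [hIt, ← hm₀, ← eP_smul, hx, map_zero]
  · show ιA (A := A₀) E₁.val h₀ ∉ 𝔔
    rw [hh₀]
    exact hh𝔔
  · intro t _ ht
    refine PureSD_of_Sep _ t.ResidueField ?_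
    refine Sep_residueField_of_ker _ t K ?_ ?_
    · -- the kernel
      ext e
      rw [RingHom.mem_ker, ht, Ideal.mem_comap]
      show algebraMap E K (e : E) = 0 ↔ ιA (A := A₀) E₁.val (algebraMap E₁ (E₁ ⊗[C₀] A₀) e) ∈ 𝔔
      rw [← RingHom.mem_ker, hker]
      show algebraMap E (E ⊗[C₀] A₀) (e : E) ∈ 𝔔 ↔ _
      have : ιA (A := A₀) E₁.val (algebraMap E₁ (E₁ ⊗[C₀] A₀) e) =
          algebraMap E (E ⊗[C₀] A₀) (e : E) := by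
        show ιA (A := A₀) E₁.val (e ⊗ₜ[C₀] (1 : A₀)) = (e : E) ⊗ₜ[C₀] (1 : A₀)
        rw [ιA_tmul]
        rfl
      rw [this]
    · refine Sep_locFam_of_TSD (M₀ := M₀) E₁ K I₁ ?_
      refine TSD.of_span_eq ?_ HK
      have hcomp : ∀ y : E₁ ⊗[C₀] A₀, ιA (A := A₀) (IsScalarTower.toAlgHom C₀ E₁ K) y =
          ιA (A := A₀) φK (ιA (A := A₀) E₁.val y) := by
        intro y
        rw [← ιA_comp]
        rfl
      have hT'span' : Ideal.span (ιA (A := A₀) (IsScalarTower.toAlgHom C₀ E K) '' I) =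
          Ideal.span (T' : Set (K ⊗[C₀] A₀)) := hT'span
      apply le_antisymm
      · rw [hT'span', Ideal.span_le]
        intro z hz
        rw [← hTimg] at hz
        obtain ⟨x, hxT, rfl⟩ := Finset.mem_image.mp (Finset.mem_coe.mp hz)
        obtain ⟨y, hy⟩ := hpre x (Finset.mem_insert_of_mem hxT)
        refine Ideal.subset_span ⟨y, ?_, ?_⟩
        · show ιA (A := A₀) E₁.val y ∈ I
          rw [hy]
          exact hTsub hxT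
        · rw [hcomp, hy]
      · rw [Ideal.span_le]
        rintro _ ⟨y, hy, rfl⟩
        rw [hcomp]
        exact Ideal.subset_span ⟨_, hy, rfl⟩

end MF

end model

end Groth.Agent.Lib.Helper4.TorsSD
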