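import Mathlib
import Groth.Agent.Lib.Helper4TSDB

set_option autoImplicit false
set_option linter.style.haveILetI false
universe u v w
namespace Groth.Agent.Lib.Helper4.TorsSD
open TensorProduct
open Groth.Agent.Lib.Helper4.SepFam Groth.Agent.Lib.Helper4.UnivSchDom
open Groth.Agent.Lib.Helper4.UnivSep

attribute [local instance] Algebra.TensorProduct.rightAlgebra

section fromModel
variable {C₀ : Type u} [CommRing C₀] {A₀ : Type u} [CommRing A₀] [Algebra C₀ A₀]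
  {C : Type u} [CommRing C] [Algebra C₀ C] {A : Type u} [CommRing A] [Algebra C A]
  [Algebra A₀ A] [Algebra C₀ A] [IsScalarTower C₀ C A] [IsScalarTower C₀ A₀ A]
  [hpo : Algebra.IsPushout C₀ C A₀ A]
  (E : Type u) [CommRing E] [Algebra C E] [Algebra C₀ E] [IsScalarTower C₀ C E]

/-- the comparison `E ⊗[C₀] A₀ ≃ E ⊗[C] A` for a model `A = C ⊗[C₀] A₀`. -/
noncomputable def rhoE : E ⊗[C₀] A₀ ≃ₐ[E] E ⊗[C] A :=
  (Algebra.TensorProduct.cancelBaseChange C₀ C E E A₀).symm.trans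
    (Algebra.TensorProduct.congr (AlgEquiv.refl : E ≃ₐ[E] E) (Algebra.IsPushout.equiv C₀ C A₀ A))

theorem rhoE_tmul (e : E) (a₀ : A₀) :
    rhoE (C := C) (A := A) E (e ⊗ₜ[C₀] a₀) = e ⊗ₜ[C] algebraMap A₀ A a₀ := by
  simp [rhoE, Algebra.IsPushout.equiv_tmul]

omit [IsScalarTower C₀ A₀ A] [IsScalarTower C₀ C A] hpo in
theorem ιA_restrict_tmul (K : Type u) [CommRing K] [Algebra C K] [Algebra C₀ K]
    [IsScalarTower C₀ C K] (φ : E →ₐ[C] K) (e : E) (a₀ : A₀) :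
    ιA (A := A₀) (φ.restrictScalars C₀) (e ⊗ₜ[C₀] a₀) = φ e ⊗ₜ[C₀] a₀ := by
  rw [ιA_tmul]
  rfl

theorem rhoE_nat (K : Type u) [CommRing K] [Algebra C K] [Algebra C₀ K] [IsScalarTower C₀ C K]
    (φ : E →ₐ[C] K) (y : E ⊗[C₀] A₀) :
    rhoE (C := C) (A := A) K (ιA (A := A₀) (φ.restrictScalars C₀) y) =
      ιA (A := A) φ (rhoE (C := C) (A := A) E y) := by
  induction y using TensorProduct.induction_on with
  | zero => simp
  | tmul e a₀ => rw [ιA_restrict_tmul, rhoE_tmul, rhoE_tmul, ιA_tmul]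
  | add x y hx hy => rw [map_add, map_add, hx, hy, map_add, map_add]

section sigma
variable {M₀ : Type u} [AddCommGroup M₀] [Module A₀ M₀] {M : Type u} [AddCommGroup M] [Module A M]
  [Module A₀ M] [IsScalarTower A₀ A M] {f : M₀ →ₗ[A₀] M} (hf : IsBaseChange A f)

include hf in
set_option maxHeartbeats 800000 in
/-- the comparison of modules `(E ⊗[C₀] A₀) ⊗[A₀] M₀ ≃ (E ⊗[C] A) ⊗[A] M`, semilinear over
`rhoE`. -/
theorem exists_sigmaE :
    ∃ σ : (E ⊗[C₀] A₀) ⊗[A₀] M₀ ≃+ (E ⊗[C] A) ⊗[A] M,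
      ∀ (r : E ⊗[C₀] A₀) (x : (E ⊗[C₀] A₀) ⊗[A₀] M₀),
        σ (r • x) = rhoE (C := C) (A := A) E r • σ x := by
  letI : Algebra A₀ (E ⊗[C] A) :=
    ((algebraMap A (E ⊗[C] A)).comp (algebraMap A₀ A)).toAlgebra
  haveI : IsScalarTower A₀ A (E ⊗[C] A) := IsScalarTower.of_algebraMap_eq' rfl
  let ρ : E ⊗[C₀] A₀ ≃ₐ[A₀] E ⊗[C] A :=
    AlgEquiv.ofRingEquiv (f := (rhoE (C := C) (A := A) E).toRingEquiv) (fun a₀ => by
      show rhoE (C := C) (A := A) E ((1 : E) ⊗ₜ[C₀] a₀) = (1 : E) ⊗ₜ[C] algebraMap A₀ A a₀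
      rw [rhoE_tmul])
  let Φ₁ : (E ⊗[C₀] A₀) ⊗[A₀] M₀ ≃ₗ[A₀] (E ⊗[C] A) ⊗[A₀] M₀ :=
    TensorProduct.congr ρ.toLinearEquiv (LinearEquiv.refl A₀ M₀)
  let Φ₂ : (E ⊗[C] A) ⊗[A₀] M₀ ≃ₗ[E ⊗[C] A] (E ⊗[C] A) ⊗[A] (A ⊗[A₀] M₀) :=
    (TensorProduct.AlgebraTensorModule.cancelBaseChange A₀ A (E ⊗[C] A) (E ⊗[C] A) M₀).symm
  let Φ₃ : (E ⊗[C] A) ⊗[A] (A ⊗[A₀] M₀) ≃ₗ[E ⊗[C] A] (E ⊗[C] A) ⊗[A] M :=
    TensorProduct.AlgebraTensorModule.congr (LinearEquiv.refl (E ⊗[C] A) (E ⊗[C] A)) hf.equiv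
  have hΦ₁ : ∀ (r : E ⊗[C₀] A₀) (x : (E ⊗[C₀] A₀) ⊗[A₀] M₀),
      Φ₁ (r • x) = rhoE (C := C) (A := A) E r • Φ₁ x := by
    intro r x
    induction x using TensorProduct.induction_on with
    | zero => simp
    | tmul r' m =>
      rw [TensorProduct.smul_tmul', TensorProduct.congr_tmul, TensorProduct.congr_tmul,
        TensorProduct.smul_tmul', smul_eq_mul, smul_eq_mul]
      congr 1
      exact map_mul (rhoE (C := C) (A := A) E) r r'
    | add x z hx hz => rw [smul_add, map_add, hx, hz, map_add, smul_add]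
  refine ⟨Φ₁.toAddEquiv.trans (Φ₂.toAddEquiv.trans Φ₃.toAddEquiv), fun r x => ?_⟩
  show Φ₃ (Φ₂ (Φ₁ (r • x))) = rhoE (C := C) (A := A) E r • Φ₃ (Φ₂ (Φ₁ x))
  rw [hΦ₁, map_smul, map_smul]

end sigma

section univ
variable {M₀ : Type u} [AddCommGroup M₀] [Module A₀ M₀] [Module C₀ M₀] [IsScalarTower C₀ A₀ M₀]
  {M : Type u} [AddCommGroup M] [Module A M]
  [Module A₀ M] [IsScalarTower A₀ A M] {f : M₀ →ₗ[A₀] M} (hf : IsBaseChange A f)

include hf in
set_option maxHeartbeats 1600000 in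
set_option synthInstance.maxHeartbeats 400000 in
/-- **Fibrewise criterion from a Noetherian model.** -/
theorem TSD_univ_of_model [IsNoetherianRing C₀] [Algebra.FiniteType C₀ A₀] [Module.Finite A₀ M₀]
    [Module.Flat C₀ M₀] (I : Set A)
    (FH : ∀ (L : Type u) [Field L] [Algebra C L],
      TSD (L ⊗[C] A) (algebraMap A (L ⊗[C] A) '' I) ((L ⊗[C] A) ⊗[A] M)) :
    TSD (E ⊗[C] A) (algebraMap A (E ⊗[C] A) '' I) ((E ⊗[C] A) ⊗[A] M) := by
  obtain ⟨σ, hσ⟩ := exists_sigmaE (C₀ := C₀) (A₀ := A₀) (C := C) (A := A) E hf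
  let IE : Set (E ⊗[C₀] A₀) :=
    (rhoE (C := C) (A := A) E).symm '' (algebraMap A (E ⊗[C] A) '' I)
  have key : TSD (E ⊗[C₀] A₀) IE ((E ⊗[C₀] A₀) ⊗[A₀] M₀) := by
    refine TSD_of_fibres_model (C₀ := C₀) (A₀ := A₀) (M₀ := M₀) E IE (fun s _ => ?_)
    refine ⟨s.ResidueField, inferInstance, inferInstance, inferInstance, inferInstance,
      Ideal.ker_algebraMap_residueField s, ?_⟩
    obtain ⟨σK, hσK⟩ := exists_sigmaE (C₀ := C₀) (A₀ := A₀) (C := C) (A := A) s.ResidueField hf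
    have h1 := TSD.of_ringEquiv (R := s.ResidueField ⊗[C] A)
      (P := (s.ResidueField ⊗[C] A) ⊗[A] M) (R' := s.ResidueField ⊗[C₀] A₀)
      (P' := (s.ResidueField ⊗[C₀] A₀) ⊗[A₀] M₀)
      (rhoE (C := C) (A := A) s.ResidueField).symm.toRingEquiv σK.symm (fun r x => by
        apply σK.injective
        rw [AddEquiv.apply_symm_apply, hσK, AddEquiv.apply_symm_apply]
        show r • x = (rhoE (C := C) (A := A) s.ResidueField)
          ((rhoE (C := C) (A := A) s.ResidueField).symm r) • x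
        rw [AlgEquiv.apply_symm_apply]) _ (FH s.ResidueField)
    have hset : (ιA (A := A₀) (IsScalarTower.toAlgHom C₀ E s.ResidueField) '' IE) =
        (rhoE (C := C) (A := A) s.ResidueField).symm.toRingEquiv ''
          (algebraMap A (s.ResidueField ⊗[C] A) '' I) := by
      show ιA (A := A₀) (IsScalarTower.toAlgHom C₀ E s.ResidueField) ''
        ((rhoE (C := C) (A := A) E).symm '' (algebraMap A (E ⊗[C] A) '' I)) = _
      rw [Set.image_image, Set.image_image, Set.image_image]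
      refine Set.image_congr fun a _ => ?_
      show ιA (A := A₀) (IsScalarTower.toAlgHom C₀ E s.ResidueField)
        ((rhoE (C := C) (A := A) E).symm ((1 : E) ⊗ₜ[C] a)) =
        (rhoE (C := C) (A := A) s.ResidueField).symm ((1 : s.ResidueField) ⊗ₜ[C] a)
      rw [AlgEquiv.eq_symm_apply]
      have h2 := rhoE_nat (C₀ := C₀) (A₀ := A₀) (C := C) (A := A) E s.ResidueField
        (IsScalarTower.toAlgHom C E s.ResidueField)
        ((rhoE (C := C) (A := A) E).symm ((1 : E) ⊗ₜ[C] a))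
      rw [AlgEquiv.apply_symm_apply, ιA_tmul, map_one] at h2
      exact h2
    rw [hset]
    exact h1
  have h3 := TSD.of_ringEquiv (R := E ⊗[C₀] A₀) (P := (E ⊗[C₀] A₀) ⊗[A₀] M₀)
    (R' := E ⊗[C] A) (P' := (E ⊗[C] A) ⊗[A] M)
    (rhoE (C := C) (A := A) E).toRingEquiv σ (fun r x => hσ r x) IE key
  have hset2 : ((rhoE (C := C) (A := A) E).toRingEquiv '' IE) =
      algebraMap A (E ⊗[C] A) '' I := by
    show (rhoE (C := C) (A := A) E) '' ((rhoE (C := C) (A := A) E).symm ''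
      (algebraMap A (E ⊗[C] A) '' I)) = _
    rw [Set.image_image]
    simp
  rw [hset2] at h3
  exact h3

end univ

end fromModel

end Groth.Agent.Lib.Helper4.TorsSD
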