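import Mathlib
import Groth.Agent.Lib.Helper4TSDC
import Groth.Agent.Lib.Helper3FlatModelMod

set_option autoImplicit false
set_option linter.style.haveILetI false
universe u v w
namespace Groth.Agent.Lib.Helper4.TorsSD
open TensorProduct
open Groth.Agent.Lib.Helper4.SepFam Groth.Agent.Lib.Helper4.UnivSchDom
open Groth.Agent.Lib.Helper4.UnivSep

attribute [local instance] Algebra.TensorProduct.rightAlgebra

section final
variable {C : Type u} [CommRing C] {A : Type u} [CommRing A] [Algebra C A]
  {M : Type u} [AddCommGroup M] [Module A M] [Module C M] [IsScalarTower C A M]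

omit [Module C M] [IsScalarTower C A M] in
/-- `Sep` for all fields from `Sep` for one field over each prime. -/
theorem Sep_field_of_fields {J : Type w} {N : J → Type u} [∀ j, AddCommGroup (N j)]
    [∀ j, Module A (N j)] (u : ∀ j, M →ₗ[A] N j)
    (FH : ∀ (𝔭 : Ideal C) [𝔭.IsPrime], ∃ (K : Type u) (_ : Field K) (_ : Algebra C K),
      RingHom.ker (algebraMap C K) = 𝔭 ∧ UnivSep.Sep C u K)
    (L : Type u) [Field L] [Algebra C L] : UnivSep.Sep C u L := by
  let 𝔭 : Ideal C := RingHom.ker (algebraMap C L)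
  haveI : 𝔭.IsPrime := RingHom.ker_isPrime _
  obtain ⟨K, _, _, hker, HK⟩ := FH 𝔭
  have h1 : UnivSep.Sep C u 𝔭.ResidueField := Sep_residueField_of_ker u 𝔭 K hker HK
  let φ : 𝔭.ResidueField →ₐ[C] L := Ideal.ResidueField.liftₐ 𝔭 (Algebra.ofId C L) le_rfl
    (by
      intro c hc
      rw [Submonoid.mem_comap, IsUnit.mem_submonoid_iff]
      exact IsUnit.mk0 _ (fun h0 => hc h0))
  exact Sep_field_ext u φ h1

set_option maxHeartbeats 800000 in
/-- **EGA IV 11.10.10 (module version, ring level)**: `A` of finite presentation over `C`, `M` an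
`A`-module of finite presentation flat over `C`, `I ⊆ A`. If `D(I)` is schematically dense with
respect to `M` on the fibres of `Spec A → Spec C` then it is universally so. -/
theorem Sep_locFam_univ [Algebra.FinitePresentation C A] [Module.FinitePresentation A M]
    [Module.Flat C M] (I : Set A)
    (FH : ∀ (𝔭 : Ideal C) [𝔭.IsPrime], ∃ (K : Type u) (_ : Field K) (_ : Algebra C K),
      RingHom.ker (algebraMap C K) = 𝔭 ∧ UnivSep.Sep C (locFam (P := M) I) K)
    (E : Type u) [CommRing E] [Algebra C E] : UnivSep.Sep C (locFam (P := M) I) E := by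
  obtain ⟨C₀, _, _, A₀, _, _, _, _, _, _, M₀, _, _, _, _, _, _, f, hC₀, hA₀, hM₀fin, hM₀flat, hpo,
    hf⟩ := Groth.Agent.Lib.Helper3.FlatModelMod.exists_flat_module_model C A M
  haveI : IsNoetherianRing C₀ := Algebra.FiniteType.isNoetherianRing ℤ C₀
  letI : Algebra C₀ E := ((algebraMap C E).comp (algebraMap C₀ C)).toAlgebra
  haveI : IsScalarTower C₀ C E := IsScalarTower.of_algebraMap_eq' rfl
  unfold UnivSep.Sep
  rw [MHSD_locFam_baseChange_iff]
  refine TSD_univ_of_model (C₀ := C₀) (A₀ := A₀) (M₀ := M₀) E hf I (fun L _ _ => ?_)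
  have h1 := Sep_field_of_fields (locFam (P := M) I) FH L
  unfold UnivSep.Sep at h1
  rwa [MHSD_locFam_baseChange_iff] at h1

end final

end Groth.Agent.Lib.Helper4.TorsSD
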