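import Mathlib
import Groth.Agent.Lib.Helper4TSDD
import Groth.Agent.Lib.Helper4UnivSepG
/-!
# helper4: universal injectivity of restriction to an open (EGA IV 11.10.10, module form), scheme glue
`RestrInj`, `restrInj_of_TSD`, `TSD_of_restrInj`, `TSD_universal_iff`, `univ_claim_tsd`,
`restrInj_univ_of_fibres`.
-/

set_option autoImplicit false
set_option linter.style.haveILetI false
universe u v w
namespace Groth.Agent.Lib.Helper4.TorsSD
open TensorProduct CategoryTheory CategoryTheory.Limits AlgebraicGeometry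
open Groth.Agent.Lib.Helper4.SepFam Groth.Agent.Lib.Helper4.UnivSchDom
open Groth.Agent.Lib.Helper4.SchDom
open Groth.Agent.Helper13PullbackUnit Groth.Agent.Lib.Helper2.FPAff

section scheme
variable {X : Scheme.{u}} (F : X.Modules)

theorem res_res' {U V W : X.Opens} (h₁ : V ≤ U) (h₂ : W ≤ V) (s : Γ(F, U)) :
    F.presheaf.map (homOfLE h₂).op (F.presheaf.map (homOfLE h₁).op s) =
      F.presheaf.map (homOfLE (h₂.trans h₁)).op s := by
  rw [← ConcreteCategory.comp_apply, ← Functor.map_comp]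
  rfl

/-- all restriction maps `Γ(V, F) → Γ(V ∩ U, F)` are injective. -/
def RestrInj (F : X.Modules) (U : X.Opens) : Prop :=
  ∀ V : X.Opens, Function.Injective (F.presheaf.map (homOfLE (inf_le_left : V ⊓ U ≤ V)).op)

/-- **Glue 1**: `TSD` on enough affine opens gives injectivity of restriction to `U`. -/
theorem restrInj_of_TSD [F.IsQuasicoherent] (U : X.Opens)
    (H : ∀ x : X, ∃ (W : X.Opens) (_ : IsAffineOpen W) (I : Set Γ(X, W)), x ∈ W ∧
      (∀ g ∈ I, X.basicOpen g ≤ U) ∧ TSD Γ(X, W) I Γ(F, W)) : RestrInj F U := by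
  intro V
  rw [injective_iff_map_eq_zero]
  intro t ht
  refine Groth.Agent.Lib.Helper2.QcPush.section_eq_zero_of_cover F V t fun x hx => ?_
  obtain ⟨W, hW, I, hxW, hIU, HT⟩ := H x
  obtain ⟨h, hhV, hxh⟩ := hW.exists_basicOpen_le (V := V) ⟨x, hx⟩ hxW
  refine ⟨X.basicOpen h, hhV, hxh, ?_⟩
  letI := moduleRes F (X.basicOpen_le h)
  haveI := isLocalizedModule_basicOpen F hW h
  obtain ⟨⟨m, ⟨_, n, rfl⟩⟩, hmn⟩ := IsLocalizedModule.surj (Submonoid.powers h)
    (resₗ F (X.basicOpen_le h)) (F.presheaf.map (homOfLE hhV).op t)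
  have hmn' : (X.presheaf.map (homOfLE (X.basicOpen_le h)).op (h ^ n)) •
      F.presheaf.map (homOfLE hhV).op t = F.presheaf.map (homOfLE (X.basicOpen_le h)).op m := hmn
  have hunit : IsUnit (X.presheaf.map (homOfLE (X.basicOpen_le h)).op h) :=
    RingedSpace.isUnit_res_basicOpen X.toRingedSpace h
  have hm0 : F.presheaf.map (homOfLE (X.basicOpen_le h)).op m = 0 := by
    have key : ∀ g ∈ I, ∃ k : ℕ, (g * h) ^ k • m = 0 := by
      intro g hg
      apply exists_pow_smul_eq_zero_of_res F hW (g * h) m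
      have hle1 : X.basicOpen (g * h) ≤ X.basicOpen h := by
        rw [X.basicOpen_mul]; exact inf_le_right
      have hle2 : X.basicOpen (g * h) ≤ V ⊓ U := by
        rw [X.basicOpen_mul]
        exact le_inf (inf_le_right.trans hhV) (inf_le_left.trans (hIU g hg))
      have e1 : F.presheaf.map (homOfLE (X.basicOpen_le (g * h))).op m =
          F.presheaf.map (homOfLE hle1).op (F.presheaf.map (homOfLE (X.basicOpen_le h)).op m) :=
        (res_res' F _ _ m).symm
      rw [e1, ← hmn', Scheme.Modules.map_smul, res_res' F hhV hle1 t]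
      have e2 : F.presheaf.map (homOfLE (hle1.trans hhV)).op t =
          F.presheaf.map (homOfLE hle2).op (F.presheaf.map (homOfLE inf_le_left).op t) :=
        (res_res' F _ _ t).symm
      rw [e2, ht, map_zero, smul_zero]
    obtain ⟨N, hN⟩ := HT h m key
    exact res_basicOpen_eq_zero_of_pow_smul F h m N hN
  rw [hm0, map_pow] at hmn'
  obtain ⟨w, hw⟩ := (hunit.pow n)
  have h2 := congrArg (fun z => (↑w⁻¹ : Γ(X, X.basicOpen h)) • z) hmn'
  simp only [smul_zero] at h2
  rw [← hw, smul_smul, Units.inv_mul, one_smul] at h2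
  exact h2

/-- **Glue 2**: injectivity of restriction to `U` gives `TSD` on every affine open, for any set of
functions whose basic opens cover `U ∩ W`. -/
theorem TSD_of_restrInj [F.IsQuasicoherent] (U : X.Opens) (H : RestrInj F U)
    {W : X.Opens} (hW : IsAffineOpen W) (I : Set Γ(X, W))
    (hI : ∀ x ∈ W ⊓ U, ∃ g ∈ I, x ∈ X.basicOpen g) : TSD Γ(X, W) I Γ(F, W) := by
  intro h x hx
  apply exists_pow_smul_eq_zero_of_res F hW h x
  apply H (X.basicOpen h)
  rw [map_zero]
  refine Groth.Agent.Lib.Helper2.QcPush.section_eq_zero_of_cover F _ _ fun y hy => ?_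
  have hyW : y ∈ W := X.basicOpen_le h hy.1
  obtain ⟨g, hg, hyg⟩ := hI y ⟨hyW, hy.2⟩
  obtain ⟨n, hn⟩ := hx g hg
  have hle1 : X.basicOpen (g * h) ≤ X.basicOpen h := by
    rw [X.basicOpen_mul]; exact inf_le_right
  have hy' : y ∈ X.basicOpen (g * h) := by
    rw [X.basicOpen_mul]; exact ⟨hyg, hy.1⟩
  refine ⟨X.basicOpen (g * h) ⊓ U, le_inf (inf_le_left.trans hle1) inf_le_right, ⟨hy', hy.2⟩, ?_⟩
  rw [res_res']
  have e : F.presheaf.map (homOfLE ((le_inf (inf_le_left.trans hle1) inf_le_right :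
      X.basicOpen (g * h) ⊓ U ≤ X.basicOpen h ⊓ U).trans inf_le_left)).op
        (F.presheaf.map (homOfLE (X.basicOpen_le h)).op x) =
      F.presheaf.map (homOfLE (inf_le_left : X.basicOpen (g * h) ⊓ U ≤ _)).op
        (F.presheaf.map (homOfLE (X.basicOpen_le (g * h))).op x) := by
    rw [res_res', res_res']
  rw [e, res_basicOpen_eq_zero_of_pow_smul F (g * h) x n hn, map_zero]

end scheme

section alg
attribute [local instance] Algebra.TensorProduct.rightAlgebra

/-- transport of `TSD` between the tensor form and any model of the base change. -/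
theorem TSD_universal_iff {A A' : Type u} [CommRing A] [CommRing A'] [Algebra A A']
    {M M' : Type u} [AddCommGroup M] [Module A M] [AddCommGroup M'] [Module A' M']
    (ηM : M →+ M') (hηM : ∀ (a : A) (m : M), ηM (a • m) = algebraMap A A' a • ηM m)
    (UM : ∀ (P : Type u) [AddCommGroup P] [Module A' P] (l : M →+ P),
      (∀ (a : A) (m : M), l (a • m) = algebraMap A A' a • l m) →
        ∃! l' : M' →ₗ[A'] P, ∀ m, l' (ηM m) = l m) (I' : Set A') :
    TSD A' I' (A' ⊗[A] M) ↔ TSD A' I' M' := by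
  letI : Module A M' := Module.compHom M' (algebraMap A A')
  haveI : IsScalarTower A A' M' := IsScalarTower.of_algebraMap_smul (fun a m => rfl)
  let φM : M →ₗ[A] M' :=
    { toFun := ηM, map_add' := ηM.map_add, map_smul' := fun a m => hηM a m }
  have hM : IsBaseChange A' φM :=
    Groth.Agent.Helper13BCAlg.isBaseChange_of_existsUnique φM (fun P _ _ l hl => UM P l hl)
  exact ⟨TSD.of_linearEquiv hM.equiv, TSD.of_linearEquiv hM.equiv.symm⟩

/-- **Universal `TSD` from the fibres, pushout form.** -/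
theorem univ_claim_tsd {C A E R : CommRingCat.{u}} (rA : C ⟶ A) (rE : C ⟶ E) (φ : A ⟶ R)
    (γ : E ⟶ R) (hR : IsPushout rA rE φ γ) (hfp : rA.hom.FinitePresentation)
    {M : Type u} [AddCommGroup M] [Module A M] [Module.FinitePresentation A M]
    (hflat : @Module.Flat C M _ _ (Module.compHom M rA.hom)) (I : Set A)
    (FH : ∀ 𝔭 : Ideal C, 𝔭.IsPrime → ∃ (K : CommRingCat.{u}) (rK : C ⟶ K) (RK : CommRingCat.{u})
      (φK : A ⟶ RK) (γK : K ⟶ RK), IsField K ∧ RingHom.ker rK.hom = 𝔭 ∧
      IsPushout rA rK φK γK ∧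
      (letI : Algebra A RK := φK.hom.toAlgebra
       TSD RK (φK.hom '' I) (RK ⊗[A] M))) :
    letI : Algebra A R := φ.hom.toAlgebra
    TSD R (φ.hom '' I) (R ⊗[A] M) := by
  letI : Algebra C A := rA.hom.toAlgebra
  letI : Algebra C E := rE.hom.toAlgebra
  letI : Module C M := Module.compHom M rA.hom
  haveI : IsScalarTower C A M := ⟨fun c a n => by
    show (c • a) • n = rA.hom c • (a • n)
    rw [Algebra.smul_def, mul_smul]
    rfl⟩
  haveI : Module.Flat C M := hflat
  haveI : Algebra.FinitePresentation C A := hfp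
  letI : Algebra A R := φ.hom.toAlgebra
  have key : UnivSep.Sep C (locFam (P := M) I) E := Sep_locFam_univ I (fun 𝔭 _ => ?_) E
  · have h1 := (UnivSep.mhsd_pushout_iff (locFam (P := M) I) φ γ hR).mpr key
    exact (MHSD_locFam_baseChange_iff I).mp h1
  · obtain ⟨K, rK, RK, φK, γK, hK, hker, hRK, HK⟩ := FH 𝔭 ‹_›
    letI : Field K := hK.toField
    letI : Algebra C K := rK.hom.toAlgebra
    letI : Algebra A RK := φK.hom.toAlgebra
    exact ⟨K, inferInstance, inferInstance, hker,
      (UnivSep.mhsd_pushout_iff (locFam (P := M) I) φK γK hRK).mp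
        ((MHSD_locFam_baseChange_iff I).mpr HK)⟩

end alg

/-- **EGA IV 11.10.10 (module form)**: `f` locally of finite presentation, `F` quasi-coherent of finite
presentation and `f`-flat, `U ⊆ X` open. If on every fibre the restriction maps to the trace of `U`
are injective, the same holds after every base change. -/
theorem restrInj_univ_of_fibres {X S : Scheme.{u}} (f : X ⟶ S) [LocallyOfFinitePresentation f]
    (F : X.Modules) [F.IsQuasicoherent]
    [SheafOfModules.IsFinitePresentation (R := X.ringCatSheaf) F]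
    (hflat : FlatMod.IsFlatOver f F) (U : X.Opens)
    (hfib : ∀ s : S, RestrInj
      ((Scheme.Modules.pullback (pullback.fst f (S.fromSpecResidueField s))).obj F)
      ((pullback.fst f (S.fromSpecResidueField s)) ⁻¹ᵁ U))
    {S' : Scheme.{u}} (g : S' ⟶ S) :
    RestrInj ((Scheme.Modules.pullback (pullback.fst f g)).obj F) ((pullback.fst f g) ⁻¹ᵁ U) := by
  haveI : ((Scheme.Modules.pullback (pullback.fst f g)).obj F).IsQuasicoherent :=
    Groth.Agent.Lib.Helper2.PullbackSec.isQuasicoherent_pullback _ F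
  refine restrInj_of_TSD _ _ (fun x' => ?_)
  -- affine opens
  obtain ⟨_, ⟨S₀, hS₀, rfl⟩, hxS₀, -⟩ := S.isBasis_affineOpens.exists_subset_of_mem_open
    (Set.mem_univ (f (pullback.fst f g x'))) isOpen_univ
  obtain ⟨_, ⟨W, hW, rfl⟩, hxW, hWS'⟩ := X.isBasis_affineOpens.exists_subset_of_mem_open
    (show pullback.fst f g x' ∈ f ⁻¹ᵁ S₀ from hxS₀) (f ⁻¹ᵁ S₀).isOpen
  have hWS : W ≤ f ⁻¹ᵁ S₀ := hWS'
  have hx2 : pullback.snd f g x' ∈ g ⁻¹ᵁ S₀ := by
    show g (pullback.snd f g x') ∈ S₀
    have h1 : (pullback.snd f g ≫ g) x' = (pullback.fst f g ≫ f) x' := by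
      rw [pullback.condition]
    rw [Scheme.Hom.comp_apply, Scheme.Hom.comp_apply] at h1
    rw [h1]
    exact hxS₀
  obtain ⟨_, ⟨T, hT, rfl⟩, hxT, hTS'⟩ := S'.isBasis_affineOpens.exists_subset_of_mem_open
    hx2 (g ⁻¹ᵁ S₀).isOpen
  have hTS : T ≤ g ⁻¹ᵁ S₀ := hTS'
  have H : IsPullback (pullback.fst f g) (pullback.snd f g) f g := IsPullback.of_hasPullback f g
  have hP : IsAffineOpen (box f g W T) := isAffineOpen_box H hTS hWS hS₀ hT hW
  let I : Set Γ(X, W) := {a | X.basicOpen a ≤ U}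
  refine ⟨box f g W T, hP,
    ((pullback.fst f g).appLE W (box f g W T) inf_le_left).hom '' I, ⟨hxW, hxT⟩, ?_, ?_⟩
  · rintro _ ⟨a, ha, rfl⟩
    rw [Scheme.basicOpen_appLE]
    exact inf_le_right.trans ((pullback.fst f g).preimage_mono ha)
  letI := ((pullback.fst f g).appLE W (box f g W T) inf_le_left).hom.toAlgebra
  have hle0 : box f g W T ≤ pullback.fst f g ⁻¹ᵁ W := inf_le_left
  rw [← TSD_universal_iff (A := Γ(X, W)) (A' := Γ(pullback f g, box f g W T))
    (unitSec (pullback.fst f g) F hle0) (fun a m => unitSec_smul _ F hle0 a m)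
    (fun P _ _ l hl => existsUnique_lift _ F hW hP hle0 P l hl)]
  haveI : Module.FinitePresentation Γ(X, W) Γ(F, W) := finitePresentation_sections F hW
  refine univ_claim_tsd (f.appLE S₀ W hWS) (g.appLE S₀ T hTS)
    ((pullback.fst f g).appLE W (box f g W T) inf_le_left)
    ((pullback.snd f g).appLE T (box f g W T) inf_le_right)
    (isPushout_box f g hTS hWS hS₀ hT hW) (f.finitePresentation_appLE hS₀ hW hWS)
    (M := Γ(F, W))
    (Groth.Agent.Lib.Helper2.FlatOver.flat_sections_of_isFlatOverAt f F hW hS₀ hWS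
      (fun x _ => hflat x)) I ?_
  intro 𝔭 h𝔭
  let y : Spec Γ(S, S₀) := ⟨𝔭, h𝔭⟩
  let σ : S := hS₀.fromSpec y
  have hσS₀ : σ ∈ S₀ := by
    have : σ ∈ Set.range hS₀.fromSpec := Set.mem_range_self y
    rw [hS₀.range_fromSpec] at this
    exact this
  have hle : ⊤ ≤ S.fromSpecResidueField σ ⁻¹ᵁ S₀ := by
    intro pt _
    show S.fromSpecResidueField σ pt ∈ S₀
    rw [Scheme.fromSpecResidueField_apply]
    exact hσS₀
  have h𝔭s : ∀ c : Γ(S, S₀), σ ∈ S.basicOpen c ↔ c ∉ 𝔭 := by
    intro c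
    have h1 := hS₀.fromSpec_preimage_basicOpen c
    show y ∈ hS₀.fromSpec ⁻¹ᵁ S.basicOpen c ↔ _
    rw [h1]
    rfl
  have hPσ : IsAffineOpen (box f (S.fromSpecResidueField σ) W ⊤) :=
    isAffineOpen_box (IsPullback.of_hasPullback f (S.fromSpecResidueField σ)) hle hWS hS₀
      (isAffineOpen_top _) hW
  refine ⟨Γ(Spec (S.residueField σ), ⊤), (S.fromSpecResidueField σ).appLE S₀ ⊤ hle,
    Γ(pullback f (S.fromSpecResidueField σ), box f (S.fromSpecResidueField σ) W ⊤),
    (pullback.fst f (S.fromSpecResidueField σ)).appLE W _ inf_le_left,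
    (pullback.snd f (S.fromSpecResidueField σ)).appLE ⊤ _ inf_le_right,
    isField_Γ_Spec_residueField σ, ker_appLE_fromSpecResidueField σ hle 𝔭 h𝔭s,
    isPushout_box f (S.fromSpecResidueField σ) hle hWS hS₀ (isAffineOpen_top _) hW, ?_⟩
  letI := ((pullback.fst f (S.fromSpecResidueField σ)).appLE W
    (box f (S.fromSpecResidueField σ) W ⊤) inf_le_left).hom.toAlgebra
  have hle' : box f (S.fromSpecResidueField σ) W ⊤ ≤
      pullback.fst f (S.fromSpecResidueField σ) ⁻¹ᵁ W := inf_le_left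
  haveI : ((Scheme.Modules.pullback (pullback.fst f (S.fromSpecResidueField σ))).obj
      F).IsQuasicoherent :=
    Groth.Agent.Lib.Helper2.PullbackSec.isQuasicoherent_pullback _ F
  rw [TSD_universal_iff (A := Γ(X, W))
    (A' := Γ(pullback f (S.fromSpecResidueField σ), box f (S.fromSpecResidueField σ) W ⊤))
    (unitSec (pullback.fst f (S.fromSpecResidueField σ)) F hle')
    (fun a m => unitSec_smul _ F hle' a m)
    (fun P _ _ l hl => existsUnique_lift _ F hW hPσ hle' P l hl)]
  refine TSD_of_restrInj _ _ (hfib σ) hPσ _ ?_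
  rintro x ⟨hxbox, hxU⟩
  obtain ⟨a, haU, hxa⟩ := hW.exists_basicOpen_le (V := U)
    ⟨pullback.fst f (S.fromSpecResidueField σ) x, hxU⟩ hxbox.1
  refine ⟨_, ⟨a, haU, rfl⟩, ?_⟩
  rw [Scheme.basicOpen_appLE]
  exact ⟨hxbox, hxa⟩

end Groth.Agent.Lib.Helper4.TorsSD
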