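import Mathlib
import Groth.Agent.Lib.Helper4TSDE
import Groth.Prelude.Def_CInt
/-!
# helper4: universally schematically dense opens (EGA IV 11.10.10), structure sheaf version
`schDense_of_TSD`, `TSD_of_schDense`, `schDense_univ_of_fibres`.
-/

set_option autoImplicit false
set_option linter.style.haveILetI false
universe u v w
namespace Groth.Agent.Lib.Helper4.TorsSD
open TensorProduct CategoryTheory CategoryTheory.Limits AlgebraicGeometry
open Groth.Agent.Lib.Helper4.SepFam Groth.Agent.Lib.Helper4.UnivSchDom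
open Groth.Agent.Lib.Helper4.SchDom

section scheme
variable {X : Scheme.{u}}

theorem resO_resO {U V W : X.Opens} (h₁ : V ≤ U) (h₂ : W ≤ V) (s : Γ(X, U)) :
    X.presheaf.map (homOfLE h₂).op (X.presheaf.map (homOfLE h₁).op s) =
      X.presheaf.map (homOfLE (h₂.trans h₁)).op s := by
  rw [← ConcreteCategory.comp_apply, ← Functor.map_comp]
  rfl

/-- **Glue 1 (structure sheaf)**: `TSD` on enough affine opens gives schematic density of `U`. -/
theorem schDense_of_TSD (U : X.Opens)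
    (H : ∀ x : X, ∃ (W : X.Opens) (_ : IsAffineOpen W) (I : Set Γ(X, W)), x ∈ W ∧
      (∀ g ∈ I, X.basicOpen g ≤ U) ∧ TSD Γ(X, W) I Γ(X, W)) :
    CInt.IsSchematicallyDense U := by
  intro V
  rw [injective_iff_map_eq_zero]
  intro t ht
  refine eq_zero_of_locally_zero V t fun x hx => ?_
  obtain ⟨W, hW, I, hxW, hIU, HT⟩ := H x
  obtain ⟨h, hhV, hxh⟩ := hW.exists_basicOpen_le (V := V) ⟨x, hx⟩ hxW
  refine ⟨X.basicOpen h, hhV, hxh, ?_⟩
  haveI := hW.isLocalization_basicOpen h
  obtain ⟨⟨m, ⟨_, n, rfl⟩⟩, hmn⟩ := IsLocalization.surj (Submonoid.powers h)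
    (X.presheaf.map (homOfLE hhV).op t)
  have hmn' : X.presheaf.map (homOfLE hhV).op t *
      (X.presheaf.map (homOfLE (X.basicOpen_le h)).op (h ^ n)) =
      X.presheaf.map (homOfLE (X.basicOpen_le h)).op m := hmn
  have hunit : IsUnit (X.presheaf.map (homOfLE (X.basicOpen_le h)).op h) :=
    RingedSpace.isUnit_res_basicOpen X.toRingedSpace h
  have hm0 : X.presheaf.map (homOfLE (X.basicOpen_le h)).op m = 0 := by
    have key : ∀ g ∈ I, ∃ k : ℕ, (g * h) ^ k • m = 0 := by
      intro g hg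
      apply exists_pow_mul_eq_zero_of_res_basicOpen_eq_zero_of_isAffineOpen X hW m (g * h)
      show X.presheaf.map (homOfLE (X.basicOpen_le (g * h))).op m = 0
      have hle1 : X.basicOpen (g * h) ≤ X.basicOpen h := by
        rw [X.basicOpen_mul]; exact inf_le_right
      have hle2 : X.basicOpen (g * h) ≤ V ⊓ U := by
        rw [X.basicOpen_mul]
        exact le_inf (inf_le_right.trans hhV) (inf_le_left.trans (hIU g hg))
      have e1 : X.presheaf.map (homOfLE (X.basicOpen_le (g * h))).op m =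
          X.presheaf.map (homOfLE hle1).op (X.presheaf.map (homOfLE (X.basicOpen_le h)).op m) :=
        (resO_resO _ _ m).symm
      rw [e1, ← hmn', map_mul, resO_resO hhV hle1 t]
      have e2 : X.presheaf.map (homOfLE (hle1.trans hhV)).op t =
          X.presheaf.map (homOfLE hle2).op (X.presheaf.map (homOfLE inf_le_left).op t) :=
        (resO_resO _ _ t).symm
      rw [e2, ht, map_zero, zero_mul]
    obtain ⟨N, hN⟩ := HT h m key
    have h1 := congrArg (X.presheaf.map (homOfLE (X.basicOpen_le h)).op) hN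
    rw [smul_eq_mul, map_mul, map_pow, map_zero] at h1
    exact (hunit.pow N).mul_right_eq_zero.mp h1
  rw [hm0, map_pow] at hmn'
  exact (hunit.pow n).mul_left_eq_zero.mp hmn'

/-- **Glue 2 (structure sheaf)**. -/
theorem TSD_of_schDense (U : X.Opens) (H : CInt.IsSchematicallyDense U)
    {W : X.Opens} (hW : IsAffineOpen W) (I : Set Γ(X, W))
    (hI : ∀ x ∈ W ⊓ U, ∃ g ∈ I, x ∈ X.basicOpen g) : TSD Γ(X, W) I Γ(X, W) := by
  intro h x hx
  apply exists_pow_mul_eq_zero_of_res_basicOpen_eq_zero_of_isAffineOpen X hW x h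
  show X.presheaf.map (homOfLE (X.basicOpen_le h)).op x = 0
  apply H (X.basicOpen h)
  rw [map_zero]
  refine eq_zero_of_locally_zero _ _ fun y hy => ?_
  have hyW : y ∈ W := X.basicOpen_le h hy.1
  obtain ⟨g, hg, hyg⟩ := hI y ⟨hyW, hy.2⟩
  obtain ⟨n, hn⟩ := hx g hg
  have hle1 : X.basicOpen (g * h) ≤ X.basicOpen h := by
    rw [X.basicOpen_mul]; exact inf_le_right
  have hy' : y ∈ X.basicOpen (g * h) := by
    rw [X.basicOpen_mul]; exact ⟨hyg, hy.1⟩
  refine ⟨X.basicOpen (g * h) ⊓ U, le_inf (inf_le_left.trans hle1) inf_le_right, ⟨hy', hy.2⟩, ?_⟩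
  rw [resO_resO]
  have hunit : IsUnit (X.presheaf.map (homOfLE (X.basicOpen_le (g * h))).op (g * h)) :=
    RingedSpace.isUnit_res_basicOpen X.toRingedSpace (g * h)
  have h0 : X.presheaf.map (homOfLE (X.basicOpen_le (g * h))).op x = 0 := by
    have h1 := congrArg (X.presheaf.map (homOfLE (X.basicOpen_le (g * h))).op) hn
    rw [smul_eq_mul, map_mul, map_pow, map_zero] at h1
    exact (hunit.pow n).mul_right_eq_zero.mp h1
  have e : X.presheaf.map (homOfLE ((le_inf (inf_le_left.trans hle1) inf_le_right :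
      X.basicOpen (g * h) ⊓ U ≤ X.basicOpen h ⊓ U).trans inf_le_left)).op
        (X.presheaf.map (homOfLE (X.basicOpen_le h)).op x) =
      X.presheaf.map (homOfLE (inf_le_left : X.basicOpen (g * h) ⊓ U ≤ _)).op
        (X.presheaf.map (homOfLE (X.basicOpen_le (g * h))).op x) := by
    rw [resO_resO, resO_resO]
  rw [e, h0, map_zero]

end scheme

section alg
attribute [local instance] Algebra.TensorProduct.rightAlgebra

theorem TSD_tensor_self_iff {A A' : Type u} [CommRing A] [CommRing A'] [Algebra A A']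
    (I' : Set A') : TSD A' I' (A' ⊗[A] A) ↔ TSD A' I' A' :=
  ⟨TSD.of_linearEquiv (TensorProduct.AlgebraTensorModule.rid A A' A'),
   TSD.of_linearEquiv (TensorProduct.AlgebraTensorModule.rid A A' A').symm⟩

end alg

/-- **EGA IV 11.10.10**: `f` flat and locally of finite presentation, `U ⊆ X` open. If the trace of `U`
on every fibre is schematically dense, then `U` is universally schematically dense. -/
theorem schDense_univ_of_fibres {X S : Scheme.{u}} (f : X ⟶ S) [Flat f]
    [LocallyOfFinitePresentation f] (U : X.Opens)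
    (hfib : ∀ s : S, CInt.IsSchematicallyDense
      ((pullback.fst f (S.fromSpecResidueField s)) ⁻¹ᵁ U))
    {S' : Scheme.{u}} (g : S' ⟶ S) :
    CInt.IsSchematicallyDense ((pullback.fst f g) ⁻¹ᵁ U) := by
  refine schDense_of_TSD _ (fun x' => ?_)
  -- affine opens
  obtain ⟨_, ⟨S₀, hS₀, rfl⟩, hxS₀, -⟩ := S.isBasis_affineOpens.exists_subset_of_mem_open
    (Set.mem_univ (f (pullback.fst f g x'))) isOpen_univ
  obtain ⟨_, ⟨W, hW, rfl⟩, hxW, hWS'⟩ := X.isBasis_affineOpens.exists_subset_of_mem_open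
    (show pullback.fst f g x' ∈ f ⁻¹ᵁ S₀ from hxS₀) (f ⁻¹ᵁ S₀).isOpen
  have hWS : W ≤ f ⁻¹ᵁ S₀ := hWS'
  have hx2 : pullback.snd f g x' ∈ g ⁻¹ᵁ S₀ := by
    show g (pullback.snd f g x') ∈ S₀
    have h1 : (pullback.snd f g ≫ g) x' = (pullback.fst f g ≫ f) x' := by
      rw [pullback.condition]
    rw [Scheme.Hom.comp_apply, Scheme.Hom.comp_apply] at h1
    rw [h1]
    exact hxS₀
  obtain ⟨_, ⟨T, hT, rfl⟩, hxT, hTS'⟩ := S'.isBasis_affineOpens.exists_subset_of_mem_open
    hx2 (g ⁻¹ᵁ S₀).isOpen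
  have hTS : T ≤ g ⁻¹ᵁ S₀ := hTS'
  have H : IsPullback (pullback.fst f g) (pullback.snd f g) f g := IsPullback.of_hasPullback f g
  have hP : IsAffineOpen (box f g W T) := isAffineOpen_box H hTS hWS hS₀ hT hW
  let I : Set Γ(X, W) := {a | X.basicOpen a ≤ U}
  refine ⟨box f g W T, hP,
    ((pullback.fst f g).appLE W (box f g W T) inf_le_left).hom '' I, ⟨hxW, hxT⟩, ?_, ?_⟩
  · rintro _ ⟨a, ha, rfl⟩
    rw [Scheme.basicOpen_appLE]
    exact inf_le_right.trans ((pullback.fst f g).preimage_mono ha)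
  letI := ((pullback.fst f g).appLE W (box f g W T) inf_le_left).hom.toAlgebra
  rw [← TSD_tensor_self_iff (A := Γ(X, W)) (A' := Γ(pullback f g, box f g W T))]
  refine univ_claim_tsd (f.appLE S₀ W hWS) (g.appLE S₀ T hTS)
    ((pullback.fst f g).appLE W (box f g W T) inf_le_left)
    ((pullback.snd f g).appLE T (box f g W T) inf_le_right)
    (isPushout_box f g hTS hWS hS₀ hT hW) (f.finitePresentation_appLE hS₀ hW hWS)
    (M := Γ(X, W)) (f.flat_appLE hS₀ hW hWS) I ?_
  intro 𝔭 h𝔭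
  let y : Spec Γ(S, S₀) := ⟨𝔭, h𝔭⟩
  let σ : S := hS₀.fromSpec y
  have hσS₀ : σ ∈ S₀ := by
    have : σ ∈ Set.range hS₀.fromSpec := Set.mem_range_self y
    rw [hS₀.range_fromSpec] at this
    exact this
  have hle : ⊤ ≤ S.fromSpecResidueField σ ⁻¹ᵁ S₀ := by
    intro pt _
    show S.fromSpecResidueField σ pt ∈ S₀
    rw [Scheme.fromSpecResidueField_apply]
    exact hσS₀
  have h𝔭s : ∀ c : Γ(S, S₀), σ ∈ S.basicOpen c ↔ c ∉ 𝔭 := by
    intro c
    have h1 := hS₀.fromSpec_preimage_basicOpen c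
    show y ∈ hS₀.fromSpec ⁻¹ᵁ S.basicOpen c ↔ _
    rw [h1]
    rfl
  have hPσ : IsAffineOpen (box f (S.fromSpecResidueField σ) W ⊤) :=
    isAffineOpen_box (IsPullback.of_hasPullback f (S.fromSpecResidueField σ)) hle hWS hS₀
      (isAffineOpen_top _) hW
  refine ⟨Γ(Spec (S.residueField σ), ⊤), (S.fromSpecResidueField σ).appLE S₀ ⊤ hle,
    Γ(pullback f (S.fromSpecResidueField σ), box f (S.fromSpecResidueField σ) W ⊤),
    (pullback.fst f (S.fromSpecResidueField σ)).appLE W _ inf_le_left,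
    (pullback.snd f (S.fromSpecResidueField σ)).appLE ⊤ _ inf_le_right,
    isField_Γ_Spec_residueField σ, ker_appLE_fromSpecResidueField σ hle 𝔭 h𝔭s,
    isPushout_box f (S.fromSpecResidueField σ) hle hWS hS₀ (isAffineOpen_top _) hW, ?_⟩
  letI := ((pullback.fst f (S.fromSpecResidueField σ)).appLE W
    (box f (S.fromSpecResidueField σ) W ⊤) inf_le_left).hom.toAlgebra
  rw [TSD_tensor_self_iff (A := Γ(X, W))
    (A' := Γ(pullback f (S.fromSpecResidueField σ), box f (S.fromSpecResidueField σ) W ⊤))]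
  refine TSD_of_schDense _ (hfib σ) hPσ _ ?_
  rintro x ⟨hxbox, hxU⟩
  obtain ⟨a, haU, hxa⟩ := hW.exists_basicOpen_le (V := U)
    ⟨pullback.fst f (S.fromSpecResidueField σ) x, hxU⟩ hxbox.1
  refine ⟨_, ⟨a, haU, rfl⟩, ?_⟩
  rw [Scheme.basicOpen_appLE]
  exact ⟨hxbox, hxa⟩

end Groth.Agent.Lib.Helper4.TorsSD
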