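import Mathlib
import Groth.Agent.Lib.Helper4TSDF
import Groth.Agent.Lib.Helper12Reduced
/-!
# helper4: schematic density of big opens (via EGA IV 11.10.10)
`schDense_of_iso`, `schDense_of_dense_of_isReduced`, `dense_of_forall_dim_pos`, `dim_fiberStalk`,
`schDense_of_big_open`.
-/

set_option autoImplicit false
set_option linter.style.haveILetI false
universe u v w
namespace Groth.Agent.Lib.Helper4.TorsSD
open TensorProduct CategoryTheory CategoryTheory.Limits AlgebraicGeometry

/-- schematic density can be checked after pulling back along an isomorphism. -/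
theorem schDense_of_iso {X Y : Scheme.{u}} (φ : Y ⟶ X) [IsIso φ] (U : X.Opens)
    (H : CInt.IsSchematicallyDense (φ ⁻¹ᵁ U)) : CInt.IsSchematicallyDense U := by
  intro V
  rw [injective_iff_map_eq_zero]
  intro t ht
  have hle : φ ⁻¹ᵁ V ⊓ φ ⁻¹ᵁ U ≤ φ ⁻¹ᵁ (V ⊓ U) := fun _ hx => hx
  have h1 : φ.app V t = 0 := by
    apply H (φ ⁻¹ᵁ V)
    rw [map_zero]
    have e1 : φ.app V ≫ Y.presheaf.map (homOfLE (inf_le_left : φ ⁻¹ᵁ V ⊓ φ ⁻¹ᵁ U ≤ φ ⁻¹ᵁ V)).op =
        X.presheaf.map (homOfLE (inf_le_left : V ⊓ U ≤ V)).op ≫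
          φ.appLE (V ⊓ U) (φ ⁻¹ᵁ V ⊓ φ ⁻¹ᵁ U) hle := by
      rw [Scheme.Hom.app_eq_appLE, Scheme.Hom.appLE_map, Scheme.Hom.map_appLE]
    have e2 := congrArg (fun m => m.hom t) e1
    simp only [CommRingCat.hom_comp, RingHom.comp_apply] at e2
    rw [e2, ht, map_zero]
  have hinj : Function.Injective (φ.app V) :=
    (ConcreteCategory.bijective_of_isIso (φ.app V)).injective
  exact hinj (h1.trans (map_zero _).symm)

/-- in a reduced scheme a dense open is schematically dense. -/
theorem schDense_of_dense_of_isReduced {Y : Scheme.{u}} [IsReduced Y] (U : Y.Opens)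
    (hU : Dense (U : Set Y)) : CInt.IsSchematicallyDense U := by
  intro V
  rw [injective_iff_map_eq_zero]
  intro t ht
  apply AlgebraicGeometry.eq_zero_of_basicOpen_eq_bot
  have h1 : Y.basicOpen (Y.presheaf.map (homOfLE (inf_le_left : V ⊓ U ≤ V)).op t) =
      (V ⊓ U) ⊓ Y.basicOpen t := Scheme.basicOpen_res ..
  rw [ht, Scheme.basicOpen_zero] at h1
  by_contra hne
  obtain ⟨y, hy⟩ : (Y.basicOpen t : Set Y).Nonempty := by
    rw [Set.nonempty_iff_ne_empty]
    intro h0
    apply hne
    ext x
    simp only [TopologicalSpace.Opens.coe_bot, Set.mem_empty_iff_false, iff_false]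
    intro hx
    have : x ∈ (Y.basicOpen t : Set Y) := hx
    rw [h0] at this
    exact this
  obtain ⟨z, hz1, hz2⟩ := hU.inter_open_nonempty _ (Y.basicOpen t).isOpen ⟨y, hy⟩
  have : z ∈ (V ⊓ U) ⊓ Y.basicOpen t := ⟨⟨Y.basicOpen_le t hz1, hz2⟩, hz1⟩
  rw [← h1] at this
  exact this.elim

/-- an open subset containing all points whose local ring has dimension `0` is dense. -/
theorem dense_of_forall_dim_pos {Y : Scheme.{u}} (U : Y.Opens)
    (h : ∀ ξ : Y, ξ ∉ U → (1 : WithBot ℕ∞) ≤ ringKrullDim (Y.presheaf.stalk ξ)) :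
    Dense (U : Set Y) := by
  rw [dense_iff_inter_open]
  rintro V hV ⟨v, hv⟩
  have hZirr : IsIrreducible (irreducibleComponent v) := isIrreducible_irreducibleComponent
  have hZcl : IsClosed (irreducibleComponent v) := isClosed_irreducibleComponent
  have hξ : IsGenericPoint hZirr.genericPoint (irreducibleComponent v) := by
    have := hZirr.isGenericPoint_genericPoint_closure
    rwa [hZcl.closure_eq] at this
  have hξv : hZirr.genericPoint ⤳ v := hξ.specializes mem_irreducibleComponent
  have hξV : hZirr.genericPoint ∈ V := hξv.mem_open hV hv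
  by_contra hne
  have hξU : hZirr.genericPoint ∉ U := fun hU => hne ⟨_, hξV, hU⟩
  have h1 := h _ hξU
  rw [ringKrullDim_stalk_eq_coheight] at h1
  have hmax : IsMax hZirr.genericPoint := by
    intro y hy
    have hy' : y ⤳ hZirr.genericPoint := hy
    have hsub : irreducibleComponent v ⊆ closure {y} := by
      rw [← hξ.def]
      exact closure_minimal (Set.singleton_subset_iff.mpr hy'.mem_closure) isClosed_closure
    have heq : closure {y} = irreducibleComponent v :=
      eq_irreducibleComponent isIrreducible_singleton.closure.isPreirreducible hsub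
    have hyZ : y ∈ irreducibleComponent v := heq ▸ subset_closure (Set.mem_singleton y)
    exact hξ.specializes hyZ
  have h0 : Order.coheight hZirr.genericPoint = 0 := Order.coheight_eq_zero.mpr hmax
  rw [h0] at h1
  exact absurd h1 (by norm_num)

/-- the dimension of `CInt.fiberStalk` is the dimension of the stalk of any fibre at the
corresponding point. -/
theorem dim_fiberStalk {X S : Scheme.{u}} (p : X ⟶ S) (s : S) (ξ : p.fiber s) :
    ringKrullDim (CInt.fiberStalk p (p.fiberι s ξ)) =
      ringKrullDim ((p.fiber s).presheaf.stalk ξ) := by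
  have hz : p (p.fiberι s ξ) = s := by
    have : p.fiberι s ξ ∈ Set.range (p.fiberι s) := ⟨ξ, rfl⟩
    rw [p.range_fiberι] at this
    exact this
  have key : ∀ (z : X) (s : S) (_ : p z = s) (ξ : p.fiber s), p.fiberι s ξ = z →
      ringKrullDim (CInt.fiberStalk p z) = ringKrullDim ((p.fiber s).presheaf.stalk ξ) := by
    intro z s h ξ hξ
    subst h
    have : ξ = p.asFiber z :=
      (p.fiberι _).isEmbedding.injective (by rw [hξ, p.fiberι_asFiber])
    subst this
    rfl
  exact key _ s hz ξ rfl

/-- a big open of a flat, locally finitely presented scheme with reduced fibres is schematically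
dense. -/
theorem schDense_of_big_open {X S : Scheme.{u}} (p : X ⟶ S) [Flat p] [LocallyOfFinitePresentation p]
    (hred : ∀ s : S, IsReduced (p.fiber s)) (U : X.Opens)
    (hU : ∀ x : X, x ∉ U → (1 : WithBot ℕ∞) ≤ ringKrullDim (CInt.fiberStalk p x)) :
    CInt.IsSchematicallyDense U := by
  have key : CInt.IsSchematicallyDense ((pullback.fst p (𝟙 S)) ⁻¹ᵁ U) :=
    schDense_univ_of_fibres p U (fun s => ?_) (𝟙 S)
  · exact schDense_of_iso (pullback.fst p (𝟙 S)) U key
  · haveI : IsReduced (pullback p (S.fromSpecResidueField s)) := hred s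
    apply schDense_of_dense_of_isReduced
    apply dense_of_forall_dim_pos
    intro ξ hξ
    have hz : p.fiberι s ξ ∉ U := hξ
    have h2 := hU _ hz
    exact le_of_le_of_eq h2 (dim_fiberStalk p s ξ)

end Groth.Agent.Lib.Helper4.TorsSD
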