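import Groth.Prelude.Def_EGA4c
import Mathlib.AlgebraicGeometry.Modules.Tilde
import Mathlib.RingTheory.Ideal.AssociatedPrime.Basic
import Mathlib.RingTheory.Regular.RegularSequence

/-!
# Sections of `M~` over `Spec A ∖ V(J)` (helper4)

Concrete (dependent-function) description of `EGA4.restrCompl A J M`, and elementwise criteria for
its injectivity / bijectivity.
-/

set_option autoImplicit false
universe u

namespace Groth.Agent.Lib.Helper4.TC

open EGA4 AlgebraicGeometry CategoryTheory Opposite TopologicalSpace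
open scoped Pointwise

variable (A : Type u) [CommRing A] (J : Ideal A) (M : Type u) [AddCommGroup M] [Module A M]

/-- Sections of `M~` over `U` as dependent functions which are locally fractions. -/
abbrev Sec (U : Opens (PrimeSpectrum A)) : Type u :=
  (structureSheafInType (CommRingCat.of A) M).obj.obj (op U)

/-- The open complement of `V(J)` as an open of `PrimeSpectrum A`. -/
abbrev UU : Opens (PrimeSpectrum A) := openCompl A J

variable {A J M}

lemma mem_UU_iff {x : PrimeSpectrum A} : x ∈ UU A J ↔ ¬ J ≤ x.asIdeal := by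
  change x ∈ (PrimeSpectrum.zeroLocus (J : Set A))ᶜ ↔ _
  rw [Set.mem_compl_iff, PrimeSpectrum.mem_zeroLocus]
  rfl

lemma exists_mem_of_mem_UU {x : PrimeSpectrum A} (hx : x ∈ UU A J) :
    ∃ h ∈ J, h ∉ x.asIdeal := by
  rw [mem_UU_iff] at hx
  exact SetLike.not_le_iff_exists.mp hx

lemma mem_UU_of_mem {x : PrimeSpectrum A} {h : A} (hJ : h ∈ J) (hx : h ∉ x.asIdeal) :
    x ∈ UU A J := by
  rw [mem_UU_iff]
  exact fun hle => hx (hle hJ)

variable (A J M)

/-- The restriction map in the dependent function model. -/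
noncomputable def restr : Sec A M ⊤ → Sec A M (UU A J) :=
  fun s => (show (tildeOf A M).val.obj (op (openCompl A J)) from
    restrCompl A J M (show (tildeOf A M).val.obj (op ⊤) from s))

lemma restr_apply (s : Sec A M ⊤) (x : UU A J) : (restr A J M s).1 x = s.1 ⟨x.1, trivial⟩ := rfl

lemma injective_restrCompl_iff :
    Function.Injective (restrCompl A J M) ↔ Function.Injective (restr A J M) := Iff.rfl

lemma surjective_restrCompl_iff :
    Function.Surjective (restrCompl A J M) ↔ Function.Surjective (restr A J M) := Iff.rfl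

/-- The global section attached to `m`. -/
noncomputable def gl (m : M) : Sec A M ⊤ := StructureSheaf.toOpenₗ (CommRingCat.of A) M ⊤ m

lemma gl_apply (m : M) (x : (⊤ : Opens (PrimeSpectrum A))) :
    (gl A M m).1 x = LocalizedModule.mk m 1 := rfl

lemma gl_bijective : Function.Bijective (gl A M) :=
  StructureSheaf.toOpenₗ_top_bijective


/-- The section over `U` attached to `m`. -/
noncomputable def cst (U : Opens (PrimeSpectrum A)) (m : M) : Sec A M U :=
  StructureSheaf.toOpenₗ (CommRingCat.of A) M U m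

lemma cst_apply (U : Opens (PrimeSpectrum A)) (m : M) (x : U) :
    (cst A M U m).1 x = LocalizedModule.mk m 1 := rfl

lemma restr_gl (m : M) : restr A J M (gl A M m) = cst A M (UU A J) m := rfl

variable {A M}

lemma mk_eq_zero_iff {S : Submonoid A} (m : M) (s : S) :
    LocalizedModule.mk m s = 0 ↔ ∃ u : S, u • m = 0 := by
  rw [← LocalizedModule.zero_mk s, LocalizedModule.mk_eq]
  constructor
  · rintro ⟨u, hu⟩
    refine ⟨u * s, ?_⟩
    rw [mul_smul, hu, smul_zero, smul_zero]
  · rintro ⟨u, hu⟩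
    refine ⟨u, ?_⟩
    rw [smul_comm, hu, smul_zero, smul_zero]

lemma mk_eq_zero_of_smul {x : PrimeSpectrum A} (m : M) (s : x.asIdeal.primeCompl) {u : A}
    (hu : u ∉ x.asIdeal) (h : u • m = 0) :
    (LocalizedModule.mk m s : LocalizedModule x.asIdeal.primeCompl M) = 0 :=
  (mk_eq_zero_iff m s).mpr ⟨⟨u, hu⟩, h⟩

lemma exists_smul_of_mk_eq_zero {x : PrimeSpectrum A} (m : M) (s : x.asIdeal.primeCompl)
    (h : (LocalizedModule.mk m s : LocalizedModule x.asIdeal.primeCompl M) = 0) :
    ∃ u : A, u ∉ x.asIdeal ∧ u • m = 0 := by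
  obtain ⟨u, hu⟩ := (mk_eq_zero_iff m s).mp h
  exact ⟨u.1, u.2, hu⟩

variable {J}

/-- If `m` lies in `N` locally at every point outside `V(J)`, then every element of `J` has a power
multiplying `m` into `N`. -/
lemma exists_pow_smul_mem (N : Submodule A M) (m : M)
    (H : ∀ x : PrimeSpectrum A, x ∈ UU A J → ∃ u : A, u ∉ x.asIdeal ∧ u • m ∈ N)
    {h : A} (hJ : h ∈ J) : ∃ k : ℕ, h ^ k • m ∈ N := by
  have hle : J ≤ (N.colon {m}).radical := by
    rw [Ideal.radical_eq_sInf]
    refine le_sInf ?_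
    rintro P ⟨hP, hPp⟩
    by_contra hJP
    obtain ⟨u, hu, hum⟩ := H ⟨P, hPp⟩ (mem_UU_iff.mpr hJP)
    exact hu (hP (Submodule.mem_colon_singleton.mpr hum))
  obtain ⟨k, hk⟩ := hle hJ
  exact ⟨k, Submodule.mem_colon_singleton.mp hk⟩

variable (A J M)

/-- Injectivity of the restriction map, elementwise. -/
lemma injective_restr_iff :
    Function.Injective (restr A J M) ↔
      ∀ m : M, (∀ x : PrimeSpectrum A, x ∈ UU A J → ∃ u : A, u ∉ x.asIdeal ∧ u • m = 0) →
        m = 0 := by
  constructor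
  · intro hinj m H
    apply (gl_bijective A M).1
    apply hinj
    refine Subtype.ext (funext fun x => ?_)
    obtain ⟨u, hu, hum⟩ := H x.1 x.2
    obtain ⟨x, hx⟩ := x
    have hxp : (x : PrimeSpectrum A).asIdeal.IsPrime := x.2
    change (LocalizedModule.mk m 1 :
      LocalizedModule (x : PrimeSpectrum A).asIdeal.primeCompl M) = LocalizedModule.mk 0 1
    rw [mk_eq_zero_of_smul (x := x) m 1 hu hum, LocalizedModule.zero_mk]
  · intro H s t hst
    obtain ⟨m, rfl⟩ := (gl_bijective A M).2 s
    obtain ⟨m', rfl⟩ := (gl_bijective A M).2 t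
    have : m - m' = 0 := by
      apply H
      intro x hx
      have h1 : (LocalizedModule.mk m 1 : LocalizedModule x.asIdeal.primeCompl M) =
          LocalizedModule.mk m' 1 := congr_fun (congr_arg Subtype.val hst) ⟨x, hx⟩
      rw [LocalizedModule.mk_eq] at h1
      obtain ⟨u, hu⟩ := h1
      refine ⟨u.1, u.2, ?_⟩
      rw [one_smul, one_smul] at hu
      rw [smul_sub, sub_eq_zero]
      exact hu
    rw [sub_eq_zero.mp this]

/-- Injectivity of the restriction map in terms of `J`-power torsion. -/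
lemma injective_restr_iff_radical :
    Function.Injective (restr A J M) ↔
      ∀ m : M, J ≤ ((⊥ : Submodule A M).colon {m}).radical → m = 0 := by
  rw [injective_restr_iff]
  refine forall_congr' fun m => ?_
  constructor
  · intro H hle
    apply H
    intro x hx
    by_contra hcon
    push Not at hcon
    apply mem_UU_iff.mp hx
    refine hle.trans ?_
    rw [x.2.radical_le_iff]
    intro u hu
    by_contra hux
    exact hcon u hux (by simpa [Submodule.mem_colon_singleton] using hu)
  · intro H hloc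
    apply H
    intro h hJ
    obtain ⟨k, hk⟩ := exists_pow_smul_mem (J := J) (⊥ : Submodule A M) m
      (fun x hx => by
        obtain ⟨u, hu, hum⟩ := hloc x hx
        exact ⟨u, hu, by simpa using hum⟩) hJ
    exact ⟨k, Submodule.mem_colon_singleton.mpr hk⟩


section Regular

variable {A J M}

/-- `f ∉ x` acts injectively on `M_x`. -/
lemma eq_zero_of_smul_eq_zero_of_notMem {x : PrimeSpectrum A} {f : A} (hf : f ∉ x.asIdeal)
    (z : LocalizedModule x.asIdeal.primeCompl M) (h : f • z = 0) : z = 0 := by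
  induction z using LocalizedModule.induction_on with
  | h n s =>
    rw [LocalizedModule.smul'_mk] at h
    obtain ⟨u, hu, hun⟩ := exists_smul_of_mk_eq_zero _ _ h
    refine mk_eq_zero_of_smul n s (u := u * f) (x.2.mul_notMem hu hf) ?_
    rw [mul_smul]; exact hun

/-- If `f` is `M`-regular, a section of `M~` over `U` vanishing on `U ∩ D(f)` vanishes. -/
lemma eq_zero_of_regular {f : A} (hf : IsSMulRegular M f) (U : Opens (PrimeSpectrum A))
    (t : Sec A M U)
    (H : ∀ (y : PrimeSpectrum A) (hy : y ∈ U), f ∉ y.asIdeal → t.1 ⟨y, hy⟩ = 0)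
    (x : PrimeSpectrum A) (hx : x ∈ U) : t.1 ⟨x, hx⟩ = 0 := by
  obtain ⟨g, hxg, i, n, hn⟩ := StructureSheaf.exists_const (R := CommRingCat.of A) U t x hx
  have hval : ∀ (y : PrimeSpectrum A) (hy : y ∈ PrimeSpectrum.basicOpen g),
      t.1 ⟨y, i hy⟩ = LocalizedModule.mk n ⟨g, hy⟩ := by
    intro y hy
    exact (congr_fun (congr_arg Subtype.val hn) ⟨y, hy⟩).symm
  have key : ∃ k : ℕ, (g * f) ^ k • n ∈ (⊥ : Submodule A M) := by
    refine exists_pow_smul_mem (J := Ideal.span {g * f}) (⊥ : Submodule A M) n ?_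
      (Ideal.mem_span_singleton_self _)
    intro y hy
    have hgf : g * f ∉ y.asIdeal := fun h =>
      (mem_UU_iff.mp hy) ((Ideal.span_singleton_le_iff_mem _).mpr h)
    have hg : g ∉ y.asIdeal := fun h => hgf (y.asIdeal.mul_mem_right _ h)
    have hf' : f ∉ y.asIdeal := fun h => hgf (y.asIdeal.mul_mem_left _ h)
    have h0 := H y (i hg) hf'
    rw [hval y hg] at h0
    obtain ⟨u, hu, hun⟩ := exists_smul_of_mk_eq_zero _ _ h0
    exact ⟨u, hu, by simpa using hun⟩
  obtain ⟨k, hk⟩ := key
  have h1 : g ^ k • n = 0 := by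
    apply hf.pow k
    change f ^ k • (g ^ k • n) = f ^ k • 0
    rw [smul_zero, ← mul_smul, ← mul_pow, mul_comm]
    simpa using hk
  rw [hval x hxg]
  exact mk_eq_zero_of_smul n _ (u := g ^ k) (fun h => hxg (x.2.mem_of_pow_mem k h)) h1

/-- If `g ∈ J` is regular on `M/fM` and `f • s = m` on `Spec A ∖ V(J)`, then `m ∈ fM`. -/
lemma mem_of_smul_eq {f g : A} (hgJ : g ∈ J) (hg : IsSMulRegular (QuotSMulTop f M) g)
    (s : Sec A M (UU A J)) (m : M)
    (H : ∀ (x : PrimeSpectrum A) (hx : x ∈ UU A J),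
      f • s.1 ⟨x, hx⟩ = (LocalizedModule.mk m 1 : LocalizedModule x.asIdeal.primeCompl M)) :
    ∃ m' : M, m = f • m' := by
  have key : ∃ k : ℕ, g ^ k • m ∈ (f • (⊤ : Submodule A M) : Submodule A M) := by
    refine exists_pow_smul_mem (J := J) _ m ?_ hgJ
    intro x hx
    have h0 := H x hx
    generalize s.1 ⟨x, hx⟩ = z at h0
    induction z using LocalizedModule.induction_on with
    | h n h' =>
      rw [LocalizedModule.smul'_mk, LocalizedModule.mk_eq] at h0
      obtain ⟨u, hu⟩ := h0
      refine ⟨u.1 * h'.1, x.2.mul_notMem u.2 h'.2, ?_⟩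
      rw [Submodule.mem_smul_pointwise_iff_exists]
      refine ⟨u.1 • n, trivial, ?_⟩
      rw [one_smul] at hu
      rw [mul_smul, smul_comm]
      exact hu
  obtain ⟨k, hk⟩ := key
  have h0 : g ^ k • (Submodule.Quotient.mk m : QuotSMulTop f M) = 0 := by
    rw [← Submodule.Quotient.mk_smul, Submodule.Quotient.mk_eq_zero]; exact hk
  have h1 : (Submodule.Quotient.mk m : QuotSMulTop f M) = 0 :=
    (hg.pow k) (by
      change g ^ k • (Submodule.Quotient.mk m : QuotSMulTop f M) = g ^ k • 0
      rw [h0, smul_zero])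
  rw [Submodule.Quotient.mk_eq_zero, Submodule.mem_smul_pointwise_iff_exists] at h1
  obtain ⟨m', -, hm'⟩ := h1
  exact ⟨m', hm'.symm⟩


lemma sub_cst_apply (U : Opens (PrimeSpectrum A)) (s : Sec A M U) (m : M) (x : PrimeSpectrum A)
    (hx : x ∈ U) :
    (s - cst A M U m).1 ⟨x, hx⟩ =
      s.1 ⟨x, hx⟩ - (LocalizedModule.mk m 1 : LocalizedModule x.asIdeal.primeCompl M) := rfl

lemma smul_apply (U : Opens (PrimeSpectrum A)) (s : Sec A M U) (r : A) (x : PrimeSpectrum A)
    (hx : x ∈ U) : (r • s).1 ⟨x, hx⟩ = r • s.1 ⟨x, hx⟩ := rfl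

/-- If two sections agree on `U ∩ D(f)` with `f` regular on `M`, they agree. -/
lemma eq_cst_of_regular {f : A} (hf : IsSMulRegular M f) (U : Opens (PrimeSpectrum A))
    (s : Sec A M U) (m : M)
    (H : ∀ (y : PrimeSpectrum A) (hy : y ∈ U), f ∉ y.asIdeal →
      s.1 ⟨y, hy⟩ = (LocalizedModule.mk m 1 : LocalizedModule y.asIdeal.primeCompl M))
    (x : PrimeSpectrum A) (hx : x ∈ U) :
    s.1 ⟨x, hx⟩ = (LocalizedModule.mk m 1 : LocalizedModule x.asIdeal.primeCompl M) := by
  have h0 := eq_zero_of_regular hf U (s - cst A M U m) (fun y hy hfy => by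
    rw [sub_cst_apply, H y hy hfy, sub_self]) x hx
  rw [sub_cst_apply, sub_eq_zero] at h0
  exact h0

lemma exists_of_pow_smul_eq {f g : A} (hf : IsSMulRegular M f) (hgJ : g ∈ J)
    (hg : IsSMulRegular (QuotSMulTop f M) g) :
    ∀ (a : ℕ) (s : Sec A M (UU A J)) (m₁ : M),
      (∀ (x : PrimeSpectrum A) (hx : x ∈ UU A J), f ^ a • s.1 ⟨x, hx⟩ =
        (LocalizedModule.mk m₁ 1 : LocalizedModule x.asIdeal.primeCompl M)) →
      ∃ m : M, ∀ (x : PrimeSpectrum A) (hx : x ∈ UU A J), s.1 ⟨x, hx⟩ =
        (LocalizedModule.mk m 1 : LocalizedModule x.asIdeal.primeCompl M) := by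
  intro a
  induction a with
  | zero =>
    intro s m₁ H
    exact ⟨m₁, fun x hx => by simpa using H x hx⟩
  | succ a ih =>
    intro s m₁ H
    obtain ⟨m', rfl⟩ := mem_of_smul_eq hgJ hg (f ^ a • s) m₁ (fun x hx => by
      rw [← H x hx, pow_succ', mul_smul, smul_apply])
    apply ih s m'
    intro x hx
    have h1 := eq_cst_of_regular hf (UU A J) (f ^ a • s) m' (fun y hy hfy => by
      apply sub_eq_zero.mp
      apply eq_zero_of_smul_eq_zero_of_notMem hfy
      rw [smul_sub, smul_apply, ← mul_smul, ← pow_succ', H y hy, LocalizedModule.smul'_mk,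
        sub_self]) x hx
    rw [smul_apply] at h1
    exact h1

/-- **Surjectivity**: if `f, g ∈ J` with `f` regular on `M` and `g` regular on `M/fM`, every section
of `M~` over `Spec A ∖ V(J)` extends to a global section. -/
theorem surjective_restr_of_regular {f g : A} (hfJ : f ∈ J) (hgJ : g ∈ J)
    (hf : IsSMulRegular M f) (hg : IsSMulRegular (QuotSMulTop f M) g) :
    Function.Surjective (restr A J M) := by
  intro s
  have hle : PrimeSpectrum.basicOpen f ≤ UU A J := fun x hx => mem_UU_of_mem hfJ hx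
  let sf : Sec A M (PrimeSpectrum.basicOpen f) :=
    (structureSheafInType (CommRingCat.of A) M).obj.map (homOfLE hle).op s
  obtain ⟨⟨m₁, ⟨_, a, rfl⟩⟩, h⟩ := IsLocalizedModule.surj (Submonoid.powers f)
    (StructureSheaf.toOpenₗ (CommRingCat.of A) M (PrimeSpectrum.basicOpen f)) sf
  obtain ⟨m, hm⟩ := exists_of_pow_smul_eq hf hgJ hg a s m₁ (fun x hx => by
    have h1 := eq_cst_of_regular hf (UU A J) (f ^ a • s) m₁ (fun y hy hfy => by
      exact congr_fun (congr_arg Subtype.val h) ⟨y, hfy⟩) x hx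
    rw [smul_apply] at h1
    exact h1)
  refine ⟨gl A M m, Subtype.ext (funext fun x => ?_)⟩
  exact (hm x.1 x.2).symm

/-- Injectivity when `J` contains an `M`-regular element. -/
theorem injective_restr_of_regular {f : A} (hfJ : f ∈ J) (hf : IsSMulRegular M f) :
    Function.Injective (restr A J M) := by
  rw [injective_restr_iff]
  intro m H
  obtain ⟨k, hk⟩ := exists_pow_smul_mem (J := J) (⊥ : Submodule A M) m (fun x hx => by
    obtain ⟨u, hu, hum⟩ := H x hx
    exact ⟨u, hu, by simpa using hum⟩) hfJ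
  apply hf.pow k
  change f ^ k • m = f ^ k • 0
  rw [smul_zero]
  simpa using hk

theorem bijective_restrCompl_of_regular {f g : A} (hfJ : f ∈ J) (hgJ : g ∈ J)
    (hf : IsSMulRegular M f) (hg : IsSMulRegular (QuotSMulTop f M) g) :
    Function.Bijective (restrCompl A J M) :=
  ⟨injective_restr_of_regular hfJ hf, surjective_restr_of_regular hfJ hgJ hf hg⟩

end Regular

end Groth.Agent.Lib.Helper4.TC
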