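import Groth.Agent.Lib.Helper4TildeCompl
import Groth.Agent.Lib.Helper28DepthMore

/-!
# Sections of `M~` over `Spec A ∖ V(J)`, part 2 (helper4): depth criteria

* `two_le_idealDepth_of_bijective`: if `Γ(Spec A, M~) → Γ(Spec A ∖ V(J), M~)` is bijective (A Noetherian,
  M finite) then `depth_J M ≥ 2`.
* `bijective_restrCompl_iff`: the converse too.
-/

set_option autoImplicit false
universe u

namespace Groth.Agent.Lib.Helper4.TC

open EGA4 AlgebraicGeometry CategoryTheory Opposite TopologicalSpace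
open Groth.Agent.Lib.Helper28
open scoped Pointwise

variable {A : Type u} [CommRing A] {J : Ideal A} {M : Type u} [AddCommGroup M] [Module A M]

/-- Gluing: if `f` is `M`-regular and `J m ⊆ f M`, there is a section `s` of `M~` over
`Spec A ∖ V(J)` with `f s = m`. -/
theorem exists_section_of_colon {f : A} (hf : IsSMulRegular M f) (m : M)
    (H : ∀ h ∈ J, ∃ n : M, h • m = f • n) :
    ∃ s : Sec A M (UU A J), ∀ (x : PrimeSpectrum A) (hx : x ∈ UU A J),
      f • s.1 ⟨x, hx⟩ = (LocalizedModule.mk m 1 : LocalizedModule x.asIdeal.primeCompl M) := by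
  classical
  have hex : ∀ x : UU A J, ∃ h : A, ∃ n : M, h ∈ J ∧ h ∉ (x.1 : PrimeSpectrum A).asIdeal ∧
      h • m = f • n := by
    intro x
    obtain ⟨h, hJ, hx⟩ := exists_mem_of_mem_UU x.2
    obtain ⟨n, hn⟩ := H h hJ
    exact ⟨h, n, hJ, hx, hn⟩
  choose hh nn hhJ hhx hhn using hex
  refine ⟨⟨fun x => LocalizedModule.mk (nn x) ⟨hh x, hhx x⟩, ?_⟩, ?_⟩
  · intro (x : UU A J)
    refine ⟨PrimeSpectrum.basicOpen (hh x) ⊓ UU A J, ⟨hhx x, x.2⟩, homOfLE inf_le_right, nn x,
      hh x, ?_⟩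
    intro y
    have key : hh x • nn ⟨y.1, y.2.2⟩ = hh ⟨y.1, y.2.2⟩ • nn x := by
      apply hf
      change f • (hh x • nn _) = f • (hh _ • nn x)
      rw [smul_comm f (hh x), ← hhn ⟨y.1, y.2.2⟩, smul_comm f _ (nn x), ← hhn x, smul_comm]
    refine ⟨y.2.1, ?_⟩
    rw [LocalizedModule.mk_eq]
    exact ⟨1, by rw [one_smul, one_smul]; exact key⟩
  · intro x hx
    change f • LocalizedModule.mk (nn ⟨x, hx⟩) ⟨hh ⟨x, hx⟩, hhx ⟨x, hx⟩⟩ = _
    rw [LocalizedModule.smul'_mk, ← hhn, LocalizedModule.mk_eq]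
    exact ⟨1, by simp [Submonoid.smul_def]⟩


variable [IsNoetherianRing A] [Module.Finite A M]

/-- An injective restriction map forces a regular element in `J` (when `JM ≠ M`). -/
theorem one_le_idealDepth_of_injective (hIM : J • (⊤ : Submodule A M) ≠ ⊤)
    (hinj : Function.Injective (restr A J M)) : 1 ≤ LocCoh.idealDepth J M := by
  rw [Order.one_le_iff_ne_zero]
  intro h0
  obtain ⟨p, hp, hJp⟩ := (idealDepth_eq_zero_iff hIM).mp h0
  obtain ⟨hpp, m, rfl⟩ := hp
  have hm := (injective_restr_iff_radical A J M).mp hinj m hJp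
  subst hm
  apply hpp.ne_top
  simp

/-- If `Γ(Spec A, M~) → Γ(Spec A ∖ V(J), M~)` is bijective then `depth_J M ≥ 2`. -/
theorem two_le_idealDepth_of_bijective (hbij : Function.Bijective (restrCompl A J M)) :
    2 ≤ LocCoh.idealDepth J M := by
  by_cases hIM : J • (⊤ : Submodule A M) = ⊤
  · rw [idealDepth_eq_top_of_smul_top_eq_top J M hIM]; exact le_top
  have h1 := one_le_idealDepth_of_injective hIM hbij.1
  obtain ⟨f, hfJ, hf⟩ := (one_le_idealDepth_iff hIM).mp h1
  rw [← idealDepth_quotSMulTop_add_one J M hIM f hfJ hf]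
  have hIM' := smul_top_quotSMulTop_ne_top hfJ hIM
  suffices h : 1 ≤ LocCoh.idealDepth J (QuotSMulTop f M) by
    calc (2 : ℕ∞) = 1 + 1 := by norm_num
      _ ≤ _ := add_le_add_left h 1
  rw [Order.one_le_iff_ne_zero]
  intro h0
  obtain ⟨p, hp, hJp⟩ := (idealDepth_eq_zero_iff hIM').mp h0
  rw [AssociatedPrimes.mem_iff, isAssociatedPrime_iff] at hp
  obtain ⟨hpp, mbar, rfl⟩ := hp
  obtain ⟨m, rfl⟩ := Submodule.Quotient.mk_surjective _ mbar
  have H : ∀ h ∈ J, ∃ n : M, h • m = f • n := by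
    intro h hJ
    have h2 := hJp hJ
    rw [Submodule.mem_colon_singleton, Submodule.mem_bot, ← Submodule.Quotient.mk_smul,
      Submodule.Quotient.mk_eq_zero, Submodule.mem_smul_pointwise_iff_exists] at h2
    obtain ⟨n, -, hn⟩ := h2
    exact ⟨n, hn.symm⟩
  obtain ⟨s, hs⟩ := exists_section_of_colon hf m H
  obtain ⟨s₀, rfl⟩ := (surjective_restrCompl_iff A J M).mp hbij.2 s
  obtain ⟨n, rfl⟩ := (gl_bijective A M).2 s₀
  have h3 : f • n - m = 0 := by
    apply (injective_restr_iff A J M).mp hbij.1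
    intro x hx
    have h4 := hs x hx
    change f • (LocalizedModule.mk n 1 : LocalizedModule x.asIdeal.primeCompl M) = _ at h4
    rw [LocalizedModule.smul'_mk, LocalizedModule.mk_eq] at h4
    obtain ⟨u, hu⟩ := h4
    refine ⟨u.1, u.2, ?_⟩
    rw [one_smul, one_smul] at hu
    rw [smul_sub, sub_eq_zero]; exact hu
  apply hpp.ne_top
  have hm0 : (Submodule.Quotient.mk m : QuotSMulTop f M) = 0 := by
    rw [Submodule.Quotient.mk_eq_zero, Submodule.mem_smul_pointwise_iff_exists]
    exact ⟨n, trivial, sub_eq_zero.mp h3⟩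
  rw [hm0]
  simp

/-- **Main criterion** (A Noetherian, M finite): the restriction map
`Γ(Spec A, M~) → Γ(Spec A ∖ V(J), M~)` is bijective iff `M_p` has depth at least two at every
prime `p ⊇ J`. -/
theorem bijective_restrCompl_iff :
    Function.Bijective (restrCompl A J M) ↔
      ∀ (p : Ideal A) [p.IsPrime], J ≤ p →
        (2 : ℕ∞) ≤ LocCoh.depth (Localization.AtPrime p) (LocalizedModule p.primeCompl M) := by
  constructor
  · intro hbij p _ hJp
    exact (two_le_idealDepth_of_bijective hbij).trans (idealDepth_le_depth_localization p M hJp)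
  · intro H
    obtain ⟨fs, hlen, hmem, hreg⟩ :=
      (forall_le_depth_localization_iff_exists_isWeaklyRegular (I := J) (M := M) 2).mp
        (fun p _ hp => by exact_mod_cast H p hp)
    match fs, hlen with
    | [f, g], _ =>
      rw [RingTheory.Sequence.isWeaklyRegular_cons_iff,
        RingTheory.Sequence.isWeaklyRegular_cons_iff] at hreg
      exact bijective_restrCompl_of_regular (hmem f (by simp)) (hmem g (by simp)) hreg.1 hreg.2.1

end Groth.Agent.Lib.Helper4.TC
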