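import Groth.Agent.Lib.Helper4TildeCompl2

/-!
# `Z`-pure and `Z`-closed modules (helper4)

Elementwise / associated-prime / depth characterizations of `EGA4.IsPureAlong` and
`EGA4.IsClosedAlong`.
-/

set_option autoImplicit false
universe u

namespace Groth.Agent.Lib.Helper4.TC

open EGA4 AlgebraicGeometry CategoryTheory Opposite TopologicalSpace
open Groth.Agent.Lib.Helper28
open scoped Pointwise

variable {A : Type u} [CommRing A] {Z : Set (PrimeSpectrum A)} {M : Type u} [AddCommGroup M]
  [Module A M]

/-- `Z`-purity in terms of `J`-power torsion. -/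
theorem isPureAlong_iff_radical :
    IsPureAlong Z M ↔ ∀ J : Ideal A, PrimeSpectrum.zeroLocus (J : Set A) ⊆ Z →
      ∀ m : M, J ≤ ((⊥ : Submodule A M).colon {m}).radical → m = 0 := by
  refine forall_congr' fun J => imp_congr_right fun _ => ?_
  rw [injective_restrCompl_iff, injective_restr_iff_radical]

theorem zeroLocus_subset_of_mem (hZ : StableUnderSpecialization Z) {p : PrimeSpectrum A}
    (hp : p ∈ Z) : PrimeSpectrum.zeroLocus (p.asIdeal : Set A) ⊆ Z := fun q hq =>
  hZ ((PrimeSpectrum.le_iff_specializes p q).mp hq) hp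

/-- `Z`-purity means no associated prime lies in `Z` (A Noetherian, `Z` specialization-stable). -/
theorem isPureAlong_iff_associatedPrimes [IsNoetherianRing A] (hZ : StableUnderSpecialization Z) :
    IsPureAlong Z M ↔ ∀ p : PrimeSpectrum A, p.asIdeal ∈ associatedPrimes A M → p ∉ Z := by
  rw [isPureAlong_iff_radical]
  constructor
  · intro H p hp hpZ
    obtain ⟨hpp, m, hm⟩ := hp
    have h0 := H p.asIdeal (zeroLocus_subset_of_mem hZ hpZ) m hm.le
    subst h0
    apply hpp.ne_top
    rw [hm]
    simp
  · intro H J hJ m hm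
    by_contra hne
    obtain ⟨P, hP, hle⟩ := exists_le_isAssociatedPrime_of_isNoetherianRing A m hne
    have hPp : P.IsPrime := hP.isPrime
    refine H ⟨P, hPp⟩ hP (hJ ?_)
    rw [PrimeSpectrum.mem_zeroLocus]
    exact hm.trans (hPp.radical_le_iff.mpr hle)

/-- `Z`-purity means depth at least one at all points of `Z` (A Noetherian, M finite). -/
theorem isPureAlong_iff_depth [IsNoetherianRing A] [Module.Finite A M]
    (hZ : StableUnderSpecialization Z) :
    IsPureAlong Z M ↔ ∀ p : PrimeSpectrum A, p ∈ Z →
      (1 : ℕ∞) ≤ LocCoh.depth (Localization.AtPrime p.asIdeal)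
        (LocalizedModule p.asIdeal.primeCompl M) := by
  rw [isPureAlong_iff_associatedPrimes hZ]
  refine forall_congr' fun p => ?_
  rw [Order.one_le_iff_ne_zero, Ne, depth_localization_eq_zero_iff]
  tauto

/-- `Z`-closedness means depth at least two at all points of `Z` (A Noetherian, M finite). -/
theorem isClosedAlong_iff_depth [IsNoetherianRing A] [Module.Finite A M]
    (hZ : StableUnderSpecialization Z) :
    IsClosedAlong Z M ↔ ∀ p : PrimeSpectrum A, p ∈ Z →
      (2 : ℕ∞) ≤ LocCoh.depth (Localization.AtPrime p.asIdeal)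
        (LocalizedModule p.asIdeal.primeCompl M) := by
  constructor
  · intro hcl p hpZ
    exact (bijective_restrCompl_iff.mp (hcl p.asIdeal (zeroLocus_subset_of_mem hZ hpZ)))
      p.asIdeal le_rfl
  · intro H J hJ
    apply bijective_restrCompl_iff.mpr
    intro p hp hJp
    exact H ⟨p, hp⟩ (hJ hJp)

end Groth.Agent.Lib.Helper4.TC
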