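import Groth.Prelude.Def_NonAbH2
set_option autoImplicit false
universe u
open CategoryTheory MonoidalCategory CartesianMonoidalCategory MonObj AlgebraicGeometry

namespace Groth.Agent.Lib.Helper4.Tors

variable {S : Scheme.{u}} {G X : Over S} [GrpObj G] (a : AlgGrp.Action G X)

/-- orbit map of a section -/
noncomputable def orb (o : 𝟙_ (Over S) ⟶ X) : G ⟶ X := lift (𝟙 G) (toUnit G ≫ o) ≫ a.act

theorem orb_equivariant (o : 𝟙_ (Over S) ⟶ X) :
    μ[G] ≫ orb a o = (G ◁ orb a o) ≫ a.act := by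
  unfold orb
  have h1 : μ[G] ≫ lift (𝟙 G) (toUnit G ≫ o) =
      lift (𝟙 (G ⊗ G)) (toUnit (G ⊗ G) ≫ o) ≫ (μ[G] ▷ X) := by
    apply CartesianMonoidalCategory.hom_ext
    · simp
    · simp
  have h2 : lift (𝟙 (G ⊗ G)) (toUnit (G ⊗ G) ≫ o) ≫ (α_ G G X).hom =
      G ◁ lift (𝟙 G) (toUnit G ≫ o) := by
    apply CartesianMonoidalCategory.hom_ext
    · simp
    · apply CartesianMonoidalCategory.hom_ext
      · simp
      · simp
  rw [reassoc_of% h1, a.mul_act, reassoc_of% h2, MonoidalCategory.whiskerLeft_comp, Category.assoc]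

theorem isIso_orb (h : NonAbH1.IsPseudoTorsorSch a) (o : 𝟙_ (Over S) ⟶ X) : IsIso (orb a o) := by
  have : IsIso (lift a.act (snd G X)) := h
  set Φ := lift a.act (snd G X) with hΦ
  have hΦ1 : Φ ≫ fst X X = a.act := by simp [Φ]
  have hΦ2 : Φ ≫ snd X X = snd G X := by simp [Φ]
  have h2 : inv Φ ≫ snd G X = snd X X := by rw [IsIso.inv_comp_eq, hΦ2]
  have h3 : inv Φ ≫ a.act = fst X X := by rw [IsIso.inv_comp_eq, hΦ1]
  let ψ : X ⟶ G := lift (𝟙 X) (toUnit X ≫ o) ≫ inv Φ ≫ fst G X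
  have k1 : lift (orb a o) (toUnit G ≫ o) = lift (𝟙 G) (toUnit G ≫ o) ≫ Φ := by
    apply CartesianMonoidalCategory.hom_ext
    · simp [orb, hΦ1]
    · simp [hΦ2]
  have k2 : lift (𝟙 X) (toUnit X ≫ o) ≫ inv Φ = lift ψ (toUnit X ≫ o) := by
    apply CartesianMonoidalCategory.hom_ext
    · simp [ψ]
    · simp [h2]
  refine ⟨ψ, ?_, ?_⟩
  · have : orb a o ≫ ψ = lift (orb a o) (toUnit G ≫ o) ≫ inv Φ ≫ fst G X := by
      simp only [ψ, ← Category.assoc]
      congr 2
      apply CartesianMonoidalCategory.hom_ext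
      · simp
      · simp
    rw [this, k1]
    simp
  · have : ψ ≫ orb a o = lift ψ (toUnit X ≫ o) ≫ a.act := by
      unfold orb
      rw [← Category.assoc]
      congr 1
      apply CartesianMonoidalCategory.hom_ext
      · simp
      · simp
    rw [this, ← k2, Category.assoc, h3]
    simp

end Groth.Agent.Lib.Helper4.Tors

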