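import Groth.Agent.Lib.Helper4Allied
import Groth.Agent.S2246
import Groth.Agent.S2353
import Mathlib.AlgebraicGeometry.FunctionField
import Mathlib.AlgebraicGeometry.AffineScheme
import Mathlib.RingTheory.Valuation.LocalSubring
import Mathlib.AlgebraicGeometry.Noetherian

/-!
# Integral schemes covered by two affine charts `U₀ = {s₁ ≠ ∞}`, `U₁ = {s₀ ≠ ∞}` (helper4)

For an integral scheme `X` with two affine opens `U₀, U₁` covering it and sections `s₀, s₁` with
`s₀ s₁ = 1` in the function field and `D(s₀) ⊆ U₁`, `D(s₁) ⊆ U₀`: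
* `isSeparated_of_two_charts`: `X` is separated (via S2246);
* `isProper_of_two_charts`: if moreover `X` is of finite type over a field `k` and `Γ(U_i)` is
  integral over `k[s_i]`, then `X → Spec k` is proper (via S2353).
-/

set_option autoImplicit false
set_option linter.style.haveILetI false
universe u

open CategoryTheory AlgebraicGeometry

namespace Groth.Agent.Lib.Helper4.TwoChart

open Groth.Agent.Lib.Helper4.Allied

variable {X : Scheme.{u}} [IsIntegral X]

/-- Sections over an affine open containing `x` land in any local subring `Q` dominating `O_x`,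
and land in its maximal ideal iff they vanish at `x`. -/
lemma mem_of_dominates {U : X.Opens} (hU : IsAffineOpen U) (x : X) (hx : x ∈ U)
    (Q : LocalSubring X.functionField)
    (hQ : LocalSubring.range (algebraMap (X.presheaf.stalk x) X.functionField) ≤ Q)
    (a : Γ(X, U)) :
    haveI : Nonempty U := ⟨⟨x, hx⟩⟩
    ∃ h : algebraMap Γ(X, U) X.functionField a ∈ Q.toSubring,
      ((⟨_, h⟩ : Q.toSubring) ∈ IsLocalRing.maximalIdeal Q.toSubring ↔
        a ∈ (hU.primeIdealOf ⟨x, hx⟩).asIdeal) := by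
  haveI : Nonempty U := ⟨⟨x, hx⟩⟩
  have hloc := isLocalHom_toQ x Q hQ
  letI : Algebra Γ(X, U) (X.presheaf.stalk x) :=
    TopCat.Presheaf.algebra_section_stalk X.presheaf (⟨x, hx⟩ : U)
  have hst : IsLocalization.AtPrime (X.presheaf.stalk x) (hU.primeIdealOf ⟨x, hx⟩).asIdeal :=
    hU.isLocalization_stalk ⟨x, hx⟩
  have e1 : algebraMap Γ(X, U) X.functionField a =
      algebraMap (X.presheaf.stalk x) X.functionField (X.presheaf.germ U x hx a) := by
    rw [Scheme.algebraMap_germ_eq_germToFunctionField]; rfl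
  have hmem : algebraMap Γ(X, U) X.functionField a ∈ Q.toSubring := by
    rw [e1]; exact hQ.1 ⟨_, rfl⟩
  refine ⟨hmem, ?_⟩
  have e2 : (⟨_, hmem⟩ : Q.toSubring) = toQ x Q hQ (X.presheaf.germ U x hx a) :=
    Subtype.ext e1
  rw [e2]
  have h3 : X.presheaf.germ U x hx a ∈ IsLocalRing.maximalIdeal (X.presheaf.stalk x) ↔
      a ∈ (hU.primeIdealOf ⟨x, hx⟩).asIdeal :=
    IsLocalization.AtPrime.to_map_mem_maximal_iff (X.presheaf.stalk x)
      (hU.primeIdealOf ⟨x, hx⟩).asIdeal a
  rw [← h3, IsLocalRing.mem_maximalIdeal, IsLocalRing.mem_maximalIdeal, mem_nonunits_iff,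
    mem_nonunits_iff, not_iff_not]
  exact ⟨fun h => hloc.map_nonunit _ h, fun h => h.map _⟩

/-- Two points of one affine chart whose local rings are dominated by one local subring of the
function field coincide. -/
lemma eq_of_same_chart {U : X.Opens} (hU : IsAffineOpen U) (x y : X) (hx : x ∈ U) (hy : y ∈ U)
    (Q : LocalSubring X.functionField)
    (hQx : LocalSubring.range (algebraMap (X.presheaf.stalk x) X.functionField) ≤ Q)
    (hQy : LocalSubring.range (algebraMap (X.presheaf.stalk y) X.functionField) ≤ Q) :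
    x = y := by
  have h : hU.primeIdealOf ⟨x, hx⟩ = hU.primeIdealOf ⟨y, hy⟩ := by
    apply PrimeSpectrum.ext
    ext a
    obtain ⟨h1, h2⟩ := mem_of_dominates hU x hx Q hQx a
    obtain ⟨h1', h2'⟩ := mem_of_dominates hU y hy Q hQy a
    rw [← h2, ← h2']
  have e1 := hU.fromSpec_primeIdealOf ⟨x, hx⟩
  have e2 := hU.fromSpec_primeIdealOf ⟨y, hy⟩
  rw [h] at e1
  exact e1.symm.trans e2

theorem isSeparated_of_two_charts (U₀ U₁ : X.Opens) (h₀ : IsAffineOpen U₀)
    (h₁ : IsAffineOpen U₁) [Nonempty U₀] [Nonempty U₁] (hcov : ∀ x : X, x ∈ U₀ ∨ x ∈ U₁)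
    (s₀ : Γ(X, U₀)) (s₁ : Γ(X, U₁))
    (hs₀ : ∀ x (hx : x ∈ U₀), s₀ ∉ (h₀.primeIdealOf ⟨x, hx⟩).asIdeal → x ∈ U₁)
    (hs₁ : ∀ x (hx : x ∈ U₁), s₁ ∉ (h₁.primeIdealOf ⟨x, hx⟩).asIdeal → x ∈ U₀)
    (hmul : algebraMap Γ(X, U₀) X.functionField s₀ *
      algebraMap Γ(X, U₁) X.functionField s₁ = 1) :
    X.IsSeparated := by
  rw [Groth.Agent.S2246.result]
  intro x y Q hQx hQy
  -- the mixed case
  have mixed : ∀ x y : X, x ∈ U₀ → x ∉ U₁ → y ∈ U₁ → y ∉ U₀ →
      LocalSubring.range (algebraMap (X.presheaf.stalk x) X.functionField) ≤ Q →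
      LocalSubring.range (algebraMap (X.presheaf.stalk y) X.functionField) ≤ Q → False := by
    intro x y hx0 hx1 hy1 hy0 hQx hQy
    have hsx : s₀ ∈ (h₀.primeIdealOf ⟨x, hx0⟩).asIdeal := by
      by_contra hc; exact hx1 (hs₀ x hx0 hc)
    have hsy : s₁ ∈ (h₁.primeIdealOf ⟨y, hy1⟩).asIdeal := by
      by_contra hc; exact hy0 (hs₁ y hy1 hc)
    obtain ⟨m0, hm0⟩ := mem_of_dominates h₀ x hx0 Q hQx s₀
    obtain ⟨m1, hm1⟩ := mem_of_dominates h₁ y hy1 Q hQy s₁
    have k0 := hm0.mpr hsx
    have k1 := hm1.mpr hsy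
    have hone : (1 : Q.toSubring) ∈ IsLocalRing.maximalIdeal Q.toSubring := by
      have := Ideal.mul_mem_right (⟨_, m1⟩ : Q.toSubring) _ k0
      convert this using 1
      exact Subtype.ext hmul.symm
    exact (IsLocalRing.maximalIdeal.isMaximal Q.toSubring).ne_top
      ((Ideal.eq_top_iff_one _).mpr hone)
  by_cases hx0 : x ∈ U₀
  · by_cases hy0 : y ∈ U₀
    · exact eq_of_same_chart h₀ x y hx0 hy0 Q hQx hQy
    · have hy1 : y ∈ U₁ := (hcov y).resolve_left hy0
      by_cases hx1 : x ∈ U₁
      · exact eq_of_same_chart h₁ x y hx1 hy1 Q hQx hQy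
      · exact (mixed x y hx0 hx1 hy1 hy0 hQx hQy).elim
  · have hx1 : x ∈ U₁ := (hcov x).resolve_left hx0
    by_cases hy1 : y ∈ U₁
    · exact eq_of_same_chart h₁ x y hx1 hy1 Q hQx hQy
    · have hy0 : y ∈ U₀ := (hcov y).resolve_right hy1
      exact (mixed y x hy0 hy1 hx1 hx0 hQy hQx).elim

/-- If the sections over an affine open `U` all lie in a valuation subring `R` of the function
field, then `R` dominates the local ring of a point of `U`. -/
lemma exists_dominated_of_sections_mem {U : X.Opens} (hU : IsAffineOpen U) [Nonempty U]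
    (R : ValuationSubring X.functionField)
    (hR : ∀ a : Γ(X, U), algebraMap Γ(X, U) X.functionField a ∈ R) :
    ∃ x : X, (∀ a : X.presheaf.stalk x, algebraMap (X.presheaf.stalk x) X.functionField a ∈ R) ∧
      ∀ a ∈ IsLocalRing.maximalIdeal (X.presheaf.stalk x),
        R.valuation (algebraMap (X.presheaf.stalk x) X.functionField a) < 1 := by
  let g : Γ(X, U) →+* R := (algebraMap Γ(X, U) X.functionField).codRestrict R.toSubring hR
  let p : Ideal Γ(X, U) := (IsLocalRing.maximalIdeal R).comap g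
  haveI : p.IsPrime := Ideal.IsPrime.comap g
  let y : PrimeSpectrum Γ(X, U) := ⟨p, inferInstance⟩
  let x : X := hU.fromSpec y
  have hxU : x ∈ U := by
    have : x ∈ Set.range hU.fromSpec := ⟨y, rfl⟩
    rw [hU.range_fromSpec] at this
    exact this
  have hprime : hU.primeIdealOf ⟨x, hxU⟩ = y := by
    apply hU.fromSpec.isOpenEmbedding.injective
    exact hU.fromSpec_primeIdealOf ⟨x, hxU⟩
  letI : Algebra Γ(X, U) (X.presheaf.stalk x) :=
    TopCat.Presheaf.algebra_section_stalk X.presheaf (⟨x, hxU⟩ : U)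
  haveI hst : IsLocalization.AtPrime (X.presheaf.stalk x) p := by
    have := hU.isLocalization_stalk ⟨x, hxU⟩
    rw [hprime] at this
    exact this
  haveI : IsScalarTower Γ(X, U) (X.presheaf.stalk x) X.functionField :=
    functionField_isScalarTower X U ⟨x, hxU⟩
  have key : ∀ b : X.presheaf.stalk x, ∃ (a : Γ(X, U)) (s : Γ(X, U)), s ∉ p ∧
      algebraMap (X.presheaf.stalk x) X.functionField b * algebraMap Γ(X, U) X.functionField s =
        algebraMap Γ(X, U) X.functionField a ∧
      (b ∈ IsLocalRing.maximalIdeal (X.presheaf.stalk x) → a ∈ p) := by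
    intro b
    obtain ⟨a, s, rfl⟩ := IsLocalization.exists_mk'_eq p.primeCompl b
    refine ⟨a, s.1, s.2, ?_, ?_⟩
    · rw [IsScalarTower.algebraMap_apply Γ(X, U) (X.presheaf.stalk x) X.functionField s.1,
        ← map_mul, IsLocalization.mk'_spec,
        ← IsScalarTower.algebraMap_apply Γ(X, U) (X.presheaf.stalk x) X.functionField]
    · intro hb
      rw [IsLocalization.AtPrime.mk'_mem_maximal_iff (X.presheaf.stalk x) p] at hb
      exact hb
  refine ⟨x, fun b => ?_, fun b hb => ?_⟩
  · obtain ⟨a, s, hs, hmul, -⟩ := key b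
    have hsu : IsUnit (g s) := by
      by_contra hc
      exact hs ((IsLocalRing.mem_maximalIdeal _).mpr hc)
    obtain ⟨u, hu⟩ := hsu
    have : algebraMap (X.presheaf.stalk x) X.functionField b = (g a * ↑u⁻¹ : R) := by
      have h1 : ((g s : R) : X.functionField) = algebraMap Γ(X, U) X.functionField s := rfl
      have h2 : ((g a : R) : X.functionField) = algebraMap Γ(X, U) X.functionField a := rfl
      have h3 : ((u : R) : X.functionField) * ((↑u⁻¹ : R) : X.functionField) = 1 := by
        rw [← Subring.coe_mul]; simp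
      push_cast
      rw [h2, ← hmul, ← h1, ← hu, mul_assoc, h3, mul_one]
    rw [this]
    exact Subtype.mem _
  · obtain ⟨a, s, hs, hmul, hmem⟩ := key b
    have ha : g a ∈ IsLocalRing.maximalIdeal R := hmem hb
    have hsu : IsUnit (g s) := by
      by_contra hc
      exact hs ((IsLocalRing.mem_maximalIdeal _).mpr hc)
    obtain ⟨u, hu⟩ := hsu
    have : algebraMap (X.presheaf.stalk x) X.functionField b = (g a * ↑u⁻¹ : R) := by
      have h1 : ((g s : R) : X.functionField) = algebraMap Γ(X, U) X.functionField s := rfl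
      have h2 : ((g a : R) : X.functionField) = algebraMap Γ(X, U) X.functionField a := rfl
      have h3 : ((u : R) : X.functionField) * ((↑u⁻¹ : R) : X.functionField) = 1 := by
        rw [← Subring.coe_mul]; simp
      push_cast
      rw [h2, ← hmul, ← h1, ← hu, mul_assoc, h3, mul_one]
    rw [this, ← ValuationSubring.valuation_lt_one_iff]
    exact Ideal.mul_mem_right _ _ ha

/-- The structure map `k → Γ(X, U)` of a scheme over `Spec k`. -/
noncomputable def kappa {k : Type u} [Field k] (f : X ⟶ Spec (CommRingCat.of k)) (U : X.Opens) :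
    k →+* Γ(X, U) :=
  (f.appLE ⊤ U (show U ≤ f ⁻¹ᵁ ⊤ from fun _ _ => TopologicalSpace.Opens.mem_top _)).hom.comp (Scheme.ΓSpecIso (CommRingCat.of k)).inv.hom

/-- sections integral over `k[s]` lie in every valuation ring containing `k` and `s`. -/
lemma sections_mem_of_integral {k : Type u} [Field k] (f : X ⟶ Spec (CommRingCat.of k))
    {U : X.Opens} [Nonempty U] (s : Γ(X, U))
    (hint : ∀ a : Γ(X, U), IsIntegral (Subring.closure (Set.range (kappa f U) ∪ {s})) a)
    (R : ValuationSubring X.functionField)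
    (hk : ∀ c : k, algebraMap Γ(X, U) X.functionField (kappa f U c) ∈ R)
    (hs : algebraMap Γ(X, U) X.functionField s ∈ R) (a : Γ(X, U)) :
    algebraMap Γ(X, U) X.functionField a ∈ R := by
  let T : Subring Γ(X, U) := Subring.closure (Set.range (kappa f U) ∪ {s})
  have hT : T ≤ R.toSubring.comap (algebraMap Γ(X, U) X.functionField) := by
    rw [Subring.closure_le]
    rintro z (⟨c, rfl⟩ | rfl)
    · exact hk c
    · exact hs
  let φ : T →+* R := ((algebraMap Γ(X, U) X.functionField).comp T.subtype).codRestrict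
    R.toSubring (fun z => hT z.2)
  have h1 : IsIntegral R (algebraMap Γ(X, U) X.functionField a) :=
    IsIntegral.map_of_comp_eq φ (algebraMap Γ(X, U) X.functionField) (by ext; rfl) (hint a)
  obtain ⟨r, hr⟩ := IsIntegrallyClosed.isIntegral_iff.mp h1
  rw [← hr]
  exact r.2

/-- the image of `k` in the function field, computed through any nonempty open. -/
lemma algebraMap_kappa {k : Type u} [Field k] (f : X ⟶ Spec (CommRingCat.of k))
    (U : X.Opens) [Nonempty U] (c : k) :
    algebraMap Γ(X, U) X.functionField (kappa f U c) =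
      (f.stalkMap (genericPoint X)).hom
        (((Spec (CommRingCat.of k)).presheaf.germ ⊤ (f (genericPoint X)) (TopologicalSpace.Opens.mem_top _)).hom
          ((Scheme.ΓSpecIso (CommRingCat.of k)).inv.hom c)) := by
  have hξ : genericPoint X ∈ U :=
    ((genericPoint_spec X).mem_open_set_iff U.isOpen).mpr (by simpa using ‹Nonempty U›)
  have key : f.appLE ⊤ U (show U ≤ f ⁻¹ᵁ ⊤ from fun _ _ => TopologicalSpace.Opens.mem_top _) ≫ X.presheaf.germ U (genericPoint X) hξ =
      (Spec (CommRingCat.of k)).presheaf.germ ⊤ (f (genericPoint X)) (TopologicalSpace.Opens.mem_top _) ≫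
        f.stalkMap (genericPoint X) := by
    rw [Scheme.Hom.germ_stalkMap, Scheme.Hom.appLE, Category.assoc, TopCat.Presheaf.germ_res]
  have := congrArg (fun φ => φ.hom ((Scheme.ΓSpecIso (CommRingCat.of k)).inv.hom c)) key
  exact this

theorem isProper_of_two_charts {k : Type u} [Field k] (f : X ⟶ Spec (CommRingCat.of k))
    [LocallyOfFiniteType f] [QuasiCompact f]
    (U₀ U₁ : X.Opens) (h₀ : IsAffineOpen U₀)
    (h₁ : IsAffineOpen U₁) [Nonempty U₀] [Nonempty U₁] (hcov : ∀ x : X, x ∈ U₀ ∨ x ∈ U₁)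
    (s₀ : Γ(X, U₀)) (s₁ : Γ(X, U₁))
    (hs₀ : ∀ x (hx : x ∈ U₀), s₀ ∉ (h₀.primeIdealOf ⟨x, hx⟩).asIdeal → x ∈ U₁)
    (hs₁ : ∀ x (hx : x ∈ U₁), s₁ ∉ (h₁.primeIdealOf ⟨x, hx⟩).asIdeal → x ∈ U₀)
    (hmul : algebraMap Γ(X, U₀) X.functionField s₀ *
      algebraMap Γ(X, U₁) X.functionField s₁ = 1)
    (hint₀ : ∀ a : Γ(X, U₀), IsIntegral (Subring.closure (Set.range (kappa f U₀) ∪ {s₀})) a)
    (hint₁ : ∀ a : Γ(X, U₁), IsIntegral (Subring.closure (Set.range (kappa f U₁) ∪ {s₁})) a) :
    IsProper f := by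
  haveI : X.IsSeparated := isSeparated_of_two_charts U₀ U₁ h₀ h₁ hcov s₀ s₁ hs₀ hs₁ hmul
  haveI : IsDominant f := by
    constructor
    intro y
    have : y = f (genericPoint X) := Subsingleton.elim _ _
    rw [this]
    exact subset_closure ⟨_, rfl⟩
  refine Groth.Agent.S2353.result f ?_
  intro R _ y hy hdom
  have hk : ∀ (U : X.Opens) [Nonempty U] (c : k),
      algebraMap Γ(X, U) X.functionField (kappa f U c) ∈ R := by
    intro U _ c
    rw [algebraMap_kappa]
    have := hdom.1 ((Spec (CommRingCat.of k)).presheaf.germ ⊤ y (TopologicalSpace.Opens.mem_top _)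
      ((Scheme.ΓSpecIso (CommRingCat.of k)).inv.hom c))
    have e : (Spec (CommRingCat.of k)).presheaf.germ ⊤ y (TopologicalSpace.Opens.mem_top _) ≫
        (Spec (CommRingCat.of k)).presheaf.stalkSpecializes hy =
        (Spec (CommRingCat.of k)).presheaf.germ ⊤ (f (genericPoint X)) (TopologicalSpace.Opens.mem_top _) :=
      TopCat.Presheaf.germ_stalkSpecializes _ _ _
    rw [← e]
    exact this
  rcases R.mem_or_inv_mem (algebraMap Γ(X, U₀) X.functionField s₀) with h | h
  · exact exists_dominated_of_sections_mem h₀ R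
      (sections_mem_of_integral f s₀ hint₀ R (hk U₀) h)
  · have : algebraMap Γ(X, U₁) X.functionField s₁ ∈ R := by
      rw [← eq_inv_of_mul_eq_one_right hmul] at h
      exact h
    exact exists_dominated_of_sections_mem h₁ R
      (sections_mem_of_integral f s₁ hint₁ R (hk U₁) this)

end Groth.Agent.Lib.Helper4.TwoChart
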