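import Groth.Agent.Lib.Helper4Unibranch
import Groth.Agent.Lib.Helper4NormCurve
import Groth.Prelude.Def_Flat
import Groth.Prelude.Def_Curv2

set_option autoImplicit false
set_option linter.style.haveILetI false
universe u

open AlgebraicGeometry CategoryTheory

namespace Groth.Agent.Lib.Helper4.UnibranchSch

/-- An integral, universally injective, surjective morphism is a universal homeomorphism. -/
theorem isUnivHomeo_of_isIntegralHom {X Y : Scheme.{u}} (f : X ⟶ Y) [IsIntegralHom f]
    [UniversallyInjective f] [Surjective f] : FlatMor.IsUnivHomeo f := by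
  intro X' Y' i₁ i₂ f' hpb
  haveI : IsIntegralHom f' := MorphismProperty.of_isPullback hpb.flip ‹IsIntegralHom f›
  haveI : UniversallyInjective f' :=
    MorphismProperty.of_isPullback hpb.flip ‹UniversallyInjective f›
  haveI : Surjective f' := MorphismProperty.of_isPullback hpb.flip ‹Surjective f›
  show IsHomeomorph f'
  rw [isHomeomorph_iff_continuous_isClosedMap_bijective]
  exact ⟨f'.continuous, f'.isClosedMap, f'.injective, f'.surjective⟩

theorem specMap_comp_iso_iff (P : MorphismProperty Scheme.{u}) [P.RespectsIso]
    {A B C : CommRingCat.{u}} (a : A ⟶ B) (b : B ⟶ C) [IsIso b] :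
    P (Spec.map (a ≫ b)) ↔ P (Spec.map a) := by
  rw [Spec.map_comp, P.cancel_left_of_respectsIso]

theorem specMap_iso_comp_iff (P : MorphismProperty Scheme.{u}) [P.RespectsIso]
    {A B C : CommRingCat.{u}} (a : A ⟶ B) (b : B ⟶ C) [IsIso a] :
    P (Spec.map (a ≫ b)) ↔ P (Spec.map b) := by
  rw [Spec.map_comp, P.cancel_right_of_respectsIso]

set_option backward.isDefEq.respectTransparency false in
/-- A property local at the target can be checked, for an affine morphism, on the spectra of the
maps on sections over affine opens. -/
theorem of_forall_specMap_app (P : MorphismProperty Scheme.{u}) [IsZariskiLocalAtTarget P]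
    {N X : Scheme.{u}} (f : N ⟶ X) [IsAffineHom f]
    (H : ∀ U : X.affineOpens, P (Spec.map (f.app U.1))) : P f := by
  apply IsZariskiLocalAtTarget.of_iSup_eq_top (fun U : X.affineOpens => U.1)
    (iSup_affineOpens_eq_top X)
  intro U
  haveI : IsAffine (U.1 : Scheme) := U.2
  haveI : IsAffine (f ⁻¹ᵁ U.1 : Scheme) := U.2.preimage f
  rw [P.arrow_mk_iso_iff (arrowIsoSpecΓOfIsAffine (f ∣_ U.1)), morphismRestrict_appTop]
  refine (specMap_comp_iso_iff P _ _).mpr ?_
  have key : ∀ V : X.Opens, V = U.1 → P (Spec.map (f.app V)) := by
    rintro V rfl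
    exact H U
  exact key _ (by simp)


open Groth.Agent.Lib.Helper4.Unibranch Groth.Agent.Lib.Helper4.NormCurve

theorem ptInj_of_algEquiv {A S₁ S₂ : Type*} [CommRing A] [CommRing S₁] [CommRing S₂]
    [Algebra A S₁] [Algebra A S₂] (e : S₁ ≃ₐ[A] S₂) {Ω : Type*} [Field Ω]
    (h0 : Function.Injective (fun g : S₁ →+* Ω => g.comp (algebraMap A S₁))) :
    Function.Injective (fun g : S₂ →+* Ω => g.comp (algebraMap A S₂)) := by
  intro g₁ g₂ hg
  have h1 : g₁.comp e.toRingEquiv.toRingHom = g₂.comp e.toRingEquiv.toRingHom := by
    apply h0
    ext a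
    have := congrArg (fun f : A →+* Ω => f a) hg
    simpa using this
  ext x
  obtain ⟨y, rfl⟩ := e.surjective x
  exact congrArg (fun f : _ →+* Ω => f y) h1

/-- Injectivity on field-valued points of the normalization of a domain in any fraction field,
when all localizations are geometrically unibranch. -/
theorem ptInj_of_isFractionRing (A K : Type u) [CommRing A] [IsDomain A] [Field K] [Algebra A K]
    [IsFractionRing A K]
    (H : ∀ (p : Ideal A) [p.IsPrime], CAlg2.IsGeomUnibranch (Localization.AtPrime p))
    (Ω : Type u) [Field Ω] :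
    Function.Injective (fun g : integralClosure A K →+* Ω =>
      g.comp (algebraMap A (integralClosure A K))) := by
  exact ptInj_of_algEquiv (FractionRing.algEquiv A K).mapIntegralClosure
    ((ptInj_iff_isGeomUnibranch A).mpr H Ω)

section Scheme

variable {X : Scheme.{u}}

theorem isGeomUnibranch_localization_sections
    (hX : ∀ x : X, CAlg2.IsGeomUnibranch (X.presheaf.stalk x)) (U : X.Opens)
    (hU : IsAffineOpen U) (p : Ideal Γ(X, U)) [p.IsPrime] :
    CAlg2.IsGeomUnibranch (Localization.AtPrime p) := by
  let y : PrimeSpectrum Γ(X, U) := ⟨p, inferInstance⟩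
  have hy : hU.fromSpec y ∈ (U : Set X) := by
    rw [← hU.range_fromSpec]; exact ⟨y, rfl⟩
  letI := TopCat.Presheaf.algebra_section_stalk X.presheaf ⟨hU.fromSpec y, hy⟩
  haveI : IsLocalization p.primeCompl (X.presheaf.stalk (hU.fromSpec y)) :=
    hU.isLocalization_stalk' y hy
  let e : Localization.AtPrime p ≃ₐ[Γ(X, U)] X.presheaf.stalk (hU.fromSpec y) :=
    IsLocalization.algEquiv p.primeCompl _ _
  exact isGeomUnibranch_of_ringEquiv e.symm.toRingEquiv (hX _)

variable [IsIntegral X]

theorem universallyInjective_fromNormalization_gen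
    [QuasiCompact (gen X X.functionField (RingHom.id _))]
    [QuasiSeparated (gen X X.functionField (RingHom.id _))]
    (hX : ∀ x : X, CAlg2.IsGeomUnibranch (X.presheaf.stalk x)) :
    UniversallyInjective (gen X X.functionField (RingHom.id _)).fromNormalization := by
  apply of_forall_specMap_app
  rintro ⟨U, hU⟩
  letI := ((gen X X.functionField (RingHom.id _)).app U).hom.toAlgebra
  show UniversallyInjective (Spec.map ((gen X X.functionField (RingHom.id _)).fromNormalization.app U))
  rw [Scheme.Hom.fromNormalization_app _ hU]
  haveI := UniversallyInjective.respectsIso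
  refine (specMap_comp_iso_iff @UniversallyInjective _ _).mpr ?_
  rw [universallyInjective_specMap_iff]
  intro Ω _
  by_cases hne : Nonempty U
  · letI algAK : Algebra Γ(X, U) X.functionField :=
      ((RingHom.id _).comp (X.germToFunctionField U).hom).toAlgebra
    haveI : IsDomain Γ(X, U) := IsIntegral.component_integral U
    haveI : IsFractionRing Γ(X, U) X.functionField :=
      functionField_isFractionRing_of_isAffineOpen X U hU
    obtain ⟨ψ⟩ := exists_sectionsAlgEquiv X.functionField (RingHom.id _) U
    exact ptInj_of_algEquiv ψ.mapIntegralClosure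
      (ptInj_of_isFractionRing Γ(X, U) X.functionField
        (isGeomUnibranch_localization_sections hX U hU) Ω)
  · have hU0 : U = ⊥ := by
      ext x
      simp only [TopologicalSpace.Opens.coe_bot, Set.mem_empty_iff_false, iff_false]
      exact fun hx => hne ⟨⟨x, hx⟩⟩
    subst hU0
    haveI : Subsingleton (integralClosure Γ(X, (⊥ : X.Opens))
        Γ(Spec (CommRingCat.of X.functionField),
          (gen X X.functionField (RingHom.id _)) ⁻¹ᵁ ⊥)) :=
      Module.subsingleton Γ(X, (⊥ : X.Opens)) _
    intro g₁ _ _
    exfalso
    have h1 : g₁ 1 = g₁ 0 := congrArg g₁ (Subsingleton.elim _ _)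
    rw [map_one, map_zero] at h1
    exact one_ne_zero h1

theorem universallyInjective_fromNormalization_of_eq
    (g : Spec (CommRingCat.of X.functionField) ⟶ X)
    (hg : g = gen X X.functionField (RingHom.id _)) [QuasiCompact g] [QuasiSeparated g]
    (hX : ∀ x : X, CAlg2.IsGeomUnibranch (X.presheaf.stalk x)) :
    UniversallyInjective g.fromNormalization := by
  subst hg
  exact universallyInjective_fromNormalization_gen hX

/-- The normalization of an integral scheme with geometrically unibranch local rings is a universal
homeomorphism. -/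
theorem isUnivHomeo_normalizationι
    [QuasiCompact (X.fromSpecStalk (genericPoint X))]
    [QuasiSeparated (X.fromSpecStalk (genericPoint X))]
    (hX : ∀ x : X, CAlg2.IsGeomUnibranch (X.presheaf.stalk x)) :
    FlatMor.IsUnivHomeo (Curv2.normalizationι X) := by
  have hg := fromSpecStalk_eq_gen (X := X)
  haveI : UniversallyInjective (Curv2.normalizationι X) :=
    universallyInjective_fromNormalization_of_eq _ hg hX
  haveI : Surjective (Curv2.normalizationι X) :=
    surjective_fromNormalization_of_eq X.functionField (RingHom.id _) _ hg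
  haveI : IsIntegralHom (Curv2.normalizationι X) := by
    change IsIntegralHom (X.fromSpecStalk (genericPoint X)).fromNormalization
    infer_instance
  exact isUnivHomeo_of_isIntegralHom _

end Scheme

end Groth.Agent.Lib.Helper4.UnibranchSch
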