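/-
Helper library (helper4): an unramified finite-type domain extension of a normal domain is étale.
-/
import Groth.Agent.Lib.Helper3EtNormal

set_option autoImplicit false
set_option linter.style.haveILetI false
universe u

open Groth.Agent.Lib.Helper3.EtNormal

namespace Groth.Agent.Lib.Helper4.UnramNormal

/-- Minimal primes of a flat algebra over a domain lie over zero. -/
theorem under_eq_bot_of_mem_minimalPrimes (A E : Type*) [CommRing A] [IsDomain A] [CommRing E]
    [Algebra A E] [Module.Flat A E] {p : Ideal E} (hp : p ∈ minimalPrimes E) :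
    p.under A = ⊥ := by
  haveI := hp.1.1
  haveI : (⊥ : Ideal A).IsPrime := Ideal.isPrime_bot
  haveI : p.LiesOver (p.under A) := ⟨rfl⟩
  obtain ⟨P, hPp, hP, hPl⟩ := Ideal.exists_ideal_le_liesOver_of_le (p := (⊥ : Ideal A))
    (q := p.under A) p bot_le
  have : p ≤ P := hp.2 ⟨hP, bot_le⟩ hPp
  have hPp' : P = p := le_antisymm hPp this
  rw [← hPp']
  exact (hPl.over).symm

/-- An étale algebra over a domain has finitely many minimal primes. -/
theorem finite_minimalPrimes_of_etale (A E : Type*) [CommRing A] [IsDomain A] [CommRing E]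
    [Algebra A E] [Algebra.Etale A E] : (minimalPrimes E).Finite := by
  haveI : Algebra.QuasiFinite A E := inferInstance
  refine (Algebra.QuasiFinite.finite_primesOver (S := E) (⊥ : Ideal A)).subset ?_
  intro p hp
  exact ⟨hp.1.1, ⟨(under_eq_bot_of_mem_minimalPrimes A E hp).symm⟩⟩

/-- In an étale algebra `E` over a normal domain `A`, a prime `I` lying over zero and contained in
`Q'` is killed by an element outside `Q'`. -/
theorem exists_notMem_forall_mul_eq_zero (A E : Type u) [CommRing A] [IsDomain A]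
    [IsIntegrallyClosed A] [CommRing E] [Algebra A E] [Algebra.Etale A E]
    (Q' I : Ideal E) [Q'.IsPrime] [I.IsPrime] (hIQ : I ≤ Q') (hI : I.under A = ⊥) :
    ∃ g : E, g ∉ Q' ∧ ∀ x ∈ I, g * x = 0 := by
  obtain ⟨hd, -⟩ := isDomain_and_isIntegrallyClosed_localization A E Q'
  haveI : IsReduced E := Groth.Agent.Lib.Helper3.EtRed.isReduced_of_etale A E
  set p₀ : Ideal E := RingHom.ker (algebraMap E (Localization.AtPrime Q')) with hp₀
  haveI hp₀prime : p₀.IsPrime := RingHom.ker_isPrime _
  have hp₀mem : ∀ x, x ∈ p₀ ↔ ∃ s : E, s ∉ Q' ∧ s * x = 0 := by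
    intro x
    rw [hp₀, RingHom.mem_ker, IsLocalization.map_eq_zero_iff Q'.primeCompl]
    constructor
    · rintro ⟨s, hs⟩; exact ⟨s.1, s.2, hs⟩
    · rintro ⟨s, hs, h⟩; exact ⟨⟨s, hs⟩, h⟩
  have hp₀I : p₀ ≤ I := by
    intro x hx
    obtain ⟨s, hs, hsx⟩ := (hp₀mem x).mp hx
    have : s * x ∈ I := hsx ▸ I.zero_mem
    exact (Ideal.IsPrime.mem_or_mem inferInstance this).resolve_left (fun h => hs (hIQ h))
  haveI : Algebra.QuasiFinite A E := inferInstance
  have hunder : p₀.under A = I.under A := by
    rw [hI, eq_bot_iff, ← hI]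
    exact Ideal.comap_mono hp₀I
  have hEq : p₀ = I := Algebra.QuasiFinite.eq_of_le_of_under_eq (R := A) p₀ I hp₀I hunder
  -- the other minimal primes
  have hfin := finite_minimalPrimes_of_etale A E
  set T : Set (Ideal E) := minimalPrimes E \ {p₀} with hT
  have hTfin : T.Finite := hfin.subset Set.sdiff_subset
  have hTQ : ∀ p ∈ T, ∃ s : E, s ∈ p ∧ s ∉ Q' := by
    intro p hp
    by_contra hcon
    push Not at hcon
    have hpQ : p ≤ Q' := fun s hs => hcon s hs
    haveI := hp.1.1.1
    have hp₀p : p₀ ≤ p := by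
      intro x hx
      obtain ⟨s, hs, hsx⟩ := (hp₀mem x).mp hx
      have : s * x ∈ p := hsx ▸ p.zero_mem
      exact (Ideal.IsPrime.mem_or_mem inferInstance this).resolve_left (fun h => hs (hpQ h))
    have : p ≤ p₀ := hp.1.2 ⟨hp₀prime, bot_le⟩ hp₀p
    exact hp.2 (le_antisymm this hp₀p)
  choose! s hs using hTQ
  refine ⟨∏ p ∈ hTfin.toFinset, s p, ?_, ?_⟩
  · intro hmem
    obtain ⟨p, hp, hsp⟩ := Ideal.IsPrime.prod_mem_iff.mp hmem
    exact (hs p (hTfin.mem_toFinset.mp hp)).2 hsp
  · intro x hx
    rw [← hEq] at hx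
    have hnil : (∏ p ∈ hTfin.toFinset, s p) * x ∈ nilradical E := by
      rw [nilradical, ← Ideal.sInf_minimalPrimes, Ideal.mem_sInf]
      intro p hp
      by_cases hpp : p = p₀
      · rw [hpp]; exact p₀.mul_mem_left _ hx
      · have hpT : p ∈ T := ⟨hp, hpp⟩
        refine p.mul_mem_right _ ?_
        exact Ideal.prod_mem p (hTfin.mem_toFinset.mpr hpT) (hs p hpT).1
    exact (nilradical_eq_zero E ▸ hnil : _ ∈ (⊥ : Ideal E))

set_option maxHeartbeats 800000 in
/-- **Unramified + dominant over a normal domain is étale**, local form. -/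
theorem exists_etale_away (A C : Type u) [CommRing A] [IsDomain A] [IsIntegrallyClosed A]
    [CommRing C] [IsDomain C] [Algebra A C] (hinj : Function.Injective (algebraMap A C))
    [Algebra.FiniteType A C] [Algebra.FormallyUnramified A C] (Q : Ideal C) [Q.IsPrime] :
    ∃ r : C, r ∉ Q ∧ Algebra.Etale A (Localization.Away r) := by
  obtain ⟨f, hfQ, P, φ, hφ⟩ :=
    Algebra.IsUnramifiedAt.exists_hasStandardEtaleSurjectionOn (R := A) Q
  have hf0 : f ≠ 0 := fun h => hfQ (h ▸ Q.zero_mem)
  haveI : IsDomain (Localization.Away f) :=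
    IsLocalization.isDomain_of_le_nonZeroDivisors (Localization.Away f) (M := Submonoid.powers f)
      (powers_le_nonZeroDivisors_of_noZeroDivisors hf0)
  have hCinj : Function.Injective (algebraMap C (Localization.Away f)) :=
    IsLocalization.injective _ (M := Submonoid.powers f)
      (powers_le_nonZeroDivisors_of_noZeroDivisors hf0)
  set I : Ideal P.Ring := RingHom.ker φ.toRingHom with hI
  haveI hIprime : I.IsPrime := RingHom.ker_isPrime _
  have hdisj : Disjoint (Submonoid.powers f : Set C) (Q : Set C) :=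
    (Ideal.disjoint_powers_iff_notMem_of_isPrime _).mpr hfQ
  haveI hQfprime : (Q.map (algebraMap C (Localization.Away f))).IsPrime :=
    IsLocalization.isPrime_of_isPrime_disjoint (.powers f) _ _ ‹_› hdisj
  set Qf := Q.map (algebraMap C (Localization.Away f)) with hQf
  set Q' : Ideal P.Ring := Qf.comap φ.toRingHom with hQ'
  haveI hQ'prime : Q'.IsPrime := Ideal.comap_isPrime _ _
  have hIQ' : I ≤ Q' := by
    intro x hx
    show φ.toRingHom x ∈ Qf
    rw [show φ.toRingHom x = 0 from hx]; exact Qf.zero_mem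
  have hIunder : I.under A = ⊥ := by
    rw [eq_bot_iff]
    intro a ha
    have h1 : φ.toRingHom (algebraMap A P.Ring a) = 0 := ha
    have h2 : algebraMap A (Localization.Away f) a = 0 := by
      rw [← h1]; exact (φ.commutes a).symm
    rw [IsScalarTower.algebraMap_apply A C (Localization.Away f)] at h2
    have h3 := hinj ((map_eq_zero_iff _ hCinj).mp h2 ▸ (map_zero (algebraMap A C)).symm ▸ rfl :
      algebraMap A C a = algebraMap A C 0)
    exact h3
  obtain ⟨g, hgQ', hgI⟩ := exists_notMem_forall_mul_eq_zero A P.Ring Q' I hIQ' hIunder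
  -- normalise `g`
  obtain ⟨⟨c, ⟨_, k, rfl⟩⟩, hc⟩ := IsLocalization.surj (Submonoid.powers f) (φ g)
  obtain ⟨af, haf⟩ := hφ (algebraMap C _ f)
  have hafQ' : af ∉ Q' := by
    intro h
    have h1 : algebraMap C (Localization.Away f) f ∈ Qf := haf ▸ h
    have hu : IsUnit (algebraMap C (Localization.Away f) f) :=
      IsLocalization.map_units _ (⟨f, Submonoid.mem_powers f⟩ : Submonoid.powers f)
    exact hQfprime.ne_top (Ideal.eq_top_of_isUnit_mem _ h1 hu)
  set a : P.Ring := g * af ^ k with ha
  have haQ' : a ∉ Q' := by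
    intro h
    rcases hQ'prime.mem_or_mem h with h | h
    · exact hgQ' h
    · exact hafQ' (hQ'prime.mem_of_pow_mem _ h)
  have haI : ∀ x ∈ I, a * x = 0 := by
    intro x hx
    rw [ha, mul_right_comm, hgI x hx, zero_mul]
  have hφa : φ a = algebraMap C (Localization.Away f) c := by
    rw [ha, map_mul, map_pow, haf, ← map_pow]
    exact hc
  have hcQ : c ∉ Q := by
    intro h
    apply haQ'
    show φ.toRingHom a ∈ Qf
    rw [show φ.toRingHom a = φ a from rfl, hφa]
    exact Ideal.mem_map_of_mem _ h
  refine ⟨f * c, ‹Q.IsPrime›.mul_notMem hfQ hcQ, ?_⟩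
  -- the comparison map
  let ψ : Localization.Away a →ₐ[A] Localization.Away (φ a) :=
    IsLocalization.Away.mapₐ (Localization.Away a) (Localization.Away (φ a)) φ a
  have hψsurj : Function.Surjective ψ :=
    IsLocalization.Away.mapₐ_surjective_of_surjective a hφ
  have hψinj : Function.Injective ψ := by
    rw [injective_iff_map_eq_zero]
    intro z hz
    obtain ⟨x, ⟨_, n, rfl⟩, rfl⟩ := IsLocalization.exists_mk'_eq (Submonoid.powers a) z
    have h1 : ψ (IsLocalization.mk' (Localization.Away a) x
          (⟨a ^ n, n, rfl⟩ : Submonoid.powers a)) =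
        IsLocalization.mk' (Localization.Away (φ a)) (φ x)
          (⟨φ a ^ n, n, rfl⟩ : Submonoid.powers (φ a)) := by
      show IsLocalization.Away.map _ _ φ.toRingHom a _ = _
      rw [IsLocalization.Away.map, IsLocalization.map_mk']
      congr 1
      ext
      simp
    rw [h1, IsLocalization.mk'_eq_zero_iff] at hz
    obtain ⟨⟨_, m, rfl⟩, hm⟩ := hz
    have h2 : a ^ m * x ∈ I := by
      show φ.toRingHom (a ^ m * x) = 0
      rw [show φ.toRingHom (a ^ m * x) = φ a ^ m * φ x by simp]
      exact hm
    rw [IsLocalization.mk'_eq_zero_iff]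
    refine ⟨⟨a ^ (m + 1), m + 1, rfl⟩, ?_⟩
    show a ^ (m + 1) * x = 0
    rw [pow_succ', mul_assoc]
    exact haI _ h2
  let ψe : Localization.Away a ≃ₐ[A] Localization.Away (φ a) :=
    AlgEquiv.ofBijective ψ ⟨hψinj, hψsurj⟩
  haveI : Algebra.Etale A (Localization.Away a) :=
    Algebra.Etale.comp A P.Ring (Localization.Away a)
  haveI : Algebra.Etale A (Localization.Away (φ a)) := Algebra.Etale.of_equiv ψe
  haveI : IsLocalization.Away (f * c) (Localization.Away (φ a)) :=
    hφa ▸ IsLocalization.Away.mul' (Localization.Away f) _ f c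
  let e : Localization.Away (φ a) ≃ₐ[C] Localization.Away (f * c) :=
    IsLocalization.algEquiv (Submonoid.powers (f * c)) _ _
  exact Algebra.Etale.of_equiv (e.restrictScalars A)

/-- **Unramified + dominant over a normal domain is étale.** -/
theorem etale_of_unramified (A C : Type u) [CommRing A] [IsDomain A] [IsIntegrallyClosed A]
    [CommRing C] [IsDomain C] [Algebra A C] (hinj : Function.Injective (algebraMap A C))
    [Algebra.FiniteType A C] [Algebra.FormallyUnramified A C] : Algebra.Etale A C := by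
  rw [← RingHom.etale_algebraMap]
  apply RingHom.Etale.ofLocalizationSpanTarget (algebraMap A C)
    {r : C | Algebra.Etale A (Localization.Away r)}
  · by_contra hne
    obtain ⟨m, hm, hle⟩ := Ideal.exists_le_maximal _ hne
    haveI := hm.isPrime
    obtain ⟨r, hr, het⟩ := exists_etale_away A C hinj m
    exact hr (hle (Ideal.subset_span het))
  · rintro ⟨r, hr⟩
    have : Algebra.Etale A (Localization.Away r) := hr
    rw [← IsScalarTower.algebraMap_eq A C (Localization.Away r), RingHom.etale_algebraMap]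
    exact this

end Groth.Agent.Lib.Helper4.UnramNormal
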