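import Groth.Agent.Lib.Helper4VarDim2

/-!
# Dimension formula along specializations on schemes locally of finite type over a field

* `trdeg_specializes`: for `x ⤳ x'` in an affine open, `trdeg κ(x) = trdeg κ(x') + ht(𝔭_{x'}/𝔭_x)`.
* `trdeg_of_immediate`: an immediate specialization drops the transcendence degree by one.
-/

set_option autoImplicit false
set_option linter.style.haveILetI false
universe u

open AlgebraicGeometry CategoryTheory TopologicalSpace

namespace Groth.Agent.Lib.Helper4.VarDim

variable (k : Type u) [Field k] (X : Scheme.{u}) [X.Over (Spec (CommRingCat.of k))]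

attribute [local instance] sectionsAlgebra Curv2.resAlgebra

theorem trdeg_specializes [LocallyOfFiniteType (X ↘ Spec (CommRingCat.of k))] {U : X.Opens}
    (hU : IsAffineOpen U) (x x' : X) (hx : x ∈ U) (hx' : x' ∈ U) (h : x ⤳ x') :
    ∃ m c n : ℕ, Algebra.trdeg k (X.residueField x) = m ∧
      Algebra.trdeg k (X.residueField x') = n ∧ m = n + c ∧
      ((hU.primeIdealOf ⟨x', hx'⟩).asIdeal.map
        (Ideal.Quotient.mk (hU.primeIdealOf ⟨x, hx⟩).asIdeal)).height = c := by
  haveI := finiteType_sections k X hU
  have hpq := (primeIdealOf_le_iff hU x x' hx hx').mpr h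
  obtain ⟨m, c, hcm, h1, h2, h3⟩ := exists_height_quotient (k := k)
    (hU.primeIdealOf ⟨x, hx⟩).asIdeal (hU.primeIdealOf ⟨x', hx'⟩).asIdeal hpq
  obtain ⟨m', hm', hm''⟩ := exists_trdeg_eq_dim k X hU x hx
  obtain ⟨n', hn', hn''⟩ := exists_trdeg_eq_dim k X hU x' hx'
  have e1 : m' = m := by
    have : (m' : WithBot ℕ∞) = m := hm''.symm.trans h1
    exact_mod_cast this
  have e2 : n' = m - c := by
    have : (n' : WithBot ℕ∞) = (m - c : ℕ) := hn''.symm.trans h3
    exact_mod_cast this
  refine ⟨m, c, m - c, ?_, ?_, by omega, h2⟩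
  · rw [hm', e1]
  · rw [hn', e2]

theorem trdeg_of_immediate [LocallyOfFiniteType (X ↘ Spec (CommRingCat.of k))] (x x' : X)
    (hne : x ≠ x') (hsp : x ⤳ x') (himm : ∀ y : X, x ⤳ y → y ⤳ x' → y = x ∨ y = x')
    (n : ℕ) (hn : Algebra.trdeg k (X.residueField x') = n) :
    Algebra.trdeg k (X.residueField x) = n + 1 := by
  obtain ⟨U, hU, hx', -⟩ := exists_isAffineOpen_mem_and_subset (U := ⊤) (x := x') trivial
  have hx : x ∈ U := hsp.mem_open U.isOpen hx'
  obtain ⟨m, c, n', hm, hn', hmc, hc⟩ := trdeg_specializes k X hU x x' hx hx' hsp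
  have e : n' = n := by
    have : (n' : Cardinal.{u}) = n := hn'.symm.trans hn
    exact_mod_cast this
  subst e
  set p := (hU.primeIdealOf ⟨x, hx⟩).asIdeal with hp
  set q := (hU.primeIdealOf ⟨x', hx'⟩).asIdeal with hq
  have hpq : p ≤ q := (primeIdealOf_le_iff hU x x' hx hx').mpr hsp
  haveI : (q.map (Ideal.Quotient.mk p)).IsPrime :=
    Ideal.map_isPrime_of_surjective Ideal.Quotient.mk_surjective (by rwa [Ideal.mk_ker])
  have hc0 : (q.map (Ideal.Quotient.mk p)).height ≠ 0 := by
    rw [Ne, Ideal.height_eq_zero_iff_eq_bot, Ideal.map_eq_bot_iff_le_ker, Ideal.mk_ker]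
    intro hqp
    apply hne
    apply primeIdealOf_injective hU x x' hx hx'
    exact PrimeSpectrum.ext (le_antisymm hpq hqp)
  have hc1 : (q.map (Ideal.Quotient.mk p)).height ≤ (1 : ℕ) := by
    rw [Ideal.height_le_iff]
    intro Q' hQ' hlt
    have hbot : Q' = ⊥ := by
      let P' := Q'.comap (Ideal.Quotient.mk p)
      haveI : P'.IsPrime := Ideal.comap_isPrime _ _
      have h1 : p ≤ P' := by
        have : Ideal.comap (Ideal.Quotient.mk p) ⊥ ≤ P' := Ideal.comap_mono bot_le
        rwa [← RingHom.ker_eq_comap_bot, Ideal.mk_ker] at this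
      have h2 : P' ≤ q := by
        have : P' ≤ (q.map (Ideal.Quotient.mk p)).comap (Ideal.Quotient.mk p) :=
          Ideal.comap_mono hlt.le
        rwa [Ideal.comap_map_of_surjective _ Ideal.Quotient.mk_surjective,
          ← RingHom.ker_eq_comap_bot, Ideal.mk_ker, sup_eq_left.mpr hpq] at this
      have hmap : P'.map (Ideal.Quotient.mk p) = Q' :=
        Ideal.map_comap_of_surjective _ Ideal.Quotient.mk_surjective Q'
      have hmem := fromSpec_mem hU ⟨P', inferInstance⟩
      have hy := primeIdealOf_fromSpec hU ⟨P', inferInstance⟩ hmem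
      have hxy : x ⤳ hU.fromSpec ⟨P', inferInstance⟩ := by
        rw [← primeIdealOf_le_iff hU x _ hx hmem, hy]
        exact h1
      have hyx' : hU.fromSpec ⟨P', inferInstance⟩ ⤳ x' := by
        rw [← primeIdealOf_le_iff hU _ x' hmem hx', hy]
        exact h2
      rcases himm _ hxy hyx' with h | h
      · have h3 : P' = p := by
          have := congrArg PrimeSpectrum.asIdeal hy
          simp only at this
          rw [← this]
          congr 2
          exact Subtype.ext h
        rw [← hmap, h3, Ideal.map_quotient_self]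
      · exfalso
        have h3 : P' = q := by
          have := congrArg PrimeSpectrum.asIdeal hy
          simp only at this
          rw [← this]
          congr 2
          exact Subtype.ext h
        apply hlt.ne
        rw [← hmap, h3]
    rw [hbot, Ideal.height_bot]
    exact zero_lt_one
  have hc' : c = 1 := by
    rw [hc] at hc0 hc1
    have h1 : c ≤ 1 := by exact_mod_cast hc1
    have h0 : c ≠ 0 := by exact_mod_cast hc0
    omega
  rw [hm, hmc, hc']
  push_cast
  rfl

end Groth.Agent.Lib.Helper4.VarDim
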