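import Groth.Agent.Lib.Helper4HypSmooth

/-!
# The short Weierstrass cubic `Y²Z = X³ + aXZ² − bZ³`: charts and Jacobian ideals (helper4)
-/

set_option autoImplicit false
universe u
open MvPolynomial Groth.Agent.Lib.Helper4.HypSmooth Groth.Agent.Lib.Helper27ChartPoly
  Groth.Agent.Lib.Helper4.JacCrit

namespace Groth.Agent.Lib.Helper4.Weierstrass

variable {k : Type u} [Field k]

noncomputable def g2 (a b : k) : MvPolynomial (Fin 2) k := X 1 ^ 2 - X 0 ^ 3 - C a * X 0 + C b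
noncomputable def g1 (a b : k) : MvPolynomial (Fin 2) k :=
  X 1 - X 0 ^ 3 - C a * X 0 * X 1 ^ 2 + C b * X 1 ^ 3

theorem sym2_0 (h : (0 : Fin 3) ≠ 2) : (finSuccAboveEquiv (2 : Fin 3)).symm ⟨0, h⟩ = 0 := by
  rw [Equiv.symm_apply_eq, finSuccAboveEquiv_apply]; exact Subtype.ext (by decide +revert)
theorem sym2_1 (h : (1 : Fin 3) ≠ 2) : (finSuccAboveEquiv (2 : Fin 3)).symm ⟨1, h⟩ = 1 := by
  rw [Equiv.symm_apply_eq, finSuccAboveEquiv_apply]; exact Subtype.ext (by decide +revert)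
theorem sym1_0 (h : (0 : Fin 3) ≠ 1) : (finSuccAboveEquiv (1 : Fin 3)).symm ⟨0, h⟩ = 0 := by
  rw [Equiv.symm_apply_eq, finSuccAboveEquiv_apply]; exact Subtype.ext (by decide +revert)
theorem sym1_2 (h : (2 : Fin 3) ≠ 1) : (finSuccAboveEquiv (1 : Fin 3)).symm ⟨2, h⟩ = 1 := by
  rw [Equiv.symm_apply_eq, finSuccAboveEquiv_apply]; exact Subtype.ext (by decide +revert)

theorem dehomPoly_two (a b : k) (W : LefPen.Form 2 k 3)
    (hW : (W : MvPolynomial (Fin (2 + 1)) k) = X 1 ^ 2 * X 2 - X 0 ^ 3 - C a * X 0 * X 2 ^ 2 + C b * X 2 ^ 3) :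
    dehomPoly W 2 = X 1 ^ 2 - X 0 ^ 3 - C a * X 0 + C b := by
  unfold dehomPoly
  rw [hW]
  simp only [map_add, map_sub, map_mul, map_pow, eval₂Hom_X', eval₂Hom_C, rename_C]
  rw [cpt_self 2 k 2, cpt_of_ne 2 k 2 (j := 0) (by decide),
    cpt_of_ne 2 k 2 (j := 1) (by decide)]
  simp only [rename_X, map_one, sym2_0, sym2_1]
  ring

theorem dehomPoly_one (a b : k) (W : LefPen.Form 2 k 3)
    (hW : (W : MvPolynomial (Fin (2 + 1)) k) = X 1 ^ 2 * X 2 - X 0 ^ 3 - C a * X 0 * X 2 ^ 2 + C b * X 2 ^ 3) :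
    dehomPoly W 1 = X 1 - X 0 ^ 3 - C a * X 0 * X 1 ^ 2 + C b * X 1 ^ 3 := by
  unfold dehomPoly
  rw [hW]
  simp only [map_add, map_sub, map_mul, map_pow, eval₂Hom_X', eval₂Hom_C, rename_C]
  rw [cpt_self 2 k 1, cpt_of_ne 2 k 1 (j := 0) (by decide),
    cpt_of_ne 2 k 1 (j := 2) (by decide)]
  simp only [rename_X, map_one, sym1_0, sym1_2]
  ring

theorem pderiv0_g2 (a b : k) : pderiv 0 (g2 a b) = - 3 * X 0 ^ 2 - C a := by
  unfold g2
  simp only [map_add, map_sub, Derivation.leibniz, Derivation.leibniz_pow, pderiv_X, pderiv_C,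
    Pi.single_apply]
  simp

theorem pderiv1_g2 (a b : k) : pderiv 1 (g2 a b) = 2 * X 1 := by
  unfold g2
  simp only [map_add, map_sub, Derivation.leibniz, Derivation.leibniz_pow, pderiv_X, pderiv_C,
    Pi.single_apply]
  simp

theorem pderiv0_g1 (a b : k) : pderiv 0 (g1 a b) = - 3 * X 0 ^ 2 - C a * X 1 ^ 2 := by
  unfold g1
  simp only [map_add, map_sub, Derivation.leibniz, Derivation.leibniz_pow, pderiv_X, pderiv_C,
    Pi.single_apply]
  simp
  ring

theorem pderiv1_g1 (a b : k) :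
    pderiv 1 (g1 a b) = 1 - 2 * C a * X 0 * X 1 + 3 * C b * X 1 ^ 2 := by
  unfold g1
  simp only [map_add, map_sub, Derivation.leibniz, Derivation.leibniz_pow, pderiv_X, pderiv_C,
    Pi.single_apply]
  simp
  ring

theorem jacIdeal_g1 (h2 : (2 : k) ≠ 0) (a b : k) : jacIdeal (g1 a b) = ⊤ := by
  apply Ideal.eq_top_of_isUnit_mem _ (x := C (2 : k)) _ (IsUnit.map C (IsUnit.mk0 _ h2))
  have h0 := mem_jacIdeal_self (g1 a b)
  have h1 := pderiv_mem_jacIdeal (g1 a b) 0
  have h3 := pderiv_mem_jacIdeal (g1 a b) 1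
  have key : C (2 : k) = (3 * (2 * C a * X 0 - 3 * C b * X 1)) * g1 a b +
      (- X 0 * (2 * C a * X 0 - 3 * C b * X 1)) * pderiv 0 (g1 a b) +
      (2 - X 1 * (2 * C a * X 0 - 3 * C b * X 1)) * pderiv 1 (g1 a b) := by
    rw [pderiv0_g1, pderiv1_g1]
    unfold g1
    simp only [map_ofNat]
    ring
  rw [key]
  exact Ideal.add_mem _ (Ideal.add_mem _ (Ideal.mul_mem_left _ _ h0) (Ideal.mul_mem_left _ _ h1))
    (Ideal.mul_mem_left _ _ h3)

theorem jacIdeal_g2_of_disc (h2 : (2 : k) ≠ 0) (a b : k) (hd : 4 * a ^ 3 + 27 * b ^ 2 ≠ 0) :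
    jacIdeal (g2 a b) = ⊤ := by
  apply Ideal.eq_top_of_isUnit_mem _ (x := C (2 * (4 * a ^ 3 + 27 * b ^ 2) : k)) _
    (IsUnit.map C (IsUnit.mk0 _ (mul_ne_zero h2 hd)))
  have h0 := mem_jacIdeal_self (g2 a b)
  have h1 := pderiv_mem_jacIdeal (g2 a b) 0
  have h3 := pderiv_mem_jacIdeal (g2 a b) 1
  have key : C (2 * (4 * a ^ 3 + 27 * b ^ 2) : k) =
      (6 * (6 * C a * X 0 + 9 * C b)) * g2 a b +
      (- 8 * C a ^ 2 - 2 * X 0 * (6 * C a * X 0 + 9 * C b)) * pderiv 0 (g2 a b) +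
      (- 3 * X 1 * (6 * C a * X 0 + 9 * C b)) * pderiv 1 (g2 a b) := by
    rw [pderiv0_g2, pderiv1_g2]
    unfold g2
    simp only [map_mul, map_add, map_pow, map_ofNat]
    ring
  rw [key]
  exact Ideal.add_mem _ (Ideal.add_mem _ (Ideal.mul_mem_left _ _ h0) (Ideal.mul_mem_left _ _ h1))
    (Ideal.mul_mem_left _ _ h3)

theorem exists_common_root (h2 : (2 : k) ≠ 0) (a b : k) (hd : 4 * a ^ 3 + 27 * b ^ 2 = 0) :
    ∃ x₀ : AlgebraicClosure k,
      x₀ ^ 3 + algebraMap k (AlgebraicClosure k) a * x₀ - algebraMap k (AlgebraicClosure k) b = 0 ∧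
      3 * x₀ ^ 2 + algebraMap k (AlgebraicClosure k) a = 0 := by
  by_cases h3 : (3 : k) = 0
  · have h27 : (27 : k) = 0 := by
      have : (27 : k) = 3 * 9 := by norm_num
      rw [this, h3, zero_mul]
    have ha : a = 0 := by
      rw [h27, zero_mul, add_zero] at hd
      have h4 : (4 : k) ≠ 0 := by
        have : (4 : k) = 2 * 2 := by norm_num
        rw [this]; exact mul_ne_zero h2 h2
      exact pow_eq_zero_iff (three_ne_zero) |>.mp ((mul_eq_zero.mp hd).resolve_left h4)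
    obtain ⟨x₀, hx₀⟩ := IsAlgClosed.exists_pow_nat_eq (algebraMap k (AlgebraicClosure k) b)
      (n := 3) (by norm_num)
    have h3' : (3 : AlgebraicClosure k) = 0 := by
      have := congrArg (algebraMap k (AlgebraicClosure k)) h3
      rw [map_ofNat, map_zero] at this
      exact this
    refine ⟨x₀, ?_, ?_⟩
    · rw [hx₀, ha, map_zero, zero_mul, add_zero, sub_self]
    · rw [h3', zero_mul, ha, map_zero, add_zero]
  · by_cases ha : a = 0
    · have hb : b = 0 := by
        rw [ha] at hd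
        have h27 : (27 : k) ≠ 0 := by
          have : (27 : k) = 3 ^ 3 := by norm_num
          rw [this]; exact pow_ne_zero _ h3
        simpa [h27] using hd
      exact ⟨0, by simp [ha, hb], by simp [ha]⟩
    · refine ⟨algebraMap k (AlgebraicClosure k) (3 * b / (2 * a)), ?_, ?_⟩
      · rw [← map_pow, ← map_mul, ← map_add, ← map_sub,
          ← map_zero (algebraMap k (AlgebraicClosure k))]
        congr 1
        field_simp
        linear_combination (b) * hd
      · have h3'' : (3 : AlgebraicClosure k) = algebraMap k (AlgebraicClosure k) 3 :=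
          (map_ofNat (algebraMap k (AlgebraicClosure k)) 3).symm
        rw [h3'', ← map_pow, ← map_mul, ← map_add, ← map_zero (algebraMap k (AlgebraicClosure k))]
        congr 1
        field_simp
        linear_combination hd

theorem jacIdeal_g2_ne_top (h2 : (2 : k) ≠ 0) (a b : k) (hd : 4 * a ^ 3 + 27 * b ^ 2 = 0) :
    jacIdeal (g2 a b) ≠ ⊤ := by
  obtain ⟨x₀, hx1, hx2⟩ := exists_common_root h2 a b hd
  let φ : MvPolynomial (Fin 2) k →ₐ[k] AlgebraicClosure k := aeval ![x₀, 0]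
  intro htop
  have hle : jacIdeal (g2 a b) ≤ RingHom.ker φ.toRingHom := by
    unfold jacIdeal
    rw [Ideal.span_le]
    rintro x (hx | ⟨i, rfl⟩)
    · rw [Set.mem_singleton_iff] at hx
      subst hx
      rw [SetLike.mem_coe, RingHom.mem_ker]
      change φ (g2 a b) = 0
      unfold g2
      simp only [φ, map_add, map_sub, map_mul, map_pow, aeval_X, aeval_C, Matrix.cons_val_zero,
        Matrix.cons_val_one]
      linear_combination (-1) * hx1
    · rw [SetLike.mem_coe, RingHom.mem_ker]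
      change φ (pderiv i (g2 a b)) = 0
      fin_cases i
      · change φ (pderiv 0 (g2 a b)) = 0
        rw [pderiv0_g2]
        simp only [φ, map_sub, map_mul, map_pow, map_neg, aeval_X, aeval_C,
          Matrix.cons_val_zero, map_ofNat]
        linear_combination (-1) * hx2
      · change φ (pderiv 1 (g2 a b)) = 0
        rw [pderiv1_g2]
        simp [φ]
  have h1 : (1 : MvPolynomial (Fin 2) k) ∈ RingHom.ker φ.toRingHom := hle (htop ▸ Submodule.mem_top)
  rw [RingHom.mem_ker, map_one] at h1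
  exact one_ne_zero h1

theorem g2_ne_zero (h2 : (2 : k) ≠ 0) (a b : k) : g2 a b ≠ 0 := by
  intro h
  have h1 := pderiv1_g2 a b
  rw [h, map_zero] at h1
  have h3 := congrArg (eval (fun _ => (1 : k))) h1
  rw [map_zero, map_mul, eval_X, mul_one, map_ofNat] at h3
  exact h2 h3.symm

theorem g1_ne_zero (h2 : (2 : k) ≠ 0) (a b : k) : g1 a b ≠ 0 := by
  intro h
  have h1 := jacIdeal_g1 h2 a b
  have hbot : jacIdeal (g1 a b) = ⊥ := by
    unfold jacIdeal
    rw [Ideal.span_eq_bot]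
    rintro x (hx | ⟨i, rfl⟩)
    · rw [Set.mem_singleton_iff] at hx; rw [hx, h]
    · simp only [h, map_zero]
  rw [hbot] at h1
  exact bot_ne_top h1

end Groth.Agent.Lib.Helper4.Weierstrass
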