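import Groth.Agent.Lib.Helper4HypSmoothB
import Groth.Agent.Lib.Helper4Weierstrass

/-!
# The short Weierstrass cubic is smooth iff `4a³ + 27b² ≠ 0` (helper4)
-/

set_option autoImplicit false
set_option linter.style.haveILetI false
universe u

open CategoryTheory CategoryTheory.Limits AlgebraicGeometry TopologicalSpace Opposite MvPolynomial

namespace Groth.Agent.Lib.Helper4.Weierstrass

open Groth.Agent.Lib.Helper4.HypSmooth Groth.Agent.Lib.Helper4.JacCrit
  Groth.Agent.Lib.Helper4.HypIdeal Groth.Agent.Lib.Helper4.CIDim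

theorem smooth_iff (k : Type u) [Field k] (h2 : (2 : k) ≠ 0) (a b : k) (W : LefPen.Form 2 k 3)
    (hW : (W : MvPolynomial (Fin (2 + 1)) k) =
      X 1 ^ 2 * X 2 - X 0 ^ 3 - C a * X 0 * X 2 ^ 2 + C b * X 2 ^ 3) :
    Smooth ((LefPen.hypIdeal W).subschemeι ≫ CohB1.ProjSpace.toSpec 2 k) ↔
      4 * a ^ 3 + 27 * b ^ 2 ≠ 0 := by
  have hW1 : dehomPoly W 1 = g1 a b := dehomPoly_one a b W hW
  have hW2 : dehomPoly W 2 = g2 a b := dehomPoly_two a b W hW
  constructor
  · intro hsm hd
    have h1 := smooth_chart_of_smooth (LefPen.hypIdeal W) (CohB1.ProjSpace.toSpec 2 k)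
      ⟨LefPen.chart 2 k 2, isAffineOpen_chart 2⟩ hsm
    rw [smooth_chart_iff, hW2] at h1
    exact jacIdeal_g2_ne_top h2 a b hd ((smooth_quotient_iff _ (g2_ne_zero h2 a b)).mp h1)
  · intro hd
    refine smooth_of_charts (LefPen.hypIdeal W) (CohB1.ProjSpace.toSpec 2 k) (J := Fin 2)
      (fun j => ⟨LefPen.chart 2 k j.succ, isAffineOpen_chart _⟩) ?_ ?_
    · intro z
      set x : CohB1.ProjSpace 2 k := (LefPen.hypIdeal W).subschemeι z with hx
      have hxs : x ∈ (LefPen.hypIdeal W).support := by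
        have : x ∈ Set.range (LefPen.hypIdeal W).subschemeι := ⟨z, rfl⟩
        rw [(LefPen.hypIdeal W).range_subschemeι] at this
        exact this
      let y : ProjectiveSpectrum (CohB1.polyGrading 2 k) := x
      have hWy : W.1 ∈ y.asHomogeneousIdeal := by
        have h0 : y ∈ ProjectiveSpectrum.zeroLocus (CohB1.polyGrading 2 k) {W.1} :=
          (mem_support_hypIdeal_iff W x).mp hxs
        rw [ProjectiveSpectrum.mem_zeroLocus, Set.singleton_subset_iff] at h0
        exact h0
      by_contra hcon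
      push Not at hcon
      have hX : ∀ j : Fin 2, (X j.succ : MvPolynomial (Fin (2 + 1)) k) ∈ y.asHomogeneousIdeal := by
        intro j
        by_contra hj
        exact hcon j ((ProjectiveSpectrum.mem_basicOpen (CohB1.polyGrading 2 k) _ _).mpr hj)
      have hX1 : (X 1 : MvPolynomial (Fin (2 + 1)) k) ∈ y.asHomogeneousIdeal := hX 0
      have hX2 : (X 2 : MvPolynomial (Fin (2 + 1)) k) ∈ y.asHomogeneousIdeal := hX 1
      have hX0 : (X 0 : MvPolynomial (Fin (2 + 1)) k) ∈ y.asHomogeneousIdeal := by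
        have h3 : (X 0 : MvPolynomial (Fin (2 + 1)) k) ^ 3 ∈ y.asHomogeneousIdeal := by
          have e : (X 0 : MvPolynomial (Fin (2 + 1)) k) ^ 3 =
              (X 1 ^ 2 - C a * X 0 * X 2 + C b * X 2 ^ 2) * X 2 - W.1 := by
            rw [hW]; ring
          rw [e]
          exact Ideal.sub_mem _ (Ideal.mul_mem_left _ _ hX2) hWy
        exact y.isPrime.mem_of_pow_mem _ h3
      obtain ⟨i, hi⟩ : ∃ i, x ∈ LefPen.chart 2 k i := by
        have hx' : x ∈ (⨆ i, LefPen.chart 2 k i : (CohB1.ProjSpace 2 k).Opens) := by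
          rw [iSup_chart]; trivial
        exact Opens.mem_iSup.mp hx'
      have hXi : (X i : MvPolynomial (Fin (2 + 1)) k) ∉ y.asHomogeneousIdeal :=
        (ProjectiveSpectrum.mem_basicOpen (CohB1.polyGrading 2 k) _ _).mp hi
      fin_cases i
      · exact hXi hX0
      · exact hXi hX1
      · exact hXi hX2
    · intro j
      fin_cases j
      · change Smooth ((LefPen.hypIdeal W).subschemeCover.f
          ⟨LefPen.chart 2 k 1, isAffineOpen_chart 1⟩ ≫ _ ≫ _)
        rw [smooth_chart_iff, hW1]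
        exact (smooth_quotient_iff _ (g1_ne_zero h2 a b)).mpr (jacIdeal_g1 h2 a b)
      · change Smooth ((LefPen.hypIdeal W).subschemeCover.f
          ⟨LefPen.chart 2 k 2, isAffineOpen_chart 2⟩ ≫ _ ≫ _)
        rw [smooth_chart_iff, hW2]
        exact (smooth_quotient_iff _ (g2_ne_zero h2 a b)).mpr (jacIdeal_g2_of_disc h2 a b hd)

end Groth.Agent.Lib.Helper4.Weierstrass
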