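import Mathlib

/-!
# Abhyankar's inequality for extensions of valued fields (helper5)

* `sum_ne_zero_of_distinct`: a finite sum whose terms have pairwise distinct valuations, not all
  zero, is nonzero.
* `gauss`: if the residues of `y_j ∈ O_L` are algebraically independent over the residue field of
  `K`, every nonzero polynomial expression in the `y_j` over `K` has the valuation of an element of
  `K^×`.
* `algebraicIndependent_units`: units whose classes are `ℤ`-linearly independent modulo
  `O_L^× · K^×` are algebraically independent over any subalgebra whose nonzero elements have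
  valuations in `v(K^×)`.
* `abhyankar`: rational rank + residue transcendence degree `≤` transcendence degree.
-/

set_option autoImplicit false
universe u

namespace Groth.Agent.Lib.Helper5.Abhyankar

open IsLocalRing Valuation MvPolynomial Cardinal

section Distinct

variable {L Γ₁ : Type*} [Field L] [LinearOrderedCommGroupWithZero Γ₁] (vL : Valuation L Γ₁)

theorem sum_ne_zero_of_distinct {α : Type*} (s : Finset α) (t : α → L)
    (hd : ∀ a ∈ s, ∀ b ∈ s, a ≠ b → vL (t a) ≠ vL (t b)) (hne : ∃ a ∈ s, t a ≠ 0) :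
    ∑ a ∈ s, t a ≠ 0 := by
  classical
  obtain ⟨a, ha, hta⟩ := hne
  obtain ⟨a₀, ha₀, hmax⟩ := Finset.exists_max_image s (fun a => vL (t a)) ⟨a, ha⟩
  have hpos : vL (t a₀) ≠ 0 := by
    have h1 : vL (t a) ≠ 0 := (Valuation.ne_zero_iff vL).mpr hta
    have h2 := hmax a ha
    intro h0
    rw [h0] at h2
    exact h1 (le_antisymm h2 zero_le)
  have hlt : vL (∑ b ∈ s.erase a₀, t b) < vL (t a₀) := by
    apply Valuation.map_sum_lt vL hpos
    intro b hb
    have hb' := Finset.mem_erase.mp hb
    exact lt_of_le_of_ne (hmax b hb'.2) (hd b hb'.2 a₀ ha₀ hb'.1)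
  have hsum : ∑ b ∈ s, t b = t a₀ + ∑ b ∈ s.erase a₀, t b := (Finset.add_sum_erase s t ha₀).symm
  intro h0
  have h1 : vL (t a₀ + ∑ b ∈ s.erase a₀, t b) = vL (t a₀) :=
    Valuation.map_add_eq_of_lt_left vL hlt
  rw [← hsum, h0, map_zero] at h1
  exact hpos h1.symm

end Distinct

section Gauss

variable {K L Γ₀ Γ₁ : Type u} [Field K] [Field L] [Algebra K L]
  [LinearOrderedCommGroupWithZero Γ₀] [LinearOrderedCommGroupWithZero Γ₁]
  (vK : Valuation K Γ₀) (vL : Valuation L Γ₁) [vK.HasExtension vL]

omit [Algebra K L] in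
theorem val_eq_one_of_residue_ne_zero (a : vL.valuationSubring)
    (h : residue vL.valuationSubring a ≠ 0) : vL (a : L) = 1 := by
  have h1 : a ∉ maximalIdeal vL.valuationSubring := fun hm => h ((residue_eq_zero_iff a).mpr hm)
  rw [Valuation.mem_maximalIdeal_iff] at h1
  exact le_antisymm ((Valuation.mem_valuationSubring_iff vL _).mp a.2) (not_lt.mp h1)

theorem gauss {κ : Type*} (y : κ → vL.valuationSubring)
    (hy : AlgebraicIndependent (ResidueField vK.valuationSubring)
      (fun j => residue vL.valuationSubring (y j)))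
    (Q : MvPolynomial κ K) (hQ : Q ≠ 0) :
    ∃ c : K, c ≠ 0 ∧
      vL (aeval (fun j => ((y j : vL.valuationSubring) : L)) Q) = vL (algebraMap K L c) := by
  classical
  have hsupp : Q.support.Nonempty := by
    rw [Finset.nonempty_iff_ne_empty, ne_eq, MvPolynomial.support_eq_empty]
    exact hQ
  obtain ⟨m₀, hm₀, hmax⟩ := Finset.exists_max_image Q.support (fun m => vK (coeff m Q)) hsupp
  have hc0 : coeff m₀ Q ≠ 0 := MvPolynomial.mem_support_iff.mp hm₀
  have hvc : vK (coeff m₀ Q) ≠ 0 := (Valuation.ne_zero_iff vK).mpr hc0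
  refine ⟨coeff m₀ Q, hc0, ?_⟩
  have hcoeffs : ((C (coeff m₀ Q)⁻¹ * Q).coeffs : Set K) ⊆
      Set.range (algebraMap vK.valuationSubring K) := by
    intro a ha
    obtain ⟨m, -, rfl⟩ := MvPolynomial.mem_coeffs_iff.mp ha
    rw [coeff_C_mul]
    have hle : vK ((coeff m₀ Q)⁻¹ * coeff m Q) ≤ 1 := by
      rw [map_mul, map_inv₀]
      by_cases hmQ : m ∈ Q.support
      · have h1 := hmax m hmQ
        rw [mul_comm, ← div_eq_mul_inv, div_le_one₀ (zero_lt_iff.mpr hvc)]
        exact h1
      · rw [MvPolynomial.notMem_support_iff.mp hmQ, map_zero, mul_zero]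
        exact zero_le_one
    exact ⟨⟨_, hle⟩, rfl⟩
  obtain ⟨Q₀, hQ₀⟩ := MvPolynomial.mem_range_map_iff_coeffs_subset.mpr hcoeffs
  have h1 : aeval (fun j => ((y j : vL.valuationSubring) : L)) (C (coeff m₀ Q)⁻¹ * Q) =
      algebraMap vL.valuationSubring L (aeval y Q₀) := by
    rw [← hQ₀, aeval_map_algebraMap]
    exact aeval_algebraMap_apply L y Q₀
  have hφ : (residue vL.valuationSubring).comp
      (algebraMap vK.valuationSubring vL.valuationSubring) =
      (algebraMap (ResidueField vK.valuationSubring) (ResidueField vL.valuationSubring)).comp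
        (residue vK.valuationSubring) := RingHom.ext fun a => rfl
  have h2 : residue vL.valuationSubring (aeval y Q₀) =
      aeval (fun j => residue vL.valuationSubring (y j))
        (map (residue vK.valuationSubring) Q₀) := by
    rw [map_aeval, aeval_def, eval₂_map, ← hφ]
    rfl
  have h3 : map (residue vK.valuationSubring) Q₀ ≠ 0 := by
    intro h0
    have h4 : coeff m₀ (map (residue vK.valuationSubring) Q₀) = 0 := by rw [h0, coeff_zero]
    rw [coeff_map] at h4
    have h5 : coeff m₀ Q₀ = 1 := by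
      apply Subtype.val_injective
      have := congrArg (coeff m₀) hQ₀
      rw [coeff_map, coeff_C_mul, inv_mul_cancel₀ hc0] at this
      exact this
    rw [h5, map_one] at h4
    exact one_ne_zero h4
  have h6 : residue vL.valuationSubring (aeval y Q₀) ≠ 0 := by
    rw [h2]
    exact fun h => h3 ((algebraicIndependent_iff.mp hy) _ h)
  have h7 : vL ((aeval y Q₀ : vL.valuationSubring) : L) = 1 :=
    val_eq_one_of_residue_ne_zero vL _ h6
  have h8 : vL (aeval (fun j => ((y j : vL.valuationSubring) : L)) (C (coeff m₀ Q)⁻¹ * Q)) = 1 := by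
    rw [h1]
    exact h7
  have hne : vL (algebraMap K L (coeff m₀ Q)) ≠ 0 :=
    (Valuation.ne_zero_iff vL).mpr ((map_ne_zero (algebraMap K L)).mpr hc0)
  rw [map_mul, aeval_C, map_mul, map_inv₀, map_inv₀] at h8
  exact ((inv_mul_eq_one₀ hne).mp h8).symm

end Gauss

section XStep

variable (K : Type u) {L Γ₁ : Type u} [Field K] [Field L] [Algebra K L]
  [LinearOrderedCommGroupWithZero Γ₁] (vL : Valuation L Γ₁)

omit [Field L] in
theorem linearCombination_nat_eq {L : Type u} [Field L] {ι : Type*} (x : ι → Lˣ) (α : ι →₀ ℕ)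
    (N : AddSubgroup (Additive Lˣ)) :
    Finsupp.linearCombination ℕ
      (fun i => (QuotientAddGroup.mk (Additive.ofMul (x i)) : Additive Lˣ ⧸ N)) α =
      QuotientAddGroup.mk (Additive.ofMul (α.prod fun i n => x i ^ n)) := by
  have h : ∀ (s : Finset ι), (QuotientAddGroup.mk' N) (Additive.ofMul (∏ i ∈ s, x i ^ α i)) =
      ∑ i ∈ s, α i • (QuotientAddGroup.mk' N) (Additive.ofMul (x i)) := by
    intro s
    rw [ofMul_prod, map_sum]
    refine Finset.sum_congr rfl fun i _ => ?_
    rw [ofMul_pow, map_nsmul]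
  rw [Finsupp.linearCombination_apply, Finsupp.sum, Finsupp.prod]
  exact (h α.support).symm

theorem algebraicIndependent_units {ι : Type*} (S : Subalgebra K L)
    (hS : ∀ a : S, a ≠ 0 → ∃ c : K, c ≠ 0 ∧ vL (a : L) = vL (algebraMap K L c))
    (x : ι → Lˣ)
    (hx : LinearIndependent ℤ (fun i => (QuotientAddGroup.mk (Additive.ofMul (x i)) :
      Additive Lˣ ⧸ Subgroup.toAddSubgroup
        (vL.valuationSubring.unitGroup ⊔ (Units.map (algebraMap K L).toMonoidHom).range)))) :
    AlgebraicIndependent S (fun i => ((x i : Lˣ) : L)) := by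
  classical
  rw [algebraicIndependent_iff]
  intro P hP
  by_contra hP0
  have hxN : LinearIndependent ℕ (fun i => (QuotientAddGroup.mk (Additive.ofMul (x i)) :
      Additive Lˣ ⧸ Subgroup.toAddSubgroup
        (vL.valuationSubring.unitGroup ⊔ (Units.map (algebraMap K L).toMonoidHom).range))) :=
    hx.restrict_scalars' ℕ
  rw [aeval_def, eval₂_eq] at hP
  have hprod : ∀ β : ι →₀ ℕ, (∏ i ∈ β.support, ((x i : Lˣ) : L) ^ β i) =
      ((β.prod fun i n => x i ^ n : Lˣ) : L) := by
    intro β
    rw [Finsupp.prod, Units.coe_prod]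
    refine Finset.prod_congr rfl fun i _ => ?_
    rw [Units.val_pow_eq_pow_val]
  refine sum_ne_zero_of_distinct vL P.support _ ?_ ?_ hP
  · intro α hα α' hα' hne heq
    have hcα : coeff α P ≠ 0 := MvPolynomial.mem_support_iff.mp hα
    have hcα' : coeff α' P ≠ 0 := MvPolynomial.mem_support_iff.mp hα'
    obtain ⟨c, hc0, hc⟩ := hS _ hcα
    obtain ⟨c', hc'0, hc'⟩ := hS _ hcα'
    have e1 : vL ((algebraMap S L) (coeff α P)) = vL (algebraMap K L c) := hc
    have e1' : vL ((algebraMap S L) (coeff α' P)) = vL (algebraMap K L c') := hc'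
    rw [map_mul, map_mul, hprod, hprod, e1, e1'] at heq
    set Xα : Lˣ := α.prod fun i n => x i ^ n with hXα
    set Xα' : Lˣ := α'.prod fun i n => x i ^ n with hXα'
    have ha : vL (algebraMap K L c) ≠ 0 :=
      (Valuation.ne_zero_iff vL).mpr ((map_ne_zero (algebraMap K L)).mpr hc0)
    have ha' : vL (algebraMap K L c') ≠ 0 :=
      (Valuation.ne_zero_iff vL).mpr ((map_ne_zero (algebraMap K L)).mpr hc'0)
    have hb : vL (Xα : L) ≠ 0 := (Valuation.ne_zero_iff vL).mpr Xα.ne_zero
    let κu : Lˣ := Units.map (algebraMap K L).toMonoidHom (Units.mk0 c hc0 * (Units.mk0 c' hc'0)⁻¹)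
    have hκ : vL (κu : L) = vL (algebraMap K L c) * (vL (algebraMap K L c'))⁻¹ := by
      have : (κu : L) = algebraMap K L c * (algebraMap K L c')⁻¹ := by
        simp [κu]
      rw [this, map_mul, map_inv₀]
    have hw : Xα⁻¹ * Xα' * κu⁻¹ ∈ vL.valuationSubring.unitGroup := by
      rw [Valuation.mem_unitGroup_iff]
      have : ((Xα⁻¹ * Xα' * κu⁻¹ : Lˣ) : L) = (Xα : L)⁻¹ * (Xα' : L) * (κu : L)⁻¹ := by
        simp
      rw [this, map_mul, map_mul, map_inv₀, map_inv₀, hκ]
      calc (vL (Xα : L))⁻¹ * vL (Xα' : L) * (vL (algebraMap K L c) * (vL (algebraMap K L c'))⁻¹)⁻¹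
          = (vL (algebraMap K L c) * vL (Xα : L))⁻¹ * (vL (algebraMap K L c') * vL (Xα' : L)) := by
            rw [mul_inv, mul_inv, inv_inv]
            ac_rfl
        _ = 1 := by
            rw [← heq]
            exact inv_mul_cancel₀ (mul_ne_zero ha hb)
    have hmem : Xα⁻¹ * Xα' ∈
        vL.valuationSubring.unitGroup ⊔ (Units.map (algebraMap K L).toMonoidHom).range := by
      have h3 : Xα⁻¹ * Xα' = (Xα⁻¹ * Xα' * κu⁻¹) * κu := by
        rw [inv_mul_cancel_right]
      rw [h3]
      exact Subgroup.mul_mem_sup hw ⟨_, rfl⟩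
    have hG : (QuotientAddGroup.mk (Additive.ofMul Xα) :
        Additive Lˣ ⧸ Subgroup.toAddSubgroup
          (vL.valuationSubring.unitGroup ⊔ (Units.map (algebraMap K L).toMonoidHom).range)) =
        QuotientAddGroup.mk (Additive.ofMul Xα') := by
      rw [QuotientAddGroup.eq]
      exact hmem
    apply hne
    apply hxN
    rw [linearCombination_nat_eq, linearCombination_nat_eq]
    exact hG
  · have hne : P.support.Nonempty := by
      rw [Finset.nonempty_iff_ne_empty, ne_eq, MvPolynomial.support_eq_empty]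
      exact hP0
    obtain ⟨α, hα⟩ := hne
    refine ⟨α, hα, mul_ne_zero ?_ ?_⟩
    · have hcα : coeff α P ≠ 0 := MvPolynomial.mem_support_iff.mp hα
      exact fun h => hcα (Subtype.ext h)
    · exact Finset.prod_ne_zero_iff.mpr fun i _ => pow_ne_zero _ (x i).ne_zero

end XStep

section Main

variable {K L Γ₀ Γ₁ : Type u} [Field K] [Field L] [Algebra K L]
  [LinearOrderedCommGroupWithZero Γ₀] [LinearOrderedCommGroupWithZero Γ₁]
  (vK : Valuation K Γ₀) (vL : Valuation L Γ₁) [vK.HasExtension vL]

theorem abhyankar :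
    Module.rank ℤ (Additive Lˣ ⧸ Subgroup.toAddSubgroup
        (vL.valuationSubring.unitGroup ⊔ (Units.map (algebraMap K L).toMonoidHom).range)) +
      Algebra.trdeg (IsLocalRing.ResidueField vK.valuationSubring)
        (IsLocalRing.ResidueField vL.valuationSubring) ≤ Algebra.trdeg K L := by
  classical
  obtain ⟨s, hs, hli⟩ := exists_set_linearIndependent_of_isDomain ℤ
    (Additive Lˣ ⧸ Subgroup.toAddSubgroup
      (vL.valuationSubring.unitGroup ⊔ (Units.map (algebraMap K L).toMonoidHom).range))
  haveI : FaithfulSMul (ResidueField vK.valuationSubring) (ResidueField vL.valuationSubring) :=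
    (faithfulSMul_iff_algebraMap_injective _ _).mpr (RingHom.injective _)
  obtain ⟨t, ht⟩ := exists_isTranscendenceBasis (ResidueField vK.valuationSubring)
    (ResidueField vL.valuationSubring)
  have hx : ∀ a : s, ∃ w : Lˣ, (QuotientAddGroup.mk (Additive.ofMul w) :
      Additive Lˣ ⧸ Subgroup.toAddSubgroup
        (vL.valuationSubring.unitGroup ⊔ (Units.map (algebraMap K L).toMonoidHom).range)) = a.1 := by
    intro a
    obtain ⟨b, hb⟩ := QuotientAddGroup.mk_surjective a.1
    exact ⟨Additive.toMul b, hb⟩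
  choose x hx' using hx
  have hy : ∀ b : t, ∃ w : vL.valuationSubring, residue vL.valuationSubring w = b.1 :=
    fun b => residue_surjective b.1
  choose y hy' using hy
  have hyind : AlgebraicIndependent (ResidueField vK.valuationSubring)
      (fun j : t => residue vL.valuationSubring (y j)) := by
    have h1 : (fun j : t => residue vL.valuationSubring (y j)) = fun j : t => j.1 :=
      funext hy'
    rw [h1]
    exact ht.1
  have hyL : AlgebraicIndependent K (fun j : t => ((y j : vL.valuationSubring) : L)) := by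
    rw [algebraicIndependent_iff]
    intro Q hQ
    by_contra hQ0
    obtain ⟨c, hc0, hc⟩ := gauss vK vL y hyind Q hQ0
    rw [hQ, map_zero] at hc
    exact (Valuation.ne_zero_iff vL).mpr ((map_ne_zero (algebraMap K L)).mpr hc0) hc.symm
  have hS : ∀ a : Algebra.adjoin K (Set.range fun j : t => ((y j : vL.valuationSubring) : L)),
      a ≠ 0 → ∃ c : K, c ≠ 0 ∧ vL (a : L) = vL (algebraMap K L c) := by
    intro a ha
    have hmem : (a : L) ∈ (aeval (R := K) (fun j : t => ((y j : vL.valuationSubring) : L))).range := by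
      rw [aeval_range]
      exact a.2
    obtain ⟨Q, hQ⟩ := hmem
    have hQ0 : Q ≠ 0 := by
      rintro rfl
      rw [map_zero] at hQ
      exact ha (Subtype.ext hQ.symm)
    obtain ⟨c, hc0, hc⟩ := gauss vK vL y hyind Q hQ0
    exact ⟨c, hc0, by rw [← hQ]; exact hc⟩
  have hli' : LinearIndependent ℤ (fun a : s => (QuotientAddGroup.mk (Additive.ofMul (x a)) :
      Additive Lˣ ⧸ Subgroup.toAddSubgroup
        (vL.valuationSubring.unitGroup ⊔ (Units.map (algebraMap K L).toMonoidHom).range))) := by
    have h1 : (fun a : s => (QuotientAddGroup.mk (Additive.ofMul (x a)) :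
      Additive Lˣ ⧸ Subgroup.toAddSubgroup
        (vL.valuationSubring.unitGroup ⊔ (Units.map (algebraMap K L).toMonoidHom).range))) =
        fun a : s => a.1 := funext hx'
    rw [h1]
    exact hli
  have hxL := algebraicIndependent_units K vL _ hS x hli'
  have hz := hyL.sumElim hxL
  have hcard := hz.cardinalMk_le_trdeg
  rw [Cardinal.mk_sum, Cardinal.lift_id, Cardinal.lift_id] at hcard
  rw [← hs, ← ht.cardinalMk_eq_trdeg]
  exact hcard

end Main

end Groth.Agent.Lib.Helper5.Abhyankar
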