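import Groth.Agent.Lib.Helper5ProdFields
import Groth.Agent.Lib.Helper5ProCons
import Mathlib.AlgebraicGeometry.Limits

/-!
Pro-constructible subsets of (quasi-compact) schemes are images of affine schemes.
-/

set_option autoImplicit false
universe u

namespace Groth.Agent.Lib.Helper5

open Topology AlgebraicGeometry CategoryTheory CategoryTheory.Limits

/-- A pro-constructible subset of an affine scheme is the image of an affine scheme. -/
theorem exists_affine_range_eq_of_isAffine (W : Scheme.{u}) [IsAffine W] (E : Set W)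
    (hE : ProCons.IsProConstructible E) :
    ∃ (Z : Scheme.{u}) (h : Z ⟶ W), IsAffine Z ∧ Set.range h.base = E := by
  let A : CommRingCat.{u} := Γ(W, ⊤)
  let e : W ≅ Spec A := W.isoSpec
  have hEA : ProCons.IsProConstructible (e.inv.base ⁻¹' E) := isProConstructible_preimage e.inv E hE
  obtain ⟨𝒟, h𝒟, hE𝒟⟩ := exists_eq_sInter_of_isProConstructible hEA
  obtain ⟨K, _, φ, hφ⟩ := exists_ringHom_range_comap_eq (A := A) (e.inv.base ⁻¹' E) 𝒟 h𝒟 hE𝒟
  refine ⟨Spec (CommRingCat.of K), Spec.map (CommRingCat.ofHom φ) ≫ e.inv, inferInstance, ?_⟩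
  have hsurj : Function.Surjective e.inv.base := e.inv.surjective
  ext x
  constructor
  · rintro ⟨z, rfl⟩
    have hz : (Spec.map (CommRingCat.ofHom φ)).base z ∈ e.inv.base ⁻¹' E :=
      (Set.ext_iff.mp hφ _).mp ⟨z, rfl⟩
    exact hz
  · intro hx
    obtain ⟨y, rfl⟩ := hsurj x
    have hy : y ∈ e.inv.base ⁻¹' E := hx
    obtain ⟨z, rfl⟩ := (Set.ext_iff.mp hφ _).mpr hy
    exact ⟨z, rfl⟩

/-- A pro-constructible subset of a quasi-compact scheme is the image of an affine scheme. -/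
theorem exists_affine_range_eq (X : Scheme.{u}) [CompactSpace X] (E : Set X)
    (hE : ProCons.IsProConstructible E) :
    ∃ (X' : Scheme.{u}) (f : X' ⟶ X), IsAffine X' ∧ Set.range f.base = E := by
  classical
  obtain ⟨s, hs, hcover⟩ := (isCompact_iff_finite_and_eq_biUnion_affineOpens (X := X)
    (U := ⊤)).mp isCompact_univ
  have hloc : ∀ Wa : s, ∃ (Z : Scheme.{u}) (h : Z ⟶ ((Wa.1 : X.Opens) : Scheme.{u})),
      IsAffine Z ∧ Set.range h.base = (Wa.1 : X.Opens).ι.base ⁻¹' E := by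
    intro Wa
    have : IsAffine ((Wa.1 : X.Opens) : Scheme.{u}) := Wa.1.2
    exact exists_affine_range_eq_of_isAffine _ _
      (isProConstructible_preimage (Wa.1 : X.Opens).ι E hE)
  choose Z h hZ hrange using hloc
  have : Finite s := hs
  refine ⟨∐ Z, Sigma.desc (fun Wa => h Wa ≫ (Wa.1 : X.Opens).ι), inferInstance, ?_⟩
  ext x
  constructor
  · rintro ⟨y, rfl⟩
    obtain ⟨⟨Wa, z⟩, rfl⟩ := (sigmaMk Z).surjective y
    rw [sigmaMk_mk]
    have h1 : (Sigma.desc (fun Wa => h Wa ≫ (Wa.1 : X.Opens).ι)).base ((Sigma.ι Z Wa).base z) =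
        (Sigma.ι Z Wa ≫ Sigma.desc (fun Wa => h Wa ≫ (Wa.1 : X.Opens).ι)).base z := rfl
    rw [h1, Sigma.ι_desc]
    have h2 : (h Wa).base z ∈ (Wa.1 : X.Opens).ι.base ⁻¹' E := by
      rw [← hrange Wa]
      exact ⟨z, rfl⟩
    exact h2
  · intro hx
    have hxtop : x ∈ (⊤ : X.Opens) := trivial
    rw [hcover] at hxtop
    simp only [TopologicalSpace.Opens.mem_iSup] at hxtop
    obtain ⟨Wa, hWa, hxW⟩ := hxtop
    have h2 : (⟨x, hxW⟩ : ((Wa : X.Opens) : Scheme.{u})) ∈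
        (Wa : X.Opens).ι.base ⁻¹' E := hx
    rw [← hrange ⟨Wa, hWa⟩] at h2
    obtain ⟨z, hz⟩ := h2
    refine ⟨(Sigma.ι Z ⟨Wa, hWa⟩).base z, ?_⟩
    have h1 : (Sigma.desc (fun Wa => h Wa ≫ (Wa.1 : X.Opens).ι)).base
        ((Sigma.ι Z ⟨Wa, hWa⟩).base z) =
        (Sigma.ι Z ⟨Wa, hWa⟩ ≫ Sigma.desc (fun Wa => h Wa ≫ (Wa.1 : X.Opens).ι)).base z := rfl
    rw [h1, Sigma.ι_desc]
    show (Wa : X.Opens).ι.base ((h ⟨Wa, hWa⟩).base z) = x
    rw [hz]
    rfl

end Groth.Agent.Lib.Helper5
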