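import Mathlib
import Groth.Agent.Lib.Helper5NilFlat

/-!
# Descent of flatness along a jointly injective family, modulo a nilpotent ideal (helper5)

Let `I` be a nilpotent ideal of `A`, `(A → S i)` a family of `A`-algebras whose kernels have zero
intersection, and `M` an `A`-module such that `(A/I) ⊗ M` is flat over `A/I` and every
`S i ⊗ M` is flat over `S i`.  If moreover `M ⊗ -` detects zero through jointly injective
families of `A/I`-modules indexed by the same type (automatic for a finite family), then `M` is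
flat over `A`.
-/

set_option autoImplicit false
universe u v w
open scoped Pointwise

namespace Groth.Agent.Lib.Helper5

open TensorProduct LinearMap

section

variable {A : Type u} [CommRing A] {M : Type v} [AddCommGroup M] [Module A M]

/-- Flatness of `B ⊗ M` over an `A`-algebra `B`: `M ⊗_A K → M ⊗_A P` is injective for every
`B`-submodule `K` of a `B`-module `P`. -/
theorem lTensor_restrictScalars_subtype_injective_of_flat_baseChange_algebra
    (B : Type u) [CommRing B] [Algebra A B]
    (h : Module.Flat B (B ⊗[A] M)) {P : Type u} [AddCommGroup P]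
    [Module B P] [Module A P] [IsScalarTower A B P] (K : Submodule B P) :
    Function.Injective (((K.restrictScalars A).subtype).lTensor M) := by
  rw [LinearMap.lTensor_inj_iff_rTensor_inj]
  have hflat := Module.Flat.rTensor_preserves_injective_linearMap (R := B)
    (M := B ⊗[A] M) K.subtype K.injective_subtype
  let e₁ := TensorProduct.AlgebraTensorModule.cancelBaseChange A B B ↥K M
  let e₂ := TensorProduct.AlgebraTensorModule.cancelBaseChange A B B P M
  let g : ↥K ⊗[A] M →ₗ[A] P ⊗[A] M := rTensor M (K.subtype.restrictScalars A)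
  have hsq : ∀ t, g (e₁ t) = e₂ (rTensor (B ⊗[A] M) K.subtype t) := by
    intro t
    induction t with
    | zero => simp
    | add a b ha hb => rw [map_add, map_add, ha, hb, map_add, map_add]
    | tmul x y =>
      induction y with
      | zero => simp
      | add a b ha hb => rw [tmul_add, map_add, map_add, ha, hb, map_add, map_add]
      | tmul a m =>
        rw [rTensor_tmul]
        simp only [e₁, e₂, g, TensorProduct.AlgebraTensorModule.cancelBaseChange_tmul, rTensor_tmul]
        rfl
  have hg : Function.Injective g := by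
    intro t₁ t₂ ht
    obtain ⟨s₁, rfl⟩ := e₁.surjective t₁
    obtain ⟨s₂, rfl⟩ := e₁.surjective t₂
    rw [hsq, hsq] at ht
    rw [hflat (e₂.injective ht)]
  exact hg

/-- Flatness of `B ⊗ M` over an `A`-algebra `B`: `M ⊗_A P' → M ⊗_A P` is injective for every
injective `B`-linear map `P' → P`. -/
theorem lTensor_restrictScalars_injective_of_flat_baseChange_algebra
    (B : Type u) [CommRing B] [Algebra A B]
    (h : Module.Flat B (B ⊗[A] M)) {P' : Type*} {P : Type*} [AddCommGroup P'] [AddCommGroup P]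
    [Module B P'] [Module A P'] [IsScalarTower A B P']
    [Module B P] [Module A P] [IsScalarTower A B P] (j : P' →ₗ[B] P)
    (hj : Function.Injective j) :
    Function.Injective ((j.restrictScalars A).lTensor M) := by
  rw [LinearMap.lTensor_inj_iff_rTensor_inj]
  have hflat := Module.Flat.rTensor_preserves_injective_linearMap (R := B)
    (M := B ⊗[A] M) j hj
  let e₁ := TensorProduct.AlgebraTensorModule.cancelBaseChange A B B P' M
  let e₂ := TensorProduct.AlgebraTensorModule.cancelBaseChange A B B P M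
  let g : P' ⊗[A] M →ₗ[A] P ⊗[A] M := rTensor M (j.restrictScalars A)
  have hsq : ∀ t, g (e₁ t) = e₂ (rTensor (B ⊗[A] M) j t) := by
    intro t
    induction t with
    | zero => simp
    | add a b ha hb => rw [map_add, map_add, ha, hb, map_add, map_add]
    | tmul x y =>
      induction y with
      | zero => simp
      | add a b ha hb => rw [tmul_add, map_add, map_add, ha, hb, map_add, map_add]
      | tmul a m =>
        rw [rTensor_tmul]
        simp only [e₁, e₂, g, TensorProduct.AlgebraTensorModule.cancelBaseChange_tmul, rTensor_tmul]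
        rw [LinearMap.restrictScalars_apply, map_smul]
  have hg : Function.Injective g := by
    intro t₁ t₂ ht
    obtain ⟨s₁, rfl⟩ := e₁.surjective t₁
    obtain ⟨s₂, rfl⟩ := e₁.surjective t₂
    rw [hsq, hsq] at ht
    rw [hflat (e₂.injective ht)]
  exact hg

variable (A M) in
/-- `M ⊗ -` detects zero through jointly injective `ι`-indexed families of maps between
`A`-modules killed by `I`. -/
def TensorJointlyInjective (I : Ideal A) (ι : Type w) : Prop :=
  ∀ (V : Type u) [AddCommGroup V] [Module A V] (W : ι → Type u) [∀ i, AddCommGroup (W i)]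
    [∀ i, Module A (W i)] (f : ∀ i, V →ₗ[A] W i),
    (∀ r ∈ I, ∀ v : V, r • v = 0) → (∀ i, ∀ r ∈ I, ∀ x : W i, r • x = 0) →
    (∀ v, (∀ i, f i v = 0) → v = 0) →
    ∀ y : M ⊗[A] V, (∀ i, (f i).lTensor M y = 0) → y = 0

/-- One step of the filtration argument. -/
theorem mem_range_lTensor_inclusion_of_jointly_injective (I : Ideal A)
    {ι : Type w} (S : ι → Type u) [∀ i, CommRing (S i)] [∀ i, Algebra A (S i)]
    (hT : TensorJointlyInjective A M I ι)
    (h2 : ∀ i, Module.Flat (S i) (S i ⊗[A] M))
    (J' J : Ideal A) (hJ'J : J' ≤ J) (K' K : ∀ i, Ideal (S i))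
    (hJK : ∀ a ∈ J, ∀ i, algebraMap A (S i) a ∈ K i)
    (hJ'K' : ∀ a ∈ J', ∀ i, algebraMap A (S i) a ∈ K' i)
    (hJ' : ∀ a ∈ J, (∀ i, algebraMap A (S i) a ∈ K' i) → a ∈ J')
    (hIJ : ∀ r ∈ I, ∀ a ∈ J, r * a ∈ J')
    (hIK : ∀ i, ∀ r ∈ I, ∀ s ∈ K i, algebraMap A (S i) r * s ∈ K' i)
    (y : M ⊗[A] ↥J) (hy : J.subtype.lTensor M y = 0) :
    y ∈ LinearMap.range ((Submodule.inclusion hJ'J).lTensor M) := by
  let ιk : ↥J' →ₗ[A] ↥J := Submodule.inclusion hJ'J
  let q : ↥J →ₗ[A] ↥J ⧸ LinearMap.range ιk := (LinearMap.range ιk).mkQ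
  have hex : Function.Exact ιk q := LinearMap.exact_map_mkQ_range ιk
  have hexT := lTensor_exact M hex (Submodule.mkQ_surjective _)
  suffices hq : q.lTensor M y = 0 from (hexT y).mp hq
  -- the targets
  let Wsub : ∀ i, Submodule (S i) (S i ⧸ K' i) := fun i =>
    Submodule.map (Submodule.mkQ (K' i)) (K i)
  obtain ⟨ψ, hψ⟩ : ∃ ψ : ∀ i, A →ₗ[A] (S i ⧸ K' i),
      ∀ i a, ψ i a = Submodule.mkQ (K' i) (algebraMap A (S i) a) :=
    ⟨fun i => ((Submodule.mkQ (K' i)).restrictScalars A) ∘ₗ
      (Algebra.linearMap A (S i)), fun i a => rfl⟩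
  let g : ∀ i, ↥J →ₗ[A] (S i ⧸ K' i) := fun i => ψ i ∘ₗ J.subtype
  have hgmem : ∀ i (a : ↥J), g i a ∈ (Wsub i).restrictScalars A := by
    intro i a
    rw [Submodule.restrictScalars_mem]
    change ψ i a.1 ∈ Wsub i
    rw [hψ]
    exact Submodule.mem_map_of_mem (hJK a.1 a.2 i)
  let g' : ∀ i, ↥J →ₗ[A] ↥((Wsub i).restrictScalars A) := fun i =>
    (g i).codRestrict _ (hgmem i)
  have hg'ker : ∀ i, LinearMap.range ιk ≤ LinearMap.ker (g' i) := by
    rintro i _ ⟨b, rfl⟩
    rw [LinearMap.mem_ker]
    apply Subtype.ext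
    change ψ i b.1 = 0
    rw [hψ, Submodule.mkQ_apply, Submodule.Quotient.mk_eq_zero]
    exact hJ'K' b.1 b.2 i
  let f : ∀ i, (↥J ⧸ LinearMap.range ιk) →ₗ[A] ↥((Wsub i).restrictScalars A) := fun i =>
    (LinearMap.range ιk).liftQ (g' i) (hg'ker i)
  have hV : ∀ r ∈ I, ∀ v : ↥J ⧸ LinearMap.range ιk, r • v = 0 := by
    intro r hr v
    obtain ⟨a, rfl⟩ := Submodule.mkQ_surjective _ v
    rw [← map_smul, Submodule.mkQ_apply, Submodule.Quotient.mk_eq_zero]
    exact ⟨⟨r * a.1, hIJ r hr a.1 a.2⟩, Subtype.ext rfl⟩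
  have hW : ∀ i, ∀ r ∈ I, ∀ z : ↥((Wsub i).restrictScalars A), r • z = 0 := by
    rintro i r hr ⟨z, hz⟩
    rw [Submodule.restrictScalars_mem] at hz
    obtain ⟨s, hs, rfl⟩ := hz
    apply Subtype.ext
    change r • (Submodule.mkQ (K' i) s) = 0
    rw [Submodule.mkQ_apply, ← Submodule.Quotient.mk_smul, Submodule.Quotient.mk_eq_zero,
      Algebra.smul_def]
    exact hIK i r hr s hs
  have hf : ∀ v, (∀ i, f i v = 0) → v = 0 := by
    intro v hv
    obtain ⟨a, rfl⟩ := Submodule.mkQ_surjective _ v
    rw [Submodule.mkQ_apply, Submodule.Quotient.mk_eq_zero]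
    have hmem : a.1 ∈ J' := by
      refine hJ' a.1 a.2 fun i => ?_
      have h3 := congrArg Subtype.val (hv i)
      change ψ i a.1 = 0 at h3
      rw [hψ, Submodule.mkQ_apply, Submodule.Quotient.mk_eq_zero] at h3
      exact h3
    exact ⟨⟨a.1, hmem⟩, Subtype.ext rfl⟩
  apply hT _ _ f hV hW hf
  intro i
  have hinj := lTensor_restrictScalars_subtype_injective_of_flat_baseChange_algebra
    (M := M) (S i) (h2 i) (Wsub i)
  apply hinj
  rw [map_zero, ← LinearMap.comp_apply, ← LinearMap.comp_apply, ← LinearMap.lTensor_comp,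
    ← LinearMap.lTensor_comp]
  have hcomp : (((Wsub i).restrictScalars A).subtype ∘ₗ f i) ∘ₗ q = ψ i ∘ₗ J.subtype := by
    ext a
    rfl
  rw [hcomp, LinearMap.lTensor_comp, LinearMap.comp_apply, hy, map_zero]

/-- **Descent of flatness along a jointly injective family, modulo a nilpotent ideal.** -/
theorem flat_of_isNilpotent_of_jointly_injective (I : Ideal A) (hI : IsNilpotent I)
    {ι : Type w} (S : ι → Type u) [∀ i, CommRing (S i)] [∀ i, Algebra A (S i)]
    (hS : ∀ a : A, (∀ i, algebraMap A (S i) a = 0) → a = 0)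
    (hT : TensorJointlyInjective A M I ι)
    (h1 : Module.Flat (A ⧸ I) ((A ⧸ I) ⊗[A] M))
    (h2 : ∀ i, Module.Flat (S i) (S i ⊗[A] M)) : Module.Flat A M := by
  obtain ⟨n, hn⟩ := hI
  refine flat_of_isNilpotent I ⟨n, hn⟩ ?_ h1
  rw [injective_iff_map_eq_zero]
  intro x hx
  -- the filtration
  obtain ⟨K, hK⟩ : ∃ K : ℕ → ∀ i, Ideal (S i),
      ∀ k i, K k i = (I ^ k).map (algebraMap A (S i)) := ⟨_, fun _ _ => rfl⟩
  obtain ⟨J, hJmem⟩ : ∃ J : ℕ → Ideal A,
      ∀ k (a : A), a ∈ J k ↔ a ∈ I ∧ ∀ i, algebraMap A (S i) a ∈ K k i := by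
    refine ⟨fun k => I ⊓ ⨅ i, (K k i).comap (algebraMap A (S i)), fun k a => ?_⟩
    simp only [Ideal.mem_inf, Ideal.mem_iInf, Ideal.mem_comap]
  have hJle : ∀ k, J k ≤ I := fun k a ha => ((hJmem k a).mp ha).1
  have hKmono : ∀ k i, K (k + 1) i ≤ K k i := by
    intro k i
    rw [hK, hK]
    exact Ideal.map_mono (Ideal.pow_le_pow_right (Nat.le_succ k))
  have hJmono : ∀ k, J (k + 1) ≤ J k := by
    intro k a ha
    rw [hJmem] at ha ⊢
    exact ⟨ha.1, fun i => hKmono k i (ha.2 i)⟩
  have hKmul : ∀ k i (r : A) (s : S i), r ∈ I → s ∈ K k i →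
      algebraMap A (S i) r * s ∈ K (k + 1) i := by
    intro k i r s hr hs
    have h3 : algebraMap A (S i) r * s ∈ I.map (algebraMap A (S i)) * K k i :=
      Ideal.mul_mem_mul (Ideal.mem_map_of_mem _ hr) hs
    have h4 : I.map (algebraMap A (S i)) * K k i = K (k + 1) i := by
      rw [hK, hK, ← Ideal.map_mul, pow_succ']
    rw [← h4]
    exact h3
  have key : ∀ k, x ∈ LinearMap.range ((Submodule.inclusion (hJle k)).lTensor M) := by
    intro k
    induction k with
    | zero =>
      have hIle : I ≤ J 0 := by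
        intro a ha
        rw [hJmem]
        refine ⟨ha, fun i => ?_⟩
        rw [hK, pow_zero, Ideal.one_eq_top, Ideal.map_top]
        trivial
      refine ⟨(Submodule.inclusion hIle).lTensor M x, ?_⟩
      rw [← LinearMap.comp_apply, ← LinearMap.lTensor_comp]
      have hid : Submodule.inclusion (hJle 0) ∘ₗ Submodule.inclusion hIle = LinearMap.id := by
        ext a
        rfl
      rw [hid, LinearMap.lTensor_id, LinearMap.id_apply]
    | succ k ih =>
      obtain ⟨y, rfl⟩ := ih
      have hy : (J k).subtype.lTensor M y = 0 := by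
        have hc : I.subtype ∘ₗ Submodule.inclusion (hJle k) = (J k).subtype := by
          ext a
          rfl
        rw [← hc, LinearMap.lTensor_comp, LinearMap.comp_apply, hx]
      obtain ⟨y', rfl⟩ := mem_range_lTensor_inclusion_of_jointly_injective I S hT h2
        (J (k + 1)) (J k) (hJmono k) (K (k + 1)) (K k)
        (fun a ha i => ((hJmem k a).mp ha).2 i)
        (fun a ha i => ((hJmem (k + 1) a).mp ha).2 i)
        (fun a ha h => (hJmem (k + 1) a).mpr ⟨hJle k ha, h⟩)
        (fun r hr a ha => (hJmem (k + 1) _).mpr ⟨I.mul_mem_right _ hr, fun i => by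
          rw [map_mul]
          exact hKmul k i r _ hr (((hJmem k a).mp ha).2 i)⟩)
        (fun i r hr s hs => hKmul k i r s hr hs) y hy
      refine ⟨y', ?_⟩
      have hc : Submodule.inclusion (hJle k) ∘ₗ Submodule.inclusion (hJmono k) =
          Submodule.inclusion (hJle (k + 1)) := by
        ext a
        rfl
      rw [← LinearMap.comp_apply, ← LinearMap.lTensor_comp, hc]
  have hJn : ∀ a ∈ J n, a = 0 := by
    intro a ha
    rw [hJmem] at ha
    apply hS
    intro i
    have h3 := ha.2 i
    rw [hK, hn, Ideal.zero_eq_bot, Ideal.map_bot] at h3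
    exact h3
  have hsub : ∀ y : M ⊗[A] ↥(J n), y = 0 := by
    intro y
    induction y with
    | zero => rfl
    | add a b ha hb => rw [ha, hb, add_zero]
    | tmul m j =>
      have : j = 0 := Subtype.ext (hJn j.1 j.2)
      rw [this, tmul_zero]
  obtain ⟨y, rfl⟩ := key n
  rw [hsub y, map_zero]

/-- For a finite family, flatness of `(A/I) ⊗ M` over `A/I` gives `TensorJointlyInjective`. -/
theorem tensorJointlyInjective_of_finite (I : Ideal A) (ι : Type w) [Finite ι]
    (h1 : Module.Flat (A ⧸ I) ((A ⧸ I) ⊗[A] M)) : TensorJointlyInjective A M I ι := by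
  classical
  cases nonempty_fintype ι
  intro V _ _ W _ _ f hV hW hf y hy
  have tV : Module.IsTorsionBySet A V (I : Set A) := fun v ⟨r, hr⟩ => hV r hr v
  have tP : Module.IsTorsionBySet A (∀ i, W i) (I : Set A) :=
    fun p ⟨r, hr⟩ => funext fun i => hW i r hr (p i)
  let _ : Module (A ⧸ I) V := tV.module
  let _ : Module (A ⧸ I) (∀ i, W i) := tP.module
  have : IsScalarTower A (A ⧸ I) V := tV.isScalarTower
  have : IsScalarTower A (A ⧸ I) (∀ i, W i) := tP.isScalarTower
  let F : V →ₗ[A] (∀ i, W i) := LinearMap.pi f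
  have hF : Function.Injective F := by
    rw [injective_iff_map_eq_zero]
    intro v hv
    exact hf v fun i => congrFun hv i
  let F' : V →ₗ[A ⧸ I] (∀ i, W i) := F.extendScalarsOfSurjective Ideal.Quotient.mk_surjective
  have hinj := lTensor_restrictScalars_injective_of_flat_baseChange_algebra (M := M) (A ⧸ I) h1
    F' hF
  apply hinj
  rw [map_zero]
  apply (TensorProduct.piRight A A M W).injective
  rw [map_zero]
  funext i
  rw [Pi.zero_apply, ← hy i]
  generalize y = z
  induction z with
  | zero => simp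
  | add a b ha hb =>
    rw [map_add, map_add, Pi.add_apply, ha, hb, map_add]
  | tmul m v =>
    rfl

end

end Groth.Agent.Lib.Helper5
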