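import Mathlib
import Groth.Agent.Lib.Helper5InjFlat
import Groth.Agent.Lib.Helper5FinFlat

/-!
# Flatness modulo an intersection of two ideals (helper5)
-/

set_option autoImplicit false
universe u
open scoped Pointwise

namespace Groth.Agent.Lib.Helper5

open TensorProduct LinearMap

section

variable {A : Type u} [CommRing A] (M : Type u) [AddCommGroup M] [Module A M]

/-- If `I₁ ∩ I₂ = 0` and `M/I₁M`, `M/I₂M` are flat over `A/I₁`, `A/I₂`, then `M` is flat. -/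
theorem flat_of_inf_eq_bot_of_flat_quotient (I₁ I₂ : Ideal A) (hI : I₁ ⊓ I₂ = ⊥)
    (h1 : Module.Flat (A ⧸ I₁) ((A ⧸ I₁) ⊗[A] M))
    (h2 : Module.Flat (A ⧸ I₂) ((A ⧸ I₂) ⊗[A] M)) : Module.Flat A M := by
  rw [Module.Flat.iff_lTensor_injective']
  intro 𝔞
  rw [injective_iff_map_eq_zero]
  intro x hx
  obtain ⟨x₁, rfl⟩ := mem_range_lTensor_comap_of_flat_baseChange M I₁ 𝔞 h1 x hx
  -- `N₁ = 𝔞 ∩ I₁` is a module over `A/I₂` embedding into `A/I₂`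
  have hmem0 : ∀ a : A, a ∈ I₁ → a ∈ I₂ → a = 0 := by
    intro a ha1 ha2
    have : a ∈ I₁ ⊓ I₂ := ⟨ha1, ha2⟩
    rw [hI] at this
    exact this
  have tN : Module.IsTorsionBySet A ↥(Submodule.comap 𝔞.subtype I₁) (I₂ : Set A) := by
    rintro ⟨⟨n, hn⟩, hn1⟩ ⟨r, hr⟩
    apply Subtype.ext
    apply Subtype.ext
    change r * n = 0
    exact hmem0 _ (I₁.mul_mem_left r hn1) (I₂.mul_mem_right n hr)
  let _ : Module (A ⧸ I₂) ↥(Submodule.comap 𝔞.subtype I₁) := tN.module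
  have : IsScalarTower A (A ⧸ I₂) ↥(Submodule.comap 𝔞.subtype I₁) := tN.isScalarTower
  let g₀ : ↥(Submodule.comap 𝔞.subtype I₁) →ₗ[A] (A ⧸ I₂) :=
    (Submodule.mkQ I₂) ∘ₗ 𝔞.subtype ∘ₗ (Submodule.comap 𝔞.subtype I₁).subtype
  let g : ↥(Submodule.comap 𝔞.subtype I₁) →ₗ[A ⧸ I₂] (A ⧸ I₂) :=
    g₀.extendScalarsOfSurjective Ideal.Quotient.mk_surjective
  have hg : Function.Injective g := by
    rw [injective_iff_map_eq_zero]
    rintro ⟨⟨n, hn⟩, hn1⟩ h0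
    have h3 : Submodule.mkQ I₂ n = 0 := h0
    rw [Submodule.mkQ_apply, Submodule.Quotient.mk_eq_zero] at h3
    apply Subtype.ext
    apply Subtype.ext
    exact hmem0 n hn1 h3
  have hinj := lTensor_restrictScalars_injective_of_flat_baseChange_algebra (M := M) (A ⧸ I₂) h2
    g hg
  have hx₁ : x₁ = 0 := by
    apply hinj
    rw [map_zero]
    have hcomp : g.restrictScalars A =
        (Submodule.mkQ I₂) ∘ₗ 𝔞.subtype ∘ₗ (Submodule.comap 𝔞.subtype I₁).subtype := rfl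
    rw [hcomp, LinearMap.lTensor_comp, LinearMap.lTensor_comp, LinearMap.comp_apply,
      LinearMap.comp_apply, hx, map_zero]
  rw [hx₁, map_zero]

/-- If `M/I₁M` is flat over `A/I₁` and `M/I₂M` is flat over `A/I₂`, then `M/(I₁ ∩ I₂)M` is flat
over `A/(I₁ ∩ I₂)`. -/
theorem flat_quotient_inf_of_flat_quotient (I₁ I₂ : Ideal A)
    (h1 : Module.Flat (A ⧸ I₁) ((A ⧸ I₁) ⊗[A] M))
    (h2 : Module.Flat (A ⧸ I₂) ((A ⧸ I₂) ⊗[A] M)) :
    Module.Flat (A ⧸ (I₁ ⊓ I₂)) ((A ⧸ (I₁ ⊓ I₂)) ⊗[A] M) := by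
  have key : ∀ J : Ideal A, Module.Flat (A ⧸ J) ((A ⧸ J) ⊗[A] M) →
      Module.Flat ((A ⧸ (I₁ ⊓ I₂)) ⧸ J.map (algebraMap A (A ⧸ (I₁ ⊓ I₂))))
        (((A ⧸ (I₁ ⊓ I₂)) ⧸ J.map (algebraMap A (A ⧸ (I₁ ⊓ I₂)))) ⊗[A ⧸ (I₁ ⊓ I₂)]
          ((A ⧸ (I₁ ⊓ I₂)) ⊗[A] M)) := fun J hJ =>
    flat_baseChange_baseChange_of_flat (A := A) (A₁ := A ⧸ (I₁ ⊓ I₂)) M
      (flat_baseChange_of_flat_baseChange (A := A) (A₁ := A ⧸ J) M hJ)
  refine flat_of_inf_eq_bot_of_flat_quotient _ (I₁.map (algebraMap A (A ⧸ (I₁ ⊓ I₂))))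
    (I₂.map (algebraMap A (A ⧸ (I₁ ⊓ I₂)))) ?_ (key I₁ h1) (key I₂ h2)
  rw [eq_bot_iff]
  rintro x ⟨hx1, hx2⟩
  obtain ⟨a, rfl⟩ := Ideal.Quotient.mk_surjective x
  rw [Ideal.mem_bot, Ideal.Quotient.eq_zero_iff_mem]
  have hsurj : Function.Surjective (algebraMap A (A ⧸ (I₁ ⊓ I₂))) := Ideal.Quotient.mk_surjective
  rw [SetLike.mem_coe, Ideal.mem_map_iff_of_surjective _ hsurj] at hx1 hx2
  obtain ⟨b, hb, hba⟩ := hx1
  obtain ⟨c, hc, hca⟩ := hx2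
  rw [Ideal.Quotient.algebraMap_eq, Ideal.Quotient.mk_eq_mk_iff_sub_mem] at hba hca
  have ha1 : a ∈ I₁ := by
    have := I₁.sub_mem hb (inf_le_left (a := I₁) (b := I₂) hba)
    rwa [sub_sub_cancel] at this
  have ha2 : a ∈ I₂ := by
    have := I₂.sub_mem hc (inf_le_right (a := I₁) (b := I₂) hca)
    rwa [sub_sub_cancel] at this
  exact ⟨ha1, ha2⟩

end

end Groth.Agent.Lib.Helper5
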