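import Mathlib
import Groth.Agent.Lib.Helper5InjFlat

/-!
# Descent of flatness along an arbitrary jointly injective family over a semilocal ring with
nilpotent radical (helper5)
-/

set_option autoImplicit false
universe u v w
open scoped Pointwise

namespace Groth.Agent.Lib.Helper5

open TensorProduct LinearMap

section

variable {A : Type u} [CommRing A] {M : Type v} [AddCommGroup M] [Module A M]

/-- For a semilocal ring, the quotient by the Jacobson radical is semisimple. -/
theorem isSemisimpleRing_quotient_jacobson (A : Type u) [CommRing A]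
    [Finite (MaximalSpectrum A)] : IsSemisimpleRing (A ⧸ Ring.jacobson A) := by
  have h1 : Ring.jacobson A = ⨅ m : MaximalSpectrum A, m.asIdeal := by
    rw [Ring.jacobson_eq_sInf_isMaximal]
    apply le_antisymm
    · exact le_iInf fun m => sInf_le m.isMaximal
    · exact le_sInf fun I hI => iInf_le_of_le ⟨I, hI⟩ le_rfl
  have (m : MaximalSpectrum A) : IsSemisimpleRing (A ⧸ m.asIdeal) :=
    let _ := Ideal.Quotient.field m.asIdeal; inferInstance
  have hcop : Pairwise (Function.onFun IsCoprime fun m : MaximalSpectrum A => m.asIdeal) := by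
    intro m m' hne
    have := m.isMaximal
    have := m'.isMaximal
    exact Ideal.isCoprime_of_isMaximal fun h => hne (MaximalSpectrum.ext h)
  exact ((Ideal.quotEquivOfEq h1).trans
    (Ideal.quotientInfRingEquivPiQuotient _ hcop)).symm.isSemisimpleRing

/-- When `A/I` is Artinian, flatness of `(A/I) ⊗ M` over `A/I` gives `TensorJointlyInjective`
for arbitrary families. -/
theorem tensorJointlyInjective_of_isArtinianRing_quotient (I : Ideal A)
    [IsArtinianRing (A ⧸ I)] (ι : Type w)
    (h1 : Module.Flat (A ⧸ I) ((A ⧸ I) ⊗[A] M)) : TensorJointlyInjective A M I ι := by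
  classical
  intro V _ _ W _ _ f hV hW hf y hy
  obtain ⟨V₀, hfin, hsub⟩ := TensorProduct.exists_finite_submodule_right_of_setFinite
    ({y} : Set (M ⊗[A] V)) (Set.finite_singleton y)
  obtain ⟨y₀, hy₀⟩ := hsub (Set.mem_singleton y)
  -- `V₀` is an Artinian `A`-module
  have hart : IsArtinian A V₀ := by
    have tV : Module.IsTorsionBySet A V₀ (I : Set A) :=
      fun v ⟨r, hr⟩ => Subtype.ext (hV r hr v.1)
    let _ : Module (A ⧸ I) V₀ := tV.module
    have : IsScalarTower A (A ⧸ I) V₀ := tV.isScalarTower
    have : Module.Finite (A ⧸ I) V₀ := Module.Finite.of_restrictScalars_finite A (A ⧸ I) V₀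
    have : IsArtinian (A ⧸ I) V₀ := inferInstance
    exact isArtinian_of_surjective_algebraMap (R := A ⧸ I) (S := A)
      Ideal.Quotient.mk_surjective
  -- a finite subfamily is already jointly injective on `V₀`
  let g : ∀ i, ↥V₀ →ₗ[A] W i := fun i => f i ∘ₗ V₀.subtype
  let 𝒮 : Set (Submodule A V₀) :=
    {K | ∃ F : Finset ι, K = ⨅ i ∈ F, LinearMap.ker (g i)}
  have h𝒮 : 𝒮.Nonempty := ⟨_, ∅, rfl⟩
  obtain ⟨K₀, ⟨F, rfl⟩, hmin⟩ := IsArtinian.set_has_minimal 𝒮 h𝒮
  have hK₀ : ∀ v : V₀, (∀ i ∈ F, g i v = 0) → v = 0 := by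
    intro v hv
    have hvmem : v ∈ ⨅ i ∈ F, LinearMap.ker (g i) := by
      simp only [Submodule.mem_iInf, LinearMap.mem_ker]
      exact hv
    have hall : ∀ j, v ∈ LinearMap.ker (g j) := by
      intro j
      have hle : (⨅ i ∈ insert j F, LinearMap.ker (g i)) ≤ ⨅ i ∈ F, LinearMap.ker (g i) :=
        biInf_mono fun i hi => Finset.mem_insert_of_mem hi
      have hnlt := hmin _ ⟨insert j F, rfl⟩
      have heq : (⨅ i ∈ insert j F, LinearMap.ker (g i)) = ⨅ i ∈ F, LinearMap.ker (g i) :=
        by_contra fun hne => hnlt (lt_of_le_of_ne hle hne)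
      rw [← heq] at hvmem
      simp only [Submodule.mem_iInf] at hvmem
      exact hvmem j (Finset.mem_insert_self j F)
    apply Subtype.ext
    exact hf v.1 fun i => hall i
  -- the finite case
  have hT := tensorJointlyInjective_of_finite (M := M) I (↥F) h1
  have hzero : y₀ = 0 := by
    refine hT ↥V₀ (fun i : ↥F => W i.1) (fun i => g i.1) ?_ ?_ ?_ y₀ ?_
    · intro r hr v
      exact Subtype.ext (hV r hr v.1)
    · intro i r hr x
      exact hW i.1 r hr x
    · intro v hv
      exact hK₀ v fun i hi => hv ⟨i, hi⟩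
    · intro i
      change (f i.1 ∘ₗ V₀.subtype).lTensor M y₀ = 0
      rw [LinearMap.lTensor_comp, LinearMap.comp_apply, hy₀]
      exact hy i.1
  rw [← hy₀, hzero, map_zero]

/-- **Flatness over a semilocal ring with nilpotent radical descends along any jointly
injective family of algebras.** -/
theorem flat_of_flat_baseChange_of_jointly_injective_of_semilocal
    [Finite (MaximalSpectrum A)] (hnil : IsNilpotent (Ring.jacobson A))
    {ι : Type w} (B : ι → Type u) [∀ i, CommRing (B i)] [∀ i, Algebra A (B i)]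
    (hB : ∀ a : A, (∀ i, algebraMap A (B i) a = 0) → a = 0)
    (h : ∀ i, Module.Flat (B i) (B i ⊗[A] M)) : Module.Flat A M := by
  have hss : IsSemisimpleRing (A ⧸ Ring.jacobson A) := isSemisimpleRing_quotient_jacobson A
  have hproj : Module.Projective (A ⧸ Ring.jacobson A) ((A ⧸ Ring.jacobson A) ⊗[A] M) :=
    Module.projective_of_isSemisimpleRing _ _
  have h1 : Module.Flat (A ⧸ Ring.jacobson A) ((A ⧸ Ring.jacobson A) ⊗[A] M) := inferInstance
  exact flat_of_isNilpotent_of_jointly_injective (Ring.jacobson A) hnil B hB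
    (tensorJointlyInjective_of_isArtinianRing_quotient _ ι h1) h1 h

end

end Groth.Agent.Lib.Helper5
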