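import Mathlib
import Groth.Agent.Lib.Helper5InfFlat
import Groth.Agent.Lib.Helper5InjFlat3
import Groth.Agent.Lib.Helper5FinFlat

/-!
# The universal flattening ideal over an Artinian ring (helper5)

For a module `N` over an Artinian ring `A` there is a least ideal `I` such that `N/IN` is flat
over `A/I`; for every `A`-algebra `A'`, the base change `A' ⊗ N` is flat over `A'` iff `I A' = 0`.
-/

set_option autoImplicit false
universe u
open scoped TensorProduct

namespace Groth.Agent.Lib.Helper5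

variable {A : Type u} [CommRing A] (N : Type u) [AddCommGroup N] [Module A N]

/-- Flatness of `N/IN` over `A/I` passes to bigger ideals. -/
theorem flat_quotient_of_le {I J : Ideal A} (h : I ≤ J)
    (hI : Module.Flat (A ⧸ I) ((A ⧸ I) ⊗[A] N)) :
    Module.Flat (A ⧸ J) ((A ⧸ J) ⊗[A] N) := by
  let _ : Algebra (A ⧸ I) (A ⧸ J) := (Ideal.Quotient.factor h).toAlgebra
  have : IsScalarTower A (A ⧸ I) (A ⧸ J) := IsScalarTower.of_algebraMap_eq (fun x => rfl)
  exact flat_baseChange_of_flat_baseChange (A₁ := A ⧸ I) (T := A ⧸ J) N hI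

/-- Over an Artinian ring there is a least ideal `I` with `N/IN` flat over `A/I`. -/
theorem exists_least_flat_quotient [IsArtinianRing A] :
    ∃ I : Ideal A, ∀ J : Ideal A, Module.Flat (A ⧸ J) ((A ⧸ J) ⊗[A] N) ↔ I ≤ J := by
  have htop : Module.Flat (A ⧸ (⊤ : Ideal A)) ((A ⧸ (⊤ : Ideal A)) ⊗[A] N) := by
    have h1 : Subsingleton (A ⧸ (⊤ : Ideal A)) := Ideal.Quotient.subsingleton_iff.mpr rfl
    have h2 : Subsingleton ((A ⧸ (⊤ : Ideal A)) ⊗[A] N) :=
      Module.subsingleton (A ⧸ (⊤ : Ideal A)) _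
    infer_instance
  obtain ⟨I, hI, hmin⟩ := (IsWellFounded.wf : WellFounded ((· < ·) : Ideal A → Ideal A → Prop)).has_min
    {J : Ideal A | Module.Flat (A ⧸ J) ((A ⧸ J) ⊗[A] N)} ⟨⊤, htop⟩
  refine ⟨I, fun J => ⟨fun hJ => ?_, fun h => flat_quotient_of_le N h hI⟩⟩
  have hinf : Module.Flat (A ⧸ (I ⊓ J)) ((A ⧸ (I ⊓ J)) ⊗[A] N) :=
    flat_quotient_inf_of_flat_quotient N I J hI hJ
  have hnlt : ¬ (I ⊓ J < I) := hmin _ hinf
  have heq : I ⊓ J = I := by
    by_contra hne
    exact hnlt (lt_of_le_of_ne inf_le_left hne)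
  rw [← heq]
  exact inf_le_right

/-- Base change characterization of the flattening ideal. -/
theorem flat_baseChange_iff_map_eq_bot [IsArtinianRing A] (I : Ideal A)
    (hI : ∀ J : Ideal A, Module.Flat (A ⧸ J) ((A ⧸ J) ⊗[A] N) ↔ I ≤ J)
    (A' : Type u) [CommRing A'] [Algebra A A'] :
    Module.Flat A' (A' ⊗[A] N) ↔ I.map (algebraMap A A') = ⊥ := by
  rw [Ideal.map_eq_bot_iff_le_ker, ← hI (RingHom.ker (algebraMap A A'))]
  let _ : Algebra (A ⧸ RingHom.ker (algebraMap A A')) A' :=
    (RingHom.kerLift (algebraMap A A')).toAlgebra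
  have : IsScalarTower A (A ⧸ RingHom.ker (algebraMap A A')) A' :=
    IsScalarTower.of_algebraMap_eq (fun x => rfl)
  constructor
  · intro h
    have h2 : Module.Flat A' (A' ⊗[A ⧸ RingHom.ker (algebraMap A A')]
        ((A ⧸ RingHom.ker (algebraMap A A')) ⊗[A] N)) :=
      flat_baseChange_baseChange_of_flat (A₁ := A ⧸ RingHom.ker (algebraMap A A')) (T := A') N h
    have hnil : IsNilpotent (Ring.jacobson (A ⧸ RingHom.ker (algebraMap A A'))) := by
      rw [← Ideal.jacobson_bot]
      exact IsArtinianRing.isNilpotent_jacobson_bot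
    refine flat_of_flat_baseChange_of_jointly_injective_of_semilocal
      (A := A ⧸ RingHom.ker (algebraMap A A'))
      (M := (A ⧸ RingHom.ker (algebraMap A A')) ⊗[A] N) hnil (ι := Unit) (fun _ => A') ?_
      (fun _ => h2)
    intro a ha
    exact (injective_iff_map_eq_zero _).mp (RingHom.kerLift_injective (algebraMap A A')) a
      (ha ())
  · intro h
    exact flat_baseChange_of_flat_baseChange (A₁ := A ⧸ RingHom.ker (algebraMap A A'))
      (T := A') N h

end Groth.Agent.Lib.Helper5
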