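import Mathlib
import Groth.Agent.Lib.Helper5SuppDim
import Groth.Agent.Lib.Helper5SuppDim2

/-!
# Systems of parameters: extension (helper5)

* `quotQuotSMulTopEquiv`, `quotQuotOfListEquiv`: `(M/IM)/J(M/IM) ≃ M/(I ⊔ J)M`.
* `supportDim_quot_ofList_add_length_eq_iff`: EGA 0_IV 16.3.7.
-/

set_option autoImplicit false
universe u v

namespace Groth.Agent.Lib.Helper5

open Order Module

section
variable {A : Type*} [CommRing A] {M : Type*} [AddCommGroup M] [Module A M]

theorem smul_top_quotient_smul_top_eq_bot (I : Ideal A) :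
    I • (⊤ : Submodule A (M ⧸ I • (⊤ : Submodule A M))) = ⊥ := by
  rw [eq_bot_iff, Submodule.smul_le]
  intro r hr n _
  induction n using Submodule.Quotient.induction_on with
  | _ m =>
    rw [Submodule.mem_bot, ← Submodule.Quotient.mk_smul, Submodule.Quotient.mk_eq_zero]
    exact Submodule.smul_mem_smul hr trivial

theorem map_mkQ_sup_smul_top (I J : Ideal A) :
    ((I ⊔ J) • (⊤ : Submodule A M)).map (I • (⊤ : Submodule A M)).mkQ =
      J • (⊤ : Submodule A (M ⧸ I • (⊤ : Submodule A M))) := by
  rw [Submodule.map_smul'', Submodule.map_top, Submodule.range_mkQ, Submodule.sup_smul,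
    smul_top_quotient_smul_top_eq_bot, bot_sup_eq]

/-- `(M/IM)/J(M/IM) ≃ M/(I ⊔ J)M`. -/
noncomputable def quotQuotSMulTopEquiv (I J : Ideal A) :
    ((M ⧸ I • (⊤ : Submodule A M)) ⧸ J • (⊤ : Submodule A (M ⧸ I • (⊤ : Submodule A M)))) ≃ₗ[A]
      M ⧸ (I ⊔ J) • (⊤ : Submodule A M) :=
  (Submodule.quotEquivOfEq _ _ (map_mkQ_sup_smul_top I J).symm) ≪≫ₗ
    Submodule.quotientQuotientEquivQuotient (I • (⊤ : Submodule A M)) ((I ⊔ J) • ⊤)
      (Submodule.smul_mono_left le_sup_left)

/-- `(M/(xs)M)/(ys)(M/(xs)M) ≃ M/(xs ++ ys)M`. -/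
noncomputable def quotQuotOfListEquiv (xs ys : List A) :
    ((M ⧸ Ideal.ofList xs • (⊤ : Submodule A M)) ⧸
        Ideal.ofList ys • (⊤ : Submodule A (M ⧸ Ideal.ofList xs • (⊤ : Submodule A M)))) ≃ₗ[A]
      M ⧸ Ideal.ofList (xs ++ ys) • (⊤ : Submodule A M) :=
  quotQuotSMulTopEquiv (Ideal.ofList xs) (Ideal.ofList ys) ≪≫ₗ
    Submodule.quotEquivOfEq _ _ (by rw [Ideal.ofList_append])

end


section
variable (A : Type u) [CommRing A] [IsNoetherianRing A] [Finite (MaximalSpectrum A)]
  (M : Type v) [AddCommGroup M] [Module A M] [Module.Finite A M]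

/-- EGA 0_IV 16.3.7: `dim M/(xs)M + |xs| = dim M` iff `xs` extends to a system of parameters. -/
theorem supportDim_quot_ofList_add_length_eq_iff [Nontrivial M] (xs : List A)
    (hxs : ∀ x ∈ xs, x ∈ Ring.jacobson A) :
    Module.supportDim A (M ⧸ (Ideal.ofList xs • (⊤ : Submodule A M))) + xs.length =
        Module.supportDim A M ↔
      ∃ ys : List A, (∀ y ∈ ys, y ∈ Ring.jacobson A) ∧
        ((xs ++ ys).length : WithBot ℕ∞) = Module.supportDim A M ∧
        IsFiniteLength A (M ⧸ (Ideal.ofList (xs ++ ys) • (⊤ : Submodule A M))) := by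
  constructor
  · intro h
    have hfin := supportDim_lt_top_of_semilocal (A := A) (M ⧸ (Ideal.ofList xs • (⊤ : Submodule A M)))
    have hMbot := Module.supportDim_ne_bot_of_nontrivial A M
    cases hN : Module.supportDim A (M ⧸ (Ideal.ofList xs • (⊤ : Submodule A M))) with
    | bot => rw [hN, WithBot.bot_add] at h; exact absurd h.symm hMbot
    | coe e =>
      rw [hN] at hfin
      cases e with
      | top => simp at hfin
      | coe d =>
        obtain ⟨ys, hlen, hJ, hfl⟩ := exists_list_isFiniteLength_quot_of_supportDim_le A d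
          (M ⧸ (Ideal.ofList xs • (⊤ : Submodule A M))) (le_of_eq hN)
        have h1 := supportDim_le_supportDim_quot_ofList_add_length
          (M := M ⧸ (Ideal.ofList xs • (⊤ : Submodule A M))) ys hJ
        have h2 := supportDim_le_zero_of_isFiniteLength hfl
        have h3 : ((d : ℕ∞) : WithBot ℕ∞) ≤ 0 + (ys.length : WithBot ℕ∞) := by
          rw [← hN]
          exact h1.trans (by gcongr)
        have h4 : d ≤ ys.length := by
          rw [zero_add] at h3
          exact_mod_cast h3
        have h5 : ys.length = d := le_antisymm hlen h4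
        refine ⟨ys, hJ, ?_, (quotQuotOfListEquiv xs ys).isFiniteLength hfl⟩
        rw [← h, hN, List.length_append, h5]
        push_cast
        exact add_comm _ _
  · rintro ⟨ys, hJ, hlen, hfl⟩
    have hfl' : IsFiniteLength A ((M ⧸ Ideal.ofList xs • (⊤ : Submodule A M)) ⧸
      Ideal.ofList ys • (⊤ : Submodule A (M ⧸ Ideal.ofList xs • (⊤ : Submodule A M)))) :=
      (quotQuotOfListEquiv xs ys).symm.isFiniteLength hfl
    have h1 := supportDim_le_supportDim_quot_ofList_add_length
        (M := M ⧸ (Ideal.ofList xs • (⊤ : Submodule A M))) ys hJ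
    have h2 := supportDim_le_zero_of_isFiniteLength hfl'
    have h3 : Module.supportDim A (M ⧸ (Ideal.ofList xs • (⊤ : Submodule A M))) ≤
        (ys.length : WithBot ℕ∞) := by
      refine h1.trans ?_
      calc _ ≤ 0 + (ys.length : WithBot ℕ∞) := by gcongr
        _ = _ := zero_add _
    apply le_antisymm
    · rw [← hlen, List.length_append]
      push_cast
      rw [add_comm (xs.length : WithBot ℕ∞)]
      gcongr
    · exact supportDim_le_supportDim_quot_ofList_add_length xs hxs

end


end Groth.Agent.Lib.Helper5
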