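import Mathlib
import Groth.Agent.Lib.Helper5CM2
import Groth.Agent.Lib.Helper5SuppDim3

/-!
# Cohen–Macaulay criterion by unmixedness (helper5)

* `exists_isSMulRegular_supportDim_quotSMulTop_succ_eq`: a regular parameter exists when all
  associated primes have maximal dimension and `dim M ≥ 1`.
* `isCohenMacaulayModule_of_unmixed`: EGA 0_IV 16.5.5 (converse).
-/

set_option autoImplicit false
universe u v w

namespace Groth.Agent.Lib.Helper5

open Module Submodule RingTheory.Sequence

section
variable {A : Type u} [CommRing A] [IsLocalRing A] [IsNoetherianRing A]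
variable {M : Type u} [AddCommGroup M] [Module A M] [Module.Finite A M]

/-- A parameter element is regular as soon as all associated primes have maximal dimension. -/
theorem isSMulRegular_of_supportDim_quotSMulTop_succ_eq'
    (hAss : ∀ p ∈ associatedPrimes A M, ringKrullDim (A ⧸ p) = Module.supportDim A M)
    {x : A} (hx : x ∈ IsLocalRing.maximalIdeal A)
    (h : Module.supportDim A (QuotSMulTop x M) + 1 = Module.supportDim A M) :
    IsSMulRegular M x := by
  have hxJ : x ∈ Ring.jacobson A := by
    rwa [IsLocalRing.ringJacobson_eq_maximalIdeal]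
  have h1 := (supportDim_quotSMulTop_succ_eq_iff (M := M) hxJ).mp h
  by_contra hnreg
  have hmem : x ∈ ({r : A | IsSMulRegular M r}ᶜ : Set A) := hnreg
  rw [← biUnion_associatedPrimes_eq_compl_regular A M] at hmem
  simp only [Set.mem_iUnion, SetLike.mem_coe, exists_prop] at hmem
  obtain ⟨p, hpA, hxp⟩ := hmem
  have hpprime : p.IsPrime := IsAssociatedPrime.isPrime hpA
  have hpS : (⟨p, hpprime⟩ : PrimeSpectrum A) ∈ Module.support A M := by
    rw [Module.mem_support_iff_of_finite]
    exact annihilator_le_of_mem_associatedPrimes hpA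
  exact h1 ⟨p, hpprime⟩ hpS (hAss p hpA) hxp

/-- Existence of a regular parameter when all associated primes have maximal dimension. -/
theorem exists_isSMulRegular_supportDim_quotSMulTop_succ_eq
    (hAss : ∀ p ∈ associatedPrimes A M, ringKrullDim (A ⧸ p) = Module.supportDim A M)
    (h1 : 1 ≤ Module.supportDim A M) :
    ∃ x ∈ IsLocalRing.maximalIdeal A, IsSMulRegular M x ∧
      Module.supportDim A (QuotSMulTop x M) + 1 = Module.supportDim A M := by
  classical
  have hfin : (Module.annihilator A M).minimalPrimes.Finite :=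
    Ideal.finite_minimalPrimes_of_isNoetherianRing A _
  obtain ⟨x, hxJ, hx⟩ := exists_mem_ringJacobson_notMem
    (hfin.toFinset.filter (fun p => ¬ p.IsMaximal)) (by
      intro p hp
      rw [Finset.mem_filter, Set.Finite.mem_toFinset] at hp
      exact ⟨hp.1.isPrime, hp.2⟩)
  have hxm : x ∈ IsLocalRing.maximalIdeal A := by
    rwa [← IsLocalRing.ringJacobson_eq_maximalIdeal]
  have hle := supportDim_quotSMulTop_succ_le_of_notMem_nonMaximal_minimalPrimes (M := M) (x := x)
    (by
      intro p hp hmax
      apply hx
      rw [Finset.mem_filter, Set.Finite.mem_toFinset]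
      exact ⟨hp, hmax⟩) h1
  have hdim : Module.supportDim A (QuotSMulTop x M) + 1 = Module.supportDim A M :=
    le_antisymm hle (Module.supportDim_le_supportDim_quotSMulTop_succ hxm)
  exact ⟨x, hxm, isSMulRegular_of_supportDim_quotSMulTop_succ_eq' hAss hxm hdim, hdim⟩


open Pointwise in
/-- `(M/(xs)M)/x(M/(xs)M) ≃ M/(xs ++ [x])M`. -/
noncomputable def quotSMulTopQuotOfListEquiv (xs : List A) (x : A) :
    QuotSMulTop x (M ⧸ Ideal.ofList xs • (⊤ : Submodule A M)) ≃ₗ[A]
      M ⧸ Ideal.ofList (xs ++ [x]) • (⊤ : Submodule A M) :=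
  Submodule.quotEquivOfEq _ _ (by
    rw [Ideal.ofList_singleton, Submodule.ideal_span_singleton_smul]) ≪≫ₗ
    quotQuotOfListEquiv xs [x]

/-- EGA 0_IV 16.5.5-style criterion: if every quotient of `M` by part of a system of parameters is
unmixed, there are regular sequences of every length `≤ dim M`. -/
theorem exists_isWeaklyRegular_of_unmixed [Nontrivial M] (d : ℕ)
    (hd : Module.supportDim A M = d)
    (h : ∀ xs : List A, (∀ x ∈ xs, x ∈ IsLocalRing.maximalIdeal A) →
      Module.supportDim A (M ⧸ (Ideal.ofList xs • (⊤ : Submodule A M))) + xs.length =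
        Module.supportDim A M →
        ∀ p ∈ associatedPrimes A (M ⧸ (Ideal.ofList xs • (⊤ : Submodule A M))),
          ringKrullDim (A ⧸ p) =
            Module.supportDim A (M ⧸ (Ideal.ofList xs • (⊤ : Submodule A M))))
    (k : ℕ) (hk : k ≤ d) :
    ∃ xs : List A, (∀ x ∈ xs, x ∈ IsLocalRing.maximalIdeal A) ∧ xs.length = k ∧
      IsWeaklyRegular M xs ∧
      Module.supportDim A (M ⧸ (Ideal.ofList xs • (⊤ : Submodule A M))) + xs.length =
        Module.supportDim A M := by
  induction k with
  | zero =>
    refine ⟨[], by simp, rfl, IsWeaklyRegular.nil A M, ?_⟩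
    have e0 : (M ⧸ (Ideal.ofList ([] : List A) • (⊤ : Submodule A M))) ≃ₗ[A] M :=
      Submodule.quotEquivOfEqBot _ (by rw [Ideal.ofList_nil, Submodule.bot_smul])
    simp [Module.supportDim_eq_of_equiv e0]
  | succ k ih =>
    obtain ⟨xs, hmem, hlen, hreg, hdim⟩ := ih (by omega)
    have hAss := h xs hmem hdim
    -- `1 ≤ dim N`
    have h1 : 1 ≤ Module.supportDim A (M ⧸ (Ideal.ofList xs • (⊤ : Submodule A M))) := by
      rw [hd, hlen] at hdim
      cases hN : Module.supportDim A (M ⧸ (Ideal.ofList xs • (⊤ : Submodule A M))) with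
      | bot => rw [hN, WithBot.bot_add] at hdim; exact absurd hdim WithBot.bot_ne_coe
      | coe e =>
        rw [hN] at hdim
        have h2 : e + (k : ℕ∞) = d := by exact_mod_cast hdim
        have h3 : (1 : ℕ∞) ≤ e := by
          by_contra hlt
          have he : e = 0 := by
            rw [Order.one_le_iff_pos, not_lt] at hlt
            exact le_antisymm hlt zero_le
          rw [he, zero_add] at h2
          have : k = d := by exact_mod_cast h2
          omega
        exact_mod_cast h3
    obtain ⟨x, hxm, hxreg, hxdim⟩ := exists_isSMulRegular_supportDim_quotSMulTop_succ_eq hAss h1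
    refine ⟨xs ++ [x], ?_, by simp [hlen], ?_, ?_⟩
    · intro y hy
      rcases List.mem_append.mp hy with hy | hy
      · exact hmem y hy
      · rw [List.mem_singleton] at hy; rw [hy]; exact hxm
    · rw [isWeaklyRegular_append_iff, isWeaklyRegular_singleton_iff]
      exact ⟨hreg, hxreg⟩
    · rw [← Module.supportDim_eq_of_equiv (quotSMulTopQuotOfListEquiv xs x), List.length_append,
        List.length_singleton, Nat.cast_add, Nat.cast_one, add_comm (xs.length : WithBot ℕ∞) 1,
        ← add_assoc, hxdim, hdim]

/-- EGA 0_IV 16.5.5 (converse): a module all of whose quotients by parts of systems of parameters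
are unmixed is Cohen–Macaulay. -/
theorem isCohenMacaulayModule_of_unmixed [Nontrivial M]
    (h : ∀ xs : List A, (∀ x ∈ xs, x ∈ IsLocalRing.maximalIdeal A) →
      Module.supportDim A (M ⧸ (Ideal.ofList xs • (⊤ : Submodule A M))) + xs.length =
        Module.supportDim A M →
        ∀ p ∈ associatedPrimes A (M ⧸ (Ideal.ofList xs • (⊤ : Submodule A M))),
          ringKrullDim (A ⧸ p) =
            Module.supportDim A (M ⧸ (Ideal.ofList xs • (⊤ : Submodule A M)))) :
    LocCoh.IsCohenMacaulayModule A M := by
  have hfin := supportDim_lt_top_of_semilocal (A := A) M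
  have hbot := Module.supportDim_ne_bot_of_nontrivial A M
  cases hd : Module.supportDim A M with
  | bot => exact absurd hd hbot
  | coe e =>
    rw [hd] at hfin
    cases e with
    | top => simp at hfin
    | coe d =>
      obtain ⟨xs, hmem, hlen, hreg, -⟩ := exists_isWeaklyRegular_of_unmixed d hd h d le_rfl
      have h1 : (d : ℕ∞) ≤ LocCoh.depth A M := by
        rw [← hlen]
        exact Groth.Agent.Lib.Helper28.length_le_idealDepth hreg hmem
      have h2 := depth_le_supportDim (A := A) (M := M)
      rw [hd] at h2
      have h3 : LocCoh.depth A M ≤ (d : ℕ∞) := by exact_mod_cast h2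
      rw [LocCoh.IsCohenMacaulayModule, hd, le_antisymm h3 h1]


end

end Groth.Agent.Lib.Helper5
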