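import Mathlib
import Groth.Agent.Lib.Helper5CM3

/-!
# Regular sequences inside a prime of the support of a Cohen–Macaulay module (helper5)

* `supportDim_quotient_smul_top_eq_ringKrullDim_quotient`: `dim M/pM = dim A/p` for `p ∈ Supp M`.
* `exists_isSMulRegular_mem_of_ringKrullDim_quotient_lt`.
* `regular_sequence_in_prime_of_isCohenMacaulayModule`: EGA 0_IV 16.5.10.
-/

set_option autoImplicit false
universe u v w

namespace Groth.Agent.Lib.Helper5

open Module Submodule RingTheory.Sequence

theorem exists_nat_eq_of_add_natCast_eq {a : WithBot ℕ∞} {k d : ℕ}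
    (h : a + (k : WithBot ℕ∞) = (d : WithBot ℕ∞)) : ∃ n : ℕ, a = (n : WithBot ℕ∞) ∧ n + k = d := by
  cases a with
  | bot => rw [WithBot.bot_add] at h; exact absurd h WithBot.bot_ne_coe
  | coe a' =>
    cases a' with
    | top =>
      exfalso
      have : (⊤ : ℕ∞) + (k : ℕ∞) = (d : ℕ∞) := by exact_mod_cast h
      simp at this
    | coe n =>
      refine ⟨n, rfl, ?_⟩
      have : (n : ℕ∞) + (k : ℕ∞) = (d : ℕ∞) := by exact_mod_cast h
      exact_mod_cast this


theorem withBot_enat_add_natCast_cancel {a b : WithBot ℕ∞} (r : ℕ)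
    (h : a + (r : WithBot ℕ∞) = b + (r : WithBot ℕ∞)) : a = b := by
  induction r with
  | zero => simpa using h
  | succ r ih =>
    apply ih
    rw [Nat.cast_add, Nat.cast_one, ← add_assoc, ← add_assoc] at h
    exact le_antisymm (withBot_enat_le_of_add_one_le_add_one h.le)
      (withBot_enat_le_of_add_one_le_add_one h.ge)

section
variable {A : Type u} [CommRing A]
variable {M : Type v} [AddCommGroup M] [Module A M] [Module.Finite A M]

/-- For `p` in the support of `M`, `dim M/pM = dim A/p`. -/
theorem supportDim_quotient_smul_top_eq_ringKrullDim_quotient (p : PrimeSpectrum A)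
    (hp : p ∈ Module.support A M) :
    Module.supportDim A (M ⧸ p.asIdeal • (⊤ : Submodule A M)) = ringKrullDim (A ⧸ p.asIdeal) := by
  rw [← Module.supportDim_quotient_eq_ringKrullDim, Module.supportDim, Module.supportDim]
  have h1 : Module.support A (M ⧸ p.asIdeal • (⊤ : Submodule A M)) =
      PrimeSpectrum.zeroLocus p.asIdeal := by
    rw [Module.support_quotient, Set.inter_eq_right]
    intro q hq
    rw [PrimeSpectrum.mem_zeroLocus] at hq
    exact Module.mem_support_mono (show p ≤ q from hq) hp
  have h2 : Module.support A (A ⧸ p.asIdeal) = PrimeSpectrum.zeroLocus p.asIdeal := by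
    rw [Module.support_eq_zeroLocus, Ideal.annihilator_quotient]
  rw [h1, h2]

end


section
variable {A : Type u} [CommRing A] [IsLocalRing A] [IsNoetherianRing A]
variable {M : Type u} [AddCommGroup M] [Module A M] [Module.Finite A M]

/-- In a Cohen–Macaulay module `N`, a prime `p` with `dim A/p < dim N` contains an `N`-regular
element. -/
theorem exists_isSMulRegular_mem_of_ringKrullDim_quotient_lt
    (hM : LocCoh.IsCohenMacaulayModule A M) (p : Ideal A) [p.IsPrime]
    (hlt : ringKrullDim (A ⧸ p) < Module.supportDim A M) :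
    ∃ x ∈ p, IsSMulRegular M x := by
  have hnt := nontrivial_of_isCohenMacaulayModule hM
  by_contra hcon
  push Not at hcon
  have hsub : ((p : Ideal A) : Set A) ⊆ ⋃ q ∈ associatedPrimes A M, (q : Set A) := by
    rw [biUnion_associatedPrimes_eq_compl_regular A M]
    intro r hr
    exact hcon r hr
  obtain ⟨p0, hp0⟩ := associatedPrimes.nonempty A M
  obtain ⟨q, hqA, hle⟩ := (Ideal.subset_union_prime_finite (associatedPrimes.finite A M) p0 p0
    (fun I hI _ _ => IsAssociatedPrime.isPrime hI)).mp hsub
  have h1 := ringKrullDim_quotient_eq_supportDim_of_isCohenMacaulayModule hM hqA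
  have h2 : ringKrullDim (A ⧸ q) ≤ ringKrullDim (A ⧸ p) :=
    ringKrullDim_le_of_surjective (Ideal.Quotient.factor hle) (Ideal.Quotient.factor_surjective hle)
  rw [h1] at h2
  exact absurd hlt (not_lt_of_ge h2)


/-- Existence part of EGA 0_IV 16.5.10: regular sequences of length `k ≤ dim M - dim A/p` in `p`. -/
theorem exists_isWeaklyRegular_mem_prime (hM : LocCoh.IsCohenMacaulayModule A M)
    (p : Ideal A) [hpp : p.IsPrime] (d e r : ℕ) (hd : Module.supportDim A M = d)
    (he : ringKrullDim (A ⧸ p) = e) (her : e + r = d) (k : ℕ) (hk : k ≤ r) :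
    ∃ xs : List A, xs.length = k ∧ (∀ x ∈ xs, x ∈ p) ∧ IsWeaklyRegular M xs := by
  induction k with
  | zero => exact ⟨[], rfl, by simp, IsWeaklyRegular.nil A M⟩
  | succ k ih =>
    obtain ⟨xs, hlen, hmem, hreg⟩ := ih (by omega)
    have hmemm : ∀ x ∈ xs, x ∈ IsLocalRing.maximalIdeal A := fun x hx =>
      IsLocalRing.le_maximalIdeal hpp.ne_top (hmem x hx)
    obtain ⟨h1, h2⟩ := isWeaklyRegular_iff_of_isCohenMacaulayModule xs M hM hmemm
    have hdim := h1.mp hreg
    have hNCM := h2 hreg
    rw [hd, hlen] at hdim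
    obtain ⟨n, hn, hnk⟩ := exists_nat_eq_of_add_natCast_eq hdim
    have hlt : ringKrullDim (A ⧸ p) <
        Module.supportDim A (M ⧸ (Ideal.ofList xs • (⊤ : Submodule A M))) := by
      rw [he, hn]
      have : e < n := by omega
      exact_mod_cast this
    obtain ⟨x, hxp, hxreg⟩ := exists_isSMulRegular_mem_of_ringKrullDim_quotient_lt hNCM p hlt
    refine ⟨xs ++ [x], by simp [hlen], ?_, ?_⟩
    · intro y hy
      rcases List.mem_append.mp hy with hy | hy
      · exact hmem y hy
      · rw [List.mem_singleton] at hy; rw [hy]; exact hxp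
    · rw [isWeaklyRegular_append_iff, isWeaklyRegular_singleton_iff]
      exact ⟨hreg, hxreg⟩

/-- EGA 0_IV 16.5.10. -/
theorem regular_sequence_in_prime_of_isCohenMacaulayModule
    (hM : LocCoh.IsCohenMacaulayModule A M) (p : PrimeSpectrum A) (hp : p ∈ Module.support A M)
    (r : ℕ)
    (hr : Module.supportDim A (M ⧸ (p.asIdeal • (⊤ : Submodule A M))) + r =
      Module.supportDim A M) :
    (∃ xs : List A, xs.length = r ∧ (∀ x ∈ xs, x ∈ p.asIdeal) ∧ IsWeaklyRegular M xs) ∧
      ∀ xs : List A, xs.length = r → (∀ x ∈ xs, x ∈ p.asIdeal) → IsWeaklyRegular M xs →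
        Module.supportDim A (M ⧸ (Ideal.ofList xs • (⊤ : Submodule A M))) =
            Module.supportDim A (M ⧸ (p.asIdeal • (⊤ : Submodule A M))) ∧
          Module.supportDim A (M ⧸ (p.asIdeal • (⊤ : Submodule A M))) =
            ringKrullDim (A ⧸ p.asIdeal) ∧
          p.asIdeal ∈ associatedPrimes A (M ⧸ (Ideal.ofList xs • (⊤ : Submodule A M))) ∧
          ∀ q ∈ associatedPrimes A (M ⧸ (Ideal.ofList xs • (⊤ : Submodule A M))),
            q ≤ p.asIdeal → q = p.asIdeal := by
  have hnt := nontrivial_of_isCohenMacaulayModule hM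
  have hpp : p.asIdeal.IsPrime := p.2
  have hpdim := supportDim_quotient_smul_top_eq_ringKrullDim_quotient p hp
  -- `dim M = d`
  have hfin := supportDim_lt_top_of_semilocal (A := A) M
  have hbot := Module.supportDim_ne_bot_of_nontrivial A M
  obtain ⟨d, hd⟩ : ∃ d : ℕ, Module.supportDim A M = d := by
    cases hd : Module.supportDim A M with
    | bot => exact absurd hd hbot
    | coe e =>
      rw [hd] at hfin
      cases e with
      | top => simp at hfin
      | coe d => exact ⟨d, rfl⟩
  rw [hd] at hr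
  obtain ⟨e, he, her⟩ := exists_nat_eq_of_add_natCast_eq hr
  have he' : ringKrullDim (A ⧸ p.asIdeal) = e := by rw [← hpdim, he]
  refine ⟨exists_isWeaklyRegular_mem_prime hM p.asIdeal d e r hd he' her r le_rfl, ?_⟩
  intro xs hlen hmem hreg
  have hmemm : ∀ x ∈ xs, x ∈ IsLocalRing.maximalIdeal A := fun x hx =>
    IsLocalRing.le_maximalIdeal hpp.ne_top (hmem x hx)
  obtain ⟨h1, h2⟩ := isWeaklyRegular_iff_of_isCohenMacaulayModule xs M hM hmemm
  have hdim := h1.mp hreg
  have hNCM := h2 hreg
  rw [hd, hlen] at hdim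
  have hNe : Module.supportDim A (M ⧸ (Ideal.ofList xs • (⊤ : Submodule A M))) = e := by
    apply withBot_enat_add_natCast_cancel r
    rw [hdim, ← her]
    push_cast
    rfl
  -- `p` is in the support of the quotient
  have hpN : p ∈ Module.support A (M ⧸ (Ideal.ofList xs • (⊤ : Submodule A M))) := by
    rw [Module.support_quotient]
    refine ⟨hp, ?_⟩
    rw [PrimeSpectrum.mem_zeroLocus, SetLike.coe_subset_coe]
    exact Ideal.span_le.mpr fun x hx => hmem x hx
  -- key: an associated prime of the quotient below `p` is `p`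
  have key : ∀ q ∈ associatedPrimes A (M ⧸ (Ideal.ofList xs • (⊤ : Submodule A M))),
      q ≤ p.asIdeal → q = p.asIdeal := by
    intro q hq hqp
    have hqprime : q.IsPrime := IsAssociatedPrime.isPrime hq
    by_contra hne
    have hlt : q < p.asIdeal := lt_of_le_of_ne hqp hne
    have h3 := ringKrullDim_quotient_succ_le_of_lt hlt
    rw [ringKrullDim_quotient_eq_supportDim_of_isCohenMacaulayModule hNCM hq, hNe, he'] at h3
    have : (e : ℕ∞) + 1 ≤ e := by exact_mod_cast h3
    have : e + 1 ≤ e := by exact_mod_cast this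
    omega
  refine ⟨by rw [hNe, he], hpdim, ?_, key⟩
  have hann : Module.annihilator A (M ⧸ (Ideal.ofList xs • (⊤ : Submodule A M))) ≤ p.asIdeal :=
    Module.mem_support_iff_of_finite.mp hpN
  obtain ⟨q, hq, hqp⟩ := Ideal.exists_minimalPrimes_le hann
  have hqA := Module.associatedPrimes.minimalPrimes_annihilator_subset_associatedPrimes A
    (M ⧸ (Ideal.ofList xs • (⊤ : Submodule A M))) hq
  rw [← key q hqA hqp]
  exact hqA


end

end Groth.Agent.Lib.Helper5
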