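import Mathlib
import Groth.Agent.Lib.Helper5CM4

/-!
# Localization of Cohen–Macaulay modules (helper5)

* `isWeaklyRegular_localizedModule`: weakly regular sequences localize.
* `supportDim_eq_add_and_isCohenMacaulayModule_localization`: for `M` CM and `p ∈ Supp M`,
  `dim M = dim M/pM + dim M_p` and `M_p` is CM over `A_p` (EGA 0_IV 16.5.10, 16.5.11).
-/

set_option autoImplicit false
universe u v w

namespace Groth.Agent.Lib.Helper5

open Module Submodule RingTheory.Sequence TensorProduct

section
variable {A : Type u} [CommRing A] {M : Type v} [AddCommGroup M] [Module A M]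

/-- A weakly regular sequence stays weakly regular on a localization. -/
theorem isWeaklyRegular_localizedModule (S : Submonoid A) {xs : List A}
    (h : IsWeaklyRegular M xs) :
    IsWeaklyRegular (LocalizedModule S M) (xs.map (algebraMap A (Localization S))) := by
  rw [isWeaklyRegular_map_algebraMap_iff]
  have hb : IsBaseChange (Localization S) (LocalizedModule.mkLinearMap S M) :=
    IsLocalizedModule.isBaseChange S (Localization S) (LocalizedModule.mkLinearMap S M)
  let e : (Localization S ⊗[A] M) ≃ₗ[A] LocalizedModule S M := hb.equiv.restrictScalars A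
  exact (e.isWeaklyRegular_congr xs).mp (h.isWeaklyRegular_lTensor (M₂ := Localization S))

end


section
variable {A : Type u} [CommRing A] [IsLocalRing A] [IsNoetherianRing A]
variable {M : Type u} [AddCommGroup M] [Module A M] [Module.Finite A M]

/-- EGA 0_IV 16.5.10-16.5.11: for a Cohen–Macaulay module `M` and `p ∈ Supp M`,
`dim M = dim M/pM + dim M_p` and `M_p` is Cohen–Macaulay. -/
theorem supportDim_eq_add_and_isCohenMacaulayModule_localization
    (hM : LocCoh.IsCohenMacaulayModule A M) (p : PrimeSpectrum A) (hp : p ∈ Module.support A M) :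
    Module.supportDim A M =
      Module.supportDim A (M ⧸ (p.asIdeal • (⊤ : Submodule A M))) +
        Module.supportDim (Localization.AtPrime p.asIdeal)
          (LocalizedModule p.asIdeal.primeCompl M) ∧
    LocCoh.IsCohenMacaulayModule (Localization.AtPrime p.asIdeal)
      (LocalizedModule p.asIdeal.primeCompl M) := by
  have hnt := nontrivial_of_isCohenMacaulayModule hM
  have hpp : p.asIdeal.IsPrime := p.2
  have hpdim := supportDim_quotient_smul_top_eq_ringKrullDim_quotient p hp
  have hfin := supportDim_lt_top_of_semilocal (A := A) M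
  have hbot := Module.supportDim_ne_bot_of_nontrivial A M
  obtain ⟨d, hd⟩ : ∃ d : ℕ, Module.supportDim A M = d := by
    cases hd : Module.supportDim A M with
    | bot => exact absurd hd hbot
    | coe e =>
      rw [hd] at hfin
      cases e with
      | top => simp at hfin
      | coe d => exact ⟨d, rfl⟩
  -- `dim M/pM = e ≤ d`
  have hle : ringKrullDim (A ⧸ p.asIdeal) ≤ (d : WithBot ℕ∞) := by
    rw [← hd]; exact ringKrullDim_quotient_le_supportDim p hp
  have hnn : (0 : WithBot ℕ∞) ≤ ringKrullDim (A ⧸ p.asIdeal) := ringKrullDim_nonneg_of_nontrivial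
  obtain ⟨e, he, hed⟩ : ∃ e : ℕ, ringKrullDim (A ⧸ p.asIdeal) = e ∧ e ≤ d := by
    cases hq : ringKrullDim (A ⧸ p.asIdeal) with
    | bot => rw [hq] at hnn; simp at hnn
    | coe t =>
      rw [hq] at hle
      have h1 : t ≤ (d : ℕ∞) := by exact_mod_cast hle
      obtain ⟨e, rfl⟩ := ENat.ne_top_iff_exists.mp (ne_top_of_le_ne_top (ENat.natCast_ne_top d) h1)
      exact ⟨e, rfl, by exact_mod_cast h1⟩
  have hr : Module.supportDim A (M ⧸ (p.asIdeal • (⊤ : Submodule A M))) + ((d - e : ℕ) : WithBot ℕ∞)
      = Module.supportDim A M := by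
    rw [hpdim, he, hd]
    have : e + (d - e) = d := by omega
    exact_mod_cast this
  obtain ⟨⟨xs, hlen, hmem, hreg⟩, -⟩ :=
    regular_sequence_in_prime_of_isCohenMacaulayModule hM p hp (d - e) hr
  -- localize
  have hreg' := isWeaklyRegular_localizedModule p.asIdeal.primeCompl hreg
  have hmem' : ∀ y ∈ xs.map (algebraMap A (Localization.AtPrime p.asIdeal)),
      y ∈ IsLocalRing.maximalIdeal (Localization.AtPrime p.asIdeal) := by
    intro y hy
    obtain ⟨x, hx, rfl⟩ := List.mem_map.mp hy
    exact (IsLocalization.AtPrime.to_map_mem_maximal_iff _ p.asIdeal x).mpr (hmem x hx)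
  have h1 : ((d - e : ℕ) : ℕ∞) ≤ LocCoh.depth (Localization.AtPrime p.asIdeal)
      (LocalizedModule p.asIdeal.primeCompl M) := by
    have := Groth.Agent.Lib.Helper28.length_le_idealDepth hreg' hmem'
    rwa [List.length_map, hlen] at this
  have hntp : Nontrivial (LocalizedModule p.asIdeal.primeCompl M) := Module.mem_support_iff.mp hp
  have h2 := depth_le_supportDim (A := Localization.AtPrime p.asIdeal)
    (M := LocalizedModule p.asIdeal.primeCompl M)
  have h3 := supportDim_localization_add_supportDim_quotient_le A M p.asIdeal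
  rw [hpdim, he, hd] at h3
  have hbotp := Module.supportDim_ne_bot_of_nontrivial (Localization.AtPrime p.asIdeal)
    (LocalizedModule p.asIdeal.primeCompl M)
  cases ht : Module.supportDim (Localization.AtPrime p.asIdeal)
      (LocalizedModule p.asIdeal.primeCompl M) with
  | bot => exact absurd ht hbotp
  | coe t =>
    rw [ht] at h2 h3
    have h2' : LocCoh.depth (Localization.AtPrime p.asIdeal)
      (LocalizedModule p.asIdeal.primeCompl M) ≤ t := by exact_mod_cast h2
    have h3' : t + (e : ℕ∞) ≤ (d : ℕ∞) := by exact_mod_cast h3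
    have h4 : t ≤ ((d - e : ℕ) : ℕ∞) := by
      have : (d : ℕ∞) = ((d - e : ℕ) : ℕ∞) + (e : ℕ∞) := by
        have : d = (d - e) + e := by omega
        exact_mod_cast this
      rw [this] at h3'
      exact (ENat.add_le_add_iff_right (ENat.natCast_ne_top e)).mp h3'
    have h5 : t = ((d - e : ℕ) : ℕ∞) := le_antisymm h4 (h1.trans h2')
    have h6 : LocCoh.depth (Localization.AtPrime p.asIdeal)
      (LocalizedModule p.asIdeal.primeCompl M) = ((d - e : ℕ) : ℕ∞) :=
      le_antisymm (h2'.trans h4) h1
    refine ⟨?_, ?_⟩
    · rw [hd, hpdim, he, h5]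
      have : d = e + (d - e) := by omega
      exact_mod_cast this
    · rw [LocCoh.IsCohenMacaulayModule, ht, h5, h6]

end


end Groth.Agent.Lib.Helper5
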