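import Mathlib
import Groth.Agent.Lib.Helper5CMAffSp
import Groth.Agent.Lib.Helper5FibMorLoci
import Groth.Agent.Lib.Helper3RelDimFlat
import Groth.Agent.Lib.Helper4VarDim5

/-!
# Dimension formula for Cohen–Macaulay morphisms (helper5)

* `fibreDimAt_comp_eq_of_flat_lqf`: a flat locally quasi-finite morphism `g : X ⟶ T` of schemes
  locally of finite type over `Y` preserves local fibre dimensions.
* `exists_opens_fibreDimAt_eq_of_isCMAt`: the fibre dimension is locally constant near a point where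
  `f` is Cohen–Macaulay.
* `localDim_eq_add_of_isCMAt`: `dim_x X = dim_{f x} Y + dim_x X_{f x}` for Cohen–Macaulay morphisms
  of locally Noetherian schemes (Stacks 37.22).
-/

set_option autoImplicit false
set_option linter.style.haveILetI false
universe u

open CategoryTheory CategoryTheory.Limits AlgebraicGeometry

namespace Groth.Agent.Lib.Helper5.CMDim

open Groth.Agent.Lib.Helper5.CMAffSp Groth.Agent.Lib.Helper5.FibMorLoci
  Groth.Agent.Lib.Helper7.TopDim Groth.Agent.Lib.Helper6.QFAff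

/-- a flat, locally quasi-finite `Y`-morphism preserves the local dimension of fibres. -/
theorem fibreDimAt_comp_eq_of_flat_lqf {X T Y : Scheme.{u}} (g : X ⟶ T) (π : T ⟶ Y)
    [LocallyOfFiniteType g] [LocallyOfFiniteType π] [Flat g] [LocallyQuasiFinite g] (x : X) :
    FlatMor.fibreDimAt (g ≫ π) x = FlatMor.fibreDimAt π (g x) := by
  have sq := isPullback_fiberMap g π ((g ≫ π) x)
  haveI : Flat (MoreMor.fiberMap g π ((g ≫ π) x)) :=
    MorphismProperty.of_isPullback (P := @Flat) sq inferInstance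
  haveI : LocallyQuasiFinite (MoreMor.fiberMap g π ((g ≫ π) x)) :=
    MorphismProperty.of_isPullback (P := @LocallyQuasiFinite) sq inferInstance
  haveI : LocallyOfFiniteType (MoreMor.fiberMap g π ((g ≫ π) x)) :=
    MorphismProperty.of_isPullback (P := @LocallyOfFiniteType) sq inferInstance
  haveI : IsLocallyNoetherian ((g ≫ π).fiber ((g ≫ π) x)) := isLocallyNoetherian_fiber (g ≫ π) _
  haveI : IsLocallyNoetherian (π.fiber ((g ≫ π) x)) := isLocallyNoetherian_fiber π _
  have hrel : Cyc.HasRelDim (MoreMor.fiberMap g π ((g ≫ π) x)) 0 := by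
    rw [Groth.Agent.Lib.Helper3.RelDim.hasRelDim_iff_forall_fibreDimAt_eq]
    intro z
    refine le_antisymm ?_ (localDim_nonneg _)
    exact (Groth.Agent.Lib.Helper3.GrpHomQF.locallyQuasiFinite_iff_forall_fibreDimAt_le_zero
      _).mp inferInstance z
  have h1 := Groth.Agent.Lib.Helper3.RelDimFlat.localDim_eq_add
    (MoreMor.fiberMap g π ((g ≫ π) x)) 0 hrel ((g ≫ π).asFiber x)
  have hpt : MoreMor.fiberMap g π ((g ≫ π) x) ((g ≫ π).asFiber x) = π.asFiber (g x) := by
    apply (π.fiberι ((g ≫ π) x)).isEmbedding.injective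
    have h2 : (π.fiberι ((g ≫ π) x)) (MoreMor.fiberMap g π ((g ≫ π) x) ((g ≫ π).asFiber x)) =
        g (((g ≫ π).fiberι ((g ≫ π) x)) ((g ≫ π).asFiber x)) := by
      have := congrArg (fun φ : (g ≫ π).fiber ((g ≫ π) x) ⟶ T => φ ((g ≫ π).asFiber x)) sq.w
      simp only [Scheme.Hom.comp_apply] at this
      exact this.symm
    rw [h2, (g ≫ π).fiberι_asFiber x]
    exact (π.fiberι_asFiber (g x)).symm
  rw [hpt, Nat.cast_zero, add_zero] at h1
  exact h1

open Groth.Agent.Lib.Helper4.DimFormula in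
/-- near a point where `f` is Cohen–Macaulay, the local dimension of the fibres is constant and `f`
is flat. -/
theorem exists_opens_fibreDimAt_eq_of_isCMAt {X Y : Scheme.{u}} (f : X ⟶ Y)
    [LocallyOfFinitePresentation f] (x : X) (d : ℕ) (hcm : MoreMor.IsCMAt f x)
    (hd : FlatMor.fibreDimAt f x = d) :
    ∃ U : X.Opens, x ∈ U ∧ Flat (U.ι ≫ f) ∧ ∀ u : X, u ∈ U → FlatMor.fibreDimAt f u = d := by
  obtain ⟨U, g, hxU, hover, hfl, hqf⟩ := exists_flat_lqf_of_isCMAt f x d hcm hd
  haveI : LocallyOfFiniteType (g ≫ (𝔸(ULift.{u} (Fin d); Y) ↘ Y)) := by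
    rw [hover]; infer_instance
  haveI : LocallyOfFiniteType g := locallyOfFiniteType_of_comp g (𝔸(ULift.{u} (Fin d); Y) ↘ Y)
  haveI := flat_affineSpace_over (ULift.{u} (Fin d)) Y
  refine ⟨U, hxU, ?_, ?_⟩
  · rw [← hover]; infer_instance
  · intro u hu
    have h1 := fibreDimAt_opens_ι_comp f U ⟨u, hu⟩
    rw [← hover, fibreDimAt_comp_eq_of_flat_lqf g _ ⟨u, hu⟩, fibreDimAt_affineSpace] at h1
    exact h1.symm

/-- **Stacks 37.22**: `dim_x X = dim_{f x} Y + dim_x X_{f x}` at points where a morphism locally of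
finite type between locally Noetherian schemes is Cohen–Macaulay. -/
theorem localDim_eq_add_of_isCMAt {X Y : Scheme.{u}} (f : X ⟶ Y) [IsLocallyNoetherian X]
    [IsLocallyNoetherian Y] [LocallyOfFiniteType f] (x : X) (hcm : MoreMor.IsCMAt f x) :
    FlatMor.localDim ↑X x = FlatMor.localDim ↑Y (f x) + FlatMor.fibreDimAt f x := by
  haveI : LocallyOfFinitePresentation f :=
    LocallyOfFinitePresentation.iff_locallyOfFiniteType.mpr inferInstance
  obtain ⟨d, hd⟩ := Groth.Agent.Lib.Helper3.GrpFibDim.exists_nat_fibreDimAt_eq f x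
  obtain ⟨U, hxU, hfl, hconst⟩ := exists_opens_fibreDimAt_eq_of_isCMAt f x d hcm hd
  haveI : IsLocallyNoetherian (U : Scheme.{u}) := LocallyOfFiniteType.isLocallyNoetherian U.ι
  have hrel : Cyc.HasRelDim (U.ι ≫ f) d := by
    rw [Groth.Agent.Lib.Helper3.RelDim.hasRelDim_iff_forall_fibreDimAt_eq]
    intro u
    rw [Groth.Agent.Lib.Helper4.DimFormula.fibreDimAt_opens_ι_comp f U u]
    exact hconst _ u.2
  have h1 := Groth.Agent.Lib.Helper3.RelDimFlat.localDim_eq_add (U.ι ≫ f) d hrel ⟨x, hxU⟩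
  have h2 : FlatMor.localDim ↥(U : Scheme.{u}) ⟨x, hxU⟩ = FlatMor.localDim ↑X x :=
    Groth.Agent.Lib.Helper4.VarDim.localDim_eq_of_isOpenEmbedding U.ι.isOpenEmbedding ⟨x, hxU⟩
  rw [hd, ← h2, h1]
  rfl

end Groth.Agent.Lib.Helper5.CMDim
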