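import Groth.Agent.Lib.Helper5Gen

/-!
The closure of a pro-constructible set consists of the specializations of its points;
singletons are pro-constructible.
-/

set_option autoImplicit false
universe u

namespace Groth.Agent.Lib.Helper5

open Topology AlgebraicGeometry CategoryTheory
open scoped Set.Notation

/-- In a scheme, every point of the closure of a pro-constructible set is a specialization of a
point of the set. -/
theorem exists_specializes_of_mem_closure (X : Scheme.{u}) (Z : Set X)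
    (hZ : ProCons.IsProConstructible Z) (x : X) (hx : x ∈ closure Z) :
    ∃ z ∈ Z, z ⤳ x := by
  obtain ⟨W, hW, hxW, -⟩ :=
    TopologicalSpace.Opens.isBasis_iff_nbhd.mp X.isBasis_affineOpens
      (show x ∈ (⊤ : X.Opens) from trivial)
  have : IsAffine (W : Scheme.{u}) := hW
  obtain ⟨𝒟, h𝒟, hZ𝒟⟩ := exists_eq_sInter_of_isProConstructible
    (isProConstructible_preimage (Scheme.Opens.ι W) Z hZ)
  let xW : (W : Scheme.{u}) := ⟨x, hxW⟩
  let 𝒢 : Set (Set (W : Scheme.{u})) := 𝒟 ∪ {D | IsOpen D ∧ IsCompact D ∧ xW ∈ D}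
  have h𝒢 : ∀ D ∈ 𝒢, IsConstructible D := by
    rintro D (hD | hD)
    · exact h𝒟 D hD
    · exact hD.2.1.isConstructible hD.1
  by_cases hempty : (⋂₀ 𝒢) = ∅
  · exfalso
    obtain ⟨𝒢', h𝒢', 𝒞', h𝒞', hf𝒢, hf𝒞, hsub⟩ :=
      exists_finite_sInter_subset_sUnion 𝒢 ∅ h𝒢 (by simp) (by rw [hempty]; simp)
    have h𝒞'e : 𝒞' = ∅ := Set.subset_empty_iff.mp h𝒞'
    rw [h𝒞'e, Set.sUnion_empty] at hsub
    let 𝒢o : Set (Set (W : Scheme.{u})) := {D ∈ 𝒢' | IsOpen D ∧ IsCompact D ∧ xW ∈ D}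
    have h𝒢of : 𝒢o.Finite := hf𝒢.subset (fun D hD => hD.1)
    have hopenD : IsOpen (⋂₀ 𝒢o) := h𝒢of.isOpen_sInter fun D hD => hD.2.1
    have hxD : xW ∈ ⋂₀ 𝒢o := fun D hD => hD.2.2.2
    have hopenX : IsOpen (Subtype.val '' (⋂₀ 𝒢o) : Set X) :=
      W.isOpen.isOpenMap_subtype_val _ hopenD
    have hxX : x ∈ (Subtype.val '' (⋂₀ 𝒢o) : Set X) := ⟨xW, hxD, rfl⟩
    obtain ⟨z, hzcl, hzZ⟩ := mem_closure_iff.mp hx _ hopenX hxX
    obtain ⟨zW, hzW, rfl⟩ := hzcl
    have hzmem : zW ∈ ⋂₀ 𝒢' := by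
      intro D hD
      rcases h𝒢' hD with hD' | hD'
      · have h1 : zW ∈ (Scheme.Opens.ι W).base ⁻¹' Z := hzZ
        rw [hZ𝒟] at h1
        exact h1 D hD'
      · exact hzW D ⟨hD, hD'⟩
    exact hsub hzmem
  · obtain ⟨z, hz⟩ := Set.nonempty_iff_ne_empty.mpr hempty
    refine ⟨z.1, ?_, ?_⟩
    · have h1 : z ∈ ⋂₀ 𝒟 := fun D hD => hz D (Or.inl hD)
      rw [← hZ𝒟] at h1
      exact h1
    · have hspec : z ⤳ xW := by
        rw [specializes_iff_forall_open]
        intro U hU hxU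
        obtain ⟨D, ⟨hD₁, hD₂⟩, hxD, hDU⟩ :=
          PrespectralSpace.isTopologicalBasis.mem_nhds_iff.mp (hU.mem_nhds hxU)
        exact hDU (hz D (Or.inr ⟨hD₁, hD₂, hxD⟩))
      exact hspec.map continuous_subtype_val

/-- Singletons are pro-constructible in a scheme. -/
theorem isProConstructible_singleton (Y : Scheme.{u}) (y' : Y) :
    ProCons.IsProConstructible ({y'} : Set Y) := by
  intro z
  obtain ⟨V, hV, hzV, -⟩ :=
    TopologicalSpace.Opens.isBasis_iff_nbhd.mp Y.isBasis_affineOpens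
      (show z ∈ (⊤ : Y.Opens) from trivial)
  have : IsAffine (V : Scheme.{u}) := hV
  have : T0Space ↥(V : Set Y) := inferInstanceAs (T0Space (V : Scheme.{u}))
  have : PrespectralSpace ↥(V : Set Y) := inferInstanceAs (PrespectralSpace (V : Scheme.{u}))
  have : QuasiSeparatedSpace ↥(V : Set Y) :=
    inferInstanceAs (QuasiSeparatedSpace (V : Scheme.{u}))
  refine ⟨(V : Set Y), V.isOpen, hzV,
    {C | IsConstructible C ∧ (Subtype.val ⁻¹' ({y'} : Set Y) : Set (V : Set Y)) ⊆ C},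
    fun C hC => hC.1.isLocallyConstructible, ?_⟩
  apply subset_antisymm
  · intro w hw C hC
    exact hC.2 hw
  · intro w hw
    by_cases hy'V : y' ∈ V
    · have : w = (⟨y', hy'V⟩ : (V : Set Y)) := by
        apply eq_of_forall_isConstructible_mem
        intro C hC hpC
        apply hw C
        refine ⟨hC, ?_⟩
        rintro ⟨v, hv⟩ hvy
        have hvy' : v = y' := hvy
        subst hvy'
        exact hpC
      rw [this]
      rfl
    · exfalso
      have hmem : (∅ : Set (V : Set Y)) ∈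
          {C | IsConstructible C ∧ (Subtype.val ⁻¹' ({y'} : Set Y) : Set (V : Set Y)) ⊆ C} := by
        refine ⟨IsConstructible.empty, ?_⟩
        rintro ⟨v, hv⟩ hvy
        have hvy' : v = y' := hvy
        subst hvy'
        exact hy'V hv
      exact hw ∅ hmem

end Groth.Agent.Lib.Helper5
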