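import Mathlib

/-!
# Flatness of adically complete modules from flatness modulo powers

Let `A` be a Noetherian ring, `J` an ideal and `N` a `J`-adically complete and separated `A`-module
such that `N / J^n N` is flat over `A / J^n` for every `n` (expressed in the elementwise form
`ModFlat J N`, an equational criterion modulo `J^n`).  Then `N` is flat over `A`.
-/

set_option autoImplicit false
universe u v

namespace Groth.Agent.Lib.Helper5.ComplFlat

section act

variable {A : Type u} [CommRing A] {N : Type v} [AddCommGroup N] [Module A N]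

/-- the action of a rectangular matrix on vectors with entries in a module -/
noncomputable def actL {b c : ℕ} (X : Fin b → Fin c → A) : (Fin c → N) →ₗ[A] (Fin b → N) :=
  LinearMap.pi fun i => ∑ j, X i j • (LinearMap.proj j : (Fin c → N) →ₗ[A] N)

theorem actL_apply {b c : ℕ} (X : Fin b → Fin c → A) (w : Fin c → N) (i : Fin b) :
    actL X w i = ∑ j, X i j • w j := by
  simp [actL, LinearMap.sum_apply]

/-- rank one vectors -/
theorem actL_rk1 {b c : ℕ} (X : Fin b → Fin c → A) (v : Fin c → A) (z : N) :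
    actL X (fun j => v j • z) = fun i => (actL X v i) • z := by
  funext i
  rw [actL_apply, actL_apply, Finset.sum_smul]
  refine Finset.sum_congr rfl fun j _ => ?_
  rw [smul_smul, smul_eq_mul]

theorem mem_smul_top_pi_iff {c : ℕ} (J : Ideal A) (w : Fin c → N) :
    w ∈ (J • ⊤ : Submodule A (Fin c → N)) ↔ ∀ j, w j ∈ (J • ⊤ : Submodule A N) := by
  constructor
  · intro h
    refine Submodule.smul_induction_on h ?_ ?_
    · intro a ha x _ j
      exact Submodule.smul_mem_smul ha Submodule.mem_top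
    · intro x y hx hy j
      exact add_mem (hx j) (hy j)
  · intro h
    rw [← Finset.univ_sum_single w]
    refine Submodule.sum_mem _ fun j _ => ?_
    have h1 : Pi.single j (w j) ∈
        Submodule.map (LinearMap.single A (fun _ : Fin c => N) j) (J • ⊤) :=
      Submodule.mem_map_of_mem (h j)
    rw [Submodule.map_smul''] at h1
    exact Submodule.smul_mono le_rfl le_top h1

theorem mem_smul_top_pi_iff' {c : ℕ} (J : Ideal A) (u : Fin c → A) :
    u ∈ (J • ⊤ : Submodule A (Fin c → A)) ↔ ∀ j, u j ∈ J := by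
  rw [mem_smul_top_pi_iff]
  simp only [smul_eq_mul, Ideal.mul_top]

theorem artinRees [IsNoetherianRing A] (J : Ideal A) {b c : ℕ} (X : Fin b → Fin c → A) :
    ∃ c0 : ℕ, ∀ (n : ℕ) (v : Fin c → A), (∀ i, actL X v i ∈ J ^ (n + c0)) →
      ∃ u : Fin c → A, (∀ j, u j ∈ J ^ n) ∧ actL X u = actL X v := by
  obtain ⟨k0, hk0⟩ := Ideal.exists_pow_inf_eq_pow_smul J (LinearMap.range (actL (N := A) X))
  refine ⟨k0, fun n v hv => ?_⟩
  have h1 : actL X v ∈
      (J ^ (n + k0) • ⊤ : Submodule A (Fin b → A)) ⊓ LinearMap.range (actL (N := A) X) :=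
    ⟨(mem_smul_top_pi_iff' _ _).mpr hv, ⟨v, rfl⟩⟩
  rw [hk0 (n + k0) (Nat.le_add_left _ _), Nat.add_sub_cancel] at h1
  have h2 : actL X v ∈ J ^ n • LinearMap.range (actL (N := A) X) :=
    Submodule.smul_mono le_rfl inf_le_right h1
  rw [LinearMap.range_eq_map, ← Submodule.map_smul''] at h2
  obtain ⟨u, hu, hu'⟩ := h2
  exact ⟨u, (mem_smul_top_pi_iff' _ _).mp hu, hu'⟩

end act

section main

variable {A : Type u} [CommRing A] (J : Ideal A) (N : Type v) [AddCommGroup N] [Module A N]

/-- the equational criterion of flatness modulo all powers of `J` -/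
def ModFlat : Prop :=
  ∀ (c b : ℕ) (X : Fin b → Fin c → A) (n : ℕ) (w : Fin c → N),
    (∀ i, actL X w i ∈ (J ^ n • ⊤ : Submodule A N)) →
    ∃ (t : ℕ) (v : Fin t → Fin c → A) (z : Fin t → N),
      (∀ s i, actL X (v s) i ∈ J ^ n) ∧
        ∀ j, w j - ∑ s, v s j • z s ∈ (J ^ n • ⊤ : Submodule A N)

variable {N}

theorem pow_smul_top_mono {m n : ℕ} (h : m ≤ n) :
    (J ^ n • ⊤ : Submodule A N) ≤ J ^ m • ⊤ :=
  Submodule.smul_mono_left (Ideal.pow_le_pow_right h)

variable [IsNoetherianRing A]

theorem step1 (hP : ModFlat J N) {k l m : ℕ} (G : Fin l → Fin k → A) (F : Fin m → Fin l → A)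
    (hex : ∀ u : Fin l → A, actL F u = 0 → ∃ g : Fin k → A, actL G g = u)
    (x : Fin l → N) (hx : actL F x = 0) (n : ℕ) :
    ∃ y : Fin k → N, ∀ i, (x - actL G y) i ∈ (J ^ n • ⊤ : Submodule A N) := by
  obtain ⟨c0, hc0⟩ := artinRees J F
  obtain ⟨t, v, z, hv, hw⟩ := hP l m F (n + c0) x (by
    intro i
    rw [hx]
    exact zero_mem _)
  choose u hu hu' using fun s => hc0 n (v s) (hv s)
  have hker : ∀ s, actL F (v s - u s) = 0 := by
    intro s
    rw [map_sub, hu' s, sub_self]
  choose g hg using fun s => hex (v s - u s) (hker s)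
  refine ⟨∑ s, fun q => g s q • z s, fun i => ?_⟩
  have hG : actL G (∑ s, fun q => g s q • z s) = ∑ s, fun i => (v s i - u s i) • z s := by
    rw [map_sum]
    refine Finset.sum_congr rfl fun s _ => ?_
    rw [actL_rk1, hg s]
    rfl
  rw [Pi.sub_apply, hG, Finset.sum_apply]
  have e : x i - ∑ s, (v s i - u s i) • z s =
      (x i - ∑ s, v s i • z s) + ∑ s, u s i • z s := by
    simp only [sub_smul, Finset.sum_sub_distrib]
    abel
  rw [e]
  exact add_mem (pow_smul_top_mono J (Nat.le_add_right n c0) (hw i))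
    (Submodule.sum_mem _ fun s _ => Submodule.smul_mem_smul (hu s i) Submodule.mem_top)

theorem step2 (hP : ModFlat J N) {k l : ℕ} (G : Fin l → Fin k → A) :
    ∃ c1 : ℕ, ∀ (n : ℕ) (w : Fin k → N),
      (∀ i, actL G w i ∈ (J ^ (n + c1) • ⊤ : Submodule A N)) →
      ∃ w' : Fin k → N, (∀ q, w' q ∈ (J ^ n • ⊤ : Submodule A N)) ∧ actL G w' = actL G w := by
  obtain ⟨c1, hc1⟩ := artinRees J G
  refine ⟨c1, fun n w hw => ?_⟩
  obtain ⟨t, v, z, hv, hwz⟩ := hP k l G (n + c1) w hw
  choose u hu hu' using fun s => hc1 n (v s) (hv s)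
  refine ⟨(w - ∑ s, fun q => v s q • z s) + ∑ s, fun q => u s q • z s, fun q => ?_, ?_⟩
  · rw [Pi.add_apply, Pi.sub_apply, Finset.sum_apply, Finset.sum_apply]
    exact add_mem (pow_smul_top_mono J (Nat.le_add_right n c1) (hwz q))
      (Submodule.sum_mem _ fun s _ => Submodule.smul_mem_smul (hu s q) Submodule.mem_top)
  · rw [map_add, map_sub, map_sum, map_sum]
    have h1 : ∀ s, actL G (fun q => u s q • z s) = actL G (fun q => v s q • z s) := by
      intro s
      rw [actL_rk1, actL_rk1, hu' s]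
    rw [Finset.sum_congr rfl fun s _ => h1 s, sub_add_cancel]

theorem exact_of_modFlat [IsHausdorff J N] [IsPrecomplete J N] (hP : ModFlat J N) {k l m : ℕ}
    (G : Fin l → Fin k → A) (F : Fin m → Fin l → A)
    (hex : ∀ u : Fin l → A, actL F u = 0 → ∃ g : Fin k → A, actL G g = u)
    (x : Fin l → N) (hx : actL F x = 0) : ∃ y : Fin k → N, actL G y = x := by
  obtain ⟨c1, hc1⟩ := step2 J hP G
  have h1 := step1 J hP G F hex x hx
  choose y hy using fun n => h1 (n + c1)
  have hdiff : ∀ n i, actL G (y (n + 1) - y n) i ∈ (J ^ (n + c1) • ⊤ : Submodule A N) := by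
    intro n i
    have e : actL G (y (n + 1) - y n) i =
        (x - actL G (y n)) i - (x - actL G (y (n + 1))) i := by
      rw [map_sub, Pi.sub_apply, Pi.sub_apply, Pi.sub_apply]
      abel
    rw [e]
    exact sub_mem (hy n i) (pow_smul_top_mono J (by omega) (hy (n + 1) i))
  choose d hd hd' using fun n => hc1 n (y (n + 1) - y n) (hdiff n)
  obtain ⟨yt, hyt⟩ : ∃ yt : ℕ → Fin k → N, ∀ n, yt n = y 0 + ∑ i ∈ Finset.range n, d i :=
    ⟨_, fun _ => rfl⟩
  have hGyt : ∀ n, actL G (yt n) = actL G (y n) := by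
    intro n
    rw [hyt, map_add, map_sum, Finset.sum_congr rfl fun i _ => hd' i]
    simp only [map_sub]
    rw [Finset.sum_range_sub (fun i => actL G (y i)) n]
    abel
  have hcauchy : ∀ (q : Fin k) {a b : ℕ}, a ≤ b →
      yt a q ≡ yt b q [SMOD (J ^ a • ⊤ : Submodule A N)] := by
    intro q a b hab
    rw [SModEq.sub_mem]
    have e : yt b q - yt a q = ∑ i ∈ Finset.Ico a b, d i q := by
      rw [hyt, hyt]
      simp only [Pi.add_apply, Finset.sum_apply]
      rw [add_sub_add_left_eq_sub, Finset.sum_Ico_eq_sub _ hab]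
    have h2 : yt b q - yt a q ∈ (J ^ a • ⊤ : Submodule A N) := by
      rw [e]
      refine Submodule.sum_mem _ fun i hi => ?_
      exact pow_smul_top_mono J (Finset.mem_Ico.mp hi).1 (hd i q)
    have e2 : yt a q - yt b q = -(yt b q - yt a q) := by abel
    rw [e2]
    exact neg_mem h2
  choose L hL using fun q => IsPrecomplete.prec ‹IsPrecomplete J N› (f := fun n => yt n q)
    (fun {a b} hab => hcauchy q hab)
  refine ⟨L, ?_⟩
  have hzero : ∀ i, (x - actL G L) i = 0 := by
    intro i
    apply IsHausdorff.haus ‹IsHausdorff J N›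
    intro n
    rw [SModEq.sub_mem, sub_zero]
    have e : (x - actL G L) i = (x - actL G (y n)) i - actL G (L - yt n) i := by
      rw [map_sub, hGyt n]
      simp only [Pi.sub_apply]
      abel
    rw [e]
    refine sub_mem (pow_smul_top_mono J (Nat.le_add_right n c1) (hy n i)) ?_
    rw [actL_apply]
    refine Submodule.sum_mem _ fun q _ => Submodule.smul_mem _ _ ?_
    have h3 := hL q n
    rw [SModEq.sub_mem] at h3
    have e2 : (L - yt n) q = -(yt n q - L q) := by
      rw [Pi.sub_apply]
      abel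
    rw [e2]
    exact neg_mem h3
  funext i
  have h4 := hzero i
  rw [Pi.sub_apply, sub_eq_zero] at h4
  exact h4.symm

/-- **Flatness from flatness modulo powers** for complete separated modules over a Noetherian
ring. -/
theorem flat_of_modFlat [IsHausdorff J N] [IsPrecomplete J N] (hP : ModFlat J N) :
    Module.Flat A N := by
  apply Module.Flat.of_forall_isTrivialRelation
  intro l f x hfx
  obtain ⟨F, hF⟩ : ∃ F : Fin 1 → Fin l → A, F = fun _ j => f j := ⟨_, rfl⟩
  have hfg : (LinearMap.ker (actL (N := A) F)).FG := IsNoetherian.noetherian _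
  obtain ⟨k, g, hg⟩ := Submodule.fg_iff_exists_fin_generating_family.mp hfg
  obtain ⟨G, hG⟩ : ∃ G : Fin l → Fin k → A, G = fun i q => g q i := ⟨_, rfl⟩
  have hGapply : ∀ v : Fin k → A, actL G v = ∑ q, v q • g q := by
    intro v
    funext i
    rw [actL_apply, hG, Finset.sum_apply]
    refine Finset.sum_congr rfl fun q _ => ?_
    rw [Pi.smul_apply, smul_eq_mul, smul_eq_mul, mul_comm]
  have hex : ∀ u : Fin l → A, actL F u = 0 → ∃ v : Fin k → A, actL G v = u := by
    intro u hu
    have hmem : u ∈ Submodule.span A (Set.range g) := by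
      rw [hg]
      exact hu
    obtain ⟨v, hv⟩ := (Submodule.mem_span_range_iff_exists_fun A).mp hmem
    exact ⟨v, by rw [hGapply, hv]⟩
  have hx : actL F x = 0 := by
    funext i
    rw [actL_apply, hF]
    exact hfx
  obtain ⟨y, hy⟩ := exact_of_modFlat J hP G F hex x hx
  refine ⟨k, fun i q => g q i, y, fun i => ?_, fun q => ?_⟩
  · rw [← hy, actL_apply, hG]
  · have hq : g q ∈ LinearMap.ker (actL (N := A) F) := by
      rw [← hg]
      exact Submodule.subset_span ⟨q, rfl⟩
    have h5 := congrFun (LinearMap.mem_ker.mp hq) 0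
    rw [actL_apply, hF] at h5
    simpa [smul_eq_mul] using h5

end main

end Groth.Agent.Lib.Helper5.ComplFlat
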