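import Mathlib
import Groth.Agent.Lib.Helper5NilFlat

/-!
# Flatness of `M/LM` over `A/L` from vanishing of `Tor₁` against `A/L`-modules (helper5)
-/

set_option autoImplicit false
universe u v
open scoped Pointwise

namespace Groth.Agent.Lib.Helper5

open TensorProduct LinearMap

section

variable {A : Type u} [CommRing A] {M : Type v} [AddCommGroup M] [Module A M]

/-- If `Tor₁^A(N, M) = 0` for every `A`-module `N` killed by `L`, then `(A/L) ⊗ M` is flat over
`A/L`. -/
theorem flat_baseChange_quotient_of_tor1Vanish (L : Ideal A)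
    (h : ∀ (N : Type u) [AddCommGroup N] [Module A N],
      L • (⊤ : Submodule A N) = ⊥ → Tor1Vanish A M N) :
    Module.Flat (A ⧸ L) ((A ⧸ L) ⊗[A] M) := by
  rw [Module.Flat.iff_rTensor_injective']
  intro K
  let i : ↥K →ₗ[A] (A ⧸ L) := K.subtype.restrictScalars A
  let p : (A ⧸ L) →ₗ[A] ((A ⧸ L) ⧸ K) := (Submodule.mkQ K).restrictScalars A
  have hN : L • (⊤ : Submodule A ((A ⧸ L) ⧸ K)) = ⊥ := by
    rw [eq_bot_iff, Submodule.smul_le]
    intro r hr x _
    rw [Submodule.mem_bot]
    have h1 : r • x = (Ideal.Quotient.mk L r) • x := by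
      rw [← Ideal.Quotient.algebraMap_eq, algebraMap_smul]
    rw [h1, Ideal.Quotient.eq_zero_iff_mem.mpr hr, zero_smul]
  have hex : Function.Exact i p := by
    intro y
    change Submodule.mkQ K y = 0 ↔ _
    rw [Submodule.mkQ_apply, Submodule.Quotient.mk_eq_zero]
    constructor
    · intro hy
      exact ⟨⟨y, hy⟩, rfl⟩
    · rintro ⟨z, rfl⟩
      exact z.2
  have hinj : Function.Injective (i.lTensor M) :=
    h _ hN ↥K (A ⧸ L) i p K.injective_subtype (Submodule.mkQ_surjective K) hex
  rw [LinearMap.lTensor_inj_iff_rTensor_inj] at hinj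
  let e₁ := TensorProduct.AlgebraTensorModule.cancelBaseChange A (A ⧸ L) (A ⧸ L) ↥K M
  let e₂ := TensorProduct.AlgebraTensorModule.cancelBaseChange A (A ⧸ L) (A ⧸ L) (A ⧸ L) M
  have hsq : ∀ t, (i.rTensor M) (e₁ t) = e₂ (rTensor ((A ⧸ L) ⊗[A] M) K.subtype t) := by
    intro t
    induction t with
    | zero => simp
    | add a b ha hb => rw [map_add, map_add, ha, hb, map_add, map_add]
    | tmul x y =>
      induction y with
      | zero => simp
      | add a b ha hb => rw [tmul_add, map_add, map_add, ha, hb, map_add, map_add]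
      | tmul a m =>
        rw [rTensor_tmul]
        simp only [e₁, e₂, TensorProduct.AlgebraTensorModule.cancelBaseChange_tmul, rTensor_tmul]
        rfl
  intro t₁ t₂ ht
  apply e₁.injective
  apply hinj
  rw [hsq, hsq, ht]

end

end Groth.Agent.Lib.Helper5
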