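import Mathlib
import Groth.Agent.Lib.Helper5ComplFlat
import Groth.Agent.Lib.Helper5NilFlat3
import Groth.Agent.Lib.Helper5ArtRegSeq
import Groth.Agent.Lib.Helper19ComplNoeth2
import Groth.Agent.Lib.Helper19ComplFlatMap

/-!
# Flatness of the adic completion of a module over the completed ring

If `I` is finitely generated, `R/I` is Noetherian, `M/IM` is flat over `R/I` and `I ⊗ M → M` is
injective, then the `I`-adic completion of `M` is flat over the `I`-adic completion of `R`.
-/

set_option autoImplicit false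
universe u

namespace Groth.Agent.Lib.Helper5.ComplFlat

open TensorProduct Groth.Agent.Lib.Helper5

section quot

variable {R : Type u} [CommRing R] {M : Type u} [AddCommGroup M] [Module R M]

theorem tmul_eq_zero_of_mem (L : Ideal R) {m : M} (hm : m ∈ (L • ⊤ : Submodule R M)) :
    (1 : R ⧸ L) ⊗ₜ[R] m = 0 := by
  refine Submodule.smul_induction_on hm ?_ ?_
  · intro a ha x _
    have h0 : a • (1 : R ⧸ L) = 0 := by
      rw [Algebra.smul_def, mul_one, Ideal.Quotient.algebraMap_eq]
      exact Ideal.Quotient.eq_zero_iff_mem.mpr ha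
    rw [TensorProduct.tmul_smul, TensorProduct.smul_tmul', h0, TensorProduct.zero_tmul]
  · intro x y hx hy
    rw [TensorProduct.tmul_add, hx, hy, add_zero]

theorem mem_of_tmul_eq_zero (L : Ideal R) {m : M} (hm : (1 : R ⧸ L) ⊗ₜ[R] m = 0) :
    m ∈ (L • ⊤ : Submodule R M) := by
  have h := congrArg (TensorProduct.quotTensorEquivQuotSMul M L) hm
  rw [TensorProduct.quotTensorEquivQuotSMul_mk_one_tmul, map_zero,
    Submodule.Quotient.mk_eq_zero] at h
  exact h

theorem modFlat_of_flat_quotient (I : Ideal R)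
    (h : ∀ n, Module.Flat (R ⧸ I ^ n) ((R ⧸ I ^ n) ⊗[R] M)) : ModFlat I M := by
  classical
  intro c b X n w hw
  haveI := h n
  obtain ⟨Xt, hXt⟩ : ∃ Xt : Fin c → Fin b → R ⧸ I ^ n,
      Xt = fun j i => algebraMap R (R ⧸ I ^ n) (X i j) := ⟨_, rfl⟩
  obtain ⟨x, hx⟩ : ∃ x : (Fin c → R ⧸ I ^ n) →ₗ[R ⧸ I ^ n] (R ⧸ I ^ n) ⊗[R] M,
      x = Fintype.linearCombination (R ⧸ I ^ n) (fun j => (1 : R ⧸ I ^ n) ⊗ₜ[R] w j) :=
    ⟨_, rfl⟩
  have hx_apply : ∀ v, x v = ∑ j, v j • ((1 : R ⧸ I ^ n) ⊗ₜ[R] w j) := by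
    intro v
    rw [hx, Fintype.linearCombination_apply]
  have key : ∀ i, ∑ j, Xt j i • ((1 : R ⧸ I ^ n) ⊗ₜ[R] w j) = 0 := by
    intro i
    have e : ∀ j, Xt j i • ((1 : R ⧸ I ^ n) ⊗ₜ[R] w j) =
        (1 : R ⧸ I ^ n) ⊗ₜ[R] (X i j • w j) := by
      intro j
      rw [hXt, algebraMap_smul, TensorProduct.tmul_smul]
    rw [Finset.sum_congr rfl fun j _ => e j, ← TensorProduct.tmul_sum, ← actL_apply]
    exact tmul_eq_zero_of_mem (I ^ n) (hw i)
  have hcomp : x ∘ₗ (actL (N := R ⧸ I ^ n) Xt) = 0 := by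
    refine LinearMap.ext fun u => ?_
    rw [LinearMap.comp_apply, LinearMap.zero_apply, hx_apply]
    have e : ∀ j, (actL Xt u j) • ((1 : R ⧸ I ^ n) ⊗ₜ[R] w j) =
        ∑ i, u i • (Xt j i • ((1 : R ⧸ I ^ n) ⊗ₜ[R] w j)) := by
      intro j
      rw [actL_apply, Finset.sum_smul]
      refine Finset.sum_congr rfl fun i _ => ?_
      rw [smul_eq_mul, mul_comm, mul_smul]
    rw [Finset.sum_congr rfl fun j _ => e j, Finset.sum_comm]
    refine Finset.sum_eq_zero fun i _ => ?_
    rw [← Finset.smul_sum, key i, smul_zero]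
  obtain ⟨k, a, y, hxy, haf⟩ := Module.Flat.exists_factorization_of_comp_eq_zero_of_free hcomp
  obtain ⟨e, he⟩ : ∃ e : Fin c → (Fin c → R ⧸ I ^ n),
      e = fun j j' => if j = j' then 1 else 0 := ⟨_, rfl⟩
  have ha_apply : ∀ u : Fin c → R ⧸ I ^ n, a u = ∑ j, u j • a (e j) := by
    intro u
    rw [he]
    exact LinearMap.pi_apply_eq_sum_univ a u
  choose v hv using fun (s : Fin k) (j : Fin c) =>
    Ideal.Quotient.mk_surjective (I := I ^ n) (a (e j) s)
  have hzs : ∀ s : Fin k, ∃ m : M, (1 : R ⧸ I ^ n) ⊗ₜ[R] m = y (Finsupp.single s 1) := fun s =>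
    TensorProduct.mk_surjective R M (R ⧸ I ^ n) Ideal.Quotient.mk_surjective _
  choose z hz using hzs
  refine ⟨k, v, z, fun s i => ?_, fun j => ?_⟩
  · rw [actL_apply, ← Ideal.Quotient.eq_zero_iff_mem, map_sum]
    obtain ⟨ei, hei⟩ : ∃ ei : Fin b → R ⧸ I ^ n, ei = fun i' => if i = i' then 1 else 0 :=
      ⟨_, rfl⟩
    have h1 : a (actL Xt ei) = 0 := LinearMap.congr_fun haf ei
    have h2 : actL Xt ei = fun j => Xt j i := by
      funext j
      rw [actL_apply, hei]
      simp
    rw [h2, ha_apply] at h1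
    have h3 : ∑ j, Xt j i * a (e j) s = 0 := by
      have h4 := DFunLike.congr_fun h1 s
      simpa [Finsupp.finsetSum_apply] using h4
    rw [← h3]
    refine Finset.sum_congr rfl fun j _ => ?_
    rw [smul_eq_mul, map_mul, hv s j, hXt]
    rfl
  · apply mem_of_tmul_eq_zero (I ^ n)
    rw [TensorProduct.tmul_sub, sub_eq_zero]
    have h1 : x (e j) = (1 : R ⧸ I ^ n) ⊗ₜ[R] w j := by
      rw [hx_apply, he]
      simp
    have h2 : y (a (e j)) = ∑ s, a (e j) s • y (Finsupp.single s 1) := by
      conv_lhs => rw [← Finsupp.univ_sum_single (a (e j))]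
      rw [map_sum]
      refine Finset.sum_congr rfl fun s _ => ?_
      rw [← map_smul, Finsupp.smul_single, smul_eq_mul, mul_one]
    rw [← h1, hxy, LinearMap.comp_apply, h2, TensorProduct.tmul_sum]
    refine Finset.sum_congr rfl fun s _ => ?_
    rw [← hz s, ← hv s j, TensorProduct.tmul_smul, ← Ideal.Quotient.algebraMap_eq,
      algebraMap_smul]

theorem lTensor_subtype_injective_of_lift_injective (I : Ideal R)
    (hT : Function.Injective
      (TensorProduct.lift ((LinearMap.lsmul R M).comp (Submodule.subtype I)))) :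
    Function.Injective (I.subtype.lTensor M) := by
  have key : ∀ z : M ⊗[R] I, TensorProduct.rid R M (I.subtype.lTensor M z) =
      TensorProduct.lift ((LinearMap.lsmul R M).comp (Submodule.subtype I))
        (TensorProduct.comm R M I z) := by
    intro z
    induction z using TensorProduct.induction_on with
    | zero => simp
    | tmul m a => simp
    | add x y hx hy => simp only [map_add, hx, hy]
  intro z1 z2 h
  have h1 := congrArg (TensorProduct.rid R M) h
  rw [key, key] at h1
  exact (TensorProduct.comm R M I).injective (hT h1)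

theorem flat_tensor_of_flat_quot (I : Ideal R)
    [Module.Flat (R ⧸ I) (M ⧸ (I • ⊤ : Submodule R M))] :
    Module.Flat (R ⧸ I) ((R ⧸ I) ⊗[R] M) := by
  have hs : Function.Surjective (algebraMap R (R ⧸ I)) := Ideal.Quotient.mk_surjective
  have e : ((R ⧸ I) ⊗[R] M) ≃ₗ[R ⧸ I] (M ⧸ (I • ⊤ : Submodule R M)) :=
    LinearEquiv.extendScalarsOfSurjective hs (TensorProduct.quotTensorEquivQuotSMul M I)
  exact Module.Flat.of_linearEquiv e

theorem flat_quotient_pow (I : Ideal R) (H1 : Function.Injective (I.subtype.lTensor M))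
    (h : Module.Flat (R ⧸ I) ((R ⧸ I) ⊗[R] M)) (n : ℕ) :
    Module.Flat (R ⧸ I ^ n) ((R ⧸ I ^ n) ⊗[R] M) :=
  flat_baseChange_quotient_of_tor1Vanish (I ^ n) fun N _ _ hN =>
    tor1Vanish_of_pow_smul_top_eq_bot' I H1 h n N hN

end quot

section compl

variable {R : Type u} [CommRing R] (I : Ideal R) (M : Type u) [AddCommGroup M] [Module R M]

theorem mem_map_pow_smul_top_iff (n : ℕ) (x : AdicCompletion I M) :
    x ∈ ((I.map (algebraMap R (AdicCompletion I R))) ^ n • ⊤ :
        Submodule (AdicCompletion I R) (AdicCompletion I M)) ↔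
      x ∈ (I ^ n • ⊤ : Submodule R (AdicCompletion I M)) := by
  rw [← Ideal.map_pow]
  exact mem_map_smul_top_iff' (I ^ n) x

theorem smodEq_iff (n : ℕ) (x y : AdicCompletion I M) :
    x ≡ y [SMOD ((I.map (algebraMap R (AdicCompletion I R))) ^ n • ⊤ :
        Submodule (AdicCompletion I R) (AdicCompletion I M))] ↔
      x ≡ y [SMOD (I ^ n • ⊤ : Submodule R (AdicCompletion I M))] := by
  rw [SModEq.sub_mem, SModEq.sub_mem, mem_map_pow_smul_top_iff]

theorem isHausdorff_map (hI : I.FG) :
    IsHausdorff (I.map (algebraMap R (AdicCompletion I R))) (AdicCompletion I M) := by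
  have h := (AdicCompletion.isAdicComplete (M := M) hI).toIsHausdorff
  exact ⟨fun x hx => h.haus x fun n => (smodEq_iff I M n x 0).mp (hx n)⟩

theorem isPrecomplete_map (hI : I.FG) :
    IsPrecomplete (I.map (algebraMap R (AdicCompletion I R))) (AdicCompletion I M) := by
  have h := (AdicCompletion.isAdicComplete (M := M) hI).toIsPrecomplete
  refine ⟨fun {f} hf => ?_⟩
  obtain ⟨L, hL⟩ := h.prec (f := f) (fun {m n} hmn => (smodEq_iff I M m _ _).mp (hf hmn))
  exact ⟨L, fun n => (smodEq_iff I M n _ _).mpr (hL n)⟩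

theorem exists_sub_of_mem (hI : I.FG) (n : ℕ) (x : AdicCompletion I M) :
    ∃ m : M, x - AdicCompletion.of I M m ∈
      ((I.map (algebraMap R (AdicCompletion I R))) ^ n • ⊤ :
        Submodule (AdicCompletion I R) (AdicCompletion I M)) := by
  obtain ⟨m, hm⟩ := Submodule.mkQ_surjective _ (AdicCompletion.eval I M n x)
  refine ⟨m, ?_⟩
  rw [mem_map_pow_smul_top_iff, AdicCompletion.pow_smul_top_eq_ker_eval hI, LinearMap.mem_ker,
    map_sub, AdicCompletion.eval_of, hm, sub_self]

theorem mem_of_of_mem (hI : I.FG) (n : ℕ) (m : M)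
    (h : AdicCompletion.of I M m ∈
      ((I.map (algebraMap R (AdicCompletion I R))) ^ n • ⊤ :
        Submodule (AdicCompletion I R) (AdicCompletion I M))) :
    m ∈ (I ^ n • ⊤ : Submodule R M) := by
  rw [mem_map_pow_smul_top_iff, AdicCompletion.pow_smul_top_eq_ker_eval hI, LinearMap.mem_ker,
    AdicCompletion.eval_of] at h
  exact (Submodule.Quotient.mk_eq_zero _).mp h

theorem of_mem (n : ℕ) (m : M) (h : m ∈ (I ^ n • ⊤ : Submodule R M)) :
    AdicCompletion.of I M m ∈
      ((I.map (algebraMap R (AdicCompletion I R))) ^ n • ⊤ :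
        Submodule (AdicCompletion I R) (AdicCompletion I M)) := by
  rw [mem_map_pow_smul_top_iff]
  have h1 : AdicCompletion.of I M m ∈ Submodule.map (AdicCompletion.of I M) (I ^ n • ⊤) :=
    Submodule.mem_map_of_mem h
  rw [Submodule.map_smul''] at h1
  exact Submodule.smul_mono le_rfl le_top h1

theorem modFlat_completion (hI : I.FG) (hP : ModFlat I M) :
    ModFlat (I.map (algebraMap R (AdicCompletion I R))) (AdicCompletion I M) := by
  intro c b X n w hw
  choose X0 hX0 using fun i j =>
    Groth.Agent.Lib.Helper19.exists_sub_of_mem_map_pow I hI n (X i j)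
  choose w0 hw0 using fun j => exists_sub_of_mem I M hI n (w j)
  have h0 : ∀ i, actL X0 w0 i ∈ (I ^ n • ⊤ : Submodule R M) := by
    intro i
    apply mem_of_of_mem I M hI n
    have e : AdicCompletion.of I M (actL X0 w0 i) = actL X w i -
        ∑ j, ((X i j - algebraMap R (AdicCompletion I R) (X0 i j)) • w j +
          algebraMap R (AdicCompletion I R) (X0 i j) • (w j - AdicCompletion.of I M (w0 j))) := by
      rw [actL_apply, actL_apply, map_sum, ← Finset.sum_sub_distrib]
      refine Finset.sum_congr rfl fun j _ => ?_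
      rw [map_smul, ← algebraMap_smul (AdicCompletion I R) (X0 i j)
        (AdicCompletion.of I M (w0 j)), sub_smul, smul_sub]
      abel
    rw [e]
    refine sub_mem (hw i) (Submodule.sum_mem _ fun j _ => add_mem ?_ ?_)
    · exact Submodule.smul_mem_smul (hX0 i j) Submodule.mem_top
    · exact Submodule.smul_mem _ _ (hw0 j)
  obtain ⟨t, v0, z0, hv0, hz0⟩ := hP c b X0 n w0 h0
  refine ⟨t, fun s j => algebraMap R (AdicCompletion I R) (v0 s j),
    fun s => AdicCompletion.of I M (z0 s), fun s i => ?_, fun j => ?_⟩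
  · have e : actL X (fun j => algebraMap R (AdicCompletion I R) (v0 s j)) i =
        ∑ j, (X i j - algebraMap R (AdicCompletion I R) (X0 i j)) *
          algebraMap R (AdicCompletion I R) (v0 s j) +
          algebraMap R (AdicCompletion I R) (actL X0 (v0 s) i) := by
      rw [actL_apply, actL_apply, map_sum, ← Finset.sum_add_distrib]
      refine Finset.sum_congr rfl fun j _ => ?_
      rw [smul_eq_mul, smul_eq_mul, map_mul]
      ring
    rw [e]
    refine add_mem (Ideal.sum_mem _ fun j _ => Ideal.mul_mem_right _ _ (hX0 i j)) ?_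
    rw [← Ideal.map_pow]
    exact Ideal.mem_map_of_mem _ (hv0 s i)
  · have e : w j - ∑ s, algebraMap R (AdicCompletion I R) (v0 s j) •
          AdicCompletion.of I M (z0 s) =
        (w j - AdicCompletion.of I M (w0 j)) +
          AdicCompletion.of I M (w0 j - ∑ s, v0 s j • z0 s) := by
      rw [map_sub, map_sum]
      simp only [map_smul, algebraMap_smul]
      abel
    rw [e]
    exact add_mem (hw0 j) (of_mem I M n _ (hz0 j))

/-- **Flatness of the completed module over the completed ring.** -/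
theorem flat_adicCompletion (hI : I.FG) [IsNoetherianRing (R ⧸ I)]
    (H1 : Function.Injective (I.subtype.lTensor M))
    (h : Module.Flat (R ⧸ I) ((R ⧸ I) ⊗[R] M)) :
    Module.Flat (AdicCompletion I R) (AdicCompletion I M) := by
  haveI : IsNoetherianRing (AdicCompletion I R) :=
    Groth.Agent.Lib.Helper19.isNoetherianRing_adicCompletion_of_fg R I hI
  haveI := isHausdorff_map I M hI
  haveI := isPrecomplete_map I M hI
  exact flat_of_modFlat (I.map (algebraMap R (AdicCompletion I R)))
    (modFlat_completion I M hI (modFlat_of_flat_quotient I (flat_quotient_pow I H1 h)))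

end compl

end Groth.Agent.Lib.Helper5.ComplFlat
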