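import Mathlib
import Groth.Agent.Lib.Helper5GlueSemilocal

/-!
# Integral closure of a semilocal one-dimensional Noetherian domain (helper5)

For a Noetherian domain `B` of dimension one with finitely many maximal ideals, the integral
closure `B'` in the fraction field is a semilocal Dedekind domain (Krull-Akizuki), and for every
nonzero `x` in the Jacobson radical of `B'` and every `y ∈ B'` some `x ^ n * y` lies in `B`.
-/

set_option autoImplicit false
universe u

namespace Groth.Agent.Lib.Helper5.Conductor

open IsDedekindDomain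

variable {B : Type*} [CommRing B] [IsDomain B] [IsNoetherianRing B] {K : Type*} [Field K]
  [Algebra B K] [IsFractionRing B K]

omit [IsNoetherianRing B] in
theorem isFractionRing_integralClosure : IsFractionRing (integralClosure B K) K := by
  have : Algebra.IsAlgebraic B K := IsFractionRing.comap_isAlgebraic_iff.mpr
    (inferInstance : Algebra.IsAlgebraic K K)
  exact integralClosure.isFractionRing_of_algebraic fun x hx =>
    (IsFractionRing.to_map_eq_zero_iff (K := K)).mp hx

theorem isNoetherianRing_integralClosure (hdim : ringKrullDim B ≤ 1) :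
    IsNoetherianRing (integralClosure B K) :=
  Groth.Agent.Lib.Helper4.KrullAkizuki.isNoetherianRing_subalgebra
    (fun _ ha => Groth.Agent.Lib.Helper4.KrullAkizuki.isArtinian_quotient_of_ringKrullDim_le_one
      hdim ha) _

theorem isDedekindDomain_integralClosure (hdim : ringKrullDim B ≤ 1) :
    IsDedekindDomain (integralClosure B K) := by
  have := isFractionRing_integralClosure (B := B) (K := K)
  have := GlueDimOne.dimensionLEOne_of_ringKrullDim_le_one hdim
  rw [isDedekindDomain_iff (integralClosure B K) K]
  refine ⟨inferInstance, isNoetherianRing_integralClosure hdim, inferInstance, ?_⟩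
  intro x hx
  have : IsIntegral B x := isIntegral_trans x hx
  exact ⟨⟨x, this⟩, rfl⟩

omit [IsNoetherianRing B] in
theorem algebraMap_integralClosure_injective :
    Function.Injective (algebraMap B (integralClosure B K)) := by
  intro a b hab
  have h := congrArg (fun z : integralClosure B K => (z : K)) hab
  exact IsFractionRing.injective B K h

theorem finite_maximalSpectrum_integralClosure (hdim : ringKrullDim B = 1)
    [Finite (MaximalSpectrum B)] : Finite (MaximalSpectrum (integralClosure B K)) := by
  classical
  have hSD : IsDedekindDomain (integralClosure B K) :=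
    isDedekindDomain_integralClosure (le_of_eq hdim)
  have hBnf : ¬ IsField B := by
    intro hf
    have h0 := ringKrullDim_eq_zero_of_isField hf
    rw [hdim] at h0
    exact one_ne_zero h0
  obtain ⟨u, hu0, huj⟩ := GlueDimOne.exists_ne_zero_mem_jacobson B hBnf
  have hinj := algebraMap_integralClosure_injective (B := B) (K := K)
  have hSnf : ¬ IsField (integralClosure B K) := fun hf =>
    hBnf (isField_of_isIntegral_of_isField hinj hf)
  obtain ⟨uS, huS⟩ : ∃ uS : integralClosure B K, uS = algebraMap B (integralClosure B K) u :=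
    ⟨_, rfl⟩
  have huS0 : uS ≠ 0 := by
    rw [huS]
    exact fun h => hu0 (hinj (by rw [h, map_zero]))
  have hmem : ∀ J : Ideal (integralClosure B K), J.IsMaximal → uS ∈ J := by
    intro J hJ
    have hmax : (J.comap (algebraMap B (integralClosure B K))).IsMaximal :=
      Ideal.isMaximal_comap_of_isIntegral_of_isMaximal J
    have h1 : u ∈ J.comap (algebraMap B (integralClosure B K)) := by
      rw [Ideal.jacobson, Ideal.mem_sInf] at huj
      exact huj ⟨bot_le, hmax⟩
    rw [huS]
    exact h1
  have hfin : {v : HeightOneSpectrum (integralClosure B K) | v.asIdeal ∣ Ideal.span {uS}}.Finite :=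
    Ideal.finite_factors (I := Ideal.span {uS}) (by simpa using huS0)
  have hfin' : Finite {v : HeightOneSpectrum (integralClosure B K) |
      v.asIdeal ∣ Ideal.span {uS}} := hfin
  let φ : MaximalSpectrum (integralClosure B K) →
      {v : HeightOneSpectrum (integralClosure B K) | v.asIdeal ∣ Ideal.span {uS}} := fun J =>
    ⟨⟨J.asIdeal, J.isMaximal.isPrime,
      Ring.ne_bot_of_isMaximal_of_not_isField J.isMaximal hSnf⟩, by
      change J.asIdeal ∣ Ideal.span {uS}
      rw [Ideal.dvd_iff_le, Ideal.span_singleton_le_iff_mem]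
      exact hmem J.asIdeal J.isMaximal⟩
  refine Finite.of_injective φ ?_
  intro J J' h
  have h1 : (φ J).1.asIdeal = (φ J').1.asIdeal := by rw [h]
  exact MaximalSpectrum.ext h1

omit [IsNoetherianRing B] in
/-- A common denominator for the monomials in two integral elements. -/
theorem exists_conductor_pow_two {x y : K} (hx : IsIntegral B x) (hy : IsIntegral B y) :
    ∃ c : B, c ≠ 0 ∧ ∀ i j : ℕ,
      algebraMap B K c * (x ^ i * y ^ j) ∈ (algebraMap B K).range := by
  have hint : ∀ z ∈ ({x, y} : Set K), IsIntegral B z := by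
    intro z hz
    rcases Set.mem_insert_iff.mp hz with h | h
    · rw [h]; exact hx
    · rw [Set.mem_singleton_iff.mp h]; exact hy
  have hfg : (Subalgebra.toSubmodule (Algebra.adjoin B ({x, y} : Set K))).FG :=
    fg_adjoin_of_finite ((Set.finite_singleton y).insert x) hint
  obtain ⟨c, hc, hcI⟩ := FractionalIdeal.isFractional_of_fg (S := nonZeroDivisors B) hfg
  refine ⟨c, nonZeroDivisors.ne_zero hc, fun i j => ?_⟩
  have hxm : x ∈ Algebra.adjoin B ({x, y} : Set K) := Algebra.subset_adjoin (Set.mem_insert x _)
  have hym : y ∈ Algebra.adjoin B ({x, y} : Set K) :=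
    Algebra.subset_adjoin (Set.mem_insert_of_mem x (Set.mem_singleton y))
  have hmem : x ^ i * y ^ j ∈ Subalgebra.toSubmodule (Algebra.adjoin B ({x, y} : Set K)) :=
    (Subalgebra.mem_toSubmodule _).mpr
      (Subalgebra.mul_mem _ (Subalgebra.pow_mem _ hxm i) (Subalgebra.pow_mem _ hym j))
  obtain ⟨b, hb⟩ := hcI (x ^ i * y ^ j) hmem
  rw [Algebra.smul_def] at hb
  exact ⟨b, hb⟩

omit [IsDomain B] [IsNoetherianRing B] [IsFractionRing B K] in
/-- If `z = τ c` with `τ` integral over `B` and all `c z ^ j y` lie in `B`, then `z ^ d y` lies in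
`B` for the degree `d` of an integral equation of `τ`. -/
theorem exists_pow_mul_mem_of_isIntegral_of_mul_eq {c : B} {z τ y : K} (hτ : IsIntegral B τ)
    (hcz : ∀ j : ℕ, algebraMap B K c * (z ^ j * y) ∈ (algebraMap B K).range)
    (hτz : τ * algebraMap B K c = z) :
    ∃ d : ℕ, z ^ d * y ∈ (algebraMap B K).range := by
  obtain ⟨p, hpm, hp⟩ := hτ
  obtain ⟨d, hd⟩ : ∃ d : ℕ, d = p.natDegree := ⟨_, rfl⟩
  have key : z ^ d * y = - ∑ i ∈ Finset.range d,
      algebraMap B K (p.coeff i) * algebraMap B K c ^ (d - 1 - i) *
        (algebraMap B K c * (z ^ i * y)) := by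
    have h1 := hp
    rw [Polynomial.eval₂_eq_sum_range, ← hd, Finset.sum_range_succ, hd, hpm.coeff_natDegree,
      map_one, one_mul, ← hd] at h1
    have h2 : z ^ d = τ ^ d * algebraMap B K c ^ d := by rw [← hτz, mul_pow]
    have h3 : (∑ i ∈ Finset.range d, algebraMap B K (p.coeff i) *
        algebraMap B K c ^ (d - 1 - i) * (algebraMap B K c * (z ^ i * y))) =
        (∑ i ∈ Finset.range d, algebraMap B K (p.coeff i) * τ ^ i) *
          algebraMap B K c ^ d * y := by
      rw [Finset.sum_mul, Finset.sum_mul]
      refine Finset.sum_congr rfl fun i hi => ?_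
      have hi' : i < d := Finset.mem_range.mp hi
      have hdi : d = (d - 1 - i) + 1 + i := by omega
      have h4 : algebraMap B K c ^ d =
          algebraMap B K c ^ (d - 1 - i) * algebraMap B K c * algebraMap B K c ^ i := by
        conv_lhs => rw [hdi]
        rw [pow_add, pow_succ]
      rw [h4, ← hτz, mul_pow]
      ring
    rw [h3, h2, eq_neg_iff_add_eq_zero, ← add_mul, ← add_mul, add_comm, h1, zero_mul, zero_mul]
  refine ⟨d, ?_⟩
  rw [key]
  refine Subring.neg_mem _ (Subring.sum_mem _ fun i _ => ?_)
  exact Subring.mul_mem _ (Subring.mul_mem _ (RingHom.mem_range_self _ _)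
    (Subring.pow_mem _ (RingHom.mem_range_self _ _) _)) (hcz i)

/-- The conductor statement. -/
theorem exists_pow_mul_mem (hdim : ringKrullDim B ≤ 1) {x : integralClosure B K} (hx0 : x ≠ 0)
    (hxj : x ∈ Ideal.jacobson (⊥ : Ideal (integralClosure B K))) (y : integralClosure B K) :
    ∃ n : ℕ, ((x ^ n * y : integralClosure B K) : K) ∈ (algebraMap B K).range := by
  have hSD : IsDedekindDomain (integralClosure B K) := isDedekindDomain_integralClosure hdim
  have hSN : IsNoetherianRing (integralClosure B K) := isNoetherianRing_integralClosure hdim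
  have hinj := algebraMap_integralClosure_injective (B := B) (K := K)
  obtain ⟨c, hc0, hcpow⟩ := exists_conductor_pow_two x.2 y.2
  have hdimS : ringKrullDim (integralClosure B K) ≤ 1 := Ring.krullDimLE_iff.mp inferInstance
  obtain ⟨cS, hcS⟩ : ∃ cS : integralClosure B K, cS = algebraMap B (integralClosure B K) c :=
    ⟨_, rfl⟩
  have hcS0 : cS ≠ 0 := by
    rw [hcS]
    exact fun h => hc0 (hinj (by rw [h, map_zero]))
  have hcSK : (cS : K) = algebraMap B K c := by rw [hcS]; rfl
  obtain ⟨N, hN⟩ := GlueDimOne.exists_pow_mem_span hdimS hxj hcS0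
  rw [Ideal.mem_span_singleton'] at hN
  obtain ⟨τ, hτ⟩ := hN
  have hτK : (τ : K) * algebraMap B K c = (x : K) ^ N := by
    have h1 := congrArg (fun z : integralClosure B K => (z : K)) hτ
    simp only [Subalgebra.coe_mul, Subalgebra.coe_pow] at h1
    rw [hcSK] at h1
    exact h1
  have hcz : ∀ j : ℕ, algebraMap B K c * (((x : K) ^ N) ^ j * (y : K)) ∈
      (algebraMap B K).range := fun j => by
    rw [← pow_mul]
    have := hcpow (N * j) 1
    rwa [pow_one] at this
  obtain ⟨d, hd⟩ := exists_pow_mul_mem_of_isIntegral_of_mul_eq τ.2 hcz hτK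
  refine ⟨N * d, ?_⟩
  rw [Subalgebra.coe_mul, Subalgebra.coe_pow, pow_mul]
  exact hd

end Groth.Agent.Lib.Helper5.Conductor
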