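import Mathlib
import Groth.Prelude.Def_DRing2
import Groth.Agent.Lib.Helper1Cone
import Groth.Agent.Lib.Helper1LBC
import Groth.Agent.Lib.Helper1Extend
import Groth.Agent.Lib.Helper1TorD

/-!
# Cylinder splitting: homotopy equivalent complexes are stably isomorphic

* `nonempty_iso_biprod_of_contractible`: a degreewise split short exact sequence of cochain complexes
  with contractible quotient splits.
* `cyl_iso`: for `α : M ⟶ N` with contractible cone, `N ⊞ Cone(𝟙 M) ≅ M ⊞ Cone(α)`.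
-/

set_option autoImplicit false
universe u
open CategoryTheory CategoryTheory.Limits
attribute [local instance] HasDerivedCategory.standard

namespace Groth.Agent.Lib.Helper5.Cyl

open CochainComplex HomComplex

section General

variable {C : Type*} [Category C] [Abelian C]

/-- A degreewise split short exact sequence of cochain complexes whose quotient is contractible
is split. -/
lemma nonempty_iso_biprod_of_contractible (S : ShortComplex (CochainComplex C ℤ))
    (σ : ∀ n : ℤ, (S.map (HomologicalComplex.eval C (ComplexShape.up ℤ) n)).Splitting)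
    (c : Homotopy (𝟙 S.X₃) 0) : Nonempty (S.X₂ ≅ S.X₁ ⊞ S.X₃) := by
  have hS : S.ShortExact :=
    HomologicalComplex.shortExact_of_degreewise_shortExact S (fun n => (σ n).shortExact)
  obtain ⟨σs, hσs⟩ : ∃ σs : ∀ j, S.X₃.X j ⟶ S.X₂.X j, ∀ j, σs j ≫ S.g.f j = 𝟙 _ :=
    ⟨fun j => (σ j).s, fun j => (σ j).s_g⟩
  let s : S.X₃ ⟶ S.X₂ := Homotopy.nullHomotopicMap (fun i j => c.hom i j ≫ σs j)
  have hs : s ≫ S.g = 𝟙 S.X₃ := by
    rw [Homotopy.nullHomotopicMap_comp]
    have h1 : (fun i j => (c.hom i j ≫ σs j) ≫ S.g.f j) = c.hom := by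
      funext i j
      rw [Category.assoc, hσs, Category.comp_id]
    rw [h1]
    ext n
    have h2 := c.comm n
    simp only [HomologicalComplex.zero_f, add_zero] at h2
    exact h2.symm
  have := hS.mono_f
  exact ⟨(ShortComplex.Splitting.ofExactOfSection S hS.exact s hs inferInstance).isoBinaryBiproduct⟩

variable {M N : CochainComplex C ℤ} (α : M ⟶ N)

/-- the map `Cone(𝟙 M) ⟶ Cone(α)` induced by `(𝟙 M, α)` -/
noncomputable def cylMap : mappingCone (𝟙 M) ⟶ mappingCone α :=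
  mappingCone.map (𝟙 M) α (𝟙 M) α (by simp)

lemma inr_cylMap : mappingCone.inr (𝟙 M) ≫ cylMap α = α ≫ mappingCone.inr α := by
  simp [cylMap, mappingCone.map]

lemma inl_cylMap (p q : ℤ) (h : p + (-1) = q) :
    (mappingCone.inl (𝟙 M)).v p q h ≫ (cylMap α).f q = (mappingCone.inl α).v p q h := by
  simp [cylMap, mappingCone.map]

lemma cylMap_fst (p q : ℤ) (h : p + 1 = q) :
    (cylMap α).f p ≫ (mappingCone.fst α).1.v p q h = (mappingCone.fst (𝟙 M)).1.v p q h := by
  apply mappingCone.ext_from _ q p h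
  · rw [reassoc_of% (inl_cylMap α q p (by omega))]
    simp
  · have h1 : (mappingCone.inr (𝟙 M)).f p ≫ (cylMap α).f p = α.f p ≫ (mappingCone.inr α).f p :=
      HomologicalComplex.congr_hom (inr_cylMap α) p
    rw [reassoc_of% h1]
    simp

lemma cylMap_snd (p : ℤ) :
    (cylMap α).f p ≫ (mappingCone.snd α).v p p (add_zero p) =
      (mappingCone.snd (𝟙 M)).v p p (add_zero p) ≫ α.f p := by
  apply mappingCone.ext_from _ (p + 1) p rfl
  · rw [reassoc_of% (inl_cylMap α (p + 1) p (by omega))]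
    simp
  · have h1 : (mappingCone.inr (𝟙 M)).f p ≫ (cylMap α).f p = α.f p ≫ (mappingCone.inr α).f p :=
      HomologicalComplex.congr_hom (inr_cylMap α) p
    rw [reassoc_of% h1]
    simp

end General

section Cyl

variable {C : Type*} [Category C] [Abelian C] {M N : CochainComplex C ℤ} (α : M ⟶ N)

noncomputable def cylF : M ⟶ N ⊞ mappingCone (𝟙 M) := biprod.lift α (mappingCone.inr (𝟙 M))

noncomputable def cylG : N ⊞ mappingCone (𝟙 M) ⟶ mappingCone α :=
  biprod.desc (-(mappingCone.inr α)) (cylMap α)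

lemma cylF_cylG : cylF α ≫ cylG α = 0 := by
  rw [cylF, cylG, biprod.lift_desc, inr_cylMap, Preadditive.comp_neg, neg_add_cancel]

noncomputable def cylS : ShortComplex (CochainComplex C ℤ) :=
  ShortComplex.mk (cylF α) (cylG α) (cylF_cylG α)

/-- degreewise retraction -/
noncomputable def cylR (M N : CochainComplex C ℤ) (n : ℤ) : (N ⊞ mappingCone (𝟙 M)).X n ⟶ M.X n :=
  (biprod.snd : N ⊞ mappingCone (𝟙 M) ⟶ mappingCone (𝟙 M)).f n ≫
    (mappingCone.snd (𝟙 M)).v n n (add_zero n)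

/-- degreewise section -/
noncomputable def cylSec (n : ℤ) : (mappingCone α).X n ⟶ (N ⊞ mappingCone (𝟙 M)).X n :=
  -((mappingCone.snd α).v n n (add_zero n) ≫
      (biprod.inl : N ⟶ N ⊞ mappingCone (𝟙 M)).f n) +
    (mappingCone.fst α).1.v n (n + 1) rfl ≫ (mappingCone.inl (𝟙 M)).v (n + 1) n (by omega) ≫
      (biprod.inr : mappingCone (𝟙 M) ⟶ N ⊞ mappingCone (𝟙 M)).f n

lemma cylF_fst (n : ℤ) : (cylF α).f n ≫
    (biprod.fst : N ⊞ mappingCone (𝟙 M) ⟶ N).f n = α.f n :=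
  HomologicalComplex.congr_hom (biprod.lift_fst α (mappingCone.inr (𝟙 M))) n

lemma cylF_snd (n : ℤ) : (cylF α).f n ≫
    (biprod.snd : N ⊞ mappingCone (𝟙 M) ⟶ mappingCone (𝟙 M)).f n = (mappingCone.inr (𝟙 M)).f n :=
  HomologicalComplex.congr_hom (biprod.lift_snd α (mappingCone.inr (𝟙 M))) n

lemma inl_cylG (n : ℤ) : (biprod.inl : N ⟶ N ⊞ mappingCone (𝟙 M)).f n ≫ (cylG α).f n =
    -(mappingCone.inr α).f n :=
  HomologicalComplex.congr_hom (biprod.inl_desc (-(mappingCone.inr α)) (cylMap α)) n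

lemma inr_cylG (n : ℤ) : (biprod.inr : mappingCone (𝟙 M) ⟶ N ⊞ mappingCone (𝟙 M)).f n ≫
    (cylG α).f n = (cylMap α).f n :=
  HomologicalComplex.congr_hom (biprod.inr_desc (-(mappingCone.inr α)) (cylMap α)) n

lemma bi_total (X Y : CochainComplex C ℤ) (n : ℤ) :
    (biprod.fst : X ⊞ Y ⟶ X).f n ≫ (biprod.inl : X ⟶ X ⊞ Y).f n +
      (biprod.snd : X ⊞ Y ⟶ Y).f n ≫ (biprod.inr : Y ⟶ X ⊞ Y).f n = 𝟙 ((X ⊞ Y).X n) :=
  HomologicalComplex.congr_hom (biprod.total (X := X) (Y := Y)) n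

lemma bi_inl_snd (X Y : CochainComplex C ℤ) (n : ℤ) :
    (biprod.inl : X ⟶ X ⊞ Y).f n ≫ (biprod.snd : X ⊞ Y ⟶ Y).f n = 0 :=
  HomologicalComplex.congr_hom (biprod.inl_snd (X := X) (Y := Y)) n

lemma bi_inr_snd (X Y : CochainComplex C ℤ) (n : ℤ) :
    (biprod.inr : Y ⟶ X ⊞ Y).f n ≫ (biprod.snd : X ⊞ Y ⟶ Y).f n = 𝟙 _ :=
  HomologicalComplex.congr_hom (biprod.inr_snd (X := X) (Y := Y)) n

lemma cylF_eq (n : ℤ) : (cylF α).f n =
    α.f n ≫ (biprod.inl : N ⟶ N ⊞ mappingCone (𝟙 M)).f n +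
      (mappingCone.inr (𝟙 M)).f n ≫
        (biprod.inr : mappingCone (𝟙 M) ⟶ N ⊞ mappingCone (𝟙 M)).f n := by
  have h := congrArg (fun z => (cylF α).f n ≫ z) (bi_total N (mappingCone (𝟙 M)) n)
  simp only [Category.comp_id, Preadditive.comp_add] at h
  rw [← h, ← Category.assoc, ← Category.assoc, cylF_fst, cylF_snd]

lemma cyl_f_r (n : ℤ) : (cylF α).f n ≫ cylR M N n = 𝟙 (M.X n) := by
  rw [cylR, ← Category.assoc, cylF_snd]
  exact mappingCone.inr_f_snd_v (𝟙 M) n

lemma cyl_s_g (n : ℤ) : cylSec α n ≫ (cylG α).f n = 𝟙 ((mappingCone α).X n) := by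
  rw [cylSec, Preadditive.add_comp, Preadditive.neg_comp, Category.assoc, Category.assoc,
    Category.assoc, inl_cylG, inr_cylG, Preadditive.comp_neg, neg_neg,
    inl_cylMap α (n + 1) n (by omega), add_comm]
  exact mappingCone.id_X α n (n + 1) rfl

lemma cyl_id_inl (n : ℤ) : (biprod.inl : N ⟶ N ⊞ mappingCone (𝟙 M)).f n ≫
    (cylR M N n ≫ (cylF α).f n + (cylG α).f n ≫ cylSec α n) =
      (biprod.inl : N ⟶ N ⊞ mappingCone (𝟙 M)).f n := by
  rw [Preadditive.comp_add, cylR, ← Category.assoc, ← Category.assoc,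
    bi_inl_snd, zero_comp, zero_comp, zero_add, ← Category.assoc, inl_cylG, cylSec,
    Preadditive.comp_add, Preadditive.neg_comp, Preadditive.neg_comp, Preadditive.comp_neg,
    neg_neg, ← Category.assoc, mappingCone.inr_f_snd_v, Category.id_comp,
    ← Category.assoc, mappingCone.inr_f_fst_v, zero_comp, neg_zero, add_zero]

lemma cyl_id_inr (n : ℤ) : (biprod.inr : mappingCone (𝟙 M) ⟶ N ⊞ mappingCone (𝟙 M)).f n ≫
    (cylR M N n ≫ (cylF α).f n + (cylG α).f n ≫ cylSec α n) =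
      (biprod.inr : mappingCone (𝟙 M) ⟶ N ⊞ mappingCone (𝟙 M)).f n := by
  have e1 : (cylMap α).f n ≫ cylSec α n =
      -((mappingCone.snd (𝟙 M)).v n n (add_zero n) ≫ α.f n ≫
        (biprod.inl : N ⟶ N ⊞ mappingCone (𝟙 M)).f n) +
      (mappingCone.fst (𝟙 M)).1.v n (n + 1) rfl ≫ (mappingCone.inl (𝟙 M)).v (n + 1) n (by omega) ≫
        (biprod.inr : mappingCone (𝟙 M) ⟶ N ⊞ mappingCone (𝟙 M)).f n := by
    rw [cylSec, Preadditive.comp_add, Preadditive.comp_neg, ← Category.assoc, cylMap_snd,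
      Category.assoc, ← Category.assoc ((cylMap α).f n), cylMap_fst]
  have e2 := mappingCone.id_X (𝟙 M) n (n + 1) rfl
  rw [Preadditive.comp_add, cylR, ← Category.assoc, ← Category.assoc, bi_inr_snd,
    Category.id_comp, ← Category.assoc, inr_cylG, e1, cylF_eq, Preadditive.comp_add]
  have e3 : (mappingCone.snd (𝟙 M)).v n n (add_zero n) ≫ (mappingCone.inr (𝟙 M)).f n ≫
      (biprod.inr : mappingCone (𝟙 M) ⟶ N ⊞ mappingCone (𝟙 M)).f n +
      (mappingCone.fst (𝟙 M)).1.v n (n + 1) rfl ≫ (mappingCone.inl (𝟙 M)).v (n + 1) n (by omega) ≫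
        (biprod.inr : mappingCone (𝟙 M) ⟶ N ⊞ mappingCone (𝟙 M)).f n =
      (biprod.inr : mappingCone (𝟙 M) ⟶ N ⊞ mappingCone (𝟙 M)).f n := by
    rw [← Category.assoc, ← Category.assoc ((mappingCone.fst (𝟙 M)).1.v n (n + 1) rfl),
      ← Preadditive.add_comp, add_comm, e2, Category.id_comp]
  refine Eq.trans ?_ e3
  abel

lemma cyl_id (n : ℤ) : cylR M N n ≫ (cylF α).f n + (cylG α).f n ≫ cylSec α n =
    𝟙 ((N ⊞ mappingCone (𝟙 M)).X n) := by
  have h := congrArg (fun z => z ≫ (cylR M N n ≫ (cylF α).f n + (cylG α).f n ≫ cylSec α n))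
    (bi_total N (mappingCone (𝟙 M)) n)
  simp only [Category.id_comp, Preadditive.add_comp, Category.assoc] at h
  rw [cyl_id_inl, cyl_id_inr] at h
  rw [← h]
  exact bi_total N (mappingCone (𝟙 M)) n

noncomputable def cylSplit (n : ℤ) :
    ((cylS α).map (HomologicalComplex.eval C (ComplexShape.up ℤ) n)).Splitting where
  r := cylR M N n
  s := cylSec α n
  f_r := cyl_f_r α n
  s_g := cyl_s_g α n
  id := cyl_id α n

theorem cyl_iso (c : Homotopy (𝟙 (mappingCone α)) 0) :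
    Nonempty (N ⊞ mappingCone (𝟙 M) ≅ M ⊞ mappingCone α) :=
  nonempty_iso_biprod_of_contractible (cylS α) (cylSplit α) c

end Cyl

end Groth.Agent.Lib.Helper5.Cyl
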