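import Mathlib
import Groth.Prelude.Def_DRing2
import Groth.Agent.Lib.Helper5Cyl

/-!
# Stable isomorphism of quasi-isomorphic bounded complexes of finite projectives, near a prime
-/

set_option autoImplicit false
universe u
open CategoryTheory CategoryTheory.Limits
attribute [local instance] HasDerivedCategory.standard

namespace Groth.Agent.Lib.Helper5.Cyl

open DerivedCategory Pretriangulated
open Groth.Agent.Lib.Helper1.Extend (ext extEquiv)

section Cone

variable {R : Type u} [CommRing R]

lemma cone_X_equiv {X Y : DRing.Cx R} (f : X ⟶ Y) (i : ℤ) :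
    Nonempty ((CochainComplex.mappingCone f).X i ≃ₗ[R] (X.X (i + 1) × Y.X i)) := by
  have := HomologicalComplex.HasHomotopyCofiber.hasBinaryBiproduct f i (i + 1) rfl
  have e : (CochainComplex.mappingCone f).X i ≅ ModuleCat.of R (X.X (i + 1) × Y.X i) :=
    HomologicalComplex.homotopyCofiber.XIsoBiprod f i (i + 1) rfl ≪≫ ModuleCat.biprodIsoProd _ _
  exact ⟨e.toLinearEquiv⟩

lemma cone_tfp {X Y : DRing.Cx R} (f : X ⟶ Y) (hX : DRing.TermwiseFiniteProjective X)
    (hY : DRing.TermwiseFiniteProjective Y) :
    DRing.TermwiseFiniteProjective (CochainComplex.mappingCone f) := by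
  intro i
  obtain ⟨e⟩ := cone_X_equiv f i
  haveI := (hX (i + 1)).1
  haveI := (hX (i + 1)).2
  haveI := (hY i).1
  haveI := (hY i).2
  exact ⟨Module.Finite.equiv e.symm, Module.Projective.of_equiv e.symm⟩

lemma cone_vanishesOutside {X Y : DRing.Cx R} (f : X ⟶ Y) (a b : ℤ)
    (hX : DRing.VanishesOutside X a b) (hY : DRing.VanishesOutside Y a b) :
    DRing.VanishesOutside (CochainComplex.mappingCone f) (a - 1) b := by
  intro i hi
  rw [CochainComplex.mappingCone.isZero_X_iff]
  exact ⟨hX _ (by omega), hY _ (by omega)⟩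

lemma contractible_cone {X Y : DRing.Cx R} (f : X ⟶ Y) (b : ℤ) (hXb : DRing.VanishesAbove X b)
    (hYb : DRing.VanishesAbove Y b) (hXp : ∀ i, Module.Projective R (X.X i))
    (hYp : ∀ i, Module.Projective R (Y.X i)) (hf : IsIso (Q.map f)) :
    Nonempty (Homotopy (𝟙 (CochainComplex.mappingCone f)) 0) := by
  have hTb : DRing.VanishesAbove (CochainComplex.mappingCone f) b := by
    have := Groth.Agent.Lib.Helper1.Tor.vanishesAbove_mappingCone f b b hXb hYb
    rwa [max_self] at this
  have hTp : ∀ i, Module.Projective R ((CochainComplex.mappingCone f).X i) := by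
    intro i
    obtain ⟨e⟩ := cone_X_equiv f i
    haveI := hXp (i + 1)
    haveI := hYp i
    exact Module.Projective.of_equiv e.symm
  haveI : (CochainComplex.mappingCone f).IsKProjective :=
    Groth.Agent.Lib.Helper1.LDer.isKProjective_of_vanishesAbove _ b hTb hTp
  have hT := DerivedCategory.mappingCone_triangle_distinguished f
  have hz : IsZero (Q.obj (CochainComplex.mappingCone f)) :=
    (Triangle.isZero₃_iff_isIso₁ _ hT).2 hf
  exact CochainComplex.IsKProjective.nonempty_homotopy_zero (𝟙 _)
    (fun i => Groth.Agent.Lib.Helper1.Tor.exactAt_of_isZero_Q _ hz i)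

end Cone

section Ranges

variable {R : Type u} [CommRing R] (T : DRing.Cx R) (c : Homotopy (𝟙 T) 0)

/-- the idempotent `c ≫ d` on `T^{i+1}` -/
noncomputable def idem (i : ℤ) : T.X (i + 1) ⟶ T.X (i + 1) := c.hom (i + 1) i ≫ T.d i (i + 1)

lemma d_idem (i : ℤ) : T.d i (i + 1) ≫ idem T c i = T.d i (i + 1) := by
  have h := c.comm (i + 1)
  rw [dNext_eq c.hom (show (ComplexShape.up ℤ).Rel (i + 1) (i + 1 + 1) from rfl),
    prevD_eq c.hom (show (ComplexShape.up ℤ).Rel i (i + 1) from rfl)] at h
  simp only [HomologicalComplex.id_f, HomologicalComplex.zero_f, add_zero] at h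
  have h2 := congrArg (fun z => T.d i (i + 1) ≫ z) h
  simp only [Category.comp_id, Preadditive.comp_add, HomologicalComplex.d_comp_d_assoc,
    zero_comp, zero_add] at h2
  exact h2.symm

lemma idem_idem (i : ℤ) : idem T c i ≫ idem T c i = idem T c i := by
  show (c.hom (i + 1) i ≫ T.d i (i + 1)) ≫ idem T c i = _
  rw [Category.assoc, d_idem]
  rfl

lemma range_idem_fp (hT : DRing.TermwiseFiniteProjective T) (i : ℤ) :
    Module.Finite R (ModuleCat.of R (LinearMap.range (idem T c i).hom)) ∧
      Module.Projective R (ModuleCat.of R (LinearMap.range (idem T c i).hom)) := by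
  haveI := (hT (i + 1)).1
  haveI := (hT (i + 1)).2
  refine ⟨inferInstanceAs (Module.Finite R (LinearMap.range (idem T c i).hom)), ?_⟩
  show Module.Projective R (LinearMap.range (idem T c i).hom)
  refine Module.Projective.of_split (LinearMap.range (idem T c i).hom).subtype
    (idem T c i).hom.rangeRestrict ?_
  ext ⟨y, x, rfl⟩
  have h := congrArg (fun z => z.hom x) (idem_idem T c i)
  simpa using h

variable (S : Type u) [CommRing S] [Algebra R S]

lemma range_ext_idem_equiv {X : ModuleCat.{u} R} (e : X ⟶ X) (he : e ≫ e = e) :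
    Nonempty (LinearMap.range ((ext R S).map e).hom ≃ₗ[S]
      (ext R S).obj (ModuleCat.of R (LinearMap.range e.hom))) := by
  obtain ⟨D, ι, ρ, h1, h2, hD⟩ : ∃ (D : ModuleCat.{u} R) (ι : D ⟶ X) (ρ : X ⟶ D),
      ι ≫ ρ = 𝟙 D ∧ ρ ≫ ι = e ∧ D = ModuleCat.of R (LinearMap.range e.hom) := by
    refine ⟨ModuleCat.of R (LinearMap.range e.hom),
      ModuleCat.ofHom (LinearMap.range e.hom).subtype, ModuleCat.ofHom e.hom.rangeRestrict,
      ?_, ?_, rfl⟩
    · ext ⟨y, x, rfl⟩
      have h := congrArg (fun z => z.hom x) he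
      simpa using h
    · ext x
      rfl
  subst hD
  have h1' : (ext R S).map ι ≫ (ext R S).map ρ = 𝟙 _ := by
    rw [← Functor.map_comp, h1, CategoryTheory.Functor.map_id]
  have h2' : (ext R S).map ρ ≫ (ext R S).map ι = (ext R S).map e := by
    rw [← Functor.map_comp, h2]
  have hx : ∀ x, ((ext R S).map ρ).hom (((ext R S).map ι).hom x) = x := by
    intro x
    have h := congrArg (fun z => z.hom x) h1'
    simpa using h
  have hy : ∀ x, ((ext R S).map ι).hom (((ext R S).map ρ).hom x) = ((ext R S).map e).hom x := by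
    intro x
    have h := congrArg (fun z => z.hom x) h2'
    simpa using h
  have hinj : Function.Injective ((ext R S).map ι).hom := by
    intro x y hxy
    have h := congrArg ((ext R S).map ρ).hom hxy
    rwa [hx, hx] at h
  have hr : LinearMap.range ((ext R S).map ι).hom = LinearMap.range ((ext R S).map e).hom := by
    apply le_antisymm
    · rintro _ ⟨x, rfl⟩
      refine ⟨((ext R S).map ι).hom x, ?_⟩
      rw [← hy, hx]
    · rintro _ ⟨x, rfl⟩
      exact ⟨((ext R S).map ρ).hom x, hy x⟩
  exact ⟨((LinearEquiv.ofInjective _ hinj).trans (LinearEquiv.ofEq _ _ hr)).symm⟩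

lemma range_ext_d_eq (i : ℤ) :
    LinearMap.range ((ext R S).map (T.d i (i + 1))).hom =
      LinearMap.range ((ext R S).map (idem T c i)).hom := by
  have h1 : (ext R S).map (T.d i (i + 1)) ≫ (ext R S).map (idem T c i) =
      (ext R S).map (T.d i (i + 1)) := by
    rw [← Functor.map_comp, d_idem]
  have h2 : (ext R S).map (c.hom (i + 1) i) ≫ (ext R S).map (T.d i (i + 1)) =
      (ext R S).map (idem T c i) := by
    rw [← Functor.map_comp]
    rfl
  apply le_antisymm
  · rintro _ ⟨x, rfl⟩
    refine ⟨((ext R S).map (T.d i (i + 1))).hom x, ?_⟩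
    have h := congrArg (fun z => z.hom x) h1
    simpa using h
  · rintro _ ⟨x, rfl⟩
    refine ⟨((ext R S).map (c.hom (i + 1) i)).hom x, ?_⟩
    have h := congrArg (fun z => z.hom x) h2
    simpa using h

lemma free_ext_of_isZero (X : ModuleCat.{u} R) (h : IsZero X) :
    Module.Free S ((ext R S).obj X) := by
  haveI : Subsingleton ((ext R S).obj X) :=
    ModuleCat.subsingleton_of_isZero ((ext R S).map_isZero h)
  exact Module.Free.of_subsingleton _ _

end Ranges

end Groth.Agent.Lib.Helper5.Cyl
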