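import Mathlib
import Groth.Prelude.Def_DRing2
import Groth.Agent.Lib.Helper5Cyl2

/-!
# Stable isomorphism near a prime: freeness after localization and assembly
-/

set_option autoImplicit false
universe u
open CategoryTheory CategoryTheory.Limits
attribute [local instance] HasDerivedCategory.standard

namespace Groth.Agent.Lib.Helper5.Cyl

open DerivedCategory Pretriangulated
open Groth.Agent.Lib.Helper1.Extend (ext extEquiv)

section Free

variable {R : Type u} [CommRing R]

lemma free_ext_of_dvd (p : Ideal R) [p.IsPrime] (X : ModuleCat.{u} R) [Module.Finite R X]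
    [Module.Projective R X] :
    ∃ r : R, r ∉ p ∧ ∀ h : R, r ∣ h →
      Module.Free (Localization.Away h) ((ext R (Localization.Away h)).obj X) := by
  haveI : Module.FinitePresentation R X := Module.finitePresentation_of_projective R X
  haveI : Module.Free (Localization.AtPrime p) (LocalizedModule p.primeCompl X) :=
    Module.free_of_flat_of_isLocalRing
  obtain ⟨r, hr, hfree, -⟩ := Module.FinitePresentation.exists_free_localizedModule_powers
    p.primeCompl (LocalizedModule.mkLinearMap p.primeCompl X) (Localization.AtPrime p)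
  refine ⟨r, hr, fun h hrh => ?_⟩
  have hu : IsUnit (algebraMap R (Localization.Away h) r) := by
    obtain ⟨t, rfl⟩ := hrh
    have h1 := IsLocalization.Away.algebraMap_isUnit (S := Localization.Away (r * t)) (r * t)
    rw [map_mul] at h1
    exact isUnit_of_mul_isUnit_left h1
  let ψ : Localization.Away r →+* Localization.Away h := IsLocalization.Away.lift r hu
  letI : Algebra (Localization.Away r) (Localization.Away h) := ψ.toAlgebra
  haveI : IsScalarTower R (Localization.Away r) (Localization.Away h) :=
    IsScalarTower.of_algebraMap_eq (fun x => (IsLocalization.Away.lift_eq r hu x).symm)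
  let e1 := (IsLocalizedModule.isBaseChange (Submonoid.powers r) (Localization.Away r)
    (LocalizedModule.mkLinearMap (Submonoid.powers r) X)).equiv
  haveI : Module.Free (Localization.Away r) (TensorProduct R (Localization.Away r) X) :=
    Module.Free.of_equiv e1.symm
  let e2 := TensorProduct.AlgebraTensorModule.cancelBaseChange R (Localization.Away r)
    (Localization.Away h) (Localization.Away h) X
  haveI : Module.Free (Localization.Away h) (TensorProduct R (Localization.Away h) X) :=
    Module.Free.of_equiv e2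
  exact Module.Free.of_equiv (extEquiv (A := R) (B := Localization.Away h) X).symm

lemma free_ext_list (p : Ideal R) [p.IsPrime] (l : List (ModuleCat.{u} R))
    (hl : ∀ X ∈ l, Module.Finite R X ∧ Module.Projective R X) :
    ∃ r : R, r ∉ p ∧ ∀ h : R, r ∣ h → ∀ X ∈ l,
      Module.Free (Localization.Away h) ((ext R (Localization.Away h)).obj X) := by
  induction l with
  | nil =>
    exact ⟨1, (Ideal.ne_top_iff_one p).1 (Ideal.IsPrime.ne_top ‹_›),
      fun h _ X hX => absurd hX (List.not_mem_nil)⟩
  | cons X l ih =>
    obtain ⟨r₂, hr₂, H₂⟩ := ih (fun Y hY => hl Y (List.mem_cons_of_mem _ hY))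
    haveI := (hl X List.mem_cons_self).1
    haveI := (hl X List.mem_cons_self).2
    obtain ⟨r₁, hr₁, H₁⟩ := free_ext_of_dvd p X
    refine ⟨r₁ * r₂, fun hmem => (Ideal.IsPrime.mem_or_mem ‹_› hmem).elim hr₁ hr₂,
      fun h hh Y hY => ?_⟩
    rcases List.mem_cons.1 hY with rfl | hY
    · exact H₁ h (dvd_trans (dvd_mul_right _ _) hh)
    · exact H₂ h (dvd_trans (dvd_mul_left _ _) hh) Y hY

end Free

section Good

variable {R : Type u} [CommRing R] (T : DRing.Cx R) (c : Homotopy (𝟙 T) 0)

/-- the finite list of modules whose freeness is needed -/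
noncomputable def modList (a' b' : ℤ) : List (ModuleCat.{u} R) :=
  (Finset.Icc (a' - 1) b').toList.map (fun i => T.X i) ++
    (Finset.Icc (a' - 1) b').toList.map
      (fun i => ModuleCat.of R (LinearMap.range (idem T c i).hom))

lemma modList_fp (a' b' : ℤ) (hTp : DRing.TermwiseFiniteProjective T) :
    ∀ X ∈ modList T c a' b', Module.Finite R X ∧ Module.Projective R X := by
  intro X hX
  rcases List.mem_append.1 hX with h | h
  · obtain ⟨i, -, rfl⟩ := List.mem_map.1 h
    exact hTp i
  · obtain ⟨i, -, rfl⟩ := List.mem_map.1 h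
    exact range_idem_fp T c hTp i

variable (S : Type u) [CommRing S] [Algebra R S]

theorem good_of_modList (a' b' : ℤ) (hT : DRing.VanishesOutside T a' b')
    (hTp : DRing.TermwiseFiniteProjective T)
    (hfree : ∀ X ∈ modList T c a' b', Module.Free S ((ext R S).obj X)) :
    (∃ a'' b'' : ℤ, DRing.VanishesOutside
        (((ext R S).mapHomologicalComplex (ComplexShape.up ℤ)).obj T) a'' b'') ∧
      DRing.TermwiseFiniteFree (((ext R S).mapHomologicalComplex (ComplexShape.up ℤ)).obj T) ∧
      (∀ i : ℤ, Module.Free S (LinearMap.range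
        ((((ext R S).mapHomologicalComplex (ComplexShape.up ℤ)).obj T).d i (i + 1)).hom)) ∧
      Nonempty (Homotopy (𝟙 (((ext R S).mapHomologicalComplex (ComplexShape.up ℤ)).obj T)) 0) := by
  have hfreeX : ∀ i, Module.Free S ((ext R S).obj (T.X i)) := by
    intro i
    by_cases hi : i ∈ Finset.Icc (a' - 1) b'
    · exact hfree _ (List.mem_append_left _ (List.mem_map.2 ⟨i, Finset.mem_toList.2 hi, rfl⟩))
    · refine free_ext_of_isZero S _ (hT i ?_)
      rw [Finset.mem_Icc] at hi
      omega
  have hfreeD : ∀ i, Module.Free S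
      ((ext R S).obj (ModuleCat.of R (LinearMap.range (idem T c i).hom))) := by
    intro i
    by_cases hi : i ∈ Finset.Icc (a' - 1) b'
    · exact hfree _ (List.mem_append_right _ (List.mem_map.2 ⟨i, Finset.mem_toList.2 hi, rfl⟩))
    · refine free_ext_of_isZero S _ ?_
      have hz : IsZero (T.X (i + 1)) := hT (i + 1) (by rw [Finset.mem_Icc] at hi; omega)
      haveI : Subsingleton (T.X (i + 1)) := ModuleCat.subsingleton_of_isZero hz
      haveI : Subsingleton (LinearMap.range (idem T c i).hom) := inferInstance
      exact ModuleCat.isZero_of_subsingleton _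
  refine ⟨⟨a', b', fun i hi => (ext R S).map_isZero (hT i hi)⟩, fun i => ⟨?_, hfreeX i⟩, ?_, ?_⟩
  · haveI := (hTp i).1
    haveI : Module.Finite S (TensorProduct R S (T.X i)) := inferInstance
    exact Module.Finite.equiv (extEquiv (A := R) (B := S) (T.X i)).symm
  · intro i
    obtain ⟨e⟩ := range_ext_idem_equiv S (idem T c i) (idem_idem T c i)
    haveI := hfreeD i
    have h1 : LinearMap.range
        ((((ext R S).mapHomologicalComplex (ComplexShape.up ℤ)).obj T).d i (i + 1)).hom =
        LinearMap.range ((ext R S).map (idem T c i)).hom := range_ext_d_eq T c S i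
    rw [h1]
    exact Module.Free.of_equiv e.symm
  · have h := (ext R S).mapHomotopy c
    rw [CategoryTheory.Functor.map_id, Functor.map_zero] at h
    exact ⟨h⟩

end Good

section Main

variable (R : Type u) [CommRing R]

theorem stable_iso (p : Ideal R) [p.IsPrime]
    (M N : DRing.Cx R) (a b : ℤ) (hM : DRing.VanishesOutside M a b)
    (hN : DRing.VanishesOutside N a b)
    (hMp : DRing.TermwiseFiniteProjective M) (hNp : DRing.TermwiseFiniteProjective N)
    (h : Nonempty (DRing.toD M ≅ DRing.toD N)) :
    ∃ f : R, f ∉ p ∧ ∃ P Q : DRing.Cx (Localization.Away f),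
      ((∃ a' b' : ℤ, DRing.VanishesOutside P a' b') ∧ DRing.TermwiseFiniteFree P ∧
          (∀ i : ℤ, Module.Free (Localization.Away f) (LinearMap.range (P.d i (i + 1)).hom)) ∧
          Nonempty (Homotopy (𝟙 P) 0)) ∧
      ((∃ a' b' : ℤ, DRing.VanishesOutside Q a' b') ∧ DRing.TermwiseFiniteFree Q ∧
          (∀ i : ℤ, Module.Free (Localization.Away f) (LinearMap.range (Q.d i (i + 1)).hom)) ∧
          Nonempty (Homotopy (𝟙 Q) 0)) ∧
      Nonempty ((((ModuleCat.extendScalars (algebraMap R (Localization.Away f))).mapHomologicalComplex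
          (ComplexShape.up ℤ)).obj M) ⊞ P ≅
        (((ModuleCat.extendScalars (algebraMap R (Localization.Away f))).mapHomologicalComplex
          (ComplexShape.up ℤ)).obj N) ⊞ Q) := by
  obtain ⟨e⟩ := h
  have hMb : DRing.VanishesAbove M b := fun i hi => hM i (Or.inr hi)
  have hNb : DRing.VanishesAbove N b := fun i hi => hN i (Or.inr hi)
  haveI : M.IsKProjective :=
    Groth.Agent.Lib.Helper1.LDer.isKProjective_of_vanishesAbove M b hMb (fun i => (hMp i).2)
  obtain ⟨α, hα⟩ := Groth.Agent.Lib.Helper1.Cone.exists_chain_map M N e.hom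
  have hαi : IsIso (Q.map α) := by
    rw [hα]
    infer_instance
  obtain ⟨c₁⟩ := contractible_cone α b hMb hNb (fun i => (hMp i).2) (fun i => (hNp i).2) hαi
  let c₂ : Homotopy (𝟙 (CochainComplex.mappingCone (𝟙 M))) 0 :=
    CochainComplex.mappingCone.homotopyToZeroOfId M
  obtain ⟨iso₀⟩ := cyl_iso α c₁
  have hT₁ := cone_vanishesOutside α a b hM hN
  have hT₂ := cone_vanishesOutside (𝟙 M) a b hM hM
  have hT₁p := cone_tfp α hMp hNp
  have hT₂p := cone_tfp (𝟙 M) hMp hMp
  obtain ⟨r, hr, H⟩ := free_ext_list p
    (modList (CochainComplex.mappingCone α) c₁ (a - 1) b ++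
      modList (CochainComplex.mappingCone (𝟙 M)) c₂ (a - 1) b)
    (fun X hX => (List.mem_append.1 hX).elim (modList_fp _ c₁ _ _ hT₁p X)
      (modList_fp _ c₂ _ _ hT₂p X))
  have H' := H r dvd_rfl
  refine ⟨r, hr, ((ext R (Localization.Away r)).mapHomologicalComplex (ComplexShape.up ℤ)).obj
      (CochainComplex.mappingCone α),
    ((ext R (Localization.Away r)).mapHomologicalComplex (ComplexShape.up ℤ)).obj
      (CochainComplex.mappingCone (𝟙 M)),
    good_of_modList _ c₁ (Localization.Away r) (a - 1) b hT₁ hT₁p
      (fun X hX => H' X (List.mem_append_left _ hX)),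
    good_of_modList _ c₂ (Localization.Away r) (a - 1) b hT₂ hT₂p
      (fun X hX => H' X (List.mem_append_right _ hX)), ?_⟩
  let F' := (ext R (Localization.Away r)).mapHomologicalComplex (ComplexShape.up ℤ)
  haveI : PreservesBinaryBiproducts F' := preservesBinaryBiproducts_of_preservesBiproducts F'
  exact ⟨(F'.mapBiprod M (CochainComplex.mappingCone α)).symm ≪≫ F'.mapIso iso₀.symm ≪≫
    F'.mapBiprod N (CochainComplex.mappingCone (𝟙 M))⟩

end Main

end Groth.Agent.Lib.Helper5.Cyl
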