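import Mathlib
import Groth.Agent.Lib.Helper5TruncB
import Groth.Agent.Lib.Helper5IntegralMod

/-!
# `(S_k)` for an equidimensional module via the supports of `Ext^j(M, ω)` (helper5)

`A` Noetherian local, `ω` normalized dualizing, `δ` its dimension function (`δ p = dim A/p`).
* `exists_minimal_chain_module`: a chain of maximal length in `Supp M` below `q` starts at a minimal
  prime of `Supp M`.
* `delta_add_height_eq`: for `M` equidimensional of dimension `D`, `δ q + dim M_q = D` on `Supp M`.
* `supportDim_le_of_delta_le`.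
* `sk_iff_equidim`.
-/

set_option autoImplicit false
universe u
open CategoryTheory CategoryTheory.Limits
attribute [local instance] HasDerivedCategory.standard

namespace Groth.Agent.Lib.Helper5.LocD

open DerivedCategory Pretriangulated
open Groth.Agent.Lib.Helper5.DualDim Groth.Agent.Lib.Helper5.DualMin
open Groth.Agent.Lib.Helper5.DualLocal

variable {A : Type u} [CommRing A] [IsLocalRing A] [IsNoetherianRing A]

section Supp

variable (M : Type u) [AddCommGroup M] [Module A M] [Module.Finite A M]

lemma annihilator_le_of_mem_support (q : PrimeSpectrum A) (hq : q ∈ Module.support A M) :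
    Module.annihilator A M ≤ q.asIdeal := by
  rw [Module.support_eq_zeroLocus, PrimeSpectrum.mem_zeroLocus] at hq
  exact hq

lemma mem_support_of_annihilator_le (q : PrimeSpectrum A)
    (h : Module.annihilator A M ≤ q.asIdeal) : q ∈ Module.support A M := by
  rw [Module.support_eq_zeroLocus, PrimeSpectrum.mem_zeroLocus]
  exact h

lemma coheight_le_supportDim' {E : Type*} [AddCommGroup E] [Module A E] (q : PrimeSpectrum A)
    (hq : q ∈ Module.support A E) :
    ((Order.coheight q : ℕ∞) : WithBot ℕ∞) ≤ Module.supportDim A E := by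
  rw [Order.coheight_eq_krullDim_Ici]
  exact Order.krullDim_le_of_strictMono
    (fun x : Set.Ici q => (⟨x.1, Module.mem_support_mono x.2 hq⟩ : Module.support A E))
    (fun a b h => h)

end Supp

section Delta

variable (δ : PrimeSpectrum A → ℤ)
  (h2 : ∀ p q : PrimeSpectrum A, p ⋖ q → δ p = δ q + 1)
  (h0 : δ (IsLocalRing.closedPoint A) = 0)
  (M : Type u) [AddCommGroup M] [Module A M] [Module.Finite A M]

include h2 in
lemma exists_minimal_chain_module (q : PrimeSpectrum A) (hq : q ∈ Module.support A M) (e : ℕ)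
    (he : Order.height (⟨q, hq⟩ : Module.support A M) = e) :
    ∃ q0 : PrimeSpectrum A, q0.asIdeal ∈ (Module.annihilator A M).minimalPrimes ∧ q0 ≤ q ∧
      δ q + e ≤ δ q0 := by
  obtain ⟨s, hlast, hlen⟩ := Order.exists_series_of_height_eq_coe _ he
  have hmin : IsMin s.head := by
    intro x hx
    by_contra hnot
    have hlt : x < s.head := lt_of_le_not_ge hx hnot
    have h3 : ((s.cons x hlt).length : ℕ∞) ≤ Order.height (s.cons x hlt).last :=
      Order.length_le_height_last
    rw [RelSeries.last_cons, hlast, he, RelSeries.cons_length, hlen] at h3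
    have h4 : e + 1 ≤ e := by exact_mod_cast h3
    lia
  have hchain := delta_chain δ h2 (s.map Subtype.val (fun _ _ h => h))
  rw [LTSeries.last_map, LTSeries.head_map, hlast] at hchain
  have hlen' : (s.map Subtype.val (fun _ _ h => h)).length = e := hlen
  rw [hlen'] at hchain
  have hhead : (s.head).1 ∈ Module.support A M := (s.head).2
  refine ⟨(s.head).1, ?_, ?_, hchain⟩
  · refine ⟨⟨(s.head).1.isPrime, ?_⟩, fun r hr hle => ?_⟩
    · exact annihilator_le_of_mem_support M _ hhead
    · have hr' : (⟨r, hr.1⟩ : PrimeSpectrum A) ∈ Module.support A M :=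
        mem_support_of_annihilator_le M _ hr.2
      have h5 : (⟨⟨r, hr.1⟩, hr'⟩ : Module.support A M) ≤ s.head := hle
      exact hmin h5
  · have h3 : s.head ≤ s.last := LTSeries.head_le_last s
    rw [hlast] at h3
    exact h3

include h2 h0 in
lemma supportDim_le_of_delta_le (E : Type*) [AddCommGroup E] [Module A E] (n : ℕ)
    (h : ∀ q ∈ Module.support A E, δ q ≤ n) : Module.supportDim A E ≤ (n : WithBot ℕ∞) := by
  show (⨆ (s : LTSeries (Module.support A E)), (s.length : WithBot ℕ∞)) ≤ _
  refine iSup_le fun s => ?_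
  have hchain := delta_chain δ h2 (s.map Subtype.val (fun _ _ h => h))
  rw [LTSeries.last_map, LTSeries.head_map] at hchain
  have hlen' : (s.map Subtype.val (fun _ _ h => h)).length = s.length := rfl
  rw [hlen'] at hchain
  have h3 := h (s.head).1 (s.head).2
  have h4 := delta_nonneg δ h2 h0 (s.last).1
  have h5 : s.length ≤ n := by lia
  exact_mod_cast h5

end Delta

section Main

variable (ω : Dual.D A) (hω : Dual.IsDualizing A ω) (δ : PrimeSpectrum A → ℤ)
  (h1 : ∀ (p : PrimeSpectrum A) (i : ℤ),
    Nontrivial (LocalizedModule p.asIdeal.primeCompl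
      (Dual.inD A (A ⧸ p.asIdeal) ⟶ ω⟦i⟧)) ↔ i = -δ p)
  (h2 : ∀ p q : PrimeSpectrum A, p ⋖ q → δ p = δ q + 1)
  (h0 : δ (IsLocalRing.closedPoint A) = 0)
  (M : Type u) [AddCommGroup M] [Module A M] [Module.Finite A M]

include h2 h0 in
lemma delta_eq_of_minimalPrimes (hM : EGA4.IsEquidimModule A M) (D : ℕ)
    (hD : Module.supportDim A M = D) (q0 : PrimeSpectrum A)
    (hq0 : q0.asIdeal ∈ (Module.annihilator A M).minimalPrimes) : δ q0 = D := by
  have h3 := hM q0.asIdeal hq0
  rw [hD, ringKrullDim_quotient_eq δ h2 h0 q0] at h3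
  have h4 : (δ q0).toNat = D := by exact_mod_cast h3
  have h5 := delta_nonneg δ h2 h0 q0
  lia

include hω h1 h2 h0 in
theorem delta_add_height_eq (hM : EGA4.IsEquidimModule A M) (D : ℕ)
    (hD : Module.supportDim A M = D) (q : PrimeSpectrum A) (hq : q ∈ Module.support A M) (e : ℕ)
    (he : Order.height (⟨q, hq⟩ : Module.support A M) = e) : δ q + e = D := by
  apply le_antisymm
  · obtain ⟨q0, hq0min, _, hq0δ⟩ := exists_minimal_chain_module δ h2 M q hq e he
    have := delta_eq_of_minimalPrimes δ h2 h0 M hM D hD q0 hq0min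
    lia
  · have hann : Module.annihilator A M ≤ q.asIdeal := annihilator_le_of_mem_support M q hq
    obtain ⟨r, hr, hrq⟩ := Ideal.exists_minimalPrimes_le hann
    have hr' : (⟨r, hr.1.1⟩ : PrimeSpectrum A) ∈ Module.support A M :=
      mem_support_of_annihilator_le M _ hr.1.2
    have hδr := delta_eq_of_minimalPrimes δ h2 h0 M hM D hD ⟨r, hr.1.1⟩ hr
    have hmin : IsMin (⟨⟨r, hr.1.1⟩, hr'⟩ : Module.support A M) := by
      intro x hx
      have hx' : Module.annihilator A M ≤ x.1.asIdeal :=
        annihilator_le_of_mem_support M x.1 x.2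
      exact hr.2 ⟨x.1.isPrime, hx'⟩ hx
    obtain ⟨e1, d1, _, _, _, hht1, _, hme1, _⟩ := profile ω hω δ h1 h2 M ⟨r, hr.1.1⟩ hr'
    have he1 : e1 = 0 := by
      have h6 : Order.height (⟨⟨r, hr.1.1⟩, hr'⟩ : Module.support A M) = 0 :=
        Order.height_eq_zero.mpr hmin
      rw [h6] at hht1
      exact_mod_cast hht1.symm
    rw [he1, hδr] at hme1
    have hqE : q ∈ Module.support A (Dual.inD A M ⟶ ω⟦-(D : ℤ) - ((0 : ℕ) : ℤ)⟧) :=
      Module.mem_support_mono (show (⟨r, hr.1.1⟩ : PrimeSpectrum A) ≤ q from hrq) hme1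
    obtain ⟨e', d', _, _, _, hht', hrange', _, _⟩ := profile ω hω δ h1 h2 M q hq
    have hee : e' = e := by
      rw [he] at hht'
      exact_mod_cast hht'.symm
    have h7 := (hrange' _ hqE).1
    rw [hee] at h7
    push_cast at h7
    lia

include hω h1 h2 h0 in
theorem sk_iff_equidim (hM : EGA4.IsEquidimModule A M) (D : ℕ)
    (hD : Module.supportDim A M = D) (k : ℕ) :
    LocCoh.HasSk k A M ↔
      ∀ j : ℤ, j ≠ -(D : ℤ) →
        (-j - (k : ℤ) < 0 → Subsingleton (Dual.inD A M ⟶ ω⟦j⟧)) ∧
        (0 ≤ -j - (k : ℤ) → Module.supportDim A (Dual.inD A M ⟶ ω⟦j⟧) ≤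
          ((-j - (k : ℤ)).toNat : WithBot ℕ∞)) := by
  rw [hasSk_iff_good]
  constructor
  · intro hS
    have key : ∀ j : ℤ, j ≠ -(D : ℤ) → ∀ q ∈ Module.support A (Dual.inD A M ⟶ ω⟦j⟧),
        δ q ≤ -j - k := by
      intro j hj q hqE
      have hqM := mem_support_of_mem_support_hom ω hω M q j hqE
      obtain ⟨e, d', hde, hsd, hdp, hht, hrange, _, _⟩ := profile ω hω δ h1 h2 M q hqM
      have hK := delta_add_height_eq ω hω δ h1 h2 h0 M hM D hD q hqM e hht
      have hr := hrange j hqE
      have hg := (mem_good_iff M k q e d' hsd hdp).mp (hS q)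
      rcases min_le_iff.mp hg with hk | he
      · lia
      · exfalso
        apply hj
        lia
    intro j hj
    constructor
    · intro hneg
      by_contra hns
      have hne : (Module.support A (Dual.inD A M ⟶ ω⟦j⟧)).Nonempty := by
        rw [Set.nonempty_iff_ne_empty]
        intro h5
        exact hns (Module.support_eq_empty_iff.mp h5)
      obtain ⟨q, hq⟩ := hne
      have := key j hj q hq
      have := delta_nonneg δ h2 h0 q
      lia
    · intro hnn
      refine supportDim_le_of_delta_le δ h2 h0 _ _ fun q hq => ?_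
      have := key j hj q hq
      lia
  · intro h q
    by_cases hq : q ∈ Module.support A M
    · obtain ⟨e, d', hde, hsd, hdp, hht, hrange, hme, hmd⟩ := profile ω hω δ h1 h2 M q hq
      have hK := delta_add_height_eq ω hω δ h1 h2 h0 M hM D hD q hq e hht
      rw [mem_good_iff M k q e d' hsd hdp]
      by_contra hcon
      have hlt : d' < min k e := not_le.mp hcon
      have hd'k : d' < k := lt_of_lt_of_le hlt (min_le_left k e)
      have hd'e : d' < e := lt_of_lt_of_le hlt (min_le_right k e)
      obtain ⟨hA, hB⟩ := h (-δ q - (d' : ℤ)) (by lia)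
      by_cases hneg : -(-δ q - (d' : ℤ)) - (k : ℤ) < 0
      · haveI := hA hneg
        have h5 : Module.support A (Dual.inD A M ⟶ ω⟦-δ q - (d' : ℤ)⟧) = ∅ :=
          Module.support_eq_empty_iff.mpr inferInstance
        rw [h5] at hmd
        exact hmd
      · have h5 := hB (not_lt.mp hneg)
        have h6 := coheight_le_supportDim' q hmd
        rw [coheight_eq δ h2 h0 q] at h6
        have h7 := le_trans h6 h5
        have h8 : (δ q).toNat ≤ (-(-δ q - (d' : ℤ)) - (k : ℤ)).toNat := by exact_mod_cast h7
        have h9 := delta_nonneg δ h2 h0 q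
        lia
    · exact mem_good_of_notMem_support M k q hq

end Main

end Groth.Agent.Lib.Helper5.LocD
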