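import Mathlib
import Groth.Agent.Lib.Helper5TruncC
import Groth.Agent.Lib.Helper5LocDG
import Groth.Agent.Lib.Helper28DepthSk

/-!
# Dualizing complexes concentrated in degree `0` off a closed set (helper5)

`A` Noetherian local of dimension `n`, `ω` dualizing, `J` an ideal of height `≥ 1` such that
`H^i(ω)_p = 0` for `i ≠ 0`, `p ∉ V(J)`.  Then `A` is equidimensional, `ω[n]` is normalized,
`H^0(ω)` is `(S_2)` with full support; and `depth_J H^0(ω) ≥ 2` when `ht J ≥ 2`.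
-/

set_option autoImplicit false
universe u
open CategoryTheory CategoryTheory.Limits
attribute [local instance] HasDerivedCategory.standard

namespace Groth.Agent.Lib.Helper5.LocD

open DerivedCategory Pretriangulated
open Groth.Agent.Lib.Helper5.DualDim Groth.Agent.Lib.Helper5.DualMin
open Groth.Agent.Lib.Helper5.DualLocal Groth.Agent.Lib.Helper5.BiDual

variable {A : Type u} [CommRing A] [IsLocalRing A] [IsNoetherianRing A]
  (ω : Dual.D A) (hω : Dual.IsDualizing A ω)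

/-- `H^i(ω[N]) ≃ H^{N+i}(ω)` -/
noncomputable def HDShiftEquiv (N i j : ℤ) (h : N + i = j) :
    Dual.HD A (ω⟦N⟧) i ≃ₗ[A] Dual.HD A ω j :=
  (((homologyFunctor (ModuleCat.{u} A) 0).shiftIso N i j h).app ω).toLinearEquiv

include hω in
theorem ordinary_of_off (n : ℕ) (hd : ringKrullDim A = n) (J : Ideal A) (hJ : 1 ≤ J.height)
    (hoff : ∀ p : PrimeSpectrum A, ¬ J ≤ p.asIdeal → ∀ i : ℤ, i ≠ 0 →
      p ∉ Module.support A (Dual.HD A ω i)) :
    EGA4.IsEquidim A ∧ Dual.IsNormalized A (ω⟦(n : ℤ)⟧) ∧ LocCoh.HasSk 2 A (Dual.HD A ω 0) ∧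
      ∀ p : PrimeSpectrum A, p ∈ Module.support A (Dual.HD A ω 0) := by
  obtain ⟨N, hN⟩ := exists_normalized_shift ω hω
  have hω' := isDualizing_shift hω N
  obtain ⟨δ, h1, h2⟩ := Groth.Agent.Lib.Helper5.DualDim.main A (ω⟦N⟧) hω'
  have h0 := delta_closedPoint_eq_zero (ω⟦N⟧) hN δ h1
  -- the dimension function is `N` at minimal primes
  have key : ∀ (p : Ideal A) (hp : p ∈ minimalPrimes A), δ ⟨p, hp.1.1⟩ = N := by
    intro p hp
    haveI := hp.1.1
    have hJp : ¬ J ≤ p := fun h => by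
      have h3 := Ideal.height_mono h
      rw [(Ideal.height_eq_zero_iff).mpr hp] at h3
      have h4 := le_trans hJ h3
      simp at h4
    obtain ⟨i, hi⟩ := exists_nontrivial_loc_HD (ω⟦N⟧) hω' p
    have h3 := (nontrivial_iff_minimal (ω⟦N⟧) hω' p hp i).mp hi
    have h4 : i = -δ ⟨p, hp.1.1⟩ := by
      by_contra hne
      exact h3 (LZ_quot_of_ne (ω⟦N⟧) δ h1 ⟨p, hp.1.1⟩ i hne)
    have h5 : (⟨p, hp.1.1⟩ : PrimeSpectrum A) ∈ Module.support A (Dual.HD A ω (N + i)) := by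
      rw [← (HDShiftEquiv ω N i (N + i) rfl).support_eq, Module.mem_support_iff]
      exact hi
    have h6 : N + i = 0 := by
      by_contra hne
      exact hoff ⟨p, hp.1.1⟩ hJp (N + i) hne h5
    lia
  -- a minimal prime of maximal dimension
  have hNn : N = (n : ℤ) := by
    have hsd : (n : WithBot ℕ∞) ≤ Module.supportDim A A := by
      rw [Module.supportDim_self_eq_ringKrullDim, hd]
    obtain ⟨q, _, hq⟩ := Groth.Agent.Lib.Helper5.IntegralMod.exists_coheight_ge A n hsd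
    obtain ⟨r, hr, hrq⟩ := Ideal.exists_minimalPrimes_le (bot_le : (⊥ : Ideal A) ≤ q.asIdeal)
    have h3 : Order.coheight q ≤ Order.coheight (⟨r, hr.1.1⟩ : PrimeSpectrum A) :=
      Order.coheight_anti (show (⟨r, hr.1.1⟩ : PrimeSpectrum A) ≤ q from hrq)
    rw [coheight_eq δ h2 h0 ⟨r, hr.1.1⟩] at h3
    have h4 : (n : ℕ∞) ≤ ((δ ⟨r, hr.1.1⟩).toNat : ℕ∞) := le_trans hq h3
    have h5 : n ≤ (δ ⟨r, hr.1.1⟩).toNat := by exact_mod_cast h4
    have h6 := delta_le_dim δ h2 h0 n hd ⟨r, hr.1.1⟩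
    have h7 := key r hr
    have h8 := delta_nonneg δ h2 h0 ⟨r, hr.1.1⟩
    lia
  subst hNn
  have hEq : EGA4.IsEquidim A := by
    intro p hp
    rw [hd, ringKrullDim_quotient_eq δ h2 h0 ⟨p, hp.1.1⟩, key p hp]
    simp
  have hS : LocCoh.HasSk 2 A (Dual.HD A ω 0) :=
    Groth.Agent.Lib.Helper28.hasSk_of_linearEquiv
      (HDShiftEquiv ω (n : ℤ) (-(n : ℤ)) 0 (by lia)) (hasS2_lowest (ω⟦(n : ℤ)⟧) hω' hN n hd)
  refine ⟨hEq, hN, hS, fun p => ?_⟩
  rw [← (HDShiftEquiv ω (n : ℤ) (-(n : ℤ)) 0 (by lia)).support_eq,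
    support_lowest (ω⟦(n : ℤ)⟧) hω' hN n hd]
  obtain ⟨r, hr, hrp⟩ := Ideal.exists_minimalPrimes_le (bot_le : (⊥ : Ideal A) ≤ p.asIdeal)
  exact ⟨r, hr, hrp, (hEq r hr).trans hd⟩

include hω in
theorem idealDepth_of_off (n : ℕ) (hd : ringKrullDim A = n) (J : Ideal A) (hJ : 2 ≤ J.height)
    (hoff : ∀ p : PrimeSpectrum A, ¬ J ≤ p.asIdeal → ∀ i : ℤ, i ≠ 0 →
      p ∉ Module.support A (Dual.HD A ω i)) :
    2 ≤ LocCoh.idealDepth J (Dual.HD A ω 0) := by
  obtain ⟨_, _, hS, hall⟩ := ordinary_of_off ω hω n hd J (le_trans (by norm_num) hJ) hoff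
  haveI : Module.Finite A (Dual.HD A ω 0) := hω.finite_cohomology 0
  have h3 := Groth.Agent.Lib.Helper28.le_idealDepth_of_hasSk (Dual.HD A ω 0) J 2 hS ?_
  · exact_mod_cast h3
  · intro p hJp hp
    haveI := p.isPrime
    rw [Groth.Agent.Lib.Helper28.supportDim_localization_eq_height p.asIdeal (Dual.HD A ω 0) hp,
      ← WithBot.coe_natCast, WithBot.coe_le_coe]
    have h4 : Order.height p ≤
        Order.height (⟨p, hp⟩ : Module.support A (Dual.HD A ω 0)) :=
      Order.height_le_height_apply_of_strictMono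
        (fun x : PrimeSpectrum A => (⟨x, hall x⟩ : Module.support A (Dual.HD A ω 0)))
        (fun a b h => h) p
    rw [← PrimeSpectrum.height_eq_orderHeight] at h4
    have h5 : (2 : ℕ∞) ≤ Order.height (⟨p, hp⟩ : Module.support A (Dual.HD A ω 0)) :=
      le_trans hJ (le_trans (Ideal.height_mono hJp) h4)
    exact_mod_cast h5

end Groth.Agent.Lib.Helper5.LocD
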