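import Mathlib
import Groth.Agent.Lib.Helper5TruncG
import Groth.Agent.Lib.Helper5LocDJ
import Groth.Agent.Lib.Helper5RLR
import Groth.Agent.Lib.Helper5CM

/-!
# The lowest cohomology module of a dualizing complex over a local ring (helper5)

`B` Noetherian local, `ω` a dualizing complex, `n` an integer below which `ω` has no cohomology.
* `torsionFree_lowest`: over a domain the lowest cohomology of a normalized dualizing complex is
  torsion-free.
* `lowest_hasS2_torsionFree`: `H^n(ω)` satisfies `(S_2)`, and is torsion-free if `B` is a domain.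
-/

set_option autoImplicit false
universe u
open CategoryTheory CategoryTheory.Limits
attribute [local instance] HasDerivedCategory.standard

namespace Groth.Agent.Lib.Helper5.DSheaf

open DerivedCategory
open Groth.Agent.Lib.Helper5.LocD Groth.Agent.Lib.Helper5.BiDual Groth.Agent.Lib.Helper5.DualMin
  Groth.Agent.Lib.Helper5.DualDim Groth.Agent.Lib.Helper28

theorem subsingleton_localizedModule {R : Type*} [CommRing R] (S : Submonoid R) (M : Type*)
    [AddCommGroup M] [Module R M] [Subsingleton M] : Subsingleton (LocalizedModule S M) := by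
  rw [LocalizedModule.subsingleton_iff]
  intro m
  exact ⟨1, S.one_mem, by rw [Subsingleton.elim m 0, smul_zero]⟩

/-- Serre's condition holds for the zero module -/
theorem hasSk_of_subsingleton (k : ℕ) (R : Type u) [CommRing R] (M : Type u) [AddCommGroup M]
    [Module R M] [Subsingleton M] : LocCoh.HasSk k R M := by
  intro p _
  haveI := subsingleton_localizedModule p.primeCompl M
  rw [Module.supportDim_eq_bot_of_subsingleton]
  simp

variable {B : Type u} [CommRing B] [IsLocalRing B] [IsNoetherianRing B]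

theorem torsionFree_lowest [IsDomain B] (ω : Dual.D B) (hω : Dual.IsDualizing B ω)
    (hn : Dual.IsNormalized B ω) (d : ℕ) (hd : ringKrullDim B = d) :
    Module.IsTorsionFree B (Dual.HD B ω (-(d : ℤ))) := by
  haveI : Module.Finite B (Dual.HD B ω (-(d : ℤ))) := hω.finite_cohomology _
  have hS2 := hasS2_lowest ω hω hn d hd
  have hsuppU : Module.support B (Dual.HD B ω (-(d : ℤ))) = Set.univ := by
    rw [support_lowest ω hω hn d hd]
    ext p
    simp only [Set.mem_setOf_eq, Set.mem_univ, iff_true]
    refine ⟨⊥, ?_, bot_le, ?_⟩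
    · have h : (⊥ : Ideal B) ∈ minimalPrimes B := by
        rw [IsDomain.minimalPrimes_eq_singleton_bot]
        rfl
      exact h
    · rw [← hd]
      exact ringKrullDim_eq_of_ringEquiv (RingEquiv.quotientBot B)
  have key : ∀ (r : B), r ≠ 0 → ∀ z : Dual.HD B ω (-(d : ℤ)), r • z = 0 → z = 0 := by
    intro r hr0 z hz
    by_contra hz0
    obtain ⟨q, hqA, hcol⟩ := exists_le_isAssociatedPrime_of_isNoetherianRing B z hz0
    haveI hqp : q.IsPrime := hqA.isPrime
    have hrq : r ∈ q := hcol (by
      rw [Submodule.mem_colon_singleton, hz]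
      exact Submodule.zero_mem _)
    have hqne : q ≠ ⊥ := fun h => hr0 (by
      rw [h] at hrq
      exact (Submodule.mem_bot B).mp hrq)
    have hass : IsLocalRing.maximalIdeal (Localization.AtPrime q) ∈
        associatedPrimes (Localization.AtPrime q) (LocalizedModule.AtPrime q
          (Dual.HD B ω (-(d : ℤ)))) :=
      Module.associatedPrimes.mem_associatedPrimes_atPrime_of_mem_associatedPrimes hqA
    haveI : Module.Finite (Localization.AtPrime q)
        (LocalizedModule q.primeCompl (Dual.HD B ω (-(d : ℤ)))) :=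
      Module.Finite.of_isLocalizedModule q.primeCompl
        (LocalizedModule.mkLinearMap q.primeCompl (Dual.HD B ω (-(d : ℤ))))
    have hdep := Groth.Agent.Lib.Helper5.depth_le_ringKrullDim_quotient
      (A := Localization.AtPrime q)
      (M := LocalizedModule q.primeCompl (Dual.HD B ω (-(d : ℤ)))) hass
    have hfield : ringKrullDim (Localization.AtPrime q ⧸
        IsLocalRing.maximalIdeal (Localization.AtPrime q)) = 0 :=
      ringKrullDim_eq_zero_of_field (IsLocalRing.ResidueField (Localization.AtPrime q))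
    have hS := hS2 q
    have hsd : ringKrullDim (Localization.AtPrime q) ≤
        Module.supportDim (Localization.AtPrime q)
          (LocalizedModule q.primeCompl (Dual.HD B ω (-(d : ℤ)))) := by
      rw [← Module.supportDim_self_eq_ringKrullDim]
      apply supportDim_le_of_support_subset
      rw [support_isLocalizedModule q.primeCompl (Localization.AtPrime q)
        (LocalizedModule.mkLinearMap q.primeCompl (Dual.HD B ω (-(d : ℤ)))), hsuppU]
      intro x _
      exact Set.mem_univ _
    have h1 : (1 : WithBot ℕ∞) ≤ ringKrullDim (Localization.AtPrime q) := by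
      rw [IsLocalization.AtPrime.ringKrullDim_eq_height q (Localization.AtPrime q)]
      have h2 : q.height ≠ 0 := fun h => hqne (Ideal.height_eq_zero_iff_eq_bot.mp h)
      have h3 : (1 : ℕ∞) ≤ q.height := ENat.one_le_iff_ne_zero.mpr h2
      exact_mod_cast h3
    have h4 : (1 : WithBot ℕ∞) ≤ min (2 : WithBot ℕ∞) (Module.supportDim (Localization.AtPrime q)
        (LocalizedModule q.primeCompl (Dual.HD B ω (-(d : ℤ))))) :=
      le_min (by norm_num) (h1.trans hsd)
    have h5 : (1 : WithBot ℕ∞) ≤ 0 := by
      refine h4.trans (le_trans ?_ (hdep.trans hfield.le))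
      exact hS
    have h6 : (1 : ℕ∞) ≤ 0 := by exact_mod_cast h5
    simp at h6
  constructor
  intro r hr x y hxy
  have hr0 : r ≠ 0 := hr.ne_zero
  have h1 : r • (x - y) = 0 := by
    rw [smul_sub]
    exact sub_eq_zero.mpr hxy
  exact sub_eq_zero.mp (key r hr0 _ h1)

theorem lowest_hasS2_torsionFree (ω : Dual.D B) (hω : Dual.IsDualizing B ω) (n : ℤ)
    (hlt : ∀ i : ℤ, i < n → Subsingleton (Dual.HD B ω i)) :
    LocCoh.HasSk 2 B (Dual.HD B ω n) ∧
      (IsDomain B → Module.IsTorsionFree B (Dual.HD B ω n)) := by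
  obtain ⟨s, hs⟩ := exists_normalized_shift ω hω
  have hω' : Dual.IsDualizing B (ω⟦s⟧) := isDualizing_shift hω s
  obtain ⟨d, hd⟩ := Groth.Agent.Lib.Helper5.exists_nat_ringKrullDim_eq B
  have eS : ∀ (i m : ℤ) (_ : s + i = m), Dual.HD B (ω⟦s⟧) i ≃ₗ[B] Dual.HD B ω m := fun i m hm =>
    (((DerivedCategory.homologyFunctor (ModuleCat.{u} B) 0).shiftIso s i m hm).app
      ω).toLinearEquiv
  have hnt : Nontrivial (Dual.HD B (ω⟦s⟧) (-(d : ℤ))) := by
    obtain ⟨δ, h1, h2⟩ := Groth.Agent.Lib.Helper5.DualDim.main B (ω⟦s⟧) hω'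
    have h0 := delta_closedPoint_eq_zero (ω⟦s⟧) hs δ h1
    obtain ⟨r, hr, hrδ⟩ := exists_minimal_delta_eq_dim δ h2 h0 d hd
    have hdim : ringKrullDim (B ⧸ r) = d := by
      refine (ringKrullDim_quotient_eq δ h2 h0 ⟨r, hr.1.1⟩).trans ?_
      rw [hrδ]
      simp
    have hloc := (main_minimal (ω⟦s⟧) hω' hs r hr d hdim (-(d : ℤ))).mpr rfl
    by_contra hcon
    rw [not_nontrivial_iff_subsingleton] at hcon
    haveI := hcon
    haveI := subsingleton_localizedModule (Ideal.primeCompl r (hp := hr.1.1))
      (Dual.HD B (ω⟦s⟧) (-(d : ℤ)))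
    exact not_subsingleton _ ‹Subsingleton (LocalizedModule (Ideal.primeCompl r (hp := hr.1.1))
      (Dual.HD B (ω⟦s⟧) (-(d : ℤ))))›
  have hle : n ≤ s - d := by
    by_contra hcon
    push Not at hcon
    haveI := hlt (s - d) hcon
    haveI : Subsingleton (Dual.HD B (ω⟦s⟧) (-(d : ℤ))) :=
      (eS (-(d : ℤ)) (s - d) (by ring)).toEquiv.subsingleton
    exact not_subsingleton (Dual.HD B (ω⟦s⟧) (-(d : ℤ))) inferInstance
  rcases hle.eq_or_lt with heq | hlt'
  · let e := eS (-(d : ℤ)) n (by lia)
    refine ⟨hasSk_of_linearEquiv e (hasS2_lowest (ω⟦s⟧) hω' hs d hd), fun hdom => ?_⟩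
    haveI := hdom
    haveI := torsionFree_lowest (ω⟦s⟧) hω' hs d hd
    exact Function.Injective.moduleIsTorsionFree e.symm e.symm.injective
      (fun r m => e.symm.map_smul r m)
  · haveI : Subsingleton (Dual.HD B ω n) := by
      have hz := isZero_HD_of_notMem (ω⟦s⟧) hω' hs d hd (n - s) (Or.inl (by lia))
      haveI : Subsingleton (Dual.HD B (ω⟦s⟧) (n - s)) := ModuleCat.subsingleton_of_isZero hz
      exact (eS (n - s) n (by ring)).symm.toEquiv.subsingleton
    exact ⟨hasSk_of_subsingleton 2 B _, fun _ => inferInstance⟩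

end Groth.Agent.Lib.Helper5.DSheaf
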