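import Mathlib
import Groth.Prelude.Def_Dual3
import Groth.Agent.Lib.Helper5KoszulGor

/-!
# Local complete intersection morphisms over Gorenstein schemes (helper5)

* `stalkFromSpecEquiv`: for an affine open `U` and a prime `y` of `Γ(X, U)`, the ring isomorphism
  `O_{X, fromSpec y} ≃+* Γ(X, U)_y`.
* `gorRing_sections`: coordinate rings of affine opens of a Gorenstein scheme are Gorenstein rings.
* `gorLocal_stalk_of_gorRing`: stalks at points of an affine open with Gorenstein coordinate ring.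
* `isGorenstein_of_isLCIMor`.
-/

set_option autoImplicit false
universe u

namespace Groth.Agent.Lib.Helper5.LCIGorSch

open AlgebraicGeometry CategoryTheory LocCoh
open Groth.Agent.Lib.Helper5.GorRing Groth.Agent.Lib.Helper5.KoszulGor

noncomputable def stalkFromSpecEquiv {X : Scheme.{u}} {U : X.Opens} (hU : IsAffineOpen U)
    (y : Spec Γ(X, U)) :
    X.presheaf.stalk (hU.fromSpec y) ≃+* Localization.AtPrime y.asIdeal :=
  (asIso (hU.fromSpec.stalkMap y)).commRingCatIsoToRingEquiv.trans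
    (Spec.stalkIso _ y).commRingCatIsoToRingEquiv

theorem gorRing_sections {X : Scheme.{u}} [IsLocallyNoetherian X] {V : X.Opens}
    (hV : IsAffineOpen V) (hG : ∀ x : X, IsGorensteinLocalRing (X.presheaf.stalk x)) :
    IsGorensteinRing Γ(X, V) := by
  haveI : IsNoetherianRing Γ(X, V) := IsLocallyNoetherian.component_noetherian ⟨V, hV⟩
  refine { isGorensteinLocalRing_localization := ?_ }
  intro p hp
  have e := stalkFromSpecEquiv hV ⟨p, hp⟩
  haveI := hG (hV.fromSpec ⟨p, hp⟩)
  exact gorLocal_of_ringEquiv e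

theorem gorLocal_stalk_of_gorRing {Y : Scheme.{u}} {U : Y.Opens} (hU : IsAffineOpen U)
    (hG : IsGorensteinRing Γ(Y, U)) (y : Y) (hy : y ∈ U) :
    IsGorensteinLocalRing (Y.presheaf.stalk y) := by
  have hfs : hU.fromSpec (hU.primeIdealOf ⟨y, hy⟩) = y := hU.fromSpec_primeIdealOf ⟨y, hy⟩
  have e := stalkFromSpecEquiv hU (hU.primeIdealOf ⟨y, hy⟩)
  haveI := hG.isGorensteinLocalRing_localization (hU.primeIdealOf ⟨y, hy⟩).asIdeal
  have h1 : IsGorensteinLocalRing
      (Y.presheaf.stalk (hU.fromSpec (hU.primeIdealOf ⟨y, hy⟩))) :=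
    gorLocal_of_ringEquiv e.symm
  exact hfs ▸ h1

theorem isGorenstein_of_isLCIMor {Y X : Scheme.{u}} (f : Y ⟶ X) (hf : Dual3.IsLCIMor f)
    (hX : Dual3.IsGorenstein X) : Dual3.IsGorenstein Y := by
  obtain ⟨hXN, hXG⟩ := hX
  haveI := hXN
  have key : ∀ y : Y, ∃ U : Y.affineOpens, y ∈ U.1 ∧ IsGorensteinRing Γ(Y, U.1) := by
    intro y
    obtain ⟨U, V, e, hyU, hlci⟩ := hf y
    refine ⟨U, hyU, ?_⟩
    letI := (f.appLE V.1 U.1 e).hom.toAlgebra
    have hV : IsGorensteinRing Γ(X, V.1) := gorRing_sections V.2 hXG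
    exact gorRing_of_isLCI _ _ hV hlci
  choose U hyU hG using key
  refine ⟨?_, ?_⟩
  · apply isLocallyNoetherian_of_affine_cover (S := U)
    · rw [eq_top_iff]
      intro y _
      exact TopologicalSpace.Opens.mem_iSup.mpr ⟨y, hyU y⟩
    · intro y
      haveI := hG y
      infer_instance
  · intro y
    exact gorLocal_stalk_of_gorRing (U y).2 (hG y) y (hyU y)

end Groth.Agent.Lib.Helper5.LCIGorSch
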