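import Mathlib
import Groth.Prelude.Def_DualSch
import Groth.Agent.S0973
import Groth.Agent.Lib.Helper5LocDH
import Groth.Agent.Lib.Helper5LCIGorSch
import Groth.Agent.Lib.Helper28PolyCM

/-!
# Bridge between dualizing complexes on schemes and on rings (helper5)

* `homologyMapDIso`: homology commutes with `F.mapDerivedCategory` for exact `F` (general abelian
  categories).
* `nontrivial_stalk_HD_restrict`, `nontrivial_stalk_HD_tildeD`: stalks of cohomology sheaves under
  restriction to an open and under the derived tilde functor.
* `nontrivial_stalk_HD_iff`: for a dualizing complex `K` on `X`, an affine open `U` and a dualizing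
  complex `ω` of `Γ(X, U)` representing `K|_U`, the stalk of `H^i(K)` at a point of `U` is nonzero
  iff the corresponding prime is in the support of `H^i(ω)`.
* `exists_mem_support`: a dualizing complex has a nonzero cohomology module at every prime.
-/

set_option autoImplicit false
universe u

open CategoryTheory CategoryTheory.Limits AlgebraicGeometry

namespace Groth.Agent.Lib.Helper5.DualSch

section General

universe v₁ v₂ u₁ u₂ w₁ w₂

variable {C₁ : Type u₁} [Category.{v₁} C₁] [Abelian C₁] [HasDerivedCategory.{w₁} C₁]
  {C₂ : Type u₂} [Category.{v₂} C₂] [Abelian C₂] [HasDerivedCategory.{w₂} C₂]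
  (F : C₁ ⥤ C₂) [F.Additive] [PreservesFiniteLimits F] [PreservesFiniteColimits F]

open DerivedCategory

/-- homology commutes with exact functors (derived level, objectwise) -/
noncomputable def homologyMapDIso (X : DerivedCategory C₁) (n : ℤ) :
    (homologyFunctor C₂ n).obj (F.mapDerivedCategory.obj X) ≅
      F.obj ((homologyFunctor C₁ n).obj X) :=
  (homologyFunctor C₂ n).mapIso
      (F.mapDerivedCategory.mapIso (Q.objObjPreimageIso X).symm ≪≫
        F.mapDerivedCategoryFactors.app _) ≪≫
    (homologyFunctorFactors C₂ n).app _ ≪≫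
    ShortComplex.mapHomologyIso ((Q.objPreimage X).sc n) F ≪≫
    F.mapIso (((homologyFunctorFactors C₁ n).app _).symm ≪≫
      (homologyFunctor C₁ n).mapIso (Q.objObjPreimageIso X))

/-- an object of the derived category all of whose cohomology vanishes is zero -/
theorem isZero_of_forall_isZero_homology (X : DerivedCategory C₁)
    (h : ∀ n : ℤ, IsZero ((homologyFunctor C₁ n).obj X)) : IsZero X := by
  haveI : X.IsGE 0 := (DerivedCategory.isGE_iff X 0).mpr fun i _ => h i
  haveI : X.IsLE 0 := (DerivedCategory.isLE_iff X 0).mpr fun i _ => h i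
  obtain ⟨e⟩ := Groth.Agent.S0973.iso_single_of_amp X 0
  exact IsZero.of_iso ((singleFunctor C₁ 0).map_isZero (h 0)) e

end General

attribute [local instance] HasDerivedCategory.standard

section Stalks

/-- nontriviality of stalks is invariant under isomorphisms of modules -/
theorem nontrivial_stalk_of_iso {X : Scheme.{u}} {M N : X.Modules} (e : M ≅ N) (x : X) :
    Nontrivial (M.presheaf.stalk x) ↔ Nontrivial (N.presheaf.stalk x) := by
  let e' : M.presheaf.stalk x ≅ N.presheaf.stalk x :=
    (TopCat.Presheaf.stalkFunctor _ x).mapIso ((Scheme.Modules.toPresheaf X).mapIso e)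
  constructor
  · intro h
    exact e'.addCommGroupIsoToAddEquiv.symm.toEquiv.nontrivial
  · intro h
    exact e'.addCommGroupIsoToAddEquiv.toEquiv.nontrivial

theorem nontrivial_stalk_restrict {U X : Scheme.{u}} (j : U ⟶ X) [IsOpenImmersion j]
    (M : X.Modules) (u : U) :
    Nontrivial (((Scheme.Modules.restrictFunctor j).obj M).presheaf.stalk u) ↔
      Nontrivial (M.presheaf.stalk (j u)) := by
  let e' : ((Scheme.Modules.restrictFunctor j).obj M).presheaf.stalk u ≅
      M.presheaf.stalk (j u) := (Scheme.Modules.restrictStalkNatIso j u).app M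
  constructor
  · intro h
    exact e'.addCommGroupIsoToAddEquiv.symm.toEquiv.nontrivial
  · intro h
    exact e'.addCommGroupIsoToAddEquiv.toEquiv.nontrivial

theorem nontrivial_stalk_HD_restrict {U X : Scheme.{u}} (j : U ⟶ X) [IsOpenImmersion j]
    [PreservesFiniteLimits (Scheme.Modules.restrictFunctor j)] (K : DCoh.D X) (i : ℤ) (u : U) :
    Nontrivial ((DCoh.HD ((DCoh.restrictD j).obj K) i).presheaf.stalk u) ↔
      Nontrivial ((DCoh.HD K i).presheaf.stalk (j u)) :=
  (nontrivial_stalk_of_iso (homologyMapDIso (Scheme.Modules.restrictFunctor j) K i) u).trans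
    (nontrivial_stalk_restrict j (DCoh.HD K i) u)

theorem nontrivial_stalk_tilde (R : CommRingCat.{u}) (M : ModuleCat.{u} R)
    (p : PrimeSpectrum R) :
    Nontrivial ((tilde M).presheaf.stalk p) ↔ p ∈ Module.support R M := by
  rw [Module.mem_support_iff]
  let e := IsLocalizedModule.iso p.asIdeal.primeCompl (tilde.toStalk M p).hom
  constructor
  · intro h
    exact e.toEquiv.nontrivial
  · intro h
    exact e.symm.toEquiv.nontrivial

theorem nontrivial_stalk_HD_tildeD (R : CommRingCat.{u})
    [PreservesFiniteLimits (tilde.functor R)] (ω : DerivedCategory (ModuleCat.{u} R)) (i : ℤ)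
    (p : PrimeSpectrum R) :
    Nontrivial ((DCoh.HD ((DCoh.tildeD R).obj ω) i).presheaf.stalk p) ↔
      p ∈ Module.support R ((DerivedCategory.homologyFunctor (ModuleCat.{u} R) i).obj ω) :=
  (nontrivial_stalk_of_iso (homologyMapDIso (tilde.functor R) ω i) p).trans
    (nontrivial_stalk_tilde R _ p)

end Stalks

end Groth.Agent.Lib.Helper5.DualSch
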