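import Mathlib
import Groth.Agent.Lib.Helper5DualSchA

/-!
# Dualizing complexes on schemes: charts and the Cohen–Macaulay locus (helper5)

* `exists_mem_support`: a dualizing complex has a nonzero cohomology module at every prime.
* `exists_chart`: affine chart of a dualizing complex on a scheme at a point, with the comparison of
  stalks of cohomology sheaves and supports of cohomology modules.
* `cm_stalk_iff`, `cm_stalk_iff_existsUnique`, `isOpen_cmLocus`.
-/

set_option autoImplicit false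
universe u

open CategoryTheory CategoryTheory.Limits AlgebraicGeometry

attribute [local instance] HasDerivedCategory.standard

namespace Groth.Agent.Lib.Helper5.DualSch

open Groth.Agent.Lib.Helper1.Extend Groth.Agent.Lib.Helper5.LocD

section Ring

variable {A : Type u} [CommRing A]

theorem exists_mem_support [IsNoetherianRing A] (ω : Dual.D A) (hω : Dual.IsDualizing A ω)
    (p : PrimeSpectrum A) : ∃ i : ℤ, p ∈ Module.support A (Dual.HD A ω i) := by
  by_contra hcon
  push_neg at hcon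
  have hB := isDualizing_extD p.asIdeal.primeCompl (Localization.AtPrime p.asIdeal) ω hω
  have hz : IsZero ((extD A (Localization.AtPrime p.asIdeal)).obj ω) := by
    apply isZero_of_forall_isZero_homology
    intro n
    haveI h1 : Subsingleton ((ext A (Localization.AtPrime p.asIdeal)).obj
        ((DerivedCategory.homologyFunctor (ModuleCat.{u} A) n).obj ω)) :=
      (subsingleton_ext_iff _ p).mpr (hcon n)
    exact IsZero.of_iso (ModuleCat.isZero_of_subsingleton _)
      (Groth.Agent.Lib.Helper1.Extend.homologyMapDIso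
        (ext A (Localization.AtPrime p.asIdeal)) ω n)
  have h01 : (1 : Localization.AtPrime p.asIdeal) = 0 :=
    hB.toEnd_bijective.injective (hz.eq_of_src _ _)
  exact one_ne_zero h01

theorem cm_localization_iff_existsUnique [IsNoetherianRing A] (ω : Dual.D A)
    (hω : Dual.IsDualizing A ω) (p : PrimeSpectrum A) :
    LocCoh.IsCohenMacaulayLocalRing (Localization.AtPrime p.asIdeal) ↔
      ∃! i : ℤ, p ∈ Module.support A (Dual.HD A ω i) := by
  rw [cm_localization_iff ω hω p]
  obtain ⟨i0, hi0⟩ := exists_mem_support ω hω p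
  constructor
  · rintro ⟨n, hn⟩
    have h0 : i0 = n := by
      by_contra hne
      exact hn i0 hne hi0
    subst h0
    refine ⟨i0, hi0, fun y hy => ?_⟩
    by_contra hne
    exact hn y hne hy
  · rintro ⟨n, _, huniq⟩
    exact ⟨n, fun i hi hP => hi (huniq i hP)⟩

end Ring

section Sch

variable {X : Scheme.{u}}

theorem cm_stalk_iff {U : X.Opens} (hU : IsAffineOpen U) (x : X) (hxU : x ∈ U) :
    LocCoh.IsCohenMacaulayLocalRing (X.presheaf.stalk x) ↔
      LocCoh.IsCohenMacaulayLocalRing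
        (Localization.AtPrime (hU.primeIdealOf ⟨x, hxU⟩).asIdeal) := by
  have hfs : hU.fromSpec (hU.primeIdealOf ⟨x, hxU⟩) = x := hU.fromSpec_primeIdealOf ⟨x, hxU⟩
  have e := Groth.Agent.Lib.Helper5.LCIGorSch.stalkFromSpecEquiv hU (hU.primeIdealOf ⟨x, hxU⟩)
  constructor
  · intro h
    have h' : LocCoh.IsCohenMacaulayLocalRing
        (X.presheaf.stalk (hU.fromSpec (hU.primeIdealOf ⟨x, hxU⟩))) := by
      rw [hfs]; exact h
    exact Groth.Agent.Lib.Helper28.isCohenMacaulayLocalRing_of_ringEquiv e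
  · intro h
    have h' : LocCoh.IsCohenMacaulayLocalRing
        (X.presheaf.stalk (hU.fromSpec (hU.primeIdealOf ⟨x, hxU⟩))) :=
      Groth.Agent.Lib.Helper28.isCohenMacaulayLocalRing_of_ringEquiv e.symm
    rw [hfs] at h'
    exact h'

variable
  [∀ (U : Scheme.{u}) (j : U ⟶ X) [IsOpenImmersion j],
    PreservesFiniteLimits (Scheme.Modules.restrictFunctor j)]
  [∀ (R : CommRingCat.{u}), PreservesFiniteLimits (tilde.functor R)]

theorem nontrivial_stalk_HD_iff (K : DCoh.D X) {U : X.Opens} (hU : IsAffineOpen U)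
    (ω : Dual.D Γ(X, U))
    (e : (DCoh.restrictD hU.fromSpec).obj K ≅ (DCoh.tildeD (CommRingCat.of Γ(X, U))).obj ω)
    (x : X) (hxU : x ∈ U) (i : ℤ) :
    Nontrivial ((DCoh.HD K i).presheaf.stalk x) ↔
      hU.primeIdealOf ⟨x, hxU⟩ ∈ Module.support Γ(X, U) (Dual.HD Γ(X, U) ω i) := by
  have hfs : hU.fromSpec (hU.primeIdealOf ⟨x, hxU⟩) = x := hU.fromSpec_primeIdealOf ⟨x, hxU⟩
  have h1 := nontrivial_stalk_HD_restrict hU.fromSpec K i (hU.primeIdealOf ⟨x, hxU⟩)
  rw [hfs] at h1
  have h2 := nontrivial_stalk_of_iso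
    ((DerivedCategory.homologyFunctor _ i).mapIso e) (hU.primeIdealOf ⟨x, hxU⟩)
  have h3 := nontrivial_stalk_HD_tildeD (CommRingCat.of Γ(X, U)) ω i (hU.primeIdealOf ⟨x, hxU⟩)
  exact h1.symm.trans (h2.trans h3)

theorem exists_chart (K : DCoh.D X) (hK : Dual2.IsDualizingSch X K) (x : X) :
    ∃ (U : X.Opens) (hU : IsAffineOpen U) (hxU : x ∈ U) (ω : Dual.D Γ(X, U)),
      Dual.IsDualizing Γ(X, U) ω ∧
      Nonempty ((DCoh.restrictD hU.fromSpec).obj K ≅
        (DCoh.tildeD (CommRingCat.of Γ(X, U))).obj ω) := by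
  obtain ⟨_, ⟨U, hU, rfl⟩, hxU, -⟩ :=
    (X.isBasis_affineOpens).exists_subset_of_mem_open (Set.mem_univ x) isOpen_univ
  have hU' : IsAffineOpen U := hU
  obtain ⟨ω, hω, he⟩ := hK Γ(X, U) hU'.fromSpec
  exact ⟨U, hU', hxU, ω, hω, he⟩

theorem cm_stalk_iff_existsUnique (K : DCoh.D X) (hK : Dual2.IsDualizingSch X K) (x : X) :
    LocCoh.IsCohenMacaulayLocalRing (X.presheaf.stalk x) ↔
      ∃! i : ℤ, Nontrivial ((DCoh.HD K i).presheaf.stalk x) := by
  obtain ⟨U, hU, hxU, ω, hω, ⟨e⟩⟩ := exists_chart K hK x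
  haveI : IsNoetherianRing Γ(X, U) := hω.isNoetherianRing
  rw [cm_stalk_iff hU x hxU, cm_localization_iff_existsUnique ω hω]
  exact existsUnique_congr (fun i => (nontrivial_stalk_HD_iff K hU ω e x hxU i).symm)

theorem isOpen_cmLocus (K : DCoh.D X) (hK : Dual2.IsDualizingSch X K) :
    IsOpen {x : X | LocCoh.IsCohenMacaulayLocalRing (X.presheaf.stalk x)} := by
  rw [isOpen_iff_forall_mem_open]
  intro x hx
  obtain ⟨U, hU, hxU, ω, hω, -⟩ := exists_chart K hK x
  haveI : IsNoetherianRing Γ(X, U) := hω.isNoetherianRing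
  have hopen := (isOpen_dense_cmLocus ω hω).1
  refine ⟨(fun p => hU.fromSpec p) '' {p : PrimeSpectrum Γ(X, U) |
      LocCoh.IsCohenMacaulayLocalRing (Localization.AtPrime p.asIdeal)}, ?_,
    hU.fromSpec.isOpenEmbedding.isOpenMap _ hopen, ?_⟩
  · rintro _ ⟨p, hp, rfl⟩
    have hp' : LocCoh.IsCohenMacaulayLocalRing (Localization.AtPrime p.asIdeal) := hp
    exact Groth.Agent.Lib.Helper28.isCohenMacaulayLocalRing_of_ringEquiv
      (Groth.Agent.Lib.Helper5.LCIGorSch.stalkFromSpecEquiv hU p).symm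
  · exact ⟨hU.primeIdealOf ⟨x, hxU⟩, (cm_stalk_iff hU x hxU).mp hx,
      hU.fromSpec_primeIdealOf ⟨x, hxU⟩⟩

end Sch

end Groth.Agent.Lib.Helper5.DualSch
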