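import Mathlib
import Groth.Agent.Lib.Helper5LocDH
import Groth.Agent.Lib.Helper5DualUniqA
import Groth.Agent.Lib.Helper1GlDim
import Groth.Agent.S11185

/-!
# The Gorenstein locus of a ring with a dualizing complex is open (helper5)

* `isDualizing_inD_of_gor`, `gor_of_isDualizing_inD`: a Noetherian local ring `B` is Gorenstein iff
  `B[0]` is a dualizing complex.
* `gor_localization_iff`: `A_p` is Gorenstein iff the cohomology of `ω` is supported away from `p`
  except in one degree `n`, where `(H^n ω)_p ≅ A_p` (uses uniqueness of dualizing complexes over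
  the local ring `A_p`).
* `isOpen_gorLocus`.
-/

set_option autoImplicit false
universe u
open CategoryTheory CategoryTheory.Limits
attribute [local instance] HasDerivedCategory.standard

namespace Groth.Agent.Lib.Helper5.GorLocus

open DerivedCategory Groth.Agent.Lib.Helper1.Extend Groth.Agent.Lib.Helper5.BiDual
open Groth.Agent.Lib.Helper5.LocD Groth.Agent.S14388 TensorProduct

section G1

variable {B : Type u} [CommRing B]

/-- `id N < d` kills `Hom(M[0], N[n])` for `n ≥ d` -/
theorem subsingleton_hom_of_id (M N : ModuleCat.{u} B) (d : ℕ)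
    (h : HasInjectiveDimensionLT N d) (n : ℤ) (hn : (d : ℤ) ≤ n) :
    Subsingleton ((singleFunctor (ModuleCat.{u} B) 0).obj M ⟶
      (shiftFunctor (DerivedCategory (ModuleCat.{u} B)) n).obj
        ((singleFunctor (ModuleCat.{u} B) 0).obj N)) := by
  obtain ⟨m, rfl⟩ : ∃ m : ℕ, n = m := ⟨n.toNat, (Int.toNat_of_nonneg (by omega)).symm⟩
  have hs : Subsingleton (Abelian.Ext M N m) :=
    HasInjectiveDimensionLT.subsingleton N d m (by omega) M
  exact (Abelian.Ext.homEquiv (X := M) (Y := N) (n := m)).symm.subsingleton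

/-- over a Gorenstein local ring, `B[0]` is a dualizing complex -/
theorem isDualizing_inD_of_gor (B : Type u) [CommRing B] [hB : LocCoh.IsGorensteinLocalRing B] :
    Dual.IsDualizing B (Dual.inD B B) := by
  obtain ⟨d, hd⟩ := hB.exists_hasInjectiveDimensionLT
  refine ⟨inferInstance, ⟨0, d, fun M _ _ i hi => ?_⟩, fun i => ?_, ?_, fun i hi => ?_⟩
  · rcases hi with hi | hi
    · exact Groth.Agent.S11185.subsingleton_neg _ _ i hi
    · exact subsingleton_hom_of_id (ModuleCat.of B M) (ModuleCat.of B B) d hd i (by omega)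
  · by_cases hi : i = 0
    · subst hi
      let e : (homologyFunctor (ModuleCat.{u} B) 0).obj
          ((DerivedCategory.singleFunctor (ModuleCat.{u} B) 0).obj (ModuleCat.of B B)) ≅
            ModuleCat.of B B :=
        (singleFunctorCompHomologyFunctorIso (ModuleCat.{u} B) 0).app (ModuleCat.of B B)
      exact Module.Finite.equiv e.symm.toLinearEquiv
    · have hz : Limits.IsZero ((homologyFunctor (ModuleCat.{u} B) i).obj (Dual.inD B B)) := by
        rcases lt_or_gt_of_ne hi with h | h
        · exact isZero_of_isGE _ 0 i h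
        · exact isZero_of_isLE _ 0 i h
      have := ModuleCat.subsingleton_of_isZero hz
      infer_instance
  · constructor
    · intro a b hab
      have h1 : (DerivedCategory.singleFunctor (ModuleCat.{u} B) 0).map
          (a • 𝟙 (ModuleCat.of B B)) =
          (DerivedCategory.singleFunctor (ModuleCat.{u} B) 0).map (b • 𝟙 (ModuleCat.of B B)) := by
        rw [Functor.map_smul, Functor.map_smul, CategoryTheory.Functor.map_id]
        exact hab
      have h2 := (DerivedCategory.singleFunctor (ModuleCat.{u} B) 0).map_injective h1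
      have h3 := congrArg (fun f : ModuleCat.of B B ⟶ ModuleCat.of B B => f.hom (1 : B)) h2
      simpa using h3
    · intro g
      obtain ⟨g', hg'⟩ := (DerivedCategory.singleFunctor (ModuleCat.{u} B) 0).map_surjective g
      refine ⟨g'.hom (1 : B), ?_⟩
      show g'.hom (1 : B) • 𝟙 _ = g
      rw [← hg', ← CategoryTheory.Functor.map_id, ← Functor.map_smul]
      congr 1
      ext
      simp
  · rcases lt_or_gt_of_ne hi with h | h
    · exact Groth.Agent.S11185.subsingleton_neg _ _ i h
    · have hp : HasProjectiveDimensionLT (ModuleCat.of B B) (0 + 1) :=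
        projective_iff_hasProjectiveDimensionLT_one.1 inferInstance
      exact Groth.Agent.Lib.Helper1.GlDim.subsingleton_hom_of_pd (ModuleCat.of B B)
        (ModuleCat.of B B) 0 hp i (by exact_mod_cast h)

/-- if `B[0]` is dualizing over the local ring `B` then `B` is Gorenstein -/
theorem gor_of_isDualizing_inD (B : Type u) [CommRing B] [IsLocalRing B]
    (h : Dual.IsDualizing B (Dual.inD B B)) : LocCoh.IsGorensteinLocalRing B := by
  haveI := h.isNoetherianRing
  obtain ⟨a, b, hab⟩ := h.finite_injective_dimension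
  refine { exists_hasInjectiveDimensionLT := ⟨(b + 1).toNat, ?_⟩ }
  refine HasInjectiveDimensionLT.mk (fun i hi Y e => ?_)
  haveI : Subsingleton ((singleFunctor (ModuleCat.{u} B) 0).obj Y ⟶
      (shiftFunctor (DerivedCategory (ModuleCat.{u} B)) (i : ℤ)).obj
        ((singleFunctor (ModuleCat.{u} B) 0).obj (ModuleCat.of B B))) :=
    hab Y (i : ℤ) (Or.inr (by omega))
  haveI : Subsingleton (Abelian.Ext Y (ModuleCat.of B B) i) :=
    (Abelian.Ext.homEquiv (X := Y) (Y := ModuleCat.of B B) (n := i)).subsingleton
  exact Subsingleton.elim _ _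

end G1

section Single

variable {B : Type u} [CommRing B]

/-- `H^j(M[0]) ≅ M` for `j = 0` -/
lemma nonempty_HD_inD_iso (M : ModuleCat.{u} B) (j : ℤ) (hj : j = 0) :
    Nonempty ((homologyFunctor (ModuleCat.{u} B) j).obj
      ((singleFunctor (ModuleCat.{u} B) 0).obj M) ≅ M) := by
  subst hj
  exact ⟨(singleFunctorCompHomologyFunctorIso (ModuleCat.{u} B) 0).app M⟩

/-- `H^{-m}(M[m]) ≅ M` -/
lemma nonempty_HD_inD_shift_iso (M : ModuleCat.{u} B) (m i : ℤ) (h : i = -m) :
    Nonempty ((homologyFunctor (ModuleCat.{u} B) i).obj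
      (((singleFunctor (ModuleCat.{u} B) 0).obj M)⟦m⟧) ≅ M) := by
  obtain ⟨e⟩ := nonempty_HD_inD_iso M (m + i) (by lia)
  exact ⟨((homologyFunctor (ModuleCat.{u} B) 0).shiftIso m i (m + i) rfl).app _ ≪≫ e⟩

end Single

section Loc

variable {A : Type u} [CommRing A]

theorem gor_localization_iff [IsNoetherianRing A] (ω : Dual.D A) (hω : Dual.IsDualizing A ω)
    (p : PrimeSpectrum A) :
    LocCoh.IsGorensteinLocalRing (Localization.AtPrime p.asIdeal) ↔
      ∃ n : ℤ, (∀ i : ℤ, i ≠ n → p ∉ Module.support A (Dual.HD A ω i)) ∧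
        Nonempty ((Localization.AtPrime p.asIdeal ⊗[A] Dual.HD A ω n) ≃ₗ[Localization.AtPrime
          p.asIdeal] Localization.AtPrime p.asIdeal) := by
  have hB : Dual.IsDualizing (Localization.AtPrime p.asIdeal)
      ((extD A (Localization.AtPrime p.asIdeal)).obj ω) :=
    isDualizing_extD p.asIdeal.primeCompl (Localization.AtPrime p.asIdeal) ω hω
  haveI := hB.isNoetherianRing
  -- cohomology of the localization
  let eH : ∀ j : ℤ, (homologyFunctor (ModuleCat.{u} (Localization.AtPrime p.asIdeal)) j).obj
      ((extD A (Localization.AtPrime p.asIdeal)).obj ω) ≅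
      (ext A (Localization.AtPrime p.asIdeal)).obj
        ((homologyFunctor (ModuleCat.{u} A) j).obj ω) := fun j =>
    homologyMapDIso (ext A (Localization.AtPrime p.asIdeal)) ω j
  have key : ∀ j : ℤ, Subsingleton (Dual.HD (Localization.AtPrime p.asIdeal)
      ((extD A (Localization.AtPrime p.asIdeal)).obj ω) j) ↔
      p ∉ Module.support A (Dual.HD A ω j) := by
    intro j
    rw [← subsingleton_ext_iff]
    constructor
    · intro h
      exact (eH j).symm.toLinearEquiv.toEquiv.subsingleton
    · intro h
      exact (eH j).toLinearEquiv.toEquiv.subsingleton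
  let eT : ∀ j : ℤ, Dual.HD (Localization.AtPrime p.asIdeal)
      ((extD A (Localization.AtPrime p.asIdeal)).obj ω) j ≃ₗ[Localization.AtPrime p.asIdeal]
      (Localization.AtPrime p.asIdeal ⊗[A] Dual.HD A ω j) := fun j =>
    (eH j).toLinearEquiv.trans (extEquiv (A := A) (B := Localization.AtPrime p.asIdeal)
      (Dual.HD A ω j))
  constructor
  · intro hgor
    have hD := isDualizing_inD_of_gor (Localization.AtPrime p.asIdeal)
    obtain ⟨m, ⟨e⟩⟩ := Groth.Agent.Lib.Helper5.DualUniq.exists_shift_iso _ _ hD hB
    refine ⟨-m, fun i hi => ?_, ?_⟩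
    · rw [← key]
      haveI := subsingleton_HD_inD_shift (A := Localization.AtPrime p.asIdeal)
        (Localization.AtPrime p.asIdeal) m i hi
      exact ((homologyFunctor (ModuleCat.{u} (Localization.AtPrime p.asIdeal)) i).mapIso
        e).toLinearEquiv.toEquiv.subsingleton
    · obtain ⟨e2⟩ := nonempty_HD_inD_shift_iso
        (ModuleCat.of (Localization.AtPrime p.asIdeal) (Localization.AtPrime p.asIdeal)) m (-m) rfl
      exact ⟨(eT (-m)).symm.trans
        (((homologyFunctor (ModuleCat.{u} (Localization.AtPrime p.asIdeal)) (-m)).mapIso e ≪≫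
          e2).toLinearEquiv)⟩
  · rintro ⟨n, hn, ⟨eN⟩⟩
    have hH : ∀ i : ℤ, i ≠ n → IsZero ((homologyFunctor
        (ModuleCat.{u} (Localization.AtPrime p.asIdeal)) i).obj
        ((extD A (Localization.AtPrime p.asIdeal)).obj ω)) := by
      intro i hi
      haveI := (key i).mpr (hn i hi)
      exact ModuleCat.isZero_of_subsingleton _
    haveI : ((extD A (Localization.AtPrime p.asIdeal)).obj ω).IsGE n :=
      (DerivedCategory.isGE_iff _ n).2 (fun i hi => hH i (by lia))
    haveI : ((extD A (Localization.AtPrime p.asIdeal)).obj ω).IsLE n :=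
      (DerivedCategory.isLE_iff _ n).2 (fun i hi => hH i (by lia))
    obtain ⟨e⟩ := Groth.Agent.S0973.iso_single_of_amp
      ((extD A (Localization.AtPrime p.asIdeal)).obj ω) n
    let e3 : (homologyFunctor (ModuleCat.{u} (Localization.AtPrime p.asIdeal)) n).obj
        ((extD A (Localization.AtPrime p.asIdeal)).obj ω) ≅
        ModuleCat.of (Localization.AtPrime p.asIdeal) (Localization.AtPrime p.asIdeal) :=
      ((eT n).trans eN).toModuleIso
    let e4 : (Dual.inD (Localization.AtPrime p.asIdeal) (Localization.AtPrime p.asIdeal))⟦-n⟧ ≅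
        (extD A (Localization.AtPrime p.asIdeal)).obj ω :=
      ((DerivedCategory.singleFunctors (ModuleCat.{u} (Localization.AtPrime p.asIdeal))).shiftIso
        (-n) n 0 (by lia)).app _ ≪≫
      (singleFunctor (ModuleCat.{u} (Localization.AtPrime p.asIdeal)) n).mapIso e3.symm ≪≫ e.symm
    have h1 : Dual.IsDualizing (Localization.AtPrime p.asIdeal)
        ((Dual.inD (Localization.AtPrime p.asIdeal) (Localization.AtPrime p.asIdeal))⟦-n⟧) :=
      isDualizing_of_iso e4.symm hB
    have h2 := isDualizing_shift h1 n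
    have h3 : Dual.IsDualizing (Localization.AtPrime p.asIdeal)
        (Dual.inD (Localization.AtPrime p.asIdeal) (Localization.AtPrime p.asIdeal)) :=
      isDualizing_of_iso ((shiftFunctorCompIsoId (Dual.D (Localization.AtPrime p.asIdeal))
        (-n) n (by lia)).app _) h2
    exact gor_of_isDualizing_inD _ h3

end Loc

section Open

variable {A : Type u} [CommRing A]

/-- the locus where a finite module is free of rank one is open -/
theorem isOpen_rankOneLocus [IsNoetherianRing A] (M : Type u) [AddCommGroup M] [Module A M]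
    [Module.Finite A M] :
    IsOpen {q : PrimeSpectrum A | Nonempty ((Localization.AtPrime q.asIdeal ⊗[A] M) ≃ₗ[
      Localization.AtPrime q.asIdeal] Localization.AtPrime q.asIdeal)} := by
  have hset : {q : PrimeSpectrum A | Nonempty ((Localization.AtPrime q.asIdeal ⊗[A] M) ≃ₗ[
      Localization.AtPrime q.asIdeal] Localization.AtPrime q.asIdeal)} =
      Subtype.val '' ((fun x : Module.freeLocus A M => Module.rankAtStalk M x.1) ⁻¹' {1}) := by
    ext q
    constructor
    · rintro ⟨e⟩
      haveI : Module.Free (Localization.AtPrime q.asIdeal)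
          (Localization.AtPrime q.asIdeal ⊗[A] M) := Module.Free.of_equiv e.symm
      have hq : q ∈ Module.freeLocus A M :=
        (Module.mem_freeLocus_iff_tensor q (Localization.AtPrime q.asIdeal)).mpr inferInstance
      refine ⟨⟨q, hq⟩, ?_, rfl⟩
      show Module.rankAtStalk M q = 1
      rw [Module.rankAtStalk_eq_finrank_tensorProduct, e.finrank_eq, Module.finrank_self]
    · rintro ⟨⟨q', hq'⟩, hr, rfl⟩
      have hr' : Module.rankAtStalk M q' = 1 := hr
      haveI : Module.Free (Localization.AtPrime q'.asIdeal)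
          (Localization.AtPrime q'.asIdeal ⊗[A] M) :=
        (Module.mem_freeLocus_iff_tensor q' (Localization.AtPrime q'.asIdeal)).mp hq'
      rw [Module.rankAtStalk_eq_finrank_tensorProduct] at hr'
      exact ⟨LinearEquiv.ofFinrankEq _ _ (by rw [hr', Module.finrank_self])⟩
  rw [hset]
  haveI : Module.FinitePresentation A M := Module.finitePresentation_of_finite A M
  have h1 := Module.isLocallyConstant_rankAtStalk_freeLocus (R := A) (M := M)
  exact (Module.isOpen_freeLocus (R := A) (M := M)).isOpenMap_subtype_val _ (h1.isOpen_fiber 1)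

theorem isOpen_gorLocus [IsNoetherianRing A] (ω : Dual.D A) (hω : Dual.IsDualizing A ω) :
    IsOpen {p : PrimeSpectrum A |
      LocCoh.IsGorensteinLocalRing (Localization.AtPrime p.asIdeal)} := by
  have hset : {p : PrimeSpectrum A |
      LocCoh.IsGorensteinLocalRing (Localization.AtPrime p.asIdeal)} =
      {p | ∃ n : ℤ, (∀ i : ℤ, i ≠ n → p ∉ Module.support A (Dual.HD A ω i)) ∧
        Nonempty ((Localization.AtPrime p.asIdeal ⊗[A] Dual.HD A ω n) ≃ₗ[Localization.AtPrime
          p.asIdeal] Localization.AtPrime p.asIdeal)} := by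
    ext p
    exact gor_localization_iff ω hω p
  rw [hset]
  obtain ⟨T⟩ := nonempty_res ω hω
  rw [isOpen_iff_forall_mem_open]
  rintro p ⟨n, hn, hN⟩
  haveI := hω.finite_cohomology n
  refine ⟨(⋂ i ∈ (Finset.Icc T.a T.b).erase n, (Module.support A (Dual.HD A ω i))ᶜ) ∩
    {q : PrimeSpectrum A | Nonempty ((Localization.AtPrime q.asIdeal ⊗[A] Dual.HD A ω n) ≃ₗ[
      Localization.AtPrime q.asIdeal] Localization.AtPrime q.asIdeal)}, ?_, ?_, ?_⟩
  · rintro q ⟨hq1, hq2⟩
    refine ⟨n, fun i hi => ?_, hq2⟩
    by_cases hi2 : i ∈ Finset.Icc T.a T.b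
    · exact Set.mem_iInter₂.1 hq1 i (Finset.mem_erase.2 ⟨hi, hi2⟩)
    · haveI := subsingleton_HD_of_res T i (by
        simp only [Finset.mem_Icc, not_and_or, not_le] at hi2
        exact hi2)
      rw [Module.notMem_support_iff]
      infer_instance
  · refine IsOpen.inter ?_ (isOpen_rankOneLocus (Dual.HD A ω n))
    apply isOpen_biInter_finset
    intro i _
    haveI := hω.finite_cohomology i
    exact (Module.isClosed_support (R := A) (M := Dual.HD A ω i)).isOpen_compl
  · exact ⟨Set.mem_iInter₂.2 fun i hi => hn i (Finset.mem_erase.1 hi).1, hN⟩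

end Open

end Groth.Agent.Lib.Helper5.GorLocus
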