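import Mathlib
import Groth.Agent.Lib.Helper5DualSchB
import Groth.Agent.Lib.Helper5PtDual
import Groth.Agent.Lib.Helper5GorLocus
import Groth.Agent.Lib.Helper5GorRing
import Groth.Agent.S0371

/-!
# Dualizing complexes on schemes: module-valued dualizing complexes, Gorenstein schemes (helper5)

* `isZero_HD_restrictD`, `isZero_homology_of_isZero_HD_tildeD`.
* `stalkEquivOfOpenImmersion`.
* `restrictD_inD_unit_iso`, `tildeD_inD_self_iso`.
* `isDualizing_inD_of_gorRing`: for a Gorenstein ring of finite Krull dimension, `A[0]` is dualizing.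
* `cm_stalk_of_isDualizingSch_inD`, `isDualizingSch_inD_structure_of_gor`.
-/

set_option autoImplicit false
universe u

open CategoryTheory CategoryTheory.Limits AlgebraicGeometry

attribute [local instance] HasDerivedCategory.standard

namespace Groth.Agent.Lib.Helper5.DualSch

open Groth.Agent.Lib.Helper1.Extend Groth.Agent.Lib.Helper5.LocD

section Zero

theorem isZero_HD_inD {X : Scheme.{u}} (M : X.Modules) (i : ℤ) (hi : i ≠ 0) :
    IsZero (DCoh.HD (DCoh.inD X M) i) := by
  rcases lt_or_gt_of_ne hi with h1 | h1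
  · exact DerivedCategory.isZero_of_isGE _ 0 i h1
  · exact DerivedCategory.isZero_of_isLE _ 0 i h1

theorem isZero_HD_restrictD {U X : Scheme.{u}} (j : U ⟶ X) [IsOpenImmersion j]
    [PreservesFiniteLimits (Scheme.Modules.restrictFunctor j)] (K : DCoh.D X) (i : ℤ)
    (h : IsZero (DCoh.HD K i)) : IsZero (DCoh.HD ((DCoh.restrictD j).obj K) i) :=
  IsZero.of_iso ((Scheme.Modules.restrictFunctor j).map_isZero h)
    (homologyMapDIso (Scheme.Modules.restrictFunctor j) K i)

theorem isZero_homology_of_isZero_HD_tildeD (R : CommRingCat.{u})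
    [PreservesFiniteLimits (tilde.functor R)] (ω : DerivedCategory (ModuleCat.{u} R)) (i : ℤ)
    (h : IsZero (DCoh.HD ((DCoh.tildeD R).obj ω) i)) :
    IsZero ((DerivedCategory.homologyFunctor (ModuleCat.{u} R) i).obj ω) := by
  have h1 : IsZero ((tilde.functor R).obj
      ((DerivedCategory.homologyFunctor (ModuleCat.{u} R) i).obj ω)) :=
    IsZero.of_iso h (homologyMapDIso (tilde.functor R) ω i).symm
  rw [IsZero.iff_id_eq_zero]
  apply (tilde.functor R).map_injective
  exact h1.eq_of_src _ _

end Zero

section StalkEquiv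

/-- the stalk of `X` at the image of a point under an open immersion from an affine scheme -/
noncomputable def stalkEquivOfOpenImmersion {X : Scheme.{u}} (R : CommRingCat.{u})
    (j : Spec R ⟶ X) [IsOpenImmersion j] (y : Spec R) :
    X.presheaf.stalk (j y) ≃+* Localization.AtPrime y.asIdeal :=
  (asIso (j.stalkMap y)).commRingCatIsoToRingEquiv.trans
    (Spec.stalkIso _ y).commRingCatIsoToRingEquiv

end StalkEquiv

section Unit

noncomputable def restrictD_inD_unit_iso {U X : Scheme.{u}} (j : U ⟶ X) [IsOpenImmersion j]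
    [PreservesFiniteLimits (Scheme.Modules.restrictFunctor j)] :
    (DCoh.restrictD j).obj (DCoh.inD X (Coh.structureModule X)) ≅
      DCoh.inD U (Coh.structureModule U) :=
  ((Scheme.Modules.restrictFunctor j).mapDerivedCategorySingleFunctor 0).app _ ≪≫
    (DerivedCategory.singleFunctor U.Modules 0).mapIso (Scheme.Modules.restrictUnitIso j)

noncomputable def tildeD_inD_self_iso (R : CommRingCat.{u})
    [PreservesFiniteLimits (tilde.functor R)] :
    (DCoh.tildeD R).obj
        ((DerivedCategory.singleFunctor (ModuleCat.{u} R) 0).obj (ModuleCat.of R R)) ≅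
      DCoh.inD (Spec (CommRingCat.of R)) (Coh.structureModule (Spec (CommRingCat.of R))) :=
  ((tilde.functor R).mapDerivedCategorySingleFunctor 0).app _ ≪≫
    (DerivedCategory.singleFunctor (Spec (CommRingCat.of R)).Modules 0).mapIso (tildeSelf (R := R))

end Unit

section GorRing

variable (A : Type u) [CommRing A]

theorem isDualizing_inD_of_gorRing [hA : LocCoh.IsGorensteinRing A] (hdim : ringKrullDim A < ⊤) :
    Dual.IsDualizing A (Dual.inD A A) := by
  haveI : IsNoetherianRing A := inferInstance
  refine Groth.Agent.Lib.Helper5.PtDual.isDualizing_of_pointwise (Dual.inD A A) ?_ ?_ 0 ?_ hdim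
  · intro p
    haveI := hA.isGorensteinLocalRing_localization p.asIdeal
    have e : (extD A (Localization.AtPrime p.asIdeal)).obj (Dual.inD A A) ≅
        Dual.inD (Localization.AtPrime p.asIdeal) (Localization.AtPrime p.asIdeal) :=
      extDInDIso (A := A) (B := Localization.AtPrime p.asIdeal) A ≪≫
        Groth.Agent.Lib.Helper5.NormDual.inDIso
          (TensorProduct.AlgebraTensorModule.rid A (Localization.AtPrime p.asIdeal)
            (Localization.AtPrime p.asIdeal))
    exact isDualizing_of_iso e.symm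
      (Groth.Agent.Lib.Helper5.GorLocus.isDualizing_inD_of_gor (Localization.AtPrime p.asIdeal))
  · intro i
    by_cases hi : i = 0
    · obtain ⟨e⟩ := Groth.Agent.Lib.Helper5.GorLocus.nonempty_HD_inD_iso (ModuleCat.of A A) i hi
      exact Module.Finite.equiv e.symm.toLinearEquiv
    · haveI : Subsingleton (Dual.HD A ((Dual.inD A A)⟦(0 : ℤ)⟧) i) :=
        subsingleton_HD_inD_shift A 0 i (by simpa using hi)
      haveI : Subsingleton (Dual.HD A (Dual.inD A A) i) :=
        (((DerivedCategory.homologyFunctor (ModuleCat.{u} A) i).mapIso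
          ((shiftFunctorZero (Dual.D A) ℤ).app (Dual.inD A A))).toLinearEquiv.toEquiv).symm.subsingleton
      exact Module.Finite.of_finite
  · intro i hi
    haveI : Subsingleton (Dual.HD A ((Dual.inD A A)⟦(0 : ℤ)⟧) i) :=
      subsingleton_HD_inD_shift A 0 i (by lia)
    exact (((DerivedCategory.homologyFunctor (ModuleCat.{u} A) i).mapIso
      ((shiftFunctorZero (Dual.D A) ℤ).app (Dual.inD A A))).toLinearEquiv.toEquiv).symm.subsingleton

end GorRing

section Sch

variable {X : Scheme.{u}}
  [∀ (U : Scheme.{u}) (j : U ⟶ X) [IsOpenImmersion j],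
    PreservesFiniteLimits (Scheme.Modules.restrictFunctor j)]
  [∀ (R : CommRingCat.{u}), PreservesFiniteLimits (tilde.functor R)]

/-- if `ω[0]` is a dualizing complex on `X` then every local ring of `X` is Cohen–Macaulay -/
theorem cm_stalk_of_isDualizingSch_inD (ω : X.Modules)
    (hD : Dual2.IsDualizingSch X (DCoh.inD X ω)) (x : X) :
    LocCoh.IsCohenMacaulayLocalRing (X.presheaf.stalk x) := by
  obtain ⟨U, hU, hxU, ωA, hωA, ⟨e⟩⟩ := exists_chart (DCoh.inD X ω) hD x
  haveI : IsNoetherianRing Γ(X, U) := hωA.isNoetherianRing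
  refine (cm_stalk_iff hU x hxU).mpr ((cm_localization_iff ωA hωA _).mpr ⟨0, fun i hi => ?_⟩)
  have h1 := isZero_HD_restrictD hU.fromSpec (DCoh.inD X ω) i (isZero_HD_inD ω i hi)
  have h2 : IsZero (DCoh.HD ((DCoh.tildeD (CommRingCat.of Γ(X, U))).obj ωA) i) :=
    IsZero.of_iso h1 ((DerivedCategory.homologyFunctor _ i).mapIso e).symm
  have h3 := isZero_homology_of_isZero_HD_tildeD (CommRingCat.of Γ(X, U)) ωA i h2
  haveI : Subsingleton (Dual.HD Γ(X, U) ωA i) := ModuleCat.subsingleton_of_isZero h3
  rw [Module.support_eq_empty]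
  exact Set.notMem_empty _

/-- on a Gorenstein scheme with a dualizing complex, the structure sheaf is a dualizing complex -/
theorem isDualizingSch_inD_structure_of_gor
    (hG : ∀ x : X, LocCoh.IsGorensteinLocalRing (X.presheaf.stalk x))
    (K : DCoh.D X) (hK : Dual2.IsDualizingSch X K) :
    Dual2.IsDualizingSch X (DCoh.inD X (Coh.structureModule X)) := by
  intro A _ j _
  obtain ⟨ωA, hωA, -⟩ := hK A j
  haveI : IsNoetherianRing A := hωA.isNoetherianRing
  have hdim := Groth.Agent.S0371.result A ωA hωA
  haveI : LocCoh.IsGorensteinRing A :=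
    { isGorensteinLocalRing_localization := fun p hp => by
        haveI := hG (j (⟨p, hp⟩ : PrimeSpectrum A))
        exact Groth.Agent.Lib.Helper5.GorRing.gorLocal_of_ringEquiv
          (stalkEquivOfOpenImmersion (CommRingCat.of A) j (⟨p, hp⟩ : PrimeSpectrum A)) }
  refine ⟨Dual.inD A A, isDualizing_inD_of_gorRing A hdim, ⟨?_⟩⟩
  exact restrictD_inD_unit_iso j ≪≫ (tildeD_inD_self_iso (CommRingCat.of A)).symm

end Sch

end Groth.Agent.Lib.Helper5.DualSch
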