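import Mathlib
import Groth.Agent.Lib.Helper5DualSchC

/-!
# Dualizing complexes on schemes: restriction to smaller charts (helper5)

* `mapDerivedCategoryObjIso`, `mapDerivedCategoryCompObjIso`, `mapDerivedCategoryIdObjIso`:
  objectwise comparison isomorphisms for `Functor.mapDerivedCategory`.
* `tildeRestrictIso φ`: `tilde ⋙ restrict (Spec.map φ) ≅ extendScalars φ ⋙ tilde` for a ring map `φ`
  with `Spec.map φ` an open immersion.
* `restrictD_comp_iso`, `restrictD_congr`, `restrictD_id_iso`.
* `restrictD_chart_iso`: passing from a chart `Spec R → X` of `K` to the chart `Spec S → Spec R → X`.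
* `restrictD_opensRange_iso_of_chart`: a trivialisation of `K` on a chart `Spec S → X` gives a
  trivialisation on the open subscheme `opensRange`.
-/

set_option autoImplicit false
universe u

open CategoryTheory CategoryTheory.Limits AlgebraicGeometry

namespace Groth.Agent.Lib.Helper5.DualSch

section General

universe v₁ v₂ v₃ u₁ u₂ u₃ w₁ w₂ w₃

variable {C₁ : Type u₁} [Category.{v₁} C₁] [Abelian C₁] [HasDerivedCategory.{w₁} C₁]
  {C₂ : Type u₂} [Category.{v₂} C₂] [Abelian C₂] [HasDerivedCategory.{w₂} C₂]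
  {C₃ : Type u₃} [Category.{v₃} C₃] [Abelian C₃] [HasDerivedCategory.{w₃} C₃]

open DerivedCategory

/-- objectwise isomorphism of derived functors induced by a natural isomorphism -/
noncomputable def mapDerivedCategoryObjIso (F G : C₁ ⥤ C₂) [F.Additive] [PreservesFiniteLimits F]
    [PreservesFiniteColimits F] [G.Additive] [PreservesFiniteLimits G]
    [PreservesFiniteColimits G] (α : F ≅ G) (X : DerivedCategory C₁) :
    F.mapDerivedCategory.obj X ≅ G.mapDerivedCategory.obj X :=
  F.mapDerivedCategory.mapIso (Q.objObjPreimageIso X).symm ≪≫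
    F.mapDerivedCategoryFactors.app _ ≪≫
    Q.mapIso ((NatIso.mapHomologicalComplex α (ComplexShape.up ℤ)).app _) ≪≫
    (G.mapDerivedCategoryFactors.app _).symm ≪≫
    G.mapDerivedCategory.mapIso (Q.objObjPreimageIso X)

/-- objectwise: the derived functor of a composite -/
noncomputable def mapDerivedCategoryCompObjIso (F : C₁ ⥤ C₂) (G : C₂ ⥤ C₃) [F.Additive]
    [PreservesFiniteLimits F] [PreservesFiniteColimits F] [G.Additive] [PreservesFiniteLimits G]
    [PreservesFiniteColimits G] (X : DerivedCategory C₁) :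
    (F ⋙ G).mapDerivedCategory.obj X ≅ G.mapDerivedCategory.obj (F.mapDerivedCategory.obj X) :=
  (F ⋙ G).mapDerivedCategory.mapIso (Q.objObjPreimageIso X).symm ≪≫
    (F ⋙ G).mapDerivedCategoryFactors.app _ ≪≫
    (G.mapDerivedCategoryFactors.app
      ((F.mapHomologicalComplex (ComplexShape.up ℤ)).obj (Q.objPreimage X))).symm ≪≫
    G.mapDerivedCategory.mapIso ((F.mapDerivedCategoryFactors.app _).symm ≪≫
      F.mapDerivedCategory.mapIso (Q.objObjPreimageIso X))

/-- objectwise: the derived functor of the identity -/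
noncomputable def mapDerivedCategoryIdObjIso (X : DerivedCategory C₁) :
    (𝟭 C₁).mapDerivedCategory.obj X ≅ X :=
  (𝟭 C₁).mapDerivedCategory.mapIso (Q.objObjPreimageIso X).symm ≪≫
    (𝟭 C₁).mapDerivedCategoryFactors.app _ ≪≫
    Q.mapIso ((Functor.mapHomologicalComplexIdIso C₁ (ComplexShape.up ℤ)).app _) ≪≫
    Q.objObjPreimageIso X

end General

section Tilde

variable {R S : CommRingCat.{u}} (φ : R ⟶ S)

/-- global sections of a pushforward along `Spec.map φ` -/
noncomputable def pushforwardΓIso :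
    Scheme.Modules.pushforward (Spec.map φ) ⋙ moduleSpecΓFunctor (R := R) ≅
      moduleSpecΓFunctor (R := S) ⋙ ModuleCat.restrictScalars φ.hom :=
  Functor.isoWhiskerRight (pushforwardCompModulesSpecToSheafIso φ)
    (TopCat.Sheaf.forget _ _ ⋙ (evaluation _ _).obj (.op ⊤)) ≪≫
  NatIso.ofComponents (fun M => Iso.refl _) (fun f => by rfl)

variable [IsOpenImmersion (Spec.map φ)]

/-- restriction of `M~` to the open `Spec S` of `Spec R` is `(S ⊗ M)~` -/
noncomputable def tildeRestrictIso :
    tilde.functor R ⋙ Scheme.Modules.restrictFunctor (Spec.map φ) ≅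
      ModuleCat.extendScalars.{u, u, u} φ.hom ⋙ tilde.functor S :=
  ((tilde.adjunction (R := R)).comp
      (Scheme.Modules.restrictAdjunction (Spec.map φ))).leftAdjointUniq
    (((ModuleCat.extendRestrictScalarsAdj φ.hom).comp (tilde.adjunction (R := S))).ofNatIsoRight
      (pushforwardΓIso φ).symm)

end Tilde

attribute [local instance] HasDerivedCategory.standard

section Restrict

variable
  [∀ (U V : Scheme.{u}) (j : U ⟶ V) [IsOpenImmersion j],
    PreservesFiniteLimits (Scheme.Modules.restrictFunctor j)]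

theorem restrictD_congr {Y X : Scheme.{u}} (f f' : Y ⟶ X) [IsOpenImmersion f]
    [IsOpenImmersion f'] (h : f = f') (K : DCoh.D X) :
    Nonempty ((DCoh.restrictD f).obj K ≅ (DCoh.restrictD f').obj K) := by
  subst h
  exact ⟨Iso.refl _⟩

noncomputable def restrictD_comp_iso {Z Y X : Scheme.{u}} (f : Z ⟶ Y) (g : Y ⟶ X)
    [IsOpenImmersion f] [IsOpenImmersion g] (K : DCoh.D X) :
    (DCoh.restrictD (f ≫ g)).obj K ≅ (DCoh.restrictD f).obj ((DCoh.restrictD g).obj K) :=
  mapDerivedCategoryObjIso _ _ (Scheme.Modules.restrictFunctorComp f g) K ≪≫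
    mapDerivedCategoryCompObjIso (Scheme.Modules.restrictFunctor g)
      (Scheme.Modules.restrictFunctor f) K

noncomputable def restrictD_id_iso {X : Scheme.{u}} (K : DCoh.D X) :
    (DCoh.restrictD (𝟙 X)).obj K ≅ K :=
  mapDerivedCategoryObjIso _ _ (Scheme.Modules.restrictFunctorId (X := X)) K ≪≫
    mapDerivedCategoryIdObjIso K

/-- restriction along an isomorphism is (objectwise) inverted by restriction along the inverse -/
theorem restrictD_iso_cancel {Y X : Scheme.{u}} (ψ : Y ≅ X) (M : DCoh.D X) :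
    Nonempty ((DCoh.restrictD ψ.inv).obj ((DCoh.restrictD ψ.hom).obj M) ≅ M) := by
  obtain ⟨e⟩ := restrictD_congr (ψ.inv ≫ ψ.hom) (𝟙 X) ψ.inv_hom_id M
  exact ⟨(restrictD_comp_iso ψ.inv ψ.hom M).symm ≪≫ e ≪≫ restrictD_id_iso M⟩

/-- restriction of a shifted structure sheaf -/
noncomputable def restrictD_shift_unit_iso {U X : Scheme.{u}} (j : U ⟶ X) [IsOpenImmersion j]
    (n : ℤ) :
    (DCoh.restrictD j).obj ((DCoh.inD X (Coh.structureModule X))⟦n⟧) ≅
      (DCoh.inD U (Coh.structureModule U))⟦n⟧ :=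
  ((DCoh.restrictD j).commShiftIso n).app _ ≪≫
    (shiftFunctor (DCoh.D U) n).mapIso (restrictD_inD_unit_iso j)

end Restrict

section Chart

variable
  [∀ (U V : Scheme.{u}) (j : U ⟶ V) [IsOpenImmersion j],
    PreservesFiniteLimits (Scheme.Modules.restrictFunctor j)]
  [∀ (R : CommRingCat.{u}), PreservesFiniteLimits (tilde.functor R)]

/-- passing from a chart `Spec R → X` of `K` to the smaller chart `Spec S → Spec R → X` -/
noncomputable def restrictD_chart_iso {X : Scheme.{u}} {R S : CommRingCat.{u}} (φ : R ⟶ S)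
    [IsOpenImmersion (Spec.map φ)] [PreservesFiniteLimits (ModuleCat.extendScalars.{u, u, u} φ.hom)]
    (j : Spec R ⟶ X) [IsOpenImmersion j] (K : DCoh.D X)
    (ω : DerivedCategory (ModuleCat.{u} R))
    (e : (DCoh.restrictD j).obj K ≅ (DCoh.tildeD R).obj ω) :
    (DCoh.restrictD (Spec.map φ ≫ j)).obj K ≅
      (DCoh.tildeD S).obj ((ModuleCat.extendScalars.{u, u, u} φ.hom).mapDerivedCategory.obj ω) :=
  restrictD_comp_iso (Spec.map φ) j K ≪≫ (DCoh.restrictD (Spec.map φ)).mapIso e ≪≫
    (mapDerivedCategoryCompObjIso (tilde.functor R)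
      (Scheme.Modules.restrictFunctor (Spec.map φ)) ω).symm ≪≫
    mapDerivedCategoryObjIso (C₂ := (Spec (CommRingCat.of S)).Modules)
      (tilde.functor R ⋙ Scheme.Modules.restrictFunctor (Spec.map φ))
      (ModuleCat.extendScalars.{u, u, u} φ.hom ⋙ tilde.functor S) (tildeRestrictIso φ) ω ≪≫
    mapDerivedCategoryCompObjIso (ModuleCat.extendScalars.{u, u, u} φ.hom) (tilde.functor S) ω

/-- the derived tilde of a shift of the ring is a shift of the structure sheaf -/
noncomputable def tildeD_shift_self_iso (S : CommRingCat.{u}) (n : ℤ) :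
    (DCoh.tildeD S).obj
        (((DerivedCategory.singleFunctor (ModuleCat.{u} S) 0).obj (ModuleCat.of S S))⟦n⟧) ≅
      (DCoh.inD (Spec (CommRingCat.of S)) (Coh.structureModule (Spec (CommRingCat.of S))))⟦n⟧ :=
  ((DCoh.tildeD S).commShiftIso n).app _ ≪≫
    (shiftFunctor (DCoh.D (Spec (CommRingCat.of S))) n).mapIso (tildeD_inD_self_iso S)

/-- a trivialisation of `K` on a chart gives a trivialisation on the open subscheme `opensRange` -/
theorem restrictD_opensRange_iso_of_chart {X Y : Scheme.{u}} (j : Y ⟶ X) [IsOpenImmersion j]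
    (K : DCoh.D X) (n : ℤ)
    (e : (DCoh.restrictD j).obj K ≅ (DCoh.inD Y (Coh.structureModule Y))⟦n⟧) :
    Nonempty ((DCoh.restrictD j.opensRange.ι).obj K ≅
      (DCoh.inD (j.opensRange : Scheme.{u})
        (Coh.structureModule (j.opensRange : Scheme.{u})))⟦n⟧) := by
  obtain ⟨e1⟩ := restrictD_congr j (j.isoOpensRange.hom ≫ j.opensRange.ι)
    j.isoOpensRange_hom_ι.symm K
  have e2 : (DCoh.restrictD j.isoOpensRange.hom).obj ((DCoh.restrictD j.opensRange.ι).obj K) ≅
      (DCoh.inD Y (Coh.structureModule Y))⟦n⟧ :=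
    (restrictD_comp_iso j.isoOpensRange.hom j.opensRange.ι K).symm ≪≫ e1.symm ≪≫ e
  obtain ⟨e3⟩ := restrictD_iso_cancel j.isoOpensRange ((DCoh.restrictD j.opensRange.ι).obj K)
  exact ⟨e3.symm ≪≫ (DCoh.restrictD j.isoOpensRange.inv).mapIso e2 ≪≫
    restrictD_shift_unit_iso j.isoOpensRange.inv n⟩

end Chart

end Groth.Agent.Lib.Helper5.DualSch
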