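import Mathlib
import Groth.Agent.Lib.Helper5DualSchD
import Groth.Prelude.Def_Dual3

/-!
# Gorenstein schemes and invertible dualizing complexes (helper5)

* `exists_away_iso_shift`: if `A_p` is Gorenstein and `ω` is dualizing, then on a basic open
  neighbourhood `D(g)` of `p` the complex `ω` is a shift of the ring.
* `isInvertibleD_of_gor`, `gor_stalk_of_isInvertibleD`: a dualizing complex on a locally Noetherian
  scheme is invertible iff the scheme is Gorenstein.
-/

set_option autoImplicit false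
universe u

open CategoryTheory CategoryTheory.Limits AlgebraicGeometry TensorProduct

attribute [local instance] HasDerivedCategory.standard

namespace Groth.Agent.Lib.Helper5.DualSch

open Groth.Agent.Lib.Helper1.Extend Groth.Agent.Lib.Helper5.LocD
  Groth.Agent.Lib.Helper5.GorLocus Groth.Agent.Lib.Helper5.BiDual

section Ring

lemma subsingleton_tensor_of_unit_kills {A B M : Type*} [CommRing A] [CommRing B] [Algebra A B]
    [AddCommGroup M] [Module A M] (s : A) (hs : IsUnit (algebraMap A B s))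
    (hM : ∀ m : M, s • m = 0) : Subsingleton (B ⊗[A] M) := by
  have key : ∀ z : B ⊗[A] M, z = 0 := by
    intro z
    have h1 : (algebraMap A B s) • z = 0 := by
      induction z using TensorProduct.induction_on with
      | zero => exact smul_zero _
      | tmul b m =>
        rw [TensorProduct.smul_tmul', algebraMap_smul, TensorProduct.smul_tmul, hM,
          TensorProduct.tmul_zero]
      | add x y hx hy => rw [smul_add, hx, hy, add_zero]
    obtain ⟨v, hv⟩ := hs
    calc z = ((↑v⁻¹ : B) * ↑v) • z := by rw [Units.inv_mul, one_smul]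
      _ = (↑v⁻¹ : B) • ((algebraMap A B s) • z) := by rw [mul_smul, hv]
      _ = 0 := by rw [h1, smul_zero]
  exact ⟨fun x y => by rw [key x, key y]⟩

variable {A : Type u} [CommRing A]

theorem exists_away_iso_shift [IsNoetherianRing A] (ω : Dual.D A) (hω : Dual.IsDualizing A ω)
    (p : PrimeSpectrum A)
    (hG : LocCoh.IsGorensteinLocalRing (Localization.AtPrime p.asIdeal)) :
    ∃ (g : A) (_ : g ∉ p.asIdeal) (n : ℤ),
      Nonempty ((extD A (Localization.Away g)).obj ω ≅
        (Dual.inD (Localization.Away g) (Localization.Away g))⟦n⟧) := by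
  obtain ⟨n, hsupp, ⟨ep⟩⟩ := (gor_localization_iff ω hω p).mp hG
  obtain ⟨T⟩ := nonempty_res ω hω
  haveI := p.isPrime
  -- step A: an element killing the other cohomology modules
  have hA : ∃ g₁ : A, g₁ ∉ p.asIdeal ∧ ∀ i : ℤ, i ≠ n → ∀ m : Dual.HD A ω i, g₁ • m = 0 := by
    have hex : ∀ i : ℤ, i ≠ n → ∃ gi : A, gi ∉ p.asIdeal ∧ ∀ m : Dual.HD A ω i, gi • m = 0 := by
      intro i hi
      haveI := hω.finite_cohomology i
      have h1 := hsupp i hi
      rw [Module.mem_support_iff_of_finite] at h1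
      obtain ⟨gi, hgi, hgip⟩ := SetLike.not_le_iff_exists.mp h1
      exact ⟨gi, hgip, fun m => Module.mem_annihilator.mp hgi m⟩
    choose! gf hgf1 hgf2 using hex
    refine ⟨∏ i ∈ (Finset.Icc T.a T.b).erase n, gf i, ?_, ?_⟩
    · intro hmem
      obtain ⟨i, hi, hip⟩ := (Ideal.IsPrime.prod_mem_iff).mp hmem
      exact hgf1 i (Finset.ne_of_mem_erase hi) hip
    · intro i hi m
      by_cases hi2 : i ∈ Finset.Icc T.a T.b
      · have hmem : i ∈ (Finset.Icc T.a T.b).erase n := Finset.mem_erase.mpr ⟨hi, hi2⟩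
        rw [← Finset.mul_prod_erase _ _ hmem, mul_comm, mul_smul, hgf2 i hi m, smul_zero]
      · haveI := subsingleton_HD_of_res T i (by
          simp only [Finset.mem_Icc, not_and_or, not_le] at hi2
          exact hi2)
        exact Subsingleton.elim _ _
  obtain ⟨g₁, hg₁, hkill⟩ := hA
  -- step B: freeness of `H^n` near `p`
  haveI := hω.finite_cohomology n
  haveI : Module.FinitePresentation A (Dual.HD A ω n) := Module.finitePresentation_of_finite A _
  haveI : Module.Free (Localization.AtPrime p.asIdeal)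
      (Localization.AtPrime p.asIdeal ⊗[A] Dual.HD A ω n) := Module.Free.of_equiv ep.symm
  obtain ⟨r₀, hr₀, hfree, hrank⟩ := Module.FinitePresentation.exists_free_localizedModule_powers
    p.asIdeal.primeCompl
    (TensorProduct.mk A (Localization.AtPrime p.asIdeal) (Dual.HD A ω n) 1)
    (Localization.AtPrime p.asIdeal)
  haveI := hfree
  haveI : Module.Finite (Localization.Away r₀) (LocalizedModule.Away r₀ (Dual.HD A ω n)) :=
    Module.Finite.of_isLocalizedModule (Submonoid.powers r₀)
      (LocalizedModule.mkLinearMap (Submonoid.powers r₀) (Dual.HD A ω n))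
  haveI : Nontrivial (Localization.Away r₀) :=
    (show Localization (.powers r₀) →+* Localization.AtPrime p.asIdeal from
      IsLocalization.map (M := .powers r₀) (T := p.asIdeal.primeCompl) _
        (RingHom.id _) (Submonoid.powers_le.mpr hr₀)).domain_nontrivial
  have e₀ : LocalizedModule.Away r₀ (Dual.HD A ω n) ≃ₗ[Localization.Away r₀]
      Localization.Away r₀ :=
    LinearEquiv.ofFinrankEq _ _ (by
      rw [hrank, ep.finrank_eq, Module.finrank_self, Module.finrank_self])
  -- step C: the element `g`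
  refine ⟨r₀ * g₁, fun h => (p.isPrime.mem_or_mem h).elim hr₀ hg₁, -n, ?_⟩
  have hgunit : IsUnit (algebraMap A (Localization.Away (r₀ * g₁)) (r₀ * g₁)) :=
    IsLocalization.Away.algebraMap_isUnit (r₀ * g₁)
  have hunit₀ : IsUnit (algebraMap A (Localization.Away (r₀ * g₁)) r₀) := by
    rw [map_mul] at hgunit
    exact isUnit_of_mul_isUnit_left hgunit
  have hunit₁ : IsUnit (algebraMap A (Localization.Away (r₀ * g₁)) g₁) := by
    rw [map_mul] at hgunit
    exact isUnit_of_mul_isUnit_right hgunit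
  -- the cohomology of the base change
  have hcoh : ∀ i : ℤ, Nonempty (Dual.HD (Localization.Away (r₀ * g₁))
      ((extD A (Localization.Away (r₀ * g₁))).obj ω) i ≃ₗ[Localization.Away (r₀ * g₁)]
      (Localization.Away (r₀ * g₁) ⊗[A] Dual.HD A ω i)) := fun i =>
    ⟨(Groth.Agent.Lib.Helper1.Extend.homologyMapDIso
      (ext A (Localization.Away (r₀ * g₁))) ω i).toLinearEquiv ≪≫ₗ
      extEquiv (A := A) (B := Localization.Away (r₀ * g₁)) (Dual.HD A ω i)⟩
  have hz : ∀ i : ℤ, i ≠ n → IsZero ((DerivedCategory.homologyFunctor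
      (ModuleCat.{u} (Localization.Away (r₀ * g₁))) i).obj
      ((extD A (Localization.Away (r₀ * g₁))).obj ω)) := by
    intro i hi
    obtain ⟨e⟩ := hcoh i
    haveI := subsingleton_tensor_of_unit_kills (B := Localization.Away (r₀ * g₁)) g₁ hunit₁
      (hkill i hi)
    haveI : Subsingleton (Dual.HD (Localization.Away (r₀ * g₁))
      ((extD A (Localization.Away (r₀ * g₁))).obj ω) i) := e.toEquiv.subsingleton
    exact ModuleCat.isZero_of_subsingleton _
  -- the module in degree `n`
  letI : Algebra (Localization.Away r₀) (Localization.Away (r₀ * g₁)) :=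
    (IsLocalization.Away.lift r₀ hunit₀).toAlgebra
  haveI : IsScalarTower A (Localization.Away r₀) (Localization.Away (r₀ * g₁)) :=
    IsScalarTower.of_algebraMap_eq (fun a => (IsLocalization.Away.lift_eq r₀ hunit₀ a).symm)
  have e₁ : (Localization.Away r₀ ⊗[A] Dual.HD A ω n) ≃ₗ[Localization.Away r₀]
      Localization.Away r₀ :=
    (IsLocalizedModule.isBaseChange (Submonoid.powers r₀) (Localization.Away r₀)
      (LocalizedModule.mkLinearMap (Submonoid.powers r₀) (Dual.HD A ω n))).equiv ≪≫ₗ e₀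
  have e₂ : (Localization.Away (r₀ * g₁) ⊗[A] Dual.HD A ω n) ≃ₗ[Localization.Away (r₀ * g₁)]
      Localization.Away (r₀ * g₁) :=
    (TensorProduct.AlgebraTensorModule.cancelBaseChange A (Localization.Away r₀)
      (Localization.Away (r₀ * g₁)) (Localization.Away (r₀ * g₁)) (Dual.HD A ω n)).symm ≪≫ₗ
    TensorProduct.AlgebraTensorModule.congr
      (LinearEquiv.refl (Localization.Away (r₀ * g₁)) (Localization.Away (r₀ * g₁))) e₁ ≪≫ₗ
    TensorProduct.AlgebraTensorModule.rid (Localization.Away r₀) (Localization.Away (r₀ * g₁))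
      (Localization.Away (r₀ * g₁))
  obtain ⟨e₃⟩ := hcoh n
  haveI : ((extD A (Localization.Away (r₀ * g₁))).obj ω).IsGE n :=
    (DerivedCategory.isGE_iff _ n).mpr fun i hi => hz i (by lia)
  haveI : ((extD A (Localization.Away (r₀ * g₁))).obj ω).IsLE n :=
    (DerivedCategory.isLE_iff _ n).mpr fun i hi => hz i (by lia)
  obtain ⟨e₄⟩ := Groth.Agent.S0973.iso_single_of_amp
    ((extD A (Localization.Away (r₀ * g₁))).obj ω) n
  exact ⟨e₄ ≪≫ (DerivedCategory.singleFunctor (ModuleCat.{u} (Localization.Away (r₀ * g₁))) n).mapIso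
      (e₃ ≪≫ₗ e₂).toModuleIso ≪≫
    (((DerivedCategory.singleFunctors (ModuleCat.{u} (Localization.Away (r₀ * g₁)))).shiftIso
      (-n) n 0 (by lia)).app (ModuleCat.of _ (Localization.Away (r₀ * g₁)))).symm⟩

end Ring

section Sch

variable {X : Scheme.{u}}
  [∀ (U V : Scheme.{u}) (j : U ⟶ V) [IsOpenImmersion j],
    PreservesFiniteLimits (Scheme.Modules.restrictFunctor j)]
  [∀ (R : CommRingCat.{u}), PreservesFiniteLimits (tilde.functor R)]

/-- a dualizing complex on a Gorenstein scheme is invertible -/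
theorem isInvertibleD_of_gor
    (hG : ∀ x : X, LocCoh.IsGorensteinLocalRing (X.presheaf.stalk x))
    (K : DCoh.D X) (hK : Dual2.IsDualizingSch X K) : Dual3.IsInvertibleD K := by
  intro x
  obtain ⟨U, hU, hxU, ω, hω, ⟨e⟩⟩ := exists_chart K hK x
  haveI : IsNoetherianRing Γ(X, U) := hω.isNoetherianRing
  have hfs : hU.fromSpec (hU.primeIdealOf ⟨x, hxU⟩) = x := hU.fromSpec_primeIdealOf ⟨x, hxU⟩
  have hGp : LocCoh.IsGorensteinLocalRing
      (Localization.AtPrime (hU.primeIdealOf ⟨x, hxU⟩).asIdeal) := by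
    have hx' : LocCoh.IsGorensteinLocalRing
        (X.presheaf.stalk (hU.fromSpec (hU.primeIdealOf ⟨x, hxU⟩))) := by
      rw [hfs]; exact hG x
    haveI := hx'
    exact Groth.Agent.Lib.Helper5.GorRing.gorLocal_of_ringEquiv
      (Groth.Agent.Lib.Helper5.LCIGorSch.stalkFromSpecEquiv hU (hU.primeIdealOf ⟨x, hxU⟩))
  obtain ⟨g, hg, n, ⟨eg⟩⟩ := exists_away_iso_shift ω hω (hU.primeIdealOf ⟨x, hxU⟩) hGp
  haveI : IsOpenImmersion (Spec.map (CommRingCat.ofHom
      (algebraMap Γ(X, U) (Localization.Away g)))) :=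
    Scheme.isOpenImmersion_SpecMap_localizationAway (R := Γ(X, U)) g
  haveI : PreservesFiniteLimits (ModuleCat.extendScalars.{u, u, u}
      (CommRingCat.ofHom (algebraMap Γ(X, U) (Localization.Away g))).hom) :=
    inferInstanceAs (PreservesFiniteLimits (ext Γ(X, U) (Localization.Away g)))
  have e1 := restrictD_chart_iso (R := Γ(X, U)) (S := CommRingCat.of (Localization.Away g))
    (CommRingCat.ofHom (algebraMap Γ(X, U) (Localization.Away g))) hU.fromSpec K ω e
  have e2 : (DCoh.restrictD (Spec.map (CommRingCat.ofHom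
      (algebraMap Γ(X, U) (Localization.Away g))) ≫ hU.fromSpec)).obj K ≅
      (DCoh.inD (Spec (CommRingCat.of (Localization.Away g)))
        (Coh.structureModule (Spec (CommRingCat.of (Localization.Away g)))))⟦n⟧ :=
    e1 ≪≫ (DCoh.tildeD (CommRingCat.of (Localization.Away g))).mapIso eg ≪≫
      tildeD_shift_self_iso (CommRingCat.of (Localization.Away g)) n
  obtain ⟨e3⟩ := restrictD_opensRange_iso_of_chart (Spec.map (CommRingCat.ofHom
      (algebraMap Γ(X, U) (Localization.Away g))) ≫ hU.fromSpec) K n e2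
  refine ⟨(Spec.map (CommRingCat.ofHom
      (algebraMap Γ(X, U) (Localization.Away g))) ≫ hU.fromSpec).opensRange, n, ?_, ⟨e3⟩⟩
  -- the point lies in the chart
  have hrange : (hU.primeIdealOf ⟨x, hxU⟩ : PrimeSpectrum Γ(X, U)) ∈
      Set.range (PrimeSpectrum.comap (algebraMap Γ(X, U) (Localization.Away g))) := by
    rw [PrimeSpectrum.localization_away_comap_range (Localization.Away g) g]
    exact hg
  obtain ⟨y, hy⟩ := hrange
  refine ⟨y, ?_⟩
  rw [Scheme.Hom.comp_apply]
  exact (congrArg (fun z => hU.fromSpec z) hy).trans hfs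

/-- if the derived tilde of `ω` is a shift of the structure sheaf, then `ω` has cohomology in one
degree only, where it is free of rank one -/
theorem homology_of_tildeD_iso_shift (R : CommRingCat.{u})
    (ω : DerivedCategory (ModuleCat.{u} R)) (n : ℤ)
    (e : (DCoh.tildeD R).obj ω ≅
      (DCoh.inD (Spec (CommRingCat.of R))
        (Coh.structureModule (Spec (CommRingCat.of R))))⟦n⟧) :
    (∀ i : ℤ, i ≠ -n →
      IsZero ((DerivedCategory.homologyFunctor (ModuleCat.{u} R) i).obj ω)) ∧
    Nonempty ((DerivedCategory.homologyFunctor (ModuleCat.{u} R) (-n)).obj ω ≅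
      ModuleCat.of R R) := by
  have hsh : ∀ (i m : ℤ) (_ : n + i = m), DCoh.HD ((DCoh.tildeD R).obj ω) i ≅
      DCoh.HD (DCoh.inD (Spec (CommRingCat.of R))
        (Coh.structureModule (Spec (CommRingCat.of R)))) m := fun i m hm =>
    (DerivedCategory.homologyFunctor (Spec (CommRingCat.of R)).Modules i).mapIso e ≪≫
      ((DerivedCategory.homologyFunctor (Spec (CommRingCat.of R)).Modules 0).shiftIso
        n i m hm).app _
  constructor
  · intro i hi
    apply isZero_homology_of_isZero_HD_tildeD R ω i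
    exact IsZero.of_iso (isZero_HD_inD _ (n + i) (by lia)) (hsh i (n + i) rfl)
  · have e1 : (tilde.functor R).obj
        ((DerivedCategory.homologyFunctor (ModuleCat.{u} R) (-n)).obj ω) ≅
        (tilde.functor R).obj (ModuleCat.of R R) :=
      (homologyMapDIso (tilde.functor R) ω (-n)).symm ≪≫ hsh (-n) 0 (by lia) ≪≫
        (DerivedCategory.singleFunctorCompHomologyFunctorIso
          (Spec (CommRingCat.of R)).Modules 0).app _ ≪≫ (tildeSelf (R := R)).symm
    exact ⟨(tilde.fullyFaithfulFunctor (R := R)).preimageIso e1⟩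

/-- a scheme with an invertible dualizing complex has Gorenstein local rings -/
theorem gor_stalk_of_isInvertibleD
    (K : DCoh.D X) (hK : Dual2.IsDualizingSch X K) (hinv : Dual3.IsInvertibleD K) (x : X) :
    LocCoh.IsGorensteinLocalRing (X.presheaf.stalk x) := by
  obtain ⟨V, n, hxV, ⟨eV⟩⟩ := hinv x
  obtain ⟨_, ⟨W, hW, rfl⟩, hxW, -⟩ :=
    ((V : Scheme.{u}).isBasis_affineOpens).exists_subset_of_mem_open
      (Set.mem_univ (⟨x, hxV⟩ : (V : Scheme.{u}))) isOpen_univ
  have hW' : IsAffineOpen W := hW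
  haveI : IsOpenImmersion hW'.fromSpec := hW'.isOpenImmersion_fromSpec
  have hj : IsOpenImmersion ((hW'.fromSpec ≫ V.ι :
      Spec (CommRingCat.of Γ((V : Scheme.{u}), W)) ⟶ X)) := IsOpenImmersion.comp hW'.fromSpec V.ι
  obtain ⟨ωC, hωC, ⟨eC⟩⟩ := @hK Γ((V : Scheme.{u}), W) inferInstance (hW'.fromSpec ≫ V.ι) hj
  haveI : IsNoetherianRing Γ((V : Scheme.{u}), W) := hωC.isNoetherianRing
  have e' : (DCoh.tildeD (CommRingCat.of Γ((V : Scheme.{u}), W))).obj ωC ≅
      (DCoh.inD (Spec (CommRingCat.of Γ((V : Scheme.{u}), W)))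
        (Coh.structureModule (Spec (CommRingCat.of Γ((V : Scheme.{u}), W)))))⟦n⟧ :=
    eC.symm ≪≫ restrictD_comp_iso hW'.fromSpec V.ι K ≪≫
      (DCoh.restrictD hW'.fromSpec).mapIso eV ≪≫ restrictD_shift_unit_iso hW'.fromSpec n
  obtain ⟨hz, ⟨e0⟩⟩ :=
    homology_of_tildeD_iso_shift (CommRingCat.of Γ((V : Scheme.{u}), W)) ωC n e'
  have hGq : LocCoh.IsGorensteinLocalRing
      (Localization.AtPrime (hW'.primeIdealOf ⟨⟨x, hxV⟩, hxW⟩).asIdeal) := by
    refine (gor_localization_iff ωC hωC (hW'.primeIdealOf ⟨⟨x, hxV⟩, hxW⟩)).mpr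
      ⟨-n, fun i hi => ?_, ⟨?_⟩⟩
    · haveI : Subsingleton (Dual.HD Γ((V : Scheme.{u}), W) ωC i) :=
        ModuleCat.subsingleton_of_isZero (hz i hi)
      rw [Module.support_eq_empty]
      exact Set.notMem_empty _
    · exact TensorProduct.AlgebraTensorModule.congr
        (LinearEquiv.refl (Localization.AtPrime (hW'.primeIdealOf ⟨⟨x, hxV⟩, hxW⟩).asIdeal)
          (Localization.AtPrime (hW'.primeIdealOf ⟨⟨x, hxV⟩, hxW⟩).asIdeal))
        e0.toLinearEquiv ≪≫ₗ
        TensorProduct.AlgebraTensorModule.rid Γ((V : Scheme.{u}), W)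
          (Localization.AtPrime (hW'.primeIdealOf ⟨⟨x, hxV⟩, hxW⟩).asIdeal)
          (Localization.AtPrime (hW'.primeIdealOf ⟨⟨x, hxV⟩, hxW⟩).asIdeal)
  have hjq : (hW'.fromSpec ≫ V.ι) (hW'.primeIdealOf ⟨⟨x, hxV⟩, hxW⟩) = x := by
    rw [Scheme.Hom.comp_apply, hW'.fromSpec_primeIdealOf ⟨⟨x, hxV⟩, hxW⟩]
    rfl
  have h2 : LocCoh.IsGorensteinLocalRing
      (X.presheaf.stalk ((hW'.fromSpec ≫ V.ι) (hW'.primeIdealOf ⟨⟨x, hxV⟩, hxW⟩))) := by
    have := hGq
    exact Groth.Agent.Lib.Helper5.GorRing.gorLocal_of_ringEquiv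
      (@stalkEquivOfOpenImmersion X (CommRingCat.of Γ((V : Scheme.{u}), W)) (hW'.fromSpec ≫ V.ι)
        hj (hW'.primeIdealOf ⟨⟨x, hxV⟩, hxW⟩)).symm
  rw [hjq] at h2
  exact h2

end Sch

end Groth.Agent.Lib.Helper5.DualSch
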