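import Mathlib
import Groth.Agent.Lib.Helper5DSheafA
import Groth.Agent.Lib.Helper5DualSchE
import Groth.Agent.Lib.Helper26StalkBC
import Groth.Agent.Lib.Helper26TildeStalk
import Groth.Agent.Lib.Helper29AdjDepthSurj

/-!
# Stalks of the lowest cohomology sheaf of a dualizing complex (helper5)

* `hasSk_of_bijective_algebraMap`: Serre's condition is insensitive to a ring isomorphism.
* `stalkUnit_bijective`: for an open immersion the stalks of a module and of its pullback agree.
* `stalk_hasS2_torsionFree_of_chart`: the stalks of the lowest cohomology sheaf of a dualizing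
  complex satisfy `(S_2)` and are torsion-free over domains.
-/

set_option autoImplicit false
universe u
open CategoryTheory CategoryTheory.Limits AlgebraicGeometry TensorProduct
attribute [local instance] HasDerivedCategory.standard

namespace Groth.Agent.Lib.Helper5.DSheaf

open Groth.Agent.Lib.Helper28 Groth.Agent.Lib.Helper29AdjDepthSurj
  Groth.Agent.Lib.Helper4.NormDelta Groth.Agent.Lib.Helper26.StalkBC
  Groth.Agent.Lib.Helper26.TildeStalk Groth.Agent.Lib.Helper5.LocD

section Transfer

variable {R R' : Type u} [CommRing R] [CommRing R'] [Algebra R R']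

theorem annihilator_eq_comap (M : Type u) [AddCommGroup M] [Module R' M] [Module R M]
    [IsScalarTower R R' M] :
    Module.annihilator R M = (Module.annihilator R' M).comap (algebraMap R R') := by
  ext r
  simp only [Ideal.mem_comap, Module.mem_annihilator]
  exact forall_congr' fun m => by rw [algebraMap_smul]

theorem supportDim_eq_of_surjective (hπ : Function.Surjective (algebraMap R R')) (M : Type u)
    [AddCommGroup M] [Module R' M] [Module R M] [IsScalarTower R R' M] [Module.Finite R M]
    [Module.Finite R' M] : Module.supportDim R M = Module.supportDim R' M := by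
  rw [Module.supportDim_eq_ringKrullDim_quotient_annihilator,
    Module.supportDim_eq_ringKrullDim_quotient_annihilator]
  have hle : Module.annihilator R M ≤ (Module.annihilator R' M).comap (algebraMap R R') :=
    (annihilator_eq_comap M).le
  have hinj : Function.Injective (Ideal.quotientMap (Module.annihilator R' M)
      (algebraMap R R') hle) := Ideal.quotientMap_injective' (annihilator_eq_comap M).ge
  have hsurj : Function.Surjective (Ideal.quotientMap (Module.annihilator R' M)
      (algebraMap R R') hle) := Ideal.quotientMap_surjective hπ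
  exact ringKrullDim_eq_of_ringEquiv (RingEquiv.ofBijective _ ⟨hinj, hsurj⟩)

theorem supportDim_localization_eq_of_surjective
    (hπ : Function.Surjective (algebraMap R R')) (M : Type u)
    [AddCommGroup M] [Module R' M] [Module R M] [IsScalarTower R R' M] [Module.Finite R M]
    (P : Ideal R) [P.IsPrime] (p : Ideal R') [p.IsPrime] (hPp : P = p.comap (algebraMap R R')) :
    Module.supportDim (Localization.AtPrime P) (LocalizedModule P.primeCompl M) =
      Module.supportDim (Localization.AtPrime p) (LocalizedModule p.primeCompl M) := by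
  classical
  letI : Algebra (Localization.AtPrime P) (Localization.AtPrime p) :=
    (Localization.localRingHom P p (algebraMap R R') hPp).toAlgebra
  letI : Module (Localization.AtPrime P) (LocalizedModule p.primeCompl M) :=
    Module.compHom (LocalizedModule p.primeCompl M)
      (Localization.localRingHom P p (algebraMap R R') hPp)
  haveI : IsScalarTower (Localization.AtPrime P) (Localization.AtPrime p)
      (LocalizedModule p.primeCompl M) :=
    IsScalarTower.of_algebraMap_smul fun _ _ => rfl
  haveI : IsScalarTower R (Localization.AtPrime P) (LocalizedModule p.primeCompl M) := by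
    apply IsScalarTower.of_algebraMap_smul
    intro s y
    show Localization.localRingHom P p (algebraMap R R') hPp
      (algebraMap R (Localization.AtPrime P) s) • y = s • y
    rw [Localization.localRingHom_to_map, algebraMap_smul, algebraMap_smul]
  haveI hloc : IsLocalizedModule (Algebra.algebraMapSubmonoid R' P.primeCompl)
      (LocalizedModule.mkLinearMap p.primeCompl M) := by
    rw [algebraMapSubmonoid_primeCompl hπ P p hPp]
    infer_instance
  haveI : IsLocalizedModule P.primeCompl
      ((LocalizedModule.mkLinearMap p.primeCompl M).restrictScalars R) :=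
    IsLocalizedModule.restrictScalars P.primeCompl (LocalizedModule.mkLinearMap p.primeCompl M)
  let e₀ : LocalizedModule P.primeCompl M ≃ₗ[R] LocalizedModule p.primeCompl M :=
    IsLocalizedModule.iso P.primeCompl
      ((LocalizedModule.mkLinearMap p.primeCompl M).restrictScalars R)
  let e : LocalizedModule P.primeCompl M ≃ₗ[Localization.AtPrime P]
      LocalizedModule p.primeCompl M :=
    LinearEquiv.extendScalarsOfIsLocalization P.primeCompl (Localization.AtPrime P) e₀
  haveI : Module.Finite (Localization.AtPrime P) (LocalizedModule P.primeCompl M) :=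
    Module.Finite.of_isLocalizedModule P.primeCompl (LocalizedModule.mkLinearMap P.primeCompl M)
  haveI : Module.Finite (Localization.AtPrime P) (LocalizedModule p.primeCompl M) :=
    Module.Finite.equiv e
  haveI : Module.Finite (Localization.AtPrime p) (LocalizedModule p.primeCompl M) :=
    Module.Finite.of_restrictScalars_finite (Localization.AtPrime P) (Localization.AtPrime p) _
  have hsurj : Function.Surjective
      (algebraMap (Localization.AtPrime P) (Localization.AtPrime p)) := by
    intro z
    obtain ⟨⟨r', s'⟩, rfl⟩ := IsLocalization.mk'_surjective p.primeCompl z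
    obtain ⟨r, rfl⟩ := hπ r'
    obtain ⟨s, hs⟩ := hπ s'.1
    have hsP : s ∈ P.primeCompl := by
      intro hmem
      rw [hPp] at hmem
      exact s'.2 (by rw [← hs]; exact hmem)
    refine ⟨IsLocalization.mk' (Localization.AtPrime P) r ⟨s, hsP⟩, ?_⟩
    show Localization.localRingHom P p (algebraMap R R') hPp _ = _
    rw [Localization.localRingHom_mk']
    congr 1
    exact Subtype.ext hs
  rw [Module.supportDim_eq_of_equiv e]
  exact supportDim_eq_of_surjective hsurj (LocalizedModule p.primeCompl M)

theorem hasSk_of_bijective_algebraMap [IsNoetherianRing R] [IsNoetherianRing R']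
    (hb : Function.Bijective (algebraMap R R')) (M : Type u)
    [AddCommGroup M] [Module R' M] [Module R M] [IsScalarTower R R' M] [Module.Finite R M]
    (k : ℕ) (h : LocCoh.HasSk k R' M) : LocCoh.HasSk k R M := by
  intro P hP
  let e : R ≃+* R' := RingEquiv.ofBijective (algebraMap R R') hb
  let p : Ideal R' := P.comap (e.symm : R' →+* R)
  haveI : p.IsPrime := Ideal.comap_isPrime _ _
  have hPp : P = p.comap (algebraMap R R') := by
    ext x
    simp only [p, Ideal.mem_comap]
    change x ∈ P ↔ e.symm (e x) ∈ P
    rw [RingEquiv.symm_apply_apply]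
  have h1 := h p
  rw [depth_localization_eq_of_surjective hb.2 M P p hPp,
    supportDim_localization_eq_of_surjective hb.2 M P p hPp]
  exact h1

theorem torsionFree_of_bijective_algebraMap (hb : Function.Bijective (algebraMap R R'))
    (M : Type u) [AddCommGroup M] [Module R' M] [Module R M] [IsScalarTower R R' M]
    [Module.IsTorsionFree R' M] : Module.IsTorsionFree R M := by
  refine Module.IsTorsionFree.comap (algebraMap R R') (fun r hr => ?_)
    (fun r m => algebraMap_smul R' r m)
  have hleft : IsLeftRegular (algebraMap R R' r) := by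
    intro a b hab
    obtain ⟨a₀, rfl⟩ := hb.2 a
    obtain ⟨b₀, rfl⟩ := hb.2 b
    have h1 : algebraMap R R' (r * a₀) = algebraMap R R' (r * b₀) := by
      rw [map_mul, map_mul]
      exact hab
    rw [hr.1 (hb.1 h1)]
  exact ⟨hleft, fun a b hab => hleft (by
    have h2 : a * algebraMap R R' r = b * algebraMap R R' r := hab
    rw [mul_comm a, mul_comm b] at h2
    exact h2)⟩

end Transfer

section OpenImm

variable {X Y : Scheme.{u}} (j : Y ⟶ X) [IsOpenImmersion j]

theorem isIso_stalkHom_of_isIso_restrict {F F' : X.Modules} (φ : F ⟶ F')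
    (h : IsIso ((Scheme.Modules.restrictFunctor j).map φ)) (y : Y) :
    IsIso (stalkHom φ (j y)) := by
  have h1 : IsIso ((Scheme.Modules.restrictFunctor j ⋙ Scheme.Modules.toPresheaf _ ⋙
      TopCat.Presheaf.stalkFunctor _ y).map φ) := by
    rw [Functor.comp_map]
    infer_instance
  exact (NatIso.isIso_map_iff (Scheme.Modules.restrictStalkNatIso j y) φ).mp h1

theorem isIso_restrict_unit (F : X.Modules) :
    IsIso ((Scheme.Modules.restrictFunctor j).map
      ((Scheme.Modules.pullbackPushforwardAdjunction j).unit.app F)) := by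
  have tri := (Scheme.Modules.pullbackPushforwardAdjunction j).left_triangle_components F
  haveI : IsIso ((Scheme.Modules.pullback j).map
      ((Scheme.Modules.pullbackPushforwardAdjunction j).unit.app F) ≫
      (Scheme.Modules.pullbackPushforwardAdjunction j).counit.app
        ((Scheme.Modules.pullback j).obj F)) := by
    rw [tri]
    infer_instance
  have h1 : IsIso ((Scheme.Modules.pullback j).map
      ((Scheme.Modules.pullbackPushforwardAdjunction j).unit.app F)) :=
    IsIso.of_isIso_comp_right _ ((Scheme.Modules.pullbackPushforwardAdjunction j).counit.app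
      ((Scheme.Modules.pullback j).obj F))
  exact (NatIso.isIso_map_iff (Scheme.Modules.restrictFunctorIsoPullback j) _).mpr h1

theorem stalkUnit_bijective (F : X.Modules) (y : Y) :
    Function.Bijective (stalkUnit j F y) := by
  haveI h1 : IsIso (stalkHom ((Scheme.Modules.pullbackPushforwardAdjunction j).unit.app F)
      (j y)) := isIso_stalkHom_of_isIso_restrict j _ (isIso_restrict_unit j F) y
  haveI h2 : IsIso (pushStalk j ((Scheme.Modules.pullback j).obj F) y) :=
    TopCat.Presheaf.stalkPushforward.stalkPushforward_iso_of_isInducing AddCommGrpCat.{u}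
      j.isOpenEmbedding.isInducing _ y
  haveI : IsIso (stalkUnit j F y) := by
    unfold stalkUnit
    infer_instance
  exact ConcreteCategory.bijective_of_isIso (stalkUnit j F y)

end OpenImm

section Tilde

open Groth.Agent.Lib.Helper1.Extend

theorem tilde_stalk_hasS2_torsionFree (R : CommRingCat.{u}) (ω : Dual.D R)
    (hω : Dual.IsDualizing R ω) (n : ℤ)
    (hlt : ∀ i : ℤ, i < n →
      IsZero ((DerivedCategory.homologyFunctor (ModuleCat.{u} R) i).obj ω))
    (T : (Spec R).Modules)
    (θ : T ≅ (tilde.functor R).obj
      ((DerivedCategory.homologyFunctor (ModuleCat.{u} R) n).obj ω)) (y : Spec R) :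
    IsNoetherianRing ((Spec R).presheaf.stalk y) ∧
      Module.Finite ((Spec R).presheaf.stalk y) (T.presheaf.stalk y) ∧
      LocCoh.HasSk 2 ((Spec R).presheaf.stalk y) (T.presheaf.stalk y) ∧
      (IsDomain ((Spec R).presheaf.stalk y) →
        Module.IsTorsionFree ((Spec R).presheaf.stalk y) (T.presheaf.stalk y)) := by
  haveI : IsNoetherianRing R := hω.isNoetherianRing
  letI algRB : Algebra ↑R ↑((Spec R).presheaf.stalk y) := StructureSheaf.stalkAlgebra (↑R) y
  haveI hloc : IsLocalization.AtPrime (↑((Spec R).presheaf.stalk y)) y.asIdeal :=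
    StructureSheaf.IsLocalization.to_stalk R y
  haveI : Module.Flat ↑R ↑((Spec R).presheaf.stalk y) :=
    IsLocalization.flat _ y.asIdeal.primeCompl
  have hω' : Dual.IsDualizing ↑((Spec R).presheaf.stalk y)
      ((extD ↑R ↑((Spec R).presheaf.stalk y)).obj ω) :=
    isDualizing_extD y.asIdeal.primeCompl (↑((Spec R).presheaf.stalk y)) ω hω
  haveI : IsNoetherianRing ↑((Spec R).presheaf.stalk y) := hω'.isNoetherianRing
  have hcoh : ∀ i : ℤ, Nonempty (Dual.HD ↑((Spec R).presheaf.stalk y)
      ((extD ↑R ↑((Spec R).presheaf.stalk y)).obj ω) i ≃ₗ[↑((Spec R).presheaf.stalk y)]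
      (↑((Spec R).presheaf.stalk y) ⊗[↑R] Dual.HD ↑R ω i)) := fun i =>
    ⟨(Groth.Agent.Lib.Helper1.Extend.homologyMapDIso
      (ext ↑R ↑((Spec R).presheaf.stalk y)) ω i).toLinearEquiv ≪≫ₗ
      extEquiv (A := ↑R) (B := ↑((Spec R).presheaf.stalk y)) (Dual.HD ↑R ω i)⟩
  have hlt' : ∀ i : ℤ, i < n → Subsingleton (Dual.HD ↑((Spec R).presheaf.stalk y)
      ((extD ↑R ↑((Spec R).presheaf.stalk y)).obj ω) i) := by
    intro i hi
    obtain ⟨e1⟩ := hcoh i
    haveI : Subsingleton (Dual.HD ↑R ω i) := ModuleCat.subsingleton_of_isZero (hlt i hi)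
    haveI : Subsingleton (↑((Spec R).presheaf.stalk y) ⊗[↑R] Dual.HD ↑R ω i) :=
      Groth.Agent.Lib.Helper5.DualSch.subsingleton_tensor_of_unit_kills
        (B := ↑((Spec R).presheaf.stalk y)) (1 : ↑R) (by rw [map_one]; exact isUnit_one)
        (fun m => Subsingleton.elim _ _)
    exact e1.toEquiv.subsingleton
  obtain ⟨hS, hT⟩ := lowest_hasS2_torsionFree
    ((extD ↑R ↑((Spec R).presheaf.stalk y)).obj ω) hω' n hlt'
  -- the stalk of the tilde module
  haveI tower : IsScalarTower ↑R ↑((Spec R).presheaf.stalk y)
      ↑((tilde ((DerivedCategory.homologyFunctor (ModuleCat.{u} R) n).obj ω)).presheaf.stalk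
        y) := ⟨fun r b m => by
    rw [Algebra.smul_def, mul_smul]
    exact (smul_stalk ((DerivedCategory.homologyFunctor (ModuleCat.{u} R) n).obj ω) y r
      (b • m)).symm⟩
  have hbc := IsLocalizedModule.isBaseChange y.asIdeal.primeCompl
    (↑((Spec R).presheaf.stalk y))
    (tilde.toStalk ((DerivedCategory.homologyFunctor (ModuleCat.{u} R) n).obj ω) y).hom
  haveI : IsIso (stalkHom θ.hom y) :=
    ((TopCat.Presheaf.stalkFunctor AddCommGrpCat.{u} y).mapIso
      ((Scheme.Modules.toPresheaf (Spec R)).mapIso θ)).isIso_hom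
  have hbij : Function.Bijective (stalkLin θ.hom y) :=
    ConcreteCategory.bijective_of_isIso (stalkHom θ.hom y)
  obtain ⟨e1⟩ := hcoh n
  let E : (T.presheaf.stalk y) ≃ₗ[↑((Spec R).presheaf.stalk y)]
      Dual.HD ↑((Spec R).presheaf.stalk y)
        ((extD ↑R ↑((Spec R).presheaf.stalk y)).obj ω) n :=
    LinearEquiv.ofBijective (stalkLin θ.hom y) hbij ≪≫ₗ hbc.equiv.symm ≪≫ₗ e1.symm
  haveI : Module.Finite ↑((Spec R).presheaf.stalk y) (Dual.HD ↑((Spec R).presheaf.stalk y)
      ((extD ↑R ↑((Spec R).presheaf.stalk y)).obj ω) n) := hω'.finite_cohomology n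
  refine ⟨inferInstance, Module.Finite.equiv E.symm, hasSk_of_linearEquiv E.symm hS,
    fun hdom => ?_⟩
  haveI := hT hdom
  exact Function.Injective.moduleIsTorsionFree E E.injective (fun r m => E.map_smul r m)

end Tilde

section Chart

open Groth.Agent.Lib.Helper5.DualSch

variable {X : Scheme.{u}} (R : CommRingCat.{u}) (j : Spec R ⟶ X) [IsOpenImmersion j]
  [PreservesFiniteLimits (Scheme.Modules.restrictFunctor j)]
  [PreservesFiniteLimits (tilde.functor R)]

theorem stalk_hasS2_torsionFree_of_chart (K : DCoh.D X) (ω : Dual.D R)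
    (hω : Dual.IsDualizing R ω)
    (e : (DCoh.restrictD j).obj K ≅ (DCoh.tildeD R).obj ω) (n : ℤ)
    (hlt : ∀ i : ℤ, i < n → IsZero (DCoh.HD K i)) (y : Spec R) :
    LocCoh.HasSk 2 (X.presheaf.stalk (j y)) ((DCoh.HD K n).presheaf.stalk (j y)) ∧
      (IsDomain (X.presheaf.stalk (j y)) →
        Module.IsTorsionFree (X.presheaf.stalk (j y))
          ((DCoh.HD K n).presheaf.stalk (j y))) := by
  let θ₁ : (Scheme.Modules.restrictFunctor j).obj (DCoh.HD K n) ≅ (tilde.functor R).obj
      ((DerivedCategory.homologyFunctor (ModuleCat.{u} R) n).obj ω) :=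
    (homologyMapDIso (Scheme.Modules.restrictFunctor j) K n).symm ≪≫
      (DerivedCategory.homologyFunctor (Spec R).Modules n).mapIso e ≪≫
      homologyMapDIso (tilde.functor R) ω n
  let θ : (Scheme.Modules.pullback j).obj (DCoh.HD K n) ≅ (tilde.functor R).obj
      ((DerivedCategory.homologyFunctor (ModuleCat.{u} R) n).obj ω) :=
    ((Scheme.Modules.restrictFunctorIsoPullback j).app (DCoh.HD K n)).symm ≪≫ θ₁
  have hlt0 : ∀ i : ℤ, i < n →
      IsZero ((DerivedCategory.homologyFunctor (ModuleCat.{u} R) i).obj ω) := fun i hi =>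
    isZero_homology_of_isZero_HD_tildeD R ω i
      (IsZero.of_iso (isZero_HD_restrictD j K i (hlt i hi))
        ((DerivedCategory.homologyFunctor (Spec R).Modules i).mapIso e.symm))
  obtain ⟨hN, hF, hS, hT⟩ := tilde_stalk_hasS2_torsionFree R ω hω n hlt0 _ θ y
  letI algBB : Algebra (X.presheaf.stalk (j y)) ((Spec R).presheaf.stalk y) :=
    (j.stalkMap y).hom.toAlgebra
  letI modB := FlatMod.moduleStalkOver j ((Scheme.Modules.pullback j).obj (DCoh.HD K n)) y
  haveI tower : IsScalarTower (X.presheaf.stalk (j y)) ((Spec R).presheaf.stalk y)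
      (((Scheme.Modules.pullback j).obj (DCoh.HD K n)).presheaf.stalk y) :=
    IsScalarTower.of_algebraMap_smul (fun b m => rfl)
  have hbij : Function.Bijective
      (algebraMap (X.presheaf.stalk (j y)) ((Spec R).presheaf.stalk y)) :=
    ConcreteCategory.bijective_of_isIso (j.stalkMap y)
  let Λ : ((DCoh.HD K n).presheaf.stalk (j y)) ≃ₗ[X.presheaf.stalk (j y)]
      ((Scheme.Modules.pullback j).obj (DCoh.HD K n)).presheaf.stalk y :=
    LinearEquiv.ofBijective (stalkUnitₗ j (DCoh.HD K n) y) (stalkUnit_bijective j _ y)
  haveI := hN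
  haveI : IsNoetherianRing (X.presheaf.stalk (j y)) :=
    isNoetherianRing_of_ringEquiv _ (RingEquiv.ofBijective _ hbij).symm
  haveI := hF
  haveI : Module.Finite (X.presheaf.stalk (j y)) ((Spec R).presheaf.stalk y) :=
    Module.Finite.of_surjective (Algebra.linearMap _ _) hbij.2
  haveI : Module.Finite (X.presheaf.stalk (j y))
      (((Scheme.Modules.pullback j).obj (DCoh.HD K n)).presheaf.stalk y) :=
    Module.Finite.trans ((Spec R).presheaf.stalk y) _
  refine ⟨hasSk_of_linearEquiv Λ.symm (hasSk_of_bijective_algebraMap hbij _ 2 hS),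
    fun hdom => ?_⟩
  haveI : IsDomain ((Spec R).presheaf.stalk y) :=
    MulEquiv.isDomain (X.presheaf.stalk (j y)) (RingEquiv.ofBijective _ hbij).symm.toMulEquiv
  haveI := hT inferInstance
  haveI := torsionFree_of_bijective_algebraMap hbij
    (((Scheme.Modules.pullback j).obj (DCoh.HD K n)).presheaf.stalk y)
  exact Function.Injective.moduleIsTorsionFree Λ Λ.injective (fun r m => Λ.map_smul r m)

end Chart

end Groth.Agent.Lib.Helper5.DSheaf
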