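import Mathlib
import Groth.Agent.Lib.Helper5DSheafB
import Groth.Agent.Lib.Helper28Reflexive2
import Groth.Agent.Lib.Helper11SmInt

/-!
# Reflexivity of torsion-free `(S_2)` modules over normal domains; finiteness of the stalks of the
lowest cohomology sheaf of a dualizing complex (helper5)

* `isPrincipalIdealRing_localization_of_height_le_one`: localization of a normal Noetherian domain
  at a prime of height at most one is a principal ideal ring.
* `isReflexive_of_torsionFree_hasS2`: a finite torsion-free `(S_2)` module over a normal Noetherian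
  domain is reflexive.
* `stalk_finite_of_chart`: the stalks of the lowest cohomology sheaf of a dualizing complex are
  finite modules over Noetherian local rings.
-/

set_option autoImplicit false
universe u
open CategoryTheory CategoryTheory.Limits AlgebraicGeometry TensorProduct
attribute [local instance] HasDerivedCategory.standard

namespace Groth.Agent.Lib.Helper5.DSheaf

open Groth.Agent.Lib.Helper28 Groth.Agent.Lib.Helper29AdjDepthSurj
  Groth.Agent.Lib.Helper4.NormDelta Groth.Agent.Lib.Helper26.StalkBC
  Groth.Agent.Lib.Helper26.TildeStalk Groth.Agent.Lib.Helper5.LocD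

section Algebra

/-- Over a domain, a nontrivial torsion-free finite module has full support. -/
theorem support_eq_univ_of_torsionFree (R : Type u) [CommRing R] [IsDomain R] (N : Type u)
    [AddCommGroup N] [Module R N] [Module.Finite R N] [Module.IsTorsionFree R N] [Nontrivial N] :
    Module.support R N = Set.univ := by
  rw [Module.support_eq_zeroLocus]
  have hann : Module.annihilator R N = ⊥ := by
    rw [eq_bot_iff]
    intro r hr
    rw [Module.mem_annihilator] at hr
    obtain ⟨m, hm⟩ := exists_ne (0 : N)
    rcases smul_eq_zero.mp (hr m) with h | h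
    · exact h
    · exact absurd h hm
  rw [hann]
  simp

variable (B : Type u) [CommRing B] [IsDomain B] [IsNoetherianRing B] [IsIntegrallyClosed B]

theorem isPrincipalIdealRing_localization_of_height_le_one (p : Ideal B) [p.IsPrime]
    (hp : p.height ≤ 1) : IsPrincipalIdealRing (Localization.AtPrime p) := by
  haveI : IsIntegrallyClosed (Localization.AtPrime p) :=
    isIntegrallyClosed_of_isLocalization (Localization.AtPrime p) p.primeCompl
      (Ideal.primeCompl_le_nonZeroDivisors p)
  have hdim : ringKrullDim (Localization.AtPrime p) ≤ 1 := by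
    rw [IsLocalization.AtPrime.ringKrullDim_eq_height p (Localization.AtPrime p)]
    exact_mod_cast hp
  haveI : Ring.KrullDimLE 1 (Localization.AtPrime p) :=
    Ring.krullDimLE_iff.mpr (by exact_mod_cast hdim)
  have h4 : IsIntegrallyClosed (Localization.AtPrime p) ∧
      ∀ P : Ideal (Localization.AtPrime p), P ≠ ⊥ → P.IsPrime →
        P = IsLocalRing.maximalIdeal (Localization.AtPrime p) := by
    refine ⟨inferInstance, fun P hP hPp => ?_⟩
    have hmax : P.IsMaximal :=
      Ring.krullDimLE_one_iff_of_noZeroDivisors.mp inferInstance P hP hPp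
    exact IsLocalRing.eq_maximalIdeal hmax
  exact ((tfae_of_isNoetherianRing_of_isLocalRing_of_isDomain
    (Localization.AtPrime p)).out 3 0).mp h4

/-- A finite torsion-free `(S_2)` module over a normal Noetherian domain is reflexive. -/
theorem isReflexive_of_torsionFree_hasS2 (M : Type u) [AddCommGroup M] [Module B M]
    [Module.Finite B M] [Module.IsTorsionFree B M] (hS : LocCoh.HasSk 2 B M) :
    Module.IsReflexive B M := by
  rw [isReflexive_iff_forall_localization_or_depth_ge_two M]
  intro p _
  rcases subsingleton_or_nontrivial M with hM | hM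
  · left
    haveI := subsingleton_localizedModule p.primeCompl M
    exact isReflexive_of_subsingleton _ _
  by_cases hp : p.height ≤ 1
  · left
    haveI := isPrincipalIdealRing_localization_of_height_le_one B p hp
    haveI : Module.Free (Localization.AtPrime p) (LocalizedModule p.primeCompl M) :=
      Module.free_of_finite_type_torsion_free'
    infer_instance
  · right
    haveI : Nontrivial (LocalizedModule p.primeCompl M) := by
      obtain ⟨m, hm⟩ := exists_ne (0 : M)
      refine ⟨⟨LocalizedModule.mkLinearMap p.primeCompl M m, 0, fun h => hm ?_⟩⟩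
      rw [← map_zero (LocalizedModule.mkLinearMap p.primeCompl M)] at h
      obtain ⟨s, hs⟩ := (IsLocalizedModule.eq_iff_exists p.primeCompl _).mp h
      rw [smul_zero, Submonoid.smul_def] at hs
      rcases smul_eq_zero.mp hs with h0 | h0
      · exact absurd (h0 ▸ p.zero_mem : (s : B) ∈ p) s.2
      · exact h0
    have hsupp : Module.support (Localization.AtPrime p) (LocalizedModule p.primeCompl M) =
        Set.univ := support_eq_univ_of_torsionFree _ _
    have hdim : ((2 : ℕ) : WithBot ℕ∞) ≤ Module.supportDim (Localization.AtPrime p)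
        (LocalizedModule p.primeCompl M) := by
      have h1 : Module.supportDim (Localization.AtPrime p) (Localization.AtPrime p) ≤
          Module.supportDim (Localization.AtPrime p) (LocalizedModule p.primeCompl M) :=
        supportDim_le_of_support_subset (by rw [hsupp]; exact Set.subset_univ _)
      rw [Module.supportDim_self_eq_ringKrullDim,
        IsLocalization.AtPrime.ringKrullDim_eq_height p] at h1
      refine le_trans ?_ h1
      have h2 : (2 : ℕ∞) ≤ p.height := by
        rw [not_le] at hp
        have := Order.add_one_le_of_lt hp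
        rwa [one_add_one_eq_two] at this
      have h3 : ((2 : ℕ∞) : WithBot ℕ∞) ≤ ((p.height : ℕ∞) : WithBot ℕ∞) :=
        WithBot.coe_le_coe.mpr h2
      simpa using h3
    have := le_of_min_le (hS p) le_rfl hdim
    exact_mod_cast this

end Algebra

section Chart

open Groth.Agent.Lib.Helper5.DualSch Groth.Agent.Lib.Helper1.Extend

variable {X : Scheme.{u}} (R : CommRingCat.{u}) (j : Spec R ⟶ X) [IsOpenImmersion j]
  [PreservesFiniteLimits (Scheme.Modules.restrictFunctor j)]
  [PreservesFiniteLimits (tilde.functor R)]

theorem stalk_finite_of_chart (K : DCoh.D X) (ω : Dual.D R)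
    (hω : Dual.IsDualizing R ω)
    (e : (DCoh.restrictD j).obj K ≅ (DCoh.tildeD R).obj ω) (n : ℤ)
    (hlt : ∀ i : ℤ, i < n → IsZero (DCoh.HD K i)) (y : Spec R) :
    IsNoetherianRing (X.presheaf.stalk (j y)) ∧
      Module.Finite (X.presheaf.stalk (j y)) ((DCoh.HD K n).presheaf.stalk (j y)) := by
  let θ₁ : (Scheme.Modules.restrictFunctor j).obj (DCoh.HD K n) ≅ (tilde.functor R).obj
      ((DerivedCategory.homologyFunctor (ModuleCat.{u} R) n).obj ω) :=
    (homologyMapDIso (Scheme.Modules.restrictFunctor j) K n).symm ≪≫
      (DerivedCategory.homologyFunctor (Spec R).Modules n).mapIso e ≪≫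
      homologyMapDIso (tilde.functor R) ω n
  let θ : (Scheme.Modules.pullback j).obj (DCoh.HD K n) ≅ (tilde.functor R).obj
      ((DerivedCategory.homologyFunctor (ModuleCat.{u} R) n).obj ω) :=
    ((Scheme.Modules.restrictFunctorIsoPullback j).app (DCoh.HD K n)).symm ≪≫ θ₁
  have hlt0 : ∀ i : ℤ, i < n →
      IsZero ((DerivedCategory.homologyFunctor (ModuleCat.{u} R) i).obj ω) := fun i hi =>
    isZero_homology_of_isZero_HD_tildeD R ω i
      (IsZero.of_iso (isZero_HD_restrictD j K i (hlt i hi))
        ((DerivedCategory.homologyFunctor (Spec R).Modules i).mapIso e.symm))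
  obtain ⟨hN, hF, hS, hT⟩ := tilde_stalk_hasS2_torsionFree R ω hω n hlt0 _ θ y
  let algBB : Algebra (X.presheaf.stalk (j y)) ((Spec R).presheaf.stalk y) :=
    (j.stalkMap y).hom.toAlgebra
  let modB := FlatMod.moduleStalkOver j ((Scheme.Modules.pullback j).obj (DCoh.HD K n)) y
  haveI tower : IsScalarTower (X.presheaf.stalk (j y)) ((Spec R).presheaf.stalk y)
      (((Scheme.Modules.pullback j).obj (DCoh.HD K n)).presheaf.stalk y) :=
    IsScalarTower.of_algebraMap_smul (fun b m => rfl)
  have hbij : Function.Bijective
      (algebraMap (X.presheaf.stalk (j y)) ((Spec R).presheaf.stalk y)) :=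
    ConcreteCategory.bijective_of_isIso (j.stalkMap y)
  let Λ : ((DCoh.HD K n).presheaf.stalk (j y)) ≃ₗ[X.presheaf.stalk (j y)]
      ((Scheme.Modules.pullback j).obj (DCoh.HD K n)).presheaf.stalk y :=
    LinearEquiv.ofBijective (stalkUnitₗ j (DCoh.HD K n) y) (stalkUnit_bijective j _ y)
  haveI := hN
  haveI : IsNoetherianRing (X.presheaf.stalk (j y)) :=
    isNoetherianRing_of_ringEquiv _ (RingEquiv.ofBijective _ hbij).symm
  haveI := hF
  haveI : Module.Finite (X.presheaf.stalk (j y)) ((Spec R).presheaf.stalk y) :=
    Module.Finite.of_surjective (Algebra.linearMap _ _) hbij.2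
  haveI : Module.Finite (X.presheaf.stalk (j y))
      (((Scheme.Modules.pullback j).obj (DCoh.HD K n)).presheaf.stalk y) :=
    Module.Finite.trans ((Spec R).presheaf.stalk y) _
  exact ⟨inferInstance, Module.Finite.equiv Λ.symm⟩

end Chart

end Groth.Agent.Lib.Helper5.DSheaf
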