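import Mathlib

/-!
# Decomposition of `M/πM` along components of `V(π)` (helper5; for S18365)
-/

set_option autoImplicit false
set_option linter.style.haveILetI false
universe u

namespace Groth.Agent.Lib.Helper5.Decomp

variable {A : Type u} [CommRing A] (π : A) {ι : Type} (𝔓 : ι → Ideal A) [∀ i, (𝔓 i).IsPrime]

/-- elements vanishing at every `𝔓 i`, `i ∈ T` -/
noncomputable def Kf (X : Type u) [AddCommGroup X] [Module A X] (T : Set ι) : Submodule A X :=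
  ⨅ i ∈ T, LinearMap.ker (LocalizedModule.mkLinearMap (𝔓 i).primeCompl X)

lemma mem_Kf_iff {X : Type u} [AddCommGroup X] [Module A X] (T : Set ι) (x : X) :
    x ∈ Kf 𝔓 X T ↔ ∀ i ∈ T, ∃ s : A, s ∉ 𝔓 i ∧ s • x = 0 := by
  simp only [Kf, Submodule.mem_iInf, LinearMap.mem_ker]
  refine forall₂_congr (fun i _ => ?_)
  rw [IsLocalizedModule.eq_zero_iff (𝔓 i).primeCompl]
  exact ⟨fun ⟨c, hc⟩ => ⟨c.1, c.2, hc⟩, fun ⟨s, hs, h⟩ => ⟨⟨s, hs⟩, h⟩⟩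

lemma mem_Kf_iff' {X : Type u} [AddCommGroup X] [Module A X] (T : Set ι) (x : X) :
    x ∈ Kf 𝔓 X T ↔
      ∀ i ∈ T, x ∈ LinearMap.ker (LocalizedModule.mkLinearMap (𝔓 i).primeCompl X) := by
  simp only [Kf, Submodule.mem_iInf]

lemma Kf_inf_compl {X : Type u} [AddCommGroup X] [Module A X] (Y : Set ι) :
    Kf 𝔓 X Y ⊓ Kf 𝔓 X Yᶜ = Kf 𝔓 X Set.univ := by
  ext x
  rw [Submodule.mem_inf, mem_Kf_iff', mem_Kf_iff', mem_Kf_iff']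
  constructor
  · rintro ⟨h1, h2⟩ i -
    by_cases hi : i ∈ Y
    · exact h1 i hi
    · exact h2 i hi
  · intro h
    exact ⟨fun i _ => h i (Set.mem_univ i), fun i _ => h i (Set.mem_univ i)⟩

/-- `π X` -/
abbrev Pπ (X : Type u) [AddCommGroup X] [Module A X] : Submodule A X :=
  Ideal.span {π} • (⊤ : Submodule A X)

lemma mem_Pπ_iff {X : Type u} [AddCommGroup X] [Module A X] (x : X) :
    x ∈ Pπ π X ↔ ∃ y : X, π • y = x := by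
  rw [Pπ, Submodule.ideal_span_singleton_smul, Submodule.mem_smul_pointwise_iff_exists]
  simp

variable (M : Type u) [AddCommGroup M] [Module A M]

/-- the preimage in `M` of `Kf (M/πM) T` -/
noncomputable abbrev NN (T : Set ι) : Submodule A M :=
  (Kf 𝔓 (M ⧸ Pπ π M) T).comap (Submodule.mkQ (Pπ π M))

variable {M}

lemma Pπ_le_NN (T : Set ι) : Pπ π M ≤ NN π 𝔓 M T := by
  intro x hx
  show (Submodule.Quotient.mk x : M ⧸ Pπ π M) ∈ Kf 𝔓 (M ⧸ Pπ π M) T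
  rw [(Submodule.Quotient.mk_eq_zero _).2 hx]
  exact Submodule.zero_mem _

lemma key_down (Y T : Set ι) (a : NN π 𝔓 M Y)
    (ha : (Submodule.Quotient.mk a : ↥(NN π 𝔓 M Y) ⧸ Pπ π ↥(NN π 𝔓 M Y)) ∈ Kf 𝔓 _ T) :
    (Submodule.Quotient.mk (a : M) : M ⧸ Pπ π M) ∈ Kf 𝔓 _ T := by
  rw [mem_Kf_iff] at ha ⊢
  intro i hi
  obtain ⟨s, hs, h⟩ := ha i hi
  refine ⟨s, hs, ?_⟩
  rw [← Submodule.Quotient.mk_smul, Submodule.Quotient.mk_eq_zero, mem_Pπ_iff] at h ⊢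
  obtain ⟨y, hy⟩ := h
  refine ⟨(y : M), ?_⟩
  have := congrArg Subtype.val hy
  simpa using this

theorem main (hπ : ∀ m : M, π • m = 0 → m = 0)
    (htf : Kf 𝔓 (M ⧸ Pπ π M) Set.univ = ⊥) (Y Z : Set ι)
    (hY : Kf 𝔓 (M ⧸ Pπ π M) Y ⊔ Kf 𝔓 (M ⧸ Pπ π M) Yᶜ = ⊤)
    (hS : ∀ n : ↥(NN π 𝔓 M Y),
      (Submodule.Quotient.mk n : ↥(NN π 𝔓 M Y) ⧸ Pπ π ↥(NN π 𝔓 M Y)) ∈ Kf 𝔓 _ Yᶜ →
        (n : M) ∈ Pπ π M)
    (hZ : Kf 𝔓 (↥(NN π 𝔓 M Y) ⧸ Pπ π ↥(NN π 𝔓 M Y)) Z ⊔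
      Kf 𝔓 (↥(NN π 𝔓 M Y) ⧸ Pπ π ↥(NN π 𝔓 M Y)) Zᶜ = ⊤) :
    Kf 𝔓 (M ⧸ Pπ π M) Z ⊔ Kf 𝔓 (M ⧸ Pπ π M) Zᶜ = ⊤ := by
  classical
  set W : Submodule A M := (Kf 𝔓 (M ⧸ Pπ π M) Z ⊔ Kf 𝔓 (M ⧸ Pπ π M) Zᶜ).comap
    (Submodule.mkQ (Pπ π M)) with hW
  have hmemW : ∀ m : M, m ∈ W ↔ (Submodule.Quotient.mk m : M ⧸ Pπ π M) ∈
      Kf 𝔓 (M ⧸ Pπ π M) Z ⊔ Kf 𝔓 (M ⧸ Pπ π M) Zᶜ := fun m => Iff.rfl
  -- step 1
  have h1 : NN π 𝔓 M Y ≤ W := by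
    intro n hn
    have hmem : (Submodule.Quotient.mk (⟨n, hn⟩ : NN π 𝔓 M Y) :
        ↥(NN π 𝔓 M Y) ⧸ Pπ π ↥(NN π 𝔓 M Y)) ∈ (⊤ : Submodule A _) := Submodule.mem_top
    rw [← hZ, Submodule.mem_sup] at hmem
    obtain ⟨abar, ha, bbar, hb, hab⟩ := hmem
    obtain ⟨a, rfl⟩ := Submodule.Quotient.mk_surjective _ abar
    obtain ⟨b, rfl⟩ := Submodule.Quotient.mk_surjective _ bbar
    rw [← Submodule.Quotient.mk_add, Submodule.Quotient.eq, mem_Pπ_iff] at hab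
    obtain ⟨n₁, hn₁⟩ := hab
    have hn₁' : π • (n₁ : M) = (a : M) + (b : M) - n := by
      have := congrArg Subtype.val hn₁
      simpa using this
    rw [hmemW]
    refine Submodule.mem_sup.2 ⟨_, key_down π 𝔓 Y Z a ha, _, key_down π 𝔓 Y Zᶜ b hb, ?_⟩
    rw [← Submodule.Quotient.mk_add, Submodule.Quotient.eq, mem_Pπ_iff]
    exact ⟨n₁, hn₁'⟩
  -- step 3
  have h3 : ∀ m : M, ∃ u ∈ NN π 𝔓 M Y, ∃ v ∈ NN π 𝔓 M Yᶜ, u + v = m := by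
    intro m
    have hmem : (Submodule.Quotient.mk m : M ⧸ Pπ π M) ∈ (⊤ : Submodule A _) := Submodule.mem_top
    rw [← hY, Submodule.mem_sup] at hmem
    obtain ⟨ubar, hu, vbar, hv, huv⟩ := hmem
    obtain ⟨u, rfl⟩ := Submodule.Quotient.mk_surjective _ ubar
    obtain ⟨v, rfl⟩ := Submodule.Quotient.mk_surjective _ vbar
    rw [← Submodule.Quotient.mk_add, Submodule.Quotient.eq] at huv
    refine ⟨u, hu, v - (u + v - m), ?_, by abel⟩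
    exact Submodule.sub_mem _ hv (Pπ_le_NN π 𝔓 Yᶜ huv)
  -- key
  have key : ∀ (T : Set ι) (c : NN π 𝔓 M Y) (c' : M), π • c' = (c : M) →
      (Submodule.Quotient.mk c : ↥(NN π 𝔓 M Y) ⧸ Pπ π ↥(NN π 𝔓 M Y)) ∈ Kf 𝔓 _ T →
      (Submodule.Quotient.mk c' : M ⧸ Pπ π M) ∈
        Kf 𝔓 (M ⧸ Pπ π M) T ⊔ (Kf 𝔓 (M ⧸ Pπ π M) Z ⊔ Kf 𝔓 (M ⧸ Pπ π M) Zᶜ) := by
    intro T c c' hc hcT
    obtain ⟨u, hu, v, hv, huv⟩ := h3 c'
    have huW : (Submodule.Quotient.mk u : M ⧸ Pπ π M) ∈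
        Kf 𝔓 (M ⧸ Pπ π M) Z ⊔ Kf 𝔓 (M ⧸ Pπ π M) Zᶜ := (hmemW u).1 (h1 hu)
    have hvT : (Submodule.Quotient.mk v : M ⧸ Pπ π M) ∈ Kf 𝔓 (M ⧸ Pπ π M) T := by
      rw [mem_Kf_iff]
      intro i hi
      rw [mem_Kf_iff] at hcT
      obtain ⟨s, hs, h⟩ := hcT i hi
      refine ⟨s, hs, ?_⟩
      rw [← Submodule.Quotient.mk_smul, Submodule.Quotient.mk_eq_zero, mem_Pπ_iff] at h
      obtain ⟨n₂, hn₂⟩ := h
      have hn₂' : π • (n₂ : M) = s • (c : M) := by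
        have := congrArg Subtype.val hn₂
        simpa using this
      have hsc' : s • c' = (n₂ : M) := by
        have : π • (s • c' - (n₂ : M)) = 0 := by
          rw [smul_sub, hn₂', smul_comm, hc, sub_self]
        exact sub_eq_zero.1 (hπ _ this)
      have hsc'Y : s • c' ∈ NN π 𝔓 M Y := by rw [hsc']; exact n₂.2
      have hsuY : s • u ∈ NN π 𝔓 M Y := Submodule.smul_mem _ _ hu
      have hsvY : s • v ∈ NN π 𝔓 M Y := by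
        have : s • v = s • c' - s • u := by rw [← huv]; simp
        rw [this]
        exact Submodule.sub_mem _ hsc'Y hsuY
      have hsvYc : s • v ∈ NN π 𝔓 M Yᶜ := Submodule.smul_mem _ _ hv
      have hbot : (Submodule.Quotient.mk (s • v) : M ⧸ Pπ π M) ∈
          Kf 𝔓 (M ⧸ Pπ π M) Y ⊓ Kf 𝔓 (M ⧸ Pπ π M) Yᶜ := ⟨hsvY, hsvYc⟩
      rw [Kf_inf_compl, htf, Submodule.mem_bot] at hbot
      rw [← Submodule.Quotient.mk_smul]
      exact hbot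
    have : (Submodule.Quotient.mk c' : M ⧸ Pπ π M) =
        Submodule.Quotient.mk v + Submodule.Quotient.mk u := by
      rw [← Submodule.Quotient.mk_add, ← huv, add_comm]
    rw [this]
    exact Submodule.add_mem _ (Submodule.mem_sup_left hvT) (Submodule.mem_sup_right huW)
  -- step 2
  have h2 : NN π 𝔓 M Yᶜ ≤ W := by
    intro m hm
    have hπm : π • m ∈ NN π 𝔓 M Y := Pπ_le_NN π 𝔓 Y ((mem_Pπ_iff π _).2 ⟨m, rfl⟩)
    have hn₀Y : (Submodule.Quotient.mk (⟨π • m, hπm⟩ : NN π 𝔓 M Y) :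
        ↥(NN π 𝔓 M Y) ⧸ Pπ π ↥(NN π 𝔓 M Y)) ∈ Kf 𝔓 _ Yᶜ := by
      rw [mem_Kf_iff]
      intro i hi
      have hm' : (Submodule.Quotient.mk m : M ⧸ Pπ π M) ∈ Kf 𝔓 _ Yᶜ := hm
      rw [mem_Kf_iff] at hm'
      obtain ⟨s, hs, h⟩ := hm' i hi
      rw [← Submodule.Quotient.mk_smul, Submodule.Quotient.mk_eq_zero, mem_Pπ_iff] at h
      obtain ⟨m₁, hm₁⟩ := h
      refine ⟨s, hs, ?_⟩
      rw [← Submodule.Quotient.mk_smul, Submodule.Quotient.mk_eq_zero, mem_Pπ_iff]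
      refine ⟨⟨π • m₁, Pπ_le_NN π 𝔓 Y ((mem_Pπ_iff π _).2 ⟨m₁, rfl⟩)⟩, ?_⟩
      apply Subtype.ext
      show π • (π • m₁) = s • (π • m)
      rw [hm₁, smul_comm]
    have hmem : (Submodule.Quotient.mk (⟨π • m, hπm⟩ : NN π 𝔓 M Y) :
        ↥(NN π 𝔓 M Y) ⧸ Pπ π ↥(NN π 𝔓 M Y)) ∈ (⊤ : Submodule A _) := Submodule.mem_top
    rw [← hZ, Submodule.mem_sup] at hmem
    obtain ⟨abar, ha, bbar, hb, hab⟩ := hmem
    have haY : abar ∈ Kf 𝔓 _ Yᶜ := by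
      rw [mem_Kf_iff']
      intro i hi
      by_cases hiZ : i ∈ Z
      · exact (mem_Kf_iff' 𝔓 Z abar).1 ha i hiZ
      · have hb' := (mem_Kf_iff' 𝔓 Zᶜ bbar).1 hb i hiZ
        have hn' := (mem_Kf_iff' 𝔓 Yᶜ _).1 hn₀Y i hi
        have : abar = Submodule.Quotient.mk (⟨π • m, hπm⟩ : NN π 𝔓 M Y) - bbar := by
          rw [← hab]; abel
        rw [this]
        exact Submodule.sub_mem _ hn' hb'
    have hbY : bbar ∈ Kf 𝔓 _ Yᶜ := by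
      rw [mem_Kf_iff']
      intro i hi
      by_cases hiZ : i ∈ Z
      · have ha' := (mem_Kf_iff' 𝔓 Z abar).1 ha i hiZ
        have hn' := (mem_Kf_iff' 𝔓 Yᶜ _).1 hn₀Y i hi
        have : bbar = Submodule.Quotient.mk (⟨π • m, hπm⟩ : NN π 𝔓 M Y) - abar := by
          rw [← hab]; abel
        rw [this]
        exact Submodule.sub_mem _ hn' ha'
      · exact (mem_Kf_iff' 𝔓 Zᶜ bbar).1 hb i hiZ
    obtain ⟨a, rfl⟩ := Submodule.Quotient.mk_surjective _ abar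
    obtain ⟨b, rfl⟩ := Submodule.Quotient.mk_surjective _ bbar
    obtain ⟨a', ha'⟩ := (mem_Pπ_iff π _).1 (hS a haY)
    obtain ⟨b', hb'⟩ := (mem_Pπ_iff π _).1 (hS b hbY)
    rw [← Submodule.Quotient.mk_add, Submodule.Quotient.eq, mem_Pπ_iff] at hab
    obtain ⟨n₁, hn₁⟩ := hab
    have hn₁' : π • (n₁ : M) = (a : M) + (b : M) - π • m := by
      have := congrArg Subtype.val hn₁
      simpa using this
    have hm_eq : m = a' + b' - n₁ := by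
      have : π • (m - (a' + b' - (n₁ : M))) = 0 := by
        rw [smul_sub, smul_sub, smul_add, ha', hb', hn₁']
        abel
      exact sub_eq_zero.1 (hπ _ this)
    have ha'W : a' ∈ W := by
      rw [hmemW]
      exact (sup_le le_sup_left le_rfl : _ ≤ Kf 𝔓 (M ⧸ Pπ π M) Z ⊔ Kf 𝔓 (M ⧸ Pπ π M) Zᶜ)
        (key Z a a' ha' ha)
    have hb'W : b' ∈ W := by
      rw [hmemW]
      exact (sup_le le_sup_right le_rfl : _ ≤ Kf 𝔓 (M ⧸ Pπ π M) Z ⊔ Kf 𝔓 (M ⧸ Pπ π M) Zᶜ)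
        (key Zᶜ b b' hb' hb)
    rw [hm_eq]
    exact W.sub_mem (W.add_mem ha'W hb'W) (h1 n₁.2)
  rw [eq_top_iff]
  intro x _
  obtain ⟨m, rfl⟩ := Submodule.Quotient.mk_surjective _ x
  obtain ⟨u, hu, v, hv, rfl⟩ := h3 m
  exact (hmemW _).1 (W.add_mem (h1 hu) (h2 hv))

end Groth.Agent.Lib.Helper5.Decomp
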