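import Mathlib
import Groth.Agent.Lib.Helper5SliceListSch
import Groth.Agent.Lib.Helper5SliceListMain
import Groth.Agent.Lib.Helper5FiberStalk
import Groth.Agent.Lib.Helper5CMAffSp
import Groth.Agent.Lib.Helper6SmRegSch
import Groth.Prelude.Def_CInt

/-!
# Depth of the local ring of the source from the depth of the fibre (helper5)

For `f : X ⟶ S` locally of finite presentation and flat at `x` (no Noetherian hypothesis), a
sequence in the maximal ideal of `O_{X,x}` whose image in the fibre ring is regular is, in reverse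
order, regular on `O_{X,x}`; so the depth of `O_{X,x}` is at least its length.

* `length_le_depth_stalk`
* `exists_list_of_le_depth`
* `two_le_depth_stalk_of_smooth`: for a smooth morphism, if the local ring of the fibre at `x`
  has dimension at least `2` then `O_{X,x}` has depth at least `2`.
-/

set_option autoImplicit false
set_option linter.style.haveILetI false
universe u

open CategoryTheory CategoryTheory.Limits AlgebraicGeometry IsLocalRing RingTheory.Sequence

namespace Groth.Agent.Lib.Helper5.DepthFib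

open Groth.Agent.Lib.Helper5.SliceListSch Groth.Agent.Lib.Helper5.FiberStalk
  Groth.Agent.Lib.Helper5

theorem length_le_depth_stalk {X S : Scheme.{u}} (f : X ⟶ S) [LocallyOfFinitePresentation f]
    (x : X) (hflat : (f.stalkMap x).hom.Flat) (hs : List (X.presheaf.stalk x))
    (hm : ∀ h ∈ hs, h ∈ maximalIdeal (X.presheaf.stalk x))
    (hreg : IsWeaklyRegular (X.presheaf.stalk x ⧸ Ideal.map (f.stalkMap x).hom
        (maximalIdeal (S.presheaf.stalk (f x))))
      (hs.map (Ideal.Quotient.mk (Ideal.map (f.stalkMap x).hom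
        (maximalIdeal (S.presheaf.stalk (f x))))))) :
    (hs.length : ℕ∞) ≤ LocCoh.depth (X.presheaf.stalk x) (X.presheaf.stalk x) := by
  obtain ⟨V, hV, U₀, hU₀, hxU₀, e, rs₀, g, hrs₀, hxg, H⟩ :=
    exists_slice_list f x hflat hs hm hreg
  obtain ⟨hw, -⟩ := H 1
  have hxW : x ∈ X.basicOpen (g * 1) := by rw [mul_one]; exact hxg
  have hW : IsAffineOpen (X.basicOpen (g * 1)) := hU₀.basicOpen _
  letI := X.presheaf.algebra_section_stalk (⟨x, hxW⟩ : X.basicOpen (g * 1))
  haveI := hW.isLocalization_stalk ⟨x, hxW⟩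
  haveI : Module.Flat Γ(X, X.basicOpen (g * 1)) (X.presheaf.stalk x) :=
    IsLocalization.flat _ (hW.primeIdealOf ⟨x, hxW⟩).asIdeal.primeCompl
  have h1 := hw.of_flat (S := X.presheaf.stalk x)
  have h2 : ((rs₀.map (X.presheaf.map (homOfLE (X.basicOpen_le (g * 1))).op).hom).reverse.map
      (algebraMap Γ(X, X.basicOpen (g * 1)) (X.presheaf.stalk x))) = hs.reverse := by
    rw [List.map_reverse, List.map_map, ← hrs₀]
    congr 1
    apply List.map_congr_left
    intro t _
    exact TopCat.Presheaf.germ_res_apply X.presheaf (homOfLE (X.basicOpen_le (g * 1))) x hxW t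
  rw [h2] at h1
  unfold LocCoh.depth LocCoh.idealDepth
  split_ifs with htop
  · exact le_top
  · refine le_trans ?_ (le_iSup₂ (f := fun (rs : List (X.presheaf.stalk x))
      (_ : IsWeaklyRegular (X.presheaf.stalk x) rs ∧
        ∀ r ∈ rs, r ∈ maximalIdeal (X.presheaf.stalk x)) => (rs.length : ℕ∞)) hs.reverse
      ⟨h1, fun r hr => hm r (List.mem_reverse.mp hr)⟩)
    rw [List.length_reverse]

theorem exists_list_of_le_depth (R : Type u) [CommRing R] [IsLocalRing R] (n : ℕ)
    (h : (n : ℕ∞) ≤ LocCoh.depth R R) :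
    ∃ rs : List R, IsWeaklyRegular R rs ∧ (∀ r ∈ rs, r ∈ maximalIdeal R) ∧ n ≤ rs.length := by
  by_contra hcon
  push_neg at hcon
  unfold LocCoh.depth LocCoh.idealDepth at h
  have htop : ¬ (maximalIdeal R • (⊤ : Submodule R R) = ⊤) := by
    rw [smul_eq_mul, Ideal.mul_top]
    exact (maximalIdeal.isMaximal R).ne_top
  rw [if_neg htop] at h
  rcases Nat.eq_zero_or_pos n with rfl | hn
  · exact absurd (hcon [] (IsWeaklyRegular.nil R R) (by simp)) (by simp)
  have hle : (⨆ (rs : List R) (_ : IsWeaklyRegular R rs ∧ ∀ r ∈ rs, r ∈ maximalIdeal R),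
      (rs.length : ℕ∞)) ≤ ((n - 1 : ℕ) : ℕ∞) := by
    refine iSup₂_le fun rs hrs => ?_
    have := hcon rs hrs.1 hrs.2
    exact_mod_cast Nat.le_sub_one_of_lt this
  have h3 : (n : ℕ∞) ≤ ((n - 1 : ℕ) : ℕ∞) := h.trans hle
  have h4 : n ≤ n - 1 := by exact_mod_cast h3
  omega

/-- for a smooth morphism, fibre local ring of dimension at least two gives depth at least two. -/
theorem two_le_depth_stalk_of_smooth {X S : Scheme.{u}} (p : X ⟶ S) [Smooth p] (x : X)
    (hx : (2 : WithBot ℕ∞) ≤ ringKrullDim ↑(CInt.fiberStalk p x)) :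
    (2 : ℕ∞) ≤ LocCoh.depth ↑(X.presheaf.stalk x) ↑(X.presheaf.stalk x) := by
  haveI : Smooth (p.fiberToSpecResidueField (p x)) := by
    dsimp only [Scheme.Hom.fiberToSpecResidueField]
    exact MorphismProperty.pullback_snd (P := @Smooth) p _ inferInstance
  haveI hregF : IsRegularLocalRing ((p.fiber (p x)).presheaf.stalk (p.asFiber x)) :=
    Groth.Agent.Lib.Helper6.SmRegSch.isRegularLocalRing_stalk_of_smooth_over_field
      (S.residueField (p x)) (p.fiber (p x)) (p.fiberToSpecResidueField (p x)) (p.asFiber x)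
  obtain ⟨e₀⟩ := nonempty_stalk_asFiber_equiv p x
  haveI hregQ : IsRegularLocalRing (X.presheaf.stalk x ⧸
      (maximalIdeal (S.presheaf.stalk (p x))).map (p.stalkMap x).hom) :=
    IsRegularLocalRing.of_ringEquiv e₀
  have hcmQ : LocCoh.IsCohenMacaulayLocalRing (X.presheaf.stalk x ⧸
      (maximalIdeal (S.presheaf.stalk (p x))).map (p.stalkMap x).hom) :=
    isCohenMacaulayLocalRing_of_isRegularLocalRing _
  have hdimQ : (2 : WithBot ℕ∞) ≤ ringKrullDim (X.presheaf.stalk x ⧸
      (maximalIdeal (S.presheaf.stalk (p x))).map (p.stalkMap x).hom) := by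
    rw [← ringKrullDim_eq_of_ringEquiv e₀]
    exact hx
  have hdepth := hcmQ.supportDim_eq_depth
  rw [Module.supportDim_self_eq_ringKrullDim] at hdepth
  rw [hdepth] at hdimQ
  have h2 : ((2 : ℕ) : ℕ∞) ≤ LocCoh.depth (X.presheaf.stalk x ⧸
      (maximalIdeal (S.presheaf.stalk (p x))).map (p.stalkMap x).hom) (X.presheaf.stalk x ⧸
      (maximalIdeal (S.presheaf.stalk (p x))).map (p.stalkMap x).hom) := by
    have h' : ((2 : ℕ∞) : WithBot ℕ∞) ≤ ((LocCoh.depth (X.presheaf.stalk x ⧸
      (maximalIdeal (S.presheaf.stalk (p x))).map (p.stalkMap x).hom) (X.presheaf.stalk x ⧸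
      (maximalIdeal (S.presheaf.stalk (p x))).map (p.stalkMap x).hom) : ℕ∞) : WithBot ℕ∞) := hdimQ
    exact_mod_cast WithBot.coe_le_coe.mp h'
  obtain ⟨rsb, hrsb, hmemb, hlen⟩ := exists_list_of_le_depth _ 2 h2
  obtain ⟨hs, hhs⟩ := (Ideal.Quotient.mk_surjective
    (I := (maximalIdeal (S.presheaf.stalk (p x))).map (p.stalkMap x).hom)).list_map rsb
  have hm : ∀ h ∈ hs, h ∈ maximalIdeal (X.presheaf.stalk x) := by
    intro h hh
    by_contra hnot
    have hu : IsUnit h := by
      rw [mem_maximalIdeal, mem_nonunits_iff, not_not] at hnot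
      exact hnot
    have h1 : Ideal.Quotient.mk ((maximalIdeal (S.presheaf.stalk (p x))).map
        (p.stalkMap x).hom) h ∈ maximalIdeal _ :=
      hmemb _ (hhs ▸ List.mem_map_of_mem hh)
    exact (mem_maximalIdeal _).mp h1 (hu.map _)
  have key := length_le_depth_stalk p x (Flat.stalkMap p x) hs hm (by rw [hhs]; exact hrsb)
  have hl : hs.length = rsb.length := by rw [← hhs, List.length_map]
  calc (2 : ℕ∞) ≤ (rsb.length : ℕ∞) := by exact_mod_cast hlen
    _ = (hs.length : ℕ∞) := by rw [hl]
    _ ≤ _ := key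

end Groth.Agent.Lib.Helper5.DepthFib
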