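import Mathlib
import Groth.Agent.Lib.Helper5DualLocal3
import Groth.Agent.S0973
import Groth.Agent.S5155
import Groth.Agent.S0302

/-!
# Normalized dualizing complexes over Artinian local rings (helper5)

Over a Noetherian local ring of dimension zero, a normalized dualizing complex is the injective
hull of the residue field placed in degree zero.
-/

set_option autoImplicit false
universe u
open CategoryTheory CategoryTheory.Limits
attribute [local instance] HasDerivedCategory.standard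

namespace Groth.Agent.Lib.Helper5.DualArt

open DerivedCategory Groth.Agent.Lib.Helper5.DualLocal Groth.Agent.Lib.Helper5.NormDual

variable {A : Type u} [CommRing A]

/-- `0 → I → A → A/I → 0` -/
noncomputable abbrev idealSC (I : Ideal A) : ShortComplex (ModuleCat.{u} A) :=
  ModuleCat.shortComplexOfCompEqZero (Submodule.subtype I) (Submodule.mkQ I)
    (LinearMap.ext fun x => (Submodule.Quotient.mk_eq_zero I).mpr x.2)

lemma idealSC_shortExact (I : Ideal A) : (idealSC I).ShortExact := by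
  refine ModuleCat.shortComplex_shortExact _ ?_ ?_ ?_
  · exact LinearMap.exact_subtype_mkQ I
  · exact Subtype.val_injective
  · exact Submodule.mkQ_surjective I

/-- every endomorphism of `W` is a homothety, if `W[0]` is a dualizing complex -/
lemma endo_eq_smul (ω : Dual.D A) (hω : Dual.IsDualizing A ω) (W : Type u) [AddCommGroup W]
    [Module A W] (e : ω ≅ Dual.inD A W) (φ : W →ₗ[A] W) :
    ∃ a : A, φ = a • LinearMap.id := by
  obtain ⟨a, ha⟩ := hω.toEnd_bijective.2
    (e.hom ≫ (singleFunctor (ModuleCat.{u} A) 0).map (ModuleCat.ofHom φ) ≫ e.inv)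
  refine ⟨a, ?_⟩
  have ha' : a • 𝟙 ω =
      e.hom ≫ (singleFunctor (ModuleCat.{u} A) 0).map (ModuleCat.ofHom φ) ≫ e.inv := ha
  have h0 : (singleFunctor (ModuleCat.{u} A) 0).map (ModuleCat.ofHom φ) =
      e.inv ≫ (a • 𝟙 ω) ≫ e.hom := by
    rw [ha']
    simp
  have h1 : (singleFunctor (ModuleCat.{u} A) 0).map (ModuleCat.ofHom φ) =
      (singleFunctor (ModuleCat.{u} A) 0).map (a • 𝟙 (ModuleCat.of A W)) := by
    rw [Functor.map_smul, CategoryTheory.Functor.map_id, h0, Linear.smul_comp, Linear.comp_smul,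
      Category.id_comp, Iso.inv_hom_id]
  have h2 := (singleFunctor (ModuleCat.{u} A) 0).map_injective h1
  have h3 := congrArg ModuleCat.Hom.hom h2
  simpa using h3

section Local

variable [IsNoetherianRing A] [IsLocalRing A]

lemma subsingleton_HD_of_dim_zero (h0 : ringKrullDim A = 0) (ω : Dual.D A)
    (hω : Dual.IsDualizing A ω) (hn : Dual.IsNormalized A ω) (i : ℤ) (hi : i ≠ 0) :
    Subsingleton (Dual.HD A ω i) := by
  rw [← forall_eq_zero_iff_subsingleton_HD]
  have hd : Module.supportDim A A = ((0 : ℕ) : WithBot ℕ∞) := by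
    rw [Module.supportDim_self_eq_ringKrullDim, h0, Nat.cast_zero]
  have h1 := (vanishing_and_support ω hω hn A 0 hd i).1
  rw [← subsingleton_iff_forall_eq_zero]
  by_contra hcon
  rw [not_subsingleton_iff_nontrivial] at hcon
  obtain ⟨h2, h3⟩ := h1 hcon
  simp only [Nat.cast_zero, neg_zero] at h2
  exact hi (le_antisymm h3 h2)

/-- Baer's criterion for `W`, via the vanishing of `Ext^1(A/I, ω)` -/
lemma baer_of_iso (ω : Dual.D A) (hω : Dual.IsDualizing A ω) (hn : Dual.IsNormalized A ω)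
    (W : Type u) [AddCommGroup W] [Module A W] (e : ω ≅ Dual.inD A W) : Module.Baer A W := by
  intro I g
  have hS := idealSC_shortExact I
  have h3 : ∀ k : (singleFunctor (ModuleCat.{u} A) 0).obj (idealSC I).X₃ ⟶
      (Dual.inD A W)⟦(1 : ℤ)⟧, k = 0 := by
    intro k
    have hk : k ≫ (e.inv)⟦(1 : ℤ)⟧' = 0 :=
      vanish_pos ω hω hn (A ⧸ I) 1 one_pos (k ≫ (e.inv)⟦(1 : ℤ)⟧')
    have hk' : k = (k ≫ (e.inv)⟦(1 : ℤ)⟧') ≫ (e.hom)⟦(1 : ℤ)⟧' := by
      rw [Category.assoc, ← Functor.map_comp, Iso.inv_hom_id, CategoryTheory.Functor.map_id,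
        Category.comp_id]
    rw [hk', hk, zero_comp]
  obtain ⟨G, hG⟩ := exists_factor_of_shortExact (idealSC I) hS (Dual.inD A W) h3
    ((singleFunctor (ModuleCat.{u} A) 0).map (ModuleCat.ofHom g))
  obtain ⟨G', rfl⟩ := (singleFunctor (ModuleCat.{u} A) 0).map_surjective G
  rw [← Functor.map_comp] at hG
  have hG' := (singleFunctor (ModuleCat.{u} A) 0).map_injective hG
  refine ⟨G'.hom, fun x hx => ?_⟩
  have := congrArg (fun φ => φ.hom ⟨x, hx⟩) hG'
  exact this.symm

lemma isPowerTorsion_of_dim_zero (h0 : ringKrullDim A = 0) (W : Type u) [AddCommGroup W]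
    [Module A W] : LocCoh.IsPowerTorsion (IsLocalRing.maximalIdeal A) W := by
  haveI : Ring.KrullDimLE 0 A := Ring.krullDimLE_iff.mpr (by rw [h0, Nat.cast_zero])
  haveI : IsArtinianRing A := isArtinianRing_iff_krullDimLE_zero.mpr inferInstance
  obtain ⟨n, hn⟩ := (isArtinianRing_iff_isNilpotent_maximalIdeal A).mp inferInstance
  intro m
  refine ⟨n, fun a ha => ?_⟩
  rw [hn] at ha
  have ha0 : a = 0 := ha
  rw [ha0, zero_smul]

lemma nontrivial_hom_residue (ω : Dual.D A) (hω : Dual.IsDualizing A ω)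
    (hn : Dual.IsNormalized A ω) (W : Type u) [AddCommGroup W] [Module A W]
    (e : ω ≅ Dual.inD A W) : Nontrivial (IsLocalRing.ResidueField A →ₗ[A] W) := by
  obtain ⟨g, hg⟩ := exists_residue_ne_zero ω hω hn
  let ι : ω⟦(0 : ℤ)⟧ ≅ Dual.inD A W :=
    (shiftFunctorZero (DerivedCategory (ModuleCat.{u} A)) ℤ).app ω ≪≫ e
  obtain ⟨G', hG'⟩ := (singleFunctor (ModuleCat.{u} A) 0).map_surjective (g ≫ ι.hom)
  refine ⟨⟨G'.hom, 0, fun h => hg ?_⟩⟩
  have h0 : G' = 0 := ModuleCat.hom_ext h
  rw [h0, Functor.map_zero] at hG'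
  exact (cancel_mono ι.hom).mp (hG'.symm.trans zero_comp.symm)

omit [IsNoetherianRing A] in
lemma injective_of_ne_zero {W : Type u} [AddCommGroup W] [Module A W]
    (g : IsLocalRing.ResidueField A →ₗ[A] W) (hg : g ≠ 0) : Function.Injective g := by
  rw [injective_iff_map_eq_zero]
  intro c hc
  by_contra hc0
  apply hg
  apply Groth.Agent.S5155.hom_ext_one
  obtain ⟨b, hb⟩ := IsLocalRing.residue_surjective (c⁻¹)
  have h1 : (1 : IsLocalRing.ResidueField A) = b • c := by
    rw [Algebra.smul_def, IsLocalRing.ResidueField.algebraMap_eq, hb, inv_mul_cancel₀ hc0]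
  rw [h1, map_smul, hc, smul_zero, LinearMap.zero_apply]

lemma isSimpleModule_hom_residue (ω : Dual.D A) (hω : Dual.IsDualizing A ω)
    (hn : Dual.IsNormalized A ω) (W : Type u) [AddCommGroup W] [Module A W]
    (e : ω ≅ Dual.inD A W) (hinj : Module.Injective A W) :
    IsSimpleModule A (IsLocalRing.ResidueField A →ₗ[A] W) := by
  rw [isSimpleModule_iff_toSpanSingleton_surjective]
  refine ⟨nontrivial_hom_residue ω hω hn W e, fun g₁ hg₁ g₂ => ?_⟩
  obtain ⟨φ, hφ⟩ := hinj.out g₁ (injective_of_ne_zero g₁ hg₁) g₂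
  obtain ⟨a, rfl⟩ := endo_eq_smul ω hω W e φ
  refine ⟨a, ?_⟩
  ext x
  rw [← hφ x]
  simp

theorem main (h0 : ringKrullDim A = 0) (ω : Dual.D A) (hω : Dual.IsDualizing A ω)
    (hn : Dual.IsNormalized A ω) (E : Type u) [AddCommGroup E] [Module A E]
    (f : IsLocalRing.ResidueField A →ₗ[A] E) (hf : InjHull.IsInjectiveHull f) :
    Nonempty (ω ≅ Dual.inD A E) := by
  haveI : ω.IsGE 0 := by
    rw [DerivedCategory.isGE_iff]
    intro i hi
    haveI := subsingleton_HD_of_dim_zero h0 ω hω hn i (ne_of_lt hi)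
    exact ModuleCat.isZero_of_subsingleton _
  haveI : ω.IsLE 0 := by
    rw [DerivedCategory.isLE_iff]
    intro i hi
    haveI := subsingleton_HD_of_dim_zero h0 ω hω hn i (ne_of_gt hi)
    exact ModuleCat.isZero_of_subsingleton _
  obtain ⟨e⟩ := Groth.Agent.S0973.iso_single_of_amp ω 0
  have e' : ω ≅ Dual.inD A (Dual.HD A ω 0) := e
  have hinj : Module.Injective A (Dual.HD A ω 0) := (baer_of_iso ω hω hn _ e').injective
  have htor := isPowerTorsion_of_dim_zero h0 (Dual.HD A ω 0)
  have hs := isSimpleModule_hom_residue ω hω hn _ e' hinj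
  obtain ⟨f', hf'⟩ := (Groth.Agent.S5155.result A (Dual.HD A ω 0)).mpr ⟨hinj, htor, hs⟩
  obtain ⟨eq, _⟩ := Groth.Agent.S0302.result A (IsLocalRing.ResidueField A) (Dual.HD A ω 0) E
    f' hf' f hf
  exact ⟨e' ≪≫ inDIso eq⟩

end Local

end Groth.Agent.Lib.Helper5.DualArt
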