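import Mathlib
import Groth.Agent.Lib.Helper5DualCxHom
import Groth.Agent.Lib.Helper5CoextB
import Groth.Agent.Lib.Helper5TruncG
import Groth.Agent.S1749
import Groth.Agent.S0973

/-!
# The triangle `RHom(A/I, ω) → ω → Hom(I, E)` for an ideal of finite length (helper5)
-/

set_option autoImplicit false
universe u
open CategoryTheory CategoryTheory.Limits
attribute [local instance] HasDerivedCategory.standard

namespace Groth.Agent.Lib.Helper5.DualTri

open DerivedCategory Pretriangulated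
open Groth.Agent.Lib.Helper5.BiDual Groth.Agent.Lib.Helper5.LocD Groth.Agent.Lib.Helper5.DualDim
open Groth.Agent.Lib.Helper5.Coext Groth.Agent.Lib.Helper17.DRingAdj

variable {A : Type u} [CommRing A] [IsLocalRing A] [IsNoetherianRing A]
variable (ω : Dual.D A) (hω : Dual.IsDualizing A ω) (hn : Dual.IsNormalized A ω)
  (E : Type u) [AddCommGroup E] [Module A E] (e : IsLocalRing.ResidueField A →ₗ[A] E)
  (he : InjHull.IsInjectiveHull e)

include hω hn he in
/-- `RHom(N, ω) = Hom(N, E)[0]` for `N` of finite length -/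
theorem nonempty_iso_dualCx_finiteLength (T : Res ω) (N : Type u) [AddCommGroup N] [Module A N]
    (hN : IsFiniteLength A N) :
    Nonempty ((Q : _ ⥤ Dual.D A).obj (dualCx T.E (ModuleCat.of A N)) ≅
      Dual.inD A (N →ₗ[A] E)) := by
  obtain ⟨hvan, ⟨eqv⟩⟩ := Groth.Agent.S1749.result A ω hω hn E e he N hN
  have hne : IsLocalRing.maximalIdeal A ≠ ⊤ := (IsLocalRing.maximalIdeal.isMaximal A).ne_top
  have hz : ∀ j : ℤ, j ≠ 0 → IsZero ((homologyFunctor (ModuleCat.{u} A) j).obj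
      ((Q : _ ⥤ Dual.D A).obj (dualCx T.E (ModuleCat.of A N)))) := by
    intro j hj
    refine IsZero.of_iso ?_
      ((homologyFunctorFactors (ModuleCat.{u} A) j).app (dualCx T.E (ModuleCat.of A N)))
    apply isZero_homology_dualCx
    intro t
    haveI := hvan j hj
    have h1 : LZ ω (IsLocalRing.maximalIdeal A) j (Dual.inD A N) := LZ_of_subsingleton_hom hne j
    have h2 : LZ ω (IsLocalRing.maximalIdeal A) 0 ((Dual.inD A N)⟦-j⟧) :=
      LZ_shift_one (-j) 0 (by rw [show (0 : ℤ) - -j = j by ring]; exact h1)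
    let e4 : (Dual.inD A N)⟦-j⟧ ≅ sD (ModuleCat.of A N) j :=
      ((DerivedCategory.singleFunctors (ModuleCat.{u} A)).shiftIso (-j) j 0 (by lia)).app
        (ModuleCat.of A N)
    have h3 : e4.hom ≫ t ≫ T.e.hom = 0 := eq_zero_of_LZ_max_zero h2 _
    have h4 : t ≫ T.e.hom = 0 := (cancel_epi e4.hom).mp (h3.trans comp_zero.symm)
    exact (cancel_mono T.e.hom).mp (h4.trans zero_comp.symm)
  haveI : ((Q : _ ⥤ Dual.D A).obj (dualCx T.E (ModuleCat.of A N))).IsGE 0 :=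
    (DerivedCategory.isGE_iff _ 0).mpr fun j hj => hz j (by lia)
  haveI : ((Q : _ ⥤ Dual.D A).obj (dualCx T.E (ModuleCat.of A N))).IsLE 0 :=
    (DerivedCategory.isLE_iff _ 0).mpr fun j hj => hz j (by lia)
  obtain ⟨e1⟩ := Groth.Agent.S0973.iso_single_of_amp
    ((Q : _ ⥤ Dual.D A).obj (dualCx T.E (ModuleCat.of A N))) 0
  let L1 : (homologyFunctor (ModuleCat.{u} A) 0).obj
      ((Q : _ ⥤ Dual.D A).obj (dualCx T.E (ModuleCat.of A N))) ≃ₗ[A] (N →ₗ[A] E) :=
    ((homologyFunctorFactors (ModuleCat.{u} A) 0).app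
      (dualCx T.E (ModuleCat.of A N))).toLinearEquiv ≪≫ₗ
      homologyDualCxEquiv T.E (ModuleCat.of A N) 0 ≪≫ₗ
      Linear.homCongr A (Iso.refl _) T.e ≪≫ₗ eqv
  exact ⟨e1 ≪≫ (singleFunctor (ModuleCat.{u} A) 0).mapIso L1.toModuleIso⟩

include hω hn he in
theorem exists_triangle (I : Ideal A) (hIl : IsFiniteLength A I)
    (R : Dual.D A ⥤ Dual.D (A ⧸ I)) (adj : DRing.restrictD (Ideal.Quotient.mk I) ⊣ R) :
    ∃ (u : (DRing.restrictD (Ideal.Quotient.mk I)).obj (R.obj ω) ⟶ ω)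
      (v : ω ⟶ Dual.inD A (I →ₗ[A] E))
      (w : Dual.inD A (I →ₗ[A] E) ⟶
        ((DRing.restrictD (Ideal.Quotient.mk I)).obj (R.obj ω))⟦(1 : ℤ)⟧),
      Triangle.mk u v w ∈ distinguishedTriangles := by
  obtain ⟨T⟩ := nonempty_res ω hω
  let g : A →ₗ[A] (Bm A (A ⧸ I)) :=
    (resSelfLin (A := A) (B := A ⧸ I)).symm.toLinearMap ∘ₗ (Algebra.linearMap A (A ⧸ I))
  have hgx : ∀ x : A, g x = (resSelfLin (A := A) (B := A ⧸ I)).symm (Ideal.Quotient.mk I x) :=
    fun x => rfl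
  have hf : Function.Injective (I.subtype) := Submodule.injective_subtype _
  have hg : Function.Surjective g := by
    intro y
    obtain ⟨x, hx⟩ := Ideal.Quotient.mk_surjective (resSelfLin (A := A) (B := A ⧸ I) y)
    refine ⟨x, ?_⟩
    rw [hgx, hx, LinearEquiv.symm_apply_apply]
  have hfg : Function.Exact I.subtype g := by
    intro x
    constructor
    · intro hx
      rw [hgx] at hx
      have h1 : Ideal.Quotient.mk I x = 0 :=
        (resSelfLin (A := A) (B := A ⧸ I)).symm.injective (hx.trans (map_zero _).symm)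
      exact ⟨⟨x, Ideal.Quotient.eq_zero_iff_mem.mp h1⟩, rfl⟩
    · rintro ⟨y, rfl⟩
      rw [hgx]
      have h1 : Ideal.Quotient.mk I (I.subtype y) = 0 := Ideal.Quotient.eq_zero_iff_mem.mpr y.2
      rw [h1, map_zero]
  let S : ShortComplex (ModuleCat.{u} A) :=
    ModuleCat.shortComplexOfCompEqZero I.subtype g hfg.linearMap_comp_eq_zero
  have hS : S.ShortExact := Groth.Agent.Lib.Helper5.DualFL.sc_shortExact I.subtype g hf hg hfg
  have hSE := dualSC_shortExact T.E T.injective_X S hS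
  have hT₀ := DerivedCategory.triangleOfSES_distinguished hSE
  let i₁ : (Q : _ ⥤ Dual.D A).obj (dualSC T.E S).X₁ ≅
      (DRing.restrictD (Ideal.Quotient.mk I)).obj (R.obj ω) :=
    (J₀ (A ⧸ I) T.E).symm ≪≫ (DRing.restrictD (algebraMap A (A ⧸ I))).mapIso
      ((RG A (A ⧸ I)).mapIso T.e ≪≫ ((adjD A (A ⧸ I)).rightAdjointUniq adj).app ω)
  let i₂ : (Q : _ ⥤ Dual.D A).obj (dualSC T.E S).X₂ ≅ ω := ιA T
  obtain ⟨i₃'⟩ := nonempty_iso_dualCx_finiteLength ω hω hn E e he T I hIl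
  let i₃ : (Q : _ ⥤ Dual.D A).obj (dualSC T.E S).X₃ ≅ Dual.inD A (I →ₗ[A] E) := i₃'
  refine ⟨i₁.inv ≫ Q.map (dualSC T.E S).f ≫ i₂.hom, i₂.inv ≫ Q.map (dualSC T.E S).g ≫ i₃.hom,
    i₃.inv ≫ triangleOfSESδ hSE ≫ i₁.hom⟦(1 : ℤ)⟧', ?_⟩
  refine isomorphic_distinguished _ hT₀ _ (Triangle.isoMk _ _ i₁.symm i₂.symm i₃.symm ?_ ?_ ?_)
  · show (i₁.inv ≫ Q.map (dualSC T.E S).f ≫ i₂.hom) ≫ i₂.inv = i₁.inv ≫ Q.map (dualSC T.E S).f
    rw [Category.assoc, Category.assoc, Iso.hom_inv_id, Category.comp_id]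
  · show (i₂.inv ≫ Q.map (dualSC T.E S).g ≫ i₃.hom) ≫ i₃.inv = i₂.inv ≫ Q.map (dualSC T.E S).g
    rw [Category.assoc, Category.assoc, Iso.hom_inv_id, Category.comp_id]
  · show (i₃.inv ≫ triangleOfSESδ hSE ≫ i₁.hom⟦(1 : ℤ)⟧') ≫ i₁.inv⟦(1 : ℤ)⟧' =
      i₃.inv ≫ triangleOfSESδ hSE
    rw [Category.assoc, Category.assoc, ← Functor.map_comp, Iso.hom_inv_id,
      CategoryTheory.Functor.map_id, Category.comp_id]

end Groth.Agent.Lib.Helper5.DualTri
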