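import Mathlib

/-!
# Subrings of finite products of normal domains closed under supports and division (helper5)

A subring `A` of a finite product `Π i, D i` of integrally closed domains which is closed under
taking support idempotents and under "division inside the product" is a finite product of
integrally closed domains.
-/

set_option autoImplicit false
universe u

namespace Groth.Agent.Lib.Helper5.EqLocus

open Polynomial

section ScaleRoots

theorem hom_eval_scaleRoots {R T : Type*} [CommRing R] [CommRing T] [Nontrivial T] (g : R →+* T)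
    {P : R[X]} (hP : P.Monic) (a b : R) :
    g (eval a (scaleRoots P b)) = eval (g a) (scaleRoots (P.map g) (g b)) := by
  rw [← eval_map_apply, map_scaleRoots _ _ _ (by rw [hP.leadingCoeff, map_one]; exact one_ne_zero)]

/-- In an integrally closed domain, a root `a` of `scaleRoots P b` with `P` monic is divisible
by `b`. -/
theorem exists_mul_eq_of_eval_scaleRoots {D : Type*} [CommRing D] [IsDomain D]
    [IsIntegrallyClosed D] {P : D[X]} (hP : P.Monic) {a b : D} (hb : b ≠ 0)
    (h : eval a (scaleRoots P b) = 0) : ∃ c : D, c * b = a := by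
  have hinj : Function.Injective (algebraMap D (FractionRing D)) :=
    IsFractionRing.injective D (FractionRing D)
  have hbK : algebraMap D (FractionRing D) b ≠ 0 := fun h0 => hb (hinj (by rw [h0, map_zero]))
  have h1 := scaleRoots_eval₂_mul (p := P) (algebraMap D (FractionRing D))
    (algebraMap D (FractionRing D) a / algebraMap D (FractionRing D) b) b
  rw [mul_div_cancel₀ _ hbK, eval₂_at_apply, h, map_zero] at h1
  have h2 : eval₂ (algebraMap D (FractionRing D))
      (algebraMap D (FractionRing D) a / algebraMap D (FractionRing D) b) P = 0 := by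
    rcases mul_eq_zero.mp h1.symm with h3 | h3
    · exact absurd (eq_zero_of_pow_eq_zero h3) hbK
    · exact h3
  have hint : IsIntegral D
      (algebraMap D (FractionRing D) a / algebraMap D (FractionRing D) b) := ⟨P, hP, h2⟩
  obtain ⟨c, hc⟩ := IsIntegrallyClosed.algebraMap_eq_of_integral hint
  refine ⟨c, hinj ?_⟩
  rw [map_mul, hc, div_mul_cancel₀ _ hbK]

/-- A criterion for a domain to be integrally closed. -/
theorem isIntegrallyClosed_of_scaleRoots {E : Type*} [CommRing E] [IsDomain E]
    (h : ∀ (a b : E) (p : E[X]), b ≠ 0 → p.Monic → eval a (scaleRoots p b) = 0 →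
      ∃ c : E, c * b = a) : IsIntegrallyClosed E := by
  rw [isIntegrallyClosed_iff (FractionRing E)]
  intro x hx
  obtain ⟨a, b, hb, rfl⟩ := IsFractionRing.div_surjective (A := E) x
  obtain ⟨p, hp, hpx⟩ := hx
  have hinj : Function.Injective (algebraMap E (FractionRing E)) :=
    IsFractionRing.injective E (FractionRing E)
  have h1 := scaleRoots_eval₂_eq_zero_of_eval₂_div_eq_zero hinj hpx hb
  rw [eval₂_at_apply] at h1
  have h2 : eval a (scaleRoots p b) = 0 := hinj (by rw [h1, map_zero])
  obtain ⟨c, hc⟩ := h a b p (nonZeroDivisors.ne_zero hb) hp h2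
  refine ⟨c, ?_⟩
  have hbK : algebraMap E (FractionRing E) b ≠ 0 :=
    fun h0 => nonZeroDivisors.ne_zero hb (hinj (by rw [h0, map_zero]))
  rw [← hc, map_mul, mul_div_cancel_right₀ _ hbK]

end ScaleRoots


section Structure

variable {ι : Type u} [Fintype ι] {D : ι → Type u} [∀ i, CommRing (D i)] [∀ i, IsDomain (D i)]

open Classical in
/-- The support idempotent of an element of the product. -/
noncomputable def indic (a : Π i, D i) : Π i, D i := fun i => if a i = 0 then 0 else 1

theorem indic_apply_of_eq {a : Π i, D i} {i : ι} (h : a i = 0) : indic a i = 0 := by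
  rw [indic, if_pos h]

theorem indic_apply_of_ne {a : Π i, D i} {i : ι} (h : a i ≠ 0) : indic a i = 1 := by
  rw [indic, if_neg h]

/-- The closure properties of the subring. -/
structure Good (A : Subring (Π i, D i)) : Prop where
  indic_mem : ∀ a ∈ A, indic a ∈ A
  div_mem : ∀ a ∈ A, ∀ b ∈ A, ∀ c : Π i, D i, (∀ i, c i * b i = a i) →
    (∀ i, b i = 0 → c i = 0) → c ∈ A

/-- Two indices are related when no element of `A` separates their vanishing. -/
def Rel (A : Subring (Π i, D i)) (i j : ι) : Prop := ∀ a ∈ A, a i = 0 ↔ a j = 0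

theorem Rel.refl (A : Subring (Π i, D i)) (i : ι) : Rel A i i := fun _ _ => Iff.rfl

theorem Rel.symm {A : Subring (Π i, D i)} {i j : ι} (h : Rel A i j) : Rel A j i :=
  fun a ha => (h a ha).symm

theorem Rel.trans {A : Subring (Π i, D i)} {i j k : ι} (h : Rel A i j) (h' : Rel A j k) :
    Rel A i k := fun a ha => (h a ha).trans (h' a ha)

/-- The setoid of the relation. -/
def relSetoid (A : Subring (Π i, D i)) : Setoid ι where
  r := Rel A
  iseqv := ⟨Rel.refl A, Rel.symm, Rel.trans⟩

theorem exists_sep {A : Subring (Π i, D i)} (hA : Good A) {i j : ι} (h : ¬ Rel A i j) :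
    ∃ a ∈ A, a i ≠ 0 ∧ a j = 0 := by
  rw [Rel] at h
  push Not at h
  obtain ⟨a, ha, h1⟩ := h
  by_cases hi : a i = 0
  · have hj : a j ≠ 0 := fun hj => by
      rcases h1 with ⟨h2, h3⟩ | ⟨h2, h3⟩
      · exact h3 hj
      · exact h2 hi
    refine ⟨1 - indic a, A.sub_mem A.one_mem (hA.indic_mem a ha), ?_, ?_⟩
    · rw [Pi.sub_apply, Pi.one_apply, indic_apply_of_eq hi, sub_zero]; exact one_ne_zero
    · rw [Pi.sub_apply, Pi.one_apply, indic_apply_of_ne hj, sub_self]
  · refine ⟨a, ha, hi, ?_⟩
    rcases h1 with ⟨h2, h3⟩ | ⟨h2, h3⟩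
    · exact absurd h2 hi
    · exact h3

open Classical in
theorem exists_indicator {A : Subring (Π i, D i)} (hA : Good A) (i : ι) :
    ∃ ε ∈ A, ∀ j, ε j = if Rel A i j then 1 else 0 := by
  have hch : ∀ j, ∃ a ∈ A, a i ≠ 0 ∧ (¬ Rel A i j → a j = 0) := by
    intro j
    by_cases h : Rel A i j
    · exact ⟨1, A.one_mem, one_ne_zero, fun h' => absurd h h'⟩
    · obtain ⟨a, ha, h1, h2⟩ := exists_sep hA h
      exact ⟨a, ha, h1, fun _ => h2⟩
  choose a ha h1 h2 using hch
  have hP : ∏ j, a j ∈ A := Subring.prod_mem A fun j _ => ha j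
  have hPi : (∏ j, a j) i ≠ 0 := by
    rw [Finset.prod_apply]
    exact Finset.prod_ne_zero_iff.mpr fun j _ => h1 j
  refine ⟨indic (∏ j, a j), hA.indic_mem _ hP, fun j => ?_⟩
  by_cases h : Rel A i j
  · rw [if_pos h]
    exact indic_apply_of_ne fun h0 => hPi ((h _ hP).mpr h0)
  · rw [if_neg h]
    apply indic_apply_of_eq
    rw [Finset.prod_apply]
    exact Finset.prod_eq_zero (Finset.mem_univ j) (h2 j h)

end Structure


section Decomp

variable {ι : Type u} [Fintype ι] {D : ι → Type u} [∀ i, CommRing (D i)] [∀ i, IsDomain (D i)]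
  (A : Subring (Π i, D i))

/-- The index type of the factors. -/
abbrev Idx : Type u := Quotient (relSetoid A)

/-- A representative of a class. -/
noncomputable def rep (k : Idx A) : ι := Quotient.out k

/-- The projection of `A` to a factor of the product. -/
def proj (i : ι) : A →+* D i := (Pi.evalRingHom D i).comp A.subtype

theorem proj_apply (i : ι) (a : A) : proj A i a = (a : Π i, D i) i := rfl

theorem rel_rep_mk (i : ι) : Rel A (rep A (Quotient.mk (relSetoid A) i)) i :=
  Quotient.mk_out (s := relSetoid A) i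

theorem eq_of_rel_rep {k k' : Idx A} (h : Rel A (rep A k) (rep A k')) : k = k' := by
  have := Quotient.sound (s := relSetoid A) h
  rwa [rep, rep, Quotient.out_eq, Quotient.out_eq] at this

/-- The map to the product of the factor rings. -/
noncomputable def toFactors : A →+* Π k : Idx A, (proj A (rep A k)).range :=
  RingHom.pi fun k => (proj A (rep A k)).rangeRestrict

theorem toFactors_apply (a : A) (k : Idx A) :
    ((toFactors A a k : (proj A (rep A k)).range) : D (rep A k)) = (a : Π i, D i) (rep A k) := rfl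

theorem toFactors_injective : Function.Injective (toFactors A) := by
  rw [injective_iff_map_eq_zero]
  intro a ha
  apply Subtype.ext
  funext i
  have h1 : (a : Π i, D i) (rep A (Quotient.mk (relSetoid A) i)) = 0 := by
    rw [← toFactors_apply, ha]; rfl
  exact (rel_rep_mk A i a a.2).mp h1

open Classical in
theorem toFactors_surjective (hA : Good A) : Function.Surjective (toFactors A) := by
  intro y
  have hb : ∀ k : Idx A, ∃ b : A, (proj A (rep A k)).rangeRestrict b = y k :=
    fun k => (proj A (rep A k)).rangeRestrict_surjective (y k)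
  choose b hb using hb
  have hε := fun k : Idx A => exists_indicator hA (rep A k)
  choose ε hεA hε using hε
  have : Fintype (Idx A) := Fintype.ofFinite _
  refine ⟨∑ k, b k * ⟨ε k, hεA k⟩, ?_⟩
  funext k'
  apply Subtype.ext
  rw [toFactors_apply, ← proj_apply, map_sum, Finset.sum_eq_single k']
  · rw [map_mul, proj_apply, proj_apply]
    change ((b k' : A) : Π i, D i) (rep A k') * ε k' (rep A k') = _
    rw [hε k' (rep A k'), if_pos (Rel.refl A _), mul_one, ← hb k']
    rfl
  · intro k _ hk
    rw [map_mul, proj_apply, proj_apply]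
    change ((b k : A) : Π i, D i) (rep A k') * ε k (rep A k') = _
    rw [hε k (rep A k'), if_neg fun h => hk (eq_of_rel_rep A h), mul_zero]
  · intro h
    exact absurd (Finset.mem_univ k') h

end Decomp


section Normal

variable {ι : Type u} [Fintype ι] {D : ι → Type u} [∀ i, CommRing (D i)] [∀ i, IsDomain (D i)]
  [∀ i, IsIntegrallyClosed (D i)] (A : Subring (Π i, D i))

open Classical in
theorem isIntegrallyClosed_factor (hA : Good A) (k : Idx A) :
    IsIntegrallyClosed (proj A (rep A k)).range := by
  apply isIntegrallyClosed_of_scaleRoots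
  intro a' b' p hb' hp hroot
  obtain ⟨a, rfl⟩ := (proj A (rep A k)).rangeRestrict_surjective a'
  obtain ⟨b, rfl⟩ := (proj A (rep A k)).rangeRestrict_surjective b'
  obtain ⟨P, hPmap, -, hP⟩ := lifts_and_natDegree_eq_and_monic
    (mem_lifts_of_surjective (proj A (rep A k)).rangeRestrict_surjective p) hp
  obtain ⟨z, hz⟩ : ∃ z : A, z = eval a (scaleRoots P b) := ⟨_, rfl⟩
  have hz0 : (z : Π i, D i) (rep A k) = 0 := by
    have h1 := hom_eval_scaleRoots (proj A (rep A k)).rangeRestrict hP a b
    rw [hPmap, hroot, ← hz] at h1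
    exact congrArg Subtype.val h1
  have hb0 : (b : Π i, D i) (rep A k) ≠ 0 := fun h => hb' (Subtype.ext h)
  have hc : ∀ j, Rel A (rep A k) j →
      ∃ c : D j, c * (b : Π i, D i) j = (a : Π i, D i) j := by
    intro j hj
    have hzj : (z : Π i, D i) j = 0 := (hj z z.2).mp hz0
    have hbj : (b : Π i, D i) j ≠ 0 := fun h => hb0 ((hj b b.2).mpr h)
    have h1 := hom_eval_scaleRoots (proj A j) hP a b
    rw [← hz, proj_apply, hzj] at h1
    exact exists_mul_eq_of_eval_scaleRoots (hP.map _) hbj h1.symm
  choose! c hc using hc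
  obtain ⟨ε, hεA, hε⟩ := exists_indicator hA (rep A k)
  obtain ⟨c', hc'⟩ : ∃ c' : Π i, D i, ∀ j, c' j = if Rel A (rep A k) j then c j else 0 :=
    ⟨fun j => if Rel A (rep A k) j then c j else 0, fun j => rfl⟩
  have hc'A : c' ∈ A := by
    refine hA.div_mem ((a : Π i, D i) * ε) (A.mul_mem a.2 hεA) ((b : Π i, D i) * ε)
      (A.mul_mem b.2 hεA) c' (fun j => ?_) (fun j hj => ?_)
    · rw [hc' j, Pi.mul_apply, Pi.mul_apply, hε j]
      by_cases h : Rel A (rep A k) j
      · rw [if_pos h, if_pos h, mul_one, mul_one, hc j h]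
      · rw [if_neg h, if_neg h, zero_mul, mul_zero]
    · rw [hc' j]
      by_cases h : Rel A (rep A k) j
      · exfalso
        rw [Pi.mul_apply, hε j, if_pos h, mul_one] at hj
        exact hb0 ((h b b.2).mpr hj)
      · rw [if_neg h]
  refine ⟨(proj A (rep A k)).rangeRestrict ⟨c', hc'A⟩, Subtype.ext ?_⟩
  change c' (rep A k) * (b : Π i, D i) (rep A k) = (a : Π i, D i) (rep A k)
  rw [hc' _, if_pos (Rel.refl A _), hc _ (Rel.refl A _)]

/-- The structure theorem. -/
theorem exists_ringEquiv_pi (hA : Good A) :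
    ∃ (κ : Type u) (_ : Fintype κ) (E : κ → Type u) (_ : ∀ j, CommRing (E j))
      (_ : ∀ j, IsDomain (E j)) (_ : ∀ j, IsIntegrallyClosed (E j)),
      Nonempty (A ≃+* Π j, E j) := by
  classical
  exact ⟨Idx A, Fintype.ofFinite _, fun k => (proj A (rep A k)).range, fun _ => inferInstance,
    fun _ => inferInstance, fun k => isIntegrallyClosed_factor A hA k,
    ⟨RingEquiv.ofBijective (toFactors A) ⟨toFactors_injective A, toFactors_surjective A hA⟩⟩⟩

end Normal


section EqLocus

variable {ι : Type u} [Fintype ι] {D : ι → Type u} [∀ i, CommRing (D i)] [∀ i, IsDomain (D i)]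

theorem mem_nonZeroDivisors_pi {s : Π i, D i} (hs : ∀ i, s i ≠ 0) :
    s ∈ nonZeroDivisors (Π i, D i) := by
  rw [mem_nonZeroDivisors_iff]
  constructor
  · intro x hx
    funext i
    have := congrFun hx i
    rw [Pi.mul_apply, Pi.zero_apply] at this
    exact (mul_eq_zero.mp this).resolve_left (hs i)
  · intro x hx
    funext i
    have := congrFun hx i
    rw [Pi.mul_apply, Pi.zero_apply] at this
    exact (mul_eq_zero.mp this).resolve_right (hs i)

/-- `a + (1 - indic a)` has no vanishing component. -/
theorem fill_apply_ne_zero (a : Π i, D i) (i : ι) : (a + (1 - indic a)) i ≠ 0 := by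
  by_cases h : a i = 0
  · rw [Pi.add_apply, Pi.sub_apply, Pi.one_apply, indic_apply_of_eq h, h, zero_add, sub_zero]
    exact one_ne_zero
  · rw [Pi.add_apply, Pi.sub_apply, Pi.one_apply, indic_apply_of_ne h, sub_self, add_zero]
    exact h

theorem fill_mul_indic (a : Π i, D i) : (a + (1 - indic a)) * indic a = a := by
  funext i
  by_cases h : a i = 0
  · rw [Pi.mul_apply, indic_apply_of_eq h, mul_zero, h]
  · rw [Pi.mul_apply, Pi.add_apply, Pi.sub_apply, Pi.one_apply, indic_apply_of_ne h, sub_self,
      add_zero, mul_one]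

theorem mul_one_sub_indic (a : Π i, D i) : a * (1 - indic a) = 0 := by
  funext i
  by_cases h : a i = 0
  · rw [Pi.mul_apply, h, zero_mul, Pi.zero_apply]
  · rw [Pi.mul_apply, Pi.sub_apply, Pi.one_apply, indic_apply_of_ne h, sub_self, mul_zero,
      Pi.zero_apply]

theorem good_of_eqLocus {R : Type*} [CommRing R] (F : Set ((Π i, D i) →+* R))
    (hF : ∀ f ∈ F, ∀ s ∈ nonZeroDivisors (Π i, D i), f s ∈ nonZeroDivisors R)
    (A : Subring (Π i, D i)) (hA : ∀ a, a ∈ A ↔ ∀ f ∈ F, ∀ f' ∈ F, f a = f' a) : Good A := by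
  have hindic : ∀ a ∈ A, indic a ∈ A := by
    intro a ha
    have key : ∀ f ∈ F, ∀ f' ∈ F, f (indic a) = f (indic a) * f' (indic a) := by
      intro f hf f' hf'
      have hu := hF f hf _ (mem_nonZeroDivisors_pi (fill_apply_ne_zero a))
      have h1 : f (a + (1 - indic a)) * (f (indic a) * (1 - f' (indic a))) = 0 := by
        rw [← mul_assoc, ← map_mul, fill_mul_indic, (hA a).mp ha f hf f' hf']
        have : f' a * (1 - f' (indic a)) = f' (a * (1 - indic a)) := by
          rw [map_mul, map_sub, map_one]
        rw [this, mul_one_sub_indic, map_zero]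
      have h2 := (mem_nonZeroDivisors_iff.mp hu).1 _ h1
      rw [mul_sub, mul_one, sub_eq_zero] at h2
      exact h2
    rw [hA]
    intro f hf f' hf'
    rw [key f hf f' hf', mul_comm, ← key f' hf' f hf]
  refine ⟨hindic, ?_⟩
  intro a ha b hb c hcb hc0
  have huA : b + (1 - indic b) ∈ A := A.add_mem hb (A.sub_mem A.one_mem (hindic b hb))
  have hcu : c * (b + (1 - indic b)) = a := by
    funext i
    by_cases h : b i = 0
    · rw [Pi.mul_apply, hc0 i h, zero_mul, ← hcb i, h, mul_zero]
    · rw [Pi.mul_apply, Pi.add_apply, Pi.sub_apply, Pi.one_apply, indic_apply_of_ne h, sub_self,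
        add_zero, hcb i]
  rw [hA]
  intro f hf f' hf'
  have hu := hF f hf _ (mem_nonZeroDivisors_pi (fill_apply_ne_zero b))
  have h1 : f (b + (1 - indic b)) * (f c - f' c) = 0 := by
    rw [mul_sub, mul_comm, ← map_mul, hcu, (hA _).mp huA f hf f' hf', mul_comm, ← map_mul, hcu,
      (hA a).mp ha f hf f' hf', sub_self]
  exact sub_eq_zero.mp ((mem_nonZeroDivisors_iff.mp hu).1 _ h1)

end EqLocus

end Groth.Agent.Lib.Helper5.EqLocus
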