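import Mathlib
import Groth.Agent.Lib.Helper1Extend

/-!
# Polynomial rings: injectives and the coextension sequence (helper5)

* `baer_finsupp`, `injective_poly_tensor`: over a Noetherian ring `A`, `ι →₀ E` and `A[X] ⊗[A] E`
  are injective `A`-modules when `E` is.
* `Cf A`: the functor `M ↦ Hom_A(A[X], M)` on `A[X]`-modules, with the natural short exact
  sequence `0 → M → Hom_A(A[X], M) → Hom_A(A[X], M) → 0` (`ses`, `ses_shortExact`).
* `injective_Cf_ext`: `Hom_A(A[X], A[X] ⊗[A] E)` is an injective `A[X]`-module.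
-/

set_option autoImplicit false
universe u w
open CategoryTheory CategoryTheory.Limits
open scoped Polynomial TensorProduct

namespace Groth.Agent.Lib.Helper5.Poly

open Groth.Agent.Lib.Helper1.Extend

section Baer

variable {A : Type u} [CommRing A] [IsNoetherianRing A]

theorem baer_finsupp (ι : Type w) (E : Type u) [AddCommGroup E] [Module A E]
    [Module.Injective A E] : Module.Baer A (ι →₀ E) := by
  classical
  intro I g
  have hfg : (LinearMap.range g).FG := by
    rw [LinearMap.range_eq_map]
    exact Submodule.FG.map g Module.Finite.fg_top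
  obtain ⟨S, hS⟩ := hfg
  have hle : LinearMap.range g ≤
      Finsupp.supported E A (↑(S.biUnion Finsupp.support) : Set ι) := by
    rw [← hS]
    refine Submodule.span_le.2 fun p hp => (Finsupp.mem_supported A p).2 fun k hk => ?_
    exact Finset.mem_coe.2 (Finset.mem_biUnion.2 ⟨p, Finset.mem_coe.1 hp, Finset.mem_coe.1 hk⟩)
  have hsupp : ∀ (x : I) (j : ι), j ∉ S.biUnion Finsupp.support → g x j = 0 := by
    intro x j hj
    by_contra hne
    exact hj (Finset.mem_coe.1 ((Finsupp.mem_supported A (g x)).1
      (hle (LinearMap.mem_range.2 ⟨x, rfl⟩)) (Finset.mem_coe.2 (Finsupp.mem_support_iff.2 hne))))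
  have hB : Module.Baer A E := Module.Baer.of_injective inferInstance
  choose ek hek using fun k : ι => hB I ((Finsupp.lapply (R := A) k).comp g)
  refine ⟨∑ k ∈ S.biUnion Finsupp.support, (Finsupp.lsingle (R := A) k).comp (ek k), ?_⟩
  intro x mem
  have h1 : (∑ k ∈ S.biUnion Finsupp.support, (Finsupp.lsingle (R := A) k).comp (ek k)) x =
      ∑ k ∈ S.biUnion Finsupp.support, Finsupp.single k (g ⟨x, mem⟩ k) := by
    rw [LinearMap.sum_apply]
    refine Finset.sum_congr rfl fun k _ => ?_
    rw [LinearMap.comp_apply, hek k x mem]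
    rfl
  rw [h1]
  ext j
  rw [Finsupp.finset_sum_apply]
  simp only [Finsupp.single_apply, Finset.sum_ite_eq']
  split_ifs with hj
  · rfl
  · exact (hsupp ⟨x, mem⟩ j hj).symm

theorem injective_poly_tensor (E : Type u) [AddCommGroup E] [Module A E]
    [Module.Injective A E] : Module.Injective A (A[X] ⊗[A] E) := by
  have e : (ℕ →₀ E) ≃ₗ[A] (A[X] ⊗[A] E) :=
    ((TensorProduct.congr (Polynomial.basisMonomials A).repr (LinearEquiv.refl A E)).trans
      (TensorProduct.finsuppScalarLeft A E ℕ)).symm
  exact ((baer_finsupp ℕ E).of_equiv e).injective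

end Baer

section Coext

variable (A : Type u) [CommRing A]

/-- the functor `M ↦ Hom_A(A[X], M)` on `A[X]`-modules -/
noncomputable abbrev Cf : ModuleCat.{u} A[X] ⥤ ModuleCat.{u} A[X] :=
  ModuleCat.restrictScalars.{u} (algebraMap A A[X]) ⋙
    ModuleCat.coextendScalars.{u, u, u} (algebraMap A A[X])

instance coextend_additive :
    (ModuleCat.coextendScalars.{u, u, u} (algebraMap A A[X])).Additive :=
  (ModuleCat.restrictCoextendScalarsAdj.{u, u, u} (algebraMap A A[X])).right_adjoint_additive

variable {A}

/-- evaluate an element of `Hom_A(A[X], M)` -/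
noncomputable def ev {M : ModuleCat.{u} A[X]} (g : (Cf A).obj M) (s : A[X]) : M :=
  (ModuleCat.CoextendScalars.equiv (algebraMap A A[X]) _ g) s

lemma ev_ext {M : ModuleCat.{u} A[X]} {g g' : (Cf A).obj M} (h : ∀ s, ev g s = ev g' s) :
    g = g' :=
  ModuleCat.CoextendScalars.ext (LinearMap.ext h)

lemma ev_sub {M : ModuleCat.{u} A[X]} (g g' : (Cf A).obj M) (s : A[X]) :
    ev (g - g') s = ev g s - ev g' s := rfl

lemma ev_zero {M : ModuleCat.{u} A[X]} (s : A[X]) : ev (0 : (Cf A).obj M) s = 0 := rfl

lemma ev_add_right {M : ModuleCat.{u} A[X]} (g : (Cf A).obj M) (s t : A[X]) :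
    ev g (s + t) = ev g s + ev g t :=
  map_add (ModuleCat.CoextendScalars.equiv (algebraMap A A[X]) _ g) s t

lemma ev_smul {M : ModuleCat.{u} A[X]} (b : A[X]) (g : (Cf A).obj M) (s : A[X]) :
    ev (b • g) s = ev g (s * b) := rfl

lemma ev_algebraMap_mul {M : ModuleCat.{u} A[X]} (g : (Cf A).obj M) (a : A) (s : A[X]) :
    ev g (algebraMap A A[X] a * s) = algebraMap A A[X] a • ev g s :=
  (ModuleCat.CoextendScalars.equiv (algebraMap A A[X]) _ g).map_smul a s

lemma ev_map {M N : ModuleCat.{u} A[X]} (f : M ⟶ N) (g : (Cf A).obj M) (s : A[X]) :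
    ev (((Cf A).map f).hom g) s = f.hom (ev g s) := rfl

variable (A) in
/-- `y ↦ (s ↦ s • y)` -/
noncomputable def iota : 𝟭 (ModuleCat.{u} A[X]) ⟶ Cf A :=
  (ModuleCat.restrictCoextendScalarsAdj.{u, u, u} (algebraMap A A[X])).unit

lemma ev_iota {M : ModuleCat.{u} A[X]} (y : M) (s : A[X]) :
    ev (((iota A).app M).hom y) s = s • y := rfl

variable (A) in
/-- `g ↦ (s ↦ g (s X) - X g(s))` -/
noncomputable def theta : Cf A ⟶ Cf A where
  app M := (Polynomial.X : A[X]) • 𝟙 ((Cf A).obj M) -
    (Cf A).map ((Polynomial.X : A[X]) • 𝟙 M)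
  naturality M N f := by
    rw [Preadditive.comp_sub, Preadditive.sub_comp, Linear.comp_smul, Linear.smul_comp,
      Category.comp_id, Category.id_comp, ← Functor.map_comp, ← Functor.map_comp,
      Linear.comp_smul, Linear.smul_comp, Category.comp_id, Category.id_comp]

lemma ev_theta {M : ModuleCat.{u} A[X]} (g : (Cf A).obj M) (s : A[X]) :
    ev (((theta A).app M).hom g) s =
      ev g (s * Polynomial.X) - (Polynomial.X : A[X]) • ev g s := rfl

lemma iota_injective (M : ModuleCat.{u} A[X]) : Function.Injective ((iota A).app M).hom := by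
  intro y y' h
  have h1 : ev (((iota A).app M).hom y) 1 = ev (((iota A).app M).hom y') 1 := by rw [h]
  rw [ev_iota, ev_iota, one_smul, one_smul] at h1
  exact h1

lemma theta_iota {M : ModuleCat.{u} A[X]} (y : M) :
    ((theta A).app M).hom (((iota A).app M).hom y) = 0 := by
  refine ev_ext fun s => ?_
  rw [ev_theta, ev_iota, ev_iota, ev_zero, ← mul_smul, mul_comm, sub_self]

lemma ev_X_pow {M : ModuleCat.{u} A[X]} (g : (Cf A).obj M)
    (hg : ((theta A).app M).hom g = 0) (n : ℕ) :
    ev g ((Polynomial.X : A[X]) ^ n) = ((Polynomial.X : A[X]) ^ n) • ev g 1 := by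
  have h : ∀ s, ev g (s * Polynomial.X) = (Polynomial.X : A[X]) • ev g s := by
    intro s
    have h1 : ev (((theta A).app M).hom g) s = ev (0 : (Cf A).obj M) s := by rw [hg]
    rw [ev_theta, ev_zero] at h1
    exact sub_eq_zero.1 h1
  induction n with
  | zero => rw [pow_zero, one_smul]
  | succ n ih => rw [pow_succ, h, ih, ← mul_smul, mul_comm]

lemma exact_iota_theta {M : ModuleCat.{u} A[X]} (g : (Cf A).obj M)
    (hg : ((theta A).app M).hom g = 0) : ∃ y : M, ((iota A).app M).hom y = g := by
  refine ⟨ev g 1, ev_ext fun s => ?_⟩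
  rw [ev_iota]
  induction s using Polynomial.induction_on' with
  | add p q hp hq => rw [add_smul, hp, hq, ev_add_right]
  | monomial n a =>
    rw [← Polynomial.C_mul_X_pow_eq_monomial, Polynomial.C_eq_algebraMap, ev_algebraMap_mul,
      ev_X_pow g hg, mul_smul]

/-- build an element of `Hom_A(A[X], M)` from an `A`-linear map -/
noncomputable def mkC {M : ModuleCat.{u} A[X]}
    (g₀ : A[X] →ₗ[A] ((ModuleCat.restrictScalars.{u} (algebraMap A A[X])).obj M)) :
    (Cf A).obj M :=
  (ModuleCat.CoextendScalars.equiv (algebraMap A A[X]) _).symm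
    (g₀ ∘ₗ (e₀ (A := A) A[X]).toLinearMap)

lemma ev_mkC {M : ModuleCat.{u} A[X]}
    (g₀ : A[X] →ₗ[A] ((ModuleCat.restrictScalars.{u} (algebraMap A A[X])).obj M)) (s : A[X]) :
    ev (mkC g₀) s = (g₀ s : M) := rfl

/-- the recursion solving `g (s X) - X g(s) = ψ(s)` on monomials -/
noncomputable def recf {M : ModuleCat.{u} A[X]} (ψ : (Cf A).obj M) : ℕ → M
  | 0 => 0
  | (n + 1) => (Polynomial.X : A[X]) • recf ψ n + ev ψ ((Polynomial.X : A[X]) ^ n)

lemma theta_surjective (M : ModuleCat.{u} A[X]) :
    Function.Surjective ((theta A).app M).hom := by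
  intro ψ
  let g₀ : A[X] →ₗ[A] ((ModuleCat.restrictScalars.{u} (algebraMap A A[X])).obj M) :=
    (Polynomial.basisMonomials A).constr A (fun n => (recf ψ n : M))
  let G : A[X] → M := fun s => g₀ s
  have hG_add : ∀ p q : A[X], G (p + q) = G p + G q := fun p q => map_add g₀ p q
  have hG : ∀ (n : ℕ) (a : A), G (Polynomial.monomial n a) =
      algebraMap A A[X] a • recf ψ n := by
    intro n a
    have h1 : Polynomial.monomial n a = a • (Polynomial.basisMonomials A) n := by
      rw [Polynomial.coe_basisMonomials, Polynomial.smul_monomial, smul_eq_mul, mul_one]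
    show g₀ (Polynomial.monomial n a) = _
    rw [h1, map_smul, Module.Basis.constr_basis]
    rfl
  refine ⟨mkC g₀, ev_ext fun s => ?_⟩
  rw [ev_theta, ev_mkC, ev_mkC]
  show G (s * Polynomial.X) - (Polynomial.X : A[X]) • G s = ev ψ s
  induction s using Polynomial.induction_on' with
  | add p q hp hq =>
    rw [add_mul, hG_add, hG_add, smul_add, ev_add_right, ← hp, ← hq]
    exact add_sub_add_comm _ _ _ _
  | monomial n a =>
    rw [Polynomial.monomial_mul_X, hG, hG]
    show algebraMap A A[X] a • ((Polynomial.X : A[X]) • recf ψ n +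
      ev ψ ((Polynomial.X : A[X]) ^ n)) -
      (Polynomial.X : A[X]) • algebraMap A A[X] a • recf ψ n = _
    rw [smul_add, smul_comm (algebraMap A A[X] a) (Polynomial.X : A[X]), add_sub_cancel_left,
      ← Polynomial.C_mul_X_pow_eq_monomial, Polynomial.C_eq_algebraMap, ev_algebraMap_mul]

/-- the natural short exact sequence `0 → M → Hom_A(A[X], M) → Hom_A(A[X], M) → 0` -/
noncomputable def ses (M : ModuleCat.{u} A[X]) : ShortComplex (ModuleCat.{u} A[X]) :=
  ShortComplex.mk ((iota A).app M) ((theta A).app M) (by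
    ext y
    exact theta_iota y)

lemma ses_shortExact (M : ModuleCat.{u} A[X]) : (ses M).ShortExact where
  exact := by
    rw [ShortComplex.moduleCat_exact_iff]
    intro g hg
    exact exact_iota_theta g hg
  mono_f := (ModuleCat.mono_iff_injective _).2 (iota_injective M)
  epi_g := (ModuleCat.epi_iff_surjective _).2 (theta_surjective M)

end Coext

section Inj

variable {A : Type u} [CommRing A] [IsNoetherianRing A]

lemma injective_restrict_ext (E : ModuleCat.{u} A) [Module.Injective A E] :
    Module.Injective A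
      ((ModuleCat.restrictScalars.{u} (algebraMap A A[X])).obj ((ext A A[X]).obj E)) := by
  have h := injective_poly_tensor (A := A) E
  let e : (A[X] ⊗[A] E) ≃ₗ[A]
      ((ModuleCat.restrictScalars.{u} (algebraMap A A[X])).obj ((ext A A[X]).obj E)) :=
    { toFun := fun z => (extEquiv (A := A) (B := A[X]) E).symm z
      invFun := fun z => extEquiv (A := A) (B := A[X]) E z
      left_inv := fun z => (extEquiv (A := A) (B := A[X]) E).apply_symm_apply z
      right_inv := fun z => (extEquiv (A := A) (B := A[X]) E).symm_apply_apply z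
      map_add' := fun x y => map_add (extEquiv (A := A) (B := A[X]) E).symm x y
      map_smul' := fun a x => by
        show (extEquiv (A := A) (B := A[X]) E).symm (a • x) =
          algebraMap A A[X] a • (extEquiv (A := A) (B := A[X]) E).symm x
        rw [← map_smul, algebraMap_smul] }
  exact ((Module.Baer.of_injective h).of_equiv e).injective

lemma injective_Cf_ext (E : ModuleCat.{u} A) [Module.Injective A E] :
    Injective ((Cf A).obj ((ext A A[X]).obj E)) := by
  haveI := injective_restrict_ext E
  haveI : Injective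
      ((ModuleCat.restrictScalars.{u} (algebraMap A A[X])).obj ((ext A A[X]).obj E)) :=
    Module.injective_object_of_injective_module (R := A)
      (M := ((ModuleCat.restrictScalars.{u} (algebraMap A A[X])).obj ((ext A A[X]).obj E)))
  exact Injective.injective_of_adjoint
    (ModuleCat.restrictCoextendScalarsAdj.{u, u, u} (algebraMap A A[X])) _

end Inj

end Groth.Agent.Lib.Helper5.Poly
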