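import Mathlib
import Groth.Agent.Lib.Helper5PolyA
import Groth.Agent.Lib.Helper5FlatDual
import Groth.Agent.S6965

/-!
# Dualizing complexes over polynomial rings (helper5)

* `main_vanish`: for a bounded complex `K` of injective modules over a Noetherian ring `A`,
  concentrated in `[a, b]`, the complex `A[X] ⊗ K` has injective amplitude in `[a, b + 1]`.
* `isDualizing_extD_poly`: the base change to `A[X]` of a dualizing complex is dualizing.
-/

set_option autoImplicit false
universe u
open CategoryTheory CategoryTheory.Limits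
open scoped Polynomial TensorProduct
attribute [local instance] HasDerivedCategory.standard

namespace Groth.Agent.Lib.Helper5.Poly

open DerivedCategory Pretriangulated Groth.Agent.Lib.Helper1.Extend Groth.Agent.Lib.Helper5.LocD
  Groth.Agent.Lib.Helper5.HomBC Groth.Agent.Lib.Helper5.Bass Groth.Agent.Lib.Helper5.BiDual

section Tri

variable {C : Type*} [Category C] [Preadditive C] [HasZeroObject C] [HasShift C ℤ]
  [∀ n : ℤ, (shiftFunctor C n).Additive] [Pretriangulated C]

lemma subsingleton_hom_obj₁_shift (T : Triangle C) (hT : T ∈ distTriang C) (S : C) (i j : ℤ)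
    (hij : j + 1 = i) (h3 : Subsingleton (S ⟶ T.obj₃⟦j⟧)) (h2 : Subsingleton (S ⟶ T.obj₂⟦i⟧)) :
    Subsingleton (S ⟶ T.obj₁⟦i⟧) := by
  have hT1 := Triangle.shift_distinguished T hT j
  have hT2 := rot_of_distTriang _ (rot_of_distTriang _ hT1)
  have h2' : Subsingleton (S ⟶ (T.obj₂⟦j⟧)⟦(1 : ℤ)⟧) :=
    subsingleton_hom_of_isos (Iso.refl S) ((shiftFunctorAdd' C j 1 i hij).app T.obj₂) h2
  have key : ∀ f : S ⟶ T.obj₁⟦i⟧, f = 0 := by
    intro f
    let f' : S ⟶ (T.obj₁⟦j⟧)⟦(1 : ℤ)⟧ := f ≫ ((shiftFunctorAdd' C j 1 i hij).app T.obj₁).hom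
    obtain ⟨g, hg⟩ := Triangle.coyoneda_exact₂ _ hT2 f' (@Subsingleton.elim _ h2' _ _)
    have hg0 : g = 0 := @Subsingleton.elim _ h3 g 0
    have hf' : f' = 0 := by
      rw [hg, hg0]
      exact zero_comp
    have h5 : f = f' ≫ ((shiftFunctorAdd' C j 1 i hij).app T.obj₁).inv := by
      show f = (f ≫ ((shiftFunctorAdd' C j 1 i hij).app T.obj₁).hom) ≫
        ((shiftFunctorAdd' C j 1 i hij).app T.obj₁).inv
      rw [Category.assoc, Iso.hom_inv_id, Category.comp_id]
    rw [h5, hf', zero_comp]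
  exact ⟨fun f g => by rw [key f, key g]⟩

end Tri

section Cx

variable {A : Type u} [CommRing A]

variable (A) in
/-- termwise `Hom_A(A[X], -)` -/
noncomputable abbrev CfCx : DRing.Cx A[X] ⥤ DRing.Cx A[X] :=
  (Cf A).mapHomologicalComplex (ComplexShape.up ℤ)

noncomputable def iotaCx (L : DRing.Cx A[X]) : L ⟶ (CfCx A).obj L where
  f p := (iota A).app (L.X p)
  comm' p q _ := ((iota A).naturality (L.d p q)).symm

noncomputable def thetaCx (L : DRing.Cx A[X]) : (CfCx A).obj L ⟶ (CfCx A).obj L :=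
  (NatTrans.mapHomologicalComplex (theta A) (ComplexShape.up ℤ)).app L

noncomputable def sesCx (L : DRing.Cx A[X]) : ShortComplex (DRing.Cx A[X]) :=
  ShortComplex.mk (iotaCx L) (thetaCx L)
    (HomologicalComplex.hom_ext _ _ (fun p => (ses (L.X p)).zero))

lemma sesCx_shortExact (L : DRing.Cx A[X]) : (sesCx L).ShortExact :=
  HomologicalComplex.shortExact_of_degreewise_shortExact _ (fun p => ses_shortExact (L.X p))

variable [IsNoetherianRing A]

lemma hasInjAmp_CfCx (K : DRing.Cx A) (a b : ℤ) (hv : DRing.VanishesOutside K a b)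
    (hi : DRing.TermwiseInjective K) :
    DRing.HasInjAmplitudeIn A[X] a b (Q.obj ((CfCx A).obj ((extCx A A[X]).obj K))) := by
  refine ⟨(CfCx A).obj ((extCx A A[X]).obj K), ?_, ?_, ⟨Iso.refl _⟩⟩
  · intro i h
    exact (Cf A).map_isZero ((ext A A[X]).map_isZero (hv i h))
  · intro i
    have := hi i
    have : Injective ((Cf A).obj ((ext A A[X]).obj (K.X i))) := injective_Cf_ext (K.X i)
    exact Module.injective_module_of_injective_object (R := A[X])
      (M := ((Cf A).obj ((ext A A[X]).obj (K.X i))))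

theorem main_vanish (K : DRing.Cx A) (a b : ℤ) (hv : DRing.VanishesOutside K a b)
    (hi : DRing.TermwiseInjective K) (N : Type u) [AddCommGroup N] [Module A[X] N] (i : ℤ)
    (h : i < a ∨ b + 1 < i) :
    Subsingleton (Dual.inD A[X] N ⟶ (Q.obj ((extCx A A[X]).obj K))⟦i⟧) := by
  have hamp := hasInjAmp_CfCx K a b hv hi
  have hvan := ((Groth.Agent.S6965.result A[X] _ a b).out 0 1).1 hamp
  have hT := triangleOfSES_distinguished (sesCx_shortExact ((extCx A A[X]).obj K))
  refine subsingleton_hom_obj₁_shift _ hT (Dual.inD A[X] N) i (i - 1) (by ring) ?_ ?_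
  · exact hvan N (i - 1) (h.imp (fun h => by omega) (fun h => by omega))
  · exact hvan N i (h.imp (fun h => by omega) (fun h => by omega))

theorem vanish_extD (K : DRing.Cx A) (a b : ℤ) (hv : DRing.VanishesOutside K a b)
    (hi : DRing.TermwiseInjective K) (N : Type u) [AddCommGroup N] [Module A[X] N] (i : ℤ)
    (h : i < a ∨ b + 1 < i) :
    Subsingleton (Dual.inD A[X] N ⟶ ((extD A A[X]).obj (Q.obj K))⟦i⟧) :=
  subsingleton_hom_of_isos (Iso.refl _)
    ((shiftFunctor (Dual.D A[X]) i).mapIso (mapQIso (ext A A[X]) K).symm)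
    (main_vanish K a b hv hi N i h)

theorem isDualizing_extD_poly (ω : Dual.D A) (hω : Dual.IsDualizing A ω) :
    Dual.IsDualizing A[X] ((extD A A[X]).obj ω) := by
  obtain ⟨T⟩ := nonempty_res ω hω
  have hpc := pc'_of_isDualizing ω hω
  have hbb := hasBBRes_of_isDualizing ω hω
  have hfin : ∀ i : ℤ, Module.Finite A[X] (Dual.HD A[X] ((extD A A[X]).obj ω) i) := fun i =>
    finite_HD_extD A[X] ω i (hω.finite_cohomology i)
  refine ⟨inferInstance, ⟨T.a, T.b + 1, ?_⟩, hfin,
    toEnd_bijective_extD A[X] hpc hbb hω.toEnd_bijective, ?_⟩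
  · intro N _ _ i hi
    have h1 := vanish_extD T.E T.a T.b T.van T.inj N i hi
    exact subsingleton_hom_of_isos (Iso.refl _)
      ((shiftFunctor (Dual.D A[X]) i).mapIso ((extD A A[X]).mapIso T.e)) h1
  · intro i hi
    have h1 := subsingleton_hom_extD A[X] hpc (hbb.shift i) (hω.ext_self_subsingleton i hi)
    exact subsingleton_hom_of_isos (Iso.refl _) (((extD A A[X]).commShiftIso i).app ω) h1

end Cx

end Groth.Agent.Lib.Helper5.Poly
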