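import Mathlib
import Groth.Agent.Lib.Helper5PolyB
import Groth.Agent.Lib.Helper5BiDualC

/-!
# Transitivity of flat base change on derived categories; polynomial rings in several variables
(helper5)

* `extD_trans`: for flat maps `R → S → T`, `(extD R T).obj X ≅ (extD S T).obj ((extD R S).obj X)`.
* `isDualizing_extD_of_bijective`: base change along a bijective algebra map.
* `isDualizing_extD_mvPoly`: base change of a dualizing complex to `R[x_1, …, x_n]` is dualizing.
-/

set_option autoImplicit false
universe u
open CategoryTheory CategoryTheory.Limits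
open scoped Polynomial TensorProduct
attribute [local instance] HasDerivedCategory.standard

namespace Groth.Agent.Lib.Helper5.ExtTrans

open DerivedCategory Groth.Agent.Lib.Helper1.Extend Groth.Agent.Lib.Helper5.LocD
  Groth.Agent.Lib.Helper5.Poly Groth.Agent.Lib.Helper5.FlatDual

section Trans

variable (R S T : Type u) [CommRing R] [CommRing S] [CommRing T] [Algebra R S] [Algebra S T]
  [Algebra R T] [IsScalarTower R S T]

/-- extension of scalars is transitive -/
noncomputable def extCompIso : ext R T ≅ ext R S ⋙ ext S T :=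
  eqToIso (by
    show ModuleCat.extendScalars.{u, u, u} (algebraMap R T) =
      ModuleCat.extendScalars.{u, u, u} ((algebraMap S T).comp (algebraMap R S))
    rw [IsScalarTower.algebraMap_eq R S T]) ≪≫
    ModuleCat.extendScalarsComp.{u, u} (algebraMap R S) (algebraMap S T)

variable [Module.Flat R S] [Module.Flat S T] [Module.Flat R T]

noncomputable def extD_trans_Q (E : DRing.Cx R) :
    (extD R T).obj (Q.obj E) ≅ (extD S T).obj ((extD R S).obj (Q.obj E)) :=
  mapQIso (ext R T) E ≪≫
    Q.mapIso ((NatIso.mapHomologicalComplex (extCompIso R S T) (ComplexShape.up ℤ)).app E) ≪≫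
    (mapQIso (ext S T) ((extCx R S).obj E)).symm ≪≫
    (extD S T).mapIso (mapQIso (ext R S) E).symm

theorem extD_trans (X : Dual.D R) :
    Nonempty ((extD R T).obj X ≅ (extD S T).obj ((extD R S).obj X)) :=
  ⟨(extD R T).mapIso (Q.objObjPreimageIso X).symm ≪≫ extD_trans_Q R S T (Q.objPreimage X) ≪≫
    (extD S T).mapIso ((extD R S).mapIso (Q.objObjPreimageIso X))⟩

end Trans

section Bij

variable {S T : Type u} [CommRing S] [CommRing T] [Algebra S T]

lemma flat_of_bijective (h : Function.Bijective (algebraMap S T)) : Module.Flat S T :=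
  Module.Flat.of_linearEquiv (LinearEquiv.ofBijective (Algebra.linearMap S T) h).symm

theorem isDualizing_extD_of_bijective [Module.Flat S T]
    (h : Function.Bijective (algebraMap S T)) (ω : Dual.D S) (hω : Dual.IsDualizing S ω) :
    Dual.IsDualizing T ((extD S T).obj ω) := by
  haveI := hω.isNoetherianRing
  haveI : IsNoetherianRing T := isNoetherianRing_of_surjective S T (algebraMap S T) h.2
  exact isDualizing_extD_of_maximal T ω hω
    (fun q _ => ⟨q.comap (algebraMap S T), Ideal.map_comap_of_surjective _ h.2 q⟩)

end Bij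

section MvPoly

variable (R : Type u) [CommRing R]

theorem isDualizing_extD_mvPoly (ω : Dual.D R) (hω : Dual.IsDualizing R ω) :
    ∀ n : ℕ, Dual.IsDualizing (MvPolynomial (Fin n) R)
      ((extD R (MvPolynomial (Fin n) R)).obj ω)
  | 0 => isDualizing_extD_of_bijective
      (by
        rw [MvPolynomial.algebraMap_eq]
        exact ⟨MvPolynomial.C_injective _ _, MvPolynomial.C_surjective (Fin 0)⟩) ω hω
  | n + 1 => by
    have ih := isDualizing_extD_mvPoly ω hω n
    haveI := ih.isNoetherianRing
    have h1 := isDualizing_extD_poly _ ih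
    haveI : Module.Flat R (MvPolynomial (Fin n) R)[X] :=
      Module.Flat.trans R (MvPolynomial (Fin n) R) (MvPolynomial (Fin n) R)[X]
    obtain ⟨e1⟩ := extD_trans R (MvPolynomial (Fin n) R) (MvPolynomial (Fin n) R)[X] ω
    have h2 : Dual.IsDualizing (MvPolynomial (Fin n) R)[X]
        ((extD R (MvPolynomial (Fin n) R)[X]).obj ω) := isDualizing_of_iso e1.symm h1
    letI : Algebra (MvPolynomial (Fin n) R)[X] (MvPolynomial (Fin (n + 1)) R) :=
      ((MvPolynomial.finSuccEquiv R n).symm :
        (MvPolynomial (Fin n) R)[X] →+* MvPolynomial (Fin (n + 1)) R).toAlgebra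
    haveI : IsScalarTower R (MvPolynomial (Fin n) R)[X] (MvPolynomial (Fin (n + 1)) R) :=
      IsScalarTower.of_algebraMap_eq
        (fun r => ((MvPolynomial.finSuccEquiv R n).symm.commutes r).symm)
    have hb : Function.Bijective
        (algebraMap (MvPolynomial (Fin n) R)[X] (MvPolynomial (Fin (n + 1)) R)) :=
      (MvPolynomial.finSuccEquiv R n).symm.bijective
    haveI : Module.Flat (MvPolynomial (Fin n) R)[X] (MvPolynomial (Fin (n + 1)) R) :=
      flat_of_bijective hb
    have h3 := isDualizing_extD_of_bijective hb _ h2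
    obtain ⟨e2⟩ := extD_trans R (MvPolynomial (Fin n) R)[X] (MvPolynomial (Fin (n + 1)) R) ω
    exact isDualizing_of_iso e2.symm h3

end MvPoly

end Groth.Agent.Lib.Helper5.ExtTrans
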