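import Mathlib
import Groth.Agent.Lib.Helper5ExtTrans
import Groth.Agent.Lib.Helper5PtDual
import Groth.Agent.S0377
import Groth.Agent.S0371

/-!
# Dualizing complexes under étale and smooth base change (helper5)

* `isDualizing_extD_of_unramified`: `R → S` flat, essentially of finite type and formally unramified
  (e.g. étale); the base change of a dualizing complex of `R` is dualizing for `S`.
* `isDualizing_extD_of_smooth`: the same for `R → S` smooth.
-/

set_option autoImplicit false
universe u
open CategoryTheory CategoryTheory.Limits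
attribute [local instance] HasDerivedCategory.standard

namespace Groth.Agent.Lib.Helper5.EtaleDual

open DerivedCategory Groth.Agent.Lib.Helper1.Extend Groth.Agent.Lib.Helper5.LocD
  Groth.Agent.Lib.Helper5.FlatDual Groth.Agent.Lib.Helper5.ExtTrans Groth.Agent.Lib.Helper5.BiDual
  Groth.Agent.Lib.Helper5.Bass

section Unramified

variable {R S : Type u} [CommRing R] [CommRing S] [Algebra R S]

lemma exists_map_eq_maximalIdeal [Algebra.EssFiniteType R S] [Algebra.FormallyUnramified R S]
    (q : Ideal S) [q.IsPrime] :
    ∃ p : Ideal R, p.map (algebraMap R (Localization.AtPrime q)) =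
      IsLocalRing.maximalIdeal (Localization.AtPrime q) := by
  haveI : q.LiesOver (q.under R) := ⟨rfl⟩
  letI := Localization.AtPrime.algebraOfLiesOver (q.under R) q
  haveI : Algebra.FormallyUnramified S (Localization.AtPrime q) :=
    Algebra.FormallyUnramified.of_isLocalization q.primeCompl
  haveI : Algebra.IsUnramifiedAt R q :=
    Algebra.FormallyUnramified.comp R S (Localization.AtPrime q)
  exact ⟨q.under R, ((Algebra.isUnramifiedAt_iff_map_eq R (q.under R) q).1 inferInstance).2⟩

theorem isDualizing_extD_of_unramified [Module.Flat R S] [Algebra.EssFiniteType R S]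
    [Algebra.FormallyUnramified R S] (ω : Dual.D R) (hω : Dual.IsDualizing R ω) :
    Dual.IsDualizing S ((extD R S).obj ω) := by
  haveI := hω.isNoetherianRing
  obtain ⟨ωS, hωS⟩ := Groth.Agent.S0377.result R ω hω S
  haveI := hωS.isNoetherianRing
  have hdim := Groth.Agent.S0371.result S ωS hωS
  obtain ⟨T⟩ := nonempty_res ω hω
  have hfin : ∀ i : ℤ, Module.Finite S (Dual.HD S ((extD R S).obj ω) i) := fun i =>
    finite_HD_extD S ω i (hω.finite_cohomology i)
  have hlo : ∀ i : ℤ, i < T.a → Subsingleton (Dual.HD S ((extD R S).obj ω) i) := fun i hi =>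
    subsingleton_HD_extD S ω i (subsingleton_HD_of_res T i (Or.inl hi))
  refine Groth.Agent.Lib.Helper5.PtDual.isDualizing_of_pointwise _ ?_ hfin T.a hlo hdim
  intro q
  haveI : Module.Flat R (Localization.AtPrime q.asIdeal) :=
    Module.Flat.trans R S (Localization.AtPrime q.asIdeal)
  obtain ⟨e⟩ := extD_trans R S (Localization.AtPrime q.asIdeal) ω
  refine isDualizing_of_iso e ?_
  obtain ⟨p, hp⟩ := exists_map_eq_maximalIdeal (R := R) q.asIdeal
  exact isDualizing_extD_of_maximal (Localization.AtPrime q.asIdeal) ω hω
    (fun q' hq' => ⟨p, hp.trans (IsLocalRing.eq_maximalIdeal hq').symm⟩)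

end Unramified

section Smooth

variable {A B : Type u} [CommRing A] [CommRing B] [Algebra A B]

/-- the standard smooth case, over a basic open -/
lemma isDualizing_extD_away_of_standardSmooth [Module.Flat A B] (ω : Dual.D A)
    (hω : Dual.IsDualizing A ω) (x : B) (hx : Algebra.IsStandardSmooth A (Localization.Away x)) :
    Dual.IsDualizing (Localization.Away x)
      ((extD B (Localization.Away x)).obj ((extD A B).obj ω)) := by
  haveI := hω.isNoetherianRing
  obtain ⟨n, φ, hφC, hφ⟩ := RingHom.IsStandardSmooth.exists_etale_mvPolynomial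
    (f := algebraMap A (Localization.Away x)) (by simpa [RingHom.isStandardSmooth_algebraMap])
  letI : Algebra (MvPolynomial (Fin n) A) (Localization.Away x) := φ.toAlgebra
  haveI : IsScalarTower A (MvPolynomial (Fin n) A) (Localization.Away x) :=
    IsScalarTower.of_algebraMap_eq' hφC.symm
  haveI : Algebra.Etale (MvPolynomial (Fin n) A) (Localization.Away x) := hφ
  haveI : Module.Flat A (Localization.Away x) := Module.Flat.trans A B (Localization.Away x)
  have h1 := isDualizing_extD_mvPoly A ω hω n
  have h2 := isDualizing_extD_of_unramified (S := Localization.Away x) _ h1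
  obtain ⟨e1⟩ := extD_trans A (MvPolynomial (Fin n) A) (Localization.Away x) ω
  obtain ⟨e2⟩ := extD_trans A B (Localization.Away x) ω
  exact isDualizing_of_iso (e1.symm ≪≫ e2) h2

theorem isDualizing_extD_of_smooth [Algebra.Smooth A B] (ω : Dual.D A)
    (hω : Dual.IsDualizing A ω) : Dual.IsDualizing B ((extD A B).obj ω) := by
  classical
  haveI := hω.isNoetherianRing
  haveI : IsNoetherianRing B := Algebra.FiniteType.isNoetherianRing A B
  obtain ⟨s, hs, hss⟩ := Algebra.Smooth.exists_span_eq_top_isStandardSmooth A B
  obtain ⟨s', hs's, hs'⟩ := (Ideal.span_eq_top_iff_finite s).1 hs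
  let f : Fin s'.card → B := fun i => ((s'.equivFin).symm i : B)
  have hf : Ideal.span (Set.range f) = ⊤ := by
    have h1 : Set.range f = (s' : Set B) := by
      ext y
      constructor
      · rintro ⟨i, rfl⟩
        exact ((s'.equivFin).symm i).2
      · intro hy
        exact ⟨s'.equivFin ⟨y, hy⟩, by simp [f]⟩
    rw [h1]
    exact hs'
  refine Groth.Agent.Lib.Helper5.LocD.isDualizing_of_cover_away f hf _ (fun i => ?_)
  exact isDualizing_extD_away_of_standardSmooth ω hω (f i)
    (hss _ (hs's ((s'.equivFin).symm i).2))

end Smooth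

end Groth.Agent.Lib.Helper5.EtaleDual
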