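import Mathlib

/-!
# Morphisms `K ⟶ N[p]` in `D(A)` from a K-projective complex, by cocycles

For a K-projective complex `P` with `Q P ≅ K`, the group `K ⟶ N[p]` is the quotient of the cocycles
`{g : P^n → N | g d = 0}` (`p + n = 0`) by the coboundaries, linearly and naturally in `N`.
-/

set_option autoImplicit false
universe u
open CategoryTheory CategoryTheory.Limits
attribute [local instance] HasDerivedCategory.standard

namespace Groth.Agent.Lib.Helper5.ExtRep

open DerivedCategory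

variable {A : Type u} [CommRing A]

section Psi

variable (p n : ℤ) (hpn : p + n = 0)

/-- the single complex in degree `n` is the `p`-th shift of the module in degree `0`. -/
noncomputable def psi (N : ModuleCat.{u} A) :
    Q.obj ((HomologicalComplex.single (ModuleCat.{u} A) (ComplexShape.up ℤ) n).obj N) ≅
      ((DerivedCategory.singleFunctor (ModuleCat.{u} A) 0).obj N)⟦p⟧ :=
  ((DerivedCategory.singleFunctorIsoCompQ (ModuleCat.{u} A) n).app N).symm ≪≫
    (((DerivedCategory.singleFunctors (ModuleCat.{u} A)).shiftIso p n 0 hpn).app N).symm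

lemma psi_nat {N N' : ModuleCat.{u} A} (φ : N ⟶ N') :
    (psi p n hpn N).hom ≫ ((DerivedCategory.singleFunctor (ModuleCat.{u} A) 0).map φ)⟦p⟧' =
      Q.map ((HomologicalComplex.single (ModuleCat.{u} A) (ComplexShape.up ℤ) n).map φ) ≫
        (psi p n hpn N').hom := by
  obtain ⟨a1, ha1⟩ : ∃ a1 : Q.obj ((HomologicalComplex.single (ModuleCat.{u} A) (ComplexShape.up ℤ) n).obj N) ⟶
      (DerivedCategory.singleFunctor (ModuleCat.{u} A) n).obj N,
      a1 = (DerivedCategory.singleFunctorIsoCompQ (ModuleCat.{u} A) n).inv.app N := ⟨_, rfl⟩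
  obtain ⟨a1', ha1'⟩ : ∃ a1' : Q.obj ((HomologicalComplex.single (ModuleCat.{u} A) (ComplexShape.up ℤ) n).obj N') ⟶
      (DerivedCategory.singleFunctor (ModuleCat.{u} A) n).obj N',
      a1' = (DerivedCategory.singleFunctorIsoCompQ (ModuleCat.{u} A) n).inv.app N' := ⟨_, rfl⟩
  obtain ⟨a2, ha2⟩ : ∃ a2 : (DerivedCategory.singleFunctor (ModuleCat.{u} A) n).obj N ⟶
      ((DerivedCategory.singleFunctor (ModuleCat.{u} A) 0).obj N)⟦p⟧,
      a2 = ((DerivedCategory.singleFunctors (ModuleCat.{u} A)).shiftIso p n 0 hpn).inv.app N := ⟨_, rfl⟩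
  obtain ⟨a2', ha2'⟩ : ∃ a2' : (DerivedCategory.singleFunctor (ModuleCat.{u} A) n).obj N' ⟶
      ((DerivedCategory.singleFunctor (ModuleCat.{u} A) 0).obj N')⟦p⟧,
      a2' = ((DerivedCategory.singleFunctors (ModuleCat.{u} A)).shiftIso p n 0 hpn).inv.app N' := ⟨_, rfl⟩
  have h1 : Q.map ((HomologicalComplex.single (ModuleCat.{u} A) (ComplexShape.up ℤ) n).map φ) ≫ a1' =
      a1 ≫ (DerivedCategory.singleFunctor (ModuleCat.{u} A) n).map φ := by
    rw [ha1, ha1']
    exact ((DerivedCategory.singleFunctorIsoCompQ (ModuleCat.{u} A) n).inv).naturality φ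
  have h2 : (DerivedCategory.singleFunctor (ModuleCat.{u} A) n).map φ ≫ a2' =
      a2 ≫ ((DerivedCategory.singleFunctor (ModuleCat.{u} A) 0).map φ)⟦p⟧' := by
    rw [ha2, ha2']
    exact (((DerivedCategory.singleFunctors (ModuleCat.{u} A)).shiftIso p n 0 hpn).inv).naturality φ
  have e1 : (psi p n hpn N).hom = a1 ≫ a2 := by rw [ha1, ha2]; rfl
  have e1' : (psi p n hpn N').hom = a1' ≫ a2' := by rw [ha1', ha2']; rfl
  rw [e1, e1', Category.assoc, ← h2, ← Category.assoc, ← h1, Category.assoc]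

end Psi

section Sing

variable {C : Type*} [Category C] [Preadditive C] (K L : CochainComplex C ℤ)

/-- the family with a single nonzero entry `g : K.X q ⟶ L.X p`. -/
noncomputable def sing2 (p q : ℤ) (g : K.X q ⟶ L.X p) : ∀ j j' : ℤ, K.X j ⟶ L.X j' :=
  fun j j' => if h : j = q ∧ j' = p then
    eqToHom (by rw [h.1]) ≫ g ≫ eqToHom (by rw [h.2]) else 0

lemma sing2_self (p q : ℤ) (g : K.X q ⟶ L.X p) : sing2 K L p q g q p = g := by
  rw [sing2, dif_pos ⟨rfl, rfl⟩, eqToHom_refl, eqToHom_refl, Category.id_comp, Category.comp_id]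

lemma sing2_ne (p q : ℤ) (g : K.X q ⟶ L.X p) (j j' : ℤ) (h : ¬ (j = q ∧ j' = p)) :
    sing2 K L p q g j j' = 0 := dif_neg h

end Sing

section Rep

variable (P : CochainComplex (ModuleCat.{u} A) ℤ) (n : ℤ)

/-- cocycles: maps `P^n → N` killing the image of `d`. -/
def Z (N : Type u) [AddCommGroup N] [Module A N] : Submodule A (P.X n →ₗ[A] N) :=
  LinearMap.ker (LinearMap.lcomp A N (P.d (n - 1) n).hom)

variable {N N' : Type u} [AddCommGroup N] [Module A N] [AddCommGroup N'] [Module A N']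

lemma mem_Z (g : P.X n →ₗ[A] N) : g ∈ Z P n N ↔ g ∘ₗ (P.d (n - 1) n).hom = 0 := by
  rw [Z, LinearMap.mem_ker, LinearMap.lcomp_apply']

lemma comp_mem_Z (φ : N →ₗ[A] N') {g : P.X n →ₗ[A] N} (hg : g ∈ Z P n N) :
    φ ∘ₗ g ∈ Z P n N' := by
  rw [mem_Z] at hg ⊢
  rw [LinearMap.comp_assoc, hg, LinearMap.comp_zero]

lemma comp_d_mem_Z (h : P.X (n + 1) →ₗ[A] N) : h ∘ₗ (P.d n (n + 1)).hom ∈ Z P n N := by
  rw [mem_Z, LinearMap.comp_assoc, ← ModuleCat.hom_comp, P.d_comp_d]
  exact LinearMap.comp_zero h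

/-- the chain map to the single complex attached to a cocycle. -/
noncomputable def toSingle (g : P.X n →ₗ[A] N) (hg : g ∈ Z P n N) :
    P ⟶ (HomologicalComplex.single (ModuleCat.{u} A) (ComplexShape.up ℤ) n).obj (ModuleCat.of A N) :=
  HomologicalComplex.mkHomToSingle (ModuleCat.ofHom g : P.X n ⟶ ModuleCat.of A N) (by
    intro j hj
    have hj' : j + 1 = n := hj
    obtain rfl : j = n - 1 := by omega
    apply ModuleCat.hom_ext
    exact (mem_Z P n g).1 hg)

lemma toSingle_f (g : P.X n →ₗ[A] N) (hg : g ∈ Z P n N) :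
    (toSingle P n g hg).f n = (ModuleCat.ofHom g : P.X n ⟶ ModuleCat.of A N) ≫
      (HomologicalComplex.singleObjXSelf (ComplexShape.up ℤ) n (ModuleCat.of A N)).inv :=
  HomologicalComplex.mkHomToSingle_f _ _

lemma toSingle_add (g g' : P.X n →ₗ[A] N) (hg : g ∈ Z P n N) (hg' : g' ∈ Z P n N) :
    toSingle P n (g + g') ((Z P n N).add_mem hg hg') = toSingle P n g hg + toSingle P n g' hg' := by
  apply HomologicalComplex.to_single_hom_ext
  rw [HomologicalComplex.add_f_apply, toSingle_f, toSingle_f, toSingle_f, ← Preadditive.add_comp]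
  rfl

lemma toSingle_smul (a : A) (g : P.X n →ₗ[A] N) (hg : g ∈ Z P n N) :
    toSingle P n (a • g) ((Z P n N).smul_mem a hg) = a • toSingle P n g hg := by
  apply HomologicalComplex.to_single_hom_ext
  rw [HomologicalComplex.smul_f_apply, toSingle_f, toSingle_f, ← Linear.smul_comp]
  rfl

lemma toSingle_comp (φ : N →ₗ[A] N') (g : P.X n →ₗ[A] N) (hg : g ∈ Z P n N) :
    toSingle P n g hg ≫ (HomologicalComplex.single (ModuleCat.{u} A) (ComplexShape.up ℤ) n).map
      (ModuleCat.ofHom φ) = toSingle P n (φ ∘ₗ g) (comp_mem_Z P n φ hg) := by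
  apply HomologicalComplex.to_single_hom_ext
  rw [HomologicalComplex.comp_f, toSingle_f, toSingle_f, HomologicalComplex.single_map_f_self,
    Category.assoc, Iso.inv_hom_id_assoc, ← Category.assoc]
  rfl

variable {K : DerivedCategory (ModuleCat.{u} A)} (e : Q.obj P ≅ K) (p : ℤ) (hpn : p + n = 0)

/-- the class of a cocycle. -/
noncomputable def Phi (N : Type u) [AddCommGroup N] [Module A N] :
    Z P n N →ₗ[A] (K ⟶ ((DerivedCategory.singleFunctor (ModuleCat.{u} A) 0).obj (ModuleCat.of A N))⟦p⟧) where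
  toFun z := e.inv ≫ Q.map (toSingle P n z.1 z.2) ≫ (psi p n hpn (ModuleCat.of A N)).hom
  map_add' z z' := by
    have h1 : toSingle P n (z + z').1 (z + z').2 = toSingle P n z.1 z.2 + toSingle P n z'.1 z'.2 :=
      toSingle_add P n z.1 z'.1 z.2 z'.2
    rw [h1, Functor.map_add, Preadditive.add_comp, Preadditive.comp_add]
  map_smul' a z := by
    have h1 : toSingle P n (a • z).1 (a • z).2 = a • toSingle P n z.1 z.2 :=
      toSingle_smul P n a z.1 z.2
    rw [h1, Functor.map_smul, Linear.smul_comp, Linear.comp_smul, RingHom.id_apply]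

lemma Phi_apply (z : Z P n N) :
    Phi P n e p hpn N z = e.inv ≫ Q.map (toSingle P n z.1 z.2) ≫ (psi p n hpn (ModuleCat.of A N)).hom :=
  rfl

lemma Phi_nat (φ : N →ₗ[A] N') (z : Z P n N) :
    Phi P n e p hpn N z ≫ ((DerivedCategory.singleFunctor (ModuleCat.{u} A) 0).map
      (ModuleCat.ofHom φ))⟦p⟧' = Phi P n e p hpn N' ⟨φ ∘ₗ z.1, comp_mem_Z P n φ z.2⟩ := by
  rw [Phi_apply, Phi_apply, Category.assoc, Category.assoc, psi_nat, ← Category.assoc (Q.map _),
    ← Q.map_comp, toSingle_comp]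

lemma Phi_surjective [P.IsKProjective] : Function.Surjective (Phi P n e p hpn N) := by
  intro e'
  obtain ⟨f, hf⟩ : ∃ f : P ⟶ (HomologicalComplex.single (ModuleCat.{u} A) (ComplexShape.up ℤ) n).obj
      (ModuleCat.of A N), Q.map f = e.hom ≫ e' ≫ (psi p n hpn (ModuleCat.of A N)).inv := by
    obtain ⟨g, hg⟩ := (CochainComplex.IsKProjective.Qh_map_bijective P
      ((HomotopyCategory.quotient _ (ComplexShape.up ℤ)).obj _)).2
        (e.hom ≫ e' ≫ (psi p n hpn (ModuleCat.of A N)).inv)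
    obtain ⟨f, rfl⟩ := (HomotopyCategory.quotient _ (ComplexShape.up ℤ)).map_surjective g
    exact ⟨f, hg⟩
  obtain ⟨g, hgdef⟩ : ∃ g : P.X n ⟶ ModuleCat.of A N, g = f.f n ≫
      (HomologicalComplex.singleObjXSelf (ComplexShape.up ℤ) n (ModuleCat.of A N)).hom := ⟨_, rfl⟩
  have hg : g.hom ∈ Z P n N := by
    rw [mem_Z, ← ModuleCat.hom_comp, hgdef, ← Category.assoc, ← f.comm,
      HomologicalComplex.single_obj_d, comp_zero, zero_comp]
    rfl
  refine ⟨⟨g.hom, hg⟩, ?_⟩
  have h1 : toSingle P n g.hom hg = f := by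
    apply HomologicalComplex.to_single_hom_ext
    rw [toSingle_f]
    have : (ModuleCat.ofHom g.hom : P.X n ⟶ ModuleCat.of A N) = g := rfl
    rw [this, hgdef, Category.assoc, Iso.hom_inv_id, Category.comp_id]
  rw [Phi_apply]
  simp only [h1, hf, Category.assoc, Iso.inv_hom_id, Category.comp_id, Iso.inv_hom_id_assoc]

lemma Phi_eq_zero_of_coboundary (z : Z P n N) (h : P.X (n + 1) →ₗ[A] N)
    (hz : z.1 = h ∘ₗ (P.d n (n + 1)).hom) : Phi P n e p hpn N z = 0 := by
  obtain ⟨hc, hhc⟩ : ∃ hc : P.X (n + 1) ⟶ ((HomologicalComplex.single (ModuleCat.{u} A)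
      (ComplexShape.up ℤ) n).obj (ModuleCat.of A N)).X n,
      hc = (ModuleCat.ofHom h : P.X (n + 1) ⟶ ModuleCat.of A N) ≫
        (HomologicalComplex.singleObjXSelf (ComplexShape.up ℤ) n (ModuleCat.of A N)).inv :=
    ⟨_, rfl⟩
  have h1 : toSingle P n z.1 z.2 = Homotopy.nullHomotopicMap (sing2 P _ n (n + 1) hc) := by
    apply HomologicalComplex.to_single_hom_ext
    have h2 := Homotopy.nullHomotopicMap_f (c := ComplexShape.up ℤ) (k₂ := n - 1) (k₁ := n)
      (k₀ := n + 1) (by simp) rfl (sing2 P ((HomologicalComplex.single (ModuleCat.{u} A)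
      (ComplexShape.up ℤ) n).obj (ModuleCat.of A N)) n (n + 1) hc)
    rw [h2, sing2_self, HomologicalComplex.single_obj_d, comp_zero, add_zero, toSingle_f, hhc,
      ← Category.assoc]
    congr 1
    apply ModuleCat.hom_ext
    exact hz
  have hz0 : ∀ j j' : ℤ, ¬ (ComplexShape.up ℤ).Rel j' j → sing2 P ((HomologicalComplex.single
      (ModuleCat.{u} A) (ComplexShape.up ℤ) n).obj (ModuleCat.of A N)) n (n + 1) hc j j' = 0 := by
    intro j j' hjj'
    have h' : ¬ (j' + 1 = j) := hjj'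
    exact sing2_ne _ _ n (n + 1) hc j j' (by omega)
  rw [Phi_apply, h1, DerivedCategory.Q_map_eq_of_homotopy _ (Homotopy.nullHomotopy _ hz0),
    Q.map_zero, zero_comp, comp_zero]

lemma exists_of_Phi_eq_zero [P.IsKProjective] (z : Z P n N) (hz : Phi P n e p hpn N z = 0) :
    ∃ h : P.X (n + 1) →ₗ[A] N, z.1 = h ∘ₗ (P.d n (n + 1)).hom := by
  rw [Phi_apply] at hz
  have h1 : Q.map (toSingle P n z.1 z.2) = 0 := by
    have h2 := (cancel_epi e.inv).1 (hz.trans comp_zero.symm)
    exact (cancel_mono (psi p n hpn (ModuleCat.of A N)).hom).1 (h2.trans zero_comp.symm)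
  have h3 : DerivedCategory.Qh.map ((HomotopyCategory.quotient _ (ComplexShape.up ℤ)).map
      (toSingle P n z.1 z.2)) = 0 := by
    have h4 := (DerivedCategory.quotientCompQhIso (ModuleCat.{u} A)).hom.naturality
      (toSingle P n z.1 z.2)
    rw [h1, comp_zero] at h4
    have h5 := (cancel_mono ((DerivedCategory.quotientCompQhIso (ModuleCat.{u} A)).hom.app _)).1
      (h4.trans zero_comp.symm)
    exact h5
  have h6 : (HomotopyCategory.quotient _ (ComplexShape.up ℤ)).map (toSingle P n z.1 z.2) =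
      (HomotopyCategory.quotient _ (ComplexShape.up ℤ)).map 0 := by
    apply (CochainComplex.IsKProjective.Qh_map_bijective P _).1
    rw [h3, Functor.map_zero, Functor.map_zero]
  have hh := HomotopyCategory.homotopyOfEq _ _ h6
  have h7 := hh.comm n
  rw [dNext_eq hh.hom (show (ComplexShape.up ℤ).Rel n (n + 1) from rfl),
    prevD_eq hh.hom (show (ComplexShape.up ℤ).Rel (n - 1) n by simp),
    HomologicalComplex.single_obj_d, comp_zero, add_zero, HomologicalComplex.zero_f,
    add_zero, toSingle_f] at h7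
  refine ⟨(hh.hom (n + 1) n ≫
    (HomologicalComplex.singleObjXSelf (ComplexShape.up ℤ) n (ModuleCat.of A N)).hom).hom, ?_⟩
  have h8 : (ModuleCat.ofHom z.1 : P.X n ⟶ ModuleCat.of A N) = P.d n (n + 1) ≫ hh.hom (n + 1) n ≫
      (HomologicalComplex.singleObjXSelf (ComplexShape.up ℤ) n (ModuleCat.of A N)).hom := by
    rw [← Category.assoc, ← h7, Category.assoc, Iso.inv_hom_id, Category.comp_id]
  exact congrArg ModuleCat.Hom.hom h8

end Rep

end Groth.Agent.Lib.Helper5.ExtRep
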