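import Mathlib
import Groth.Prelude.Def_DRing2
import Groth.Agent.Lib.Helper1LBC
import Groth.Agent.Lib.Helper5ExtRep

/-!
# Artin–Rees type statements for `Ext(K, -)` with `K` pseudo-coherent over a Noetherian ring
-/

set_option autoImplicit false
universe u
open CategoryTheory CategoryTheory.Limits
attribute [local instance] HasDerivedCategory.standard

namespace Groth.Agent.Lib.Helper5.ExtAR

open DerivedCategory Groth.Agent.Lib.Helper5.ExtRep

variable {A : Type u} [CommRing A]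

section Alg

variable {P0 N : Type u} [AddCommGroup P0] [Module A P0] [AddCommGroup N] [Module A N]

lemma smulRight_mem (J : Ideal A) (f : P0 →ₗ[A] A) {y : N}
    (hy : y ∈ J • (⊤ : Submodule A N)) :
    f.smulRight y ∈ J • (⊤ : Submodule A (P0 →ₗ[A] N)) := by
  refine Submodule.smul_induction_on hy ?_ ?_
  · intro a ha y' _
    have h1 : f.smulRight (a • y') = a • f.smulRight y' := by
      apply LinearMap.ext
      intro x
      simp only [LinearMap.smulRight_apply, LinearMap.smul_apply]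
      rw [smul_comm]
    rw [h1]
    exact Submodule.smul_mem_smul ha Submodule.mem_top
  · intro y1 y2 h1 h2
    have h3 : f.smulRight (y1 + y2) = f.smulRight y1 + f.smulRight y2 := by
      apply LinearMap.ext
      intro x
      simp only [LinearMap.smulRight_apply, LinearMap.add_apply, smul_add]
    rw [h3]
    exact Submodule.add_mem _ h1 h2

lemma mem_smul_top_of_forall_mem [Module.Finite A P0] [Module.Free A P0] (J : Ideal A)
    (g : P0 →ₗ[A] N) (hg : ∀ x, g x ∈ J • (⊤ : Submodule A N)) :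
    g ∈ J • (⊤ : Submodule A (P0 →ₗ[A] N)) := by
  classical
  have h1 : g = ∑ i, ((Module.Free.chooseBasis A P0).coord i).smulRight
      (g (Module.Free.chooseBasis A P0 i)) := by
    apply (Module.Free.chooseBasis A P0).ext
    intro j
    rw [LinearMap.sum_apply]
    simp only [LinearMap.smulRight_apply, Module.Basis.coord_apply, Module.Basis.repr_self,
      Finsupp.single_apply]
    rw [Finset.sum_eq_single j]
    · rw [if_pos rfl, one_smul]
    · intro i _ hij
      rw [if_neg (Ne.symm hij), zero_smul]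
    · intro hj
      exact absurd (Finset.mem_univ j) hj
  rw [h1]
  exact Submodule.sum_mem _ (fun i _ => smulRight_mem J _ (hg _))

lemma mem_smul_top_sub (J : Ideal A) {M : Type u} [AddCommGroup M] [Module A M]
    (W : Submodule A M) (w : W) (hw : (w : M) ∈ J • W) : w ∈ J • (⊤ : Submodule A W) := by
  have h1 : J • W = Submodule.map W.subtype (J • ⊤) := by
    rw [Submodule.map_smul'', Submodule.map_subtype_top]
  rw [h1] at hw
  obtain ⟨w', hw', hww'⟩ := hw
  have h2 : w' = w := Subtype.ext hww'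
  rwa [← h2]

end Alg

section PhiLemmas

variable (P : CochainComplex (ModuleCat.{u} A) ℤ) (n : ℤ)
  {K : DerivedCategory (ModuleCat.{u} A)} (e : Q.obj P ≅ K) (p : ℤ) (hpn : p + n = 0)
  {N : Type u} [AddCommGroup N] [Module A N]

lemma mem_Z' (g : P.X n →ₗ[A] N) (j : ℤ) (hj : j + 1 = n) :
    g ∈ Z P n N ↔ g ∘ₗ (P.d j n).hom = 0 := by
  obtain rfl : j = n - 1 := by omega
  exact mem_Z P n g

lemma Phi_mem_smul (J : Ideal A) (z : Z P n N) (hz : z.1 ∈ J • Z P n N) :
    Phi P n e p hpn N z ∈ J • (⊤ : Submodule A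
      (K ⟶ ((DerivedCategory.singleFunctor (ModuleCat.{u} A) 0).obj (ModuleCat.of A N))⟦p⟧)) := by
  have h1 : z ∈ J • (⊤ : Submodule A (Z P n N)) := mem_smul_top_sub J (Z P n N) z hz
  have h2 : Phi P n e p hpn N z ∈ Submodule.map (Phi P n e p hpn N) (J • ⊤) := ⟨z, h1, rfl⟩
  rw [Submodule.map_smul''] at h2
  exact Submodule.smul_mono le_rfl le_top h2

include e hpn in
lemma exists_pow_kill [IsNoetherianRing A] [P.IsKProjective] [Module.Finite A (P.X n)]
    [Module.Free A (P.X n)] [Module.Finite A N] (I : Ideal A)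
    (hN : ∀ e' : K ⟶ ((DerivedCategory.singleFunctor (ModuleCat.{u} A) 0).obj (ModuleCat.of A N))⟦p⟧,
      ∃ k : ℕ, ∀ x ∈ I ^ k, x • e' = 0) :
    ∃ t : ℕ, ∀ x ∈ I ^ t, ∀ e' : K ⟶ ((DerivedCategory.singleFunctor (ModuleCat.{u} A) 0).obj
      (ModuleCat.of A N))⟦p⟧, x • e' = 0 := by
  classical
  obtain ⟨S, hS⟩ := (Module.Finite.fg_top : (⊤ : Submodule A (Z P n N)).FG)
  choose k hk using hN
  refine ⟨S.sup (fun s => k (Phi P n e p hpn N s)), fun x hx e' => ?_⟩
  obtain ⟨z, rfl⟩ := Phi_surjective P n e p hpn (N := N) e'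
  have h1 : Submodule.span A (S : Set (Z P n N)) ≤ LinearMap.ker (x • Phi P n e p hpn N) := by
    rw [Submodule.span_le]
    intro s hs
    rw [SetLike.mem_coe, LinearMap.mem_ker, LinearMap.smul_apply]
    apply hk
    exact Ideal.pow_le_pow_right (Finset.le_sup (f := fun s => k (Phi P n e p hpn N s)) hs) hx
  rw [hS] at h1
  exact LinearMap.mem_ker.1 (h1 Submodule.mem_top)

end PhiLemmas

section Image

theorem ext_image (A : Type u) [CommRing A] [IsNoetherianRing A] (I : Ideal A)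
    (K : Dual.D A) (hK : DRing.IsPseudoCoherent' A K) (M : Type u) [AddCommGroup M] [Module A M]
    [Module.Finite A M] (p : ℤ) :
    ∃ c : ℕ, ∀ n : ℕ, c ≤ n →
      ∀ e : K ⟶ (Dual.inD A ↥(I ^ n • ⊤ : Submodule A M))⟦p⟧,
        e ≫ ((DerivedCategory.singleFunctor (ModuleCat.{u} A) 0).map
              (ModuleCat.ofHom (I ^ n • ⊤ : Submodule A M).subtype))⟦p⟧' ∈
          (I ^ (n - c) • ⊤ : Submodule A (K ⟶ (Dual.inD A M)⟦p⟧)) := by
  obtain ⟨P, b, hb, hff, ⟨e0⟩⟩ := hK
  haveI : P.IsKProjective :=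
    Groth.Agent.Lib.Helper1.LDer.isKProjective_of_vanishesAbove P b hb (fun j => by
      haveI := (hff j).2
      infer_instance)
  haveI := (hff (-p)).1
  haveI := (hff (-p)).2
  obtain ⟨c, hc⟩ := Ideal.exists_pow_inf_eq_pow_smul I (Z P (-p) M)
  refine ⟨c, fun n hn e => ?_⟩
  obtain ⟨z, rfl⟩ := Phi_surjective P (-p) e0 p (by omega)
    (N := ↥(I ^ n • ⊤ : Submodule A M)) e
  rw [Phi_nat]
  apply Phi_mem_smul
  have hg1 : (I ^ n • ⊤ : Submodule A M).subtype ∘ₗ z.1 ∈
      I ^ n • (⊤ : Submodule A (P.X (-p) →ₗ[A] M)) :=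
    mem_smul_top_of_forall_mem _ _ (fun x => (z.1 x).2)
  have hg2 : (I ^ n • ⊤ : Submodule A M).subtype ∘ₗ z.1 ∈
      I ^ n • (⊤ : Submodule A (P.X (-p) →ₗ[A] M)) ⊓ Z P (-p) M :=
    ⟨hg1, comp_mem_Z P (-p) _ z.2⟩
  rw [hc n hn] at hg2
  exact Submodule.smul_mono le_rfl inf_le_right hg2

end Image

end Groth.Agent.Lib.Helper5.ExtAR
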