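import Mathlib
import Groth.Prelude.Def_DRing2
import Groth.Agent.Lib.Helper1LBC
import Groth.Agent.Lib.Helper5ExtRep
import Groth.Agent.Lib.Helper5ExtAR

/-!
# The pro-system `Ext(K, M / I^n M)` is essentially constant when `Ext(K, -)` is `I`-power torsion
-/

set_option autoImplicit false
universe u
open CategoryTheory CategoryTheory.Limits
attribute [local instance] HasDerivedCategory.standard

namespace Groth.Agent.Lib.Helper5.ExtAR

open DerivedCategory Groth.Agent.Lib.Helper5.ExtRep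

section EssConst

variable {A : Type u} [CommRing A] [IsNoetherianRing A] (I : Ideal A)
  (P : CochainComplex (ModuleCat.{u} A) ℤ) [P.IsKProjective]
  (hfin : ∀ j, Module.Finite A (P.X j)) (hfree : ∀ j, Module.Free A (P.X j))
  {K : DerivedCategory (ModuleCat.{u} A)} (e0 : Q.obj P ≅ K)
  (M : Type u) [AddCommGroup M] [Module A M] [Module.Finite A M]

include hfin hfree e0 in
theorem inj_part (i q : ℤ) (hq : i + (q + 1) = 0)
    (htors : ∀ e : K ⟶ (Dual.inD A M)⟦i⟧, ∃ k : ℕ, ∀ x ∈ I ^ k, x • e = 0) :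
    ∃ m : ℕ, Function.Injective (fun (e : K ⟶ (Dual.inD A M)⟦i⟧) =>
      e ≫ ((DerivedCategory.singleFunctor (ModuleCat.{u} A) 0).map
        (ModuleCat.ofHom (I ^ m • ⊤ : Submodule A M).mkQ))⟦i⟧') := by
  haveI := hfin (q + 1)
  haveI := hfree (q + 1)
  haveI := hfree (q + 1 + 1)
  obtain ⟨t, ht⟩ := exists_pow_kill P (q + 1) e0 i hq I htors
  obtain ⟨c, hc⟩ := Ideal.exists_pow_inf_eq_pow_smul I (Z P (q + 1) M)
  refine ⟨c + t, ?_⟩
  have key : ∀ e : K ⟶ (Dual.inD A M)⟦i⟧,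
      e ≫ ((DerivedCategory.singleFunctor (ModuleCat.{u} A) 0).map
        (ModuleCat.ofHom (I ^ (c + t) • ⊤ : Submodule A M).mkQ))⟦i⟧' = 0 → e = 0 := by
    intro e he
    obtain ⟨z, rfl⟩ := Phi_surjective P (q + 1) e0 i hq (N := M) e
    rw [Phi_nat] at he
    obtain ⟨hbar, hh⟩ := exists_of_Phi_eq_zero P (q + 1) e0 i hq _ he
    obtain ⟨h, hh'⟩ := Module.projective_lifting_property (I ^ (c + t) • ⊤ : Submodule A M).mkQ
      hbar (Submodule.mkQ_surjective _)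
    have hg : z.1 - h ∘ₗ (P.d (q + 1) (q + 1 + 1)).hom ∈ Z P (q + 1) M :=
      Submodule.sub_mem _ z.2 (comp_d_mem_Z P (q + 1) h)
    have hgx : ∀ x, (z.1 - h ∘ₗ (P.d (q + 1) (q + 1 + 1)).hom) x ∈
        (I ^ (c + t) • ⊤ : Submodule A M) := by
      intro x
      rw [← Submodule.Quotient.mk_eq_zero, ← Submodule.mkQ_apply, LinearMap.sub_apply, map_sub,
        sub_eq_zero]
      have h1 := LinearMap.congr_fun hh x
      rw [← hh'] at h1
      exact h1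
    have h1 : z.1 - h ∘ₗ (P.d (q + 1) (q + 1 + 1)).hom ∈
        I ^ (c + t) • (⊤ : Submodule A (P.X (q + 1) →ₗ[A] M)) ⊓ Z P (q + 1) M :=
      ⟨mem_smul_top_of_forall_mem _ _ hgx, hg⟩
    rw [hc (c + t) (by omega)] at h1
    have h2 : z.1 - h ∘ₗ (P.d (q + 1) (q + 1 + 1)).hom ∈ I ^ t • Z P (q + 1) M := by
      have h2' := Submodule.smul_mono (le_refl (I ^ (c + t - c))) inf_le_right h1
      rwa [show c + t - c = t by omega] at h2'
    have h3 := Phi_mem_smul P (q + 1) e0 i hq (I ^ t) ⟨_, hg⟩ h2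
    have h4 : Phi P (q + 1) e0 i hq M ⟨_, hg⟩ = 0 := by
      have hle : I ^ t • (⊤ : Submodule A (K ⟶ (Dual.inD A M)⟦i⟧)) ≤ ⊥ :=
        Submodule.smul_le.2 (fun a ha e' _ => (Submodule.mem_bot _).2 (ht a ha e'))
      exact (Submodule.mem_bot _).1 (hle h3)
    have h5 : (⟨_, hg⟩ : Z P (q + 1) M) =
        z - ⟨h ∘ₗ (P.d (q + 1) (q + 1 + 1)).hom, comp_d_mem_Z P (q + 1) h⟩ := Subtype.ext rfl
    have h7 := Phi_eq_zero_of_coboundary P (q + 1) e0 i hq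
      ⟨h ∘ₗ (P.d (q + 1) (q + 1 + 1)).hom, comp_d_mem_Z P (q + 1) h⟩ h rfl
    rw [h5, map_sub, h7, sub_zero] at h4
    exact h4
  intro e1 e2 h12
  have h12' : e1 ≫ ((DerivedCategory.singleFunctor (ModuleCat.{u} A) 0).map
        (ModuleCat.ofHom (I ^ (c + t) • ⊤ : Submodule A M).mkQ))⟦i⟧' =
      e2 ≫ ((DerivedCategory.singleFunctor (ModuleCat.{u} A) 0).map
        (ModuleCat.ofHom (I ^ (c + t) • ⊤ : Submodule A M).mkQ))⟦i⟧' := h12
  have h0 := key (e1 - e2) (by rw [Preadditive.sub_comp]; exact sub_eq_zero.2 h12')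
  exact sub_eq_zero.1 h0

include hfin hfree e0 in
theorem range_part (i q : ℤ) (hq : i + (q + 1) = 0) (n : ℕ)
    (htors : ∀ e : K ⟶ (Dual.inD A ↥(I ^ n • ⊤ : Submodule A M))⟦i + 1⟧,
      ∃ k : ℕ, ∀ x ∈ I ^ k, x • e = 0) :
    ∃ (m' : ℕ) (hnm : n ≤ m'),
      Set.range (fun (e : K ⟶ (Dual.inD A (M ⧸ (I ^ m' • ⊤ : Submodule A M)))⟦i⟧) =>
        e ≫ ((DerivedCategory.singleFunctor (ModuleCat.{u} A) 0).map (ModuleCat.ofHom
          (Submodule.mapQ (I ^ m' • ⊤ : Submodule A M) (I ^ n • ⊤ : Submodule A M)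
            (LinearMap.id : M →ₗ[A] M)
            (Submodule.smul_mono_left (Ideal.pow_le_pow_right hnm)))))⟦i⟧') ⊆
      Set.range (fun (e : K ⟶ (Dual.inD A M)⟦i⟧) =>
        e ≫ ((DerivedCategory.singleFunctor (ModuleCat.{u} A) 0).map
          (ModuleCat.ofHom (I ^ n • ⊤ : Submodule A M).mkQ))⟦i⟧') := by
  haveI := hfin q
  haveI := hfree q
  haveI := hfree (q + 1)
  have hq1 : (i + 1) + q = 0 := by omega
  obtain ⟨t, ht⟩ := exists_pow_kill P q e0 (i + 1) hq1 I htors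
  obtain ⟨c, hc⟩ := Ideal.exists_pow_inf_eq_pow_smul I (Z P q ↥(I ^ n • ⊤ : Submodule A M))
  refine ⟨(c + t) + n, by omega, ?_⟩
  rintro _ ⟨e', rfl⟩
  obtain ⟨x, rfl⟩ := Phi_surjective P (q + 1) e0 i hq
    (N := M ⧸ (I ^ (c + t + n) • ⊤ : Submodule A M)) e'
  obtain ⟨xt, hxt⟩ := Module.projective_lifting_property
    (I ^ (c + t + n) • ⊤ : Submodule A M).mkQ x.1 (Submodule.mkQ_surjective _)
  have hxd : x.1 ∘ₗ (P.d q (q + 1)).hom = 0 := (mem_Z' P (q + 1) x.1 q rfl).1 x.2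
  have hy0 : ∀ v, (xt ∘ₗ (P.d q (q + 1)).hom) v ∈
      I ^ (c + t) • (I ^ n • ⊤ : Submodule A M) := by
    intro v
    have h1 : (I ^ (c + t + n) • ⊤ : Submodule A M).mkQ (xt ((P.d q (q + 1)).hom v)) = 0 := by
      have h2 := LinearMap.congr_fun hxd v
      rw [← hxt] at h2
      exact h2
    have h2 := (Submodule.Quotient.mk_eq_zero _).1 h1
    rwa [pow_add, Submodule.mul_smul] at h2
  have hle : I ^ (c + t) • (I ^ n • ⊤ : Submodule A M) ≤ I ^ n • ⊤ := Submodule.smul_le_right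
  obtain ⟨y, hy⟩ : ∃ y : P.X q →ₗ[A] ↥(I ^ n • ⊤ : Submodule A M),
      (I ^ n • ⊤ : Submodule A M).subtype ∘ₗ y = xt ∘ₗ (P.d q (q + 1)).hom :=
    ⟨LinearMap.codRestrict _ (xt ∘ₗ (P.d q (q + 1)).hom) (fun v => hle (hy0 v)),
      LinearMap.subtype_comp_codRestrict _ _ _⟩
  have hyZ : y ∈ Z P q ↥(I ^ n • ⊤ : Submodule A M) := by
    rw [mem_Z]
    have h1 : (I ^ n • ⊤ : Submodule A M).subtype ∘ₗ (y ∘ₗ (P.d (q - 1) q).hom) =
        (I ^ n • ⊤ : Submodule A M).subtype ∘ₗ 0 := by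
      rw [← LinearMap.comp_assoc, hy, LinearMap.comp_assoc, ← ModuleCat.hom_comp, P.d_comp_d,
        LinearMap.comp_zero]
      exact LinearMap.comp_zero xt
    exact (LinearMap.cancel_left (Submodule.injective_subtype _)).1 h1
  have hyk : ∀ v, y v ∈ I ^ (c + t) • (⊤ : Submodule A ↥(I ^ n • ⊤ : Submodule A M)) := by
    intro v
    apply mem_smul_top_sub
    have h1 := LinearMap.congr_fun hy v
    rw [LinearMap.comp_apply, Submodule.subtype_apply] at h1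
    rw [h1]
    exact hy0 v
  have h1 : y ∈ I ^ (c + t) • (⊤ : Submodule A (P.X q →ₗ[A] ↥(I ^ n • ⊤ : Submodule A M))) ⊓
      Z P q ↥(I ^ n • ⊤ : Submodule A M) := ⟨mem_smul_top_of_forall_mem _ _ hyk, hyZ⟩
  rw [hc (c + t) (by omega)] at h1
  have h2 : y ∈ I ^ t • Z P q ↥(I ^ n • ⊤ : Submodule A M) := by
    have h2' := Submodule.smul_mono (le_refl (I ^ (c + t - c))) inf_le_right h1
    rwa [show c + t - c = t by omega] at h2'
  have h3 := Phi_mem_smul P q e0 (i + 1) hq1 (I ^ t) ⟨y, hyZ⟩ h2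
  have h4 : Phi P q e0 (i + 1) hq1 ↥(I ^ n • ⊤ : Submodule A M) ⟨y, hyZ⟩ = 0 := by
    have hle' : I ^ t • (⊤ : Submodule A
        (K ⟶ (Dual.inD A ↥(I ^ n • ⊤ : Submodule A M))⟦i + 1⟧)) ≤ ⊥ :=
      Submodule.smul_le.2 (fun a ha e' _ => (Submodule.mem_bot _).2 (ht a ha e'))
    exact (Submodule.mem_bot _).1 (hle' h3)
  obtain ⟨h, hh⟩ := exists_of_Phi_eq_zero P q e0 (i + 1) hq1 ⟨y, hyZ⟩ h4
  have hh' : y = h ∘ₗ (P.d q (q + 1)).hom := hh
  have hx' : xt - (I ^ n • ⊤ : Submodule A M).subtype ∘ₗ h ∈ Z P (q + 1) M := by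
    rw [mem_Z' P (q + 1) _ q rfl, LinearMap.sub_comp, LinearMap.comp_assoc, ← hh', hy, sub_self]
  refine ⟨Phi P (q + 1) e0 i hq M ⟨_, hx'⟩, ?_⟩
  show Phi P (q + 1) e0 i hq M ⟨_, hx'⟩ ≫
      ((DerivedCategory.singleFunctor (ModuleCat.{u} A) 0).map
        (ModuleCat.ofHom (I ^ n • ⊤ : Submodule A M).mkQ))⟦i⟧' =
    Phi P (q + 1) e0 i hq (M ⧸ (I ^ (c + t + n) • ⊤ : Submodule A M)) x ≫
      ((DerivedCategory.singleFunctor (ModuleCat.{u} A) 0).map (ModuleCat.ofHom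
        (Submodule.mapQ (I ^ (c + t + n) • ⊤ : Submodule A M) (I ^ n • ⊤ : Submodule A M)
          (LinearMap.id : M →ₗ[A] M)
          (Submodule.smul_mono_left (Ideal.pow_le_pow_right (by omega))))))⟦i⟧'
  rw [Phi_nat, Phi_nat]
  congr 1
  apply Subtype.ext
  show (I ^ n • ⊤ : Submodule A M).mkQ ∘ₗ (xt - (I ^ n • ⊤ : Submodule A M).subtype ∘ₗ h) =
    Submodule.mapQ (I ^ (c + t + n) • ⊤ : Submodule A M) (I ^ n • ⊤ : Submodule A M)
      (LinearMap.id : M →ₗ[A] M) _ ∘ₗ x.1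
  have h6 : (I ^ n • ⊤ : Submodule A M).mkQ ∘ₗ ((I ^ n • ⊤ : Submodule A M).subtype ∘ₗ h) = 0 := by
    apply LinearMap.ext
    intro v
    exact (Submodule.Quotient.mk_eq_zero _).2 (h v).2
  rw [← hxt, ← LinearMap.comp_assoc, Submodule.mapQ_mkQ, LinearMap.comp_sub, h6, sub_zero,
    LinearMap.comp_id]

end EssConst

section Final

theorem ess_const (A : Type u) [CommRing A] [IsNoetherianRing A]
    (I : Ideal A) (K : Dual.D A) (hK : DRing.IsPseudoCoherent' A K) (a : ℤ)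
    (htors : ∀ (M : Type u) [AddCommGroup M] [Module A M], Module.Finite A M → ∀ i : ℤ, a ≤ i →
      ∀ e : K ⟶ (Dual.inD A M)⟦i⟧, ∃ n : ℕ, ∀ x ∈ I ^ n, x • e = 0)
    (M : Type u) [AddCommGroup M] [Module A M] [Module.Finite A M] (i : ℤ) (hi : a ≤ i) :
    (∃ m : ℕ, Function.Injective (fun (e : K ⟶ (Dual.inD A M)⟦i⟧) =>
      e ≫ ((DerivedCategory.singleFunctor (ModuleCat.{u} A) 0).map
        (ModuleCat.ofHom (I ^ m • ⊤ : Submodule A M).mkQ))⟦i⟧')) ∧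
      ∀ n : ℕ, ∃ (m' : ℕ) (hnm : n ≤ m'),
        Set.range (fun (e : K ⟶ (Dual.inD A (M ⧸ (I ^ m' • ⊤ : Submodule A M)))⟦i⟧) =>
          e ≫ ((DerivedCategory.singleFunctor (ModuleCat.{u} A) 0).map (ModuleCat.ofHom
            (Submodule.mapQ (I ^ m' • ⊤ : Submodule A M) (I ^ n • ⊤ : Submodule A M)
              (LinearMap.id : M →ₗ[A] M)
              (Submodule.smul_mono_left (Ideal.pow_le_pow_right hnm)))))⟦i⟧') ⊆
        Set.range (fun (e : K ⟶ (Dual.inD A M)⟦i⟧) =>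
          e ≫ ((DerivedCategory.singleFunctor (ModuleCat.{u} A) 0).map
            (ModuleCat.ofHom (I ^ n • ⊤ : Submodule A M).mkQ))⟦i⟧') := by
  obtain ⟨P, b, hb, hff, ⟨e0⟩⟩ := hK
  haveI : P.IsKProjective :=
    Groth.Agent.Lib.Helper1.LDer.isKProjective_of_vanishesAbove P b hb (fun j => by
      haveI := (hff j).2
      infer_instance)
  refine ⟨inj_part I P (fun j => (hff j).1) (fun j => (hff j).2) e0 M i (-i - 1) (by omega)
    (htors M inferInstance i hi), fun n => ?_⟩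
  exact range_part I P (fun j => (hff j).1) (fun j => (hff j).2) e0 M i (-i - 1) (by omega) n
    (htors ↥(I ^ n • ⊤ : Submodule A M) inferInstance (i + 1) (by omega))

end Final

end Groth.Agent.Lib.Helper5.ExtAR
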