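import Mathlib
import Groth.Prelude.Def_Wider

/-!
# Ext and Artin–Rees: restriction to `IⁿM` factors through `I^(n-c) N` (helper5)
-/

set_option autoImplicit false
universe u
open CategoryTheory CategoryTheory.Limits
attribute [local instance] HasDerivedCategory.standard

namespace Groth.Agent.Lib.Helper5.ExtAR3

open DerivedCategory Pretriangulated

variable {A : Type u} [CommRing A]

lemma hom_eq_zero_of_projective (P Y : ModuleCat.{u} A) [Projective P] (n : ℕ)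
    (e : (singleFunctor (ModuleCat.{u} A) 0).obj P ⟶
      ((singleFunctor (ModuleCat.{u} A) 0).obj Y)⟦((n + 1 : ℕ) : ℤ)⟧) : e = 0 := by
  let x : Abelian.Ext.{u} (C := ModuleCat.{u} A) P Y (n + 1) := Abelian.Ext.homEquiv.symm e
  have h : x = 0 := Abelian.Ext.eq_zero_of_projective x
  have h2 : Abelian.Ext.homEquiv x = e := Equiv.apply_symm_apply _ _
  rw [← h2, h]
  exact Abelian.Ext.zero_hom (C := ModuleCat.{u} A) (X := P) (Y := Y) (n := n + 1)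

/-- abstract diagram chase -/
lemma abstract_step {C : Type*} [Category C] [Preadditive C] [HasShift C ℤ]
    {X3n X3 K1n K1 Km Y Yk : C} (δn : X3n ⟶ K1n⟦(1 : ℤ)⟧) (δ : X3 ⟶ K1⟦(1 : ℤ)⟧)
    (t1 : K1n ⟶ K1) (t3 : X3n ⟶ X3) (hnat : δn ≫ t1⟦(1 : ℤ)⟧' = t3 ≫ δ)
    (ιN : Yk ⟶ Y) (p q : ℤ)
    (a : shiftFunctor C q ≅ shiftFunctor C p ⋙ shiftFunctor C (1 : ℤ))
    (g : K1⟦(1 : ℤ)⟧ ⟶ Y⟦q⟧)
    (ε : K1 ⟶ Y⟦p⟧) (hε : ε⟦(1 : ℤ)⟧' = g ≫ a.hom.app Y)
    (jj : K1n ⟶ Km) (ιK : Km ⟶ K1) (hj : jj ≫ ιK = t1) (ε' : Km ⟶ Yk⟦p⟧)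
    (hε' : ε' ≫ ιN⟦p⟧' = ιK ≫ ε) :
    (δn ≫ (jj ≫ ε')⟦(1 : ℤ)⟧' ≫ a.inv.app Yk) ≫ ιN⟦q⟧' = t3 ≫ δ ≫ g := by
  have h1 : a.inv.app Yk ≫ ιN⟦q⟧' = (ιN⟦p⟧')⟦(1 : ℤ)⟧' ≫ a.inv.app Y :=
    (a.inv.naturality ιN).symm
  have h4 : ε⟦(1 : ℤ)⟧' ≫ a.inv.app Y = g := by
    rw [hε, Category.assoc, Iso.hom_inv_id_app, Category.comp_id]
  have h2 : (jj ≫ ε')⟦(1 : ℤ)⟧' ≫ (ιN⟦p⟧')⟦(1 : ℤ)⟧' = t1⟦(1 : ℤ)⟧' ≫ ε⟦(1 : ℤ)⟧' := by
    rw [← Functor.map_comp, ← Functor.map_comp, Category.assoc, hε', ← Category.assoc, hj]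
  calc (δn ≫ (jj ≫ ε')⟦(1 : ℤ)⟧' ≫ a.inv.app Yk) ≫ ιN⟦q⟧'
      = δn ≫ (jj ≫ ε')⟦(1 : ℤ)⟧' ≫ (a.inv.app Yk ≫ ιN⟦q⟧') := by
        simp only [Category.assoc]
    _ = δn ≫ ((jj ≫ ε')⟦(1 : ℤ)⟧' ≫ (ιN⟦p⟧')⟦(1 : ℤ)⟧') ≫ a.inv.app Y := by
        rw [h1]; simp only [Category.assoc]
    _ = (δn ≫ t1⟦(1 : ℤ)⟧') ≫ (ε⟦(1 : ℤ)⟧' ≫ a.inv.app Y) := by
        rw [h2]; simp only [Category.assoc]
    _ = t3 ≫ δ ≫ g := by
        rw [hnat, h4, Category.assoc]

/-- the factorization property -/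
def Fac (I : Ideal A) (N : Type u) [AddCommGroup N] [Module A N] (p : ℕ) (M : Type u)
    [AddCommGroup M] [Module A M] (k n : ℕ) : Prop :=
  ∀ e : Dual.inD A M ⟶ (Dual.inD A N)⟦(p : ℤ)⟧,
    ∃ e' : Dual.inD A ↥(I ^ n • ⊤ : Submodule A M) ⟶
        (Dual.inD A ↥(I ^ k • ⊤ : Submodule A N))⟦(p : ℤ)⟧,
      e' ≫ ((singleFunctor (ModuleCat.{u} A) 0).map
          (ModuleCat.ofHom (I ^ k • ⊤ : Submodule A N).subtype))⟦(p : ℤ)⟧' =
        (singleFunctor (ModuleCat.{u} A) 0).map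
          (ModuleCat.ofHom (I ^ n • ⊤ : Submodule A M).subtype) ≫ e

lemma map_pow_smul_top_le {M M' : Type u} [AddCommGroup M] [Module A M] [AddCommGroup M']
    [Module A M'] (I : Ideal A) (k : ℕ) (f : M →ₗ[A] M') :
    ∀ x ∈ (I ^ k • ⊤ : Submodule A M), f x ∈ (I ^ k • ⊤ : Submodule A M') := by
  intro x hx
  have : Submodule.map f (I ^ k • ⊤) ≤ I ^ k • ⊤ := by
    rw [Submodule.map_smul'']
    exact Submodule.smul_mono le_rfl le_top
  exact this ⟨x, hx, rfl⟩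

lemma fac_zero (I : Ideal A) (N : Type u) [AddCommGroup N] [Module A N] (M : Type u)
    [AddCommGroup M] [Module A M] (k : ℕ) : Fac I N 0 M k k := by
  intro e
  let z := shiftFunctorZero' (DerivedCategory (ModuleCat.{u} A)) ((0 : ℕ) : ℤ) Nat.cast_zero
  obtain ⟨e₀, he₀⟩ : ∃ e₀ : Dual.inD A M ⟶ Dual.inD A N, e₀ = e ≫ z.hom.app (Dual.inD A N) :=
    ⟨_, rfl⟩
  obtain ⟨φ, hφ⟩ : ∃ φ : ModuleCat.of A M ⟶ ModuleCat.of A N,
      (singleFunctor (ModuleCat.{u} A) 0).map φ = e₀ :=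
    ⟨(singleFunctor (ModuleCat.{u} A) 0).preimage e₀, Functor.map_preimage _ _⟩
  let φ' : ModuleCat.of A ↥(I ^ k • ⊤ : Submodule A M) ⟶
      ModuleCat.of A ↥(I ^ k • ⊤ : Submodule A N) :=
    ModuleCat.ofHom (φ.hom.restrict (map_pow_smul_top_le I k φ.hom))
  have hcomm : φ' ≫ ModuleCat.ofHom (I ^ k • ⊤ : Submodule A N).subtype =
      ModuleCat.ofHom (I ^ k • ⊤ : Submodule A M).subtype ≫ φ :=
    ModuleCat.hom_ext (LinearMap.ext fun x => rfl)
  refine ⟨(singleFunctor (ModuleCat.{u} A) 0).map φ' ≫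
    z.inv.app (Dual.inD A ↥(I ^ k • ⊤ : Submodule A N)), ?_⟩
  have hn : z.inv.app (Dual.inD A ↥(I ^ k • ⊤ : Submodule A N)) ≫
      ((singleFunctor (ModuleCat.{u} A) 0).map
        (ModuleCat.ofHom (I ^ k • ⊤ : Submodule A N).subtype))⟦((0 : ℕ) : ℤ)⟧' =
      (singleFunctor (ModuleCat.{u} A) 0).map
        (ModuleCat.ofHom (I ^ k • ⊤ : Submodule A N).subtype) ≫ z.inv.app (Dual.inD A N) :=
    (z.inv.naturality _).symm
  calc ((singleFunctor (ModuleCat.{u} A) 0).map φ' ≫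
        z.inv.app (Dual.inD A ↥(I ^ k • ⊤ : Submodule A N))) ≫
        ((singleFunctor (ModuleCat.{u} A) 0).map
          (ModuleCat.ofHom (I ^ k • ⊤ : Submodule A N).subtype))⟦((0 : ℕ) : ℤ)⟧'
      = (singleFunctor (ModuleCat.{u} A) 0).map φ' ≫
        (z.inv.app (Dual.inD A ↥(I ^ k • ⊤ : Submodule A N)) ≫
        ((singleFunctor (ModuleCat.{u} A) 0).map
          (ModuleCat.ofHom (I ^ k • ⊤ : Submodule A N).subtype))⟦((0 : ℕ) : ℤ)⟧') :=
        Category.assoc _ _ _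
    _ = (singleFunctor (ModuleCat.{u} A) 0).map φ' ≫
        ((singleFunctor (ModuleCat.{u} A) 0).map
          (ModuleCat.ofHom (I ^ k • ⊤ : Submodule A N).subtype) ≫
          z.inv.app (Dual.inD A N)) := by rw [hn]
    _ = ((singleFunctor (ModuleCat.{u} A) 0).map φ' ≫
        (singleFunctor (ModuleCat.{u} A) 0).map
          (ModuleCat.ofHom (I ^ k • ⊤ : Submodule A N).subtype)) ≫
          z.inv.app (Dual.inD A N) := (Category.assoc _ _ _).symm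
    _ = ((singleFunctor (ModuleCat.{u} A) 0).map
          (ModuleCat.ofHom (I ^ k • ⊤ : Submodule A M).subtype) ≫ e₀) ≫
          z.inv.app (Dual.inD A N) := by
        rw [← Functor.map_comp, hcomm, Functor.map_comp, hφ]
    _ = (singleFunctor (ModuleCat.{u} A) 0).map
          (ModuleCat.ofHom (I ^ k • ⊤ : Submodule A M).subtype) ≫ e := by
        rw [he₀, Category.assoc, Category.assoc, Iso.hom_inv_id_app, Category.comp_id]

lemma core (I : Ideal A) (N : Type u) [AddCommGroup N] [Module A N] (p : ℕ)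
    {F M : Type u} [AddCommGroup F] [Module A F] [Module.Projective A F] [AddCommGroup M]
    [Module A M] (π : F →ₗ[A] M) (hπ : Function.Surjective π) (n m k : ℕ)
    (hmem : ∀ x : F, x ∈ (I ^ n • ⊤ : Submodule A F) → π x = 0 →
      ∃ y : LinearMap.ker π, y ∈ (I ^ m • ⊤ : Submodule A (LinearMap.ker π)) ∧ (y : F) = x)
    (hK : Fac I N p (LinearMap.ker π) k m) : Fac I N (p + 1) M k n := by
  intro e
  let πn : ↥(I ^ n • ⊤ : Submodule A F) →ₗ[A] ↥(I ^ n • ⊤ : Submodule A M) :=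
    π.restrict (map_pow_smul_top_le I n π)
  have hπn_surj : Function.Surjective πn := by
    rintro ⟨y, hy⟩
    have : (I ^ n • ⊤ : Submodule A M) ≤ Submodule.map π (I ^ n • ⊤) := by
      rw [Submodule.map_smul'', Submodule.map_top, LinearMap.range_eq_top.mpr hπ]
    obtain ⟨x, hx, hxy⟩ := this hy
    exact ⟨⟨x, hx⟩, Subtype.ext hxy⟩
  have hS : π.shortComplexKer.ShortExact := LinearMap.shortExact_shortComplexKer hπ
  have hSn : πn.shortComplexKer.ShortExact := LinearMap.shortExact_shortComplexKer hπn_surj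
  let τ₁ : LinearMap.ker πn →ₗ[A] LinearMap.ker π :=
    { toFun := fun x => ⟨x.1.1, by
        have h0 := x.2
        rw [LinearMap.mem_ker] at h0 ⊢
        exact congrArg Subtype.val h0⟩
      map_add' := fun x y => rfl
      map_smul' := fun r x => rfl }
  let φ : πn.shortComplexKer ⟶ π.shortComplexKer :=
    { τ₁ := ModuleCat.ofHom τ₁
      τ₂ := ModuleCat.ofHom (I ^ n • ⊤ : Submodule A F).subtype
      τ₃ := ModuleCat.ofHom (I ^ n • ⊤ : Submodule A M).subtype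
      comm₁₂ := ModuleCat.hom_ext (LinearMap.ext fun x => rfl)
      comm₂₃ := ModuleCat.hom_ext (LinearMap.ext fun x => rfl) }
  have hnat := (ShortComplex.ShortExact.singleTriangle.map hSn hS φ).comm₃
  have hzero : (singleFunctor (ModuleCat.{u} A) 0).map π.shortComplexKer.g ≫ e = 0 :=
    hom_eq_zero_of_projective (ModuleCat.of A F) (ModuleCat.of A N) p _
  obtain ⟨g0, hg0⟩ := Triangle.yoneda_exact₂ _
    (rot_of_distTriang _ hS.singleTriangle_distinguished) e hzero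
  obtain ⟨g, rfl⟩ : ∃ g : ((singleFunctor (ModuleCat.{u} A) 0).obj
      (ModuleCat.of A (LinearMap.ker π)))⟦(1 : ℤ)⟧ ⟶ (Dual.inD A N)⟦((p + 1 : ℕ) : ℤ)⟧, g = g0 :=
    ⟨g0, rfl⟩
  have hg : e = hS.singleδ ≫ g := hg0
  let a := shiftFunctorAdd' (DerivedCategory (ModuleCat.{u} A)) (p : ℤ) 1 ((p + 1 : ℕ) : ℤ)
    (by push_cast; ring)
  obtain ⟨ε, hε⟩ := (shiftFunctor (DerivedCategory (ModuleCat.{u} A)) (1 : ℤ)).map_surjective
    (g ≫ a.hom.app _)
  obtain ⟨ε', hε'⟩ := hK ε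
  let j : LinearMap.ker πn →ₗ[A] ↥(I ^ m • ⊤ : Submodule A (LinearMap.ker π)) :=
    { toFun := fun x => ⟨τ₁ x, by
        obtain ⟨y, hy, hyx⟩ := hmem x.1.1 x.1.2 (LinearMap.mem_ker.mp (τ₁ x).2)
        have : y = τ₁ x := Subtype.ext hyx
        rw [← this]
        exact hy⟩
      map_add' := fun x y => rfl
      map_smul' := fun r x => rfl }
  refine ⟨hSn.singleδ ≫ ((singleFunctor (ModuleCat.{u} A) 0).map (ModuleCat.ofHom j) ≫
    ε')⟦(1 : ℤ)⟧' ≫ a.inv.app _, ?_⟩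
  rw [hg]
  exact abstract_step hSn.singleδ hS.singleδ
    ((singleFunctor (ModuleCat.{u} A) 0).map (ModuleCat.ofHom τ₁))
    ((singleFunctor (ModuleCat.{u} A) 0).map
      (ModuleCat.ofHom (I ^ n • ⊤ : Submodule A M).subtype)) hnat
    ((singleFunctor (ModuleCat.{u} A) 0).map
      (ModuleCat.ofHom (I ^ k • ⊤ : Submodule A N).subtype)) (p : ℤ) ((p + 1 : ℕ) : ℤ) a g ε hε
    ((singleFunctor (ModuleCat.{u} A) 0).map (ModuleCat.ofHom j))
    ((singleFunctor (ModuleCat.{u} A) 0).map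
      (ModuleCat.ofHom (I ^ m • ⊤ : Submodule A (LinearMap.ker π)).subtype))
    (by rw [← Functor.map_comp]; rfl) ε' hε'

theorem main [IsNoetherianRing A] (I : Ideal A) (N : Type u) [AddCommGroup N] [Module A N]
    (p : ℕ) :
    ∀ (M : Type u) [AddCommGroup M] [Module A M] [Module.Finite A M],
      ∃ c : ℕ, ∀ k n : ℕ, n = k + c → Fac I N p M k n := by
  induction p with
  | zero =>
    intro M _ _ _
    refine ⟨0, fun k n hn => ?_⟩
    have hn' : n = k := by omega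
    rw [hn']
    exact fac_zero I N M k
  | succ p IH =>
    intro M _ _ _
    obtain ⟨t, π, hπ⟩ := Module.Finite.exists_fin' A M
    obtain ⟨c, hc⟩ := Ideal.exists_pow_inf_eq_pow_smul I (LinearMap.ker π)
    obtain ⟨c', hK⟩ := IH ↥(LinearMap.ker π)
    refine ⟨c' + c, fun k n hn => ?_⟩
    refine core I N p π hπ n (k + c') k ?_ (hK k (k + c') rfl)
    intro x hx hx0
    have hxm : x ∈ (I ^ n • ⊤ ⊓ LinearMap.ker π : Submodule A (Fin t → A)) := ⟨hx, hx0⟩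
    rw [hc n (by omega)] at hxm
    have hle : I ^ (n - c) • (I ^ c • ⊤ ⊓ LinearMap.ker π) ≤
        Submodule.map (LinearMap.ker π).subtype (I ^ (k + c') • ⊤) := by
      rw [Submodule.map_smul'', Submodule.map_subtype_top]
      have : n - c = k + c' := by omega
      rw [this]
      exact Submodule.smul_mono le_rfl inf_le_right
    obtain ⟨y, hy, hyx⟩ := hle hxm
    exact ⟨y, hy, hyx⟩

end Groth.Agent.Lib.Helper5.ExtAR3
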