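import Mathlib
import Groth.Prelude.Def_FSRel

/-!
# Relative formal smoothness (square-zero form) and left invertibility of `C ⊗_B Ω_{B/A} → Ω_{C/A}`
-/

set_option autoImplicit false
universe u

namespace Groth.Agent.Lib.Helper5

open TensorProduct

section

variable (A B C : Type u) [CommRing A] [CommRing B] [CommRing C] [Algebra A B] [Algebra B C]
  [Algebra A C] [IsScalarTower A B C]

/-- A copy of `C ⊗_B Ω_{B/A}` carrying only the `C`- and `A`-module structures. -/
def TwM : Type u := C ⊗[B] Ω[B⁄A]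

noncomputable instance : AddCommGroup (TwM A B C) := inferInstanceAs (AddCommGroup (C ⊗[B] Ω[B⁄A]))
noncomputable instance : Module C (TwM A B C) := inferInstanceAs (Module C (C ⊗[B] Ω[B⁄A]))
noncomputable instance : Module A (TwM A B C) := inferInstanceAs (Module A (C ⊗[B] Ω[B⁄A]))
instance : IsScalarTower A C (TwM A B C) := inferInstanceAs (IsScalarTower A C (C ⊗[B] Ω[B⁄A]))
noncomputable instance : Module Cᵐᵒᵖ (TwM A B C) :=
  Module.compHom _ (RingHom.fromOpposite (RingHom.id C) (fun _ _ => mul_comm _ _))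
instance : IsCentralScalar C (TwM A B C) := ⟨fun _ _ => rfl⟩

/-- The identification. -/
noncomputable def toTwM : (C ⊗[B] Ω[B⁄A]) ≃ₗ[C] TwM A B C := LinearEquiv.refl _ _

/-- `b ↦ 1 ⊗ db`. -/
noncomputable def twD (b : B) : TwM A B C := toTwM A B C ((1 : C) ⊗ₜ[B] KaehlerDifferential.D A B b)

lemma twD_add (b b' : B) : twD A B C (b + b') = twD A B C b + twD A B C b' := by
  simp [twD, TensorProduct.tmul_add]

lemma twD_mul (b b' : B) : twD A B C (b * b') =
    algebraMap B C b • twD A B C b' + algebraMap B C b' • twD A B C b := by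
  simp only [twD, Derivation.leibniz, TensorProduct.tmul_add, map_add, ← map_smul]
  congr 2
  · rw [TensorProduct.tmul_smul, TensorProduct.smul_tmul', TensorProduct.smul_tmul', Algebra.smul_def,
      mul_one, smul_eq_mul, mul_one]
  · rw [TensorProduct.tmul_smul, TensorProduct.smul_tmul', TensorProduct.smul_tmul', Algebra.smul_def,
      mul_one, smul_eq_mul, mul_one]

lemma twD_algebraMap (a : A) : twD A B C (algebraMap A B a) = 0 := by
  simp [twD]

lemma twD_one : twD A B C 1 = 0 := by
  simp [twD]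

lemma twD_zero : twD A B C 0 = 0 := by
  simp [twD]

/-- The twisted structure map `b ↦ (b, 1 ⊗ db)`. -/
noncomputable def twAlgebraMap : B →+* TrivSqZeroExt C (TwM A B C) where
  toFun b := TrivSqZeroExt.inl (algebraMap B C b) + TrivSqZeroExt.inr (twD A B C b)
  map_one' := by
    rw [twD_one, TrivSqZeroExt.inr_zero, add_zero, map_one, TrivSqZeroExt.inl_one]
  map_mul' b b' := by
    ext
    · simp
    · simp [twD_mul]
  map_zero' := by
    rw [twD_zero, TrivSqZeroExt.inr_zero, add_zero, map_zero, TrivSqZeroExt.inl_zero]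
  map_add' b b' := by
    ext
    · simp
    · simp [twD_add]

noncomputable instance twAlgebra : Algebra B (TrivSqZeroExt C (TwM A B C)) :=
  (twAlgebraMap A B C).toAlgebra

lemma algebraMap_tw (b : B) : algebraMap B (TrivSqZeroExt C (TwM A B C)) b =
    TrivSqZeroExt.inl (algebraMap B C b) + TrivSqZeroExt.inr (twD A B C b) := rfl

instance : IsScalarTower A B (TrivSqZeroExt C (TwM A B C)) :=
  IsScalarTower.of_algebraMap_eq (fun a => by
    rw [algebraMap_tw, twD_algebraMap, TrivSqZeroExt.inr_zero, add_zero,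
      TrivSqZeroExt.algebraMap_eq_inl', ← IsScalarTower.algebraMap_apply])

variable {A B C}

/-- Relative formal smoothness gives an extension of the universal derivation of `B` to `C`. -/
theorem exists_linearMap_of_isFormallySmoothRel (h : EGA41.IsFormallySmoothRel A B C) :
    ∃ l : Ω[C⁄A] →ₗ[C] C ⊗[B] Ω[B⁄A], ∀ b : B,
      l (KaehlerDifferential.D A C (algebraMap B C b)) = 1 ⊗ₜ KaehlerDifferential.D A B b := by
  classical
  let J : Ideal (TrivSqZeroExt C (TwM A B C)) := TrivSqZeroExt.kerIdeal C (TwM A B C)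
  have hJ : J ^ 2 = ⊥ := TrivSqZeroExt.kerIdeal_sq C (TwM A B C)
  have hmemJ : ∀ x : TrivSqZeroExt C (TwM A B C), x ∈ J ↔ x.fst = 0 := by
    intro x
    simp only [J, TrivSqZeroExt.kerIdeal, RingHom.mem_ker]
    rfl
  let u₀ : C →ₐ[B] TrivSqZeroExt C (TwM A B C) ⧸ J :=
    { toRingHom := (Ideal.Quotient.mk J).comp (TrivSqZeroExt.inlHom C (TwM A B C))
      commutes' := fun b => by
        change Ideal.Quotient.mk J (TrivSqZeroExt.inl (algebraMap B C b)) =
          Ideal.Quotient.mk J (algebraMap B (TrivSqZeroExt C (TwM A B C)) b)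
        rw [Ideal.Quotient.eq, hmemJ, algebraMap_tw]
        simp }
  let w : C →ₐ[A] TrivSqZeroExt C (TwM A B C) := TrivSqZeroExt.inlAlgHom A C (TwM A B C)
  have hw : (Ideal.Quotient.mkₐ A J).comp w = u₀.restrictScalars A := by
    ext c
    rfl
  obtain ⟨v, hv⟩ := h (TrivSqZeroExt C (TwM A B C)) J hJ u₀ ⟨w, hw⟩
  have hfst : ∀ c : C, (v c).fst = c := by
    intro c
    have h1 : Ideal.Quotient.mk J (v c) = Ideal.Quotient.mk J (TrivSqZeroExt.inl c) :=
      AlgHom.congr_fun hv c
    rw [Ideal.Quotient.eq, hmemJ] at h1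
    simpa [sub_eq_zero] using h1
  let D : Derivation A C (TwM A B C) :=
    { toFun := fun c => (v c).snd
      map_add' := fun c c' => by simp
      map_smul' := fun a c => by
        have : v (a • c) = a • v c := by
          rw [← algebraMap_smul B a c, map_smul, algebraMap_smul]
        simp [this]
      map_one_eq_zero' := by simp
      leibniz' := fun c c' => by simp [hfst] }
  refine ⟨(toTwM A B C).symm.toLinearMap ∘ₗ D.liftKaehlerDifferential, fun b => ?_⟩
  have hD : D (algebraMap B C b) = twD A B C b := by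
    change (v (algebraMap B C b)).snd = _
    rw [v.commutes, algebraMap_tw]
    simp
  simp only [LinearMap.comp_apply, Derivation.liftKaehlerDifferential_comp_D, hD, twD]
  simp

/-- A left inverse of `C ⊗_B Ω_{B/A} → Ω_{C/A}` gives relative formal smoothness. -/
theorem isFormallySmoothRel_of_leftInverse (l : Ω[C⁄A] →ₗ[C] C ⊗[B] Ω[B⁄A])
    (hl : l ∘ₗ KaehlerDifferential.mapBaseChange A B C = LinearMap.id) :
    EGA41.IsFormallySmoothRel A B C := by
  intro C' _ _ _ _ J hJ u₀ ⟨u, hu⟩
  -- `C'` as a `C`-algebra through `u`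
  let _ : Algebra C C' := u.toRingHom.toAlgebra
  have halg : ∀ c : C, algebraMap C C' c = u c := fun _ => rfl
  have hCA : IsScalarTower A C C' := IsScalarTower.of_algebraMap_eq (fun a => (u.commutes a).symm)
  have hmk : ∀ c : C, Ideal.Quotient.mk J (u c) = u₀ c := fun c => AlgHom.congr_fun hu c
  have hmem : ∀ b : B, u (algebraMap B C b) - algebraMap B C' b ∈ J := by
    intro b
    rw [← Ideal.Quotient.eq, hmk, u₀.commutes]
    rfl
  have hJJ : ∀ x ∈ J, ∀ y ∈ J, x * y = 0 := by
    intro x hx y hy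
    have : x * y ∈ J ^ 2 := by
      rw [pow_two]; exact Ideal.mul_mem_mul hx hy
    rwa [hJ, Ideal.mem_bot] at this
  have hBCJ : IsScalarTower B C J := ⟨fun b c j => by
    apply Subtype.ext
    simp only [Submodule.coe_smul_of_tower, Algebra.smul_def, halg, map_mul]
    have h0 := hJJ _ (hmem b) _ (J.mul_mem_left (u c) j.2)
    rw [sub_mul, sub_eq_zero] at h0
    rw [mul_assoc]
    exact h0⟩
  let f : B →ₐ[A] C' := u.comp (IsScalarTower.toAlgHom A B C)
  have e : (Ideal.Quotient.mkₐ A J).comp f = IsScalarTower.toAlgHom A B (C' ⧸ J) := by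
    ext b
    change Ideal.Quotient.mk J (u (algebraMap B C b)) = algebraMap B (C' ⧸ J) b
    rw [hmk, u₀.commutes]
  let δ : Derivation A B J := derivationToSquareZeroOfLift J hJ f e
  have hδ : ∀ b : B, ((δ b : J) : C') = u (algebraMap B C b) - algebraMap B C' b := fun _ => rfl
  let φ : C ⊗[B] Ω[B⁄A] →ₗ[C] J := LinearMap.liftBaseChange C δ.liftKaehlerDifferential
  let D : Derivation A C J := (φ ∘ₗ l).compDer (KaehlerDifferential.D A C)
  have hD : ∀ b : B, D (algebraMap B C b) = δ b := by
    intro b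
    have h1 : KaehlerDifferential.D A C (algebraMap B C b) =
        KaehlerDifferential.mapBaseChange A B C (1 ⊗ₜ KaehlerDifferential.D A B b) := by
      rw [KaehlerDifferential.mapBaseChange_tmul, one_smul, KaehlerDifferential.map_D]
    change φ (l (KaehlerDifferential.D A C (algebraMap B C b))) = δ b
    rw [h1]
    have h2 : l (KaehlerDifferential.mapBaseChange A B C (1 ⊗ₜ KaehlerDifferential.D A B b)) =
        1 ⊗ₜ KaehlerDifferential.D A B b := LinearMap.congr_fun hl _
    rw [h2]
    simp [φ]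
  let v₀ : C →ₐ[A] C' := liftOfDerivationToSquareZero J hJ (-D)
  have hv₀ : ∀ c : C, v₀ c = -((D c : J) : C') + u c := fun _ => rfl
  refine ⟨{ v₀.toRingHom with commutes' := fun b => ?_ }, ?_⟩
  · change v₀ (algebraMap B C b) = algebraMap B C' b
    rw [hv₀, hD, hδ]
    ring
  · ext c
    change Ideal.Quotient.mk J (v₀ c) = u₀ c
    rw [hv₀, map_add, map_neg, Ideal.Quotient.eq_zero_iff_mem.mpr (D c).2, neg_zero, zero_add, hmk]

end

end Groth.Agent.Lib.Helper5
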