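import Mathlib
import Groth.Prelude.Def_RegImm
import Groth.Agent.Lib.Helper5ImmBC
import Groth.Agent.Lib.Helper5SliceListSch
import Groth.Agent.Lib.Helper5SliceListGeo
import Groth.Agent.Lib.Helper5FiberStalk
import Groth.Agent.Lib.Helper5CMAffSp
import Groth.Agent.S5803

/-!
# A relative quasi-regular immersion into a flat, locally finitely presented scheme is regular
(helper5)

Ring part: a quasi-regular sequence with `A`-flat quotient in an `A`-algebra `C` is quasi-regular in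
every `C ⧸ 𝔭C`, hence weakly regular in the (Noetherian) local rings of the fibres.
Scheme part: the slicing theorem then makes the sequence (reversed) regular on a neighbourhood.
-/

set_option autoImplicit false
set_option linter.style.haveILetI false
universe u

open AlgebraicGeometry CategoryTheory CategoryTheory.Limits TopologicalSpace Opposite
open RingTheory.Sequence IsLocalRing

namespace Groth.Agent.Lib.Helper5.QuasiRegImm

open Groth.Agent.Lib.Helper5.QuasiRegFlat Groth.Agent.Lib.Helper5.QuasiRegBC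
  Groth.Agent.Lib.Helper5.ImmBC Groth.Agent.Lib.Helper5.Slice Groth.Agent.Lib.Helper5.SliceList
  Groth.Agent.Lib.Helper5.RegSeq Groth.Agent.Lib.Helper5.RegImm
  Groth.Agent.Lib.Helper5.SliceListGeo Groth.Agent.Lib.Helper5.FiberStalk

section Ring

theorem mk_mem_jacobson {L : Type*} [CommRing L] [IsLocalRing L] (J : Ideal L) (b : L)
    (hb : b ∈ maximalIdeal L) : Ideal.Quotient.mk J b ∈ Ring.jacobson (L ⧸ J) := by
  rw [← Ideal.jacobson_bot, Ideal.mem_jacobson_bot]
  intro y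
  obtain ⟨c, rfl⟩ := Ideal.Quotient.mk_surjective y
  rw [← map_mul, ← map_one (Ideal.Quotient.mk J), ← map_add]
  apply IsUnit.map
  by_contra hnu
  have h1 : b * c ∈ maximalIdeal L := Ideal.mul_mem_right _ _ hb
  have h2 : b * c + 1 ∈ maximalIdeal L := (mem_maximalIdeal _).mpr hnu
  have h3 : (1 : L) ∈ maximalIdeal L := by
    have := Ideal.sub_mem _ h2 h1
    rwa [add_sub_cancel_left] at this
  exact (Ideal.ne_top_iff_one _).mp (maximalIdeal.isMaximal L).ne_top h3

theorem isQuasiRegular_mk_map {A B : Type u} [CommRing A] [CommRing B] [Algebra A B] {r : ℕ}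
    (f : Fin r → B) (hflat : Module.Flat A (B ⧸ Ideal.span (Set.range f)))
    (hq : CAlgX.IsQuasiRegular f) (I : Ideal A) :
    CAlgX.IsQuasiRegular (fun i => Ideal.Quotient.mk (I.map (algebraMap A B)) (f i)) := by
  have h1 := isQuasiRegular_baseChange (A := A) (B := B) (A' := A ⧸ I) f hflat hq
  have h2 := isQuasiRegular_map_ringEquiv
    (Algebra.TensorProduct.quotIdealMapEquivQuotTensor B I).symm.toRingEquiv _ h1
  have h3 : (fun i => (Algebra.TensorProduct.quotIdealMapEquivQuotTensor B I).symm.toRingEquiv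
      ((1 : A ⧸ I) ⊗ₜ[A] f i)) = fun i => Ideal.Quotient.mk (I.map (algebraMap A B)) (f i) := by
    funext i
    show (Algebra.TensorProduct.quotIdealMapEquivQuotTensor B I).symm ((1 : A ⧸ I) ⊗ₜ[A] f i) = _
    rw [AlgEquiv.symm_apply_eq]
    rfl
  rw [h3] at h2
  exact h2

set_option maxHeartbeats 800000 in
theorem isWeaklyRegular_quotient_of_quasi {A C L : Type u} [CommRing A] [CommRing C]
    [CommRing L] [Algebra A C] [Algebra C L] (P : Ideal C) [P.IsPrime]
    [IsLocalization.AtPrime L P] (rs : List C) (hP : ∀ r ∈ rs, r ∈ P)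
    (hq : CAlgX.IsQuasiRegular rs.get) (hflat : Module.Flat A (C ⧸ Ideal.ofList rs))
    (𝔭 : Ideal A)
    [IsNoetherianRing (L ⧸ (𝔭.map (algebraMap A C)).map (algebraMap C L))] :
    IsWeaklyRegular (L ⧸ (𝔭.map (algebraMap A C)).map (algebraMap C L))
      ((rs.map (algebraMap C L)).map
        (Ideal.Quotient.mk ((𝔭.map (algebraMap A C)).map (algebraMap C L)))) := by
  haveI : IsLocalRing L := IsLocalization.AtPrime.isLocalRing L P
  have hflat' : Module.Flat A (C ⧸ Ideal.span (Set.range rs.get)) := by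
    rw [← ofList_eq_span_range_get]
    exact hflat
  have h1 := isQuasiRegular_mk_map rs.get hflat' hq 𝔭
  have hfl : (algebraMap (C ⧸ 𝔭.map (algebraMap A C))
      (L ⧸ (𝔭.map (algebraMap A C)).map (algebraMap C L))).Flat :=
    RingHom.flat_algebraMap_iff.mpr
      (IsLocalization.flat _ (Algebra.algebraMapSubmonoid (C ⧸ 𝔭.map (algebraMap A C))
        P.primeCompl))
  have h2 := isQuasiRegular_map_of_flat _ hfl _ h1
  have hjac : ∀ i : Fin rs.length,
      algebraMap (C ⧸ 𝔭.map (algebraMap A C)) (L ⧸ (𝔭.map (algebraMap A C)).map (algebraMap C L))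
        (Ideal.Quotient.mk (𝔭.map (algebraMap A C)) (rs.get i)) ∈ Ring.jacobson _ := by
    intro i
    show Ideal.Quotient.mk ((𝔭.map (algebraMap A C)).map (algebraMap C L))
      (algebraMap C L (rs.get i)) ∈ _
    apply mk_mem_jacobson
    exact (IsLocalization.AtPrime.to_map_mem_maximal_iff L P _).mpr (hP _ (List.get_mem _ _))
  have h3 := Groth.Agent.S5803.result _ rs.length _ hjac h2
  have h4 : (rs.map (algebraMap C L)).map
      (Ideal.Quotient.mk ((𝔭.map (algebraMap A C)).map (algebraMap C L))) =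
      List.ofFn fun i : Fin rs.length =>
        algebraMap (C ⧸ 𝔭.map (algebraMap A C))
          (L ⧸ (𝔭.map (algebraMap A C)).map (algebraMap C L))
          (Ideal.Quotient.mk (𝔭.map (algebraMap A C)) (rs.get i)) := by
    apply List.ext_get
    · simp
    · intro n h₁ h₂
      simp
  rw [h4]
  exact h3

end Ring


section Sch

set_option maxHeartbeats 1600000 in
/-- a quasi-regular sequence of sections vanishing at `x` with flat quotient, on a flat locally
finitely presented `X/S`, becomes (reversed) weakly regular with flat partial quotients on all small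
basic open neighbourhoods of `x`. -/
theorem exists_regular_of_quasi {X S : Scheme.{u}} (f : X ⟶ S) [LocallyOfFinitePresentation f]
    (x : X) (hflat : (f.stalkMap x).hom.Flat) {V : S.Opens} (hV : IsAffineOpen V)
    {U₀ : X.Opens} (hU₀ : IsAffineOpen U₀) (hxU₀ : x ∈ U₀) (e : U₀ ≤ f ⁻¹ᵁ V)
    (rs₀ : List Γ(X, U₀))
    (hm : ∀ r ∈ rs₀, X.presheaf.germ U₀ x hxU₀ r ∈ maximalIdeal (X.presheaf.stalk x))
    (hq : CAlgX.IsQuasiRegular rs₀.get)
    (hfq : ((Ideal.Quotient.mk (Ideal.ofList rs₀)).comp (f.appLE V U₀ e).hom).Flat) :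
    ∃ g : Γ(X, U₀), x ∈ X.basicOpen g ∧ ∀ a : Γ(X, U₀),
        IsWeaklyRegular Γ(X, X.basicOpen (g * a))
          (rs₀.map (X.presheaf.map (homOfLE (X.basicOpen_le (g * a))).op).hom).reverse ∧
        ∀ k : ℕ, ((Ideal.Quotient.mk (Ideal.ofList
          ((rs₀.map (X.presheaf.map (homOfLE (X.basicOpen_le (g * a))).op).hom).reverse.take k))).comp
            (f.appLE V (X.basicOpen (g * a)) ((X.basicOpen_le (g * a)).trans e)).hom).Flat := by
  classical
  have hxV : f x ∈ V := e hxU₀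
  letI algAC : Algebra Γ(S, V) Γ(X, U₀) := (f.appLE V U₀ e).hom.toAlgebra
  haveI hfp : Algebra.FinitePresentation Γ(S, V) Γ(X, U₀) :=
    (HasRingHomProperty.iff_appLE (P := @LocallyOfFinitePresentation)).mp inferInstance
      ⟨V, hV⟩ ⟨U₀, hU₀⟩ e
  letI algCL : Algebra Γ(X, U₀) (X.presheaf.stalk x) :=
    X.presheaf.algebra_section_stalk ⟨x, hxU₀⟩
  haveI hlocL : IsLocalization.AtPrime (X.presheaf.stalk x)
      (hU₀.primeIdealOf ⟨x, hxU₀⟩).asIdeal := hU₀.isLocalization_stalk ⟨x, hxU₀⟩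
  letI algAL : Algebra Γ(S, V) (X.presheaf.stalk x) :=
    ((algebraMap Γ(X, U₀) (X.presheaf.stalk x)).comp
      (algebraMap Γ(S, V) Γ(X, U₀))).toAlgebra
  haveI : IsScalarTower Γ(S, V) Γ(X, U₀) (X.presheaf.stalk x) :=
    IsScalarTower.of_algebraMap_eq' rfl
  letI algAS : Algebra Γ(S, V) (S.presheaf.stalk (f x)) :=
    S.presheaf.algebra_section_stalk ⟨f x, hxV⟩
  haveI hlocS : IsLocalization.AtPrime (S.presheaf.stalk (f x))
      (hV.primeIdealOf ⟨f x, hxV⟩).asIdeal := hV.isLocalization_stalk ⟨f x, hxV⟩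
  have hnat : algebraMap Γ(S, V) (X.presheaf.stalk x) =
      (f.stalkMap x).hom.comp (algebraMap Γ(S, V) (S.presheaf.stalk (f x))) := by
    refine RingHom.ext fun a => ?_
    show X.presheaf.germ U₀ x hxU₀ (f.appLE V U₀ e a) =
      f.stalkMap x (S.presheaf.germ V (f x) hxV a)
    have h1 : f.appLE V U₀ e a = X.presheaf.map (homOfLE e).op (f.app V a) := by
      rw [Scheme.Hom.appLE]; rfl
    rw [h1, TopCat.Presheaf.germ_res_apply X.presheaf (homOfLE e) x hxU₀,
      Scheme.Hom.germ_stalkMap_apply]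
  have hflat' : Module.Flat Γ(S, V) (X.presheaf.stalk x) := by
    rw [← RingHom.flat_algebraMap_iff, hnat]
    refine RingHom.Flat.comp ?_ hflat
    rw [RingHom.flat_algebraMap_iff]
    exact IsLocalization.flat (S.presheaf.stalk (f x))
      (hV.primeIdealOf ⟨f x, hxV⟩).asIdeal.primeCompl
  set P : Ideal Γ(X, U₀) := (hU₀.primeIdealOf ⟨x, hxU₀⟩).asIdeal with hPdef
  have hunder : P.under Γ(S, V) = (hV.primeIdealOf ⟨f x, hxV⟩).asIdeal := by
    have := IsAffineOpen.comap_primeIdealOf_appLE (f := f) V hV U₀ hU₀ e hxU₀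
    exact congrArg PrimeSpectrum.asIdeal this
  have hI : Ideal.map (f.stalkMap x).hom (IsLocalRing.maximalIdeal (S.presheaf.stalk (f x))) =
      (P.under Γ(S, V)).map (algebraMap Γ(S, V) (X.presheaf.stalk x)) := by
    rw [hunder, hnat, ← Ideal.map_map,
      IsLocalization.AtPrime.map_eq_maximalIdeal (hV.primeIdealOf ⟨f x, hxV⟩).asIdeal
        (S.presheaf.stalk (f x))]
  have hP : ∀ h ∈ rs₀, h ∈ P := fun h hh =>
    (IsLocalization.AtPrime.to_map_mem_maximal_iff (X.presheaf.stalk x) P h).mp (hm h hh)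
  -- the fibre local ring is Noetherian
  obtain ⟨e₀⟩ := nonempty_stalk_asFiber_equiv f x
  haveI : IsLocallyNoetherian (f.fiber (f x)) :=
    Groth.Agent.Lib.Helper5.CMAffSp.isLocallyNoetherian_fiber f (f x)
  have hJeq : Ideal.map (f.stalkMap x).hom (maximalIdeal (S.presheaf.stalk (f x))) =
      ((P.under Γ(S, V)).map (algebraMap Γ(S, V) Γ(X, U₀))).map
        (algebraMap Γ(X, U₀) (X.presheaf.stalk x)) := by
    rw [hI, Ideal.map_map, ← IsScalarTower.algebraMap_eq]
  haveI hN : IsNoetherianRing (X.presheaf.stalk x ⧸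
      ((P.under Γ(S, V)).map (algebraMap Γ(S, V) Γ(X, U₀))).map
        (algebraMap Γ(X, U₀) (X.presheaf.stalk x))) :=
    isNoetherianRing_of_ringEquiv _ (e₀.trans (Ideal.quotEquivOfEq hJeq))
  have hA : Module.Flat Γ(S, V) (Γ(X, U₀) ⧸ Ideal.ofList rs₀) := by
    have h1 : (algebraMap Γ(S, V) (Γ(X, U₀) ⧸ Ideal.ofList rs₀)).Flat := hfq
    exact RingHom.flat_algebraMap_iff.mp h1
  have hwr := isWeaklyRegular_quotient_of_quasi (A := Γ(S, V)) (C := Γ(X, U₀))
    (L := X.presheaf.stalk x) P rs₀ hP hq hA (P.under Γ(S, V))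
  have hreg' : RegOn ((P.under Γ(S, V)).map (algebraMap Γ(S, V) (X.presheaf.stalk x)))
      (rs₀.map (algebraMap Γ(X, U₀) (X.presheaf.stalk x))) := by
    have h1 := regOn_of_isWeaklyRegular_quotient _ _ hwr
    rwa [Ideal.map_map, ← IsScalarTower.algebraMap_eq] at h1
  obtain ⟨g, hgP, Hg⟩ := exists_away_flatReg (C := Γ(X, U₀)) (L := X.presheaf.stalk x) P rs₀
    Γ(S, V) hflat' hP hreg'
  have hxg : x ∈ X.basicOpen g := by
    rw [X.mem_basicOpen g x hxU₀]
    exact IsLocalization.map_units (X.presheaf.stalk x) (⟨g, hgP⟩ : P.primeCompl)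
  refine ⟨g, hxg, ?_⟩
  intro a
  have e' : X.basicOpen (g * a) ≤ f ⁻¹ᵁ V := (X.basicOpen_le (g * a)).trans e
  letI algAC₁ : Algebra Γ(S, V) Γ(X, X.basicOpen (g * a)) :=
    (f.appLE V (X.basicOpen (g * a)) e').hom.toAlgebra
  haveI : IsScalarTower Γ(S, V) Γ(X, U₀) Γ(X, X.basicOpen (g * a)) :=
    IsScalarTower.of_algebraMap_eq' (by
      show (f.appLE V (X.basicOpen (g * a)) e').hom =
        (X.presheaf.map (homOfLE (X.basicOpen_le (g * a))).op).hom.comp (f.appLE V U₀ e).hom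
      rw [← CommRingCat.hom_comp, Scheme.Hom.appLE_map])
  haveI : IsLocalization.Away (g * a) Γ(X, X.basicOpen (g * a)) :=
    hU₀.isLocalization_basicOpen (g * a)
  obtain ⟨hw, hfl⟩ := Hg a Γ(X, X.basicOpen (g * a))
  refine ⟨hw, fun k => ?_⟩
  exact RingHom.flat_algebraMap_iff.mpr (hfl k)

set_option maxHeartbeats 1600000 in
/-- a quasi-regular immersion with flat source into a flat, locally finitely presented `X/S` is a
regular immersion (at each point). -/
theorem isRegularImmersionAt_of_quasi {Z X S : Scheme.{u}} (f : X ⟶ S) [Flat f]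
    [LocallyOfFinitePresentation f] (i : Z ⟶ X) [Flat (i ≫ f)] (z : Z)
    (hz : RegImm.IsRegularImmersionAt .quasi i z) :
    RegImm.IsRegularImmersionAt .regular i z := by
  obtain ⟨⟨U, hU⟩, hzU, hcl, rs, hseq, hker⟩ := hz
  simp only at hzU hcl hker hseq
  haveI := hcl
  obtain ⟨_, ⟨V : S.Opens, hV, rfl⟩, hsV, -⟩ :=
    S.isBasis_affineOpens.exists_subset_of_mem_open (Set.mem_univ (f (i z))) isOpen_univ
  obtain ⟨h, hle, hmem⟩ := hU.exists_basicOpen_le (V := U ⊓ f ⁻¹ᵁ V)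
    ⟨i z, ⟨hzU, hsV⟩⟩ hzU
  have hU₁ : IsAffineOpen (X.basicOpen h) := hU.basicOpen h
  have hU₁U : X.basicOpen h ≤ U := hle.trans inf_le_left
  have hU₁V : X.basicOpen h ≤ f ⁻¹ᵁ V := hle.trans inf_le_right
  obtain ⟨hcl₁, hker₁⟩ := restrict_baseChange (IsPullback.id_horiz i) hU hU₁
    (show X.basicOpen h ≤ (𝟙 X) ⁻¹ᵁ U from hU₁U)
  haveI := hcl₁
  have hflatres : ((𝟙 X : X ⟶ X).appLE U (X.basicOpen h) hU₁U).hom.Flat :=
    Scheme.Hom.flat_appLE (𝟙 X) hU hU₁ _
  obtain ⟨rs₁, hrs₁⟩ : ∃ rs₁ : List Γ(X, X.basicOpen h),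
      rs₁ = rs.map ((𝟙 X : X ⟶ X).appLE U (X.basicOpen h) hU₁U).hom := ⟨_, rfl⟩
  have hseq₁ : CAlgX.IsQuasiRegular rs₁.get := by
    rw [hrs₁]
    exact seq_map_of_flat .quasi (Or.inr rfl) _ hflatres rs hseq
  have hker₁' : RingHom.ker (i.app (X.basicOpen h)).hom = Ideal.ofList rs₁ := by
    rw [hker₁, hker, Ideal.map_ofList, hrs₁]
  have hZaff := isAffineOpen_preimage_of_isClosedImmersion_restrict i hU₁
  have hflat₁ : ((Ideal.Quotient.mk (Ideal.ofList rs₁)).comp
      (f.appLE V (X.basicOpen h) hU₁V).hom).Flat := by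
    have e' : i ⁻¹ᵁ X.basicOpen h ≤ (i ≫ f) ⁻¹ᵁ V := by
      intro y hy
      exact hU₁V hy
    have hfl : ((i ≫ f).appLE V (i ⁻¹ᵁ X.basicOpen h) e').hom.Flat :=
      Scheme.Hom.flat_appLE (i ≫ f) hV hZaff e'
    have hcomp : f.appLE V (X.basicOpen h) hU₁V ≫
        i.appLE (X.basicOpen h) (i ⁻¹ᵁ X.basicOpen h) le_rfl =
        (i ≫ f).appLE V (i ⁻¹ᵁ X.basicOpen h) e' :=
      Scheme.Hom.appLE_comp_appLE _ _ _ _ _ _ _
    rw [← hcomp, Scheme.Hom.appLE_eq_app, CommRingCat.hom_comp] at hfl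
    exact flat_mk_comp_of_surjective _ _
      (app_surjective_of_isClosedImmersion_restrict i hU₁) _ hker₁' hfl
  have hm : ∀ r ∈ rs₁, X.presheaf.germ (X.basicOpen h) (i z) hmem r ∈
      maximalIdeal (X.presheaf.stalk (i z)) := by
    intro r hr
    have hr0 : (i.app (X.basicOpen h)).hom r = 0 := by
      have h1 : r ∈ RingHom.ker (i.app (X.basicOpen h)).hom := by
        rw [hker₁']
        exact Ideal.subset_span hr
      exact h1
    rw [mem_maximalIdeal, mem_nonunits_iff]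
    intro hu
    have hx : i z ∈ X.basicOpen r := (X.mem_basicOpen r (i z) hmem).mpr hu
    have hz' : z ∈ i ⁻¹ᵁ X.basicOpen r := hx
    rw [Scheme.preimage_basicOpen] at hz'
    have h0 : (i.app (X.basicOpen h)) r = 0 := hr0
    rw [h0, Scheme.basicOpen_zero] at hz'
    exact hz'
  obtain ⟨g, hxg, Hg⟩ := exists_regular_of_quasi f (i z) (Flat.stalkMap f (i z)) hV hU₁ hmem
    hU₁V rs₁ hm hseq₁ hflat₁
  obtain ⟨hwr, -⟩ := Hg 1
  have hU₂ : IsAffineOpen (X.basicOpen (g * 1)) := hU₁.basicOpen _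
  have hU₂U₁ : X.basicOpen (g * 1) ≤ X.basicOpen h := X.basicOpen_le _
  have hxU₂ : i z ∈ X.basicOpen (g * 1) := by
    rw [mul_one]
    exact hxg
  obtain ⟨hcl₂, hker₂⟩ := restrict_baseChange (IsPullback.id_horiz i) hU₁ hU₂
    (show X.basicOpen (g * 1) ≤ (𝟙 X) ⁻¹ᵁ X.basicOpen h from hU₂U₁)
  have hres : ((𝟙 X : X ⟶ X).appLE (X.basicOpen h) (X.basicOpen (g * 1)) hU₂U₁) =
      X.presheaf.map (homOfLE hU₂U₁).op := by
    simp [Scheme.Hom.appLE]
    exact Category.id_comp _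
  have hker₂' : RingHom.ker (i.app (X.basicOpen (g * 1))).hom =
      Ideal.ofList (rs₁.map (X.presheaf.map (homOfLE (X.basicOpen_le (g * 1))).op).hom).reverse := by
    rw [hker₂, hker₁', Ideal.map_ofList, hres, ofList_reverse]
  refine ⟨⟨X.basicOpen (g * 1), hU₂⟩, hxU₂, hcl₂, _, ⟨hwr, ?_⟩, hker₂'⟩
  rw [smul_eq_mul, Ideal.mul_top, ← hker₂']
  haveI : Nonempty ↥(i ⁻¹ᵁ X.basicOpen (g * 1)) := ⟨⟨z, hxU₂⟩⟩
  exact (RingHom.ker_ne_top _).symm

end Sch

end Groth.Agent.Lib.Helper5.QuasiRegImm
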