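import Mathlib
import Groth.Prelude.Def_RegImm
import Groth.Agent.Lib.Helper5QuasiRegImm
import Groth.Agent.S5802

/-!
# On a locally Noetherian scheme regular and quasi-regular immersions coincide (helper5)
-/

set_option autoImplicit false
set_option linter.style.haveILetI false
universe u

open AlgebraicGeometry CategoryTheory CategoryTheory.Limits TopologicalSpace
open RingTheory.Sequence IsLocalRing

namespace Groth.Agent.Lib.Helper5.NoethQuasi

open Groth.Agent.Lib.Helper5.RegSeq Groth.Agent.Lib.Helper5.ImmBC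
  Groth.Agent.Lib.Helper5.QuasiRegFlat

theorem isQuasiRegular_get_of_isWeaklyRegular {R : Type u} [CommRing R] (rs : List R)
    (h : IsWeaklyRegular R rs) : CAlgX.IsQuasiRegular rs.get := by
  apply Groth.Agent.S5802.result R rs.length rs.get
  rw [List.ofFn_get]
  exact h

theorem isRegularImmersionAt_quasi_of_regular {Z X : Scheme.{u}} (i : Z ⟶ X) (z : Z)
    (hz : RegImm.IsRegularImmersionAt .regular i z) : RegImm.IsRegularImmersionAt .quasi i z := by
  obtain ⟨U, hzU, hcl, rs, hseq, hker⟩ := hz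
  have hreg : RingTheory.Sequence.IsRegular Γ(X, U.1) rs := hseq
  exact ⟨U, hzU, hcl, rs, isQuasiRegular_get_of_isWeaklyRegular rs hreg.toIsWeaklyRegular, hker⟩

set_option maxHeartbeats 1600000 in
theorem isRegularImmersionAt_regular_of_quasi {Z X : Scheme.{u}} [IsLocallyNoetherian X]
    (i : Z ⟶ X) (z : Z) (hz : RegImm.IsRegularImmersionAt .quasi i z) :
    RegImm.IsRegularImmersionAt .regular i z := by
  obtain ⟨⟨U, hU⟩, hzU, hcl, rs, hseq, hker⟩ := hz
  simp only at hzU hcl hker hseq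
  haveI := hcl
  haveI : IsNoetherianRing Γ(X, U) := IsLocallyNoetherian.component_noetherian ⟨U, hU⟩
  letI alg := (X.presheaf.germ U (i z) hzU).hom.toAlgebra
  haveI loc : IsLocalization.AtPrime (X.presheaf.stalk (i z))
      (hU.primeIdealOf ⟨i z, hzU⟩).asIdeal := hU.isLocalization_stalk ⟨i z, hzU⟩
  haveI : IsNoetherianRing (X.presheaf.stalk (i z)) :=
    IsLocalization.isNoetherianRing (hU.primeIdealOf ⟨i z, hzU⟩).asIdeal.primeCompl _ inferInstance
  have hflg : (algebraMap Γ(X, U) (X.presheaf.stalk (i z))).Flat :=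
    RingHom.flat_algebraMap_iff.mpr
      (IsLocalization.flat _ (hU.primeIdealOf ⟨i z, hzU⟩).asIdeal.primeCompl)
  have hq' := isQuasiRegular_map_of_flat _ hflg rs.get hseq
  have hm : ∀ r ∈ rs, algebraMap Γ(X, U) (X.presheaf.stalk (i z)) r ∈
      maximalIdeal (X.presheaf.stalk (i z)) := by
    intro r hr
    have hr0 : (i.app U).hom r = 0 := by
      have h1 : r ∈ RingHom.ker (i.app U).hom := by
        rw [hker]
        exact Ideal.subset_span hr
      exact h1
    rw [mem_maximalIdeal, mem_nonunits_iff]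
    intro hu
    have hx : i z ∈ X.basicOpen r := (X.mem_basicOpen r (i z) hzU).mpr hu
    have hz' : z ∈ i ⁻¹ᵁ X.basicOpen r := hx
    rw [Scheme.preimage_basicOpen] at hz'
    have h0 : (i.app U) r = 0 := hr0
    rw [h0, Scheme.basicOpen_zero] at hz'
    exact hz'
  have hjac : ∀ j : Fin rs.length, algebraMap Γ(X, U) (X.presheaf.stalk (i z)) (rs.get j) ∈
      Ring.jacobson (X.presheaf.stalk (i z)) := by
    intro j
    rw [← Ideal.jacobson_bot, IsLocalRing.jacobson_eq_maximalIdeal ⊥ bot_ne_top]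
    exact hm _ (List.get_mem _ _)
  have hw := Groth.Agent.S5803.result _ rs.length _ hjac hq'
  have hlist : (List.ofFn fun j : Fin rs.length =>
      algebraMap Γ(X, U) (X.presheaf.stalk (i z)) (rs.get j)) =
      rs.map (algebraMap Γ(X, U) (X.presheaf.stalk (i z))) := by
    apply List.ext_get
    · simp
    · intro n h₁ h₂
      simp
  rw [hlist] at hw
  have hregOn : RegOn ((⊥ : Ideal Γ(X, U)).map (algebraMap Γ(X, U) (X.presheaf.stalk (i z))))
      (rs.map (algebraMap Γ(X, U) (X.presheaf.stalk (i z)))) := by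
    rw [Ideal.map_bot]
    exact (isWeaklyRegular_iff_regOn _).mp hw
  obtain ⟨g, hgP, H⟩ := exists_notMem_forall_regOn.{u, u} (hU.primeIdealOf ⟨i z, hzU⟩).asIdeal
    (X.presheaf.stalk (i z)) rs ⊥ hregOn
  have hU₂ : IsAffineOpen (X.basicOpen g) := hU.basicOpen g
  have hxU₂ : i z ∈ X.basicOpen g := by
    rw [X.mem_basicOpen g (i z) hzU]
    exact (IsLocalization.AtPrime.isUnit_to_map_iff (X.presheaf.stalk (i z))
      (hU.primeIdealOf ⟨i z, hzU⟩).asIdeal g).mpr hgP
  haveI : IsLocalization.Away g Γ(X, X.basicOpen g) := hU.isLocalization_basicOpen g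
  have hw₂ : IsWeaklyRegular Γ(X, X.basicOpen g)
      (rs.map (algebraMap Γ(X, U) Γ(X, X.basicOpen g))) := by
    rw [isWeaklyRegular_iff_regOn]
    have h1 := H (Submonoid.powers g) Γ(X, X.basicOpen g)
      (IsLocalization.Away.algebraMap_isUnit g)
    rwa [Ideal.map_bot] at h1
  have hU₂U : X.basicOpen g ≤ U := X.basicOpen_le g
  obtain ⟨hcl₂, hker₂⟩ := restrict_baseChange (IsPullback.id_horiz i) hU hU₂
    (show X.basicOpen g ≤ (𝟙 X) ⁻¹ᵁ U from hU₂U)
  have hres : ((𝟙 X : X ⟶ X).appLE U (X.basicOpen g) hU₂U).hom =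
      algebraMap Γ(X, U) Γ(X, X.basicOpen g) := by
    have h1 : ((𝟙 X : X ⟶ X).appLE U (X.basicOpen g) hU₂U) =
        X.presheaf.map (homOfLE hU₂U).op := by
      simp [Scheme.Hom.appLE]
      exact Category.id_comp _
    rw [h1]
    rfl
  have hker₂' : RingHom.ker (i.app (X.basicOpen g)).hom =
      Ideal.ofList (rs.map (algebraMap Γ(X, U) Γ(X, X.basicOpen g))) := by
    rw [hker₂, hker, Ideal.map_ofList, hres]
  refine ⟨⟨X.basicOpen g, hU₂⟩, hxU₂, hcl₂, _, ⟨hw₂, ?_⟩, hker₂'⟩
  rw [smul_eq_mul, Ideal.mul_top, ← hker₂']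
  haveI : Nonempty ↥(i ⁻¹ᵁ X.basicOpen g) := ⟨⟨z, hxU₂⟩⟩
  exact (RingHom.ker_ne_top _).symm

end Groth.Agent.Lib.Helper5.NoethQuasi
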