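import Mathlib
import Groth.Prelude.Def_Mor2
import Groth.Agent.Lib.Helper5SliceListSch
import Groth.Agent.Lib.Helper5SliceListGeo
import Groth.Agent.Lib.Helper5RegImm
import Groth.Agent.Lib.Helper5RegImmAlg
import Groth.Agent.Lib.Helper5OpenImmSm
import Groth.Agent.Lib.Helper5FiberStalk
import Groth.Agent.Lib.Helper6LfpComp

/-!
# A section of a smooth morphism which is a closed immersion is a regular closed immersion (helper5)

Ring part: `A' → B → A` local with bijective composite, `B / m_{A'} B` regular local, the kernel of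
`B → A` finitely generated: then the kernel is generated by lifts of a regular system of parameters
of `B / m_{A'} B` (Nakayama).  Scheme part: slicing theorem + spreading out.
-/

set_option autoImplicit false
set_option linter.style.haveILetI false
universe u

open AlgebraicGeometry CategoryTheory RingTheory.Sequence TopologicalSpace IsLocalRing

namespace Groth.Agent.Lib.Helper5.SecReg

open Groth.Agent.Lib.Helper5.RegImm Groth.Agent.Lib.Helper5.SliceListGeo

section Alg

theorem exists_list_lift {B C : Type*} (q : B → C) (P : B → Prop) (rs : List C)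
    (h : ∀ r ∈ rs, ∃ b, P b ∧ q b = r) : ∃ hs : List B, (∀ b ∈ hs, P b) ∧ hs.map q = rs := by
  induction rs with
  | nil => exact ⟨[], by simp, rfl⟩
  | cons r rs ih =>
    obtain ⟨b, hb, hbr⟩ := h r List.mem_cons_self
    obtain ⟨hs, hhs, hmap⟩ := ih (fun r' hr' => h r' (List.mem_cons_of_mem _ hr'))
    refine ⟨b :: hs, ?_, ?_⟩
    · intro b' hb'
      rcases List.mem_cons.mp hb' with rfl | h'
      · exact hb
      · exact hhs _ h'
    · rw [List.map_cons, hbr, hmap]

/-- two ideals, the first finitely generated, with `I_p ≤ J_p`: some `a ∉ p` multiplies `I` into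
`J`. -/
theorem exists_notMem_mul_mem {R L : Type*} [CommRing R] [CommRing L] [Algebra R L] (p : Ideal R)
    [p.IsPrime] [IsLocalization.AtPrime L p] (I J : Ideal R) (hI : I.FG)
    (h : I.map (algebraMap R L) ≤ J.map (algebraMap R L)) :
    ∃ a, a ∉ p ∧ ∀ i ∈ I, a * i ∈ J := by
  revert h
  refine Submodule.fg_induction (R := R) (M := R)
    (motive := fun (N : Submodule R R) _ => Ideal.map (algebraMap R L) N ≤ J.map (algebraMap R L) →
      ∃ a, a ∉ p ∧ ∀ i ∈ N, a * i ∈ J) ?_ ?_ I hI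
  · intro x hx
    have hxm : algebraMap R L x ∈ J.map (algebraMap R L) :=
      hx (Ideal.mem_map_of_mem _ (Submodule.mem_span_singleton_self x))
    rw [IsLocalization.mem_map_algebraMap_iff p.primeCompl L] at hxm
    obtain ⟨⟨j, m⟩, hjm⟩ := hxm
    rw [← map_mul] at hjm
    obtain ⟨c, hc⟩ := (IsLocalization.eq_iff_exists p.primeCompl L).mp hjm
    refine ⟨c * m, ?_, ?_⟩
    · exact p.primeCompl.mul_mem c.2 m.2
    · intro i hi
      obtain ⟨r, rfl⟩ := Submodule.mem_span_singleton.mp hi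
      have h1 : (c : R) * m * (r • x) = r * (c * (x * m)) := by
        rw [smul_eq_mul]; ring
      rw [h1, hc]
      exact J.mul_mem_left _ (J.mul_mem_left _ j.2)
  · intro N₁ N₂ _ _ h₁ h₂ hle
    obtain ⟨a₁, ha₁, H₁⟩ := h₁ ((Ideal.map_mono le_sup_left).trans hle)
    obtain ⟨a₂, ha₂, H₂⟩ := h₂ ((Ideal.map_mono le_sup_right).trans hle)
    refine ⟨a₁ * a₂, ?_, ?_⟩
    · exact fun h => (Ideal.IsPrime.mem_or_mem inferInstance h).elim ha₁ ha₂
    · intro i hi
      obtain ⟨i₁, hi₁, i₂, hi₂, rfl⟩ := Submodule.mem_sup.mp hi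
      have h1 : a₁ * a₂ * (i₁ + i₂) = a₂ * (a₁ * i₁) + a₁ * (a₂ * i₂) := by ring
      rw [h1]
      exact J.add_mem (J.mul_mem_left _ (H₁ _ hi₁)) (J.mul_mem_left _ (H₂ _ hi₂))

theorem map_le_map_of_isUnit {R T : Type*} [CommRing R] [CommRing T] (ψ : R →+* T) (a : R)
    (hu : IsUnit (ψ a)) (I J : Ideal R) (h : ∀ i ∈ I, a * i ∈ J) : I.map ψ ≤ J.map ψ := by
  rw [Ideal.map_le_iff_le_comap]
  intro i hi
  rw [Ideal.mem_comap]
  have h1 : ψ (a * i) ∈ J.map ψ := Ideal.mem_map_of_mem ψ (h i hi)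
  rw [map_mul] at h1
  have h2 : ψ i = ((hu.unit⁻¹ : Tˣ) : T) * (ψ a * ψ i) := by
    rw [← mul_assoc, IsUnit.val_inv_mul, one_mul]
  rw [h2]
  exact Ideal.mul_mem_left _ _ h1

set_option maxHeartbeats 800000 in
/-- Nakayama for a section. -/
theorem ker_eq_ofList_of_section {A' B A : Type u} [CommRing A'] [CommRing B] [CommRing A]
    [IsLocalRing A'] [IsLocalRing B] [IsLocalRing A]
    (φ : A' →+* B) (π : B →+* A) [IsLocalHom φ] [IsLocalHom π] (hπ : Function.Surjective π)
    (hε : Function.Bijective (π.comp φ))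
    [IsRegularLocalRing (B ⧸ Ideal.map φ (maximalIdeal A'))]
    (hfg : (RingHom.ker π).FG) :
    ∃ hs : List B, (∀ h ∈ hs, h ∈ maximalIdeal B) ∧
      IsWeaklyRegular (B ⧸ Ideal.map φ (maximalIdeal A'))
        (hs.map (Ideal.Quotient.mk (Ideal.map φ (maximalIdeal A')))) ∧
      RingHom.ker π = Ideal.ofList hs := by
  classical
  let ε : A' ≃+* A := RingEquiv.ofBijective (π.comp φ) hε
  have hεapp : ∀ a, ε a = π (φ a) := fun a => rfl
  let c : B →+* A' := (ε.symm : A ≃+* A').toRingHom.comp π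
  have hcdef : ∀ b, c b = ε.symm (π b) := fun b => rfl
  have hcφ : ∀ a, c (φ a) = a := fun a => by
    rw [hcdef, ← hεapp]; exact ε.symm_apply_apply a
  have hπc : ∀ b, π (φ (c b)) = π b := fun b => by
    rw [← hεapp, hcdef]; exact ε.apply_symm_apply (π b)
  have hsub : ∀ b, b - φ (c b) ∈ RingHom.ker π := fun b => by
    rw [RingHom.mem_ker, map_sub, hπc, sub_self]
  have hJm : Ideal.map φ (maximalIdeal A') ≤ (maximalIdeal A).comap π := by
    rw [Ideal.map_le_iff_le_comap]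
    intro a ha
    show π (φ a) ∈ maximalIdeal A
    rw [mem_maximalIdeal, mem_nonunits_iff] at ha ⊢
    exact fun h => ha (isUnit_of_map_unit φ a (isUnit_of_map_unit π _ h))
  have hcmax : ∀ b, π b ∈ maximalIdeal A → c b ∈ maximalIdeal A' := by
    intro b hb
    rw [mem_maximalIdeal, mem_nonunits_iff] at hb ⊢
    intro hu
    have h1 : IsUnit (ε (c b)) := hu.map ε
    rw [hεapp, hπc] at h1
    exact hb h1
  have hker_le_max : RingHom.ker π ≤ maximalIdeal B := by
    intro b hb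
    rw [mem_maximalIdeal, mem_nonunits_iff]
    intro hu
    have h1 := hu.map π
    rw [(RingHom.mem_ker).mp hb] at h1
    exact not_isUnit_zero h1
  let πbar : B ⧸ Ideal.map φ (maximalIdeal A') →+* ResidueField A :=
    Ideal.Quotient.lift (Ideal.map φ (maximalIdeal A')) ((residue A).comp π) (fun b hb => by
      rw [RingHom.comp_apply]; exact (residue_eq_zero_iff _).mpr (hJm hb))
  have hπbar_mk : ∀ b, πbar (Ideal.Quotient.mk _ b) = residue A (π b) := fun b => rfl
  have hπbar : Function.Surjective πbar := by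
    apply Ideal.Quotient.lift_surjective_of_surjective
    exact (residue_surjective).comp hπ
  obtain ⟨rsb, hrsreg, hrsker⟩ :=
    Groth.Agent.Lib.Helper5.RegImmAlg.exists_regular_ker_of_surjective πbar hπbar
  have hlift : ∀ r ∈ rsb, ∃ b, b ∈ RingHom.ker π ∧
      Ideal.Quotient.mk (Ideal.map φ (maximalIdeal A')) b = r := by
    intro r hr
    have hrk : r ∈ RingHom.ker πbar := by
      rw [hrsker, Ideal.ofList]; exact Ideal.subset_span hr
    obtain ⟨b, rfl⟩ := Ideal.Quotient.mk_surjective r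
    have hb : π b ∈ maximalIdeal A := by
      have h1 := (RingHom.mem_ker).mp hrk
      rw [hπbar_mk, residue_eq_zero_iff] at h1
      exact h1
    refine ⟨b - φ (c b), hsub b, ?_⟩
    rw [map_sub, sub_eq_self]
    exact Ideal.Quotient.eq_zero_iff_mem.mpr (Ideal.mem_map_of_mem φ (hcmax b hb))
  obtain ⟨hs, hhsker, hmap⟩ := exists_list_lift
    (Ideal.Quotient.mk (Ideal.map φ (maximalIdeal A'))) (· ∈ RingHom.ker π) rsb hlift
  have hρ : ∀ j ∈ Ideal.map φ (maximalIdeal A'),
      j - φ (c j) ∈ maximalIdeal B • RingHom.ker π := by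
    intro j hj
    have hj' : j ∈ Submodule.span B (φ '' (maximalIdeal A' : Set A')) := hj
    induction hj' using Submodule.span_induction with
    | mem x hx =>
      obtain ⟨a, -, rfl⟩ := hx
      rw [hcφ, sub_self]; exact zero_mem _
    | zero => simp
    | add x y hx hy ihx ihy =>
      have h1 : x + y - φ (c (x + y)) = (x - φ (c x)) + (y - φ (c y)) := by
        rw [map_add, map_add]; ring
      rw [h1]; exact add_mem (ihx hx) (ihy hy)
    | smul b x hx ih =>
      have hxJ : x ∈ Ideal.map φ (maximalIdeal A') := hx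
      have h1 : b • x - φ (c (b • x)) = b * (x - φ (c x)) + φ (c x) * (b - φ (c b)) := by
        rw [smul_eq_mul, map_mul, map_mul]; ring
      rw [h1]
      refine add_mem (Ideal.mul_mem_left _ b (ih hxJ)) ?_
      have h2 : φ (c x) ∈ maximalIdeal B := by
        have h3 := hcmax x (hJm hxJ)
        rw [mem_maximalIdeal, mem_nonunits_iff] at h3 ⊢
        exact fun hu => h3 (isUnit_of_map_unit φ _ hu)
      exact Submodule.smul_mem_smul h2 (hsub b)
  refine ⟨hs, fun h hh => hker_le_max (hhsker h hh), ?_, ?_⟩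
  · rw [hmap]; exact hrsreg.toIsWeaklyRegular
  · have hle : Ideal.ofList hs ≤ RingHom.ker π := by
      rw [Ideal.ofList]; exact Ideal.span_le.mpr (fun b hb => hhsker b hb)
    refine le_antisymm ?_ hle
    apply Submodule.le_of_le_smul_of_le_jacobson_bot (I := maximalIdeal B) hfg
      (IsLocalRing.maximalIdeal_le_jacobson ⊥)
    intro b hb
    have hmk : Ideal.Quotient.mk (Ideal.map φ (maximalIdeal A')) b ∈ RingHom.ker πbar := by
      rw [RingHom.mem_ker, hπbar_mk, (RingHom.mem_ker).mp hb, map_zero]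
    rw [hrsker, ← hmap, ← Ideal.map_ofList] at hmk
    obtain ⟨h, hh, hhb⟩ :=
      (Ideal.mem_map_iff_of_surjective _ Ideal.Quotient.mk_surjective).mp hmk
    have hd : b - h ∈ Ideal.map φ (maximalIdeal A') := by
      rw [← Ideal.Quotient.eq]; exact hhb.symm
    have hdk : b - h ∈ RingHom.ker π := Ideal.sub_mem _ hb (hle hh)
    have key := hρ (b - h) hd
    have hc0 : c (b - h) = 0 := by
      rw [hcdef, (RingHom.mem_ker).mp hdk, map_zero]
    rw [hc0, map_zero, sub_zero] at key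
    have h1 : b = h + (b - h) := by ring
    rw [h1]
    exact Submodule.add_mem_sup hh key

end Alg

section Sch

set_option maxHeartbeats 1600000 in
theorem isRegularClosedImmersion_section {X S : Scheme.{u}} (f : X ⟶ S) [Smooth f] (σ : S ⟶ X)
    (hσ : σ ≫ f = 𝟙 S) [IsClosedImmersion σ] : Mor2.IsRegularClosedImmersion σ := by
  refine ⟨inferInstance, fun s => ?_⟩
  classical
  haveI hlfpσ : LocallyOfFinitePresentation σ :=
    Groth.Agent.Lib.Helper6.locallyOfFinitePresentation_of_comp (g := f) inferInstance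
      (by rw [hσ]; infer_instance)
  have hcomp : (σ.stalkMap s).hom.comp (f.stalkMap (σ s)).hom = ((σ ≫ f).stalkMap s).hom := by
    rw [Scheme.Hom.stalkMap_comp]; rfl
  have hbij : Function.Bijective ((σ.stalkMap s).hom.comp (f.stalkMap (σ s)).hom) := by
    rw [hcomp]
    haveI : IsIso (σ ≫ f) := by rw [hσ]; infer_instance
    exact (ConcreteCategory.isIso_iff_bijective ((σ ≫ f).stalkMap s)).mp inferInstance
  haveI hregfib : IsRegularLocalRing (X.presheaf.stalk (σ s) ⧸
      Ideal.map (f.stalkMap (σ s)).hom (maximalIdeal (S.presheaf.stalk (f (σ s))))) := by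
    obtain ⟨e⟩ := Groth.Agent.Lib.Helper5.FiberStalk.nonempty_stalk_asFiber_equiv f (σ s)
    haveI := Groth.Agent.Lib.Helper5.OpenImmSm.isRegularLocalRing_fiber_of_smooth f (f (σ s))
      (f.asFiber (σ s))
    exact IsRegularLocalRing.of_ringEquiv e
  have hfgU : ∀ (U : X.Opens) (hU : IsAffineOpen U), (σ.ker.ideal ⟨U, hU⟩).FG := by
    intro U hU
    rw [Scheme.Hom.ker_apply]
    have hfp : (σ.app U).hom.FinitePresentation := by
      have h1 := (HasRingHomProperty.iff_appLE (P := @LocallyOfFinitePresentation)).mp hlfpσ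
        ⟨U, hU⟩ ⟨σ ⁻¹ᵁ U, hU.preimage σ⟩ le_rfl
      rwa [← Scheme.Hom.app_eq_appLE] at h1
    letI := (σ.app U).hom.toAlgebra
    haveI : Algebra.FinitePresentation Γ(X, U) Γ(S, σ ⁻¹ᵁ U) := hfp
    exact Algebra.FinitePresentation.ker_fG_of_surjective
      (Algebra.ofId Γ(X, U) Γ(S, σ ⁻¹ᵁ U)) (σ.app_surjective U hU)
  obtain ⟨_, ⟨U₁ : X.Opens, hU₁, rfl⟩, hxU₁, -⟩ :=
    X.isBasis_affineOpens.exists_subset_of_mem_open (Set.mem_univ (σ s)) isOpen_univ
  have hfgker : (RingHom.ker (σ.stalkMap s).hom).FG := by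
    rw [ker_stalkMap_eq_map_ker σ s U₁ hU₁ hxU₁]; exact (hfgU U₁ hU₁).map _
  obtain ⟨hs, hm, hreg, hker⟩ := ker_eq_ofList_of_section (f.stalkMap (σ s)).hom
    (σ.stalkMap s).hom (σ.stalkMap_surjective s) hbij hfgker
  obtain ⟨V, hV, U₀, hU₀, hxU₀, e, rs₀, g, hgerm, hxg, H⟩ :=
    Groth.Agent.Lib.Helper5.SliceListSch.exists_slice_list f (σ s) (Flat.stalkMap f (σ s)) hs hm
      hreg
  letI algCL : Algebra Γ(X, U₀) (X.presheaf.stalk (σ s)) :=
    (X.presheaf.germ U₀ (σ s) hxU₀).hom.toAlgebra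
  haveI hloc : IsLocalization.AtPrime (X.presheaf.stalk (σ s))
      (hU₀.primeIdealOf ⟨σ s, hxU₀⟩).asIdeal := hU₀.isLocalization_stalk ⟨σ s, hxU₀⟩
  have hIJ : (σ.ker.ideal ⟨U₀, hU₀⟩).map (algebraMap Γ(X, U₀) (X.presheaf.stalk (σ s))) =
      (Ideal.ofList rs₀).map (algebraMap Γ(X, U₀) (X.presheaf.stalk (σ s))) := by
    show (σ.ker.ideal ⟨U₀, hU₀⟩).map (X.presheaf.germ U₀ (σ s) hxU₀).hom =
      (Ideal.ofList rs₀).map (X.presheaf.germ U₀ (σ s) hxU₀).hom
    rw [← ker_stalkMap_eq_map_ker σ s U₀ hU₀ hxU₀, hker, Ideal.map_ofList, hgerm]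
  obtain ⟨a₁, ha₁, H₁⟩ := exists_notMem_mul_mem (L := X.presheaf.stalk (σ s))
    (hU₀.primeIdealOf ⟨σ s, hxU₀⟩).asIdeal _ _ (hfgU U₀ hU₀) hIJ.le
  obtain ⟨a₂, ha₂, H₂⟩ := exists_notMem_mul_mem (L := X.presheaf.stalk (σ s))
    (hU₀.primeIdealOf ⟨σ s, hxU₀⟩).asIdeal _ _ (ofList_fg rs₀) hIJ.ge
  have hxU : σ s ∈ X.basicOpen (g * (a₁ * a₂)) := by
    rw [X.mem_basicOpen _ _ hxU₀, map_mul, map_mul]
    refine ((X.mem_basicOpen g _ hxU₀).mp hxg).mul (IsUnit.mul ?_ ?_)
    · exact IsLocalization.map_units (X.presheaf.stalk (σ s))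
        (⟨a₁, ha₁⟩ : (hU₀.primeIdealOf ⟨σ s, hxU₀⟩).asIdeal.primeCompl)
    · exact IsLocalization.map_units (X.presheaf.stalk (σ s))
        (⟨a₂, ha₂⟩ : (hU₀.primeIdealOf ⟨σ s, hxU₀⟩).asIdeal.primeCompl)
  have hu : IsUnit ((X.presheaf.map (homOfLE (X.basicOpen_le (g * (a₁ * a₂)))).op).hom
      (g * (a₁ * a₂))) := X.toRingedSpace.isUnit_res_basicOpen (g * (a₁ * a₂))
  rw [map_mul, map_mul] at hu
  have hkerU : σ.ker.ideal ⟨X.basicOpen (g * (a₁ * a₂)), hU₀.basicOpen _⟩ =
      Ideal.ofList ((rs₀.map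
        (X.presheaf.map (homOfLE (X.basicOpen_le (g * (a₁ * a₂)))).op).hom).reverse) := by
    have h1 : σ.ker.ideal ⟨X.basicOpen (g * (a₁ * a₂)), hU₀.basicOpen _⟩ =
        (σ.ker.ideal ⟨U₀, hU₀⟩).map
          (X.presheaf.map (homOfLE (X.basicOpen_le (g * (a₁ * a₂)))).op).hom :=
      (σ.ker.map_ideal_basicOpen ⟨U₀, hU₀⟩ (g * (a₁ * a₂))).symm
    rw [h1, ofList_reverse, ← Ideal.map_ofList]
    apply le_antisymm
    · exact map_le_map_of_isUnit _ a₁
        (isUnit_of_mul_isUnit_left (isUnit_of_mul_isUnit_right hu)) _ _ H₁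
    · exact map_le_map_of_isUnit _ a₂
        (isUnit_of_mul_isUnit_right (isUnit_of_mul_isUnit_right hu)) _ _ H₂
  refine ⟨X.basicOpen (g * (a₁ * a₂)), hU₀.basicOpen _, hxU, _, ⟨(H (a₁ * a₂)).1, ?_⟩, hkerU⟩
  rw [smul_eq_mul, Ideal.mul_top, ← hkerU, Scheme.Hom.ker_apply]
  haveI : Nonempty ↥(σ ⁻¹ᵁ X.basicOpen (g * (a₁ * a₂))) := ⟨⟨s, hxU⟩⟩
  exact (RingHom.ker_ne_top _).symm

end Sch

end Groth.Agent.Lib.Helper5.SecReg
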