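import Mathlib
import Groth.Prelude.Def_RegImm
import Groth.Agent.S5803
import Groth.Agent.Lib.Helper5SecReg
import Groth.Agent.Lib.Helper5SliceListSch
import Groth.Agent.Lib.Helper5FiberStalk
import Groth.Agent.Lib.Helper5ImmBC
import Groth.Agent.Lib.Helper5ImmStalk
import Groth.Agent.Lib.Helper5QuasiRegFlat
import Groth.Agent.Lib.Helper5NoethQuasi
import Groth.Agent.Lib.Helper5CMAffSp
import Groth.Agent.Lib.Helper5RegImmComp

/-!
# Fibrewise quasi-regular immersions are relative quasi-regular immersions (helper5)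

`φ : X ⟶ S` flat and locally of finite presentation, `i : Z ⟶ X` a closed immersion with `Z` flat
and locally of finite presentation over `S`.  If the base change of `i` to the fibre through a
point is a quasi-regular immersion, then `i` is a quasi-regular immersion at that point.
-/

set_option autoImplicit false
set_option linter.style.haveILetI false
universe u
open CategoryTheory CategoryTheory.Limits AlgebraicGeometry TopologicalSpace Opposite
open RingTheory.Sequence IsLocalRing TensorProduct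

namespace Groth.Agent.Lib.Helper5.FibQuasiReg

section Alg

/-- `B/J` flat over `A`: then `𝔞B ∩ J = 𝔞J`. -/
theorem mem_map_mul_of_flat {A B C : Type u} [CommRing A] [CommRing B] [CommRing C]
    (φ : A →+* B) (π : B →+* C) (hπ : Function.Surjective π) (hflat : (π.comp φ).Flat)
    (𝔞 : Ideal A) (y : B) (hy : y ∈ RingHom.ker π) (hy' : y ∈ 𝔞.map φ) :
    y ∈ 𝔞.map φ * RingHom.ker π := by
  letI := φ.toAlgebra
  letI := π.toAlgebra
  letI := (π.comp φ).toAlgebra
  haveI : IsScalarTower A B C := IsScalarTower.of_algebraMap_eq (fun a => rfl)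
  haveI : Module.Flat A C := hflat
  let f : B →ₗ[A] C := (IsScalarTower.toAlgHom A B C).toLinearMap
  let J : Submodule A B := (RingHom.ker π).restrictScalars A
  have hf : Function.Surjective f := hπ
  have hg : Function.Injective J.subtype := Subtype.val_injective
  have H : Function.Exact J.subtype f := by
    intro b
    constructor
    · intro hb
      exact ⟨⟨b, hb⟩, rfl⟩
    · rintro ⟨x, rfl⟩
      exact x.2
  have hinj := LinearMap.lTensor_injective_of_exact_of_flat f hf J.subtype hg H (A ⧸ 𝔞)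
  have h1 : (J.subtype.lTensor (A ⧸ 𝔞)) ((1 : A ⧸ 𝔞) ⊗ₜ[A] (⟨y, hy⟩ : J)) = 0 := by
    rw [LinearMap.lTensor_tmul]
    apply (TensorProduct.quotTensorEquivQuotSMul B 𝔞).injective
    rw [map_zero, TensorProduct.quotTensorEquivQuotSMul_mk_one_tmul,
      Submodule.Quotient.mk_eq_zero, Ideal.smul_top_eq_map]
    exact hy'
  have h2 : ((1 : A ⧸ 𝔞) ⊗ₜ[A] (⟨y, hy⟩ : J)) = 0 := hinj (h1.trans (map_zero _).symm)
  have h3 : (⟨y, hy⟩ : J) ∈ 𝔞 • (⊤ : Submodule A J) := by
    have h := TensorProduct.quotTensorEquivQuotSMul_mk_one_tmul (M := J) 𝔞 ⟨y, hy⟩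
    rw [h2, map_zero] at h
    exact (Submodule.Quotient.mk_eq_zero _).mp h.symm
  have h4 : ∀ z : J, z ∈ 𝔞 • (⊤ : Submodule A J) → (z : B) ∈ 𝔞.map φ * RingHom.ker π := by
    intro z hz
    refine Submodule.smul_induction_on hz ?_ ?_
    · intro a ha j _
      have e : ((a • j : J) : B) = φ a * (j : B) := rfl
      rw [e]
      exact Ideal.mul_mem_mul (Ideal.mem_map_of_mem φ ha) j.2
    · intro z₁ z₂ h₁ h₂
      rw [Submodule.coe_add]
      exact Ideal.add_mem _ h₁ h₂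
  exact h4 ⟨y, hy⟩ h3

/-- Nakayama lift of fibre generators: `B` local, `C = B/J` flat over `A`, `J` finitely
generated, and `gs` generates the image of `J` in `B/𝔞B`.  Then lifts of `gs` in `J` generate `J`. -/
theorem exists_lift_generators {A B C : Type u} [CommRing A] [CommRing B] [CommRing C]
    [IsLocalRing B] (φ : A →+* B) (π : B →+* C) (hπ : Function.Surjective π)
    (hflat : (π.comp φ).Flat) (hfg : (RingHom.ker π).FG) (𝔞 : Ideal A)
    (h𝔞 : 𝔞.map φ ≤ maximalIdeal B) (gs : List (B ⧸ 𝔞.map φ))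
    (hgs : (RingHom.ker π).map (Ideal.Quotient.mk (𝔞.map φ)) = Ideal.ofList gs) :
    ∃ hs : List B, (∀ h ∈ hs, h ∈ RingHom.ker π) ∧
      hs.map (Ideal.Quotient.mk (𝔞.map φ)) = gs ∧ RingHom.ker π = Ideal.ofList hs := by
  obtain ⟨hs, hhs, hmap⟩ := Groth.Agent.Lib.Helper5.SecReg.exists_list_lift
    (Ideal.Quotient.mk (𝔞.map φ)) (fun b => b ∈ RingHom.ker π) gs (by
      intro r hr
      have h1 : r ∈ (RingHom.ker π).map (Ideal.Quotient.mk (𝔞.map φ)) := by
        rw [hgs]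
        exact Ideal.subset_span hr
      obtain ⟨b, hb, hbr⟩ :=
        (Ideal.mem_map_iff_of_surjective _ Ideal.Quotient.mk_surjective).mp h1
      exact ⟨b, hb, hbr⟩)
  have hle : Ideal.ofList hs ≤ RingHom.ker π := by
    rw [Ideal.ofList, Ideal.span_le]
    exact fun b hb => hhs b hb
  refine ⟨hs, hhs, hmap, le_antisymm ?_ hle⟩
  apply Submodule.le_of_le_smul_of_le_jacobson_bot hfg (I := maximalIdeal B)
    (by rw [IsLocalRing.jacobson_eq_maximalIdeal ⊥ bot_ne_top])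
  intro y hy
  have h1 : Ideal.Quotient.mk (𝔞.map φ) y ∈
      (Ideal.ofList hs).map (Ideal.Quotient.mk (𝔞.map φ)) := by
    rw [Ideal.map_ofList, hmap, ← hgs]
    exact Ideal.mem_map_of_mem _ hy
  obtain ⟨h, hh, hhy⟩ := (Ideal.mem_map_iff_of_surjective _ Ideal.Quotient.mk_surjective).mp h1
  have h2 : y - h ∈ 𝔞.map φ := by
    rw [← Ideal.Quotient.eq]
    exact hhy.symm
  have h3 : y - h ∈ RingHom.ker π := Ideal.sub_mem _ hy (hle hh)
  have h4 := mem_map_mul_of_flat φ π hπ hflat 𝔞 _ h3 h2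
  have h5 : y = h + (y - h) := by ring
  rw [h5]
  refine Submodule.add_mem_sup hh ?_
  rw [smul_eq_mul]
  exact Ideal.mul_mono_left h𝔞 h4

end Alg

section Sch

/-- In a Noetherian local ring of the target, the kernel of the stalk map of a quasi-regular
immersion is generated by a weakly regular sequence. -/
theorem exists_weaklyRegular_ker_stalkMap_of_quasi {Z X : Scheme.{u}} (i : Z ⟶ X) (z : Z)
    [IsNoetherianRing (X.presheaf.stalk (i z))]
    (hz : RegImm.IsRegularImmersionAt .quasi i z) :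
    ∃ rs : List (X.presheaf.stalk (i z)), IsWeaklyRegular (X.presheaf.stalk (i z)) rs ∧
      RingHom.ker (i.stalkMap z).hom = Ideal.ofList rs := by
  obtain ⟨⟨U, hU⟩, hzU, hcl, rs, hseq, hker⟩ := hz
  simp only at hzU hcl hker hseq
  haveI := hcl
  letI alg := (X.presheaf.germ U (i z) hzU).hom.toAlgebra
  haveI loc : IsLocalization.AtPrime (X.presheaf.stalk (i z))
      (hU.primeIdealOf ⟨i z, hzU⟩).asIdeal := hU.isLocalization_stalk ⟨i z, hzU⟩
  have hflg : (algebraMap Γ(X, U) (X.presheaf.stalk (i z))).Flat :=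
    RingHom.flat_algebraMap_iff.mpr
      (IsLocalization.flat _ (hU.primeIdealOf ⟨i z, hzU⟩).asIdeal.primeCompl)
  have hq' := Groth.Agent.Lib.Helper5.QuasiRegFlat.isQuasiRegular_map_of_flat _ hflg rs.get hseq
  have hm : ∀ r ∈ rs, algebraMap Γ(X, U) (X.presheaf.stalk (i z)) r ∈
      maximalIdeal (X.presheaf.stalk (i z)) := by
    intro r hr
    have hr0 : (i.app U).hom r = 0 := by
      have h1 : r ∈ RingHom.ker (i.app U).hom := by
        rw [hker]
        exact Ideal.subset_span hr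
      exact h1
    rw [mem_maximalIdeal, mem_nonunits_iff]
    intro hu
    have hx : i z ∈ X.basicOpen r := (X.mem_basicOpen r (i z) hzU).mpr hu
    have hz' : z ∈ i ⁻¹ᵁ X.basicOpen r := hx
    rw [Scheme.preimage_basicOpen] at hz'
    have h0 : (i.app U) r = 0 := hr0
    rw [h0, Scheme.basicOpen_zero] at hz'
    exact hz'
  have hjac : ∀ j : Fin rs.length, algebraMap Γ(X, U) (X.presheaf.stalk (i z)) (rs.get j) ∈
      Ring.jacobson (X.presheaf.stalk (i z)) := by
    intro j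
    rw [← Ideal.jacobson_bot, IsLocalRing.jacobson_eq_maximalIdeal ⊥ bot_ne_top]
    exact hm _ (List.get_mem _ _)
  have hw := Groth.Agent.S5803.result _ rs.length _ hjac hq'
  have hlist : (List.ofFn fun j : Fin rs.length =>
      algebraMap Γ(X, U) (X.presheaf.stalk (i z)) (rs.get j)) =
      rs.map (algebraMap Γ(X, U) (X.presheaf.stalk (i z))) := by
    apply List.ext_get
    · simp
    · intro n h₁ h₂
      simp
  rw [hlist] at hw
  refine ⟨_, hw, ?_⟩
  rw [Groth.Agent.Lib.Helper5.ImmStalk.ker_stalkMap_eq_map_ker i z hU hzU, hker,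
    Ideal.map_ofList]
  rfl

open Groth.Agent.Lib.Helper5.FiberStalk in
/-- The local ring of the fibre at a point `w` over `x` is `O_{X,x} ⧸ m_s O_{X,x}`, compatibly
with germs. -/
theorem exists_stalk_fiber_equiv_germ {X S : Scheme.{u}} (φ : X ⟶ S) (x : X)
    (w : φ.fiber (φ x)) (hw : φ.fiberι (φ x) w = x) :
    ∃ β : (φ.fiber (φ x)).presheaf.stalk w ≃+* (X.presheaf.stalk x ⧸ fibIdeal φ x),
      ∀ (U : X.Opens) (hxU : x ∈ U) (hwU : w ∈ (φ.fiberι (φ x)) ⁻¹ᵁ U) (a : Γ(X, U)),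
        β ((φ.fiber (φ x)).presheaf.germ ((φ.fiberι (φ x)) ⁻¹ᵁ U) w hwU
          ((φ.fiberι (φ x)).app U a)) =
        Ideal.Quotient.mk (fibIdeal φ x) (X.presheaf.germ U x hxU a) := by
  obtain rfl : w = toFiber φ x (closedPoint (Q φ x)) :=
    (φ.fiberι (φ x)).isEmbedding.injective (hw.trans (fiberι_toFiber_closedPoint φ x).symm)
  exact ⟨RingEquiv.ofBijective (Scheme.stalkClosedPointTo (toFiber φ x)).hom
    ⟨stalkClosedPointTo_toFiber_injective φ x, stalkClosedPointTo_toFiber_surjective φ x⟩,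
    fun U hxU hwU a => stalkClosedPointTo_toFiber_germ φ x U hxU a hwU⟩

open Groth.Agent.Lib.Helper5.FiberStalk in
set_option maxHeartbeats 1600000 in
/-- The image in `O_{X,x} ⧸ m_s O_{X,x}` of the ideal of `Z` at `x` is generated by a weakly
regular sequence if the fibre of `Z` is quasi-regularly immersed in the fibre of `X`. -/
theorem exists_fibre_generators {X S Z Z' : Scheme.{u}} (φ : X ⟶ S) [LocallyOfFiniteType φ]
    (i : Z ⟶ X) [IsClosedImmersion i] (t : Z) {i' : Z' ⟶ φ.fiber (φ (i t))} {pZ : Z' ⟶ Z}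
    (H : IsPullback pZ i' i (φ.fiberι (φ (i t)))) (z' : Z') (hz' : pZ z' = t)
    (hfib : RegImm.IsRegularImmersionAt .quasi i' z') :
    ∃ gs : List (X.presheaf.stalk (i t) ⧸ fibIdeal φ (i t)),
      IsWeaklyRegular (X.presheaf.stalk (i t) ⧸ fibIdeal φ (i t)) gs ∧
      (RingHom.ker (i.stalkMap t).hom).map (Ideal.Quotient.mk (fibIdeal φ (i t))) =
        Ideal.ofList gs := by
  classical
  have hw : (φ.fiberι (φ (i t))) (i' z') = i t := by
    have h1 := congrArg (fun f : Z' ⟶ X => f z') H.w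
    simp only [Scheme.Hom.comp_apply] at h1
    rw [hz'] at h1
    exact h1.symm
  haveI : IsLocallyNoetherian (φ.fiber (φ (i t))) :=
    Groth.Agent.Lib.Helper5.CMAffSp.isLocallyNoetherian_fiber φ _
  obtain ⟨rs, hrs, hkrs⟩ := exists_weaklyRegular_ker_stalkMap_of_quasi i' z' hfib
  obtain ⟨β, hβ⟩ := exists_stalk_fiber_equiv_germ φ (i t) (i' z') hw
  obtain ⟨βh, hβh⟩ : ∃ βh : (φ.fiber (φ (i t))).presheaf.stalk (i' z') →+*
      (X.presheaf.stalk (i t) ⧸ fibIdeal φ (i t)), ∀ b, βh b = β b := ⟨β.toRingHom, fun _ => rfl⟩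
  have hβhbij : Function.Bijective βh := by
    have h1 : (βh : _ → _) = β := funext hβh
    rw [h1]
    exact β.bijective
  refine ⟨rs.map βh, ?_, ?_⟩
  · exact Groth.Agent.Lib.Helper5.RegImmComp.isWeaklyRegular_map_of_flat βh
      (RingHom.Flat.of_bijective hβhbij) rs hrs
  · obtain ⟨_, ⟨U : X.Opens, hU, rfl⟩, hxU, -⟩ :=
      X.isBasis_affineOpens.exists_subset_of_mem_open (Set.mem_univ (i t)) isOpen_univ
    have hwU : i' z' ∈ (φ.fiberι (φ (i t))) ⁻¹ᵁ U := by
      show (φ.fiberι (φ (i t))) (i' z') ∈ U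
      rw [hw]
      exact hxU
    obtain ⟨_, ⟨W₂ : (φ.fiber (φ (i t))).Opens, hW₂, rfl⟩, hzW₂, hle⟩ :=
      (φ.fiber (φ (i t))).isBasis_affineOpens.exists_subset_of_mem_open hwU
        ((φ.fiberι (φ (i t))) ⁻¹ᵁ U).2
    haveI hclU : IsClosedImmersion (i ∣_ U) :=
      IsZariskiLocalAtTarget.restrict (P := @IsClosedImmersion) inferInstance U
    obtain ⟨hcl₂, hker₂⟩ := Groth.Agent.Lib.Helper5.ImmBC.restrict_baseChange H hU hW₂ hle
    haveI := hcl₂
    rw [← Ideal.map_ofList, ← hkrs,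
      Groth.Agent.Lib.Helper5.ImmStalk.ker_stalkMap_eq_map_ker i' z' hW₂ hzW₂, hker₂,
      Groth.Agent.Lib.Helper5.ImmStalk.ker_stalkMap_eq_map_ker i t hU hxU, Ideal.map_map,
      Ideal.map_map, Ideal.map_map]
    congr 1
    ext a
    simp only [RingHom.comp_apply]
    have e3 : ((φ.fiberι (φ (i t))).appLE U W₂ hle).hom a =
        (φ.fiber (φ (i t))).presheaf.map (homOfLE hle).op ((φ.fiberι (φ (i t))).app U a) := by
      rw [Scheme.Hom.appLE]
      rfl
    have e4 : ((φ.fiber (φ (i t))).presheaf.germ W₂ (i' z') hzW₂).hom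
        (((φ.fiberι (φ (i t))).appLE U W₂ hle).hom a) =
        (φ.fiber (φ (i t))).presheaf.germ ((φ.fiberι (φ (i t))) ⁻¹ᵁ U) (i' z') hwU
          ((φ.fiberι (φ (i t))).app U a) := by
      rw [e3]
      exact TopCat.Presheaf.germ_res_apply (φ.fiber (φ (i t))).presheaf (homOfLE hle) _ hzW₂ _
    rw [e4, hβh]
    exact (hβ U hxU hwU a).symm

open Groth.Agent.Lib.Helper5.FiberStalk Groth.Agent.Lib.Helper5.SecReg
  Groth.Agent.Lib.Helper5.SliceListGeo in
set_option maxHeartbeats 1600000 in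
/-- **Fibrewise quasi-regular ⇒ quasi-regular**, at a point. -/
theorem isRegularImmersionAt_quasi_of_fibre {X S Z : Scheme.{u}} (φ : X ⟶ S) [Flat φ]
    [LocallyOfFinitePresentation φ] (σ : Z ⟶ X) [IsClosedImmersion σ] [Flat (σ ≫ φ)]
    [LocallyOfFinitePresentation (σ ≫ φ)] (s : Z)
    (hfib : RegImm.IsRegularImmersion .quasi (pullback.snd σ (φ.fiberι (φ (σ s))))) :
    RegImm.IsRegularImmersionAt .quasi σ s := by
  classical
  haveI hlfpσ : LocallyOfFinitePresentation σ :=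
    Groth.Agent.Lib.Helper6.locallyOfFinitePresentation_of_comp (g := φ) inferInstance
      inferInstance
  have hfgU : ∀ (U : X.Opens) (hU : IsAffineOpen U), (σ.ker.ideal ⟨U, hU⟩).FG := by
    intro U hU
    rw [Scheme.Hom.ker_apply]
    have hfp : (σ.app U).hom.FinitePresentation := by
      have h1 := (HasRingHomProperty.iff_appLE (P := @LocallyOfFinitePresentation)).mp hlfpσ
        ⟨U, hU⟩ ⟨σ ⁻¹ᵁ U, hU.preimage σ⟩ le_rfl
      rwa [← Scheme.Hom.app_eq_appLE] at h1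
    letI := (σ.app U).hom.toAlgebra
    haveI : Algebra.FinitePresentation Γ(X, U) Γ(Z, σ ⁻¹ᵁ U) := hfp
    exact Algebra.FinitePresentation.ker_fG_of_surjective
      (Algebra.ofId Γ(X, U) Γ(Z, σ ⁻¹ᵁ U)) (σ.app_surjective U hU)
  obtain ⟨_, ⟨U₁ : X.Opens, hU₁, rfl⟩, hxU₁, -⟩ :=
    X.isBasis_affineOpens.exists_subset_of_mem_open (Set.mem_univ (σ s)) isOpen_univ
  have hfgker : (RingHom.ker (σ.stalkMap s).hom).FG := by
    rw [Groth.Agent.Lib.Helper5.RegImm.ker_stalkMap_eq_map_ker σ s U₁ hU₁ hxU₁]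
    exact (hfgU U₁ hU₁).map _
  -- generators on the fibre
  obtain ⟨z', hz'1, -⟩ := Scheme.Pullback.exists_preimage_pullback (f := σ)
    (g := φ.fiberι (φ (σ s))) s (toFiber φ (σ s) (closedPoint (Q φ (σ s))))
    (fiberι_toFiber_closedPoint φ (σ s)).symm
  obtain ⟨gs, hgsreg, hgs⟩ := exists_fibre_generators φ σ s
    (IsPullback.of_hasPullback σ (φ.fiberι (φ (σ s)))) z' hz'1 (hfib.2 z')
  have hflat : ((σ.stalkMap s).hom.comp (φ.stalkMap (σ s)).hom).Flat := by
    have h1 := Flat.stalkMap (σ ≫ φ) s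
    rw [Scheme.Hom.stalkMap_comp] at h1
    exact h1
  obtain ⟨hs, hhs, hmap, hker⟩ := exists_lift_generators (φ.stalkMap (σ s)).hom
    (σ.stalkMap s).hom (σ.stalkMap_surjective s) hflat hfgker
    (maximalIdeal (S.presheaf.stalk (φ (σ s)))) (fibIdeal_le φ (σ s)) gs hgs
  have hm : ∀ h ∈ hs, h ∈ maximalIdeal (X.presheaf.stalk (σ s)) := by
    intro h hh
    have h0 : (σ.stalkMap s).hom h = 0 := hhs h hh
    rw [mem_maximalIdeal, mem_nonunits_iff]
    intro hu
    have h1 := hu.map (σ.stalkMap s).hom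
    rw [h0] at h1
    exact not_isUnit_zero h1
  have hreg : IsWeaklyRegular (X.presheaf.stalk (σ s) ⧸ Ideal.map (φ.stalkMap (σ s)).hom
        (maximalIdeal (S.presheaf.stalk (φ (σ s)))))
      (hs.map (Ideal.Quotient.mk (Ideal.map (φ.stalkMap (σ s)).hom
        (maximalIdeal (S.presheaf.stalk (φ (σ s))))))) := by
    rw [hmap]
    exact hgsreg
  obtain ⟨V, hV, U₀, hU₀, hxU₀, e, rs₀, g, hgerm, hxg, H⟩ :=
    Groth.Agent.Lib.Helper5.SliceListSch.exists_slice_list φ (σ s) (Flat.stalkMap φ (σ s)) hs hm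
      hreg
  letI algCL : Algebra Γ(X, U₀) (X.presheaf.stalk (σ s)) :=
    (X.presheaf.germ U₀ (σ s) hxU₀).hom.toAlgebra
  haveI hloc : IsLocalization.AtPrime (X.presheaf.stalk (σ s))
      (hU₀.primeIdealOf ⟨σ s, hxU₀⟩).asIdeal := hU₀.isLocalization_stalk ⟨σ s, hxU₀⟩
  have hIJ : (σ.ker.ideal ⟨U₀, hU₀⟩).map (algebraMap Γ(X, U₀) (X.presheaf.stalk (σ s))) =
      (Ideal.ofList rs₀).map (algebraMap Γ(X, U₀) (X.presheaf.stalk (σ s))) := by
    show (σ.ker.ideal ⟨U₀, hU₀⟩).map (X.presheaf.germ U₀ (σ s) hxU₀).hom =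
      (Ideal.ofList rs₀).map (X.presheaf.germ U₀ (σ s) hxU₀).hom
    rw [← Groth.Agent.Lib.Helper5.RegImm.ker_stalkMap_eq_map_ker σ s U₀ hU₀ hxU₀, hker,
      Ideal.map_ofList, hgerm]
  obtain ⟨a₁, ha₁, H₁⟩ := exists_notMem_mul_mem (L := X.presheaf.stalk (σ s))
    (hU₀.primeIdealOf ⟨σ s, hxU₀⟩).asIdeal _ _ (hfgU U₀ hU₀) hIJ.le
  obtain ⟨a₂, ha₂, H₂⟩ := exists_notMem_mul_mem (L := X.presheaf.stalk (σ s))
    (hU₀.primeIdealOf ⟨σ s, hxU₀⟩).asIdeal _ _ (ofList_fg rs₀) hIJ.ge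
  have hxU : σ s ∈ X.basicOpen (g * (a₁ * a₂)) := by
    rw [X.mem_basicOpen _ _ hxU₀, map_mul, map_mul]
    refine ((X.mem_basicOpen g _ hxU₀).mp hxg).mul (IsUnit.mul ?_ ?_)
    · exact IsLocalization.map_units (X.presheaf.stalk (σ s))
        (⟨a₁, ha₁⟩ : (hU₀.primeIdealOf ⟨σ s, hxU₀⟩).asIdeal.primeCompl)
    · exact IsLocalization.map_units (X.presheaf.stalk (σ s))
        (⟨a₂, ha₂⟩ : (hU₀.primeIdealOf ⟨σ s, hxU₀⟩).asIdeal.primeCompl)
  have hu : IsUnit ((X.presheaf.map (homOfLE (X.basicOpen_le (g * (a₁ * a₂)))).op).hom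
      (g * (a₁ * a₂))) := X.toRingedSpace.isUnit_res_basicOpen (g * (a₁ * a₂))
  rw [map_mul, map_mul] at hu
  have hkerU : σ.ker.ideal ⟨X.basicOpen (g * (a₁ * a₂)), hU₀.basicOpen _⟩ =
      Ideal.ofList ((rs₀.map
        (X.presheaf.map (homOfLE (X.basicOpen_le (g * (a₁ * a₂)))).op).hom).reverse) := by
    have h1 : σ.ker.ideal ⟨X.basicOpen (g * (a₁ * a₂)), hU₀.basicOpen _⟩ =
        (σ.ker.ideal ⟨U₀, hU₀⟩).map
          (X.presheaf.map (homOfLE (X.basicOpen_le (g * (a₁ * a₂)))).op).hom :=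
      (σ.ker.map_ideal_basicOpen ⟨U₀, hU₀⟩ (g * (a₁ * a₂))).symm
    rw [h1, ofList_reverse, ← Ideal.map_ofList]
    apply le_antisymm
    · exact map_le_map_of_isUnit _ a₁
        (isUnit_of_mul_isUnit_left (isUnit_of_mul_isUnit_right hu)) _ _ H₁
    · exact map_le_map_of_isUnit _ a₂
        (isUnit_of_mul_isUnit_right (isUnit_of_mul_isUnit_right hu)) _ _ H₂
  refine ⟨⟨X.basicOpen (g * (a₁ * a₂)), hU₀.basicOpen _⟩, hxU,
    IsZariskiLocalAtTarget.restrict (P := @IsClosedImmersion) inferInstance _,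
    (rs₀.map (X.presheaf.map (homOfLE (X.basicOpen_le (g * (a₁ * a₂)))).op).hom).reverse, ?_, ?_⟩
  · exact Groth.Agent.Lib.Helper5.NoethQuasi.isQuasiRegular_get_of_isWeaklyRegular _
      (H (a₁ * a₂)).1
  · rw [← hkerU, Scheme.Hom.ker_apply]

end Sch

end Groth.Agent.Lib.Helper5.FibQuasiReg
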