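import Mathlib
import Groth.Agent.Lib.Helper5HomBCC

/-!
# Flat base change of Hom in the derived category, perfect source (helper5)

`A → B` flat.  For `K` perfect (represented by a bounded complex of finite projective modules)
and ANY `Y` in `D(A)` the comparison map `bc B K Y : B ⊗[A] Hom(K, Y) →+ Hom(K_B, Y_B)` is
bijective (`bc_bijective_of_perfect`).  This is the variant of `HomBC.bc_bijective` in which the
boundedness is put on the source only.

* `gam_bijective_of_projective`: the module level comparison map for a finite projective source.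
* `cochain_eq_sum₂`, `bet_injective₂`, `bet_surjective₂`: cochains out of a bounded complex.
* `bcQ_bijective₂`, `bc_bijective_of_perfect`.
-/

set_option autoImplicit false
universe u
open CategoryTheory CategoryTheory.Limits
attribute [local instance] HasDerivedCategory.standard

namespace Groth.Agent.Lib.Helper5.PfBC

open TensorProduct CochainComplex HomComplex DerivedCategory Groth.Agent.Lib.Helper1.Extend
  Groth.Agent.Lib.Helper5.LocD Groth.Agent.Lib.Helper5.HomBC

section Mod

variable {A : Type u} [CommRing A] (B : Type u) [CommRing B] [Algebra A B]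

lemma gam_precomp {M' M : ModuleCat.{u} A} (N : ModuleCat.{u} A) (v : M' ⟶ M)
    (x : B ⊗[A] (M ⟶ N)) :
    gam B M' N (LinearMap.lTensor B (Linear.leftComp A N v) x) =
      (ext A B).map v ≫ gam B M N x := by
  induction x using TensorProduct.induction_on with
  | zero => rw [map_zero, map_zero, map_zero, comp_zero]
  | tmul b g =>
    rw [LinearMap.lTensor_tmul, gam_tmul, gam_tmul, Linear.leftComp_apply, Functor.map_comp,
      Linear.comp_smul]
  | add x y hx hy => rw [map_add, map_add, hx, hy, map_add, Preadditive.comp_add]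

/-- bijectivity of `gam` passes to retracts of the source. -/
theorem gam_bijective_of_retract {M F N : ModuleCat.{u} A} (i : M ⟶ F) (r : F ⟶ M)
    (hir : i ≫ r = 𝟙 M) (hF : Function.Bijective (gam B F N)) :
    Function.Bijective (gam B M N) := by
  have hcomp : (Linear.leftComp A N i).comp (Linear.leftComp A N r) = LinearMap.id := by
    apply LinearMap.ext
    intro g
    rw [LinearMap.comp_apply, Linear.leftComp_apply, Linear.leftComp_apply, ← Category.assoc,
      hir, Category.id_comp, LinearMap.id_apply]
  have hid : ∀ x : B ⊗[A] (M ⟶ N),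
      LinearMap.lTensor B (Linear.leftComp A N i)
        (LinearMap.lTensor B (Linear.leftComp A N r) x) = x := by
    intro x
    rw [← LinearMap.lTensor_comp_apply, hcomp, LinearMap.lTensor_id, LinearMap.id_apply]
  constructor
  · intro x y hxy
    have h1 : gam B F N (LinearMap.lTensor B (Linear.leftComp A N r) x) =
        gam B F N (LinearMap.lTensor B (Linear.leftComp A N r) y) := by
      rw [gam_precomp, gam_precomp, hxy]
    have h2 := hF.1 h1
    calc x = _ := (hid x).symm
      _ = _ := by rw [h2]
      _ = y := hid y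
  · intro w
    obtain ⟨y, hy⟩ := hF.2 ((ext A B).map r ≫ w)
    refine ⟨LinearMap.lTensor B (Linear.leftComp A N i) y, ?_⟩
    rw [gam_precomp, hy, ← Category.assoc, ← Functor.map_comp, hir,
      CategoryTheory.Functor.map_id, Category.id_comp]

/-- the module level comparison map is bijective for a finite projective source. -/
theorem gam_bijective_of_projective (M N : ModuleCat.{u} A) [Module.Finite A M]
    [Module.Projective A M] : Function.Bijective (gam B M N) := by
  obtain ⟨n, f, g, -, -, hfg⟩ := Module.Finite.exists_comp_eq_id_of_projective A M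
  let F : ModuleCat.{u} A := ModuleCat.of A (Fin n → A)
  haveI : Module.Finite A F := inferInstanceAs (Module.Finite A (Fin n → A))
  haveI : Module.Free A F := inferInstanceAs (Module.Free A (Fin n → A))
  refine gam_bijective_of_retract B (F := F) (ModuleCat.ofHom g) (ModuleCat.ofHom f) ?_
    (gam_bijective B F N)
  rw [← ModuleCat.ofHom_comp, hfg]
  rfl

lemma projective_ext (M : ModuleCat.{u} A) [Module.Projective A M] :
    Module.Projective B ((ext A B).obj M) := by
  haveI : Module.Projective B (TensorProduct A B M) := inferInstance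
  exact Module.Projective.of_equiv (extEquiv (A := A) (B := B) M).symm

end Mod

section OneRing

variable {R : Type u} [CommRing R] (P E : CochainComplex (ModuleCat.{u} R) ℤ)

lemma cochain_eq_sum₂ (aP bP : ℤ) (hP : ∀ i : ℤ, i < aP ∨ bP < i → IsZero (P.X i)) (n : ℤ)
    (z : Cochain P E n) :
    z = ∑ p ∈ Finset.Icc aP bP, sing P E p n (z.v p (p + n) rfl) := by
  refine Cochain.ext _ _ (fun p q hpq => ?_)
  subst hpq
  show z.v p (p + n) rfl = piv P E p (p + n) rfl
    (∑ p' ∈ Finset.Icc aP bP, sing P E p' n (z.v p' (p' + n) rfl))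
  rw [map_sum]
  by_cases hp : p ∈ Finset.Icc aP bP
  · rw [Finset.sum_eq_single p
      (fun p' _ hne => piv_sing_ne P E p p' n _ (Ne.symm hne))
      (fun h => absurd hp h)]
    exact (piv_sing_self P E p n _).symm
  · rw [Finset.sum_eq_zero (fun p' hp' => piv_sing_ne P E p p' n _
      (fun h => hp (by rw [h]; exact hp')))]
    have hz : IsZero (P.X p) := by
      refine hP p ?_
      simp only [Finset.mem_Icc, not_and_or, not_le] at hp
      exact hp
    exact hz.eq_of_src _ _

lemma id_eq_sum₂ (aP bP : ℤ) (hP : ∀ i : ℤ, i < aP ∨ bP < i → IsZero (P.X i)) (n : ℤ) :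
    (LinearMap.id : Cochain P E n →ₗ[R] Cochain P E n) =
      ∑ p ∈ Finset.Icc aP bP, (sing P E p n).comp (piv P E p (p + n) rfl) := by
  apply LinearMap.ext
  intro z
  rw [LinearMap.id_apply, LinearMap.sum_apply]
  exact cochain_eq_sum₂ P E aP bP hP n z

end OneRing

section TwoRings

variable {A : Type u} [CommRing A] (B : Type u) [CommRing B] [Algebra A B]
  (P E : CochainComplex (ModuleCat.{u} A) ℤ)

theorem bet_injective₂ (aP bP : ℤ) (hP : ∀ i : ℤ, i < aP ∨ bP < i → IsZero (P.X i))
    (hγ : ∀ p q : ℤ, Function.Injective (gam B (P.X p) (E.X q))) (n : ℤ) :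
    Function.Injective (bet B P E n) := by
  rw [injective_iff_map_eq_zero]
  intro x hx
  have h1 : ∀ p : ℤ, LinearMap.lTensor B (piv P E p (p + n) rfl) x = 0 := fun p =>
    hγ _ _ (by
      rw [← bet_v, hx, Cochain.zero_v, map_zero]
      rfl)
  have h2 : x = LinearMap.lTensor B LinearMap.id x := by
    rw [LinearMap.lTensor_id, LinearMap.id_apply]
  have h3 : LinearMap.lTensor B (∑ p ∈ Finset.Icc aP bP,
      (sing P E p n).comp (piv P E p (p + n) rfl)) =
      ∑ p ∈ Finset.Icc aP bP,
        LinearMap.lTensor B ((sing P E p n).comp (piv P E p (p + n) rfl)) := by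
    simp only [← LinearMap.coe_lTensorHom, map_sum]
  rw [h2, id_eq_sum₂ P E aP bP hP n, h3, LinearMap.sum_apply]
  refine Finset.sum_eq_zero (fun p _ => ?_)
  rw [LinearMap.lTensor_comp_apply, h1, map_zero]

theorem bet_surjective₂ (aP bP : ℤ) (hP : ∀ i : ℤ, i < aP ∨ bP < i → IsZero (P.X i))
    (hγ : ∀ p q : ℤ, Function.Surjective (gam B (P.X p) (E.X q))) (n : ℤ) :
    Function.Surjective (bet B P E n) := by
  intro z'
  have hP' : ∀ i : ℤ, i < aP ∨ bP < i → IsZero (((eCx B).obj P).X i) := fun i hi =>
    (ext A B).map_isZero (hP i hi)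
  choose y hy using fun p : ℤ => hγ p (p + n) (z'.v p (p + n) rfl)
  refine ⟨∑ p ∈ Finset.Icc aP bP, LinearMap.lTensor B (sing P E p n) (y p), ?_⟩
  rw [map_sum]
  refine Eq.trans ?_ (cochain_eq_sum₂ ((eCx B).obj P) ((eCx B).obj E) aP bP hP' n z').symm
  refine Finset.sum_congr rfl (fun p _ => ?_)
  rw [bet_sing, hy]
  rfl

end TwoRings

section Flat

variable {A : Type u} [CommRing A] (B : Type u) [CommRing B] [Algebra A B] [Module.Flat A B]
  (P E : CochainComplex (ModuleCat.{u} A) ℤ)

theorem bcQ_bijective₂ (aP bP : ℤ) (hP : ∀ i : ℤ, i < aP ∨ bP < i → IsZero (P.X i))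
    (hfp : ∀ i : ℤ, Module.Finite A (P.X i) ∧ Module.Projective A (P.X i)) :
    Function.Bijective (bc B (Q.obj P) (Q.obj E)) := by
  haveI : P.IsKProjective := isKProjective_of_bddAbove P bP (fun i hi => hP i (Or.inr hi))
    (fun i => (hfp i).2)
  haveI : ((eCx B).obj P).IsKProjective := isKProjective_of_bddAbove _ bP
    (fun i hi => (ext A B).map_isZero (hP i (Or.inr hi)))
    (fun i => by
      haveI := (hfp i).2
      exact projective_ext B (P.X i))
  have hγ : ∀ p q : ℤ, Function.Bijective (gam B (P.X p) (E.X q)) := fun p q => by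
    haveI := (hfp p).1
    haveI := (hfp p).2
    exact gam_bijective_of_projective B _ _
  have hβi : ∀ n : ℤ, Function.Injective (bet B P E n) := fun n =>
    bet_injective₂ B P E aP bP hP (fun p q => (hγ p q).1) n
  have hβs : ∀ n : ℤ, Function.Surjective (bet B P E n) := fun n =>
    bet_surjective₂ B P E aP bP hP (fun p q => (hγ p q).2) n
  have hZs : Function.Surjective (betZ B P E) := by
    intro z'
    obtain ⟨w, hw⟩ := hβs 0 z'.1
    have h1 : LinearMap.lTensor B (δ_hom A P E 0 1) w = 0 := by
      apply hβi 1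
      rw [← bet_δ, hw, map_zero]
      exact (mem_Z0 _ _ z'.1).1 z'.2
    have hex : Function.Exact (LinearMap.lTensor B (Z0 P E).subtype)
        (LinearMap.lTensor B (δ_hom A P E 0 1)) :=
      Module.Flat.lTensor_exact B (exact_subtype_δ P E)
    obtain ⟨w₀, hw₀⟩ := (hex w).1 h1
    refine ⟨w₀, Subtype.ext ?_⟩
    rw [betZ_coe, hw₀, hw]
  constructor
  · rw [injective_iff_map_eq_zero]
    intro x hx
    obtain ⟨w₀, rfl⟩ := LinearMap.lTensor_surjective B (qZ_surjective P E) x
    have h1 : qZ _ _ (betZ B P E w₀) = 0 := by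
      rw [← HomBC.star, hx, zero_comp, comp_zero]
    obtain ⟨h', hh'⟩ := exists_of_qZ_eq_zero _ _ _ h1
    obtain ⟨v, rfl⟩ := hβs (-1) h'
    have h2 : LinearMap.lTensor B (Z0 P E).subtype w₀ =
        LinearMap.lTensor B (δ_hom A P E (-1) 0) v := by
      apply hβi 0
      rw [← bet_δ, hh', betZ_coe]
    have h3 : w₀ = LinearMap.lTensor B (dZ P E) v := by
      apply Module.Flat.lTensor_preserves_injective_linearMap (M := B) (Z0 P E).subtype
        (Z0 P E).injective_subtype
      rw [h2, ← LinearMap.lTensor_comp_apply, subtype_comp_dZ]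
    rw [h3, ← LinearMap.lTensor_comp_apply, qZ_comp_dZ, LinearMap.lTensor_zero,
      LinearMap.zero_apply]
  · intro u'
    obtain ⟨z', hz'⟩ := qZ_surjective ((eCx B).obj P) ((eCx B).obj E)
      ((mapQIso (ext A B) P).inv ≫ u' ≫ (mapQIso (ext A B) E).hom)
    obtain ⟨w₀, hw₀⟩ := hZs z'
    refine ⟨LinearMap.lTensor B (qZ P E) w₀, ?_⟩
    have h := HomBC.star B P E w₀
    rw [hw₀, hz'] at h
    have h5 := (cancel_epi (mapQIso (ext A B) P).inv).1 h
    exact (cancel_mono (mapQIso (ext A B) E).hom).1 h5

/-- flat base change of `Hom` out of a perfect object, no condition on the target. -/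
theorem bc_bijective_of_perfect {K : Dual.D A} (hK : DRing.IsPerfect A K) (Y : Dual.D A) :
    Function.Bijective (bc B K Y) := by
  obtain ⟨P, aP, bP, hP, hfp, ⟨eK⟩⟩ := hK
  let E := (Q : _ ⥤ Dual.D A).objPreimage Y
  let eY : (Q : _ ⥤ Dual.D A).obj E ≅ Y := Q.objObjPreimageIso Y
  exact tmap_bijective_of_iso _ _ eK eY (bcQ_bijective₂ B P E aP bP hP hfp)

end Flat

end Groth.Agent.Lib.Helper5.PfBC
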