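import Mathlib
import Groth.Agent.Lib.Helper1RelBC
import Groth.Agent.Lib.Helper1GlFib2
import Groth.Agent.Lib.Helper1TorD
set_option backward.isDefEq.respectTransparency.types false

/-!
# Base change of a quotient `P → A` along `R → k` (helper5)

`P → A` is a map of `R`-algebras and `k` an `R`-algebra.

* `bcResCxIso`: for a complex `G` of `A`-modules, `(k ⊗ P) ⊗_P G ≅ (k ⊗ A) ⊗_A G` as complexes of
  `k ⊗ P`-modules.
* `quasiIso_bcCx_of_flat`: base change `P → k ⊗_R P` preserves quasi-isomorphisms between bounded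
  above complexes of `P`-modules with `R`-flat terms.
-/

set_option autoImplicit false
set_option linter.style.haveILetI false
universe u
open CategoryTheory CategoryTheory.Limits TensorProduct
attribute [local instance] HasDerivedCategory.standard

namespace Groth.Agent.Lib.Helper5.RelDual

open DerivedCategory Groth.Agent.Lib.Helper1.RelBC Groth.Agent.Lib.Helper1.LDer
  Groth.Agent.Lib.Helper1.Tor Groth.Agent.Lib.Helper1.GlFib Groth.Agent.Lib.Helper1.Restrict
  Pretriangulated

attribute [local instance] Algebra.TensorProduct.rightAlgebra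

section Tm

variable {S T : Type u} [CommRing S] [CommRing T] (f : S →+* T) (M : ModuleCat.{u} S)

/-- pure tensors in the extension of scalars. -/
noncomputable def tm (t : T) (m : M) : ↑((ModuleCat.extendScalars.{u, u, u} f).obj M) :=
  @TensorProduct.tmul S _ _ _ _ _ (Module.compHom _ f) _ t m

lemma smul_tm (b t : T) (m : M) : b • tm f M t m = tm f M (b * t) m := rfl

lemma tm_add (t : T) (m m' : M) : tm f M t (m + m') = tm f M t m + tm f M t m' :=
  letI := Module.compHom T f
  TensorProduct.tmul_add _ _ _

lemma map_tm {M' : ModuleCat.{u} S} (g : M ⟶ M') (t : T) (m : M) :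
    ((ModuleCat.extendScalars.{u, u, u} f).map g).hom (tm f M t m) = tm f M' t (g.hom m) := rfl

lemma tm_induction {motive : ↑((ModuleCat.extendScalars.{u, u, u} f).obj M) → Prop}
    (z : ↑((ModuleCat.extendScalars.{u, u, u} f).obj M))
    (h0 : motive 0) (ht : ∀ t m, motive (tm f M t m))
    (ha : ∀ x y, motive x → motive y → motive (x + y)) : motive z :=
  letI := Module.compHom T f
  TensorProduct.induction_on z h0 ht ha

end Tm

section BCRes

variable (R k P A : Type u) [CommRing R] [CommRing k] [CommRing P] [CommRing A]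
  [Algebra R k] [Algebra R P] [Algebra R A] [Algebra P A] [IsScalarTower R P A]

/-- the induced map `k ⊗ P → k ⊗ A`. -/
noncomputable abbrev psiK : k ⊗[R] P →+* k ⊗[R] A :=
  (Algebra.TensorProduct.map (AlgHom.id k k) (IsScalarTower.toAlgHom R P A)).toRingHom

lemma psiK_tmul (c : k) (p : P) : psiK R k P A (c ⊗ₜ p) = c ⊗ₜ algebraMap P A p := rfl

lemma psiK_comp :
    (inr R k A).comp (algebraMap P A) = (psiK R k P A).comp (inr R k P) := by
  ext p
  rfl

lemma psiK_algebraMap (c : k) :
    psiK R k P A (algebraMap k (k ⊗[R] P) c) = algebraMap k (k ⊗[R] A) c := by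
  show psiK R k P A (c ⊗ₜ 1) = c ⊗ₜ 1
  rw [psiK_tmul, map_one]

variable {A}

/-- `x ↦ 1 ⊗ x`, as a `P`-linear map. -/
noncomputable def bcResUnit (X : ModuleCat.{u} A) :
    (ModuleCat.restrictScalars.{u} (algebraMap P A)).obj X ⟶
      (ModuleCat.restrictScalars.{u} (inr R k P)).obj
        ((ModuleCat.restrictScalars.{u} (psiK R k P A)).obj
          ((ModuleCat.extendScalars.{u, u, u} (inr R k A)).obj X)) :=
  (ModuleCat.restrictScalars.{u} (algebraMap P A)).map
      ((ModuleCat.extendRestrictScalarsAdj (inr R k A)).unit.app X) ≫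
    (ModuleCat.restrictScalarsComp'App (algebraMap P A) (inr R k A)
      ((inr R k A).comp (algebraMap P A)) rfl _).inv ≫
    (ModuleCat.restrictScalarsComp'App (inr R k P) (psiK R k P A)
      ((inr R k A).comp (algebraMap P A)) (psiK_comp R k P A) _).hom

/-- the comparison `(k ⊗ P) ⊗_P X ⟶ (k ⊗ A) ⊗_A X`. -/
noncomputable def bcResHom (X : ModuleCat.{u} A) :
    (ModuleCat.extendScalars.{u, u, u} (inr R k P)).obj
        ((ModuleCat.restrictScalars.{u} (algebraMap P A)).obj X) ⟶
      (ModuleCat.restrictScalars.{u} (psiK R k P A)).obj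
        ((ModuleCat.extendScalars.{u, u, u} (inr R k A)).obj X) :=
  ((ModuleCat.extendRestrictScalarsAdj (inr R k P)).homEquiv _ _).symm (bcResUnit R k P X)

lemma bcResHom_tm (X : ModuleCat.{u} A) (s : k ⊗[R] P) (x : X) :
    (bcResHom R k P X).hom (tm (inr R k P) ((ModuleCat.restrictScalars.{u} (algebraMap P A)).obj X)
      s x) = tm (inr R k A) X (psiK R k P A s) x := by
  have h : tm (inr R k A) X (psiK R k P A s) x =
      (psiK R k P A s) • tm (inr R k A) X 1 x := by rw [smul_tm, mul_one]
  rw [h]
  rfl

lemma bcResHom_naturality {X Y : ModuleCat.{u} A} (f : X ⟶ Y) :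
    (ModuleCat.extendScalars.{u, u, u} (inr R k P)).map
        ((ModuleCat.restrictScalars.{u} (algebraMap P A)).map f) ≫ bcResHom R k P Y =
      bcResHom R k P X ≫ (ModuleCat.restrictScalars.{u} (psiK R k P A)).map
        ((ModuleCat.extendScalars.{u, u, u} (inr R k A)).map f) := by
  apply ModuleCat.ExtendScalars.hom_ext
  intro x
  show (bcResHom R k P Y).hom (((ModuleCat.extendScalars.{u, u, u} (inr R k P)).map
      ((ModuleCat.restrictScalars.{u} (algebraMap P A)).map f)).hom
        (tm (inr R k P) ((ModuleCat.restrictScalars.{u} (algebraMap P A)).obj X) 1 x)) =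
    ((ModuleCat.extendScalars.{u, u, u} (inr R k A)).map f).hom
      ((bcResHom R k P X).hom
        (tm (inr R k P) ((ModuleCat.restrictScalars.{u} (algebraMap P A)).obj X) 1 x))
  rw [map_tm, bcResHom_tm, bcResHom_tm, map_tm]
  rfl

lemma bcEquiv_symm_tmul {S T : Type u} [CommRing S] [CommRing T] (f : S →+* T)
    (M : ModuleCat.{u} S) (t : T) (m : M) :
    letI := f.toAlgebra
    (bcEquiv f M).symm (t ⊗ₜ[S] m) = tm f M t m := rfl

lemma bcResHom_bijective (X : ModuleCat.{u} A) : Function.Bijective (bcResHom R k P X).hom := by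
  letI : Module R X := Module.compHom X (algebraMap R A)
  haveI : IsScalarTower R A X := IsScalarTower.of_algebraMap_smul (fun r m => rfl)
  letI : Module P X := Module.compHom X (algebraMap P A)
  haveI : IsScalarTower R P X := IsScalarTower.of_algebraMap_smul (fun r m => by
    show algebraMap P A (algebraMap R P r) • m = algebraMap R A r • m
    rw [← IsScalarTower.algebraMap_apply])
  let gA : ↑((ModuleCat.extendScalars.{u, u, u} (inr R k A)).obj X) ≃+ k ⊗[R] X :=
    (bcEquiv (inr R k A) X).toAddEquiv.trans
      (Algebra.IsPushout.cancelBaseChange R k A (k ⊗[R] A) X).toAddEquiv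
  let gP : ↑((ModuleCat.extendScalars.{u, u, u} (inr R k P)).obj
      ((ModuleCat.restrictScalars.{u} (algebraMap P A)).obj X)) ≃+ k ⊗[R] X :=
    (bcEquiv (inr R k P) ((ModuleCat.restrictScalars.{u} (algebraMap P A)).obj X)).toAddEquiv.trans
      (Algebra.IsPushout.cancelBaseChange R k P (k ⊗[R] P) X).toAddEquiv
  have key : ∀ z : k ⊗[R] X, (bcResHom R k P X).hom (gP.symm z) = gA.symm z := by
    intro z
    induction z using TensorProduct.induction_on with
    | zero =>
      exact ((congrArg (bcResHom R k P X).hom (map_zero gP.symm)).trans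
        (map_zero (bcResHom R k P X).hom)).trans (map_zero gA.symm).symm
    | add x y hx hy =>
      exact ((congrArg (bcResHom R k P X).hom (map_add gP.symm x y)).trans
        (map_add (bcResHom R k P X).hom _ _)).trans
        ((congrArg₂ (· + ·) hx hy).trans (map_add gA.symm x y).symm)
    | tmul c x =>
      have h1 : gP.symm (c ⊗ₜ[R] x) = tm (inr R k P)
          ((ModuleCat.restrictScalars.{u} (algebraMap P A)).obj X)
          (algebraMap k (k ⊗[R] P) c) x := by
        show (bcEquiv (inr R k P) ((ModuleCat.restrictScalars.{u} (algebraMap P A)).obj X)).symm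
          ((Algebra.IsPushout.cancelBaseChange R k P (k ⊗[R] P) X).symm (c ⊗ₜ[R] x)) = _
        rw [Algebra.IsPushout.cancelBaseChange_symm_tmul]
        rfl
      have h2 : gA.symm (c ⊗ₜ[R] x) = tm (inr R k A) X (algebraMap k (k ⊗[R] A) c) x := by
        show (bcEquiv (inr R k A) X).symm
          ((Algebra.IsPushout.cancelBaseChange R k A (k ⊗[R] A) X).symm (c ⊗ₜ[R] x)) = _
        rw [Algebra.IsPushout.cancelBaseChange_symm_tmul]
        rfl
      rw [h1, h2, bcResHom_tm, psiK_algebraMap]
  have hfun : ∀ t, (bcResHom R k P X).hom t = gA.symm (gP t) := fun t => by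
    rw [← key (gP t), AddEquiv.symm_apply_apply]
  constructor
  · intro t t' h
    rw [hfun, hfun] at h
    exact gP.injective (gA.symm.injective h)
  · intro y
    refine ⟨gP.symm (gA y), ?_⟩
    rw [hfun, AddEquiv.apply_symm_apply, AddEquiv.symm_apply_apply]

/-- `(k ⊗ P) ⊗_P X ≅ (k ⊗ A) ⊗_A X`. -/
noncomputable def bcResIso (X : ModuleCat.{u} A) :
    (ModuleCat.extendScalars.{u, u, u} (inr R k P)).obj
        ((ModuleCat.restrictScalars.{u} (algebraMap P A)).obj X) ≅
      (ModuleCat.restrictScalars.{u} (psiK R k P A)).obj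
        ((ModuleCat.extendScalars.{u, u, u} (inr R k A)).obj X) :=
  haveI : IsIso (bcResHom R k P X) :=
    (ConcreteCategory.isIso_iff_bijective _).2 (bcResHom_bijective R k P X)
  asIso (bcResHom R k P X)

/-- `(k ⊗ P) ⊗_P G ≅ (k ⊗ A) ⊗_A G` for a complex `G` of `A`-modules. -/
noncomputable def bcResCxIso (G : DRing.Cx A) :
    (bcCx (inr R k P)).obj ((DRing.restrictCx (algebraMap P A)).obj G) ≅
      (DRing.restrictCx (psiK R k P A)).obj ((bcCx (inr R k A)).obj G) :=
  HomologicalComplex.Hom.isoOfComponents (fun i => bcResIso R k P (G.X i))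
    (fun i j _ => (bcResHom_naturality R k P (G.d i j)).symm)

end BCRes

section QisBC

variable (R k : Type u) {P : Type u} [CommRing R] [CommRing k] [CommRing P]
  [Algebra R k] [Algebra R P]

/-- base change along `P → k ⊗_R P` preserves quasi-isomorphisms between bounded above
complexes whose terms are flat over `R`. -/
theorem quasiIso_bcCx_of_flat {K L : DRing.Cx P} (u : K ⟶ L) [QuasiIso u] (bK bL : ℤ)
    (hK : DRing.VanishesAbove K bK) (hL : DRing.VanishesAbove L bL)
    (hKf : DRing.TermwiseFlat ((DRing.restrictCx (algebraMap R P)).obj K))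
    (hLf : DRing.TermwiseFlat ((DRing.restrictCx (algebraMap R P)).obj L)) :
    QuasiIso ((bcCx (inr R k P)).map u) := by
  -- the restriction of `u` to `R`
  let uR := (DRing.restrictCx (algebraMap R P)).map u
  have hu : IsIso (Q.map u) := (DerivedCategory.isIso_Q_map_iff_quasiIso _ _).2 inferInstance
  have huR : IsIso (Q.map uR) := by
    have h1 : IsIso ((DRing.restrictD (algebraMap R P)).map (Q.map u)) := inferInstance
    have h2 := (Functor.mapDerivedCategoryFactors
      (ModuleCat.restrictScalars.{u} (algebraMap R P))).hom.naturality u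
    have h3 : Q.map uR = (restrictQIso (algebraMap R P) K).inv ≫
        (DRing.restrictD (algebraMap R P)).map (Q.map u) ≫
          (restrictQIso (algebraMap R P) L).hom := by
      rw [← cancel_epi (restrictQIso (algebraMap R P) K).hom, Iso.hom_inv_id_assoc]
      exact h2.symm
    rw [h3]
    infer_instance
  have hvK : DRing.VanishesAbove ((DRing.restrictCx (algebraMap R P)).obj K) bK :=
    fun i hi => (ModuleCat.restrictScalars.{u} (algebraMap R P)).map_isZero (hK i hi)
  have hvL : DRing.VanishesAbove ((DRing.restrictCx (algebraMap R P)).obj L) bL :=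
    fun i hi => (ModuleCat.restrictScalars.{u} (algebraMap R P)).map_isZero (hL i hi)
  -- tensoring with `k` over `R`
  let M : ModuleCat.{u} R := RN (R := R) (ModuleCat.of k k)
  have h1 : IsIso (Q.map ((TC M).map uR)) := isIso_Q_map_TC uR bK bL hvK hvL hKf hLf huR M
  have hz1 : IsZero (Q.obj (CochainComplex.mappingCone ((TC M).map uR))) :=
    (Triangle.isZero₃_iff_isIso₁ _
      (DerivedCategory.mappingCone_triangle_distinguished ((TC M).map uR))).2 h1
  let C := CochainComplex.mappingCone u
  let e1 : (DRing.restrictCx (algebraMap R P)).obj C ≅ CochainComplex.mappingCone uR :=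
    CochainComplex.mappingCone.mapHomologicalComplexIso u
      (ModuleCat.restrictScalars.{u} (algebraMap R P))
  let e2 : (TC M).obj (CochainComplex.mappingCone uR) ≅
      CochainComplex.mappingCone ((TC M).map uR) :=
    CochainComplex.mappingCone.mapHomologicalComplexIso uR (T M)
  have hex1 : ∀ i : ℤ,
      ((TC M).obj ((DRing.restrictCx (algebraMap R P)).obj C)).ExactAt i := fun i =>
    exactAt_of_Q_iso (Q.mapIso ((TC M).mapIso e1 ≪≫ e2)).symm i (exactAt_of_isZero_Q _ hz1 i)
  have hex2 : ∀ i : ℤ, ((bcCx (inr R k P)).obj C).ExactAt i := fun i =>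
    (exactAt_restrict_iff (algebraMap k (k ⊗[R] P)) _ i).1
      (exactAt_of_TC_unit _ i (exactAt_TC_res_bc C (ModuleCat.of k k) i (hex1 i)))
  have hz2 : IsZero (Q.obj ((bcCx (inr R k P)).obj C)) := isZero_Q_of_exactAt _ hex2
  let e3 : (bcCx (inr R k P)).obj C ≅
      CochainComplex.mappingCone ((bcCx (inr R k P)).map u) :=
    CochainComplex.mappingCone.mapHomologicalComplexIso u
      (ModuleCat.extendScalars.{u, u, u} (inr R k P))
  have hz3 : IsZero (Q.obj (CochainComplex.mappingCone ((bcCx (inr R k P)).map u))) :=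
    hz2.of_iso (Q.mapIso e3).symm
  have h4 : IsIso (Q.map ((bcCx (inr R k P)).map u)) :=
    (Triangle.isZero₃_iff_isIso₁ _
      (DerivedCategory.mappingCone_triangle_distinguished ((bcCx (inr R k P)).map u))).1 hz3
  exact (DerivedCategory.isIso_Q_map_iff_quasiIso _ _).1 h4

end QisBC

end Groth.Agent.Lib.Helper5.RelDual
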