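import Mathlib
import Groth.Agent.Lib.Helper10DualCx
import Groth.Agent.Lib.Helper5RelDualC
set_option backward.isDefEq.respectTransparency.types false

/-!
# Base change of the dual of a bounded complex of finite projective modules (helper5)

* `dualBC_bijective`: `B ⊗_A Hom_A(M, A) → Hom_B(B ⊗_A M, B)` is bijective for `M` finite
  projective.
* `bcDualIso`: `B ⊗_A Hom•(F, A) ≅ Hom•(B ⊗_A F, B)` for a complex `F` of finite projective
  modules.
* `isIso_of_isIso_restrictD`: restriction of scalars on derived categories reflects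
  isomorphisms.
-/

set_option autoImplicit false
set_option linter.style.haveILetI false
universe u
open CategoryTheory CategoryTheory.Limits TensorProduct
attribute [local instance] HasDerivedCategory.standard

namespace Groth.Agent.Lib.Helper5.RelDual

open CochainComplex.HomComplex Groth.Agent.Lib.Helper10.DualCx Groth.Agent.Lib.Helper1.LDer

section DualBC

variable (A B : Type u) [CommRing A] [CommRing B] [Algebra A B]

/-- the base change map for duals. -/
noncomputable def dualBC (M : Type u) [AddCommGroup M] [Module A M] :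
    B ⊗[A] (Module.Dual A M) →ₗ[B] Module.Dual B (B ⊗[A] M) :=
  (Module.Dual.baseChange B : Module.Dual A M →ₗ[A] Module.Dual B (B ⊗[A] M)).liftBaseChange B

lemma dualBC_tmul (M : Type u) [AddCommGroup M] [Module A M] (t : B) (f : Module.Dual A M) :
    dualBC A B M (t ⊗ₜ[A] f) = t • Module.Dual.baseChange B f := rfl

lemma dualBC_nat {M N : Type u} [AddCommGroup M] [Module A M] [AddCommGroup N] [Module A N]
    (g : M →ₗ[A] N) (z : B ⊗[A] Module.Dual A N) :
    dualBC A B M ((g.dualMap.baseChange B) z) = (dualBC A B N z) ∘ₗ (g.baseChange B) := by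
  induction z using TensorProduct.induction_on with
  | zero => rw [map_zero, map_zero, map_zero, LinearMap.zero_comp]
  | add x y hx hy => rw [map_add, map_add, map_add, hx, hy, LinearMap.add_comp]
  | tmul t f =>
    rw [LinearMap.baseChange_tmul, dualBC_tmul, dualBC_tmul]
    refine LinearMap.ext fun x => ?_
    induction x using TensorProduct.induction_on with
    | zero => rw [map_zero, map_zero]
    | add x y hx hy => rw [map_add, map_add, hx, hy]
    | tmul b m =>
      simp only [LinearMap.smul_apply, LinearMap.comp_apply, LinearMap.baseChange_tmul,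
        Module.Dual.baseChange_apply_tmul, LinearMap.dualMap_apply]

theorem dualBC_bijective_of_free (M : Type u) [AddCommGroup M] [Module A M] [Module.Free A M]
    [Module.Finite A M] : Function.Bijective (dualBC A B M) := by
  have h : ∀ z, dualBC A B M z = (TensorProduct.isBaseChange A M B).toDualBaseChange z := by
    intro z
    induction z using TensorProduct.induction_on with
    | zero => rw [map_zero, map_zero]
    | add x y hx hy => rw [map_add, map_add, hx, hy]
    | tmul t f =>
      refine LinearMap.ext fun x => ?_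
      induction x using TensorProduct.induction_on with
      | zero => rw [map_zero, map_zero]
      | add x y hx hy => rw [map_add, map_add, hx, hy]
      | tmul b m =>
        have hb : b ⊗ₜ[A] m = b • ((TensorProduct.mk A B M 1) m) := by
          rw [TensorProduct.mk_apply, TensorProduct.smul_tmul', smul_eq_mul, mul_one]
        rw [hb, map_smul, map_smul, IsBaseChange.toDualBaseChange_tmul, dualBC_tmul,
          LinearMap.smul_apply, TensorProduct.mk_apply, Module.Dual.baseChange_apply_tmul]
        congr 1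
        rw [smul_eq_mul, Algebra.smul_def, mul_one]
  have h' : ⇑(dualBC A B M) = ⇑(TensorProduct.isBaseChange A M B).toDualBaseChange :=
    funext h
  rw [h']
  exact LinearEquiv.bijective _

theorem dualBC_bijective (M : Type u) [AddCommGroup M] [Module A M] [Module.Finite A M]
    [Module.Projective A M] : Function.Bijective (dualBC A B M) := by
  obtain ⟨n, f, g, -, -, hfg⟩ := Module.Finite.exists_comp_eq_id_of_projective A M
  have hfree := dualBC_bijective_of_free A B (Fin n → A)
  have hid : (g.dualMap.baseChange B) ∘ₗ (f.dualMap.baseChange B) = LinearMap.id := by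
    rw [← LinearMap.baseChange_comp, LinearMap.dualMap_comp_dualMap, hfg,
      LinearMap.dualMap_id, LinearMap.baseChange_id]
  have hid' : (f.baseChange B) ∘ₗ (g.baseChange B) = LinearMap.id := by
    rw [← LinearMap.baseChange_comp, hfg, LinearMap.baseChange_id]
  constructor
  · rw [injective_iff_map_eq_zero]
    intro z hz
    have h1 : dualBC A B (Fin n → A) ((f.dualMap.baseChange B) z) = 0 := by
      rw [dualBC_nat, hz, LinearMap.zero_comp]
    have h2 : (f.dualMap.baseChange B) z = 0 :=
      (injective_iff_map_eq_zero _).1 hfree.1 _ h1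
    have h3 := congrArg (fun φ => φ z) hid
    simp only [LinearMap.comp_apply, LinearMap.id_apply] at h3
    rw [← h3, h2, map_zero]
  · intro φ
    obtain ⟨w, hw⟩ := hfree.2 (φ ∘ₗ (f.baseChange B))
    refine ⟨(g.dualMap.baseChange B) w, ?_⟩
    rw [dualBC_nat, hw, LinearMap.comp_assoc, hid', LinearMap.comp_id]

end DualBC

section BCDual

variable {A B : Type u} [CommRing A] [CommRing B] (θ : A →+* B)

lemma linearMap_ext_tm {M : ModuleCat.{u} A} {N : Type u} [AddCommGroup N] [Module B N]
    {φ ψ : ((ModuleCat.extendScalars.{u, u, u} θ).obj M) →ₗ[B] N}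
    (h : ∀ t m, φ (tm θ M t m) = ψ (tm θ M t m)) : φ = ψ := by
  refine LinearMap.ext fun z => ?_
  refine tm_induction θ M (motive := fun z => φ z = ψ z) z ?_ h ?_
  · rw [map_zero, map_zero]
  · intro x y hx hy
    rw [map_add, map_add, hx, hy]

/-- the linear form on the extension of scalars induced by a linear form. -/
noncomputable def lam {M : ModuleCat.{u} A} (f : M →ₗ[A] A) :
    ((ModuleCat.extendScalars.{u, u, u} θ).obj M) →ₗ[B] B :=
  letI := θ.toAlgebra
  (Module.Dual.baseChange B f) ∘ₗ (bcEquiv θ M).toLinearMap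

lemma lam_tm {M : ModuleCat.{u} A} (f : M →ₗ[A] A) (t : B) (m : M) :
    lam θ f (tm θ M t m) = θ (f m) * t := by
  letI := θ.toAlgebra
  show Module.Dual.baseChange B f (t ⊗ₜ[A] m) = _
  rw [Module.Dual.baseChange_apply_tmul, Algebra.smul_def]
  rfl

lemma lam_units_smul {M : ModuleCat.{u} A} (u : ℤˣ) (f : M →ₗ[A] A) :
    lam θ (u • f) = u • lam θ f := by
  apply linearMap_ext_tm
  intro t m
  rcases Int.units_eq_one_or u with rfl | rfl
  · rw [one_smul, one_smul]
  · rw [Units.neg_smul, one_smul, Units.neg_smul, one_smul, LinearMap.neg_apply, lam_tm, lam_tm,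
      LinearMap.neg_apply, map_neg, neg_mul]

lemma lam_comp {M M' : ModuleCat.{u} A} (g : M' ⟶ M) (f : M →ₗ[A] A) :
    lam θ (f ∘ₗ g.hom) = lam θ f ∘ₗ ((ModuleCat.extendScalars.{u, u, u} θ).map g).hom := by
  apply linearMap_ext_tm
  intro t m
  rw [lam_tm, LinearMap.comp_apply, LinearMap.comp_apply, map_tm, lam_tm]

/-- the termwise comparison `B ⊗ Hom(F^p, A) ≃ Hom(B ⊗ F^p, B)`. -/
noncomputable def bcDualEquiv (F : DRing.Cx A) {p i : ℤ} (h : p + i = 0)
    [Module.Finite A (F.X p)] [Module.Projective A (F.X p)] :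
    ((ModuleCat.extendScalars.{u, u, u} θ).obj ((D F).X i)) ≃ₗ[B]
      ((D ((bcCx θ).obj F)).X i) :=
  letI := θ.toAlgebra
  (bcEquiv θ ((D F).X i)) ≪≫ₗ (LinearEquiv.baseChange A B _ _ (tau F h)) ≪≫ₗ
    (LinearEquiv.ofBijective (dualBC A B (F.X p)) (dualBC_bijective A B (F.X p))) ≪≫ₗ
    (bcEquiv θ (F.X p)).dualMap ≪≫ₗ (tau ((bcCx θ).obj F) h).symm

lemma bcDualEquiv_tm (F : DRing.Cx A) {p i : ℤ} (h : p + i = 0)
    [Module.Finite A (F.X p)] [Module.Projective A (F.X p)] (t : B)
    (α : Cochain F (S A) i) :
    bcDualEquiv θ F h (tm θ ((D F).X i) t α) =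
      (tau ((bcCx θ).obj F) h).symm (t • lam θ (tau F h α)) := by
  letI := θ.toAlgebra
  show (tau ((bcCx θ).obj F) h).symm ((bcEquiv θ (F.X p)).dualMap
    (dualBC A B (F.X p) (t ⊗ₜ[A] (tau F h α)))) = _
  rw [dualBC_tmul, map_smul]
  rfl

/-- `B ⊗_A Hom•(F, A) ≅ Hom•(B ⊗_A F, B)`. -/
noncomputable def bcDualIso (F : DRing.Cx A) (hfp : DRing.TermwiseFiniteProjective F) :
    (bcCx θ).obj (D F) ≅ D ((bcCx θ).obj F) :=
  HomologicalComplex.Hom.isoOfComponents
    (fun i =>
      haveI := (hfp (-i)).1
      haveI := (hfp (-i)).2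
      (bcDualEquiv θ F (show -i + i = 0 by omega)).toModuleIso)
    (by
      intro i j hij
      haveI := (hfp (-i)).1
      haveI := (hfp (-i)).2
      haveI := (hfp (-j)).1
      haveI := (hfp (-j)).2
      apply ModuleCat.ExtendScalars.hom_ext
      intro α
      show δ i j (bcDualEquiv θ F (show -i + i = 0 by omega) (tm θ ((D F).X i) 1 α)) =
        bcDualEquiv θ F (show -j + j = 0 by omega) (tm θ ((D F).X j) 1 (δ i j α))
      rw [bcDualEquiv_tm, bcDualEquiv_tm]
      apply (tau ((bcCx θ).obj F) (show -j + j = 0 by omega)).injective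
      rw [tau_δ _ (show -i + i = 0 by omega) (show -j + j = 0 by omega),
        LinearEquiv.apply_symm_apply, LinearEquiv.apply_symm_apply,
        tau_δ F (show -i + i = 0 by omega) (show -j + j = 0 by omega), one_smul, one_smul,
        lam_units_smul, lam_comp]
      rfl)

/-- base change commutes with the shift of complexes. -/
noncomputable def bcShiftIso (K : DRing.Cx A) (n : ℤ) :
    (bcCx θ).obj (K⟦n⟧) ≅ ((bcCx θ).obj K)⟦n⟧ :=
  ((ModuleCat.extendScalars.{u, u, u} θ).mapCochainComplexShiftIso n).app K

/-- `B ⊗_A Hom•(F, A)[n] ≅ Hom•(B ⊗_A F, B)[n]`. -/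
noncomputable def bcDualShiftIso (F : DRing.Cx A) (hfp : DRing.TermwiseFiniteProjective F)
    (n : ℤ) : (bcCx θ).obj ((D F)⟦n⟧) ≅ (D ((bcCx θ).obj F))⟦n⟧ :=
  bcShiftIso θ (D F) n ≪≫
    (shiftFunctor (CochainComplex (ModuleCat.{u} B) ℤ) n).mapIso (bcDualIso θ F hfp)

end BCDual

section Reflect

open DerivedCategory Pretriangulated Groth.Agent.Lib.Helper1.Restrict

variable {A B : Type u} [CommRing A] [CommRing B] (φ : A →+* B)

/-- restriction of scalars on derived categories reflects isomorphisms. -/
theorem isIso_of_isIso_restrictD {X Y : Dual.D B} (g : X ⟶ Y)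
    (hg : IsIso ((DRing.restrictD φ).map g)) : IsIso g := by
  obtain ⟨Z, v, w, hT⟩ := distinguished_cocone_triangle g
  have hT' := (DRing.restrictD φ).map_distinguished _ hT
  have hz : IsZero ((DRing.restrictD φ).obj Z) :=
    (Triangle.isZero₃_iff_isIso₁ _ hT').2 hg
  have h1 : ((DRing.restrictD φ).obj Z).IsLE 0 :=
    (DerivedCategory.TStructure.t).isLE_of_isZero hz 0
  have h2 : ((DRing.restrictD φ).obj Z).IsGE 1 :=
    (DerivedCategory.TStructure.t).isGE_of_isZero hz 1
  rw [isLE_restrictD_iff] at h1
  rw [isGE_restrictD_iff] at h2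
  have hZ : IsZero Z := (DerivedCategory.TStructure.t).isZero Z 0 1 (by simp)
  exact (Triangle.isZero₃_iff_isIso₁ _ hT).1 hZ

end Reflect

end Groth.Agent.Lib.Helper5.RelDual
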