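import Mathlib
import Groth.Agent.Lib.Helper5RelDualB
import Groth.Agent.Lib.Helper5RelDualD
import Groth.Agent.Lib.Helper5FTD
import Groth.Agent.Lib.Helper5HomBCD
import Groth.Agent.Lib.Helper1RelPC
import Groth.Agent.Lib.Helper1PC
import Groth.Agent.Lib.Helper17DRingAdj3
import Groth.Agent.S6954
set_option backward.isDefEq.respectTransparency.types false

/-!
# The relative dualizing complex of a flat finite type algebra: coherence, perfectness over the
base, and endomorphisms (helper5)

`P → A` is a surjection, `Rr` a right adjoint of restriction of scalars `D(A) ⥤ D(P)` and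
`T : PerfRes P A` a bounded resolution of `A` by finite projective `P`-modules.  For `Y' ≅ P` put
`W = Rr(Y')[n]`.

* `nonempty_perfRes_of_flat`: such a resolution exists when `P = R[x_1, …, x_n]`, `R → A` flat,
  `R` Noetherian.
* `nonempty_restrict_shriek_iso`: `W` restricted to `P` is `Hom•(F, P)[n]`.
* `shriek_bounded_finite`, `shriek_finiteTorDim`, `shriek_selfRefl`.
-/

set_option autoImplicit false
set_option linter.style.haveILetI false
universe u
open CategoryTheory CategoryTheory.Limits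
attribute [local instance] HasDerivedCategory.standard

namespace Groth.Agent.Lib.Helper5.RelDual

open DerivedCategory HomologicalComplex CochainComplex.HomComplex
  Groth.Agent.Lib.Helper1.DT Groth.Agent.Lib.Helper10.DualCx Groth.Agent.Lib.Helper5.Coext
  Groth.Agent.Lib.Helper1.Restrict Groth.Agent.Lib.Helper1.RelPC

/-- a bounded resolution of `A` by finite projective `P`-modules. -/
structure PerfRes (P A : Type u) [CommRing P] [CommRing A] [Algebra P A] where
  /-- the complex -/
  F : DRing.Cx P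
  /-- lower bound -/
  a : ℤ
  /-- upper bound -/
  b : ℤ
  van : DRing.VanishesOutside F a b
  fp : DRing.TermwiseFiniteProjective F
  /-- the augmentation -/
  aF : F ⟶ sgl (Bm P A)
  qi : QuasiIso aF

lemma PerfRes.isKProjective {P A : Type u} [CommRing P] [CommRing A] [Algebra P A]
    (T : PerfRes P A) : T.F.IsKProjective :=
  isKProjective_of_vanishesOutside T.F T.a T.b T.van (fun i => (T.fp i).2)

/-- a flat finite type algebra is perfect over a polynomial ring mapping onto it. -/
theorem nonempty_perfRes_of_flat (R A : Type u) [CommRing R] [CommRing A] [IsNoetherianRing R]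
    [Algebra R A] [Module.Flat R A] (n : ℕ) (ψ : MvPolynomial (Fin n) R →ₐ[R] A)
    (hψ : Function.Surjective ψ) :
    letI := ψ.toRingHom.toAlgebra
    Nonempty (PerfRes (MvPolynomial (Fin n) R) A) := by
  letI : Algebra (MvPolynomial (Fin n) R) A := ψ.toRingHom.toAlgebra
  haveI : Module.Finite (MvPolynomial (Fin n) R) A :=
    Module.Finite.of_surjective (Algebra.linearMap (MvPolynomial (Fin n) R) A) hψ
  have hta := Groth.Agent.Lib.Helper5.FTD.hasTorAmp_pres ψ 0
    ((Groth.Agent.Lib.Helper1.TorDim.hasTorDimLE_zero_iff_flat A).mpr inferInstance)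
  have hpc := Groth.Agent.Lib.Helper5.HomBC.pc'_inD_of_finite (A := MvPolynomial (Fin n) R) A
  obtain ⟨F, a, b, hF, hfp, ⟨e⟩⟩ :=
    (Groth.Agent.S6954.result (MvPolynomial (Fin n) R) _).mpr ⟨hpc, _, _, hta⟩
  haveI : F.IsKProjective := isKProjective_of_vanishesOutside F a b hF (fun i => (hfp i).2)
  let t : Dual.inD (MvPolynomial (Fin n) R) A ≅
      Q.obj (sgl (Bm (MvPolynomial (Fin n) R) A)) :=
    (DerivedCategory.singleFunctor (ModuleCat.{u} (MvPolynomial (Fin n) R)) 0).mapIso
        (Groth.Agent.Lib.Helper17.DRingAdj.resSelfIso (A := MvPolynomial (Fin n) R)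
          (B := A)).symm ≪≫
      (singleFunctorIsoCompQ (ModuleCat.{u} (MvPolynomial (Fin n) R)) 0).app _
  obtain ⟨aF, haF⟩ := Q_map_surjective F (sgl (Bm (MvPolynomial (Fin n) R) A)) (e.hom ≫ t.hom)
  haveI : IsIso (Q.map aF) := by rw [haF]; infer_instance
  haveI : QuasiIso aF := (DerivedCategory.isIso_Q_map_iff_quasiIso _ _).1 inferInstance
  exact ⟨⟨F, a, b, hF, hfp, aF, inferInstance⟩⟩

section Shift

variable {P : Type u} [CommRing P]

lemma vanishesOutside_shift (K : DRing.Cx P) (a b n : ℤ) (h : DRing.VanishesOutside K a b) :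
    DRing.VanishesOutside (K⟦n⟧) (a - n) (b - n) := fun i hi => h (i + n) (by omega)

lemma termwiseFiniteProjective_shift (K : DRing.Cx P) (n : ℤ)
    (h : DRing.TermwiseFiniteProjective K) : DRing.TermwiseFiniteProjective (K⟦n⟧) :=
  fun i => h (i + n)

end Shift

section Flat

lemma flat_restrictScalars_of_flat {R P : Type u} [CommRing R] [CommRing P] [Algebra R P]
    [Module.Flat R P] (M : ModuleCat.{u} P) [Module.Flat P M] :
    Module.Flat R ((ModuleCat.restrictScalars.{u} (algebraMap R P)).obj M) := by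
  letI : Module R M := Module.compHom M (algebraMap R P)
  haveI : IsScalarTower R P M := IsScalarTower.of_algebraMap_smul (fun r m => rfl)
  exact Module.Flat.trans R P M

lemma flat_restrict_restrict {R P A : Type u} [CommRing R] [CommRing P] [CommRing A]
    [Algebra R P] [Algebra R A] [Algebra P A] [IsScalarTower R P A] [Module.Flat R A]
    (M : ModuleCat.{u} A) [Module.Flat A M] :
    Module.Flat R ((ModuleCat.restrictScalars.{u} (algebraMap R P)).obj
      ((ModuleCat.restrictScalars.{u} (algebraMap P A)).obj M)) := by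
  letI : Module R M := Module.compHom M (algebraMap R A)
  haveI : IsScalarTower R A M := IsScalarTower.of_algebraMap_smul (fun r m => rfl)
  haveI : Module.Flat R M := Module.Flat.trans R A M
  let e : ((ModuleCat.restrictScalars.{u} (algebraMap R P)).obj
      ((ModuleCat.restrictScalars.{u} (algebraMap P A)).obj M)) ≃ₗ[R] M :=
    { toFun := fun x => x
      invFun := fun x => x
      map_add' := fun _ _ => rfl
      map_smul' := fun r x => by
        show algebraMap P A (algebraMap R P r) • (show M from x) =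
          algebraMap R A r • (show M from x)
        rw [← IsScalarTower.algebraMap_apply]
      left_inv := fun _ => rfl
      right_inv := fun _ => rfl }
  exact Module.Flat.of_linearEquiv e

end Flat

section SelfRefl

variable {A : Type u} [CommRing A]

/-- `A → RHom(W, W)` is an isomorphism. -/
def SelfRefl (W : Dual.D A) : Prop :=
  Function.Bijective (fun a : A => a • 𝟙 W) ∧ ∀ i : ℤ, i ≠ 0 → Subsingleton (W ⟶ W⟦i⟧)

lemma selfRefl_of_iso {ω ω' : Dual.D A} (e : ω ≅ ω') (h : SelfRefl ω) : SelfRefl ω' := by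
  refine ⟨?_, fun i hi => ?_⟩
  · have hb := h.1
    have key : ∀ a : A, a • 𝟙 ω = e.hom ≫ (a • 𝟙 ω') ≫ e.inv := fun a => by
      rw [Linear.smul_comp, Linear.comp_smul, Category.id_comp, e.hom_inv_id]
    constructor
    · intro a a' haa
      have haa' : a • 𝟙 ω' = a' • 𝟙 ω' := haa
      apply hb.1
      show a • 𝟙 ω = a' • 𝟙 ω
      rw [key a, key a', haa']
    · intro t
      obtain ⟨a, ha⟩ := hb.2 (e.hom ≫ t ≫ e.inv)
      have ha' : a • 𝟙 ω = e.hom ≫ t ≫ e.inv := ha
      refine ⟨a, ?_⟩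
      show a • 𝟙 ω' = t
      have h2 : a • 𝟙 ω' = e.inv ≫ (a • 𝟙 ω) ≫ e.hom := by
        rw [Linear.smul_comp, Linear.comp_smul, Category.id_comp, e.inv_hom_id]
      rw [h2, ha', Category.assoc, Category.assoc, e.inv_hom_id, Category.comp_id,
        e.inv_hom_id_assoc]
  · haveI := h.2 i hi
    exact ⟨fun x y => by
      have h1 : e.hom ≫ x ≫ (e.inv⟦i⟧') = e.hom ≫ y ≫ (e.inv⟦i⟧') := Subsingleton.elim _ _
      exact (cancel_mono (e.inv⟦i⟧')).1 ((cancel_epi e.hom).1 h1)⟩

lemma selfRefl_shift {ω : Dual.D A} (hω : SelfRefl ω) (i : ℤ) : SelfRefl (ω⟦i⟧) := by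
  refine ⟨?_, fun j hj => ?_⟩
  · constructor
    · intro a b (h : a • 𝟙 (ω⟦i⟧) = b • 𝟙 (ω⟦i⟧))
      apply hω.1.1
      show a • 𝟙 ω = b • 𝟙 ω
      apply (shiftFunctor (DerivedCategory (ModuleCat.{u} A)) i).map_injective
      rw [Functor.map_smul, Functor.map_smul, CategoryTheory.Functor.map_id]
      exact h
    · intro φ
      obtain ⟨ψ, rfl⟩ := (shiftFunctor (DerivedCategory (ModuleCat.{u} A)) i).map_surjective φ
      obtain ⟨a, ha⟩ := hω.1.2 ψ
      have ha' : a • 𝟙 ω = ψ := ha
      refine ⟨a, ?_⟩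
      show a • 𝟙 (ω⟦i⟧) = (shiftFunctor (DerivedCategory (ModuleCat.{u} A)) i).map ψ
      rw [← ha', Functor.map_smul, CategoryTheory.Functor.map_id]
  · haveI := hω.2 j hj
    refine ⟨fun f₁ f₂ => ?_⟩
    suffices hf : ∀ f : ω⟦i⟧ ⟶ (ω⟦i⟧)⟦j⟧, f = 0 by rw [hf f₁, hf f₂]
    intro f
    let c : (ω⟦i⟧)⟦j⟧ ≅ (ω⟦j⟧)⟦i⟧ :=
      (shiftFunctorComm (DerivedCategory (ModuleCat.{u} A)) i j).app ω
    obtain ⟨ψ, hψ⟩ := (shiftFunctor (DerivedCategory (ModuleCat.{u} A)) i).map_surjective
      (f ≫ c.hom)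
    have h0 : ψ = 0 := Subsingleton.elim _ _
    rw [h0, Functor.map_zero] at hψ
    exact (cancel_mono c.hom).mp (hψ.symm.trans zero_comp.symm)

end SelfRefl

section Main

variable {P A : Type u} [CommRing P] [CommRing A] [Algebra P A]
  (Rr : Dual.D P ⥤ Dual.D A) (adj : DRing.restrictD (algebraMap P A) ⊣ Rr) (T : PerfRes P A)
  (Y' : Dual.D P) (eY : Y' ≅ Dual.inD P P) (n : ℤ)

include adj eY T in
/-- `Rr(P)[n]` restricted to `P` is `Hom•(F, P)[n]`. -/
theorem nonempty_restrict_shriek_iso :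
    Nonempty ((DRing.restrictD (algebraMap P A)).obj ((Rr.obj Y')⟦n⟧) ≅
      Q.obj ((D T.F)⟦n⟧)) := by
  haveI := T.isKProjective
  haveI := T.qi
  obtain ⟨e⟩ := nonempty_restrict_rightAdjoint_iso Rr adj T.F T.aF
  exact ⟨((DRing.restrictD (algebraMap P A)).commShiftIso n).app _ ≪≫
    (shiftFunctor (Dual.D P) n).mapIso
      ((DRing.restrictD (algebraMap P A)).mapIso (Rr.mapIso eY) ≪≫ e) ≪≫
    ((Q.commShiftIso n).app (D T.F)).symm⟩

include adj eY T in
/-- `Rr(P)[n]` is bounded with finite cohomology. -/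
theorem shriek_bounded_finite [IsNoetherianRing P] :
    (∃ a b : ℤ, ∀ i : ℤ, (i < a ∨ b < i) → Subsingleton (Dual.HD A ((Rr.obj Y')⟦n⟧) i)) ∧
      ∀ i : ℤ, Module.Finite A (Dual.HD A ((Rr.obj Y')⟦n⟧) i) := by
  obtain ⟨e⟩ := nonempty_restrict_shriek_iso Rr adj T Y' eY n
  have hK : DRing.VanishesOutside ((D T.F)⟦n⟧) (-T.b - n) (-T.a - n) :=
    vanishesOutside_shift _ _ _ n (vanishesOutside_D T.F T.a T.b T.van)
  have hKp : DRing.TermwiseFiniteProjective ((D T.F)⟦n⟧) :=
    termwiseFiniteProjective_shift _ n (termwiseFiniteProjective_D T.F T.fp)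
  constructor
  · refine ⟨-T.b - n, -T.a - n, fun i hi => ?_⟩
    haveI : ((D T.F)⟦n⟧).IsStrictlyGE (-T.b - n) := by
      rw [CochainComplex.isStrictlyGE_iff]
      exact fun i hi => hK i (Or.inl hi)
    haveI : ((D T.F)⟦n⟧).IsStrictlyLE (-T.a - n) := by
      rw [CochainComplex.isStrictlyLE_iff]
      exact fun i hi => hK i (Or.inr hi)
    have h1 : (Q.obj ((D T.F)⟦n⟧)).IsGE (-T.b - n) :=
      (DerivedCategory.isGE_Q_obj_iff _ _).2 inferInstance
    have h2 : (Q.obj ((D T.F)⟦n⟧)).IsLE (-T.a - n) :=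
      (DerivedCategory.isLE_Q_obj_iff _ _).2 inferInstance
    have h3 : ((DRing.restrictD (algebraMap P A)).obj ((Rr.obj Y')⟦n⟧)).IsGE (-T.b - n) :=
      (DerivedCategory.TStructure.t).isGE_of_iso e.symm _
    have h4 : ((DRing.restrictD (algebraMap P A)).obj ((Rr.obj Y')⟦n⟧)).IsLE (-T.a - n) :=
      (DerivedCategory.TStructure.t).isLE_of_iso e.symm _
    rw [isGE_restrictD_iff] at h3
    rw [isLE_restrictD_iff] at h4
    rcases hi with hi | hi
    · exact ModuleCat.subsingleton_of_isZero ((DerivedCategory.isGE_iff _ _).1 h3 i hi)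
    · exact ModuleCat.subsingleton_of_isZero ((DerivedCategory.isLE_iff _ _).1 h4 i hi)
  · intro i
    apply finite_homology_of_restrictD (algebraMap P A)
    haveI : Module.Finite P (((D T.F)⟦n⟧).X i) := (hKp i).1
    haveI : IsNoetherian P (((D T.F)⟦n⟧).X i) := isNoetherian_of_isNoetherianRing_of_finite P _
    haveI h5 : Module.Finite P ↑((HomologicalComplex.homologyFunctor (ModuleCat.{u} P)
        (ComplexShape.up ℤ) i).obj ((D T.F)⟦n⟧)) :=
      Groth.Agent.Lib.Helper1.PC.finite_homology_of_ker _ i inferInstance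
    exact Module.Finite.equiv
      ((homologyFunctor (ModuleCat.{u} P) i).mapIso e ≪≫
        (homologyFunctorFactors (ModuleCat.{u} P) i).app _).symm.toLinearEquiv

include adj eY T in
/-- `Rr(P)[n]` has finite tor dimension over a base `R` over which `P` is flat. -/
theorem shriek_finiteTorDim (R : Type u) [CommRing R] [Algebra R P] [Algebra R A]
    [IsScalarTower R P A] [Module.Flat R P] :
    DRing.HasFiniteTorDimCx R ((DRing.restrictD (algebraMap R A)).obj ((Rr.obj Y')⟦n⟧)) := by
  obtain ⟨e⟩ := nonempty_restrict_shriek_iso Rr adj T Y' eY n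
  have hK : DRing.VanishesOutside ((D T.F)⟦n⟧) (-T.b - n) (-T.a - n) :=
    vanishesOutside_shift _ _ _ n (vanishesOutside_D T.F T.a T.b T.van)
  have hKp : DRing.TermwiseFiniteProjective ((D T.F)⟦n⟧) :=
    termwiseFiniteProjective_shift _ n (termwiseFiniteProjective_D T.F T.fp)
  have hcomp : (algebraMap P A).comp (algebraMap R P) = algebraMap R A :=
    (IsScalarTower.algebraMap_eq R P A).symm
  rw [← hcomp]
  refine ⟨-T.b - n, -T.a - n, (DRing.restrictCx (algebraMap R P)).obj ((D T.F)⟦n⟧), ?_, ?_, ⟨?_⟩⟩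
  · intro i hi
    exact (ModuleCat.restrictScalars.{u} (algebraMap R P)).map_isZero (hK i hi)
  · intro i
    haveI : Module.Projective P (((D T.F)⟦n⟧).X i) := (hKp i).2
    exact flat_restrictScalars_of_flat (((D T.F)⟦n⟧).X i)
  · exact (restrictQIso (algebraMap R P) ((D T.F)⟦n⟧)).symm ≪≫
      (DRing.restrictD (algebraMap R P)).mapIso e.symm ≪≫
      restrictDCompIso (algebraMap R P) (algebraMap P A) _

include adj eY T in
/-- `A → RHom(W, W)` is an isomorphism for `W = Rr(P)[n]`. -/
theorem shriek_selfRefl (hsurj : Function.Surjective (algebraMap P A)) :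
    SelfRefl ((Rr.obj Y')⟦n⟧) := by
  haveI := T.isKProjective
  haveI := T.qi
  obtain ⟨e⟩ := nonempty_restrict_rightAdjoint_iso Rr adj T.F T.aF
  obtain ⟨⟨l⟩, h2⟩ := hom_rightAdjoint Rr adj hsurj T.F T.a T.b T.van T.fp T.aF
    (Rr.obj (Dual.inD P P)) e
  have h0 : SelfRefl (Rr.obj (Dual.inD P P)) := ⟨toEnd_bijective_of_linearEquiv l, h2⟩
  exact selfRefl_of_iso ((shiftFunctor (Dual.D A) n).mapIso (Rr.mapIso eY.symm))
    (selfRefl_shift h0 n)

end Main

end Groth.Agent.Lib.Helper5.RelDual
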