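import Mathlib
import Groth.Agent.Lib.Helper5RelDualE
import Groth.Agent.Lib.Helper1PCTower
import Groth.Agent.Lib.Helper1LBC
import Groth.Agent.S6942
set_option backward.isDefEq.respectTransparency.types false

/-!
# Base change of the relative dualizing complex to a fibre (helper5)

`P → A` is a surjection of flat `R`-algebras and `k` an `R`-algebra; `W` in `D(A)` restricts to a
bounded complex `K` of finite projective `P`-modules.

* `nonempty_restrict_lbc_iso`: `W ⊗^L_A (k ⊗ A)` restricted to `k ⊗ P` is `(k ⊗ P) ⊗_P K`.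
* `bcPerfRes`: the base change of a finite projective resolution of `A` over `P` is a resolution
  of `k ⊗ A` over `k ⊗ P`.
-/

set_option autoImplicit false
set_option linter.style.haveILetI false
universe u
open CategoryTheory CategoryTheory.Limits TensorProduct
attribute [local instance] HasDerivedCategory.standard

namespace Groth.Agent.Lib.Helper5.RelDual

open DerivedCategory HomologicalComplex CochainComplex.HomComplex
  Groth.Agent.Lib.Helper1.DT Groth.Agent.Lib.Helper10.DualCx Groth.Agent.Lib.Helper5.Coext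
  Groth.Agent.Lib.Helper1.Restrict Groth.Agent.Lib.Helper1.RelBC Groth.Agent.Lib.Helper1.LDer

section T5

variable (R k : Type u) {P A : Type u} [CommRing R] [CommRing k] [CommRing P] [CommRing A]
  [Algebra R k] [Algebra R P] [Algebra R A] [Algebra P A] [IsScalarTower R P A]
  [Module.Flat R P] [Module.Flat R A]

/-- the derived base change of `W` to `k ⊗ A`, restricted to `k ⊗ P`, is the base change of a
bounded finite projective `P`-model of `W`. -/
theorem nonempty_restrict_lbc_iso [IsNoetherianRing A] [DRing.HasLBaseChange (inr R k A)]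
    (W : Dual.D A)
    (hb : ∃ b : ℤ, ∀ i : ℤ, b < i → Subsingleton (Dual.HD A W i))
    (hfin : ∀ i : ℤ, Module.Finite A (Dual.HD A W i))
    (K : DRing.Cx P) (a' b' : ℤ) (hK : DRing.VanishesOutside K a' b')
    (hKp : DRing.TermwiseFiniteProjective K)
    (e : (DRing.restrictD (algebraMap P A)).obj W ≅ Q.obj K) :
    Nonempty ((DRing.restrictD (psiK R k P A)).obj ((DRing.LBaseChange (inr R k A)).obj W) ≅
      Q.obj ((bcCx (inr R k P)).obj K)) := by
  have hpc : DRing.IsPseudoCoherent' A W :=
    Groth.Agent.Lib.Helper1.PCTower.isPseudoCoherent'_of_forall W fun m =>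
      ((Groth.Agent.S6942.result A m W A).1).2 ⟨hb, fun i _ => hfin i⟩
  obtain ⟨G, bG, hG, hGff, ⟨eG⟩⟩ := hpc
  haveI : G.IsKProjective := isKProjective_of_vanishesAbove G bG hG (fun i => by
    have := (hGff i).2
    infer_instance)
  haveI : K.IsKProjective := isKProjective_of_vanishesOutside K a' b' hK (fun i => (hKp i).2)
  let c : Q.obj K ≅ Q.obj ((DRing.restrictCx (algebraMap P A)).obj G) :=
    e.symm ≪≫ (DRing.restrictD (algebraMap P A)).mapIso eG.symm ≪≫
      restrictQIso (algebraMap P A) G
  obtain ⟨u, hu⟩ := Q_map_surjective K ((DRing.restrictCx (algebraMap P A)).obj G) c.hom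
  haveI : IsIso (Q.map u) := by rw [hu]; infer_instance
  haveI : QuasiIso u := (DerivedCategory.isIso_Q_map_iff_quasiIso _ _).1 inferInstance
  have hL : DRing.VanishesAbove ((DRing.restrictCx (algebraMap P A)).obj G) bG :=
    fun i hi => (ModuleCat.restrictScalars.{u} (algebraMap P A)).map_isZero (hG i hi)
  have hKf : DRing.TermwiseFlat ((DRing.restrictCx (algebraMap R P)).obj K) := fun i => by
    haveI : Module.Projective P (K.X i) := (hKp i).2
    exact flat_restrictScalars_of_flat (K.X i)
  have hLf : DRing.TermwiseFlat ((DRing.restrictCx (algebraMap R P)).obj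
      ((DRing.restrictCx (algebraMap P A)).obj G)) := fun i => by
    haveI : Module.Free A (G.X i) := (hGff i).2
    exact flat_restrict_restrict (R := R) (P := P) (G.X i)
  haveI : QuasiIso ((bcCx (inr R k P)).map u) :=
    quasiIso_bcCx_of_flat R k u b' bG (fun i hi => hK i (Or.inr hi)) hL hKf hLf
  haveI : IsIso (Q.map ((bcCx (inr R k P)).map u)) :=
    (DerivedCategory.isIso_Q_map_iff_quasiIso _ _).2 inferInstance
  exact ⟨(DRing.restrictD (psiK R k P A)).mapIso
      ((DRing.LBaseChange (inr R k A)).mapIso eG.symm ≪≫ lbcIso (inr R k A) G) ≪≫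
    restrictQIso (psiK R k P A) _ ≪≫ Q.mapIso (bcResCxIso R k P G).symm ≪≫
    (asIso (Q.map ((bcCx (inr R k P)).map u))).symm⟩

end T5

section BCRes

/-- `B ⊗_A A ≅ B`. -/
noncomputable def extSelfIso {A B : Type u} [CommRing A] [CommRing B] (α : A →+* B) :
    (ModuleCat.extendScalars.{u, u, u} α).obj (ModuleCat.of A A) ≅ ModuleCat.of B B :=
  letI := α.toAlgebra
  ((bcEquiv α (ModuleCat.of A A)) ≪≫ₗ
    (TensorProduct.AlgebraTensorModule.rid A B B)).toModuleIso

variable (R k : Type u) {P A : Type u} [CommRing R] [CommRing k] [CommRing P] [CommRing A]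
  [Algebra R k] [Algebra R P] [Algebra R A] [Algebra P A] [IsScalarTower R P A]

/-- the base change of `A[0]` is `(k ⊗ A)[0]`. -/
noncomputable def sglBcIso :
    (bcCx (inr R k P)).obj (sgl (Bm P A)) ≅
      sgl ((ModuleCat.restrictScalars.{u} (psiK R k P A)).obj
        (ModuleCat.of (k ⊗[R] A) (k ⊗[R] A))) :=
  (HomologicalComplex.singleMapHomologicalComplex
      (ModuleCat.extendScalars.{u, u, u} (inr R k P)) (ComplexShape.up ℤ) 0).app (Bm P A) ≪≫
    (HomologicalComplex.single (ModuleCat.{u} (k ⊗[R] P)) (ComplexShape.up ℤ) 0).mapIso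
      (bcResIso R k P (ModuleCat.of A A) ≪≫
        (ModuleCat.restrictScalars.{u} (psiK R k P A)).mapIso (extSelfIso (inr R k A)))

variable [Module.Flat R P] [Module.Flat R A]

lemma quasiIso_bc_aF (T : PerfRes P A) : QuasiIso ((bcCx (inr R k P)).map T.aF) := by
  haveI := T.qi
  refine quasiIso_bcCx_of_flat R k T.aF T.b 0 (fun i hi => T.van i (Or.inr hi))
    (fun i hi => HomologicalComplex.isZero_single_obj_X (ComplexShape.up ℤ) 0 _ i (by omega))
    (fun i => ?_) (fun i => ?_)
  · haveI : Module.Projective P (T.F.X i) := (T.fp i).2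
    exact flat_restrictScalars_of_flat (T.F.X i)
  · by_cases hi : i = 0
    · subst hi
      haveI : Module.Flat R ((ModuleCat.restrictScalars.{u} (algebraMap R P)).obj (Bm P A)) :=
        flat_restrict_restrict (R := R) (P := P) (ModuleCat.of A A)
      exact Module.Flat.of_linearEquiv
        ((ModuleCat.restrictScalars.{u} (algebraMap R P)).mapIso
          (HomologicalComplex.singleObjXSelf (ComplexShape.up ℤ) 0 (Bm P A))).toLinearEquiv
    · haveI : Subsingleton (((DRing.restrictCx (algebraMap R P)).obj (sgl (Bm P A))).X i) :=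
        ModuleCat.subsingleton_of_isZero
          ((ModuleCat.restrictScalars.{u} (algebraMap R P)).map_isZero
            (HomologicalComplex.isZero_single_obj_X (ComplexShape.up ℤ) 0 _ i hi))
      infer_instance

/-- the base change of a resolution of `A` over `P` is a resolution of `k ⊗ A` over `k ⊗ P`. -/
noncomputable def bcPerfRes (T : PerfRes P A) :
    @PerfRes (k ⊗[R] P) (k ⊗[R] A) _ _ (psiK R k P A).toAlgebra :=
  letI : Algebra (k ⊗[R] P) (k ⊗[R] A) := (psiK R k P A).toAlgebra
  haveI := quasiIso_bc_aF R k T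
  { F := (bcCx (inr R k P)).obj T.F
    a := T.a
    b := T.b
    van := vanishesOutside_bc (inr R k P) T.F T.a T.b T.van
    fp := termwiseFiniteProjective_bc (inr R k P) T.F T.fp
    aF := (bcCx (inr R k P)).map T.aF ≫ (sglBcIso R k).hom
    qi := inferInstance }

lemma bcPerfRes_F (T : PerfRes P A) :
    letI : Algebra (k ⊗[R] P) (k ⊗[R] A) := (psiK R k P A).toAlgebra
    (bcPerfRes R k T).F = (bcCx (inr R k P)).obj T.F := rfl

/-- the base change of the relative dualizing complex, restricted to `k ⊗ P`. -/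
theorem nonempty_restrict_lbc_shriek_iso [IsNoetherianRing A] [DRing.HasLBaseChange (inr R k A)]
    (T : PerfRes P A) (W : Dual.D A)
    (hb : ∃ b : ℤ, ∀ i : ℤ, b < i → Subsingleton (Dual.HD A W i))
    (hfin : ∀ i : ℤ, Module.Finite A (Dual.HD A W i)) (n : ℤ)
    (e : (DRing.restrictD (algebraMap P A)).obj W ≅ Q.obj ((D T.F)⟦n⟧)) :
    Nonempty ((DRing.restrictD (psiK R k P A)).obj ((DRing.LBaseChange (inr R k A)).obj W) ≅
      Q.obj ((D ((bcCx (inr R k P)).obj T.F))⟦n⟧)) := by
  have hK : DRing.VanishesOutside ((D T.F)⟦n⟧) (-T.b - n) (-T.a - n) :=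
    vanishesOutside_shift _ _ _ n (vanishesOutside_D T.F T.a T.b T.van)
  have hKp : DRing.TermwiseFiniteProjective ((D T.F)⟦n⟧) :=
    termwiseFiniteProjective_shift _ n (termwiseFiniteProjective_D T.F T.fp)
  obtain ⟨e1⟩ := nonempty_restrict_lbc_iso R k W hb hfin _ _ _ hK hKp e
  exact ⟨e1 ≪≫ Q.mapIso (bcDualShiftIso (inr R k P) T.F T.fp n)⟩

end BCRes

end Groth.Agent.Lib.Helper5.RelDual
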