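import Mathlib
import Groth.Agent.Lib.Helper5HasLDer
import Groth.Agent.Lib.Helper5RelDualF
import Groth.Agent.Lib.Helper1Fibres
set_option backward.isDefEq.respectTransparency.types false

/-!
# Derived base change of pseudo-coherent objects: transitivity, shifts of the ring (helper5)

* `FFRep ω`: a bounded above complex of finite free modules representing `ω`.
* `nonempty_lbc_square_iso`: `Lφ'^* Lφ^* ω ≅ Lψ'^* Lψ^* ω` when `φ' ∘ φ = ψ' ∘ ψ`.
* `nonempty_lbc_comp_iso`: `Lφ'^* Lφ^* ω ≅ L(φ' ∘ φ)^* ω`.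
* `nonempty_lbc_shift_self_iso`: `Lγ^* (A[m]) ≅ C[m]`.
-/

set_option autoImplicit false
set_option linter.style.haveILetI false
universe u
open CategoryTheory CategoryTheory.Limits TensorProduct
attribute [local instance] HasDerivedCategory.standard

namespace Groth.Agent.Lib.Helper5.RelGor

open DerivedCategory HomologicalComplex Groth.Agent.Lib.Helper1.LDer
  Groth.Agent.Lib.Helper1.LocalCx Groth.Agent.Lib.Helper10.DualCx
  Groth.Agent.Lib.Helper5.RelDual Groth.Agent.Lib.Helper5.HasLDer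

/-- a bounded above complex of finite free modules representing `ω`. -/
structure FFRep {A : Type u} [CommRing A] (ω : Dual.D A) where
  /-- the complex -/
  G : DRing.Cx A
  /-- upper bound -/
  b : ℤ
  van : DRing.VanishesAbove G b
  ff : DRing.TermwiseFiniteFree G
  /-- the comparison -/
  e : Q.obj G ≅ ω

namespace FFRep

variable {A B C D : Type u} [CommRing A] [CommRing B] [CommRing C] [CommRing D]
  {ω : Dual.D A} (r : FFRep ω)

lemma isKProjective : r.G.IsKProjective :=
  isKProjective_of_vanishesAbove r.G r.b r.van (fun i => by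
    have := (r.ff i).2
    infer_instance)

/-- the derived base change is computed on the representative. -/
noncomputable def lbcIso (φ : A →+* B) [DRing.HasLBaseChange φ] :
    (DRing.LBaseChange φ).obj ω ≅ Q.obj ((bcCx φ).obj r.G) :=
  haveI := r.isKProjective
  (DRing.LBaseChange φ).mapIso r.e.symm ≪≫ Groth.Agent.Lib.Helper1.LDer.lbcIso φ r.G

/-- the base change of the representative. -/
noncomputable def bc (φ : A →+* B) [DRing.HasLBaseChange φ] :
    FFRep ((DRing.LBaseChange φ).obj ω) where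
  G := (bcCx φ).obj r.G
  b := r.b
  van := vanishesAbove_bc φ r.G r.b r.van
  ff := termwiseFiniteFree_bc φ r.G r.ff
  e := (r.lbcIso φ).symm

end FFRep

section Square

variable {A B C D : Type u} [CommRing A] [CommRing B] [CommRing C] [CommRing D]
  {ω : Dual.D A}

/-- transitivity of derived base change on pseudo-coherent objects. -/
theorem nonempty_lbc_comp_iso (r : FFRep ω) (φ : A →+* B) (φ' : B →+* D)
    [DRing.HasLBaseChange φ] [DRing.HasLBaseChange φ'] [DRing.HasLBaseChange (φ'.comp φ)] :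
    Nonempty ((DRing.LBaseChange φ').obj ((DRing.LBaseChange φ).obj ω) ≅
      (DRing.LBaseChange (φ'.comp φ)).obj ω) :=
  ⟨(r.bc φ).lbcIso φ' ≪≫ Q.mapIso (bcCxCompIso φ φ' r.G).symm ≪≫ (r.lbcIso (φ'.comp φ)).symm⟩

/-- derived base change of a pseudo-coherent object around a commutative square. -/
theorem nonempty_lbc_square_iso (r : FFRep ω) (φ : A →+* B) (φ' : B →+* D) (ψ : A →+* C)
    (ψ' : C →+* D) (h : φ'.comp φ = ψ'.comp ψ)
    [DRing.HasLBaseChange φ] [DRing.HasLBaseChange φ'] [DRing.HasLBaseChange ψ]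
    [DRing.HasLBaseChange ψ'] :
    Nonempty ((DRing.LBaseChange φ').obj ((DRing.LBaseChange φ).obj ω) ≅
      (DRing.LBaseChange ψ').obj ((DRing.LBaseChange ψ).obj ω)) :=
  ⟨(r.bc φ).lbcIso φ' ≪≫ Q.mapIso ((bcCxCompIso φ φ' r.G).symm ≪≫ bcCxEqIso h r.G ≪≫
    bcCxCompIso ψ ψ' r.G) ≪≫ ((r.bc ψ).lbcIso ψ').symm⟩

/-- isomorphic objects have isomorphic base changes (convenience). -/
theorem nonempty_lbc_iso_of_iso {ω ω' : Dual.D A} (e : ω ≅ ω') (φ : A →+* B)
    [DRing.HasLBaseChange φ] :
    Nonempty ((DRing.LBaseChange φ).obj ω ≅ (DRing.LBaseChange φ).obj ω') :=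
  ⟨(DRing.LBaseChange φ).mapIso e⟩

end Square

section Single

variable {A C : Type u} [CommRing A] [CommRing C]

lemma termwiseFiniteFree_sgl (M : ModuleCat.{u} A) [Module.Finite A M] [Module.Free A M] :
    DRing.TermwiseFiniteFree (sgl M) := by
  intro i
  by_cases hi : i = 0
  · subst hi
    let e : ((sgl M).X 0) ≃ₗ[A] M :=
      (HomologicalComplex.singleObjXSelf (ComplexShape.up ℤ) 0 M).toLinearEquiv
    exact ⟨Module.Finite.equiv e.symm, Module.Free.of_equiv e.symm⟩
  · haveI : Subsingleton ((sgl M).X i) :=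
      ModuleCat.subsingleton_of_isZero
        (HomologicalComplex.isZero_single_obj_X (ComplexShape.up ℤ) 0 M i hi)
    exact ⟨inferInstance, inferInstance⟩

/-- the representative `A[0][m]` of `A[m]`. -/
noncomputable def ffRepShiftSelf (m : ℤ) : FFRep ((Dual.inD A A)⟦m⟧) where
  G := (S A)⟦m⟧
  b := -m
  van := fun i hi =>
    HomologicalComplex.isZero_single_obj_X (ComplexShape.up ℤ) 0 _ (i + m) (by omega)
  ff := fun i => termwiseFiniteFree_sgl (ModuleCat.of A A) (i + m)
  e := (Q.commShiftIso m).app (S A) ≪≫ (shiftFunctor (Dual.D A) m).mapIso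
    ((singleFunctorIsoCompQ (ModuleCat.{u} A) 0).app (ModuleCat.of A A)).symm

/-- the base change of `A[0]` is `C[0]`. -/
noncomputable def bcSelfIso (γ : A →+* C) : (bcCx γ).obj (S A) ≅ S C :=
  (HomologicalComplex.singleMapHomologicalComplex
      (ModuleCat.extendScalars.{u, u, u} γ) (ComplexShape.up ℤ) 0).app (ModuleCat.of A A) ≪≫
    (HomologicalComplex.single (ModuleCat.{u} C) (ComplexShape.up ℤ) 0).mapIso (extSelfIso γ)

/-- `Lγ^* (A[m]) ≅ C[m]`. -/
theorem nonempty_lbc_shift_self_iso (γ : A →+* C) [DRing.HasLBaseChange γ] (m : ℤ) :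
    Nonempty ((DRing.LBaseChange γ).obj ((Dual.inD A A)⟦m⟧) ≅ (Dual.inD C C)⟦m⟧) :=
  ⟨(ffRepShiftSelf (A := A) m).lbcIso γ ≪≫
    Q.mapIso (bcShiftIso γ (S A) m ≪≫
      (shiftFunctor (CochainComplex (ModuleCat.{u} C) ℤ) m).mapIso (bcSelfIso γ)) ≪≫
    (ffRepShiftSelf (A := C) m).e⟩

end Single

end Groth.Agent.Lib.Helper5.RelGor
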