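import Mathlib
import Groth.Agent.Lib.Helper5RelDualF
import Groth.Agent.Lib.Helper5BiDualC
import Groth.Agent.Lib.Helper5LocDD
import Groth.Agent.Lib.Helper5EtaleDual
import Groth.Agent.Lib.Helper5GorRing
import Groth.Agent.Lib.Helper5GorLocus
import Groth.Agent.Lib.Helper5NormDual
set_option backward.isDefEq.respectTransparency.types false

/-!
# Recognizing `RHom_P(A, P)[n]` from its restriction to `P` (helper5)

`P → A` is a surjection of Noetherian rings, `P` is a dualizing complex for itself, and `F → A` is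
a bounded resolution by finite projective `P`-modules.

* `nonempty_iso_rightAdjoint_of_restrict_iso`: an object `X₀` of `D(A)` whose restriction to `P`
  is `Hom•(F, P)` is isomorphic to `RHom_P(A, P)`.
* `isDualizing_of_restrict_iso`: an object `X` of `D(A)` whose restriction to `P` is
  `Hom•(F, P)[n]` is a dualizing complex.
* `isDualizing_fibre`: the fibres of the relative dualizing complex of a flat finite type algebra
  are dualizing complexes.
-/

set_option autoImplicit false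
set_option linter.style.haveILetI false
universe u
open CategoryTheory CategoryTheory.Limits TensorProduct
attribute [local instance] HasDerivedCategory.standard

namespace Groth.Agent.Lib.Helper5.RelDual

open DerivedCategory HomologicalComplex CochainComplex.HomComplex Pretriangulated
  Groth.Agent.Lib.Helper1.DT Groth.Agent.Lib.Helper10.DualCx Groth.Agent.Lib.Helper5.Coext
  Groth.Agent.Lib.Helper1.Restrict Groth.Agent.Lib.Helper1.RelBC Groth.Agent.Lib.Helper1.LDer
  Groth.Agent.Lib.Helper5.DeltaRes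

section Cone

variable {P : Type u} [CommRing P]

/-- objects isomorphic to a shift of `Y`. -/
def IsShiftOf (Y V : Dual.D P) : Prop := ∃ i : ℤ, Nonempty (V ≅ Y⟦i⟧)

lemma isShiftOf_shift_neg_one {Y V : Dual.D P} (h : IsShiftOf Y V) :
    IsShiftOf Y (V⟦(-1 : ℤ)⟧) := by
  obtain ⟨i, ⟨e⟩⟩ := h
  exact ⟨i - 1, ⟨(shiftFunctor (Dual.D P) (-1 : ℤ)).mapIso e ≪≫
    ((shiftFunctorAdd' (Dual.D P) i (-1) (i - 1) (by omega)).app Y).symm⟩⟩

/-- if the first map of a distinguished triangle induces bijections on maps to all shifts of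
`Y`, the third vertex has no nonzero maps to shifts of `Y`. -/
theorem cone_orthogonal (T : Triangle (Dual.D P)) (hT : T ∈ distTriang (Dual.D P))
    (Y : Dual.D P)
    (hinj : ∀ V : Dual.D P, IsShiftOf Y V → ∀ h : T.obj₂ ⟶ V, T.mor₁ ≫ h = 0 → h = 0)
    (hsur : ∀ V : Dual.D P, IsShiftOf Y V → ∀ h' : T.obj₁ ⟶ V, ∃ h : T.obj₂ ⟶ V,
      T.mor₁ ≫ h = h')
    (V : Dual.D P) (hV : IsShiftOf Y V) (φ : T.obj₃ ⟶ V) : φ = 0 := by
  have h1 : T.mor₂ ≫ φ = 0 := by
    apply hinj V hV
    rw [← Category.assoc, comp_distTriang_mor_zero₁₂ _ hT, zero_comp]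
  obtain ⟨φ', hφ'⟩ := Triangle.yoneda_exact₃ _ hT φ h1
  let eV : (V⟦(-1 : ℤ)⟧)⟦(1 : ℤ)⟧ ≅ V := shiftNegShift V (1 : ℤ)
  obtain ⟨h', hh'⟩ := (shiftFunctor (Dual.D P) (1 : ℤ)).map_surjective (φ' ≫ eV.inv)
  obtain ⟨h, hh⟩ := hsur _ (isShiftOf_shift_neg_one hV) h'
  have h2 : T.mor₃ ≫ φ' ≫ eV.inv = 0 := by
    rw [← hh', ← hh, Functor.map_comp, ← Category.assoc, comp_distTriang_mor_zero₃₁ _ hT,
      zero_comp]
  have h3 : (T.mor₃ ≫ φ') ≫ eV.inv = 0 ≫ eV.inv := by
    rw [Category.assoc, h2, zero_comp]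
  rw [hφ']
  exact (cancel_mono eV.inv).1 h3

lemma termwiseFiniteProjective_mappingCone {K L : DRing.Cx P} (f : K ⟶ L)
    (hK : DRing.TermwiseFiniteProjective K) (hL : DRing.TermwiseFiniteProjective L) :
    DRing.TermwiseFiniteProjective (CochainComplex.mappingCone f) := by
  intro i
  have := HomologicalComplex.HasHomotopyCofiber.hasBinaryBiproduct f i (i + 1) rfl
  haveI := (hK (i + 1)).1
  haveI := (hK (i + 1)).2
  haveI := (hL i).1
  haveI := (hL i).2
  let e : ((CochainComplex.mappingCone f).X i) ≃ₗ[P] (K.X (i + 1) × L.X i) :=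
    ((HomologicalComplex.homotopyCofiber.XIsoBiprod f i (i + 1) rfl) ≪≫
      ModuleCat.biprodIsoProd _ _).toLinearEquiv
  exact ⟨Module.Finite.equiv e.symm, Module.Projective.of_equiv e.symm⟩

lemma vanishesOutside_mappingCone {K : DRing.Cx P} (f : K ⟶ K) (a b : ℤ)
    (hK : DRing.VanishesOutside K a b) :
    DRing.VanishesOutside (CochainComplex.mappingCone f) (a - 1) b := by
  intro i hi
  rw [CochainComplex.mappingCone.isZero_X_iff]
  exact ⟨hK _ (by omega), hK _ (by omega)⟩

end Cone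

section T6

variable {P A : Type u} [CommRing P] [CommRing A] [Algebra P A]

/-- an object of `D(A)` whose restriction to `P` is `Hom•(F, P)` is `RHom_P(A, P)`. -/
theorem nonempty_iso_rightAdjoint_of_restrict_iso
    (hsurj : Function.Surjective (algebraMap P A)) (T : PerfRes P A)
    (Rr : Dual.D P ⥤ Dual.D A) (adj : DRing.restrictD (algebraMap P A) ⊣ Rr)
    (hΩ : Dual.IsDualizing A (Rr.obj (Dual.inD P P)))
    (X₀ : Dual.D A) (θ₀ : (DRing.restrictD (algebraMap P A)).obj X₀ ≅ Q.obj (D T.F)) :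
    Nonempty (X₀ ≅ Rr.obj (Dual.inD P P)) := by
  haveI := T.isKProjective
  haveI := T.qi
  letI : Rr.CommShift ℤ := adj.rightAdjointCommShift ℤ
  obtain ⟨τ⟩ := nonempty_restrict_rightAdjoint_iso Rr adj T.F T.aF
  obtain ⟨ε, hε⟩ : ∃ ε : (DRing.restrictD (algebraMap P A)).obj (Rr.obj (Dual.inD P P)) ⟶
      Dual.inD P P, ε = adj.counit.app (Dual.inD P P) := ⟨_, rfl⟩
  obtain ⟨θ', hθ'⟩ : ∃ θ' : (DRing.restrictD (algebraMap P A)).obj X₀ ≅
      (DRing.restrictD (algebraMap P A)).obj (Rr.obj (Dual.inD P P)), θ' = θ₀ ≪≫ τ.symm :=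
    ⟨_, rfl⟩
  obtain ⟨g, hg0⟩ : ∃ g : X₀ ⟶ Rr.obj (Dual.inD P P),
      g = adj.homEquiv X₀ (Dual.inD P P) (θ'.hom ≫ ε) := ⟨_, rfl⟩
  have hg : (DRing.restrictD (algebraMap P A)).map g ≫ ε = θ'.hom ≫ ε := by
    have h := (adj.homEquiv X₀ (Dual.inD P P)).symm_apply_apply (θ'.hom ≫ ε)
    rw [← hg0, Adjunction.homEquiv_counit, ← hε] at h
    exact h
  obtain ⟨γ, hγ0⟩ : ∃ γ : (DRing.restrictD (algebraMap P A)).obj (Rr.obj (Dual.inD P P)) ⟶
      (DRing.restrictD (algebraMap P A)).obj (Rr.obj (Dual.inD P P)),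
      γ = θ'.inv ≫ (DRing.restrictD (algebraMap P A)).map g := ⟨_, rfl⟩
  have hγ : γ ≫ ε = ε := by
    rw [hγ0, Category.assoc, hg, Iso.inv_hom_id_assoc]
  -- `γ` acts as the identity on maps to shifts of `P`
  have hIII : ∀ V : Dual.D P, IsShiftOf (Dual.inD P P) V →
      ∀ h : (DRing.restrictD (algebraMap P A)).obj (Rr.obj (Dual.inD P P)) ⟶ V, γ ≫ h = h := by
    rintro V ⟨i, ⟨eV⟩⟩ h
    by_cases hi : i = 0
    · subst hi
      let z : V ≅ Dual.inD P P := eV ≪≫ (shiftFunctorZero (Dual.D P) ℤ).app (Dual.inD P P)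
      obtain ⟨a, ha⟩ := hΩ.toEnd_bijective.2
        (adj.homEquiv (Rr.obj (Dual.inD P P)) (Dual.inD P P) (h ≫ z.hom))
      have ha' : a • 𝟙 (Rr.obj (Dual.inD P P)) =
          adj.homEquiv (Rr.obj (Dual.inD P P)) (Dual.inD P P) (h ≫ z.hom) := ha
      obtain ⟨p, rfl⟩ := hsurj a
      have h1 : h ≫ z.hom = p • ε := by
        have h2 := congrArg (adj.homEquiv (Rr.obj (Dual.inD P P)) (Dual.inD P P)).symm ha'
        rw [Equiv.symm_apply_apply, Adjunction.homEquiv_counit, restrictD_map_smul_id,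
          Linear.smul_comp, Category.id_comp, ← hε] at h2
        exact h2.symm
      have h2 : (γ ≫ h) ≫ z.hom = h ≫ z.hom := by
        rw [Category.assoc, h1, Linear.comp_smul, hγ]
      exact (cancel_mono z.hom).1 h2
    · haveI := hΩ.ext_self_subsingleton i hi
      have e : (Rr.obj (Dual.inD P P) ⟶ (Rr.obj (Dual.inD P P))⟦i⟧) ≃
          ((DRing.restrictD (algebraMap P A)).obj (Rr.obj (Dual.inD P P)) ⟶
            (Dual.inD P P)⟦i⟧) :=
        (((Rr.commShiftIso i).app _).symm.homToEquiv.trans (adj.homEquiv _ _).symm)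
      haveI : Subsingleton ((DRing.restrictD (algebraMap P A)).obj (Rr.obj (Dual.inD P P)) ⟶
          (Dual.inD P P)⟦i⟧) := e.symm.subsingleton
      have h2 : (γ ≫ h) ≫ eV.hom = h ≫ eV.hom := Subsingleton.elim _ _
      exact (cancel_mono eV.hom).1 h2
  -- transport to complexes
  have hGv := vanishesOutside_D T.F T.a T.b T.van
  have hGp := termwiseFiniteProjective_D T.F T.fp
  haveI : (D T.F).IsKProjective :=
    isKProjective_of_vanishesOutside (D T.F) (-T.b) (-T.a) hGv (fun i => (hGp i).2)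
  obtain ⟨c, hc⟩ := Q_map_surjective (D T.F) (D T.F) (τ.inv ≫ γ ≫ τ.hom)
  have hc' : ∀ V : Dual.D P, IsShiftOf (Dual.inD P P) V →
      ∀ h : Q.obj (D T.F) ⟶ V, Q.map c ≫ h = h := by
    intro V hV h
    rw [hc, Category.assoc, Category.assoc, hIII V hV (τ.hom ≫ h), Iso.inv_hom_id_assoc]
  have hT := DerivedCategory.mappingCone_triangle_distinguished c
  have hcone : IsZero (Q.obj (CochainComplex.mappingCone c)) := by
    refine isZero_of_forall_hom_eq_zero (CochainComplex.mappingCone c) (-T.b - 1) (-T.a)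
      (vanishesOutside_mappingCone c _ _ hGv) (termwiseFiniteProjective_mappingCone c hGp hGp) ?_
    intro i φ
    let sI : Dual.inD P P ≅ Q.obj (S P) :=
      (singleFunctorIsoCompQ (ModuleCat.{u} P) 0).app (ModuleCat.of P P)
    refine cone_orthogonal _ hT (Dual.inD P P) ?_ ?_ _
      ⟨i, ⟨(shiftFunctor (Dual.D P) i).mapIso sI.symm⟩⟩ φ
    · intro V hV h hh
      have h1 : Q.map c ≫ h = 0 := hh
      rw [hc' V hV h] at h1
      exact h1
    · intro V hV h'
      exact ⟨h', hc' V hV h'⟩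
  haveI : IsIso (Q.map c) := (Triangle.isZero₃_iff_isIso₁ _ hT).1 hcone
  haveI : IsIso γ := by
    have h1 : γ = τ.hom ≫ Q.map c ≫ τ.inv := by
      rw [hc, Category.assoc, Category.assoc, Iso.hom_inv_id, Category.comp_id,
        Iso.hom_inv_id_assoc]
    rw [h1]
    infer_instance
  have hres : IsIso ((DRing.restrictD (algebraMap P A)).map g) := by
    have h1 : (DRing.restrictD (algebraMap P A)).map g = θ'.hom ≫ γ := by
      rw [hγ0, Iso.hom_inv_id_assoc]
    rw [h1]
    infer_instance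
  haveI : IsIso g := isIso_of_isIso_restrictD (algebraMap P A) g hres
  exact ⟨asIso g⟩

/-- an object of `D(A)` whose restriction to `P` is `Hom•(F, P)[n]` is a dualizing complex. -/
theorem isDualizing_of_restrict_iso [IsNoetherianRing P] [IsNoetherianRing A]
    (hsurj : Function.Surjective (algebraMap P A))
    (hP : Dual.IsDualizing P (Dual.inD P P)) (T : PerfRes P A) (X : Dual.D A) (n : ℤ)
    (θ : (DRing.restrictD (algebraMap P A)).obj X ≅ Q.obj ((D T.F)⟦n⟧)) :
    Dual.IsDualizing A X := by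
  haveI : Module.Finite P A := Module.Finite.of_surjective (Algebra.linearMap P A) hsurj
  have hΩ : Dual.IsDualizing A ((RG P A).obj (Dual.inD P P)) :=
    isDualizing_rightAdjoint (RG P A) (adjD P A) _ hP
  let θ₀ : (DRing.restrictD (algebraMap P A)).obj (X⟦-n⟧) ≅ Q.obj (D T.F) :=
    ((DRing.restrictD (algebraMap P A)).commShiftIso (-n)).app X ≪≫
      (shiftFunctor (Dual.D P) (-n)).mapIso (θ ≪≫ (Q.commShiftIso n).app (D T.F)) ≪≫
      shiftShiftNeg (Q.obj (D T.F)) n
  obtain ⟨e⟩ := nonempty_iso_rightAdjoint_of_restrict_iso hsurj T (RG P A) (adjD P A) hΩ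
    (X⟦-n⟧) θ₀
  exact Groth.Agent.Lib.Helper5.LocD.isDualizing_of_iso
    ((shiftFunctor (Dual.D A) n).mapIso e.symm ≪≫ shiftNegShift X n)
    (Groth.Agent.Lib.Helper5.BiDual.isDualizing_shift hΩ n)

end T6

section Fibre

open Groth.Agent.Lib.Helper1.Extend

/-- a polynomial ring over a field (in the form `k ⊗_R R[x]`) is a dualizing complex for
itself. -/
theorem isDualizing_inD_tensor_mvPolynomial (R k : Type u) [CommRing R] [Field k] [Algebra R k]
    (n : ℕ) : Dual.IsDualizing (k ⊗[R] MvPolynomial (Fin n) R)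
      (Dual.inD (k ⊗[R] MvPolynomial (Fin n) R) (k ⊗[R] MvPolynomial (Fin n) R)) := by
  haveI : Algebra.Smooth R (MvPolynomial (Fin n) R) := {}
  haveI : Algebra.Smooth k (k ⊗[R] MvPolynomial (Fin n) R) := inferInstance
  haveI := Groth.Agent.Lib.Helper5.GorRing.gorLocal_of_field k
  have h0 : Dual.IsDualizing k (Dual.inD k k) :=
    Groth.Agent.Lib.Helper5.GorLocus.isDualizing_inD_of_gor k
  have h1 := Groth.Agent.Lib.Helper5.EtaleDual.isDualizing_extD_of_smooth
    (A := k) (B := k ⊗[R] MvPolynomial (Fin n) R) (Dual.inD k k) h0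
  exact Groth.Agent.Lib.Helper5.LocD.isDualizing_of_iso
    (extDInDIso (A := k) (B := k ⊗[R] MvPolynomial (Fin n) R) k ≪≫
      Groth.Agent.Lib.Helper5.NormDual.inDIso
        (TensorProduct.AlgebraTensorModule.rid k (k ⊗[R] MvPolynomial (Fin n) R)
          (k ⊗[R] MvPolynomial (Fin n) R))) h1

end Fibre

end Groth.Agent.Lib.Helper5.RelDual
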