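import Mathlib
import Groth.Agent.Lib.Helper5HasLDer
import Groth.Agent.Lib.Helper1LBC
import Groth.Agent.Lib.Helper1DT4
import Groth.Agent.Lib.Helper1Restrict
import Groth.Agent.Lib.Helper1Fibres
set_option backward.isDefEq.respectTransparency.types false

/-!
# Restriction, right adjoints and derived base change: formal properties (helper5)

* `restrictDComp`, `restrictDId`: restriction of scalars on derived categories is compatible with
  composition and identities, as natural isomorphisms.
* `nonempty_rightAdjoint_comp_iso`: right adjoints of restriction compose.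
* `nonempty_rightAdjoint_iso_restrictD_of_inverse`: for mutually inverse ring maps the right
  adjoint of restriction along one is restriction along the other.
* `KPRep`: K-projective representatives; `nonempty_lbc_comp_iso_all`: transitivity of derived base
  change for all objects.
* `nonempty_lbc_iso_restrictD_of_inverse`: derived base change along an isomorphism is restriction
  along the inverse.
-/

set_option autoImplicit false
set_option linter.style.haveILetI false
universe u
open CategoryTheory CategoryTheory.Limits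
attribute [local instance] HasDerivedCategory.standard

namespace Groth.Agent.Lib.Helper5.Shrk

open DerivedCategory Groth.Agent.Lib.Helper1.LDer Groth.Agent.Lib.Helper1.LocalCx
  Groth.Agent.Lib.Helper1.Restrict Groth.Agent.Lib.Helper5.HasLDer

section Res

variable {A B C : Type u} [CommRing A] [CommRing B] [CommRing C]

/-- restriction of scalars of complexes and composition, naturally. -/
noncomputable def restrictCxCompNat (φ : A →+* B) (ψ : B →+* C) (χ : A →+* C)
    (h : χ = ψ.comp φ) : DRing.restrictCx ψ ⋙ DRing.restrictCx φ ≅ DRing.restrictCx χ :=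
  NatIso.ofComponents (fun E => HomologicalComplex.Hom.isoOfComponents
      (fun i => (ModuleCat.restrictScalarsComp'App φ ψ χ h (E.X i)).symm) (fun i j _ => by rfl))
    (fun {E E'} f => by
      refine HomologicalComplex.hom_ext _ _ fun i => ?_
      rfl)

/-- restriction of scalars on derived categories and composition, naturally. -/
noncomputable def restrictDComp (φ : A →+* B) (ψ : B →+* C) (χ : A →+* C) (h : χ = ψ.comp φ) :
    DRing.restrictD ψ ⋙ DRing.restrictD φ ≅ DRing.restrictD χ :=
  Localization.liftNatIso DerivedCategory.Q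
    (HomologicalComplex.quasiIso (ModuleCat.{u} C) (ComplexShape.up ℤ))
    (((ModuleCat.restrictScalars.{u} ψ).mapHomologicalComplex (ComplexShape.up ℤ) ⋙
      DerivedCategory.Q) ⋙ DRing.restrictD φ)
    ((ModuleCat.restrictScalars.{u} χ).mapHomologicalComplex (ComplexShape.up ℤ) ⋙
      DerivedCategory.Q)
    (DRing.restrictD ψ ⋙ DRing.restrictD φ) (DRing.restrictD χ)
    (Functor.associator _ _ _ ≪≫
      Functor.isoWhiskerLeft _ (ModuleCat.restrictScalars.{u} φ).mapDerivedCategoryFactors ≪≫
      (Functor.associator _ _ _).symm ≪≫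
      Functor.isoWhiskerRight (restrictCxCompNat φ ψ χ h) DerivedCategory.Q)

/-- restriction of scalars of complexes along the identity. -/
noncomputable def restrictCxIdNat (χ : A →+* A) (h : χ = RingHom.id A) :
    DRing.restrictCx χ ≅ 𝟭 _ :=
  NatIso.ofComponents (fun E => HomologicalComplex.Hom.isoOfComponents
      (fun i => ModuleCat.restrictScalarsId'App χ h (E.X i)) (fun i j _ => by rfl))
    (fun {E E'} f => by
      refine HomologicalComplex.hom_ext _ _ fun i => ?_
      rfl)

/-- restriction of scalars on derived categories along the identity. -/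
noncomputable def restrictDId (χ : A →+* A) (h : χ = RingHom.id A) :
    DRing.restrictD χ ≅ 𝟭 (Dual.D A) :=
  Localization.liftNatIso DerivedCategory.Q
    (HomologicalComplex.quasiIso (ModuleCat.{u} A) (ComplexShape.up ℤ))
    ((ModuleCat.restrictScalars.{u} χ).mapHomologicalComplex (ComplexShape.up ℤ) ⋙
      DerivedCategory.Q)
    DerivedCategory.Q (DRing.restrictD χ) (𝟭 _)
    (Functor.isoWhiskerRight (restrictCxIdNat χ h) DerivedCategory.Q ≪≫ Functor.leftUnitor _)

/-- `res_φ (res_ψ X) ≅ X` when `ψ ∘ φ = id`. -/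
noncomputable def restrictRestrictIso (φ : A →+* B) (ψ : B →+* A) (h : ψ.comp φ = RingHom.id A)
    (X : Dual.D A) : (DRing.restrictD φ).obj ((DRing.restrictD ψ).obj X) ≅ X :=
  (restrictDComp φ ψ (ψ.comp φ) rfl ≪≫ restrictDId (ψ.comp φ) h).app X

/-- right adjoints of restriction of scalars compose. -/
theorem nonempty_rightAdjoint_comp_iso (φ : A →+* B) (ψ : B →+* C) (χ : A →+* C)
    (h : χ = ψ.comp φ)
    (Rφ : Dual.D A ⥤ Dual.D B) (adjφ : DRing.restrictD φ ⊣ Rφ)
    (Rψ : Dual.D B ⥤ Dual.D C) (adjψ : DRing.restrictD ψ ⊣ Rψ)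
    (Rχ : Dual.D A ⥤ Dual.D C) (adjχ : DRing.restrictD χ ⊣ Rχ) :
    Nonempty (Rχ ≅ Rφ ⋙ Rψ) :=
  ⟨adjχ.rightAdjointUniq ((adjψ.comp adjφ).ofNatIsoLeft (restrictDComp φ ψ χ h))⟩

/-- for mutually inverse ring maps, the right adjoint of restriction along one of them is
restriction along the other. -/
theorem nonempty_rightAdjoint_iso_restrictD_of_inverse (φ : A →+* B) (φ' : B →+* A)
    (h1 : φ'.comp φ = RingHom.id A) (h2 : φ.comp φ' = RingHom.id B)
    (Rφ : Dual.D A ⥤ Dual.D B) (adjφ : DRing.restrictD φ ⊣ Rφ) :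
    Nonempty (Rφ ≅ DRing.restrictD φ') := by
  let η : 𝟭 (Dual.D B) ≅ DRing.restrictD φ ⋙ DRing.restrictD φ' :=
    (restrictDComp φ' φ (φ.comp φ') rfl ≪≫ restrictDId (φ.comp φ') h2).symm
  let ε : DRing.restrictD φ' ⋙ DRing.restrictD φ ≅ 𝟭 (Dual.D A) :=
    restrictDComp φ φ' (φ'.comp φ) rfl ≪≫ restrictDId (φ'.comp φ) h1
  let E : Dual.D B ≌ Dual.D A :=
    CategoryTheory.Equivalence.mk (DRing.restrictD φ) (DRing.restrictD φ') η ε
  exact ⟨adjφ.rightAdjointUniq E.toAdjunction⟩

end Res

section LBC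

variable {A B C : Type u} [CommRing A] [CommRing B] [CommRing C]

/-- a K-projective complex representing `ω`. -/
structure KPRep (ω : Dual.D A) where
  /-- the complex -/
  G : DRing.Cx A
  kp : G.IsKProjective
  /-- the comparison -/
  e : Q.obj G ≅ ω

theorem nonempty_kpRep (ω : Dual.D A) : Nonempty (KPRep ω) := by
  obtain ⟨P, hP, -, ⟨e⟩⟩ := Groth.Agent.Lib.Helper1.DT.exists_kproj_iso ω
  exact ⟨⟨P, hP, e⟩⟩

lemma isKProjective_bc (φ : A →+* B) (G : DRing.Cx A) [G.IsKProjective] :
    ((bcCx φ).obj G).IsKProjective :=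
  Groth.Agent.Lib.Helper1.DT.isKProjective_extCx φ G

namespace KPRep

variable {ω : Dual.D A} (r : KPRep ω)

/-- the derived base change is computed on the representative. -/
noncomputable def lbcIso (φ : A →+* B) [DRing.HasLBaseChange φ] :
    (DRing.LBaseChange φ).obj ω ≅ Q.obj ((bcCx φ).obj r.G) :=
  haveI := r.kp
  (DRing.LBaseChange φ).mapIso r.e.symm ≪≫ Groth.Agent.Lib.Helper1.LDer.lbcIso φ r.G

/-- the base change of the representative. -/
noncomputable def bc (φ : A →+* B) [DRing.HasLBaseChange φ] :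
    KPRep ((DRing.LBaseChange φ).obj ω) where
  G := (bcCx φ).obj r.G
  kp := haveI := r.kp; isKProjective_bc φ r.G
  e := (r.lbcIso φ).symm

end KPRep

/-- transitivity of derived base change, for all objects. -/
theorem nonempty_lbc_comp_iso_all (ω : Dual.D A) (φ : A →+* B) (φ' : B →+* C) (χ : A →+* C)
    (h : φ'.comp φ = χ)
    [DRing.HasLBaseChange φ] [DRing.HasLBaseChange φ'] [DRing.HasLBaseChange χ] :
    Nonempty ((DRing.LBaseChange φ').obj ((DRing.LBaseChange φ).obj ω) ≅
      (DRing.LBaseChange χ).obj ω) := by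
  obtain ⟨r⟩ := nonempty_kpRep ω
  exact ⟨(r.bc φ).lbcIso φ' ≪≫ Q.mapIso ((bcCxCompIso φ φ' r.G).symm ≪≫ bcCxEqIso h r.G) ≪≫
    (r.lbcIso χ).symm⟩

/-- for mutually inverse ring maps, extension of scalars along one is restriction along the
other. -/
noncomputable def extendIsoRestrictOfInverse (φ : A →+* B) (φ' : B →+* A)
    (h1 : φ'.comp φ = RingHom.id A) (h2 : φ.comp φ' = RingHom.id B) :
    ModuleCat.extendScalars.{u, u, u} φ ≅ ModuleCat.restrictScalars.{u} φ' :=
  let η : 𝟭 (ModuleCat.{u} A) ≅ ModuleCat.restrictScalars.{u} φ' ⋙ ModuleCat.restrictScalars.{u} φ :=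
    (ModuleCat.restrictScalarsId' (φ'.comp φ) h1).symm ≪≫
      ModuleCat.restrictScalarsComp' φ φ' (φ'.comp φ) rfl
  let ε : ModuleCat.restrictScalars.{u} φ ⋙ ModuleCat.restrictScalars.{u} φ' ≅
      𝟭 (ModuleCat.{u} B) :=
    (ModuleCat.restrictScalarsComp' φ' φ (φ.comp φ') rfl).symm ≪≫
      ModuleCat.restrictScalarsId' (φ.comp φ') h2
  let E : ModuleCat.{u} A ≌ ModuleCat.{u} B :=
    CategoryTheory.Equivalence.mk (ModuleCat.restrictScalars.{u} φ') (ModuleCat.restrictScalars.{u} φ) η ε
  (ModuleCat.extendRestrictScalarsAdj.{u, u, u} φ).leftAdjointUniq E.toAdjunction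

/-- derived base change along an isomorphism is restriction along the inverse. -/
theorem nonempty_lbc_iso_restrictD_of_inverse (φ : A →+* B) (φ' : B →+* A)
    (h1 : φ'.comp φ = RingHom.id A) (h2 : φ.comp φ' = RingHom.id B)
    [DRing.HasLBaseChange φ] (ω : Dual.D A) :
    Nonempty ((DRing.LBaseChange φ).obj ω ≅ (DRing.restrictD φ').obj ω) := by
  obtain ⟨r⟩ := nonempty_kpRep ω
  let c : (bcCx φ).obj r.G ≅ (DRing.restrictCx φ').obj r.G :=
    (NatIso.mapHomologicalComplex (extendIsoRestrictOfInverse φ φ' h1 h2)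
      (ComplexShape.up ℤ)).app r.G
  exact ⟨r.lbcIso φ ≪≫ Q.mapIso c ≪≫ (restrictQIso φ' r.G).symm ≪≫
    (DRing.restrictD φ').mapIso r.e⟩

/-- for mutually inverse ring maps `ι`, `π`: `R_π (Lι^* N) ≅ N`. -/
theorem nonempty_rightAdjoint_lbc_iso_of_inverse (ι : A →+* B) (π : B →+* A)
    (h1 : π.comp ι = RingHom.id A) (h2 : ι.comp π = RingHom.id B)
    [DRing.HasLBaseChange ι] (Rπ : Dual.D B ⥤ Dual.D A) (adj : DRing.restrictD π ⊣ Rπ)
    (N : Dual.D A) :
    Nonempty (Rπ.obj ((DRing.LBaseChange ι).obj N) ≅ N) := by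
  obtain ⟨e1⟩ := nonempty_rightAdjoint_iso_restrictD_of_inverse π ι h2 h1 Rπ adj
  obtain ⟨e2⟩ := nonempty_lbc_iso_restrictD_of_inverse ι π h1 h2 N
  exact ⟨e1.app _ ≪≫ (DRing.restrictD ι).mapIso e2 ≪≫ restrictRestrictIso ι π h1 N⟩

end LBC

end Groth.Agent.Lib.Helper5.Shrk
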