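import Mathlib
import Groth.Agent.Lib.Helper5ShrkA
set_option backward.isDefEq.respectTransparency.types false

/-!
# One-variable extensions: the two short exact sequences, module level (helper5)

`OVData B B'`: a ring map `ι : B → B'` with a retraction `π` whose kernel is generated by a
nonzerodivisor `t` (e.g. `B' = B[y]`, `π = ev_a`, `t = y - a`), together with the divided
difference `s` (`x = t * s x + ι (π x)`).

* `sc2_shortExact`: `0 → B' ⊗ M → B' ⊗ M → M → 0` (multiplication by `t`, evaluation).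
* `sc1_shortExact`: `0 → Hom_{B'}(B, J) → J → J → 0` for an injective `B'`-module `J`.
-/

set_option autoImplicit false
set_option linter.style.haveILetI false
universe u
open CategoryTheory CategoryTheory.Limits TensorProduct

namespace Groth.Agent.Lib.Helper5.Shrk

/-- data of a one-variable extension. -/
structure OVData (B B' : Type u) [CommRing B] [CommRing B'] where
  /-- the inclusion -/
  ι : B →+* B'
  /-- the retraction -/
  π : B' →+* B
  /-- the generator of the kernel -/
  t : B'
  /-- the divided difference -/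
  s : B' → B'
  hπι : π.comp ι = RingHom.id B
  ht : π t = 0
  key : ∀ x : B', x = t * s x + ι (π x)
  s_mul : ∀ x : B', s (t * x) = x
  s_add : ∀ x y : B', s (x + y) = s x + s y
  s_smul : ∀ (b : B) (x : B'), s (ι b * x) = ι b * s x

namespace OVData

variable {B B' : Type u} [CommRing B] [CommRing B']

/-- construction from a nonzerodivisor generating the kernel of the retraction. -/
noncomputable def ofRegular (ι : B →+* B') (π : B' →+* B) (t : B')
    (hπι : π.comp ι = RingHom.id B) (ht : π t = 0)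
    (hreg : ∀ x : B', t * x = 0 → x = 0) (hker : ∀ x : B', π x = 0 → ∃ y, x = t * y) :
    OVData B B' := by
  have hπι' : ∀ b : B, π (ι b) = b := fun b => RingHom.congr_fun hπι b
  have h0 : ∀ x : B', π (x - ι (π x)) = 0 := fun x => by rw [map_sub, hπι', sub_self]
  let s : B' → B' := fun x => Classical.choose (hker _ (h0 x))
  have hs : ∀ x : B', x - ι (π x) = t * s x := fun x => Classical.choose_spec (hker _ (h0 x))
  have key : ∀ x : B', x = t * s x + ι (π x) := fun x => by rw [← hs x]; ring
  have uniq : ∀ x y : B', t * x = t * y → x = y := fun x y h => by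
    have h1 : t * (x - y) = 0 := by rw [mul_sub, h, sub_self]
    exact sub_eq_zero.1 (hreg _ h1)
  refine ⟨ι, π, t, s, hπι, ht, key, fun x => uniq _ _ ?_, fun x y => uniq _ _ ?_,
    fun b x => uniq _ _ ?_⟩
  · rw [← hs (t * x), map_mul, ht, zero_mul, map_zero, sub_zero]
  · rw [← hs (x + y), mul_add, ← hs x, ← hs y, map_add, map_add]
    ring
  · rw [← hs (ι b * x), mul_left_comm, ← hs x, map_mul, hπι', map_mul]
    ring

variable (D : OVData B B')

lemma hπι_apply (b : B) : D.π (D.ι b) = b := RingHom.congr_fun D.hπι b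

lemma t_cancel {x y : B'} (h : D.t * x = D.t * y) : x = y := by
  rw [← D.s_mul x, h, D.s_mul]

lemma s_zero : D.s 0 = 0 := by
  have h := D.s_mul 0
  rwa [mul_zero] at h

/-- `B'` as a `B`-module. -/
abbrev PX : Type u := ↑((ModuleCat.restrictScalars D.ι).obj (ModuleCat.of B' B'))

/-- view an element of `B'` as an element of `PX`. -/
def toPX (p : B') : D.PX := p
/-- view an element of `PX` as an element of `B'`. -/
def ofPX (p : D.PX) : B' := p

/-- the divided difference on `PX`. -/
def dS (p : D.PX) : D.PX := D.toPX (D.s (D.ofPX p))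

lemma dS_zero : D.dS (0 : D.PX) = 0 := D.s_zero
lemma dS_add (a b : D.PX) : D.dS (a + b) = D.dS a + D.dS b := D.s_add a b
lemma dS_smul (r : B) (a : D.PX) : D.dS (r • a) = r • D.dS a := D.s_smul r a

/-- the evaluation map `B' ⊗ M → M` as a map of `B'`-modules. -/
noncomputable def ev (M : ModuleCat.{u} B) :
    (ModuleCat.extendScalars.{u, u, u} D.ι).obj M ⟶ (ModuleCat.restrictScalars D.π).obj M :=
  ((ModuleCat.extendRestrictScalarsAdj D.ι).homEquiv M
    ((ModuleCat.restrictScalars D.π).obj M)).symm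
    (ModuleCat.ofHom
      (Y := (ModuleCat.restrictScalars D.ι).obj ((ModuleCat.restrictScalars D.π).obj M))
      { toFun := fun m => m
        map_add' := fun _ _ => rfl
        map_smul' := fun r m => by
          change r • m = D.π (D.ι r) • m
          rw [D.hπι_apply] })

lemma ev_tmul (M : ModuleCat.{u} B) (p : B') (m : M) :
    (D.ev M).hom (p ⊗ₜ m) = (D.π p • m : M) := by
  rfl

/-- multiplication by `t` on a `B'`-module. -/
noncomputable def mulT (J : ModuleCat.{u} B') : J ⟶ J := D.t • 𝟙 J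

lemma mulT_apply (J : ModuleCat.{u} B') (j : J) : (D.mulT J).hom j = D.t • j := rfl

lemma mulT_comm {J J' : ModuleCat.{u} B'} (f : J ⟶ J') : D.mulT J ≫ f = f ≫ D.mulT J' := by
  unfold mulT
  rw [Linear.smul_comp, Linear.comp_smul, Category.id_comp, Category.comp_id]

/-- the additive retraction `p ⊗ m ↦ s p ⊗ m` of multiplication by `t`. -/
noncomputable def sHom (M : ModuleCat.{u} B) : D.PX ⊗[B] M →+ D.PX ⊗[B] M :=
  TensorProduct.liftAddHom
    { toFun := fun p =>
        { toFun := fun m => D.dS p ⊗ₜ[B] m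
          map_zero' := TensorProduct.tmul_zero _ _
          map_add' := fun a b => TensorProduct.tmul_add _ _ _ }
      map_zero' := by
        ext m
        change D.dS (0 : D.PX) ⊗ₜ[B] m = 0
        rw [dS_zero, TensorProduct.zero_tmul]
      map_add' := fun a b => by
        ext m
        change D.dS (a + b) ⊗ₜ[B] m = D.dS a ⊗ₜ[B] m + D.dS b ⊗ₜ[B] m
        rw [dS_add, TensorProduct.add_tmul] }
    (by
      intro r p m
      change D.dS (r • p) ⊗ₜ[B] m = D.dS p ⊗ₜ[B] (r • m)
      rw [dS_smul]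
      exact TensorProduct.smul_tmul r (D.dS p) m)

lemma sHom_tmul (M : ModuleCat.{u} B) (p : D.PX) (m : M) :
    D.sHom M (p ⊗ₜ m) = D.dS p ⊗ₜ m := by
  rfl

/-- the underlying additive map of `mulT` on `B' ⊗ M`. -/
noncomputable def mulTfun (M : ModuleCat.{u} B) (z : D.PX ⊗[B] M) : D.PX ⊗[B] M :=
  (D.mulT ((ModuleCat.extendScalars.{u, u, u} D.ι).obj M)).hom z

/-- the underlying additive map of `ev`. -/
noncomputable def evfun (M : ModuleCat.{u} B) (z : D.PX ⊗[B] M) : M := (D.ev M).hom z

lemma mulTfun_add (M : ModuleCat.{u} B) (a b : D.PX ⊗[B] M) :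
    D.mulTfun M (a + b) = D.mulTfun M a + D.mulTfun M b :=
  map_add (D.mulT ((ModuleCat.extendScalars.{u, u, u} D.ι).obj M)).hom a b

lemma mulTfun_zero (M : ModuleCat.{u} B) : D.mulTfun M 0 = 0 :=
  map_zero (D.mulT ((ModuleCat.extendScalars.{u, u, u} D.ι).obj M)).hom

lemma evfun_add (M : ModuleCat.{u} B) (a b : D.PX ⊗[B] M) :
    D.evfun M (a + b) = D.evfun M a + D.evfun M b := map_add (D.ev M).hom a b

lemma evfun_zero (M : ModuleCat.{u} B) : D.evfun M 0 = 0 := map_zero (D.ev M).hom

lemma mulTfun_tmul (M : ModuleCat.{u} B) (p : D.PX) (m : M) :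
    D.mulTfun M (p ⊗ₜ m) = D.toPX (D.t * D.ofPX p) ⊗ₜ m := rfl

lemma evfun_tmul (M : ModuleCat.{u} B) (p : D.PX) (m : M) :
    D.evfun M (p ⊗ₜ m) = D.π (D.ofPX p) • m := rfl

lemma dS_toPX_t_mul (p : D.PX) : D.dS (D.toPX (D.t * D.ofPX p)) = p := D.s_mul (D.ofPX p)

lemma px_key (p : D.PX) :
    p = D.toPX (D.t * D.ofPX (D.dS p)) + D.π (D.ofPX p) • D.toPX (1 : B') := by
  have h := D.key (D.ofPX p)
  have h2 : D.π (D.ofPX p) • D.toPX (1 : B') = D.toPX (D.ι (D.π (D.ofPX p)) * 1) := rfl
  rw [h2, mul_one]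
  exact h

lemma sHom_mulTfun (M : ModuleCat.{u} B) (z : D.PX ⊗[B] M) :
    D.sHom M (D.mulTfun M z) = z := by
  induction z using TensorProduct.induction_on with
  | zero => rw [mulTfun_zero, map_zero]
  | tmul p m =>
    rw [mulTfun_tmul, sHom_tmul]
    rw [dS_toPX_t_mul]
  | add a b ha hb => rw [mulTfun_add, map_add, ha, hb]

lemma eq_mulTfun_add (M : ModuleCat.{u} B) (z : D.PX ⊗[B] M) :
    z = D.mulTfun M (D.sHom M z) + D.toPX (1 : B') ⊗ₜ[B] (D.evfun M z) := by
  induction z using TensorProduct.induction_on with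
  | zero => rw [map_zero, mulTfun_zero, evfun_zero, TensorProduct.tmul_zero, add_zero]
  | tmul p m =>
    rw [sHom_tmul, mulTfun_tmul, evfun_tmul, ← TensorProduct.smul_tmul, ← TensorProduct.add_tmul]
    rw [← px_key]
  | add a b ha hb =>
    rw [map_add, mulTfun_add, evfun_add, TensorProduct.tmul_add]
    nth_rw 1 [ha, hb]
    abel

lemma mulT_ev (M : ModuleCat.{u} B) :
    D.mulT ((ModuleCat.extendScalars.{u, u, u} D.ι).obj M) ≫ D.ev M = 0 := by
  apply ModuleCat.hom_ext
  apply LinearMap.ext
  intro z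
  change (D.ev M).hom (D.t • z) = 0
  rw [map_smul]
  change D.π D.t • (show ↑M from (D.ev M).hom z) = 0
  rw [D.ht, zero_smul]

/-- the short complex `B' ⊗ M → B' ⊗ M → M`. -/
noncomputable def sc2 (M : ModuleCat.{u} B) : ShortComplex (ModuleCat.{u} B') :=
  ShortComplex.mk (D.mulT ((ModuleCat.extendScalars.{u, u, u} D.ι).obj M)) (D.ev M) (D.mulT_ev M)

lemma sc2_shortExact (M : ModuleCat.{u} B) : (D.sc2 M).ShortExact where
  exact := by
    rw [ShortComplex.moduleCat_exact_iff]
    intro (z : D.PX ⊗[B] M) (hz : D.evfun M z = 0)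
    refine ⟨D.sHom M z, ?_⟩
    have h := D.eq_mulTfun_add M z
    rw [hz, TensorProduct.tmul_zero, add_zero] at h
    exact h.symm
  mono_f := by
    rw [ModuleCat.mono_iff_injective]
    intro (a : D.PX ⊗[B] M) (b : D.PX ⊗[B] M) (hab : D.mulTfun M a = D.mulTfun M b)
    rw [← D.sHom_mulTfun M a, hab, D.sHom_mulTfun]
  epi_g := by
    rw [ModuleCat.epi_iff_surjective]
    intro (m : M)
    refine ⟨D.toPX (1 : B') ⊗ₜ[B] m, ?_⟩
    change D.evfun M (D.toPX (1 : B') ⊗ₜ[B] m) = m
    rw [evfun_tmul]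
    change D.π (1 : B') • m = m
    rw [map_one, one_smul]

/-- the underlying function of `extendScalars.map f`. -/
noncomputable def extfun {M N : ModuleCat.{u} B} (f : M ⟶ N) (z : D.PX ⊗[B] M) : D.PX ⊗[B] N :=
  ((ModuleCat.extendScalars.{u, u, u} D.ι).map f).hom z

lemma extfun_add {M N : ModuleCat.{u} B} (f : M ⟶ N) (a b : D.PX ⊗[B] M) :
    D.extfun f (a + b) = D.extfun f a + D.extfun f b :=
  map_add ((ModuleCat.extendScalars.{u, u, u} D.ι).map f).hom a b

lemma extfun_zero {M N : ModuleCat.{u} B} (f : M ⟶ N) : D.extfun f (0 : D.PX ⊗[B] M) = 0 :=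
  map_zero ((ModuleCat.extendScalars.{u, u, u} D.ι).map f).hom

lemma extfun_tmul {M N : ModuleCat.{u} B} (f : M ⟶ N) (p : D.PX) (m : M) :
    D.extfun f (p ⊗ₜ m) = p ⊗ₜ f.hom m := rfl

lemma ev_naturality {M N : ModuleCat.{u} B} (f : M ⟶ N) :
    (ModuleCat.extendScalars.{u, u, u} D.ι).map f ≫ D.ev N =
      D.ev M ≫ (ModuleCat.restrictScalars D.π).map f := by
  apply ModuleCat.hom_ext
  apply LinearMap.ext
  intro (z : D.PX ⊗[B] M)
  change D.evfun N (D.extfun f z) = f.hom (D.evfun M z)
  induction z using TensorProduct.induction_on with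
  | zero => rw [extfun_zero, evfun_zero, evfun_zero, map_zero]
  | tmul p m => rw [extfun_tmul, evfun_tmul, evfun_tmul, map_smul]
  | add a b ha hb => rw [extfun_add, evfun_add, evfun_add, map_add, ha, hb]

/-- `ev` as a natural transformation. -/
noncomputable def evNat : ModuleCat.extendScalars.{u, u, u} D.ι ⟶
    ModuleCat.restrictScalars D.π where
  app M := D.ev M
  naturality _ _ f := D.ev_naturality f

end OVData

end Groth.Agent.Lib.Helper5.Shrk
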