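import Mathlib
import Groth.Agent.Lib.Helper5ShrkB
import Groth.Agent.Lib.Helper5CoextB
import Groth.Agent.Lib.Helper17KInj12
set_option backward.isDefEq.respectTransparency.types false

/-!
# One-variable extensions: `RHom_{B'}(B, N ⊗ B') ≅ N[-1]` (helper5)

For `D : OVData B B'` (`B' = B[y]`-like, `π : B' → B` with kernel generated by the nonzerodivisor
`t`) and any `N ∈ D(B)`: `R_π (Lι^* N) ≅ N[-1]`, where `R_π` is a right adjoint of restriction of
scalars along `π` (`ov_main`).
-/

set_option autoImplicit false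
set_option linter.style.haveILetI false
universe u
open CategoryTheory CategoryTheory.Limits TensorProduct
attribute [local instance] HasDerivedCategory.standard

namespace Groth.Agent.Lib.Helper5.Shrk

open DerivedCategory Pretriangulated Groth.Agent.Lib.Helper1.LDer Groth.Agent.Lib.Helper1.Restrict

namespace OVData

variable {B B' : Type u} [CommRing B] [CommRing B'] (D : OVData B B')

section Mod

/-- the counit `Hom_{B'}(B, J) → J`, `g ↦ g 1`. -/
noncomputable def cu (J : ModuleCat.{u} B') :
    (ModuleCat.restrictScalars.{u} D.π).obj ((ModuleCat.coextendScalars.{u} D.π).obj J) ⟶ J :=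
  (ModuleCat.restrictCoextendScalarsAdj.{u} D.π).counit.app J

lemma cu_apply (J : ModuleCat.{u} B')
    (g : ↑((ModuleCat.coextendScalars.{u} D.π).obj J)) :
    (D.cu J).hom g = (ModuleCat.CoextendScalars.equiv D.π J g) (1 : B) := rfl

lemma lin_apply (J : ModuleCat.{u} B')
    (γ : ↑((ModuleCat.restrictScalars D.π).obj (ModuleCat.of B B)) →ₗ[B'] ↑J) (b : B) :
    γ b = D.ι b • γ (1 : B) := by
  rw [← γ.map_smul]
  congr 1
  change b = D.π (D.ι b) * 1
  rw [D.hπι_apply, mul_one]

lemma cu_injective (J : ModuleCat.{u} B') : Function.Injective (D.cu J).hom := by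
  intro (g : ↑((ModuleCat.coextendScalars.{u} D.π).obj J))
    (g' : ↑((ModuleCat.coextendScalars.{u} D.π).obj J)) h
  apply ModuleCat.CoextendScalars.ext
  apply LinearMap.ext
  intro (b : B)
  rw [D.lin_apply J _ b, D.lin_apply J _ b]
  exact congrArg (fun j => D.ι b • j) h

lemma cu_mulT (J : ModuleCat.{u} B') : D.cu J ≫ D.mulT J = 0 := by
  apply ModuleCat.hom_ext
  apply LinearMap.ext
  intro (g : ↑((ModuleCat.coextendScalars.{u} D.π).obj J))
  change D.t • (ModuleCat.CoextendScalars.equiv D.π J g) (1 : B) = 0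
  rw [← (ModuleCat.CoextendScalars.equiv D.π J g).map_smul]
  have h1 : (D.t • (show ↑((ModuleCat.restrictScalars D.π).obj (ModuleCat.of B B)) from (1 : B))) =
      (0 : B) := by
    change D.π D.t * 1 = 0
    rw [D.ht, zero_mul]
  rw [h1]
  exact map_zero _

lemma smul_eq_of_t_smul_eq_zero (J : ModuleCat.{u} B') (j : J) (hj : D.t • j = 0) (r : B') :
    r • j = D.ι (D.π r) • j := by
  conv_lhs => rw [D.key r]
  rw [add_smul, mul_comm, mul_smul, hj, smul_zero, zero_add]

lemma exists_of_t_smul_eq_zero (J : ModuleCat.{u} B') (j : J) (hj : D.t • j = 0) :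
    ∃ g : ↑((ModuleCat.coextendScalars.{u} D.π).obj J), (D.cu J).hom g = j := by
  let γ : ↑((ModuleCat.restrictScalars D.π).obj (ModuleCat.of B B)) →ₗ[B'] ↑J :=
    { toFun := fun b => D.ι (show B from b) • j
      map_add' := fun x y => by
        change D.ι ((show B from x) + (show B from y)) • j = _
        rw [map_add, add_smul]
      map_smul' := fun r x => by
        change D.ι (D.π r * (show B from x)) • j = r • D.ι (show B from x) • j
        rw [map_mul, mul_smul, smul_comm r, D.smul_eq_of_t_smul_eq_zero J j hj r, smul_comm] }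
  refine ⟨(ModuleCat.CoextendScalars.equiv D.π J).symm γ, ?_⟩
  change D.ι (1 : B) • j = j
  rw [map_one, one_smul]

lemma t_smul_surjective (J : ModuleCat.{u} B') [Injective J] (j : J) :
    ∃ j' : J, D.t • j' = j := by
  let m : ModuleCat.of B' B' ⟶ ModuleCat.of B' B' := D.mulT _
  haveI : Mono m := by
    rw [ModuleCat.mono_iff_injective]
    intro (x : B') (y : B') (h : D.t * x = D.t * y)
    exact D.t_cancel h
  let g : ModuleCat.of B' B' ⟶ J := ModuleCat.ofHom (LinearMap.toSpanSingleton B' J j)
  refine ⟨(Injective.factorThru g m).hom (1 : B'), ?_⟩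
  have h1 : m ≫ Injective.factorThru g m = g := Injective.comp_factorThru g m
  have h2 := congrArg (fun φ : ModuleCat.of B' B' ⟶ J => φ.hom (1 : B')) h1
  have h3 : (m ≫ Injective.factorThru g m).hom (1 : B') =
      D.t • (Injective.factorThru g m).hom (1 : B') := by
    change (Injective.factorThru g m).hom (D.t • (1 : B')) = _
    rw [map_smul]
  have h4 : g.hom (1 : B') = j := by
    change (1 : B') • j = j
    rw [one_smul]
  rw [← h3, ← h4]
  exact h2

/-- the short complex `Hom_{B'}(B, J) → J → J`. -/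
noncomputable def sc1 (J : ModuleCat.{u} B') : ShortComplex (ModuleCat.{u} B') :=
  ShortComplex.mk (D.cu J) (D.mulT J) (D.cu_mulT J)

lemma sc1_shortExact (J : ModuleCat.{u} B') [Injective J] : (D.sc1 J).ShortExact where
  exact := by
    rw [ShortComplex.moduleCat_exact_iff]
    intro (j : J) (hj : D.t • j = 0)
    exact D.exists_of_t_smul_eq_zero J j hj
  mono_f := by
    rw [ModuleCat.mono_iff_injective]
    exact D.cu_injective J
  epi_g := by
    rw [ModuleCat.epi_iff_surjective]
    intro (j : J)
    exact D.t_smul_surjective J j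

end Mod

section Cx

/-- multiplication by `t` on a complex of `B'`-modules. -/
noncomputable def mulTCx (K : DRing.Cx B') : K ⟶ K where
  f i := D.mulT (K.X i)
  comm' i j _ := D.mulT_comm (K.d i j)

lemma mulTCx_comm {K L : DRing.Cx B'} (f : K ⟶ L) : D.mulTCx K ≫ f = f ≫ D.mulTCx L := by
  refine HomologicalComplex.hom_ext _ _ fun i => ?_
  exact D.mulT_comm (f.f i)

/-- evaluation `G ⊗ B' → G`. -/
noncomputable def evCx (G : DRing.Cx B) :
    (bcCx D.ι).obj G ⟶ (DRing.restrictCx D.π).obj G :=
  (NatTrans.mapHomologicalComplex D.evNat (ComplexShape.up ℤ)).app G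

lemma mulTCx_evCx (G : DRing.Cx B) : D.mulTCx ((bcCx D.ι).obj G) ≫ D.evCx G = 0 := by
  refine HomologicalComplex.hom_ext _ _ fun i => ?_
  exact D.mulT_ev (G.X i)

/-- the short exact sequence `0 → G ⊗ B' → G ⊗ B' → G → 0`. -/
noncomputable def scX2 (G : DRing.Cx B) : ShortComplex (DRing.Cx B') :=
  ShortComplex.mk (D.mulTCx ((bcCx D.ι).obj G)) (D.evCx G) (D.mulTCx_evCx G)

lemma scX2_shortExact (G : DRing.Cx B) : (D.scX2 G).ShortExact :=
  HomologicalComplex.shortExact_of_degreewise_shortExact _ (fun i => D.sc2_shortExact (G.X i))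

/-- the termwise counit `Hom_{B'}(B, I) → I`. -/
noncomputable def cuCx (I : DRing.Cx B') :
    (DRing.restrictCx D.π).obj
      (((ModuleCat.coextendScalars.{u} D.π).mapHomologicalComplex (ComplexShape.up ℤ)).obj I) ⟶
      I :=
  (Groth.Agent.Lib.Helper17.SerreLoc.adjHC (ModuleCat.restrictCoextendScalarsAdj.{u} D.π)
    (ComplexShape.up ℤ)).counit.app I

lemma cuCx_mulTCx (I : DRing.Cx B') : D.cuCx I ≫ D.mulTCx I = 0 := by
  refine HomologicalComplex.hom_ext _ _ fun i => ?_
  exact D.cu_mulT (I.X i)

/-- the short exact sequence `0 → Hom_{B'}(B, I) → I → I → 0`. -/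
noncomputable def scX1 (I : DRing.Cx B') : ShortComplex (DRing.Cx B') :=
  ShortComplex.mk (D.cuCx I) (D.mulTCx I) (D.cuCx_mulTCx I)

lemma scX1_shortExact (I : DRing.Cx B') (hI : ∀ n, Injective (I.X n)) : (D.scX1 I).ShortExact :=
  HomologicalComplex.shortExact_of_degreewise_shortExact _ (fun i =>
    haveI := hI i
    D.sc1_shortExact (I.X i))

end Cx

end OVData

end Groth.Agent.Lib.Helper5.Shrk
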