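import Mathlib
import Groth.Agent.Lib.Helper5ShrkC
set_option backward.isDefEq.respectTransparency.types false

/-!
# One-variable extensions: `R_π (Lι^* N) ≅ N[-1]` (helper5)
-/

set_option autoImplicit false
set_option linter.style.haveILetI false
universe u
open CategoryTheory CategoryTheory.Limits TensorProduct
attribute [local instance] HasDerivedCategory.standard

namespace Groth.Agent.Lib.Helper5.Shrk

open DerivedCategory Pretriangulated Groth.Agent.Lib.Helper1.LDer Groth.Agent.Lib.Helper1.Restrict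

variable {B B' : Type u} [CommRing B] [CommRing B']

/-- for a one-variable extension, `RHom_{B'}(B, N ⊗^L_B B') ≅ N[-1]`. -/
theorem ov_main (D : OVData B B') [DRing.HasLBaseChange D.ι] (Rπ : Dual.D B' ⥤ Dual.D B)
    (adj : DRing.restrictD D.π ⊣ Rπ) (N : Dual.D B) :
    Nonempty (Rπ.obj ((DRing.LBaseChange D.ι).obj N) ≅ N⟦(-1 : ℤ)⟧) := by
  letI : Algebra B' B := D.π.toAlgebra
  have eR : Rπ ≅ Groth.Agent.Lib.Helper5.Coext.RG B' B :=
    adj.rightAdjointUniq (Groth.Agent.Lib.Helper5.Coext.adjD B' B)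
  obtain ⟨r⟩ := nonempty_kpRep N
  haveI := r.kp
  obtain ⟨I, f, hI, hf, -, hinj⟩ :=
    Groth.Agent.Lib.Helper17.KInj.exists_kInjective_resolution (ModuleCat.{u} B')
      ((bcCx D.ι).obj r.G)
  haveI := hI
  haveI := hf
  haveI hQf : IsIso ((Q : DRing.Cx B' ⥤ Dual.D B').map f) :=
    (DerivedCategory.isIso_Q_map_iff_quasiIso (φ := f)).2 hf
  let eQ : (Q : DRing.Cx B' ⥤ Dual.D B').obj ((bcCx D.ι).obj r.G) ≅ Q.obj I :=
    asIso ((Q : DRing.Cx B' ⥤ Dual.D B').map f)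
  have heQ : eQ.hom = Q.map f := rfl
  have hT₂ := DerivedCategory.triangleOfSES_distinguished (D.scX2_shortExact r.G)
  have hT₁ := rot_of_distTriang _
    (DerivedCategory.triangleOfSES_distinguished (D.scX1_shortExact I hinj))
  have comm : (triangleOfSES (D.scX2_shortExact r.G)).mor₁ ≫ eQ.hom =
      eQ.hom ≫ (triangleOfSES (D.scX1_shortExact I hinj)).rotate.mor₁ := by
    rw [heQ]
    change Q.map (D.mulTCx _) ≫ Q.map f = Q.map f ≫ Q.map (D.mulTCx I)
    rw [← Q.map_comp, ← Q.map_comp, D.mulTCx_comm f]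
  let θ := isoTriangleOfIso₁₂ _ _ hT₂ hT₁ eQ eQ comm
  let e₃ : Q.obj ((DRing.restrictCx D.π).obj r.G) ≅
      (Q.obj ((DRing.restrictCx D.π).obj
        (((ModuleCat.coextendScalars.{u} D.π).mapHomologicalComplex
          (ComplexShape.up ℤ)).obj I)))⟦(1 : ℤ)⟧ :=
    Triangle.π₃.mapIso θ
  let eM : (DRing.LBaseChange D.ι).obj N ≅ Q.obj I := r.lbcIso D.ι ≪≫ eQ
  let eX : Rπ.obj ((DRing.LBaseChange D.ι).obj N) ≅
      Q.obj (((ModuleCat.coextendScalars.{u} D.π).mapHomologicalComplex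
        (ComplexShape.up ℤ)).obj I) :=
    eR.app _ ≪≫ (Groth.Agent.Lib.Helper5.Coext.RG B' B).mapIso eM ≪≫
      (Groth.Agent.Lib.Helper5.Coext.isoRG B I).symm
  let a : (DRing.restrictD D.π).obj N ≅
      ((DRing.restrictD D.π).obj (Rπ.obj ((DRing.LBaseChange D.ι).obj N)))⟦(1 : ℤ)⟧ :=
    (DRing.restrictD D.π).mapIso r.e.symm ≪≫ restrictQIso D.π r.G ≪≫ e₃ ≪≫
      (shiftFunctor (Dual.D B') (1 : ℤ)).mapIso
        ((restrictQIso D.π _).symm ≪≫ (DRing.restrictD D.π).mapIso eX.symm)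
  let b : N ≅ (Rπ.obj ((DRing.LBaseChange D.ι).obj N))⟦(1 : ℤ)⟧ :=
    (restrictRestrictIso D.ι D.π D.hπι N).symm ≪≫ (DRing.restrictD D.ι).mapIso a ≪≫
      ((DRing.restrictD D.ι).commShiftIso (1 : ℤ)).app _ ≪≫
      (shiftFunctor (Dual.D B) (1 : ℤ)).mapIso (restrictRestrictIso D.ι D.π D.hπι _)
  exact ⟨(shiftShiftNeg _ (1 : ℤ)).symm ≪≫ (shiftFunctor (Dual.D B) (-1 : ℤ)).mapIso b.symm⟩

end Groth.Agent.Lib.Helper5.Shrk
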