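import Mathlib
import Groth.Agent.Lib.Helper5ShrkD
set_option backward.isDefEq.respectTransparency.types false

/-!
# Polynomial extensions: `R_π (L(P → P')^* N) ≅ N[-m]` (helper5)

`kp_main`: let `P'` be a `P`-algebra isomorphic to the polynomial ring in `m` variables over `P`
and `π : P' → P` a `P`-algebra retraction.  Then `R_π (N ⊗^L_P P') ≅ N[-m]` for every `N ∈ D(P)`.
-/

set_option autoImplicit false
set_option linter.style.haveILetI false
universe u
open CategoryTheory CategoryTheory.Limits TensorProduct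
attribute [local instance] HasDerivedCategory.standard

namespace Groth.Agent.Lib.Helper5.Shrk

open DerivedCategory Pretriangulated Groth.Agent.Lib.Helper5.HasLDer

/-- restriction of scalars along any ring map has a right adjoint. -/
theorem exists_rightAdjoint {A B : Type u} [CommRing A] [CommRing B] (φ : A →+* B) :
    ∃ R : Dual.D A ⥤ Dual.D B, Nonempty (DRing.restrictD φ ⊣ R) := by
  letI : Algebra A B := φ.toAlgebra
  exact ⟨Groth.Agent.Lib.Helper5.Coext.RG A B, ⟨Groth.Agent.Lib.Helper5.Coext.adjD A B⟩⟩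

/-- one step of the induction. -/
theorem kp_step {P P₁ P' : Type u} [CommRing P] [CommRing P₁] [CommRing P']
    (ι₁ : P →+* P₁) (D : OVData P₁ P') (ι : P →+* P') (hι : D.ι.comp ι₁ = ι)
    (π₂ : P₁ →+* P) (π : P' →+* P) (hπ : π₂.comp D.π = π)
    [DRing.HasLBaseChange ι₁] [DRing.HasLBaseChange ι] (k k' : ℤ) (hk : k + (-1) = k')
    (hIH : ∀ (R₂ : Dual.D P₁ ⥤ Dual.D P) (_ : DRing.restrictD π₂ ⊣ R₂) (N : Dual.D P),
      Nonempty (R₂.obj ((DRing.LBaseChange ι₁).obj N) ≅ N⟦k⟧))
    (Rπ : Dual.D P' ⥤ Dual.D P) (adj : DRing.restrictD π ⊣ Rπ) (N : Dual.D P) :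
    Nonempty (Rπ.obj ((DRing.LBaseChange ι).obj N) ≅ N⟦k'⟧) := by
  haveI := hasLBaseChange D.ι
  obtain ⟨R₁, ⟨adj₁⟩⟩ := exists_rightAdjoint D.π
  obtain ⟨R₂, ⟨adj₂⟩⟩ := exists_rightAdjoint π₂
  letI : R₂.CommShift ℤ := adj₂.rightAdjointCommShift ℤ
  obtain ⟨c1⟩ := nonempty_lbc_comp_iso_all N ι₁ D.ι ι hι
  obtain ⟨c2⟩ := nonempty_rightAdjoint_comp_iso D.π π₂ π hπ.symm R₁ adj₁ R₂ adj₂ Rπ adj
  obtain ⟨c3⟩ := ov_main D R₁ adj₁ ((DRing.LBaseChange ι₁).obj N)
  obtain ⟨c4⟩ := hIH R₂ adj₂ N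
  exact ⟨Rπ.mapIso c1.symm ≪≫ c2.app _ ≪≫ R₂.mapIso c3 ≪≫ (R₂.commShiftIso (-1 : ℤ)).app _ ≪≫
    (shiftFunctor (Dual.D P) (-1 : ℤ)).mapIso c4 ≪≫
    ((shiftFunctorAdd' (Dual.D P) k (-1) k' hk).app N).symm⟩

/-- `R_π (N ⊗^L_P P') ≅ N[-m]` for `P'` a polynomial ring in `m` variables over `P` and `π` a
retraction. -/
theorem kp_main (m : ℕ) : ∀ (P P' : Type u) [CommRing P] [CommRing P'] [Algebra P P']
    (_ : P' ≃ₐ[P] MvPolynomial (Fin m) P) (π : P' →ₐ[P] P)
    [DRing.HasLBaseChange (algebraMap P P')]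
    (Rπ : Dual.D P' ⥤ Dual.D P) (_ : DRing.restrictD π.toRingHom ⊣ Rπ) (N : Dual.D P),
    Nonempty (Rπ.obj ((DRing.LBaseChange (algebraMap P P')).obj N) ≅ N⟦-(m : ℤ)⟧) := by
  induction m with
  | zero =>
    intro P P' _ _ _ e π _ Rπ adj N
    let e₀ : P' ≃ₐ[P] P := e.trans (MvPolynomial.isEmptyAlgEquiv P (Fin 0))
    have hx : ∀ x : P', algebraMap P P' (e₀ x) = x := fun x =>
      e₀.injective (e₀.commutes (e₀ x))
    have h1 : π.toRingHom.comp (algebraMap P P') = RingHom.id P :=
      RingHom.ext fun p => π.commutes p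
    have h2 : (algebraMap P P').comp π.toRingHom = RingHom.id P' := by
      refine RingHom.ext fun x => ?_
      show algebraMap P P' (π x) = x
      have h3 : π x = e₀ x := by
        conv_lhs => rw [← hx x]
        exact π.commutes (e₀ x)
      rw [h3, hx]
    obtain ⟨c⟩ := nonempty_rightAdjoint_lbc_iso_of_inverse (algebraMap P P') π.toRingHom h1 h2
      Rπ adj N
    exact ⟨c ≪≫ ((shiftFunctorZero' (Dual.D P) (-((0 : ℕ) : ℤ)) (by simp)).app N).symm⟩
  | succ m ih =>
    intro P P' _ _ _ e π _ Rπ adj N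
    let E : P' ≃ₐ[P] Polynomial (MvPolynomial (Fin m) P) :=
      e.trans (MvPolynomial.finSuccEquiv P m)
    let ιa : MvPolynomial (Fin m) P →ₐ[P] P' := E.symm.toAlgHom.comp Polynomial.CAlgHom
    let c₀ : P := π (E.symm Polynomial.X)
    let c : MvPolynomial (Fin m) P := MvPolynomial.C c₀
    let π₁ : P' →+* MvPolynomial (Fin m) P :=
      (Polynomial.evalRingHom c).comp E.toAlgHom.toRingHom
    let t : P' := E.symm (Polynomial.X - Polynomial.C c)
    let π₂ : MvPolynomial (Fin m) P →ₐ[P] P := π.comp ιa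
    have hπι : π₁.comp ιa.toRingHom = RingHom.id _ := by
      refine RingHom.ext fun a => ?_
      show Polynomial.eval c (E (E.symm (Polynomial.C a))) = a
      rw [E.apply_symm_apply, Polynomial.eval_C]
    have ht : π₁ t = 0 := by
      show Polynomial.eval c (E (E.symm (Polynomial.X - Polynomial.C c))) = 0
      rw [E.apply_symm_apply, Polynomial.eval_sub, Polynomial.eval_X, Polynomial.eval_C, sub_self]
    have hreg : ∀ x : P', t * x = 0 → x = 0 := by
      intro x hx
      have h1 : (Polynomial.X - Polynomial.C c) * E x = 0 := by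
        have h0 := congrArg E hx
        rwa [map_mul, E.apply_symm_apply, map_zero] at h0
      have h2 : E x = 0 := (Polynomial.monic_X_sub_C c).mul_right_eq_zero_iff.1 h1
      exact E.injective (h2.trans (map_zero E).symm)
    have hker : ∀ x : P', π₁ x = 0 → ∃ y, x = t * y := by
      intro x hx
      have h1 : (Polynomial.X - Polynomial.C c) ∣ E x := Polynomial.dvd_iff_isRoot.2 hx
      obtain ⟨q, hq⟩ := h1
      refine ⟨E.symm q, E.injective ?_⟩
      rw [map_mul, E.apply_symm_apply, E.apply_symm_apply, hq]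
    let D : OVData (MvPolynomial (Fin m) P) P' :=
      OVData.ofRegular ιa.toRingHom π₁ t hπι ht hreg hker
    have hι : D.ι.comp (algebraMap P (MvPolynomial (Fin m) P)) = algebraMap P P' :=
      ιa.comp_algebraMap
    have hπ : π₂.toRingHom.comp D.π = π.toRingHom := by
      have key : π₂.toRingHom.comp (Polynomial.evalRingHom c) =
          π.toRingHom.comp E.symm.toAlgHom.toRingHom := by
        apply Polynomial.ringHom_ext
        · intro a
          show π₂ (Polynomial.eval c (Polynomial.C a)) = π (E.symm (Polynomial.C a))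
          rw [Polynomial.eval_C]
          rfl
        · show π₂ (Polynomial.eval c Polynomial.X) = π (E.symm Polynomial.X)
          rw [Polynomial.eval_X]
          exact π₂.commutes c₀
      refine RingHom.ext fun x => ?_
      have h3 := RingHom.congr_fun key (E x)
      have h4 : π (E.symm (E x)) = π x := by rw [E.symm_apply_apply]
      exact h3.trans h4
    haveI := hasLBaseChange (algebraMap P (MvPolynomial (Fin m) P))
    exact kp_step (algebraMap P (MvPolynomial (Fin m) P)) D (algebraMap P P') hι π₂.toRingHom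
      π.toRingHom hπ (-(m : ℤ)) (-((m + 1 : ℕ) : ℤ)) (by push_cast; ring)
      (fun R₂ adj₂ N' => ih P (MvPolynomial (Fin m) P) AlgEquiv.refl π₂ R₂ adj₂ N') Rπ adj N

end Groth.Agent.Lib.Helper5.Shrk
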