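import Mathlib
import Groth.Agent.Lib.Helper5ShrkE
import Groth.Prelude.Def_DualSh
set_option backward.isDefEq.respectTransparency.types false

/-!
# Independence of the upper shriek of the presentation (helper5)

* `shriek_poly_ext`: for `R → P → A` and a polynomial extension `P'` of `P` with a retraction
  `π : P' → P`, the upper shriek formed from `P' → P → A` (shift `n + m`) agrees with the one formed
  from `P → A` (shift `n`).
* `shriek_indep`: two polynomial presentations of a ring map give isomorphic upper shrieks.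
-/

set_option autoImplicit false
set_option linter.style.haveILetI false
universe u
open CategoryTheory CategoryTheory.Limits TensorProduct
attribute [local instance] HasDerivedCategory.standard

namespace Groth.Agent.Lib.Helper5.Shrk

open DerivedCategory Pretriangulated Groth.Agent.Lib.Helper5.HasLDer

theorem shriek_poly_ext {R P P' A : Type u} [CommRing R] [CommRing P] [CommRing P'] [CommRing A]
    [Algebra P P'] (ιP : R →+* P) (ιP' : R →+* P') (hι : (algebraMap P P').comp ιP = ιP')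
    (m : ℕ) (e : P' ≃ₐ[P] MvPolynomial (Fin m) P) (π : P' →ₐ[P] P)
    (ψ : P →+* A) (ψ₃ : P' →+* A) (hψ : ψ.comp π.toRingHom = ψ₃)
    [DRing.HasLBaseChange ιP] [DRing.HasLBaseChange ιP']
    (Rψ : Dual.D P ⥤ Dual.D A) (adj : DRing.restrictD ψ ⊣ Rψ)
    (Rψ₃ : Dual.D P' ⥤ Dual.D A) (adj₃ : DRing.restrictD ψ₃ ⊣ Rψ₃) (K : Dual.D R)
    (n n' : ℤ) (hn : -(m : ℤ) + n' = n) :
    Nonempty ((Rψ₃.obj ((DRing.LBaseChange ιP').obj K))⟦n'⟧ ≅
      (Rψ.obj ((DRing.LBaseChange ιP).obj K))⟦n⟧) := by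
  haveI := hasLBaseChange (algebraMap P P')
  obtain ⟨Rπ, ⟨adjπ⟩⟩ := exists_rightAdjoint π.toRingHom
  letI : Rψ.CommShift ℤ := adj.rightAdjointCommShift ℤ
  obtain ⟨c1⟩ := nonempty_lbc_comp_iso_all K ιP (algebraMap P P') ιP' hι
  obtain ⟨c2⟩ := nonempty_rightAdjoint_comp_iso π.toRingHom ψ ψ₃ hψ.symm Rπ adjπ Rψ adj Rψ₃ adj₃
  obtain ⟨c3⟩ := kp_main m P P' e π Rπ adjπ ((DRing.LBaseChange ιP).obj K)
  let c : Rψ₃.obj ((DRing.LBaseChange ιP').obj K) ≅
      (Rψ.obj ((DRing.LBaseChange ιP).obj K))⟦-(m : ℤ)⟧ :=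
    Rψ₃.mapIso c1.symm ≪≫ c2.app _ ≪≫ Rψ.mapIso c3 ≪≫ (Rψ.commShiftIso (-(m : ℤ))).app _
  exact ⟨(shiftFunctor (Dual.D A) n').mapIso c ≪≫
    ((shiftFunctorAdd' (Dual.D A) (-(m : ℤ)) n' n hn).app _).symm⟩

/-- the upper shriek does not depend on the polynomial presentation. -/
theorem shriek_indep (R A : Type u) [CommRing R] [CommRing A] [Algebra R A] (n : ℕ)
    (ψ : MvPolynomial (Fin n) R →ₐ[R] A) (hψ : Function.Surjective ψ)
    [DRing.HasLBaseChange (algebraMap R (MvPolynomial (Fin n) R))]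
    (Rψ : Dual.D (MvPolynomial (Fin n) R) ⥤ Dual.D A) (adj : DRing.restrictD ψ.toRingHom ⊣ Rψ)
    (m : ℕ) (ψ' : MvPolynomial (Fin m) R →ₐ[R] A) (hψ' : Function.Surjective ψ')
    [DRing.HasLBaseChange (algebraMap R (MvPolynomial (Fin m) R))]
    (Rψ' : Dual.D (MvPolynomial (Fin m) R) ⥤ Dual.D A)
    (adj' : DRing.restrictD ψ'.toRingHom ⊣ Rψ') (K : Dual.D R) :
    Nonempty (Dual2.shriekVia n Rψ K ≅ Dual2.shriekVia m Rψ' K) := by
  choose p hp using fun j : Fin m => hψ (ψ' (MvPolynomial.X j))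
  choose q hq using fun i : Fin n => hψ' (ψ (MvPolynomial.X i))
  let π₁ : MvPolynomial (Fin m) (MvPolynomial (Fin n) R) →ₐ[MvPolynomial (Fin n) R]
      MvPolynomial (Fin n) R := MvPolynomial.aeval p
  let ψ₃ : MvPolynomial (Fin m) (MvPolynomial (Fin n) R) →ₐ[R] A :=
    ψ.comp (π₁.restrictScalars R)
  haveI := hasLBaseChange (algebraMap R (MvPolynomial (Fin m) (MvPolynomial (Fin n) R)))
  obtain ⟨R₃, ⟨adj₃⟩⟩ := exists_rightAdjoint ψ₃.toRingHom
  -- comparison with the first presentation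
  obtain ⟨a1⟩ := shriek_poly_ext (algebraMap R (MvPolynomial (Fin n) R))
    (algebraMap R (MvPolynomial (Fin m) (MvPolynomial (Fin n) R)))
    (IsScalarTower.algebraMap_eq R (MvPolynomial (Fin n) R)
      (MvPolynomial (Fin m) (MvPolynomial (Fin n) R))).symm m AlgEquiv.refl π₁ ψ.toRingHom
    ψ₃.toRingHom rfl Rψ adj R₃ adj₃ K (n : ℤ) ((n : ℤ) + m) (by ring)
  -- comparison with the second presentation
  let σ := MvPolynomial.commAlgEquiv R (Fin m) (Fin n)
  letI algTw : Algebra (MvPolynomial (Fin m) R) (MvPolynomial (Fin m) (MvPolynomial (Fin n) R)) :=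
    (σ.symm.toAlgHom.toRingHom.comp (algebraMap (MvPolynomial (Fin m) R)
      (MvPolynomial (Fin n) (MvPolynomial (Fin m) R)))).toAlgebra
  let e₂ : MvPolynomial (Fin m) (MvPolynomial (Fin n) R) ≃ₐ[MvPolynomial (Fin m) R]
      MvPolynomial (Fin n) (MvPolynomial (Fin m) R) :=
    AlgEquiv.ofRingEquiv (f := σ.toRingEquiv) (fun x => σ.apply_symm_apply _)
  let π₂R : MvPolynomial (Fin m) (MvPolynomial (Fin n) R) →ₐ[R] MvPolynomial (Fin m) R :=
    ((MvPolynomial.aeval q : MvPolynomial (Fin n) (MvPolynomial (Fin m) R) →ₐ[MvPolynomial (Fin m) R]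
      MvPolynomial (Fin m) R).restrictScalars R).comp σ.toAlgHom
  let π₂ : MvPolynomial (Fin m) (MvPolynomial (Fin n) R) →ₐ[MvPolynomial (Fin m) R]
      MvPolynomial (Fin m) R :=
    { π₂R.toRingHom with
      commutes' := fun x => by
        show MvPolynomial.aeval q (σ (σ.symm (MvPolynomial.C x))) = x
        rw [σ.apply_symm_apply, MvPolynomial.aeval_C]
        rfl }
  have hcomp : ψ'.comp π₂R = ψ₃ := by
    apply MvPolynomial.algHom_ext'
    · apply MvPolynomial.algHom_ext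
      intro i
      show ψ' (MvPolynomial.aeval q (σ (MvPolynomial.C (MvPolynomial.X i)))) =
        ψ (MvPolynomial.aeval p (MvPolynomial.C (MvPolynomial.X i)))
      rw [MvPolynomial.commAlgEquiv_C_X, MvPolynomial.aeval_X, MvPolynomial.aeval_C, hq]
      rfl
    · intro j
      show ψ' (MvPolynomial.aeval q (σ (MvPolynomial.X j))) =
        ψ (MvPolynomial.aeval p (MvPolynomial.X j))
      rw [MvPolynomial.commAlgEquiv_X, MvPolynomial.aeval_C, MvPolynomial.aeval_X, hp]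
      rfl
  have hψ₂ : ψ'.toRingHom.comp π₂.toRingHom = ψ₃.toRingHom :=
    RingHom.ext fun x => AlgHom.congr_fun hcomp x
  have hι₂ : (algebraMap (MvPolynomial (Fin m) R)
      (MvPolynomial (Fin m) (MvPolynomial (Fin n) R))).comp
        (algebraMap R (MvPolynomial (Fin m) R)) =
      algebraMap R (MvPolynomial (Fin m) (MvPolynomial (Fin n) R)) :=
    RingHom.ext fun x => σ.symm.commutes x
  obtain ⟨a2⟩ := shriek_poly_ext (algebraMap R (MvPolynomial (Fin m) R))
    (algebraMap R (MvPolynomial (Fin m) (MvPolynomial (Fin n) R))) hι₂ n e₂ π₂ ψ'.toRingHom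
    ψ₃.toRingHom hψ₂ Rψ' adj' R₃ adj₃ K (m : ℤ) ((n : ℤ) + m) (by ring)
  exact ⟨a1.symm ≪≫ a2⟩

end Groth.Agent.Lib.Helper5.Shrk
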