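import Mathlib
import Groth.Agent.Lib.Helper5ShrkF
import Groth.Agent.Lib.Helper5RelDualG
import Groth.Agent.Lib.Helper5RelGorA
set_option backward.isDefEq.respectTransparency.types false

/-!
# The relative dualizing complex of a flat finite type algebra is relatively dualizing (helper5)

* `nonempty_iso_rightAdjoint_of_restrict_iso'`: for a surjection `P → A` with `A` perfect over `P`,
  an object of `D(A)` whose restriction to `P` is `Hom•(F, P)` is `RHom_P(A, P)` (no dualizing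
  hypothesis on `P`).
* `nonempty_rightAdjoint_lbc_auto_iso`: `R_μ (Lτ^* Y) ≅ R_μ Y` for an automorphism `τ` with
  `μ ∘ τ = μ`.
* `shriek_isRelPerfect`, `shriek_relDualizing_iso`: `ω_{A/R} = φ^!(R)` is `R`-perfect and
  `RHom_{A ⊗ A}(A, ω ⊗^L_A (A ⊗ A)) ≅ A`.
-/

set_option autoImplicit false
set_option linter.style.haveILetI false
universe u
open CategoryTheory CategoryTheory.Limits TensorProduct
attribute [local instance] HasDerivedCategory.standard

namespace Groth.Agent.Lib.Helper5.Shrk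

open DerivedCategory HomologicalComplex CochainComplex.HomComplex Pretriangulated
  Groth.Agent.Lib.Helper1.DT Groth.Agent.Lib.Helper10.DualCx Groth.Agent.Lib.Helper5.Coext
  Groth.Agent.Lib.Helper1.Restrict Groth.Agent.Lib.Helper1.RelBC Groth.Agent.Lib.Helper1.LDer
  Groth.Agent.Lib.Helper5.DeltaRes Groth.Agent.Lib.Helper5.RelDual Groth.Agent.Lib.Helper5.HasLDer

section T6

variable {P A : Type u} [CommRing P] [CommRing A] [Algebra P A]

/-- an object of `D(A)` whose restriction to `P` is `Hom•(F, P)` is `RHom_P(A, P)`. -/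
theorem nonempty_iso_rightAdjoint_of_restrict_iso'
    (hsurj : Function.Surjective (algebraMap P A)) (T : PerfRes P A)
    (Rr : Dual.D P ⥤ Dual.D A) (adj : DRing.restrictD (algebraMap P A) ⊣ Rr)
    (X₀ : Dual.D A) (θ₀ : (DRing.restrictD (algebraMap P A)).obj X₀ ≅ Q.obj (D T.F)) :
    Nonempty (X₀ ≅ Rr.obj (Dual.inD P P)) := by
  haveI := T.isKProjective
  haveI := T.qi
  letI : Rr.CommShift ℤ := adj.rightAdjointCommShift ℤ
  obtain ⟨τ⟩ := nonempty_restrict_rightAdjoint_iso Rr adj T.F T.aF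
  obtain ⟨⟨l⟩, hext⟩ := hom_rightAdjoint Rr adj hsurj T.F T.a T.b T.van T.fp T.aF
    (Rr.obj (Dual.inD P P)) τ
  have hend : Function.Bijective (fun a : A => a • 𝟙 (Rr.obj (Dual.inD P P))) :=
    toEnd_bijective_of_linearEquiv l
  obtain ⟨ε, hε⟩ : ∃ ε : (DRing.restrictD (algebraMap P A)).obj (Rr.obj (Dual.inD P P)) ⟶
      Dual.inD P P, ε = adj.counit.app (Dual.inD P P) := ⟨_, rfl⟩
  obtain ⟨θ', hθ'⟩ : ∃ θ' : (DRing.restrictD (algebraMap P A)).obj X₀ ≅
      (DRing.restrictD (algebraMap P A)).obj (Rr.obj (Dual.inD P P)), θ' = θ₀ ≪≫ τ.symm :=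
    ⟨_, rfl⟩
  obtain ⟨g, hg0⟩ : ∃ g : X₀ ⟶ Rr.obj (Dual.inD P P),
      g = adj.homEquiv X₀ (Dual.inD P P) (θ'.hom ≫ ε) := ⟨_, rfl⟩
  have hg : (DRing.restrictD (algebraMap P A)).map g ≫ ε = θ'.hom ≫ ε := by
    have h := (adj.homEquiv X₀ (Dual.inD P P)).symm_apply_apply (θ'.hom ≫ ε)
    rw [← hg0, Adjunction.homEquiv_counit, ← hε] at h
    exact h
  obtain ⟨γ, hγ0⟩ : ∃ γ : (DRing.restrictD (algebraMap P A)).obj (Rr.obj (Dual.inD P P)) ⟶
      (DRing.restrictD (algebraMap P A)).obj (Rr.obj (Dual.inD P P)),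
      γ = θ'.inv ≫ (DRing.restrictD (algebraMap P A)).map g := ⟨_, rfl⟩
  have hγ : γ ≫ ε = ε := by
    rw [hγ0, Category.assoc, hg, Iso.inv_hom_id_assoc]
  -- `γ` acts as the identity on maps to shifts of `P`
  have hIII : ∀ V : Dual.D P, IsShiftOf (Dual.inD P P) V →
      ∀ h : (DRing.restrictD (algebraMap P A)).obj (Rr.obj (Dual.inD P P)) ⟶ V, γ ≫ h = h := by
    rintro V ⟨i, ⟨eV⟩⟩ h
    by_cases hi : i = 0
    · subst hi
      let z : V ≅ Dual.inD P P := eV ≪≫ (shiftFunctorZero (Dual.D P) ℤ).app (Dual.inD P P)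
      obtain ⟨a, ha⟩ := hend.2
        (adj.homEquiv (Rr.obj (Dual.inD P P)) (Dual.inD P P) (h ≫ z.hom))
      have ha' : a • 𝟙 (Rr.obj (Dual.inD P P)) =
          adj.homEquiv (Rr.obj (Dual.inD P P)) (Dual.inD P P) (h ≫ z.hom) := ha
      obtain ⟨p, rfl⟩ := hsurj a
      have h1 : h ≫ z.hom = p • ε := by
        have h2 := congrArg (adj.homEquiv (Rr.obj (Dual.inD P P)) (Dual.inD P P)).symm ha'
        rw [Equiv.symm_apply_apply, Adjunction.homEquiv_counit, restrictD_map_smul_id,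
          Linear.smul_comp, Category.id_comp, ← hε] at h2
        exact h2.symm
      have h2 : (γ ≫ h) ≫ z.hom = h ≫ z.hom := by
        rw [Category.assoc, h1, Linear.comp_smul, hγ]
      exact (cancel_mono z.hom).1 h2
    · haveI := hext i hi
      have e : (Rr.obj (Dual.inD P P) ⟶ (Rr.obj (Dual.inD P P))⟦i⟧) ≃
          ((DRing.restrictD (algebraMap P A)).obj (Rr.obj (Dual.inD P P)) ⟶
            (Dual.inD P P)⟦i⟧) :=
        (((Rr.commShiftIso i).app _).symm.homToEquiv.trans (adj.homEquiv _ _).symm)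
      haveI : Subsingleton ((DRing.restrictD (algebraMap P A)).obj (Rr.obj (Dual.inD P P)) ⟶
          (Dual.inD P P)⟦i⟧) := e.symm.subsingleton
      have h2 : (γ ≫ h) ≫ eV.hom = h ≫ eV.hom := Subsingleton.elim _ _
      exact (cancel_mono eV.hom).1 h2
  -- transport to complexes
  have hGv := vanishesOutside_D T.F T.a T.b T.van
  have hGp := termwiseFiniteProjective_D T.F T.fp
  haveI : (D T.F).IsKProjective :=
    isKProjective_of_vanishesOutside (D T.F) (-T.b) (-T.a) hGv (fun i => (hGp i).2)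
  obtain ⟨c, hc⟩ := Q_map_surjective (D T.F) (D T.F) (τ.inv ≫ γ ≫ τ.hom)
  have hc' : ∀ V : Dual.D P, IsShiftOf (Dual.inD P P) V →
      ∀ h : Q.obj (D T.F) ⟶ V, Q.map c ≫ h = h := by
    intro V hV h
    rw [hc, Category.assoc, Category.assoc, hIII V hV (τ.hom ≫ h), Iso.inv_hom_id_assoc]
  have hT := DerivedCategory.mappingCone_triangle_distinguished c
  have hcone : IsZero (Q.obj (CochainComplex.mappingCone c)) := by
    refine isZero_of_forall_hom_eq_zero (CochainComplex.mappingCone c) (-T.b - 1) (-T.a)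
      (vanishesOutside_mappingCone c _ _ hGv) (termwiseFiniteProjective_mappingCone c hGp hGp) ?_
    intro i φ
    let sI : Dual.inD P P ≅ Q.obj (S P) :=
      (singleFunctorIsoCompQ (ModuleCat.{u} P) 0).app (ModuleCat.of P P)
    refine cone_orthogonal _ hT (Dual.inD P P) ?_ ?_ _
      ⟨i, ⟨(shiftFunctor (Dual.D P) i).mapIso sI.symm⟩⟩ φ
    · intro V hV h hh
      have h1 : Q.map c ≫ h = 0 := hh
      rw [hc' V hV h] at h1
      exact h1
    · intro V hV h'
      exact ⟨h', hc' V hV h'⟩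
  haveI : IsIso (Q.map c) := (Triangle.isZero₃_iff_isIso₁ _ hT).1 hcone
  haveI : IsIso γ := by
    have h1 : γ = τ.hom ≫ Q.map c ≫ τ.inv := by
      rw [hc, Category.assoc, Category.assoc, Iso.hom_inv_id, Category.comp_id,
        Iso.hom_inv_id_assoc]
    rw [h1]
    infer_instance
  have hres : IsIso ((DRing.restrictD (algebraMap P A)).map g) := by
    have h1 : (DRing.restrictD (algebraMap P A)).map g = θ'.hom ≫ γ := by
      rw [hγ0, Iso.hom_inv_id_assoc]
    rw [h1]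
    infer_instance
  haveI : IsIso g := isIso_of_isIso_restrictD (algebraMap P A) g hres
  exact ⟨asIso g⟩

/-- an object of `D(A)` whose restriction to `P` is `Hom•(F, P)[n]` is `RHom_P(A, P)[n]`. -/
theorem nonempty_iso_shift_rightAdjoint_of_restrict_iso
    (hsurj : Function.Surjective (algebraMap P A)) (T : PerfRes P A)
    (Rr : Dual.D P ⥤ Dual.D A) (adj : DRing.restrictD (algebraMap P A) ⊣ Rr)
    (X : Dual.D A) (n : ℤ)
    (θ : (DRing.restrictD (algebraMap P A)).obj X ≅ Q.obj ((D T.F)⟦n⟧)) :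
    Nonempty (X ≅ (Rr.obj (Dual.inD P P))⟦n⟧) := by
  let θ₀ : (DRing.restrictD (algebraMap P A)).obj (X⟦-n⟧) ≅ Q.obj (D T.F) :=
    ((DRing.restrictD (algebraMap P A)).commShiftIso (-n)).app X ≪≫
      (shiftFunctor (Dual.D P) (-n)).mapIso (θ ≪≫ (Q.commShiftIso n).app (D T.F)) ≪≫
      shiftShiftNeg (Q.obj (D T.F)) n
  obtain ⟨e⟩ := nonempty_iso_rightAdjoint_of_restrict_iso' hsurj T Rr adj (X⟦-n⟧) θ₀
  exact ⟨(shiftNegShift X n).symm ≪≫ (shiftFunctor (Dual.D A) n).mapIso e⟩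

end T6

section Swap

variable {B C : Type u} [CommRing B] [CommRing C]

/-- if `τ` is an automorphism of `B` with `μ ∘ τ = μ`, then `R_μ (Lτ^* Y) ≅ R_μ Y`. -/
theorem nonempty_rightAdjoint_lbc_auto_iso (τ τ' : B →+* B)
    (h1 : τ'.comp τ = RingHom.id B) (h2 : τ.comp τ' = RingHom.id B)
    (μ : B →+* C) (hμ : μ.comp τ = μ) [DRing.HasLBaseChange τ]
    (Rμ : Dual.D B ⥤ Dual.D C) (adjμ : DRing.restrictD μ ⊣ Rμ) (Y : Dual.D B) :
    Nonempty (Rμ.obj ((DRing.LBaseChange τ).obj Y) ≅ Rμ.obj Y) := by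
  obtain ⟨Rτ, ⟨adjτ⟩⟩ := exists_rightAdjoint τ
  obtain ⟨c1⟩ := nonempty_lbc_iso_restrictD_of_inverse τ τ' h1 h2 Y
  obtain ⟨c2⟩ := nonempty_rightAdjoint_iso_restrictD_of_inverse τ τ' h1 h2 Rτ adjτ
  obtain ⟨c3⟩ := nonempty_rightAdjoint_comp_iso τ μ μ hμ.symm Rτ adjτ Rμ adjμ Rμ adjμ
  exact ⟨Rμ.mapIso (c1 ≪≫ (c2.app Y).symm) ≪≫ (c3.app Y).symm⟩

end Swap

section Main

variable (R A : Type u) [CommRing R] [CommRing A] [IsNoetherianRing R] [IsNoetherianRing A]
  [Algebra R A] [Module.Flat R A] (n : ℕ) (ψ : MvPolynomial (Fin n) R →ₐ[R] A)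
  (hψ : Function.Surjective ψ) [DRing.HasLBaseChange (algebraMap R (MvPolynomial (Fin n) R))]
  (Rψ : Dual.D (MvPolynomial (Fin n) R) ⥤ Dual.D A) (adj : DRing.restrictD ψ.toRingHom ⊣ Rψ)

include hψ adj in
/-- `ω_{A/R}` is `R`-perfect. -/
theorem shriek_isRelPerfect :
    Dual2.IsRelPerfect R A (Dual2.shriekVia n Rψ (Dual.inD R R)) := by
  classical
  letI : Algebra (MvPolynomial (Fin n) R) A := ψ.toRingHom.toAlgebra
  haveI : IsScalarTower R (MvPolynomial (Fin n) R) A :=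
    IsScalarTower.of_algebraMap_eq (fun a => (ψ.commutes a).symm)
  obtain ⟨T⟩ := nonempty_perfRes_of_flat R A n ψ hψ
  obtain ⟨e0⟩ := Groth.Agent.Lib.Helper5.LocD.lbc_iso_extD (MvPolynomial (Fin n) R)
    (Dual.inD R R)
  let eY : (DRing.LBaseChange (algebraMap R (MvPolynomial (Fin n) R))).obj (Dual.inD R R) ≅
      Dual.inD (MvPolynomial (Fin n) R) (MvPolynomial (Fin n) R) :=
    e0 ≪≫ Groth.Agent.Lib.Helper1.Extend.extDInDIso (A := R) (B := MvPolynomial (Fin n) R) R ≪≫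
      Groth.Agent.Lib.Helper5.NormDual.inDIso
        (TensorProduct.AlgebraTensorModule.rid R (MvPolynomial (Fin n) R)
          (MvPolynomial (Fin n) R))
  obtain ⟨⟨a, b, hb⟩, hfin⟩ := shriek_bounded_finite Rψ adj T _ eY (n : ℤ)
  refine ⟨?_, shriek_finiteTorDim Rψ adj T _ eY (n : ℤ) R⟩
  exact Groth.Agent.Lib.Helper1.PCTower.isPseudoCoherent'_of_forall _ fun m =>
    ((Groth.Agent.S6942.result A m _ A).1).2
      ⟨⟨b, fun i hi => hb i (Or.inr hi)⟩, fun i _ => hfin i⟩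

include hψ adj in
/-- `RHom_{A ⊗ A}(A, ω ⊗^L_A (A ⊗ A)) ≅ A`. -/
theorem shriek_relDualizing_iso
    [DRing.HasLBaseChange (Algebra.TensorProduct.includeLeftRingHom : A →+* A ⊗[R] A)]
    (Rμ : Dual.D (A ⊗[R] A) ⥤ Dual.D A)
    (adjμ : DRing.restrictD (Algebra.TensorProduct.lmul' R (S := A)).toRingHom ⊣ Rμ) :
    Nonempty (Rμ.obj ((DRing.LBaseChange
      (Algebra.TensorProduct.includeLeftRingHom : A →+* A ⊗[R] A)).obj
        (Dual2.shriekVia n Rψ (Dual.inD R R))) ≅ Dual.inD A A) := by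
  classical
  letI : Algebra (MvPolynomial (Fin n) R) A := ψ.toRingHom.toAlgebra
  haveI : IsScalarTower R (MvPolynomial (Fin n) R) A :=
    IsScalarTower.of_algebraMap_eq (fun a => (ψ.commutes a).symm)
  have hsurj : Function.Surjective (algebraMap (MvPolynomial (Fin n) R) A) := hψ
  obtain ⟨T⟩ := nonempty_perfRes_of_flat R A n ψ hψ
  obtain ⟨e0⟩ := Groth.Agent.Lib.Helper5.LocD.lbc_iso_extD (MvPolynomial (Fin n) R)
    (Dual.inD R R)
  let eY : (DRing.LBaseChange (algebraMap R (MvPolynomial (Fin n) R))).obj (Dual.inD R R) ≅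
      Dual.inD (MvPolynomial (Fin n) R) (MvPolynomial (Fin n) R) :=
    e0 ≪≫ Groth.Agent.Lib.Helper1.Extend.extDInDIso (A := R) (B := MvPolynomial (Fin n) R) R ≪≫
      Groth.Agent.Lib.Helper5.NormDual.inDIso
        (TensorProduct.AlgebraTensorModule.rid R (MvPolynomial (Fin n) R)
          (MvPolynomial (Fin n) R))
  obtain ⟨⟨a, b, hb⟩, hfin⟩ := shriek_bounded_finite Rψ adj T _ eY (n : ℤ)
  obtain ⟨e⟩ := nonempty_restrict_shriek_iso Rψ adj T _ eY (n : ℤ)
  -- base change along the right coprojection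
  haveI := hasLBaseChange (inr R A A)
  letI : Algebra (A ⊗[R] MvPolynomial (Fin n) R) (A ⊗[R] A) :=
    (psiK R A (MvPolynomial (Fin n) R) A).toAlgebra
  have hsurj' : Function.Surjective
      (algebraMap (A ⊗[R] MvPolynomial (Fin n) R) (A ⊗[R] A)) :=
    Algebra.TensorProduct.map_surjective (f := AlgHom.id A A)
      (g := IsScalarTower.toAlgHom R (MvPolynomial (Fin n) R) A) Function.surjective_id hsurj
  obtain ⟨θ⟩ := nonempty_restrict_lbc_shriek_iso R A T _
    ⟨b, fun i hi => hb i (Or.inr hi)⟩ hfin (n : ℤ) e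
  obtain ⟨RψA, ⟨adjψA⟩⟩ := exists_rightAdjoint (psiK R A (MvPolynomial (Fin n) R) A)
  obtain ⟨c1⟩ := nonempty_iso_shift_rightAdjoint_of_restrict_iso hsurj' (bcPerfRes R A T)
    RψA adjψA _ (n : ℤ) θ
  -- the retraction `A ⊗ P → A`
  let ν : A ⊗[R] MvPolynomial (Fin n) R →ₐ[A] A :=
    Algebra.TensorProduct.lift (AlgHom.id A A) ψ (fun _ _ => Commute.all _ _)
  have hν : ν.toRingHom = (Algebra.TensorProduct.lmul' R (S := A)).toRingHom.comp
      (psiK R A (MvPolynomial (Fin n) R) A) := by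
    apply RingHom.ext
    intro x
    induction x using TensorProduct.induction_on with
    | zero => rw [map_zero, map_zero]
    | tmul c p =>
      show ν (c ⊗ₜ p) = Algebra.TensorProduct.lmul' R (c ⊗ₜ algebraMap _ A p)
      rw [Algebra.TensorProduct.lmul'_apply_tmul, Algebra.TensorProduct.lift_tmul]
      rfl
    | add x y hx hy => rw [map_add, map_add, hx, hy]
  obtain ⟨Rν, ⟨adjν⟩⟩ := exists_rightAdjoint ν.toRingHom
  haveI := hasLBaseChange (algebraMap A (A ⊗[R] MvPolynomial (Fin n) R))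
  obtain ⟨c4⟩ := kp_main n A (A ⊗[R] MvPolynomial (Fin n) R)
    (MvPolynomial.algebraTensorAlgEquiv R A) ν Rν adjν (Dual.inD A A)
  obtain ⟨c5'⟩ := Groth.Agent.Lib.Helper5.RelGor.nonempty_lbc_shift_self_iso
    (algebraMap A (A ⊗[R] MvPolynomial (Fin n) R)) 0
  let c5 : (DRing.LBaseChange (algebraMap A (A ⊗[R] MvPolynomial (Fin n) R))).obj
      (Dual.inD A A) ≅ Dual.inD (A ⊗[R] MvPolynomial (Fin n) R)
        (A ⊗[R] MvPolynomial (Fin n) R) :=
    (DRing.LBaseChange (algebraMap A (A ⊗[R] MvPolynomial (Fin n) R))).mapIso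
      ((shiftFunctorZero (Dual.D A) ℤ).app (Dual.inD A A)).symm ≪≫ c5' ≪≫
      (shiftFunctorZero (Dual.D (A ⊗[R] MvPolynomial (Fin n) R)) ℤ).app _
  obtain ⟨c6⟩ := nonempty_rightAdjoint_comp_iso (psiK R A (MvPolynomial (Fin n) R) A)
    (Algebra.TensorProduct.lmul' R (S := A)).toRingHom ν.toRingHom hν RψA adjψA Rμ adjμ Rν adjν
  -- the swap
  let τe : A ⊗[R] A ≃ₐ[R] A ⊗[R] A := Algebra.TensorProduct.comm R A A
  obtain ⟨τ, hτ⟩ : ∃ τ : A ⊗[R] A →+* A ⊗[R] A, τ = τe.toAlgHom.toRingHom := ⟨_, rfl⟩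
  obtain ⟨τ', hτ'⟩ : ∃ τ' : A ⊗[R] A →+* A ⊗[R] A, τ' = τe.symm.toAlgHom.toRingHom :=
    ⟨_, rfl⟩
  have h1 : τ'.comp τ = RingHom.id _ := by
    rw [hτ, hτ']
    exact RingHom.ext fun x => τe.symm_apply_apply x
  have h2 : τ.comp τ' = RingHom.id _ := by
    rw [hτ, hτ']
    exact RingHom.ext fun x => τe.apply_symm_apply x
  have hinl : τ.comp (inr R A A) =
      (Algebra.TensorProduct.includeLeftRingHom : A →+* A ⊗[R] A) := by
    rw [hτ]
    apply RingHom.ext
    intro x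
    show τe ((1 : A) ⊗ₜ x) = x ⊗ₜ 1
    exact Algebra.TensorProduct.comm_tmul R 1 x
  have hμτ : (Algebra.TensorProduct.lmul' R (S := A)).toRingHom.comp τ =
      (Algebra.TensorProduct.lmul' R (S := A)).toRingHom := by
    rw [hτ]
    apply RingHom.ext
    intro x
    induction x using TensorProduct.induction_on with
    | zero => rw [map_zero, map_zero]
    | tmul c d =>
      show Algebra.TensorProduct.lmul' R (τe (c ⊗ₜ d)) = Algebra.TensorProduct.lmul' R (c ⊗ₜ d)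
      rw [Algebra.TensorProduct.comm_tmul, Algebra.TensorProduct.lmul'_apply_tmul,
        Algebra.TensorProduct.lmul'_apply_tmul, mul_comm]
    | add x y hx hy => rw [map_add, map_add, hx, hy]
  haveI := hasLBaseChange τ
  obtain ⟨c7⟩ := nonempty_lbc_comp_iso_all (Dual2.shriekVia n Rψ (Dual.inD R R)) (inr R A A) τ
    (Algebra.TensorProduct.includeLeftRingHom : A →+* A ⊗[R] A) hinl
  obtain ⟨c8⟩ := nonempty_rightAdjoint_lbc_auto_iso τ τ' h1 h2
    (Algebra.TensorProduct.lmul' R (S := A)).toRingHom hμτ Rμ adjμ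
    ((DRing.LBaseChange (inr R A A)).obj (Dual2.shriekVia n Rψ (Dual.inD R R)))
  letI : Rμ.CommShift ℤ := adjμ.rightAdjointCommShift ℤ
  exact ⟨Rμ.mapIso c7.symm ≪≫ c8 ≪≫ Rμ.mapIso c1 ≪≫ (Rμ.commShiftIso (n : ℤ)).app _ ≪≫
    (shiftFunctor (Dual.D A) (n : ℤ)).mapIso
      ((c6.app _).symm ≪≫ Rν.mapIso c5.symm ≪≫ c4) ≪≫
    shiftNegShift (Dual.inD A A) (n : ℤ)⟩

end Main

end Groth.Agent.Lib.Helper5.Shrk
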