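import Mathlib
import Groth.Agent.Lib.Helper5RelDualC
import Groth.Agent.Lib.Helper1Extend
set_option backward.isDefEq.respectTransparency.types false

/-!
# Base change squares of rings: restriction and extension of scalars (helper5)

For a commutative square of rings `ψ : P → B`, `β : P → P'`, `α : B → B'`, `ψ' : P' → B'`:

* `sqHom`: the comparison `P' ⊗_P X ⟶ B' ⊗_B X` for a `B`-module `X`, natural in `X`;
  `sqNatIso`: when it is bijective, the natural isomorphism
  `restrictScalars ψ ⋙ extendScalars β ≅ extendScalars α ⋙ restrictScalars ψ'`.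
* `sqHom_bijective_of_isPushout`: bijectivity for a pushout square of algebras.
* `sqHom_bijective_tensor`: bijectivity for the square `P → A`, `k ⊗ P → k ⊗ A`.
* `mapDNatIso`: a natural isomorphism `F₁ ⋙ G₁ ≅ F₂ ⋙ G₂` of exact functors between module
  categories induces `F₁.mapDerivedCategory ⋙ G₁.mapDerivedCategory ≅ F₂.mapDerivedCategory ⋙
  G₂.mapDerivedCategory`.
* `flat_inr`: `P → k ⊗_R P` is flat when `k` is flat over `R`.
-/

set_option autoImplicit false
set_option linter.style.haveILetI false
universe u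
open CategoryTheory CategoryTheory.Limits TensorProduct
attribute [local instance] HasDerivedCategory.standard

namespace Groth.Agent.Lib.Helper5.Shrk

open DerivedCategory Groth.Agent.Lib.Helper5.RelDual Groth.Agent.Lib.Helper1.Extend
  Groth.Agent.Lib.Helper1.RelBC

section Sq

variable {P B P' B' : Type u} [CommRing P] [CommRing B] [CommRing P'] [CommRing B']
  (ψ : P →+* B) (β : P →+* P') (α : B →+* B') (ψ' : P' →+* B') (hsq : α.comp ψ = ψ'.comp β)

/-- `x ↦ 1 ⊗ x`, as a `P`-linear map. -/
noncomputable def sqUnit (X : ModuleCat.{u} B) :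
    (ModuleCat.restrictScalars.{u} ψ).obj X ⟶
      (ModuleCat.restrictScalars.{u} β).obj
        ((ModuleCat.restrictScalars.{u} ψ').obj
          ((ModuleCat.extendScalars.{u, u, u} α).obj X)) :=
  (ModuleCat.restrictScalars.{u} ψ).map
      ((ModuleCat.extendRestrictScalarsAdj α).unit.app X) ≫
    (ModuleCat.restrictScalarsComp'App ψ α (α.comp ψ) rfl _).inv ≫
    (ModuleCat.restrictScalarsComp'App β ψ' (α.comp ψ) hsq _).hom

/-- the comparison `P' ⊗_P X ⟶ B' ⊗_B X`. -/
noncomputable def sqHom (X : ModuleCat.{u} B) :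
    (ModuleCat.extendScalars.{u, u, u} β).obj ((ModuleCat.restrictScalars.{u} ψ).obj X) ⟶
      (ModuleCat.restrictScalars.{u} ψ').obj ((ModuleCat.extendScalars.{u, u, u} α).obj X) :=
  ((ModuleCat.extendRestrictScalarsAdj β).homEquiv _ _).symm (sqUnit ψ β α ψ' hsq X)

lemma sqHom_tm (X : ModuleCat.{u} B) (s : P') (x : X) :
    (sqHom ψ β α ψ' hsq X).hom (tm β ((ModuleCat.restrictScalars.{u} ψ).obj X) s x) =
      tm α X (ψ' s) x := by
  have h : tm α X (ψ' s) x = (ψ' s) • tm α X 1 x := by rw [smul_tm, mul_one]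
  rw [h]
  rfl

lemma sqHom_naturality {X Y : ModuleCat.{u} B} (f : X ⟶ Y) :
    (ModuleCat.extendScalars.{u, u, u} β).map ((ModuleCat.restrictScalars.{u} ψ).map f) ≫
        sqHom ψ β α ψ' hsq Y =
      sqHom ψ β α ψ' hsq X ≫ (ModuleCat.restrictScalars.{u} ψ').map
        ((ModuleCat.extendScalars.{u, u, u} α).map f) := by
  apply ModuleCat.ExtendScalars.hom_ext
  intro x
  show (sqHom ψ β α ψ' hsq Y).hom (((ModuleCat.extendScalars.{u, u, u} β).map
      ((ModuleCat.restrictScalars.{u} ψ).map f)).hom
        (tm β ((ModuleCat.restrictScalars.{u} ψ).obj X) 1 x)) =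
    ((ModuleCat.extendScalars.{u, u, u} α).map f).hom
      ((sqHom ψ β α ψ' hsq X).hom (tm β ((ModuleCat.restrictScalars.{u} ψ).obj X) 1 x))
  rw [map_tm, sqHom_tm, sqHom_tm, map_tm]
  rfl

/-- the natural isomorphism `P' ⊗_P (-) ≅ B' ⊗_B (-)` on `B`-modules. -/
noncomputable def sqNatIso
    (hbij : ∀ X : ModuleCat.{u} B, Function.Bijective (sqHom ψ β α ψ' hsq X).hom) :
    ModuleCat.restrictScalars.{u} ψ ⋙ ModuleCat.extendScalars.{u, u, u} β ≅
      ModuleCat.extendScalars.{u, u, u} α ⋙ ModuleCat.restrictScalars.{u} ψ' :=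
  NatIso.ofComponents
    (fun X =>
      haveI : IsIso (sqHom ψ β α ψ' hsq X) :=
        (ConcreteCategory.isIso_iff_bijective _).2 (hbij X)
      asIso (sqHom ψ β α ψ' hsq X))
    (fun {X Y} f => sqHom_naturality ψ β α ψ' hsq f)

end Sq

section Pushout

variable (P P' B B' : Type u) [CommRing P] [CommRing P'] [CommRing B] [CommRing B']
  [Algebra P P'] [Algebra P B] [Algebra P' B'] [Algebra B B'] [Algebra P B']
  [IsScalarTower P P' B'] [IsScalarTower P B B']

lemma algebraMap_sq :
    (algebraMap B B').comp (algebraMap P B) = (algebraMap P' B').comp (algebraMap P P') := by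
  rw [← IsScalarTower.algebraMap_eq P B B', ← IsScalarTower.algebraMap_eq P P' B']

variable [Algebra.IsPushout P P' B B']

/-- the comparison map is bijective for a pushout square. -/
theorem sqHom_bijective_of_isPushout (X : ModuleCat.{u} B) :
    Function.Bijective (sqHom (algebraMap P B) (algebraMap P P') (algebraMap B B')
      (algebraMap P' B') (algebraMap_sq P P' B B') X).hom := by
  letI : Module P X := Module.compHom X (algebraMap P B)
  haveI : IsScalarTower P B X := IsScalarTower.of_algebraMap_smul (fun r m => rfl)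
  let gA : ↑((ext B B').obj X) ≃+ B' ⊗[B] X := (extEquiv (A := B) (B := B') X).toAddEquiv
  let cb : B' ⊗[B] X ≃+ P' ⊗[P] X :=
    (Algebra.IsPushout.cancelBaseChange P P' B B' X).toAddEquiv
  let gP : ↑((ext P P').obj ((ModuleCat.restrictScalars.{u} (algebraMap P B)).obj X)) ≃+
      P' ⊗[P] X :=
    (extEquiv (A := P) (B := P')
      ((ModuleCat.restrictScalars.{u} (algebraMap P B)).obj X)).toAddEquiv
  obtain ⟨φ, hφ⟩ : ∃ φ : ↑((ext P P').obj ((ModuleCat.restrictScalars.{u} (algebraMap P B)).obj X)) →+
      ↑((ext B B').obj X), ∀ t, φ t = (sqHom (algebraMap P B) (algebraMap P P') (algebraMap B B')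
        (algebraMap P' B') (algebraMap_sq P P' B B') X).hom t :=
    ⟨(sqHom (algebraMap P B) (algebraMap P P') (algebraMap B B')
        (algebraMap P' B') (algebraMap_sq P P' B B') X).hom.toAddMonoidHom, fun t => rfl⟩
  have key : ∀ z : P' ⊗[P] X, φ (gP.symm z) = gA.symm (cb.symm z) := by
    intro z
    induction z using TensorProduct.induction_on with
    | zero =>
      exact ((congrArg φ (map_zero gP.symm)).trans (map_zero φ)).trans
        ((congrArg gA.symm (map_zero cb.symm)).trans (map_zero gA.symm)).symm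
    | add x y hx hy =>
      exact ((congrArg φ (map_add gP.symm x y)).trans (map_add φ _ _)).trans
        ((congrArg₂ (· + ·) hx hy).trans
          ((congrArg gA.symm (map_add cb.symm x y)).trans (map_add gA.symm _ _)).symm)
    | tmul s x =>
      have h1 : gP.symm (s ⊗ₜ[P] x) = tm (algebraMap P P')
          ((ModuleCat.restrictScalars.{u} (algebraMap P B)).obj X) s x := rfl
      have h2 : gA.symm (cb.symm (s ⊗ₜ[P] x)) =
          tm (algebraMap B B') X (algebraMap P' B' s) x := by
        show gA.symm ((Algebra.IsPushout.cancelBaseChange P P' B B' X).symm (s ⊗ₜ[P] x)) = _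
        rw [Algebra.IsPushout.cancelBaseChange_symm_tmul]
        rfl
      rw [h1, h2, hφ, sqHom_tm]
  have hfun : ∀ t, (sqHom (algebraMap P B) (algebraMap P P') (algebraMap B B')
      (algebraMap P' B') (algebraMap_sq P P' B B') X).hom t = gA.symm (cb.symm (gP t)) :=
    fun t => by rw [← hφ, ← key (gP t), AddEquiv.symm_apply_apply]
  constructor
  · intro t t' h
    rw [hfun, hfun] at h
    exact gP.injective (cb.symm.injective (gA.symm.injective h))
  · intro y
    refine ⟨gP.symm (cb (gA y)), ?_⟩
    rw [hfun, AddEquiv.apply_symm_apply, AddEquiv.symm_apply_apply, AddEquiv.symm_apply_apply]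

end Pushout

section Tensor

variable (R k P A : Type u) [CommRing R] [CommRing k] [CommRing P] [CommRing A]
  [Algebra R k] [Algebra R P] [Algebra R A] [Algebra P A] [IsScalarTower R P A]

/-- the comparison map is bijective for the square `P → A`, `k ⊗ P → k ⊗ A`. -/
theorem sqHom_bijective_tensor (X : ModuleCat.{u} A) :
    Function.Bijective (sqHom (algebraMap P A) (inr R k P) (inr R k A) (psiK R k P A)
      (psiK_comp R k P A) X).hom :=
  bcResHom_bijective R k P X

/-- `P → k ⊗_R P` is flat when `k` is flat over `R`. -/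
theorem flat_inr [Module.Flat R k] :
    letI : Algebra P (k ⊗[R] P) := (inr R k P).toAlgebra
    Module.Flat P (k ⊗[R] P) := by
  letI : Algebra P (k ⊗[R] P) := (inr R k P).toAlgebra
  let e : (P ⊗[R] k) ≃ₗ[P] (k ⊗[R] P) :=
    { (TensorProduct.comm R P k) with
      map_smul' := fun p x => by
        induction x using TensorProduct.induction_on with
        | zero => simp only [smul_zero, AddHom.toFun_eq_coe, map_zero]
        | tmul q c =>
          show TensorProduct.comm R P k (p • (q ⊗ₜ[R] c)) =
            p • TensorProduct.comm R P k (q ⊗ₜ[R] c)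
          rw [TensorProduct.smul_tmul', TensorProduct.comm_tmul, TensorProduct.comm_tmul,
            Algebra.smul_def]
          show c ⊗ₜ[R] (p • q) = ((1 : k) ⊗ₜ[R] p) * (c ⊗ₜ[R] q)
          rw [Algebra.TensorProduct.tmul_mul_tmul, one_mul, smul_eq_mul]
        | add x y hx hy =>
          simp only [smul_add, AddHom.toFun_eq_coe, LinearMap.coe_toAddHom, map_add] at hx hy ⊢
          rw [hx, hy] }
  exact Module.Flat.of_linearEquiv e.symm

end Tensor

section Lift

variable {P B P' B' : Type u} [CommRing P] [CommRing B] [CommRing P'] [CommRing B']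
  (F₁ : ModuleCat.{u} B ⥤ ModuleCat.{u} P) (G₁ : ModuleCat.{u} P ⥤ ModuleCat.{u} P')
  (F₂ : ModuleCat.{u} B ⥤ ModuleCat.{u} B') (G₂ : ModuleCat.{u} B' ⥤ ModuleCat.{u} P')
  [F₁.Additive] [PreservesFiniteLimits F₁] [PreservesFiniteColimits F₁]
  [G₁.Additive] [PreservesFiniteLimits G₁] [PreservesFiniteColimits G₁]
  [F₂.Additive] [PreservesFiniteLimits F₂] [PreservesFiniteColimits F₂]
  [G₂.Additive] [PreservesFiniteLimits G₂] [PreservesFiniteColimits G₂]

/-- the induced isomorphism on complexes. -/
noncomputable def mapCxNatIso (κ : F₁ ⋙ G₁ ≅ F₂ ⋙ G₂) :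
    F₁.mapHomologicalComplex (ComplexShape.up ℤ) ⋙
        G₁.mapHomologicalComplex (ComplexShape.up ℤ) ≅
      F₂.mapHomologicalComplex (ComplexShape.up ℤ) ⋙
        G₂.mapHomologicalComplex (ComplexShape.up ℤ) :=
  NatIso.ofComponents
    (fun E => HomologicalComplex.Hom.isoOfComponents (fun i => κ.app (E.X i))
      (fun i j _ => (κ.hom.naturality (E.d i j)).symm))
    (fun {E E'} f => by
      refine HomologicalComplex.hom_ext _ _ fun i => ?_
      exact κ.hom.naturality (f.f i))

/-- the induced isomorphism on derived categories. -/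
noncomputable def mapDNatIso (κ : F₁ ⋙ G₁ ≅ F₂ ⋙ G₂) :
    F₁.mapDerivedCategory ⋙ G₁.mapDerivedCategory ≅
      F₂.mapDerivedCategory ⋙ G₂.mapDerivedCategory :=
  Localization.liftNatIso DerivedCategory.Q
    (HomologicalComplex.quasiIso (ModuleCat.{u} B) (ComplexShape.up ℤ))
    ((F₁.mapHomologicalComplex (ComplexShape.up ℤ) ⋙ DerivedCategory.Q) ⋙
      G₁.mapDerivedCategory)
    ((F₂.mapHomologicalComplex (ComplexShape.up ℤ) ⋙ DerivedCategory.Q) ⋙
      G₂.mapDerivedCategory)
    (F₁.mapDerivedCategory ⋙ G₁.mapDerivedCategory)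
    (F₂.mapDerivedCategory ⋙ G₂.mapDerivedCategory)
    (Functor.associator _ _ _ ≪≫
      Functor.isoWhiskerLeft _ G₁.mapDerivedCategoryFactors ≪≫
      (Functor.associator _ _ _).symm ≪≫
      Functor.isoWhiskerRight (mapCxNatIso F₁ G₁ F₂ G₂ κ) DerivedCategory.Q ≪≫
      Functor.associator _ _ _ ≪≫
      Functor.isoWhiskerLeft _ G₂.mapDerivedCategoryFactors.symm ≪≫
      (Functor.associator _ _ _).symm)

end Lift

end Groth.Agent.Lib.Helper5.Shrk
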