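import Mathlib
import Groth.Agent.Lib.Helper5ShrkH
import Groth.Agent.Lib.Helper5ShrkG
import Groth.Agent.Lib.Helper5HomBCD
import Groth.Agent.Lib.Helper5DualLocal3
import Groth.Agent.Lib.Helper5DeltaRes
import Groth.Agent.Lib.Helper5RelGorA
import Groth.Agent.Lib.Helper5LocDD
import Groth.Agent.Lib.Helper5NormDual
set_option backward.isDefEq.respectTransparency.types false

/-!
# Flat base change for `RHom_P(B, -)` (helper5)

For a commutative square of rings `ψ : P → B`, `P → P'`, `B → B'`, `ψ' : P' → B'` with flat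
horizontal maps, `ψ'` surjective, `B` pseudo-coherent over `P` and `P' ⊗_P X ≅ B' ⊗_B X` for
`B`-modules `X`: for `M` in `D(P)` bounded below,
`R_ψ(M) ⊗_B B' ≅ R_ψ'(M ⊗_P P')`, where `R_ψ`, `R_ψ'` are right adjoints of restriction.

* `isIso_of_forall_bijective`: a morphism of `D(A)` inducing bijections on maps from objects
  isomorphic to the shifts of `A` is an isomorphism.
* `isGE_rightAdjoint`: right adjoints of restriction are left t-exact.
* `theta_bijective`: the key bijection.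
* `nonempty_extD_rightAdjoint_iso`, `nonempty_lbc_rightAdjoint_iso`: the base change theorem.
-/

set_option autoImplicit false
set_option linter.style.haveILetI false
universe u
open CategoryTheory CategoryTheory.Limits TensorProduct
attribute [local instance] HasDerivedCategory.standard

namespace Groth.Agent.Lib.Helper5.Shrk

open DerivedCategory Pretriangulated Groth.Agent.Lib.Helper1.Extend Groth.Agent.Lib.Helper5.HomBC
  Groth.Agent.Lib.Helper5.DeltaRes Groth.Agent.Lib.Helper1.Restrict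
  Groth.Agent.Lib.Helper5.HasLDer

section Gen

variable {A : Type u} [CommRing A]

/-- an object of `D(A)` receiving no nonzero map from a shift of `A` is zero. -/
theorem isZero_of_forall_hom_shift_inD_eq_zero (Z : Dual.D A)
    (h : ∀ (j : ℤ) (φ : (Dual.inD A A)⟦j⟧ ⟶ Z), φ = 0) : IsZero Z := by
  have h1 : ∀ i : ℤ, Subsingleton (Dual.HD A Z i) := by
    intro i
    rw [← Groth.Agent.Lib.Helper5.DualLocal.forall_eq_zero_iff_subsingleton_HD]
    intro g
    have h2 : (shiftFunctor (Dual.D A) (-i)).map g ≫ (shiftShiftNeg Z i).hom = 0 := h (-i) _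
    have h3 : (shiftFunctor (Dual.D A) (-i)).map g = 0 :=
      (cancel_mono (shiftShiftNeg Z i).hom).1 (h2.trans zero_comp.symm)
    exact (shiftFunctor (Dual.D A) (-i)).map_injective
      (h3.trans ((shiftFunctor (Dual.D A) (-i)).map_zero _ _).symm)
  let L := (Q : _ ⥤ Dual.D A).objPreimage Z
  let e : (Q : _ ⥤ Dual.D A).obj L ≅ Z := Q.objObjPreimageIso Z
  refine (Groth.Agent.Lib.Helper5.RelDual.isZero_Q_of_isZero_homology L fun i => ?_).of_iso e.symm
  haveI := h1 i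
  have hz : IsZero ((homologyFunctor (ModuleCat.{u} A) i).obj Z) :=
    ModuleCat.isZero_of_subsingleton _
  exact hz.of_iso (((homologyFunctor (ModuleCat.{u} A) i).mapIso e.symm ≪≫
    (homologyFunctorFactors (ModuleCat.{u} A) i).app L).symm)

/-- a morphism inducing bijections on maps from (objects isomorphic to) all shifts of `A` is an
isomorphism. -/
theorem isIso_of_forall_bijective {X Y : Dual.D A} (g : X ⟶ Y)
    (h : ∀ j : ℤ, ∃ (G : Dual.D A) (_ : G ≅ (Dual.inD A A)⟦j⟧),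
      Function.Bijective (fun f : G ⟶ X => f ≫ g)) : IsIso g := by
  have hinj : ∀ (j : ℤ) (u : (Dual.inD A A)⟦j⟧ ⟶ X), u ≫ g = 0 → u = 0 := by
    intro j u hu
    obtain ⟨G, e, hb⟩ := h j
    have h1 : (e.hom ≫ u) ≫ g = 0 ≫ g := by rw [Category.assoc, hu, comp_zero, zero_comp]
    have h2 : e.hom ≫ u = 0 := hb.1 h1
    exact (cancel_epi e.hom).1 (h2.trans comp_zero.symm)
  have hsur : ∀ (j : ℤ) (y : (Dual.inD A A)⟦j⟧ ⟶ Y),
      ∃ x : (Dual.inD A A)⟦j⟧ ⟶ X, x ≫ g = y := by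
    intro j y
    obtain ⟨G, e, hb⟩ := h j
    obtain ⟨x, hx⟩ := hb.2 (e.hom ≫ y)
    have hx' : x ≫ g = e.hom ≫ y := hx
    refine ⟨e.inv ≫ x, ?_⟩
    rw [Category.assoc, hx', Iso.inv_hom_id_assoc]
  obtain ⟨Z, v, w, hT⟩ := distinguished_cocone_triangle g
  have hwg : w ≫ (shiftFunctor (Dual.D A) (1 : ℤ)).map g = 0 :=
    comp_distTriang_mor_zero₃₁ _ hT
  have hgv : g ≫ v = 0 := comp_distTriang_mor_zero₁₂ _ hT
  have hZ : IsZero Z := by
    refine isZero_of_forall_hom_shift_inD_eq_zero Z fun j φ => ?_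
    have h1 : φ ≫ w = 0 := by
      let c : ((Dual.inD A A)⟦j - 1⟧)⟦(1 : ℤ)⟧ ≅ (Dual.inD A A)⟦j⟧ :=
        ((shiftFunctorAdd' (Dual.D A) (j - 1) 1 j (by omega)).app (Dual.inD A A)).symm
      obtain ⟨u', hu'⟩ := (shiftFunctor (Dual.D A) (1 : ℤ)).map_surjective (c.hom ≫ φ ≫ w)
      have h2 : (shiftFunctor (Dual.D A) (1 : ℤ)).map (u' ≫ g) = 0 := by
        rw [Functor.map_comp, hu', Category.assoc, Category.assoc, hwg, comp_zero, comp_zero]
      have h3 : u' ≫ g = 0 := (shiftFunctor (Dual.D A) (1 : ℤ)).map_injective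
        (h2.trans ((shiftFunctor (Dual.D A) (1 : ℤ)).map_zero _ _).symm)
      have h4 : u' = 0 := hinj (j - 1) u' h3
      rw [h4, Functor.map_zero] at hu'
      exact (cancel_epi c.hom).1 (hu'.symm.trans comp_zero.symm)
    obtain ⟨y, hy'⟩ : ∃ y : (Dual.inD A A)⟦j⟧ ⟶ Y, φ = y ≫ v :=
      Triangle.coyoneda_exact₃ _ hT φ h1
    obtain ⟨x, hx⟩ := hsur j y
    rw [hy', ← hx, Category.assoc, hgv, comp_zero]
  exact (Triangle.isZero₃_iff_isIso₁ _ hT).1 hZ

end Gen

section LeftExact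

variable {A B : Type u} [CommRing A] [CommRing B]

/-- right adjoints of restriction of scalars are left t-exact. -/
theorem isGE_rightAdjoint (φ : A →+* B) (R : Dual.D A ⥤ Dual.D B)
    (adj : DRing.restrictD φ ⊣ R) (M : Dual.D A) (c : ℤ) [M.IsGE c] : (R.obj M).IsGE c := by
  refine (DerivedCategory.TStructure.t.isGE_iff_orthogonal (c - 1) c (by omega) _).2 ?_
  intro Y f hY
  haveI : ((DRing.restrictD φ).obj Y).IsLE (c - 1) := (isLE_restrictD_iff φ Y (c - 1)).2 hY
  have h2 : (adj.homEquiv Y M).symm f = 0 :=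
    DerivedCategory.TStructure.t.zero _ (c - 1) c (by omega)
  have h3 := congrArg (adj.homEquiv Y M) h2
  rw [Equiv.apply_symm_apply] at h3
  rw [h3]
  exact adj.homAddEquiv_zero Y M

end LeftExact

section Core

variable {P B P' B' : Type u} [CommRing P] [CommRing B] [CommRing P'] [CommRing B']
  [Algebra P P'] [Module.Flat P P'] [Algebra B B'] [Module.Flat B B']
  (ψ : P →+* B) (ψ' : P' →+* B')
  (hsq : (algebraMap B B').comp ψ = ψ'.comp (algebraMap P P'))
  (τ : DRing.restrictD ψ ⋙ extD P P' ≅ extD B B' ⋙ DRing.restrictD ψ')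
  (Rψ : Dual.D P ⥤ Dual.D B) (adj : DRing.restrictD ψ ⊣ Rψ)

lemma homEquiv_smul (r : P) {K : Dual.D B} {M : Dual.D P}
    (g : (DRing.restrictD ψ).obj K ⟶ M) :
    adj.homEquiv K M (r • g) = ψ r • adj.homEquiv K M g := by
  apply (adj.homEquiv K M).symm.injective
  rw [Equiv.symm_apply_apply, homEquiv_symm_smul ψ Rψ adj r, Equiv.symm_apply_apply]

/-- `p' ⊗ g ↦ ψ'(p') ⊗ g^♭`. -/
noncomputable def lam (K : Dual.D B) (M : Dual.D P) :
    P' ⊗[P] ((DRing.restrictD ψ).obj K ⟶ M) →+ B' ⊗[B] (K ⟶ Rψ.obj M) :=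
  TensorProduct.liftAddHom
    { toFun := fun p' =>
        { toFun := fun g => (ψ' p') ⊗ₜ[B] (adj.homEquiv K M g)
          map_zero' := by rw [adj.homAddEquiv_zero, TensorProduct.tmul_zero]
          map_add' := fun g g' => by rw [adj.homAddEquiv_add, TensorProduct.tmul_add] }
      map_zero' := AddMonoidHom.ext fun g => by
        show ψ' 0 ⊗ₜ[B] adj.homEquiv K M g = 0
        rw [map_zero, TensorProduct.zero_tmul]
      map_add' := fun p' q' => AddMonoidHom.ext fun g => by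
        show ψ' (p' + q') ⊗ₜ[B] adj.homEquiv K M g =
          ψ' p' ⊗ₜ[B] adj.homEquiv K M g + ψ' q' ⊗ₜ[B] adj.homEquiv K M g
        rw [map_add, TensorProduct.add_tmul] }
    (fun r p' g => by
      show ψ' (r • p') ⊗ₜ[B] adj.homEquiv K M g = ψ' p' ⊗ₜ[B] adj.homEquiv K M (r • g)
      have h1 : ψ' (r • p') = ψ r • ψ' p' := by
        rw [Algebra.smul_def, map_mul, ← RingHom.comp_apply, ← hsq, RingHom.comp_apply,
          ← Algebra.smul_def]
      rw [h1, homEquiv_smul ψ Rψ adj r g, TensorProduct.smul_tmul])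

lemma lam_tmul (K : Dual.D B) (M : Dual.D P) (p' : P') (g : (DRing.restrictD ψ).obj K ⟶ M) :
    lam ψ ψ' hsq Rψ adj K M (p' ⊗ₜ[P] g) = ψ' p' ⊗ₜ[B] adj.homEquiv K M g := rfl

lemma lam_surjective (hψ' : Function.Surjective ψ') (K : Dual.D B) (M : Dual.D P) :
    Function.Surjective (lam ψ ψ' hsq Rψ adj K M) := by
  intro y
  induction y using TensorProduct.induction_on with
  | zero => exact ⟨0, map_zero _⟩
  | tmul b' n =>
    obtain ⟨p', rfl⟩ := hψ' b'
    exact ⟨p' ⊗ₜ[P] (adj.homEquiv K M).symm n, by rw [lam_tmul, Equiv.apply_symm_apply]⟩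
  | add y y' hy hy' =>
    obtain ⟨x, rfl⟩ := hy
    obtain ⟨x', rfl⟩ := hy'
    exact ⟨x + x', map_add _ _ _⟩

/-- the map `f ↦ τ ≫ res(f) ≫ τ⁻¹ ≫ ε`. -/
noncomputable def theta (K : Dual.D B) (M : Dual.D P)
    (f : (extD B B').obj K ⟶ (extD B B').obj (Rψ.obj M)) :
    (extD P P').obj ((DRing.restrictD ψ).obj K) ⟶ (extD P P').obj M :=
  τ.hom.app K ≫ (DRing.restrictD ψ').map f ≫ τ.inv.app (Rψ.obj M) ≫
    (extD P P').map (adj.counit.app M)

lemma theta_zero (K : Dual.D B) (M : Dual.D P) : theta ψ ψ' τ Rψ adj K M 0 = 0 := by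
  unfold theta
  rw [Functor.map_zero, zero_comp, comp_zero]

lemma theta_add (K : Dual.D B) (M : Dual.D P)
    (f f' : (extD B B').obj K ⟶ (extD B B').obj (Rψ.obj M)) :
    theta ψ ψ' τ Rψ adj K M (f + f') =
      theta ψ ψ' τ Rψ adj K M f + theta ψ ψ' τ Rψ adj K M f' := by
  unfold theta
  rw [Functor.map_add, Preadditive.add_comp, Preadditive.comp_add]

lemma theta_smul_extD (K : Dual.D B) (M : Dual.D P) (p' : P') (h : K ⟶ Rψ.obj M) :
    theta ψ ψ' τ Rψ adj K M (ψ' p' • (extD B B').map h) =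
      p' • (extD P P').map ((adj.homEquiv K M).symm h) := by
  unfold theta
  rw [restrictD_map_smul ψ' p', Linear.smul_comp, Linear.comp_smul]
  congr 1
  have hnat : (DRing.restrictD ψ').map ((extD B B').map h) ≫ τ.inv.app (Rψ.obj M) =
      τ.inv.app K ≫ (extD P P').map ((DRing.restrictD ψ).map h) := τ.inv.naturality h
  rw [reassoc_of% hnat, Iso.hom_inv_id_app_assoc, ← Functor.map_comp,
    Adjunction.homEquiv_counit]

lemma theta_bc_lam (K : Dual.D B) (M : Dual.D P)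
    (x : P' ⊗[P] ((DRing.restrictD ψ).obj K ⟶ M)) :
    theta ψ ψ' τ Rψ adj K M (bc B' K (Rψ.obj M) (lam ψ ψ' hsq Rψ adj K M x)) =
      bc P' ((DRing.restrictD ψ).obj K) M x := by
  induction x using TensorProduct.induction_on with
  | zero => rw [map_zero, map_zero, map_zero, theta_zero]
  | tmul p' g => rw [lam_tmul, bc_tmul, bc_tmul, theta_smul_extD, Equiv.symm_apply_apply]
  | add x y hx hy => rw [map_add, map_add, map_add, theta_add, hx, hy]

include hsq in
/-- the key bijection. -/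
theorem theta_bijective (hψ' : Function.Surjective ψ') (K : Dual.D B)
    (hK : DRing.IsPseudoCoherent' B K)
    (hK' : DRing.IsPseudoCoherent' P ((DRing.restrictD ψ).obj K)) (M : Dual.D P)
    (hM : HasBBRes M) (hY : HasBBRes (Rψ.obj M)) :
    Function.Bijective (theta ψ ψ' τ Rψ adj K M) := by
  have hα := bc_bijective B' hK hY
  have hβ := bc_bijective P' hK' hM
  have hl := lam_surjective ψ ψ' hsq Rψ adj hψ' K M
  constructor
  · intro f₁ f₂ h
    obtain ⟨y₁, rfl⟩ := hα.2 f₁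
    obtain ⟨y₂, rfl⟩ := hα.2 f₂
    obtain ⟨x₁, rfl⟩ := hl y₁
    obtain ⟨x₂, rfl⟩ := hl y₂
    rw [theta_bc_lam, theta_bc_lam] at h
    rw [hβ.1 h]
  · intro g
    obtain ⟨x, rfl⟩ := hβ.2 g
    exact ⟨_, theta_bc_lam ψ ψ' hsq τ Rψ adj K M x⟩

variable (Rψ' : Dual.D P' ⥤ Dual.D B') (adj' : DRing.restrictD ψ' ⊣ Rψ')

/-- the base change comparison map. -/
noncomputable def cmp (M : Dual.D P) :
    (extD B B').obj (Rψ.obj M) ⟶ Rψ'.obj ((extD P P').obj M) :=
  adj'.homEquiv ((extD B B').obj (Rψ.obj M)) ((extD P P').obj M)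
    (τ.inv.app (Rψ.obj M) ≫ (extD P P').map (adj.counit.app M))

lemma homEquiv_symm_comp_cmp (M : Dual.D P) {G : Dual.D B'}
    (f : G ⟶ (extD B B').obj (Rψ.obj M)) :
    (adj'.homEquiv G ((extD P P').obj M)).symm (f ≫ cmp ψ ψ' τ Rψ adj Rψ' adj' M) =
      (DRing.restrictD ψ').map f ≫ τ.inv.app (Rψ.obj M) ≫
        (extD P P').map (adj.counit.app M) := by
  have h := (adj'.homEquiv ((extD B B').obj (Rψ.obj M)) ((extD P P').obj M)).symm_apply_apply
    (τ.inv.app (Rψ.obj M) ≫ (extD P P').map (adj.counit.app M))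
  rw [Adjunction.homEquiv_counit] at h
  rw [Adjunction.homEquiv_counit, Functor.map_comp, Category.assoc]
  unfold cmp
  rw [h]

/-- the generators of `D(B')` as base changes. -/
noncomputable def extDShiftSelfIso (j : ℤ) :
    (extD B B').obj ((Dual.inD B B)⟦j⟧) ≅ (Dual.inD B' B')⟦j⟧ :=
  ((extD B B').commShiftIso j).app (Dual.inD B B) ≪≫
    (shiftFunctor (Dual.D B') j).mapIso
      (extDInDIso (A := B) (B := B') B ≪≫
        Groth.Agent.Lib.Helper5.NormDual.inDIso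
          (TensorProduct.AlgebraTensorModule.rid B B' B'))

include hsq in
/-- the comparison map is an isomorphism on bounded below objects. -/
theorem isIso_cmp (hψ' : Function.Surjective ψ') (hB : BPC ψ) (M : Dual.D P) (c : ℤ)
    [M.IsGE c] : IsIso (cmp ψ ψ' τ Rψ adj Rψ' adj' M) := by
  refine isIso_of_forall_bijective _ fun j => ?_
  obtain ⟨K, hKdef⟩ : ∃ K : Dual.D B, K = (Dual.inD B B)⟦j⟧ := ⟨_, rfl⟩
  have hK : DRing.IsPseudoCoherent' B K := by
    rw [hKdef]
    exact ⟨(Groth.Agent.Lib.Helper5.RelGor.ffRepShiftSelf (A := B) j).G,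
      (Groth.Agent.Lib.Helper5.RelGor.ffRepShiftSelf (A := B) j).b,
      (Groth.Agent.Lib.Helper5.RelGor.ffRepShiftSelf (A := B) j).van,
      (Groth.Agent.Lib.Helper5.RelGor.ffRepShiftSelf (A := B) j).ff,
      ⟨(Groth.Agent.Lib.Helper5.RelGor.ffRepShiftSelf (A := B) j).e⟩⟩
  have hK' : DRing.IsPseudoCoherent' P ((DRing.restrictD ψ).obj K) :=
    (isPC'_restrictD_iff ψ hB K).1 hK
  haveI : (Rψ.obj M).IsGE c := isGE_rightAdjoint ψ Rψ adj M c
  have hθ := theta_bijective ψ ψ' hsq τ Rψ adj hψ' K hK hK' M (hasBBRes_of_isGE M c)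
    (hasBBRes_of_isGE (Rψ.obj M) c)
  refine ⟨(extD B B').obj K, (extD B B').mapIso (eqToIso hKdef) ≪≫ extDShiftSelfIso j, ?_⟩
  constructor
  · intro f₁ f₂ h
    have h' : f₁ ≫ cmp ψ ψ' τ Rψ adj Rψ' adj' M = f₂ ≫ cmp ψ ψ' τ Rψ adj Rψ' adj' M := h
    apply hθ.1
    have h1 := congrArg (adj'.homEquiv _ _).symm h'
    rw [homEquiv_symm_comp_cmp, homEquiv_symm_comp_cmp] at h1
    unfold theta
    rw [h1]
  · intro h
    obtain ⟨f, hf⟩ := hθ.2 (τ.hom.app K ≫ (adj'.homEquiv _ _).symm h)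
    refine ⟨f, ?_⟩
    show f ≫ cmp ψ ψ' τ Rψ adj Rψ' adj' M = h
    apply (adj'.homEquiv _ _).symm.injective
    rw [homEquiv_symm_comp_cmp]
    have hf' : τ.hom.app K ≫ ((DRing.restrictD ψ').map f ≫ τ.inv.app (Rψ.obj M) ≫
        (extD P P').map (adj.counit.app M)) = τ.hom.app K ≫ (adj'.homEquiv _ _).symm h := hf
    exact (cancel_epi (τ.hom.app K)).1 hf'

include hsq τ adj adj' in
/-- flat base change for right adjoints of restriction (termwise form). -/
theorem nonempty_extD_rightAdjoint_iso (hψ' : Function.Surjective ψ') (hB : BPC ψ)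
    (M : Dual.D P) (c : ℤ) [M.IsGE c] :
    Nonempty ((extD B B').obj (Rψ.obj M) ≅ Rψ'.obj ((extD P P').obj M)) := by
  haveI := isIso_cmp ψ ψ' hsq τ Rψ adj Rψ' adj' hψ' hB M c
  exact ⟨asIso (cmp ψ ψ' τ Rψ adj Rψ' adj' M)⟩

end Core

section Wrapper

variable {P B P' B' : Type u} [CommRing P] [CommRing B] [CommRing P'] [CommRing B']

/-- flat base change for right adjoints of restriction of scalars. -/
theorem nonempty_lbc_rightAdjoint_iso (ψ : P →+* B) (β : P →+* P') (α : B →+* B')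
    (ψ' : P' →+* B') (hsq : α.comp ψ = ψ'.comp β) (hβ : β.Flat) (hα : α.Flat)
    (hbij : ∀ X : ModuleCat.{u} B, Function.Bijective (sqHom ψ β α ψ' hsq X).hom)
    (hψ' : Function.Surjective ψ') (hB : BPC ψ)
    [DRing.HasLBaseChange β] [DRing.HasLBaseChange α]
    (Rψ : Dual.D P ⥤ Dual.D B) (adj : DRing.restrictD ψ ⊣ Rψ)
    (Rψ' : Dual.D P' ⥤ Dual.D B') (adj' : DRing.restrictD ψ' ⊣ Rψ')
    (M : Dual.D P) (c : ℤ) [M.IsGE c] :
    Nonempty ((DRing.LBaseChange α).obj (Rψ.obj M) ≅ Rψ'.obj ((DRing.LBaseChange β).obj M)) := by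
  letI : Algebra P P' := β.toAlgebra
  letI : Algebra B B' := α.toAlgebra
  haveI : Module.Flat P P' := hβ
  haveI : Module.Flat B B' := hα
  let τ : DRing.restrictD ψ ⋙ extD P P' ≅ extD B B' ⋙ DRing.restrictD ψ' :=
    mapDNatIso (ModuleCat.restrictScalars.{u} ψ) (ext P P') (ext B B')
      (ModuleCat.restrictScalars.{u} ψ') (sqNatIso ψ β α ψ' hsq hbij)
  obtain ⟨c1⟩ := Groth.Agent.Lib.Helper5.LocD.lbc_iso_extD B' (Rψ.obj M)
  obtain ⟨c2⟩ := Groth.Agent.Lib.Helper5.LocD.lbc_iso_extD P' M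
  obtain ⟨c3⟩ := nonempty_extD_rightAdjoint_iso ψ ψ' hsq τ Rψ adj Rψ' adj' hψ' hB M c
  exact ⟨c1 ≪≫ c3 ≪≫ Rψ'.mapIso c2.symm⟩

end Wrapper

end Groth.Agent.Lib.Helper5.Shrk
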