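import Mathlib
import Groth.Agent.Lib.Helper5ShrkI
set_option backward.isDefEq.respectTransparency.types false

/-!
# Composition and flat base change for the upper shriek (helper5)

* `nonempty_rightAdjoint_lbc_iso_of_ringEquiv`: `R_ψ(K ⊗^L P)` only depends on `P` up to
  isomorphism.
* `shriek_indep_gen`: the upper shriek may be computed from any presentation by a ring
  isomorphic to a polynomial ring.
* `nonempty_lbc_shift_iso`: derived base change commutes with shifts.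
* `shriek_comp`: `(ψ ∘ φ)^! ≅ ψ^! ∘ φ^!` on bounded below objects.
* `shriek_flat_bc`: flat base change for the upper shriek on bounded below objects.
-/

set_option autoImplicit false
set_option linter.style.haveILetI false
universe u
open CategoryTheory CategoryTheory.Limits TensorProduct
attribute [local instance] HasDerivedCategory.standard

namespace Groth.Agent.Lib.Helper5.Shrk

open DerivedCategory Pretriangulated Groth.Agent.Lib.Helper1.Extend
  Groth.Agent.Lib.Helper1.Restrict Groth.Agent.Lib.Helper5.HasLDer Groth.Agent.Lib.Helper1.LDer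
  Groth.Agent.Lib.Helper1.RelBC Groth.Agent.Lib.Helper5.RelDual

section Formal

variable {R P₁ P₂ A : Type u} [CommRing R] [CommRing P₁] [CommRing P₂] [CommRing A]

/-- invariance of `R_ψ(K ⊗^L P)` under isomorphisms of `P`. -/
theorem nonempty_rightAdjoint_lbc_iso_of_ringEquiv (ι₁ : R →+* P₁) (ι₂ : R →+* P₂)
    (σ : P₁ →+* P₂) (σ' : P₂ →+* P₁) (h1 : σ'.comp σ = RingHom.id P₁)
    (h2 : σ.comp σ' = RingHom.id P₂) (hι : σ.comp ι₁ = ι₂)
    (ψ₁ : P₁ →+* A) (ψ₂ : P₂ →+* A) (hψ : ψ₂.comp σ = ψ₁)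
    [DRing.HasLBaseChange ι₁] [DRing.HasLBaseChange ι₂]
    (R₁ : Dual.D P₁ ⥤ Dual.D A) (adj₁ : DRing.restrictD ψ₁ ⊣ R₁)
    (R₂ : Dual.D P₂ ⥤ Dual.D A) (adj₂ : DRing.restrictD ψ₂ ⊣ R₂) (K : Dual.D R) :
    Nonempty (R₁.obj ((DRing.LBaseChange ι₁).obj K) ≅
      R₂.obj ((DRing.LBaseChange ι₂).obj K)) := by
  haveI := hasLBaseChange σ
  obtain ⟨Rσ, ⟨adjσ⟩⟩ := exists_rightAdjoint σ
  obtain ⟨c1⟩ := nonempty_lbc_comp_iso_all K ι₁ σ ι₂ hι
  obtain ⟨c2⟩ := nonempty_lbc_iso_restrictD_of_inverse σ σ' h1 h2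
    ((DRing.LBaseChange ι₁).obj K)
  obtain ⟨c3⟩ := nonempty_rightAdjoint_iso_restrictD_of_inverse σ σ' h1 h2 Rσ adjσ
  obtain ⟨c4⟩ := nonempty_rightAdjoint_comp_iso σ ψ₂ ψ₁ hψ.symm Rσ adjσ R₂ adj₂ R₁ adj₁
  exact ⟨c4.app _ ≪≫ R₂.mapIso (c3.app _ ≪≫ c2.symm ≪≫ c1)⟩

end Formal

/-- the upper shriek may be computed from a presentation by any ring isomorphic to a polynomial
ring. -/
theorem shriek_indep_gen (R A : Type u) [CommRing R] [CommRing A] [Algebra R A]
    (P₂ : Type u) [CommRing P₂] [Algebra R P₂] (N : ℕ) (e : P₂ ≃ₐ[R] MvPolynomial (Fin N) R)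
    (θ₂ : P₂ →ₐ[R] A) (hθ₂ : Function.Surjective θ₂)
    [DRing.HasLBaseChange (algebraMap R P₂)]
    (R₂ : Dual.D P₂ ⥤ Dual.D A) (adj₂ : DRing.restrictD θ₂.toRingHom ⊣ R₂)
    (k : ℕ) (θ : MvPolynomial (Fin k) R →ₐ[R] A) (hθ : Function.Surjective θ)
    [DRing.HasLBaseChange (algebraMap R (MvPolynomial (Fin k) R))]
    (Rθ : Dual.D (MvPolynomial (Fin k) R) ⥤ Dual.D A)
    (adjθ : DRing.restrictD θ.toRingHom ⊣ Rθ) (K : Dual.D R) :
    Nonempty ((R₂.obj ((DRing.LBaseChange (algebraMap R P₂)).obj K))⟦(N : ℤ)⟧ ≅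
      Dual2.shriekVia k Rθ K) := by
  let θs : MvPolynomial (Fin N) R →ₐ[R] A := θ₂.comp e.symm.toAlgHom
  have hθs : Function.Surjective θs := hθ₂.comp e.symm.surjective
  haveI := hasLBaseChange (algebraMap R (MvPolynomial (Fin N) R))
  obtain ⟨Rs, ⟨adjs⟩⟩ := exists_rightAdjoint θs.toRingHom
  obtain ⟨c1⟩ := nonempty_rightAdjoint_lbc_iso_of_ringEquiv (algebraMap R P₂)
    (algebraMap R (MvPolynomial (Fin N) R)) e.toAlgHom.toRingHom e.symm.toAlgHom.toRingHom
    (RingHom.ext fun x => e.symm_apply_apply x) (RingHom.ext fun x => e.apply_symm_apply x)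
    (RingHom.ext fun x => e.commutes x) θ₂.toRingHom θs.toRingHom
    (RingHom.ext fun x => congrArg θ₂ (e.symm_apply_apply x)) R₂ adj₂ Rs adjs K
  obtain ⟨c2⟩ := shriek_indep R A N θs hθs Rs adjs k θ hθ Rθ adjθ K
  exact ⟨(shiftFunctor (Dual.D A) (N : ℤ)).mapIso c1 ≪≫ c2⟩

section Shift

variable {A B : Type u} [CommRing A] [CommRing B]

/-- derived base change commutes with shifts. -/
theorem nonempty_lbc_shift_iso (φ : A →+* B) [DRing.HasLBaseChange φ] (X : Dual.D A) (n : ℤ) :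
    Nonempty ((DRing.LBaseChange φ).obj (X⟦n⟧) ≅ ((DRing.LBaseChange φ).obj X)⟦n⟧) := by
  obtain ⟨r⟩ := nonempty_kpRep X
  haveI := r.kp
  let e1 : X⟦n⟧ ≅ Q.obj (r.G⟦n⟧) :=
    (shiftFunctor (Dual.D A) n).mapIso r.e.symm ≪≫ ((Q.commShiftIso n).app r.G).symm
  exact ⟨(DRing.LBaseChange φ).mapIso e1 ≪≫ lbcIso φ (r.G⟦n⟧) ≪≫
    Q.mapIso (bcShiftIso φ r.G n) ≪≫ (Q.commShiftIso n).app _ ≪≫
    (shiftFunctor (Dual.D B) n).mapIso (r.lbcIso φ).symm⟩

/-- flat base change preserves lower bounds. -/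
theorem isGE_lbc_of_flat [Algebra A B] [Module.Flat A B]
    [DRing.HasLBaseChange (algebraMap A B)] (K : Dual.D A) (c : ℤ)
    (hK : ∀ i : ℤ, i < c → Subsingleton (Dual.HD A K i)) :
    ((DRing.LBaseChange (algebraMap A B)).obj K).IsGE c := by
  have h0 : K.IsGE c := (DerivedCategory.isGE_iff K c).2 fun i hi => by
    haveI := hK i hi
    exact ModuleCat.isZero_of_subsingleton _
  obtain ⟨e⟩ := Groth.Agent.Lib.Helper5.LocD.lbc_iso_extD B K
  have h1 : ((extD A B).obj K).IsGE c := isGE_map (ext A B) K c h0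
  exact (DerivedCategory.TStructure.t).isGE_of_iso e.symm c

end Shift

section Comp

attribute [local instance] MvPolynomial.algebraMvPolynomial

/-- composition of upper shrieks. -/
theorem shriek_comp (A B C : Type u) [CommRing A] [CommRing B] [CommRing C]
    [IsNoetherianRing A] [Algebra A B] [Algebra B C] [Algebra A C] [IsScalarTower A B C]
    (n : ℕ) (ψ : MvPolynomial (Fin n) A →ₐ[A] B) (hψ : Function.Surjective ψ)
    [DRing.HasLBaseChange (algebraMap A (MvPolynomial (Fin n) A))]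
    (Rψ : Dual.D (MvPolynomial (Fin n) A) ⥤ Dual.D B)
    (adj : DRing.restrictD ψ.toRingHom ⊣ Rψ)
    (m : ℕ) (χ : MvPolynomial (Fin m) B →ₐ[B] C) (hχ : Function.Surjective χ)
    [DRing.HasLBaseChange (algebraMap B (MvPolynomial (Fin m) B))]
    (Rχ : Dual.D (MvPolynomial (Fin m) B) ⥤ Dual.D C)
    (adjχ : DRing.restrictD χ.toRingHom ⊣ Rχ)
    (k : ℕ) (θ : MvPolynomial (Fin k) A →ₐ[A] C) (hθ : Function.Surjective θ)
    [DRing.HasLBaseChange (algebraMap A (MvPolynomial (Fin k) A))]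
    (Rθ : Dual.D (MvPolynomial (Fin k) A) ⥤ Dual.D C)
    (adjθ : DRing.restrictD θ.toRingHom ⊣ Rθ)
    (K : Dual.D A) (c : ℤ) (hK : ∀ i : ℤ, i < c → Subsingleton (Dual.HD A K i)) :
    Nonempty (Dual2.shriekVia k Rθ K ≅ Dual2.shriekVia m Rχ (Dual2.shriekVia n Rψ K)) := by
  classical
  letI : Algebra (MvPolynomial (Fin n) A) B := ψ.toRingHom.toAlgebra
  haveI : IsScalarTower A (MvPolynomial (Fin n) A) B :=
    IsScalarTower.of_algebraMap_eq (fun a => (ψ.commutes a).symm)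
  have hsurj : Function.Surjective (algebraMap (MvPolynomial (Fin n) A) B) := hψ
  haveI : Module.Finite (MvPolynomial (Fin n) A) B :=
    Module.Finite.of_surjective (Algebra.linearMap (MvPolynomial (Fin n) A) B) hψ
  have hBPC : BPC (algebraMap (MvPolynomial (Fin n) A) B) :=
    bpc_of_algebra (Groth.Agent.Lib.Helper5.HomBC.pc'_inD_of_finite
      (A := MvPolynomial (Fin n) A) B)
  haveI hMge : ((DRing.LBaseChange (algebraMap A (MvPolynomial (Fin n) A))).obj K).IsGE c :=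
    isGE_lbc_of_flat K c hK
  haveI := hasLBaseChange (algebraMap (MvPolynomial (Fin n) A)
    (MvPolynomial (Fin m) (MvPolynomial (Fin n) A)))
  haveI := hasLBaseChange (algebraMap A (MvPolynomial (Fin m) (MvPolynomial (Fin n) A)))
  have hsurj' : Function.Surjective (algebraMap (MvPolynomial (Fin m) (MvPolynomial (Fin n) A))
      (MvPolynomial (Fin m) B)) :=
    MvPolynomial.map_surjective (algebraMap (MvPolynomial (Fin n) A) B) hsurj
  obtain ⟨Rψ', ⟨adj'⟩⟩ := exists_rightAdjoint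
    (algebraMap (MvPolynomial (Fin m) (MvPolynomial (Fin n) A)) (MvPolynomial (Fin m) B))
  obtain ⟨s2⟩ := nonempty_lbc_rightAdjoint_iso (algebraMap (MvPolynomial (Fin n) A) B)
    (algebraMap (MvPolynomial (Fin n) A) (MvPolynomial (Fin m) (MvPolynomial (Fin n) A)))
    (algebraMap B (MvPolynomial (Fin m) B))
    (algebraMap (MvPolynomial (Fin m) (MvPolynomial (Fin n) A)) (MvPolynomial (Fin m) B))
    (algebraMap_sq (MvPolynomial (Fin n) A) (MvPolynomial (Fin m) (MvPolynomial (Fin n) A)) B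
      (MvPolynomial (Fin m) B))
    (RingHom.flat_algebraMap_iff.2 inferInstance) (RingHom.flat_algebraMap_iff.2 inferInstance)
    (sqHom_bijective_of_isPushout (MvPolynomial (Fin n) A)
      (MvPolynomial (Fin m) (MvPolynomial (Fin n) A)) B (MvPolynomial (Fin m) B))
    hsurj' hBPC Rψ adj Rψ' adj'
    ((DRing.LBaseChange (algebraMap A (MvPolynomial (Fin n) A))).obj K) c
  obtain ⟨s1⟩ := nonempty_lbc_shift_iso (algebraMap B (MvPolynomial (Fin m) B))
    (Rψ.obj ((DRing.LBaseChange (algebraMap A (MvPolynomial (Fin n) A))).obj K)) (n : ℤ)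
  obtain ⟨s3⟩ := nonempty_lbc_comp_iso_all K (algebraMap A (MvPolynomial (Fin n) A))
    (algebraMap (MvPolynomial (Fin n) A) (MvPolynomial (Fin m) (MvPolynomial (Fin n) A)))
    (algebraMap A (MvPolynomial (Fin m) (MvPolynomial (Fin n) A)))
    (IsScalarTower.algebraMap_eq A (MvPolynomial (Fin n) A)
      (MvPolynomial (Fin m) (MvPolynomial (Fin n) A))).symm
  let θ' : MvPolynomial (Fin m) (MvPolynomial (Fin n) A) →ₐ[A] C :=
    (χ.restrictScalars A).comp
      (MvPolynomial.mapAlgHom (IsScalarTower.toAlgHom A (MvPolynomial (Fin n) A) B))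
  have hθ'r : θ'.toRingHom = χ.toRingHom.comp
      (algebraMap (MvPolynomial (Fin m) (MvPolynomial (Fin n) A)) (MvPolynomial (Fin m) B)) :=
    RingHom.ext fun x => rfl
  have hθ's : Function.Surjective θ' := hχ.comp hsurj'
  obtain ⟨Rθ', ⟨adjθ'⟩⟩ := exists_rightAdjoint θ'.toRingHom
  obtain ⟨s4⟩ := nonempty_rightAdjoint_comp_iso
    (algebraMap (MvPolynomial (Fin m) (MvPolynomial (Fin n) A)) (MvPolynomial (Fin m) B))
    χ.toRingHom θ'.toRingHom hθ'r Rψ' adj' Rχ adjχ Rθ' adjθ'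
  let e : MvPolynomial (Fin m) (MvPolynomial (Fin n) A) ≃ₐ[A] MvPolynomial (Fin (m + n)) A :=
    (MvPolynomial.sumAlgEquiv A (Fin m) (Fin n)).symm.trans
      (MvPolynomial.renameEquiv A finSumFinEquiv)
  obtain ⟨s5⟩ := shriek_indep_gen A C (MvPolynomial (Fin m) (MvPolynomial (Fin n) A)) (m + n) e
    θ' hθ's Rθ' adjθ' k θ hθ Rθ adjθ K
  letI : Rχ.CommShift ℤ := adjχ.rightAdjointCommShift ℤ
  let t : Rχ.obj ((DRing.LBaseChange (algebraMap B (MvPolynomial (Fin m) B))).obj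
      ((Rψ.obj ((DRing.LBaseChange (algebraMap A (MvPolynomial (Fin n) A))).obj K))⟦(n : ℤ)⟧)) ≅
      (Rθ'.obj ((DRing.LBaseChange
        (algebraMap A (MvPolynomial (Fin m) (MvPolynomial (Fin n) A)))).obj K))⟦(n : ℤ)⟧ :=
    Rχ.mapIso s1 ≪≫ (Rχ.commShiftIso (n : ℤ)).app _ ≪≫
      (shiftFunctor (Dual.D C) (n : ℤ)).mapIso
        (Rχ.mapIso s2 ≪≫ (s4.app _).symm ≪≫ Rθ'.mapIso s3)
  exact ⟨s5.symm ≪≫
    ((shiftFunctorAdd' (Dual.D C) (n : ℤ) (m : ℤ) ((m + n : ℕ) : ℤ)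
      (by push_cast; ring)).app _) ≪≫
    (shiftFunctor (Dual.D C) (m : ℤ)).mapIso t.symm⟩

end Comp

section FlatBC

/-- flat base change for the upper shriek. -/
theorem shriek_flat_bc (R R' A : Type u) [CommRing R] [CommRing R'] [CommRing A]
    [IsNoetherianRing R] [Algebra R R'] [Module.Flat R R'] [Algebra R A]
    (n : ℕ) (ψ : MvPolynomial (Fin n) R →ₐ[R] A) (hψ : Function.Surjective ψ)
    [DRing.HasLBaseChange (algebraMap R (MvPolynomial (Fin n) R))]
    (Rψ : Dual.D (MvPolynomial (Fin n) R) ⥤ Dual.D A)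
    (adj : DRing.restrictD ψ.toRingHom ⊣ Rψ)
    (m : ℕ) (ψ' : MvPolynomial (Fin m) R' →ₐ[R'] (R' ⊗[R] A)) (hψ' : Function.Surjective ψ')
    [DRing.HasLBaseChange (algebraMap R' (MvPolynomial (Fin m) R'))]
    (Rψ' : Dual.D (MvPolynomial (Fin m) R') ⥤ Dual.D (R' ⊗[R] A))
    (adj' : DRing.restrictD ψ'.toRingHom ⊣ Rψ')
    [DRing.HasLBaseChange (Algebra.TensorProduct.includeRight : A →ₐ[R] R' ⊗[R] A).toRingHom]
    [DRing.HasLBaseChange (algebraMap R R')]
    (K : Dual.D R) (c : ℤ) (hK : ∀ i : ℤ, i < c → Subsingleton (Dual.HD R K i)) :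
    Nonempty ((DRing.LBaseChange
      (Algebra.TensorProduct.includeRight : A →ₐ[R] R' ⊗[R] A).toRingHom).obj
        (Dual2.shriekVia n Rψ K) ≅
      Dual2.shriekVia m Rψ' ((DRing.LBaseChange (algebraMap R R')).obj K)) := by
  classical
  letI : Algebra (MvPolynomial (Fin n) R) A := ψ.toRingHom.toAlgebra
  haveI : IsScalarTower R (MvPolynomial (Fin n) R) A :=
    IsScalarTower.of_algebraMap_eq (fun a => (ψ.commutes a).symm)
  have hsurj : Function.Surjective (algebraMap (MvPolynomial (Fin n) R) A) := hψ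
  haveI : Module.Finite (MvPolynomial (Fin n) R) A :=
    Module.Finite.of_surjective (Algebra.linearMap (MvPolynomial (Fin n) R) A) hψ
  have hBPC : BPC (algebraMap (MvPolynomial (Fin n) R) A) :=
    bpc_of_algebra (Groth.Agent.Lib.Helper5.HomBC.pc'_inD_of_finite
      (A := MvPolynomial (Fin n) R) A)
  haveI hMge : ((DRing.LBaseChange (algebraMap R (MvPolynomial (Fin n) R))).obj K).IsGE c :=
    isGE_lbc_of_flat K c hK
  haveI := hasLBaseChange (inr R R' (MvPolynomial (Fin n) R))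
  have hsurj' : Function.Surjective (psiK R R' (MvPolynomial (Fin n) R) A) :=
    Algebra.TensorProduct.map_surjective (f := AlgHom.id R' R')
      (g := IsScalarTower.toAlgHom R (MvPolynomial (Fin n) R) A) Function.surjective_id hsurj
  obtain ⟨Rq, ⟨adjq⟩⟩ := exists_rightAdjoint (psiK R R' (MvPolynomial (Fin n) R) A)
  obtain ⟨s2⟩ := nonempty_lbc_rightAdjoint_iso (algebraMap (MvPolynomial (Fin n) R) A)
    (inr R R' (MvPolynomial (Fin n) R)) (inr R R' A) (psiK R R' (MvPolynomial (Fin n) R) A)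
    (psiK_comp R R' (MvPolynomial (Fin n) R) A) (flat_inr R R' (MvPolynomial (Fin n) R))
    (flat_inr R R' A) (sqHom_bijective_tensor R R' (MvPolynomial (Fin n) R) A) hsurj' hBPC
    Rψ adj Rq adjq ((DRing.LBaseChange (algebraMap R (MvPolynomial (Fin n) R))).obj K) c
  obtain ⟨s1⟩ := nonempty_lbc_shift_iso (inr R R' A)
    (Rψ.obj ((DRing.LBaseChange (algebraMap R (MvPolynomial (Fin n) R))).obj K)) (n : ℤ)
  haveI := hasLBaseChange ((inr R R' (MvPolynomial (Fin n) R)).comp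
    (algebraMap R (MvPolynomial (Fin n) R)))
  haveI := hasLBaseChange (algebraMap R' (R' ⊗[R] MvPolynomial (Fin n) R))
  obtain ⟨s3a⟩ := nonempty_lbc_comp_iso_all K (algebraMap R (MvPolynomial (Fin n) R))
    (inr R R' (MvPolynomial (Fin n) R))
    ((inr R R' (MvPolynomial (Fin n) R)).comp (algebraMap R (MvPolynomial (Fin n) R))) rfl
  have hι : (algebraMap R' (R' ⊗[R] MvPolynomial (Fin n) R)).comp (algebraMap R R') =
      (inr R R' (MvPolynomial (Fin n) R)).comp (algebraMap R (MvPolynomial (Fin n) R)) := by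
    apply RingHom.ext
    intro r
    show (algebraMap R R' r) ⊗ₜ[R] (1 : MvPolynomial (Fin n) R) =
      (1 : R') ⊗ₜ[R] (algebraMap R (MvPolynomial (Fin n) R) r)
    rw [Algebra.algebraMap_eq_smul_one, Algebra.algebraMap_eq_smul_one (A := MvPolynomial (Fin n) R),
      TensorProduct.smul_tmul]
  obtain ⟨s3b⟩ := nonempty_lbc_comp_iso_all K (algebraMap R R')
    (algebraMap R' (R' ⊗[R] MvPolynomial (Fin n) R))
    ((inr R R' (MvPolynomial (Fin n) R)).comp (algebraMap R (MvPolynomial (Fin n) R))) hι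
  let θ₂ : R' ⊗[R] MvPolynomial (Fin n) R →ₐ[R'] R' ⊗[R] A :=
    Algebra.TensorProduct.map (AlgHom.id R' R')
      (IsScalarTower.toAlgHom R (MvPolynomial (Fin n) R) A)
  obtain ⟨s5⟩ := shriek_indep_gen R' (R' ⊗[R] A) (R' ⊗[R] MvPolynomial (Fin n) R) n
    (MvPolynomial.algebraTensorAlgEquiv R R') θ₂ hsurj' Rq adjq m ψ' hψ' Rψ' adj'
    ((DRing.LBaseChange (algebraMap R R')).obj K)
  exact ⟨s1 ≪≫ (shiftFunctor (Dual.D (R' ⊗[R] A)) (n : ℤ)).mapIso
    (s2 ≪≫ Rq.mapIso (s3a ≪≫ s3b.symm)) ≪≫ s5⟩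

end FlatBC

end Groth.Agent.Lib.Helper5.Shrk
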