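import Mathlib
import Groth.Agent.Lib.Helper5PfBCA
import Groth.Agent.Lib.Helper5ShrkJ
set_option backward.isDefEq.respectTransparency.types false

/-!
# Flat base change for `RHom_P(B, -)` when `B` is perfect over `P` (helper5)

The variant of `Shrk.nonempty_lbc_rightAdjoint_iso` without boundedness on the object `M` of
`D(P)`, under the assumption that `B` is perfect over `P`.

* `isPerfect_shift_self`, `isPerfect_restrictD_shift_self`.
* `theta_bijective_of_perfect`, `isIso_cmp_of_perfect`.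
* `nonempty_lbc_rightAdjoint_iso_of_perfect`.
* `shriek_flat_bc_of_flat`: flat base change for the upper shriek of a FLAT finite type map, for
  all objects `K` of `D(R)`.
-/

set_option autoImplicit false
set_option linter.style.haveILetI false
universe u
open CategoryTheory CategoryTheory.Limits TensorProduct
attribute [local instance] HasDerivedCategory.standard

namespace Groth.Agent.Lib.Helper5.PfBC

open DerivedCategory Pretriangulated Groth.Agent.Lib.Helper1.Extend Groth.Agent.Lib.Helper5.HomBC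
  Groth.Agent.Lib.Helper5.DeltaRes Groth.Agent.Lib.Helper1.Restrict
  Groth.Agent.Lib.Helper5.HasLDer Groth.Agent.Lib.Helper5.Shrk Groth.Agent.Lib.Helper5.RelDual
  Groth.Agent.Lib.Helper5.Coext Groth.Agent.Lib.Helper1.LDer Groth.Agent.Lib.Helper1.RelBC

section Perf

/-- `B[j]` is perfect over `B`. -/
lemma isPerfect_shift_self (B : Type u) [CommRing B] (j : ℤ) :
    DRing.IsPerfect B ((Dual.inD B B)⟦j⟧) :=
  ⟨(Groth.Agent.Lib.Helper5.RelGor.ffRepShiftSelf (A := B) j).G, -j, -j,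
    fun i hi =>
      HomologicalComplex.isZero_single_obj_X (ComplexShape.up ℤ) 0 _ (i + j) (by omega),
    fun i => ⟨((Groth.Agent.Lib.Helper5.RelGor.ffRepShiftSelf (A := B) j).ff i).1, by
      haveI := ((Groth.Agent.Lib.Helper5.RelGor.ffRepShiftSelf (A := B) j).ff i).2
      infer_instance⟩,
    ⟨(Groth.Agent.Lib.Helper5.RelGor.ffRepShiftSelf (A := B) j).e⟩⟩

/-- if `B` has a finite resolution by finite projective `P`-modules then `B[j]` is perfect over
`P`. -/
theorem isPerfect_restrictD_shift_self {P B : Type u} [CommRing P] [CommRing B] [Algebra P B]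
    (T : PerfRes P B) (j : ℤ) :
    DRing.IsPerfect P ((DRing.restrictD (algebraMap P B)).obj ((Dual.inD B B)⟦j⟧)) := by
  haveI := T.qi
  haveI : IsIso (Q.map T.aF) := inferInstance
  let e0 : (DRing.restrictD (algebraMap P B)).obj (Dual.inD B B) ≅ Q.obj T.F :=
    restrictDSingleIso (algebraMap P B) (ModuleCat.of B B) 0 ≪≫
      (singleFunctorIsoCompQ (ModuleCat.{u} P) 0).app (Bm P B) ≪≫ (asIso (Q.map T.aF)).symm
  refine ⟨T.F⟦j⟧, T.a - j, T.b - j, vanishesOutside_shift T.F T.a T.b j T.van,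
    termwiseFiniteProjective_shift T.F j T.fp, ⟨?_⟩⟩
  exact (Q.commShiftIso j).app T.F ≪≫ (shiftFunctor (Dual.D P) j).mapIso e0.symm ≪≫
    (((DRing.restrictD (algebraMap P B)).commShiftIso j).app (Dual.inD B B)).symm

end Perf

section Core

variable {P B P' B' : Type u} [CommRing P] [CommRing B] [CommRing P'] [CommRing B']
  [Algebra P P'] [Module.Flat P P'] [Algebra B B'] [Module.Flat B B']
  (ψ : P →+* B) (ψ' : P' →+* B')
  (hsq : (algebraMap B B').comp ψ = ψ'.comp (algebraMap P P'))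
  (τ : DRing.restrictD ψ ⋙ extD P P' ≅ extD B B' ⋙ DRing.restrictD ψ')
  (Rψ : Dual.D P ⥤ Dual.D B) (adj : DRing.restrictD ψ ⊣ Rψ)

include hsq in
/-- the key bijection, perfect case. -/
theorem theta_bijective_of_perfect (hψ' : Function.Surjective ψ') (K : Dual.D B)
    (hK : DRing.IsPerfect B K)
    (hK' : DRing.IsPerfect P ((DRing.restrictD ψ).obj K)) (M : Dual.D P) :
    Function.Bijective (theta ψ ψ' τ Rψ adj K M) := by
  have hα := bc_bijective_of_perfect B' hK (Rψ.obj M)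
  have hβ := bc_bijective_of_perfect P' hK' M
  have hl := lam_surjective ψ ψ' hsq Rψ adj hψ' K M
  constructor
  · intro f₁ f₂ h
    obtain ⟨y₁, rfl⟩ := hα.2 f₁
    obtain ⟨y₂, rfl⟩ := hα.2 f₂
    obtain ⟨x₁, rfl⟩ := hl y₁
    obtain ⟨x₂, rfl⟩ := hl y₂
    rw [theta_bc_lam, theta_bc_lam] at h
    rw [hβ.1 h]
  · intro g
    obtain ⟨x, rfl⟩ := hβ.2 g
    exact ⟨_, theta_bc_lam ψ ψ' hsq τ Rψ adj K M x⟩

variable (Rψ' : Dual.D P' ⥤ Dual.D B') (adj' : DRing.restrictD ψ' ⊣ Rψ')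

include hsq in
/-- the comparison map is an isomorphism on all objects when `B` is perfect over `P`. -/
theorem isIso_cmp_of_perfect (hψ' : Function.Surjective ψ')
    (hperf : ∀ j : ℤ, DRing.IsPerfect P ((DRing.restrictD ψ).obj ((Dual.inD B B)⟦j⟧)))
    (M : Dual.D P) : IsIso (cmp ψ ψ' τ Rψ adj Rψ' adj' M) := by
  refine isIso_of_forall_bijective _ fun j => ?_
  obtain ⟨K, hKdef⟩ : ∃ K : Dual.D B, K = (Dual.inD B B)⟦j⟧ := ⟨_, rfl⟩
  have hK : DRing.IsPerfect B K := by
    rw [hKdef]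
    exact isPerfect_shift_self B j
  have hK' : DRing.IsPerfect P ((DRing.restrictD ψ).obj K) := by
    rw [hKdef]
    exact hperf j
  have hθ := theta_bijective_of_perfect ψ ψ' hsq τ Rψ adj hψ' K hK hK' M
  refine ⟨(extD B B').obj K, (extD B B').mapIso (eqToIso hKdef) ≪≫ extDShiftSelfIso j, ?_⟩
  constructor
  · intro f₁ f₂ h
    have h' : f₁ ≫ cmp ψ ψ' τ Rψ adj Rψ' adj' M = f₂ ≫ cmp ψ ψ' τ Rψ adj Rψ' adj' M := h
    apply hθ.1
    have h1 := congrArg (adj'.homEquiv _ _).symm h'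
    rw [homEquiv_symm_comp_cmp, homEquiv_symm_comp_cmp] at h1
    unfold theta
    rw [h1]
  · intro h
    obtain ⟨f, hf⟩ := hθ.2 (τ.hom.app K ≫ (adj'.homEquiv _ _).symm h)
    refine ⟨f, ?_⟩
    show f ≫ cmp ψ ψ' τ Rψ adj Rψ' adj' M = h
    apply (adj'.homEquiv _ _).symm.injective
    rw [homEquiv_symm_comp_cmp]
    have hf' : τ.hom.app K ≫ ((DRing.restrictD ψ').map f ≫ τ.inv.app (Rψ.obj M) ≫
        (extD P P').map (adj.counit.app M)) = τ.hom.app K ≫ (adj'.homEquiv _ _).symm h := hf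
    exact (cancel_epi (τ.hom.app K)).1 hf'

include hsq τ adj adj' in
/-- flat base change for right adjoints of restriction (termwise form), perfect case. -/
theorem nonempty_extD_rightAdjoint_iso_of_perfect (hψ' : Function.Surjective ψ')
    (hperf : ∀ j : ℤ, DRing.IsPerfect P ((DRing.restrictD ψ).obj ((Dual.inD B B)⟦j⟧)))
    (M : Dual.D P) :
    Nonempty ((extD B B').obj (Rψ.obj M) ≅ Rψ'.obj ((extD P P').obj M)) := by
  haveI := isIso_cmp_of_perfect ψ ψ' hsq τ Rψ adj Rψ' adj' hψ' hperf M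
  exact ⟨asIso (cmp ψ ψ' τ Rψ adj Rψ' adj' M)⟩

end Core

section Wrapper

variable {P B P' B' : Type u} [CommRing P] [CommRing B] [CommRing P'] [CommRing B']

/-- flat base change for right adjoints of restriction of scalars, `B` perfect over `P`, all
objects of `D(P)`. -/
theorem nonempty_lbc_rightAdjoint_iso_of_perfect (ψ : P →+* B) (β : P →+* P') (α : B →+* B')
    (ψ' : P' →+* B') (hsq : α.comp ψ = ψ'.comp β) (hβ : β.Flat) (hα : α.Flat)
    (hbij : ∀ X : ModuleCat.{u} B, Function.Bijective (sqHom ψ β α ψ' hsq X).hom)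
    (hψ' : Function.Surjective ψ')
    (hperf : ∀ j : ℤ, DRing.IsPerfect P ((DRing.restrictD ψ).obj ((Dual.inD B B)⟦j⟧)))
    [DRing.HasLBaseChange β] [DRing.HasLBaseChange α]
    (Rψ : Dual.D P ⥤ Dual.D B) (adj : DRing.restrictD ψ ⊣ Rψ)
    (Rψ' : Dual.D P' ⥤ Dual.D B') (adj' : DRing.restrictD ψ' ⊣ Rψ')
    (M : Dual.D P) :
    Nonempty ((DRing.LBaseChange α).obj (Rψ.obj M) ≅ Rψ'.obj ((DRing.LBaseChange β).obj M)) := by
  letI : Algebra P P' := β.toAlgebra
  letI : Algebra B B' := α.toAlgebra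
  haveI : Module.Flat P P' := hβ
  haveI : Module.Flat B B' := hα
  let τ : DRing.restrictD ψ ⋙ extD P P' ≅ extD B B' ⋙ DRing.restrictD ψ' :=
    mapDNatIso (ModuleCat.restrictScalars.{u} ψ) (ext P P') (ext B B')
      (ModuleCat.restrictScalars.{u} ψ') (sqNatIso ψ β α ψ' hsq hbij)
  obtain ⟨c1⟩ := Groth.Agent.Lib.Helper5.LocD.lbc_iso_extD B' (Rψ.obj M)
  obtain ⟨c2⟩ := Groth.Agent.Lib.Helper5.LocD.lbc_iso_extD P' M
  obtain ⟨c3⟩ := nonempty_extD_rightAdjoint_iso_of_perfect ψ ψ' hsq τ Rψ adj Rψ' adj' hψ' hperf M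
  exact ⟨c1 ≪≫ c3 ≪≫ Rψ'.mapIso c2.symm⟩

end Wrapper

section FlatBC

/-- flat base change for the upper shriek of a flat finite type map, all objects. -/
theorem shriek_flat_bc_of_flat (R R' A : Type u) [CommRing R] [CommRing R'] [CommRing A]
    [IsNoetherianRing R] [Algebra R R'] [Module.Flat R R'] [Algebra R A] [Module.Flat R A]
    (n : ℕ) (ψ : MvPolynomial (Fin n) R →ₐ[R] A) (hψ : Function.Surjective ψ)
    [DRing.HasLBaseChange (algebraMap R (MvPolynomial (Fin n) R))]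
    (Rψ : Dual.D (MvPolynomial (Fin n) R) ⥤ Dual.D A)
    (adj : DRing.restrictD ψ.toRingHom ⊣ Rψ)
    (m : ℕ) (ψ' : MvPolynomial (Fin m) R' →ₐ[R'] (R' ⊗[R] A)) (hψ' : Function.Surjective ψ')
    [DRing.HasLBaseChange (algebraMap R' (MvPolynomial (Fin m) R'))]
    (Rψ' : Dual.D (MvPolynomial (Fin m) R') ⥤ Dual.D (R' ⊗[R] A))
    (adj' : DRing.restrictD ψ'.toRingHom ⊣ Rψ')
    [DRing.HasLBaseChange (Algebra.TensorProduct.includeRight : A →ₐ[R] R' ⊗[R] A).toRingHom]
    [DRing.HasLBaseChange (algebraMap R R')]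
    (K : Dual.D R) :
    Nonempty ((DRing.LBaseChange
      (Algebra.TensorProduct.includeRight : A →ₐ[R] R' ⊗[R] A).toRingHom).obj
        (Dual2.shriekVia n Rψ K) ≅
      Dual2.shriekVia m Rψ' ((DRing.LBaseChange (algebraMap R R')).obj K)) := by
  classical
  obtain ⟨T⟩ := nonempty_perfRes_of_flat R A n ψ hψ
  letI : Algebra (MvPolynomial (Fin n) R) A := ψ.toRingHom.toAlgebra
  haveI : IsScalarTower R (MvPolynomial (Fin n) R) A :=
    IsScalarTower.of_algebraMap_eq (fun a => (ψ.commutes a).symm)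
  have hsurj : Function.Surjective (algebraMap (MvPolynomial (Fin n) R) A) := hψ
  have hperf : ∀ j : ℤ, DRing.IsPerfect (MvPolynomial (Fin n) R)
      ((DRing.restrictD (algebraMap (MvPolynomial (Fin n) R) A)).obj ((Dual.inD A A)⟦j⟧)) :=
    fun j => isPerfect_restrictD_shift_self T j
  haveI := hasLBaseChange (inr R R' (MvPolynomial (Fin n) R))
  have hsurj' : Function.Surjective (psiK R R' (MvPolynomial (Fin n) R) A) :=
    Algebra.TensorProduct.map_surjective (f := AlgHom.id R' R')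
      (g := IsScalarTower.toAlgHom R (MvPolynomial (Fin n) R) A) Function.surjective_id hsurj
  obtain ⟨Rq, ⟨adjq⟩⟩ := exists_rightAdjoint (psiK R R' (MvPolynomial (Fin n) R) A)
  obtain ⟨s2⟩ := nonempty_lbc_rightAdjoint_iso_of_perfect
    (algebraMap (MvPolynomial (Fin n) R) A)
    (inr R R' (MvPolynomial (Fin n) R)) (inr R R' A) (psiK R R' (MvPolynomial (Fin n) R) A)
    (psiK_comp R R' (MvPolynomial (Fin n) R) A) (flat_inr R R' (MvPolynomial (Fin n) R))
    (flat_inr R R' A) (sqHom_bijective_tensor R R' (MvPolynomial (Fin n) R) A) hsurj' hperf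
    Rψ adj Rq adjq ((DRing.LBaseChange (algebraMap R (MvPolynomial (Fin n) R))).obj K)
  obtain ⟨s1⟩ := nonempty_lbc_shift_iso (inr R R' A)
    (Rψ.obj ((DRing.LBaseChange (algebraMap R (MvPolynomial (Fin n) R))).obj K)) (n : ℤ)
  haveI := hasLBaseChange ((inr R R' (MvPolynomial (Fin n) R)).comp
    (algebraMap R (MvPolynomial (Fin n) R)))
  haveI := hasLBaseChange (algebraMap R' (R' ⊗[R] MvPolynomial (Fin n) R))
  obtain ⟨s3a⟩ := nonempty_lbc_comp_iso_all K (algebraMap R (MvPolynomial (Fin n) R))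
    (inr R R' (MvPolynomial (Fin n) R))
    ((inr R R' (MvPolynomial (Fin n) R)).comp (algebraMap R (MvPolynomial (Fin n) R))) rfl
  have hι : (algebraMap R' (R' ⊗[R] MvPolynomial (Fin n) R)).comp (algebraMap R R') =
      (inr R R' (MvPolynomial (Fin n) R)).comp (algebraMap R (MvPolynomial (Fin n) R)) := by
    apply RingHom.ext
    intro r
    show (algebraMap R R' r) ⊗ₜ[R] (1 : MvPolynomial (Fin n) R) =
      (1 : R') ⊗ₜ[R] (algebraMap R (MvPolynomial (Fin n) R) r)
    rw [Algebra.algebraMap_eq_smul_one, Algebra.algebraMap_eq_smul_one (A := MvPolynomial (Fin n) R),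
      TensorProduct.smul_tmul]
  obtain ⟨s3b⟩ := nonempty_lbc_comp_iso_all K (algebraMap R R')
    (algebraMap R' (R' ⊗[R] MvPolynomial (Fin n) R))
    ((inr R R' (MvPolynomial (Fin n) R)).comp (algebraMap R (MvPolynomial (Fin n) R))) hι
  let θ₂ : R' ⊗[R] MvPolynomial (Fin n) R →ₐ[R'] R' ⊗[R] A :=
    Algebra.TensorProduct.map (AlgHom.id R' R')
      (IsScalarTower.toAlgHom R (MvPolynomial (Fin n) R) A)
  obtain ⟨s5⟩ := shriek_indep_gen R' (R' ⊗[R] A) (R' ⊗[R] MvPolynomial (Fin n) R) n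
    (MvPolynomial.algebraTensorAlgEquiv R R') θ₂ hsurj' Rq adjq m ψ' hψ' Rψ' adj'
    ((DRing.LBaseChange (algebraMap R R')).obj K)
  exact ⟨s1 ≪≫ (shiftFunctor (Dual.D (R' ⊗[R] A)) (n : ℤ)).mapIso
    (s2 ≪≫ Rq.mapIso (s3a ≪≫ s3b.symm)) ≪≫ s5⟩

end FlatBC

end Groth.Agent.Lib.Helper5.PfBC
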