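import Mathlib
import Groth.Agent.Lib.Helper5PfBCB
set_option backward.isDefEq.respectTransparency.types false

/-!
# The upper shriek of a flat epimorphism of finite type (helper5)

For `R → R'` flat, of finite type, and an epimorphism of rings (`R' ⊗_R R' = R'`, e.g. an open
immersion of affine schemes), with `R` Noetherian: `φ^!(K) ≅ K ⊗^L_R R'` for all `K` in `D(R)`
(`shriek_flat_epi`).  Proof: flat base change along `R → R'` itself
(`shriek_flat_bc_of_flat`), and `R' → R' ⊗_R R'` is an isomorphism.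
-/

set_option autoImplicit false
set_option linter.style.haveILetI false
universe u
open CategoryTheory CategoryTheory.Limits TensorProduct
attribute [local instance] HasDerivedCategory.standard

namespace Groth.Agent.Lib.Helper5.PfBC

open DerivedCategory Pretriangulated Groth.Agent.Lib.Helper5.HasLDer Groth.Agent.Lib.Helper5.Shrk
  Groth.Agent.Lib.Helper1.RelBC

section Epi

variable (R R' : Type u) [CommRing R] [CommRing R'] [Algebra R R'] [Algebra.IsEpi R R']

lemma one_tmul_lmul' (x : R' ⊗[R] R') :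
    (1 : R') ⊗ₜ[R] (Algebra.TensorProduct.lmul' R (S := R') x) = x := by
  have hone := (Algebra.isEpi_iff_forall_one_tmul_eq R R').1 inferInstance
  induction x using TensorProduct.induction_on with
  | zero => rw [map_zero, TensorProduct.tmul_zero]
  | tmul a b =>
    rw [Algebra.TensorProduct.lmul'_apply_tmul]
    calc (1 : R') ⊗ₜ[R] (a * b) = ((1 : R') ⊗ₜ[R] a) * ((1 : R') ⊗ₜ[R] b) := by
          rw [Algebra.TensorProduct.tmul_mul_tmul, one_mul]
      _ = (a ⊗ₜ[R] (1 : R')) * ((1 : R') ⊗ₜ[R] b) := by rw [hone a]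
      _ = a ⊗ₜ[R] b := by rw [Algebra.TensorProduct.tmul_mul_tmul, mul_one, one_mul]
  | add x y hx hy => rw [map_add, TensorProduct.tmul_add, hx, hy]

lemma lmul'_tmul_one (x : R' ⊗[R] R') :
    (Algebra.TensorProduct.lmul' R (S := R') x) ⊗ₜ[R] (1 : R') = x := by
  have hone := (Algebra.isEpi_iff_forall_one_tmul_eq R R').1 inferInstance
  induction x using TensorProduct.induction_on with
  | zero => rw [map_zero, TensorProduct.zero_tmul]
  | tmul a b =>
    rw [Algebra.TensorProduct.lmul'_apply_tmul]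
    calc (a * b) ⊗ₜ[R] (1 : R') = (a ⊗ₜ[R] (1 : R')) * (b ⊗ₜ[R] (1 : R')) := by
          rw [Algebra.TensorProduct.tmul_mul_tmul, one_mul]
      _ = (a ⊗ₜ[R] (1 : R')) * ((1 : R') ⊗ₜ[R] b) := by rw [hone b]
      _ = a ⊗ₜ[R] b := by rw [Algebra.TensorProduct.tmul_mul_tmul, mul_one, one_mul]
  | add x y hx hy => rw [map_add, TensorProduct.add_tmul, hx, hy]

end Epi

/-- the upper shriek of a flat finite type epimorphism is derived base change. -/
theorem shriek_flat_epi (R R' : Type u) [CommRing R] [CommRing R'] [IsNoetherianRing R]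
    [Algebra R R'] [Module.Flat R R'] [Algebra.IsEpi R R']
    (n : ℕ) (ψ : MvPolynomial (Fin n) R →ₐ[R] R') (hψ : Function.Surjective ψ)
    [DRing.HasLBaseChange (algebraMap R (MvPolynomial (Fin n) R))]
    (Rψ : Dual.D (MvPolynomial (Fin n) R) ⥤ Dual.D R')
    (adj : DRing.restrictD ψ.toRingHom ⊣ Rψ)
    [DRing.HasLBaseChange (algebraMap R R')] (K : Dual.D R) :
    Nonempty (Dual2.shriekVia n Rψ K ≅ (DRing.LBaseChange (algebraMap R R')).obj K) := by
  classical
  -- the ring maps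
  obtain ⟨μ, hμ⟩ : ∃ μ : R' ⊗[R] R' →+* R',
      μ = (Algebra.TensorProduct.lmul' R (S := R')).toRingHom := ⟨_, rfl⟩
  obtain ⟨inl, hinl⟩ : ∃ inl : R' →+* R' ⊗[R] R', inl = algebraMap R' (R' ⊗[R] R') := ⟨_, rfl⟩
  have hμ_inr : μ.comp (inr R R' R') = RingHom.id R' := by
    apply RingHom.ext
    intro a
    rw [hμ]
    show Algebra.TensorProduct.lmul' R (S := R') ((1 : R') ⊗ₜ[R] a) = a
    rw [Algebra.TensorProduct.lmul'_apply_tmul, one_mul]
  have hinr_μ : (inr R R' R').comp μ = RingHom.id (R' ⊗[R] R') := by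
    apply RingHom.ext
    intro x
    rw [hμ]
    exact one_tmul_lmul' R R' x
  have hμ_inl : μ.comp inl = RingHom.id R' := by
    apply RingHom.ext
    intro a
    rw [hμ, hinl]
    show Algebra.TensorProduct.lmul' R (S := R') (a ⊗ₜ[R] (1 : R')) = a
    rw [Algebra.TensorProduct.lmul'_apply_tmul, mul_one]
  have hinl_μ : inl.comp μ = RingHom.id (R' ⊗[R] R') := by
    apply RingHom.ext
    intro x
    rw [hμ, hinl]
    exact lmul'_tmul_one R R' x
  -- the trivial presentation of `R' ⊗ R'` over `R'`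
  let π₀ : MvPolynomial (Fin 0) R' →+* R' :=
    (MvPolynomial.isEmptyAlgEquiv R' (Fin 0)).toAlgHom.toRingHom
  let C₀ : R' →+* MvPolynomial (Fin 0) R' := algebraMap R' (MvPolynomial (Fin 0) R')
  have hπC : π₀.comp C₀ = RingHom.id R' := by
    apply RingHom.ext
    intro a
    exact (MvPolynomial.isEmptyAlgEquiv R' (Fin 0)).commutes a
  have hCπ : C₀.comp π₀ = RingHom.id (MvPolynomial (Fin 0) R') := by
    apply RingHom.ext
    intro p
    apply (MvPolynomial.isEmptyAlgEquiv R' (Fin 0)).injective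
    exact (MvPolynomial.isEmptyAlgEquiv R' (Fin 0)).commutes _
  let ψ' : MvPolynomial (Fin 0) R' →ₐ[R'] (R' ⊗[R] R') :=
    (Algebra.ofId R' (R' ⊗[R] R')).comp (MvPolynomial.isEmptyAlgEquiv R' (Fin 0)).toAlgHom
  have hψ'r : ψ'.toRingHom = inl.comp π₀ := by
    rw [hinl]
    rfl
  have hinl_surj : Function.Surjective inl := fun x =>
    ⟨μ x, RingHom.congr_fun hinl_μ x⟩
  have hψ' : Function.Surjective ψ' := by
    intro x
    obtain ⟨a, ha⟩ := hinl_surj x
    refine ⟨C₀ a, ?_⟩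
    have h1 : ψ' (C₀ a) = inl (π₀ (C₀ a)) := RingHom.congr_fun hψ'r (C₀ a)
    rw [h1, show π₀ (C₀ a) = a from RingHom.congr_fun hπC a, ha]
  haveI := hasLBaseChange (inr R R' R')
  haveI := hasLBaseChange C₀
  obtain ⟨Rψ', ⟨adj'⟩⟩ := exists_rightAdjoint ψ'.toRingHom
  obtain ⟨s⟩ := shriek_flat_bc_of_flat R R' R' n ψ hψ Rψ adj 0 ψ' hψ' Rψ' adj' K
  -- the left hand side
  obtain ⟨c1⟩ := nonempty_lbc_iso_restrictD_of_inverse (inr R R' R') μ hμ_inr hinr_μ
    (Dual2.shriekVia n Rψ K)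
  -- the right hand side
  obtain ⟨Rπ, ⟨adjπ⟩⟩ := exists_rightAdjoint π₀
  obtain ⟨Rl, ⟨adjl⟩⟩ := exists_rightAdjoint inl
  obtain ⟨c2⟩ := nonempty_rightAdjoint_comp_iso π₀ inl ψ'.toRingHom hψ'r Rπ adjπ Rl adjl Rψ' adj'
  obtain ⟨c3⟩ := nonempty_rightAdjoint_lbc_iso_of_inverse C₀ π₀ hπC hCπ Rπ adjπ
    ((DRing.LBaseChange (algebraMap R R')).obj K)
  obtain ⟨c4⟩ := nonempty_rightAdjoint_iso_restrictD_of_inverse inl μ hμ_inl hinl_μ Rl adjl
  let c5 : Dual2.shriekVia 0 Rψ' ((DRing.LBaseChange (algebraMap R R')).obj K) ≅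
      (DRing.restrictD μ).obj ((DRing.LBaseChange (algebraMap R R')).obj K) :=
    (shiftFunctorZero' (Dual.D (R' ⊗[R] R')) ((0 : ℕ) : ℤ) Nat.cast_zero).app _ ≪≫
      c2.app _ ≪≫ Rl.mapIso c3 ≪≫ c4.app _
  exact ⟨(restrictRestrictIso inl μ hμ_inl _).symm ≪≫
    (DRing.restrictD inl).mapIso (c1.symm ≪≫ s ≪≫ c5) ≪≫
    restrictRestrictIso inl μ hμ_inl _⟩

end Groth.Agent.Lib.Helper5.PfBC
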