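import Mathlib
import Groth.Agent.Lib.Helper5PfBCB
set_option backward.isDefEq.respectTransparency.types false

/-!
# Flat base change for `RHom_P(B, -)`, `B` perfect over `P`, `P' → B'` not necessarily surjective
(helper5)

Variants of the statements of `Helper5PfBCB` in which the surjectivity of `ψ' : P' → B'` is
replaced by: `B'` is generated as a `B`-module by the image of `P'` (true for cocartesian squares).

* `lam_surjective_of_span`.
* `nonempty_lbc_rightAdjoint_iso_of_perfect'`.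
-/

set_option autoImplicit false
set_option linter.style.haveILetI false
universe u
open CategoryTheory CategoryTheory.Limits TensorProduct
attribute [local instance] HasDerivedCategory.standard

namespace Groth.Agent.Lib.Helper5.PfBC

open DerivedCategory Pretriangulated Groth.Agent.Lib.Helper1.Extend Groth.Agent.Lib.Helper5.HomBC
  Groth.Agent.Lib.Helper5.DeltaRes Groth.Agent.Lib.Helper1.Restrict
  Groth.Agent.Lib.Helper5.HasLDer Groth.Agent.Lib.Helper5.Shrk Groth.Agent.Lib.Helper5.RelDual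
  Groth.Agent.Lib.Helper5.Coext Groth.Agent.Lib.Helper1.LDer Groth.Agent.Lib.Helper1.RelBC

section Core

variable {P B P' B' : Type u} [CommRing P] [CommRing B] [CommRing P'] [CommRing B']
  [Algebra P P'] [Module.Flat P P'] [Algebra B B'] [Module.Flat B B']
  (ψ : P →+* B) (ψ' : P' →+* B')
  (hsq : (algebraMap B B').comp ψ = ψ'.comp (algebraMap P P'))
  (τ : DRing.restrictD ψ ⋙ extD P P' ≅ extD B B' ⋙ DRing.restrictD ψ')
  (Rψ : Dual.D P ⥤ Dual.D B) (adj : DRing.restrictD ψ ⊣ Rψ)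


/-- `lam` is surjective as soon as `B'` is generated, as a `B`-module, by the image of `P'`. -/
lemma lam_surjective_of_span (hgen : ∀ b' : B', b' ∈ Submodule.span B (Set.range ψ'))
    (K : Dual.D B) (M : Dual.D P) : Function.Surjective (lam ψ ψ' hsq Rψ adj K M) := by
  have key : ∀ b' : B', b' ∈ Submodule.span B (Set.range ψ') → ∀ n : K ⟶ Rψ.obj M,
      ∃ x, lam ψ ψ' hsq Rψ adj K M x = b' ⊗ₜ[B] n := by
    intro b' hb'
    induction hb' using Submodule.span_induction with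
    | mem x hx =>
      obtain ⟨p', rfl⟩ := hx
      intro n
      exact ⟨p' ⊗ₜ[P] (adj.homEquiv K M).symm n, by rw [lam_tmul, Equiv.apply_symm_apply]⟩
    | zero =>
      intro n
      exact ⟨0, by rw [map_zero, TensorProduct.zero_tmul]⟩
    | add x y _ _ hx hy =>
      intro n
      obtain ⟨u, hu⟩ := hx n
      obtain ⟨v, hv⟩ := hy n
      exact ⟨u + v, by rw [map_add, hu, hv, TensorProduct.add_tmul]⟩
    | smul a x _ hx =>
      intro n
      obtain ⟨u, hu⟩ := hx (a • n)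
      exact ⟨u, by rw [TensorProduct.smul_tmul, hu]⟩
  intro y
  induction y using TensorProduct.induction_on with
  | zero => exact ⟨0, map_zero _⟩
  | tmul b' n => exact key b' (hgen b') n
  | add y y' hy hy' =>
    obtain ⟨x, rfl⟩ := hy
    obtain ⟨x', rfl⟩ := hy'
    exact ⟨x + x', map_add _ _ _⟩

include hsq in
/-- the key bijection, perfect case. -/
theorem theta_bijective_of_perfect' (K : Dual.D B)
    (hK : DRing.IsPerfect B K)
    (hK' : DRing.IsPerfect P ((DRing.restrictD ψ).obj K)) (M : Dual.D P)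
    (hl : Function.Surjective (lam ψ ψ' hsq Rψ adj K M)) :
    Function.Bijective (theta ψ ψ' τ Rψ adj K M) := by
  have hα := bc_bijective_of_perfect B' hK (Rψ.obj M)
  have hβ := bc_bijective_of_perfect P' hK' M
  constructor
  · intro f₁ f₂ h
    obtain ⟨y₁, rfl⟩ := hα.2 f₁
    obtain ⟨y₂, rfl⟩ := hα.2 f₂
    obtain ⟨x₁, rfl⟩ := hl y₁
    obtain ⟨x₂, rfl⟩ := hl y₂
    rw [theta_bc_lam, theta_bc_lam] at h
    rw [hβ.1 h]
  · intro g
    obtain ⟨x, rfl⟩ := hβ.2 g
    exact ⟨_, theta_bc_lam ψ ψ' hsq τ Rψ adj K M x⟩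

variable (Rψ' : Dual.D P' ⥤ Dual.D B') (adj' : DRing.restrictD ψ' ⊣ Rψ')

include hsq in
/-- the comparison map is an isomorphism on all objects when `B` is perfect over `P`. -/
theorem isIso_cmp_of_perfect'
    (hl : ∀ (K : Dual.D B) (M : Dual.D P), Function.Surjective (lam ψ ψ' hsq Rψ adj K M))
    (hperf : ∀ j : ℤ, DRing.IsPerfect P ((DRing.restrictD ψ).obj ((Dual.inD B B)⟦j⟧)))
    (M : Dual.D P) : IsIso (cmp ψ ψ' τ Rψ adj Rψ' adj' M) := by
  refine isIso_of_forall_bijective _ fun j => ?_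
  obtain ⟨K, hKdef⟩ : ∃ K : Dual.D B, K = (Dual.inD B B)⟦j⟧ := ⟨_, rfl⟩
  have hK : DRing.IsPerfect B K := by
    rw [hKdef]
    exact isPerfect_shift_self B j
  have hK' : DRing.IsPerfect P ((DRing.restrictD ψ).obj K) := by
    rw [hKdef]
    exact hperf j
  have hθ := theta_bijective_of_perfect' ψ ψ' hsq τ Rψ adj K hK hK' M (hl K M)
  refine ⟨(extD B B').obj K, (extD B B').mapIso (eqToIso hKdef) ≪≫ extDShiftSelfIso j, ?_⟩
  constructor
  · intro f₁ f₂ h
    have h' : f₁ ≫ cmp ψ ψ' τ Rψ adj Rψ' adj' M = f₂ ≫ cmp ψ ψ' τ Rψ adj Rψ' adj' M := h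
    apply hθ.1
    have h1 := congrArg (adj'.homEquiv _ _).symm h'
    rw [homEquiv_symm_comp_cmp, homEquiv_symm_comp_cmp] at h1
    unfold theta
    rw [h1]
  · intro h
    obtain ⟨f, hf⟩ := hθ.2 (τ.hom.app K ≫ (adj'.homEquiv _ _).symm h)
    refine ⟨f, ?_⟩
    show f ≫ cmp ψ ψ' τ Rψ adj Rψ' adj' M = h
    apply (adj'.homEquiv _ _).symm.injective
    rw [homEquiv_symm_comp_cmp]
    have hf' : τ.hom.app K ≫ ((DRing.restrictD ψ').map f ≫ τ.inv.app (Rψ.obj M) ≫
        (extD P P').map (adj.counit.app M)) = τ.hom.app K ≫ (adj'.homEquiv _ _).symm h := hf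
    exact (cancel_epi (τ.hom.app K)).1 hf'

include hsq τ adj adj' in
/-- flat base change for right adjoints of restriction (termwise form), perfect case. -/
theorem nonempty_extD_rightAdjoint_iso_of_perfect'
    (hl : ∀ (K : Dual.D B) (M : Dual.D P), Function.Surjective (lam ψ ψ' hsq Rψ adj K M))
    (hperf : ∀ j : ℤ, DRing.IsPerfect P ((DRing.restrictD ψ).obj ((Dual.inD B B)⟦j⟧)))
    (M : Dual.D P) :
    Nonempty ((extD B B').obj (Rψ.obj M) ≅ Rψ'.obj ((extD P P').obj M)) := by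
  haveI := isIso_cmp_of_perfect' ψ ψ' hsq τ Rψ adj Rψ' adj' hl hperf M
  exact ⟨asIso (cmp ψ ψ' τ Rψ adj Rψ' adj' M)⟩

end Core

section Wrapper

variable {P B P' B' : Type u} [CommRing P] [CommRing B] [CommRing P'] [CommRing B']

/-- flat base change for right adjoints of restriction of scalars, `B` perfect over `P`, all
objects of `D(P)`. -/
theorem nonempty_lbc_rightAdjoint_iso_of_perfect' (ψ : P →+* B) (β : P →+* P') (α : B →+* B')
    (ψ' : P' →+* B') (hsq : α.comp ψ = ψ'.comp β) (hβ : β.Flat) (hα : α.Flat)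
    (hbij : ∀ X : ModuleCat.{u} B, Function.Bijective (sqHom ψ β α ψ' hsq X).hom)
    (hgen : letI : Algebra B B' := α.toAlgebra
      ∀ b' : B', b' ∈ Submodule.span B (Set.range ψ'))
    (hperf : ∀ j : ℤ, DRing.IsPerfect P ((DRing.restrictD ψ).obj ((Dual.inD B B)⟦j⟧)))
    [DRing.HasLBaseChange β] [DRing.HasLBaseChange α]
    (Rψ : Dual.D P ⥤ Dual.D B) (adj : DRing.restrictD ψ ⊣ Rψ)
    (Rψ' : Dual.D P' ⥤ Dual.D B') (adj' : DRing.restrictD ψ' ⊣ Rψ')
    (M : Dual.D P) :
    Nonempty ((DRing.LBaseChange α).obj (Rψ.obj M) ≅ Rψ'.obj ((DRing.LBaseChange β).obj M)) := by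
  letI : Algebra P P' := β.toAlgebra
  letI : Algebra B B' := α.toAlgebra
  haveI : Module.Flat P P' := hβ
  haveI : Module.Flat B B' := hα
  let τ : DRing.restrictD ψ ⋙ extD P P' ≅ extD B B' ⋙ DRing.restrictD ψ' :=
    mapDNatIso (ModuleCat.restrictScalars.{u} ψ) (ext P P') (ext B B')
      (ModuleCat.restrictScalars.{u} ψ') (sqNatIso ψ β α ψ' hsq hbij)
  obtain ⟨c1⟩ := Groth.Agent.Lib.Helper5.LocD.lbc_iso_extD B' (Rψ.obj M)
  obtain ⟨c2⟩ := Groth.Agent.Lib.Helper5.LocD.lbc_iso_extD P' M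
  obtain ⟨c3⟩ := nonempty_extD_rightAdjoint_iso_of_perfect' ψ ψ' hsq τ Rψ adj Rψ' adj'
    (fun K M => lam_surjective_of_span ψ ψ' hsq Rψ adj hgen K M) hperf M
  exact ⟨c1 ≪≫ c3 ≪≫ Rψ'.mapIso c2.symm⟩

end Wrapper

end Groth.Agent.Lib.Helper5.PfBC
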