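import Mathlib

/-!
# A finite free algebra through which finitely many integral elements factor (helper5)

`exists_finite_free_algebra`: given integral elements `a_1, …, a_n` of an `R`-algebra `A`, there
is an `R`-algebra `B`, finite and free as an `R`-module, elements `b_i ∈ B` and an `R`-algebra map
`θ : B → A` with `θ b_i = a_i`.  (Adjoin roots of monic equations one at a time.)
-/

set_option autoImplicit false
universe u

namespace Groth.Agent.Lib.Helper5.PfBC

theorem exists_finite_free_algebra (R A : Type u) [CommRing R] [CommRing A] [Algebra R A] :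
    ∀ (n : ℕ) (a : Fin n → A), (∀ i, IsIntegral R (a i)) →
      ∃ (B : Type u) (_ : CommRing B) (_ : Algebra R B) (_ : Module.Finite R B)
        (_ : Module.Free R B) (b : Fin n → B) (θ : B →ₐ[R] A), ∀ i, θ (b i) = a i := by
  intro n
  induction n with
  | zero =>
    intro a _
    exact ⟨R, inferInstance, inferInstance, inferInstance, inferInstance, Fin.elim0,
      Algebra.ofId R A, fun i => i.elim0⟩
  | succ n ih =>
    intro a ha
    obtain ⟨B₀, _, _, _, _, b₀, θ₀, hθ₀⟩ := ih (fun i => a i.succ) (fun i => ha i.succ)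
    obtain ⟨f, hf, hfa⟩ := ha 0
    have hf' : (f.map (algebraMap R B₀)).Monic := hf.map _
    have h0 : (f.map (algebraMap R B₀)).eval₂ (θ₀ : B₀ →+* A) (a 0) = 0 := by
      rw [Polynomial.eval₂_map, θ₀.comp_algebraMap]
      exact hfa
    haveI := hf'.free_adjoinRoot
    haveI := hf'.finite_adjoinRoot
    haveI : Module.Finite R (AdjoinRoot (f.map (algebraMap R B₀))) := Module.Finite.trans B₀ _
    haveI : Module.Free R (AdjoinRoot (f.map (algebraMap R B₀))) := Module.Free.trans (S := B₀)
    refine ⟨AdjoinRoot (f.map (algebraMap R B₀)), inferInstance, inferInstance, inferInstance,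
      inferInstance,
      Fin.cons (AdjoinRoot.root (f.map (algebraMap R B₀)))
        (fun i => AdjoinRoot.of (f.map (algebraMap R B₀)) (b₀ i)),
      AdjoinRoot.liftAlgHom (f.map (algebraMap R B₀)) θ₀ (a 0) h0, ?_⟩
    intro i
    refine Fin.cases ?_ (fun j => ?_) i
    · rw [Fin.cons_zero, AdjoinRoot.liftAlgHom_root]
    · rw [Fin.cons_succ, AdjoinRoot.liftAlgHom_of]
      exact hθ₀ j

end Groth.Agent.Lib.Helper5.PfBC
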