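import Mathlib
import Groth.Agent.Lib.Helper5PfBCD
import Groth.Agent.Lib.Helper5PfBCE
import Groth.Prelude.Def_DualSh
set_option backward.isDefEq.respectTransparency.types false

/-!
# The upper shriek of a finite map is `RHom(A, -)` (helper5)

`shriek_finite_core`: let `ψ : R[x_1..x_n] → A` be an `R`-algebra map which factors as
`R[x] → B[x] → B → A` (`x_i ↦ b_i`) with `B` a finite projective `R`-algebra.  Then
`RHom_{R[x]}(A, K ⊗ R[x])[n] ≅ RHom_R(A, K)` for every `K ∈ D(R)`.

`shriek_finite`: the same whenever `A` is integral over `R` (such a `B` always exists).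
-/

set_option autoImplicit false
set_option linter.style.haveILetI false
universe u
open CategoryTheory CategoryTheory.Limits TensorProduct
attribute [local instance] HasDerivedCategory.standard

namespace Groth.Agent.Lib.Helper5.PfBC

open DerivedCategory Pretriangulated Groth.Agent.Lib.Helper1.Extend Groth.Agent.Lib.Helper5.HomBC
  Groth.Agent.Lib.Helper5.DeltaRes Groth.Agent.Lib.Helper1.Restrict
  Groth.Agent.Lib.Helper5.HasLDer Groth.Agent.Lib.Helper5.Shrk Groth.Agent.Lib.Helper5.RelDual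
  Groth.Agent.Lib.Helper5.Coext Groth.Agent.Lib.Helper1.LDer Groth.Agent.Lib.Helper1.RelBC

/-- a finite projective algebra, as a perfect resolution of itself. -/
noncomputable def perfResOfFiniteProjective (R B : Type u) [CommRing R] [CommRing B]
    [Algebra R B] [Module.Finite R B] [Module.Projective R B] : PerfRes R B where
  F := sgl (Bm R B)
  a := 0
  b := 0
  van := fun i hi =>
    HomologicalComplex.isZero_single_obj_X (ComplexShape.up ℤ) 0 (Bm R B) i (by omega)
  fp := by
    intro i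
    by_cases hi : i = 0
    · subst hi
      let e1 : ((sgl (Bm R B)).X 0) ≃ₗ[R] B :=
        (HomologicalComplex.singleObjXSelf (ComplexShape.up ℤ) 0 (Bm R B)).toLinearEquiv ≪≫ₗ
          Groth.Agent.Lib.Helper1.Extend.e₀ B
      exact ⟨Module.Finite.equiv e1.symm, Module.Projective.of_equiv e1.symm⟩
    · have hz : IsZero ((sgl (Bm R B)).X i) :=
        HomologicalComplex.isZero_single_obj_X (ComplexShape.up ℤ) 0 (Bm R B) i hi
      haveI : Subsingleton ((sgl (Bm R B)).X i) := ModuleCat.subsingleton_of_isZero hz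
      exact ⟨inferInstance, inferInstance⟩
  aF := 𝟙 _
  qi := inferInstance

/-- a generation criterion in the form needed by `nonempty_lbc_rightAdjoint_iso_of_perfect'`. -/
lemma mem_span_range_of_closure {B P' B' : Type u} [CommRing B] [CommRing P'] [CommRing B']
    (α : B →+* B') (ψ' : P' →+* B')
    (hS : ∀ b' : B', b' ∈ AddSubgroup.closure {x : B' | ∃ c p, x = α c * ψ' p}) :
    letI : Algebra B B' := α.toAlgebra
    ∀ b' : B', b' ∈ Submodule.span B (Set.range ψ') := by
  letI : Algebra B B' := α.toAlgebra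
  intro b'
  refine AddSubgroup.closure_induction
    (p := fun x _ => x ∈ Submodule.span B (Set.range ψ')) ?_ ?_ ?_ ?_ (hS b')
  · rintro x ⟨c, p, rfl⟩
    exact Submodule.smul_mem _ c (Submodule.subset_span ⟨p, rfl⟩)
  · exact Submodule.zero_mem _
  · intro x y _ _ hx hy
    exact Submodule.add_mem _ hx hy
  · intro x _ hx
    exact Submodule.neg_mem _ hx

section Main

attribute [local instance] MvPolynomial.algebraMvPolynomial

theorem shriek_finite_core (R A : Type u) [CommRing R] [CommRing A] [Algebra R A] (n : ℕ)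
    (ψ : MvPolynomial (Fin n) R →ₐ[R] A)
    [DRing.HasLBaseChange (algebraMap R (MvPolynomial (Fin n) R))]
    (Rψ : Dual.D (MvPolynomial (Fin n) R) ⥤ Dual.D A) (adj : DRing.restrictD ψ.toRingHom ⊣ Rψ)
    (B : Type u) [CommRing B] [Algebra R B] [Module.Finite R B] [Module.Projective R B]
    (b : Fin n → B) (θ : B →ₐ[R] A) (hθ : ∀ i, θ (b i) = ψ (MvPolynomial.X i))
    (R' : Dual.D R ⥤ Dual.D A) (adjR : DRing.restrictD (algebraMap R A) ⊣ R') (K : Dual.D R) :
    Nonempty (Dual2.shriekVia n Rψ K ≅ R'.obj K) := by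
  classical
  let π : MvPolynomial (Fin n) B →ₐ[B] B := MvPolynomial.aeval b
  have hfac : ψ.toRingHom = (θ.toRingHom.comp π.toRingHom).comp
      (algebraMap (MvPolynomial (Fin n) R) (MvPolynomial (Fin n) B)) := by
    apply MvPolynomial.ringHom_ext
    · intro r
      show ψ (MvPolynomial.C r) =
        θ (MvPolynomial.aeval b (MvPolynomial.map (algebraMap R B) (MvPolynomial.C r)))
      rw [MvPolynomial.map_C, MvPolynomial.aeval_C]
      have h1 : ψ (MvPolynomial.C r) = algebraMap R A r := ψ.commutes r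
      rw [h1]
      exact (θ.commutes r).symm
    · intro i
      show ψ (MvPolynomial.X i) =
        θ (MvPolynomial.aeval b (MvPolynomial.map (algebraMap R B) (MvPolynomial.X i)))
      rw [MvPolynomial.map_X, MvPolynomial.aeval_X, hθ]
  haveI := hasLBaseChange (algebraMap B (MvPolynomial (Fin n) B))
  obtain ⟨Rj, ⟨adjj⟩⟩ := exists_rightAdjoint
    (algebraMap (MvPolynomial (Fin n) R) (MvPolynomial (Fin n) B))
  obtain ⟨Rχ, ⟨adjχ⟩⟩ := exists_rightAdjoint (θ.toRingHom.comp π.toRingHom)
  obtain ⟨Rπ, ⟨adjπ⟩⟩ := exists_rightAdjoint π.toRingHom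
  obtain ⟨Rθ, ⟨adjθ⟩⟩ := exists_rightAdjoint θ.toRingHom
  obtain ⟨Rφ, ⟨adjφ⟩⟩ := exists_rightAdjoint (algebraMap R B)
  obtain ⟨c2a⟩ := nonempty_rightAdjoint_comp_iso
    (algebraMap (MvPolynomial (Fin n) R) (MvPolynomial (Fin n) B))
    (θ.toRingHom.comp π.toRingHom) ψ.toRingHom hfac Rj adjj Rχ adjχ Rψ adj
  obtain ⟨c2b⟩ := nonempty_rightAdjoint_comp_iso π.toRingHom θ.toRingHom
    (θ.toRingHom.comp π.toRingHom) rfl Rπ adjπ Rθ adjθ Rχ adjχ
  obtain ⟨c2c⟩ := nonempty_rightAdjoint_comp_iso (algebraMap R B) θ.toRingHom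
    (algebraMap R A) θ.comp_algebraMap.symm Rφ adjφ Rθ adjθ R' adjR
  have hperf : ∀ j : ℤ, DRing.IsPerfect R
      ((DRing.restrictD (algebraMap R B)).obj ((Dual.inD B B)⟦j⟧)) :=
    fun j => isPerfect_restrictD_shift_self (perfResOfFiniteProjective R B) j
  have s2' : Nonempty ((DRing.LBaseChange (algebraMap B (MvPolynomial (Fin n) B))).obj
      (Rφ.obj K) ≅
      Rj.obj ((DRing.LBaseChange (algebraMap R (MvPolynomial (Fin n) R))).obj K)) := by
    refine nonempty_lbc_rightAdjoint_iso_of_perfect' (algebraMap R B)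
      (algebraMap R (MvPolynomial (Fin n) R)) (algebraMap B (MvPolynomial (Fin n) B))
      (algebraMap (MvPolynomial (Fin n) R) (MvPolynomial (Fin n) B))
      (algebraMap_sq R (MvPolynomial (Fin n) R) B (MvPolynomial (Fin n) B))
      (RingHom.flat_algebraMap_iff.2 inferInstance) (RingHom.flat_algebraMap_iff.2 inferInstance)
      (sqHom_bijective_of_isPushout R (MvPolynomial (Fin n) R) B (MvPolynomial (Fin n) B))
      (mem_span_range_of_closure (algebraMap B (MvPolynomial (Fin n) B))
        (algebraMap (MvPolynomial (Fin n) R) (MvPolynomial (Fin n) B)) ?_) hperf Rφ adjφ Rj adjj K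
    intro p
    induction p using MvPolynomial.induction_on' with
    | monomial μ c =>
      refine AddSubgroup.subset_closure ⟨c, MvPolynomial.monomial μ 1, ?_⟩
      show MvPolynomial.monomial μ c = MvPolynomial.C c *
          (MvPolynomial.map (algebraMap R B) (MvPolynomial.monomial μ (1 : R)))
      rw [MvPolynomial.map_monomial, map_one, MvPolynomial.C_mul_monomial, mul_one]
    | add p q hp hq => exact AddSubgroup.add_mem _ hp hq
  obtain ⟨s2⟩ := s2'
  obtain ⟨c3⟩ := kp_main n B (MvPolynomial (Fin n) B) AlgEquiv.refl π Rπ adjπ (Rφ.obj K)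
  letI : Rθ.CommShift ℤ := adjθ.rightAdjointCommShift ℤ
  let c : Rψ.obj ((DRing.LBaseChange (algebraMap R (MvPolynomial (Fin n) R))).obj K) ≅
      (R'.obj K)⟦-(n : ℤ)⟧ :=
    c2a.app _ ≪≫ c2b.app _ ≪≫ Rθ.mapIso (Rπ.mapIso s2.symm) ≪≫ Rθ.mapIso c3 ≪≫
      (Rθ.commShiftIso (-(n : ℤ))).app (Rφ.obj K) ≪≫
      (shiftFunctor (Dual.D A) (-(n : ℤ))).mapIso (c2c.app K).symm
  exact ⟨(shiftFunctor (Dual.D A) (n : ℤ)).mapIso c ≪≫
    (shiftFunctorCompIsoId (Dual.D A) (-(n : ℤ)) (n : ℤ) (by omega)).app (R'.obj K)⟩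

/-- the upper shriek of an integral (e.g. finite) ring map is `RHom(A, -)`. -/
theorem shriek_finite (R A : Type u) [CommRing R] [CommRing A] [Algebra R A]
    [Algebra.IsIntegral R A] (n : ℕ) (ψ : MvPolynomial (Fin n) R →ₐ[R] A)
    [DRing.HasLBaseChange (algebraMap R (MvPolynomial (Fin n) R))]
    (Rψ : Dual.D (MvPolynomial (Fin n) R) ⥤ Dual.D A) (adj : DRing.restrictD ψ.toRingHom ⊣ Rψ)
    (R' : Dual.D R ⥤ Dual.D A) (adjR : DRing.restrictD (algebraMap R A) ⊣ R') (K : Dual.D R) :
    Nonempty (Dual2.shriekVia n Rψ K ≅ R'.obj K) := by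
  obtain ⟨B, _, _, _, _, b, θ, hθ⟩ := exists_finite_free_algebra R A n
    (fun i => ψ (MvPolynomial.X i)) (fun i => Algebra.IsIntegral.isIntegral _)
  exact shriek_finite_core R A n ψ Rψ adj B b θ hθ R' adjR K

end Main

end Groth.Agent.Lib.Helper5.PfBC
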