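import Mathlib
import Groth.Agent.Lib.Helper5CoextB
import Groth.Agent.Lib.Helper5LocDC
set_option backward.isDefEq.respectTransparency.types false

/-!
# `H^0(RHom_A(B, M)) = Hom_A(B, M)` (helper5)

`nonempty_homology_RG_single_iso`: for a ring map `A → B` and an `A`-module `M`, the zeroth
cohomology of `RG (M[0])` (`RG` the right adjoint of restriction of scalars `D(B) ⥤ D(A)`) is the
coextension of scalars `Hom_A(B, M)`, as `B`-modules.  Proof: take an injective resolution `L` of
`M` in degrees `≥ 0`; then `RG (M[0]) = Hom_A(B, L)` and coextension of scalars preserves kernels.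
-/

set_option autoImplicit false
set_option linter.style.haveILetI false
universe u
open CategoryTheory CategoryTheory.Limits
attribute [local instance] HasDerivedCategory.standard

namespace Groth.Agent.Lib.Helper5.PfBC

open DerivedCategory Groth.Agent.Lib.Helper5.Coext Groth.Agent.Lib.Helper5.LocD

variable (A B : Type u) [CommRing A] [CommRing B] [Algebra A B]

theorem nonempty_homology_RG_single_iso (M : ModuleCat.{u} A) :
    Nonempty ((homologyFunctor (ModuleCat.{u} B) 0).obj
      ((RG A B).obj ((DerivedCategory.singleFunctor (ModuleCat.{u} A) 0).obj M)) ≅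
        (Gc A B).obj M) := by
  obtain ⟨K, hKdef⟩ : ∃ K : CochainComplex (ModuleCat.{u} A) ℤ,
      K = (CochainComplex.singleFunctor (ModuleCat.{u} A) 0).obj M := ⟨_, rfl⟩
  haveI : K.IsStrictlyGE 0 := by
    rw [hKdef]
    infer_instance
  obtain ⟨L, i, hi, hL, hLge⟩ :=
    CochainComplex.Plus.modelCategoryQuillen.exists_quasiIso_injective K 0
  haveI := hLge
  haveI : QuasiIso i := hi
  have hz : ∀ j : ℤ, j < 0 → IsZero (L.X j) := fun j hj =>
    CochainComplex.isZero_of_isStrictlyGE L 0 j hj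
  haveI : L.IsKInjective := isKInjective_of_bddBelow L 0 hz (fun j => by
    haveI := hL j
    exact Module.injective_module_of_injective_object A (L.X j))
  haveI : IsIso (Q.map i) := (DerivedCategory.isIso_Q_map_iff_quasiIso (φ := i)).2 hi
  obtain ⟨GcL, hGcL⟩ : ∃ GcL : CochainComplex (ModuleCat.{u} B) ℤ,
      GcL = ((Gc A B).mapHomologicalComplex (ComplexShape.up ℤ)).obj L := ⟨_, rfl⟩
  -- the object
  let e0 : (DerivedCategory.singleFunctor (ModuleCat.{u} A) 0).obj M ≅ Q.obj K :=
    (singleFunctorIsoCompQ (ModuleCat.{u} A) 0).app M ≪≫ Q.mapIso (eqToIso hKdef.symm)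
  let e1 : (RG A B).obj ((DerivedCategory.singleFunctor (ModuleCat.{u} A) 0).obj M) ≅
      Q.obj GcL :=
    (RG A B).mapIso (e0 ≪≫ asIso (Q.map i)) ≪≫ (isoRG B L).symm ≪≫ Q.mapIso (eqToIso hGcL.symm)
  let e2 : (homologyFunctor (ModuleCat.{u} B) 0).obj (Q.obj GcL) ≅ GcL.homology 0 :=
    (homologyFunctorFactors (ModuleCat.{u} B) 0).app GcL
  -- homology is cycles in degree zero
  have hGcLz : IsZero (GcL.X (-1)) := by
    rw [hGcL]
    exact (Gc A B).map_isZero (hz (-1) (by omega))
  let e3 : GcL.cycles 0 ≅ GcL.homology 0 :=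
    GcL.isoHomologyπ (-1) 0 (by simp) (hGcLz.eq_of_src _ _)
  let e4 : L.cycles 0 ≅ L.homology 0 :=
    L.isoHomologyπ (-1) 0 (by simp) ((hz (-1) (by omega)).eq_of_src _ _)
  -- coextension of scalars preserves kernels
  haveI : PreservesLimitsOfSize.{0, 0} (Gc A B) := (adjFG A B).rightAdjoint_preservesLimits
  have hc : IsLimit (KernelFork.ofι (L.iCycles 0) (L.iCycles_d 0 1)) :=
    L.cyclesIsKernel 0 1 (by simp)
  have hc' : IsLimit ((KernelFork.ofι (L.iCycles 0) (L.iCycles_d 0 1)).map (Gc A B)) :=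
    KernelFork.mapIsLimit _ hc (Gc A B)
  have hc'' : IsLimit (KernelFork.ofι (GcL.iCycles 0) (GcL.iCycles_d 0 1)) :=
    GcL.cyclesIsKernel 0 1 (by simp)
  have e5' : Nonempty (GcL.cycles 0 ≅ (Gc A B).obj (L.cycles 0)) := by
    subst hGcL
    exact ⟨IsLimit.conePointUniqueUpToIso hc'' hc'⟩
  obtain ⟨e5⟩ := e5'
  -- the homology of the resolution
  let e6 : L.homology 0 ≅ M :=
    (isoOfQuasiIsoAt i 0).symm ≪≫
      (HomologicalComplex.homologyFunctor _ _ 0).mapIso (eqToIso hKdef) ≪≫
      HomologicalComplex.singleObjHomologySelfIso (ComplexShape.up ℤ) 0 M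
  exact ⟨(homologyFunctor (ModuleCat.{u} B) 0).mapIso e1 ≪≫ e2 ≪≫ e3.symm ≪≫ e5 ≪≫
    (Gc A B).mapIso (e4 ≪≫ e6)⟩

end Groth.Agent.Lib.Helper5.PfBC
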