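import Mathlib
import Groth.Agent.Lib.Helper5PfBCC
import Groth.Agent.Lib.Helper5PfBCF
import Groth.Agent.Lib.Helper5PfBCG
import Groth.Prelude.Def_Disc
set_option backward.isDefEq.respectTransparency.types false

/-!
# `H^0` of the relative dualizing complex of a quasi-finite map (helper5)

`quasiFinite_H0`: for `A → B' → B` with `A → B'` finite and `B' → B` a flat epimorphism of finite
type (e.g. inducing an open immersion of spectra), `H^0(φ^!(A)) ≅ B ⊗_{B'} Hom_A(B', A)`.
-/

set_option autoImplicit false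
set_option linter.style.haveILetI false
universe u
open CategoryTheory CategoryTheory.Limits TensorProduct
attribute [local instance] HasDerivedCategory.standard

namespace Groth.Agent.Lib.Helper5.PfBC

open DerivedCategory Groth.Agent.Lib.Helper1.Extend Groth.Agent.Lib.Helper5.HasLDer
  Groth.Agent.Lib.Helper5.Shrk Groth.Agent.Lib.Helper5.Coext

/-- coextension of scalars of the base ring is the module `Hom_A(B, A)` of `Disc.Omega`. -/
noncomputable def omegaEquiv (A B : Type u) [CommRing A] [CommRing B] [Algebra A B] :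
    ((Gc A B).obj (ModuleCat.of A A)) ≃ₗ[B] Disc.Omega A B :=
  (ModuleCat.CoextendScalars.equiv (algebraMap A B) (ModuleCat.of A A)) ≪≫ₗ
  { toFun := fun g => ⟨g.comp (e₀ (A := A) B).symm.toLinearMap⟩
    invFun := fun φ => φ.toLinearMap.comp (e₀ (A := A) B).toLinearMap
    left_inv := fun g => LinearMap.ext fun x => by
      show g ((e₀ (A := A) B).symm ((e₀ (A := A) B) x)) = g x
      rw [LinearEquiv.symm_apply_apply]
    right_inv := fun φ => Disc.Omega.ext (LinearMap.ext fun x => by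
      show φ.toLinearMap ((e₀ (A := A) B) ((e₀ (A := A) B).symm x)) = φ.toLinearMap x
      rw [LinearEquiv.apply_symm_apply])
    map_add' := fun g g' => Disc.Omega.ext (LinearMap.ext fun x => rfl)
    map_smul' := fun b g => Disc.Omega.ext (LinearMap.ext fun x => by
      have h : (x * b : B) = b * x := mul_comm x b
      exact congrArg (fun t : B => g t) h) }

theorem quasiFinite_H0 (A B B' : Type u) [CommRing A] [CommRing B] [CommRing B']
    [IsNoetherianRing A] [Algebra A B] [Algebra A B'] [Algebra B' B] [IsScalarTower A B' B]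
    [Module.Finite A B'] [Module.Flat B' B] [Algebra.IsEpi B' B]
    (n : ℕ) (ψ : MvPolynomial (Fin n) A →ₐ[A] B) (hψ : Function.Surjective ψ)
    [DRing.HasLBaseChange (algebraMap A (MvPolynomial (Fin n) A))]
    (Rψ : Dual.D (MvPolynomial (Fin n) A) ⥤ Dual.D B) (adj : DRing.restrictD ψ.toRingHom ⊣ Rψ) :
    Nonempty (Dual.HD B (Dual2.shriekVia n Rψ (Dual.inD A A)) 0 ≃ₗ[B]
      (B ⊗[B'] Disc.Omega A B')) := by
  classical
  haveI : IsNoetherianRing B' := Algebra.FiniteType.isNoetherianRing A B'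
  obtain ⟨k, ψ₁, hψ₁⟩ := Algebra.FiniteType.iff_quotient_mvPolynomial''.1
    (inferInstance : Algebra.FiniteType A B')
  haveI : Algebra.FiniteType A B := Algebra.FiniteType.of_surjective ψ hψ
  haveI : Algebra.FiniteType B' B := Algebra.FiniteType.of_restrictScalars_finiteType A B' B
  obtain ⟨m, χ, hχ⟩ := Algebra.FiniteType.iff_quotient_mvPolynomial''.1
    (inferInstance : Algebra.FiniteType B' B)
  haveI := hasLBaseChange (algebraMap A (MvPolynomial (Fin k) A))
  haveI := hasLBaseChange (algebraMap B' (MvPolynomial (Fin m) B'))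
  haveI := hasLBaseChange (algebraMap B' B)
  obtain ⟨Rψ₁, ⟨adj₁⟩⟩ := exists_rightAdjoint ψ₁.toRingHom
  obtain ⟨Rχ, ⟨adjχ⟩⟩ := exists_rightAdjoint χ.toRingHom
  have hK : ∀ i : ℤ, i < 0 → Subsingleton (Dual.HD A (Dual.inD A A) i) := by
    intro j hj
    have h0 : (Dual.inD A A).IsGE 0 := inferInstance
    exact ModuleCat.subsingleton_of_isZero ((DerivedCategory.isGE_iff _ 0).1 h0 j hj)
  obtain ⟨c1⟩ := shriek_comp A B' B k ψ₁ hψ₁ Rψ₁ adj₁ m χ hχ Rχ adjχ n ψ hψ Rψ adj
    (Dual.inD A A) 0 hK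
  obtain ⟨c2⟩ := shriek_finite A B' k ψ₁ Rψ₁ adj₁ (RG A B') (adjD A B') (Dual.inD A A)
  obtain ⟨c3⟩ := shriek_flat_epi B' B m χ hχ Rχ adjχ (Dual2.shriekVia k Rψ₁ (Dual.inD A A))
  obtain ⟨c4⟩ := Groth.Agent.Lib.Helper5.LocD.lbc_iso_extD B ((RG A B').obj (Dual.inD A A))
  obtain ⟨c5⟩ := nonempty_homology_RG_single_iso A B' (ModuleCat.of A A)
  let c : Dual2.shriekVia n Rψ (Dual.inD A A) ≅
      (extD B' B).obj ((RG A B').obj (Dual.inD A A)) :=
    c1 ≪≫ c3 ≪≫ (DRing.LBaseChange (algebraMap B' B)).mapIso c2 ≪≫ c4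
  let h1 : (homologyFunctor (ModuleCat.{u} B) 0).obj (Dual2.shriekVia n Rψ (Dual.inD A A)) ≅
      (ext B' B).obj ((Gc A B').obj (ModuleCat.of A A)) :=
    (homologyFunctor (ModuleCat.{u} B) 0).mapIso c ≪≫ homologyMapDIso (ext B' B) _ 0 ≪≫
      (ext B' B).mapIso c5
  let l1 : ((ext B' B).obj ((Gc A B').obj (ModuleCat.of A A))) ≃ₗ[B]
      B ⊗[B'] ((Gc A B').obj (ModuleCat.of A A)) :=
    extEquiv (A := B') (B := B) ((Gc A B').obj (ModuleCat.of A A))
  exact ⟨h1.toLinearEquiv ≪≫ₗ l1 ≪≫ₗ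
    TensorProduct.AlgebraTensorModule.congr (LinearEquiv.refl B B) (omegaEquiv A B')⟩

end Groth.Agent.Lib.Helper5.PfBC
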