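import Mathlib
import Groth.Agent.Lib.Helper5PfBCH
set_option backward.isDefEq.respectTransparency.types false

/-!
# Lower bounds for the relative dualizing complex (helper5)

* `isGE_shriek_of_factor`: if `R → C` factors as `R → R[t_1, …, t_d] → B' → C` with
  `R[t_1, …, t_d] → B'` finite and `B' → C` a flat finite type ring epimorphism, then `φ^!(R)`
  (for `φ : R → C`) has no cohomology below degree `-d`.
* `subsingleton_tensor_HD`: for a flat finite type ring epimorphism `A → C` over `R`, if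
  `ω_{C/R}` has no cohomology below degree `c`, then `C ⊗_A H^i(ω_{A/R}) = 0` for `i < c`.
-/

set_option autoImplicit false
set_option linter.style.haveILetI false
universe u
open CategoryTheory CategoryTheory.Limits TensorProduct
attribute [local instance] HasDerivedCategory.standard

namespace Groth.Agent.Lib.Helper5.FibVan

open DerivedCategory Groth.Agent.Lib.Helper1.Extend Groth.Agent.Lib.Helper5.HasLDer
  Groth.Agent.Lib.Helper5.Shrk Groth.Agent.Lib.Helper5.Coext Groth.Agent.Lib.Helper5.PfBC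

theorem subsingleton_HD_inD (R : Type u) [CommRing R] :
    ∀ i : ℤ, i < 0 → Subsingleton (Dual.HD R (Dual.inD R R) i) := by
  intro j hj
  have h0 : (Dual.inD R R).IsGE 0 := inferInstance
  exact ModuleCat.subsingleton_of_isZero ((DerivedCategory.isGE_iff _ 0).1 h0 j hj)

/-- lower bound for the upper shriek of a map factoring through a polynomial ring, a finite map
and a flat epimorphism of finite type. -/
theorem isGE_shriek_of_factor (R B' C : Type u) [CommRing R] [CommRing B'] [CommRing C]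
    [IsNoetherianRing R] (d : ℕ) [Algebra (MvPolynomial (Fin d) R) B']
    [Module.Finite (MvPolynomial (Fin d) R) B'] [Algebra B' C] [Algebra R C]
    [Algebra (MvPolynomial (Fin d) R) C] [IsScalarTower R (MvPolynomial (Fin d) R) C]
    [IsScalarTower (MvPolynomial (Fin d) R) B' C]
    [Module.Flat B' C] [Algebra.IsEpi B' C] [Algebra.FiniteType B' C]
    (k : ℕ) (θ : MvPolynomial (Fin k) R →ₐ[R] C) (hθ : Function.Surjective θ)
    [DRing.HasLBaseChange (algebraMap R (MvPolynomial (Fin k) R))]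
    (Rθ : Dual.D (MvPolynomial (Fin k) R) ⥤ Dual.D C)
    (adjθ : DRing.restrictD θ.toRingHom ⊣ Rθ) :
    (Dual2.shriekVia k Rθ (Dual.inD R R)).IsGE (-(d : ℤ)) := by
  classical
  haveI : IsNoetherianRing B' := Algebra.FiniteType.isNoetherianRing (MvPolynomial (Fin d) R) B'
  haveI : Algebra.FiniteType (MvPolynomial (Fin d) R) C :=
    Algebra.FiniteType.trans (inferInstance : Algebra.FiniteType (MvPolynomial (Fin d) R) B')
      inferInstance
  obtain ⟨m2, χ2, hχ2⟩ := Algebra.FiniteType.iff_quotient_mvPolynomial''.1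
    (inferInstance : Algebra.FiniteType (MvPolynomial (Fin d) R) C)
  obtain ⟨k3, ψ3, hψ3⟩ := Algebra.FiniteType.iff_quotient_mvPolynomial''.1
    (inferInstance : Algebra.FiniteType (MvPolynomial (Fin d) R) B')
  obtain ⟨m3, χ3, hχ3⟩ := Algebra.FiniteType.iff_quotient_mvPolynomial''.1
    (inferInstance : Algebra.FiniteType B' C)
  haveI := hasLBaseChange (algebraMap R (MvPolynomial (Fin d) R))
  haveI := hasLBaseChange (algebraMap (MvPolynomial (Fin d) R)
    (MvPolynomial (Fin m2) (MvPolynomial (Fin d) R)))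
  haveI := hasLBaseChange (algebraMap (MvPolynomial (Fin d) R)
    (MvPolynomial (Fin k3) (MvPolynomial (Fin d) R)))
  haveI := hasLBaseChange (algebraMap B' (MvPolynomial (Fin m3) B'))
  haveI := hasLBaseChange (algebraMap B' C)
  obtain ⟨Rψ2, ⟨adj2⟩⟩ := exists_rightAdjoint
    (AlgHom.id R (MvPolynomial (Fin d) R)).toRingHom
  obtain ⟨Rχ2, ⟨adjχ2⟩⟩ := exists_rightAdjoint χ2.toRingHom
  obtain ⟨Rψ3, ⟨adj3⟩⟩ := exists_rightAdjoint ψ3.toRingHom
  obtain ⟨Rχ3, ⟨adjχ3⟩⟩ := exists_rightAdjoint χ3.toRingHom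
  have hK := subsingleton_HD_inD R
  obtain ⟨c1⟩ := shriek_comp R (MvPolynomial (Fin d) R) C d (AlgHom.id R (MvPolynomial (Fin d) R))
    Function.surjective_id Rψ2 adj2 m2 χ2 hχ2 Rχ2 adjχ2 k θ hθ Rθ adjθ (Dual.inD R R) 0 hK
  have hK2ge : (Dual2.shriekVia d Rψ2 (Dual.inD R R)).IsGE (-(d : ℤ)) := by
    haveI h1 : ((DRing.LBaseChange (algebraMap R (MvPolynomial (Fin d) R))).obj
        (Dual.inD R R)).IsGE 0 := isGE_lbc_of_flat _ 0 hK
    haveI h2 : (Rψ2.obj ((DRing.LBaseChange (algebraMap R (MvPolynomial (Fin d) R))).obj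
        (Dual.inD R R))).IsGE 0 := isGE_rightAdjoint _ Rψ2 adj2 _ 0
    exact DerivedCategory.TStructure.t.isGE_shift _ 0 (d : ℤ) (-(d : ℤ)) (by omega)
  have hK2' : ∀ i : ℤ, i < -(d : ℤ) → Subsingleton (Dual.HD (MvPolynomial (Fin d) R)
      (Dual2.shriekVia d Rψ2 (Dual.inD R R)) i) := fun i hi =>
    ModuleCat.subsingleton_of_isZero ((DerivedCategory.isGE_iff _ _).1 hK2ge i hi)
  obtain ⟨c2⟩ := shriek_comp (MvPolynomial (Fin d) R) B' C k3 ψ3 hψ3 Rψ3 adj3 m3 χ3 hχ3 Rχ3 adjχ3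
    m2 χ2 hχ2 Rχ2 adjχ2 (Dual2.shriekVia d Rψ2 (Dual.inD R R)) (-(d : ℤ)) hK2'
  obtain ⟨c3⟩ := shriek_finite (MvPolynomial (Fin d) R) B' k3 ψ3 Rψ3 adj3
    (RG (MvPolynomial (Fin d) R) B') (adjD (MvPolynomial (Fin d) R) B')
    (Dual2.shriekVia d Rψ2 (Dual.inD R R))
  obtain ⟨c4⟩ := shriek_flat_epi B' C m3 χ3 hχ3 Rχ3 adjχ3
    (Dual2.shriekVia k3 Rψ3 (Dual2.shriekVia d Rψ2 (Dual.inD R R)))
  haveI h3 : ((RG (MvPolynomial (Fin d) R) B').obj
      (Dual2.shriekVia d Rψ2 (Dual.inD R R))).IsGE (-(d : ℤ)) :=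
    isGE_rightAdjoint _ (RG (MvPolynomial (Fin d) R) B') (adjD (MvPolynomial (Fin d) R) B') _ _
  have h4 : (Dual2.shriekVia k3 Rψ3 (Dual2.shriekVia d Rψ2 (Dual.inD R R))).IsGE (-(d : ℤ)) :=
    DerivedCategory.TStructure.t.isGE_of_iso c3.symm _
  haveI h5 : ((DRing.LBaseChange (algebraMap B' C)).obj
      (Dual2.shriekVia k3 Rψ3 (Dual2.shriekVia d Rψ2 (Dual.inD R R)))).IsGE (-(d : ℤ)) :=
    isGE_lbc_of_flat _ _ (fun i hi =>
      ModuleCat.subsingleton_of_isZero ((DerivedCategory.isGE_iff _ _).1 h4 i hi))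
  exact DerivedCategory.TStructure.t.isGE_of_iso (c1 ≪≫ c2 ≪≫ c4).symm _

/-- the cohomology of the relative dualizing complex vanishes after a flat epimorphic base
change in the degrees where the relative dualizing complex of the target vanishes. -/
theorem subsingleton_tensor_HD (R A C : Type u) [CommRing R] [CommRing A] [CommRing C]
    [IsNoetherianRing R] [IsNoetherianRing A] [Algebra R A] [Algebra A C] [Algebra R C]
    [IsScalarTower R A C] [Module.Flat A C] [Algebra.IsEpi A C] [Algebra.FiniteType A C]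
    (n : ℕ) (ψ : MvPolynomial (Fin n) R →ₐ[R] A) (hψ : Function.Surjective ψ)
    [DRing.HasLBaseChange (algebraMap R (MvPolynomial (Fin n) R))]
    (Rψ : Dual.D (MvPolynomial (Fin n) R) ⥤ Dual.D A) (adj : DRing.restrictD ψ.toRingHom ⊣ Rψ)
    (k : ℕ) (θ : MvPolynomial (Fin k) R →ₐ[R] C) (hθ : Function.Surjective θ)
    [DRing.HasLBaseChange (algebraMap R (MvPolynomial (Fin k) R))]
    (Rθ : Dual.D (MvPolynomial (Fin k) R) ⥤ Dual.D C)
    (adjθ : DRing.restrictD θ.toRingHom ⊣ Rθ)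
    (c : ℤ) (hc : (Dual2.shriekVia k Rθ (Dual.inD R R)).IsGE c) (i : ℤ) (hi : i < c) :
    Subsingleton (C ⊗[A] Dual.HD A (Dual2.shriekVia n Rψ (Dual.inD R R)) i) := by
  classical
  obtain ⟨m, χ, hχ⟩ := Algebra.FiniteType.iff_quotient_mvPolynomial''.1
    (inferInstance : Algebra.FiniteType A C)
  haveI := hasLBaseChange (algebraMap A (MvPolynomial (Fin m) A))
  haveI := hasLBaseChange (algebraMap A C)
  obtain ⟨Rχ, ⟨adjχ⟩⟩ := exists_rightAdjoint χ.toRingHom
  have hK := subsingleton_HD_inD R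
  obtain ⟨c1⟩ := shriek_comp R A C n ψ hψ Rψ adj m χ hχ Rχ adjχ k θ hθ Rθ adjθ
    (Dual.inD R R) 0 hK
  obtain ⟨c3⟩ := shriek_flat_epi A C m χ hχ Rχ adjχ (Dual2.shriekVia n Rψ (Dual.inD R R))
  obtain ⟨c4⟩ := Groth.Agent.Lib.Helper5.LocD.lbc_iso_extD C
    (Dual2.shriekVia n Rψ (Dual.inD R R))
  let cc : Dual2.shriekVia k Rθ (Dual.inD R R) ≅
      (extD A C).obj (Dual2.shriekVia n Rψ (Dual.inD R R)) := c1 ≪≫ c3 ≪≫ c4
  let h1 : (homologyFunctor (ModuleCat.{u} C) i).obj (Dual2.shriekVia k Rθ (Dual.inD R R)) ≅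
      (ext A C).obj ((homologyFunctor (ModuleCat.{u} A) i).obj
        (Dual2.shriekVia n Rψ (Dual.inD R R))) :=
    (homologyFunctor (ModuleCat.{u} C) i).mapIso cc ≪≫ homologyMapDIso (ext A C) _ i
  let l1 : ((ext A C).obj ((homologyFunctor (ModuleCat.{u} A) i).obj
        (Dual2.shriekVia n Rψ (Dual.inD R R)))) ≃ₗ[C]
      C ⊗[A] ((homologyFunctor (ModuleCat.{u} A) i).obj
        (Dual2.shriekVia n Rψ (Dual.inD R R))) :=
    extEquiv (A := A) (B := C) ((homologyFunctor (ModuleCat.{u} A) i).obj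
        (Dual2.shriekVia n Rψ (Dual.inD R R)))
  have hz : IsZero ((homologyFunctor (ModuleCat.{u} C) i).obj
      (Dual2.shriekVia k Rθ (Dual.inD R R))) := (DerivedCategory.isGE_iff _ c).1 hc i hi
  haveI : Subsingleton ↑((homologyFunctor (ModuleCat.{u} C) i).obj
      (Dual2.shriekVia k Rθ (Dual.inD R R))) := ModuleCat.subsingleton_of_isZero hz
  exact (h1.toLinearEquiv ≪≫ₗ l1).symm.toEquiv.subsingleton

end Groth.Agent.Lib.Helper5.FibVan
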