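import Mathlib
import Groth.Agent.Lib.Helper4FibDimE

/-!
# Ring-theoretic glue for the fibre dimension bound on the relative dualizing complex (helper5)

* `isEpi_of_isLocalization`, `isEpi_trans`: localizations are ring epimorphisms; these compose.
* `nontrivial_tensor_of_localized`: a module with nonzero localization at a prime `q` stays nonzero
  after a flat base change `A → C` such that `q C ≠ C`.
* `exists_finite_flat_epi`: Zariski's main theorem, packaged: a finite type algebra `P → S`
  quasi-finite at a prime `q'` admits a finite `P`-algebra `B'` and a flat finite type ring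
  epimorphism `B' → C`, where `C` is also a flat finite type epimorphic `S`-algebra with
  `q' C ≠ C`.
* `exists_quasiFinite_of_fibreDimAt`: fibre dimension `d` at `q` gives `g ∉ q` and a quasi-finite
  finite type map `R[t_1, …, t_d] → A_g`.
-/

set_option autoImplicit false
set_option linter.style.haveILetI false
universe u
open CategoryTheory TensorProduct

namespace Groth.Agent.Lib.Helper5.FibVan

section Epi

/-- a localization map is an epimorphism of rings. -/
theorem isEpi_of_isLocalization {R S : Type u} [CommRing R] [CommRing S] [Algebra R S]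
    (M : Submonoid R) [IsLocalization M S] : Algebra.IsEpi R S := by
  rw [← CommRingCat.epi_iff_epi]
  refine ⟨fun {Z} g h hgh => ?_⟩
  apply CommRingCat.hom_ext
  apply IsLocalization.ringHom_ext M
  have := congrArg CommRingCat.Hom.hom hgh
  exact this

/-- epimorphisms of rings compose. -/
theorem isEpi_trans (A B C : Type u) [CommRing A] [CommRing B] [CommRing C] [Algebra A B]
    [Algebra B C] [Algebra A C] [IsScalarTower A B C] [Algebra.IsEpi A B] [Algebra.IsEpi B C] :
    Algebra.IsEpi A C := by
  rw [← CommRingCat.epi_iff_epi]
  haveI h1 : Epi (CommRingCat.ofHom (algebraMap A B)) := CommRingCat.epi_iff_epi.2 inferInstance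
  haveI h2 : Epi (CommRingCat.ofHom (algebraMap B C)) := CommRingCat.epi_iff_epi.2 inferInstance
  have h3 : CommRingCat.ofHom (algebraMap A C) =
      CommRingCat.ofHom (algebraMap A B) ≫ CommRingCat.ofHom (algebraMap B C) := by
    rw [IsScalarTower.algebraMap_eq A B C]
    rfl
  rw [h3]
  exact epi_comp _ _

end Epi

section Nontriv

/-- nonvanishing of a localization at a prime persists after a flat base change whose image
contains a point over the prime. -/
theorem nontrivial_tensor_of_localized {A C M : Type u} [CommRing A] [CommRing C] [Algebra A C]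
    [Module.Flat A C] [AddCommGroup M] [Module A M] (q : Ideal A) [q.IsPrime] (Q : Ideal C)
    (hQ : Q ≠ ⊤) (hqQ : q.map (algebraMap A C) ≤ Q)
    (h : Nontrivial (LocalizedModule q.primeCompl M)) : Nontrivial (C ⊗[A] M) := by
  classical
  by_contra hnt
  haveI hsub : Subsingleton (C ⊗[A] M) := not_nontrivial_iff_subsingleton.1 hnt
  have hex : ∃ m : M, ∀ a : A, a • m = 0 → a ∈ q := by
    by_contra hne
    push_neg at hne
    have hs : Subsingleton (LocalizedModule q.primeCompl M) := by
      have hz : ∀ z : LocalizedModule q.primeCompl M, z = 0 := by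
        intro z
        induction z using LocalizedModule.induction_on with
        | h m s =>
          obtain ⟨a, ha0, haq⟩ := hne m
          rw [← LocalizedModule.zero_mk s]
          refine LocalizedModule.mk_eq.2 ⟨⟨a, haq⟩, ?_⟩
          rw [smul_zero, smul_zero, smul_comm]
          show s • (a • m) = 0
          rw [ha0, smul_zero]
      exact ⟨fun x y => by rw [hz x, hz y]⟩
    exact not_subsingleton _ hs
  obtain ⟨m, hm⟩ := hex
  let f : A →ₗ[A] M := LinearMap.toSpanSingleton A M m
  have hex2 : Function.Exact (LinearMap.ker f).subtype f := LinearMap.exact_subtype_ker_map f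
  have hex3 : Function.Exact ((LinearMap.ker f).subtype.lTensor C) (f.lTensor C) :=
    Module.Flat.lTensor_exact C hex2
  have h0 : (f.lTensor C) ((1 : C) ⊗ₜ[A] (1 : A)) = 0 := Subsingleton.elim _ _
  obtain ⟨t, ht⟩ := (hex3 _).1 h0
  have hμ : ∀ t : C ⊗[A] (LinearMap.ker f),
      (TensorProduct.rid A C) (((LinearMap.ker f).subtype.lTensor C) t) ∈ Q := by
    intro t
    induction t using TensorProduct.induction_on with
    | zero => simp
    | tmul c a =>
      have ha : (a : A) ∈ q := hm a (by
        have h1 := a.2
        rw [LinearMap.mem_ker] at h1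
        exact h1)
      rw [LinearMap.lTensor_tmul, Submodule.subtype_apply, TensorProduct.rid_tmul,
        Algebra.smul_def]
      exact Q.mul_mem_right _ (hqQ (Ideal.mem_map_of_mem _ ha))
    | add x y hx hy =>
      rw [map_add, map_add]
      exact Q.add_mem hx hy
  have h1 : (1 : C) ∈ Q := by
    have h2 := hμ t
    rw [ht, TensorProduct.rid_tmul, one_smul] at h2
    exact h2
  exact hQ ((Ideal.eq_top_iff_one Q).2 h1)

end Nontriv

section ZMT

/-- Zariski's main theorem, packaged for the upper shriek computation. -/
theorem exists_finite_flat_epi (P Ag : Type u) [CommRing P] [CommRing Ag] [Algebra P Ag]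
    [Algebra.FiniteType P Ag] (q' : Ideal Ag) [q'.IsPrime] [Algebra.QuasiFiniteAt P q'] :
    ∃ (B' C : Type u) (_ : CommRing B') (_ : CommRing C) (_ : Algebra P B') (_ : Algebra B' C)
      (_ : Algebra Ag C) (_ : Algebra P C) (_ : IsScalarTower P B' C) (_ : IsScalarTower P Ag C),
      Module.Finite P B' ∧ Module.Flat B' C ∧ Algebra.IsEpi B' C ∧ Algebra.FiniteType B' C ∧
      Module.Flat Ag C ∧ Algebra.IsEpi Ag C ∧ Algebra.FiniteType Ag C ∧
      q'.map (algebraMap Ag C) ≠ ⊤ := by
  classical
  obtain ⟨S', hS', r, hr, hbij⟩ :=
    Algebra.QuasiFiniteAt.exists_fg_and_exists_notMem_and_awayMap_bijective (R := P) q'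
  haveI hfin : Module.Finite P S' := ⟨(Submodule.fg_top _).mpr hS'⟩
  haveI tw1 : IsScalarTower P S' (Localization.Away (r : Ag)) := by
    refine IsScalarTower.of_algebraMap_eq (R := P) (S := S') (A := Localization.Away (r : Ag))
      (fun p => ?_)
    show algebraMap P (Localization.Away (r : Ag)) p =
      algebraMap Ag (Localization.Away (r : Ag)) (S'.val (algebraMap P S' p))
    rw [IsScalarTower.algebraMap_apply P Ag (Localization.Away (r : Ag))]
    rfl
  let e : Localization.Away r ≃ₐ[S'] Localization.Away (r : Ag) :=
    { RingEquiv.ofBijective (Localization.awayMap S'.val.toRingHom r) hbij with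
      commutes' := fun b => by
        show Localization.awayMap S'.val.toRingHom r (algebraMap S' (Localization.Away r) b) =
          algebraMap Ag (Localization.Away (r : Ag)) (S'.val b)
        exact IsLocalization.map_eq _ b }
  haveI hloc1 : IsLocalization.Away r (Localization.Away (r : Ag)) :=
    IsLocalization.isLocalization_of_algEquiv (Submonoid.powers r) e
  have hflat1 : Module.Flat S' (Localization.Away (r : Ag)) :=
    IsLocalization.flat _ (Submonoid.powers r)
  have hepi1 : Algebra.IsEpi S' (Localization.Away (r : Ag)) :=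
    isEpi_of_isLocalization (Submonoid.powers r)
  have hft1 : Algebra.FiniteType S' (Localization.Away (r : Ag)) :=
    haveI := IsLocalization.Away.finitePresentation r (S := Localization.Away (r : Ag))
    inferInstance
  have hflat2 : Module.Flat Ag (Localization.Away (r : Ag)) :=
    IsLocalization.flat _ (Submonoid.powers (r : Ag))
  have hepi2 : Algebra.IsEpi Ag (Localization.Away (r : Ag)) :=
    isEpi_of_isLocalization (Submonoid.powers (r : Ag))
  have hft2 : Algebra.FiniteType Ag (Localization.Away (r : Ag)) :=
    haveI := IsLocalization.Away.finitePresentation (r : Ag) (S := Localization.Away (r : Ag))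
    inferInstance
  have hdisj : Disjoint ((Submonoid.powers (r : Ag) : Submonoid Ag) : Set Ag) (q' : Set Ag) := by
    rw [Set.disjoint_left]
    rintro x ⟨k, rfl⟩ hx
    exact hr (Ideal.IsPrime.mem_of_pow_mem inferInstance k hx)
  have hprime : (q'.map (algebraMap Ag (Localization.Away (r : Ag)))).IsPrime :=
    IsLocalization.isPrime_of_isPrime_disjoint (Submonoid.powers (r : Ag)) _ q' inferInstance hdisj
  exact ⟨S', Localization.Away (r : Ag), inferInstance, inferInstance, inferInstance, inferInstance,
    inferInstance, inferInstance, tw1, inferInstance, hfin, hflat1, hepi1, hft1, hflat2, hepi2,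
    hft2, hprime.ne_top⟩

end ZMT

section QF

open AlgebraicGeometry Groth.Agent.Lib.Helper4.FibDim

/-- fibre dimension `d` at `q` gives a quasi-finite map from the polynomial ring in `d`
variables to a principal localization around `q`. -/
theorem exists_quasiFinite_of_fibreDimAt (R A : Type u) [CommRing R] [CommRing A] [Algebra R A]
    [Algebra.FiniteType R A] (q : PrimeSpectrum A) (d : ℕ)
    (hd : FlatMor.fibreDimAt (Spec.map (CommRingCat.ofHom (algebraMap R A))) q = d) :
    ∃ g : A, g ∉ q.asIdeal ∧ ∃ φ : MvPolynomial (Fin d) R →ₐ[R] Localization.Away g,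
      φ.toRingHom.FiniteType ∧ φ.toRingHom.QuasiFinite := by
  have h1 : fibLD (PrimeSpectrum.comap (algebraMap R A)) q ≤ (d : WithBot ℕ∞) := by
    have h2 := fibreDimAt_eq_fibLD (Spec.map (CommRingCat.ofHom (algebraMap R A))) q
    rw [hd] at h2
    exact h2.symm.le
  rw [fibLD_comap_eq] at h1
  set p := PrimeSpectrum.comap (algebraMap R A) q with hp
  set Q := PrimeSpectrum.preimageHomeomorphFiber R A p ⟨q, rfl⟩ with hQ
  obtain ⟨g, hg, φ, hφ1, hφ2⟩ := exists_quasiFinite_away p.asIdeal Q d h1
  have hQq : PrimeSpectrum.comap Algebra.TensorProduct.includeRight.toRingHom Q = q :=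
    comap_includeRight_preimageHomeomorphFiber p.asIdeal ⟨q, rfl⟩
  refine ⟨g, ?_, φ, hφ1, hφ2⟩
  show g ∉ q.asIdeal
  rw [← hQq]
  exact hg

end QF

end Groth.Agent.Lib.Helper5.FibVan
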