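import Mathlib
import Groth.Agent.Lib.Helper5FibVanA
import Groth.Agent.Lib.Helper5FibVanB
set_option backward.isDefEq.respectTransparency.types false

/-!
# The relative dualizing complex has no cohomology below minus the fibre dimension (helper5)

`HD_shriek_ge_of_fibreDimAt`: for `R → A` of finite type between Noetherian rings, `q` a prime
of `A` at which the fibre has local dimension `d`, if `H^i(φ^!(R))_q ≠ 0` then `-d ≤ i`.
-/

set_option autoImplicit false
set_option linter.style.haveILetI false
universe u
open CategoryTheory CategoryTheory.Limits TensorProduct AlgebraicGeometry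
attribute [local instance] HasDerivedCategory.standard

namespace Groth.Agent.Lib.Helper5.FibVan

open DerivedCategory Groth.Agent.Lib.Helper5.HasLDer Groth.Agent.Lib.Helper5.Shrk

theorem HD_shriek_ge_of_fibreDimAt (R A : Type u) [CommRing R] [CommRing A] [IsNoetherianRing R]
    [IsNoetherianRing A] [Algebra R A] (n : ℕ) (ψ : MvPolynomial (Fin n) R →ₐ[R] A)
    (hψ : Function.Surjective ψ) [DRing.HasLBaseChange (algebraMap R (MvPolynomial (Fin n) R))]
    (Rψ : Dual.D (MvPolynomial (Fin n) R) ⥤ Dual.D A) (adj : DRing.restrictD ψ.toRingHom ⊣ Rψ)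
    (q : PrimeSpectrum A) (d : ℕ)
    (hd : FlatMor.fibreDimAt (Spec.map (CommRingCat.ofHom (algebraMap R A))) q = d) (i : ℤ)
    (h : Nontrivial (LocalizedModule q.asIdeal.primeCompl
      (Dual.HD A (Dual2.shriekVia n Rψ (Dual.inD R R)) i))) : -(d : ℤ) ≤ i := by
  classical
  by_contra hlt
  push_neg at hlt
  haveI : Algebra.FiniteType R A := Algebra.FiniteType.of_surjective ψ hψ
  obtain ⟨g, hg, φ, hφft, hφqf⟩ := exists_quasiFinite_of_fibreDimAt R A q d hd
  letI algP : Algebra (MvPolynomial (Fin d) R) (Localization.Away g) := φ.toRingHom.toAlgebra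
  haveI towP : IsScalarTower R (MvPolynomial (Fin d) R) (Localization.Away g) :=
    IsScalarTower.of_algebraMap_eq (fun r => (φ.commutes r).symm)
  haveI : Algebra.FiniteType (MvPolynomial (Fin d) R) (Localization.Away g) := hφft
  haveI : Algebra.QuasiFinite (MvPolynomial (Fin d) R) (Localization.Away g) := hφqf
  have hdisj : Disjoint ((Submonoid.powers g : Submonoid A) : Set A) (q.asIdeal : Set A) := by
    rw [Set.disjoint_left]
    rintro x ⟨k, rfl⟩ hx
    exact hg (Ideal.IsPrime.mem_of_pow_mem q.isPrime k hx)
  haveI hq' : (q.asIdeal.map (algebraMap A (Localization.Away g))).IsPrime :=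
    IsLocalization.isPrime_of_isPrime_disjoint (Submonoid.powers g) _ q.asIdeal q.isPrime hdisj
  obtain ⟨B', C, _, _, _, _, _, _, _, _, hfin, hflat1, hepi1, hft1, hflat2, hepi2, hft2, hQ⟩ :=
    exists_finite_flat_epi (MvPolynomial (Fin d) R) (Localization.Away g)
      (q.asIdeal.map (algebraMap A (Localization.Away g)))
  letI algAC : Algebra A C :=
    ((algebraMap (Localization.Away g) C).comp (algebraMap A (Localization.Away g))).toAlgebra
  haveI towAC : IsScalarTower A (Localization.Away g) C :=
    IsScalarTower.of_algebraMap_eq (fun _ => rfl)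
  letI algRC : Algebra R C :=
    ((algebraMap (Localization.Away g) C).comp (algebraMap R (Localization.Away g))).toAlgebra
  haveI towRC : IsScalarTower R (Localization.Away g) C :=
    IsScalarTower.of_algebraMap_eq (fun _ => rfl)
  haveI towRAC : IsScalarTower R A C := by
    refine IsScalarTower.of_algebraMap_eq (R := R) (S := A) (A := C) (fun r => ?_)
    show algebraMap (Localization.Away g) C (algebraMap R (Localization.Away g) r) =
      algebraMap (Localization.Away g) C (algebraMap A (Localization.Away g) (algebraMap R A r))
    rw [← IsScalarTower.algebraMap_apply R A (Localization.Away g)]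
  haveI towRPC : IsScalarTower R (MvPolynomial (Fin d) R) C := by
    refine IsScalarTower.of_algebraMap_eq (R := R) (S := MvPolynomial (Fin d) R) (A := C)
      (fun r => ?_)
    rw [IsScalarTower.algebraMap_apply (MvPolynomial (Fin d) R) (Localization.Away g) C,
      ← IsScalarTower.algebraMap_apply R (MvPolynomial (Fin d) R) (Localization.Away g)]
    rfl
  haveI : Module.Flat A (Localization.Away g) := IsLocalization.flat _ (Submonoid.powers g)
  haveI : Algebra.IsEpi A (Localization.Away g) := isEpi_of_isLocalization (Submonoid.powers g)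
  haveI : Algebra.FiniteType A (Localization.Away g) :=
    haveI := IsLocalization.Away.finitePresentation g (S := Localization.Away g)
    inferInstance
  haveI : Module.Flat A C := Module.Flat.trans A (Localization.Away g) C
  haveI : Algebra.IsEpi A C := isEpi_trans A (Localization.Away g) C
  haveI : Algebra.FiniteType A C :=
    Algebra.FiniteType.trans (inferInstance : Algebra.FiniteType A (Localization.Away g)) hft2
  haveI : Algebra.FiniteType R C :=
    Algebra.FiniteType.trans (inferInstance : Algebra.FiniteType R A) inferInstance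
  obtain ⟨k, θ, hθ⟩ := Algebra.FiniteType.iff_quotient_mvPolynomial''.1
    (inferInstance : Algebra.FiniteType R C)
  haveI := hasLBaseChange (algebraMap R (MvPolynomial (Fin k) R))
  obtain ⟨Rθ, ⟨adjθ⟩⟩ := exists_rightAdjoint θ.toRingHom
  have hge := isGE_shriek_of_factor R B' C d k θ hθ Rθ adjθ
  have hsub := subsingleton_tensor_HD R A C n ψ hψ Rψ adj k θ hθ Rθ adjθ (-(d : ℤ)) hge i hlt
  have hqQ : q.asIdeal.map (algebraMap A C) ≤
      (q.asIdeal.map (algebraMap A (Localization.Away g))).map
        (algebraMap (Localization.Away g) C) := by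
    rw [Ideal.map_map]
    exact le_of_eq rfl
  have hnt := nontrivial_tensor_of_localized (C := C) q.asIdeal _ hQ hqQ h
  exact not_subsingleton _ hsub

end Groth.Agent.Lib.Helper5.FibVan
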