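import Mathlib

/-!
# Dimension of the local ring of a fibre (helper5)

`ringKrullDim_quotient_le_stalk_fiber`: `dim O_{X,x}/m_y O_{X,x} ≤ dim O_{X_y,x}` (in fact equality holds,
but only this inequality is needed), by an order-theoretic argument on generizations.
-/

set_option autoImplicit false
universe u

namespace Groth.Agent.Lib.Helper5

open AlgebraicGeometry CategoryTheory Order

theorem ringKrullDim_quotient_le_stalk_fiber {X Y : Scheme.{u}} (f : X ⟶ Y) (x : X) :
    ringKrullDim (X.presheaf.stalk x ⧸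
        (IsLocalRing.maximalIdeal (Y.presheaf.stalk (f x))).map (f.stalkMap x).hom) ≤
      ringKrullDim ((f.fiber (f x)).presheaf.stalk (f.asFiber x)) := by
  set I : Ideal (X.presheaf.stalk x) :=
    (IsLocalRing.maximalIdeal (Y.presheaf.stalk (f x))).map (f.stalkMap x).hom with hI
  -- the point of `Spec O_{X,x}` attached to a prime of the quotient
  let q' : PrimeSpectrum (X.presheaf.stalk x ⧸ I) → Spec (X.presheaf.stalk x) :=
    fun q => PrimeSpectrum.comap (Ideal.Quotient.mk I) q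
  have hq'le : ∀ q₁ q₂, q' q₁ ⤳ q' q₂ ↔ q₁ ≤ q₂ := by
    intro q₁ q₂
    change (PrimeSpectrum.comap (Ideal.Quotient.mk I) q₁ ⤳ PrimeSpectrum.comap (Ideal.Quotient.mk I) q₂) ↔ _
    rw [← PrimeSpectrum.le_iff_specializes]
    change Ideal.comap (Ideal.Quotient.mk I) q₁.asIdeal ≤ Ideal.comap (Ideal.Quotient.mk I) q₂.asIdeal ↔ _
    rw [Ideal.comap_le_comap_iff_of_surjective _ Ideal.Quotient.mk_surjective]
    rfl
  let z : PrimeSpectrum (X.presheaf.stalk x ⧸ I) → X := fun q => X.fromSpecStalk x (q' q)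
  have hzspec : ∀ q₁ q₂, z q₁ ⤳ z q₂ ↔ q₁ ≤ q₂ := by
    intro q₁ q₂
    rw [← hq'le]
    exact (X.fromSpecStalk x).isEmbedding.isInducing.specializes_iff
  have hzx : ∀ q, z q ⤳ x := by
    intro q
    have : z q ∈ Set.range (X.fromSpecStalk x) := ⟨_, rfl⟩
    rw [Scheme.range_fromSpecStalk] at this
    exact this
  have hfz : ∀ q, f (z q) = f x := by
    intro q
    have h1 : f (X.fromSpecStalk x (q' q)) =
        Y.fromSpecStalk (f x) (Spec.map (f.stalkMap x) (q' q)) := by
      rw [← Scheme.Hom.comp_apply, ← Scheme.Hom.comp_apply, Scheme.SpecMap_stalkMap_fromSpecStalk]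
    have h2 : Spec.map (f.stalkMap x) (q' q) =
        IsLocalRing.closedPoint (Y.presheaf.stalk (f x)) := by
      apply PrimeSpectrum.ext
      change Ideal.comap (f.stalkMap x).hom (Ideal.comap (Ideal.Quotient.mk I) q.asIdeal) =
        IsLocalRing.maximalIdeal _
      have hle : IsLocalRing.maximalIdeal (Y.presheaf.stalk (f x)) ≤
          Ideal.comap (f.stalkMap x).hom (Ideal.comap (Ideal.Quotient.mk I) q.asIdeal) := by
        rw [← Ideal.map_le_iff_le_comap]
        intro s hs
        rw [Ideal.mem_comap, Ideal.Quotient.eq_zero_iff_mem.mpr hs]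
        exact zero_mem _
      have hne : Ideal.comap (f.stalkMap x).hom (Ideal.comap (Ideal.Quotient.mk I) q.asIdeal) ≠ ⊤ :=
        Ideal.IsPrime.ne_top inferInstance
      exact ((IsLocalRing.maximalIdeal.isMaximal _).eq_of_le hne hle).symm
    change f (z q) = f x
    rw [show z q = X.fromSpecStalk x (q' q) from rfl, h1, h2, Scheme.fromSpecStalk_closedPoint]
  let w : PrimeSpectrum (X.presheaf.stalk x ⧸ I) → f.fiber (f x) :=
    fun q => (f.fiberHomeo (f x)).symm ⟨z q, hfz q⟩
  have hιw : ∀ q, f.fiberι (f x) (w q) = z q := fun q => f.fiberι_fiberHomeo_symm _ _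
  have hwspec : ∀ q₁ q₂, w q₁ ⤳ w q₂ ↔ q₁ ≤ q₂ := by
    intro q₁ q₂
    rw [← hzspec, ← hιw, ← hιw]
    exact ((f.fiberι (f x)).isEmbedding.isInducing.specializes_iff).symm
  have hwx : ∀ q, f.asFiber x ≤ w q := by
    intro q
    rw [Scheme.le_iff_specializes,
      ← (f.fiberι (f x)).isEmbedding.isInducing.specializes_iff, hιw, f.fiberι_asFiber]
    exact hzx q
  let g : PrimeSpectrum (X.presheaf.stalk x ⧸ I) → (Set.Ici (f.asFiber x))ᵒᵈ :=
    fun q => OrderDual.toDual ⟨w q, hwx q⟩
  have hg : StrictMono g := by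
    intro q₁ q₂ h
    change (⟨w q₂, hwx q₂⟩ : Set.Ici (f.asFiber x)) < ⟨w q₁, hwx q₁⟩
    rw [Subtype.mk_lt_mk, lt_iff_le_not_ge, Scheme.le_iff_specializes, Scheme.le_iff_specializes,
      hwspec, hwspec]
    exact ⟨h.le, h.not_ge⟩
  rw [AlgebraicGeometry.ringKrullDim_stalk_eq_coheight, Order.coheight_eq_krullDim_Ici,
    ← Order.krullDim_orderDual]
  exact Order.krullDim_le_of_strictMono g hg

end Groth.Agent.Lib.Helper5
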