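import Mathlib
import Groth.Agent.Lib.Helper5FiberBC
import Groth.Agent.Lib.Helper5FibreLN
import Groth.Agent.Lib.Helper5GrpCM
import Groth.Agent.Lib.Helper5StalkSpec

/-!
# Local rings of a scheme over a field and of its base change to an extension field (helper5)

* `essFiniteType_residueFieldMap_specMap`: the residue field maps of `Spec.map φ` are essentially
  of finite type when `φ` is.
* `stalk_iff_fiber_stalk`: for `f : X ⟶ Spec k`, `P (O_{X,x})` iff `P` of the local ring of the fibre.
* `stalk_baseChange_iff`: for `X` locally Noetherian over `k`, `k'/k` a field extension, `x'` a point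
  of `X_{k'}` over `x`: `P (O_{X,x}) ↔ P (O_{X_{k'},x'})`, when `X` is locally of finite type over `k`
  or `k'/k` is finitely generated (`P` = Cohen–Macaulay, Gorenstein, …).
-/

set_option autoImplicit false
universe u

namespace Groth.Agent.Lib.Helper5.FieldBC
open AlgebraicGeometry CategoryTheory Limits IsLocalRing LocCoh
  Groth.Agent.Lib.Helper5.FiberStalk Groth.Agent.Lib.Helper5.FiberRing
  Groth.Agent.Lib.Helper5.FiberMor Groth.Agent.Lib.Helper5.FiberBC

theorem essFiniteType_stalkMap_specMap {R S : CommRingCat.{u}} (φ : R ⟶ S)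
    (hφ : φ.hom.EssFiniteType) (y : Spec S) :
    ((Spec.map φ).stalkMap y).hom.EssFiniteType := by
  have h2 : (StructureSheaf.toStalk S y).hom.EssFiniteType :=
    Algebra.EssFiniteType.of_isLocalization _ y.asIdeal.primeCompl
  have h3 : ((StructureSheaf.toStalk S y).hom.comp φ.hom).EssFiniteType := hφ.comp h2
  have hcomm : ((Spec.map φ).stalkMap y).hom.comp
      (StructureSheaf.toStalk R (Spec.map φ y)).hom =
      (StructureSheaf.toStalk S y).hom.comp φ.hom := by
    have := AlgebraicGeometry.stalkMap_toStalk φ y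
    exact congrArg CommRingCat.Hom.hom this
  rw [← hcomm] at h3
  exact RingHom.EssFiniteType.of_comp _ h3

theorem essFiniteType_residueFieldMap_specMap {R S : CommRingCat.{u}} (φ : R ⟶ S)
    (hφ : φ.hom.EssFiniteType) (y : Spec S) :
    ((Spec.map φ).residueFieldMap y).hom.EssFiniteType :=
  RingHom.EssFiniteType.residueFieldMap (essFiniteType_stalkMap_specMap φ hφ y)

section

variable {P : ∀ (R : Type u) [CommRing R], Prop}

/-- `P` holds for the local rings of the spectrum of a field. -/
def FieldStalkP (P : ∀ (R : Type u) [CommRing R], Prop) : Prop :=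
  ∀ (k : Type u) [Field k] (y : Spec (CommRingCat.of k)),
    P ((Spec (CommRingCat.of k)).presheaf.stalk y)

theorem fieldStalkP_cm : FieldStalkP.{u} (fun R _ => IsCohenMacaulayLocalRing R) := by
  intro k _ y
  haveI : Subsingleton ↥(Spec (CommRingCat.of k)) :=
    inferInstanceAs (Subsingleton (PrimeSpectrum k))
  exact Groth.Agent.Lib.Helper5.GrpCM.cm_of_ringKrullDim_eq_zero _
    (Groth.Agent.Lib.Helper5.StalkSpec.ringKrullDim_stalk_eq_zero_of_maximal _ y
      (fun z _ => Subsingleton.elim _ _))

variable {k : Type u} [Field k] {X : Scheme.{u}} (f : X ⟶ Spec (CommRingCat.of k))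

theorem stalk_iff_fiber_stalk (hP : FlatLocalIff P) (hPe : IsoInv P) (hfld : FieldStalkP P)
    (x : X) [IsNoetherianRing (X.presheaf.stalk x)] :
    P (X.presheaf.stalk x) ↔ P ((f.fiber (f x)).presheaf.stalk (f.asFiber x)) := by
  haveI : Flat f := inferInstance
  rw [flat_iff f x hP hPe (Flat.stalkMap f x)]
  exact ⟨fun h => h.2, fun h => ⟨hfld k (f x), h⟩⟩

theorem isNoetherianRing_fiber_stalk {X Y : Scheme.{u}} (f : X ⟶ Y) (x : X)
    [IsNoetherianRing (X.presheaf.stalk x)] :
    IsNoetherianRing ((f.fiber (f x)).presheaf.stalk (f.asFiber x)) := by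
  obtain ⟨e⟩ := nonempty_stalk_asFiber_equiv f x
  exact isNoetherianRing_of_ringEquiv _ e.symm

variable {k' : Type u} [Field k'] [Algebra k k']

theorem isLocallyNoetherian_baseChange [IsLocallyNoetherian X]
    (hreg : LocallyOfFiniteType f ∨ Algebra.EssFiniteType k k') :
    IsLocallyNoetherian (pullback f (Spec.map (CommRingCat.ofHom (algebraMap k k')))) := by
  rcases hreg with hf | hk
  · haveI := hf
    infer_instance
  · exact (Groth.Agent.Lib.Helper5.FibreLN.pullback_both
      (CommRingCat.ofHom (algebraMap k k')) f).1 (RingHom.essFiniteType_algebraMap.mpr hk) inferInstance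

theorem stalk_baseChange_iff (hP : FlatLocalIff P) (hPe : IsoInv P) (hF : FieldFibP P)
    (hfld : FieldStalkP P) [IsLocallyNoetherian X]
    (hreg : LocallyOfFiniteType f ∨ Algebra.EssFiniteType k k')
    (x' : ↥(pullback f (Spec.map (CommRingCat.ofHom (algebraMap k k'))))) :
    P (X.presheaf.stalk ((pullback.fst f (Spec.map (CommRingCat.ofHom (algebraMap k k')))) x')) ↔
      P ((pullback f (Spec.map (CommRingCat.ofHom (algebraMap k k')))).presheaf.stalk x') := by
  haveI := isLocallyNoetherian_baseChange f hreg
  have hsq : IsPullback (pullback.fst f (Spec.map (CommRingCat.ofHom (algebraMap k k'))))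
      (pullback.snd f (Spec.map (CommRingCat.ofHom (algebraMap k k')))) f
      (Spec.map (CommRingCat.ofHom (algebraMap k k'))) := IsPullback.of_hasPullback _ _
  haveI := isNoetherianRing_fiber_stalk f
    ((pullback.fst f (Spec.map (CommRingCat.ofHom (algebraMap k k')))) x')
  rw [stalk_iff_fiber_stalk f hP hPe hfld, stalk_iff_fiber_stalk
    (pullback.snd f (Spec.map (CommRingCat.ofHom (algebraMap k k')))) hP hPe hfld]
  refine (fiber_stalk_baseChange_iff' hP hPe hF hsq x' (hreg.imp id fun hk => ?_)).symm
  exact essFiniteType_residueFieldMap_specMap _ (RingHom.essFiniteType_algebraMap.mpr hk) _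

end

end Groth.Agent.Lib.Helper5.FieldBC
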