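import Mathlib
import Groth.Agent.Lib.Helper5GorFlat
import Groth.Agent.Lib.Helper5FiberStalk
import Groth.Agent.Lib.Helper5FieldBC
import Groth.Agent.Lib.Helper5FiberRing

/-!
# Depth and dimension of local rings along a flat morphism, via the fibre (helper5)

For `f : X ⟶ S` flat at `x`, with Noetherian local rings at `x` and `f x`:
* `depth_stalk_eq`: `depth O_{X,x} = depth O_{S,f x} + depth O_{X_{f x},x}`;
* `ringKrullDim_stalk_eq`: `dim O_{X,x} = dim O_{X_{f x},x} + dim O_{S,f x}`;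
* `le_depth_stalk_of_cm_fiber`: if the fibre local ring is Cohen–Macaulay of dimension `≥ d`
  then `depth O_{X,x} ≥ d`.
* `quot_dim`, `fiber_dim_comp`: for `f : X ⟶ Y` flat at `x` and `g : Y ⟶ Z`:
  `dim O_{X_z,x} = dim O_{X_{f x},x} + dim O_{Y_z,f x}` (`z = g (f x)`).
-/

set_option autoImplicit false
universe u

namespace Groth.Agent.Lib.Helper5.FibreDepth
open AlgebraicGeometry CategoryTheory IsLocalRing LocCoh
  Groth.Agent.Lib.Helper5.FiberStalk Groth.Agent.Lib.Helper5.GorFlat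

variable {X S : Scheme.{u}} (f : X ⟶ S) (x : X)

section

variable [IsNoetherianRing (X.presheaf.stalk x)] [IsNoetherianRing (S.presheaf.stalk (f x))]
  (hfl : (f.stalkMap x).hom.Flat)

include hfl in
theorem depth_and_dim :
    LocCoh.depth (X.presheaf.stalk x) (X.presheaf.stalk x) =
        LocCoh.depth (S.presheaf.stalk (f x)) (S.presheaf.stalk (f x)) +
          LocCoh.depth ((f.fiber (f x)).presheaf.stalk (f.asFiber x))
            ((f.fiber (f x)).presheaf.stalk (f.asFiber x)) ∧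
      ringKrullDim (X.presheaf.stalk x) =
        ringKrullDim ((f.fiber (f x)).presheaf.stalk (f.asFiber x)) +
          ringKrullDim (S.presheaf.stalk (f x)) := by
  obtain ⟨e⟩ := nonempty_stalk_asFiber_equiv f x
  letI := (f.stalkMap x).hom.toAlgebra
  haveI : IsLocalHom (algebraMap (S.presheaf.stalk (f x)) (X.presheaf.stalk x)) :=
    inferInstanceAs (IsLocalHom (f.stalkMap x).hom)
  haveI : Module.Flat (S.presheaf.stalk (f x)) (X.presheaf.stalk x) := hfl
  let π : X.presheaf.stalk x →+* (f.fiber (f x)).presheaf.stalk (f.asFiber x) :=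
    (e.symm.toRingHom).comp (Ideal.Quotient.mk _)
  have hπ : Function.Surjective π := e.symm.surjective.comp Ideal.Quotient.mk_surjective
  have hker : RingHom.ker π = (maximalIdeal (S.presheaf.stalk (f x))).map
      (algebraMap (S.presheaf.stalk (f x)) (X.presheaf.stalk x)) := by
    rw [RingHom.ker_comp_of_injective _ (f := e.symm.toRingHom) e.symm.injective]
    exact Ideal.mk_ker
  exact ⟨depth_formula π hπ hker, dim_formula π hπ hker⟩

include hfl in
theorem le_depth_stalk_of_cm_fiber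
    (hCM : IsCohenMacaulayLocalRing ((f.fiber (f x)).presheaf.stalk (f.asFiber x))) (d : ℕ)
    (hd : (d : WithBot ℕ∞) ≤ ringKrullDim ((f.fiber (f x)).presheaf.stalk (f.asFiber x))) :
    (d : ℕ∞) ≤ LocCoh.depth (X.presheaf.stalk x) (X.presheaf.stalk x) := by
  have h1 := (depth_and_dim f x hfl).1
  have h2 := hCM.supportDim_eq_depth
  rw [Module.supportDim_self_eq_ringKrullDim] at h2
  rw [h2] at hd
  have hd' : (d : ℕ∞) ≤ LocCoh.depth ((f.fiber (f x)).presheaf.stalk (f.asFiber x))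
      ((f.fiber (f x)).presheaf.stalk (f.asFiber x)) := by exact_mod_cast hd
  rw [h1]
  exact hd'.trans le_add_self

end

section Quot

open Groth.Agent.Lib.Helper28

variable {A₀ B₀ : Type u} [CommRing A₀] [CommRing B₀] [IsLocalRing A₀] [IsLocalRing B₀]
  [Algebra A₀ B₀] [IsLocalHom (algebraMap A₀ B₀)] [Module.Flat A₀ B₀]

theorem quot_dim (a : Ideal A₀) (ha : a ≠ ⊤) [IsNoetherianRing (A₀ ⧸ a)]
    [IsNoetherianRing (B₀ ⧸ a.map (algebraMap A₀ B₀))] :
    ringKrullDim (B₀ ⧸ a.map (algebraMap A₀ B₀)) =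
      ringKrullDim (B₀ ⧸ (maximalIdeal A₀).map (algebraMap A₀ B₀)) + ringKrullDim (A₀ ⧸ a) := by
  haveI hS : IsLocalRing (A₀ ⧸ a) := isLocalRing_quotient ha
  have hJne : a.map (algebraMap A₀ B₀) ≠ ⊤ := map_ne_top_of_isLocalHom a ha
  haveI hT : IsLocalRing (B₀ ⧸ a.map (algebraMap A₀ B₀)) := isLocalRing_quotient hJne
  haveI hlocST := isLocalHom_quotient_map (A := A₀) (A' := B₀) a
  haveI hflatST := flat_quotient_map' (A := A₀) (A' := B₀) a
  have hmne : (maximalIdeal A₀).map (algebraMap A₀ B₀) ≠ ⊤ :=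
    map_ne_top_of_isLocalHom _ (maximalIdeal.isMaximal A₀).ne_top
  haveI hF : IsLocalRing (B₀ ⧸ (maximalIdeal A₀).map (algebraMap A₀ B₀)) :=
    isLocalRing_quotient hmne
  have hle : a.map (algebraMap A₀ B₀) ≤ (maximalIdeal A₀).map (algebraMap A₀ B₀) :=
    Ideal.map_mono (IsLocalRing.le_maximalIdeal ha)
  have hker : RingHom.ker (Ideal.Quotient.factor hle) =
      (maximalIdeal (A₀ ⧸ a)).map
        (algebraMap (A₀ ⧸ a) (B₀ ⧸ a.map (algebraMap A₀ B₀))) := by
    rw [Ideal.Quotient.factor_ker, maximalIdeal_quotient_eq_map]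
    have e1 := Ideal.map_map (I := maximalIdeal A₀) (algebraMap A₀ B₀)
      (Ideal.Quotient.mk (a.map (algebraMap A₀ B₀)))
    have e2 := Ideal.map_map (I := maximalIdeal A₀) (Ideal.Quotient.mk a)
      (algebraMap (A₀ ⧸ a) (B₀ ⧸ a.map (algebraMap A₀ B₀)))
    have hcomp : (Ideal.Quotient.mk (a.map (algebraMap A₀ B₀))).comp (algebraMap A₀ B₀) =
        (algebraMap (A₀ ⧸ a) (B₀ ⧸ a.map (algebraMap A₀ B₀))).comp (Ideal.Quotient.mk a) :=
      RingHom.ext fun x => rfl
    exact e1.trans ((congrArg (fun g => Ideal.map g (maximalIdeal A₀)) hcomp).trans e2.symm)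
  exact dim_formula (A := A₀ ⧸ a) (B := B₀ ⧸ a.map (algebraMap A₀ B₀))
    (Ideal.Quotient.factor hle) (Ideal.Quotient.factor_surjective hle) hker

end Quot

section Comp

variable {X Y Z : Scheme.{u}} (f : X ⟶ Y) (g : Y ⟶ Z) (x : X)

/-- For `f` flat at `x`: the dimension of the local ring at `x` of the fibre of `f ≫ g` is the sum
of the dimensions of the local ring at `x` of the fibre of `f` and of the local ring at `f x` of the
fibre of `g`. -/
theorem fiber_dim_comp (hfl : (f.stalkMap x).hom.Flat)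
    [IsNoetherianRing ((g.fiber (g (f x))).presheaf.stalk (g.asFiber (f x)))]
    [IsNoetherianRing (((f ≫ g).fiber ((f ≫ g) x)).presheaf.stalk ((f ≫ g).asFiber x))] :
    ringKrullDim (((f ≫ g).fiber ((f ≫ g) x)).presheaf.stalk ((f ≫ g).asFiber x)) =
      ringKrullDim ((f.fiber (f x)).presheaf.stalk (f.asFiber x)) +
        ringKrullDim ((g.fiber (g (f x))).presheaf.stalk (g.asFiber (f x))) := by
  obtain ⟨ef⟩ := nonempty_stalk_asFiber_equiv f x
  obtain ⟨eg⟩ := nonempty_stalk_asFiber_equiv g (f x)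
  obtain ⟨egf⟩ := nonempty_stalk_asFiber_equiv (f ≫ g) x
  have hI : (maximalIdeal (Z.presheaf.stalk ((f ≫ g) x))).map ((f ≫ g).stalkMap x).hom =
      ((maximalIdeal (Z.presheaf.stalk (g (f x)))).map (g.stalkMap (f x)).hom).map
        (f.stalkMap x).hom := by
    rw [Scheme.Hom.stalkMap_comp]
    exact (Ideal.map_map _ _).symm
  let egf' := egf.trans (Ideal.quotEquivOfEq hI)
  haveI : IsNoetherianRing (Y.presheaf.stalk (f x) ⧸
      (maximalIdeal (Z.presheaf.stalk (g (f x)))).map (g.stalkMap (f x)).hom) :=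
    isNoetherianRing_of_ringEquiv _ eg
  haveI : IsNoetherianRing (X.presheaf.stalk x ⧸
      ((maximalIdeal (Z.presheaf.stalk (g (f x)))).map (g.stalkMap (f x)).hom).map
        (f.stalkMap x).hom) :=
    isNoetherianRing_of_ringEquiv _ egf'
  letI := (f.stalkMap x).hom.toAlgebra
  haveI : IsLocalHom (algebraMap (Y.presheaf.stalk (f x)) (X.presheaf.stalk x)) :=
    inferInstanceAs (IsLocalHom (f.stalkMap x).hom)
  haveI : Module.Flat (Y.presheaf.stalk (f x)) (X.presheaf.stalk x) := hfl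
  have key := quot_dim (A₀ := Y.presheaf.stalk (f x)) (B₀ := X.presheaf.stalk x)
    ((maximalIdeal (Z.presheaf.stalk (g (f x)))).map (g.stalkMap (f x)).hom)
    (IsLocalRing.map_maximalIdeal_lt_top (g.stalkMap (f x)).hom).ne
  rw [ringKrullDim_eq_of_ringEquiv egf', ringKrullDim_eq_of_ringEquiv ef,
    ringKrullDim_eq_of_ringEquiv eg]
  exact key

end Comp

end Groth.Agent.Lib.Helper5.FibreDepth
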