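import Mathlib
import Groth.Agent.Lib.Helper5RelGorA
import Groth.Agent.Lib.Helper5GorLocus
import Groth.Agent.Lib.Helper5BiDualC
import Groth.Agent.Lib.Helper5LocDD
set_option backward.isDefEq.respectTransparency.types false

/-!
# Invertible relative dualizing complex implies Gorenstein fibres (helper5)

`gorLocal_of_invertible`: let `α : A → B` be a ring map, `ω` a pseudo-coherent object of `D(A)`
whose base change to `B` is a dualizing complex, and suppose `ω` is locally a shift of the ring.
Then all local rings of `B` are Gorenstein.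
-/

set_option autoImplicit false
set_option linter.style.haveILetI false
universe u
open CategoryTheory CategoryTheory.Limits TensorProduct
attribute [local instance] HasDerivedCategory.standard

namespace Groth.Agent.Lib.Helper5.RelGor

open DerivedCategory Groth.Agent.Lib.Helper1.LDer Groth.Agent.Lib.Helper1.Extend
  Groth.Agent.Lib.Helper5.HasLDer Groth.Agent.Lib.Helper5.LocD Groth.Agent.Lib.Helper5.BiDual

variable {A B : Type u} [CommRing A] [CommRing B]

/-- if `ω` is locally a shift of `A` and `Lα^* ω` is dualizing over `B`, the local rings of `B`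
are Gorenstein. -/
theorem gorLocal_of_invertible (α : A →+* B) [DRing.HasLBaseChange α] {ω : Dual.D A}
    (r : FFRep ω) (hX : Dual.IsDualizing B ((DRing.LBaseChange α).obj ω))
    [hL : ∀ f : A, DRing.HasLBaseChange (algebraMap A (Localization.Away f))]
    (hinv : ∀ q : PrimeSpectrum A, ∃ (f : A) (_ : f ∉ q.asIdeal) (m : ℤ),
      Nonempty ((DRing.LBaseChange (algebraMap A (Localization.Away f))).obj ω ≅
        (Dual.inD (Localization.Away f) (Localization.Away f))⟦m⟧))
    (Qp : Ideal B) [hQ : Qp.IsPrime] :
    LocCoh.IsGorensteinLocalRing (Localization.AtPrime Qp) := by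
  haveI := hX.isNoetherianRing
  obtain ⟨f, hf, m, ⟨e⟩⟩ := hinv ⟨Qp.comap α, inferInstance⟩
  have hf' : α f ∈ Qp.primeCompl := fun h => hf h
  have hu : IsUnit (((algebraMap B (Localization.AtPrime Qp)).comp α) f) :=
    IsLocalization.map_units (Localization.AtPrime Qp) ⟨α f, hf'⟩
  obtain ⟨γ, hγ⟩ : ∃ γ : Localization.Away f →+* Localization.AtPrime Qp,
      γ.comp (algebraMap A (Localization.Away f)) =
        (algebraMap B (Localization.AtPrime Qp)).comp α :=
    ⟨IsLocalization.Away.lift f hu, IsLocalization.Away.lift_comp f hu⟩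
  haveI := hasLBaseChange (algebraMap B (Localization.AtPrime Qp))
  haveI := hasLBaseChange γ
  obtain ⟨e1⟩ := nonempty_lbc_square_iso r α (algebraMap B (Localization.AtPrime Qp))
    (algebraMap A (Localization.Away f)) γ hγ.symm
  obtain ⟨e2⟩ := nonempty_lbc_shift_self_iso γ m
  obtain ⟨e3⟩ := lbc_iso_extD (Localization.AtPrime Qp) ((DRing.LBaseChange α).obj ω)
  have hC : Dual.IsDualizing (Localization.AtPrime Qp)
      ((extD B (Localization.AtPrime Qp)).obj ((DRing.LBaseChange α).obj ω)) :=
    isDualizing_extD Qp.primeCompl (Localization.AtPrime Qp) _ hX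
  have hC' : Dual.IsDualizing (Localization.AtPrime Qp)
      ((Dual.inD (Localization.AtPrime Qp) (Localization.AtPrime Qp))⟦m⟧) :=
    isDualizing_of_iso (e3.symm ≪≫ e1 ≪≫ (DRing.LBaseChange γ).mapIso e ≪≫ e2) hC
  have hC'' : Dual.IsDualizing (Localization.AtPrime Qp)
      (Dual.inD (Localization.AtPrime Qp) (Localization.AtPrime Qp)) :=
    isDualizing_of_iso (shiftShiftNeg _ m) (isDualizing_shift hC' (-m))
  exact Groth.Agent.Lib.Helper5.GorLocus.gor_of_isDualizing_inD _ hC''

end Groth.Agent.Lib.Helper5.RelGor
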