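import Mathlib

/-!
# Lifting modules along `R → R/I` : the inductive step (helper5)

Pure linear algebra used for lifting acyclic complexes (Stacks, More on Algebra, "Lifting complexes").
-/

set_option autoImplicit false
universe u
open TensorProduct

namespace Groth.Agent.Lib.Helper5.LiftA

section Split

variable {R : Type*} [CommRing R] {M N : Type*} [AddCommGroup M] [Module R M]
  [AddCommGroup N] [Module R N]

/-- the retraction onto the kernel of a split surjection -/
def retr (f : M →ₗ[R] N) (s : N →ₗ[R] M) (h : f ∘ₗ s = LinearMap.id) :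
    M →ₗ[R] LinearMap.ker f :=
  LinearMap.codRestrict _ (LinearMap.id - s ∘ₗ f) (fun x => by
    have hs : f (s (f x)) = f x := LinearMap.congr_fun h (f x)
    simp [LinearMap.mem_ker, hs])

lemma retr_coe (f : M →ₗ[R] N) (s : N →ₗ[R] M) (h : f ∘ₗ s = LinearMap.id) (x : M) :
    ((retr f s h x : LinearMap.ker f) : M) = x - s (f x) := rfl

lemma retr_comp_subtype (f : M →ₗ[R] N) (s : N →ₗ[R] M) (h : f ∘ₗ s = LinearMap.id) :
    retr f s h ∘ₗ (LinearMap.ker f).subtype = LinearMap.id := by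
  ext ⟨z, hz⟩
  rw [LinearMap.mem_ker] at hz
  simp [retr_coe, hz]

lemma subtype_comp_retr (f : M →ₗ[R] N) (s : N →ₗ[R] M) (h : f ∘ₗ s = LinearMap.id) :
    (LinearMap.ker f).subtype ∘ₗ retr f s h = LinearMap.id - s ∘ₗ f := by
  ext x
  simp [retr_coe]

/-- a split surjection `f` with section `s` identifies `M` with `ker f × N` -/
def splitEquiv (f : M →ₗ[R] N) (s : N →ₗ[R] M) (h : f ∘ₗ s = LinearMap.id) :
    M ≃ₗ[R] (LinearMap.ker f × N) :=
  LinearEquiv.ofLinearMap ((retr f s h).prod f)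
    ((LinearMap.ker f).subtype.coprod s)
    (by
      have hs : ∀ y, f (s y) = y := fun y => LinearMap.congr_fun h y
      apply LinearMap.ext
      rintro ⟨⟨z, hz⟩, y⟩
      rw [LinearMap.mem_ker] at hz
      apply Prod.ext
      · apply Subtype.ext
        simp [retr_coe, hz, hs]
      · simp [hz, hs])
    (by
      ext x
      simp [retr_coe])

lemma splitEquiv_fst_coe (f : M →ₗ[R] N) (s : N →ₗ[R] M) (h : f ∘ₗ s = LinearMap.id) (x : M) :
    (((splitEquiv f s h x).1 : LinearMap.ker f) : M) = x - s (f x) := rfl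

lemma splitEquiv_snd (f : M →ₗ[R] N) (s : N →ₗ[R] M) (h : f ∘ₗ s = LinearMap.id) (x : M) :
    (splitEquiv f s h x).2 = f x := rfl

variable (k : Type*) [CommRing k] [Algebra R k]

/-- base change of the kernel of a split surjection is the kernel of the base change -/
noncomputable def kerBaseChangeEquiv (f : M →ₗ[R] N) (s : N →ₗ[R] M) (h : f ∘ₗ s = LinearMap.id) :
    k ⊗[R] LinearMap.ker f ≃ₗ[k] LinearMap.ker (f.baseChange k) :=
  LinearEquiv.ofLinearMap
    (LinearMap.codRestrict _ ((LinearMap.ker f).subtype.baseChange k) (fun z => by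
      rw [LinearMap.mem_ker, ← LinearMap.comp_apply, ← LinearMap.baseChange_comp]
      have h0 : f ∘ₗ (LinearMap.ker f).subtype = 0 := LinearMap.comp_ker_subtype f
      rw [h0, LinearMap.baseChange_zero, LinearMap.zero_apply]))
    ((retr f s h).baseChange k ∘ₗ (LinearMap.ker (f.baseChange k)).subtype)
    (by
      apply LinearMap.ext
      rintro ⟨w, hw⟩
      rw [LinearMap.mem_ker] at hw
      apply Subtype.ext
      show ((LinearMap.ker f).subtype.baseChange k) ((retr f s h).baseChange k w) = w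
      rw [← LinearMap.comp_apply, ← LinearMap.baseChange_comp, subtype_comp_retr,
        LinearMap.baseChange_sub, LinearMap.baseChange_id, LinearMap.baseChange_comp,
        LinearMap.sub_apply, LinearMap.id_apply, LinearMap.comp_apply, hw, map_zero, sub_zero])
    (by
      apply LinearMap.ext
      intro z
      show (retr f s h).baseChange k (((LinearMap.ker f).subtype.baseChange k) z) = z
      rw [← LinearMap.comp_apply, ← LinearMap.baseChange_comp, retr_comp_subtype,
        LinearMap.baseChange_id, LinearMap.id_apply])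

end Split

section Step

open CategoryTheory

variable {R : Type u} [CommRing R] (I : Ideal R)
  (Pc : ObjectProperty (ModuleCat.{u} R)) [Pc.IsClosedUnderIsomorphisms]

section

variable (h2 : ∀ X Y : ModuleCat.{u} R, Pc X → Pc (ModuleCat.of R (X × Y)) → Pc Y)

include h2 in
/-- the class contains the zero modules as soon as it is nonempty -/
lemma pc_of_subsingleton (X : ModuleCat.{u} R) (hX : Pc X) (Z : ModuleCat.{u} R) [Subsingleton Z] :
    Pc Z := by
  refine h2 X Z hX (Pc.prop_of_iso (LinearEquiv.toModuleIso ?_) hX)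
  exact LinearEquiv.ofLinearMap (LinearMap.inl R X Z) (LinearMap.fst R X Z)
    (by
      apply LinearMap.ext
      rintro ⟨x, z⟩
      exact Prod.ext rfl (Subsingleton.elim _ _))
    (by ext x; rfl)

end

variable (h1 : ∀ X : ModuleCat.{u} R, Pc X → Module.Projective R X)
  (h2 : ∀ X Y : ModuleCat.{u} R, Pc X → Pc (ModuleCat.of R (X × Y)) → Pc Y)
  (h3 : ∀ (X Y : ModuleCat.{u} R) (f : X ⟶ Y), Pc X → Pc Y →
      LinearMap.range f.hom ⊔ I • (⊤ : Submodule R Y) = ⊤ → Function.Surjective f.hom)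

lemma mk_one_tmul_eq (M : Type u) [AddCommGroup M] [Module R M] (r : R) (x : M) :
    (Ideal.Quotient.mk I r) ⊗ₜ[R] x = (1 : R ⧸ I) ⊗ₜ[R] (r • x) := by
  rw [TensorProduct.tmul_smul, TensorProduct.smul_tmul', Algebra.smul_def, mul_one]
  rfl

lemma mem_smul_top_of_mk_eq_zero (M : Type u) [AddCommGroup M] [Module R M] (y : M)
    (h : (1 : R ⧸ I) ⊗ₜ[R] y = 0) : y ∈ I • (⊤ : Submodule R M) := by
  have h' := congrArg (quotTensorEquivQuotSMul M I) h
  rw [map_zero, quotTensorEquivQuotSMul_mk_one_tmul] at h'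
  exact (Submodule.Quotient.mk_eq_zero _).1 h'

include h1 h2 h3 in
/-- the inductive step: lift the kernel of a surjection -/
theorem step {Zn En : Type u} [AddCommGroup Zn] [Module (R ⧸ I) Zn] [AddCommGroup En]
    [Module (R ⧸ I) En] (Qn X : ModuleCat.{u} R) (hQ : Pc Qn) (hX : Pc X)
    (σ : (R ⧸ I) ⊗[R] Qn ≃ₗ[R ⧸ I] Zn) (τ : (R ⧸ I) ⊗[R] X ≃ₗ[R ⧸ I] En)
    (δ : En →ₗ[R ⧸ I] Zn) (hδ : Function.Surjective δ) :
    ∃ Q' : ModuleCat.{u} R, Pc Q' ∧ Pc (ModuleCat.of R (Q' × Qn)) ∧
      Nonempty ((R ⧸ I) ⊗[R] Q' ≃ₗ[R ⧸ I] LinearMap.ker δ) := by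
  have hXp := h1 X hX
  have hQp := h1 Qn hQ
  let q : Qn →ₗ[R] (R ⧸ I) ⊗[R] Qn := TensorProduct.mk R (R ⧸ I) Qn 1
  let qX : X →ₗ[R] (R ⧸ I) ⊗[R] X := TensorProduct.mk R (R ⧸ I) X 1
  have hq : Function.Surjective q :=
    TensorProduct.mk_surjective (R := R) (S := R ⧸ I) (M := Qn) Ideal.Quotient.mk_surjective
  have hqX : Function.Surjective qX :=
    TensorProduct.mk_surjective (R := R) (S := R ⧸ I) (M := X) Ideal.Quotient.mk_surjective
  let g : (R ⧸ I) ⊗[R] X →ₗ[R ⧸ I] (R ⧸ I) ⊗[R] Qn :=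
    σ.symm.toLinearMap ∘ₗ δ ∘ₗ τ.toLinearMap
  have hg : Function.Surjective g := σ.symm.surjective.comp (hδ.comp τ.surjective)
  obtain ⟨π, hπ⟩ := Module.projective_lifting_property q ((g.restrictScalars R) ∘ₗ qX) hq
  have hπ' : ∀ x : X, (1 : R ⧸ I) ⊗ₜ[R] π x = g ((1 : R ⧸ I) ⊗ₜ[R] x) := fun x =>
    LinearMap.congr_fun hπ x
  have hbc : π.baseChange (R ⧸ I) = g := by
    refine TensorProduct.AlgebraTensorModule.ext fun a x => ?_
    obtain ⟨r, rfl⟩ := Ideal.Quotient.mk_surjective a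
    rw [mk_one_tmul_eq, LinearMap.baseChange_tmul, hπ']
  have hsurj : Function.Surjective π := by
    have h := h3 X Qn (ModuleCat.ofHom π) hX hQ ?_
    · exact h
    · rw [eq_top_iff]
      intro y _
      obtain ⟨x, hx⟩ := (hg.comp hqX) (q y)
      have hx' : (1 : R ⧸ I) ⊗ₜ[R] π x = (1 : R ⧸ I) ⊗ₜ[R] y := (hπ' x).trans hx
      have hmem : y - π x ∈ I • (⊤ : Submodule R Qn) := by
        apply mem_smul_top_of_mk_eq_zero
        rw [TensorProduct.tmul_sub, hx', sub_self]
      have hy : y = π x + (y - π x) := by abel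
      rw [hy]
      exact Submodule.add_mem_sup ⟨x, rfl⟩ hmem
  obtain ⟨s, hs⟩ := Module.projective_lifting_property π LinearMap.id hsurj
  let e := splitEquiv π s hs
  have hprod : Pc (ModuleCat.of R (LinearMap.ker π × Qn)) :=
    Pc.prop_of_iso e.toModuleIso hX
  have hprod' : Pc (ModuleCat.of R (Qn × (ModuleCat.of R (LinearMap.ker π)))) :=
    Pc.prop_of_iso (LinearEquiv.prodComm R (LinearMap.ker π) Qn).toModuleIso hprod
  refine ⟨ModuleCat.of R (LinearMap.ker π), h2 Qn _ hQ hprod', hprod, ⟨?_⟩⟩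
  have hker : LinearMap.ker (π.baseChange (R ⧸ I)) = (LinearMap.ker δ).comap τ.toLinearMap := by
    rw [hbc]
    ext w
    simp [g, LinearMap.mem_ker]
  exact kerBaseChangeEquiv (R ⧸ I) π s hs ≪≫ₗ LinearEquiv.ofEq _ _ hker ≪≫ₗ
    τ.ofSubmodule' (LinearMap.ker δ)

end Step

end Groth.Agent.Lib.Helper5.LiftA
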