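import Mathlib
import Groth.Agent.Lib.Helper5LiftA

/-!
# Split complexes (helper5)

`splitCx Q` has terms `Q i ⊞ Q (i+1)` and differential `(x, y) ↦ (y, 0)`.  Every bounded above acyclic
complex of projective modules is isomorphic to the split complex on its modules of cycles.
-/

set_option autoImplicit false
universe u v
open CategoryTheory CategoryTheory.Limits

namespace Groth.Agent.Lib.Helper5.LiftB

open Groth.Agent.Lib.Helper5.LiftA

section Split

variable {C : Type*} [Category C] [Preadditive C] [HasBinaryBiproducts C]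

/-- the split complex with terms `Q i ⊞ Q (i+1)` and differential `(x,y) ↦ (y,0)` -/
noncomputable abbrev splitCx (Q : ℤ → C) : CochainComplex C ℤ :=
  CochainComplex.of (fun i => Q i ⊞ Q (i + 1)) (fun _ => biprod.snd ≫ biprod.inl)
    (fun _ => by simp)

lemma splitCx_X (Q : ℤ → C) (i : ℤ) : (splitCx Q).X i = (Q i ⊞ Q (i + 1)) := rfl

lemma splitCx_d (Q : ℤ → C) (i : ℤ) :
    (splitCx Q).d i (i + 1) = (biprod.snd ≫ biprod.inl : Q i ⊞ Q (i + 1) ⟶ Q (i + 1) ⊞ Q (i + 1 + 1)) :=
  CochainComplex.of_d (fun i => Q i ⊞ Q (i + 1)) (fun _ => biprod.snd ≫ biprod.inl) i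

/-- isomorphic families give isomorphic split complexes -/
noncomputable def splitCxIso {Q Q' : ℤ → C} (e : ∀ i, Q i ≅ Q' i) : splitCx Q ≅ splitCx Q' :=
  HomologicalComplex.Hom.isoOfComponents (fun i => biprod.mapIso (e i) (e (i + 1)))
    (by
      rintro i j (rfl : i + 1 = j)
      rw [splitCx_d, splitCx_d]
      simp only [biprod.mapIso_hom, Category.assoc, biprod.map_snd_assoc, biprod.inl_map])

variable {D : Type*} [Category D] [Preadditive D] [HasBinaryBiproducts D] (F : C ⥤ D) [F.Additive]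

lemma mapBiprod_comm [PreservesBinaryBiproducts F] (A B C' : C) :
    (F.mapBiprod A B).hom ≫ (biprod.snd ≫ biprod.inl : F.obj A ⊞ F.obj B ⟶ F.obj B ⊞ F.obj C') =
      F.map (biprod.snd ≫ biprod.inl : A ⊞ B ⟶ B ⊞ C') ≫ (F.mapBiprod B C').hom := by
  apply biprod.hom_ext
  · rw [Functor.mapBiprod_hom, Functor.mapBiprod_hom, Category.assoc, Category.assoc,
      Category.assoc, biprod.inl_fst, Category.comp_id, biprod.lift_snd, biprod.lift_fst,
      ← F.map_comp, Category.assoc, biprod.inl_fst, Category.comp_id]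
  · rw [Functor.mapBiprod_hom, Functor.mapBiprod_hom, Category.assoc, Category.assoc,
      Category.assoc, biprod.inl_snd, comp_zero, comp_zero, biprod.lift_snd,
      ← F.map_comp, Category.assoc, biprod.inl_snd, comp_zero, F.map_zero]

/-- an additive functor maps split complexes to split complexes -/
noncomputable def mapSplitCxIso (Q : ℤ → C) :
    (F.mapHomologicalComplex (ComplexShape.up ℤ)).obj (splitCx Q) ≅
      splitCx (fun i => F.obj (Q i)) :=
  haveI := preservesBinaryBiproducts_of_preservesBiproducts F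
  HomologicalComplex.Hom.isoOfComponents (fun i => F.mapBiprod (Q i) (Q (i + 1)))
    (by
      rintro i j (rfl : i + 1 = j)
      rw [splitCx_d, Functor.mapHomologicalComplex_obj_d, splitCx_d]
      exact mapBiprod_comm F _ _ _)

end Split

section Acyclic

variable {R : Type u} [Ring R]

lemma inl_fst_apply (M N : ModuleCat.{v} R) (x : M) :
    (biprod.fst : M ⊞ N ⟶ M).hom ((biprod.inl : M ⟶ M ⊞ N).hom x) = x :=
  LinearMap.congr_fun (congrArg ModuleCat.Hom.hom (biprod.inl_fst (X := M) (Y := N))) x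

lemma inr_snd_apply (M N : ModuleCat.{v} R) (x : N) :
    (biprod.snd : M ⊞ N ⟶ N).hom ((biprod.inr : N ⟶ M ⊞ N).hom x) = x :=
  LinearMap.congr_fun (congrArg ModuleCat.Hom.hom (biprod.inr_snd (X := M) (Y := N))) x

lemma total_apply (M N : ModuleCat.{v} R) (x : (M ⊞ N : ModuleCat.{v} R)) :
    (biprod.inl : M ⟶ M ⊞ N).hom ((biprod.fst : M ⊞ N ⟶ M).hom x) +
      (biprod.inr : N ⟶ M ⊞ N).hom ((biprod.snd : M ⊞ N ⟶ N).hom x) = x :=
  LinearMap.congr_fun (congrArg ModuleCat.Hom.hom (biprod.total (X := M) (Y := N))) x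

lemma exactAt_of_elem (K : CochainComplex (ModuleCat.{v} R) ℤ) (i : ℤ)
    (h : ∀ x : K.X (i + 1), (K.d (i + 1) (i + 1 + 1)).hom x = 0 →
      ∃ y : K.X i, (K.d i (i + 1)).hom y = x) : K.ExactAt (i + 1) := by
  rw [HomologicalComplex.exactAt_iff' _ i (i + 1) (i + 1 + 1) (by simp) (by simp),
    ShortComplex.moduleCat_exact_iff]
  exact h

lemma aux_exact {A B C D : ModuleCat.{v} R} (x : ↑(B ⊞ C : ModuleCat.{v} R))
    (hx : (biprod.snd ≫ biprod.inl : B ⊞ C ⟶ C ⊞ D).hom x = 0) :
    ∃ y : ↑(A ⊞ B : ModuleCat.{v} R), (biprod.snd ≫ biprod.inl : A ⊞ B ⟶ B ⊞ C).hom y = x := by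
  have h1 : (biprod.snd : B ⊞ C ⟶ C).hom x = 0 := by
    have h := congrArg (biprod.fst : C ⊞ D ⟶ C).hom hx
    rw [ModuleCat.comp_apply, inl_fst_apply] at h
    rw [h, map_zero]
  refine ⟨(biprod.inr : B ⟶ A ⊞ B).hom ((biprod.fst : B ⊞ C ⟶ B).hom x), ?_⟩
  rw [ModuleCat.comp_apply, inr_snd_apply]
  have h2 := total_apply B C x
  rw [h1, map_zero, add_zero] at h2
  exact h2

/-- split complexes of modules are acyclic -/
lemma splitCx_acyclic (Q : ℤ → ModuleCat.{v} R) : (splitCx Q).Acyclic := by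
  intro j
  obtain ⟨i, rfl⟩ : ∃ i, j = i + 1 := ⟨j - 1, by ring⟩
  refine exactAt_of_elem _ i (fun x hx => ?_)
  rw [splitCx_d] at hx ⊢
  exact aux_exact x hx

end Acyclic

section Decomp

variable {k : Type u} [CommRing k] (E : CochainComplex (ModuleCat.{u} k) ℤ)

/-- cycles -/
abbrev Zm (i : ℤ) : Submodule k (E.X i) := LinearMap.ker (E.d i (i + 1)).hom

/-- the differential, corestricted to cycles -/
def dTo (i j : ℤ) : E.X i →ₗ[k] Zm E j :=
  LinearMap.codRestrict _ (E.d i j).hom (fun x => by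
    rw [LinearMap.mem_ker]
    exact congrArg (fun f => f.hom x) (E.d_comp_d i j (j + 1)))

lemma dTo_coe (i j : ℤ) (x : E.X i) : ((dTo E i j x : Zm E j) : E.X j) = (E.d i j).hom x := rfl

lemma dTo_surjective (i j : ℤ) (h : i + 1 = j) (hex : E.ExactAt j) :
    Function.Surjective (dTo E i j) := by
  rintro ⟨y, hy⟩
  have h' := (E.exactAt_iff' i j (j + 1) (by subst h; simp) (by simp)).1 hex
  rw [ShortComplex.moduleCat_exact_iff] at h'
  obtain ⟨x, hx⟩ := h' y hy
  exact ⟨x, Subtype.ext hx⟩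

lemma ker_dTo (i j : ℤ) (h : i + 1 = j) : LinearMap.ker (dTo E i j) = Zm E i := by
  subst h
  ext x
  simp only [LinearMap.mem_ker]
  constructor
  · intro hx
    have := congrArg Subtype.val hx
    exact this
  · intro hx
    exact Subtype.ext hx

lemma projective_Zm (b : ℤ) (hb : ∀ i : ℤ, b < i → IsZero (E.X i)) (hex : E.Acyclic)
    (hp : ∀ i : ℤ, Module.Projective k (E.X i)) : ∀ i : ℤ, Module.Projective k (Zm E i) := by
  have key : ∀ (n : ℕ) (i : ℤ), b < i + n → Module.Projective k (Zm E i) := by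
    intro n
    induction n with
    | zero =>
      intro i hi
      have : Subsingleton (E.X i) := ModuleCat.subsingleton_of_isZero (hb i (by simpa using hi))
      have : Subsingleton (Zm E i) := inferInstance
      infer_instance
    | succ n ih =>
      intro i hi
      have hZ := ih (i + 1) (by push_cast at hi; lia)
      have := hp i
      obtain ⟨s, hs⟩ := Module.projective_lifting_property (dTo E i (i + 1)) LinearMap.id
        (dTo_surjective E i (i + 1) rfl (hex (i + 1)))
      have h1 : Module.Projective k (LinearMap.ker (dTo E i (i + 1))) :=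
        Module.Projective.of_split (LinearMap.ker (dTo E i (i + 1))).subtype
          (retr (dTo E i (i + 1)) s hs) (retr_comp_subtype _ s hs)
      rw [ker_dTo E i (i + 1) rfl] at h1
      exact h1
  intro i
  exact key (b + 1 - i).toNat i (by lia)

lemma inl_biprodIsoProd_hom (M N : ModuleCat.{u} k) :
    (biprod.inl : M ⟶ M ⊞ N) ≫ (ModuleCat.biprodIsoProd M N).hom =
      ModuleCat.ofHom (LinearMap.inl k M N) := by
  rw [← Iso.eq_comp_inv]
  apply biprod.hom_ext
  · rw [Category.assoc, ModuleCat.biprodIsoProd_inv_comp_fst, biprod.inl_fst]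
    rfl
  · rw [Category.assoc, ModuleCat.biprodIsoProd_inv_comp_snd, biprod.inl_snd]
    rfl

/-- a bounded above acyclic complex of projective modules is the split complex on its cycles -/
theorem exists_iso_splitCx (b : ℤ) (hb : ∀ i : ℤ, b < i → IsZero (E.X i)) (hex : E.Acyclic)
    (hp : ∀ i : ℤ, Module.Projective k (E.X i)) :
    Nonempty (E ≅ splitCx (fun i => ModuleCat.of k (Zm E i))) := by
  have hZ := projective_Zm E b hb hex hp
  have hs : ∀ i, ∃ s : Zm E (i + 1) →ₗ[k] E.X i, dTo E i (i + 1) ∘ₗ s = LinearMap.id := fun i =>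
    Module.projective_lifting_property _ _ (dTo_surjective E i (i + 1) rfl (hex (i + 1)))
  choose s hs using hs
  let eqv : ∀ i, E.X i ≃ₗ[k] (Zm E i × Zm E (i + 1)) := fun i =>
    (splitEquiv (dTo E i (i + 1)) (s i) (hs i)).trans
      ((LinearEquiv.ofEq _ _ (ker_dTo E i (i + 1) rfl)).prodCongr (LinearEquiv.refl _ _))
  have eqv_fst : ∀ i (x : E.X i), (((eqv i x).1 : Zm E i) : E.X i) = x - s i (dTo E i (i + 1) x) :=
    fun i x => rfl
  have eqv_snd : ∀ i (x : E.X i), (eqv i x).2 = dTo E i (i + 1) x := fun i x => rfl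
  refine ⟨HomologicalComplex.Hom.isoOfComponents
    (fun i => (eqv i).toModuleIso ≪≫ (ModuleCat.biprodIsoProd (ModuleCat.of k (Zm E i))
      (ModuleCat.of k (Zm E (i + 1)))).symm) ?_⟩
  rintro i j (rfl : i + 1 = j)
  rw [splitCx_d]
  have hdd : ∀ x : E.X i, dTo E (i + 1) (i + 1 + 1) ((E.d i (i + 1)).hom x) = 0 := fun x =>
    Subtype.ext (congrArg (fun f => f.hom x) (E.d_comp_d i (i + 1) (i + 1 + 1)))
  apply biprod.hom_ext
  · simp only [Iso.trans_hom, Iso.symm_hom, Category.assoc, biprod.inl_fst, Category.comp_id,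
      ModuleCat.biprodIsoProd_inv_comp_fst, ModuleCat.biprodIsoProd_inv_comp_snd]
    ext x
    show (((eqv i x).2 : Zm E (i + 1)) : E.X (i + 1)) =
      (((eqv (i + 1) ((E.d i (i + 1)).hom x)).1 : Zm E (i + 1)) : E.X (i + 1))
    rw [eqv_snd, eqv_fst, hdd, map_zero, sub_zero]
    rfl
  · simp only [Iso.trans_hom, Iso.symm_hom, Category.assoc, biprod.inl_snd, comp_zero,
      ModuleCat.biprodIsoProd_inv_comp_snd]
    ext x
    show ((0 : Zm E (i + 1 + 1)) : E.X (i + 1 + 1)) =
      (((eqv (i + 1) ((E.d i (i + 1)).hom x)).2 : Zm E (i + 1 + 1)) : E.X (i + 1 + 1))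
    rw [eqv_snd, hdd]

end Decomp

end Groth.Agent.Lib.Helper5.LiftB
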