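import Mathlib
import Groth.Prelude.Def_DRing2
import Groth.Prelude.Def_DDual2
import Groth.Agent.Lib.Helper5LiftB
import Groth.Agent.Lib.Helper1Extend

/-!
# Lifting acyclic complexes along `R → R/I` (helper5)

Stacks, More on Algebra, "Lifting complexes": a bounded above acyclic complex of `R/I`-modules whose
terms lift to a class `Pc` of projective `R`-modules lifts to a split (hence acyclic) complex with
terms in `Pc`.
-/

set_option autoImplicit false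
universe u
open CategoryTheory CategoryTheory.Limits TensorProduct

namespace Groth.Agent.Lib.Helper5.LiftC

open Groth.Agent.Lib.Helper5.LiftA Groth.Agent.Lib.Helper5.LiftB

variable {R : Type u} [CommRing R] (I : Ideal R)
  (Pc : ObjectProperty (ModuleCat.{u} R)) [Pc.IsClosedUnderIsomorphisms]
  (h1 : ∀ X : ModuleCat.{u} R, Pc X → Module.Projective R X)
  (h2 : ∀ X Y : ModuleCat.{u} R, Pc X → Pc (ModuleCat.of R (X × Y)) → Pc Y)
  (h3 : ∀ (X Y : ModuleCat.{u} R) (f : X ⟶ Y), Pc X → Pc Y →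
      LinearMap.range f.hom ⊔ I • (⊤ : Submodule R Y) = ⊤ → Function.Surjective f.hom)
  (E : CochainComplex (ModuleCat.{u} (R ⧸ I)) ℤ) (b : ℤ)
  (hEb : ∀ i : ℤ, b < i → IsZero (E.X i)) (hEa : E.Acyclic)
  (hEt : ∀ i : ℤ, ∃ X : ModuleCat.{u} R, Pc X ∧
    Nonempty ((R ⧸ I) ⊗[R] X ≃ₗ[R ⧸ I] E.X i))

/-- the state of the descending induction: a lift of the cycles in degree `b + 1 - n` -/
structure Stg (n : ℕ) where
  Q : ModuleCat.{u} R
  pc : Pc Q
  eqv : Nonempty ((R ⧸ I) ⊗[R] Q ≃ₗ[R ⧸ I] Zm E (b + 1 - n))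

instance subsingleton_tensor_punit : Subsingleton ((R ⧸ I) ⊗[R] (PUnit.{u + 1} : Type u)) :=
  (TensorProduct.mk_surjective (R := R) (S := R ⧸ I) (M := PUnit.{u + 1})
    Ideal.Quotient.mk_surjective).subsingleton

include hEb in
lemma subsingleton_Zm (i : ℤ) (hi : b < i) : Subsingleton (Zm E i) := by
  have : Subsingleton (E.X i) := ModuleCat.subsingleton_of_isZero (hEb i hi)
  infer_instance

include h2 hEb hEt in
lemma exists_stg0 : Nonempty (Stg I Pc E b 0) := by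
  obtain ⟨X, hX, -⟩ := hEt 0
  have : Subsingleton (Zm E (b + 1 - (0 : ℕ))) := subsingleton_Zm I E b hEb _ (by simp)
  exact ⟨⟨ModuleCat.of R PUnit, pc_of_subsingleton Pc h2 X hX _,
    ⟨LinearEquiv.ofSubsingleton _ _⟩⟩⟩

/-- the initial stage -/
noncomputable def stg0 : Stg I Pc E b 0 where
  Q := ModuleCat.of R PUnit
  pc := (exists_stg0 I Pc h2 E b hEb hEt).elim fun _ => by
    obtain ⟨X, hX, -⟩ := hEt 0
    exact pc_of_subsingleton Pc h2 X hX _
  eqv := by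
    have : Subsingleton (Zm E (b + 1 - (0 : ℕ))) := subsingleton_Zm I E b hEb _ (by simp)
    exact ⟨LinearEquiv.ofSubsingleton _ _⟩

include h1 h2 h3 hEa hEt in
lemma exists_next (n : ℕ) (s : Stg I Pc E b n) :
    ∃ s' : Stg I Pc E b (n + 1), Pc (ModuleCat.of R (s'.Q × s.Q)) := by
  have hij : b + 1 - ((n + 1 : ℕ) : ℤ) + 1 = b + 1 - (n : ℤ) := by push_cast; ring
  obtain ⟨X, hX, ⟨τ⟩⟩ := hEt (b + 1 - ((n + 1 : ℕ) : ℤ))
  obtain ⟨σ⟩ := s.eqv
  obtain ⟨Q', hQ', hprod, ⟨e⟩⟩ := step I Pc h1 h2 h3 s.Q X s.pc hX σ τ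
    (dTo E (b + 1 - ((n + 1 : ℕ) : ℤ)) (b + 1 - (n : ℤ)))
    (dTo_surjective E _ _ hij (hEa _))
  exact ⟨⟨Q', hQ', ⟨e ≪≫ₗ LinearEquiv.ofEq _ _ (ker_dTo E _ _ hij)⟩⟩, hprod⟩

/-- the next stage -/
noncomputable def next (n : ℕ) (s : Stg I Pc E b n) : Stg I Pc E b (n + 1) :=
  (exists_next I Pc h1 h2 h3 E b hEa hEt n s).choose

lemma next_spec (n : ℕ) (s : Stg I Pc E b n) :
    Pc (ModuleCat.of R ((next I Pc h1 h2 h3 E b hEa hEt n s).Q × s.Q)) :=
  (exists_next I Pc h1 h2 h3 E b hEa hEt n s).choose_spec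

/-- the sequence of stages -/
noncomputable def seq : ∀ n : ℕ, Stg I Pc E b n
  | 0 => stg0 I Pc h2 E b hEb hEt
  | n + 1 => next I Pc h1 h2 h3 E b hEa hEt n (seq n)

/-- the lifts of the modules of cycles -/
noncomputable def W (i : ℤ) : ModuleCat.{u} R :=
  (seq I Pc h1 h2 h3 E b hEb hEa hEt (b + 1 - i).toNat).Q

lemma pc_W (i : ℤ) : Pc (W I Pc h1 h2 h3 E b hEb hEa hEt i) :=
  (seq I Pc h1 h2 h3 E b hEb hEa hEt (b + 1 - i).toNat).pc

lemma W_of_lt (i : ℤ) (hi : b < i) :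
    W I Pc h1 h2 h3 E b hEb hEa hEt i = ModuleCat.of R PUnit := by
  have h0 : (b + 1 - i).toNat = 0 := by omega
  unfold W
  rw [h0]
  rfl

lemma subsingleton_W (i : ℤ) (hi : b < i) :
    Subsingleton (W I Pc h1 h2 h3 E b hEb hEa hEt i) := by
  rw [W_of_lt I Pc h1 h2 h3 E b hEb hEa hEt i hi]
  exact inferInstanceAs (Subsingleton PUnit)

lemma eqv_W (i : ℤ) :
    Nonempty ((R ⧸ I) ⊗[R] (W I Pc h1 h2 h3 E b hEb hEa hEt i) ≃ₗ[R ⧸ I] Zm E i) := by
  by_cases hi : i ≤ b + 1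
  · have hn : b + 1 - (((b + 1 - i).toNat : ℕ) : ℤ) = i := by omega
    have h := (seq I Pc h1 h2 h3 E b hEb hEa hEt (b + 1 - i).toNat).eqv
    rw [hn] at h
    exact h
  · have hi' : b < i := by omega
    rw [W_of_lt I Pc h1 h2 h3 E b hEb hEa hEt i hi']
    have : Subsingleton (Zm E i) := subsingleton_Zm I E b hEb i hi'
    exact ⟨LinearEquiv.ofSubsingleton _ _⟩

include h2 in
lemma pc_prod_W (i : ℤ) :
    Pc (ModuleCat.of R (W I Pc h1 h2 h3 E b hEb hEa hEt i × W I Pc h1 h2 h3 E b hEb hEa hEt (i + 1))) := by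
  by_cases hi : i ≤ b
  · have hn : (b + 1 - i).toNat = (b + 1 - (i + 1)).toNat + 1 := by omega
    unfold W
    rw [hn]
    exact next_spec I Pc h1 h2 h3 E b hEa hEt _ _
  · have hi' : b < i := by omega
    rw [W_of_lt I Pc h1 h2 h3 E b hEb hEa hEt i hi',
      W_of_lt I Pc h1 h2 h3 E b hEb hEa hEt (i + 1) (by omega)]
    obtain ⟨X, hX, -⟩ := hEt 0
    have : Subsingleton (ModuleCat.of R ((ModuleCat.of R PUnit.{u + 1} : ModuleCat.{u} R) ×
        (ModuleCat.of R PUnit.{u + 1} : ModuleCat.{u} R))) :=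
      inferInstanceAs (Subsingleton (PUnit × PUnit))
    exact pc_of_subsingleton Pc h2 X hX _

include hEt h1 in
lemma projective_E (i : ℤ) : Module.Projective (R ⧸ I) (E.X i) := by
  obtain ⟨X, hX, ⟨τ⟩⟩ := hEt i
  have := h1 X hX
  exact Module.Projective.of_equiv τ

/-- the functor of reduction modulo `I` -/
noncomputable abbrev Fr : ModuleCat.{u} R ⥤ ModuleCat.{u} (R ⧸ I) :=
  ModuleCat.extendScalars.{u, u, u} (Ideal.Quotient.mk I)

/-- identification of `Fr` with the tensor product -/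
noncomputable def frIso (M : ModuleCat.{u} R) :
    (Fr I).obj M ≅ ModuleCat.of (R ⧸ I) ((R ⧸ I) ⊗[R] M) :=
  Groth.Agent.Lib.Helper1.Extend.extIso (A := R) (B := R ⧸ I) M

include h1 h2 h3 hEb hEa hEt in
/-- the main lifting theorem, in split form -/
theorem main : ∃ W : ℤ → ModuleCat.{u} R, (∀ i, Pc (W i)) ∧
    (∀ i, Pc (ModuleCat.of R (W i × W (i + 1)))) ∧ (∀ i, b < i → Subsingleton (W i)) ∧
    Nonempty (((Fr I).mapHomologicalComplex (ComplexShape.up ℤ)).obj (splitCx W) ≅ E) := by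
  refine ⟨W I Pc h1 h2 h3 E b hEb hEa hEt, pc_W I Pc h1 h2 h3 E b hEb hEa hEt,
    pc_prod_W I Pc h1 h2 h3 E b hEb hEa hEt, subsingleton_W I Pc h1 h2 h3 E b hEb hEa hEt, ?_⟩
  obtain ⟨e1⟩ := exists_iso_splitCx E b hEb hEa (projective_E I Pc h1 E hEt)
  have hσ := eqv_W I Pc h1 h2 h3 E b hEb hEa hEt
  exact ⟨mapSplitCxIso (Fr I) _ ≪≫
    splitCxIso (fun i => frIso I _ ≪≫ (hσ i).some.toModuleIso) ≪≫ e1.symm⟩

end Groth.Agent.Lib.Helper5.LiftC
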