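import Mathlib
import Groth.Agent.Lib.Helper5LiftA

/-!
# Finite stably free modules and ideals contained in the Jacobson radical (helper5)
-/

set_option autoImplicit false
universe u
open TensorProduct CategoryTheory

namespace Groth.Agent.Lib.Helper5.LiftG

open Groth.Agent.Lib.Helper5.LiftA

variable {R : Type u} [CommRing R] (I : Ideal R)

/-- the class of finite stably free modules -/
def SF : ObjectProperty (ModuleCat.{u} R) :=
  fun X => Module.Finite R X ∧ Module.IsStablyFree R X

instance : (SF (R := R)).IsClosedUnderIsomorphisms := ⟨fun {X Y} e hX => by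
  obtain ⟨h1, h2⟩ := hX
  exact ⟨Module.Finite.equiv e.toLinearEquiv, Module.IsStablyFree.equiv e.toLinearEquiv⟩⟩

lemma sf_projective (X : ModuleCat.{u} R) (h : SF X) : Module.Projective R X := by
  obtain ⟨_, h2⟩ := h
  infer_instance

/-- a rearrangement of factors -/
def prodAux (X Y N₁ N : Type*) [AddCommGroup X] [Module R X] [AddCommGroup Y] [Module R Y]
    [AddCommGroup N₁] [Module R N₁] [AddCommGroup N] [Module R N] :
    (Y × ((X × N₁) × N)) ≃ₗ[R] (((X × Y) × N) × N₁) where
  toFun p := (((p.2.1.1, p.1), p.2.2), p.2.1.2)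
  invFun q := (q.1.1.2, ((q.1.1.1, q.2), q.1.2))
  map_add' := fun _ _ => rfl
  map_smul' := fun _ _ => rfl
  left_inv := fun _ => rfl
  right_inv := fun _ => rfl

lemma sf_prod_iff (X Y : ModuleCat.{u} R) (hX : SF X) :
    SF (ModuleCat.of R (X × Y)) ↔ SF Y := by
  obtain ⟨hXf, hXs⟩ := hX
  constructor
  · rintro ⟨hf, hs⟩
    have hf' : Module.Finite R (X × Y) := hf
    have hs' : Module.IsStablyFree R (X × Y) := hs
    obtain ⟨N₁, _, _, _, _, _⟩ := Module.IsStablyFree.exist_free_prod R X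
    obtain ⟨N, _, _, _, _, _⟩ := Module.IsStablyFree.exist_free_prod R (X × Y)
    refine ⟨Module.Finite.of_surjective (LinearMap.snd R X Y) LinearMap.snd_surjective, ?_⟩
    haveI : Module.Free R (Y × ((X × N₁) × N)) :=
      Module.Free.of_equiv (prodAux (R := R) X Y N₁ N).symm
    exact Module.IsStablyFree.of_free_prod R Y ((X × N₁) × N)
  · rintro ⟨hYf, hYs⟩
    obtain ⟨N₁, _, _, _, _, _⟩ := Module.IsStablyFree.exist_free_prod R X
    obtain ⟨N₂, _, _, _, _, _⟩ := Module.IsStablyFree.exist_free_prod R Y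
    have hfin : Module.Finite R (X × Y) := inferInstance
    haveI : Module.Free R ((X × Y) × (N₁ × N₂)) :=
      Module.Free.of_equiv (LinearEquiv.prodProdProdComm R X N₁ Y N₂)
    exact ⟨hfin, Module.IsStablyFree.of_free_prod R (X × Y) (N₁ × N₂)⟩

/-- Nakayama -/
lemma surjective_of_jac (hI : I ≤ Ideal.jacobson ⊥) (X Y : ModuleCat.{u} R) (f : X ⟶ Y)
    (hY : Module.Finite R Y)
    (h : LinearMap.range f.hom ⊔ I • (⊤ : Submodule R Y) = ⊤) : Function.Surjective f.hom := by
  rw [← LinearMap.range_eq_top, eq_top_iff]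
  exact Submodule.le_of_le_smul_of_le_jacobson_bot Module.Finite.fg_top hI h.ge

/-- finite free modules lift -/
lemma exists_free_lift (N : Type u) [AddCommGroup N] [Module (R ⧸ I) N]
    [Module.Finite (R ⧸ I) N] [Module.Free (R ⧸ I) N] :
    ∃ X : ModuleCat.{u} R, Module.Finite R X ∧ Module.Free R X ∧
      Nonempty ((R ⧸ I) ⊗[R] X ≃ₗ[R ⧸ I] N) := by
  classical
  let ι := Module.Free.ChooseBasisIndex (R ⧸ I) N
  let b : Module.Basis ι (R ⧸ I) N := Module.Free.chooseBasis (R ⧸ I) N
  exact ⟨ModuleCat.of R (ι → R), inferInstanceAs (Module.Finite R (ι → R)),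
    inferInstanceAs (Module.Free R (ι → R)),
    ⟨((Pi.basisFun R ι).baseChange (R ⧸ I)).equiv b (Equiv.refl ι)⟩⟩

/-- finite stably free modules lift when `I` is contained in the Jacobson radical -/
lemma exists_sf_lift (hI : I ≤ Ideal.jacobson ⊥) (Eb : Type u) [AddCommGroup Eb]
    [Module (R ⧸ I) Eb] [Module.Finite (R ⧸ I) Eb] [Module.IsStablyFree (R ⧸ I) Eb] :
    ∃ X : ModuleCat.{u} R, SF X ∧ Nonempty ((R ⧸ I) ⊗[R] X ≃ₗ[R ⧸ I] Eb) := by
  obtain ⟨N, _, _, _, _, _⟩ := Module.IsStablyFree.exist_free_prod (R ⧸ I) Eb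
  obtain ⟨Qn, hQf, hQfr, ⟨σ⟩⟩ := exists_free_lift I N
  obtain ⟨X, hXf, hXfr, ⟨τ⟩⟩ := exists_free_lift I (Eb × N)
  obtain ⟨Q', hQ', _, ⟨e⟩⟩ := step I SF sf_projective
    (fun X Y hX h => (sf_prod_iff X Y hX).1 h)
    (fun X Y f _ hY h => surjective_of_jac I hI X Y f hY.1 h) Qn X ⟨hQf, inferInstance⟩
    ⟨hXf, inferInstance⟩ σ τ (LinearMap.snd (R ⧸ I) Eb N) LinearMap.snd_surjective
  refine ⟨Q', hQ', ⟨e ≪≫ₗ LinearEquiv.ofEq _ _ (LinearMap.ker_snd (R ⧸ I) Eb N) ≪≫ₗ
    (LinearEquiv.ofInjective (LinearMap.inl (R ⧸ I) Eb N) LinearMap.inl_injective).symm⟩⟩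

/-- a map between finite modules with projective target which is bijective modulo `I` is
bijective when `I` is contained in the Jacobson radical -/
lemma bijective_of_baseChange (hI : I ≤ Ideal.jacobson ⊥) {M X : Type u} [AddCommGroup M]
    [Module R M] [AddCommGroup X] [Module R X] [Module.Finite R M] [Module.Finite R X]
    [Module.Projective R X] (g : M →ₗ[R] X)
    (hg : Function.Bijective (g.baseChange (R ⧸ I))) : Function.Bijective g := by
  have hsurj : Function.Surjective g := by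
    rw [← LinearMap.range_eq_top, eq_top_iff]
    refine Submodule.le_of_le_smul_of_le_jacobson_bot Module.Finite.fg_top hI ?_
    intro y _
    obtain ⟨z, hz⟩ := hg.2 ((1 : R ⧸ I) ⊗ₜ[R] y)
    obtain ⟨m, rfl⟩ := TensorProduct.mk_surjective (R := R) (S := R ⧸ I) (M := M)
      Ideal.Quotient.mk_surjective z
    have hx' : (1 : R ⧸ I) ⊗ₜ[R] g m = (1 : R ⧸ I) ⊗ₜ[R] y := by
      rw [← hz]
      rfl
    have hmem : y - g m ∈ I • (⊤ : Submodule R X) := by
      apply mem_smul_top_of_mk_eq_zero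
      rw [TensorProduct.tmul_sub, hx', sub_self]
    have hy : y = g m + (y - g m) := by abel
    rw [hy]
    exact Submodule.add_mem_sup ⟨m, rfl⟩ hmem
  refine ⟨?_, hsurj⟩
  obtain ⟨s, hs⟩ := Module.projective_lifting_property g LinearMap.id hsurj
  have e := kerBaseChangeEquiv (R ⧸ I) g s hs
  have hker : LinearMap.ker (g.baseChange (R ⧸ I)) = ⊥ := LinearMap.ker_eq_bot.2 hg.1
  have hsub : Subsingleton ((R ⧸ I) ⊗[R] LinearMap.ker g) := by
    haveI : Subsingleton (LinearMap.ker (g.baseChange (R ⧸ I))) := by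
      rw [hker]
      infer_instance
    exact e.toEquiv.subsingleton
  have hfin : Module.Finite R (LinearMap.ker g) :=
    Module.Finite.of_surjective (retr g s hs)
      (fun z => ⟨z, LinearMap.congr_fun (retr_comp_subtype g s hs) z⟩)
  have htop : (⊤ : Submodule R (LinearMap.ker g)) = ⊥ := by
    refine Submodule.eq_bot_of_le_smul_of_le_jacobson_bot I ⊤ Module.Finite.fg_top ?_ hI
    intro y _
    exact mem_smul_top_of_mk_eq_zero I _ y (Subsingleton.elim _ _)
  rw [← LinearMap.ker_eq_bot, eq_bot_iff]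
  intro x hx
  have hmem : (⟨x, hx⟩ : LinearMap.ker g) ∈ (⊤ : Submodule R (LinearMap.ker g)) := trivial
  rw [htop, Submodule.mem_bot] at hmem
  rw [Submodule.mem_bot]
  exact congrArg Subtype.val hmem

/-- a finite projective module with free reduction modulo `I ⊆ rad R` is free -/
lemma free_of_free_baseChange (hI : I ≤ Ideal.jacobson ⊥) (X : Type u) [AddCommGroup X]
    [Module R X] [Module.Finite R X] [Module.Projective R X]
    [Module.Free (R ⧸ I) ((R ⧸ I) ⊗[R] X)] : Module.Free R X := by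
  classical
  let ι := Module.Free.ChooseBasisIndex (R ⧸ I) ((R ⧸ I) ⊗[R] X)
  let b : Module.Basis ι (R ⧸ I) ((R ⧸ I) ⊗[R] X) := Module.Free.chooseBasis _ _
  have hq : Function.Surjective (TensorProduct.mk R (R ⧸ I) X 1) :=
    TensorProduct.mk_surjective (R := R) (S := R ⧸ I) (M := X) Ideal.Quotient.mk_surjective
  choose x hx using fun i => hq (b i)
  let g : (ι → R) →ₗ[R] X := Fintype.linearCombination R x
  let B := (Pi.basisFun R ι).baseChange (R ⧸ I)
  have hgB : g.baseChange (R ⧸ I) = (B.equiv b (Equiv.refl ι)).toLinearMap := by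
    refine B.ext fun i => ?_
    have h1 : g (Pi.basisFun R ι i) = x i := by
      simp [g, Fintype.linearCombination_apply_single]
    rw [LinearEquiv.coe_coe, Module.Basis.equiv_apply, Module.Basis.baseChange_apply,
      LinearMap.baseChange_tmul, h1]
    exact hx i
  have hbij : Function.Bijective (g.baseChange (R ⧸ I)) := by
    rw [hgB]
    exact (B.equiv b (Equiv.refl ι)).bijective
  exact Module.Free.of_equiv (LinearEquiv.ofBijective g (bijective_of_baseChange I hI g hbij))

end Groth.Agent.Lib.Helper5.LiftG
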