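import Mathlib
import Groth.Prelude.Def_DRing2
import Groth.Prelude.Def_DDual2
import Groth.Agent.Lib.Helper5LiftC

/-!
# Chain maps out of split complexes, comparison of kernels, reduction modulo `I` on maps (helper5)
-/

set_option autoImplicit false
universe u v
open CategoryTheory CategoryTheory.Limits TensorProduct

namespace Groth.Agent.Lib.Helper5.LiftD

open Groth.Agent.Lib.Helper5.LiftA Groth.Agent.Lib.Helper5.LiftB Groth.Agent.Lib.Helper5.LiftC

section ChainMaps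

variable {C : Type*} [Category C] [Preadditive C] [HasBinaryBiproducts C]
  {W : ℤ → C} (Y : CochainComplex C ℤ) (γ : ∀ j, W (j + 1) ⟶ Y.X j)

/-- `γ k ≫ d`, with a cast on the source -/
noncomputable def aγ (k j : ℤ) (h : k + 1 = j) : W j ⟶ Y.X j :=
  eqToHom (by rw [h]) ≫ γ k ≫ Y.d k j

lemma aγ_self (k : ℤ) : aγ Y γ k (k + 1) rfl = γ k ≫ Y.d k (k + 1) := by
  simp [aγ]

lemma aγ_eq (k k' j : ℤ) (h : k + 1 = j) (h' : k' + 1 = j) : aγ Y γ k j h = aγ Y γ k' j h' := by
  obtain rfl : k = k' := by omega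
  rfl

lemma aγ_comp_d (k j l : ℤ) (h : k + 1 = j) : aγ Y γ k j h ≫ Y.d j l = 0 := by
  simp [aγ]

/-- the chain map out of a split complex with prescribed restriction to the second summands -/
noncomputable def splitDesc : splitCx W ⟶ Y where
  f j := biprod.fst ≫ aγ Y γ (j - 1) j (by ring) + biprod.snd ≫ γ j
  comm' i j := by
    rintro (rfl : i + 1 = j)
    rw [splitCx_d]
    simp only [Preadditive.add_comp, Preadditive.comp_add, Category.assoc, aγ_comp_d, comp_zero,
      zero_add, biprod.inl_fst_assoc, biprod.inl_snd_assoc, zero_comp, add_zero]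
    rw [aγ_eq Y γ (i + 1 - 1) i (i + 1) (by ring) rfl, aγ_self]

lemma inr_splitDesc_f (j : ℤ) :
    (biprod.inr : W (j + 1) ⟶ W j ⊞ W (j + 1)) ≫ (splitDesc Y γ).f j = γ j := by
  simp [splitDesc]

variable {D : Type*} [Category D] [Preadditive D]

/-- two chain maps which agree on a family of "generating" maps agree -/
lemma hom_ext_of_decomp {K Z : CochainComplex D ℤ} {B : ℤ → D} (r : ∀ j, B j ⟶ K.X j)
    (p₁ : ∀ j, K.X (j + 1) ⟶ B j) (p₂ : ∀ j, K.X (j + 1) ⟶ B (j + 1))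
    (hid : ∀ j, 𝟙 (K.X (j + 1)) = p₁ j ≫ r j ≫ K.d j (j + 1) + p₂ j ≫ r (j + 1))
    (f g : K ⟶ Z) (h : ∀ j, r j ≫ f.f j = r j ≫ g.f j) : f = g := by
  ext j'
  obtain ⟨j, rfl⟩ : ∃ j, j' = j + 1 := ⟨j' - 1, by ring⟩
  have key : ∀ φ : K ⟶ Z, φ.f (j + 1) =
      p₁ j ≫ (r j ≫ φ.f j) ≫ Z.d j (j + 1) + p₂ j ≫ (r (j + 1) ≫ φ.f (j + 1)) := by
    intro φ
    have := congrArg (fun t => t ≫ φ.f (j + 1)) (hid j)
    simp only [Category.id_comp, Preadditive.add_comp, Category.assoc] at this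
    rw [← φ.comm j (j + 1)] at this
    refine this.trans ?_
    simp only [Category.assoc]
  rw [key f, key g, h j, h (j + 1)]

variable (F : C ⥤ D) [F.Additive]

/-- two chain maps out of the image of a split complex which agree on the second summands agree -/
lemma map_splitCx_hom_ext {Z : CochainComplex D ℤ}
    (f g : (F.mapHomologicalComplex (ComplexShape.up ℤ)).obj (splitCx W) ⟶ Z)
    (h : ∀ j, F.map (biprod.inr : W (j + 1) ⟶ W j ⊞ W (j + 1)) ≫ f.f j =
      F.map (biprod.inr : W (j + 1) ⟶ W j ⊞ W (j + 1)) ≫ g.f j) : f = g := by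
  have hid : ∀ j, 𝟙 (F.obj (W (j + 1) ⊞ W (j + 1 + 1))) =
      F.map biprod.fst ≫ F.map (biprod.inr : W (j + 1) ⟶ W j ⊞ W (j + 1)) ≫
        F.map (biprod.snd ≫ biprod.inl : W j ⊞ W (j + 1) ⟶ W (j + 1) ⊞ W (j + 1 + 1)) +
      F.map biprod.snd ≫ F.map biprod.inr := by
    intro j
    rw [← F.map_comp, ← F.map_comp, ← F.map_comp, ← F.map_add, biprod.inr_snd_assoc,
      biprod.total, F.map_id]
  refine hom_ext_of_decomp (B := fun j => F.obj (W (j + 1)))
    (fun j => F.map (biprod.inr : W (j + 1) ⟶ W j ⊞ W (j + 1)))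
    (fun j => F.map (biprod.fst : W (j + 1) ⊞ W (j + 1 + 1) ⟶ W (j + 1)))
    (fun j => F.map (biprod.snd : W (j + 1) ⊞ W (j + 1 + 1) ⟶ W (j + 1 + 1)))
    (fun j => ?_) f g h
  rw [Functor.mapHomologicalComplex_obj_d, splitCx_d]
  exact hid j

end ChainMaps

section Kernels

variable {A : Type*} [Category A] [Abelian A]

/-- comparison of kernels -/
lemma exists_iso_of_kernels (S₁ S₂ : ShortComplex A) (h₁ : S₁.Exact) (h₂ : S₂.Exact)
    [Mono S₁.f] [Mono S₂.f] (e₂ : S₁.X₂ ≅ S₂.X₂) (e₃ : S₁.X₃ ≅ S₂.X₃)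
    (comm : S₁.g ≫ e₃.hom = e₂.hom ≫ S₂.g) :
    ∃ e₁ : S₁.X₁ ≅ S₂.X₁, e₁.hom ≫ S₂.f = S₁.f ≫ e₂.hom := by
  have w1 : (S₁.f ≫ e₂.hom) ≫ S₂.g = 0 := by
    rw [Category.assoc, ← comm, ← Category.assoc, S₁.zero, zero_comp]
  have comm' : e₂.inv ≫ S₁.g = S₂.g ≫ e₃.inv := by
    rw [Iso.inv_comp_eq, ← Category.assoc, ← comm, Category.assoc, Iso.hom_inv_id,
      Category.comp_id]
  have w2 : (S₂.f ≫ e₂.inv) ≫ S₁.g = 0 := by
    rw [Category.assoc, comm', ← Category.assoc, S₂.zero, zero_comp]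
  refine ⟨⟨h₂.lift _ w1, h₁.lift _ w2, ?_, ?_⟩, h₂.lift_f _ w1⟩
  · rw [← cancel_mono S₁.f, Category.assoc, h₁.lift_f, ← Category.assoc, h₂.lift_f,
      Category.assoc, Iso.hom_inv_id, Category.comp_id, Category.id_comp]
  · rw [← cancel_mono S₂.f, Category.assoc, h₂.lift_f, ← Category.assoc, h₁.lift_f,
      Category.assoc, Iso.inv_hom_id, Category.comp_id, Category.id_comp]

end Kernels

section Reduction

variable {R : Type u} [CommRing R] (I : Ideal R)

/-- the unit `M → (R/I) ⊗ M` of the adjunction -/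
noncomputable abbrev η (M : ModuleCat.{u} R) :
    M ⟶ (ModuleCat.restrictScalars.{u} (Ideal.Quotient.mk I)).obj ((Fr I).obj M) :=
  (ModuleCat.extendRestrictScalarsAdj.{u, u, u} (Ideal.Quotient.mk I)).unit.app M

lemma frEquiv_η (M : ModuleCat.{u} R) (m : M) :
    (frIso I M).hom.hom ((η I M).hom m) = (1 : R ⧸ I) ⊗ₜ[R] m := rfl

lemma η_surjective (M : ModuleCat.{u} R) : Function.Surjective (η I M).hom := by
  intro z
  obtain ⟨m, hm⟩ := TensorProduct.mk_surjective (R := R) (S := R ⧸ I) (M := M)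
    Ideal.Quotient.mk_surjective ((frIso I M).hom.hom z)
  refine ⟨m, ?_⟩
  have hinj : Function.Injective (frIso I M).hom.hom :=
    (frIso I M).toLinearEquiv.injective
  apply hinj
  rw [frEquiv_η]
  exact hm

lemma η_eq_zero (M : ModuleCat.{u} R) (m : M) (h : (η I M).hom m = 0) :
    m ∈ I • (⊤ : Submodule R M) := by
  apply mem_smul_top_of_mk_eq_zero
  exact (frEquiv_η I M m).symm.trans
    ((congrArg (frIso I M).hom.hom h).trans (map_zero (frIso I M).hom.hom))

lemma η_naturality {X Y : ModuleCat.{u} R} (g : X ⟶ Y) (x : X) :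
    ((Fr I).map g).hom ((η I X).hom x) = (η I Y).hom (g.hom x) := by
  have h := (ModuleCat.extendRestrictScalarsAdj.{u, u, u} (Ideal.Quotient.mk I)).unit.naturality g
  have h' := congrArg (fun t => t.hom x) h
  exact h'.symm

/-- surjectivity modulo `I` -/
lemma range_sup_of_surjective {X Y : ModuleCat.{u} R} (g : X ⟶ Y)
    (hg : Function.Surjective ((Fr I).map g).hom) :
    LinearMap.range g.hom ⊔ I • (⊤ : Submodule R Y) = ⊤ := by
  rw [eq_top_iff]
  intro y _
  obtain ⟨t, ht⟩ := hg ((η I Y).hom y)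
  obtain ⟨x, rfl⟩ := η_surjective I X t
  rw [η_naturality] at ht
  have hmem : y - g.hom x ∈ I • (⊤ : Submodule R Y) := by
    apply η_eq_zero
    rw [map_sub, ht, sub_self]
  have hy : y = g.hom x + (y - g.hom x) := by abel
  rw [hy]
  exact Submodule.add_mem_sup ⟨x, rfl⟩ hmem

/-- reduction modulo `I` is full on maps out of projective modules -/
lemma exists_map_eq {X Y : ModuleCat.{u} R} [Module.Projective R X]
    (g' : (Fr I).obj X ⟶ (Fr I).obj Y) : ∃ g : X ⟶ Y, (Fr I).map g = g' := by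
  let adj := ModuleCat.extendRestrictScalarsAdj.{u, u, u} (Ideal.Quotient.mk I)
  obtain ⟨g, hg⟩ := Module.projective_lifting_property (η I Y).hom
    (adj.homEquiv X ((Fr I).obj Y) g').hom (η_surjective I Y)
  refine ⟨ModuleCat.ofHom g, ?_⟩
  apply (adj.homEquiv X ((Fr I).obj Y)).injective
  rw [Adjunction.homEquiv_unit]
  refine (adj.unit.naturality (ModuleCat.ofHom g)).symm.trans ?_
  apply ModuleCat.hom_ext
  exact hg

end Reduction

end Groth.Agent.Lib.Helper5.LiftD
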