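import Mathlib
import Groth.Prelude.Def_DRing2
import Groth.Prelude.Def_DDual2
import Groth.Agent.Lib.Helper5LiftD
import Groth.Agent.Lib.Helper1LBC
import Groth.Agent.Lib.Helper1TorD
import Groth.Agent.Lib.Helper1Cone

/-!
# Lifting a representative along `R → R/I` (helper5)

Stacks, More on Algebra, "Lifting complexes", second lemma: if `K` is represented by a bounded above
complex `Qc` with terms in `Pc` and `E` is a bounded above complex of `R/I`-modules with liftable terms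
which is quasi-isomorphic to the reduction of `Qc`, then `K` is represented by a complex with terms in
`Pc` whose reduction is isomorphic to `E` as a complex.
-/

set_option autoImplicit false
universe u
open CategoryTheory CategoryTheory.Limits TensorProduct

attribute [local instance] HasDerivedCategory.standard

namespace Groth.Agent.Lib.Helper5.LiftE

open Groth.Agent.Lib.Helper5.LiftA Groth.Agent.Lib.Helper5.LiftB Groth.Agent.Lib.Helper5.LiftC
  Groth.Agent.Lib.Helper5.LiftD DerivedCategory Pretriangulated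

variable {R : Type u} [CommRing R] (I : Ideal R)
  (Pc : ObjectProperty (ModuleCat.{u} R)) [Pc.IsClosedUnderIsomorphisms]
  (h1 : ∀ X : ModuleCat.{u} R, Pc X → Module.Projective R X)
  (h2 : ∀ X Y : ModuleCat.{u} R, Pc X → Pc (ModuleCat.of R (X × Y)) → Pc Y)

include h1 h2 in
/-- the kernel of a surjection between modules of the class is in the class -/
lemma pc_of_shortExact (S : ShortComplex (ModuleCat.{u} R)) (hS : S.ShortExact)
    (h₂ : Pc S.X₂) (h₃ : Pc S.X₃) : Pc S.X₁ := by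
  have := h1 _ h₃
  have : Projective S.X₃ := ModuleCat.projective_of_categoryTheory_projective _
  let σ := hS.splittingOfProjective
  have e : S.X₂ ≅ ModuleCat.of R (S.X₃ × S.X₁) :=
    σ.isoBinaryBiproduct ≪≫ ModuleCat.biprodIsoProd S.X₁ S.X₃ ≪≫
      (LinearEquiv.prodComm R S.X₁ S.X₃).toModuleIso
  exact h2 S.X₃ S.X₁ h₃ (Pc.prop_of_iso e h₂)

variable (h2' : ∀ X Y : ModuleCat.{u} R, Pc X → (Pc (ModuleCat.of R (X × Y)) ↔ Pc Y))
  (h3 : ∀ (X Y : ModuleCat.{u} R) (f : X ⟶ Y), Pc X → Pc Y →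
      LinearMap.range f.hom ⊔ I • (⊤ : Submodule R Y) = ⊤ → Function.Surjective f.hom)

/-- termwise reduction -/
noncomputable abbrev FH : CochainComplex (ModuleCat.{u} R) ℤ ⥤ CochainComplex (ModuleCat.{u} (R ⧸ I)) ℤ :=
  (Fr I).mapHomologicalComplex (ComplexShape.up ℤ)

include h1 h2' h3 in
/-- the algebraic core of the lifting lemma -/
theorem core (Qc : CochainComplex (ModuleCat.{u} R) ℤ) (c : ℤ)
    (hQb : ∀ i : ℤ, c < i → IsZero (Qc.X i)) (hQ : ∀ i : ℤ, Pc (Qc.X i))
    (E : CochainComplex (ModuleCat.{u} (R ⧸ I)) ℤ) (b : ℤ) (hEb : ∀ i : ℤ, b < i → IsZero (E.X i))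
    (hEt : ∀ i : ℤ, ∃ X : ModuleCat.{u} R, Pc X ∧
      Nonempty ((R ⧸ I) ⊗[R] X ≃ₗ[R ⧸ I] E.X i))
    (α : (FH I).obj Qc ⟶ E) (hα : IsIso (Q.map α)) :
    ∃ (P : CochainComplex (ModuleCat.{u} R) ℤ) (b' : ℤ), (∀ i : ℤ, b' < i → IsZero (P.X i)) ∧
      (∀ i : ℤ, Pc (P.X i)) ∧ Nonempty (Q.obj P ≅ Q.obj Qc) ∧ Nonempty ((FH I).obj P ≅ E) := by
  have h2 : ∀ X Y : ModuleCat.{u} R, Pc X → Pc (ModuleCat.of R (X × Y)) → Pc Y :=
    fun X Y hX h => (h2' X Y hX).1 h
  -- the cone
  have hFQb : ∀ i : ℤ, c < i → IsZero (((FH I).obj Qc).X i) := fun i hi =>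
    (Fr I).map_isZero (hQb i hi)
  have hCb : ∀ i : ℤ, max c b < i → IsZero ((CochainComplex.mappingCone α).X i) :=
    Groth.Agent.Lib.Helper1.Tor.vanishesAbove_mappingCone α c b hFQb hEb
  have hCa : (CochainComplex.mappingCone α).Acyclic := by
    intro j
    have hT := DerivedCategory.mappingCone_triangle_distinguished α
    have hz : IsZero (Q.obj (CochainComplex.mappingCone α)) :=
      (Triangle.isZero₃_iff_isIso₁ _ hT).2 hα
    exact Groth.Agent.Lib.Helper1.Tor.exactAt_of_isZero_Q _ hz j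
  have hCt : ∀ i : ℤ, ∃ X : ModuleCat.{u} R, Pc X ∧
      Nonempty ((R ⧸ I) ⊗[R] X ≃ₗ[R ⧸ I] (CochainComplex.mappingCone α).X i) := by
    intro i
    obtain ⟨X, hX, ⟨τ⟩⟩ := hEt i
    refine ⟨ModuleCat.of R (Qc.X (i + 1) × X), (h2' _ _ (hQ (i + 1))).2 hX, ⟨?_⟩⟩
    have := HomologicalComplex.HasHomotopyCofiber.hasBinaryBiproduct α i (i + 1) rfl
    exact TensorProduct.prodRight R (R ⧸ I) (R ⧸ I) (Qc.X (i + 1)) X ≪≫ₗ
      ((frIso I (Qc.X (i + 1))).symm.toLinearEquiv.prodCongr τ) ≪≫ₗ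
      (ModuleCat.biprodIsoProd (((FH I).obj Qc).X (i + 1)) (E.X i)).symm.toLinearEquiv ≪≫ₗ
      (HomologicalComplex.homotopyCofiber.XIsoBiprod α i (i + 1) rfl).symm.toLinearEquiv
  obtain ⟨W, hW, hWW, hWb, ⟨e⟩⟩ := LiftC.main I Pc h1 h2 h3 (CochainComplex.mappingCone α)
    (max c b) hCb hCa hCt
  have hCX : ∀ j, Pc ((splitCx W).X j) := fun j =>
    Pc.prop_of_iso (ModuleCat.biprodIsoProd (W j) (W (j + 1))).symm (hWW j)
  -- the projection to the shift of `Qc`
  let ψ : (FH I).obj (Qc⟦(1 : ℤ)⟧) ≅ ((FH I).obj Qc)⟦(1 : ℤ)⟧ :=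
    ((FH I).commShiftIso (1 : ℤ)).app Qc
  obtain ⟨δ, hδ⟩ : ∃ δ : CochainComplex.mappingCone α ⟶ ((FH I).obj Qc)⟦(1 : ℤ)⟧,
      δ = (CochainComplex.mappingCone.triangle α).mor₃ := ⟨_, rfl⟩
  let pbar : (FH I).obj (splitCx W) ⟶ (FH I).obj (Qc⟦(1 : ℤ)⟧) := e.hom ≫ δ ≫ ψ.inv
  have hγ : ∀ j : ℤ, ∃ γ : W (j + 1) ⟶ (Qc⟦(1 : ℤ)⟧).X j,
      (Fr I).map γ = (Fr I).map (biprod.inr : W (j + 1) ⟶ W j ⊞ W (j + 1)) ≫ pbar.f j := by
    intro j
    have := h1 _ (hW (j + 1))
    exact exists_map_eq I _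
  choose γ hγ using hγ
  let p : splitCx W ⟶ Qc⟦(1 : ℤ)⟧ := splitDesc (Qc⟦(1 : ℤ)⟧) γ
  have hp : (FH I).map p = pbar := by
    apply map_splitCx_hom_ext (Fr I)
    intro j
    exact ((Fr I).map_comp (biprod.inr : W (j + 1) ⟶ W j ⊞ W (j + 1)) (p.f j)).symm.trans
      ((congrArg (Fr I).map (inr_splitDesc_f (Qc⟦(1 : ℤ)⟧) γ j)).trans (hγ j))
  have hcomm : (FH I).map p ≫ ψ.hom = e.hom ≫ δ := by
    rw [hp]
    simp only [pbar, Category.assoc, Iso.inv_hom_id, Category.comp_id]
  -- the triangle side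
  have hS₂ : (CochainComplex.mappingCone.triangleRotateShortComplex α).ShortExact :=
    HomologicalComplex.shortExact_of_degreewise_shortExact _ (fun j =>
      (CochainComplex.mappingCone.triangleRotateShortComplexSplitting α j).shortExact)
  -- surjectivity of `p`
  have hpsurj : ∀ j, Function.Surjective (p.f j).hom := by
    intro j
    refine h3 _ _ (p.f j) (hCX j) (hQ (j + 1)) (range_sup_of_surjective I (p.f j) ?_)
    have h1' : (Fr I).map (p.f j) = pbar.f j := congrArg (fun t => t.f j) hp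
    rw [h1']
    have hepi : Epi (δ.f j) := by
      rw [hδ]
      exact ((hS₂.map_of_exact (HomologicalComplex.eval _ _ j)).epi_g :)
    have hi1 : IsIso (e.hom.f j) := (HomologicalComplex.eval _ _ j).map_isIso e.hom
    have hi3 : IsIso (ψ.inv.f j) := (HomologicalComplex.eval _ _ j).map_isIso ψ.inv
    have h1e : Epi (e.hom.f j) := inferInstance
    have h3e : Epi (ψ.inv.f j) := inferInstance
    have hepi' : Epi (pbar.f j) := by
      have hpb : pbar.f j = e.hom.f j ≫ δ.f j ≫ ψ.inv.f j := rfl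
      rw [hpb]
      exact epi_comp' h1e (epi_comp' hepi h3e)
    exact (ModuleCat.epi_iff_surjective _).1 hepi'
  have hpepi : Epi p := HomologicalComplex.epi_of_epi_f p
    (fun j => (ModuleCat.epi_iff_surjective _).2 (hpsurj j))
  -- the kernel
  let S : ShortComplex (CochainComplex (ModuleCat.{u} R) ℤ) :=
    ShortComplex.mk (kernel.ι p) p (kernel.condition p)
  have hS : S.ShortExact :=
    { exact := ShortComplex.exact_of_f_is_kernel _ (kernelIsKernel p)
      mono_f := inferInstanceAs (Mono (kernel.ι p))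
      epi_g := hpepi }
  have hSj : ∀ j, (S.map (HomologicalComplex.eval _ _ j)).ShortExact := fun j =>
    hS.map_of_exact (HomologicalComplex.eval _ _ j)
  have hPc : ∀ j, Pc ((kernel p).X j) := fun j =>
    pc_of_shortExact Pc h1 h2 _ (hSj j) (hCX j) (hQ (j + 1))
  have hPb : ∀ j : ℤ, max c b < j → IsZero ((kernel p).X j) := by
    intro j hj
    have hm : Mono ((kernel.ι p).f j) := (hSj j).mono_f
    have h1' := hWb j hj
    have h2'' := hWb (j + 1) (by omega)
    have : Subsingleton (ModuleCat.of R (W j × W (j + 1))) :=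
      inferInstanceAs (Subsingleton (W j × W (j + 1)))
    have hz : IsZero ((splitCx W).X j) :=
      IsZero.of_iso (ModuleCat.isZero_of_subsingleton (ModuleCat.of R (W j × W (j + 1))))
        (ModuleCat.biprodIsoProd (W j) (W (j + 1)))
    exact IsZero.of_mono ((kernel.ι p).f j) hz
  refine ⟨kernel p, max c b, hPb, hPc, ?_, ?_⟩
  · -- the isomorphism in the derived category
    have hT := DerivedCategory.triangleOfSES_distinguished hS
    have hz : IsZero (Q.obj (splitCx W)) :=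
      Groth.Agent.Lib.Helper1.Tor.isZero_Q_of_exactAt _ (splitCx_acyclic W)
    have hiso : IsIso (DerivedCategory.triangleOfSESδ hS) :=
      (Triangle.isZero₂_iff_isIso₃ _ hT).1 hz
    let e1 : (Q.obj Qc)⟦(1 : ℤ)⟧ ≅ (Q.obj (kernel p))⟦(1 : ℤ)⟧ :=
      ((Q.commShiftIso (1 : ℤ)).app Qc).symm ≪≫ asIso (DerivedCategory.triangleOfSESδ hS)
    exact ⟨((shiftFunctor (DerivedCategory (ModuleCat.{u} R)) (1 : ℤ)).preimageIso e1).symm⟩
  · -- the reduction
    have hS₁ : (S.map (FH I)).ShortExact := by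
      refine HomologicalComplex.shortExact_of_degreewise_shortExact _ (fun j => ?_)
      have : Module.Projective R ((S.map (HomologicalComplex.eval _ _ j)).X₃) := h1 _ (hQ (j + 1))
      have : Projective ((S.map (HomologicalComplex.eval _ _ j)).X₃) :=
        ModuleCat.projective_of_categoryTheory_projective _
      exact (((hSj j).splittingOfProjective).map (Fr I)).shortExact
    have := hS₁.mono_f
    have := hS₂.mono_f
    obtain ⟨e₁, -⟩ := exists_iso_of_kernels (S.map (FH I))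
      (CochainComplex.mappingCone.triangleRotateShortComplex α) hS₁.exact hS₂.exact e ψ
      (hcomm.trans (by rw [hδ]; rfl))
    exact ⟨e₁⟩

end Groth.Agent.Lib.Helper5.LiftE
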