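import Mathlib
import Groth.Agent.S7011
import Groth.Agent.Lib.Helper1LBC2
import Groth.Agent.Lib.Helper1Cone

/-!
# Minimal free representatives of pseudo-coherent complexes over a local ring (helper5)
-/

set_option autoImplicit false
universe u
open CategoryTheory CategoryTheory.Limits TensorProduct

attribute [local instance] HasDerivedCategory.standard

namespace Groth.Agent.Lib.Helper5.MinRes

open Groth.Agent.Lib.Helper5.LiftA Groth.Agent.Lib.Helper5.LiftC Groth.Agent.Lib.Helper5.LiftD
  Groth.Agent.Lib.Helper5.LiftE Groth.Agent.Lib.Helper5.LiftG DerivedCategory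

section ZeroDiff

variable {k : Type u} [CommRing k] (F : CochainComplex (ModuleCat.{u} k) ℤ)

/-- the complex of homology modules, with zero differentials -/
noncomputable def HCx : CochainComplex (ModuleCat.{u} k) ℤ where
  X i := F.homology i
  d _ _ := 0
  shape _ _ _ := rfl
  d_comp_d' _ _ _ _ _ := zero_comp

variable (hF : ∀ i, Module.Projective k (F.homology i))

include hF in
lemma exists_section (i : ℤ) : ∃ σ : F.homology i ⟶ F.cycles i, σ ≫ F.homologyπ i = 𝟙 _ := by
  haveI := hF i
  haveI : Projective (F.homology i) := ModuleCat.projective_of_categoryTheory_projective _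
  exact ⟨Projective.factorThru (𝟙 _) (F.homologyπ i), Projective.factorThru_comp _ _⟩

/-- a section of the projection from cycles to homology -/
noncomputable def σ (i : ℤ) : F.homology i ⟶ F.cycles i := (exists_section F hF i).choose

lemma σ_π (i : ℤ) : σ F hF i ≫ F.homologyπ i = 𝟙 _ := (exists_section F hF i).choose_spec

/-- the comparison map from the homology complex -/
noncomputable def ιH : HCx F ⟶ F where
  f i := σ F hF i ≫ F.iCycles i
  comm' i j _ := by
    rw [Category.assoc, F.iCycles_d, comp_zero]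
    exact zero_comp.symm

omit hF in
/-- a chain map from a complex with zero differentials which induces isomorphisms onto the homology
is a quasi-isomorphism -/
lemma quasiIso_of_zero_d (H : CochainComplex (ModuleCat.{u} k) ℤ) (hd : ∀ i j, H.d i j = 0)
    (g : H ⟶ F) (τ : ∀ i, H.X i ⟶ F.cycles i) (hτ : ∀ i, τ i ≫ F.iCycles i = g.f i)
    (hiso : ∀ i, IsIso (τ i ≫ F.homologyπ i)) : QuasiIso g := by
  rw [quasiIso_iff]
  intro i
  rw [quasiIsoAt_iff_isIso_homologyMap]
  have h1 : IsIso (H.iCycles i) := H.isIso_iCycles i (i + 1) (by simp) (hd _ _)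
  have h2 : IsIso (H.homologyπ i) := H.isIso_homologyπ (i - 1) i (by simp) (hd _ _)
  have h3 : HomologicalComplex.cyclesMap g i = H.iCycles i ≫ τ i := by
    rw [← cancel_mono (F.iCycles i), HomologicalComplex.cyclesMap_i, Category.assoc, hτ]
  have h4 : H.homologyπ i ≫ HomologicalComplex.homologyMap g i =
      H.iCycles i ≫ (τ i ≫ F.homologyπ i) := by
    rw [HomologicalComplex.homologyπ_naturality, h3, Category.assoc]
  have h5 : HomologicalComplex.homologyMap g i =
      inv (H.homologyπ i) ≫ H.iCycles i ≫ (τ i ≫ F.homologyπ i) := by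
    rw [← h4, IsIso.inv_hom_id_assoc]
  have := hiso i
  rw [h5]
  infer_instance

lemma quasiIso_ιH : QuasiIso (ιH F hF) := by
  refine quasiIso_of_zero_d F (HCx F) (fun _ _ => rfl) (ιH F hF) (fun i => σ F hF i)
    (fun i => rfl) (fun i => ?_)
  have h : σ F hF i ≫ F.homologyπ i = 𝟙 _ := σ_π F hF i
  exact h ▸ (inferInstance : IsIso (𝟙 (F.homology i)))

/-- a quasi-isomorphism between complexes with zero differentials is an isomorphism termwise -/
lemma isIso_f_of_quasiIsoAt {K L : CochainComplex (ModuleCat.{u} k) ℤ} (g : K ⟶ L) (i : ℤ)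
    (hg : QuasiIsoAt g i) (hK1 : K.d (i - 1) i = 0) (hK2 : K.d i (i + 1) = 0)
    (hL1 : L.d (i - 1) i = 0) (hL2 : L.d i (i + 1) = 0) : IsIso (g.f i) := by
  rw [quasiIsoAt_iff_isIso_homologyMap] at hg
  have h1 : IsIso (K.iCycles i) := K.isIso_iCycles i (i + 1) (by simp) hK2
  have h2 : IsIso (K.homologyπ i) := K.isIso_homologyπ (i - 1) i (by simp) hK1
  have h1' : IsIso (L.iCycles i) := L.isIso_iCycles i (i + 1) (by simp) hL2
  have h2' : IsIso (L.homologyπ i) := L.isIso_homologyπ (i - 1) i (by simp) hL1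
  have h3 : HomologicalComplex.cyclesMap g i =
      K.homologyπ i ≫ HomologicalComplex.homologyMap g i ≫ inv (L.homologyπ i) := by
    rw [← Category.assoc, HomologicalComplex.homologyπ_naturality, Category.assoc,
      IsIso.hom_inv_id, Category.comp_id]
  have h4 : IsIso (HomologicalComplex.cyclesMap g i) := by
    rw [h3]
    infer_instance
  have h5 : g.f i = inv (K.iCycles i) ≫ HomologicalComplex.cyclesMap g i ≫ L.iCycles i := by
    rw [HomologicalComplex.cyclesMap_i, IsIso.inv_hom_id_assoc]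
  rw [h5]
  infer_instance

end ZeroDiff

section General

variable {R : Type u} [CommRing R]

/-- naturality of the identification of `Fr` with the tensor product -/
lemma frIso_nat (I : Ideal R) {X Y : ModuleCat.{u} R} (g : X ⟶ Y) :
    (Fr I).map g ≫ (frIso I Y).hom =
      (frIso I X).hom ≫ ModuleCat.ofHom (g.hom.baseChange (R ⧸ I)) := by
  apply ModuleCat.hom_ext
  apply LinearMap.ext
  intro z
  induction z using TensorProduct.induction_on with
  | zero => exact (map_zero _).trans (map_zero _).symm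
  | tmul a x => rfl
  | add a b ha hb => exact (map_add _ _ _).trans ((congrArg₂ (· + ·) ha hb).trans (map_add _ _ _).symm)

lemma bijective_baseChange_of_isIso (I : Ideal R) {X Y : ModuleCat.{u} R} (g : X ⟶ Y)
    (h : IsIso ((Fr I).map g)) : Function.Bijective (g.hom.baseChange (R ⧸ I)) := by
  have h1 : ModuleCat.ofHom (g.hom.baseChange (R ⧸ I)) =
      (frIso I X).inv ≫ (Fr I).map g ≫ (frIso I Y).hom := by
    rw [frIso_nat, Iso.inv_hom_id_assoc]
  have h2 : IsIso (ModuleCat.ofHom (g.hom.baseChange (R ⧸ I))) := by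
    rw [h1]
    infer_instance
  exact ConcreteCategory.bijective_of_isIso (ModuleCat.ofHom (g.hom.baseChange (R ⧸ I)))

lemma finrank_fr (I : Ideal R) [Nontrivial R] [Nontrivial (R ⧸ I)] (X : ModuleCat.{u} R)
    [Module.Free R X] :
    Module.finrank (R ⧸ I) ((Fr I).obj X) = Module.finrank R X := by
  rw [(frIso I X).toLinearEquiv.finrank_eq]
  exact Module.finrank_baseChange

end General

section Local

variable {R : Type u} [CommRing R] [IsLocalRing R]

noncomputable local instance : Field (R ⧸ IsLocalRing.maximalIdeal R) := Ideal.Quotient.field _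

lemma le_jac : IsLocalRing.maximalIdeal R ≤ Ideal.jacobson ⊥ := by
  rw [IsLocalRing.jacobson_eq_maximalIdeal ⊥ bot_ne_top]

variable [DRing.HasLBaseChange (Ideal.Quotient.mk (IsLocalRing.maximalIdeal R))]

/-- the minimality predicate -/
def Minimal (K : Dual.D R) (P : DRing.Cx R) : Prop :=
  (∃ b : ℤ, DRing.VanishesAbove P b) ∧
    (∀ i : ℤ, Module.Free R (P.X i) ∧ Module.Finite R (P.X i) ∧
      Module.finrank R (P.X i) = Module.finrank (R ⧸ IsLocalRing.maximalIdeal R)
        (Dual.HD (R ⧸ IsLocalRing.maximalIdeal R)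
          ((DRing.LBaseChange (Ideal.Quotient.mk (IsLocalRing.maximalIdeal R))).obj K) i)) ∧
    Nonempty (DRing.toD P ≅ K)

/-- homology of the derived reduction, computed on a K-projective representative -/
noncomputable def hdIso (K : Dual.D R) (P : DRing.Cx R) [P.IsKProjective] (e : DRing.toD P ≅ K)
    (i : ℤ) :
    (DerivedCategory.homologyFunctor (ModuleCat.{u} (R ⧸ IsLocalRing.maximalIdeal R)) i).obj
        ((DRing.LBaseChange (Ideal.Quotient.mk (IsLocalRing.maximalIdeal R))).obj K) ≅
      ((FH (IsLocalRing.maximalIdeal R)).obj P).homology i :=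
  (DerivedCategory.homologyFunctor _ i).mapIso
      ((DRing.LBaseChange (Ideal.Quotient.mk (IsLocalRing.maximalIdeal R))).mapIso e.symm ≪≫
        Groth.Agent.Lib.Helper1.LDer.lbcIso (Ideal.Quotient.mk (IsLocalRing.maximalIdeal R)) P) ≪≫
    (DerivedCategory.homologyFunctorFactors _ i).app _

lemma finite_fr (X : ModuleCat.{u} R) [Module.Finite R X] :
    Module.Finite (R ⧸ IsLocalRing.maximalIdeal R) ((Fr (IsLocalRing.maximalIdeal R)).obj X) :=
  Module.Finite.equiv (frIso (IsLocalRing.maximalIdeal R) X).toLinearEquiv.symm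

lemma finite_cycles (F : CochainComplex (ModuleCat.{u} (R ⧸ IsLocalRing.maximalIdeal R)) ℤ) (i : ℤ)
    (h : Module.Finite (R ⧸ IsLocalRing.maximalIdeal R) (F.X i)) :
    Module.Finite (R ⧸ IsLocalRing.maximalIdeal R) (F.cycles i) :=
  Module.Finite.of_injective (F.iCycles i).hom ((ModuleCat.mono_iff_injective _).1 inferInstance)

lemma finite_homology (F : CochainComplex (ModuleCat.{u} (R ⧸ IsLocalRing.maximalIdeal R)) ℤ)
    (i : ℤ) (h : Module.Finite (R ⧸ IsLocalRing.maximalIdeal R) (F.X i)) :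
    Module.Finite (R ⧸ IsLocalRing.maximalIdeal R) (F.homology i) := by
  haveI := finite_cycles F i h
  exact Module.Finite.of_surjective (F.homologyπ i).hom
    ((ModuleCat.epi_iff_surjective _).1 inferInstance)

theorem exists_minimal (K : Dual.D R) (hK : DRing.IsPseudoCoherent' R K) :
    (∀ i : ℤ, Module.Finite (R ⧸ IsLocalRing.maximalIdeal R)
      (Dual.HD (R ⧸ IsLocalRing.maximalIdeal R)
        ((DRing.LBaseChange (Ideal.Quotient.mk (IsLocalRing.maximalIdeal R))).obj K) i)) ∧
    (∃ b : ℤ, ∀ i : ℤ, b < i → Subsingleton (Dual.HD (R ⧸ IsLocalRing.maximalIdeal R)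
        ((DRing.LBaseChange (Ideal.Quotient.mk (IsLocalRing.maximalIdeal R))).obj K) i)) ∧
    ∃ P : DRing.Cx R, Minimal K P := by
  obtain ⟨Qc, c, hQb, hQff, ⟨eK⟩⟩ := hK
  haveI hQK : Qc.IsKProjective :=
    Groth.Agent.Lib.Helper1.LDer.isKProjective_of_vanishesAbove Qc c hQb (fun i => by
      have := (hQff i).2
      infer_instance)
  obtain ⟨F₀, hF₀⟩ : ∃ F₀, F₀ = (FH (IsLocalRing.maximalIdeal R)).obj Qc := ⟨_, rfl⟩
  have hHD : ∀ i, (Dual.HD (R ⧸ IsLocalRing.maximalIdeal R)
        ((DRing.LBaseChange (Ideal.Quotient.mk (IsLocalRing.maximalIdeal R))).obj K) i)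
      ≃ₗ[R ⧸ IsLocalRing.maximalIdeal R] F₀.homology i := fun i => by
    rw [hF₀]
    exact (hdIso K Qc eK i).toLinearEquiv
  have hF₀fin : ∀ i, Module.Finite (R ⧸ IsLocalRing.maximalIdeal R) (F₀.X i) := fun i => by
    rw [hF₀]
    have := (hQff i).1
    exact finite_fr (Qc.X i)
  have hhom : ∀ i, Module.Finite (R ⧸ IsLocalRing.maximalIdeal R) (F₀.homology i) := fun i =>
    finite_homology F₀ i (hF₀fin i)
  have hzero : ∀ i, c < i → Subsingleton (F₀.homology i) := fun i hi => by
    have hz : IsZero (F₀.X i) := by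
      rw [hF₀]
      exact (Fr (IsLocalRing.maximalIdeal R)).map_isZero (hQb i hi)
    have hex : F₀.ExactAt i := by
      rw [HomologicalComplex.exactAt_iff]
      exact ShortComplex.exact_of_isZero_X₂ _ hz
    exact ModuleCat.subsingleton_of_isZero
      ((HomologicalComplex.exactAt_iff_isZero_homology _ _).1 hex)
  refine ⟨fun i => by
      haveI := hhom i
      exact Module.Finite.equiv (hHD i).symm, ⟨c, fun i hi => by
      haveI := hzero i hi
      exact (hHD i).toEquiv.subsingleton⟩, ?_⟩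
  have hproj : ∀ i, Module.Projective (R ⧸ IsLocalRing.maximalIdeal R) (F₀.homology i) :=
    fun i => inferInstance
  have hEb : DRing.VanishesAbove (HCx F₀) c := fun i hi => by
    haveI := hzero i hi
    exact ModuleCat.isZero_of_subsingleton (F₀.homology i)
  have hEs : ∀ i : ℤ, Module.Finite (R ⧸ IsLocalRing.maximalIdeal R) ((HCx F₀).X i) ∧
      Module.IsStablyFree (R ⧸ IsLocalRing.maximalIdeal R) ((HCx F₀).X i) := fun i =>
    ⟨hhom i, (inferInstance : Module.IsStablyFree (R ⧸ IsLocalRing.maximalIdeal R)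
      (F₀.homology i))⟩
  have hq := quasiIso_ιH F₀ hproj
  have hqi : IsIso (Q.map (ιH F₀ hproj)) :=
    (DerivedCategory.isIso_Q_map_iff_quasiIso (φ := ιH F₀ hproj)).2 hq
  have hE : Nonempty (DRing.toD (HCx F₀) ≅
      (DRing.LBaseChange (Ideal.Quotient.mk (IsLocalRing.maximalIdeal R))).obj K) := by
    have e0 : Q.obj F₀ ≅
        (DRing.LBaseChange (Ideal.Quotient.mk (IsLocalRing.maximalIdeal R))).obj K := by
      rw [hF₀]
      exact (Groth.Agent.Lib.Helper1.LDer.lbcIso
        (Ideal.Quotient.mk (IsLocalRing.maximalIdeal R)) Qc).symm ≪≫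
        (DRing.LBaseChange (Ideal.Quotient.mk (IsLocalRing.maximalIdeal R))).mapIso eK
    exact ⟨asIso (Q.map (ιH F₀ hproj)) ≪≫ e0⟩
  obtain ⟨P, b', hPb, hP, ⟨eP⟩, ⟨eE⟩, hfree⟩ := Groth.Agent.S7011.result R
    (IsLocalRing.maximalIdeal R) le_jac K ⟨Qc, c, hQb, hQff, ⟨eK⟩⟩ (HCx F₀) c hEb hEs hE
  refine ⟨P, ⟨b', hPb⟩, fun i => ?_, ⟨eP⟩⟩
  have hfr : Module.Free R (P.X i) :=
    hfree i (inferInstance : Module.Free (R ⧸ IsLocalRing.maximalIdeal R) (F₀.homology i))
  refine ⟨hfr, (hP i).1, ?_⟩
  calc Module.finrank R (P.X i)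
      = Module.finrank (R ⧸ IsLocalRing.maximalIdeal R)
          ((Fr (IsLocalRing.maximalIdeal R)).obj (P.X i)) :=
        (finrank_fr (IsLocalRing.maximalIdeal R) (P.X i)).symm
    _ = Module.finrank (R ⧸ IsLocalRing.maximalIdeal R) (F₀.homology i) :=
        ((HomologicalComplex.eval _ _ i).mapIso eE).toLinearEquiv.finrank_eq
    _ = _ := (hHD i).finrank_eq.symm

/-- the reduction of a minimal complex has zero differentials -/
lemma d_eq_zero_of_minimal (K : Dual.D R) (P : DRing.Cx R) (h : Minimal K P) (i j : ℤ) :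
    ((FH (IsLocalRing.maximalIdeal R)).obj P).d i j = 0 := by
  obtain ⟨⟨b, hb⟩, hP, ⟨e⟩⟩ := h
  haveI hPK : P.IsKProjective :=
    Groth.Agent.Lib.Helper1.LDer.isKProjective_of_vanishesAbove P b hb (fun i => by
      have := (hP i).1
      infer_instance)
  by_cases hij : i + 1 = j
  swap
  · exact HomologicalComplex.shape _ _ _ hij
  obtain ⟨F, hF⟩ : ∃ F, F = (FH (IsLocalRing.maximalIdeal R)).obj P := ⟨_, rfl⟩
  rw [← hF]
  have hfin : Module.Finite (R ⧸ IsLocalRing.maximalIdeal R) (F.X i) := by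
    rw [hF]
    have := (hP i).2.1
    exact finite_fr (P.X i)
  haveI := finite_cycles F i hfin
  have hdim : Module.finrank (R ⧸ IsLocalRing.maximalIdeal R) (F.homology i) =
      Module.finrank (R ⧸ IsLocalRing.maximalIdeal R) (F.X i) := by
    rw [hF]
    have := (hP i).1
    rw [← (hdIso K P e i).toLinearEquiv.finrank_eq]
    exact ((hP i).2.2).symm.trans (finrank_fr (IsLocalRing.maximalIdeal R) (P.X i)).symm
  have hinj : Function.Injective (F.iCycles i).hom := (ModuleCat.mono_iff_injective _).1 inferInstance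
  have hsur : Function.Surjective (F.homologyπ i).hom := (ModuleCat.epi_iff_surjective _).1 inferInstance
  have h1 := LinearMap.finrank_le_finrank_of_injective hinj
  have h2 := LinearMap.finrank_le_finrank_of_surjective hsur
  have hdim' : Module.finrank (R ⧸ IsLocalRing.maximalIdeal R) (F.cycles i) =
      Module.finrank (R ⧸ IsLocalRing.maximalIdeal R) (F.X i) := by omega
  have hbij : Function.Surjective (F.iCycles i).hom :=
    (LinearMap.injective_iff_surjective_of_finrank_eq_finrank hdim').1 hinj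
  haveI : Epi (F.iCycles i) := (ModuleCat.epi_iff_surjective _).2 hbij
  rw [← cancel_epi (F.iCycles i), F.iCycles_d, comp_zero]

theorem minimal_unique (K : Dual.D R) (P₁ P₂ : DRing.Cx R) (h₁ : Minimal K P₁)
    (h₂ : Minimal K P₂) : Nonempty (P₁ ≅ P₂) := by
  have hd₁ := d_eq_zero_of_minimal K P₁ h₁
  have hd₂ := d_eq_zero_of_minimal K P₂ h₂
  obtain ⟨⟨b₁, hb₁⟩, hP₁, ⟨e₁⟩⟩ := h₁
  obtain ⟨⟨b₂, hb₂⟩, hP₂, ⟨e₂⟩⟩ := h₂
  haveI hK₁ : P₁.IsKProjective :=
    Groth.Agent.Lib.Helper1.LDer.isKProjective_of_vanishesAbove P₁ b₁ hb₁ (fun i => by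
      have := (hP₁ i).1
      infer_instance)
  obtain ⟨f, hf⟩ := Groth.Agent.Lib.Helper1.Cone.exists_chain_map P₁ P₂ (e₁ ≪≫ e₂.symm).hom
  have hfi : IsIso (Q.map f) := by
    rw [hf]
    infer_instance
  have hf₀ : IsIso (Q.map ((FH (IsLocalRing.maximalIdeal R)).map f)) :=
    Groth.Agent.Lib.Helper1.LDer.isIso_Q_map_bc (Ideal.Quotient.mk (IsLocalRing.maximalIdeal R))
      f b₁ b₂ hb₁ hb₂ (fun i => by
        have := (hP₁ i).1
        infer_instance) (fun i => by
        have := (hP₂ i).1
        infer_instance) hfi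
  have hq : QuasiIso ((FH (IsLocalRing.maximalIdeal R)).map f) :=
    (DerivedCategory.isIso_Q_map_iff_quasiIso
      (φ := (FH (IsLocalRing.maximalIdeal R)).map f)).1 hf₀
  have hcomp : ∀ i, IsIso (f.f i) := by
    intro i
    have h1 : IsIso (((FH (IsLocalRing.maximalIdeal R)).map f).f i) :=
      isIso_f_of_quasiIsoAt _ i (hq.quasiIsoAt i) (hd₁ _ _) (hd₁ _ _) (hd₂ _ _) (hd₂ _ _)
    have h2 : IsIso ((Fr (IsLocalRing.maximalIdeal R)).map (f.f i)) := h1
    have h3 := bijective_baseChange_of_isIso (IsLocalRing.maximalIdeal R) (f.f i) h2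
    have := (hP₁ i).2.1
    have := (hP₂ i).2.1
    have := (hP₂ i).1
    have h4 := bijective_of_baseChange (IsLocalRing.maximalIdeal R) le_jac (f.f i).hom h3
    exact (ConcreteCategory.isIso_iff_bijective _).2 h4
  haveI : IsIso f := HomologicalComplex.Hom.isIso_of_components f
  exact ⟨asIso f⟩

end Local

end Groth.Agent.Lib.Helper5.MinRes
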