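import Mathlib
import Groth.Agent.Lib.Helper5RelGorA
import Groth.Agent.Lib.Helper5MinRes
import Groth.Agent.Lib.Helper5GorLocus
import Groth.Agent.Lib.Helper5LocDD
set_option backward.isDefEq.respectTransparency.types false

/-!
# A pseudo-coherent complex over a local ring whose fibre is a shift of the field (helper5)

`homology_of_fibre_shift`: let `A₁` be a local ring, `χ : A₁ → κ'` a ring map to a field killing the
maximal ideal, and `K` a pseudo-coherent object of `D(A₁)` with `Lχ^* K ≅ κ'[m]`.  Then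
`H^i(K) = 0` for `i ≠ -m` and `H^{-m}(K) ≃ A₁`.
-/

set_option autoImplicit false
set_option linter.style.haveILetI false
universe u
open CategoryTheory CategoryTheory.Limits TensorProduct
attribute [local instance] HasDerivedCategory.standard

namespace Groth.Agent.Lib.Helper5.RelGor

open DerivedCategory Groth.Agent.Lib.Helper1.LDer Groth.Agent.Lib.Helper1.Extend
  Groth.Agent.Lib.Helper1.LocalCx
  Groth.Agent.Lib.Helper5.HasLDer Groth.Agent.Lib.Helper5.LocD Groth.Agent.Lib.Helper5.MinRes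

section Comp

variable {A B D : Type u} [CommRing A] [CommRing B] [CommRing D] {ω : Dual.D A}

/-- transitivity of derived base change on pseudo-coherent objects (with a named composite). -/
theorem nonempty_lbc_comp_iso' (r : FFRep ω) (φ : A →+* B) (φ' : B →+* D) (χ : A →+* D)
    (h : φ'.comp φ = χ)
    [DRing.HasLBaseChange φ] [DRing.HasLBaseChange φ'] [DRing.HasLBaseChange χ] :
    Nonempty ((DRing.LBaseChange φ').obj ((DRing.LBaseChange φ).obj ω) ≅
      (DRing.LBaseChange χ).obj ω) :=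
  ⟨(r.bc φ).lbcIso φ' ≪≫ Q.mapIso ((bcCxCompIso φ φ' r.G).symm ≪≫ bcCxEqIso h r.G) ≪≫
    (r.lbcIso χ).symm⟩

end Comp

section Homology

variable {A : Type u} [CommRing A]

lemma nonempty_homology_iso_of_isZero_neighbors (P : DRing.Cx A) (i : ℤ)
    (h1 : IsZero (P.X (i - 1))) (h2 : IsZero (P.X (i + 1))) :
    Nonempty (P.homology i ≅ P.X i) := by
  have hX1 : IsZero (P.sc i).X₁ := by
    show IsZero (P.X ((ComplexShape.up ℤ).prev i))
    rw [CochainComplex.prev]
    exact h1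
  have hX3 : IsZero (P.sc i).X₃ := by
    show IsZero (P.X ((ComplexShape.up ℤ).next i))
    rw [CochainComplex.next]
    exact h2
  have hf : (P.sc i).f = 0 := hX1.eq_of_src _ _
  have hg : (P.sc i).g = 0 := hX3.eq_of_tgt _ _
  exact ⟨(ShortComplex.HomologyData.ofZeros (P.sc i) hf hg).left.homologyIso⟩

lemma isZero_homology_of_isZero_X (P : DRing.Cx A) (i : ℤ) (h : IsZero (P.X i)) :
    IsZero (P.homology i) := by
  have hex : P.ExactAt i := by
    rw [HomologicalComplex.exactAt_iff]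
    exact ShortComplex.exact_of_isZero_X₂ _ h
  exact (HomologicalComplex.exactAt_iff_isZero_homology _ _).1 hex

/-- `H^i(M[0][m]) = 0` for `i ≠ -m`. -/
lemma isZero_HD_inD_shift (M : ModuleCat.{u} A) (m i : ℤ) (h : i ≠ -m) :
    IsZero ((homologyFunctor (ModuleCat.{u} A) i).obj
      (((singleFunctor (ModuleCat.{u} A) 0).obj M)⟦m⟧)) := by
  refine IsZero.of_iso ?_
    (((homologyFunctor (ModuleCat.{u} A) 0).shiftIso m i (m + i) rfl).app _)
  have h0 : ((singleFunctor (ModuleCat.{u} A) 0).obj M).IsGE 0 := inferInstance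
  have h1 : ((singleFunctor (ModuleCat.{u} A) 0).obj M).IsLE 0 := inferInstance
  rcases lt_or_gt_of_ne (show m + i ≠ 0 by omega) with hlt | hgt
  · exact (DerivedCategory.isGE_iff _ 0).1 h0 (m + i) hlt
  · exact (DerivedCategory.isLE_iff _ 0).1 h1 (m + i) hgt

end Homology

section Local

variable {A₁ κ' : Type u} [CommRing A₁] [IsLocalRing A₁] [Field κ']

noncomputable local instance : Field (A₁ ⧸ IsLocalRing.maximalIdeal A₁) := Ideal.Quotient.field _

/-- a pseudo-coherent complex over a local ring with fibre `κ'[m]` has cohomology `A₁` in degree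
`-m` only. -/
theorem homology_of_fibre_shift (χ : A₁ →+* κ')
    (hχ : ∀ x ∈ IsLocalRing.maximalIdeal A₁, χ x = 0) [DRing.HasLBaseChange χ]
    {K : Dual.D A₁} (r : FFRep K) (m : ℤ)
    (e : (DRing.LBaseChange χ).obj K ≅ (Dual.inD κ' κ')⟦m⟧) :
    (∀ i : ℤ, i ≠ -m → Subsingleton (Dual.HD A₁ K i)) ∧
      Nonempty (Dual.HD A₁ K (-m) ≃ₗ[A₁] A₁) := by
  haveI := hasLBaseChange (Ideal.Quotient.mk (IsLocalRing.maximalIdeal A₁))
  obtain ⟨j, hj⟩ : ∃ j : A₁ ⧸ IsLocalRing.maximalIdeal A₁ →+* κ',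
      j.comp (Ideal.Quotient.mk (IsLocalRing.maximalIdeal A₁)) = χ :=
    ⟨Ideal.Quotient.lift _ χ hχ, Ideal.Quotient.lift_comp_mk _ χ hχ⟩
  haveI := hasLBaseChange j
  obtain ⟨e1⟩ := nonempty_lbc_comp_iso' r (Ideal.Quotient.mk (IsLocalRing.maximalIdeal A₁)) j χ hj
  letI : Algebra (A₁ ⧸ IsLocalRing.maximalIdeal A₁) κ' := j.toAlgebra
  obtain ⟨e3⟩ := lbc_iso_extD κ'
    ((DRing.LBaseChange (Ideal.Quotient.mk (IsLocalRing.maximalIdeal A₁))).obj K)
  -- dimensions of the cohomology of the reduction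
  have hdim : ∀ i : ℤ, Module.finrank (A₁ ⧸ IsLocalRing.maximalIdeal A₁)
      (Dual.HD (A₁ ⧸ IsLocalRing.maximalIdeal A₁)
        ((DRing.LBaseChange (Ideal.Quotient.mk (IsLocalRing.maximalIdeal A₁))).obj K) i) =
      Module.finrank κ' (Dual.HD κ' ((Dual.inD κ' κ')⟦m⟧) i) := fun i => by
    have l1 : Dual.HD κ' ((extD (A₁ ⧸ IsLocalRing.maximalIdeal A₁) κ').obj
          ((DRing.LBaseChange (Ideal.Quotient.mk (IsLocalRing.maximalIdeal A₁))).obj K)) i ≃ₗ[κ']
        κ' ⊗[A₁ ⧸ IsLocalRing.maximalIdeal A₁]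
          Dual.HD (A₁ ⧸ IsLocalRing.maximalIdeal A₁)
            ((DRing.LBaseChange (Ideal.Quotient.mk (IsLocalRing.maximalIdeal A₁))).obj K) i :=
      (homologyMapDIso (ext (A₁ ⧸ IsLocalRing.maximalIdeal A₁) κ') _ i).toLinearEquiv ≪≫ₗ
        extEquiv _
    have l2 : Dual.HD κ' ((Dual.inD κ' κ')⟦m⟧) i ≃ₗ[κ']
        Dual.HD κ' ((extD (A₁ ⧸ IsLocalRing.maximalIdeal A₁) κ').obj
          ((DRing.LBaseChange (Ideal.Quotient.mk (IsLocalRing.maximalIdeal A₁))).obj K)) i :=
      ((homologyFunctor (ModuleCat.{u} κ') i).mapIso (e.symm ≪≫ e1.symm ≪≫ e3)).toLinearEquiv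
    rw [(l2 ≪≫ₗ l1).finrank_eq, Module.finrank_baseChange]
  -- the minimal complex
  obtain ⟨-, -, P, ⟨b, hPb⟩, hP, ⟨eP⟩⟩ := exists_minimal K ⟨r.G, r.b, r.van, r.ff, ⟨r.e⟩⟩
  have hHD : ∀ i : ℤ, (homologyFunctor (ModuleCat.{u} A₁) i).obj K ≅ P.homology i := fun i =>
    (homologyFunctor (ModuleCat.{u} A₁) i).mapIso eP.symm ≪≫
      (homologyFunctorFactors (ModuleCat.{u} A₁) i).app P
  have hzero : ∀ i : ℤ, i ≠ -m → IsZero (P.X i) := fun i hi => by
    haveI := (hP i).1
    haveI := (hP i).2.1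
    have h1 := (hP i).2.2
    rw [hdim i] at h1
    haveI : Subsingleton (Dual.HD κ' ((Dual.inD κ' κ')⟦m⟧) i) :=
      ModuleCat.subsingleton_of_isZero (isZero_HD_inD_shift (ModuleCat.of κ' κ') m i hi)
    have h0 : Module.finrank κ' (Dual.HD κ' ((Dual.inD κ' κ')⟦m⟧) i) = 0 :=
      Module.finrank_zero_of_subsingleton
    rw [h0] at h1
    haveI : Subsingleton (P.X i) := (Module.finrank_eq_zero_iff_of_free A₁ (P.X i)).1 h1
    exact ModuleCat.isZero_of_subsingleton _
  refine ⟨fun i hi => ?_, ?_⟩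
  · exact ModuleCat.subsingleton_of_isZero
      ((isZero_homology_of_isZero_X P i (hzero i hi)).of_iso (hHD i))
  · obtain ⟨e4⟩ := nonempty_homology_iso_of_isZero_neighbors P (-m)
      (hzero _ (by omega)) (hzero _ (by omega))
    haveI := (hP (-m)).1
    haveI := (hP (-m)).2.1
    have h1 := (hP (-m)).2.2
    rw [hdim (-m)] at h1
    obtain ⟨e5⟩ := Groth.Agent.Lib.Helper5.GorLocus.nonempty_HD_inD_shift_iso
      (ModuleCat.of κ' κ') m (-m) rfl
    rw [e5.toLinearEquiv.finrank_eq, Module.finrank_self] at h1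
    have h2 : Module.finrank A₁ (P.X (-m)) = Module.finrank A₁ A₁ := by
      rw [h1, Module.finrank_self]
    exact ⟨(hHD (-m) ≪≫ e4).toLinearEquiv ≪≫ₗ LinearEquiv.ofFinrankEq _ _ h2⟩

end Local

end Groth.Agent.Lib.Helper5.RelGor
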