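import Mathlib
import Groth.Agent.Lib.Helper5FlatDual
import Groth.Agent.Lib.Helper5DualCxHom
import Groth.Agent.Lib.Helper5CoextB
import Groth.Agent.Lib.Helper5GorLocus
import Groth.Agent.Lib.Helper17DRingAdj3
import Groth.Agent.S0364
import Groth.Agent.S0973

/-!
# Flat local homomorphisms with Gorenstein closed fibre and dualizing complexes (helper5)

* `shiftHomEquiv`: `Hom(X[-i], Z) ≃ₗ Hom(X, Z[i])`.
* `bcEquiv`: the flat base change isomorphism `B ⊗ Hom(K, Y) ≃ₗ[B] Hom(K_B, Y_B)`.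
* `RG_shift_iso_of_ext_quot`: if `Ext^i_B(B/J, K)` vanishes for `i ≠ d` and is `B/J` for `i = d`,
  then `RHom_B(B/J, K)[d] ≅ B/J` in `D(B/J)`.
* `isDualizing_extD_of_gor_closedFibre`: for a flat local homomorphism `A → B` of Noetherian local
  rings with Gorenstein closed fibre, the base change of a dualizing complex is dualizing.
-/

set_option autoImplicit false
universe u
open CategoryTheory CategoryTheory.Limits
attribute [local instance] HasDerivedCategory.standard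

namespace Groth.Agent.Lib.Helper5.GorFib

open DerivedCategory Groth.Agent.Lib.Helper1.Extend Groth.Agent.Lib.Helper5.LocD
  Groth.Agent.Lib.Helper5.HomBC Groth.Agent.Lib.Helper5.Bass Groth.Agent.Lib.Helper5.BiDual
  Groth.Agent.Lib.Helper5.Coext Groth.Agent.Lib.Helper17.DRingAdj
  Groth.Agent.Lib.Helper5.NormDual Groth.Agent.Lib.Helper5.GorLocus TensorProduct

section ShiftHom

variable {R : Type u} [CommRing R]

/-- `Hom(X[-i], Z) ≃ₗ Hom(X, Z[i])` -/
noncomputable def shiftHomEquiv (X Z : Dual.D R) (i : ℤ) : (X⟦-i⟧ ⟶ Z) ≃ₗ[R] (X ⟶ Z⟦i⟧) :=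
  (LinearEquiv.ofBijective
    ((shiftFunctor (Dual.D R) i).mapLinearMap R (X := X⟦-i⟧) (Y := Z))
    ⟨(shiftFunctor (Dual.D R) i).map_injective, (shiftFunctor (Dual.D R) i).map_surjective⟩) ≪≫ₗ
  Linear.homCongr R ((shiftFunctorCompIsoId (Dual.D R) (-i) i (by omega)).app X) (Iso.refl _)

end ShiftHom

section BcLin

variable {A : Type u} [CommRing A] (B : Type u) [CommRing B] [Algebra A B] [Module.Flat A B]

/-- `bc` as a `B`-linear map -/
noncomputable def bcLin (K Y : Dual.D A) :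
    B ⊗[A] (K ⟶ Y) →ₗ[B] ((extD A B).obj K ⟶ (extD A B).obj Y) where
  toFun := bc B K Y
  map_add' := map_add _
  map_smul' := fun b x => by
    rw [RingHom.id_apply]
    induction x using TensorProduct.induction_on with
    | zero => rw [smul_zero, map_zero, smul_zero]
    | tmul b' t => rw [TensorProduct.smul_tmul', bc_tmul, bc_tmul, smul_eq_mul, mul_smul]
    | add x y hx hy => rw [smul_add, map_add, map_add, smul_add, hx, hy]

/-- flat base change of `Hom` in the derived category, as a `B`-linear equivalence -/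
noncomputable def bcEquiv {K Y : Dual.D A} (hK : DRing.IsPseudoCoherent' A K) (hY : HasBBRes Y) :
    B ⊗[A] (K ⟶ Y) ≃ₗ[B] ((extD A B).obj K ⟶ (extD A B).obj Y) :=
  LinearEquiv.ofBijective (bcLin B K Y) (bc_bijective B hK hY)

end BcLin

section PartI

variable {B : Type u} [CommRing B] [IsNoetherianRing B] (J : Ideal B)

theorem RG_shift_iso_of_ext_quot (K : Dual.D B) (a : ℤ)
    (hK : ∀ j : ℤ, j < a → Subsingleton (Dual.HD B K j)) (d : ℤ)
    (hvan : ∀ i : ℤ, i ≠ d → Subsingleton (Dual.inD B (B ⧸ J) ⟶ K⟦i⟧))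
    (hd : Nonempty ((Dual.inD B (B ⧸ J) ⟶ K⟦d⟧) ≃ₗ[B] (B ⧸ J))) :
    Nonempty (((RG B (B ⧸ J)).obj K)⟦d⟧ ≅ Dual.inD (B ⧸ J) (B ⧸ J)) := by
  obtain ⟨E, a', hz, hinj, ⟨e⟩⟩ := hasInjRes_of_bddBelow K a hK
  haveI : E.IsKInjective := isKInjective_of_bddBelow E a' hz hinj
  let Y := (RG B (B ⧸ J)).obj (Q.obj E)
  have L : ∀ i : ℤ,
      ((Fr B (B ⧸ J)).obj ((homologyFunctor (ModuleCat.{u} (B ⧸ J)) i).obj Y)) ≃ₗ[B]
      (Dual.inD B (B ⧸ J) ⟶ K⟦i⟧) := fun i =>
    (homologyMapDIso (Fr B (B ⧸ J)) Y i).symm.toLinearEquiv ≪≫ₗ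
    ((homologyFunctor (ModuleCat.{u} B) i).mapIso (J₀ (B ⧸ J) E)).toLinearEquiv ≪≫ₗ
    ((homologyFunctorFactors (ModuleCat.{u} B) i).app
      (dualCx E (Bm B (B ⧸ J)))).toLinearEquiv ≪≫ₗ
    homologyDualCxEquiv E (Bm B (B ⧸ J)) i ≪≫ₗ
    Linear.homCongr B (((DerivedCategory.singleFunctors (ModuleCat.{u} B)).shiftIso (-i) i 0
      (by lia)).app (Bm B (B ⧸ J))).symm e ≪≫ₗ
    shiftHomEquiv _ K i ≪≫ₗ
    Linear.homCongr B ((DerivedCategory.singleFunctor (ModuleCat.{u} B) 0).mapIso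
      (resSelfLin (A := B) (B := B ⧸ J)).toModuleIso) (Iso.refl _)
  have hz0 : ∀ i : ℤ, i ≠ d →
      IsZero ((homologyFunctor (ModuleCat.{u} (B ⧸ J)) i).obj Y) := by
    intro i hi
    haveI := hvan i hi
    have h1 : Subsingleton
        ((Fr B (B ⧸ J)).obj ((homologyFunctor (ModuleCat.{u} (B ⧸ J)) i).obj Y)) :=
      (L i).toEquiv.subsingleton
    have h2 : Subsingleton ((homologyFunctor (ModuleCat.{u} (B ⧸ J)) i).obj Y) := h1
    exact ModuleCat.isZero_of_subsingleton _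
  haveI : Y.IsGE d := (DerivedCategory.isGE_iff Y d).mpr fun i hi => hz0 i (by lia)
  haveI : Y.IsLE d := (DerivedCategory.isLE_iff Y d).mpr fun i hi => hz0 i (by lia)
  obtain ⟨e1⟩ := Groth.Agent.S0973.iso_single_of_amp Y d
  obtain ⟨eqd⟩ := hd
  let Ld := (L d) ≪≫ₗ eqd
  let LF : ((homologyFunctor (ModuleCat.{u} (B ⧸ J)) d).obj Y) ≃ₗ[B ⧸ J] (B ⧸ J) :=
    { toFun := fun x => Ld x
      invFun := fun y => Ld.symm y
      left_inv := fun x => Ld.symm_apply_apply x
      right_inv := fun y => Ld.apply_symm_apply y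
      map_add' := fun x y => Ld.map_add x y
      map_smul' := fun f x => by
        obtain ⟨b, rfl⟩ := Ideal.Quotient.mk_surjective f
        have h1 : Ld (b • (show ((Fr B (B ⧸ J)).obj
            ((homologyFunctor (ModuleCat.{u} (B ⧸ J)) d).obj Y)) from x)) = b • Ld x :=
          Ld.map_smul b x
        rw [RingHom.id_apply, smul_eq_mul]
        refine h1.trans ?_
        rw [Algebra.smul_def, Ideal.Quotient.algebraMap_eq] }
  exact ⟨(shiftFunctor (Dual.D (B ⧸ J)) d).mapIso ((RG B (B ⧸ J)).mapIso e.symm ≪≫ e1 ≪≫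
      (DerivedCategory.singleFunctor (ModuleCat.{u} (B ⧸ J)) d).mapIso LF.toModuleIso) ≪≫
    ((DerivedCategory.singleFunctors (ModuleCat.{u} (B ⧸ J))).shiftIso d 0 d (by lia)).app
      (ModuleCat.of (B ⧸ J) (B ⧸ J))⟩

end PartI

end Groth.Agent.Lib.Helper5.GorFib
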