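import Mathlib
import Groth.Agent.Lib.Helper5DualDimA
import Groth.Agent.Lib.Helper5DualLocal3

/-!
# `Ext` of a quotient by a regular sequence into the ring (helper5)

For a list `l` of length `c` in a commutative ring `B` which is a regular sequence (each member a
nonzerodivisor modulo the later ones, `RegSeq`), with `J = (l)`:
`Hom_{D(B)}(B/J, B[j]) = 0` for `j ≠ c`, and `Hom_{D(B)}(B/J, B[c])` is a cyclic `B`-module with
annihilator `J`, i.e. isomorphic to `B/J` (`ext_quot_regSeq`, `nonempty_ext_equiv`).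
-/

set_option autoImplicit false
universe u
open CategoryTheory CategoryTheory.Limits
attribute [local instance] HasDerivedCategory.standard

namespace Groth.Agent.Lib.Helper5.LciOm

open DerivedCategory Pretriangulated
open Groth.Agent.Lib.Helper5.DualLocal Groth.Agent.Lib.Helper5.NormDual
  Groth.Agent.Lib.Helper5.DualDim

variable {B : Type u} [CommRing B]

/-- regular sequence read from the right: each member is a nonzerodivisor modulo the later ones -/
def RegSeq : List B → Prop
  | [] => True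
  | x :: l => RegSeq l ∧ ∀ c : B, x * c ∈ Ideal.ofList l → c ∈ Ideal.ofList l

lemma mulSC_shortExact' (q : Ideal B) (x : B) (hx : ∀ c : B, x * c ∈ q → c ∈ q) :
    (mulSC q x).ShortExact := by
  refine ModuleCat.shortComplex_shortExact _ ?_ ?_ ?_
  · intro y
    constructor
    · intro hy
      obtain ⟨a, rfl⟩ := Submodule.Quotient.mk_surjective q y
      have h1 : (Submodule.Quotient.mk a : B ⧸ (q ⊔ Ideal.span {x})) = 0 := hy
      rw [Submodule.Quotient.mk_eq_zero] at h1
      obtain ⟨b, hb, c, hc, rfl⟩ := Submodule.mem_sup.mp h1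
      obtain ⟨d, rfl⟩ := Ideal.mem_span_singleton'.mp hc
      refine ⟨Submodule.Quotient.mk d, ?_⟩
      show x • (Submodule.Quotient.mk d : B ⧸ q) = Submodule.Quotient.mk (b + d * x)
      rw [← Submodule.Quotient.mk_smul, eq_comm, ← sub_eq_zero, ← Submodule.Quotient.mk_sub,
        Submodule.Quotient.mk_eq_zero]
      have : b + d * x - x • d = b := by
        rw [smul_eq_mul]; ring
      rw [this]
      exact hb
    · rintro ⟨z, rfl⟩
      exact ShortComplex.moduleCat_zero_apply _ z
  · show Function.Injective ((mulSC q x).f.hom)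
    rw [injective_iff_map_eq_zero]
    intro y hy
    obtain ⟨a, rfl⟩ := Submodule.Quotient.mk_surjective q y
    have h1 : (Submodule.Quotient.mk (x • a) : B ⧸ q) = 0 := hy
    rw [Submodule.Quotient.mk_eq_zero] at h1
    show (Submodule.Quotient.mk a : B ⧸ q) = 0
    rw [Submodule.Quotient.mk_eq_zero]
    exact hx a h1
  · intro y
    obtain ⟨a, rfl⟩ := Submodule.Quotient.mk_surjective _ y
    exact ⟨Submodule.Quotient.mk a, rfl⟩

lemma hom_inD_self_shift_eq_zero (j : ℤ) (hj : j ≠ 0)
    (g : Dual.inD B B ⟶ (Dual.inD B B)⟦j⟧) : g = 0 := by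
  refine (forall_eq_zero_iff_subsingleton_HD (Dual.inD B B) j).mpr ?_ g
  have hz : IsZero ((homologyFunctor (ModuleCat.{u} B) j).obj (Dual.inD B B)) := by
    rcases lt_or_gt_of_ne hj with h | h
    · exact isZero_of_isGE _ 0 j h
    · exact isZero_of_isLE _ 0 j h
  exact ModuleCat.subsingleton_of_isZero hz

lemma end_inD_self (t : Dual.inD B B ⟶ Dual.inD B B) : ∃ b : B, t = b • 𝟙 _ := by
  obtain ⟨φ, rfl⟩ := (singleFunctor (ModuleCat.{u} B) 0).map_surjective t
  refine ⟨φ.hom (1 : B), ?_⟩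
  have h : φ = (φ.hom (1 : B)) • 𝟙 (ModuleCat.of B B) := by
    refine ModuleCat.hom_ext (LinearMap.ext fun y => ?_)
    show φ.hom y = (φ.hom 1) • y
    have h1 : y = y • (1 : B) := by rw [smul_eq_mul, mul_one]
    conv_lhs => rw [h1]
    rw [map_smul, smul_eq_mul, smul_eq_mul, mul_comm]
  conv_lhs => rw [h]
  rw [Functor.map_smul, CategoryTheory.Functor.map_id]

lemma smul_id_inD_self_eq_zero (b : B) (h : b • 𝟙 (Dual.inD B B) = 0) : b = 0 := by
  have h3 : (singleFunctor (ModuleCat.{u} B) 0).map (b • 𝟙 (ModuleCat.of B B)) = 0 := by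
    rw [Functor.map_smul, CategoryTheory.Functor.map_id]
    exact h
  have h4 : b • 𝟙 (ModuleCat.of B B) = 0 :=
    (singleFunctor (ModuleCat.{u} B) 0).map_injective (h3.trans (Functor.map_zero _ _ _).symm)
  have h5 := congrArg (fun φ : ModuleCat.of B B ⟶ ModuleCat.of B B => φ.hom (1 : B)) h4
  simpa using h5

/-- the main computation -/
theorem ext_quot_regSeq : ∀ (l : List B), RegSeq l → ∀ (J : Ideal B), J = Ideal.ofList l →
    (∀ j : ℤ, j ≠ (l.length : ℤ) → ∀ t : Dual.inD B (B ⧸ J) ⟶ (Dual.inD B B)⟦j⟧, t = 0) ∧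
    ∃ t₀ : Dual.inD B (B ⧸ J) ⟶ (Dual.inD B B)⟦(l.length : ℤ)⟧,
      (∀ t : Dual.inD B (B ⧸ J) ⟶ (Dual.inD B B)⟦(l.length : ℤ)⟧, ∃ b : B, t = b • t₀) ∧
        ∀ b : B, b • t₀ = 0 ↔ b ∈ J
  | [], _, J, hJ => by
    have hJ' : J = ⊥ := hJ.trans Ideal.ofList_nil
    let e₀ : (B ⧸ J) ≃ₗ[B] B := Submodule.quotEquivOfEqBot J hJ'
    let ι : Dual.inD B (B ⧸ J) ≅ Dual.inD B B := inDIso e₀
    refine ⟨fun j hj t => ?_, ?_⟩
    · have hj0 : j ≠ 0 := by simpa using hj
      have h0 := hom_inD_self_shift_eq_zero j hj0 (ι.inv ≫ t)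
      exact (cancel_epi ι.inv).mp (h0.trans comp_zero.symm)
    · let z : (Dual.inD B B)⟦((([] : List B).length : ℕ) : ℤ)⟧ ≅ Dual.inD B B :=
        (shiftFunctorZero' (Dual.D B) ((([] : List B).length : ℕ) : ℤ) (by simp)).app
          (Dual.inD B B)
      refine ⟨ι.hom ≫ z.inv, fun t => ?_, fun b => ?_⟩
      · obtain ⟨b, hb⟩ := end_inD_self (ι.inv ≫ t ≫ z.hom)
        refine ⟨b, ?_⟩
        have h1 : t = ι.hom ≫ (ι.inv ≫ t ≫ z.hom) ≫ z.inv := by
          rw [Category.assoc, Category.assoc, Iso.hom_inv_id, Category.comp_id,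
            Iso.hom_inv_id_assoc]
        rw [h1, hb, Linear.smul_comp, Linear.comp_smul, Category.id_comp]
      · constructor
        · intro h
          have h1 : b • 𝟙 (Dual.inD B B) = 0 := by
            have h2 : b • 𝟙 (Dual.inD B B) = ι.inv ≫ (b • (ι.hom ≫ z.inv)) ≫ z.hom := by
              rw [Linear.smul_comp, Linear.comp_smul, Category.assoc, Iso.inv_hom_id,
                Category.comp_id, Iso.inv_hom_id]
            rw [h2, h, zero_comp, comp_zero]
          have h3 : b = 0 := smul_id_inD_self_eq_zero b h1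
          rw [h3]
          exact zero_mem _
        · intro hb
          have h3 : b = 0 := by
            rw [hJ'] at hb
            exact (Submodule.mem_bot B).mp hb
          rw [h3, zero_smul]
  | x :: l, hreg, J, hJ => by
    obtain ⟨hl, hx⟩ := hreg
    obtain ⟨van', t₀', gen', ann'⟩ := ext_quot_regSeq l hl (Ideal.ofList l) rfl
    have hJ2 : J = Ideal.ofList l ⊔ Ideal.span {x} := by
      rw [hJ, Ideal.ofList_cons, sup_comm]
    subst hJ2
    have hS := mulSC_shortExact' (Ideal.ofList l) x hx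
    have hlen : ((x :: l).length : ℤ) = (l.length : ℤ) + 1 := by simp
    -- multiplication by `x` is injective on `Hom(B/J', Y[j])` for `j ≠ c`
    have claim : ∀ (j : ℤ), j ≠ (l.length : ℤ) + 1 →
        ∀ u : Dual.inD B (B ⧸ Ideal.ofList l) ⟶ (Dual.inD B B)⟦j⟧, x • u = 0 → u = 0 := by
      intro j hj u hu
      by_cases hjc : j = (l.length : ℤ)
      · subst hjc
        obtain ⟨b, rfl⟩ := gen' u
        rw [smul_smul] at hu
        have h1 := hx b ((ann' _).mp hu)
        exact (ann' b).mpr h1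
      · exact van' j hjc u
    refine ⟨fun j hj t => ?_, ?_⟩
    · rw [hlen] at hj
      have hj1 : j - 1 ≠ (l.length : ℤ) := by omega
      let α := (shiftFunctorAdd' (DerivedCategory (ModuleCat.{u} B)) (j - 1) 1 j
        (by omega)).app (Dual.inD B B)
      let t3 : (singleFunctor (ModuleCat.{u} B) 0).obj (mulSC (Ideal.ofList l) x).X₃ ⟶
          (Dual.inD B B)⟦j⟧ := t
      let u : (singleFunctor (ModuleCat.{u} B) 0).obj (mulSC (Ideal.ofList l) x).X₂ ⟶
          (Dual.inD B B)⟦j⟧ :=
        (singleFunctor (ModuleCat.{u} B) 0).map (mulSC (Ideal.ofList l) x).g ≫ t3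
      have hxu : x • u = 0 := by
        rw [← map_mulSC_f_comp (Ideal.ofList l) x _ u]
        show (singleFunctor (ModuleCat.{u} B) 0).map (mulSC (Ideal.ofList l) x).f ≫
          (singleFunctor (ModuleCat.{u} B) 0).map (mulSC (Ideal.ofList l) x).g ≫ t3 = 0
        rw [← Category.assoc, ← Functor.map_comp, (mulSC (Ideal.ofList l) x).zero,
          Functor.map_zero, zero_comp]
      have hu0 : u = 0 := claim j hj u hxu
      have hh : (singleFunctor (ModuleCat.{u} B) 0).map (mulSC (Ideal.ofList l) x).g ≫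
          (t3 ≫ α.hom) = 0 := by
        rw [← Category.assoc]
        show u ≫ α.hom = 0
        rw [hu0, zero_comp]
      obtain ⟨k, hk⟩ := exists_of_g_comp_eq_zero _ hS ((Dual.inD B B)⟦j - 1⟧) (t3 ≫ α.hom) hh
      have hk0 : k = 0 := van' (j - 1) hj1 k
      rw [hk0, Functor.map_zero, comp_zero] at hk
      exact (cancel_mono α.hom).mp (hk.trans zero_comp.symm)
    · let β := (shiftFunctorAdd' (DerivedCategory (ModuleCat.{u} B)) (l.length : ℤ) 1
        ((x :: l).length : ℤ) (by simp)).app (Dual.inD B B)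
      let t1 : (singleFunctor (ModuleCat.{u} B) 0).obj (mulSC (Ideal.ofList l) x).X₁ ⟶
          (Dual.inD B B)⟦(l.length : ℤ)⟧ := t₀'
      obtain ⟨t₀, ht₀⟩ : ∃ t₀ : Dual.inD B (B ⧸ (Ideal.ofList l ⊔ Ideal.span {x})) ⟶
          (Dual.inD B B)⟦((x :: l).length : ℤ)⟧, t₀ = (hS.singleδ ≫ t1⟦(1 : ℤ)⟧') ≫ β.inv :=
        ⟨_, rfl⟩
      have hΔ : ∀ (b : B), (hS.singleδ ≫ (b • t1)⟦(1 : ℤ)⟧') ≫ β.inv = b • t₀ := by
        intro b
        rw [ht₀, Functor.map_smul, Linear.comp_smul, Linear.smul_comp]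
        rfl
      refine ⟨t₀, fun s => ?_, fun b => ?_⟩
      · have hc : ((x :: l).length : ℤ) ≠ (l.length : ℤ) := by simp
        let s3 : (singleFunctor (ModuleCat.{u} B) 0).obj (mulSC (Ideal.ofList l) x).X₃ ⟶
          (Dual.inD B B)⟦((x :: l).length : ℤ)⟧ := s
        have h0 : (singleFunctor (ModuleCat.{u} B) 0).map (mulSC (Ideal.ofList l) x).g ≫ s3 = 0 :=
          van' _ hc _
        have hh : (singleFunctor (ModuleCat.{u} B) 0).map (mulSC (Ideal.ofList l) x).g ≫
            (s3 ≫ β.hom) = 0 := by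
          rw [← Category.assoc, h0, zero_comp]
        obtain ⟨k, hk⟩ := exists_of_g_comp_eq_zero _ hS ((Dual.inD B B)⟦(l.length : ℤ)⟧)
          (s3 ≫ β.hom) hh
        obtain ⟨b, hb⟩ := gen' k
        refine ⟨b, ?_⟩
        have h1 : s = (s3 ≫ β.hom) ≫ β.inv := by
          rw [Category.assoc, Iso.hom_inv_id, Category.comp_id]
        have h2 : (s3 ≫ β.hom) ≫ β.inv = (hS.singleδ ≫ (b • t1)⟦(1 : ℤ)⟧') ≫ β.inv := by
          rw [hk, hb]
          rfl
        exact h1.trans (h2.trans (hΔ b))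
      · constructor
        · intro h
          have h1 : hS.singleδ ≫ (b • t1)⟦(1 : ℤ)⟧' = 0 := by
            have h2 := (hΔ b).trans h
            exact (cancel_mono β.inv).mp (h2.trans zero_comp.symm)
          obtain ⟨g', hg'⟩ := exists_factor_of_δ_comp_eq_zero _ hS
            ((Dual.inD B B)⟦(l.length : ℤ)⟧) (b • t1) h1
          rw [map_mulSC_f_comp] at hg'
          obtain ⟨b', hb'⟩ := gen' g'
          have h3 : (b - x * b') • t₀' = 0 := by
            rw [sub_smul, mul_smul, ← hb']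
            exact sub_eq_zero.mpr hg'
          have h4 := (ann' _).mp h3
          have h5 : b = (b - x * b') + b' * x := by ring
          rw [h5]
          exact Submodule.add_mem _ (Ideal.mem_sup_left h4)
            (Ideal.mem_sup_right (Ideal.mem_span_singleton'.mpr ⟨b', rfl⟩))
        · intro hb
          obtain ⟨j', hj', y, hy, rfl⟩ := Submodule.mem_sup.mp hb
          obtain ⟨d, rfl⟩ := Ideal.mem_span_singleton'.mp hy
          have h5 : (j' + d * x) • t1 =
              (singleFunctor (ModuleCat.{u} B) 0).map (mulSC (Ideal.ofList l) x).f ≫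
                (d • t1) := by
            have hj0 : j' • t1 = 0 := (ann' j').mpr hj'
            rw [map_mulSC_f_comp, add_smul, hj0, zero_add, mul_comm d x]
            exact mul_smul x d t1
          have h6 : (hS.singleδ ≫ ((j' + d * x) • t1)⟦(1 : ℤ)⟧') ≫ β.inv = 0 := by
            rw [h5, Functor.map_comp, ← Category.assoc hS.singleδ, δ_comp_f, zero_comp, zero_comp]
          exact (hΔ _).symm.trans h6

/-- `Ext^c(B/J, B) ≅ B/J` for `J` generated by a regular sequence of length `c`. -/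
theorem nonempty_ext_equiv (l : List B) (hl : RegSeq l) (J : Ideal B) (hJ : J = Ideal.ofList l) :
    Nonempty ((Dual.inD B (B ⧸ J) ⟶ (Dual.inD B B)⟦(l.length : ℤ)⟧) ≃ₗ[B] (B ⧸ J)) := by
  obtain ⟨-, t₀, gen, ann⟩ := ext_quot_regSeq l hl J hJ
  let φ : B →ₗ[B] (Dual.inD B (B ⧸ J) ⟶ (Dual.inD B B)⟦(l.length : ℤ)⟧) :=
    LinearMap.toSpanSingleton B _ t₀
  have hsurj : Function.Surjective φ := fun t => by
    obtain ⟨b, hb⟩ := gen t
    exact ⟨b, hb.symm⟩
  have hker : LinearMap.ker φ = J := by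
    ext b
    rw [LinearMap.mem_ker]
    exact ann b
  exact ⟨((Submodule.quotEquivOfEq _ _ hker).symm.trans
    (φ.quotKerEquivOfSurjective hsurj)).symm⟩

end Groth.Agent.Lib.Helper5.LciOm
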