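import Mathlib
import Groth.Agent.Lib.Helper5GorFibA
import Groth.Agent.Lib.Helper5LciOmA

/-!
# `RHom_P(A, P)` for a quotient by a regular sequence, after localization (helper5)

Let `P → A` be a surjection of rings with kernel `I`, `P` Noetherian, `Rr` a right adjoint of
restriction of scalars `D(A) ⥤ D(P)`, and suppose that on a localization `P_g` the ideal `I` is
generated by a regular sequence of length `c`.  Then with `f` the image of `g` in `A`,
`(Rr P)[n] ⊗_A A_f ≅ A_f[n - c]` in `D(A_f)` (`shriek_iso`).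

The steps: the cohomology of `Rr K` is `Hom_{D(P)}(A, K[i])`
(`nonempty_homology_rightAdjoint_equiv`), flat base change of `Hom` for pseudo-coherent sources
(`chainEquiv`), the regular sequence computation of `Helper5LciOmA`, and elementwise comparison
of localizations of modules over `P` and over `A`.
-/

set_option autoImplicit false
universe u
open CategoryTheory CategoryTheory.Limits
attribute [local instance] HasDerivedCategory.standard

namespace Groth.Agent.Lib.Helper5.LciOm

open DerivedCategory Groth.Agent.Lib.Helper1.Extend Groth.Agent.Lib.Helper5.LocD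
  Groth.Agent.Lib.Helper5.HomBC Groth.Agent.Lib.Helper5.Bass Groth.Agent.Lib.Helper5.BiDual
  Groth.Agent.Lib.Helper5.Coext Groth.Agent.Lib.Helper17.DRingAdj
  Groth.Agent.Lib.Helper5.NormDual Groth.Agent.Lib.Helper5.GorFib TensorProduct

section Adj

variable {P A : Type u} [CommRing P] [CommRing A] [Algebra P A]

/-- the cohomology of `RHom_P(A, K)` is `Hom_{D(P)}(A, K[i])`, `P`-linearly. -/
theorem nonempty_homology_rightAdjoint_equiv (Rr : Dual.D P ⥤ Dual.D A)
    (adj : DRing.restrictD (algebraMap P A) ⊣ Rr) (K : Dual.D P) (a : ℤ)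
    (hK : ∀ j : ℤ, j < a → Subsingleton (Dual.HD P K j)) (i : ℤ) :
    Nonempty (((Fr P A).obj ((homologyFunctor (ModuleCat.{u} A) i).obj (Rr.obj K))) ≃ₗ[P]
      (Dual.inD P A ⟶ K⟦i⟧)) := by
  obtain ⟨E, a', hz, hinj, ⟨e⟩⟩ := hasInjRes_of_bddBelow K a hK
  haveI : E.IsKInjective := isKInjective_of_bddBelow E a' hz hinj
  let Y := (RG P A).obj (Q.obj E)
  let e' : Y ≅ Rr.obj K := (RG P A).mapIso e ≪≫ ((adjD P A).rightAdjointUniq adj).app K
  exact ⟨((Fr P A).mapIso ((homologyFunctor (ModuleCat.{u} A) i).mapIso e'.symm)).toLinearEquiv ≪≫ₗ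
    (homologyMapDIso (Fr P A) Y i).symm.toLinearEquiv ≪≫ₗ
    ((homologyFunctor (ModuleCat.{u} P) i).mapIso (J₀ A E)).toLinearEquiv ≪≫ₗ
    ((homologyFunctorFactors (ModuleCat.{u} P) i).app (dualCx E (Bm P A))).toLinearEquiv ≪≫ₗ
    homologyDualCxEquiv E (Bm P A) i ≪≫ₗ
    Linear.homCongr P (((DerivedCategory.singleFunctors (ModuleCat.{u} P)).shiftIso (-i) i 0
      (by lia)).app (Bm P A)).symm e ≪≫ₗ
    shiftHomEquiv _ K i ≪≫ₗ
    Linear.homCongr P ((DerivedCategory.singleFunctor (ModuleCat.{u} P) 0).mapIso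
      (resSelfLin (A := P) (B := A)).toModuleIso) (Iso.refl _)⟩

end Adj

section Chain

variable {P : Type u} [CommRing P] [IsNoetherianRing P] (I : Ideal P)
  (Bt : Type u) [CommRing Bt] [Algebra P Bt] [Module.Flat P Bt]

/-- flat base change of `Ext^k_P(P/I, P)`. -/
noncomputable def chainEquiv (k : ℤ) :
    Bt ⊗[P] (Dual.inD P (P ⧸ I) ⟶ (Dual.inD P P)⟦k⟧) ≃ₗ[Bt]
      (Dual.inD Bt (Bt ⧸ I.map (algebraMap P Bt)) ⟶ (Dual.inD Bt Bt)⟦k⟧) :=
  bcEquiv Bt (pc'_inD_of_finite (P ⧸ I)) ((hasBBRes_of_isGE (Dual.inD P P) 0).shift k) ≪≫ₗ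
  Linear.homCongr Bt
    (extDInDIso (A := P) (B := Bt) (P ⧸ I) ≪≫
      inDIso (Algebra.TensorProduct.quotIdealMapEquivTensorQuot Bt I).toLinearEquiv.symm)
    (((extD P Bt).commShiftIso k).app (Dual.inD P P) ≪≫
      (shiftFunctor (Dual.D Bt) k).mapIso (extDInDIso (A := P) (B := Bt) P ≪≫
        inDIso (TensorProduct.AlgebraTensorModule.rid P Bt Bt)))

end Chain

section Elementwise

variable {A : Type u} [CommRing A]

theorem subsingleton_tensor_away_of_torsion (M : Type u) [AddCommGroup M] [Module A M] (f : A)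
    (h : ∀ m : M, ∃ N : ℕ, f ^ N • m = 0) : Subsingleton (Localization.Away f ⊗[A] M) := by
  refine ⟨fun a b => ?_⟩
  have key : ∀ z : Localization.Away f ⊗[A] M, z = 0 := by
    intro z
    induction z using TensorProduct.induction_on with
    | zero => rfl
    | tmul b m =>
      obtain ⟨N, hN⟩ := h m
      obtain ⟨v, hv⟩ : IsUnit (algebraMap A (Localization.Away f) (f ^ N)) := by
        rw [map_pow]
        exact (IsLocalization.Away.algebraMap_isUnit f).pow N
      have h1 : b = (f ^ N) • ((↑v⁻¹ : Localization.Away f) * b) := by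
        rw [Algebra.smul_def, ← hv, ← mul_assoc, Units.mul_inv, one_mul]
      rw [h1, TensorProduct.smul_tmul, hN, TensorProduct.tmul_zero]
    | add x y hx hy => rw [hx, hy, add_zero]
  rw [key a, key b]

theorem nonempty_tensor_away_equiv (M : Type u) [AddCommGroup M] [Module A M] (f : A) (h₀ : M)
    (hgen : ∀ m : M, ∃ (N : ℕ) (a : A), f ^ N • m = a • h₀)
    (hann : ∀ a : A, a • h₀ = 0 → ∃ N : ℕ, f ^ N * a = 0) :
    Nonempty ((Localization.Away f ⊗[A] M) ≃ₗ[Localization.Away f] Localization.Away f) := by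
  let φ : Localization.Away f →ₗ[Localization.Away f] Localization.Away f ⊗[A] M :=
    LinearMap.toSpanSingleton _ _ ((1 : Localization.Away f) ⊗ₜ[A] h₀)
  have hφ : ∀ b : Localization.Away f, φ b = b ⊗ₜ[A] h₀ := by
    intro b
    show b • ((1 : Localization.Away f) ⊗ₜ[A] h₀) = _
    rw [TensorProduct.smul_tmul', smul_eq_mul, mul_one]
  have hγ : IsUnit (algebraMap A (Localization.Away f) f) :=
    IsLocalization.Away.algebraMap_isUnit f
  have hsurj : Function.Surjective φ := by
    intro z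
    induction z using TensorProduct.induction_on with
    | zero => exact ⟨0, map_zero _⟩
    | tmul b m =>
      obtain ⟨N, a, hNa⟩ := hgen m
      obtain ⟨v, hv⟩ : IsUnit (algebraMap A (Localization.Away f) (f ^ N)) := by
        rw [map_pow]
        exact hγ.pow N
      refine ⟨a • ((↑v⁻¹ : Localization.Away f) * b), ?_⟩
      have h1 : b = (f ^ N) • ((↑v⁻¹ : Localization.Away f) * b) := by
        rw [Algebra.smul_def, ← hv, ← mul_assoc, Units.mul_inv, one_mul]
      rw [hφ, TensorProduct.smul_tmul, ← hNa, ← TensorProduct.smul_tmul, ← h1]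
    | add x y hx hy =>
      obtain ⟨b₁, h₁⟩ := hx
      obtain ⟨b₂, h₂⟩ := hy
      exact ⟨b₁ + b₂, by rw [map_add, h₁, h₂]⟩
  have hinj : Function.Injective φ := by
    rw [injective_iff_map_eq_zero]
    intro b hb
    obtain ⟨n, a, ha⟩ := IsLocalization.Away.surj f b
    have h1 : (algebraMap A (Localization.Away f) a) ⊗ₜ[A] h₀ =
        (0 : Localization.Away f ⊗[A] M) := by
      rw [← ha, ← hφ, mul_comm, ← smul_eq_mul, map_smul, hb, smul_zero]
    have h2 : TensorProduct.mk A (Localization.Away f) M 1 (a • h₀) =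
        TensorProduct.mk A (Localization.Away f) M 1 0 := by
      rw [map_zero, TensorProduct.mk_apply, ← TensorProduct.smul_tmul, Algebra.smul_def, mul_one]
      exact h1
    obtain ⟨N, hN⟩ := IsLocalizedModule.Away.exists_of_eq
      (f := TensorProduct.mk A (Localization.Away f) M 1) f h2
    rw [smul_zero, smul_smul] at hN
    obtain ⟨N', hN'⟩ := hann _ hN
    have h3 : algebraMap A (Localization.Away f) a = 0 := by
      have h4 : algebraMap A (Localization.Away f) (f ^ N' * (f ^ N * a)) = 0 := by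
        rw [hN', map_zero]
      rw [map_mul, map_mul, map_pow, map_pow] at h4
      exact (hγ.pow N).mul_right_eq_zero.mp ((hγ.pow N').mul_right_eq_zero.mp h4)
    rw [h3] at ha
    exact (hγ.pow n).mul_left_eq_zero.mp ha
  exact ⟨(LinearEquiv.ofBijective φ ⟨hinj, hsurj⟩).symm⟩

end Elementwise

section Transfer

variable {P A : Type u} [CommRing P] [CommRing A] [Algebra P A]

lemma smul_quot_mk {T : Type u} [CommRing T] (J : Ideal T) (c b : T) :
    c • (Ideal.Quotient.mk J b) = Ideal.Quotient.mk J (c * b) := rfl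

theorem torsion_of_subsingleton_tensor (M : ModuleCat.{u} A) (g : P) (Bt : Type u) [CommRing Bt]
    [Algebra P Bt] [IsLocalization.Away g Bt]
    (hsub : Subsingleton (Bt ⊗[P] ((Fr P A).obj M))) :
    ∀ m : M, ∃ N : ℕ, (algebraMap P A g) ^ N • m = 0 := by
  intro m
  let m' : (Fr P A).obj M := m
  have h1 : TensorProduct.mk P Bt ((Fr P A).obj M) 1 m' =
      TensorProduct.mk P Bt ((Fr P A).obj M) 1 0 := Subsingleton.elim _ _
  obtain ⟨N, hN⟩ := IsLocalizedModule.Away.exists_of_eq
    (f := TensorProduct.mk P Bt ((Fr P A).obj M) 1) g h1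
  refine ⟨N, ?_⟩
  rw [smul_zero] at hN
  rw [← map_pow]
  exact hN

theorem gen_of_tensor_equiv (hsurj : Function.Surjective (algebraMap P A))
    (M : ModuleCat.{u} A) (g : P) (Bt : Type u) [CommRing Bt] [Algebra P Bt]
    [IsLocalization.Away g Bt]
    (τ : (Bt ⊗[P] ((Fr P A).obj M)) ≃ₗ[Bt]
      (Bt ⧸ (RingHom.ker (algebraMap P A)).map (algebraMap P Bt))) :
    ∃ h₀ : M, (∀ m : M, ∃ (N : ℕ) (a : A), (algebraMap P A g) ^ N • m = a • h₀) ∧
      ∀ a : A, a • h₀ = 0 → ∃ N : ℕ, (algebraMap P A g) ^ N * a = 0 := by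
  let u := τ.symm (Ideal.Quotient.mk _ 1)
  obtain ⟨k, e₀, hk⟩ := IsLocalizedModule.Away.surj
    (TensorProduct.mk P Bt ((Fr P A).obj M) 1) g u
  have hk' : (algebraMap P Bt g) ^ k • u = TensorProduct.mk P Bt ((Fr P A).obj M) 1 e₀ := by
    rw [← map_pow, algebraMap_smul]
    exact hk
  have hmk : ∀ (p : P) (e : (Fr P A).obj M),
      algebraMap P Bt p • TensorProduct.mk P Bt ((Fr P A).obj M) 1 e =
        TensorProduct.mk P Bt ((Fr P A).obj M) 1 (p • e) := by
    intro p e
    rw [algebraMap_smul, map_smul]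
  refine ⟨(e₀ : M), fun m => ?_, fun a ha => ?_⟩
  · let m' : (Fr P A).obj M := m
    obtain ⟨b, hb⟩ := Ideal.Quotient.mk_surjective
      (τ (TensorProduct.mk P Bt ((Fr P A).obj M) 1 m'))
    obtain ⟨N, p, hp⟩ := IsLocalization.Away.surj g b
    have h1 : (algebraMap P Bt g) ^ N • TensorProduct.mk P Bt ((Fr P A).obj M) 1 m' =
        algebraMap P Bt p • u := by
      apply τ.injective
      rw [map_smul, map_smul, LinearEquiv.apply_symm_apply, ← hb, ← hp, smul_quot_mk,
        smul_quot_mk, mul_one, mul_comm]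
    have h2 : TensorProduct.mk P Bt ((Fr P A).obj M) 1 (g ^ (k + N) • m') =
        TensorProduct.mk P Bt ((Fr P A).obj M) 1 (p • e₀) := by
      rw [← hmk, ← hmk, map_pow, pow_add, mul_smul, h1, smul_comm, hk']
    obtain ⟨N', hN'⟩ := IsLocalizedModule.Away.exists_of_eq
      (f := TensorProduct.mk P Bt ((Fr P A).obj M) 1) g h2
    refine ⟨N' + (k + N), algebraMap P A (g ^ N' * p), ?_⟩
    have h3 : algebraMap P A (g ^ N') • (algebraMap P A (g ^ (k + N)) • (m : M)) =
        algebraMap P A (g ^ N') • (algebraMap P A p • (e₀ : M)) := hN'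
    rw [smul_smul, smul_smul, ← map_mul, ← map_mul, ← pow_add] at h3
    rw [← map_pow]
    exact h3
  · obtain ⟨p, rfl⟩ := hsurj a
    have h1 : p • (e₀ : (Fr P A).obj M) = 0 := ha
    have h2 : algebraMap P Bt p • ((algebraMap P Bt g) ^ k • u) = 0 := by
      rw [hk', hmk, h1, map_zero]
    have h3 := congrArg τ h2
    rw [map_smul, map_smul, LinearEquiv.apply_symm_apply, map_zero, smul_quot_mk, smul_quot_mk,
      mul_one, ← map_pow, ← map_mul, Ideal.Quotient.eq_zero_iff_mem] at h3
    obtain ⟨s, ⟨N, rfl⟩, hs⟩ := (IsLocalization.algebraMap_mem_map_algebraMap_iff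
      (Submonoid.powers g) Bt _ _).mp h3
    refine ⟨N + k, ?_⟩
    have h4 : g ^ (N + k) * p = g ^ N * (p * g ^ k) := by ring
    rw [← map_pow, ← map_mul, h4]
    exact (RingHom.mem_ker).mp hs

end Transfer

section Main

variable {P A : Type u} [CommRing P] [CommRing A] [IsNoetherianRing P] [Algebra P A]

/-- base change of the cohomology of `RHom_P(A, P)` to a flat `P`-algebra, in terms of `Ext`
over that algebra. -/
theorem nonempty_tensor_homology_equiv (hsurj : Function.Surjective (algebraMap P A))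
    (Rr : Dual.D P ⥤ Dual.D A) (adj : DRing.restrictD (algebraMap P A) ⊣ Rr)
    (Bt : Type u) [CommRing Bt] [Algebra P Bt] [Module.Flat P Bt] (k : ℤ) :
    Nonempty ((Bt ⊗[P] ((Fr P A).obj ((homologyFunctor (ModuleCat.{u} A) k).obj
        (Rr.obj (Dual.inD P P))))) ≃ₗ[Bt]
      (Dual.inD Bt (Bt ⧸ (RingHom.ker (algebraMap P A)).map (algebraMap P Bt)) ⟶
        (Dual.inD Bt Bt)⟦k⟧)) := by
  have hbelow : ∀ j : ℤ, j < 0 → Subsingleton (Dual.HD P (Dual.inD P P) j) := fun j hj =>
    ModuleCat.subsingleton_of_isZero (isZero_of_isGE _ 0 j hj)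
  obtain ⟨σ⟩ := nonempty_homology_rightAdjoint_equiv Rr adj (Dual.inD P P) 0 hbelow k
  have hker : LinearMap.ker (Algebra.linearMap P A) = RingHom.ker (algebraMap P A) := by
    ext x
    rw [LinearMap.mem_ker, RingHom.mem_ker, Algebra.linearMap_apply]
  let eA : A ≃ₗ[P] (P ⧸ RingHom.ker (algebraMap P A)) :=
    ((Algebra.linearMap P A).quotKerEquivOfSurjective hsurj).symm ≪≫ₗ
      Submodule.quotEquivOfEq _ _ hker
  exact ⟨TensorProduct.AlgebraTensorModule.congr (LinearEquiv.refl Bt Bt)
      (σ ≪≫ₗ Linear.homCongr P (inDIso eA) (Iso.refl _)) ≪≫ₗ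
    chainEquiv (RingHom.ker (algebraMap P A)) Bt k⟩

variable (hsurj : Function.Surjective (algebraMap P A))
  (Rr : Dual.D P ⥤ Dual.D A) (adj : DRing.restrictD (algebraMap P A) ⊣ Rr)
  (g : P) (Bt : Type u) [CommRing Bt] [Algebra P Bt] [IsLocalization.Away g Bt]
  (l : List Bt) (hl : RegSeq l)
  (hI : (RingHom.ker (algebraMap P A)).map (algebraMap P Bt) = Ideal.ofList l)

include hsurj adj hl hI in
theorem subsingleton_tensor_homology (k : ℤ) (hk : k ≠ (l.length : ℤ)) :
    Subsingleton (Localization.Away (algebraMap P A g) ⊗[A]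
      ((homologyFunctor (ModuleCat.{u} A) k).obj (Rr.obj (Dual.inD P P)))) := by
  haveI : Module.Flat P Bt := IsLocalization.flat Bt (Submonoid.powers g)
  obtain ⟨Θ⟩ := nonempty_tensor_homology_equiv hsurj Rr adj Bt k
  obtain ⟨van, -⟩ := ext_quot_regSeq l hl _ hI
  haveI : Subsingleton (Dual.inD Bt (Bt ⧸ (RingHom.ker (algebraMap P A)).map (algebraMap P Bt)) ⟶
      (Dual.inD Bt Bt)⟦k⟧) := ⟨fun a b => by rw [van k hk a, van k hk b]⟩
  have hsub : Subsingleton (Bt ⊗[P] ((Fr P A).obj ((homologyFunctor (ModuleCat.{u} A) k).obj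
      (Rr.obj (Dual.inD P P))))) := Θ.toEquiv.subsingleton
  exact subsingleton_tensor_away_of_torsion _ _ (torsion_of_subsingleton_tensor _ g Bt hsub)

include hsurj adj hl hI in
theorem nonempty_tensor_homology_top :
    Nonempty ((Localization.Away (algebraMap P A g) ⊗[A]
      ((homologyFunctor (ModuleCat.{u} A) (l.length : ℤ)).obj (Rr.obj (Dual.inD P P))))
        ≃ₗ[Localization.Away (algebraMap P A g)] Localization.Away (algebraMap P A g)) := by
  haveI : Module.Flat P Bt := IsLocalization.flat Bt (Submonoid.powers g)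
  obtain ⟨Θ⟩ := nonempty_tensor_homology_equiv hsurj Rr adj Bt (l.length : ℤ)
  obtain ⟨τ⟩ := nonempty_ext_equiv l hl _ hI
  obtain ⟨h₀, hgen, hann⟩ := gen_of_tensor_equiv hsurj _ g Bt (Θ ≪≫ₗ τ)
  exact nonempty_tensor_away_equiv _ _ h₀ hgen hann

include hsurj adj hl hI in
/-- the localized shriek of the ring is a shift of the ring. -/
theorem shriek_iso [DRing.HasLBaseChange (algebraMap A (Localization.Away (algebraMap P A g)))]
    (Y' : Dual.D P) (eY : Y' ≅ Dual.inD P P) (n : ℤ) :
    Nonempty ((DRing.LBaseChange (algebraMap A (Localization.Away (algebraMap P A g)))).obj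
        ((Rr.obj Y')⟦n⟧) ≅
      (Dual.inD (Localization.Away (algebraMap P A g))
        (Localization.Away (algebraMap P A g)))⟦n - (l.length : ℤ)⟧) := by
  haveI : Module.Flat A (Localization.Away (algebraMap P A g)) :=
    IsLocalization.flat _ (Submonoid.powers (algebraMap P A g))
  obtain ⟨e3⟩ := lbc_iso_extD (Localization.Away (algebraMap P A g)) ((Rr.obj Y')⟦n⟧)
  let W := Rr.obj (Dual.inD P P)
  let V := (extD A (Localization.Away (algebraMap P A g))).obj W
  have L : ∀ k : ℤ, ((homologyFunctor (ModuleCat.{u} (Localization.Away (algebraMap P A g))) k).obj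
      V) ≃ₗ[Localization.Away (algebraMap P A g)]
      (Localization.Away (algebraMap P A g) ⊗[A]
        ((homologyFunctor (ModuleCat.{u} A) k).obj W)) := fun k =>
    (homologyMapDIso (ext A (Localization.Away (algebraMap P A g))) W k).toLinearEquiv ≪≫ₗ
      extEquiv (A := A) (B := Localization.Away (algebraMap P A g))
        ((homologyFunctor (ModuleCat.{u} A) k).obj W)
  have hz0 : ∀ k : ℤ, k ≠ (l.length : ℤ) →
      IsZero ((homologyFunctor (ModuleCat.{u} (Localization.Away (algebraMap P A g))) k).obj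
        V) := by
    intro k hk
    haveI := subsingleton_tensor_homology hsurj Rr adj g Bt l hl hI k hk
    haveI : Subsingleton ((homologyFunctor
        (ModuleCat.{u} (Localization.Away (algebraMap P A g))) k).obj V) :=
      (L k).toEquiv.subsingleton
    exact ModuleCat.isZero_of_subsingleton _
  haveI : V.IsGE (l.length : ℤ) :=
    (DerivedCategory.isGE_iff V _).mpr fun i hi => hz0 i (by lia)
  haveI : V.IsLE (l.length : ℤ) :=
    (DerivedCategory.isLE_iff V _).mpr fun i hi => hz0 i (by lia)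
  obtain ⟨e1⟩ := Groth.Agent.S0973.iso_single_of_amp V (l.length : ℤ)
  obtain ⟨eqd⟩ := nonempty_tensor_homology_top hsurj Rr adj g Bt l hl hI
  let LF := (L (l.length : ℤ)) ≪≫ₗ eqd
  let eV : V ≅ (Dual.inD (Localization.Away (algebraMap P A g))
      (Localization.Away (algebraMap P A g)))⟦-(l.length : ℤ)⟧ :=
    e1 ≪≫ (DerivedCategory.singleFunctor
        (ModuleCat.{u} (Localization.Away (algebraMap P A g))) (l.length : ℤ)).mapIso
        LF.toModuleIso ≪≫
      (((DerivedCategory.singleFunctors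
        (ModuleCat.{u} (Localization.Away (algebraMap P A g)))).shiftIso (-(l.length : ℤ))
          (l.length : ℤ) 0 (by lia)).app
            (ModuleCat.of (Localization.Away (algebraMap P A g))
              (Localization.Away (algebraMap P A g)))).symm
  exact ⟨e3 ≪≫
    (extD A (Localization.Away (algebraMap P A g))).mapIso
      ((shiftFunctor (Dual.D A) n).mapIso (Rr.mapIso eY)) ≪≫
    ((extD A (Localization.Away (algebraMap P A g))).commShiftIso n).app W ≪≫
    (shiftFunctor (Dual.D (Localization.Away (algebraMap P A g))) n).mapIso eV ≪≫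
    ((shiftFunctorAdd' (Dual.D (Localization.Away (algebraMap P A g))) (-(l.length : ℤ)) n
      (n - (l.length : ℤ)) (by lia)).app _).symm⟩

end Main

end Groth.Agent.Lib.Helper5.LciOm
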