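import Mathlib
import Groth.Agent.Lib.Helper5RelGorC
import Groth.Agent.Lib.Helper5PtDual
import Groth.Agent.Lib.Helper5LciOmC
set_option backward.isDefEq.respectTransparency.types false

/-!
# Spreading out a local trivialisation of a bounded coherent complex (helper5)

`exists_away_iso_of_local`: let `A` be Noetherian, `ω ∈ D(A)` bounded with finite cohomology and `q`
a prime with `H^i(ω_q) = 0` for `i ≠ n₀` and `H^{n₀}(ω_q) ≃ A_q`.  Then there is `f ∉ q` with
`ω ⊗ A_f ≅ A_f[-n₀]`.
-/

set_option autoImplicit false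
set_option linter.style.haveILetI false
universe u
open CategoryTheory CategoryTheory.Limits TensorProduct
attribute [local instance] HasDerivedCategory.standard

namespace Groth.Agent.Lib.Helper5.RelGor

open DerivedCategory Groth.Agent.Lib.Helper1.Extend Groth.Agent.Lib.Helper5.LocD

section Module

variable {A : Type u} [CommRing A]

/-- a localization away from `r` which is free of rank one has a global generator up to powers
of `r`. -/
theorem gen_of_localized_equiv (r : A) (Bt : Type u) [CommRing Bt] [Algebra A Bt]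
    [IsLocalization.Away r Bt]
    {M M' : Type u} [AddCommGroup M] [Module A M] [AddCommGroup M'] [Module A M'] [Module Bt M']
    [IsScalarTower A Bt M'] (f : M →ₗ[A] M') [IsLocalizedModule (Submonoid.powers r) f]
    (τ : M' ≃ₗ[Bt] Bt) :
    ∃ h₀ : M, (∀ m : M, ∃ (N : ℕ) (a : A), r ^ N • m = a • h₀) ∧
      ∀ a : A, a • h₀ = 0 → ∃ N : ℕ, r ^ N * a = 0 := by
  let u := τ.symm 1
  obtain ⟨k, e₀, hk⟩ := IsLocalizedModule.Away.surj f r u
  have hk' : (algebraMap A Bt r) ^ k • u = f e₀ := by
    rw [← map_pow, algebraMap_smul]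
    exact hk
  have hmk : ∀ (p : A) (e : M), algebraMap A Bt p • f e = f (p • e) := by
    intro p e
    rw [algebraMap_smul, map_smul]
  refine ⟨e₀, fun m => ?_, fun a ha => ?_⟩
  · obtain ⟨N, p, hp⟩ := IsLocalization.Away.surj r (τ (f m))
    have h1 : (algebraMap A Bt r) ^ N • f m = algebraMap A Bt p • u := by
      apply τ.injective
      rw [map_smul, map_smul, LinearEquiv.apply_symm_apply, smul_eq_mul, smul_eq_mul, mul_one,
        ← hp, mul_comm]
    have h2 : f (r ^ (k + N) • m) = f (p • e₀) := by
      rw [← hmk, ← hmk, map_pow, pow_add, mul_smul, h1, smul_comm, hk']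
    obtain ⟨N', hN'⟩ := IsLocalizedModule.Away.exists_of_eq (f := f) r h2
    refine ⟨N' + (k + N), r ^ N' * p, ?_⟩
    rw [pow_add, mul_smul, mul_smul]
    exact hN'
  · have h2 : algebraMap A Bt a • ((algebraMap A Bt r) ^ k • u) = 0 := by
      rw [hk', hmk, ha, map_zero]
    have h3 := congrArg τ h2
    rw [map_smul, map_smul, LinearEquiv.apply_symm_apply, map_zero, smul_eq_mul, smul_eq_mul,
      mul_one, ← map_pow, ← map_mul] at h3
    obtain ⟨⟨s, ⟨N, rfl⟩⟩, hs⟩ := (IsLocalization.map_eq_zero_iff (Submonoid.powers r) Bt _).mp h3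
    refine ⟨N + k, ?_⟩
    have h4 : r ^ (N + k) * a = r ^ N * (a * r ^ k) := by ring
    rw [h4]
    exact hs

/-- a finite module over a Noetherian ring which is free of rank one at a prime has a generator
up to powers of an element outside the prime. -/
theorem exists_gen_of_localization_equiv [IsNoetherianRing A] (q : Ideal A) [q.IsPrime]
    (M : Type u) [AddCommGroup M] [Module A M] [Module.Finite A M]
    (τ : (Localization.AtPrime q ⊗[A] M) ≃ₗ[Localization.AtPrime q] Localization.AtPrime q) :
    ∃ (r : A) (_ : r ∉ q) (h₀ : M), (∀ m : M, ∃ (N : ℕ) (a : A), r ^ N • m = a • h₀) ∧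
      ∀ a : A, a • h₀ = 0 → ∃ N : ℕ, r ^ N * a = 0 := by
  haveI : Module.FinitePresentation A M := Module.finitePresentation_of_finite A M
  haveI : Module.Free (Localization.AtPrime q) (Localization.AtPrime q ⊗[A] M) :=
    Module.Free.of_equiv τ.symm
  obtain ⟨r, hr, hfree, hrank⟩ :=
    Module.FinitePresentation.exists_free_localizedModule_powers q.primeCompl
      (TensorProduct.mk A (Localization.AtPrime q) M 1) (Localization.AtPrime q)
  haveI := hfree
  haveI : Nontrivial (Localization (Submonoid.powers r)) :=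
    (show Localization (Submonoid.powers r) →+* Localization.AtPrime q from
      IsLocalization.map (M := Submonoid.powers r) (T := q.primeCompl) _ (RingHom.id _)
        (Submonoid.powers_le.mpr hr)).domain_nontrivial
  have h1 : Module.finrank (Localization (Submonoid.powers r)) (LocalizedModule.Away r M) = 1 := by
    rw [hrank, τ.finrank_eq, Module.finrank_self]
  haveI : Module.Finite (Localization (Submonoid.powers r)) (LocalizedModule.Away r M) :=
    Module.finite_of_finrank_eq_succ h1
  have h2 : Module.finrank (Localization (Submonoid.powers r)) (LocalizedModule.Away r M) =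
      Module.finrank (Localization (Submonoid.powers r)) (Localization (Submonoid.powers r)) := by
    rw [h1, Module.finrank_self]
  obtain ⟨h₀, hgen, hann⟩ := gen_of_localized_equiv r (Localization (Submonoid.powers r))
    (LocalizedModule.mkLinearMap (Submonoid.powers r) M) (LinearEquiv.ofFinrankEq _ _ h2)
  exact ⟨r, hr, h₀, hgen, hann⟩

end Module

section Main

variable {A : Type u} [CommRing A] [IsNoetherianRing A]

/-- spreading out: a bounded coherent complex which is a shift of the ring at a prime `q` is a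
shift of the ring on a principal open neighbourhood of `q`. -/
theorem exists_away_iso_of_local (ω : Dual.D A)
    (hb : ∃ a b : ℤ, ∀ i : ℤ, (i < a ∨ b < i) → Subsingleton (Dual.HD A ω i))
    (hfin : ∀ i : ℤ, Module.Finite A (Dual.HD A ω i))
    (q : PrimeSpectrum A) (n₀ : ℤ)
    (h0 : ∀ i : ℤ, i ≠ n₀ → Subsingleton (Dual.HD (Localization.AtPrime q.asIdeal)
      ((extD A (Localization.AtPrime q.asIdeal)).obj ω) i))
    (h1 : Nonempty (Dual.HD (Localization.AtPrime q.asIdeal)
      ((extD A (Localization.AtPrime q.asIdeal)).obj ω) n₀ ≃ₗ[Localization.AtPrime q.asIdeal]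
        Localization.AtPrime q.asIdeal)) :
    ∃ (f : A) (_ : f ∉ q.asIdeal), Nonempty ((extD A (Localization.Away f)).obj ω ≅
      (Dual.inD (Localization.Away f) (Localization.Away f))⟦-n₀⟧) := by
  obtain ⟨a, b, hab⟩ := hb
  -- elements killing the other cohomology modules
  have hkill : ∀ i : ℤ, ∃ g : A, g ∉ q.asIdeal ∧
      (i ≠ n₀ → ∀ m : Dual.HD A ω i, g • m = 0) := by
    intro i
    by_cases hi : i = n₀
    · exact ⟨1, fun h => q.2.ne_top ((Ideal.eq_top_iff_one _).2 h), fun h => absurd hi h⟩
    · haveI := hfin i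
      have hq : q ∉ Module.support A (Dual.HD A ω i) :=
        (Groth.Agent.Lib.Helper5.PtDual.subsingleton_HD_extD_iff ω q i).1 (h0 i hi)
      rw [Module.mem_support_iff_of_finite] at hq
      obtain ⟨g, hg, hgq⟩ := SetLike.not_le_iff_exists.1 hq
      exact ⟨g, hgq, fun _ m => Module.mem_annihilator.1 hg m⟩
  choose g hgq hg using hkill
  let G : A := ∏ i ∈ Finset.Icc a b, g i
  have hGq : G ∉ q.asIdeal := by
    have : G ∈ q.asIdeal.primeCompl := Submonoid.prod_mem _ fun i _ => hgq i
    exact this
  have hG : ∀ i : ℤ, i ≠ n₀ → ∀ m : Dual.HD A ω i, G • m = 0 := by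
    intro i hi m
    by_cases hiab : i ∈ Finset.Icc a b
    · have hGe : G = (∏ j ∈ (Finset.Icc a b).erase i, g j) * g i :=
        (Finset.prod_erase_mul _ _ hiab).symm
      rw [hGe, mul_smul, hg i hi m, smul_zero]
    · haveI : Subsingleton (Dual.HD A ω i) := hab i (by
        rw [Finset.mem_Icc] at hiab
        omega)
      exact Subsingleton.elim _ _
  -- the remaining degree
  obtain ⟨τ₀⟩ := h1
  haveI := hfin n₀
  haveI : Module.Flat A (Localization.AtPrime q.asIdeal) :=
    IsLocalization.flat _ q.asIdeal.primeCompl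
  let τ : (Localization.AtPrime q.asIdeal ⊗[A] Dual.HD A ω n₀) ≃ₗ[Localization.AtPrime q.asIdeal]
      Localization.AtPrime q.asIdeal :=
    (extEquiv (A := A) (B := Localization.AtPrime q.asIdeal) (Dual.HD A ω n₀)).symm ≪≫ₗ
      (homologyMapDIso (ext A (Localization.AtPrime q.asIdeal)) ω n₀).toLinearEquiv.symm ≪≫ₗ τ₀
  obtain ⟨r, hr, h₀, hgen, hann⟩ :=
    exists_gen_of_localization_equiv q.asIdeal (Dual.HD A ω n₀) τ
  refine ⟨r * G, fun h => (q.2.mem_or_mem h).elim hr hGq, ?_⟩
  haveI : Module.Flat A (Localization.Away (r * G)) :=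
    IsLocalization.flat _ (Submonoid.powers (r * G))
  let V := (extD A (Localization.Away (r * G))).obj ω
  have L : ∀ k : ℤ, ((homologyFunctor (ModuleCat.{u} (Localization.Away (r * G))) k).obj V)
      ≃ₗ[Localization.Away (r * G)]
      (Localization.Away (r * G) ⊗[A] ((homologyFunctor (ModuleCat.{u} A) k).obj ω)) := fun k =>
    (homologyMapDIso (ext A (Localization.Away (r * G))) ω k).toLinearEquiv ≪≫ₗ
      extEquiv (A := A) (B := Localization.Away (r * G))
        ((homologyFunctor (ModuleCat.{u} A) k).obj ω)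
  have hz0 : ∀ k : ℤ, k ≠ n₀ →
      IsZero ((homologyFunctor (ModuleCat.{u} (Localization.Away (r * G))) k).obj V) := by
    intro k hk
    haveI : Subsingleton (Localization.Away (r * G) ⊗[A]
        ((homologyFunctor (ModuleCat.{u} A) k).obj ω)) :=
      Groth.Agent.Lib.Helper5.LciOm.subsingleton_tensor_away_of_torsion _ (r * G) fun m => ⟨1, by
        rw [pow_one, mul_smul]
        have hm : G • m = 0 := hG k hk m
        rw [hm, smul_zero]⟩
    haveI : Subsingleton ((homologyFunctor (ModuleCat.{u} (Localization.Away (r * G))) k).obj V) :=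
      (L k).toEquiv.subsingleton
    exact ModuleCat.isZero_of_subsingleton _
  haveI : V.IsGE n₀ := (DerivedCategory.isGE_iff V _).mpr fun i hi => hz0 i (by lia)
  haveI : V.IsLE n₀ := (DerivedCategory.isLE_iff V _).mpr fun i hi => hz0 i (by lia)
  obtain ⟨e1⟩ := Groth.Agent.S0973.iso_single_of_amp V n₀
  obtain ⟨eqd⟩ := Groth.Agent.Lib.Helper5.LciOm.nonempty_tensor_away_equiv
    (Dual.HD A ω n₀) (r * G) h₀
    (fun m => by
      obtain ⟨N, c, hc⟩ := hgen m
      exact ⟨N, G ^ N * c, by rw [mul_pow, mul_comm (r ^ N), mul_smul, hc, mul_smul]⟩)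
    (fun c hc => by
      obtain ⟨N, hN⟩ := hann c hc
      exact ⟨N, by rw [mul_pow, mul_comm (r ^ N), mul_assoc, hN, mul_zero]⟩)
  let LF := (L n₀) ≪≫ₗ eqd
  exact ⟨e1 ≪≫ (DerivedCategory.singleFunctor (ModuleCat.{u} (Localization.Away (r * G)))
        n₀).mapIso LF.toModuleIso ≪≫
      (((DerivedCategory.singleFunctors
        (ModuleCat.{u} (Localization.Away (r * G)))).shiftIso (-n₀) n₀ 0 (by lia)).app
            (ModuleCat.of (Localization.Away (r * G)) (Localization.Away (r * G)))).symm⟩

end Main

end Groth.Agent.Lib.Helper5.RelGor
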