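import Mathlib
import Groth.Agent.Lib.Helper5RelGorB
import Groth.Agent.Lib.Helper5RelGorC
import Groth.Agent.Lib.Helper5RelGorD
import Groth.Agent.Lib.Helper5DualUniqA
import Groth.Agent.Lib.Helper5GorRing
import Groth.Agent.S6942
import Groth.Agent.Lib.Helper1PCTower
set_option backward.isDefEq.respectTransparency.types false

/-!
# Gorenstein fibres and the relative dualizing complex: assembly (helper5)

* `nonempty_ffRep_of_bdd_finite`: bounded above with finite cohomology over a Noetherian ring gives
  a representative by a bounded above complex of finite free modules.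
* `local_of_gor`: if `Lα^* ω` is dualizing over `B'` and `B'_Q` is Gorenstein then `ω_q` is a shift
  of `A_q`, `q = α⁻¹ Q`.
* `gorRing_of_invertible`: the converse for all primes.
* `exists_prime_fibre`: a prime of `κ(p) ⊗ A` over a prime `q` of `A` over `p`.
-/

set_option autoImplicit false
set_option linter.style.haveILetI false
universe u
open CategoryTheory CategoryTheory.Limits TensorProduct
attribute [local instance] HasDerivedCategory.standard

namespace Groth.Agent.Lib.Helper5.RelGor

open DerivedCategory Groth.Agent.Lib.Helper1.LDer Groth.Agent.Lib.Helper1.Extend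
  Groth.Agent.Lib.Helper5.HasLDer Groth.Agent.Lib.Helper5.LocD

section Rep

variable {A : Type u} [CommRing A] [IsNoetherianRing A]

theorem nonempty_ffRep_of_bdd_finite (W : Dual.D A)
    (hb : ∃ b : ℤ, ∀ i : ℤ, b < i → Subsingleton (Dual.HD A W i))
    (hfin : ∀ i : ℤ, Module.Finite A (Dual.HD A W i)) : Nonempty (FFRep W) := by
  have hpc : DRing.IsPseudoCoherent' A W :=
    Groth.Agent.Lib.Helper1.PCTower.isPseudoCoherent'_of_forall W fun m =>
      ((Groth.Agent.S6942.result A m W A).1).2 ⟨hb, fun i _ => hfin i⟩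
  obtain ⟨G, bG, hG, hGff, ⟨eG⟩⟩ := hpc
  exact ⟨⟨G, bG, hG, hGff, eG⟩⟩

end Rep

section Forward

variable {A B' : Type u} [CommRing A] [CommRing B'] [IsNoetherianRing A]

local notation "C[" Q "]" => Localization.AtPrime Q

/-- if `Lα^* ω` is dualizing over `B'` and `B'_Q` is Gorenstein then `ω` localized at `q = α⁻¹ Q`
has cohomology `A_q` in a single degree. -/
theorem local_of_gor (α : A →+* B') [DRing.HasLBaseChange α] {ω : Dual.D A} (r : FFRep ω)
    (hX : Dual.IsDualizing B' ((DRing.LBaseChange α).obj ω))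
    (Q : Ideal B') [Q.IsPrime] [hgor : LocCoh.IsGorensteinLocalRing (Localization.AtPrime Q)]
    (q : PrimeSpectrum A) (hq : Q.comap α = q.asIdeal) :
    ∃ n₀ : ℤ, (∀ i : ℤ, i ≠ n₀ → Subsingleton (Dual.HD (Localization.AtPrime q.asIdeal)
        ((extD A (Localization.AtPrime q.asIdeal)).obj ω) i)) ∧
      Nonempty (Dual.HD (Localization.AtPrime q.asIdeal)
        ((extD A (Localization.AtPrime q.asIdeal)).obj ω) n₀ ≃ₗ[Localization.AtPrime q.asIdeal]
          Localization.AtPrime q.asIdeal) := by
  haveI := hX.isNoetherianRing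
  haveI : Module.Flat B' (Localization.AtPrime Q) := IsLocalization.flat _ Q.primeCompl
  haveI := hasLBaseChange (algebraMap B' (Localization.AtPrime Q))
  have hXC : Dual.IsDualizing (Localization.AtPrime Q)
      ((extD B' (Localization.AtPrime Q)).obj ((DRing.LBaseChange α).obj ω)) :=
    isDualizing_extD Q.primeCompl (Localization.AtPrime Q) _ hX
  haveI : IsNoetherianRing (Localization.AtPrime Q) := hXC.isNoetherianRing
  obtain ⟨m, ⟨e1⟩⟩ := Groth.Agent.Lib.Helper5.DualUniq.exists_shift_iso
    (Dual.inD (Localization.AtPrime Q) (Localization.AtPrime Q))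
    ((extD B' (Localization.AtPrime Q)).obj ((DRing.LBaseChange α).obj ω))
    (Groth.Agent.Lib.Helper5.GorLocus.isDualizing_inD_of_gor (Localization.AtPrime Q)) hXC
  obtain ⟨e2⟩ := lbc_iso_extD (Localization.AtPrime Q) ((DRing.LBaseChange α).obj ω)
  haveI := hasLBaseChange (IsLocalRing.residue (Localization.AtPrime Q))
  obtain ⟨e3⟩ := nonempty_lbc_shift_self_iso (IsLocalRing.residue (Localization.AtPrime Q)) m
  -- the map to the residue field
  let χ₀ : A →+* IsLocalRing.ResidueField (Localization.AtPrime Q) :=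
    (IsLocalRing.residue (Localization.AtPrime Q)).comp
      ((algebraMap B' (Localization.AtPrime Q)).comp α)
  have hmem : ∀ a : A, a ∈ q.asIdeal ↔ α a ∈ Q := fun a => by
    rw [← hq, Ideal.mem_comap]
  have hunits : ∀ s : q.asIdeal.primeCompl, IsUnit (χ₀ s) := fun s => by
    have hs : α s ∈ Q.primeCompl := fun h => s.2 ((hmem _).2 h)
    exact (IsLocalization.map_units (Localization.AtPrime Q) ⟨α s, hs⟩).map
      (IsLocalRing.residue (Localization.AtPrime Q))
  have hzero : ∀ a : A, a ∈ q.asIdeal → χ₀ a = 0 := fun a ha => by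
    have h3 : algebraMap B' (Localization.AtPrime Q) (α a) ∈
        IsLocalRing.maximalIdeal (Localization.AtPrime Q) :=
      (IsLocalization.AtPrime.to_map_mem_maximal_iff (Localization.AtPrime Q) Q (α a)).2
        ((hmem a).1 ha)
    exact (IsLocalRing.residue_eq_zero_iff _).2 h3
  let χ : Localization.AtPrime q.asIdeal →+* IsLocalRing.ResidueField (Localization.AtPrime Q) :=
    IsLocalization.lift (M := q.asIdeal.primeCompl) (S := Localization.AtPrime q.asIdeal) hunits
  have hχcomp : χ.comp (algebraMap A (Localization.AtPrime q.asIdeal)) = χ₀ :=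
    IsLocalization.lift_comp hunits
  have hχ : ∀ x ∈ IsLocalRing.maximalIdeal (Localization.AtPrime q.asIdeal), χ x = 0 := by
    intro x hx
    obtain ⟨⟨a, s⟩, hxs⟩ := IsLocalization.surj q.asIdeal.primeCompl x
    have ha : a ∈ q.asIdeal := by
      have h1 : algebraMap A (Localization.AtPrime q.asIdeal) a ∈
          IsLocalRing.maximalIdeal (Localization.AtPrime q.asIdeal) := by
        rw [← hxs]
        exact Ideal.mul_mem_right _ _ hx
      exact (IsLocalization.AtPrime.to_map_mem_maximal_iff (Localization.AtPrime q.asIdeal)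
        q.asIdeal a).1 h1
    have h4 : χ x * χ₀ (s : A) = 0 := by
      have h5 : χ₀ (s : A) = χ (algebraMap A (Localization.AtPrime q.asIdeal) s) :=
        (IsLocalization.lift_eq hunits _).symm
      rw [h5, ← map_mul, hxs]
      exact (IsLocalization.lift_eq hunits a).trans (hzero a ha)
    exact (mul_eq_zero.1 h4).resolve_right (hunits s).ne_zero
  -- the chain of base changes
  haveI := hasLBaseChange (algebraMap A (Localization.AtPrime q.asIdeal))
  haveI := hasLBaseChange χ
  haveI := hasLBaseChange χ₀
  haveI := hasLBaseChange ((algebraMap B' (Localization.AtPrime Q)).comp α)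
  obtain ⟨i1⟩ := nonempty_lbc_comp_iso' r (algebraMap A (Localization.AtPrime q.asIdeal)) χ χ₀
    hχcomp
  obtain ⟨i2⟩ := nonempty_lbc_comp_iso' r ((algebraMap B' (Localization.AtPrime Q)).comp α)
    (IsLocalRing.residue (Localization.AtPrime Q)) χ₀ rfl
  obtain ⟨i3⟩ := nonempty_lbc_comp_iso' r α (algebraMap B' (Localization.AtPrime Q))
    ((algebraMap B' (Localization.AtPrime Q)).comp α) rfl
  let e : (DRing.LBaseChange χ).obj
        ((DRing.LBaseChange (algebraMap A (Localization.AtPrime q.asIdeal))).obj ω) ≅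
      (Dual.inD (IsLocalRing.ResidueField (Localization.AtPrime Q))
        (IsLocalRing.ResidueField (Localization.AtPrime Q)))⟦m⟧ :=
    i1 ≪≫ i2.symm ≪≫
      (DRing.LBaseChange (IsLocalRing.residue (Localization.AtPrime Q))).mapIso
        (i3.symm ≪≫ e2 ≪≫ e1) ≪≫ e3
  obtain ⟨h0, ⟨h1⟩⟩ := homology_of_fibre_shift χ hχ
    (r.bc (algebraMap A (Localization.AtPrime q.asIdeal))) m e
  haveI : Module.Flat A (Localization.AtPrime q.asIdeal) :=
    IsLocalization.flat _ q.asIdeal.primeCompl
  obtain ⟨e5⟩ := lbc_iso_extD (Localization.AtPrime q.asIdeal) ω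
  have L : ∀ i : ℤ, Dual.HD (Localization.AtPrime q.asIdeal)
      ((extD A (Localization.AtPrime q.asIdeal)).obj ω) i ≃ₗ[Localization.AtPrime q.asIdeal]
      Dual.HD (Localization.AtPrime q.asIdeal)
        ((DRing.LBaseChange (algebraMap A (Localization.AtPrime q.asIdeal))).obj ω) i := fun i =>
    ((homologyFunctor (ModuleCat.{u} (Localization.AtPrime q.asIdeal)) i).mapIso
      e5.symm).toLinearEquiv
  refine ⟨-m, fun i hi => ?_, ⟨L (-m) ≪≫ₗ h1⟩⟩
  haveI := h0 i hi
  exact (L i).toEquiv.subsingleton

end Forward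

section Backward

variable {A B' : Type u} [CommRing A] [CommRing B']

/-- if `ω` is locally a shift of `A` and `Lα^* ω` is dualizing over `B'` then `B'` is Gorenstein. -/
theorem gorRing_of_invertible (α : A →+* B') [DRing.HasLBaseChange α] {ω : Dual.D A}
    (r : FFRep ω) (hX : Dual.IsDualizing B' ((DRing.LBaseChange α).obj ω))
    [hL : ∀ f : A, DRing.HasLBaseChange (algebraMap A (Localization.Away f))]
    (hinv : ∀ q : PrimeSpectrum A, ∃ (f : A) (_ : f ∉ q.asIdeal) (m : ℤ),
      Nonempty ((DRing.LBaseChange (algebraMap A (Localization.Away f))).obj ω ≅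
        (Dual.inD (Localization.Away f) (Localization.Away f))⟦m⟧)) :
    LocCoh.IsGorensteinRing B' := by
  haveI := hX.isNoetherianRing
  exact { isGorensteinLocalRing_localization := fun Qp _ =>
    gorLocal_of_invertible α r hX hinv Qp }

end Backward

section Fibre

variable (R A : Type u) [CommRing R] [CommRing A] [Algebra R A]

/-- a prime of the fibre ring over a given prime of `A`. -/
theorem exists_prime_fibre (p : PrimeSpectrum R) (q : PrimeSpectrum A)
    (hq : PrimeSpectrum.comap (algebraMap R A) q = p) :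
    ∃ Q : PrimeSpectrum (p.asIdeal.ResidueField ⊗[R] A),
      Q.asIdeal.comap (Algebra.TensorProduct.includeRight :
        A →ₐ[R] p.asIdeal.ResidueField ⊗[R] A).toRingHom = q.asIdeal := by
  refine ⟨PrimeSpectrum.preimageEquivFiber R A p ⟨q, hq⟩, ?_⟩
  have h1 := (PrimeSpectrum.preimageEquivFiber R A p).symm_apply_apply ⟨q, hq⟩
  have h2 : ((PrimeSpectrum.preimageEquivFiber R A p).symm
      (PrimeSpectrum.preimageEquivFiber R A p ⟨q, hq⟩)).1.asIdeal = q.asIdeal := by rw [h1]
  exact h2

end Fibre

end Groth.Agent.Lib.Helper5.RelGor
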