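import Mathlib
import Groth.Agent.S1801
import Groth.Agent.Lib.Helper5RelGorE
import Groth.Agent.Lib.Helper5HasLDer
import Groth.Agent.Lib.Helper5ShrkE
set_option backward.isDefEq.respectTransparency.types false

/-!
# Pointwise criterion for Gorenstein fibres via the relative dualizing complex (helper5)

* `gorLocal_of_invertible_at`: pointwise form of `RelGor.gorLocal_of_invertible`.
* `gor_fibre_iff`: for `R → A` flat of finite type between Noetherian rings, `q` a prime of `A`
  and `Q` the prime of the fibre ring `κ(p) ⊗_R A` over `q`: the local ring of the fibre at `Q`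
  is Gorenstein iff `ω_{A/R}` is a shift of the ring on a principal open neighbourhood of `q`.
-/

set_option autoImplicit false
set_option linter.style.haveILetI false
universe u
open CategoryTheory CategoryTheory.Limits TensorProduct
attribute [local instance] HasDerivedCategory.standard

namespace Groth.Agent.Lib.Helper5.GorOpen

open DerivedCategory Groth.Agent.Lib.Helper1.LDer Groth.Agent.Lib.Helper1.Extend
  Groth.Agent.Lib.Helper5.HasLDer Groth.Agent.Lib.Helper5.LocD Groth.Agent.Lib.Helper5.BiDual
  Groth.Agent.Lib.Helper5.RelGor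

section Pointwise

variable {A B : Type u} [CommRing A] [CommRing B]

/-- if `ω` is a shift of the ring on a principal open containing the image of `Qp` and `Lα^* ω`
is dualizing over `B`, the local ring of `B` at `Qp` is Gorenstein. -/
theorem gorLocal_of_invertible_at (α : A →+* B) [DRing.HasLBaseChange α] {ω : Dual.D A}
    (r : FFRep ω) (hX : Dual.IsDualizing B ((DRing.LBaseChange α).obj ω))
    (Qp : Ideal B) [hQ : Qp.IsPrime] (f : A) (hf : f ∉ Qp.comap α) (m : ℤ)
    [DRing.HasLBaseChange (algebraMap A (Localization.Away f))]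
    (e : (DRing.LBaseChange (algebraMap A (Localization.Away f))).obj ω ≅
        (Dual.inD (Localization.Away f) (Localization.Away f))⟦m⟧) :
    LocCoh.IsGorensteinLocalRing (Localization.AtPrime Qp) := by
  haveI := hX.isNoetherianRing
  have hf' : α f ∈ Qp.primeCompl := fun h => hf h
  have hu : IsUnit (((algebraMap B (Localization.AtPrime Qp)).comp α) f) :=
    IsLocalization.map_units (Localization.AtPrime Qp) ⟨α f, hf'⟩
  obtain ⟨γ, hγ⟩ : ∃ γ : Localization.Away f →+* Localization.AtPrime Qp,
      γ.comp (algebraMap A (Localization.Away f)) =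
        (algebraMap B (Localization.AtPrime Qp)).comp α :=
    ⟨IsLocalization.Away.lift f hu, IsLocalization.Away.lift_comp f hu⟩
  haveI := hasLBaseChange (algebraMap B (Localization.AtPrime Qp))
  haveI := hasLBaseChange γ
  obtain ⟨e1⟩ := nonempty_lbc_square_iso r α (algebraMap B (Localization.AtPrime Qp))
    (algebraMap A (Localization.Away f)) γ hγ.symm
  obtain ⟨e2⟩ := nonempty_lbc_shift_self_iso γ m
  obtain ⟨e3⟩ := lbc_iso_extD (Localization.AtPrime Qp) ((DRing.LBaseChange α).obj ω)
  have hC : Dual.IsDualizing (Localization.AtPrime Qp)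
      ((extD B (Localization.AtPrime Qp)).obj ((DRing.LBaseChange α).obj ω)) :=
    isDualizing_extD Qp.primeCompl (Localization.AtPrime Qp) _ hX
  have hC' : Dual.IsDualizing (Localization.AtPrime Qp)
      ((Dual.inD (Localization.AtPrime Qp) (Localization.AtPrime Qp))⟦m⟧) :=
    isDualizing_of_iso (e3.symm ≪≫ e1 ≪≫ (DRing.LBaseChange γ).mapIso e ≪≫ e2) hC
  have hC'' : Dual.IsDualizing (Localization.AtPrime Qp)
      (Dual.inD (Localization.AtPrime Qp) (Localization.AtPrime Qp)) :=
    isDualizing_of_iso (shiftShiftNeg _ m) (isDualizing_shift hC' (-m))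
  exact Groth.Agent.Lib.Helper5.GorLocus.gor_of_isDualizing_inD _ hC''

end Pointwise

section Ring

/-- pointwise criterion: the fibre through `q` is Gorenstein at `q` iff the relative dualizing
complex is a shift of the ring near `q`. -/
theorem gor_fibre_iff (R A : Type u) [CommRing R] [CommRing A] [IsNoetherianRing R]
    [IsNoetherianRing A] [Algebra R A] [Module.Flat R A]
    (n : ℕ) (ψ : MvPolynomial (Fin n) R →ₐ[R] A) (hψ : Function.Surjective ψ)
    [DRing.HasLBaseChange (algebraMap R (MvPolynomial (Fin n) R))]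
    (Rψ : Dual.D (MvPolynomial (Fin n) R) ⥤ Dual.D A) (adj : DRing.restrictD ψ.toRingHom ⊣ Rψ)
    (q : PrimeSpectrum A)
    (Q : PrimeSpectrum ((PrimeSpectrum.comap (algebraMap R A) q).asIdeal.ResidueField ⊗[R] A))
    (hQ : Q.asIdeal.comap (Algebra.TensorProduct.includeRight :
      A →ₐ[R] (PrimeSpectrum.comap (algebraMap R A) q).asIdeal.ResidueField ⊗[R] A).toRingHom =
        q.asIdeal) :
    LocCoh.IsGorensteinLocalRing (Localization.AtPrime Q.asIdeal) ↔
      ∃ (f : A) (_ : f ∉ q.asIdeal) (m : ℤ),
        Nonempty ((extD A (Localization.Away f)).obj (Dual2.shriekVia n Rψ (Dual.inD R R)) ≅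
          (Dual.inD (Localization.Away f) (Localization.Away f))⟦m⟧) := by
  classical
  obtain ⟨hab, hfin, -, -, hdual⟩ := Groth.Agent.S1801.result R A n ψ hψ Rψ adj
  obtain ⟨a, b, hb⟩ := hab
  obtain ⟨r⟩ := nonempty_ffRep_of_bdd_finite
    (Dual2.shriekVia n Rψ (Dual.inD R R)) ⟨b, fun i hi => hb i (Or.inr hi)⟩ hfin
  haveI := hasLBaseChange
    (Algebra.TensorProduct.includeRight :
      A →ₐ[R] (PrimeSpectrum.comap (algebraMap R A) q).asIdeal.ResidueField ⊗[R] A).toRingHom
  have hX := hdual (PrimeSpectrum.comap (algebraMap R A) q).asIdeal.ResidueField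
  constructor
  · intro hgor
    haveI := hgor
    obtain ⟨n₀, h0, h1⟩ := local_of_gor _ r hX Q.asIdeal q hQ
    obtain ⟨f, hf, ⟨e⟩⟩ := exists_away_iso_of_local
      (Dual2.shriekVia n Rψ (Dual.inD R R)) ⟨a, b, hb⟩ hfin q n₀ h0 h1
    exact ⟨f, hf, -n₀, ⟨e⟩⟩
  · rintro ⟨f, hf, m, ⟨e⟩⟩
    haveI := hasLBaseChange (algebraMap A (Localization.Away f))
    haveI : Module.Flat A (Localization.Away f) := IsLocalization.flat _ (Submonoid.powers f)
    obtain ⟨e'⟩ := lbc_iso_extD (Localization.Away f) (Dual2.shriekVia n Rψ (Dual.inD R R))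
    exact gorLocal_of_invertible_at _ r hX Q.asIdeal f (by rw [hQ]; exact hf) m (e' ≪≫ e)

end Ring

end Groth.Agent.Lib.Helper5.GorOpen
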