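import Mathlib
import Groth.Agent.Lib.Helper5GorOpenA
import Groth.Agent.Lib.Helper5RelCMOpen
import Groth.Agent.Lib.Helper5FiberBC
import Groth.Prelude.Def_Dual3
set_option backward.isDefEq.respectTransparency.types false

/-!
# Openness of the relative Gorenstein locus (helper5)

* `Lgor f`: the set of points at which the local ring of the fibre of `f` is Gorenstein.
* `lgor_baseChange`, `lgor_openImmersion`: compatibility with base change and open immersions.
* `mem_lgor_iff`: for `A → B` flat of finite type between Noetherian rings, `q ∈ Lgor` iff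
  `ω_{B/A}` is a shift of the ring near `q`.
* `isOpen_lgor_of_flat`, `isOpen_isGorensteinAt`: for `f` flat and locally of finite presentation,
  the Gorenstein locus is open.
-/

set_option autoImplicit false
set_option linter.style.haveILetI false
universe u
open CategoryTheory CategoryTheory.Limits AlgebraicGeometry Topology TensorProduct TopologicalSpace
  IsLocalRing
attribute [local instance] HasDerivedCategory.standard

namespace Groth.Agent.Lib.Helper5.GorOpen
open Groth.Agent.Lib.Helper5.CodepthFib
  Groth.Agent.Lib.Helper5.FiberMor Groth.Agent.Lib.Helper5.FiberRing Groth.Agent.Lib.Helper5.FiberBC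
  Groth.Agent.Lib.Helper5.RelCMOpen Groth.Agent.Lib.Helper5.GorRing
  Groth.Agent.Lib.Helper5.HasLDer Groth.Agent.Lib.Helper5.Shrk
  Groth.Agent.Lib.Helper1.Extend LocCoh

/-- The locus where the local ring of the fibre is Gorenstein. -/
def Lgor {X Y : Scheme.{u}} (f : X ⟶ Y) : Set X :=
  {x | IsGorensteinLocalRing ((f.fiber (f x)).presheaf.stalk (f.asFiber x))}

section Scheme

/-- base change invariance of the Gorenstein property of fibre local rings, with explicit image
point. -/
theorem gor_fiber_bc_iff {X Y X' Y' : Scheme.{u}} {f : X ⟶ Y} {g : Y' ⟶ Y} {f' : X' ⟶ Y'}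
    {g' : X' ⟶ X} [LocallyOfFiniteType f] (hsq : IsPullback g' f' f g) (x' : X') (x : X)
    (hx : g' x' = x) :
    IsGorensteinLocalRing ((f'.fiber (f' x')).presheaf.stalk (f'.asFiber x')) ↔
      IsGorensteinLocalRing ((f.fiber (f x)).presheaf.stalk (f.asFiber x)) := by
  subst hx
  haveI : LocallyOfFiniteType (f.fiberToSpecResidueField (f (g' x'))) := by
    dsimp only [Scheme.Hom.fiberToSpecResidueField]
    exact MorphismProperty.pullback_snd (P := @LocallyOfFiniteType) f _ inferInstance
  haveI : IsLocallyNoetherian (f.fiber (f (g' x'))) :=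
    LocallyOfFiniteType.isLocallyNoetherian (f.fiberToSpecResidueField (f (g' x')))
  exact fiber_stalk_baseChange_iff flatLocalIff_gor isoInv_gor fieldFibP_gor hsq x'
    (Or.inl inferInstance)

theorem lgor_baseChange {X Y X' Y' : Scheme.{u}} (f : X ⟶ Y) (g : Y' ⟶ Y) (g' : X' ⟶ X)
    (f' : X' ⟶ Y') (hf : LocallyOfFinitePresentation f) (hsq : IsPullback g' f' f g) :
    Lgor f' = g' ⁻¹' Lgor f := by
  ext x'
  haveI : LocallyOfFiniteType f := inferInstance
  exact gor_fiber_bc_iff hsq x' (g' x') rfl

theorem lgor_openImmersion {X Y U : Scheme.{u}} (f : X ⟶ Y) (j : U ⟶ X)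
    (hj : IsOpenImmersion j) : Lgor (j ≫ f) = j ⁻¹' Lgor f := by
  ext u
  exact fiber_stalk_openImmersion_iff f isoInv_gor j u

/-- over a field, a flat morphism locally of finite type has Gorenstein local ring at `z` iff the
fibre through `z` is Gorenstein at `z`. -/
theorem gor_stalk_iff_gor_fiber_of_field {k : Type u} [Field k]
    {X : Scheme.{u}} (f : X ⟶ Spec (CommRingCat.of k)) [LocallyOfFiniteType f] [Flat f] (z : X) :
    IsGorensteinLocalRing (X.presheaf.stalk z) ↔
      IsGorensteinLocalRing ((f.fiber (f z)).presheaf.stalk (f.asFiber z)) := by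
  haveI : IsLocallyNoetherian X := LocallyOfFiniteType.isLocallyNoetherian f
  have hY : IsGorensteinLocalRing ((Spec (CommRingCat.of k)).presheaf.stalk (f z)) :=
    isoInv_gor _ _ (Spec.stalkIso (CommRingCat.of k) _).commRingCatIsoToRingEquiv.symm
      ((gorRing_of_field k).isGorensteinLocalRing_localization _)
  have key := flat_iff f z flatLocalIff_gor isoInv_gor (Flat.stalkMap f z)
  exact ⟨fun h => (key.mp h).2, fun h => key.mpr ⟨hY, h⟩⟩

end Scheme

section Affine

variable (A B : Type u) [CommRing A] [CommRing B] [Algebra A B] [IsNoetherianRing A]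
  [IsNoetherianRing B] [Module.Flat A B] [Algebra.FiniteType A B]

theorem mem_lgor_iff (n : ℕ) (ψ : MvPolynomial (Fin n) A →ₐ[A] B) (hψ : Function.Surjective ψ)
    [DRing.HasLBaseChange (algebraMap A (MvPolynomial (Fin n) A))]
    (Rψ : Dual.D (MvPolynomial (Fin n) A) ⥤ Dual.D B) (adj : DRing.restrictD ψ.toRingHom ⊣ Rψ)
    (q : Spec (CommRingCat.of B)) :
    q ∈ Lgor (Spec.map (CommRingCat.ofHom (algebraMap A B))) ↔
      ∃ (f : B) (_ : f ∉ q.asIdeal) (m : ℤ),
        Nonempty ((extD B (Localization.Away f)).obj (Dual2.shriekVia n Rψ (Dual.inD A A)) ≅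
          (Dual.inD (Localization.Away f) (Localization.Away f))⟦m⟧) := by
  obtain ⟨Q, hQ⟩ := Groth.Agent.Lib.Helper5.RelGor.exists_prime_fibre A B
    (PrimeSpectrum.comap (algebraMap A B) q) q rfl
  rw [← gor_fibre_iff A B n ψ hψ Rψ adj q Q hQ]
  have hsq : IsPullback
      (Spec.map (CommRingCat.ofHom (Algebra.TensorProduct.includeRight :
        B →ₐ[A] (PrimeSpectrum.comap (algebraMap A B) q).asIdeal.ResidueField ⊗[A] B).toRingHom))
      (Spec.map (CommRingCat.ofHom
        (algebraMap (PrimeSpectrum.comap (algebraMap A B) q).asIdeal.ResidueField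
          ((PrimeSpectrum.comap (algebraMap A B) q).asIdeal.ResidueField ⊗[A] B))))
      (Spec.map (CommRingCat.ofHom (algebraMap A B)))
      (Spec.map (CommRingCat.ofHom
        (algebraMap A (PrimeSpectrum.comap (algebraMap A B) q).asIdeal.ResidueField))) :=
    (isPullback_SpecMap_of_isPushout _ _ _ _ (CommRingCat.isPushout_tensorProduct A
      (PrimeSpectrum.comap (algebraMap A B) q).asIdeal.ResidueField B)).flip
  haveI hF1 : LocallyOfFiniteType (Spec.map (CommRingCat.ofHom (algebraMap A B))) := by
    rw [HasRingHomProperty.Spec_iff (P := @LocallyOfFiniteType), CommRingCat.hom_ofHom,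
      RingHom.finiteType_algebraMap]
    infer_instance
  have h1 := gor_fiber_bc_iff hsq Q q (PrimeSpectrum.ext hQ)
  haveI hF2 : LocallyOfFiniteType (Spec.map (CommRingCat.ofHom
      (algebraMap (PrimeSpectrum.comap (algebraMap A B) q).asIdeal.ResidueField
        ((PrimeSpectrum.comap (algebraMap A B) q).asIdeal.ResidueField ⊗[A] B)))) := by
    rw [HasRingHomProperty.Spec_iff (P := @LocallyOfFiniteType), CommRingCat.hom_ofHom,
      RingHom.finiteType_algebraMap]
    infer_instance
  haveI hF3 : Flat (Spec.map (CommRingCat.ofHom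
      (algebraMap (PrimeSpectrum.comap (algebraMap A B) q).asIdeal.ResidueField
        ((PrimeSpectrum.comap (algebraMap A B) q).asIdeal.ResidueField ⊗[A] B)))) :=
    Flat.SpecMap_iff.mpr (RingHom.flat_algebraMap_iff.mpr inferInstance)
  have h2 := gor_stalk_iff_gor_fiber_of_field (Spec.map (CommRingCat.ofHom
      (algebraMap (PrimeSpectrum.comap (algebraMap A B) q).asIdeal.ResidueField
        ((PrimeSpectrum.comap (algebraMap A B) q).asIdeal.ResidueField ⊗[A] B)))) Q
  have h3 : IsGorensteinLocalRing ((Spec (CommRingCat.of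
      ((PrimeSpectrum.comap (algebraMap A B) q).asIdeal.ResidueField ⊗[A] B))).presheaf.stalk Q) ↔
      IsGorensteinLocalRing (Localization.AtPrime Q.asIdeal) :=
    ⟨isoInv_gor _ _ (Spec.stalkIso (CommRingCat.of
        ((PrimeSpectrum.comap (algebraMap A B) q).asIdeal.ResidueField ⊗[A] B))
          Q).commRingCatIsoToRingEquiv,
      isoInv_gor _ _ (Spec.stalkIso (CommRingCat.of
        ((PrimeSpectrum.comap (algebraMap A B) q).asIdeal.ResidueField ⊗[A] B))
          Q).commRingCatIsoToRingEquiv.symm⟩
  exact h1.symm.trans (h2.symm.trans h3)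

theorem isOpen_lgor_of_noetherian :
    IsOpen (Lgor (Spec.map (CommRingCat.ofHom (algebraMap A B)))) := by
  classical
  obtain ⟨n, ψ, hψ⟩ := Algebra.FiniteType.iff_quotient_mvPolynomial''.1
    (inferInstance : Algebra.FiniteType A B)
  haveI := hasLBaseChange (algebraMap A (MvPolynomial (Fin n) A))
  obtain ⟨Rψ, ⟨adj⟩⟩ := exists_rightAdjoint ψ.toRingHom
  rw [isOpen_iff_forall_mem_open]
  intro q hq
  obtain ⟨f, hf, m, he⟩ := (mem_lgor_iff A B n ψ hψ Rψ adj q).1 hq
  refine ⟨(PrimeSpectrum.basicOpen f : Set (PrimeSpectrum B)), ?_,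
    (PrimeSpectrum.basicOpen f).isOpen, hf⟩
  intro q' hq'
  exact (mem_lgor_iff A B n ψ hψ Rψ adj q').2 ⟨f, hq', m, he⟩

end Affine

section General

/-- For `f` flat and locally of finite presentation, the set of points at which the fibre is
Gorenstein is open. -/
theorem isOpen_lgor_of_flat {X Y : Scheme.{u}} (f : X ⟶ Y) [LocallyOfFinitePresentation f]
    [Flat f] : IsOpen (Lgor f) :=
  isOpen_locus_of_flat (fun {X Y} f => Lgor f)
    (fun f g g' f' hf hsq => lgor_baseChange f g g' f' hf hsq)
    (fun f j hj => lgor_openImmersion f j hj)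
    (fun A B _ _ _ _ _ hA => by
      haveI : IsNoetherianRing A := Algebra.FiniteType.isNoetherianRing ℤ A
      haveI : IsNoetherianRing B := Algebra.FiniteType.isNoetherianRing A B
      exact isOpen_lgor_of_noetherian A B) f

/-- the Gorenstein locus of a flat morphism locally of finite presentation is open. -/
theorem isOpen_isGorensteinAt {X S : Scheme.{u}} (f : X ⟶ S) [Flat f]
    [LocallyOfFinitePresentation f] : IsOpen {x : X | Dual3.IsGorensteinAt f x} := by
  have h := isOpen_lgor_of_flat f
  have heq : {x : X | Dual3.IsGorensteinAt f x} = Lgor f := by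
    ext x
    exact ⟨fun hx => hx.2, fun hx => ⟨Flat.stalkMap f x, hx⟩⟩
  rw [heq]
  exact h

end General

end Groth.Agent.Lib.Helper5.GorOpen
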