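import Mathlib
import Groth.Agent.Lib.Helper5CMAffSp
import Groth.Agent.Lib.Helper5GorOpenB
import Groth.Agent.Lib.Helper3FibCritSch
import Groth.Agent.Lib.Helper3BaseMap
import Groth.Agent.Lib.Helper3LocDimBC
import Groth.Agent.Lib.Helper6LfpComp
import Groth.Agent.Lib.Helper29Gorenstein
import Groth.Agent.S0342
import Groth.Agent.S0345
import Groth.Prelude.Def_Dual3

/-!
# Gorenstein morphisms and quasi-finite maps to affine space (helper5)

For `f : X ⟶ S` flat and locally of finite presentation with fibre of local dimension `d` at `x`,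
and an `S`-morphism `g : U ⟶ 𝔸^d_S` from an open neighbourhood of `x`, quasi-finite at `x`:
`f` is Gorenstein at `x` iff `g` is Gorenstein at `x`.

* `cmLocal_of_gorLocal`: Gorenstein local rings are Cohen–Macaulay.
* `flat_stalkMap_of_isCMAt_gen`: the flatness step over an arbitrary base, by the fibrewise
  flatness criterion and the Noetherian case over the residue field.
* `isGorAt_of_isGorAt_over`, `isGorAt_of_quasiFiniteAt`: the two transfer directions.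
* `exists_lqf_gorMor`, `exists_lqf_over`: existence statements.
-/

set_option autoImplicit false
set_option linter.style.haveILetI false
universe u

open CategoryTheory CategoryTheory.Limits AlgebraicGeometry IsLocalRing TensorProduct

namespace Groth.Agent.Lib.Helper5.GorAffSp

open Groth.Agent.Lib.Helper5.FiberMor Groth.Agent.Lib.Helper5.FiberStalk
  Groth.Agent.Lib.Helper5.FiberRing Groth.Agent.Lib.Helper5.CodepthFib
  Groth.Agent.Lib.Helper5.RelCMOpen Groth.Agent.Lib.Helper5 LocCoh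
  Groth.Agent.Lib.Helper5.CMAffSp Groth.Agent.Lib.Helper4.DimFormula
  Groth.Agent.Lib.Helper6.QFAff Groth.Agent.Lib.Helper5.GorOpen

/-- A Gorenstein local ring is Cohen–Macaulay. -/
theorem cmLocal_of_gorLocal (R : Type u) [CommRing R] (h : LocCoh.IsGorensteinLocalRing R) :
    LocCoh.IsCohenMacaulayLocalRing R := by
  haveI := h
  haveI : IsNoetherianRing R := inferInstance
  haveI : IsLocalRing R := inferInstance
  obtain ⟨d, hd⟩ := Groth.Agent.S0345.exists_natCast_ringKrullDim R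
  have hdepth := (Groth.Agent.Lib.Helper29Gorenstein.depth_eq_and_hasInjectiveDimensionLT R d hd).1
  refine { supportDim_eq_depth := ?_ }
  rw [Module.supportDim_self_eq_ringKrullDim, hd, hdepth]
  rfl

theorem isGorAt_comp_openImmersion_iff {X Y U : Scheme.{u}} (f : X ⟶ Y) (j : U ⟶ X)
    [IsOpenImmersion j] (u : U) :
    Dual3.IsGorensteinAt (j ≫ f) u ↔ Dual3.IsGorensteinAt f (j u) :=
  and_congr
    (Groth.Agent.Lib.Helper20.FlatDesc.stalkMap_comp_iff_left (Q := fun φ => RingHom.Flat φ)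
      RingHom.Flat.respectsIso j f u)
    (fiber_stalk_openImmersion_iff f isoInv_gor j u)

theorem localFibreDim_eq {X S : Scheme.{u}} (f : X ⟶ S) (x : X) :
    Dual3.localFibreDim f x = FlatMor.fibreDimAt f x := by
  unfold Dual3.localFibreDim FlatMor.fibreDimAt FlatMor.localDim
  rw [iInf_subtype']
  rfl

/-- **Flatness step over an arbitrary base.** `g : X ⟶ T` locally quasi-finite, `π : T ⟶ Y` locally
of finite type, `g ≫ π` flat and locally of finite presentation; the fibre of `π` over `π (g x)`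
(given as any pullback `T₀`) has regular local rings and local dimension `d` everywhere. If `g ≫ π`
is Cohen–Macaulay at `x` with fibre of local dimension `d` at `x`, then `g` is flat at `x`. -/
theorem flat_stalkMap_of_isCMAt_gen {X T Y : Scheme.{u}} (g : X ⟶ T) (π : T ⟶ Y)
    [LocallyOfFiniteType π] [LocallyOfFinitePresentation (g ≫ π)] [Flat (g ≫ π)]
    [LocallyQuasiFinite g] (x : X) (d : ℕ)
    (T₀ : Scheme.{u}) (ρ₀ : T₀ ⟶ Spec (Y.residueField (π (g x)))) (a : T₀ ⟶ T)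
    (sq : IsPullback a ρ₀ π (Y.fromSpecResidueField (π (g x))))
    [LocallyOfFiniteType ρ₀]
    (hdim : ∀ w : T₀, FlatMor.fibreDimAt ρ₀ w = d)
    (hreg : ∀ w : T₀, IsRegularLocalRing ((ρ₀.fiber (ρ₀ w)).presheaf.stalk (ρ₀.asFiber w)))
    (hcm : MoreMor.IsCMAt (g ≫ π) x) (hd : FlatMor.fibreDimAt (g ≫ π) x = d) :
    (g.stalkMap x).hom.Flat := by
  haveI : LocallyOfFiniteType (g ≫ π) := inferInstance
  haveI : LocallyOfFiniteType g := locallyOfFiniteType_of_comp g π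
  refine Groth.Agent.Lib.Helper3.FibCritSch.flat_stalkMap_of_flat_of_fiberMap g π x
    (Flat.stalkMap (g ≫ π) x) ?_
  have hpbFM : IsPullback ((g ≫ π).fiberι (π (g x))) (MoreMor.fiberMap g π (π (g x))) g
      (π.fiberι (π (g x))) :=
    Groth.Agent.Lib.Helper3.BaseMap.isPullback_baseMap g π (Y.fromSpecResidueField (π (g x)))
  haveI hFMqf : LocallyQuasiFinite (MoreMor.fiberMap g π (π (g x))) :=
    MorphismProperty.of_isPullback (P := @LocallyQuasiFinite) hpbFM inferInstance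
  haveI hFMft : LocallyOfFiniteType (MoreMor.fiberMap g π (π (g x))) :=
    MorphismProperty.of_isPullback (P := @LocallyOfFiniteType) hpbFM inferInstance
  have sqπ : IsPullback (π.fiberι (π (g x))) (π.fiberToSpecResidueField (π (g x))) π
      (Y.fromSpecResidueField (π (g x))) := IsPullback.of_hasPullback π _
  let e : π.fiber (π (g x)) ≅ T₀ := sqπ.isoIsPullback _ _ sq
  have he : e.hom ≫ ρ₀ = π.fiberToSpecResidueField (π (g x)) :=
    IsPullback.isoIsPullback_hom_snd _ _ sqπ sq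
  obtain ⟨FM', hFM'⟩ : ∃ FM' : (g ≫ π).fiber (π (g x)) ⟶ T₀,
      FM' = MoreMor.fiberMap g π (π (g x)) ≫ e.hom := ⟨_, rfl⟩
  haveI : LocallyQuasiFinite FM' := by rw [hFM']; infer_instance
  haveI : LocallyOfFiniteType FM' := by rw [hFM']; infer_instance
  have hcomp : FM' ≫ ρ₀ = (g ≫ π).fiberToSpecResidueField (π (g x)) := by
    rw [hFM', Category.assoc, he]
    exact pullback.lift_snd _ _ _
  haveI : Flat ((g ≫ π).fiberToSpecResidueField (π (g x))) := by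
    dsimp only [Scheme.Hom.fiberToSpecResidueField]
    exact MorphismProperty.pullback_snd (P := @Flat) (g ≫ π) _ inferInstance
  have hpbF : IsPullback ((g ≫ π).fiberι (π (g x)))
      ((g ≫ π).fiberToSpecResidueField (π (g x))) (g ≫ π)
      (Y.fromSpecResidueField (π (g x))) := IsPullback.of_hasPullback _ _
  have hz : (g ≫ π).fiberι (π (g x)) ((g ≫ π).asFiber x) = x := Scheme.Hom.fiberι_asFiber _ _
  have hcm' : MoreMor.IsCMAt (FM' ≫ ρ₀) ((g ≫ π).asFiber x) := by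
    rw [hcomp]
    exact ⟨Flat.stalkMap _ _, (cm_fiber_bc_iff hpbF _ x hz).mpr hcm.2⟩
  have hd' : FlatMor.fibreDimAt (FM' ≫ ρ₀) ((g ≫ π).asFiber x) = d := by
    rw [hcomp, Groth.Agent.Lib.Helper3.LocDimBC.fibreDimAt_eq_of_isPullback (g ≫ π) _ _ _ hpbF, hz]
    exact hd
  haveI : IsLocallyNoetherian (Spec (Y.residueField (π (g x)))) := inferInstance
  have key : (FM'.stalkMap ((g ≫ π).asFiber x)).hom.Flat :=
    flat_stalkMap_of_isCMAt FM' ρ₀ ((g ≫ π).asFiber x) d (hdim _) (hreg _) hcm' hd'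
  subst hFM'
  rw [Scheme.Hom.stalkMap_comp] at key
  exact (RingHom.Flat.respectsIso.cancel_left_isIso _ _).mp key

/-- The flatness step for affine space over an arbitrary base. -/
theorem flat_stalkMap_of_isCMAt_affineSpace {X Y : Scheme.{u}} (d : ℕ)
    (g : X ⟶ 𝔸(ULift.{u} (Fin d); Y))
    [LocallyOfFinitePresentation (g ≫ (𝔸(ULift.{u} (Fin d); Y) ↘ Y))]
    [Flat (g ≫ (𝔸(ULift.{u} (Fin d); Y) ↘ Y))] [LocallyQuasiFinite g] (x : X)
    (hcm : MoreMor.IsCMAt (g ≫ (𝔸(ULift.{u} (Fin d); Y) ↘ Y)) x)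
    (hd : FlatMor.fibreDimAt (g ≫ (𝔸(ULift.{u} (Fin d); Y) ↘ Y)) x = d) :
    (g.stalkMap x).hom.Flat :=
  flat_stalkMap_of_isCMAt_gen g (𝔸(ULift.{u} (Fin d); Y) ↘ Y) x d
    (𝔸(ULift.{u} (Fin d); Spec (Y.residueField ((𝔸(ULift.{u} (Fin d); Y) ↘ Y) (g x)))))
    (𝔸(ULift.{u} (Fin d); Spec (Y.residueField ((𝔸(ULift.{u} (Fin d); Y) ↘ Y) (g x)))) ↘
      Spec (Y.residueField ((𝔸(ULift.{u} (Fin d); Y) ↘ Y) (g x))))
    (AffineSpace.map (ULift.{u} (Fin d))
      (Y.fromSpecResidueField ((𝔸(ULift.{u} (Fin d); Y) ↘ Y) (g x))))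
    (AffineSpace.isPullback_map (n := ULift.{u} (Fin d))
      (Y.fromSpecResidueField ((𝔸(ULift.{u} (Fin d); Y) ↘ Y) (g x))))
    (fun w => fibreDimAt_affineSpace _ d w)
    (fun _ => isRegularLocalRing_fiber_affineSpace _ _ _ _) hcm hd

/-- **Easy transfer direction**: an `S`-morphism `g : U ⟶ 𝔸^d_S` from an open neighbourhood of `x`
which is Gorenstein at `x` forces `f` to be Gorenstein at `x`. -/
theorem isGorAt_of_isGorAt_over {X S : Scheme.{u}} (f : X ⟶ S) [LocallyOfFiniteType f] (x : X)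
    (d : ℕ) (U : X.Opens) (hx : x ∈ U) (g : (U : Scheme.{u}) ⟶ 𝔸(ULift.{u} (Fin d); S))
    (hover : g ≫ (𝔸(ULift.{u} (Fin d); S) ↘ S) = U.ι ≫ f)
    (hg : Dual3.IsGorensteinAt g ⟨x, hx⟩) : Dual3.IsGorensteinAt f x := by
  have key : Dual3.IsGorensteinAt (g ≫ (𝔸(ULift.{u} (Fin d); S) ↘ S)) ⟨x, hx⟩ := by
    haveI : LocallyOfFiniteType (g ≫ (𝔸(ULift.{u} (Fin d); S) ↘ S)) := by
      rw [hover]; infer_instance
    haveI : LocallyOfFiniteType g := locallyOfFiniteType_of_comp g (𝔸(ULift.{u} (Fin d); S) ↘ S)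
    haveI := flat_affineSpace_over (ULift.{u} (Fin d)) S
    refine ⟨flat_comp g _ ⟨x, hx⟩ hg.1 (Flat.stalkMap _ _), ?_⟩
    haveI : IsLocallyNoetherian ((𝔸(ULift.{u} (Fin d); S) ↘ S).fiber
        ((𝔸(ULift.{u} (Fin d); S) ↘ S) (g ⟨x, hx⟩))) := isLocallyNoetherian_fiber _ _
    haveI : IsLocallyNoetherian ((g ≫ (𝔸(ULift.{u} (Fin d); S) ↘ S)).fiber
        ((g ≫ (𝔸(ULift.{u} (Fin d); S) ↘ S)) ⟨x, hx⟩)) := isLocallyNoetherian_fiber _ _
    refine (comp_iff' g (𝔸(ULift.{u} (Fin d); S) ↘ S) ⟨x, hx⟩ flatLocalIff_gor isoInv_gor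
      hg.1).mpr ⟨?_, hg.2⟩
    haveI := isRegularLocalRing_fiber_affineSpace (ULift.{u} (Fin d)) S
      ((𝔸(ULift.{u} (Fin d); S) ↘ S) (g ⟨x, hx⟩))
      ((𝔸(ULift.{u} (Fin d); S) ↘ S).asFiber (g ⟨x, hx⟩))
    exact Groth.Agent.S0342.result _
  rw [hover] at key
  exact (isGorAt_comp_openImmersion_iff f U.ι ⟨x, hx⟩).mp key

/-- **Hard transfer direction**: if `f` (flat, locally of finite presentation) is Gorenstein at `x`
with fibre of local dimension `d` at `x`, then every `S`-morphism `g : U ⟶ 𝔸^d_S` from an open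
neighbourhood of `x` which is quasi-finite at `x` is Gorenstein at `x`. -/
theorem isGorAt_of_quasiFiniteAt {X S : Scheme.{u}} (f : X ⟶ S) [Flat f]
    [LocallyOfFinitePresentation f] (x : X) (d : ℕ) (hd : FlatMor.fibreDimAt f x = d)
    (hgor : Dual3.IsGorensteinAt f x) (U : X.Opens) (hx : x ∈ U)
    (g : (U : Scheme.{u}) ⟶ 𝔸(ULift.{u} (Fin d); S))
    (hover : g ≫ (𝔸(ULift.{u} (Fin d); S) ↘ S) = U.ι ≫ f) (hqf : g.QuasiFiniteAt ⟨x, hx⟩) :
    Dual3.IsGorensteinAt g ⟨x, hx⟩ := by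
  haveI : LocallyOfFiniteType (g ≫ (𝔸(ULift.{u} (Fin d); S) ↘ S)) := by
    rw [hover]; infer_instance
  haveI : LocallyOfFiniteType g := locallyOfFiniteType_of_comp g (𝔸(ULift.{u} (Fin d); S) ↘ S)
  obtain ⟨W, hW⟩ : ∃ W : (U : Scheme.{u}).Opens, W = g.quasiFiniteLocus := ⟨_, rfl⟩
  have hxW : (⟨x, hx⟩ : (U : Scheme.{u})) ∈ W := by rw [hW]; exact hqf
  haveI : LocallyQuasiFinite (W.ι ≫ g) := by
    rw [← Scheme.Hom.quasiFiniteLocus_eq_top_iff, Scheme.Hom.quasiFiniteLocus_comp, ← hW]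
    exact Scheme.Opens.ι_preimage_self W
  have hover' : (W.ι ≫ g) ≫ (𝔸(ULift.{u} (Fin d); S) ↘ S) = W.ι ≫ U.ι ≫ f := by
    rw [Category.assoc, hover]
  haveI : Flat ((W.ι ≫ g) ≫ (𝔸(ULift.{u} (Fin d); S) ↘ S)) := by rw [hover']; infer_instance
  haveI : LocallyOfFinitePresentation ((W.ι ≫ g) ≫ (𝔸(ULift.{u} (Fin d); S) ↘ S)) := by
    rw [hover']; infer_instance
  have hgor' : Dual3.IsGorensteinAt ((W.ι ≫ g) ≫ (𝔸(ULift.{u} (Fin d); S) ↘ S))
      ⟨⟨x, hx⟩, hxW⟩ := by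
    rw [hover', isGorAt_comp_openImmersion_iff, isGorAt_comp_openImmersion_iff]
    exact hgor
  have hcm' : MoreMor.IsCMAt ((W.ι ≫ g) ≫ (𝔸(ULift.{u} (Fin d); S) ↘ S)) ⟨⟨x, hx⟩, hxW⟩ :=
    ⟨hgor'.1, cmLocal_of_gorLocal _ hgor'.2⟩
  have hd' : FlatMor.fibreDimAt ((W.ι ≫ g) ≫ (𝔸(ULift.{u} (Fin d); S) ↘ S)) ⟨⟨x, hx⟩, hxW⟩ =
      d := by
    rw [hover', fibreDimAt_opens_ι_comp, fibreDimAt_opens_ι_comp]
    exact hd
  have hfl : ((W.ι ≫ g).stalkMap ⟨⟨x, hx⟩, hxW⟩).hom.Flat :=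
    flat_stalkMap_of_isCMAt_affineSpace d (W.ι ≫ g) ⟨⟨x, hx⟩, hxW⟩ hcm' hd'
  haveI : LocallyOfFiniteType (W.ι ≫ g) := inferInstance
  haveI : IsLocallyNoetherian ((𝔸(ULift.{u} (Fin d); S) ↘ S).fiber
      ((𝔸(ULift.{u} (Fin d); S) ↘ S) ((W.ι ≫ g) ⟨⟨x, hx⟩, hxW⟩))) := isLocallyNoetherian_fiber _ _
  haveI : IsLocallyNoetherian (((W.ι ≫ g) ≫ (𝔸(ULift.{u} (Fin d); S) ↘ S)).fiber
      (((W.ι ≫ g) ≫ (𝔸(ULift.{u} (Fin d); S) ↘ S)) ⟨⟨x, hx⟩, hxW⟩)) :=
    isLocallyNoetherian_fiber _ _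
  have h2 := (comp_iff' (W.ι ≫ g) (𝔸(ULift.{u} (Fin d); S) ↘ S) ⟨⟨x, hx⟩, hxW⟩ flatLocalIff_gor
    isoInv_gor hfl).mp hgor'.2
  have h3 : Dual3.IsGorensteinAt (W.ι ≫ g) ⟨⟨x, hx⟩, hxW⟩ := ⟨hfl, h2.2⟩
  exact (isGorAt_comp_openImmersion_iff g W.ι ⟨⟨x, hx⟩, hxW⟩).mp h3

/-- move a locally quasi-finite Gorenstein map defined on the source of an open immersion
`j : U ⟶ X` to an open of `X`. -/
theorem exists_opens_gor {X Y T U : Scheme.{u}} (f : X ⟶ Y) (p : T ⟶ Y) (j : U ⟶ X)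
    [IsOpenImmersion j] (g : U ⟶ T) (hover : g ≫ p = j ≫ f) (x : X) (hx : x ∈ Set.range j)
    (hqf : LocallyQuasiFinite g) (hgor : Dual3.IsGorensteinMor g) :
    ∃ (U' : X.Opens) (_ : x ∈ U') (g' : (U' : Scheme.{u}) ⟶ T), g' ≫ p = U'.ι ≫ f ∧
      LocallyQuasiFinite g' ∧ Dual3.IsGorensteinMor g' := by
  refine ⟨j.opensRange, hx, j.isoOpensRange.inv ≫ g, ?_, inferInstance, ?_⟩
  · rw [Category.assoc, hover, ← Category.assoc, Scheme.Hom.isoOpensRange_inv_comp]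
  · intro u
    exact (isGorAt_comp_openImmersion_iff g j.isoOpensRange.inv u).mpr (hgor _)

/-- **(1) ⇒ (3)**: existence of a locally quasi-finite Gorenstein morphism to `𝔸^d_S`. -/
theorem exists_lqf_gorMor {X S : Scheme.{u}} (f : X ⟶ S) [Flat f] [LocallyOfFinitePresentation f]
    (x : X) (d : ℕ) (hd : FlatMor.fibreDimAt f x = d) (hgor : Dual3.IsGorensteinAt f x) :
    ∃ (U : X.Opens) (_ : x ∈ U) (g : (U : Scheme.{u}) ⟶ 𝔸(ULift.{u} (Fin d); S)),
      g ≫ (𝔸(ULift.{u} (Fin d); S) ↘ S) = U.ι ≫ f ∧ LocallyQuasiFinite g ∧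
        Dual3.IsGorensteinMor g := by
  have hcm : MoreMor.IsCMAt f x := ⟨hgor.1, cmLocal_of_gorLocal _ hgor.2⟩
  obtain ⟨U, g, hxU, hover, hfl, hqf⟩ := exists_flat_lqf_of_isCMAt f x d hcm hd
  haveI := hfl
  haveI := hqf
  haveI : LocallyOfFinitePresentation (g ≫ (𝔸(ULift.{u} (Fin d); S) ↘ S)) := by
    rw [hover]; infer_instance
  haveI : LocallyOfFinitePresentation g :=
    Groth.Agent.Lib.Helper6.locallyOfFinitePresentation_of_comp
      (g := (𝔸(ULift.{u} (Fin d); S) ↘ S)) inferInstance inferInstance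
  have hgx : Dual3.IsGorensteinAt g ⟨x, hxU⟩ :=
    isGorAt_of_quasiFiniteAt f x d hd hgor U hxU g hover (g.quasiFiniteAt _)
  let W : (U : Scheme.{u}).Opens := ⟨{u | Dual3.IsGorensteinAt g u}, isOpen_isGorensteinAt g⟩
  have hxW : (⟨x, hxU⟩ : (U : Scheme.{u})) ∈ W := hgx
  refine exists_opens_gor f (𝔸(ULift.{u} (Fin d); S) ↘ S) (W.ι ≫ U.ι) (W.ι ≫ g) ?_ x
    ⟨⟨⟨x, hxU⟩, hxW⟩, rfl⟩ inferInstance ?_
  · rw [Category.assoc, hover, Category.assoc]
  · intro w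
    exact (isGorAt_comp_openImmersion_iff g W.ι w).mpr w.2

/-- existence of a locally quasi-finite `S`-morphism to `𝔸^d_S` near `x`. -/
theorem exists_lqf_over {X S : Scheme.{u}} (f : X ⟶ S) [LocallyOfFiniteType f] (x : X) (d : ℕ)
    (hd : FlatMor.fibreDimAt f x ≤ (d : WithBot ℕ∞)) :
    ∃ (U : X.Opens) (_ : x ∈ U) (g : (U : Scheme.{u}) ⟶ 𝔸(ULift.{u} (Fin d); S)),
      g ≫ (𝔸(ULift.{u} (Fin d); S) ↘ S) = U.ι ≫ f ∧ LocallyQuasiFinite g := by
  obtain ⟨_, ⟨V : S.Opens, hV, rfl⟩, hyV, -⟩ :=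
    S.isBasis_affineOpens.exists_subset_of_mem_open (Set.mem_univ (f x)) isOpen_univ
  obtain ⟨U, hU, hxU, g₁, π₁, h1, h2, hqf, hft⟩ :=
    exists_affine_nhd_quasiFinite f x V hV hyV d hd
  haveI := isOpenImmersion_affineSpace_map (ULift.{u} (Fin d)) V.ι
  haveI := hqf
  refine ⟨U, hxU, π₁ ≫ AffineSpace.map (ULift.{u} (Fin d)) V.ι, ?_, inferInstance⟩
  rw [Category.assoc, AffineSpace.map_over, ← Category.assoc, h2, h1]

end Groth.Agent.Lib.Helper5.GorAffSp
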