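import Mathlib
import Groth.Agent.Lib.Helper5FiberMor
import Groth.Agent.Lib.Helper5FiberRing
import Groth.Agent.Lib.Helper5GorRing
import Groth.Agent.Lib.Helper5GorAffSp
import Groth.Agent.Lib.Helper12OnePoint
import Groth.Agent.Lib.Helper12Reduced
import Groth.Prelude.Def_AlgSp3

/-!
# Fibre local rings over field-like points, and `AlgSp.LocP` over a field (helper5)

* `isField_stalk_of_etale_field`: local rings of a scheme etale over a field are fields.
* `fiber_stalk_iff_of_isField`, `flat_stalkMap_of_isField`: over a point whose local ring is a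
  field, every morphism is flat and its fibre local ring is the local ring of the source.
* `stalk_iff_of_etale`: Cohen–Macaulay / Gorenstein type properties ascend and descend along etale
  morphisms of locally Noetherian schemes.
* `locP_yon_map_iff_of_field`: for `X` locally of finite type over a field, the chart condition
  "flat with fibre local rings `P`" on `h_X ⟶ h_{Spec k}` is equivalent to `P` for the local rings.
-/

set_option autoImplicit false
set_option linter.style.haveILetI false
universe u

open CategoryTheory CategoryTheory.Limits AlgebraicGeometry IsLocalRing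

namespace Groth.Agent.Lib.Helper5.FieldFib

open Groth.Agent.Lib.Helper5.FiberMor Groth.Agent.Lib.Helper5.FiberStalk
  Groth.Agent.Lib.Helper5.FiberRing Groth.Agent.Lib.Helper5 LocCoh

/-- the local rings of a scheme etale over a field are fields. -/
theorem isField_stalk_of_etale_field {X : Scheme.{u}} (k : Type u) [Field k]
    (h : X ⟶ Spec (CommRingCat.of k)) [Etale h] (x : X) : IsField (X.presheaf.stalk x) := by
  haveI : IsReduced (Spec (CommRingCat.of k)) := inferInstance
  haveI : IsReduced X := Groth.Agent.Lib.Helper12.Reduced.isReduced_of_smooth h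
  haveI := Groth.Agent.Lib.Helper12.OnePoint.subsingleton_primeSpectrum_stalk k h x
  exact PrimeSpectrum.subsingleton_iff_isField_of_isReduced.1 inferInstance

variable {P : ∀ (R : Type u) [CommRing R], Prop}

/-- over a point whose local ring is a field, the fibre local ring has `P` iff the local ring of
the source has `P`. -/
theorem fiber_stalk_iff_of_isField {U V : Scheme.{u}} (g : U ⟶ V) (u : U) (hPe : IsoInv P)
    (hV : IsField (V.presheaf.stalk (g u))) :
    P ((g.fiber (g u)).presheaf.stalk (g.asFiber u)) ↔ P (U.presheaf.stalk u) := by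
  rw [fiber_stalk_iff g u hPe]
  have hm : maximalIdeal (V.presheaf.stalk (g u)) = ⊥ :=
    IsLocalRing.isField_iff_maximalIdeal_eq.mp hV
  have hI : (maximalIdeal (V.presheaf.stalk (g u))).map (g.stalkMap u).hom = ⊥ := by
    rw [hm, Ideal.map_bot]
  let e : (U.presheaf.stalk u ⧸ (maximalIdeal (V.presheaf.stalk (g u))).map (g.stalkMap u).hom) ≃+*
      U.presheaf.stalk u := (Ideal.quotEquivOfEq hI).trans (RingEquiv.quotientBot _)
  exact ⟨hPe _ _ e, hPe _ _ e.symm⟩

/-- every morphism is flat at a point lying over a point whose local ring is a field. -/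
theorem flat_stalkMap_of_isField {U V : Scheme.{u}} (g : U ⟶ V) (u : U)
    (hV : IsField (V.presheaf.stalk (g u))) : (g.stalkMap u).hom.Flat := by
  letI := hV.toField
  letI := (g.stalkMap u).hom.toAlgebra
  show Module.Flat (V.presheaf.stalk (g u)) (U.presheaf.stalk u)
  infer_instance

/-- a property of local rings of the Cohen–Macaulay / Gorenstein type passes up and down an etale
morphism. -/
theorem stalk_iff_of_etale {U X : Scheme.{u}} [IsLocallyNoetherian X] (a : U ⟶ X) [Etale a]
    (u : U) (hP : FlatLocalIff P) (hPe : IsoInv P)
    (hPf : ∀ (R : Type u) [CommRing R], IsField R → P R) :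
    P (U.presheaf.stalk u) ↔ P (X.presheaf.stalk (a u)) := by
  haveI : IsLocallyNoetherian U := LocallyOfFiniteType.isLocallyNoetherian a
  have hfl : (a.stalkMap u).hom.Flat := Flat.stalkMap a u
  rw [flat_iff a u hP hPe hfl]
  refine and_iff_left ?_
  haveI : Etale (a.fiberToSpecResidueField (a u)) := by
    dsimp only [Scheme.Hom.fiberToSpecResidueField]
    exact MorphismProperty.pullback_snd (P := @Etale) a _ inferInstance
  exact hPf _ (isField_stalk_of_etale_field (X.residueField (a u))
    (a.fiberToSpecResidueField (a u)) (a.asFiber u))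

/-- **Chart condition over a field.** For `X` locally of finite type over a field `k`, the map
`h_X ⟶ h_{Spec k}` is, in every etale chart diagram, flat with fibre local rings `P` at every point
iff every local ring of `X` has `P`. -/
theorem locP_yon_map_iff_of_field {S : Scheme.{u}} (k : Type u) [Field k]
    (t : Spec (CommRingCat.of k) ⟶ S) (X : Scheme.{u}) (p : X ⟶ Spec (CommRingCat.of k))
    [LocallyOfFiniteType p] (hP : FlatLocalIff P) (hPe : IsoInv P)
    (hPf : ∀ (R : Type u) [CommRing R], IsField R → P R) :
    AlgSp.LocP (fun _ _ g => ∀ x, (g.stalkMap x).hom.Flat ∧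
        P ((g.fiber (g x)).presheaf.stalk (g.asFiber x)))
      ((AlgSp.yon S).map (Over.homMk p rfl : Over.mk (p ≫ t) ⟶ Over.mk t)) ↔
      ∀ x : X, P (X.presheaf.stalk x) := by
  constructor
  · intro h x
    have hp := AlgSp.locP_yon_map h
    have hp' : ∀ x, (p.stalkMap x).hom.Flat ∧
        P ((p.fiber (p x)).presheaf.stalk (p.asFiber x)) := hp
    have hfield : IsField ((Spec (CommRingCat.of k)).presheaf.stalk (p x)) :=
      isField_stalk_of_etale_field k (𝟙 _) (p x)
    exact (fiber_stalk_iff_of_isField p x hPe hfield).mp (hp' x).2
  · intro hX U V a b h ha hb _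
    obtain ⟨a0, rfl⟩ := (AlgSp.yon S).map_surjective a
    obtain ⟨b0, rfl⟩ := (AlgSp.yon S).map_surjective b
    haveI hae : Etale a0.left := (AlgSp.repWith_yon_map_iff @Etale a0).1 ha
    haveI hbe : Etale b0.left := (AlgSp.repWith_yon_map_iff @Etale b0).1 hb
    intro u
    have hVf : IsField (V.left.presheaf.stalk (h.left u)) :=
      isField_stalk_of_etale_field k b0.left _
    haveI : IsLocallyNoetherian X := LocallyOfFiniteType.isLocallyNoetherian p
    have hU : P (U.left.presheaf.stalk u) :=
      (stalk_iff_of_etale (X := X) a0.left u hP hPe hPf).mpr (hX _)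
    exact ⟨flat_stalkMap_of_isField h.left u hVf,
      (fiber_stalk_iff_of_isField h.left u hPe hVf).mpr hU⟩

theorem gor_of_isField (R : Type u) [CommRing R] (h : IsField R) : IsGorensteinLocalRing R := by
  letI := h.toField
  exact Groth.Agent.Lib.Helper5.GorRing.gorLocal_of_field R

theorem cm_of_isField (R : Type u) [CommRing R] (h : IsField R) : IsCohenMacaulayLocalRing R :=
  Groth.Agent.Lib.Helper5.GorAffSp.cmLocal_of_gorLocal R (gor_of_isField R h)

end Groth.Agent.Lib.Helper5.FieldFib
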