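import Mathlib
import Groth.Agent.Lib.Helper5FinFlat

/-!
# Descent of flatness along a ring map inducing the adic topology (helper5)
-/

set_option autoImplicit false
universe u

namespace Groth.Agent.Lib.Helper5

open TensorProduct

section Main

variable (A B A' : Type u) [CommRing A] [CommRing B] [CommRing A'] [IsNoetherianRing A]
  [IsLocalRing A] [IsNoetherianRing B] [IsLocalRing B] [Algebra A B]
  [IsLocalHom (algebraMap A B)] [Algebra A A']

/-- Descent of flatness along `A → A'` when the `m`-adic topology of `A` is induced from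
ideals of `A'`. -/
theorem flat_of_flat_baseChange_of_forall_exists_ideal
    (hI : ∀ n : ℕ, ∃ (I' : Ideal A') (N : ℕ),
      IsLocalRing.maximalIdeal A ^ N ≤ I'.comap (algebraMap A A') ∧
        I'.comap (algebraMap A A') ≤ IsLocalRing.maximalIdeal A ^ n)
    (h : Module.Flat A' (A' ⊗[A] B)) : Module.Flat A B := by
  apply flat_of_flat_baseChange_pow_of_le_jacobson (B := B) B (IsLocalRing.maximalIdeal A)
  · rw [IsLocalRing.jacobson_eq_maximalIdeal ⊥ bot_ne_top]
    exact IsLocalRing.map_maximalIdeal_le (algebraMap A B)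
  intro n hn
  obtain ⟨I', N, hKle, hle⟩ := hI n
  set K : Ideal A := I'.comap (algebraMap A A') with hK
  have hArt : IsArtinianRing (A ⧸ K) := by
    have h1 : IsFiniteLength A (A ⧸ K) := isFiniteLength_quotient_of_pow_le K N hKle
    have h2 : IsArtinian A (A ⧸ K) := (isFiniteLength_iff_isNoetherian_isArtinian.mp h1).2
    exact isArtinian_of_tower A h2
  have hT : Module.Flat (A' ⧸ I') ((A' ⧸ I') ⊗[A] B) :=
    flat_baseChange_of_flat_baseChange (A₁ := A') B h
  have hT2 : Module.Flat (A' ⧸ I') ((A' ⧸ I') ⊗[A ⧸ K] ((A ⧸ K) ⊗[A] B)) :=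
    flat_baseChange_baseChange_of_flat (A₁ := A ⧸ K) B hT
  have hK3 : Module.Flat (A ⧸ K) ((A ⧸ K) ⊗[A] B) :=
    flat_of_flat_baseChange_of_injective_of_isArtinianRing (S := A' ⧸ I')
      Ideal.algebraMap_quotient_injective
  let _ : Algebra (A ⧸ K) (A ⧸ IsLocalRing.maximalIdeal A ^ n) :=
    (Ideal.Quotient.factor hle).toAlgebra
  have : IsScalarTower A (A ⧸ K) (A ⧸ IsLocalRing.maximalIdeal A ^ n) :=
    IsScalarTower.of_algebraMap_eq (fun a => rfl)
  exact flat_baseChange_of_flat_baseChange (A₁ := A ⧸ K) B hK3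

end Main

end Groth.Agent.Lib.Helper5
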