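import Mathlib
import Groth.Agent.Lib.Helper5W2Lift

/-!
# The first Witt addition and multiplication polynomials (helper5)

`S₁ = x₁ + y₁ - ((x₀+y₀)^p - x₀^p - y₀^p)/p`, `P₁ = p x₁ y₁ + x₁ y₀^p + x₀^p y₁`, and the
resulting coefficient formulas in `W(R)` and `W₂(R)`.
-/

set_option autoImplicit false
universe u

namespace Groth.Agent.Lib.Helper5.W2Coeff

open Groth.Agent.Lib.Helper5.W2Lift MvPolynomial

variable (p : ℕ) [hp : Fact p.Prime]

theorem map_Q' {R S F : Type*} [CommRing R] [CommRing S] [FunLike F R S] [RingHomClass F R S]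
    (f : F) (x y : R) : f (Q p x y) = Q p (f x) (f y) := by
  simp only [Q, map_mul, map_sum, map_pow, map_natCast]

theorem C_p_ne_zero : (C (p : ℤ) : MvPolynomial (Fin 2 × ℕ) ℤ) ≠ 0 := by
  intro h
  have := C_injective (Fin 2 × ℕ) ℤ (h.trans (C_0).symm)
  exact hp.out.ne_zero (by exact_mod_cast this)

theorem wittAdd_one : WittVector.wittAdd p 1 =
    X (0, 1) + X (1, 1) - Q p (X (0, 0) : MvPolynomial (Fin 2 × ℕ) ℤ) (X (1, 0)) := by
  have h := wittStructureInt_prop p (X (0 : Fin 2) + X 1) 1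
  rw [wittPolynomial_one] at h
  simp only [map_add, map_mul, map_pow, bind₁_X_right, bind₁_C_right, rename_X, rename_C] at h
  have h0 : wittStructureInt p (X (0 : Fin 2) + X 1) 0 = X (0, 0) + X (1, 0) :=
    WittVector.wittAdd_zero p
  rw [h0, add_pow_eq (p := p)] at h
  apply mul_left_cancel₀ (C_p_ne_zero p)
  have h1 : (C (p : ℤ) : MvPolynomial (Fin 2 × ℕ) ℤ) = ((p : ℕ) : MvPolynomial (Fin 2 × ℕ) ℤ) := by
    simp
  change C (p : ℤ) * wittStructureInt p (X (0 : Fin 2) + X 1) 1 = _
  rw [h1] at h ⊢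
  linear_combination h

theorem wittMul_one : WittVector.wittMul p 1 =
    ((p : ℕ) : MvPolynomial (Fin 2 × ℕ) ℤ) * X (0, 1) * X (1, 1) + X (0, 1) * X (1, 0) ^ p
      + X (0, 0) ^ p * X (1, 1) := by
  have h := wittStructureInt_prop p (X (0 : Fin 2) * X 1) 1
  rw [wittPolynomial_one] at h
  simp only [map_add, map_mul, map_pow, bind₁_X_right, bind₁_C_right, rename_X, rename_C] at h
  have h0 : wittStructureInt p (X (0 : Fin 2) * X 1) 0 = X (0, 0) * X (1, 0) :=
    WittVector.wittMul_zero p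
  rw [h0] at h
  apply mul_left_cancel₀ (C_p_ne_zero p)
  have h1 : (C (p : ℤ) : MvPolynomial (Fin 2 × ℕ) ℤ) = ((p : ℕ) : MvPolynomial (Fin 2 × ℕ) ℤ) := by
    simp
  change C (p : ℤ) * wittStructureInt p (X (0 : Fin 2) * X 1) 1 = _
  rw [h1] at h ⊢
  linear_combination h

variable {p} {R : Type*} [CommRing R]

theorem add_coeff_one (x y : WittVector p R) :
    (x + y).coeff 1 = x.coeff 1 + y.coeff 1 - Q p (x.coeff 0) (y.coeff 0) := by
  rw [WittVector.add_coeff, wittAdd_one, WittVector.peval, map_sub, map_add, map_Q']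
  simp [Function.uncurry]

theorem mul_coeff_one (x y : WittVector p R) :
    (x * y).coeff 1 = (p : R) * x.coeff 1 * y.coeff 1 + x.coeff 1 * y.coeff 0 ^ p
      + x.coeff 0 ^ p * y.coeff 1 := by
  rw [WittVector.mul_coeff, wittMul_one, WittVector.peval]
  simp [Function.uncurry]

/-! ### Truncated Witt vectors of length two -/

theorem t_ext {x y : TruncatedWittVector p 2 R} (h0 : x.coeff 0 = y.coeff 0)
    (h1 : x.coeff 1 = y.coeff 1) : x = y := by
  apply TruncatedWittVector.ext
  intro i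
  fin_cases i
  · exact h0
  · exact h1

theorem t_add_coeff_zero (x y : TruncatedWittVector p 2 R) :
    (x + y).coeff 0 = x.coeff 0 + y.coeff 0 := by
  obtain ⟨X, rfl⟩ := WittVector.truncate_surjective p 2 R x
  obtain ⟨Y, rfl⟩ := WittVector.truncate_surjective p 2 R y
  rw [← map_add, WittVector.coeff_truncate, WittVector.coeff_truncate, WittVector.coeff_truncate]
  exact WittVector.add_coeff_zero X Y

theorem t_add_coeff_one (x y : TruncatedWittVector p 2 R) :
    (x + y).coeff 1 = x.coeff 1 + y.coeff 1 - Q p (x.coeff 0) (y.coeff 0) := by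
  obtain ⟨X, rfl⟩ := WittVector.truncate_surjective p 2 R x
  obtain ⟨Y, rfl⟩ := WittVector.truncate_surjective p 2 R y
  rw [← map_add]
  simp only [WittVector.coeff_truncate]
  exact add_coeff_one X Y

theorem t_mul_coeff_zero (x y : TruncatedWittVector p 2 R) :
    (x * y).coeff 0 = x.coeff 0 * y.coeff 0 := by
  obtain ⟨X, rfl⟩ := WittVector.truncate_surjective p 2 R x
  obtain ⟨Y, rfl⟩ := WittVector.truncate_surjective p 2 R y
  rw [← map_mul]
  simp only [WittVector.coeff_truncate]
  exact WittVector.mul_coeff_zero X Y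

theorem t_mul_coeff_one (x y : TruncatedWittVector p 2 R) :
    (x * y).coeff 1 = (p : R) * x.coeff 1 * y.coeff 1 + x.coeff 1 * y.coeff 0 ^ p
      + x.coeff 0 ^ p * y.coeff 1 := by
  obtain ⟨X, rfl⟩ := WittVector.truncate_surjective p 2 R x
  obtain ⟨Y, rfl⟩ := WittVector.truncate_surjective p 2 R y
  rw [← map_mul]
  simp only [WittVector.coeff_truncate]
  exact mul_coeff_one X Y

theorem t_one_coeff_zero : (1 : TruncatedWittVector p 2 R).coeff 0 = 1 := by
  rw [← map_one (WittVector.truncate (p := p) (R := R) 2), WittVector.coeff_truncate]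
  exact WittVector.one_coeff_zero p R

theorem t_one_coeff_one : (1 : TruncatedWittVector p 2 R).coeff 1 = 0 := by
  rw [← map_one (WittVector.truncate (p := p) (R := R) 2), WittVector.coeff_truncate]
  exact WittVector.one_coeff_eq_of_pos p R 1 one_pos

theorem t_zero_coeff (i : Fin 2) : (0 : TruncatedWittVector p 2 R).coeff i = 0 :=
  TruncatedWittVector.coeff_zero p 2 R i

omit hp in
theorem Q_zero_right (x : R) : Q p x 0 = 0 := by simp [Q]

omit hp in
theorem Q_zero_left (y : R) : Q p 0 y = 0 := by simp [Q]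

theorem t_pow_coeff_zero (x : TruncatedWittVector p 2 R) (n : ℕ) :
    (x ^ n).coeff 0 = x.coeff 0 ^ n := by
  induction n with
  | zero => rw [pow_zero, pow_zero, t_one_coeff_zero]
  | succ n ih => rw [pow_succ, pow_succ, t_mul_coeff_zero, ih]

section CharP

variable (hpR : (p : R) = 0)
include hpR

theorem t_mul_coeff_one_charP (x y : TruncatedWittVector p 2 R) :
    (x * y).coeff 1 = x.coeff 1 * y.coeff 0 ^ p + x.coeff 0 ^ p * y.coeff 1 := by
  rw [t_mul_coeff_one, hpR]
  ring

theorem t_pow_succ_coeff_one (x : TruncatedWittVector p 2 R) (n : ℕ) :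
    (x ^ (n + 1)).coeff 1 = ((n + 1 : ℕ) : R) * x.coeff 0 ^ (p * n) * x.coeff 1 := by
  induction n with
  | zero => simp
  | succ n ih =>
    rw [pow_succ, t_mul_coeff_one_charP hpR, ih, t_pow_coeff_zero]
    push_cast
    ring

theorem t_pow_p_coeff_one (x : TruncatedWittVector p 2 R) : (x ^ p).coeff 1 = 0 := by
  obtain ⟨m, hm⟩ : ∃ m, p = m + 1 := ⟨p - 1, (Nat.sub_add_cancel hp.out.one_le).symm⟩
  have h := t_pow_succ_coeff_one hpR x m
  rw [← hm, hpR, zero_mul, zero_mul] at h
  exact h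

end CharP

theorem t_p_coeff_zero [CharP R p] : ((p : ℕ) : TruncatedWittVector p 2 R).coeff 0 = 0 := by
  rw [← map_natCast (WittVector.truncate (p := p) (R := R) 2), WittVector.coeff_truncate]
  exact WittVector.coeff_p_zero p R

theorem t_p_coeff_one [CharP R p] : ((p : ℕ) : TruncatedWittVector p 2 R).coeff 1 = 1 := by
  rw [← map_natCast (WittVector.truncate (p := p) (R := R) 2), WittVector.coeff_truncate]
  exact WittVector.coeff_p_one p R

/-- In `W₂(k)`: `σ(w) = w^p + p·s` with `s₀ = w₁`. -/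
theorem sigma_eq (k : Type u) [CommRing k] [CharP k p] (w : FrobAlg.W2 p k) :
    FrobAlg.sigma p k w = w ^ p + ((p : ℕ) : FrobAlg.W2 p k) *
      TruncatedWittVector.mk p ![w.coeff 1, 0] := by
  have hpk : ((p : ℕ) : k) = 0 := CharP.cast_eq_zero k p
  apply t_ext
  · rw [WittGrp.coeff_frob, t_add_coeff_zero, t_mul_coeff_zero, t_p_coeff_zero, zero_mul,
      add_zero, t_pow_coeff_zero]
  · rw [WittGrp.coeff_frob, t_add_coeff_one, t_mul_coeff_zero, t_p_coeff_zero, zero_mul,
      Q_zero_right, t_pow_p_coeff_one hpk, t_mul_coeff_one_charP hpk, t_p_coeff_one,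
      t_p_coeff_zero, TruncatedWittVector.coeff_mk, TruncatedWittVector.coeff_mk]
    simp [hp.out.ne_zero]

end Groth.Agent.Lib.Helper5.W2Coeff
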