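import Mathlib
import Groth.Prelude.Def_W4c1liftfrobW2
import Groth.Agent.Lib.Helper5W2Coeff

/-!
# Frobenius lifts of polynomial rings over `W₂(k)` (helper5)

`Fu u` is the lift `x_j ↦ x_j^p + p·u_j` of Frobenius to `W₂(k)[x_1..x_n]`; it equals the standard
lift plus `p·Σ (∂_j g)^p u_j` (Taylor expansion modulo `p²`).  Descent of `Fu u` to a quotient and
the converse (every Frobenius lift of a quotient comes from some `Fu u`).
-/

set_option autoImplicit false
universe u

namespace Groth.Agent.Lib.Helper5.FrobPoly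

open Groth.Agent.Lib.Helper5.W2Lift Groth.Agent.Lib.Helper5 MvPolynomial

variable {p : ℕ} [Fact p.Prime] {k : Type u} [Field k] [CharP k p] [PerfectRing k p] {n : ℕ}

local notation "R'" => MvPolynomial (Fin n) (FrobAlg.W2 p k)
local notation "ρ" => (MvPolynomial.map (FrobAlg.res p k) :
  MvPolynomial (Fin n) (FrobAlg.W2 p k) →+* MvPolynomial (Fin n) k)

theorem ker_rho : RingHom.ker ρ = Ideal.span {((p : ℕ) : R')} := by
  rw [MvPolynomial.ker_map, ker_res, Ideal.map_span, Set.image_singleton, map_natCast]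

theorem p_mul_p' : ((p : ℕ) : R') * ((p : ℕ) : R') = 0 := by
  have := congrArg (C : FrobAlg.W2 p k →+* R') (W2.p_sq_eq_zero p k)
  rwa [map_mul, map_natCast, map_zero] at this

omit [CharP k p] [PerfectRing k p] in
theorem rho_surjective : Function.Surjective ρ :=
  MvPolynomial.map_surjective _ (fun a => ⟨TruncatedWittVector.mk p ![a, 0], by
    rw [FrobAlg.res_apply, TruncatedWittVector.coeff_mk]; rfl⟩)

theorem exists_eq_p_mul_of_rho_eq_zero {a : R'} (h : ρ a = 0) : ∃ c : R', a = ((p : ℕ) : R') * c := by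
  have : a ∈ RingHom.ker ρ := h
  rw [ker_rho, Ideal.mem_span_singleton'] at this
  obtain ⟨c, hc⟩ := this
  exact ⟨c, by rw [← hc, mul_comm]⟩

omit [PerfectRing k p] in
theorem rho_p : ρ ((p : ℕ) : R') = 0 := by
  rw [map_natCast, CharP.cast_eq_zero]

theorem p_mul_eq_of_rho_eq {a b : R'} (h : ρ a = ρ b) :
    ((p : ℕ) : R') * a = ((p : ℕ) : R') * b := by
  have h1 : ρ (a - b) = 0 := by rw [map_sub, h, sub_self]
  obtain ⟨c, hc⟩ := exists_eq_p_mul_of_rho_eq_zero h1
  have : ((p : ℕ) : R') * (a - b) = 0 := by rw [hc, ← mul_assoc, p_mul_p', zero_mul]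
  rw [mul_sub, sub_eq_zero] at this
  exact this

/-- The Frobenius lift `x_j ↦ x_j^p + p u_j`. -/
noncomputable def Fu (u : Fin n → R') : R' →+* R' :=
  eval₂Hom (C.comp (FrobAlg.sigma p k)) (fun j => X j ^ p + ((p : ℕ) : R') * u j)

omit [PerfectRing k p] in
theorem Fu_C (u : Fin n → R') (w : FrobAlg.W2 p k) : Fu u (C w) = C (FrobAlg.sigma p k w) := by
  unfold Fu
  rw [coe_eval₂Hom, eval₂_C]
  rfl

omit [PerfectRing k p] in
theorem Fu_X (u : Fin n → R') (j : Fin n) : Fu u (X j) = X j ^ p + ((p : ℕ) : R') * u j := by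
  unfold Fu
  rw [coe_eval₂Hom, eval₂_X]

omit [PerfectRing k p] in
theorem polyFrob_eq : FrobAlg.polyFrob p k (Fin n) = Fu (0 : Fin n → R') := by
  unfold FrobAlg.polyFrob Fu
  congr 1
  funext j
  rw [Pi.zero_apply, mul_zero, add_zero]

omit [PerfectRing k p] in
theorem rho_Fu (u : Fin n → R') (g : R') : ρ (Fu u g) = (ρ g) ^ p := by
  have : (RingHom.comp ρ (Fu u)) = (frobenius (MvPolynomial (Fin n) k) p).comp ρ := by
    apply MvPolynomial.ringHom_ext
    · intro w
      rw [RingHom.comp_apply, RingHom.comp_apply, Fu_C, map_C, map_C, frobenius_def, ← map_pow,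
        FrobAlg.res_apply, FrobAlg.res_apply, WittGrp.coeff_frob]
    · intro j
      rw [RingHom.comp_apply, RingHom.comp_apply, Fu_X, map_add, map_mul, map_pow, map_X,
        frobenius_def, map_natCast, CharP.cast_eq_zero, zero_mul, add_zero]
  exact RingHom.congr_fun this g

theorem p_mul_Fu (u : Fin n → R') (g : R') :
    ((p : ℕ) : R') * Fu u g = ((p : ℕ) : R') * g ^ p :=
  p_mul_eq_of_rho_eq (by rw [rho_Fu, map_pow])

theorem p_mul_add_pow (a b : R') :
    ((p : ℕ) : R') * (a + b) ^ p = ((p : ℕ) : R') * (a ^ p + b ^ p) := by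
  rw [add_pow_eq, mul_add, ← mul_assoc, p_mul_p', zero_mul, add_zero]

/-- Taylor expansion modulo `p²`. -/
theorem Fu_eq (u : Fin n → R') (g : R') :
    Fu u g = FrobAlg.polyFrob p k (Fin n) g +
      ((p : ℕ) : R') * ∑ j, pderiv j g ^ p * u j := by
  rw [polyFrob_eq]
  have hp0 : p ≠ 0 := (Fact.out : p.Prime).ne_zero
  induction g using MvPolynomial.induction_on with
  | C w =>
    rw [Fu_C, Fu_C]
    simp [zero_pow hp0]
  | add a b ha hb =>
    rw [map_add, map_add, ha, hb]
    have : ((p : ℕ) : R') * ∑ j, pderiv j (a + b) ^ p * u j =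
        ((p : ℕ) : R') * ∑ j, pderiv j a ^ p * u j +
        ((p : ℕ) : R') * ∑ j, pderiv j b ^ p * u j := by
      rw [Finset.mul_sum, Finset.mul_sum, Finset.mul_sum, ← Finset.sum_add_distrib]
      refine Finset.sum_congr rfl fun j _ => ?_
      rw [map_add, ← mul_assoc, p_mul_add_pow]
      ring
    rw [this]
    ring
  | mul_X g j hg =>
    rw [map_mul, map_mul, hg, Fu_X, Fu_X, Pi.zero_apply, mul_zero, add_zero]
    have e1 : ((p : ℕ) : R') * Fu 0 g = ((p : ℕ) : R') * g ^ p := p_mul_Fu 0 g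
    have hterm : ∀ i, ((p : ℕ) : R') * (pderiv i (g * X j) ^ p * u i) =
        ((p : ℕ) : R') * (pderiv i g ^ p * u i) * X j ^ p +
          (if i = j then ((p : ℕ) : R') * g ^ p * u j else 0) := by
      intro i
      by_cases hij : i = j
      · subst hij
        rw [if_pos rfl, pderiv_mul, pderiv_X_self, mul_one, ← mul_assoc, p_mul_add_pow]
        ring
      · rw [if_neg hij, pderiv_mul, pderiv_X_of_ne (fun h => hij h.symm), mul_zero, add_zero]
        ring
    have e2 : ((p : ℕ) : R') * ∑ i, pderiv i (g * X j) ^ p * u i =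
        ((p : ℕ) : R') * (∑ i, pderiv i g ^ p * u i) * X j ^ p +
          ((p : ℕ) : R') * g ^ p * u j := by
      rw [Finset.mul_sum]
      simp_rw [hterm]
      rw [Finset.sum_add_distrib, Finset.sum_ite_eq' Finset.univ j, if_pos (Finset.mem_univ j),
        Finset.mul_sum, Finset.sum_mul]
    rw [e2]
    linear_combination (u j) * e1 + ((∑ i, pderiv i g ^ p * u i) * u j) * (p_mul_p' (p := p) (k := k) (n := n))

/-- If the residues of the generators of `J'` satisfy the congruence for `h`, then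
`x_j ↦ x_j^p - p h_j` preserves `J'`. -/
theorem Fu_mem (S : Set R') (h : Fin n → R')
    (hh : ∀ g ∈ S, FrobAlg.polyFrob p k (Fin n) g - g ^ p
      - ((p : ℕ) : R') * ∑ j, pderiv j g ^ p * h j ∈ Ideal.span S) :
    Ideal.span S ≤ (Ideal.span S).comap (Fu (fun j => -h j)) := by
  rw [Ideal.span_le]
  intro g hg
  change Fu (fun j => -h j) g ∈ Ideal.span S
  rw [Fu_eq]
  have h1 := hh g hg
  have h2 : g ^ p ∈ Ideal.span S :=
    Ideal.pow_mem_of_mem _ (Ideal.subset_span hg) p (Fact.out : p.Prime).pos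
  have := Ideal.add_mem _ h1 h2
  convert this using 1
  simp only [mul_neg, Finset.sum_neg_distrib]
  ring

/-- Every Frobenius lift of a quotient of the polynomial ring is induced by some `Fu u`, and the
generators of the kernel then satisfy the congruence modulo `p · ker`. -/
theorem exists_h_of_frobLift {A B : Type u} [CommRing A] [Algebra k A] [CommRing B]
    {ι : FrobAlg.W2 p k →+* B} {π : B →+* A} (Φ : B →+* B)
    (hΦ : FrobAlg.IsFrobLift p k A B ι π Φ) (ψ : R' →+* B) (hψ : Function.Surjective ψ)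
    (hψC : ψ.comp C = ι) :
    ∃ h : Fin n → R', ∀ g ∈ RingHom.ker ψ, ∃ t ∈ RingHom.ker ψ,
      FrobAlg.polyFrob p k (Fin n) g - g ^ p - ((p : ℕ) : R') * ∑ j, pderiv j g ^ p * h j =
        ((p : ℕ) : R') * t := by
  have hB : FrobAlg.IsLift p k A B ι π := hΦ.toIsLift
  have hp0 : p ≠ 0 := (Fact.out : p.Prime).ne_zero
  have hex : ∀ j : Fin n, ∃ uj : R', Φ (ψ (X j)) = ψ (X j) ^ p + ((p : ℕ) : B) * ψ uj := by
    intro j
    have h1 : π (Φ (ψ (X j)) - ψ (X j) ^ p) = 0 := by
      rw [map_sub, map_pow, hΦ.red, sub_self]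
    obtain ⟨y, hy⟩ := exists_eq_p_mul hB h1
    obtain ⟨uj, rfl⟩ := hψ y
    exact ⟨uj, by rw [← hy]; ring⟩
  choose u hu using hex
  have hcomm : ψ.comp (Fu u) = Φ.comp ψ := by
    apply MvPolynomial.ringHom_ext
    · intro w
      rw [RingHom.comp_apply, RingHom.comp_apply, Fu_C]
      have e1 : ∀ w, ψ (C w) = ι w := fun w => RingHom.congr_fun hψC w
      rw [e1, e1]
      exact (RingHom.congr_fun hΦ.semi w).symm
    · intro j
      rw [RingHom.comp_apply, RingHom.comp_apply, Fu_X, hu, map_add, map_mul, map_pow,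
        map_natCast]
  refine ⟨fun j => -u j, ?_⟩
  intro g hg
  have hT : FrobAlg.polyFrob p k (Fin n) g - g ^ p
      - ((p : ℕ) : R') * ∑ j, pderiv j g ^ p * (-u j) = Fu u g - g ^ p := by
    rw [Fu_eq]
    simp only [mul_neg, Finset.sum_neg_distrib]
    ring
  rw [hT]
  have hψT : ψ (Fu u g - g ^ p) = 0 := by
    have e : ψ (Fu u g) = Φ (ψ g) := RingHom.congr_fun hcomm g
    have hg' : ψ g = 0 := hg
    rw [map_sub, e, map_pow, hg', map_zero, zero_pow hp0, sub_zero]
  have hρT : ρ (Fu u g - g ^ p) = 0 := by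
    rw [map_sub, rho_Fu, map_pow, sub_self]
  obtain ⟨s, hs⟩ := exists_eq_p_mul_of_rho_eq_zero hρT
  have h2 : ((p : ℕ) : B) * ψ s = 0 := by
    rw [← map_natCast ψ, ← map_mul, ← hs, hψT]
  obtain ⟨y, hy⟩ := exists_eq_p_mul hB (pi_eq_zero_of_p_mul hB h2)
  obtain ⟨s', rfl⟩ := hψ y
  refine ⟨s - ((p : ℕ) : R') * s', ?_, ?_⟩
  · rw [RingHom.mem_ker, map_sub, map_mul, map_natCast, hy, sub_self]
  · rw [hs, mul_sub, ← mul_assoc, p_mul_p', zero_mul, sub_zero]

/-- A flat quotient of `W₂(k)[x]` is a lifting of its reduction. -/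
theorem isLift_quotient (J' : Ideal R') (hflat : ((Ideal.Quotient.mk J').comp C).Flat) :
    FrobAlg.IsLift p k (MvPolynomial (Fin n) k ⧸ J'.map ρ) (R' ⧸ J')
      ((Ideal.Quotient.mk J').comp C)
      (Ideal.quotientMap (J'.map ρ) ρ Ideal.le_comap_map) := by
  refine ⟨hflat, Ideal.quotientMap_surjective rho_surjective, ?_, ?_⟩
  · rw [ker_res, Ideal.map_span, Set.image_singleton, map_natCast]
    ext x
    obtain ⟨g, rfl⟩ := Ideal.Quotient.mk_surjective x
    rw [RingHom.mem_ker, Ideal.quotientMap_mk, Ideal.Quotient.eq_zero_iff_mem]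
    constructor
    · intro hg
      obtain ⟨g', hg', hgg'⟩ := (Ideal.mem_map_iff_of_surjective ρ rho_surjective).mp hg
      have h1 : ρ (g - g') = 0 := by rw [map_sub, hgg', sub_self]
      obtain ⟨c, hc⟩ := exists_eq_p_mul_of_rho_eq_zero h1
      have h2 : Ideal.Quotient.mk J' g = Ideal.Quotient.mk J' (g - g') := by
        rw [map_sub, Ideal.Quotient.eq_zero_iff_mem.mpr hg', sub_zero]
      rw [h2, hc, map_mul, map_natCast]
      exact Ideal.mul_mem_right _ _ (Ideal.subset_span rfl)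
    · intro hg
      rw [Ideal.mem_span_singleton'] at hg
      obtain ⟨c, hc⟩ := hg
      obtain ⟨c, rfl⟩ := Ideal.Quotient.mk_surjective c
      rw [← map_natCast (Ideal.Quotient.mk J'), ← map_mul, Ideal.Quotient.eq] at hc
      have h3 : ρ g = ρ (g - c * ((p : ℕ) : R')) := by
        rw [map_sub, map_mul, rho_p, mul_zero, sub_zero]
      rw [h3]
      apply Ideal.mem_map_of_mem
      have := J'.neg_mem hc
      rwa [neg_sub] at this
  · refine RingHom.ext fun w => ?_
    rw [RingHom.comp_apply, RingHom.comp_apply, RingHom.comp_apply, Ideal.quotientMap_mk, map_C]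
    rfl

end Groth.Agent.Lib.Helper5.FrobPoly
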