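import Mathlib
import Groth.Prelude.Def_W4c1liftfrobW2
import Groth.Agent.Lib.Helper5FrobPoly
import Groth.Agent.Lib.Helper5ArtRegSeq

/-!
# Frobenius liftability of complete intersections over `W₂(k)` (helper5)
-/

set_option autoImplicit false
universe u

namespace Groth.Agent.Lib.Helper5.FrobPoly

open Groth.Agent.Lib.Helper5.W2Lift Groth.Agent.Lib.Helper5 MvPolynomial

variable {p : ℕ} [Fact p.Prime] {k : Type u} [Field k] [CharP k p] [PerfectRing k p] {n : ℕ}

local notation "R'" => MvPolynomial (Fin n) (FrobAlg.W2 p k)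
local notation "ρ" => (MvPolynomial.map (FrobAlg.res p k) :
  MvPolynomial (Fin n) (FrobAlg.W2 p k) →+* MvPolynomial (Fin n) k)

/-- Lifts of a regular sequence cut out a flat `W₂(k)`-algebra. -/
theorem flat_of_isRegular {m : ℕ} (f' : Fin m → R')
    (hreg : RingTheory.Sequence.IsRegular (MvPolynomial (Fin n) k)
      (List.ofFn fun i => ρ (f' i))) :
    ((Ideal.Quotient.mk (Ideal.span (Set.range f'))).comp
      (C : FrobAlg.W2 p k →+* R')).Flat := by
  have : IsLocalRing (FrobAlg.W2 p k) := W2.isLocalRing p k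
  have hmax : IsLocalRing.maximalIdeal (FrobAlg.W2 p k) =
      Ideal.span {((p : ℕ) : FrobAlg.W2 p k)} := W2.maximalIdeal_eq p k
  have hn : IsLocalRing.maximalIdeal (FrobAlg.W2 p k) ^ 2 = ⊥ := by
    rw [hmax, Ideal.span_singleton_pow, pow_two, W2.p_sq_eq_zero, Ideal.span_singleton_eq_bot]
  have hI : (IsLocalRing.maximalIdeal (FrobAlg.W2 p k)).map (algebraMap (FrobAlg.W2 p k) R') =
      RingHom.ker ρ := by
    rw [hmax, Ideal.map_span, Set.image_singleton, map_natCast, ker_rho]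
  let e : (R' ⧸ (IsLocalRing.maximalIdeal (FrobAlg.W2 p k)).map
      (algebraMap (FrobAlg.W2 p k) R')) ≃+* MvPolynomial (Fin n) k :=
    (Ideal.quotEquivOfEq hI).trans (RingHom.quotientKerEquivOfSurjective rho_surjective)
  have he : ∀ g : R', e (Ideal.Quotient.mk _ g) = ρ g := fun g => rfl
  have h1 : RingTheory.Sequence.IsRegular R' (List.ofFn f') := by
    rw [isRegular_ofFn_iff_isRegular_quotient_ring 2 hn
      (IsLocalRing.maximalIdeal (FrobAlg.W2 p k))
      (IsLocalRing.maximalIdeal.isMaximal _).ne_top f']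
    have h2 : RingTheory.Sequence.IsRegular
        (R' ⧸ (IsLocalRing.maximalIdeal (FrobAlg.W2 p k)).map (algebraMap (FrobAlg.W2 p k) R'))
        (List.ofFn fun i => Ideal.Quotient.mk ((IsLocalRing.maximalIdeal (FrobAlg.W2 p k)).map
          (algebraMap (FrobAlg.W2 p k) R')) (f' i)) ↔
        RingTheory.Sequence.IsRegular (MvPolynomial (Fin n) k)
          ((List.ofFn fun i => Ideal.Quotient.mk ((IsLocalRing.maximalIdeal
            (FrobAlg.W2 p k)).map (algebraMap (FrobAlg.W2 p k) R')) (f' i)).map e) :=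
      e.toAddEquiv.isRegular_congr (List.forall₂_map_right_iff.mpr (List.forall₂_same.mpr
        fun r _ x => show e (r • x) = e r • e x from map_mul e r x))
    rw [h2, List.map_ofFn]
    exact hreg
  have h3 := flat_quotient_span_range_of_isWeaklyRegular (A := FrobAlg.W2 p k) 2 hn f'
    h1.toIsWeaklyRegular
  exact RingHom.flat_algebraMap_iff.mpr h3

/-- A quotient of `W₂(k)[x]` by generators satisfying the congruence is a Frobenius lifting. -/
theorem isFLiftable_quotient (J : Ideal (MvPolynomial (Fin n) k)) (S : Set R')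
    (hJ : (Ideal.span S).map ρ = J)
    (hflat : ((Ideal.Quotient.mk (Ideal.span S)).comp (C : FrobAlg.W2 p k →+* R')).Flat)
    (h : Fin n → R')
    (hh : ∀ g ∈ S, FrobAlg.polyFrob p k (Fin n) g - g ^ p
      - ((p : ℕ) : R') * ∑ j, pderiv j g ^ p * h j ∈ Ideal.span S) :
    FrobAlg.IsFLiftable p k (MvPolynomial (Fin n) k ⧸ J) := by
  subst hJ
  refine ⟨R' ⧸ Ideal.span S, inferInstance, (Ideal.Quotient.mk (Ideal.span S)).comp C,
    Ideal.quotientMap ((Ideal.span S).map ρ) ρ Ideal.le_comap_map,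
    Ideal.quotientMap (Ideal.span S) (Fu fun j => -h j) (Fu_mem S h hh),
    ⟨isLift_quotient _ hflat, ?_, ?_⟩⟩
  · refine RingHom.ext fun w => ?_
    simp only [RingHom.comp_apply, Ideal.quotientMap_mk, Fu_C]
  · intro b
    obtain ⟨g, rfl⟩ := Ideal.Quotient.mk_surjective b
    rw [Ideal.quotientMap_mk, Ideal.quotientMap_mk, Ideal.quotientMap_mk, rho_Fu, map_pow]

/-- A Frobenius lifting of `k[x]/(f)` is presented by lifts of the `f_i` satisfying the
congruence. -/
theorem exists_congruence_of_isFLiftable {m : ℕ} (f : Fin m → MvPolynomial (Fin n) k)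
    (hF : FrobAlg.IsFLiftable p k (MvPolynomial (Fin n) k ⧸ Ideal.span (Set.range f))) :
    ∃ (f' : Fin m → R') (h : Fin n → R'), (∀ i, ρ (f' i) = f i) ∧
      ∀ i, FrobAlg.polyFrob p k (Fin n) (f' i) - f' i ^ p
        - ((p : ℕ) : R') * ∑ j, pderiv j (f' i) ^ p * h j
        ∈ Ideal.span {((p : ℕ) : R')} * Ideal.span (Set.range f') := by
  obtain ⟨B, _, ι, π, Φ, hΦ⟩ := hF
  have hB : FrobAlg.IsLift p k _ B ι π := hΦ.toIsLift
  -- the presentation
  choose b hb using fun j : Fin n => hB.surj (Ideal.Quotient.mk (Ideal.span (Set.range f)) (X j))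
  obtain ⟨ψ, hψdef⟩ : ∃ ψ : R' →+* B, ψ = eval₂Hom ι b := ⟨_, rfl⟩
  have hψC : ψ.comp C = ι := by
    refine RingHom.ext fun w => ?_
    rw [hψdef, RingHom.comp_apply, coe_eval₂Hom, eval₂_C]
  have hψX : ∀ j, ψ (X j) = b j := by
    intro j
    rw [hψdef, coe_eval₂Hom, eval₂_X]
  have hπψ : π.comp ψ = (Ideal.Quotient.mk (Ideal.span (Set.range f))).comp ρ := by
    apply MvPolynomial.ringHom_ext
    · intro w
      have e1 : ψ (C w) = ι w := RingHom.congr_fun hψC w
      rw [RingHom.comp_apply, RingHom.comp_apply, e1, map_C]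
      exact RingHom.congr_fun hB.comm w
    · intro j
      rw [RingHom.comp_apply, RingHom.comp_apply, hψX, hb, map_X]
  have hπψ' : ∀ g, π (ψ g) = Ideal.Quotient.mk (Ideal.span (Set.range f)) (ρ g) :=
    fun g => RingHom.congr_fun hπψ g
  -- approximate surjectivity
  have happrox : ∀ y : B, ∃ g : R', ∃ y' : B, y = ψ g + ((p : ℕ) : B) * y' := by
    intro y
    obtain ⟨g0, hg0⟩ := Ideal.Quotient.mk_surjective (π y)
    obtain ⟨g, rfl⟩ := rho_surjective (p := p) (k := k) (n := n) g0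
    have h1 : π (y - ψ g) = 0 := by rw [map_sub, hπψ', hg0, sub_self]
    obtain ⟨y', hy'⟩ := exists_eq_p_mul hB h1
    exact ⟨g, y', by rw [← hy']; ring⟩
  have hψ : Function.Surjective ψ := by
    intro y
    obtain ⟨g, y', rfl⟩ := happrox y
    obtain ⟨g', y'', rfl⟩ := happrox y'
    refine ⟨g + ((p : ℕ) : R') * g', ?_⟩
    rw [map_add, map_mul, map_natCast, mul_add, ← mul_assoc, p_mul_p hB, zero_mul, add_zero]
  -- the lifted equations
  have hex : ∀ i : Fin m, ∃ fi : R', ρ fi = f i ∧ ψ fi = 0 := by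
    intro i
    obtain ⟨ft, hft⟩ := rho_surjective (p := p) (k := k) (n := n) (f i)
    have h1 : π (ψ ft) = 0 := by
      rw [hπψ', hft, Ideal.Quotient.eq_zero_iff_mem]
      exact Ideal.subset_span ⟨i, rfl⟩
    obtain ⟨y, hy⟩ := exists_eq_p_mul hB h1
    obtain ⟨g, rfl⟩ := hψ y
    refine ⟨ft - ((p : ℕ) : R') * g, ?_, ?_⟩
    · rw [map_sub, map_mul, rho_p, zero_mul, sub_zero, hft]
    · rw [map_sub, map_mul, map_natCast, hy, sub_self]
  choose f' hf'ρ hf'ψ using hex
  have hle : Ideal.span (Set.range f') ≤ RingHom.ker ψ := by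
    rw [Ideal.span_le]
    rintro _ ⟨i, rfl⟩
    exact hf'ψ i
  have hmapJ : (Ideal.span (Set.range f')).map ρ = Ideal.span (Set.range f) := by
    rw [Ideal.map_span, ← Set.range_comp]
    congr 2
    funext i
    exact hf'ρ i
  -- one step of the approximation of the kernel
  have hstep : ∀ t ∈ RingHom.ker ψ, ∃ t' ∈ Ideal.span (Set.range f'), ∃ s ∈ RingHom.ker ψ,
      t = t' + ((p : ℕ) : R') * s := by
    intro t ht
    have h1 : ρ t ∈ (Ideal.span (Set.range f')).map ρ := by
      rw [hmapJ, ← Ideal.Quotient.eq_zero_iff_mem, ← hπψ']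
      rw [RingHom.mem_ker] at ht
      rw [ht, map_zero]
    obtain ⟨t', ht', htt'⟩ := (Ideal.mem_map_iff_of_surjective ρ rho_surjective).mp h1
    have h2 : ρ (t - t') = 0 := by rw [map_sub, htt', sub_self]
    obtain ⟨s, hs⟩ := exists_eq_p_mul_of_rho_eq_zero h2
    have h3 : ((p : ℕ) : B) * ψ s = 0 := by
      rw [← map_natCast ψ, ← map_mul, ← hs, map_sub]
      rw [RingHom.mem_ker] at ht
      rw [ht, hle ht', sub_zero]
    obtain ⟨y, hy⟩ := exists_eq_p_mul hB (pi_eq_zero_of_p_mul hB h3)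
    obtain ⟨s', rfl⟩ := hψ y
    refine ⟨t', ht', s - ((p : ℕ) : R') * s', ?_, ?_⟩
    · rw [RingHom.mem_ker, map_sub, map_mul, map_natCast, hy, sub_self]
    · rw [mul_sub, ← mul_assoc, p_mul_p', zero_mul, sub_zero, ← hs]
      ring
  have hker : RingHom.ker ψ = Ideal.span (Set.range f') := by
    apply le_antisymm _ hle
    intro t ht
    obtain ⟨t', ht', s, hs, rfl⟩ := hstep t ht
    obtain ⟨s', hs', s'', _, rfl⟩ := hstep s hs
    rw [mul_add, ← mul_assoc, p_mul_p', zero_mul, add_zero]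
    exact Ideal.add_mem _ ht' (Ideal.mul_mem_left _ _ hs')
  obtain ⟨h, hh⟩ := exists_h_of_frobLift Φ hΦ ψ hψ hψC
  refine ⟨f', h, hf'ρ, fun i => ?_⟩
  obtain ⟨t, ht, he⟩ := hh (f' i) (hf'ψ i)
  rw [he]
  rw [hker] at ht
  exact Ideal.mul_mem_mul (Ideal.mem_span_singleton_self _) ht

end Groth.Agent.Lib.Helper5.FrobPoly
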