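import Mathlib
import Groth.Prelude.Def_StCurv2
import Groth.Agent.Lib.Helper3FibDimBC

/-!
# Geometric fibres of a family of schemes seen as a family of sheaves (helper5)

* `geomFib_iff`: for a family of schemes `A₀`, the predicate `CurvSt.GeomFib` of the associated
  family of sheaves (for a property not depending on the marked points) is the corresponding
  statement about cartesian squares of schemes.
* `geomReduced_iff_algClosed`, `geomConnected_iff_algClosed`: geometric reducedness/connectedness
  over a field can be tested on algebraically closed fields.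
-/

set_option autoImplicit false
set_option linter.style.haveILetI false
universe u

open CategoryTheory CategoryTheory.Limits AlgebraicGeometry

namespace Groth.Agent.Lib.Helper5.GeomFibA

theorem geomFib_iff {S : Scheme.{u}} {n : ℕ} (A₀ : CurvSt.PtFamObj S n)
    (P : ∀ (Ω : Type u) [Field Ω] [IsAlgClosed Ω] (X' : Scheme.{u}),
      (X' ⟶ Spec (CommRingCat.of Ω)) → Prop) :
    CurvSt.GeomFib (fun Ω _ _ X' q _ => P Ω X' q) ((CurvSt.toSpFam S n).obj A₀) ↔
      ∀ (Ω : Type u) [Field Ω] [IsAlgClosed Ω] (t : Spec (CommRingCat.of Ω) ⟶ A₀.base.left)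
        (X' : Scheme.{u}) (i₀ : X' ⟶ A₀.C) (q : X' ⟶ Spec (CommRingCat.of Ω)),
        IsPullback i₀ q A₀.f t → P Ω X' q := by
  constructor
  · intro H Ω _ _ t X' i₀ q hpb
    let A := (CurvSt.toSpFam S n).obj A₀
    let i' : A.ptOver (q ≫ t) ⟶ A₀.totOver := Over.homMk i₀ (by
      dsimp only [CurvSt.PtFamObj.totOver, Over.mk_hom]
      rw [reassoc_of% hpb.w]
      rfl)
    have hw : i' ≫ A₀.fOver = A.fibHom t q ≫ A.ptHom t := Over.OverMorphism.ext hpb.w
    have hP₀ : IsPullback i' (A.fibHom t q) A₀.fOver (A.ptHom t) :=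
      IsPullback.of_map (Over.forget S) hw hpb
    exact H Ω t X' q ((AlgSp.yon S).map i') (hP₀.map (AlgSp.yon S))
  · intro H Ω _ _ t X' q i hP
    let A := (CurvSt.toSpFam S n).obj A₀
    let i' : A.ptOver (q ≫ t) ⟶ A₀.totOver := (AlgSp.yon S).preimage i
    have hi' : (AlgSp.yon S).map i' = i := (AlgSp.yon S).map_preimage i
    have hP' : IsPullback ((AlgSp.yon S).map i') ((AlgSp.yon S).map (A.fibHom t q))
        ((AlgSp.yon S).map A₀.fOver) ((AlgSp.yon S).map (A.ptHom t)) := by
      rw [hi']
      exact hP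
    have hw : i' ≫ A₀.fOver = A.fibHom t q ≫ A.ptHom t := by
      apply (AlgSp.yon S).map_injective
      calc (AlgSp.yon S).map (i' ≫ A₀.fOver)
          = (AlgSp.yon S).map i' ≫ (AlgSp.yon S).map A₀.fOver := Functor.map_comp _ _ _
        _ = (AlgSp.yon S).map (A.fibHom t q) ≫ (AlgSp.yon S).map (A.ptHom t) := hP'.w
        _ = (AlgSp.yon S).map (A.fibHom t q ≫ A.ptHom t) := (Functor.map_comp _ _ _).symm
    have hP₀ : IsPullback i' (A.fibHom t q) A₀.fOver (A.ptHom t) :=
      IsPullback.of_map (AlgSp.yon S) hw hP'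
    have hP₁ := hP₀.map (Over.forget S)
    exact H Ω t X' i'.left q hP₁

section Field

variable {k : Type u} [Field k] {X : Scheme.{u}} (p : X ⟶ Spec (CommRingCat.of k))

theorem surjective_spec_field (K Ω : Type u) [Field K] [Field Ω] (φ : K →+* Ω) :
    Surjective (Spec.map (CommRingCat.ofHom φ)) := by
  constructor
  intro x
  refine ⟨IsLocalRing.closedPoint Ω, ?_⟩
  exact Subsingleton.elim (α := PrimeSpectrum K) _ _

theorem geomReduced_iff_algClosed :
    GeometricallyReduced p ↔
      ∀ (Ω : Type u) [Field Ω] [IsAlgClosed Ω] (t : Spec (CommRingCat.of Ω) ⟶ Spec (CommRingCat.of k))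
        (X' : Scheme.{u}) (i₀ : X' ⟶ X) (q : X' ⟶ Spec (CommRingCat.of Ω)),
        IsPullback i₀ q p t → IsReduced X' := by
  constructor
  · intro h Ω _ _ t X' i₀ q hpb
    exact h.geometrically_isReduced t i₀ q hpb
  · intro H
    constructor
    intro K _ y Z fst snd h
    let Ω := AlgebraicClosure K
    let j : Spec (CommRingCat.of Ω) ⟶ Spec (CommRingCat.of K) :=
      Spec.map (CommRingCat.ofHom (algebraMap K Ω))
    have hbig : IsPullback (pullback.fst snd j ≫ fst) (pullback.snd snd j) p (j ≫ y) :=
      (IsPullback.of_hasPullback snd j).paste_horiz h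
    haveI : IsReduced (pullback snd j) := H Ω (j ≫ y) _ _ _ hbig
    haveI : Surjective j := surjective_spec_field K Ω _
    haveI : IsIntegral (Spec (CommRingCat.of K)) := inferInstance
    haveI : Subsingleton ↥(Spec (CommRingCat.of K)) :=
      inferInstanceAs (Subsingleton (PrimeSpectrum K))
    haveI : IsReduced (Spec (CommRingCat.of K)) := isReduced_of_isIntegral _
    haveI : IsSchemeTheoreticallyDominant j := IsSchemeTheoreticallyDominant.of_isDominant j
    haveI : Flat snd := inferInstance
    haveI : IsSchemeTheoreticallyDominant (pullback.fst snd j) := inferInstance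
    exact IsSchemeTheoreticallyDominant.isReduced (pullback.fst snd j)

theorem geomConnected_iff_algClosed :
    GeometricallyConnected p ↔
      ∀ (Ω : Type u) [Field Ω] [IsAlgClosed Ω] (t : Spec (CommRingCat.of Ω) ⟶ Spec (CommRingCat.of k))
        (X' : Scheme.{u}) (i₀ : X' ⟶ X) (q : X' ⟶ Spec (CommRingCat.of Ω)),
        IsPullback i₀ q p t → ConnectedSpace ↥X' := by
  constructor
  · intro h Ω _ _ t X' i₀ q hpb
    exact h.geometrically_connectedSpace t i₀ q hpb
  · intro H
    constructor
    intro K _ y Z fst snd h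
    let Ω := AlgebraicClosure K
    let j : Spec (CommRingCat.of Ω) ⟶ Spec (CommRingCat.of K) :=
      Spec.map (CommRingCat.ofHom (algebraMap K Ω))
    have hbig : IsPullback (pullback.fst snd j ≫ fst) (pullback.snd snd j) p (j ≫ y) :=
      (IsPullback.of_hasPullback snd j).paste_horiz h
    haveI : ConnectedSpace ↥(pullback snd j) := H Ω (j ≫ y) _ _ _ hbig
    haveI : Surjective j := surjective_spec_field K Ω _
    haveI : Surjective (pullback.fst snd j) := inferInstance
    exact (pullback.fst snd j).surjective.connectedSpace (pullback.fst snd j).continuous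

theorem dim_eq_of_isPullback [LocallyOfFiniteType p] (Ω : Type u) [Field Ω]
    (t : Spec (CommRingCat.of Ω) ⟶ Spec (CommRingCat.of k))
    (X' : Scheme.{u}) (i₀ : X' ⟶ X) (q : X' ⟶ Spec (CommRingCat.of Ω))
    (hpb : IsPullback i₀ q p t) : topologicalKrullDim ↥X' = topologicalKrullDim ↥X := by
  obtain ⟨φ, rfl⟩ := Spec.map_surjective t
  letI : Algebra k Ω := φ.hom.toAlgebra
  exact Groth.Agent.Lib.Helper3.FibDimBC.topologicalKrullDim_eq_of_isPullback_field k Ω p q i₀ hpb

end Field

end Groth.Agent.Lib.Helper5.GeomFibA
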