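import Mathlib
import Groth.Agent.Lib.Helper5GeomFibA
import Groth.Agent.Lib.Helper5FibSmConstr

/-!
# Finiteness of the non-smooth locus and extension of the base field (helper5)
-/

set_option autoImplicit false
set_option linter.style.haveILetI false
universe u

open CategoryTheory CategoryTheory.Limits AlgebraicGeometry

namespace Groth.Agent.Lib.Helper5.GeomFibB

open Groth.Agent.Lib.Helper5.GeomFibA Groth.Agent.Lib.Helper5.FibSmConstr

theorem nonsmooth_eq {X Y : Scheme.{u}} (f : X ⟶ Y) [LocallyOfFinitePresentation f] :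
    {x : ↥X | ¬ ∃ U : X.Opens, x ∈ U ∧ Smooth (U.ι ≫ f)} = (f.smoothLocus : Set X)ᶜ := by
  ext x
  simp only [Set.mem_setOf_eq, Set.mem_compl_iff, SetLike.mem_coe, not_iff_not]
  constructor
  · rintro ⟨U, hxU, hU⟩
    haveI := hU
    have h1 : U.ι ⁻¹ᵁ f.smoothLocus = (U.ι ≫ f).smoothLocus :=
      Scheme.Hom.preimage_smoothLocus_eq _ _
    have h2 : (U.ι ≫ f).smoothLocus = ⊤ := Scheme.Hom.smoothLocus_eq_top _
    have h3 : (⟨x, hxU⟩ : U) ∈ U.ι ⁻¹ᵁ f.smoothLocus := by
      rw [h1, h2]
      trivial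
    exact h3
  · intro hx
    refine ⟨f.smoothLocus, hx, ?_⟩
    rw [← Scheme.Hom.smoothLocus_eq_top_iff, ← Scheme.Hom.preimage_smoothLocus_eq]
    exact Scheme.Opens.ι_preimage_self _

theorem nonsmooth_preimage {X X' T T' : Scheme.{u}} {p : X ⟶ T} {q : X' ⟶ T'} {i₀ : X' ⟶ X}
    {t' : T' ⟶ T} [LocallyOfFinitePresentation p] [LocallyOfFinitePresentation q] [Flat t']
    (hpb : IsPullback i₀ q p t') :
    (q.smoothLocus : Set X')ᶜ = i₀ ⁻¹' (p.smoothLocus : Set X)ᶜ := by
  ext w
  simp only [Set.mem_compl_iff, SetLike.mem_coe, Set.mem_preimage, Scheme.Hom.mem_smoothLocus]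
  exact not_congr (formallySmooth_stalkMap_iff_of_isPullback hpb w)

section Field

variable {k : Type u} [Field k] {X : Scheme.{u}} (p : X ⟶ Spec (CommRingCat.of k))

theorem finite_preimage_of_finite_closed [IsProper p] (N : Set X) (hN : IsClosed N)
    (hfin : N.Finite) (Ω : Type u) [Field Ω]
    (t' : Spec (CommRingCat.of Ω) ⟶ Spec (CommRingCat.of k)) (X' : Scheme.{u}) (i₀ : X' ⟶ X)
    (q : X' ⟶ Spec (CommRingCat.of Ω)) (hpb : IsPullback i₀ q p t') : (i₀ ⁻¹' N).Finite := by
  let I := Scheme.IdealSheafData.vanishingIdeal (⟨N, hN⟩ : TopologicalSpace.Closeds X)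
  let ι := I.subschemeι
  have hrange : Set.range ι = N := by
    rw [Scheme.IdealSheafData.range_subschemeι, Scheme.IdealSheafData.coe_support_vanishingIdeal]
    rfl
  haveI : Finite ↥I.subscheme := by
    have hinj : Function.Injective ι := ι.isEmbedding.injective
    haveI : Finite ↥N := hfin
    exact Finite.of_injective (fun z => (⟨ι z, hrange ▸ Set.mem_range_self z⟩ : ↥N))
      (fun a b h => hinj (Subtype.ext_iff.mp h))
  haveI : IsProper (ι ≫ p) := inferInstance
  haveI : LocallyOfFiniteType (ι ≫ p) := inferInstance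
  haveI : LocallyQuasiFinite (ι ≫ p) :=
    LocallyQuasiFinite.of_finite_preimage_singleton _ fun _ => Set.toFinite _
  have hbig : IsPullback (pullback.fst ι i₀) (pullback.snd ι i₀ ≫ q) (ι ≫ p) t' :=
    (IsPullback.of_hasPullback ι i₀).paste_vert hpb
  haveI : LocallyQuasiFinite (pullback.snd ι i₀ ≫ q) :=
    MorphismProperty.of_isPullback hbig inferInstance
  haveI : QuasiCompact (pullback.snd ι i₀ ≫ q) :=
    MorphismProperty.of_isPullback hbig inferInstance
  have hfin' := (pullback.snd ι i₀ ≫ q).finite_preimage_singleton (IsLocalRing.closedPoint Ω)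
  haveI : Finite ↥(pullback ι i₀) := by
    apply Set.finite_univ_iff.mp
    refine hfin'.subset fun z _ => ?_
    exact Set.mem_preimage.mpr (Set.mem_singleton_iff.mpr
      (Subsingleton.elim (α := PrimeSpectrum Ω) _ _))
  have h2 : i₀ ⁻¹' N = Set.range (pullback.snd ι i₀) := by
    rw [Scheme.Pullback.range_snd, hrange]
  rw [h2]
  exact Set.finite_range _

theorem finite_nonsmooth_iff [IsProper p] :
    (∀ (Ω : Type u) [Field Ω] [IsAlgClosed Ω]
      (t' : Spec (CommRingCat.of Ω) ⟶ Spec (CommRingCat.of k)) (X' : Scheme.{u}) (i₀ : X' ⟶ X)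
      (q : X' ⟶ Spec (CommRingCat.of Ω)), IsPullback i₀ q p t' →
      Set.Finite {x : ↥X' | ¬ ∃ U : X'.Opens, x ∈ U ∧ Smooth (U.ι ≫ q)}) ↔
    Set.Finite {x : ↥X | ¬ ∃ U : X.Opens, x ∈ U ∧ Smooth (U.ι ≫ p)} := by
  haveI : LocallyOfFiniteType p := inferInstance
  haveI : LocallyOfFinitePresentation p :=
    LocallyOfFinitePresentation.iff_locallyOfFiniteType.mpr inferInstance
  rw [nonsmooth_eq p]
  constructor
  · intro H
    let Ω := AlgebraicClosure k
    let t' : Spec (CommRingCat.of Ω) ⟶ Spec (CommRingCat.of k) :=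
      Spec.map (CommRingCat.ofHom (algebraMap k Ω))
    have hpb := IsPullback.of_hasPullback p t'
    haveI : LocallyOfFinitePresentation (pullback.snd p t') := inferInstance
    have h1 := H Ω t' _ _ _ hpb
    rw [nonsmooth_eq, nonsmooth_preimage hpb] at h1
    haveI : Surjective t' := surjective_spec_field k Ω _
    haveI : Surjective (pullback.fst p t') := inferInstance
    have h2 := h1.image (pullback.fst p t')
    rwa [Set.image_preimage_eq _ (pullback.fst p t').surjective] at h2
  · intro hfin Ω _ _ t' X' i₀ q hpb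
    haveI : LocallyOfFinitePresentation q := MorphismProperty.of_isPullback hpb inferInstance
    rw [nonsmooth_eq, nonsmooth_preimage hpb]
    exact finite_preimage_of_finite_closed p _ p.smoothLocus.isOpen.isClosed_compl hfin Ω t' X' i₀
      q hpb

end Field

end Groth.Agent.Lib.Helper5.GeomFibB
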