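import Mathlib
import Groth.Agent.Lib.Helper5GlueSemilocal

/-!
# Glueing semilocal one-dimensional rings inside a field, several charts (helper5)

The several-rings form of Stacks 09N8: for a subring `A` of a field `K` and finitely many
Noetherian semilocal one-dimensional domains `B i ⊆ K` with fraction field `K` such that `A` and
each `B i` generate `K`, there is `x ∈ A` with `x⁻¹ ∈ rad (B i)` for all `i`.
-/

set_option autoImplicit false
universe u

namespace Groth.Agent.Lib.Helper5.GlueDimOne

open WithZero IsDedekindDomain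

/-- Approximation for an abstract finite family of rank one discrete valuations. -/
theorem exists_forall_one_lt_valuation' {K : Type*} [Field K] (A : Subring K) {ι : Type*}
    (T : Finset ι) (v : ι → Valuation K ℤᵐ⁰) (h : ∀ i ∈ T, ∃ y ∈ A, 1 < v i y) :
    ∃ x ∈ A, ∀ i ∈ T, 1 < v i x := by
  classical
  induction T using Finset.induction_on with
  | empty => exact ⟨1, A.one_mem, by simp⟩
  | insert i₀ T hi₀ ih =>
    obtain ⟨x, hxA, hx⟩ := ih (fun i hi => h i (Finset.mem_insert_of_mem hi))
    obtain ⟨y, hyA, hy⟩ := h i₀ (Finset.mem_insert_self _ _)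
    by_cases h1 : 1 < v i₀ x
    · refine ⟨x, hxA, fun i hi => ?_⟩
      rcases Finset.mem_insert.mp hi with rfl | hi
      · exact h1
      · exact hx i hi
    · obtain ⟨x₁, hx₁A, hx₁v₀, hx₁⟩ : ∃ x₁ ∈ A, v i₀ x₁ = 1 ∧ ∀ i ∈ T, 1 < v i x₁ := by
        rcases lt_or_eq_of_le (not_lt.mp h1) with h2 | h2
        · refine ⟨1 + x, A.add_mem A.one_mem hxA, ?_, fun i hi => ?_⟩
          · exact Valuation.map_one_add_of_lt _ h2
          · have h3 : (v i) 1 < v i x := by
              rw [Valuation.map_one]; exact hx i hi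
            rw [Valuation.map_add_eq_of_lt_right _ h3]
            exact hx i hi
        · exact ⟨x, hxA, h2, hx⟩
      have hy0 : y ≠ 0 := by
        rintro rfl
        simp at hy
      obtain ⟨M, hM⟩ := exists_one_lt_mul_pow_finset T (fun i => v i y)
        (fun i => v i x₁) (fun i _ => (Valuation.ne_zero_iff _).mpr hy0) hx₁
      refine ⟨y * x₁ ^ M, A.mul_mem hyA (A.pow_mem hx₁A M), fun i hi => ?_⟩
      rcases Finset.mem_insert.mp hi with rfl | hi
      · rw [map_mul, map_pow, hx₁v₀, one_pow, mul_one]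
        exact hy
      · rw [map_mul, map_pow]
        exact hM i hi

variable {K : Type u} [Field K]

section IntegralClosure

variable (B : Subring K) [IsFractionRing B K] [IsNoetherianRing B]

theorem not_isField_of_ringKrullDim_eq_one (hdim : ringKrullDim B = 1) : ¬ IsField B := by
  intro hf
  have h0 := ringKrullDim_eq_zero_of_isField hf
  rw [hdim] at h0
  exact one_ne_zero h0

theorem not_isField_integralClosure (hdim : ringKrullDim B = 1) :
    ¬ IsField (integralClosure B K) := fun hf =>
  not_isField_of_ringKrullDim_eq_one B hdim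
    (isField_of_isIntegral_of_isField (algebraMap_integralClosure_injective B (K := K)) hf)

theorem finite_heightOneSpectrum_integralClosure (hdim : ringKrullDim B = 1)
    [Finite (MaximalSpectrum B)] [IsDedekindDomain (integralClosure B K)] :
    Finite (HeightOneSpectrum (integralClosure B K)) := by
  classical
  have hBnf := not_isField_of_ringKrullDim_eq_one B hdim
  obtain ⟨u, hu0, huj⟩ := exists_ne_zero_mem_jacobson B hBnf
  have hinj := algebraMap_integralClosure_injective B (K := K)
  obtain ⟨uS, huS⟩ : ∃ uS : integralClosure B K, uS = algebraMap B (integralClosure B K) u :=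
    ⟨_, rfl⟩
  have huS0 : uS ≠ 0 := by
    rw [huS]
    exact fun h => hu0 (hinj (by rw [h, map_zero]))
  have hall : ∀ v : HeightOneSpectrum (integralClosure B K), v.asIdeal ∣ Ideal.span {uS} := by
    intro v
    rw [Ideal.dvd_iff_le, Ideal.span_singleton_le_iff_mem]
    have hvmax : v.asIdeal.IsMaximal := v.isMaximal
    have hmax : (v.asIdeal.comap (algebraMap B (integralClosure B K))).IsMaximal :=
      Ideal.isMaximal_comap_of_isIntegral_of_isMaximal v.asIdeal
    have h1 : u ∈ v.asIdeal.comap (algebraMap B (integralClosure B K)) := by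
      rw [Ideal.jacobson, Ideal.mem_sInf] at huj
      exact huj ⟨bot_le, hmax⟩
    rw [huS]
    exact h1
  have hfin : (Set.univ : Set (HeightOneSpectrum (integralClosure B K))).Finite := by
    have h1 := Ideal.finite_factors (I := Ideal.span {uS}) (by simpa using huS0)
    exact h1.subset (fun v _ => hall v)
  exact Set.finite_univ_iff.mp hfin

omit [IsNoetherianRing B] in
theorem exists_pole (A : Subring K) (hgen : A ⊔ B = ⊤) [IsDedekindDomain (integralClosure B K)]
    [IsFractionRing (integralClosure B K) K] (v : HeightOneSpectrum (integralClosure B K)) :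
    ∃ y ∈ A, 1 < v.valuation K y := by
  by_contra hcon
  push Not at hcon
  have hA : A ≤ (v.valuation K).valuationSubring.toSubring := fun a ha =>
    (Valuation.mem_valuationSubring_iff _ _).mpr (hcon a ha)
  have hB : B ≤ (v.valuation K).valuationSubring.toSubring := fun b hb => by
    have h1 := v.valuation_le_one (K := K) (algebraMap B (integralClosure B K) ⟨b, hb⟩)
    exact (Valuation.mem_valuationSubring_iff _ _).mpr h1
  have htop : ∀ z : K, v.valuation K z ≤ 1 := fun z =>
    (Valuation.mem_valuationSubring_iff _ _).mp ((sup_le hA hB) (hgen ▸ Subring.mem_top z))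
  obtain ⟨π, hπ, hπ0⟩ := Submodule.exists_mem_ne_zero_of_ne_bot v.ne_bot
  have h1 : v.valuation K (algebraMap (integralClosure B K) K π) < 1 :=
    (v.valuation_lt_one_iff_mem (K := K) π).mpr hπ
  have hπK : algebraMap (integralClosure B K) K π ≠ 0 := by
    intro h
    exact hπ0 (Subtype.ext h)
  have h2 := htop (algebraMap (integralClosure B K) K π)⁻¹
  rw [map_inv₀] at h2
  have h3 : 1 < (v.valuation K (algebraMap (integralClosure B K) K π))⁻¹ :=
    (one_lt_inv₀ (zero_lt_iff.mpr ((Valuation.ne_zero_iff _).mpr hπK))).mpr h1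
  exact absurd h2 (not_le.mpr h3)

theorem exists_pow_inv_mem_jacobson (hdim : ringKrullDim B = 1)
    [IsDedekindDomain (integralClosure B K)] [IsFractionRing (integralClosure B K) K] {x : K}
    (hx' : ∀ v : HeightOneSpectrum (integralClosure B K), 1 < v.valuation K x) :
    ∃ m : ℕ, 1 ≤ m ∧ ∀ k : ℕ, 1 ≤ k → m ∣ k →
      ∃ h : (x ^ k)⁻¹ ∈ B, (⟨(x ^ k)⁻¹, h⟩ : B) ∈ Ideal.jacobson (⊥ : Ideal B) := by
  have hdim' : ringKrullDim B ≤ 1 := le_of_eq hdim
  have hSnf := not_isField_integralClosure B hdim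
  have hy : ∀ v : HeightOneSpectrum (integralClosure B K), v.valuation K x⁻¹ < 1 := by
    intro v
    rw [map_inv₀]
    exact inv_lt_one_of_one_lt₀ (hx' v)
  obtain ⟨σ, hσ⟩ := HeightOneSpectrum.mem_integers_of_valuation_le_one K x⁻¹
    (fun v => (hy v).le)
  have hσK : (σ : K) = x⁻¹ := hσ
  have hσmem : ∀ v : HeightOneSpectrum (integralClosure B K), σ ∈ v.asIdeal := fun v =>
    (v.valuation_lt_one_iff_mem (K := K) σ).mp (by have h1 := hy v; rw [← hσ] at h1; exact h1)
  have hσmax : ∀ J : Ideal (integralClosure B K), J.IsMaximal → σ ∈ J := fun J hJ =>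
    hσmem ⟨J, hJ.isPrime, Ring.ne_bot_of_isMaximal_of_not_isField hJ hSnf⟩
  have hσj : σ ∈ Ideal.jacobson (⊥ : Ideal (integralClosure B K)) := by
    rw [Ideal.jacobson, Ideal.mem_sInf]
    rintro J ⟨-, hJ⟩
    exact hσmax J hJ
  obtain ⟨m, hm1, hmB⟩ := exists_pow_mem_of_mem_jacobson_integralClosure B hdim' hσj
  rw [hσK] at hmB
  refine ⟨m, hm1, fun k hk hmk => ?_⟩
  obtain ⟨c, rfl⟩ := hmk
  have hkB : (x ^ (m * c))⁻¹ ∈ B := by
    rw [← inv_pow, pow_mul]
    exact B.pow_mem hmB c
  refine ⟨hkB, ?_⟩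
  exact mem_jacobson_of_eq_pow B hσmax hk ⟨(x ^ (m * c))⁻¹, hkB⟩ (by rw [hσK, inv_pow])

end IntegralClosure

/-- Stacks 09N8 for several charts. -/
theorem exists_mem_inv_mem_jacobson_family (A : Subring K) [IsFractionRing A K] (r : ℕ)
    (B : Fin r → Subring K) [∀ i, IsNoetherianRing (B i)] [∀ i, IsFractionRing (B i) K]
    (hdim : ∀ i, ringKrullDim (B i) = 1) (hsl : ∀ i, Finite (MaximalSpectrum (B i)))
    (hgen : ∀ i, A ⊔ B i = ⊤) :
    ∃ x : K, x ∈ A ∧ x ≠ 0 ∧ ∀ i, ∃ hx : x⁻¹ ∈ B i,
      (⟨x⁻¹, hx⟩ : B i) ∈ (⊥ : Ideal (B i)).jacobson := by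
  classical
  have hSD : ∀ i, IsDedekindDomain (integralClosure (B i) K) := fun i =>
    isDedekindDomain_integralClosure (B i) (le_of_eq (hdim i))
  have hSF : ∀ i, IsFractionRing (integralClosure (B i) K) K := fun i =>
    isFractionRing_integralClosure (B i)
  have hfin : ∀ i, Finite (HeightOneSpectrum (integralClosure (B i) K)) := fun i =>
    finite_heightOneSpectrum_integralClosure (B i) (hdim i)
  have : Fintype (Σ i : Fin r, HeightOneSpectrum (integralClosure (B i) K)) := Fintype.ofFinite _
  obtain ⟨x, hxA, hx⟩ := exists_forall_one_lt_valuation' A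
    (Finset.univ : Finset (Σ i : Fin r, HeightOneSpectrum (integralClosure (B i) K)))
    (fun p => p.2.valuation K) (fun p _ => exists_pole (B p.1) A (hgen p.1) p.2)
  have hx' : ∀ i (v : HeightOneSpectrum (integralClosure (B i) K)), 1 < v.valuation K x :=
    fun i v => hx ⟨i, v⟩ (Finset.mem_univ _)
  have hm := fun i => exists_pow_inv_mem_jacobson (B i) (hdim i) (hx' i)
  choose m hm1 hm using hm
  have hx0 : r ≠ 0 → x ≠ 0 := by
    intro hr
    rintro rfl
    obtain ⟨i⟩ : Nonempty (Fin r) := ⟨⟨0, Nat.pos_of_ne_zero hr⟩⟩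
    obtain ⟨P, hP⟩ := Ideal.exists_maximal (integralClosure (B i) K)
    have hPne : P ≠ ⊥ :=
      Ring.ne_bot_of_isMaximal_of_not_isField hP (not_isField_integralClosure (B i) (hdim i))
    have h1 := hx' i ⟨P, hP.isPrime, hPne⟩
    simp at h1
  by_cases hr : r = 0
  · subst hr
    exact ⟨1, A.one_mem, one_ne_zero, fun i => i.elim0⟩
  · have hM1 : 1 ≤ ∏ i, m i := Nat.one_le_iff_ne_zero.mpr
      (Finset.prod_ne_zero_iff.mpr fun i _ => Nat.one_le_iff_ne_zero.mp (hm1 i))
    refine ⟨x ^ ∏ i, m i, A.pow_mem hxA _, pow_ne_zero _ (hx0 hr), fun i => ?_⟩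
    exact hm i _ hM1 (Finset.dvd_prod_of_mem m (Finset.mem_univ i))

end Groth.Agent.Lib.Helper5.GlueDimOne
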