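import Mathlib
import Groth.Agent.Lib.Helper5GorFibA
import Groth.Agent.Lib.Helper5ExtTrans
import Groth.Agent.Lib.Helper5PtDual

/-!
# Base change of dualizing complexes along flat maps with Gorenstein fibres (helper5)

* `isDualizing_extD_of_gor_closedFibre`: for a flat local homomorphism `A → B` of Noetherian local
  rings with Gorenstein closed fibre, the base change of a dualizing complex is dualizing.
* `isDualizing_extD_of_gor_fibLocRing`: for a flat map `A → B` of Noetherian rings, `B` of finite
  Krull dimension, all of whose fibre local rings are Gorenstein, the base change of a dualizing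
  complex is dualizing.
-/

set_option autoImplicit false
universe u
open CategoryTheory CategoryTheory.Limits
attribute [local instance] HasDerivedCategory.standard

namespace Groth.Agent.Lib.Helper5.GorFib

open DerivedCategory Groth.Agent.Lib.Helper1.Extend Groth.Agent.Lib.Helper5.LocD
  Groth.Agent.Lib.Helper5.HomBC Groth.Agent.Lib.Helper5.Bass Groth.Agent.Lib.Helper5.BiDual
  Groth.Agent.Lib.Helper5.Coext Groth.Agent.Lib.Helper17.DRingAdj
  Groth.Agent.Lib.Helper5.NormDual Groth.Agent.Lib.Helper5.GorLocus TensorProduct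
  Groth.Agent.Lib.Helper5.ExtTrans

section Local

variable {A B : Type u} [CommRing A] [CommRing B] [IsLocalRing A] [IsLocalRing B]
  [IsNoetherianRing A] [IsNoetherianRing B] [Algebra A B] [Module.Flat A B]

/-- the residue field of `B` as a `B`-module is the restriction of the residue field of `B ⧸ J` -/
noncomputable def resEquiv (J : Ideal B) [IsLocalRing (B ⧸ J)] [IsLocalHom (algebraMap B (B ⧸ J))] :
    (B ⧸ IsLocalRing.maximalIdeal B) ≃ₗ[B]
      ((Fr B (B ⧸ J)).obj (ModuleCat.of (B ⧸ J) (IsLocalRing.ResidueField (B ⧸ J)))) :=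
  LinearEquiv.ofBijective
    { toFun := fun x => IsLocalRing.ResidueField.map (algebraMap B (B ⧸ J))
        (show IsLocalRing.ResidueField B from x)
      map_add' := fun x y => map_add (IsLocalRing.ResidueField.map (algebraMap B (B ⧸ J))) _ _
      map_smul' := fun b x => by
        obtain ⟨c, rfl⟩ := Ideal.Quotient.mk_surjective x
        rw [RingHom.id_apply]
        show IsLocalRing.ResidueField.map (algebraMap B (B ⧸ J)) (IsLocalRing.residue B (b * c)) =
          algebraMap B (B ⧸ J) b • IsLocalRing.ResidueField.map (algebraMap B (B ⧸ J))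
            (IsLocalRing.residue B c)
        rw [IsLocalRing.ResidueField.map_residue, IsLocalRing.ResidueField.map_residue, map_mul,
          map_mul, Algebra.smul_def]
        rfl }
    ⟨fun x y h => RingHom.injective (IsLocalRing.ResidueField.map (algebraMap B (B ⧸ J))) h,
      fun y => by
        obtain ⟨f, rfl⟩ := IsLocalRing.residue_surjective (show IsLocalRing.ResidueField (B ⧸ J) from y)
        obtain ⟨b, rfl⟩ := Ideal.Quotient.mk_surjective f
        exact ⟨Ideal.Quotient.mk _ b, rfl⟩⟩

theorem isDualizing_extD_of_gor_closedFibre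
    (hF : LocCoh.IsGorensteinLocalRing (B ⧸ (IsLocalRing.maximalIdeal A).map (algebraMap A B)))
    (ω : Dual.D A) (hω : Dual.IsDualizing A ω) :
    Dual.IsDualizing B ((extD A B).obj ω) := by
  haveI := hF
  obtain ⟨T⟩ := nonempty_res ω hω
  have hpc := pc'_of_isDualizing ω hω
  have hbb := hasBBRes_of_isDualizing ω hω
  have hlo : ∀ i : ℤ, i < T.a → Subsingleton (Dual.HD B ((extD A B).obj ω) i) := fun i hi =>
    subsingleton_HD_extD B ω i (subsingleton_HD_of_res T i (Or.inl hi))
  have hhi : ∀ i : ℤ, T.b < i → Subsingleton (Dual.HD B ((extD A B).obj ω) i) := fun i hi =>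
    subsingleton_HD_extD B ω i (subsingleton_HD_of_res T i (Or.inr hi))
  have hfin : ∀ i : ℤ, Module.Finite B (Dual.HD B ((extD A B).obj ω) i) := fun i =>
    finite_HD_extD B ω i (hω.finite_cohomology i)
  obtain ⟨d, hvan0, ⟨eq0⟩⟩ := Groth.Agent.S0364.result A ω hω (IsLocalRing.maximalIdeal A)
  have hvan : ∀ i : ℤ, i ≠ d → Subsingleton
      (Dual.inD B (B ⧸ (IsLocalRing.maximalIdeal A).map (algebraMap A B)) ⟶
        ((extD A B).obj ω)⟦i⟧) := fun i hi =>
    subsingleton_hom_of_isos (Iso.refl _) (((extD A B).commShiftIso i).app ω)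
      (subsingleton_hom_quot_map B (IsLocalRing.maximalIdeal A) (ω⟦i⟧) (hbb.shift i)
        (hvan0 i hi))
  have hd : Nonempty ((Dual.inD B (B ⧸ (IsLocalRing.maximalIdeal A).map (algebraMap A B)) ⟶
      ((extD A B).obj ω)⟦d⟧) ≃ₗ[B]
      (B ⧸ (IsLocalRing.maximalIdeal A).map (algebraMap A B))) :=
    ⟨Linear.homCongr B
        (((extDInDIso (A := A) (B := B) (A ⧸ IsLocalRing.maximalIdeal A)) ≪≫
          inDIso (Algebra.TensorProduct.quotIdealMapEquivTensorQuot B
            (IsLocalRing.maximalIdeal A)).toLinearEquiv.symm).symm)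
        (((extD A B).commShiftIso d).app ω).symm ≪≫ₗ
      (bcEquiv B (pc'_inD_of_finite (A ⧸ IsLocalRing.maximalIdeal A)) (hbb.shift d)).symm ≪≫ₗ
      TensorProduct.AlgebraTensorModule.congr (LinearEquiv.refl B B) eq0 ≪≫ₗ
      (Algebra.TensorProduct.quotIdealMapEquivTensorQuot B
        (IsLocalRing.maximalIdeal A)).toLinearEquiv.symm⟩
  obtain ⟨eY⟩ := RG_shift_iso_of_ext_quot ((IsLocalRing.maximalIdeal A).map (algebraMap A B))
    ((extD A B).obj ω) T.a hlo d hvan hd
  obtain ⟨a', b', hab'⟩ := (isDualizing_inD_of_gor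
    (B ⧸ (IsLocalRing.maximalIdeal A).map (algebraMap A B))).finite_injective_dimension
  letI : (RG B (B ⧸ (IsLocalRing.maximalIdeal A).map (algebraMap A B))).CommShift ℤ :=
    (adjD B (B ⧸ (IsLocalRing.maximalIdeal A).map (algebraMap A B))).rightAdjointCommShift ℤ
  haveI : IsLocalHom (algebraMap B (B ⧸ (IsLocalRing.maximalIdeal A).map (algebraMap A B))) :=
    IsLocalHom.of_surjective _ Ideal.Quotient.mk_surjective
  have hmax : ∀ q : Ideal B, q.IsMaximal → ∀ i : ℤ, b' + d < i →
      Subsingleton (Dual.inD B (B ⧸ q) ⟶ ((extD A B).obj ω)⟦i⟧) := by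
    intro q hq i hi
    obtain rfl := IsLocalRing.eq_maximalIdeal hq
    have e1 : (Dual.inD (B ⧸ (IsLocalRing.maximalIdeal A).map (algebraMap A B))
          (IsLocalRing.ResidueField (B ⧸ (IsLocalRing.maximalIdeal A).map (algebraMap A B))) ⟶
          ((RG B (B ⧸ (IsLocalRing.maximalIdeal A).map (algebraMap A B))).obj
            ((extD A B).obj ω))⟦i⟧) ≃
        ((DRing.restrictD (algebraMap B
            (B ⧸ (IsLocalRing.maximalIdeal A).map (algebraMap A B)))).obj
          (Dual.inD (B ⧸ (IsLocalRing.maximalIdeal A).map (algebraMap A B))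
            (IsLocalRing.ResidueField
              (B ⧸ (IsLocalRing.maximalIdeal A).map (algebraMap A B)))) ⟶
          ((extD A B).obj ω)⟦i⟧) :=
      (((RG B (B ⧸ (IsLocalRing.maximalIdeal A).map (algebraMap A B))).commShiftIso i).app
        ((extD A B).obj ω)).symm.homToEquiv.trans
        ((adjD B (B ⧸ (IsLocalRing.maximalIdeal A).map (algebraMap A B))).homEquiv _ _).symm
    have e2 := e1.trans ((restrictDInD (algebraMap B
      (B ⧸ (IsLocalRing.maximalIdeal A).map (algebraMap A B)))
      (IsLocalRing.ResidueField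
        (B ⧸ (IsLocalRing.maximalIdeal A).map (algebraMap A B)))).homFromEquiv)
    have h1 : Subsingleton (Dual.inD (B ⧸ (IsLocalRing.maximalIdeal A).map (algebraMap A B))
          (IsLocalRing.ResidueField (B ⧸ (IsLocalRing.maximalIdeal A).map (algebraMap A B))) ⟶
          (Dual.inD (B ⧸ (IsLocalRing.maximalIdeal A).map (algebraMap A B))
            (B ⧸ (IsLocalRing.maximalIdeal A).map (algebraMap A B)))⟦i - d⟧) :=
      hab' _ (i - d) (Or.inr (by omega))
    have hF0 : Subsingleton (Dual.inD (B ⧸ (IsLocalRing.maximalIdeal A).map (algebraMap A B))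
          (IsLocalRing.ResidueField (B ⧸ (IsLocalRing.maximalIdeal A).map (algebraMap A B))) ⟶
          ((RG B (B ⧸ (IsLocalRing.maximalIdeal A).map (algebraMap A B))).obj
            ((extD A B).obj ω))⟦i⟧) :=
      subsingleton_hom_of_isos (Iso.refl _)
        ((shiftFunctor (Dual.D (B ⧸ (IsLocalRing.maximalIdeal A).map (algebraMap A B)))
            (i - d)).mapIso eY.symm ≪≫
          ((shiftFunctorAdd' (Dual.D (B ⧸ (IsLocalRing.maximalIdeal A).map (algebraMap A B)))
            d (i - d) i (by omega)).app _).symm) h1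
    have h2 := e2.symm.subsingleton
    exact subsingleton_hom_of_isos
      ((DerivedCategory.singleFunctor (ModuleCat.{u} B) 0).mapIso
        (resEquiv ((IsLocalRing.maximalIdeal A).map (algebraMap A B))).toModuleIso).symm
      (Iso.refl _) h2
  refine ⟨inferInstance, ⟨T.a, b' + d, finInjDim_of_maximal _ T.a hlo T.b hhi hfin (b' + d) hmax⟩,
    hfin, toEnd_bijective_extD B hpc hbb hω.toEnd_bijective, ?_⟩
  intro i hi
  have h1 := subsingleton_hom_extD B hpc (hbb.shift i) (hω.ext_self_subsingleton i hi)
  exact subsingleton_hom_of_isos (Iso.refl _) (((extD A B).commShiftIso i).app ω) h1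

end Local

end Groth.Agent.Lib.Helper5.GorFib
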