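import Mathlib
import Groth.Agent.Lib.Helper5GorFibB
import Groth.Agent.Lib.Helper5GorRing
import Groth.Agent.S0377
import Groth.Agent.S0371

/-!
# Base change of dualizing complexes along flat maps with Gorenstein fibres: global form (helper5)

* `isDualizing_extD_of_gor_fibLocRing`: `A → B` flat, Noetherian, `dim B < ∞`, all fibre local rings
  `B_q / (q ∩ A) B_q` Gorenstein: the base change of a dualizing complex is dualizing.
* `isDualizing_extD_of_gor_fiber`: the same with the hypothesis on the fibre rings `κ(p) ⊗ B`, for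
  `B` essentially of finite type over `A`.
-/

set_option autoImplicit false
universe u
open CategoryTheory CategoryTheory.Limits
attribute [local instance] HasDerivedCategory.standard

namespace Groth.Agent.Lib.Helper5.GorFib

open DerivedCategory Groth.Agent.Lib.Helper1.Extend Groth.Agent.Lib.Helper5.LocD
  Groth.Agent.Lib.Helper5.HomBC Groth.Agent.Lib.Helper5.Bass Groth.Agent.Lib.Helper5.BiDual
  Groth.Agent.Lib.Helper5.ExtTrans Groth.Agent.Lib.Helper5.GorRing TensorProduct

section Global

variable {A B : Type u} [CommRing A] [CommRing B] [IsNoetherianRing A] [IsNoetherianRing B]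
  [Algebra A B] [Module.Flat A B]

theorem isDualizing_extD_of_gor_fibLocRing (hdim : ringKrullDim B < ⊤)
    (hfib : ∀ (Q : Ideal B) [Q.IsPrime], LocCoh.IsGorensteinLocalRing (EGA4.FibLocRing A B Q))
    (ω : Dual.D A) (hω : Dual.IsDualizing A ω) : Dual.IsDualizing B ((extD A B).obj ω) := by
  obtain ⟨T⟩ := nonempty_res ω hω
  have hfin : ∀ i : ℤ, Module.Finite B (Dual.HD B ((extD A B).obj ω) i) := fun i =>
    finite_HD_extD B ω i (hω.finite_cohomology i)
  have hlo : ∀ i : ℤ, i < T.a → Subsingleton (Dual.HD B ((extD A B).obj ω) i) := fun i hi =>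
    subsingleton_HD_extD B ω i (subsingleton_HD_of_res T i (Or.inl hi))
  refine Groth.Agent.Lib.Helper5.PtDual.isDualizing_of_pointwise _ ?_ hfin T.a hlo hdim
  intro q
  haveI : q.asIdeal.LiesOver (q.asIdeal.comap (algebraMap A B)) := ⟨rfl⟩
  letI := Localization.AtPrime.algebraOfLiesOver (q.asIdeal.comap (algebraMap A B)) q.asIdeal
  haveI : Module.Flat B (Localization.AtPrime q.asIdeal) :=
    IsLocalization.flat _ q.asIdeal.primeCompl
  haveI hflatA : Module.Flat A (Localization.AtPrime q.asIdeal) := Module.Flat.trans A B _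
  haveI : Module.Flat (Localization.AtPrime (q.asIdeal.comap (algebraMap A B)))
      (Localization.AtPrime q.asIdeal) :=
    (Module.flat_iff_of_isLocalization (Localization.AtPrime (q.asIdeal.comap (algebraMap A B)))
      (q.asIdeal.comap (algebraMap A B)).primeCompl _).mpr hflatA
  have hmap : (q.asIdeal.comap (algebraMap A B)).map
      (algebraMap A (Localization.AtPrime q.asIdeal)) =
      (IsLocalRing.maximalIdeal (Localization.AtPrime (q.asIdeal.comap (algebraMap A B)))).map
        (algebraMap (Localization.AtPrime (q.asIdeal.comap (algebraMap A B)))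
          (Localization.AtPrime q.asIdeal)) := by
    rw [← IsLocalization.AtPrime.map_eq_maximalIdeal (q.asIdeal.comap (algebraMap A B))
      (Localization.AtPrime (q.asIdeal.comap (algebraMap A B))), Ideal.map_map,
      ← IsScalarTower.algebraMap_eq]
  obtain ⟨e1⟩ := extD_trans A B (Localization.AtPrime q.asIdeal) ω
  obtain ⟨e2⟩ := extD_trans A (Localization.AtPrime (q.asIdeal.comap (algebraMap A B)))
    (Localization.AtPrime q.asIdeal) ω
  have hωp := Groth.Agent.Lib.Helper5.LocD.isDualizing_extD
    (q.asIdeal.comap (algebraMap A B)).primeCompl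
    (Localization.AtPrime (q.asIdeal.comap (algebraMap A B))) ω hω
  haveI := hfib q.asIdeal
  have hG : LocCoh.IsGorensteinLocalRing (Localization.AtPrime q.asIdeal ⧸
      (IsLocalRing.maximalIdeal (Localization.AtPrime (q.asIdeal.comap (algebraMap A B)))).map
        (algebraMap (Localization.AtPrime (q.asIdeal.comap (algebraMap A B)))
          (Localization.AtPrime q.asIdeal))) :=
    gorLocal_of_ringEquiv (R := EGA4.FibLocRing A B q.asIdeal) (Ideal.quotEquivOfEq hmap)
  exact isDualizing_of_iso (e2.symm ≪≫ e1) (isDualizing_extD_of_gor_closedFibre hG _ hωp)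

/-- fibre ring version, for algebras essentially of finite type -/
theorem isDualizing_extD_of_gor_fiber [Algebra.EssFiniteType A B]
    (hfib : ∀ (p : Ideal A) [p.IsPrime], LocCoh.IsGorensteinRing (p.Fiber B))
    (ω : Dual.D A) (hω : Dual.IsDualizing A ω) : Dual.IsDualizing B ((extD A B).obj ω) := by
  obtain ⟨ωB, hωB⟩ := Groth.Agent.S0377.result A ω hω B
  exact isDualizing_extD_of_gor_fibLocRing (Groth.Agent.S0371.result B ωB hωB)
    (forall_gor_fiber_iff.mp hfib) ω hω

end Global

end Groth.Agent.Lib.Helper5.GorFib
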