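import Mathlib
import Groth.Agent.Lib.Helper5GorFibC
import Groth.Agent.Lib.Helper19ComplNoeth

/-!
# Converse of Gorenstein-fibre ascent for dualizing complexes; formal fibres (helper5)

* `gor_closedFibre_of_isDualizing_extD`: for a flat local homomorphism `A → B` of Noetherian local
  rings, if `ω` is dualizing for `A` and `ω ⊗ B` is dualizing for `B`, the closed fibre is Gorenstein.
* `gor_fibLocRing_of_isDualizing_extD`: global form, all fibre local rings are Gorenstein.
* `gor_fiber_of_isDualizing_extD`: all fibre rings `κ(p) ⊗ B` are Gorenstein.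
* `isDualizing_extD_cpl`: base change of a dualizing complex to the completion of a local ring is
  dualizing.
* `gor_formalFibre`: the formal fibres of a local ring with a dualizing complex are Gorenstein.
-/

set_option autoImplicit false
universe u
open CategoryTheory CategoryTheory.Limits
attribute [local instance] HasDerivedCategory.standard

namespace Groth.Agent.Lib.Helper5.GorFib

open DerivedCategory Groth.Agent.Lib.Helper1.Extend Groth.Agent.Lib.Helper5.LocD
  Groth.Agent.Lib.Helper5.HomBC Groth.Agent.Lib.Helper5.Bass Groth.Agent.Lib.Helper5.BiDual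
  Groth.Agent.Lib.Helper5.Coext Groth.Agent.Lib.Helper17.DRingAdj
  Groth.Agent.Lib.Helper5.NormDual Groth.Agent.Lib.Helper5.GorLocus TensorProduct
  Groth.Agent.Lib.Helper5.ExtTrans Groth.Agent.Lib.Helper5.GorRing

section Local

variable {A B : Type u} [CommRing A] [CommRing B] [IsLocalRing A] [IsLocalRing B]
  [IsNoetherianRing A] [IsNoetherianRing B] [Algebra A B] [Module.Flat A B]

theorem gor_closedFibre_of_isDualizing_extD
    [IsLocalRing (B ⧸ (IsLocalRing.maximalIdeal A).map (algebraMap A B))]
    (ω : Dual.D A) (hω : Dual.IsDualizing A ω)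
    (hB : Dual.IsDualizing B ((extD A B).obj ω)) :
    LocCoh.IsGorensteinLocalRing (B ⧸ (IsLocalRing.maximalIdeal A).map (algebraMap A B)) := by
  obtain ⟨T⟩ := nonempty_res ω hω
  have hbb := hasBBRes_of_isDualizing ω hω
  have hlo : ∀ i : ℤ, i < T.a → Subsingleton (Dual.HD B ((extD A B).obj ω) i) := fun i hi =>
    subsingleton_HD_extD B ω i (subsingleton_HD_of_res T i (Or.inl hi))
  obtain ⟨d, hvan0, ⟨eq0⟩⟩ := Groth.Agent.S0364.result A ω hω (IsLocalRing.maximalIdeal A)
  have hvan : ∀ i : ℤ, i ≠ d → Subsingleton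
      (Dual.inD B (B ⧸ (IsLocalRing.maximalIdeal A).map (algebraMap A B)) ⟶
        ((extD A B).obj ω)⟦i⟧) := fun i hi =>
    subsingleton_hom_of_isos (Iso.refl _) (((extD A B).commShiftIso i).app ω)
      (subsingleton_hom_quot_map B (IsLocalRing.maximalIdeal A) (ω⟦i⟧) (hbb.shift i)
        (hvan0 i hi))
  have hd : Nonempty ((Dual.inD B (B ⧸ (IsLocalRing.maximalIdeal A).map (algebraMap A B)) ⟶
      ((extD A B).obj ω)⟦d⟧) ≃ₗ[B]
      (B ⧸ (IsLocalRing.maximalIdeal A).map (algebraMap A B))) :=
    ⟨Linear.homCongr B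
        (((extDInDIso (A := A) (B := B) (A ⧸ IsLocalRing.maximalIdeal A)) ≪≫
          inDIso (Algebra.TensorProduct.quotIdealMapEquivTensorQuot B
            (IsLocalRing.maximalIdeal A)).toLinearEquiv.symm).symm)
        (((extD A B).commShiftIso d).app ω).symm ≪≫ₗ
      (bcEquiv B (pc'_inD_of_finite (A ⧸ IsLocalRing.maximalIdeal A)) (hbb.shift d)).symm ≪≫ₗ
      TensorProduct.AlgebraTensorModule.congr (LinearEquiv.refl B B) eq0 ≪≫ₗ
      (Algebra.TensorProduct.quotIdealMapEquivTensorQuot B
        (IsLocalRing.maximalIdeal A)).toLinearEquiv.symm⟩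
  obtain ⟨eY⟩ := RG_shift_iso_of_ext_quot ((IsLocalRing.maximalIdeal A).map (algebraMap A B))
    ((extD A B).obj ω) T.a hlo d hvan hd
  have h1 : Dual.IsDualizing (B ⧸ (IsLocalRing.maximalIdeal A).map (algebraMap A B))
      ((RG B (B ⧸ (IsLocalRing.maximalIdeal A).map (algebraMap A B))).obj ((extD A B).obj ω)) :=
    isDualizing_rightAdjoint _ (adjD B (B ⧸ (IsLocalRing.maximalIdeal A).map (algebraMap A B)))
      _ hB
  exact gor_of_isDualizing_inD _ (isDualizing_of_iso eY (isDualizing_shift h1 d))

end Local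

section Global

variable {A B : Type u} [CommRing A] [CommRing B] [IsNoetherianRing A] [IsNoetherianRing B]
  [Algebra A B] [Module.Flat A B]

theorem gor_fibLocRing_of_isDualizing_extD (ω : Dual.D A) (hω : Dual.IsDualizing A ω)
    (hB : Dual.IsDualizing B ((extD A B).obj ω)) (Q : Ideal B) [Q.IsPrime] :
    LocCoh.IsGorensteinLocalRing (EGA4.FibLocRing A B Q) := by
  haveI : Q.LiesOver (Q.comap (algebraMap A B)) := ⟨rfl⟩
  letI := Localization.AtPrime.algebraOfLiesOver (Q.comap (algebraMap A B)) Q
  haveI : Module.Flat B (Localization.AtPrime Q) := IsLocalization.flat _ Q.primeCompl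
  haveI hflatA : Module.Flat A (Localization.AtPrime Q) := Module.Flat.trans A B _
  haveI : Module.Flat (Localization.AtPrime (Q.comap (algebraMap A B)))
      (Localization.AtPrime Q) :=
    (Module.flat_iff_of_isLocalization (Localization.AtPrime (Q.comap (algebraMap A B)))
      (Q.comap (algebraMap A B)).primeCompl _).mpr hflatA
  have hmap : (Q.comap (algebraMap A B)).map (algebraMap A (Localization.AtPrime Q)) =
      (IsLocalRing.maximalIdeal (Localization.AtPrime (Q.comap (algebraMap A B)))).map
        (algebraMap (Localization.AtPrime (Q.comap (algebraMap A B)))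
          (Localization.AtPrime Q)) := by
    rw [← IsLocalization.AtPrime.map_eq_maximalIdeal (Q.comap (algebraMap A B))
      (Localization.AtPrime (Q.comap (algebraMap A B))), Ideal.map_map,
      ← IsScalarTower.algebraMap_eq]
  obtain ⟨e1⟩ := extD_trans A B (Localization.AtPrime Q) ω
  obtain ⟨e2⟩ := extD_trans A (Localization.AtPrime (Q.comap (algebraMap A B)))
    (Localization.AtPrime Q) ω
  have hωp := Groth.Agent.Lib.Helper5.LocD.isDualizing_extD
    (Q.comap (algebraMap A B)).primeCompl
    (Localization.AtPrime (Q.comap (algebraMap A B))) ω hω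
  have hωQ := Groth.Agent.Lib.Helper5.LocD.isDualizing_extD Q.primeCompl
    (Localization.AtPrime Q) _ hB
  haveI : IsNoetherianRing (Localization.AtPrime Q) := hωQ.isNoetherianRing
  haveI : IsNoetherianRing (Localization.AtPrime (Q.comap (algebraMap A B))) :=
    hωp.isNoetherianRing
  haveI hlr : IsLocalRing (EGA4.FibLocRing A B Q) :=
    Groth.Agent.Lib.Helper28.isLocalRing_fibLocRing (A := A) Q
  haveI : IsLocalRing (Localization.AtPrime Q ⧸
      (IsLocalRing.maximalIdeal (Localization.AtPrime (Q.comap (algebraMap A B)))).map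
        (algebraMap (Localization.AtPrime (Q.comap (algebraMap A B)))
          (Localization.AtPrime Q))) :=
    (Ideal.quotEquivOfEq hmap).isLocalRing
  haveI := gor_closedFibre_of_isDualizing_extD
    (A := Localization.AtPrime (Q.comap (algebraMap A B))) (B := Localization.AtPrime Q) _ hωp
    (isDualizing_of_iso (e1.symm ≪≫ e2) hωQ)
  exact gorLocal_of_ringEquiv (Ideal.quotEquivOfEq hmap.symm)

theorem gor_fiber_of_isDualizing_extD (ω : Dual.D A) (hω : Dual.IsDualizing A ω)
    (hB : Dual.IsDualizing B ((extD A B).obj ω)) (p : Ideal A) [p.IsPrime] :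
    LocCoh.IsGorensteinRing (p.Fiber B) :=
  forall_gor_fiber_iff.mpr (fun Q _ => gor_fibLocRing_of_isDualizing_extD ω hω hB Q) p

end Global

section Cpl

variable (A : Type u) [CommRing A] [IsLocalRing A] [IsNoetherianRing A]

theorem isDualizing_extD_cpl (ω : Dual.D A) (hω : Dual.IsDualizing A ω) :
    haveI : IsNoetherianRing (EGA4.Cpl A) :=
      Groth.Agent.Lib.Helper19.isNoetherianRing_adicCompletion (IsLocalRing.maximalIdeal A)
    Dual.IsDualizing (EGA4.Cpl A) ((extD A (EGA4.Cpl A)).obj ω) := by
  haveI : IsNoetherianRing (EGA4.Cpl A) :=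
    Groth.Agent.Lib.Helper19.isNoetherianRing_adicCompletion (IsLocalRing.maximalIdeal A)
  have hm : (IsLocalRing.maximalIdeal A).map (algebraMap A (EGA4.Cpl A)) =
      IsLocalRing.maximalIdeal (EGA4.Cpl A) :=
    (AdicCompletion.maximalIdeal_eq_map (R := A)).symm
  letI : Field (EGA4.Cpl A ⧸ IsLocalRing.maximalIdeal (EGA4.Cpl A)) := Ideal.Quotient.field _
  haveI := gorLocal_of_field (EGA4.Cpl A ⧸ IsLocalRing.maximalIdeal (EGA4.Cpl A))
  have hF : LocCoh.IsGorensteinLocalRing
      (EGA4.Cpl A ⧸ (IsLocalRing.maximalIdeal A).map (algebraMap A (EGA4.Cpl A))) :=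
    gorLocal_of_ringEquiv (Ideal.quotEquivOfEq hm.symm)
  exact isDualizing_extD_of_gor_closedFibre hF ω hω

theorem gor_formalFibre (ω : Dual.D A) (hω : Dual.IsDualizing A ω) (p : Ideal A) [p.IsPrime] :
    LocCoh.IsGorensteinRing (EGA4.formalFibre A p) := by
  haveI : IsNoetherianRing (EGA4.Cpl A) :=
    Groth.Agent.Lib.Helper19.isNoetherianRing_adicCompletion (IsLocalRing.maximalIdeal A)
  exact gor_fiber_of_isDualizing_extD ω hω (isDualizing_extD_cpl A ω hω) p

end Cpl

end Groth.Agent.Lib.Helper5.GorFib
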