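import Mathlib
import Groth.Agent.S1880
import Groth.Agent.S7461
import Groth.Agent.Lib.Helper5RelCMOpen
import Groth.Agent.Lib.Helper5GrpCM
import Groth.Agent.Lib.Helper5CMAffSp
import Groth.Agent.Lib.Helper5FiberBC
import Groth.Prelude.Def_Grpd

/-!
# The Cohen–Macaulay locus of a flat groupoid scheme (helper5)

For a groupoid scheme `(U, R, s, t, c)` with `s`, `t` flat and locally of finite presentation, the
locus of `R` where `s` is Cohen–Macaulay is `t⁻¹(U')` for the open `U' = e⁻¹(CM locus of s)`.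

* `grpd_isCMAt_iff`: `Grpd.IsCMAt ↔ MoreMor.IsCMAt`.
* `cmS_iff`: `s` has Cohen–Macaulay fibre ring at `r` iff it has at `e (t r)`.
* `exists_cm_point`: a flat morphism locally of finite type is Cohen–Macaulay at some point of
  every nonempty fibre.
* `exists_open_cm_locus`: the statement.
-/

set_option autoImplicit false
set_option linter.style.haveILetI false
universe u

open CategoryTheory CategoryTheory.Limits AlgebraicGeometry

namespace Groth.Agent.Lib.Helper5.GrpdCM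

open Groth.Agent.Lib.Helper5.FiberMor Groth.Agent.Lib.Helper5.FiberStalk
  Groth.Agent.Lib.Helper5.RelCMOpen Groth.Agent.Lib.Helper5.GrpCM
  Groth.Agent.Lib.Helper5.CMAffSp Groth.Agent.Lib.Helper5.FiberBC LocCoh

theorem grpd_isCMAt_iff {X Y : Scheme.{u}} (f : X ⟶ Y) (x : X) :
    Grpd.IsCMAt f x ↔ MoreMor.IsCMAt f x :=
  and_congr Iff.rfl (fiber_stalk_iff f x isoInv_cm).symm

/-- a flat morphism locally of finite type is Cohen–Macaulay at some point of each nonempty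
fibre. -/
theorem exists_cm_point {X Y : Scheme.{u}} (f : X ⟶ Y) [Flat f] [LocallyOfFiniteType f] (y : Y)
    (x₀ : X) (hx₀ : f x₀ = y) : ∃ x : X, f x = y ∧ MoreMor.IsCMAt f x := by
  haveI : IsLocallyNoetherian (f.fiber y) := isLocallyNoetherian_fiber f y
  have hx₀' : x₀ ∈ Set.range (f.fiberι y) := by
    rw [Scheme.Hom.range_fiberι]; exact hx₀
  obtain ⟨z₀, -⟩ := hx₀'
  haveI : Nonempty (f.fiber y) := ⟨z₀⟩
  obtain ⟨z, hz⟩ := (dense_cmLocus (f.fiber y)).nonempty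
  have hfz : f (f.fiberι y z) = y := by
    have h1 : f.fiberι y z ∈ Set.range (f.fiberι y) := ⟨z, rfl⟩
    rw [Scheme.Hom.range_fiberι] at h1
    exact h1
  refine ⟨f.fiberι y z, hfz, Flat.stalkMap _ _, ?_⟩
  obtain ⟨e⟩ := fiber_stalk_transport f hfz.symm z (f.asFiber (f.fiberι y z))
    (Scheme.Hom.fiberι_asFiber _ _).symm
  exact isoInv_cm _ _ e hz

variable {S : Scheme.{u}} (G : Grpd.GroupoidScheme S)

/-- the section `r ↦ (e (t r), r)` of the composition. -/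
noncomputable def σ : G.R ⟶ pullback G.s G.t :=
  pullback.lift (𝟙 G.R ≫ G.t ≫ G.e) (𝟙 G.R)
    (by rw [Category.assoc, Category.assoc, G.e_s, Category.comp_id])

theorem σ_fst : σ G ≫ pullback.fst G.s G.t = G.t ≫ G.e := by
  unfold σ
  rw [pullback.lift_fst, Category.id_comp]

theorem σ_c : σ G ≫ G.c = 𝟙 G.R := G.e_comp (𝟙 G.R)

theorem cmS_iff [LocallyOfFiniteType G.s] (r : G.R) :
    IsCohenMacaulayLocalRing ((G.s.fiber (G.s r)).presheaf.stalk (G.s.asFiber r)) ↔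
      IsCohenMacaulayLocalRing ((G.s.fiber (G.s (G.e (G.t r)))).presheaf.stalk
        (G.s.asFiber (G.e (G.t r)))) := by
  have hA : IsPullback (pullback.fst G.s G.t) (pullback.snd G.s G.t) G.s G.t :=
    IsPullback.of_hasPullback _ _
  have hB := Groth.Agent.S1880.isPullback_c G
  have h1 := cm_fiber_bc_iff hA (σ G r) (G.e (G.t r))
    (by rw [← Scheme.Hom.comp_apply, σ_fst, Scheme.Hom.comp_apply])
  have h2 := cm_fiber_bc_iff hB (σ G r) r (by rw [← Scheme.Hom.comp_apply, σ_c]; rfl)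
  exact h2.symm.trans h1

theorem exists_open_cm_locus [Flat G.s] [LocallyOfFinitePresentation G.s] [Flat G.t]
    [LocallyOfFinitePresentation G.t] :
    ∃ U' : G.U.Opens, (G.t ⁻¹ᵁ U' : Set G.R) = {r | Grpd.IsCMAt G.s r} ∧
      (G.s ⁻¹ᵁ U' : Set G.R) = {r | Grpd.IsCMAt G.t r} ∧
      ⇑G.t '' (G.s ⁻¹ᵁ U' : Set G.R) = Set.univ ∧ ⇑G.s '' (G.t ⁻¹ᵁ U' : Set G.R) = Set.univ := by
  haveI : LocallyOfFiniteType G.s := inferInstance
  haveI : LocallyOfFiniteType G.t := inferInstance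
  obtain ⟨W, hWdef⟩ : ∃ W : G.R.Opens, (W : Set G.R) = {r | MoreMor.IsCMAt G.s r} :=
    ⟨⟨_, isOpen_isCMAt G.s⟩, rfl⟩
  have hmemW : ∀ r, r ∈ W ↔ MoreMor.IsCMAt G.s r := fun r => by
    have : r ∈ (W : Set G.R) ↔ r ∈ {r | MoreMor.IsCMAt G.s r} := by rw [hWdef]
    exact this
  have hW : ∀ r, MoreMor.IsCMAt G.s r ↔ G.t r ∈ G.e ⁻¹ᵁ W := by
    intro r
    have h0 : G.t r ∈ G.e ⁻¹ᵁ W ↔ MoreMor.IsCMAt G.s (G.e (G.t r)) := hmemW _
    rw [h0]
    exact and_congr (iff_of_true (Flat.stalkMap _ _) (Flat.stalkMap _ _)) (cmS_iff G r)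
  have hT : ∀ r, MoreMor.IsCMAt G.t r ↔ G.s r ∈ G.e ⁻¹ᵁ W := by
    intro r
    haveI : IsIso G.i := ⟨G.i, Groth.Agent.S7461.i_i G, Groth.Agent.S7461.i_i G⟩
    have h1 : MoreMor.IsCMAt (G.i ≫ G.s) r ↔ MoreMor.IsCMAt G.s (G.i r) :=
      isCMAt_comp_openImmersion_iff G.s G.i r
    rw [G.i_s] at h1
    rw [h1, hW (G.i r), ← Scheme.Hom.comp_apply, G.i_t]
  refine ⟨G.e ⁻¹ᵁ W, ?_, ?_, ?_, ?_⟩
  · ext r
    exact ((grpd_isCMAt_iff G.s r).trans (hW r)).symm
  · ext r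
    exact ((grpd_isCMAt_iff G.t r).trans (hT r)).symm
  · rw [Set.eq_univ_iff_forall]
    intro u
    obtain ⟨r, hr1, hr2⟩ := exists_cm_point G.t u (G.e u)
      (by rw [← Scheme.Hom.comp_apply, G.e_t]; rfl)
    exact ⟨r, (hT r).mp hr2, hr1⟩
  · rw [Set.eq_univ_iff_forall]
    intro u
    obtain ⟨r, hr1, hr2⟩ := exists_cm_point G.s u (G.e u)
      (by rw [← Scheme.Hom.comp_apply, G.e_s]; rfl)
    exact ⟨r, (hW r).mp hr2, hr1⟩

end Groth.Agent.Lib.Helper5.GrpdCM
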