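import Mathlib
import Groth.Agent.S1880
import Groth.Agent.S7461
import Groth.Agent.Lib.Helper5FibSmConstr
import Groth.Agent.Lib.Helper5GrpdCM
import Groth.Prelude.Def_Grpd

/-!
# Smoothness of groupoids over a perfect field (helper5)

* `smS_iff`: for a groupoid scheme with `s`, `t` flat, `s` is smooth at `r` iff at `e (t r)`.
* `smooth_st_of_perfect_reduced`: a groupoid scheme on the spectrum of a perfect field with `s`,
  `t` locally of finite type and `R` reduced has `s`, `t` smooth.
-/

set_option autoImplicit false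
set_option linter.style.haveILetI false
universe u

open CategoryTheory CategoryTheory.Limits AlgebraicGeometry

namespace Groth.Agent.Lib.Helper5.GrpdSm

open Groth.Agent.Lib.Helper5.GrpdCM Groth.Agent.Lib.Helper5.FibSmConstr

variable {S : Scheme.{u}} (G : Grpd.GroupoidScheme S)

theorem smS_iff [LocallyOfFinitePresentation G.s] [Flat G.s] [Flat G.t] (r : G.R) :
    (G.s.stalkMap r).hom.FormallySmooth ↔ (G.s.stalkMap (G.e (G.t r))).hom.FormallySmooth := by
  have hA : IsPullback (pullback.fst G.s G.t) (pullback.snd G.s G.t) G.s G.t :=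
    IsPullback.of_hasPullback _ _
  have hB := Groth.Agent.S1880.isPullback_c G
  have h1 := formallySmooth_stalkMap_iff_of_isPullback hA (σ G r)
  have h2 := formallySmooth_stalkMap_iff_of_isPullback hB (σ G r)
  have e1 : pullback.fst G.s G.t (σ G r) = G.e (G.t r) := by
    rw [← Scheme.Hom.comp_apply, σ_fst, Scheme.Hom.comp_apply]
  have e2 : G.c (σ G r) = r := by
    rw [← Scheme.Hom.comp_apply, σ_c]; rfl
  rw [e1] at h1
  rw [e2] at h2
  exact h2.symm.trans h1

theorem smooth_st_of_perfect_reduced (k : Type u) [Field k] [PerfectField k]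
    (eU : G.U ≅ Spec (CommRingCat.of k)) [LocallyOfFiniteType G.s] [LocallyOfFiniteType G.t]
    [IsReduced G.R] : Smooth G.s ∧ Smooth G.t := by
  haveI hUn : Nonempty G.U := ⟨eU.inv (IsLocalRing.closedPoint k)⟩
  haveI hUi : AlgebraicGeometry.IsIntegral G.U := isIntegral_of_isOpenImmersion eU.hom
  haveI hUs : Subsingleton G.U := eU.hom.homeomorph.subsingleton
  haveI : IsLocallyNoetherian G.U := isLocallyNoetherian_of_isOpenImmersion eU.hom
  haveI : LocallyOfFinitePresentation G.s :=
    LocallyOfFinitePresentation.iff_locallyOfFiniteType.mpr inferInstance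
  haveI : LocallyOfFinitePresentation G.t :=
    LocallyOfFinitePresentation.iff_locallyOfFiniteType.mpr inferInstance
  haveI : Flat G.s := inferInstance
  haveI : Flat G.t := inferInstance
  haveI : LocallyOfFinitePresentation (G.s ≫ eU.hom) := inferInstance
  have hdense := (G.s ≫ eU.hom).dense_smoothLocus_of_perfectField
  haveI : Nonempty G.R := ⟨G.e (eU.inv (IsLocalRing.closedPoint k))⟩
  obtain ⟨r₀, hr₀⟩ := hdense.nonempty
  have hr₀' : (G.s.stalkMap r₀).hom.FormallySmooth := by
    have h : ((G.s ≫ eU.hom).stalkMap r₀).hom.FormallySmooth := hr₀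
    rw [Scheme.Hom.stalkMap_comp] at h
    exact (RingHom.FormallySmooth.respectsIso.cancel_left_isIso _ _).mp h
  have hall : ∀ r, (G.s.stalkMap r).hom.FormallySmooth := by
    intro r
    rw [smS_iff G r, Subsingleton.elim (G.t r) (G.t r₀), ← smS_iff G r₀]
    exact hr₀'
  haveI hs : Smooth G.s := by
    rw [← Scheme.Hom.smoothLocus_eq_top_iff]
    exact top_le_iff.mp fun r _ => hall r
  refine ⟨hs, ?_⟩
  haveI : IsIso G.i := ⟨G.i, Groth.Agent.S7461.i_i G, Groth.Agent.S7461.i_i G⟩
  rw [← G.i_s]
  infer_instance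

end Groth.Agent.Lib.Helper5.GrpdSm
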