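import Mathlib
import Groth.Agent.Lib.Helper25Cartier
import Groth.Agent.Lib.Helper5GrpdSm
import Groth.Prelude.Def_Grpd

/-!
# Cartier's theorem for groupoid schemes on the spectrum of a field (helper5)

* `exists_derivation_of_grpd`: for a groupoid scheme on `U = Spec K` and an affine open
  neighbourhood `Spec B` of the identity point of `R`, every tangent vector at the identity
  (relative to `s`) extends to a `K`-derivation of `B` (left translation by the dual-number point).
* `exists_reduced_nhd`: in characteristic zero the identity point has a reduced open neighbourhood.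
* `smooth_st_of_charZero`: `s` and `t` are smooth.
-/

set_option autoImplicit false
set_option linter.style.haveILetI false
universe u

open CategoryTheory CategoryTheory.Limits AlgebraicGeometry TrivSqZeroExt

namespace Groth.Agent.Lib.Helper5.GrpdCartier

open Groth.Agent.Lib.Helper25.Cart

/-- Dual numbers are functorial for ring maps. -/
def epsRingMap {R R' : Type*} [CommRing R] [CommRing R'] (f : R →+* R') : Eps R →+* Eps R' where
  toFun z := inl (f z.fst) + inr (f z.snd)
  map_one' := by ext <;> simp
  map_mul' x y := by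
    ext <;> simp [mul_comm]
  map_zero' := by ext <;> simp
  map_add' x y := by
    ext <;> simp

@[simp] theorem fst_epsRingMap {R R' : Type*} [CommRing R] [CommRing R'] (f : R →+* R')
    (z : Eps R) : (epsRingMap f z).fst = f z.fst := by
  simp [epsRingMap]

@[simp] theorem snd_epsRingMap {R R' : Type*} [CommRing R] [CommRing R'] (f : R →+* R')
    (z : Eps R) : (epsRingMap f z).snd = f z.snd := by
  simp [epsRingMap]

section Der

variable {S : Scheme.{u}} (G : Grpd.GroupoidScheme S) {K : Type u} [Field K]
  (eU : G.U ≅ Spec (CommRingCat.of K))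
variable {B : Type u} [CommRing B] [Algebra K B]
variable (i : Spec (CommRingCat.of B) ⟶ G.R) [IsOpenImmersion i]
variable (hi : i ≫ G.s ≫ eU.hom = Spec.map (CommRingCat.ofHom (algebraMap K B)))
variable (e : B →ₐ[K] K)
variable (he : Spec.map (CommRingCat.ofHom (e : B →+* K)) ≫ i = eU.inv ≫ G.e)

theorem lift_c_congr {T : Scheme.{u}} (α α' β β' : T ⟶ G.R) (h : α ≫ G.s = β ≫ G.t)
    (h' : α' ≫ G.s = β' ≫ G.t) (hα : α = α') (hβ : β = β') :
    pullback.lift α β h ≫ G.c = pullback.lift α' β' h' ≫ G.c := by
  subst hα hβ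
  rfl

theorem comp_lift_c {T T' : Scheme.{u}} (f : T' ⟶ T) (α β : T ⟶ G.R) (h : α ≫ G.s = β ≫ G.t) :
    f ≫ pullback.lift α β h ≫ G.c =
      pullback.lift (f ≫ α) (f ≫ β) (by rw [Category.assoc, Category.assoc, h]) ≫ G.c := by
  rw [← Category.assoc]
  congr 1
  apply pullback.hom_ext
  · rw [Category.assoc, pullback.lift_fst, pullback.lift_fst]
  · rw [Category.assoc, pullback.lift_snd, pullback.lift_snd]

include hi he in
/-- Tangent vectors (relative to `s`) at the identity point of a groupoid scheme on the spectrum of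
a field extend to vector fields on an affine neighbourhood. -/
theorem exists_derivation_of_grpd (ξ : B →ₗ[K] K) (hξ : IsPtDer e ξ) :
    ∃ D : Derivation K B B, ∀ b, e (D b) = ξ b := by
  -- the second algebra structure, through `t`
  set ψt₀ : CommRingCat.of K ⟶ CommRingCat.of B := Spec.preimage (i ≫ G.t ≫ eU.hom) with hψt₀
  have hψt₀' : Spec.map ψt₀ = i ≫ G.t ≫ eU.hom := Spec.map_preimage _
  set ψt : K →+* B := ψt₀.hom with hψt
  have hψt' : Spec.map (CommRingCat.ofHom ψt) = i ≫ G.t ≫ eU.hom := hψt₀'
  have his : i ≫ G.s = Spec.map (CommRingCat.ofHom (algebraMap K B)) ≫ eU.inv := by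
    rw [← hi, Category.assoc, Category.assoc, eU.hom_inv_id, Category.comp_id]
  have hit : i ≫ G.t = Spec.map (CommRingCat.ofHom ψt) ≫ eU.inv := by
    rw [hψt', Category.assoc, Category.assoc, eU.hom_inv_id, Category.comp_id]
  have heψ : ∀ k : K, e (ψt k) = k := by
    have h1 : CommRingCat.ofHom ψt ≫ CommRingCat.ofHom (e : B →+* K) = 𝟙 _ := by
      apply Spec.map_injective
      rw [Spec.map_comp, hψt', ← Category.assoc, he, Spec.map_id, Category.assoc,
        ← Category.assoc G.e, G.e_t, Category.id_comp, eU.inv_hom_id]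
    intro k
    have := congrArg (fun f => f.hom k) h1
    simpa using this
  set τ := tauHom e ξ hξ with hτ
  set inc : B →+* Eps B := inlHom B B with hinc
  set jB : Eps K →+* Eps B := epsRingMap ψt with hjB
  set pr : Eps B →+* B := ((fstHom K B B : Eps B →ₐ[K] B) : Eps B →+* B) with hpr
  set a : Spec (CommRingCat.of (Eps B)) ⟶ G.R :=
    Spec.map (CommRingCat.ofHom jB) ≫ Spec.map (CommRingCat.ofHom (τ : B →+* Eps K)) ≫ i with ha
  set b : Spec (CommRingCat.of (Eps B)) ⟶ G.R := Spec.map (CommRingCat.ofHom inc) ≫ i with hb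
  have hab : a ≫ G.s = b ≫ G.t := by
    have h1 : CommRingCat.ofHom (algebraMap K B) ≫ CommRingCat.ofHom (τ : B →+* Eps K) ≫
        CommRingCat.ofHom jB = CommRingCat.ofHom ψt ≫ CommRingCat.ofHom inc := by
      ext k <;> simp [hjB, hτ, hinc, algebraMap_eq_inl']
    calc a ≫ G.s = Spec.map (CommRingCat.ofHom jB) ≫
          Spec.map (CommRingCat.ofHom (τ : B →+* Eps K)) ≫ (i ≫ G.s) := by
          simp only [ha, Category.assoc]
      _ = Spec.map (CommRingCat.ofHom jB) ≫ Spec.map (CommRingCat.ofHom (τ : B →+* Eps K)) ≫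
          Spec.map (CommRingCat.ofHom (algebraMap K B)) ≫ eU.inv := by rw [his]
      _ = Spec.map (CommRingCat.ofHom (algebraMap K B) ≫ CommRingCat.ofHom (τ : B →+* Eps K) ≫
          CommRingCat.ofHom jB) ≫ eU.inv := by simp only [Spec.map_comp, Category.assoc]
      _ = Spec.map (CommRingCat.ofHom ψt ≫ CommRingCat.ofHom inc) ≫ eU.inv := by rw [h1]
      _ = Spec.map (CommRingCat.ofHom inc) ≫ (i ≫ G.t) := by
          rw [hit, Spec.map_comp, Category.assoc]
      _ = b ≫ G.t := by simp only [hb, Category.assoc]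
  set v : Spec (CommRingCat.of (Eps B)) ⟶ G.R := pullback.lift a b hab ≫ G.c with hv
  -- restriction of `v` along `ε ↦ 0` is `i`
  have hprv : Spec.map (CommRingCat.ofHom pr) ≫ v = i := by
    have h1 : Spec.map (CommRingCat.ofHom pr) ≫ a = i ≫ G.t ≫ G.e := by
      have h2 : CommRingCat.ofHom (τ : B →+* Eps K) ≫ CommRingCat.ofHom jB ≫
          CommRingCat.ofHom pr = CommRingCat.ofHom (e : B →+* K) ≫ CommRingCat.ofHom ψt := by
        ext x
        simp [hjB, hτ, hpr]
      calc Spec.map (CommRingCat.ofHom pr) ≫ a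
          = Spec.map (CommRingCat.ofHom (τ : B →+* Eps K) ≫ CommRingCat.ofHom jB ≫
            CommRingCat.ofHom pr) ≫ i := by simp only [ha, Spec.map_comp, Category.assoc]
        _ = Spec.map (CommRingCat.ofHom ψt) ≫ Spec.map (CommRingCat.ofHom (e : B →+* K)) ≫ i := by
            rw [h2, Spec.map_comp, Category.assoc]
        _ = i ≫ G.t ≫ G.e := by
            rw [he, hψt']
            simp only [Category.assoc, Iso.hom_inv_id_assoc]
    have h3 : Spec.map (CommRingCat.ofHom pr) ≫ b = i := by
      have h4 : CommRingCat.ofHom inc ≫ CommRingCat.ofHom pr = 𝟙 _ := by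
        ext x
        simp [hinc, hpr]
      rw [hb, ← Category.assoc, ← Spec.map_comp, h4, Spec.map_id, Category.id_comp]
    rw [hv, comp_lift_c]
    rw [lift_c_congr G _ (i ≫ G.t ≫ G.e) _ i _
      (by rw [Category.assoc, Category.assoc, G.e_s, Category.comp_id]) h1 h3]
    exact G.e_comp i
  -- `v` factors through the open immersion
  have hrange : Set.range v.base ⊆ Set.range i.base := by
    rintro _ ⟨z, rfl⟩
    obtain ⟨w, rfl⟩ := spec_fst_surjective (K := K) (B := B) z
    have h3 := congrArg (fun f : Spec (CommRingCat.of B) ⟶ G.R => f.base w) hprv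
    exact ⟨w, h3.symm⟩
  let lft := IsOpenImmersion.lift i v hrange
  have hlft : lft ≫ i = v := IsOpenImmersion.lift_fac _ _ _
  set φ₀ : CommRingCat.of B ⟶ CommRingCat.of (Eps B) := Spec.preimage lft with hφ₀
  have hφ₀' : Spec.map φ₀ = lft := Spec.map_preimage _
  have halg : CommRingCat.ofHom (algebraMap K B) ≫ φ₀ =
      CommRingCat.ofHom (algebraMap K (Eps B)) := by
    apply Spec.map_injective
    rw [Spec.map_comp, hφ₀', ← hi, ← Category.assoc, hlft, hv]
    rw [← Category.assoc, G.comp_s a b hab, hb, Category.assoc, Category.assoc, hi,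
      ← Spec.map_comp, ← CommRingCat.ofHom_comp]
  let φ : B →ₐ[K] Eps B :=
    { φ₀.hom with
      commutes' := fun r => by
        have := congrArg (fun f => f.hom r) halg
        simpa using this }
  have hφfst : ∀ x, (φ x).fst = x := by
    have h1 : φ₀ ≫ CommRingCat.ofHom pr = 𝟙 _ := by
      apply Spec.map_injective
      rw [Spec.map_comp, hφ₀', Spec.map_id]
      rw [← cancel_mono i, Category.assoc, hlft, Category.id_comp]
      exact hprv
    intro x
    have := congrArg (fun f => f.hom x) h1
    simp only [CommRingCat.hom_comp, CommRingCat.hom_ofHom, RingHom.coe_comp, Function.comp_apply,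
      CommRingCat.hom_id, RingHom.id_apply] at this
    exact this
  have hφe : ∀ x, epsMap e (φ x) = τ x := by
    have hev : Spec.map (CommRingCat.ofHom ((epsMap e : Eps B →ₐ[K] Eps K) : Eps B →+* Eps K)) ≫ v
        = Spec.map (CommRingCat.ofHom (τ : B →+* Eps K)) ≫ i := by
      set α := Spec.map (CommRingCat.ofHom (τ : B →+* Eps K)) ≫ i with hα
      have h1 : Spec.map (CommRingCat.ofHom ((epsMap e : Eps B →ₐ[K] Eps K) : Eps B →+* Eps K)) ≫ a
          = α := by
        have h2 : CommRingCat.ofHom jB ≫
            CommRingCat.ofHom ((epsMap e : Eps B →ₐ[K] Eps K) : Eps B →+* Eps K) = 𝟙 _ := by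
          ext x <;> simp [hjB, heψ]
        rw [ha, ← Category.assoc, ← Spec.map_comp, h2, Spec.map_id, Category.id_comp]
      have h3 : Spec.map (CommRingCat.ofHom ((epsMap e : Eps B →ₐ[K] Eps K) : Eps B →+* Eps K)) ≫ b
          = α ≫ G.s ≫ G.e := by
        have h4 : CommRingCat.ofHom inc ≫
            CommRingCat.ofHom ((epsMap e : Eps B →ₐ[K] Eps K) : Eps B →+* Eps K) =
            CommRingCat.ofHom (e : B →+* K) ≫ CommRingCat.ofHom (algebraMap K (Eps K)) := by
          ext x <;> simp [hinc, algebraMap_eq_inl']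
        have h5 : CommRingCat.ofHom (algebraMap K B) ≫ CommRingCat.ofHom (τ : B →+* Eps K) =
            CommRingCat.ofHom (algebraMap K (Eps K)) := by
          ext x <;> simp [hτ, algebraMap_eq_inl']
        calc Spec.map (CommRingCat.ofHom ((epsMap e : Eps B →ₐ[K] Eps K) : Eps B →+* Eps K)) ≫ b
            = Spec.map (CommRingCat.ofHom inc ≫
              CommRingCat.ofHom ((epsMap e : Eps B →ₐ[K] Eps K) : Eps B →+* Eps K)) ≫ i := by
              simp only [hb, Spec.map_comp, Category.assoc]
          _ = Spec.map (CommRingCat.ofHom (algebraMap K (Eps K))) ≫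
              Spec.map (CommRingCat.ofHom (e : B →+* K)) ≫ i := by
              rw [h4, Spec.map_comp, Category.assoc]
          _ = Spec.map (CommRingCat.ofHom (algebraMap K (Eps K))) ≫ eU.inv ≫ G.e := by rw [he]
          _ = Spec.map (CommRingCat.ofHom (algebraMap K B) ≫
              CommRingCat.ofHom (τ : B →+* Eps K)) ≫ eU.inv ≫ G.e := by rw [h5]
          _ = Spec.map (CommRingCat.ofHom (τ : B →+* Eps K)) ≫ (i ≫ G.s) ≫ G.e := by
              rw [his, Spec.map_comp]
              simp only [Category.assoc]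
          _ = α ≫ G.s ≫ G.e := by simp only [hα, Category.assoc]
      rw [hv, comp_lift_c]
      rw [lift_c_congr G _ α _ (α ≫ G.s ≫ G.e) _
        (by simp only [Category.assoc, G.e_t, Category.comp_id]) h1 h3]
      exact G.comp_e α
    have h3 : φ₀ ≫ CommRingCat.ofHom ((epsMap e : Eps B →ₐ[K] Eps K) : Eps B →+* Eps K) =
        CommRingCat.ofHom (τ : B →+* Eps K) := by
      apply Spec.map_injective
      rw [Spec.map_comp, hφ₀', ← cancel_mono i, Category.assoc, hlft]
      exact hev
    intro x
    have := congrArg (fun f => f.hom x) h3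
    simp only [CommRingCat.hom_comp, CommRingCat.hom_ofHom, RingHom.coe_comp,
      Function.comp_apply] at this
    exact this
  refine ⟨derOfHom φ hφfst, fun x => ?_⟩
  rw [derOfHom_apply]
  have := congrArg TrivSqZeroExt.snd (hφe x)
  simpa [hτ] using this

end Der

section Local

variable {S : Scheme.{u}} (G : Grpd.GroupoidScheme S) {K : Type u} [Field K] [CharZero K]
  (eU : G.U ≅ Spec (CommRingCat.of K)) [LocallyOfFiniteType G.s]

/-- A groupoid scheme on the spectrum of a field of characteristic zero with `s` locally of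
finite type has a reduced open neighbourhood of the identity point of `R`. -/
theorem exists_reduced_nhd :
    ∃ (V : Scheme.{u}) (j : V ⟶ G.R), IsOpenImmersion j ∧ IsReduced V ∧
      (eU.inv ≫ G.e).base (IsLocalRing.closedPoint K) ∈ Set.range j.base := by
  set e₀ : G.R := (eU.inv ≫ G.e).base (IsLocalRing.closedPoint K) with he₀
  obtain ⟨_, ⟨U, hU, rfl⟩, heU, -⟩ :=
    G.R.isBasis_affineOpens.exists_subset_of_mem_open (Set.mem_univ e₀) isOpen_univ
  haveI : IsLocallyNoetherian G.U := isLocallyNoetherian_of_isOpenImmersion eU.hom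
  haveI : IsLocallyNoetherian G.R := LocallyOfFiniteType.isLocallyNoetherian G.s
  haveI : IsNoetherianRing Γ(G.R, U) := IsLocallyNoetherian.component_noetherian ⟨U, hU⟩
  let B : Type u := Γ(G.R, U)
  let i : Spec (CommRingCat.of B) ⟶ G.R := hU.fromSpec
  haveI : IsOpenImmersion i := inferInstanceAs (IsOpenImmersion hU.fromSpec)
  let ψ : CommRingCat.of K ⟶ CommRingCat.of B := Spec.preimage (i ≫ G.s ≫ eU.hom)
  letI : Algebra K B := ψ.hom.toAlgebra
  have hi : i ≫ G.s ≫ eU.hom = Spec.map (CommRingCat.ofHom (algebraMap K B)) := by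
    have : CommRingCat.ofHom (algebraMap K B) = ψ := rfl
    rw [this]
    exact (Spec.map_preimage _).symm
  have hrange : Set.range (eU.inv ≫ G.e).base ⊆ Set.range i.base := by
    rintro _ ⟨x, rfl⟩
    have hx : x = IsLocalRing.closedPoint K :=
      Subsingleton.elim (α := PrimeSpectrum K) _ _
    rw [hx]
    have : Set.range i.base = U := hU.range_fromSpec
    rw [this]
    exact heU
  let l := IsOpenImmersion.lift i (eU.inv ≫ G.e) hrange
  have hl : l ≫ i = eU.inv ≫ G.e := IsOpenImmersion.lift_fac _ _ _
  let e₁ : CommRingCat.of B ⟶ CommRingCat.of K := Spec.preimage l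
  have he₁ : Spec.map e₁ = l := Spec.map_preimage _
  have hcomm : ψ ≫ e₁ = 𝟙 _ := by
    apply Spec.map_injective
    rw [Spec.map_comp, he₁, Spec.map_preimage, ← Category.assoc, hl, Spec.map_id, Category.assoc,
      ← Category.assoc G.e, G.e_s, Category.id_comp, eU.inv_hom_id]
  let e : B →ₐ[K] K :=
    { e₁.hom with
      commutes' := fun r => by
        have := congrArg (fun f => f.hom r) hcomm
        simp only [CommRingCat.hom_comp, RingHom.coe_comp, Function.comp_apply,
          CommRingCat.hom_id, RingHom.id_apply] at this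
        exact this }
  have he : Spec.map (CommRingCat.ofHom (e : B →+* K)) ≫ i = eU.inv ≫ G.e := by
    have : CommRingCat.ofHom (e : B →+* K) = e₁ := rfl
    rw [this, he₁, hl]
  obtain ⟨s, hs1, hs⟩ := exists_annihilator_nilradical e
    (fun ξ hξ => exists_derivation_of_grpd G eU i hi e he ξ hξ)
  have hred := isReduced_away_of_annihilates s hs
  refine ⟨Spec (CommRingCat.of (Localization.Away s)),
    Spec.map (CommRingCat.ofHom (algebraMap B (Localization.Away s))) ≫ i, inferInstance,
    inferInstance, ?_⟩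
  have h1 : e₀ = i.base (l.base (IsLocalRing.closedPoint K)) := by
    rw [he₀, ← hl]
    rfl
  rw [h1]
  have h2 : l.base (IsLocalRing.closedPoint K) ∈
      Set.range (Spec.map (CommRingCat.ofHom (algebraMap B (Localization.Away s)))).base := by
    have h3 : Set.range (Spec.map (CommRingCat.ofHom (algebraMap B (Localization.Away s)))).base =
        (PrimeSpectrum.basicOpen s : Set (PrimeSpectrum B)) :=
      PrimeSpectrum.localization_away_comap_range _ s
    rw [h3, ← he₁]
    change s ∉ (PrimeSpectrum.comap e₁.hom (IsLocalRing.closedPoint K)).asIdeal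
    rw [PrimeSpectrum.comap_asIdeal, Ideal.mem_comap]
    change ¬ (e s ∈ (IsLocalRing.closedPoint K).asIdeal)
    rw [hs1]
    exact (IsLocalRing.closedPoint K).2.one_notMem
  obtain ⟨w, hw⟩ := h2
  refine ⟨w, ?_⟩
  rw [← hw]
  rfl

end Local

open Groth.Agent.Lib.Helper5.GrpdSm in
/-- A groupoid scheme on the spectrum of a field of characteristic zero with `s`, `t` locally of
finite type has `s`, `t` smooth. -/
theorem smooth_st_of_charZero {S : Scheme.{u}} (G : Grpd.GroupoidScheme S) (k : Type u) [Field k]
    [CharZero k] (eU : G.U ≅ Spec (CommRingCat.of k)) [LocallyOfFiniteType G.s]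
    [LocallyOfFiniteType G.t] : Smooth G.s ∧ Smooth G.t := by
  haveI hUn : Nonempty G.U := ⟨eU.inv (IsLocalRing.closedPoint k)⟩
  haveI hUi : AlgebraicGeometry.IsIntegral G.U := isIntegral_of_isOpenImmersion eU.hom
  haveI hUs : Subsingleton G.U := eU.hom.homeomorph.subsingleton
  haveI : IsLocallyNoetherian G.U := isLocallyNoetherian_of_isOpenImmersion eU.hom
  haveI : LocallyOfFinitePresentation G.s :=
    LocallyOfFinitePresentation.iff_locallyOfFiniteType.mpr inferInstance
  haveI : LocallyOfFinitePresentation G.t :=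
    LocallyOfFinitePresentation.iff_locallyOfFiniteType.mpr inferInstance
  haveI : Flat G.s := inferInstance
  haveI : Flat G.t := inferInstance
  obtain ⟨V, j, hj, hV, hjm⟩ := exists_reduced_nhd G eU
  haveI := hj
  haveI := hV
  haveI : LocallyOfFinitePresentation (j ≫ G.s ≫ eU.hom) := inferInstance
  have hdense := (j ≫ G.s ≫ eU.hom).dense_smoothLocus_of_perfectField
  haveI : Nonempty V := by
    obtain ⟨w, -⟩ := hjm
    exact ⟨w⟩
  obtain ⟨w₀, hw₀⟩ := hdense.nonempty
  set r₀ : G.R := j w₀ with hr₀def
  have hr₀' : (G.s.stalkMap r₀).hom.FormallySmooth := by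
    have h : ((j ≫ G.s ≫ eU.hom).stalkMap w₀).hom.FormallySmooth := hw₀
    rw [Scheme.Hom.stalkMap_comp] at h
    have h2 := (RingHom.FormallySmooth.respectsIso.cancel_right_isIso _ _).mp h
    rw [Scheme.Hom.stalkMap_comp] at h2
    exact (RingHom.FormallySmooth.respectsIso.cancel_left_isIso _ _).mp h2
  have hall : ∀ r, (G.s.stalkMap r).hom.FormallySmooth := by
    intro r
    rw [smS_iff G r, Subsingleton.elim (G.t r) (G.t r₀), ← smS_iff G r₀]
    exact hr₀'
  haveI hs : Smooth G.s := by
    rw [← Scheme.Hom.smoothLocus_eq_top_iff]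
    exact top_le_iff.mp fun r _ => hall r
  refine ⟨hs, ?_⟩
  haveI : IsIso G.i := ⟨G.i, Groth.Agent.S7461.i_i G, Groth.Agent.S7461.i_i G⟩
  rw [← G.i_s]
  infer_instance

end Groth.Agent.Lib.Helper5.GrpdCartier
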