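import Groth.Agent.Lib.Helper5Gen

/-!
Images of pro-constructible sets under spectral maps.
-/

set_option autoImplicit false
universe u

namespace Groth.Agent.Lib.Helper5

open Topology AlgebraicGeometry CategoryTheory
open scoped Set.Notation

/-- The image of an intersection of constructible sets under a map between spectral spaces
pulling back constructible sets to constructible sets is the intersection of the constructible
sets containing it. -/
theorem image_sInter_eq_sInter_isConstructible {W' W : Type*} [TopologicalSpace W']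
    [TopologicalSpace W] [CompactSpace W'] [QuasiSober W'] [PrespectralSpace W']
    [QuasiSeparatedSpace W'] [T0Space W] [PrespectralSpace W] [QuasiSeparatedSpace W]
    (g : W' → W) (hg : ∀ C : Set W, IsConstructible C → IsConstructible (g ⁻¹' C))
    (𝒟' : Set (Set W')) (h𝒟' : ∀ D ∈ 𝒟', IsConstructible D) :
    g '' (⋂₀ 𝒟') = ⋂₀ {C : Set W | IsConstructible C ∧ g '' (⋂₀ 𝒟') ⊆ C} := by
  apply subset_antisymm
  · intro y hy C hC
    exact hC.2 hy
  · intro y hy
    let 𝒢 : Set (Set W') := 𝒟' ∪ {D | ∃ C : Set W, IsConstructible C ∧ y ∈ C ∧ D = g ⁻¹' C}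
    have h𝒢 : ∀ D ∈ 𝒢, IsConstructible D := by
      rintro D (hD | ⟨C, hC, -, rfl⟩)
      · exact h𝒟' D hD
      · exact hg C hC
    by_cases hempty : (⋂₀ 𝒢) = ∅
    · exfalso
      obtain ⟨𝒢', h𝒢', 𝒞', h𝒞', hf𝒢, hf𝒞, hsub⟩ :=
        exists_finite_sInter_subset_sUnion 𝒢 ∅ h𝒢 (by simp) (by rw [hempty]; simp)
      have h𝒞'e : 𝒞' = ∅ := Set.subset_empty_iff.mp h𝒞'
      rw [h𝒞'e, Set.sUnion_empty] at hsub
      -- the constructible sets `C` involved
      let 𝒦 : Set (Set W') := {D ∈ 𝒢' | ∃ C : Set W, IsConstructible C ∧ y ∈ C ∧ D = g ⁻¹' C}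
      have h𝒦f : 𝒦.Finite := hf𝒢.subset fun D hD => hD.1
      have hchoice : ∀ D : 𝒦, ∃ C : Set W, IsConstructible C ∧ y ∈ C ∧ D.1 = g ⁻¹' C :=
        fun D => D.2.2
      choose Cf hCf hyCf hDCf using hchoice
      have : Finite 𝒦 := h𝒦f
      let C : Set W := ⋂ D : 𝒦, Cf D
      have hCc : IsConstructible C := IsConstructible.iInter fun D => hCf D
      have hyC : y ∈ C := Set.mem_iInter.mpr fun D => hyCf D
      have hdisj : g '' (⋂₀ 𝒟') ⊆ Cᶜ := by
        rintro _ ⟨z, hz, rfl⟩ hgz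
        apply hsub (a := z)
        intro D hD
        rcases h𝒢' hD with hD' | hD'
        · exact hz D hD'
        · have h1 := Set.mem_iInter.mp hgz ⟨D, hD, hD'⟩
          have h2 : D = g ⁻¹' Cf ⟨D, hD, hD'⟩ := hDCf ⟨D, hD, hD'⟩
          rw [h2]
          exact h1
      exact hy Cᶜ ⟨hCc.compl, hdisj⟩ hyC
    · obtain ⟨z, hz⟩ := Set.nonempty_iff_ne_empty.mpr hempty
      refine ⟨z, fun D hD => hz D (Or.inl hD), ?_⟩
      apply eq_of_forall_isConstructible_mem
      intro C hC hyC
      exact hz _ (Or.inr ⟨C, hC, hyC, rfl⟩)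

end Groth.Agent.Lib.Helper5
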