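import Mathlib
import Groth.Agent.Lib.Helper5SuppDim

/-!
# Injective endomorphisms of one-dimensional modules have cokernels of finite length
-/

set_option autoImplicit false
universe u v

namespace Groth.Agent.Lib.Helper5.InjEndo

open Groth.Agent.Lib.Helper5

section loc

variable {A : Type u} [CommRing A] [IsNoetherianRing A] {M : Type v} [AddCommGroup M] [Module A M]
  [Module.Finite A M]

omit [IsNoetherianRing A] [Module.Finite A M] in
/-- the support of a localized module, seen over the base, is inside the support -/
theorem mem_support_of_mem_support_localizedModule (p : Ideal A) [p.IsPrime]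
    (q : PrimeSpectrum A)
    (hq : q ∈ Module.support A (LocalizedModule p.primeCompl M)) : q ∈ Module.support A M := by
  rw [Module.mem_support_iff'] at hq ⊢
  obtain ⟨z, hz⟩ := hq
  induction z using LocalizedModule.induction_on with
  | h m s =>
    refine ⟨m, fun r hr h0 => hz r hr ?_⟩
    rw [LocalizedModule.smul'_mk, h0, LocalizedModule.zero_mk]

/-- localization at a minimal element of the support has finite length -/
theorem isFiniteLength_localizedModule (p : PrimeSpectrum A)
    (hmin : ∀ q ∈ Module.support A M, q ≤ p → q = p) :
    IsFiniteLength (Localization.AtPrime p.asIdeal) (LocalizedModule p.asIdeal.primeCompl M) := by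
  apply isFiniteLength_of_supportDim_le_zero
  apply supportDim_le_zero_of_forall_isMaximal
  intro q hq
  have h1' : q ∈ PrimeSpectrum.comap (algebraMap A (Localization.AtPrime p.asIdeal)) ⁻¹'
      Module.support A (LocalizedModule p.asIdeal.primeCompl M) :=
    Module.support_subset_preimage_comap hq
  have h1 : PrimeSpectrum.comap (algebraMap A (Localization.AtPrime p.asIdeal)) q ∈
      Module.support A (LocalizedModule p.asIdeal.primeCompl M) := h1'
  have h2 := mem_support_of_mem_support_localizedModule p.asIdeal _ h1
  have hle : PrimeSpectrum.comap (algebraMap A (Localization.AtPrime p.asIdeal)) q ≤ p := by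
    change q.asIdeal.comap (algebraMap A (Localization.AtPrime p.asIdeal)) ≤ p.asIdeal
    have h3 : q.asIdeal ≤ IsLocalRing.maximalIdeal (Localization.AtPrime p.asIdeal) :=
      IsLocalRing.le_maximalIdeal q.2.ne_top
    exact (Ideal.comap_mono h3).trans
      (le_of_eq (IsLocalization.AtPrime.under_maximalIdeal (Localization.AtPrime p.asIdeal)
        p.asIdeal))
  have heq := hmin _ h2 hle
  have heq' : q.asIdeal.under A = p.asIdeal :=
    congrArg PrimeSpectrum.asIdeal heq
  have h4 : q.asIdeal = IsLocalRing.maximalIdeal (Localization.AtPrime p.asIdeal) := by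
    rw [← IsLocalization.map_under p.asIdeal.primeCompl (Localization.AtPrime p.asIdeal) q.asIdeal,
      heq', Localization.AtPrime.map_eq_maximalIdeal]
  rw [h4]
  infer_instance

/-- an injective endomorphism becomes bijective at a minimal point of the support -/
theorem subsingleton_localizedModule_quot (p : PrimeSpectrum A)
    (hmin : ∀ q ∈ Module.support A M, q ≤ p → q = p) (u : M →ₗ[A] M)
    (hu : Function.Injective u) :
    Subsingleton (LocalizedModule p.asIdeal.primeCompl (M ⧸ LinearMap.range u)) := by
  have hfl := isFiniteLength_localizedModule p hmin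
  have hart : IsArtinian (Localization.AtPrime p.asIdeal)
      (LocalizedModule p.asIdeal.primeCompl M) :=
    (isFiniteLength_iff_isNoetherian_isArtinian.1 hfl).2
  have hinj : Function.Injective (LocalizedModule.map p.asIdeal.primeCompl u) :=
    LocalizedModule.map_injective _ _ hu
  have hsurj : Function.Surjective (LocalizedModule.map p.asIdeal.primeCompl u) :=
    IsArtinian.surjective_of_injective_endomorphism _ hinj
  have hex := LocalizedModule.map_exact p.asIdeal.primeCompl u (LinearMap.range u).mkQ
    (LinearMap.exact_map_mkQ_range u)
  have hsq : Function.Surjective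
      (LocalizedModule.map p.asIdeal.primeCompl (LinearMap.range u).mkQ) :=
    LocalizedModule.map_surjective _ _ (Submodule.mkQ_surjective _)
  refine ⟨fun a b => ?_⟩
  have key : ∀ z : LocalizedModule p.asIdeal.primeCompl (M ⧸ LinearMap.range u), z = 0 := by
    intro z
    obtain ⟨w, rfl⟩ := hsq z
    obtain ⟨w', rfl⟩ := hsurj w
    exact (hex _).mpr ⟨w', rfl⟩
  rw [key a, key b]

end loc

section main

variable {A : Type u} [CommRing A] [IsNoetherianRing A] [IsLocalRing A] {M : Type v}
  [AddCommGroup M] [Module A M] [Module.Finite A M]

/-- **Injective endomorphisms of modules of dimension at most one have cokernels of finite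
length.** -/
theorem isFiniteLength_quot_range (hdim : Module.supportDim A M ≤ 1) (u : M →ₗ[A] M)
    (hu : Function.Injective u) : IsFiniteLength A (M ⧸ LinearMap.range u) := by
  apply isFiniteLength_of_supportDim_le_zero
  apply supportDim_le_zero_of_forall_isMaximal
  intro q hq
  by_contra hqmax
  have hqM : q ∈ Module.support A M :=
    Module.support_subset_of_surjective _ (Submodule.mkQ_surjective (LinearMap.range u)) hq
  have hqm : q.asIdeal ≠ IsLocalRing.maximalIdeal A := fun h => hqmax (h ▸ inferInstance)
  have hlt : q < IsLocalRing.closedPoint A :=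
    lt_of_le_of_ne (IsLocalRing.le_maximalIdeal q.2.ne_top)
      (fun h => hqm (congrArg PrimeSpectrum.asIdeal h))
  have hmM : IsLocalRing.closedPoint A ∈ Module.support A M :=
    Module.mem_support_mono hlt.le hqM
  have hmin : ∀ q0 ∈ Module.support A M, q0 ≤ q → q0 = q := by
    intro q0 hq0 hle
    by_contra hne
    have hlt0 : q0 < q := lt_of_le_of_ne hle hne
    have h1 : Order.height (⟨q0, hq0⟩ : Module.support A M) + 1 ≤
        Order.height (⟨q, hqM⟩ : Module.support A M) := Order.height_add_one_le hlt0
    have h2 : Order.height (⟨q, hqM⟩ : Module.support A M) + 1 ≤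
        Order.height (⟨IsLocalRing.closedPoint A, hmM⟩ : Module.support A M) :=
      Order.height_add_one_le hlt
    have h3 : (Order.height (⟨IsLocalRing.closedPoint A, hmM⟩ : Module.support A M) :
        WithBot ℕ∞) ≤ 1 := (Order.height_le_krullDim _).trans hdim
    have h4 : Order.height (⟨IsLocalRing.closedPoint A, hmM⟩ : Module.support A M) ≤ 1 := by
      exact_mod_cast h3
    have h5 : (1 : ℕ∞) + 1 ≤ 1 :=
      (add_le_add ((le_add_self).trans h1) le_rfl).trans (h2.trans h4)
    exact absurd h5 (by decide)
  have hsub := subsingleton_localizedModule_quot q hmin u hu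
  rw [Module.mem_support_iff] at hq
  exact not_subsingleton _ hsub

end main

end Groth.Agent.Lib.Helper5.InjEndo
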