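import Mathlib
import Groth.Agent.Lib.Helper5InjFlat
import Groth.Agent.Lib.Helper5FinFlat

/-!
# Flatness criteria for ideally separated modules (helper5)

* `flat_quotient_of_flat_of_forall_mem`: flatness of `M/LM` over `A/L` from flatness of `M/JM`
  over `A/J` (with `J` nilpotent modulo `L`) and flatness after base change to a finite family
  of `A`-algebras `T i` with ideals `Q i` such that `L` is the intersection of the preimages of
  the `Q i`.
* `flat_of_isHausdorff_of_forall_exists_le_pow`: an ideally separated module over a Noetherian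
  ring is flat as soon as, for every `n`, it is flat modulo some ideal contained in `J ^ n`.
-/

set_option autoImplicit false
universe u
open scoped Pointwise

namespace Groth.Agent.Lib.Helper5

open TensorProduct LinearMap

section

variable {A : Type u} [CommRing A] (M : Type u) [AddCommGroup M] [Module A M]

/-- Flatness modulo `L` from flatness modulo `J` and flatness over a finite family of algebras
through which `A/L` embeds. -/
theorem flat_quotient_of_flat_of_forall_mem (J L : Ideal A) (m : ℕ) (hJL : J ^ m ≤ L)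
    {ι : Type*} [Finite ι] (T : ι → Type u) [∀ i, CommRing (T i)] [∀ i, Algebra A (T i)]
    (Q : ∀ i, Ideal (T i)) (hLQ : ∀ i, L ≤ (Q i).comap (algebraMap A (T i)))
    (hQL : ∀ a : A, (∀ i, algebraMap A (T i) a ∈ Q i) → a ∈ L)
    (h1 : Module.Flat (A ⧸ J) ((A ⧸ J) ⊗[A] M))
    (h2 : ∀ i, Module.Flat (T i) (T i ⊗[A] M)) :
    Module.Flat (A ⧸ L) ((A ⧸ L) ⊗[A] M) := by
  let alg : ∀ i, Algebra (A ⧸ L) (T i ⧸ Q i) := fun i =>
    Ideal.Quotient.algebraQuotientOfLEComap (hLQ i)
  have tower : ∀ i, IsScalarTower A (A ⧸ L) (T i ⧸ Q i) := fun i =>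
    IsScalarTower.of_algebraMap_eq fun x => rfl
  have hnil : IsNilpotent (J.map (algebraMap A (A ⧸ L))) := by
    refine ⟨m, ?_⟩
    rw [← Ideal.map_pow, Ideal.zero_eq_bot, Ideal.map_eq_bot_iff_le_ker]
    intro a ha
    rw [RingHom.mem_ker, Ideal.Quotient.algebraMap_eq, Ideal.Quotient.eq_zero_iff_mem]
    exact hJL ha
  have h1' : Module.Flat ((A ⧸ L) ⧸ J.map (algebraMap A (A ⧸ L)))
      (((A ⧸ L) ⧸ J.map (algebraMap A (A ⧸ L))) ⊗[A ⧸ L] ((A ⧸ L) ⊗[A] M)) :=
    flat_baseChange_baseChange_of_flat (A := A) (A₁ := A ⧸ L) M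
      (flat_baseChange_of_flat_baseChange (A := A) (A₁ := A ⧸ J) M h1)
  have h2' : ∀ i, Module.Flat (T i ⧸ Q i) ((T i ⧸ Q i) ⊗[A ⧸ L] ((A ⧸ L) ⊗[A] M)) := fun i =>
    flat_baseChange_baseChange_of_flat (A := A) (A₁ := A ⧸ L) M
      (flat_baseChange_of_flat_baseChange (A := A) (A₁ := T i) M (h2 i))
  refine flat_of_isNilpotent_of_jointly_injective (J.map (algebraMap A (A ⧸ L))) hnil
    (fun i => T i ⧸ Q i) ?_ (tensorJointlyInjective_of_finite _ ι h1') h1' h2'
  intro x hx
  obtain ⟨a, rfl⟩ := Ideal.Quotient.mk_surjective x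
  rw [Ideal.Quotient.eq_zero_iff_mem]
  apply hQL
  intro i
  have h3 := hx i
  change Ideal.Quotient.mk (Q i) (algebraMap A (T i) a) = 0 at h3
  rwa [Ideal.Quotient.eq_zero_iff_mem] at h3

/-- An ideally separated module over a Noetherian ring is flat as soon as, for every `n`, it is
flat modulo some ideal contained in `J ^ n`. -/
theorem flat_of_isHausdorff_of_forall_exists_le_pow [IsNoetherianRing A] (J : Ideal A)
    (hsep : ∀ a : Ideal A, IsHausdorff J (↥a ⊗[A] M))
    (h : ∀ n : ℕ, ∃ L : Ideal A, L ≤ J ^ n ∧ Module.Flat (A ⧸ L) ((A ⧸ L) ⊗[A] M)) :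
    Module.Flat A M := by
  rw [Module.Flat.iff_lTensor_injective']
  intro a
  rw [injective_iff_map_eq_zero]
  intro x hx
  have hmem : ∀ n, x ∈ (J ^ n • ⊤ : Submodule A (M ⊗[A] a)) := by
    intro n
    obtain ⟨k, hk⟩ := exists_lTensor_subtype_comap_pow_mem (B := A) M J a n
    obtain ⟨L, hL, hflat⟩ := h (n + k)
    obtain ⟨w, rfl⟩ := mem_range_lTensor_comap_of_flat_baseChange M L a hflat x hx
    have hle : Submodule.comap a.subtype L ≤ Submodule.comap a.subtype (J ^ (n + k)) :=
      Submodule.comap_mono hL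
    have h3 := hk ((Submodule.inclusion hle).lTensor M w)
    rw [← LinearMap.comp_apply, ← LinearMap.lTensor_comp, Submodule.subtype_comp_inclusion,
      Algebra.algebraMap_self, Ideal.map_id] at h3
    exact h3
  have hzero : TensorProduct.comm A M a x = 0 := by
    apply (hsep a).haus'
    intro n
    rw [SModEq.zero]
    have h3 : (J ^ n • ⊤ : Submodule A (M ⊗[A] a)).map
        (TensorProduct.comm A M a).toLinearMap = (J ^ n • ⊤ : Submodule A (a ⊗[A] M)) := by
      rw [Submodule.map_smul'', Submodule.map_top, LinearEquiv.range]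
    rw [← h3]
    exact Submodule.mem_map_of_mem (hmem n)
  exact (TensorProduct.comm A M a).injective (by rw [hzero, map_zero])

end

end Groth.Agent.Lib.Helper5
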