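import Groth.Agent.Lib.Helper5KzPerm
import Groth.Agent.S15821
import Groth.Prelude.Def_Koszul

/-!
# The Koszul complex of `(x f_1, …, x f_n)` (helper5)

* `scale x K`: the complex with the same terms as `K` and differential multiplied by `x`.
* `coneScaleIso`: `cone((x g) on scale x K) ≅ scale x (cone(g on K))`.
* `nonempty_iso`: `K(x f_1, …, x f_n) ≅ scale x K(f_1, …, f_n)`.
* `nonempty_homology_scale_iso`: `H^q(scale x K) ≅ Ker(∂^q) / x Im(∂^{q-1})` if `x` is regular on `K^{q+1}`.
* `main`, `main2`.
-/

set_option autoImplicit false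
set_option linter.style.haveILetI false
universe u

open CategoryTheory CategoryTheory.Limits CochainComplex
open scoped TensorProduct

namespace Groth.Agent.Lib.Helper5.KoszulScale

open Groth.Agent.Lib.Helper21 Groth.Agent.Lib.Helper5.KzPerm

variable {A : Type u} [CommRing A]

/-- same terms, differential multiplied by `x` -/
noncomputable def scale (x : A) (K : CochainComplex (ModuleCat.{u} A) ℤ) :
    CochainComplex (ModuleCat.{u} A) ℤ where
  X := K.X
  d i j := x • K.d i j
  shape i j h := by rw [K.shape i j h, smul_zero]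
  d_comp_d' i j k _ _ := by
    rw [Linear.smul_comp, Linear.comp_smul, K.d_comp_d, smul_zero, smul_zero]

lemma scale_d_apply (x : A) (K : CochainComplex (ModuleCat.{u} A) ℤ) (i j : ℤ) (m : K.X i) :
    ((scale x K).d i j).hom m = x • (K.d i j).hom m := rfl

/-- functoriality of `scale` -/
noncomputable def scaleMap (x : A) {K L : CochainComplex (ModuleCat.{u} A) ℤ} (f : K ⟶ L) :
    scale x K ⟶ scale x L where
  f i := f.f i
  comm' i j _ := by
    show f.f i ≫ (x • L.d i j) = (x • K.d i j) ≫ f.f j
    rw [Linear.comp_smul, Linear.smul_comp, f.comm]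

/-- `scale` of an isomorphism -/
noncomputable def scaleIso (x : A) {K L : CochainComplex (ModuleCat.{u} A) ℤ} (e : K ≅ L) :
    scale x K ≅ scale x L where
  hom := scaleMap x e.hom
  inv := scaleMap x e.inv
  hom_inv_id := by
    apply HomologicalComplex.hom_ext
    intro i
    have := congr($(e.hom_inv_id).f i)
    rw [HomologicalComplex.comp_f, HomologicalComplex.id_f] at this
    rw [HomologicalComplex.comp_f, HomologicalComplex.id_f]
    exact this
  inv_hom_id := by
    apply HomologicalComplex.hom_ext
    intro i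
    have := congr($(e.inv_hom_id).f i)
    rw [HomologicalComplex.comp_f, HomologicalComplex.id_f] at this
    rw [HomologicalComplex.comp_f, HomologicalComplex.id_f]
    exact this

section Cone

variable (x g : A) (K : CochainComplex (ModuleCat.{u} A) ℤ)

/-- multiplication by `g` on `K` -/
noncomputable abbrev ph : K ⟶ K := g • 𝟙 K

/-- multiplication by `x g` on `scale x K` -/
noncomputable abbrev ph' : scale x K ⟶ scale x K := (x * g) • 𝟙 (scale x K)

/-- the comparison in degree `i` -/
noncomputable def coneX (i : ℤ) : (mappingCone (ph' x g K)).X i →ₗ[A] (mappingCone (ph g K)).X i :=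
  cinl (ph g K) i ∘ₗ (cfst (ph' x g K) i : _ →ₗ[A] K.X (i + 1)) +
    cinr (ph g K) i ∘ₗ (csnd (ph' x g K) i : _ →ₗ[A] K.X i)

/-- the inverse comparison in degree `i` -/
noncomputable def coneXinv (i : ℤ) :
    (mappingCone (ph g K)).X i →ₗ[A] (mappingCone (ph' x g K)).X i :=
  (cinl (ph' x g K) i : K.X (i + 1) →ₗ[A] _) ∘ₗ cfst (ph g K) i +
    (cinr (ph' x g K) i : K.X i →ₗ[A] _) ∘ₗ csnd (ph g K) i

lemma cfst_coneX (i : ℤ) (m : (mappingCone (ph' x g K)).X i) :
    cfst (ph g K) i (coneX x g K i m) = cfst (ph' x g K) i m := by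
  simp only [coneX, LinearMap.add_apply, LinearMap.comp_apply, map_add, cfst_cinl, cfst_cinr,
    add_zero]
  rfl

lemma csnd_coneX (i : ℤ) (m : (mappingCone (ph' x g K)).X i) :
    csnd (ph g K) i (coneX x g K i m) = csnd (ph' x g K) i m := by
  simp only [coneX, LinearMap.add_apply, LinearMap.comp_apply, map_add, csnd_cinl, csnd_cinr,
    zero_add]
  rfl

lemma cfst_coneXinv (i : ℤ) (m : (mappingCone (ph g K)).X i) :
    cfst (ph' x g K) i (coneXinv x g K i m) = cfst (ph g K) i m := by
  simp only [coneXinv, LinearMap.add_apply, LinearMap.comp_apply, map_add]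
  erw [cfst_cinl, cfst_cinr, add_zero]
  rfl

lemma csnd_coneXinv (i : ℤ) (m : (mappingCone (ph g K)).X i) :
    csnd (ph' x g K) i (coneXinv x g K i m) = csnd (ph g K) i m := by
  simp only [coneXinv, LinearMap.add_apply, LinearMap.comp_apply, map_add]
  erw [csnd_cinl, csnd_cinr, zero_add]
  rfl

/-- the comparison in degree `i` as a linear equivalence -/
noncomputable def coneXEquiv (i : ℤ) :
    (mappingCone (ph' x g K)).X i ≃ₗ[A] (mappingCone (ph g K)).X i :=
  LinearEquiv.ofLinearMap (coneX x g K i) (coneXinv x g K i)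
    (by
      apply LinearMap.ext
      intro m
      apply cone_ext (ph g K) i
      · rw [LinearMap.comp_apply, cfst_coneX, cfst_coneXinv]; rfl
      · rw [LinearMap.comp_apply, csnd_coneX, csnd_coneXinv]; rfl)
    (by
      apply LinearMap.ext
      intro m
      apply cone_ext (ph' x g K) i
      · rw [LinearMap.comp_apply, cfst_coneXinv, cfst_coneX]; rfl
      · rw [LinearMap.comp_apply, csnd_coneXinv, csnd_coneX]; rfl)

lemma coneX_d (i : ℤ) (m : (mappingCone (ph' x g K)).X i) :
    x • ((mappingCone (ph g K)).d i (i + 1)).hom (coneX x g K i m) =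
      coneX x g K (i + 1) (((mappingCone (ph' x g K)).d i (i + 1)).hom m) := by
  apply cone_ext (ph g K) (i + 1)
  · rw [map_smul, cfst_d, cfst_coneX, cfst_coneX, cfst_d, scale_d_apply, smul_neg]
    rfl
  · rw [map_smul, csnd_d, csnd_coneX, csnd_coneX, cfst_coneX, csnd_d, scale_d_apply,
      smul_id_f_apply, smul_id_f_apply, smul_add, mul_smul]
    rfl

/-- `cone((x g) on scale x K) ≅ scale x (cone(g on K))` -/
noncomputable def coneScaleIso :
    mappingCone (ph' x g K) ≅ scale x (mappingCone (ph g K)) :=
  HomologicalComplex.Hom.isoOfComponents (fun i => (coneXEquiv x g K i).toModuleIso)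
    (by
      intro i j hij
      obtain rfl : i + 1 = j := hij
      apply ModuleCat.hom_ext
      apply LinearMap.ext
      intro m
      exact coneX_d x g K i m)

end Cone

/-- **`K(x f_1, …, x f_n) ≅ scale x K(f_1, …, f_n)`** -/
theorem nonempty_iso (x : A) : ∀ l : List A,
    Nonempty (Koszul.koszul A (l.map (fun f => x * f)) ≅ scale x (Koszul.koszul A l))
  | [] => by
    refine ⟨HomologicalComplex.Hom.isoOfComponents (fun i => Iso.refl _) ?_⟩
    intro i j _
    show 𝟙 _ ≫ (x • (Koszul.koszul A []).d i j) = (Koszul.koszul A []).d i j ≫ 𝟙 _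
    have h0 : (Koszul.koszul A []).d i j = 0 := HomologicalComplex.single_obj_d _ _ _ _ _
    rw [h0, smul_zero, Category.id_comp, Category.comp_id]
  | f :: l => by
    obtain ⟨e⟩ := nonempty_iso x l
    exact ⟨(Groth.Agent.Helper13Kz.coneIso e (x * f)).trans
      (coneScaleIso x f (Koszul.koszul A l))⟩

/-- a nonzerodivisor of `A` is regular on every term of a Koszul complex -/
theorem reg_koszul (x : A) (hx : x ∈ nonZeroDivisors A) : ∀ (l : List A) (i : ℤ)
    (m : (Koszul.koszul A l).X i), x • m = 0 → m = 0
  | [], i, m, hm => by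
    by_cases hi : i = 0
    · subst hi
      let e : (Koszul.koszul A []).X 0 ≃ₗ[A] A :=
        (HomologicalComplex.singleObjXSelf (ComplexShape.up ℤ) 0 (ModuleCat.of A A)).toLinearEquiv
      have h1 : x * e m = 0 := by
        have := congrArg e hm
        rwa [map_smul, map_zero, smul_eq_mul] at this
      have h2 : e m = 0 := (mul_left_mem_nonZeroDivisors_eq_zero_iff hx).1 h1
      exact e.injective (h2.trans (map_zero e).symm)
    · have hz : IsZero ((Koszul.koszul A []).X i) :=
        HomologicalComplex.isZero_single_obj_X (ComplexShape.up ℤ) 0 (ModuleCat.of A A) i hi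
      haveI := ModuleCat.subsingleton_of_isZero hz
      exact Subsingleton.elim _ _
  | f :: l, i, m, hm => by
    have key : ∀ m' : (mappingCone (f • 𝟙 (Koszul.koszul A l))).X i, x • m' = 0 → m' = 0 := by
      intro m' hm'
      apply cone_ext (f • 𝟙 (Koszul.koszul A l)) i
      · rw [map_zero]
        apply reg_koszul x hx l (i + 1)
        rw [← map_smul, hm', map_zero]
      · rw [map_zero]
        apply reg_koszul x hx l i
        rw [← map_smul, hm', map_zero]
    exact key m hm

/-- homology of `scale x K` -/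
theorem nonempty_homology_scale_iso (x : A) (K : CochainComplex (ModuleCat.{u} A) ℤ) (q : ℤ)
    (hreg : ∀ m : K.X (q + 1), x • m = 0 → m = 0) :
    Nonempty ((scale x K).homology q ≅
      ModuleCat.of A (↥(LinearMap.ker (K.d q (q + 1)).hom) ⧸
        Submodule.comap (LinearMap.ker (K.d q (q + 1)).hom).subtype
          (Ideal.span {x} • LinearMap.range (K.d (q - 1) q).hom))) := by
  let S := (scale x K).sc' (q - 1) q (q + 1)
  have e1 : (scale x K).homology q ≅ S.homology :=
    (scale x K).homologyIsoSc' (q - 1) q (q + 1) (by simp) (by simp)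
  have e2 : S.homology ≅ S.moduleCatLeftHomologyData.H := S.moduleCatHomologyIso
  have hker : LinearMap.ker ((scale x K).d q (q + 1)).hom =
      LinearMap.ker (K.d q (q + 1)).hom := by
    refine Submodule.ext (fun (m : K.X q) => ?_)
    show x • (K.d q (q + 1)).hom m = 0 ↔ (K.d q (q + 1)).hom m = 0
    exact ⟨hreg _, fun h => by rw [h, smul_zero]⟩
  refine ⟨e1 ≪≫ e2 ≪≫ (LinearEquiv.toModuleIso ?_)⟩
  refine Submodule.Quotient.equiv _ _ (LinearEquiv.ofEq _ _ hker) ?_
  ext m
  rw [Submodule.mem_comap, Submodule.ideal_span_singleton_smul,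
    Submodule.mem_smul_pointwise_iff_exists]
  constructor
  · rintro ⟨y, ⟨z, rfl⟩, rfl⟩
    exact ⟨(K.d (q - 1) q).hom z, LinearMap.mem_range_self _ z, rfl⟩
  · rintro ⟨b, ⟨z, rfl⟩, hb⟩
    refine ⟨S.moduleCatToCycles z, LinearMap.mem_range_self _ z, ?_⟩
    apply Subtype.ext
    exact hb

/-- **S15815** -/
theorem main (l : List A) (x : A) (hx : x ∈ nonZeroDivisors A) (q : ℤ) :
    Nonempty ((Koszul.koszul A (l.map (fun f => x * f))).homology q ≅
      ModuleCat.of A (↥(LinearMap.ker ((Koszul.koszul A l).d q (q + 1)).hom) ⧸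
        Submodule.comap (LinearMap.ker ((Koszul.koszul A l).d q (q + 1)).hom).subtype
          (Ideal.span {x} • LinearMap.range ((Koszul.koszul A l).d (q - 1) q).hom))) := by
  obtain ⟨e⟩ := nonempty_iso x l
  obtain ⟨e'⟩ := nonempty_homology_scale_iso x (Koszul.koszul A l) q
    (reg_koszul x hx l (q + 1))
  exact ⟨(HomologicalComplex.homologyFunctor _ _ q).mapIso e ≪≫ e'⟩

theorem comap_subtype_smul {M : Type*} [AddCommGroup M] [Module A M] (I : Ideal A)
    (N : Submodule A M) :
    Submodule.comap N.subtype (I • N) = I • (⊤ : Submodule A N) := by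
  have h : I • N = Submodule.map N.subtype (I • (⊤ : Submodule A N)) := by
    rw [Submodule.map_smul'', Submodule.map_subtype_top]
  rw [h]
  exact Submodule.comap_map_eq_of_injective (Submodule.injective_subtype _) _

/-- **S15816** -/
theorem main2 (l : List A) (hl : RingTheory.Sequence.IsWeaklyRegular A l) (x : A)
    (hx : x ∈ nonZeroDivisors A) (q : ℤ) (hq : q < 0) :
    Nonempty ((Koszul.koszul A (l.map (fun f => x * f))).homology q ≅
      ModuleCat.of A (↥(LinearMap.ker ((Koszul.koszul A l).d q (q + 1)).hom) ⊗[A]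
        (A ⧸ Ideal.span {x}))) := by
  obtain ⟨e⟩ := main l x hx q
  have hz : IsZero ((Koszul.koszul A l).homology q) :=
    (Groth.Agent.S15821.result A l hl).1 q hq.ne
  have hrk : LinearMap.range ((Koszul.koszul A l).d (q - 1) q).hom =
      LinearMap.ker ((Koszul.koszul A l).d q (q + 1)).hom := by
    have hex : ((Koszul.koszul A l).sc' (q - 1) q (q + 1)).Exact := by
      rw [← HomologicalComplex.exactAt_iff' (Koszul.koszul A l) (q - 1) q (q + 1) (by simp)
        (by simp)]
      exact (HomologicalComplex.exactAt_iff_isZero_homology _ _).2 hz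
    exact (ShortComplex.moduleCat_exact_iff_range_eq_ker _).1 hex
  refine ⟨e ≪≫ (LinearEquiv.toModuleIso ?_)⟩
  have h2 : Submodule.comap (LinearMap.ker ((Koszul.koszul A l).d q (q + 1)).hom).subtype
      (Ideal.span {x} • LinearMap.range ((Koszul.koszul A l).d (q - 1) q).hom) =
      Ideal.span {x} •
        (⊤ : Submodule A ↥(LinearMap.ker ((Koszul.koszul A l).d q (q + 1)).hom)) := by
    rw [hrk]
    exact comap_subtype_smul _ _
  exact (Submodule.quotEquivOfEq _ _ h2).trans
    (TensorProduct.tensorQuotEquivQuotSMul _ _).symm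

end Groth.Agent.Lib.Helper5.KoszulScale
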