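import Groth.Agent.Lib.Helper5KzPerm
import Groth.Agent.Lib.Helper21ConeLES2
import Groth.Agent.Lib.Helper13Kz
import Groth.Agent.S14433

/-!
# Koszul cohomology of `(x, y)` with `y` in the ideal `(x)` (helper5; for S15822)

* `nonempty_split`: if `y • 𝟙 L` is null-homotopic then `H^m(cone(y on L)) ≅ H^m(L) × H^{m+1}(L)`.
* `Idx r`, `dg`: a recursively defined index type with `2^r` elements and a degree function with
  `choose r j` elements of degree `j`.
* `main`.
-/

set_option autoImplicit false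
set_option linter.style.haveILetI false
universe u

open CategoryTheory CategoryTheory.Limits CochainComplex HomComplex CohIII

namespace Groth.Agent.Lib.Helper5.KoszulSplit

variable {A : Type u} [CommRing A]

section Split

variable (L : CochainComplex (ModuleCat.{u} A) ℤ) (y : A) (H : Homotopy (y • 𝟙 L) 0)

/-- a retraction of `inr`, from a null-homotopy -/
noncomputable def retr : mappingCone (y • 𝟙 L) ⟶ L :=
  mappingCone.desc (y • 𝟙 L) (Cochain.ofHomotopy H) (𝟙 L) (by simp)

lemma inr_retr : mappingCone.inr (y • 𝟙 L) ≫ retr L y H = 𝟙 L :=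
  mappingCone.inr_desc _ _ _ _

include H in
theorem nonempty_split (m : ℤ) :
    Nonempty ((mappingCone (y • 𝟙 L)).homology m ≃ₗ[A] (L.homology m × L.homology (m + 1))) := by
  let g : L.homology m →ₗ[A] (mappingCone (y • 𝟙 L)).homology m :=
    (HomologicalComplex.homologyMap (mappingCone.inr (y • 𝟙 L)) m).hom
  let r : (mappingCone (y • 𝟙 L)).homology m →ₗ[A] L.homology m :=
    (HomologicalComplex.homologyMap (retr L y H) m).hom
  let δ : (mappingCone (y • 𝟙 L)).homology m →ₗ[A] L.homology (m + 1) :=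
    (Groth.Agent.Lib.Helper21.coneδ (y • 𝟙 L) m (m + 1) rfl).hom
  have hrg : ∀ u, r (g u) = u := by
    intro u
    have h0 : HomologicalComplex.homologyMap (mappingCone.inr (y • 𝟙 L)) m ≫
        HomologicalComplex.homologyMap (retr L y H) m = 𝟙 _ := by
      rw [← HomologicalComplex.homologyMap_comp, inr_retr, HomologicalComplex.homologyMap_id]
    exact congr($(h0).hom u)
  have h3 := Groth.Agent.Lib.Helper21.cone_homology_exact₃ (y • 𝟙 L) m (m + 1) rfl
  have h1 := Groth.Agent.Lib.Helper21.cone_homology_exact₁ (y • 𝟙 L) m (m + 1) rfl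
  rw [ShortComplex.ShortExact.moduleCat_exact_iff_function_exact] at h1 h3
  have hzero : HomologicalComplex.homologyMap (y • 𝟙 L) (m + 1) = 0 := by
    rw [H.homologyMap_eq (m + 1)]
    simp
  have hδsurj : Function.Surjective δ := by
    intro w
    have hw : (HomologicalComplex.homologyMap (y • 𝟙 L) (m + 1)).hom w = 0 := by
      rw [hzero]; rfl
    exact (h1 w).1 hw
  have hδg : ∀ v, δ (g v) = 0 := fun v => (h3 (g v)).2 ⟨v, rfl⟩
  refine ⟨LinearEquiv.ofBijective (LinearMap.prod r δ) ⟨?_, ?_⟩⟩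
  · rw [← LinearMap.ker_eq_bot, LinearMap.ker_eq_bot']
    intro x hx
    have hx1 : r x = 0 := congrArg Prod.fst hx
    have hx2 : δ x = 0 := congrArg Prod.snd hx
    obtain ⟨u, rfl⟩ := (h3 x).1 hx2
    have : u = 0 := by rw [← hrg u]; exact hx1
    rw [this]
    exact map_zero _
  · rintro ⟨u, w⟩
    obtain ⟨x₀, hx₀⟩ := hδsurj w
    refine ⟨x₀ + g (u - r x₀), ?_⟩
    apply Prod.ext
    · show r (x₀ + g (u - r x₀)) = u
      rw [map_add, hrg]
      abel
    · show δ (x₀ + g (u - r x₀)) = w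
      rw [map_add, hδg, add_zero, hx₀]

end Split

section Comb

/-- index types: `Idx 0 = PUnit`, `Idx (r+1) = Idx r ⊕ Idx r` -/
def Idx : ℕ → Type
  | 0 => PUnit
  | (r + 1) => Idx r ⊕ Idx r

/-- the degree function -/
def dg : ∀ r : ℕ, Idx r → ℕ
  | 0, _ => 0
  | (r + 1), Sum.inl s => dg r s
  | (r + 1), Sum.inr s => dg r s + 1

noncomputable def idxFintype : ∀ r : ℕ, Fintype (Idx r)
  | 0 => (inferInstance : Fintype PUnit)
  | (r + 1) => by
    haveI := idxFintype r
    exact (inferInstance : Fintype (Idx r ⊕ Idx r))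

noncomputable instance (r : ℕ) : Fintype (Idx r) := idxFintype r

lemma dg_le : ∀ (r : ℕ) (s : Idx r), dg r s ≤ r
  | 0, _ => le_rfl
  | (r + 1), Sum.inl s => (dg_le r s).trans (Nat.le_succ r)
  | (r + 1), Sum.inr s => Nat.succ_le_succ (dg_le r s)

open Classical in
lemma card_fiber : ∀ (r j : ℕ), Nat.card {s : Idx r // dg r s = j} = r.choose j
  | 0, 0 => by
    have : Unique {s : Idx 0 // dg 0 s = 0} := ⟨⟨⟨PUnit.unit, rfl⟩⟩, fun ⟨s, _⟩ => rfl⟩
    rw [Nat.card_unique, Nat.choose_self]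
  | 0, (j + 1) => by
    have : IsEmpty {s : Idx 0 // dg 0 s = j + 1} := ⟨fun ⟨s, hs⟩ => by
      have : (0 : ℕ) = j + 1 := hs
      omega⟩
    rw [Nat.card_of_isEmpty, Nat.choose_zero_succ]
  | (r + 1), 0 => by
    have e : {s : Idx (r + 1) // dg (r + 1) s = 0} ≃
        {s : Idx r // dg r s = 0} ⊕ {s : Idx r // dg r s + 1 = 0} :=
      Equiv.subtypeSum (p := fun s : Idx r ⊕ Idx r => dg (r + 1) s = 0)
    have : IsEmpty {s : Idx r // dg r s + 1 = 0} := ⟨fun ⟨s, hs⟩ => by omega⟩
    rw [Nat.card_congr e, Nat.card_sum, card_fiber r 0, Nat.card_of_isEmpty, Nat.choose_zero_right,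
      Nat.choose_zero_right]
  | (r + 1), (j + 1) => by
    have e : {s : Idx (r + 1) // dg (r + 1) s = j + 1} ≃
        {s : Idx r // dg r s = j + 1} ⊕ {s : Idx r // dg r s + 1 = j + 1} :=
      Equiv.subtypeSum (p := fun s : Idx r ⊕ Idx r => dg (r + 1) s = j + 1)
    have e2 : {s : Idx r // dg r s + 1 = j + 1} ≃ {s : Idx r // dg r s = j} :=
      Equiv.subtypeEquivRight (fun s => by omega)
    rw [Nat.card_congr e, Nat.card_sum, Nat.card_congr e2, card_fiber r (j + 1), card_fiber r j,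
      Nat.choose_succ_succ, add_comm]

/-- the degree as an element of `Fin (r + 1)` -/
def dgFin (r : ℕ) (s : Idx r) : Fin (r + 1) := ⟨dg r s, Nat.lt_succ_of_le (dg_le r s)⟩

open Classical in
/-- the index type is the disjoint union over `j` of `choose r j` points -/
noncomputable def sigmaEquiv (r : ℕ) : (Σ j : Fin (r + 1), Fin (r.choose j)) ≃ Idx r :=
  (Equiv.sigmaCongrRight (fun j : Fin (r + 1) =>
    ((Finite.equivFinOfCardEq (by
      have e : {s : Idx r // dgFin r s = j} ≃ {s : Idx r // dg r s = (j : ℕ)} :=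
        Equiv.subtypeEquivRight (fun s => by
          constructor
          · intro h; exact congrArg Fin.val h
          · intro h; exact Fin.ext h)
      rw [Nat.card_congr e, card_fiber])) :
      {s : Idx r // dgFin r s = j} ≃ Fin (r.choose j)).symm)).trans
    (Equiv.sigmaFiberEquiv (dgFin r))

lemma dg_of_fiber (r : ℕ) (j : Fin (r + 1)) (q : {s : Idx r // dgFin r s = j}) :
    dg r q.1 = (j : ℕ) := congrArg Fin.val q.2

lemma dg_sigmaEquiv (r : ℕ) (p : Σ j : Fin (r + 1), Fin (r.choose j)) :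
    dg r (sigmaEquiv r p) = (p.1 : ℕ) := by
  obtain ⟨j, t⟩ := p
  simp only [sigmaEquiv, Equiv.trans_apply, Equiv.sigmaCongrRight_apply,
    Equiv.sigmaFiberEquiv_apply]
  exact dg_of_fiber r j _

end Comb

section Families

variable (G : ℤ → ModuleCat.{u} A)

/-- transport along an equality of indices -/
noncomputable def castG {a b : ℤ} (h : a = b) : G a ≃ₗ[A] G b := by
  subst h
  exact LinearEquiv.refl A _

/-- base of the recursion -/
noncomputable def baseEquiv (m : ℤ) : (∀ s : Idx 0, G (m + (dg 0 s : ℕ))) ≃ₗ[A] G m where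
  toFun f := castG G (by simp [dg]) (f PUnit.unit)
  invFun x := fun s => (castG G (by simp [dg])).symm x
  map_add' f f' := by simp
  map_smul' c f := by simp
  left_inv f := by
    funext s
    obtain rfl : s = PUnit.unit := rfl
    simp
  right_inv x := by simp

/-- step of the recursion -/
noncomputable def stepEquiv (r : ℕ) (m : ℤ) :
    ((∀ s : Idx r, G (m + (dg r s : ℕ))) × (∀ s : Idx r, G (m + 1 + (dg r s : ℕ)))) ≃ₗ[A]
      (∀ s : Idx (r + 1), G (m + (dg (r + 1) s : ℕ))) :=
  (LinearEquiv.prodCongr (LinearEquiv.refl A _)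
    (LinearEquiv.piCongrRight (fun s : Idx r =>
      (castG G (by push_cast [dg]; ring) :
        G (m + 1 + (dg r s : ℕ)) ≃ₗ[A] G (m + (dg (r + 1) (Sum.inr s) : ℕ)))))).trans
    (LinearEquiv.sumPiEquivProdPi A (Idx r) (Idx r)
      (fun st : Idx r ⊕ Idx r => G (m + (dg (r + 1) st : ℕ)))).symm

/-- final reindexing -/
noncomputable def finalEquiv (r : ℕ) (m : ℤ) :
    (∀ s : Idx r, G (m + (dg r s : ℕ))) ≃ₗ[A]
      (∀ j : Fin (r + 1), Fin (r.choose j) → G (m + ((j : ℕ) : ℤ))) :=
  ((LinearEquiv.piCongrLeft A (fun s : Idx r => G (m + (dg r s : ℕ))) (sigmaEquiv r)).symm.trans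
    (LinearEquiv.piCongrRight (fun p : Σ j : Fin (r + 1), Fin (r.choose j) =>
      (castG G (by rw [dg_sigmaEquiv]) :
        G (m + (dg r (sigmaEquiv r p) : ℕ)) ≃ₗ[A] G (m + ((p.1 : ℕ) : ℤ)))))).trans
    (LinearEquiv.piCurry A (fun (j : Fin (r + 1)) (_ : Fin (r.choose j)) =>
      G (m + ((j : ℕ) : ℤ))))

end Families

section Main

variable (M : ModuleCat.{u} A) (xs : List A)

theorem rec_iso (G : ℤ → ModuleCat.{u} A)
    (hG : ∀ m, Nonempty ((koszulCx M xs).homology m ≃ₗ[A] G m)) :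
    ∀ (ys : List A), (∀ y ∈ ys, y ∈ Ideal.span {a | a ∈ xs}) → ∀ m : ℤ,
      Nonempty ((koszulCx M (ys ++ xs)).homology m ≃ₗ[A]
        (∀ s : Idx ys.length, G (m + (dg ys.length s : ℕ))))
  | [], _, m => by
    obtain ⟨e⟩ := hG m
    exact ⟨e.trans (baseEquiv G m).symm⟩
  | y :: ys, hy, m => by
    have hy' : y ∈ Ideal.span {a | a ∈ ys ++ xs} :=
      Ideal.span_mono (fun a ha => List.mem_append_right ys ha) (hy y List.mem_cons_self)
    obtain ⟨H⟩ := Groth.Agent.S14433.key2 M (ys ++ xs) y hy'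
    obtain ⟨e⟩ := nonempty_split (koszulCx M (ys ++ xs)) y H m
    obtain ⟨e1⟩ := rec_iso G hG ys (fun z hz => hy z (List.mem_cons_of_mem y hz)) m
    obtain ⟨e2⟩ := rec_iso G hG ys (fun z hz => hy z (List.mem_cons_of_mem y hz)) (m + 1)
    exact ⟨(e.trans (LinearEquiv.prodCongr e1 e2)).trans (stepEquiv G ys.length m)⟩

/-- **S15822** -/
theorem main (xs ys : List A) (hy : ∀ y ∈ ys, y ∈ Ideal.span {a | a ∈ xs}) (m : ℤ) :
    Nonempty ((DRing.tensorCx (Koszul.koszul A (xs ++ ys)) M).homology m ≅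
      ModuleCat.of A ((j : Fin (ys.length + 1)) → Fin (ys.length.choose j) →
        (DRing.tensorCx (Koszul.koszul A xs) M).homology (m + j))) := by
  let G : ℤ → ModuleCat.{u} A := fun k => (DRing.tensorCx (Koszul.koszul A xs) M).homology k
  have hG : ∀ k, Nonempty ((koszulCx M xs).homology k ≃ₗ[A] G k) := fun k =>
    ⟨((HomologicalComplex.homologyFunctor _ _ k).mapIso
      (Groth.Agent.Helper13Kz.tensorIso M xs).symm).toLinearEquiv⟩
  obtain ⟨e⟩ := rec_iso M xs G hG ys hy m
  obtain ⟨p⟩ := Groth.Agent.Lib.Helper5.KzPerm.nonempty_koszulCx_iso_of_perm M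
    (List.perm_append_comm : (xs ++ ys).Perm (ys ++ xs))
  let e0 : (DRing.tensorCx (Koszul.koszul A (xs ++ ys)) M).homology m ≅
      (koszulCx M (ys ++ xs)).homology m :=
    (HomologicalComplex.homologyFunctor _ _ m).mapIso
      ((Groth.Agent.Helper13Kz.tensorIso M (xs ++ ys)).trans p)
  exact ⟨e0 ≪≫ (e.trans (finalEquiv G ys.length m)).toModuleIso⟩

end Main

end Groth.Agent.Lib.Helper5.KoszulSplit
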