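import Groth.Agent.Lib.Helper13KzLiftB
import Groth.Agent.Lib.Helper5KindFlat
import Groth.Agent.Lib.Helper17PCoh4

/-!
# Composition of Koszul-regular sequences (helper5)

If `rs` is a Koszul-regular sequence in `A` and the images of `ts` form a Koszul-regular sequence in
`A / (rs)`, then `ts ++ rs` is a Koszul-regular sequence in `A`.

The Koszul complex of `ts ++ rs` is the iterated cone `Kc (K(rs)) ts` of the Koszul complex of `rs`; a
quasi-isomorphism `K(rs) ⟶ A/(rs)[0]` induces a quasi-isomorphism of iterated cones, and the iterated cone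
of `A/(rs)[0]` is the Koszul complex of `ts` on the module `A/(rs)`.
-/

set_option autoImplicit false
set_option linter.style.haveILetI false
set_option backward.isDefEq.respectTransparency false
set_option backward.isDefEq.respectTransparency.types false
universe u

open CategoryTheory CategoryTheory.Limits CochainComplex CohIII

namespace Groth.Agent.Lib.Helper5.KzComp

open Groth.Agent.Lib.Helper21 Groth.Agent.Helper13Kz Groth.Agent.Helper13KzLift

section ConeMap

variable {C : Type*} [Category C] [Abelian C]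
variable {K₁ L₁ K₂ L₂ : CochainComplex C ℤ} (φ₁ : K₁ ⟶ L₁) (φ₂ : K₂ ⟶ L₂)
  (a : K₁ ⟶ K₂) (b : L₁ ⟶ L₂) (comm : φ₁ ≫ b = a ≫ φ₂)

theorem triangleRotateShortComplex_shortExact {K L : CochainComplex C ℤ} (φ : K ⟶ L) :
    (mappingCone.triangleRotateShortComplex φ).ShortExact :=
  HomologicalComplex.shortExact_of_degreewise_shortExact _
    (fun i => (mappingCone.triangleRotateShortComplexSplitting φ i).shortExact)

/-- the morphism of rotated short exact sequences induced by a commutative square. -/
noncomputable def rotateMap :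
    mappingCone.triangleRotateShortComplex φ₁ ⟶ mappingCone.triangleRotateShortComplex φ₂ where
  τ₁ := b
  τ₂ := mappingCone.map φ₁ φ₂ a b comm
  τ₃ := a⟦(1 : ℤ)⟧'
  comm₁₂ := ((mappingCone.triangleMap φ₁ φ₂ a b comm).comm₂).symm
  comm₂₃ := ((mappingCone.triangleMap φ₁ φ₂ a b comm).comm₃).symm

theorem quasiIso_map [QuasiIso a] [QuasiIso b] : QuasiIso (mappingCone.map φ₁ φ₂ a b comm) :=
  Groth.Agent.Lib.Helper17.PCoh4.quasiIso_τ₂ (rotateMap φ₁ φ₂ a b comm) (triangleRotateShortComplex_shortExact φ₁)
    (triangleRotateShortComplex_shortExact φ₂) (by show QuasiIso b; infer_instance)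
    (by show QuasiIso (a⟦(1 : ℤ)⟧'); infer_instance)

end ConeMap

variable {A : Type u} [CommRing A]

/-- iterated cones of multiplication maps on a complex -/
noncomputable def Kc (C : CochainComplex (ModuleCat.{u} A) ℤ) :
    List A → CochainComplex (ModuleCat.{u} A) ℤ
  | [] => C
  | f :: l => mappingCone (f • 𝟙 (Kc C l))

theorem Kc_single (M : ModuleCat.{u} A) : ∀ l : List A,
    koszulCx M l =
      Kc ((HomologicalComplex.single (ModuleCat.{u} A) (ComplexShape.up ℤ) 0).obj M) l
  | [] => rfl
  | f :: l => by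
    show mappingCone (f • 𝟙 (koszulCx M l)) = mappingCone (f • 𝟙 (Kc _ l))
    rw [Kc_single M l]

theorem Kc_append (M : ModuleCat.{u} A) (rs : List A) : ∀ l : List A,
    koszulCx M (l ++ rs) = Kc (koszulCx M rs) l
  | [] => rfl
  | f :: l => by
    show mappingCone (f • 𝟙 (koszulCx M (l ++ rs))) = mappingCone (f • 𝟙 (Kc _ l))
    rw [Kc_append M rs l]

/-- functoriality of iterated cones -/
noncomputable def KcMap {C D : CochainComplex (ModuleCat.{u} A) ℤ} (φ : C ⟶ D) :
    ∀ l : List A, Kc C l ⟶ Kc D l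
  | [] => φ
  | f :: l => mappingCone.map (f • 𝟙 (Kc C l)) (f • 𝟙 (Kc D l)) (KcMap φ l) (KcMap φ l) (by
      simp only [Linear.smul_comp, Linear.comp_smul, Category.id_comp, Category.comp_id])

theorem quasiIso_KcMap {C D : CochainComplex (ModuleCat.{u} A) ℤ} (φ : C ⟶ D) [QuasiIso φ] :
    ∀ l : List A, QuasiIso (KcMap φ l)
  | [] => by
    show QuasiIso φ
    infer_instance
  | f :: l => by
    haveI := quasiIso_KcMap φ l
    exact quasiIso_map _ _ _ _ _

/-- a complex in degrees `≤ 0`, acyclic in negative degrees, is quasi-isomorphic to a module in degree 0. -/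
theorem exists_quasiIso_single (K : CochainComplex (ModuleCat.{u} A) ℤ)
    (h1 : ∀ i : ℤ, 0 < i → IsZero (K.X i)) (h2 : ∀ i : ℤ, i < 0 → IsZero (K.homology i)) :
    ∃ (M' : ModuleCat.{u} A)
      (ε : K ⟶ (HomologicalComplex.single (ModuleCat.{u} A) (ComplexShape.up ℤ) 0).obj M'),
      QuasiIso ε := by
  haveI : K.IsStrictlyLE 0 := by
    rw [CochainComplex.isStrictlyLE_iff]
    intro i hi
    exact h1 i hi
  haveI : K.IsGE 0 := by
    rw [CochainComplex.isGE_iff]
    intro i hi
    rw [HomologicalComplex.exactAt_iff_isZero_homology]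
    exact h2 i hi
  haveI : (K.truncGE 0).IsStrictlyLE 0 := inferInstance
  haveI : (K.truncGE 0).IsStrictlyGE 0 := inferInstance
  obtain ⟨M', ⟨e⟩⟩ := (K.truncGE 0).exists_iso_single 0
  exact ⟨M', K.πTruncGE 0 ≫ e.hom, inferInstance⟩

/-- `A/I` as an `A`-module via restriction of scalars -/
noncomputable abbrev Xq (I : Ideal A) : ModuleCat.{u} A :=
  (ModuleCat.restrictScalars (Ideal.Quotient.mk I)).obj (ModuleCat.of (A ⧸ I) (A ⧸ I))

/-- the quotient map as a linear map to `Xq I` -/
noncomputable def piX (I : Ideal A) : A →ₗ[A] Xq I where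
  toFun a := (Ideal.Quotient.mk I a : A ⧸ I)
  map_add' a b := map_add (Ideal.Quotient.mk I) a b
  map_smul' r a := by
    change Ideal.Quotient.mk I (r * a) = (Ideal.Quotient.mk I r) * (Ideal.Quotient.mk I a)
    exact map_mul _ _ _

theorem piX_surjective (I : Ideal A) : Function.Surjective (piX I) :=
  Ideal.Quotient.mk_surjective

theorem ker_piX (I : Ideal A) : LinearMap.ker (piX I) = I := by
  ext a
  rw [LinearMap.mem_ker]
  exact Ideal.Quotient.eq_zero_iff_mem

theorem smul_top_eq (I : Ideal A) : I • (⊤ : Submodule A A) = I := by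
  refine le_antisymm ?_ ?_
  · rw [Submodule.smul_le]
    intro r hr n _
    exact I.mul_mem_right n hr
  · intro a ha
    have h0 : a = a • (1 : A) := by rw [smul_eq_mul, mul_one]
    rw [h0]
    exact Submodule.smul_mem_smul ha Submodule.mem_top

/-- `A/(rs)` is `H^0` of the Koszul complex. -/
noncomputable def equivH0 (rs : List A) :
    Xq (Ideal.ofList rs) ≃ₗ[A] (koszulCx (ModuleCat.of A A) rs).homology 0 :=
  ((piX (Ideal.ofList rs)).quotKerEquivOfSurjective (piX_surjective _)).symm ≪≫ₗ
    Submodule.quotEquivOfEq _ _ (by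
      rw [ker_piX, aug_ker]
      exact (smul_top_eq _).symm) ≪≫ₗ
    (aug (ModuleCat.of A A) rs).hom.quotKerEquivOfSurjective
      (aug_surjective _ rs)

/-- **Composition of Koszul-regular sequences.** -/
theorem isKoszulRegularSeq_append (rs ts : List A) (hrs : LCI.IsKoszulRegularSeq A rs)
    (hts : LCI.IsKoszulRegularSeq (A ⧸ Ideal.ofList rs)
      (ts.map (Ideal.Quotient.mk (Ideal.ofList rs)))) :
    LCI.IsKoszulRegularSeq A (ts ++ rs) := by
  rw [isKoszulRegularSeq_iff] at hrs hts ⊢
  intro i hi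
  obtain ⟨M', ε, hε⟩ := exists_quasiIso_single (koszulCx (ModuleCat.of A A) rs)
    (isZero_koszulCx_X_pos _ rs)
    (fun j hj => by
      have := hrs j hj.ne
      exact ModuleCat.isZero_of_subsingleton _)
  haveI := hε
  haveI := quasiIso_KcMap ε ts
  -- the module `M'` is `A/(rs)`
  let e0 : Xq (Ideal.ofList rs) ≃ₗ[A] M' :=
    equivH0 rs ≪≫ₗ (asIso (HomologicalComplex.homologyMap ε 0)).toLinearEquiv ≪≫ₗ
      (HomologicalComplex.singleObjHomologySelfIso (ComplexShape.up ℤ) 0 M').toLinearEquiv
  have h1 : IsZero ((koszulCx (Xq (Ideal.ofList rs)) ts).homology i) := by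
    have := hts i hi
    exact isZero_homology_restrict (Ideal.Quotient.mk (Ideal.ofList rs))
      (ModuleCat.of (A ⧸ Ideal.ofList rs) (A ⧸ Ideal.ofList rs)) ts i
      (ModuleCat.isZero_of_subsingleton _)
  have h2 : Subsingleton (KH ts (Xq (Ideal.ofList rs)) i) :=
    ModuleCat.subsingleton_of_isZero h1
  have h3 : Subsingleton (KH ts M' i) := subsingleton_KH_of_equiv ts e0 i h2
  have h4 : IsZero ((koszulCx M' ts).homology i) := ModuleCat.isZero_of_subsingleton _
  have h5 : IsZero ((Kc ((HomologicalComplex.single (ModuleCat.{u} A)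
      (ComplexShape.up ℤ) 0).obj M') ts).homology i) :=
    (isZero_congr (Kc_single M' ts) i).mp h4
  have h6 : IsZero ((Kc (koszulCx (ModuleCat.of A A) rs) ts).homology i) :=
    h5.of_iso (asIso (HomologicalComplex.homologyMap (KcMap ε ts) i))
  have h7 : IsZero ((koszulCx (ModuleCat.of A A) (ts ++ rs)).homology i) :=
    (isZero_congr (Kc_append _ rs ts) i).mpr h6
  exact ModuleCat.subsingleton_of_isZero h7

/-- composition through a surjection: ring form used for immersions. -/
theorem exists_koszul_ker_comp {R S T : Type u} [CommRing R] [CommRing S] [CommRing T]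
    (π : R →+* S) (hπ : Function.Surjective π) (ρ : S →+* T)
    (is : List R) (his : LCI.IsKoszulRegularSeq R is) (hI : RingHom.ker π = Ideal.ofList is)
    (js : List S) (hjs : LCI.IsKoszulRegularSeq S js) (hJ : RingHom.ker ρ = Ideal.ofList js) :
    ∃ ks : List R, ks.length = js.length + is.length ∧ LCI.IsKoszulRegularSeq R ks ∧
      RingHom.ker (ρ.comp π) = Ideal.ofList ks := by
  obtain ⟨bs, rfl⟩ := List.map_surjective_iff.mpr hπ js
  have hK : RingHom.ker (ρ.comp π) = Ideal.ofList (bs ++ is) := by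
    rw [← RingHom.comap_ker, hJ, ← Ideal.map_ofList, Ideal.comap_map_of_surjective π hπ,
      ← RingHom.ker_eq_comap_bot, hI, Ideal.ofList_append]
  refine ⟨bs ++ is, by simp, ?_, hK⟩
  apply isKoszulRegularSeq_append is bs his
  -- transfer along `R/(is) ≃ S`
  let Q : (R ⧸ RingHom.ker π) ≃+* S := RingHom.quotientKerEquivOfSurjective hπ
  have hfl : (Q.symm : S →+* R ⧸ RingHom.ker π).Flat :=
    RingHom.Flat.of_bijective Q.symm.bijective
  have h1 := Groth.Agent.Lib.Helper5.KindFlat.isKoszulRegularSeq_map_of_flat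
    (Q.symm : S →+* R ⧸ RingHom.ker π) hfl _ hjs
  rw [List.map_map] at h1
  have h2 : ((Q.symm : S →+* R ⧸ RingHom.ker π) : S → R ⧸ RingHom.ker π) ∘ (π : R → S) =
      Ideal.Quotient.mk (RingHom.ker π) := by
    funext x
    show Q.symm (π x) = _
    rw [RingEquiv.symm_apply_eq]
    rfl
  rw [h2] at h1
  rw [← hI]
  exact h1

end Groth.Agent.Lib.Helper5.KzComp
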