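import Groth.Agent.Lib.Helper5KzComp
import Groth.Agent.Lib.Helper5ImmBC

/-!
# Composition of Koszul-regular immersions (helper5)
-/

set_option autoImplicit false
set_option linter.style.haveILetI false
universe u

open AlgebraicGeometry CategoryTheory CategoryTheory.Limits TopologicalSpace

namespace Groth.Agent.Lib.Helper5.KzCompSch

open Groth.Agent.Lib.Helper5.ImmBC Groth.Agent.Lib.Helper5.KindFlat Groth.Agent.Lib.Helper5.KzComp

set_option maxHeartbeats 1600000 in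
theorem comp_at {X Y Z : Scheme.{u}} (i : Y ⟶ X) (j : Z ⟶ Y) (z : Z)
    {U : X.Opens} (hU : IsAffineOpen U) (hyU : i (j z) ∈ U) [hclU : IsClosedImmersion (i ∣_ U)]
    (rs : List Γ(X, U)) (hrs : LCI.IsKoszulRegularSeq Γ(X, U) rs)
    (hkerU : RingHom.ker (i.app U).hom = Ideal.ofList rs)
    {V : Y.Opens} (hV : IsAffineOpen V) (hzV : j z ∈ V) [hclV : IsClosedImmersion (j ∣_ V)]
    (ts : List Γ(Y, V)) (hts : LCI.IsKoszulRegularSeq Γ(Y, V) ts)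
    (hkerV : RingHom.ker (j.app V).hom = Ideal.ofList ts) :
    ∃ W : X.affineOpens, (j ≫ i) z ∈ W.1 ∧ IsClosedImmersion ((j ≫ i) ∣_ W.1) ∧
      ∃ ks : List Γ(X, W.1), ks.length = ts.length + rs.length ∧
        LCI.IsKoszulRegularSeq Γ(X, W.1) ks ∧
        RingHom.ker ((j ≫ i).app W.1).hom = Ideal.ofList ks := by
  have hYU : IsAffineOpen (i ⁻¹ᵁ U) := isAffineOpen_preimage_of_isClosedImmersion_restrict i hU
  obtain ⟨fbar, hfle, hyf⟩ := hYU.exists_basicOpen_le (V := i ⁻¹ᵁ U ⊓ V) ⟨j z, ⟨hyU, hzV⟩⟩ hyU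
  obtain ⟨f, rfl⟩ := app_surjective_of_isClosedImmersion_restrict i hU fbar
  have hW : IsAffineOpen (X.basicOpen f) := hU.basicOpen f
  have hWU : X.basicOpen f ≤ U := X.basicOpen_le f
  have hpre : i ⁻¹ᵁ X.basicOpen f = Y.basicOpen ((i.app U).hom f) := Scheme.preimage_basicOpen i f
  have hyW : j z ∈ i ⁻¹ᵁ X.basicOpen f := by
    rw [hpre]
    exact hyf
  have hW'V : i ⁻¹ᵁ X.basicOpen f ≤ V := by
    rw [hpre]
    exact hfle.trans inf_le_right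
  -- shrink `i`
  obtain ⟨hcl₁, hker₁⟩ := restrict_baseChange (IsPullback.id_horiz i) hU hW
    (show X.basicOpen f ≤ (𝟙 X) ⁻¹ᵁ U from hWU)
  haveI := hcl₁
  have hfl₁ : ((𝟙 X : X ⟶ X).appLE U (X.basicOpen f) hWU).hom.Flat :=
    Scheme.Hom.flat_appLE (𝟙 X) hU hW _
  have hW' : IsAffineOpen (i ⁻¹ᵁ X.basicOpen f) :=
    isAffineOpen_preimage_of_isClosedImmersion_restrict i hW
  -- shrink `j`
  obtain ⟨hcl₂, hker₂⟩ := restrict_baseChange (IsPullback.id_horiz j) hV hW'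
    (show i ⁻¹ᵁ X.basicOpen f ≤ (𝟙 Y) ⁻¹ᵁ V from hW'V)
  haveI := hcl₂
  have hfl₂ : ((𝟙 Y : Y ⟶ Y).appLE V (i ⁻¹ᵁ X.basicOpen f) hW'V).hom.Flat :=
    Scheme.Hom.flat_appLE (𝟙 Y) hV hW' _
  have hk₁ : RingHom.ker (i.app (X.basicOpen f)).hom =
      Ideal.ofList (rs.map ((𝟙 X : X ⟶ X).appLE U (X.basicOpen f) hWU).hom) := by
    rw [hker₁, hkerU, Ideal.map_ofList]
  have hk₂ : RingHom.ker (j.app (i ⁻¹ᵁ X.basicOpen f)).hom =
      Ideal.ofList (ts.map ((𝟙 Y : Y ⟶ Y).appLE V (i ⁻¹ᵁ X.basicOpen f) hW'V).hom) := by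
    rw [hker₂, hkerV, Ideal.map_ofList]
  obtain ⟨ks, hlen, hks, hK⟩ := exists_koszul_ker_comp (i.app (X.basicOpen f)).hom
    (app_surjective_of_isClosedImmersion_restrict i hW) (j.app (i ⁻¹ᵁ X.basicOpen f)).hom
    _ (isKoszulRegularSeq_map_of_flat _ hfl₁ rs hrs) hk₁
    _ (isKoszulRegularSeq_map_of_flat _ hfl₂ ts hts) hk₂
  refine ⟨⟨X.basicOpen f, hW⟩, ?_, ?_, ks, ?_, hks, ?_⟩
  · rw [Scheme.Hom.comp_apply]
    exact hyW
  · show IsClosedImmersion ((j ≫ i) ∣_ X.basicOpen f)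
    have h3 : IsClosedImmersion (j ∣_ (i ⁻¹ᵁ X.basicOpen f) ≫ i ∣_ X.basicOpen f) :=
      inferInstance
    rw [morphismRestrict_comp]
    exact h3
  · simpa using hlen
  · change RingHom.ker ((j.app (i ⁻¹ᵁ X.basicOpen f)).hom.comp (i.app (X.basicOpen f)).hom) = _
    exact hK

/-- composition of Koszul-regular immersions. -/
theorem isRegularImmersion_comp {X Y Z : Scheme.{u}} (i : Y ⟶ X) (j : Z ⟶ Y)
    (hi : RegImm.IsRegularImmersion .koszul i) (hj : RegImm.IsRegularImmersion .koszul j) :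
    RegImm.IsRegularImmersion .koszul (j ≫ i) := by
  obtain ⟨hi1, hi2⟩ := hi
  obtain ⟨hj1, hj2⟩ := hj
  haveI := hi1
  haveI := hj1
  refine ⟨inferInstance, fun z => ?_⟩
  obtain ⟨⟨U, hU⟩, hyU, hclU, rs, hrs, hkerU⟩ := hi2 (j z)
  obtain ⟨⟨V, hV⟩, hzV, hclV, ts, hts, hkerV⟩ := hj2 z
  simp only at hyU hclU hkerU hrs hzV hclV hkerV hts
  haveI := hclU
  haveI := hclV
  obtain ⟨W, hzW, hclW, ks, -, hks, hK⟩ :=
    comp_at i j z hU hyU rs hrs hkerU hV hzV ts hts hkerV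
  exact ⟨W, hzW, hclW, ks, hks, hK⟩

/-- composition of Koszul-regular immersions of constant codimension. -/
theorem isRegularImmersionOfCodim_comp {X Y Z : Scheme.{u}} (n m : ℕ) (i : Y ⟶ X) (j : Z ⟶ Y)
    (hi : RegImm.IsRegularImmersionOfCodim .koszul n i)
    (hj : RegImm.IsRegularImmersionOfCodim .koszul m j) :
    RegImm.IsRegularImmersionOfCodim .koszul (m + n) (j ≫ i) := by
  obtain ⟨hi1, hi2⟩ := hi
  obtain ⟨hj1, hj2⟩ := hj
  haveI := hi1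
  haveI := hj1
  refine ⟨inferInstance, fun z => ?_⟩
  obtain ⟨⟨U, hU⟩, hyU, hclU, rs, hlr, hrs, hkerU⟩ := hi2 (j z)
  obtain ⟨⟨V, hV⟩, hzV, hclV, ts, hlt, hts, hkerV⟩ := hj2 z
  simp only at hyU hclU hkerU hrs hzV hclV hkerV hts hlr hlt
  haveI := hclU
  haveI := hclV
  obtain ⟨W, hzW, hclW, ks, hlen, hks, hK⟩ :=
    comp_at i j z hU hyU rs hrs hkerU hV hzV ts hts hkerV
  exact ⟨W, hzW, hclW, ks, by rw [hlen, hlt, hlr], hks, hK⟩

end Groth.Agent.Lib.Helper5.KzCompSch
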