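import Groth.Agent.Lib.Helper5KzIdeal

/-!
# Descent of Koszul-regular ideals along a surjection with a "differential" retraction (helper5)

`ρ : T → S` surjective with kernel generated by `u : Fin m → T` (Koszul-regular), together with additive maps
`D j : T → S` satisfying the Leibniz rule relative to `ρ` and `D j (u i) = δ_ij`.  If `ρ⁻¹ I` is a Koszul-regular
ideal of `T`, then `I` is a Koszul-regular ideal of `S` (`kr_of_kr_comap`).  The proof exchanges `m` of the local
generators of `ρ⁻¹ I` for the `u i` (the maps `D j` show that some coefficient is a unit locally), then uses the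
change-of-generators lemma and the converse of the composition lemma.
-/

set_option autoImplicit false
set_option linter.style.haveILetI false
universe u

namespace Groth.Agent.Lib.Helper5.KzExch

open Groth.Agent.Lib.Helper5.KzComp Groth.Agent.Lib.Helper5.KzPerm
open Groth.Agent.Lib.Helper5.KindFlat Groth.Agent.Lib.Helper5.KzIdeal

section Exchange

variable {T S : Type u} [CommRing T] [CommRing S] [DecidableEq T] (ρ : T →+* S)
  {m : ℕ} (u : Fin m → T) (hker : RingHom.ker ρ = Ideal.span (Set.range u))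
  (D : Fin m → T →+ S) (hD : ∀ j a b, D j (a * b) = ρ a * D j b + D j a * ρ b)
  (hDu : ∀ i j, D j (u i) = if i = j then 1 else 0)

include hker hD hDu in
theorem D_eq_zero_of_mem_span (J : Finset (Fin m)) (j : Fin m) (hj : j ∉ J) (y : T)
    (hy : y ∈ Ideal.span ((J.image u : Finset T) : Set T)) : D j y = 0 ∧ ρ y = 0 := by
  induction hy using Submodule.span_induction with
  | mem x hx =>
    rw [Finset.coe_image] at hx
    obtain ⟨i, hi, rfl⟩ := hx
    have hne : i ≠ j := fun h => hj (h ▸ hi)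
    refine ⟨by rw [hDu, if_neg hne], ?_⟩
    rw [← RingHom.mem_ker, hker]
    exact Ideal.subset_span ⟨i, rfl⟩
  | zero => exact ⟨map_zero _, map_zero _⟩
  | add x y _ _ hx hy =>
    exact ⟨by rw [map_add, hx.1, hy.1, add_zero], by rw [map_add, hx.2, hy.2, add_zero]⟩
  | smul a x _ hx =>
    refine ⟨?_, ?_⟩
    · rw [smul_eq_mul, hD, hx.1, hx.2, mul_zero, mul_zero, add_zero]
    · rw [smul_eq_mul, map_mul, hx.2, mul_zero]

variable (I p : Ideal S) [hp : p.IsPrime] (hIp : I ≤ p)

include hker hD hDu hIp in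
/-- the exchange step and induction -/
theorem exchange (c : ℕ) (G₀ : T) :
    ∀ J : Finset (Fin m),
      (∃ N₀ : Finset T, (∀ n ∈ N₀, n ∈ I.comap ρ) ∧ N₀.card ≤ c ∧ G₀ ∉ p.comap ρ ∧
        ∀ k ∈ I.comap ρ, ∃ e : ℕ, G₀ ^ e * k ∈ Ideal.span (N₀ : Set T)) →
      ∃ G : T, G ∉ p.comap ρ ∧ G₀ ∣ G ∧ ∃ N : Finset T, (∀ n ∈ N, n ∈ I.comap ρ) ∧
        N.card + J.card ≤ c ∧ ∀ k ∈ I.comap ρ, ∃ e : ℕ,
          G ^ e * k ∈ Ideal.span ((J.image u : Finset T) : Set T) ⊔ Ideal.span (N : Set T) := by
  intro J h0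
  induction J using Finset.induction_on with
  | empty =>
    obtain ⟨N₀, hN₀, hc, hG₀, hgen⟩ := h0
    refine ⟨G₀, hG₀, dvd_rfl, N₀, hN₀, by simpa using hc, fun k hk => ?_⟩
    obtain ⟨e, he⟩ := hgen k hk
    exact ⟨e, Ideal.mem_sup_right he⟩
  | insert j J hjJ ih =>
    obtain ⟨G, hG, hG₀G, N, hN, hcard, hgen⟩ := ih
    have huj : u j ∈ I.comap ρ := by
      rw [Ideal.mem_comap]
      have : ρ (u j) = 0 := by
        rw [← RingHom.mem_ker, hker]
        exact Ideal.subset_span ⟨j, rfl⟩
      rw [this]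
      exact I.zero_mem
    obtain ⟨e, he⟩ := hgen (u j) huj
    obtain ⟨y, hy, z, hz, hyz⟩ := Submodule.mem_sup.mp he
    obtain ⟨a, -, rfl⟩ := Submodule.mem_span_finset.mp hz
    obtain ⟨hDy, -⟩ := D_eq_zero_of_mem_span ρ u hker D hD hDu J j hjJ y hy
    -- some coefficient is not in `q`
    have hex : ∃ n₀ ∈ N, a n₀ ∉ p.comap ρ := by
      by_contra hall
      push Not at hall
      have h1 : D j (∑ n ∈ N, a n • n) ∈ p := by
        rw [map_sum]
        refine Ideal.sum_mem _ fun n hn => ?_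
        rw [smul_eq_mul, hD]
        refine Ideal.add_mem _ (Ideal.mul_mem_right _ _ (hall n hn)) (Ideal.mul_mem_left _ _ ?_)
        exact hIp (hN n hn)
      have h2 : D j (G ^ e * u j) = ρ G ^ e := by
        rw [hD, hDu, if_pos rfl, mul_one, map_pow]
        have : ρ (u j) = 0 := by
          rw [← RingHom.mem_ker, hker]
          exact Ideal.subset_span ⟨j, rfl⟩
        rw [this, mul_zero, add_zero]
      have h3 : ρ G ^ e ∈ p := by
        rw [← h2, ← hyz, map_add, hDy, zero_add]
        exact h1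
      exact hG (hp.mem_of_pow_mem e h3)
    obtain ⟨n₀, hn₀, han₀⟩ := hex
    haveI : (p.comap ρ).IsPrime := Ideal.comap_isPrime ρ p
    refine ⟨G * a n₀, ?_, hG₀G.mul_right _, N.erase n₀, fun n hn => hN n (Finset.mem_of_mem_erase hn),
      ?_, ?_⟩
    · intro h
      rcases Ideal.IsPrime.mem_or_mem inferInstance h with h | h
      · exact hG h
      · exact han₀ h
    · rw [Finset.card_insert_of_notMem hjJ, Finset.card_erase_of_mem hn₀]
      have : 1 ≤ N.card := Finset.card_pos.mpr ⟨n₀, hn₀⟩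
      omega
    · -- generation
      set W : Ideal T := Ideal.span (((insert j J).image u : Finset T) : Set T) ⊔
        Ideal.span ((N.erase n₀ : Finset T) : Set T) with hW
      have hJW : Ideal.span ((J.image u : Finset T) : Set T) ≤ W := by
        refine le_trans (Ideal.span_mono ?_) le_sup_left
        intro x hx
        rw [Finset.coe_image] at hx ⊢
        obtain ⟨i, hi, rfl⟩ := hx
        exact ⟨i, Finset.mem_insert_of_mem hi, rfl⟩
      have hujW : u j ∈ W := by
        refine Ideal.mem_sup_left (Ideal.subset_span ?_)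
        rw [Finset.coe_image]
        exact ⟨j, Finset.mem_insert_self j J, rfl⟩
      have hN'W : ∀ n ∈ N.erase n₀, n ∈ W := fun n hn =>
        Ideal.mem_sup_right (Ideal.subset_span hn)
      have hsplit : ∑ n ∈ N, a n • n = a n₀ • n₀ + ∑ n ∈ N.erase n₀, a n • n :=
        (Finset.add_sum_erase N (fun n => a n • n) hn₀).symm
      have han₀W : a n₀ * n₀ ∈ W := by
        have h1 : a n₀ * n₀ = G ^ e * u j - y - ∑ n ∈ N.erase n₀, a n • n := by
          rw [← hyz, hsplit, smul_eq_mul]
          ring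
        rw [h1]
        refine Ideal.sub_mem _ (Ideal.sub_mem _ (Ideal.mul_mem_left _ _ hujW) (hJW hy)) ?_
        exact Ideal.sum_mem _ fun n hn => Ideal.mul_mem_left _ _ (hN'W n hn)
      have hNW : ∀ x ∈ Ideal.span (N : Set T), a n₀ * x ∈ W := by
        intro x hx
        induction hx using Submodule.span_induction with
        | mem x hx =>
          by_cases hxn : x = n₀
          · rw [hxn]
            exact han₀W
          · exact Ideal.mul_mem_left _ _ (hN'W x (Finset.mem_erase.mpr ⟨hxn, hx⟩))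
        | zero => rw [mul_zero]; exact W.zero_mem
        | add x y _ _ hx hy => rw [mul_add]; exact W.add_mem hx hy
        | smul b x _ hx =>
          rw [smul_eq_mul, mul_left_comm]
          exact Ideal.mul_mem_left _ _ hx
      intro k hk
      obtain ⟨e', he'⟩ := hgen k hk
      obtain ⟨y', hy', z', hz', hyz'⟩ := Submodule.mem_sup.mp he'
      refine ⟨e' + 1, ?_⟩
      have h1 : (G * a n₀) ^ (e' + 1) * k = (G * a n₀ ^ e') * (a n₀ * (G ^ e' * k)) := by
        ring
      rw [h1, ← hyz', mul_add]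
      exact Ideal.mul_mem_left _ _ (W.add_mem (Ideal.mul_mem_left _ _ (hJW hy')) (hNW z' hz'))

end Exchange

section Backward

variable {T S : Type u} [CommRing T] [CommRing S]

theorem ofList_ofFn {R : Type*} [CommRing R] {m : ℕ} (u : Fin m → R) :
    Ideal.ofList (List.ofFn u) = Ideal.span (Set.range u) := by
  unfold Ideal.ofList
  congr 1
  ext x
  simp [List.mem_ofFn]

theorem ofList_toList {R : Type*} [CommRing R] (N : Finset R) :
    Ideal.ofList N.toList = Ideal.span (N : Set R) := by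
  unfold Ideal.ofList
  congr 1
  ext x
  simp

set_option maxHeartbeats 1600000 in
/-- **descent of Koszul-regular ideals along a surjection with differential retraction.** -/
theorem kr_of_kr_comap (ρ : T →+* S) (hρ : Function.Surjective ρ) {m : ℕ} (u : Fin m → T)
    (hu : LCI.IsKoszulRegularSeq T (List.ofFn u))
    (hker : RingHom.ker ρ = Ideal.span (Set.range u))
    (D : Fin m → T →+ S) (hD : ∀ j a b, D j (a * b) = ρ a * D j b + D j a * ρ b)
    (hDu : ∀ i j, D j (u i) = if i = j then 1 else 0)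
    (I : Ideal S) (hK : KR (I.comap ρ)) : KR I := by
  classical
  intro p hp hIp
  haveI := hp
  haveI hq : (p.comap ρ).IsPrime := Ideal.comap_isPrime ρ p
  obtain ⟨G₀, hG₀, T₀, _, _, hloc₀, L, hL, hKL⟩ := hK (p.comap ρ) hq (Ideal.comap_mono hIp)
  haveI := hloc₀
  -- numerators
  have hLmem : ∀ x ∈ L, ∃ k : T, k ∈ I.comap ρ ∧ ∃ e : ℕ,
      x * algebraMap T T₀ (G₀ ^ e) = algebraMap T T₀ k := by
    intro x hx
    have hx' : x ∈ (I.comap ρ).map (algebraMap T T₀) := by
      rw [hKL]
      exact Ideal.subset_span hx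
    obtain ⟨⟨⟨k, hk⟩, ⟨_, e, rfl⟩⟩, h⟩ :=
      (IsLocalization.mem_map_algebraMap_iff (Submonoid.powers G₀) T₀).mp hx'
    exact ⟨k, hk, e, h⟩
  let kf : T₀ → T := fun x => if h : x ∈ L then (hLmem x h).choose else 0
  have hkf : ∀ x ∈ L, kf x ∈ I.comap ρ ∧ ∃ e : ℕ,
      x * algebraMap T T₀ (G₀ ^ e) = algebraMap T T₀ (kf x) := by
    intro x hx
    simp only [kf, dif_pos hx]
    exact (hLmem x hx).choose_spec
  let N₀ : Finset T := L.toFinset.image kf
  have hN₀K : ∀ n ∈ N₀, n ∈ I.comap ρ := by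
    intro n hn
    obtain ⟨x, hx, rfl⟩ := Finset.mem_image.mp hn
    exact (hkf x (List.mem_toFinset.mp hx)).1
  have hN₀c : N₀.card ≤ L.length :=
    le_trans Finset.card_image_le (List.toFinset_card_le L)
  have hN₀gen : ∀ k ∈ I.comap ρ, ∃ e : ℕ, G₀ ^ e * k ∈ Ideal.span (N₀ : Set T) := by
    intro k hk
    have h1 : Ideal.ofList L ≤ (Ideal.span (N₀ : Set T)).map (algebraMap T T₀) := by
      refine Ideal.span_le.mpr fun x hx => ?_
      obtain ⟨-, e, he⟩ := hkf x hx
      have h2 : algebraMap T T₀ (kf x) ∈ (Ideal.span (N₀ : Set T)).map (algebraMap T T₀) :=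
        Ideal.mem_map_of_mem _ (Ideal.subset_span
          (Finset.mem_image.mpr ⟨x, List.mem_toFinset.mpr hx, rfl⟩))
      rw [← he, map_pow] at h2
      exact (Ideal.mul_unit_mem_iff_mem _
        ((IsLocalization.Away.algebraMap_isUnit G₀).pow e)).mp h2
    have h3 : algebraMap T T₀ k ∈ (Ideal.span (N₀ : Set T)).map (algebraMap T T₀) := by
      apply h1
      rw [← hKL]
      exact Ideal.mem_map_of_mem _ hk
    obtain ⟨_, ⟨e, rfl⟩, he⟩ := (IsLocalization.algebraMap_mem_map_algebraMap_iff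
      (Submonoid.powers G₀) T₀ _ k).mp h3
    exact ⟨e, he⟩
  -- exchange
  obtain ⟨G, hG, ⟨H, rfl⟩, N, hNK, hNc, hNgen⟩ :=
    exchange ρ u hker D hD hDu I p hIp L.length G₀ Finset.univ
      ⟨N₀, hN₀K, hN₀c, hG₀, hN₀gen⟩
  have himg : ((Finset.univ.image u : Finset T) : Set T) = Set.range u := by
    rw [Finset.coe_image, Finset.coe_univ, Set.image_univ]
  rw [himg] at hNgen
  rw [Finset.card_univ, Fintype.card_fin] at hNc
  -- the localizations
  let T₁ := Localization.Away (algebraMap T T₀ H)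
  haveI : IsLocalization.Away (G₀ * H) T₁ := inferInstance
  have hflT : (algebraMap T T₁).Flat := by
    rw [RingHom.flat_algebraMap_iff]
    exact IsLocalization.flat _ (Submonoid.powers (G₀ * H))
  have hflT₀ : (algebraMap T₀ T₁).Flat := by
    rw [RingHom.flat_algebraMap_iff]
    exact IsLocalization.flat _ (Submonoid.powers (algebraMap T T₀ H))
  have hL₁ := isKoszulRegularSeq_map_of_flat _ hflT₀ L hL
  have hKT₁ : (I.comap ρ).map (algebraMap T T₁) = Ideal.ofList (L.map (algebraMap T₀ T₁)) := by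
    rw [IsScalarTower.algebraMap_eq T T₀ T₁, ← Ideal.map_map, hKL, Ideal.map_ofList]
  -- the new generators
  set ts : List T₁ := N.toList.map (algebraMap T T₁) with hts
  set u₁ : List T₁ := (List.ofFn u).map (algebraMap T T₁) with hu₁
  have hu₁K : LCI.IsKoszulRegularSeq T₁ u₁ := isKoszulRegularSeq_map_of_flat _ hflT _ hu
  have hsup : Ideal.ofList (ts ++ u₁) =
      (Ideal.span (Set.range u) ⊔ Ideal.span (N : Set T)).map (algebraMap T T₁) := by
    rw [Ideal.ofList_append, hts, hu₁, ← Ideal.map_ofList, ← Ideal.map_ofList, ofList_ofFn,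
      ofList_toList, Ideal.map_sup, sup_comm]
  have hgenK : Ideal.ofList (ts ++ u₁) = (I.comap ρ).map (algebraMap T T₁) := by
    rw [hsup]
    refine le_antisymm (Ideal.map_mono ?_) ?_
    · refine sup_le (Ideal.span_le.mpr ?_) (Ideal.span_le.mpr fun n hn => hNK n hn)
      rintro _ ⟨i, rfl⟩
      rw [SetLike.mem_coe, Ideal.mem_comap]
      have : ρ (u i) = 0 := by
        rw [← RingHom.mem_ker, hker]
        exact Ideal.subset_span ⟨i, rfl⟩
      rw [this]
      exact I.zero_mem
    · rw [Ideal.map_le_iff_le_comap]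
      intro k hk
      obtain ⟨e, he⟩ := hNgen k hk
      rw [Ideal.mem_comap]
      have h1 := Ideal.mem_map_of_mem (algebraMap T T₁) he
      rw [map_mul, map_pow] at h1
      exact (Ideal.unit_mul_mem_iff_mem _
        ((IsLocalization.Away.algebraMap_isUnit (G₀ * H)).pow e)).mp h1
  have hlen : (ts ++ u₁).length ≤ (L.map (algebraMap T₀ T₁)).length := by
    simp only [hts, hu₁, List.length_append, List.length_map, Finset.length_toList,
      List.length_ofFn]
    exact hNc
  have hreg : LCI.IsKoszulRegularSeq T₁ (ts ++ u₁) :=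
    isKoszulRegularSeq_of_ofList_eq _ _ hL₁ (by rw [hgenK, hKT₁]) hlen
  -- pass to `S`
  let S₁ := Localization.Away (ρ (G₀ * H))
  let ρ₁ := IsLocalization.Away.map T₁ S₁ ρ (G₀ * H)
  have hρ₁ : Function.Surjective ρ₁ := away_map_surjective ρ hρ (G₀ * H) T₁ S₁
  have hkρ₁ : RingHom.ker ρ₁ = Ideal.ofList u₁ := by
    rw [away_map_ker, hker, hu₁, ← Ideal.map_ofList, ofList_ofFn]
  have hl := isKoszulRegularSeq_map_of_append ρ₁ hρ₁ u₁ hu₁K hkρ₁ ts hreg
  refine ⟨ρ (G₀ * H), hG, S₁, inferInstance, inferInstance, inferInstance, ts.map ρ₁, hl, ?_⟩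
  have h1 : I.map (algebraMap S S₁) = ((I.comap ρ).map (algebraMap T T₁)).map ρ₁ := by
    rw [map_comap_away ρ (G₀ * H) T₁ S₁ I, Ideal.map_comap_of_surjective ρ₁ hρ₁]
  rw [h1, ← hgenK, Ideal.ofList_append, Ideal.map_sup, Ideal.map_ofList, ← hkρ₁,
    (Ideal.map_eq_bot_iff_le_ker ρ₁).mpr le_rfl, sup_bot_eq]

end Backward

end Groth.Agent.Lib.Helper5.KzExch
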