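import Groth.Agent.Lib.Helper5KzComp

/-!
# Permutation invariance of the iterated-cone Koszul complex, and change of generators (helper5)

* `swapIso`: `cone(a on cone(b on K)) ≅ cone(b on cone(a on K))`.
* `nonempty_koszulCx_iso_of_perm`: the Koszul complexes of two lists that are permutations of each other are
  isomorphic.
* `isKoszulRegularSeq_of_ofList_eq`: if `f` is Koszul-regular and `f'` generates the same ideal with
  `f'.length ≤ f.length`, then `f'` is Koszul-regular.
-/

set_option autoImplicit false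
set_option linter.style.haveILetI false
universe u

open CategoryTheory CategoryTheory.Limits CochainComplex CohIII

namespace Groth.Agent.Lib.Helper5.KzPerm

open Groth.Agent.Lib.Helper21 Groth.Agent.Helper13Kz Groth.Agent.Helper13KzLift
open Groth.Agent.Lib.Helper5.KzComp

variable {A : Type u} [CommRing A]

section ConeD

variable {K L : CochainComplex (ModuleCat.{u} A) ℤ} (φ : K ⟶ L)

lemma cfst_d (n : ℤ) (x : (mappingCone φ).X n) :
    cfst φ (n + 1) (((mappingCone φ).d n (n + 1)).hom x) =
      -(K.d (n + 1) (n + 1 + 1)).hom (cfst φ n x) := by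
  have := mappingCone.d_fst_v φ n (n + 1) (n + 1 + 1) rfl rfl
  exact congr($(this).hom x)

lemma csnd_d (n : ℤ) (x : (mappingCone φ).X n) :
    csnd φ (n + 1) (((mappingCone φ).d n (n + 1)).hom x) =
      (φ.f (n + 1)).hom (cfst φ n x) + (L.d n (n + 1)).hom (csnd φ n x) := by
  have := mappingCone.d_snd_v φ n (n + 1) rfl
  exact congr($(this).hom x)

lemma smul_id_f_apply (K : CochainComplex (ModuleCat.{u} A) ℤ) (a : A) (m : ℤ) (y : K.X m) :
    ((a • 𝟙 K : K ⟶ K).f m).hom y = a • y := rfl

end ConeD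

section Swap

variable (K : CochainComplex (ModuleCat.{u} A) ℤ) (a b : A)

/-- the cone of `b` on `K` -/
noncomputable abbrev C1 (b : A) : CochainComplex (ModuleCat.{u} A) ℤ := mappingCone (b • 𝟙 K)

/-- the double cone: `a` on the cone of `b` on `K` -/
noncomputable abbrev C2 (a b : A) : CochainComplex (ModuleCat.{u} A) ℤ :=
  mappingCone (a • 𝟙 (mappingCone (b • 𝟙 K)))

noncomputable def p11 (n : ℤ) : (C2 K a b).X n →ₗ[A] K.X (n + 1 + 1) :=
  cfst (b • 𝟙 K) (n + 1) ∘ₗ cfst (a • 𝟙 (C1 K b)) n

noncomputable def p12 (n : ℤ) : (C2 K a b).X n →ₗ[A] K.X (n + 1) :=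
  csnd (b • 𝟙 K) (n + 1) ∘ₗ cfst (a • 𝟙 (C1 K b)) n

noncomputable def p21 (n : ℤ) : (C2 K a b).X n →ₗ[A] K.X (n + 1) :=
  cfst (b • 𝟙 K) n ∘ₗ csnd (a • 𝟙 (C1 K b)) n

noncomputable def p22 (n : ℤ) : (C2 K a b).X n →ₗ[A] K.X n :=
  csnd (b • 𝟙 K) n ∘ₗ csnd (a • 𝟙 (C1 K b)) n

variable {K a b} in
lemma ext4 {n : ℤ} {x y : (C2 K a b).X n} (h11 : p11 K a b n x = p11 K a b n y)
    (h12 : p12 K a b n x = p12 K a b n y) (h21 : p21 K a b n x = p21 K a b n y)
    (h22 : p22 K a b n x = p22 K a b n y) : x = y := by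
  apply cone_ext (a • 𝟙 (C1 K b)) n
  · exact cone_ext (b • 𝟙 K) (n + 1) h11 h12
  · exact cone_ext (b • 𝟙 K) n h21 h22

lemma p11_d (n : ℤ) (x : (C2 K a b).X n) :
    p11 K a b (n + 1) (((C2 K a b).d n (n + 1)).hom x) =
      (K.d (n + 1 + 1) (n + 1 + 1 + 1)).hom (p11 K a b n x) := by
  simp only [p11, LinearMap.comp_apply]
  rw [cfst_d, map_neg, cfst_d, neg_neg]

lemma p12_d (n : ℤ) (x : (C2 K a b).X n) :
    p12 K a b (n + 1) (((C2 K a b).d n (n + 1)).hom x) =
      -(b • p11 K a b n x + (K.d (n + 1) (n + 1 + 1)).hom (p12 K a b n x)) := by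
  simp only [p11, p12, LinearMap.comp_apply]
  rw [cfst_d, map_neg, csnd_d, smul_id_f_apply]

lemma p21_d (n : ℤ) (x : (C2 K a b).X n) :
    p21 K a b (n + 1) (((C2 K a b).d n (n + 1)).hom x) =
      a • p11 K a b n x - (K.d (n + 1) (n + 1 + 1)).hom (p21 K a b n x) := by
  simp only [p11, p21, LinearMap.comp_apply]
  rw [csnd_d, map_add, smul_id_f_apply, map_smul, cfst_d, sub_eq_add_neg]

lemma p22_d (n : ℤ) (x : (C2 K a b).X n) :
    p22 K a b (n + 1) (((C2 K a b).d n (n + 1)).hom x) =
      a • p12 K a b n x + b • p21 K a b n x + (K.d n (n + 1)).hom (p22 K a b n x) := by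
  simp only [p12, p21, p22, LinearMap.comp_apply]
  rw [csnd_d, map_add, smul_id_f_apply, map_smul, csnd_d, smul_id_f_apply, add_assoc]

/-- the swap map in degree `n`: `(u1, u2, v1, v2) ↦ (-u1, v1, u2, v2)` -/
noncomputable def swapX (n : ℤ) : (C2 K a b).X n →ₗ[A] (C2 K b a).X n :=
  cinl (b • 𝟙 (C1 K a)) n ∘ₗ
      (cinr (a • 𝟙 K) (n + 1) ∘ₗ p21 K a b n - cinl (a • 𝟙 K) (n + 1) ∘ₗ p11 K a b n) +
    cinr (b • 𝟙 (C1 K a)) n ∘ₗ
      (cinl (a • 𝟙 K) n ∘ₗ p12 K a b n + cinr (a • 𝟙 K) n ∘ₗ p22 K a b n)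

lemma p11_swapX (n : ℤ) (x : (C2 K a b).X n) :
    p11 K b a n (swapX K a b n x) = -p11 K a b n x := by
  simp only [p11, swapX, LinearMap.comp_apply, LinearMap.add_apply, LinearMap.sub_apply, map_add,
    map_sub, cfst_cinl, cfst_cinr, csnd_cinl, csnd_cinr, map_zero]
  simp

lemma p12_swapX (n : ℤ) (x : (C2 K a b).X n) :
    p12 K b a n (swapX K a b n x) = p21 K a b n x := by
  simp only [p11, p12, p21, swapX, LinearMap.comp_apply, LinearMap.add_apply,
    LinearMap.sub_apply, map_add, map_sub, cfst_cinl, cfst_cinr, csnd_cinl, csnd_cinr, map_zero]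
  simp

lemma p21_swapX (n : ℤ) (x : (C2 K a b).X n) :
    p21 K b a n (swapX K a b n x) = p12 K a b n x := by
  simp only [p11, p12, p21, swapX, LinearMap.comp_apply, LinearMap.add_apply,
    LinearMap.sub_apply, map_add, map_sub, cfst_cinl, cfst_cinr, csnd_cinl, csnd_cinr, map_zero]
  simp

lemma p22_swapX (n : ℤ) (x : (C2 K a b).X n) :
    p22 K b a n (swapX K a b n x) = p22 K a b n x := by
  simp only [p11, p12, p21, p22, swapX, LinearMap.comp_apply, LinearMap.add_apply,
    LinearMap.sub_apply, map_add, map_sub, cfst_cinl, cfst_cinr, csnd_cinl, csnd_cinr, map_zero]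
  simp

lemma swapX_d (n : ℤ) (x : (C2 K a b).X n) :
    ((C2 K b a).d n (n + 1)).hom (swapX K a b n x) =
      swapX K a b (n + 1) (((C2 K a b).d n (n + 1)).hom x) := by
  apply ext4
  · rw [p11_d, p11_swapX, p11_swapX, p11_d, map_neg]
  · rw [p12_d, p11_swapX, p12_swapX, p12_swapX, p21_d, smul_neg]
    abel
  · rw [p21_d, p11_swapX, p21_swapX, p21_swapX, p12_d, smul_neg]
    abel
  · rw [p22_d, p12_swapX, p21_swapX, p22_swapX, p22_swapX, p22_d]
    abel

lemma swapX_swapX (n : ℤ) (x : (C2 K a b).X n) : swapX K b a n (swapX K a b n x) = x := by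
  apply ext4
  · rw [p11_swapX, p11_swapX, neg_neg]
  · rw [p12_swapX, p21_swapX]
  · rw [p21_swapX, p12_swapX]
  · rw [p22_swapX, p22_swapX]

/-- the swap chain map -/
noncomputable def swapHom : C2 K a b ⟶ C2 K b a where
  f n := ModuleCat.ofHom (swapX K a b n)
  comm' i j hij := by
    obtain rfl : i + 1 = j := hij
    apply ModuleCat.hom_ext
    apply LinearMap.ext
    intro x
    exact (swapX_d K a b i x)

/-- **the swap isomorphism** of double cones -/
noncomputable def swapIso : C2 K a b ≅ C2 K b a where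
  hom := swapHom K a b
  inv := swapHom K b a
  hom_inv_id := by
    apply HomologicalComplex.hom_ext
    intro n
    apply ModuleCat.hom_ext
    apply LinearMap.ext
    intro x
    exact swapX_swapX K a b n x
  inv_hom_id := by
    apply HomologicalComplex.hom_ext
    intro n
    apply ModuleCat.hom_ext
    apply LinearMap.ext
    intro x
    exact swapX_swapX K b a n x

end Swap

/-- Koszul complexes of permuted lists are isomorphic. -/
theorem nonempty_koszulCx_iso_of_perm (M : ModuleCat.{u} A) {l l' : List A} (h : l.Perm l') :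
    Nonempty (koszulCx M l ≅ koszulCx M l') := by
  induction h with
  | nil => exact ⟨Iso.refl _⟩
  | cons a _ ih =>
    obtain ⟨e⟩ := ih
    exact ⟨coneIso e a⟩
  | swap a b l => exact ⟨swapIso (koszulCx M l) b a⟩
  | trans _ _ ih1 ih2 =>
    obtain ⟨e1⟩ := ih1
    obtain ⟨e2⟩ := ih2
    exact ⟨e1 ≪≫ e2⟩

/-- permutation invariance of Koszul-regularity -/
theorem isKoszulRegularSeq_of_perm {l l' : List A} (h : l.Perm l')
    (hl : LCI.IsKoszulRegularSeq A l) : LCI.IsKoszulRegularSeq A l' := by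
  rw [isKoszulRegularSeq_iff] at hl ⊢
  intro i hi
  obtain ⟨e⟩ := nonempty_koszulCx_iso_of_perm (ModuleCat.of A A) h
  have e' := (HomologicalComplex.homologyFunctor (ModuleCat.{u} A) (ComplexShape.up ℤ) i).mapIso e
  have := hl i hi
  have hz : IsZero ((koszulCx (ModuleCat.of A A) l).homology i) :=
    ModuleCat.isZero_of_subsingleton _
  exact ModuleCat.subsingleton_of_isZero (hz.of_iso e'.symm)

section Top

variable (M : Type u) [AddCommGroup M] [Module A M]

theorem subsingleton_KH_of_cons (l : List A) (a : A) (ha : a ∈ Ideal.span {x | x ∈ l}) (i : ℤ)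
    (h : Subsingleton (KH (a :: l) M i)) : Subsingleton (KH l M (i + 1)) := by
  obtain ⟨g, δ, -, -, h3⟩ := cone_les (koszulCx (ModuleCat.of A M) l) a i
  have hsurj : Function.Surjective δ := fun y => (h3 y).mp (by
    rw [LinearMap.smul_apply, LinearMap.id_apply]
    exact smul_KH_eq_zero_of_mem M l a ha (i + 1) y)
  haveI : Subsingleton ((mappingCone (a • 𝟙 (koszulCx (ModuleCat.of A M) l))).homology i) := h
  exact hsurj.subsingleton

theorem subsingleton_KH_of_append (l : List A) : ∀ (g : List A),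
    (∀ a ∈ g, a ∈ Ideal.span {x | x ∈ l}) → ∀ i : ℤ, Subsingleton (KH (g ++ l) M i) →
      Subsingleton (KH l M (i + g.length))
  | [], _, i, h => by
    simpa using h
  | a :: g, hg, i, h => by
    have ha : a ∈ Ideal.span {x | x ∈ g ++ l} :=
      Ideal.span_mono (fun x hx => List.mem_append_right g hx) (hg a List.mem_cons_self)
    have h1 := subsingleton_KH_of_cons M (g ++ l) a ha i h
    have h2 := subsingleton_KH_of_append l g (fun b hb => hg b (List.mem_cons_of_mem a hb))
      (i + 1) h1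
    have e : i + 1 + (g.length : ℤ) = i + ((a :: g).length : ℤ) := by
      simp only [List.length_cons, Nat.cast_add, Nat.cast_one]
      ring
    rw [← e]
    exact h2

end Top

/-- **Change of generators.** -/
theorem isKoszulRegularSeq_of_ofList_eq (f f' : List A) (hf : LCI.IsKoszulRegularSeq A f)
    (hI : Ideal.ofList f' = Ideal.ofList f) (hlen : f'.length ≤ f.length) :
    LCI.IsKoszulRegularSeq A f' := by
  rw [isKoszulRegularSeq_iff] at hf ⊢
  intro i hi
  rcases lt_or_gt_of_ne hi with hneg | hpos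
  swap
  · exact subsingleton_KH_of_pos A f' i hpos
  have h3 : ∀ j : ℤ, j < -(f'.length : ℤ) → Subsingleton (KH (f' ++ f) A j) := by
    intro j hj
    obtain ⟨M', ε, hε⟩ := exists_quasiIso_single (koszulCx (ModuleCat.of A A) f)
      (isZero_koszulCx_X_pos _ f)
      (fun k hk => by
        have := hf k hk.ne
        exact ModuleCat.isZero_of_subsingleton _)
    haveI := hε
    haveI := quasiIso_KcMap ε f'
    have h4 : IsZero ((koszulCx M' f').homology j) :=
      isZero_homology_of_isZero_X _ j (isZero_koszulCx_X_neg M' f' j hj)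
    have h5 := (isZero_congr (Kc_single M' f') j).mp h4
    have h6 : IsZero ((Kc (koszulCx (ModuleCat.of A A) f) f').homology j) :=
      h5.of_iso (asIso (HomologicalComplex.homologyMap (KcMap ε f') j))
    have h7 := (isZero_congr (Kc_append (ModuleCat.of A A) f f') j).mpr h6
    exact ModuleCat.subsingleton_of_isZero h7
  obtain ⟨e⟩ := nonempty_koszulCx_iso_of_perm (ModuleCat.of A A)
    (List.perm_append_comm : (f ++ f').Perm (f' ++ f))
  have h2 : Subsingleton (KH (f ++ f') A (i - f.length)) := by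
    have := h3 (i - f.length) (by
      have : (f'.length : ℤ) ≤ f.length := by exact_mod_cast hlen
      omega)
    have e' := (HomologicalComplex.homologyFunctor (ModuleCat.{u} A) (ComplexShape.up ℤ)
      (i - f.length)).mapIso e
    have hz : IsZero ((koszulCx (ModuleCat.of A A) (f' ++ f)).homology (i - f.length)) :=
      ModuleCat.isZero_of_subsingleton _
    exact ModuleCat.subsingleton_of_isZero (hz.of_iso e')
  have h1 := subsingleton_KH_of_append A f' f (fun a ha => by
    have : a ∈ Ideal.ofList f := Ideal.subset_span ha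
    rw [← hI] at this
    exact this) (i - f.length) h2
  have e1 : i - (f.length : ℤ) + f.length = i := by ring
  rw [e1] at h1
  exact h1

end Groth.Agent.Lib.Helper5.KzPerm
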