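import Groth.Agent.Lib.Helper5LciLocal
import Groth.Agent.Lib.Helper5RLR2
import Groth.Agent.Lib.Helper4RectDepthB

/-!
# Spreading out Koszul-regular sequences in Noetherian rings; regular source and target give lci (helper5)

* `homologyTensorIso`: `H^i(K ⊗ F) ≅ H^i(K) ⊗ F` for flat `F`.
* `isZero_homology_map_iff_tensor`: for a flat `S`-algebra `T`, `K(T; φ(l))` is acyclic at `i` iff `H^i K(S; l) ⊗ T = 0`.
* `spread`: a Koszul-regular sequence generating `I P_p` spreads out to `P_g` (Noetherian `P`).
* `kr_ker_of_regular`: the kernel of a surjection of regular rings is a Koszul-regular ideal.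
* `isLCI_of_isRegularRing`, `lci_of_regular_sch`.
-/

set_option autoImplicit false
set_option linter.style.haveILetI false
universe u

namespace Groth.Agent.Lib.Helper5.KzSpread

open Groth.Agent.Lib.Helper5.KzComp Groth.Agent.Lib.Helper5.KzPerm
open Groth.Agent.Lib.Helper5.KindFlat Groth.Agent.Lib.Helper5.KzIdeal
open Groth.Agent.Lib.Helper5.KzExch Groth.Agent.Lib.Helper5.KzPres
open Groth.Agent.Lib.Helper5.KzLocal Groth.Agent.Lib.Helper5.LciComp
open Groth.Agent.Lib.Helper5.LciLocal
open Groth.Agent.Helper13Kz Groth.Agent.Helper13KzLift CohIII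
open CategoryTheory MonoidalCategory
open scoped TensorProduct

section FlatTensor

variable {P : Type u} [CommRing P]

/-- for flat `F`, `H^i(K ⊗ F) ≅ H^i(K) ⊗ F`. -/
noncomputable def homologyTensorIso (F : ModuleCat.{u} P) [Module.Flat P F]
    (K : CochainComplex (ModuleCat.{u} P) ℤ) (i : ℤ) :
    (((tensorRight F).mapHomologicalComplex (ComplexShape.up ℤ)).obj K).homology i ≅
      (K.homology i) ⊗ F :=
  (K.sc i).mapHomologyIso (tensorRight F)

/-- Koszul homology commutes with flat tensor products of the coefficient module -/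
noncomputable def khTensorIso (F : ModuleCat.{u} P) [Module.Flat P F] (M : ModuleCat.{u} P)
    (l : List P) (i : ℤ) :
    (koszulCx (M ⊗ F) l).homology i ≅ ((koszulCx M l).homology i) ⊗ F :=
  ((HomologicalComplex.homologyFunctor _ _ i).mapIso (tensIso F M l)).symm ≪≫
    homologyTensorIso F (koszulCx M l) i

end FlatTensor

section RingChange

variable {S T : Type u} [CommRing S] [CommRing T] [Algebra S T] [Module.Flat S T]

theorem isZero_homology_map_iff_tensor (l : List S) (i : ℤ) :
    Limits.IsZero ((Koszul.koszul T (l.map (algebraMap S T))).homology i) ↔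
      Subsingleton ((KH l S i : ModuleCat.{u} S) ⊗[S] T) := by
  rw [isZero_congr (koszul_eq T (l.map (algebraMap S T))) i]
  have h1 : Limits.IsZero ((koszulCx (ModuleCat.of T T) (l.map (algebraMap S T))).homology i) ↔
      Limits.IsZero ((koszulCx ((ModuleCat.restrictScalars (algebraMap S T)).obj
        (ModuleCat.of T T)) l).homology i) :=
    ⟨isZero_homology_restrict (algebraMap S T) _ l i,
      isZero_homology_of_restrict (algebraMap S T) _ l i⟩
  rw [h1]
  let e' : T ≃ₗ[S] ((ModuleCat.restrictScalars (algebraMap S T)).obj (ModuleCat.of T T)) :=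
    { toFun := fun t => t
      invFun := fun t => t
      left_inv := fun _ => rfl
      right_inv := fun _ => rfl
      map_add' := fun _ _ => rfl
      map_smul' := fun s t => Algebra.smul_def s t }
  let e : (S ⊗[S] T) ≃ₗ[S] ((ModuleCat.restrictScalars (algebraMap S T)).obj
      (ModuleCat.of T T)) := (TensorProduct.lid S T).trans e'
  have h2 : Limits.IsZero ((koszulCx ((ModuleCat.restrictScalars (algebraMap S T)).obj
        (ModuleCat.of T T)) l).homology i) ↔ Subsingleton (KH l (S ⊗[S] T) i) := by
    constructor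
    · intro h
      haveI : Subsingleton (KH l ((ModuleCat.restrictScalars (algebraMap S T)).obj
          (ModuleCat.of T T)) i) := ModuleCat.subsingleton_of_isZero h
      exact subsingleton_KH_of_equiv l e.symm i inferInstance
    · intro h
      haveI : Subsingleton (KH l ((ModuleCat.restrictScalars (algebraMap S T)).obj
          (ModuleCat.of T T)) i) := subsingleton_KH_of_equiv l e i h
      exact ModuleCat.isZero_of_subsingleton _
  rw [h2]
  let E := khTensorIso (ModuleCat.of S T) (ModuleCat.of S S) l i
  exact E.toLinearEquiv.toEquiv.subsingleton_congr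

end RingChange

section Ann

variable {P : Type u} [CommRing P]

theorem subsingleton_tensor_of_smul_eq_zero (H : Type u) [AddCommGroup H] [Module P H] (g : P)
    (hg : ∀ h : H, g • h = 0) (T : Type u) [CommRing T] [Algebra P T]
    (hu : IsUnit (algebraMap P T g)) : Subsingleton (H ⊗[P] T) := by
  obtain ⟨v, hv⟩ := hu
  refine ⟨fun a b => ?_⟩
  have key : ∀ z : H ⊗[P] T, z = 0 := by
    intro z
    induction z using TensorProduct.induction_on with
    | zero => rfl
    | tmul h t =>
      have h1 : t = g • ((↑v⁻¹ : T) * t) := by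
        rw [Algebra.smul_def, ← hv, ← mul_assoc, Units.mul_inv, one_mul]
      rw [h1, ← TensorProduct.smul_tmul, hg, TensorProduct.zero_tmul]
    | add x y hx hy => rw [hx, hy, add_zero]
  rw [key a, key b]

theorem exists_smul_eq_zero_of_subsingleton_tensor (H : Type u) [AddCommGroup H] [Module P H]
    [Module.Finite P H] (p : Ideal P) [hp : p.IsPrime]
    (hsub : Subsingleton (H ⊗[P] Localization.AtPrime p)) : ∃ s : P, s ∉ p ∧ ∀ h : H, s • h = 0 := by
  have hbc := IsLocalizedModule.isBaseChange p.primeCompl (Localization.AtPrime p)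
    (LocalizedModule.mkLinearMap p.primeCompl H)
  have e1 : (Localization.AtPrime p ⊗[P] H) ≃ₗ[P] LocalizedModule p.primeCompl H :=
    hbc.equiv.restrictScalars P
  have e2 : (H ⊗[P] Localization.AtPrime p) ≃ₗ[P] LocalizedModule p.primeCompl H :=
    (TensorProduct.comm P H (Localization.AtPrime p)).trans e1
  haveI : Subsingleton (LocalizedModule p.primeCompl H) := e2.toEquiv.subsingleton_congr.mp hsub
  have h1 : (⟨p, hp⟩ : PrimeSpectrum P) ∉ Module.support P H := Module.notMem_support_iff.mpr this
  rw [Module.mem_support_iff_of_finite] at h1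
  obtain ⟨s, hs, hsp⟩ := SetLike.not_le_iff_exists.mp h1
  exact ⟨s, hsp, fun h => Module.mem_annihilator.mp hs h⟩

end Ann

section Spread

variable {P : Type u} [CommRing P]

/-- elements of `I` lifting, up to units, a list of elements of `I P_p` -/
theorem exists_lift_list (I p : Ideal P) [p.IsPrime] :
    ∀ (l' : List (Localization.AtPrime p)),
      (∀ x ∈ l', x ∈ I.map (algebraMap P (Localization.AtPrime p))) →
      ∃ y : List P, (∀ a ∈ y, a ∈ I) ∧ y.length = l'.length ∧
        Ideal.ofList (y.map (algebraMap P (Localization.AtPrime p))) = Ideal.ofList l'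
  | [], _ => ⟨[], by simp, rfl, rfl⟩
  | x :: l', h => by
    obtain ⟨y, hy, hlen, hof⟩ :=
      exists_lift_list I p l' (fun z hz => h z (List.mem_cons_of_mem _ hz))
    have hx := h x List.mem_cons_self
    rw [IsLocalization.mem_map_algebraMap_iff p.primeCompl] at hx
    obtain ⟨⟨a, s⟩, hxs⟩ := hx
    refine ⟨a.1 :: y, ?_, by simp [hlen], ?_⟩
    · intro b hb
      rcases List.mem_cons.mp hb with rfl | hb
      · exact a.2
      · exact hy b hb
    · rw [List.map_cons, Ideal.ofList_cons, Ideal.ofList_cons, hof]
      congr 1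
      have hu : IsUnit (algebraMap P (Localization.AtPrime p) s.1) :=
        IsLocalization.map_units _ s
      simp only at hxs
      rw [← hxs]
      exact Ideal.span_singleton_mul_right_unit hu x

variable [IsNoetherianRing P]

theorem exists_mul_mem_of_map_eq (I J p : Ideal P) [hp : p.IsPrime]
    (h : I.map (algebraMap P (Localization.AtPrime p)) =
      J.map (algebraMap P (Localization.AtPrime p))) :
    ∃ g : P, g ∉ p ∧ ∀ x ∈ I, g * x ∈ J := by
  classical
  have key : ∀ z ∈ I, ∃ t : P, t ∉ p ∧ t * z ∈ J := by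
    intro z hz
    have h1 : algebraMap P (Localization.AtPrime p) z ∈
        J.map (algebraMap P (Localization.AtPrime p)) := by
      rw [← h]
      exact Ideal.mem_map_of_mem _ hz
    rw [IsLocalization.mem_map_algebraMap_iff p.primeCompl] at h1
    obtain ⟨⟨b, s⟩, hbs⟩ := h1
    simp only at hbs
    rw [← map_mul] at hbs
    obtain ⟨t', ht'⟩ := (IsLocalization.eq_iff_exists p.primeCompl _).mp hbs
    refine ⟨t'.1 * s.1, ?_, ?_⟩
    · intro hmem
      rcases hp.mem_or_mem hmem with h2 | h2
      · exact t'.2 h2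
      · exact s.2 h2
    · have : t'.1 * s.1 * z = t'.1 * b.1 := by
        rw [← ht']
        ring
      rw [this]
      exact J.mul_mem_left _ b.2
  obtain ⟨Z, hZ⟩ := (isNoetherianRing_iff_ideal_fg P).mp ‹_› I
  have hfin : ∀ Z : Finset P, (∀ z ∈ Z, z ∈ I) →
      ∃ g : P, g ∉ p ∧ ∀ x ∈ Ideal.span (Z : Set P), g * x ∈ J := by
    intro Z
    induction Z using Finset.induction_on with
    | empty =>
      intro _
      refine ⟨1, fun h1 => hp.ne_top ((Ideal.eq_top_iff_one _).mpr h1), fun x hx => ?_⟩
      rw [Finset.coe_empty, Ideal.span_empty, Ideal.mem_bot] at hx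
      rw [hx, mul_zero]
      exact J.zero_mem
    | insert z Z hzZ ih =>
      intro hsub
      obtain ⟨g', hg', hJ'⟩ := ih (fun w hw => hsub w (Finset.mem_insert_of_mem hw))
      obtain ⟨t, ht, htz⟩ := key z (hsub z (Finset.mem_insert_self z Z))
      refine ⟨t * g', ?_, fun x hx => ?_⟩
      · intro hmem
        rcases hp.mem_or_mem hmem with h2 | h2
        · exact ht h2
        · exact hg' h2
      · rw [Finset.coe_insert, Ideal.mem_span_insert] at hx
        obtain ⟨a, w, hw, rfl⟩ := hx
        have e1 : t * g' * (a * z + w) = (g' * a) * (t * z) + t * (g' * w) := by ring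
        rw [e1]
        exact J.add_mem (J.mul_mem_left _ htz) (J.mul_mem_left _ (hJ' w hw))
  obtain ⟨g, hg, hgJ⟩ := hfin Z (fun z hz => by rw [← hZ]; exact Ideal.subset_span hz)
  exact ⟨g, hg, fun x hx => hgJ x (by rw [hZ]; exact hx)⟩

theorem spread (I p : Ideal P) [hp : p.IsPrime] (l' : List (Localization.AtPrime p))
    (hl' : LCI.IsKoszulRegularSeq (Localization.AtPrime p) l')
    (hI : I.map (algebraMap P (Localization.AtPrime p)) = Ideal.ofList l') :
    ∃ g : P, g ∉ p ∧ ∃ l : List (Localization.Away g),
      LCI.IsKoszulRegularSeq (Localization.Away g) l ∧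
        I.map (algebraMap P (Localization.Away g)) = Ideal.ofList l := by
  classical
  obtain ⟨y, hyI, hlen, hof⟩ := exists_lift_list I p l'
    (fun x hx => by rw [hI]; exact Ideal.subset_span hx)
  have hreg : LCI.IsKoszulRegularSeq (Localization.AtPrime p)
      (y.map (algebraMap P (Localization.AtPrime p))) :=
    isKoszulRegularSeq_of_ofList_eq l' _ hl' hof (by simp [hlen])
  have hann : ∀ i : ℤ, ∃ s : P, s ∉ p ∧ (i ≠ 0 → ∀ h : KH y P i, s • h = 0) := by
    intro i
    by_cases hi : i = 0
    · exact ⟨1, fun h1 => hp.ne_top ((Ideal.eq_top_iff_one _).mpr h1), fun h => absurd hi h⟩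
    · haveI : IsNoetherian P (KH y P i) := isNoetherian_KH P y i
      have h1 := (isZero_homology_map_iff_tensor (T := Localization.AtPrime p) y i).mp
        (hreg i hi)
      obtain ⟨s, hs, hs0⟩ := exists_smul_eq_zero_of_subsingleton_tensor _ p h1
      exact ⟨s, hs, fun _ => hs0⟩
  choose s hsp hs0 using hann
  let g2 : P := ∏ i ∈ Finset.Icc (-(y.length : ℤ)) (-1), s i
  have hg2 : g2 ∉ p := by
    intro hmem
    obtain ⟨i, -, hi⟩ := (hp.prod_mem_iff).mp hmem
    exact hsp i hi
  have hkill : ∀ i : ℤ, i ≠ 0 → ∀ h : KH y P i, g2 • h = 0 := by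
    intro i hi h
    by_cases hmem : i ∈ Finset.Icc (-(y.length : ℤ)) (-1)
    · obtain ⟨c, hc⟩ := Finset.dvd_prod_of_mem s hmem
      show g2 • h = 0
      rw [show g2 = c * s i from by rw [mul_comm]; exact hc, mul_smul, hs0 i hi h, smul_zero]
    · rw [Finset.mem_Icc, not_and_or, not_le, not_le] at hmem
      rcases hmem with h1 | h1
      · haveI := subsingleton_KH_of_lt P y i h1
        exact Subsingleton.elim _ _
      · have hpos : 0 < i := by omega
        haveI := subsingleton_KH_of_pos P y i hpos
        exact Subsingleton.elim _ _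
  have hyle : Ideal.ofList y ≤ I := by
    rw [Ideal.ofList, Ideal.span_le]
    exact fun a ha => hyI a ha
  obtain ⟨g1, hg1, hg1J⟩ := exists_mul_mem_of_map_eq I (Ideal.ofList y) p
    (by rw [Ideal.map_ofList, hof, hI])
  have hg : g1 * g2 ∉ p := by
    intro hmem
    rcases hp.mem_or_mem hmem with h2 | h2
    · exact hg1 h2
    · exact hg2 h2
  have hunit : IsUnit (algebraMap P (Localization.Away (g1 * g2)) (g1 * g2)) :=
    IsLocalization.Away.algebraMap_isUnit (g1 * g2)
  rw [map_mul] at hunit
  have hu1 : IsUnit (algebraMap P (Localization.Away (g1 * g2)) g1) :=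
    isUnit_of_mul_isUnit_left hunit
  have hu2 : IsUnit (algebraMap P (Localization.Away (g1 * g2)) g2) :=
    isUnit_of_mul_isUnit_right hunit
  refine ⟨g1 * g2, hg, y.map (algebraMap P (Localization.Away (g1 * g2))), ?_, ?_⟩
  · intro i hi
    haveI : Module.Flat P (Localization.Away (g1 * g2)) :=
      IsLocalization.flat _ (Submonoid.powers (g1 * g2))
    rw [isZero_homology_map_iff_tensor]
    exact subsingleton_tensor_of_smul_eq_zero _ g2 (hkill i hi) _ hu2
  · rw [← Ideal.map_ofList]
    refine le_antisymm ?_ (Ideal.map_mono hyle)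
    rw [Ideal.map_le_iff_le_comap]
    intro x hx
    rw [Ideal.mem_comap]
    have h1 : algebraMap P (Localization.Away (g1 * g2)) (g1 * x) ∈
        (Ideal.ofList y).map (algebraMap P (Localization.Away (g1 * g2))) :=
      Ideal.mem_map_of_mem _ (hg1J x hx)
    rw [map_mul] at h1
    exact (Ideal.unit_mul_mem_iff_mem _ hu1).mp h1

end Spread

section Regular

open IsLocalRing

theorem isRegularLocalRing_quotient_localization_of {R : Type u} [CommRing R] (I : Ideal R)
    (q : Ideal (R ⧸ I)) [q.IsPrime] [h : IsRegularLocalRing (Localization.AtPrime q)] :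
    IsRegularLocalRing (Localization.AtPrime (q.comap (Ideal.Quotient.mk I)) ⧸
      I.map (algebraMap R (Localization.AtPrime (q.comap (Ideal.Quotient.mk I))))) := by
  have hM : Algebra.algebraMapSubmonoid (R ⧸ I) (q.comap (Ideal.Quotient.mk I)).primeCompl =
      q.primeCompl := by
    ext y
    constructor
    · rintro ⟨x, hx, rfl⟩
      exact hx
    · intro hy
      obtain ⟨x, rfl⟩ := Ideal.Quotient.mk_surjective y
      exact ⟨x, hy, rfl⟩
  have hloc : IsLocalization (Algebra.algebraMapSubmonoid (R ⧸ I)
      (q.comap (Ideal.Quotient.mk I)).primeCompl)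
      (Localization.AtPrime (q.comap (Ideal.Quotient.mk I)) ⧸
        I.map (algebraMap R (Localization.AtPrime (q.comap (Ideal.Quotient.mk I))))) :=
    inferInstance
  rw [hM] at hloc
  exact IsRegularLocalRing.of_ringEquiv
    (IsLocalization.algEquiv q.primeCompl (Localization.AtPrime q)
      (Localization.AtPrime (q.comap (Ideal.Quotient.mk I)) ⧸
        I.map (algebraMap R (Localization.AtPrime (q.comap (Ideal.Quotient.mk I)))))).toRingEquiv

theorem exists_chart_of_regular {P : Type u} [CommRing P] [IsRegularRing P] (I : Ideal P)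
    (p' : Ideal P) [p'.IsPrime]
    [IsRegularLocalRing (Localization.AtPrime p' ⧸
      I.map (algebraMap P (Localization.AtPrime p')))] :
    ∃ g : P, g ∉ p' ∧ ∃ l : List (Localization.Away g),
      LCI.IsKoszulRegularSeq (Localization.Away g) l ∧
        I.map (algebraMap P (Localization.Away g)) = Ideal.ofList l := by
  obtain ⟨r, x, hli, hIx⟩ := Groth.Agent.Lib.Helper5.exists_linearIndependent_span_range_eq
    (I.map (algebraMap P (Localization.AtPrime p')))
  have hseq := Groth.Agent.Lib.Helper5.isRegular_ofFn_of_linearIndependent x hli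
  have hK : LCI.IsKoszulRegularSeq (Localization.AtPrime p')
      (List.ofFn fun i => ((x i : _) : Localization.AtPrime p')) := by
    rw [isKoszulRegularSeq_iff]
    intro i hi
    exact ModuleCat.subsingleton_of_isZero
      (isZero_KH_of_weaklyRegular _ (ModuleCat.of (Localization.AtPrime p')
        (Localization.AtPrime p')) hseq.toIsWeaklyRegular i hi)
  have hI' : I.map (algebraMap P (Localization.AtPrime p')) =
      Ideal.ofList (List.ofFn fun i => ((x i : _) : Localization.AtPrime p')) := by
    rw [hIx, Groth.Agent.Lib.Helper5.ofList_ofFn_eq_span_range]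
  exact spread I p' _ hK hI'

theorem kr_ker_of_regular {P B : Type u} [CommRing P] [CommRing B] [IsRegularRing P]
    [IsRegularRing B] (α : P →+* B) (hα : Function.Surjective α) : KR (RingHom.ker α) := by
  haveI : IsRegularRing (P ⧸ RingHom.ker α) :=
    IsRegularRing.of_ringEquiv (RingHom.quotientKerEquivOfSurjective hα).symm
  intro p hp hIp
  haveI := hp
  have hq : (p.map (Ideal.Quotient.mk (RingHom.ker α))).IsPrime :=
    Ideal.map_isPrime_of_surjective Ideal.Quotient.mk_surjective (by rwa [Ideal.mk_ker])
  have hqp : (p.map (Ideal.Quotient.mk (RingHom.ker α))).comap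
      (Ideal.Quotient.mk (RingHom.ker α)) = p := by
    rw [Ideal.comap_map_of_surjective _ Ideal.Quotient.mk_surjective,
      ← RingHom.ker_eq_comap_bot, Ideal.mk_ker, sup_eq_left]
    exact hIp
  haveI := hq
  haveI := isRegularLocalRing_quotient_localization_of (RingHom.ker α)
    (p.map (Ideal.Quotient.mk (RingHom.ker α)))
  obtain ⟨g, hg, l, hl, hIl⟩ := exists_chart_of_regular (RingHom.ker α)
    ((p.map (Ideal.Quotient.mk (RingHom.ker α))).comap (Ideal.Quotient.mk (RingHom.ker α)))
  exact ⟨g, hqp ▸ hg, Localization.Away g, inferInstance, inferInstance, inferInstance, l, hl,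
    hIl⟩

theorem isLCI_of_isRegularRing (A B : Type u) [CommRing A] [CommRing B] [Algebra A B]
    [hft : Algebra.FiniteType A B] [IsRegularRing A] [IsRegularRing B] : LCI.IsLCI A B := by
  obtain ⟨n, α, hα⟩ := Algebra.FiniteType.iff_quotient_mvPolynomial''.mp hft
  refine ⟨hft, n, α, hα, ?_⟩
  rw [kr_iff]
  exact kr_ker_of_regular α.toRingHom hα

end Regular

section Sch

open AlgebraicGeometry

theorem lci_of_regular_sch {X Y : Scheme.{u}} (f : X ⟶ Y) [LocallyOfFiniteType f]
    [IsLocallyNoetherian X] [IsLocallyNoetherian Y]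
    (hX : ∀ x : X, IsRegularLocalRing ↑(X.presheaf.stalk x))
    (hY : ∀ y : Y, IsRegularLocalRing ↑(Y.presheaf.stalk y))
    (U : X.Opens) (V : Y.Opens) (hU : IsAffineOpen U) (hV : IsAffineOpen V)
    (hUV : U ≤ f ⁻¹ᵁ V) : IsLCIHom (f.appLE V U hUV).hom := by
  haveI : IsRegularRing Γ(X, U) :=
    Groth.Agent.Lib.Helper4.RectDepth.isRegularRing_sections hX hU
  haveI : IsRegularRing Γ(Y, V) :=
    Groth.Agent.Lib.Helper4.RectDepth.isRegularRing_sections hY hV
  have hft : (f.appLE V U hUV).hom.FiniteType :=
    HasRingHomProperty.appLE (P := @LocallyOfFiniteType) f inferInstance ⟨V, hV⟩ ⟨U, hU⟩ hUV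
  letI := (f.appLE V U hUV).hom.toAlgebra
  haveI : Algebra.FiniteType Γ(Y, V) Γ(X, U) := hft
  exact isLCI_of_isRegularRing _ _

end Sch

end Groth.Agent.Lib.Helper5.KzSpread
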