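import Mathlib
import Groth.Agent.Lib.Helper5KzTorA
import Groth.Agent.Lib.Helper13KzH1
import Groth.Agent.S2103

/-!
# Tor of the powers of a Koszul-regular ideal against an algebra keeping it Koszul-regular (helper5)

For a quasi-regular family `f` generating `J`, the graded pieces `J^n/J^{n+1}` are free over `A/J`
on the monomials of degree `n`; hence any extension-closed class of modules containing `A/J`
contains `J^n/J^{n+1}`, `A/J^n` and (if it is closed under kernels of epimorphisms and contains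
`A`) `J^n`.
-/

set_option autoImplicit false
universe u

namespace Groth.Agent.Lib.Helper5.KzTor

open CategoryTheory MvPolynomial

variable {A : Type u} [CommRing A]

/-- the graded piece `J^n/J^{n+1}` in the shape used by the statement -/
abbrev Gr (J : Ideal A) (n : ℕ) : Type u :=
  ↥(J ^ n) ⧸ Submodule.comap (J ^ n).subtype (J ^ (n + 1))

section Graded

variable {c : ℕ} (f : Fin c → A)

/-- the monomial `f^d` -/
noncomputable def mono (d : Fin c →₀ ℕ) : A := d.prod fun i k => f i ^ k

lemma eval_monomial' (d : Fin c →₀ ℕ) (a : A) :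
    MvPolynomial.eval f (monomial d a) = a * mono f d := MvPolynomial.eval_monomial

/-- exponents of degree `n` -/
noncomputable def expSet (c n : ℕ) : Finset (Fin c →₀ ℕ) := Finset.univ.finsuppAntidiag n

lemma mem_expSet {n : ℕ} {d : Fin c →₀ ℕ} : d ∈ expSet c n ↔ d.degree = n := by
  rw [expSet, Finset.mem_finsuppAntidiag, Finsupp.degree_eq_sum]
  simp

lemma mono_mem (n : ℕ) (d : Fin c →₀ ℕ) (hd : d.degree = n) :
    mono f d ∈ Ideal.span (Set.range f) ^ n := by
  rw [Ideal.mem_span_pow_iff_exists_isHomogeneous]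
  exact ⟨monomial d 1, isHomogeneous_monomial 1 hd, by rw [eval_monomial', one_mul]⟩

lemma deg_of_mem {p : MvPolynomial (Fin c) A} {n : ℕ} (hp : p.IsHomogeneous n)
    {d : Fin c →₀ ℕ} (hd : d ∈ p.support) : d.degree = n := by
  rw [Finsupp.degree_eq_weight_one]
  exact hp (MvPolynomial.mem_support_iff.mp hd)

lemma eval_eq_sum (p : MvPolynomial (Fin c) A) :
    MvPolynomial.eval f p = ∑ d ∈ p.support, coeff d p * mono f d := by
  conv_lhs => rw [p.as_sum]
  rw [map_sum]
  exact Finset.sum_congr rfl fun d _ => eval_monomial' f d _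

open Groth.Agent.Lib.Helper5.KzTor in
theorem torZ_gr (hf : CAlgX.IsQuasiRegular f) (Y : ModuleCat.{u} A)
    (hJ : TorZ Y (ModuleCat.of A (A ⧸ Ideal.span (Set.range f)))) (n : ℕ) :
    TorZ Y (ModuleCat.of A (Gr (Ideal.span (Set.range f)) n)) := by
  classical
  let σ := {d : Fin c →₀ ℕ // d ∈ expSet c n}
  let N := Fintype.card σ
  let e : σ ≃ Fin N := Fintype.equivFin σ
  let q : ↥(Ideal.span (Set.range f) ^ n) →ₗ[A] Gr (Ideal.span (Set.range f)) n :=
    Submodule.mkQ _
  let mσ : σ → ↥(Ideal.span (Set.range f) ^ n) := fun s =>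
    ⟨mono f s.1, mono_mem f n s.1 (mem_expSet.mp s.2)⟩
  let g : Fin N → Gr (Ideal.span (Set.range f)) n := fun k => q (mσ (e.symm k))
  refine TorZ.of_basis_mod (Ideal.span (Set.range f)) hJ N
    (Gr (Ideal.span (Set.range f)) n) g ?_ ?_ ?_
  · intro a ha k
    show a • q (mσ (e.symm k)) = 0
    rw [← map_smul]
    refine (Submodule.Quotient.mk_eq_zero _).mpr ?_
    show a • mono f (e.symm k).1 ∈ Ideal.span (Set.range f) ^ (n + 1)
    rw [pow_succ', smul_eq_mul]
    exact Ideal.mul_mem_mul ha (mono_mem f n _ (mem_expSet.mp (e.symm k).2))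
  · intro cf hc k
    have hsum : ∑ k, cf k • g k = q (∑ s : σ, cf (e s) • mσ s) := by
      rw [map_sum, ← Equiv.sum_comp e]
      refine Finset.sum_congr rfl fun s _ => ?_
      rw [map_smul]
      show cf (e s) • q (mσ (e.symm (e s))) = _
      rw [Equiv.symm_apply_apply]
    rw [hsum] at hc
    have hmem : ((∑ s : σ, cf (e s) • mσ s : ↥(Ideal.span (Set.range f) ^ n)) : A) ∈
        Ideal.span (Set.range f) ^ (n + 1) := by
      have h0 := (Submodule.Quotient.mk_eq_zero (Submodule.comap
        (Ideal.span (Set.range f) ^ n).subtype (Ideal.span (Set.range f) ^ (n + 1)))).mp hc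
      exact h0
    let P : MvPolynomial (Fin c) A := ∑ s : σ, monomial s.1 (cf (e s))
    have hP : P.IsHomogeneous n :=
      IsHomogeneous.sum _ _ _ fun s _ => isHomogeneous_monomial _ (mem_expSet.mp s.2)
    have hev : MvPolynomial.eval f P ∈ Ideal.span (Set.range f) ^ (n + 1) := by
      have h1 : MvPolynomial.eval f P =
          ((∑ s : σ, cf (e s) • mσ s : ↥(Ideal.span (Set.range f) ^ n)) : A) := by
        rw [map_sum, AddSubmonoidClass.coe_finsetSum]
        refine Finset.sum_congr rfl fun s _ => ?_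
        rw [eval_monomial']
        rfl
      rw [h1]
      exact hmem
    have hcoef := hf n P hP hev (e.symm k).1
    have hck : coeff (e.symm k).1 P = cf k := by
      rw [MvPolynomial.coeff_sum]
      rw [Finset.sum_eq_single (e.symm k)]
      · rw [MvPolynomial.coeff_monomial, if_pos rfl, Equiv.apply_symm_apply]
      · intro s _ hs
        rw [MvPolynomial.coeff_monomial, if_neg]
        intro h
        exact hs (Subtype.ext h)
      · intro h
        exact absurd (Finset.mem_univ _) h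
    rwa [hck] at hcoef
  · rw [eq_top_iff]
    intro x _
    obtain ⟨⟨y, hy⟩, rfl⟩ := Submodule.mkQ_surjective _ x
    let W : Submodule A ↥(Ideal.span (Set.range f) ^ n) :=
      (Submodule.span A (Set.range g)).comap q
    have hmono : ∀ (d : Fin c →₀ ℕ) (hd : d.degree = n),
        (⟨mono f d, mono_mem f n d hd⟩ : ↥(Ideal.span (Set.range f) ^ n)) ∈ W := by
      intro d hd
      show q _ ∈ Submodule.span A (Set.range g)
      refine Submodule.subset_span ⟨e ⟨d, mem_expSet.mpr hd⟩, ?_⟩
      show q (mσ (e.symm (e ⟨d, mem_expSet.mpr hd⟩))) = _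
      rw [Equiv.symm_apply_apply]
    have key : ∀ p : MvPolynomial (Fin c) A, p.IsHomogeneous n →
        ∀ h : MvPolynomial.eval f p ∈ Ideal.span (Set.range f) ^ n,
          (⟨MvPolynomial.eval f p, h⟩ : ↥(Ideal.span (Set.range f) ^ n)) ∈ W := by
      intro p hp h
      have h2 : (⟨MvPolynomial.eval f p, h⟩ : ↥(Ideal.span (Set.range f) ^ n)) =
          ∑ d ∈ p.support.attach, coeff d.1 p •
            (⟨mono f d.1, mono_mem f n d.1 (deg_of_mem hp d.2)⟩ :
              ↥(Ideal.span (Set.range f) ^ n)) := by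
        apply Subtype.ext
        rw [AddSubmonoidClass.coe_finsetSum]
        show MvPolynomial.eval f p = ∑ d ∈ p.support.attach, coeff d.1 p * mono f d.1
        rw [Finset.sum_attach p.support (fun d => coeff d p * mono f d)]
        exact eval_eq_sum f p
      rw [h2]
      exact Submodule.sum_mem _ fun d _ => Submodule.smul_mem _ _ (hmono d.1 (deg_of_mem hp d.2))
    obtain ⟨p, hp, hpy⟩ := (Ideal.mem_span_pow_iff_exists_isHomogeneous f y).mp hy
    subst hpy
    exact key p hp hy

end Graded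

section Powers

variable (J : Ideal A)

/-- `J^n/J^{n+1} → A/J^{n+1}` -/
noncomputable def grIncl (n : ℕ) : Gr J n →ₗ[A] A ⧸ J ^ (n + 1) :=
  Submodule.mapQ (Submodule.comap (J ^ n).subtype (J ^ (n + 1))) (J ^ (n + 1)) (J ^ n).subtype
    le_rfl

/-- `A/J^{n+1} → A/J^n` -/
noncomputable def quotProj (n : ℕ) : (A ⧸ J ^ (n + 1)) →ₗ[A] A ⧸ J ^ n :=
  Submodule.mapQ (J ^ (n + 1)) (J ^ n) LinearMap.id
    (fun _ hx => Ideal.pow_le_pow_right (Nat.le_succ n) hx)

lemma grIncl_mk (n : ℕ) (x : ↥(J ^ n)) :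
    grIncl J n (Submodule.Quotient.mk x) = Submodule.Quotient.mk x.1 := rfl

lemma quotProj_mk (n : ℕ) (a : A) :
    quotProj J n (Submodule.Quotient.mk a) = Submodule.Quotient.mk a := rfl

lemma quotProj_comp_grIncl (n : ℕ) : quotProj J n ∘ₗ grIncl J n = 0 := by
  apply Submodule.linearMap_qext
  ext x
  show quotProj J n (grIncl J n (Submodule.Quotient.mk x)) = 0
  rw [grIncl_mk, quotProj_mk]
  exact (Submodule.Quotient.mk_eq_zero _).mpr x.2

/-- `0 → J^n/J^{n+1} → A/J^{n+1} → A/J^n → 0` -/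
noncomputable abbrev grSC (n : ℕ) : ShortComplex (ModuleCat.{u} A) :=
  ModuleCat.shortComplexOfCompEqZero (grIncl J n) (quotProj J n) (quotProj_comp_grIncl J n)

lemma grSC_shortExact (n : ℕ) : (grSC J n).ShortExact := by
  refine ModuleCat.shortComplex_shortExact _ ?_ ?_ ?_
  · intro y
    constructor
    · intro hy
      obtain ⟨a, rfl⟩ := Submodule.Quotient.mk_surjective _ y
      have h1 : quotProj J n (Submodule.Quotient.mk a) = 0 := hy
      rw [quotProj_mk, Submodule.Quotient.mk_eq_zero] at h1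
      exact ⟨Submodule.Quotient.mk ⟨a, h1⟩, rfl⟩
    · rintro ⟨z, rfl⟩
      exact LinearMap.congr_fun (quotProj_comp_grIncl J n) z
  · show Function.Injective (grIncl J n)
    rw [injective_iff_map_eq_zero]
    intro z hz
    obtain ⟨x, rfl⟩ := Submodule.Quotient.mk_surjective _ z
    rw [grIncl_mk, Submodule.Quotient.mk_eq_zero] at hz
    exact (Submodule.Quotient.mk_eq_zero _).mpr hz
  · intro y
    obtain ⟨a, rfl⟩ := Submodule.Quotient.mk_surjective _ y
    exact ⟨Submodule.Quotient.mk a, rfl⟩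

theorem torZ_quot_pow (Y : ModuleCat.{u} A)
    (hgr : ∀ n, TorZ Y (ModuleCat.of A (Gr J n))) :
    ∀ n : ℕ, TorZ Y (ModuleCat.of A (A ⧸ J ^ n))
  | 0 => by
    haveI : Subsingleton (A ⧸ J ^ 0) := by
      rw [pow_zero, Ideal.one_eq_top]
      exact Ideal.Quotient.subsingleton_iff.mpr rfl
    exact TorZ.of_subsingleton _
  | n + 1 => by
    have ih := torZ_quot_pow Y hgr n
    exact TorZ.ext (grSC J n) (grSC_shortExact J n) (hgr n) ih

theorem torZ_pow (Y : ModuleCat.{u} A) (hq : ∀ n : ℕ, TorZ Y (ModuleCat.of A (A ⧸ J ^ n)))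
    (n : ℕ) : TorZ Y (ModuleCat.of A ↥(J ^ n)) :=
  TorZ.ker (TorZ.subSC (J ^ n)) (TorZ.subSC_shortExact (J ^ n))
    (TorZ.of_flat (ModuleCat.of A A)) (hq n)

end Powers

/-- the main theorem -/
theorem main (A' : Type u) [CommRing A'] [Algebra A A'] (fs : List A)
    (hfs : LCI.IsKoszulRegularSeq A fs)
    (hfs' : LCI.IsKoszulRegularSeq A' (fs.map (algebraMap A A'))) (n : ℕ) (i : ℕ) (hi : 1 ≤ i) :
    Limits.IsZero (((Tor (ModuleCat.{u} A) i).obj
      (ModuleCat.of A ↥(Ideal.span {x | x ∈ fs} ^ n))).obj (ModuleCat.of A A')) ∧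
    Limits.IsZero (((Tor (ModuleCat.{u} A) i).obj (ModuleCat.of A
      (↥(Ideal.span {x | x ∈ fs} ^ n) ⧸ Submodule.comap (Ideal.span {x | x ∈ fs} ^ n).subtype
        (Ideal.span {x | x ∈ fs} ^ (n + 1))))).obj (ModuleCat.of A A')) := by
  have hq : CAlgX.IsQuasiRegular fs.get := Groth.Agent.S2103.result fs.get
    (Groth.Agent.Helper13KzH1.isH1Regular_of_isKoszulRegularSeq fs hfs)
  have hJ0 : TorZ (ModuleCat.of A A') (ModuleCat.of A (A ⧸ Ideal.ofList fs)) := fun i hi =>
    isZero_tor_quot_of_koszulRegular_map A' fs hfs hfs' i hi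
  have key : ∀ J : Ideal A, J = Ideal.span (Set.range fs.get) →
      TorZ (ModuleCat.of A A') (ModuleCat.of A (A ⧸ J)) →
      (TorZ (ModuleCat.of A A') (ModuleCat.of A ↥(J ^ n)) ∧
        TorZ (ModuleCat.of A A') (ModuleCat.of A (Gr J n))) := by
    intro J hJ hJ1
    subst hJ
    have hgr := fun m => torZ_gr fs.get hq (ModuleCat.of A A') hJ1 m
    exact ⟨torZ_pow _ _ (torZ_quot_pow _ _ hgr) n, hgr n⟩
  have h := key (Ideal.span {x | x ∈ fs}) (by rw [Set.range_list_get]) hJ0
  exact ⟨h.1 i hi, h.2 i hi⟩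

end Groth.Agent.Lib.Helper5.KzTor
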