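import Mathlib
import Groth.Agent.Lib.Helper1IndEtale

/-!
# Lazard's theorem (helper5)

A module is flat iff it is a directed colimit of finite free modules.
-/

set_option autoImplicit false
universe u
open CategoryTheory CategoryTheory.Limits

namespace Groth.Agent.Lib.Helper5.Lazard

noncomputable section

section Cat

variable (R : Type u) [CommRing R] (M : Type u) [AddCommGroup M] [Module R M]

/-- objects: finite free modules `R^n` with a map to `M` -/
structure Obj where
  n : ℕ
  x : (Fin n →₀ R) →ₗ[R] M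

variable {R M}

/-- morphisms: linear maps over `M` -/
@[ext] structure Hom (X Y : Obj R M) where
  a : (Fin X.n →₀ R) →ₗ[R] (Fin Y.n →₀ R)
  w : Y.x ∘ₗ a = X.x

instance : Category.{u} (Obj R M) where
  Hom X Y := Hom X Y
  id X := ⟨LinearMap.id, LinearMap.comp_id _⟩
  comp f g := ⟨g.a ∘ₗ f.a, by rw [← LinearMap.comp_assoc, g.w, f.w]⟩
  id_comp f := Hom.ext (LinearMap.comp_id _)
  comp_id f := Hom.ext (LinearMap.id_comp _)
  assoc f g h := Hom.ext (LinearMap.comp_assoc _ _ _).symm

/-- the diagram of finite free modules -/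
def D : Obj R M ⥤ ModuleCat.{u} R where
  obj X := ModuleCat.of R (Fin X.n →₀ R)
  map f := ModuleCat.ofHom f.a
  map_id X := rfl
  map_comp f g := rfl

/-- the canonical cocone with apex `M` -/
def cocone : Cocone (D (R := R) (M := M)) where
  pt := ModuleCat.of R M
  ι :=
    { app := fun X => ModuleCat.ofHom X.x
      naturality := fun X Y f => by
        simp only [Functor.const_obj_obj, Functor.const_obj_map, Category.comp_id]
        show ModuleCat.ofHom f.a ≫ ModuleCat.ofHom Y.x = ModuleCat.ofHom X.x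
        rw [← ModuleCat.ofHom_comp, f.w] }

/-- a morphism from a family of vectors -/
def homOf (X Y : Obj R M) (c : Fin X.n → (Fin Y.n →₀ R))
    (h : ∀ i, Y.x (c i) = X.x (Finsupp.single i 1)) : X ⟶ Y where
  a := Finsupp.linearCombination R c
  w := by
    refine Finsupp.lhom_ext' fun i => LinearMap.ext_ring ?_
    simp [Finsupp.linearCombination_single, h]

lemma homOf_a_single (X Y : Obj R M) (c : Fin X.n → (Fin Y.n →₀ R))
    (h : ∀ i, Y.x (c i) = X.x (Finsupp.single i 1)) (i : Fin X.n) :
    (homOf X Y c h).a (Finsupp.single i 1) = c i := by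
  simp [homOf, Finsupp.linearCombination_single]

/-- the map `R → M` given by an element -/
def ptx (m : M) : (Fin 1 →₀ R) →ₗ[R] M := Finsupp.linearCombination R (fun _ : Fin 1 => m)

lemma ptx_single (m : M) (i : Fin 1) (r : R) : ptx (R := R) m (Finsupp.single i r) = r • m := by
  simp [ptx, Finsupp.linearCombination_single]

/-- the map `R² → M` given by two elements -/
def pairx (m m' : M) : (Fin 2 →₀ R) →ₗ[R] M := Finsupp.linearCombination R ![m, m']

lemma pairx_single0 (m m' : M) : pairx (R := R) m m' (Finsupp.single 0 1) = m := by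
  simp [pairx, Finsupp.linearCombination_single]

lemma pairx_single1 (m m' : M) : pairx (R := R) m m' (Finsupp.single 1 1) = m' := by
  simp [pairx, Finsupp.linearCombination_single]

lemma ι_eq (s : Cocone (D (R := R) (M := M))) {X Y : Obj R M} (f : X ⟶ Y) (v : Fin X.n →₀ R) :
    (s.ι.app X).hom v = (s.ι.app Y).hom (f.a v) := by
  have := s.w f
  rw [← this]; rfl

/-- the underlying function of the descent map -/
def descFun (s : Cocone (D (R := R) (M := M))) (m : M) : s.pt :=
  (s.ι.app ⟨1, ptx m⟩).hom (Finsupp.single 0 1)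

lemma descFun_eq (s : Cocone (D (R := R) (M := M))) (n : ℕ) (x : (Fin n →₀ R) →ₗ[R] M)
    (v : Fin n →₀ R) :
    descFun s (x v) = (s.ι.app ⟨n, x⟩).hom v := by
  have h : ∀ i : Fin 1, x v = ptx (R := R) (x v) (Finsupp.single i 1) := by
    intro i
    rw [ptx_single, one_smul]
  have := ι_eq s (homOf (⟨1, ptx (x v)⟩ : Obj R M) ⟨n, x⟩ (fun _ => v) h)
    (Finsupp.single (0 : Fin 1) 1)
  rw [homOf_a_single] at this
  exact this

lemma descFun_add (s : Cocone (D (R := R) (M := M))) (m m' : M) :
    descFun s (m + m') = descFun s m + descFun s m' := by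
  have e2 : pairx (R := R) m m'
      (Finsupp.single (0 : Fin 2) (1 : R) + Finsupp.single (1 : Fin 2) (1 : R)) = m + m' := by
    rw [map_add, pairx_single0, pairx_single1]
  calc descFun s (m + m')
      = descFun s (pairx (R := R) m m'
          (Finsupp.single (0 : Fin 2) (1 : R) + Finsupp.single (1 : Fin 2) (1 : R))) := by rw [e2]
    _ = (s.ι.app ⟨2, pairx m m'⟩).hom
          (Finsupp.single (0 : Fin 2) (1 : R) + Finsupp.single (1 : Fin 2) (1 : R)) :=
        descFun_eq s _ _ _
    _ = (s.ι.app ⟨2, pairx m m'⟩).hom (Finsupp.single (0 : Fin 2) (1 : R)) +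
          (s.ι.app ⟨2, pairx m m'⟩).hom (Finsupp.single (1 : Fin 2) (1 : R)) := map_add _ _ _
    _ = descFun s (pairx (R := R) m m' (Finsupp.single (0 : Fin 2) (1 : R))) +
          descFun s (pairx (R := R) m m' (Finsupp.single (1 : Fin 2) (1 : R))) := by
        rw [descFun_eq, descFun_eq]
    _ = descFun s m + descFun s m' := by rw [pairx_single0, pairx_single1]

lemma descFun_smul (s : Cocone (D (R := R) (M := M))) (r : R) (m : M) :
    descFun s (r • m) = r • descFun s m := by
  calc descFun s (r • m)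
      = descFun s (ptx (R := R) m (Finsupp.single 0 r)) := by rw [ptx_single]
    _ = (s.ι.app ⟨1, ptx m⟩).hom (Finsupp.single 0 r) := descFun_eq s _ _ _
    _ = (s.ι.app ⟨1, ptx m⟩).hom (r • Finsupp.single 0 1) :=
        congrArg (s.ι.app ⟨1, ptx m⟩).hom (Finsupp.smul_single_one (0 : Fin 1) r).symm
    _ = r • descFun s m := map_smul _ _ _

/-- `M` is the colimit of the canonical diagram -/
def isColimit : IsColimit (cocone (R := R) (M := M)) where
  desc s := ModuleCat.ofHom
    { toFun := descFun s
      map_add' := descFun_add s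
      map_smul' := descFun_smul s }
  fac s X := by
    refine ModuleCat.hom_ext (LinearMap.ext fun v => ?_)
    exact descFun_eq s X.n X.x v
  uniq s m' hm := by
    refine ModuleCat.hom_ext (LinearMap.ext fun m => ?_)
    show m'.hom m = descFun s m
    have := hm ⟨1, ptx m⟩
    unfold descFun
    rw [← this]
    show m'.hom m = m'.hom (ptx (R := R) m (Finsupp.single 0 1))
    rw [ptx_single, one_smul]

instance [Module.Flat R M] : IsFiltered (Obj R M) where
  cocone_objs X Y := by
    let v : Fin (X.n + Y.n) → M :=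
      Fin.append (fun i => X.x (Finsupp.single i 1)) (fun j => Y.x (Finsupp.single j 1))
    let Z : Obj R M := ⟨X.n + Y.n, Finsupp.linearCombination R v⟩
    refine ⟨Z, homOf X Z (fun i => Finsupp.single (Fin.castAdd Y.n i) 1) ?_,
      homOf Y Z (fun j => Finsupp.single (Fin.natAdd X.n j) 1) ?_, trivial⟩
    · intro i
      simp [Z, v, Finsupp.linearCombination_single, Fin.append_left]
    · intro j
      simp [Z, v, Finsupp.linearCombination_single, Fin.append_right]
  cocone_maps {X Y} f g := by
    have h : Y.x ∘ₗ (f.a - g.a) = 0 := by rw [LinearMap.comp_sub, f.w, g.w, sub_self]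
    obtain ⟨k, a, y, hy, ha⟩ := Module.Flat.exists_factorization_of_comp_eq_zero_of_free h
    refine ⟨⟨k, y⟩, ⟨a, hy.symm⟩, Hom.ext ?_⟩
    show a ∘ₗ f.a = a ∘ₗ g.a
    rw [LinearMap.comp_sub] at ha
    exact sub_eq_zero.mp ha
  nonempty := ⟨⟨0, 0⟩⟩

end Cat

end

theorem exists_of_flat {R : Type u} [CommRing R] (M : Type u) [AddCommGroup M] [Module R M]
    [Module.Flat R M] :
    ∃ (J : Type u) (_ : Preorder J) (_ : IsDirected J (fun a b => a ≤ b)) (_ : Nonempty J)
        (F : J ⥤ ModuleCat.{u} R), (∀ j, Module.Finite R (F.obj j) ∧ Module.Free R (F.obj j)) ∧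
        Nonempty (Limits.colimit F ≅ ModuleCat.of R M) := by
  obtain ⟨α, hpo, hdir, hne, F, hF⟩ := IsFiltered.exists_directed (Obj R M)
  refine ⟨α, @PartialOrder.toPreorder α hpo, hdir, hne, F ⋙ D (R := R) (M := M), fun j => ?_, ⟨?_⟩⟩
  · show Module.Finite R (Fin (F.obj j).n →₀ R) ∧ Module.Free R (Fin (F.obj j).n →₀ R)
    exact ⟨inferInstance, inferInstance⟩
  · haveI := hF
    exact Functor.Final.colimitIso F (D (R := R) (M := M)) ≪≫
      (colimit.isColimit (D (R := R) (M := M))).coconePointUniqueUpToIso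
        (isColimit (R := R) (M := M))

theorem flat_of_colimit {R : Type u} [CommRing R] (M : Type u) [AddCommGroup M] [Module R M]
    (J : Type u) [Preorder J] [IsDirected J (fun a b => a ≤ b)] [Nonempty J]
    (F : J ⥤ ModuleCat.{u} R) (hF : ∀ j, Module.Flat R (F.obj j))
    (e : colimit F ≅ ModuleCat.of R M) : Module.Flat R M := by
  haveI : IsFiltered J := isFiltered_of_directed_le_nonempty J
  let ψ : ∀ j, F.obj j →ₗ[R] M := fun j => (colimit.ι F j ≫ e.hom).hom
  have hψ : ∀ j (y : F.obj j), ψ j y = e.hom.hom ((colimit.ι F j).hom y) := fun j y => rfl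
  have hw : ∀ {j k : J} (g : j ⟶ k) (y : F.obj j), ψ k ((F.map g).hom y) = ψ j y := by
    intro j k g y
    have := colimit.w F g
    rw [hψ, hψ, ← this]
    rfl
  refine Helper1.IndEtale.flat_of_family (fun _ : J => R) (fun j => F.obj j)
    (fun _ => RingHom.id R) (fun j => (ψ j).toAddMonoidHom) (fun j r m => by simp) ?_
  intro l f x h
  have hcov : ∀ m : M, ∃ j, m ∈ Set.range (ψ j) := by
    intro m
    obtain ⟨j, y, hy⟩ := Concrete.colimit_exists_rep F (e.inv.hom m)
    refine ⟨j, y, ?_⟩
    rw [hψ]
    have hy' : (colimit.ι F j).hom y = e.inv.hom m := hy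
    rw [hy']
    exact e.inv_hom_id_apply m
  obtain ⟨j, hj⟩ := Helper1.IndEtale.exists_common_stage (fun j => Set.range (ψ j))
    (fun {j k} g => by rintro _ ⟨y, rfl⟩; exact ⟨(F.map g).hom y, hw g y⟩) hcov x
  choose x' hx' using hj
  have h0 : ψ j (∑ i, f i • x' i) = 0 := by simp only [map_sum, map_smul, hx', h]
  have h1 : (colimit.ι F j).hom (∑ i, f i • x' i) = (colimit.ι F j).hom 0 := by
    rw [map_zero]
    have h2 := congrArg e.inv.hom h0
    rw [hψ, map_zero] at h2
    rw [← h2]
    exact (e.hom_inv_id_apply _).symm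
  obtain ⟨k, g, g', hk⟩ := Concrete.colimit_exists_of_rep_eq F _ _ h1
  refine ⟨k, f, fun i => (F.map g).hom (x' i), fun _ => rfl, fun i => ?_, ?_⟩
  · show ψ k ((F.map g).hom (x' i)) = x i
    rw [hw, hx']
  · have h3 : (F.map g).hom (∑ i, f i • x' i) = 0 := by
      have : (F.map g).hom (∑ i, f i • x' i) = (F.map g').hom 0 := hk
      rw [this, map_zero]
    simpa only [map_sum, map_smul] using h3

end Groth.Agent.Lib.Helper5.Lazard
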