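import Groth.Agent.Lib.Helper5KzSpread
import Groth.Agent.Lib.Helper5KzMin
import Groth.Agent.Lib.Helper5KoszulGor
import Groth.Agent.Lib.Helper5LciOmA

/-!
# Spreading out a Koszul-regular sequence to a regular sequence (helper5)

In a Noetherian ring, a Koszul-regular sequence contained in a prime `p` becomes, after inverting
one element outside `p`, a sequence all of whose tails are Koszul-regular, hence a regular sequence
in the sense of `RegSeq` (`exists_regSeq_away`).  For a Koszul-regular ideal `I ≤ Q` of a
Noetherian ring `P` this gives `g ∉ Q` and a localization `P_g` on which `I` is generated by a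
regular sequence (`exists_regSeq_of_kr`).
-/

set_option autoImplicit false
set_option linter.style.haveILetI false
universe u

namespace Groth.Agent.Lib.Helper5.LciOm

open Groth.Agent.Lib.Helper5.KzSpread Groth.Agent.Lib.Helper5.KzMin
  Groth.Agent.Lib.Helper5.KoszulGor
open Groth.Agent.Helper13Kz Groth.Agent.Helper13KzLift CohIII
open scoped TensorProduct

section Kill

variable {S : Type u} [CommRing S] [IsNoetherianRing S]

/-- an element outside `p` killing the higher Koszul homology of `y`, if `y` is Koszul-regular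
at `p`. -/
theorem exists_kill (p : Ideal S) [hp : p.IsPrime] (y : List S)
    (hreg : LCI.IsKoszulRegularSeq (Localization.AtPrime p)
      (y.map (algebraMap S (Localization.AtPrime p)))) :
    ∃ t : S, t ∉ p ∧ ∀ i : ℤ, i ≠ 0 → ∀ h : KH y S i, t • h = 0 := by
  classical
  have hann : ∀ i : ℤ, ∃ s : S, s ∉ p ∧ (i ≠ 0 → ∀ h : KH y S i, s • h = 0) := by
    intro i
    by_cases hi : i = 0
    · exact ⟨1, fun h1 => hp.ne_top ((Ideal.eq_top_iff_one _).mpr h1), fun h => absurd hi h⟩
    · haveI : IsNoetherian S (KH y S i) := isNoetherian_KH S y i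
      have h1 := (isZero_homology_map_iff_tensor (T := Localization.AtPrime p) y i).mp
        (hreg i hi)
      obtain ⟨s, hs, hs0⟩ := exists_smul_eq_zero_of_subsingleton_tensor _ p h1
      exact ⟨s, hs, fun _ => hs0⟩
  choose s hsp hs0 using hann
  let g2 : S := ∏ i ∈ Finset.Icc (-(y.length : ℤ)) (-1), s i
  have hg2 : g2 ∉ p := by
    intro hmem
    obtain ⟨i, -, hi⟩ := (hp.prod_mem_iff).mp hmem
    exact hsp i hi
  refine ⟨g2, hg2, fun i hi h => ?_⟩
  by_cases hmem : i ∈ Finset.Icc (-(y.length : ℤ)) (-1)
  · obtain ⟨c, hc⟩ := Finset.dvd_prod_of_mem s hmem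
    show g2 • h = 0
    rw [show g2 = c * s i from by rw [mul_comm]; exact hc, mul_smul, hs0 i hi h, smul_zero]
  · rw [Finset.mem_Icc, not_and_or, not_le, not_le] at hmem
    rcases hmem with h1 | h1
    · haveI := subsingleton_KH_of_lt S y i h1
      exact Subsingleton.elim _ _
    · have hpos : 0 < i := by omega
      haveI := subsingleton_KH_of_pos S y i hpos
      exact Subsingleton.elim _ _

/-- after inverting an element killing the higher Koszul homology the sequence is Koszul-regular -/
theorem kr_map_of_kill (y : List S) (t : S)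
    (ht : ∀ i : ℤ, i ≠ 0 → ∀ h : KH y S i, t • h = 0)
    (T : Type u) [CommRing T] [Algebra S T] [Module.Flat S T]
    (hu : IsUnit (algebraMap S T t)) :
    LCI.IsKoszulRegularSeq T (y.map (algebraMap S T)) := by
  intro i hi
  rw [isZero_homology_map_iff_tensor]
  exact subsingleton_tensor_of_smul_eq_zero _ t (ht i hi) _ hu

/-- the same for all tails at once -/
theorem exists_kill_suffixes (p : Ideal S) [hp : p.IsPrime] : ∀ (y : List S),
    (∀ s : List S, s <:+ y → LCI.IsKoszulRegularSeq (Localization.AtPrime p)
      (s.map (algebraMap S (Localization.AtPrime p)))) →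
    ∃ t : S, t ∉ p ∧ ∀ s : List S, s <:+ y → ∀ i : ℤ, i ≠ 0 → ∀ h : KH s S i, t • h = 0
  | [], hloc => by
    obtain ⟨t, ht, hk⟩ := exists_kill p [] (hloc [] (List.suffix_refl _))
    refine ⟨t, ht, fun s hs => ?_⟩
    rw [List.suffix_nil] at hs
    subst hs
    exact hk
  | a :: y, hloc => by
    obtain ⟨t₁, ht₁, hk₁⟩ := exists_kill_suffixes p y
      (fun s hs => hloc s (hs.trans (List.suffix_cons a y)))
    obtain ⟨t₂, ht₂, hk₂⟩ := exists_kill p (a :: y) (hloc _ (List.suffix_refl _))
    refine ⟨t₁ * t₂, fun hmem => (hp.mem_or_mem hmem).elim ht₁ ht₂, fun s hs i hi h => ?_⟩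
    rcases List.suffix_cons_iff.mp hs with rfl | hs'
    · rw [mul_smul, hk₂ i hi h, smul_zero]
    · rw [mul_comm, mul_smul, hk₁ s hs' i hi h, smul_zero]

end Kill

section Local

/-- in a Noetherian local ring, the tails of a Koszul-regular sequence in the maximal ideal are
Koszul-regular -/
theorem suffix_kr_of_local {R : Type u} [CommRing R] [IsLocalRing R] [IsNoetherianRing R] :
    ∀ (l : List R), (∀ x ∈ l, x ∈ IsLocalRing.maximalIdeal R) →
      (∀ i : ℤ, i ≠ 0 → Subsingleton (KH l R i)) →
      ∀ s : List R, s <:+ l → ∀ i : ℤ, i ≠ 0 → Subsingleton (KH s R i)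
  | [], _, h, s, hs => by
    rw [List.suffix_nil] at hs
    subst hs
    exact h
  | x :: l, hm, h, s, hs => by
    rcases List.suffix_cons_iff.mp hs with rfl | hs'
    · exact h
    · obtain ⟨h0, -⟩ := acyclic_of_cons R x l (hm x List.mem_cons_self) h
      exact suffix_kr_of_local l (fun y hy => hm y (List.mem_cons_of_mem _ hy)) h0 s hs'

/-- a sequence all of whose tails are Koszul-regular is a regular sequence -/
theorem regSeq_map_of_suffix_kr {S T : Type u} [CommRing S] [CommRing T] (f : S →+* T) :
    ∀ (y : List S), (∀ s : List S, s <:+ y → LCI.IsKoszulRegularSeq T (s.map f)) →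
      RegSeq (y.map f)
  | [], _ => trivial
  | a :: y, h =>
    ⟨regSeq_map_of_suffix_kr f y (fun s hs => h s (hs.trans (List.suffix_cons a y))),
      fun c hc => mem_of_mul_mem_of_cons (f a) (y.map f) (h (a :: y) (List.suffix_refl _)) c
        (by rw [mul_comm]; exact hc)⟩

end Local

section Spread

variable {S : Type u} [CommRing S] [IsNoetherianRing S]

/-- a Koszul-regular sequence inside a prime `p` becomes a regular sequence after inverting a
suitable element outside `p`. -/
theorem exists_regSeq_away (p : Ideal S) [hp : p.IsPrime] (y : List S)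
    (hy : LCI.IsKoszulRegularSeq S y) (hyp : ∀ x ∈ y, x ∈ p) :
    ∃ t : S, t ∉ p ∧ ∀ (T : Type u) [CommRing T] [Algebra S T] [Module.Flat S T],
      IsUnit (algebraMap S T t) → RegSeq (y.map (algebraMap S T)) := by
  have hloc0 : LCI.IsKoszulRegularSeq (Localization.AtPrime p)
      (y.map (algebraMap S (Localization.AtPrime p))) := by
    refine kr_map_of_kill y 1 (fun i hi h => ?_) (Localization.AtPrime p)
      (by rw [map_one]; exact isUnit_one)
    haveI := (isKoszulRegularSeq_iff S y).mp hy i hi
    exact Subsingleton.elim _ _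
  have hmem : ∀ x ∈ y.map (algebraMap S (Localization.AtPrime p)),
      x ∈ IsLocalRing.maximalIdeal (Localization.AtPrime p) := by
    intro x hx
    obtain ⟨a, ha, rfl⟩ := List.mem_map.mp hx
    exact (IsLocalization.AtPrime.to_map_mem_maximal_iff (Localization.AtPrime p) p a).mpr
      (hyp a ha)
  have hloc : ∀ s : List S, s <:+ y → LCI.IsKoszulRegularSeq (Localization.AtPrime p)
      (s.map (algebraMap S (Localization.AtPrime p))) := by
    intro s hs
    rw [isKoszulRegularSeq_iff]
    exact suffix_kr_of_local _ hmem ((isKoszulRegularSeq_iff _ _).mp hloc0) _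
      (List.IsSuffix.map _ hs)
  obtain ⟨t, ht, hk⟩ := exists_kill_suffixes p y hloc
  refine ⟨t, ht, fun T _ _ _ hu => ?_⟩
  exact regSeq_map_of_suffix_kr (algebraMap S T) y
    (fun s hs => kr_map_of_kill s t (hk s hs) T hu)

end Spread

section Ideal

variable {P : Type u} [CommRing P] [IsNoetherianRing P]

/-- a Koszul-regular ideal is, near any prime containing it, generated by a regular sequence -/
theorem exists_regSeq_of_kr (I Q : Ideal P) [hQ : Q.IsPrime] (hIQ : I ≤ Q)
    (hI : LCI.IsKoszulRegularIdeal I) :
    ∃ g : P, g ∉ Q ∧ ∃ (Bt : Type u) (_ : CommRing Bt) (_ : Algebra P Bt)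
      (_ : IsLocalization.Away g Bt) (l : List Bt),
      RegSeq l ∧ I.map (algebraMap P Bt) = Ideal.ofList l := by
  obtain ⟨g₁, hg₁, l₁, hl₁, hspan⟩ := hI ⟨Q, hQ⟩ hIQ
  have hdisj : Disjoint ((Submonoid.powers g₁ : Submonoid P) : Set P) (Q : Set P) := by
    rw [Set.disjoint_left]
    rintro _ ⟨n, rfl⟩ hn
    exact hg₁ (hQ.mem_of_pow_mem n hn)
  haveI hp' : (Q.map (algebraMap P (Localization.Away g₁))).IsPrime :=
    IsLocalization.isPrime_of_isPrime_disjoint (Submonoid.powers g₁) (Localization.Away g₁) Q hQ
      hdisj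
  haveI : IsNoetherianRing (Localization.Away g₁) :=
    IsLocalization.isNoetherianRing (Submonoid.powers g₁) (Localization.Away g₁) inferInstance
  have hl₁Q : ∀ x ∈ l₁, x ∈ Q.map (algebraMap P (Localization.Away g₁)) := by
    intro x hx
    have h1 : x ∈ I.map (algebraMap P (Localization.Away g₁)) := by
      rw [hspan]
      exact Ideal.subset_span hx
    exact Ideal.map_mono hIQ h1
  obtain ⟨t, ht, hreg⟩ := exists_regSeq_away (Q.map (algebraMap P (Localization.Away g₁))) l₁
    hl₁ hl₁Q
  obtain ⟨n, a, ha⟩ := IsLocalization.Away.surj g₁ t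
  have hunit : IsUnit (algebraMap P (Localization.Away g₁) g₁ ^ n) :=
    (IsLocalization.Away.algebraMap_isUnit g₁).pow n
  have hap : a ∉ Q := by
    intro hmem
    apply ht
    have h1 : algebraMap P (Localization.Away g₁) a ∈
        Q.map (algebraMap P (Localization.Away g₁)) := Ideal.mem_map_of_mem _ hmem
    rw [← ha] at h1
    exact (Ideal.mul_unit_mem_iff_mem _ hunit).mp h1
  haveI : IsScalarTower P (Localization.Away g₁) (Localization.Away t) := inferInstance
  have hassoc : Associated (algebraMap P (Localization.Away g₁) a) t := by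
    obtain ⟨v, hv⟩ := hunit
    have h1 : Associated t (algebraMap P (Localization.Away g₁) a) := ⟨v, by rw [hv, ha]⟩
    exact h1.symm
  haveI : IsLocalization.Away (g₁ * a) (Localization.Away t) :=
    IsLocalization.Away.mul_of_associated (S := Localization.Away g₁) g₁ a t hassoc
  haveI : Module.Flat (Localization.Away g₁) (Localization.Away t) :=
    IsLocalization.flat _ (Submonoid.powers t)
  refine ⟨g₁ * a, ?_, Localization.Away t, inferInstance, inferInstance, inferInstance,
    l₁.map (algebraMap (Localization.Away g₁) (Localization.Away t)),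
    hreg (Localization.Away t) (IsLocalization.Away.algebraMap_isUnit t), ?_⟩
  · intro hmem
    rcases hQ.mem_or_mem hmem with h1 | h1
    · exact hg₁ h1
    · exact hap h1
  · rw [IsScalarTower.algebraMap_eq P (Localization.Away g₁) (Localization.Away t),
      ← Ideal.map_map, hspan, ← Ideal.map_ofList]

end Ideal

end Groth.Agent.Lib.Helper5.LciOm
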