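import Mathlib
import Groth.Agent.Lib.Helper5LiftA

/-!
# Lifting projective modules along a nilpotent ideal (helper5)
-/

set_option autoImplicit false
universe u
open TensorProduct

namespace Groth.Agent.Lib.Helper5.LiftF

open Groth.Agent.Lib.Helper5.LiftA

variable {R : Type u} [CommRing R] (I : Ideal R)

/-- a `k`-linear endomorphism of `k ⊗ M` which vanishes on `1 ⊗ m` -/
lemma baseChange_eq_of_mk {M N : Type u} [AddCommGroup M] [Module R M] [AddCommGroup N] [Module R N]
    (g : M →ₗ[R] N) (g' : (R ⧸ I) ⊗[R] M →ₗ[R ⧸ I] (R ⧸ I) ⊗[R] N)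
    (h : ∀ m, (1 : R ⧸ I) ⊗ₜ[R] g m = g' ((1 : R ⧸ I) ⊗ₜ[R] m)) : g.baseChange (R ⧸ I) = g' := by
  refine TensorProduct.AlgebraTensorModule.ext fun a x => ?_
  obtain ⟨r, rfl⟩ := Ideal.Quotient.mk_surjective a
  rw [mk_one_tmul_eq, LinearMap.baseChange_tmul, h]

/-- every `k`-linear map between reductions of projective modules lifts -/
lemma exists_baseChange_eq {M N : Type u} [AddCommGroup M] [Module R M] [AddCommGroup N] [Module R N]
    [Module.Projective R M] (g' : (R ⧸ I) ⊗[R] M →ₗ[R ⧸ I] (R ⧸ I) ⊗[R] N) :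
    ∃ g : M →ₗ[R] N, g.baseChange (R ⧸ I) = g' := by
  obtain ⟨g, hg⟩ := Module.projective_lifting_property (TensorProduct.mk R (R ⧸ I) N 1)
    ((g'.restrictScalars R) ∘ₗ TensorProduct.mk R (R ⧸ I) M 1)
    (TensorProduct.mk_surjective (R := R) (S := R ⧸ I) (M := N) Ideal.Quotient.mk_surjective)
  exact ⟨g, baseChange_eq_of_mk I g g' (fun m => LinearMap.congr_fun hg m)⟩

lemma pow_apply_mem {M : Type u} [AddCommGroup M] [Module R M] (g : Module.End R M)
    (hg : ∀ m, g m ∈ I • (⊤ : Submodule R M)) (j : ℕ) (m : M) :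
    (g ^ j) m ∈ I ^ j • (⊤ : Submodule R M) := by
  induction j generalizing m with
  | zero => simp
  | succ j ih =>
    have hstep : (g ^ (j + 1)) m = g ((g ^ j) m) := by rw [pow_succ']; rfl
    rw [hstep]
    refine Submodule.smul_induction_on (ih m) (fun r hr y _ => ?_) (fun a b ha hb => ?_)
    · rw [map_smul, pow_succ, Submodule.mul_smul]
      exact Submodule.smul_mem_smul hr (hg y)
    · rw [map_add]
      exact Submodule.add_mem _ ha hb

/-- idempotent endomorphisms lift along a nilpotent ideal -/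
lemma exists_idem_lift (n : ℕ) (hn : I ^ n = ⊥) (M : Type u) [AddCommGroup M] [Module R M]
    [Module.Projective R M]
    (eb : Module.End (R ⧸ I) ((R ⧸ I) ⊗[R] M)) (heb : IsIdempotentElem eb) :
    ∃ e : Module.End R M, IsIdempotentElem e ∧ e.baseChange (R ⧸ I) = eb := by
  have hr : ∃ g : Module.End R M, g.baseChange (R ⧸ I) = eb :=
    exists_baseChange_eq I (M := M) (N := M) eb
  have hk : ∀ g : Module.End R M, g.baseChange (R ⧸ I) = 0 → IsNilpotent g := by
    intro g hg
    have h1 : ∀ m, g m ∈ I • (⊤ : Submodule R M) := fun m => by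
      apply mem_smul_top_of_mk_eq_zero
      have := LinearMap.congr_fun hg ((1 : R ⧸ I) ⊗ₜ[R] m)
      rw [LinearMap.baseChange_tmul] at this
      exact this
    refine ⟨n, ?_⟩
    apply LinearMap.ext
    intro m
    have h2 := pow_apply_mem I g h1 n m
    rw [hn, Submodule.bot_smul, Submodule.mem_bot] at h2
    rw [h2, LinearMap.zero_apply]
  have key := exists_isIdempotentElem_eq_of_ker_isNilpotent (R := Module.End R M)
    (S := Module.End (R ⧸ I) ((R ⧸ I) ⊗[R] M))
    (Module.End.baseChangeHom R (R ⧸ I) M).toRingHom (fun g hg => hk g (by exact hg)) eb (by exact hr) heb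
  exact key

/-- projective modules lift along a nilpotent ideal -/
theorem exists_projective_lift (n : ℕ) (hn : I ^ n = ⊥)
    (Eb : Type u) [AddCommGroup Eb] [Module (R ⧸ I) Eb] [Module.Projective (R ⧸ I) Eb] :
    ∃ X : ModuleCat.{u} R, Module.Projective R X ∧
      Nonempty ((R ⧸ I) ⊗[R] X ≃ₗ[R ⧸ I] Eb) := by
  classical
  letI : Module R Eb := Module.compHom Eb (Ideal.Quotient.mk I)
  haveI : IsScalarTower R (R ⧸ I) Eb := ⟨fun r a x => by
    show ((Ideal.Quotient.mk I r) * a) • x = (Ideal.Quotient.mk I r) • (a • x)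
    rw [mul_smul]⟩
  let M := Eb →₀ R
  let π : M →ₗ[R] Eb := Finsupp.linearCombination R id
  have hπ : Function.Surjective π := Finsupp.linearCombination_id_surjective R Eb
  let πb : (R ⧸ I) ⊗[R] M →ₗ[R ⧸ I] Eb := LinearMap.liftBaseChange (R ⧸ I) π
  have hπb : Function.Surjective πb := fun x => by
    obtain ⟨m, hm⟩ := hπ x
    refine ⟨(1 : R ⧸ I) ⊗ₜ[R] m, ?_⟩
    rw [LinearMap.liftBaseChange_tmul, one_smul, hm]
  obtain ⟨ιb, hιb⟩ := Module.projective_lifting_property πb LinearMap.id hπb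
  have hιb' : ∀ x, πb (ιb x) = x := fun x => LinearMap.congr_fun hιb x
  let eb : Module.End (R ⧸ I) ((R ⧸ I) ⊗[R] M) := ιb ∘ₗ πb
  have heb : IsIdempotentElem eb := by
    apply LinearMap.ext
    intro z
    show ιb (πb (ιb (πb z))) = ιb (πb z)
    rw [hιb']
  obtain ⟨e, he, hρe⟩ := exists_idem_lift I n hn M eb heb
  have hee : ∀ m, e (e m) = e m := fun m => LinearMap.congr_fun he.eq m
  let X : Submodule R M := LinearMap.range e
  let e' : M →ₗ[R] X := e.rangeRestrict
  have h1 : X.subtype ∘ₗ e' = e := by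
    apply LinearMap.ext
    intro m
    rfl
  have h2 : e' ∘ₗ e ∘ₗ X.subtype = LinearMap.id := by
    apply LinearMap.ext
    rintro ⟨x, m, rfl⟩
    apply Subtype.ext
    show e (e (e m)) = e m
    rw [hee, hee]
  have h3 : e' ∘ₗ X.subtype = LinearMap.id := by
    apply LinearMap.ext
    rintro ⟨x, m, rfl⟩
    apply Subtype.ext
    show e (e m) = e m
    rw [hee]
  refine ⟨ModuleCat.of R X, Module.Projective.of_split X.subtype e' h3, ⟨?_⟩⟩
  refine LinearEquiv.ofLinearMap (πb ∘ₗ X.subtype.baseChange (R ⧸ I))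
    (e'.baseChange (R ⧸ I) ∘ₗ ιb) ?_ ?_
  · apply LinearMap.ext
    intro x
    show πb (X.subtype.baseChange (R ⧸ I) (e'.baseChange (R ⧸ I) (ιb x))) = x
    have h5 : X.subtype.baseChange (R ⧸ I) (e'.baseChange (R ⧸ I) (ιb x)) =
        (X.subtype ∘ₗ e').baseChange (R ⧸ I) (ιb x) := by
      rw [LinearMap.baseChange_comp]; rfl
    rw [h5, h1, hρe]
    show πb (ιb (πb (ιb x))) = x
    rw [hιb', hιb']
  · apply LinearMap.ext
    intro z
    show e'.baseChange (R ⧸ I) (ιb (πb (X.subtype.baseChange (R ⧸ I) z))) = z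
    have h4 : ιb (πb (X.subtype.baseChange (R ⧸ I) z)) =
        e.baseChange (R ⧸ I) (X.subtype.baseChange (R ⧸ I) z) := by
      rw [hρe]
      rfl
    have h6 : e'.baseChange (R ⧸ I) (e.baseChange (R ⧸ I) (X.subtype.baseChange (R ⧸ I) z)) =
        (e' ∘ₗ e ∘ₗ X.subtype).baseChange (R ⧸ I) z := by
      rw [LinearMap.baseChange_comp, LinearMap.baseChange_comp]; rfl
    rw [h4, h6, h2, LinearMap.baseChange_id, LinearMap.id_apply]

end Groth.Agent.Lib.Helper5.LiftF
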