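import Mathlib
import Groth.Agent.Lib.Helper26HenselIdem
import Groth.Agent.Lib.Helper5LiftG

/-!
# Finite projective modules lift along a Henselian pair (helper5)

An idempotent matrix over `R/I` is lifted to an idempotent matrix over `R` inside the commutative
integral subalgebra `R[p]` of the matrix ring generated by an arbitrary lift `p`.
-/

set_option autoImplicit false
universe u
open scoped IsMulCommutative
open TensorProduct

namespace Groth.Agent.Lib.Helper5.LiftHens

open Polynomial Matrix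

variable {R : Type u} [CommRing R] (I : Ideal R)

section Mat

/-- a matrix in a commutative subalgebra of the matrix ring whose entries lie in `I` has its
`n`-th power in `I·B` -/
lemma pow_mem_of_map_eq_zero {n : Type} [Fintype n] [DecidableEq n]
    (B : Subalgebra R (Matrix n n R)) [IsMulCommutative B] (b : B)
    (hb : (b : Matrix n n R).map (Ideal.Quotient.mk I) = 0) :
    b ^ (Fintype.card n) ∈ Ideal.map (algebraMap R B) I := by
  have hχ : ((b : Matrix n n R).charpoly).map (Ideal.Quotient.mk I) = X ^ Fintype.card n := by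
    rw [← Matrix.charpoly_map, hb, Matrix.charpoly_zero]
  have hr : ∀ k, ((b : Matrix n n R).charpoly - X ^ Fintype.card n).coeff k ∈ I := by
    intro k
    rw [← Ideal.Quotient.eq_zero_iff_mem, ← Polynomial.coeff_map, Polynomial.map_sub, hχ,
      Polynomial.map_pow, Polynomial.map_X, sub_self, Polynomial.coeff_zero]
  have h0 : aeval b (b : Matrix n n R).charpoly = 0 := by
    apply Subtype.ext
    rw [Polynomial.aeval_subalgebra_coe]
    exact Matrix.aeval_self_charpoly (b : Matrix n n R)
  have h1 : b ^ Fintype.card n =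
      - aeval b ((b : Matrix n n R).charpoly - X ^ Fintype.card n) := by
    rw [map_sub, h0, map_pow, aeval_X, zero_sub, neg_neg]
  rw [h1]
  refine (Ideal.neg_mem_iff _).mpr ?_
  rw [Polynomial.aeval_eq_sum_range]
  refine Ideal.sum_mem _ fun k _ => ?_
  rw [Algebra.smul_def]
  exact Ideal.mul_mem_right _ _ (Ideal.mem_map_of_mem _ (hr k))

/-- idempotent matrices lift along a Henselian pair -/
theorem exists_idempotent_lift [HenselianRing R I] (k : ℕ)
    (ebar : Matrix (Fin k) (Fin k) (R ⧸ I)) (hebar : IsIdempotentElem ebar) :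
    ∃ e : Matrix (Fin k) (Fin k) R, IsIdempotentElem e ∧ e.map (Ideal.Quotient.mk I) = ebar := by
  classical
  let p : Matrix (Fin k) (Fin k) R :=
    ebar.map (Function.surjInv (Ideal.Quotient.mk_surjective (I := I)))
  have hp : p.map (Ideal.Quotient.mk I) = ebar := by
    ext i j
    simp only [p, Matrix.map_apply]
    exact Function.surjInv_eq _ _
  let B : Subalgebra R (Matrix (Fin k) (Fin k) R) := Algebra.adjoin R {p}
  let ρ : Matrix (Fin k) (Fin k) R →+* Matrix (Fin k) (Fin k) (R ⧸ I) :=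
    (Ideal.Quotient.mk I).mapMatrix
  let ρB : B →+* Matrix (Fin k) (Fin k) (R ⧸ I) := ρ.comp B.val.toRingHom
  haveI : Algebra.IsIntegral R B :=
    ⟨fun x => (isIntegral_algHom_iff B.val Subtype.val_injective).mp (Matrix.isIntegral _)⟩
  have hIJ : Ideal.map (algebraMap R B) I ≤ RingHom.ker ρB := by
    rw [Ideal.map_le_iff_le_comap]
    intro a ha
    rw [Ideal.mem_comap, RingHom.mem_ker]
    show ((algebraMap R (Matrix (Fin k) (Fin k) R) a)).map (Ideal.Quotient.mk I) = 0
    ext i j
    rw [Matrix.map_apply, Matrix.algebraMap_matrix_apply, Matrix.zero_apply]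
    split_ifs
    · exact Ideal.Quotient.eq_zero_iff_mem.mpr ha
    · exact map_zero _
  let pB : B := ⟨p, Algebra.subset_adjoin (Set.mem_singleton p)⟩
  have hpJ : IsIdempotentElem (Ideal.Quotient.mk (RingHom.ker ρB) pB) := by
    show Ideal.Quotient.mk (RingHom.ker ρB) pB * Ideal.Quotient.mk (RingHom.ker ρB) pB =
      Ideal.Quotient.mk (RingHom.ker ρB) pB
    rw [← map_mul, Ideal.Quotient.eq, RingHom.mem_ker]
    show ρ (p * p - p) = 0
    rw [map_sub ρ, map_mul ρ]
    show p.map (Ideal.Quotient.mk I) * p.map (Ideal.Quotient.mk I) -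
      p.map (Ideal.Quotient.mk I) = 0
    rw [hp, hebar.eq, sub_self]
  have hnil : ∀ x ∈ RingHom.ker (Ideal.Quotient.factor hIJ), IsNilpotent x := by
    intro x hx
    obtain ⟨b, rfl⟩ := Ideal.Quotient.mk_surjective x
    have hbJ : b ∈ RingHom.ker ρB := by
      rw [RingHom.mem_ker, Ideal.Quotient.factor_mk] at hx
      exact Ideal.Quotient.eq_zero_iff_mem.mp hx
    refine ⟨Fintype.card (Fin k), ?_⟩
    rw [← map_pow, Ideal.Quotient.eq_zero_iff_mem]
    have hb0 : ρB b = 0 := RingHom.mem_ker.mp hbJ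
    exact pow_mem_of_map_eq_zero I B b hb0
  obtain ⟨e₁, he₁, hfe₁⟩ := exists_isIdempotentElem_eq_of_ker_isNilpotent
    (Ideal.Quotient.factor hIJ) hnil (Ideal.Quotient.mk (RingHom.ker ρB) pB)
    ⟨Ideal.Quotient.mk _ pB, Ideal.Quotient.factor_mk _ _⟩ hpJ
  obtain ⟨e₂, he₂, he₂₁⟩ := Groth.Agent.Lib.Helper26.HenselIdem.idem_surjOn R I B he₁
  refine ⟨(e₂ : Matrix (Fin k) (Fin k) R), congrArg Subtype.val he₂.eq, ?_⟩
  have h1 : Ideal.Quotient.mk (RingHom.ker ρB) e₂ = Ideal.Quotient.mk (RingHom.ker ρB) pB := by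
    rw [← hfe₁, ← he₂₁]
    exact (Ideal.Quotient.factor_mk _ _).symm
  rw [Ideal.Quotient.eq, RingHom.mem_ker] at h1
  have h2 : ρ ((e₂ : Matrix (Fin k) (Fin k) R) - p) = 0 := h1
  rw [map_sub ρ] at h2
  rw [← hp]
  exact sub_eq_zero.mp h2

end Mat

section Mod

omit [CommRing R] in
lemma dummy : True := trivial

lemma tmul_eq_zero_of_mem_smul_top (X : Type u) [AddCommGroup X] [Module R X] (x : X)
    (hx : x ∈ I • (⊤ : Submodule R X)) : (1 : R ⧸ I) ⊗ₜ[R] x = 0 := by
  refine Submodule.smul_induction_on hx ?_ ?_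
  · intro a ha m _
    rw [← TensorProduct.smul_tmul, Algebra.smul_def, mul_one, Ideal.Quotient.algebraMap_eq,
      Ideal.Quotient.eq_zero_iff_mem.mpr ha, TensorProduct.zero_tmul]
  · intro y z hy hz
    rw [TensorProduct.tmul_add, hy, hz, add_zero]

/-- finite projective modules lift along a Henselian pair -/
theorem exists_fp_lift [HenselianRing R I] (N : Type u) [AddCommGroup N] [Module (R ⧸ I) N]
    [Module.Finite (R ⧸ I) N] [Module.Projective (R ⧸ I) N] :
    ∃ X : ModuleCat.{u} R, (Module.Finite R X ∧ Module.Projective R X) ∧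
      Nonempty ((R ⧸ I) ⊗[R] X ≃ₗ[R ⧸ I] N) := by
  classical
  obtain ⟨k, f, g, hf, hg, hfg⟩ := Module.Finite.exists_comp_eq_id_of_projective (R ⧸ I) N
  have hfg' : ∀ y, f (g y) = y := fun y => LinearMap.congr_fun hfg y
  let pbar : (Fin k → R ⧸ I) →ₗ[R ⧸ I] (Fin k → R ⧸ I) := g ∘ₗ f
  have hpp : pbar ∘ₗ pbar = pbar := by
    refine LinearMap.ext fun v => ?_
    show g (f (g (f v))) = g (f v)
    rw [hfg']
  let ebar : Matrix (Fin k) (Fin k) (R ⧸ I) := LinearMap.toMatrix' pbar
  have hebar : IsIdempotentElem ebar := by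
    show LinearMap.toMatrix' pbar * LinearMap.toMatrix' pbar = LinearMap.toMatrix' pbar
    rw [← LinearMap.toMatrix'_comp, hpp]
  obtain ⟨e, he, hemap⟩ := exists_idempotent_lift I k ebar hebar
  let E : (Fin k → R) →ₗ[R] (Fin k → R) := Matrix.toLin' e
  have hEE : ∀ v, E (E v) = E v := by
    intro v
    show (Matrix.toLin' e ∘ₗ Matrix.toLin' e) v = Matrix.toLin' e v
    rw [← Matrix.toLin'_mul, he.eq]
  let q : (Fin k → R) →ₗ[R] (Fin k → R ⧸ I) :=
    (Ideal.Quotient.mkₐ R I).toLinearMap.compLeft (Fin k)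
  have hq_apply : ∀ v i, q v i = Ideal.Quotient.mk I (v i) := fun v i => rfl
  have hqE : ∀ v, q (E v) = pbar (q v) := by
    intro v
    ext i
    have h1 : pbar (q v) = ebar *ᵥ (q v) := (LinearMap.toMatrix'_mulVec pbar (q v)).symm
    rw [h1, ← hemap, hq_apply]
    exact RingHom.map_mulVec (Ideal.Quotient.mk I) e v i
  have hq_surj : Function.Surjective q := by
    intro w
    refine ⟨fun i => Function.surjInv (Ideal.Quotient.mk_surjective (I := I)) (w i), ?_⟩
    ext i
    rw [hq_apply]
    exact Function.surjInv_eq _ _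
  letI : Module R N := Module.compHom N (Ideal.Quotient.mk I)
  haveI : IsScalarTower R (R ⧸ I) N := IsScalarTower.of_algebraMap_smul fun r x => rfl
  let Xs : Submodule R (Fin k → R) := LinearMap.range E
  have hXfix : ∀ x : Xs, E x.1 = x.1 := by
    rintro ⟨_, v, rfl⟩
    exact hEE v
  let α : Xs →ₗ[R] N := (f.restrictScalars R) ∘ₗ q ∘ₗ Xs.subtype
  let β : (R ⧸ I) ⊗[R] Xs →ₗ[R ⧸ I] N := α.liftBaseChange (R ⧸ I)
  have hβ1 : ∀ x : Xs, β ((1 : R ⧸ I) ⊗ₜ[R] x) = f (q x.1) := by
    intro x
    show α.liftBaseChange (R ⧸ I) ((1 : R ⧸ I) ⊗ₜ[R] x) = _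
    rw [LinearMap.liftBaseChange_tmul, one_smul]
    rfl
  have hsurj : Function.Surjective β := by
    intro y
    obtain ⟨v, hv⟩ := hq_surj (g y)
    refine ⟨(1 : R ⧸ I) ⊗ₜ[R] (⟨E v, LinearMap.mem_range_self E v⟩ : Xs), ?_⟩
    rw [hβ1]
    show f (q (E v)) = y
    rw [hqE, hv]
    show f (g (f (g y))) = y
    rw [hfg', hfg']
  have hinj : Function.Injective β := by
    rw [← LinearMap.ker_eq_bot, eq_bot_iff]
    intro z hz
    rw [Submodule.mem_bot]
    obtain ⟨x, rfl⟩ := TensorProduct.mk_surjective (R := R) (S := R ⧸ I) (M := Xs)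
      Ideal.Quotient.mk_surjective z
    have hz' : f (q x.1) = 0 := by
      rw [← hβ1]
      exact hz
    have hqx : q x.1 = 0 := by
      have h1 : q x.1 = pbar (q x.1) := by rw [← hqE, hXfix]
      rw [h1]
      show g (f (q x.1)) = 0
      rw [hz', map_zero]
    have hxI : x.1 ∈ I • (⊤ : Submodule R (Fin k → R)) := by
      have hx1 : x.1 = ∑ i, (Pi.single i (x.1 i) : Fin k → R) :=
        (Finset.univ_sum_single x.1).symm
      rw [hx1]
      refine Submodule.sum_mem _ fun i _ => ?_
      have hsi : (Pi.single i (x.1 i) : Fin k → R) =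
          x.1 i • (Pi.single i (1 : R) : Fin k → R) := by
        rw [← Pi.single_smul, smul_eq_mul, mul_one]
      rw [hsi]
      refine Submodule.smul_mem_smul ?_ Submodule.mem_top
      have := congrFun hqx i
      rw [hq_apply] at this
      exact Ideal.Quotient.eq_zero_iff_mem.mp this
    have hxX : x ∈ I • (⊤ : Submodule R Xs) := by
      have h2 : E.rangeRestrict x.1 = x := Subtype.ext (hXfix x)
      have h3 : E.rangeRestrict x.1 ∈ (I • (⊤ : Submodule R (Fin k → R))).map E.rangeRestrict :=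
        Submodule.mem_map_of_mem hxI
      rw [Submodule.map_smul'', h2] at h3
      exact Submodule.smul_mono (le_refl I) le_top h3
    exact tmul_eq_zero_of_mem_smul_top I Xs x hxX
  haveI : Module.Projective R Xs :=
    Module.Projective.of_split Xs.subtype E.rangeRestrict
      (LinearMap.ext fun x => Subtype.ext (hXfix x))
  exact ⟨ModuleCat.of R Xs, ⟨inferInstanceAs (Module.Finite R Xs), inferInstanceAs
    (Module.Projective R Xs)⟩, ⟨LinearEquiv.ofBijective β ⟨hinj, hsurj⟩⟩⟩

end Mod

section FPclass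

open CategoryTheory

/-- finite projective modules -/
def FP : ObjectProperty (ModuleCat.{u} R) :=
  fun X => Module.Finite R X ∧ Module.Projective R X

instance : (FP (R := R)).IsClosedUnderIsomorphisms := ⟨fun {X Y} e h => by
  obtain ⟨h1, h2⟩ := h
  exact ⟨Module.Finite.equiv e.toLinearEquiv, Module.Projective.of_equiv e.toLinearEquiv⟩⟩

lemma fp_prod_iff (X Y : ModuleCat.{u} R) (hX : FP X) :
    FP (ModuleCat.of R (X × Y)) ↔ FP Y := by
  obtain ⟨hXf, hXp⟩ := hX
  constructor
  · rintro ⟨hf, hp⟩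
    have hf' : Module.Finite R (X × Y) := hf
    have hp' : Module.Projective R (X × Y) := hp
    exact ⟨Module.Finite.of_surjective (LinearMap.snd R X Y) LinearMap.snd_surjective,
      Module.Projective.of_split (LinearMap.inr R X Y) (LinearMap.snd R X Y)
        (LinearMap.ext fun y => rfl)⟩
  · rintro ⟨hf, hp⟩
    exact ⟨inferInstanceAs (Module.Finite R (X × Y)),
      inferInstanceAs (Module.Projective R (X × Y))⟩

end FPclass

end Groth.Agent.Lib.Helper5.LiftHens
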