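import Mathlib
import Groth.Agent.Lib.Helper5LocDL

/-!
# Non-vanishing of `Ext^{-dim M}(M, ω)` over a local ring (helper5)
-/

set_option autoImplicit false
universe u
open CategoryTheory CategoryTheory.Limits
attribute [local instance] HasDerivedCategory.standard

namespace Groth.Agent.Lib.Helper5.LocD

open DerivedCategory Groth.Agent.Lib.Helper1.Extend Groth.Agent.Lib.Helper5.BiDual
open Groth.Agent.Lib.Helper5.DualLocal Groth.Agent.Lib.Helper5.DualMin
open Groth.Agent.Lib.Helper5.DualDim Groth.Agent.Lib.Helper5.NormDual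

variable (A : Type u) [CommRing A] [IsNoetherianRing A] [IsLocalRing A]

theorem nontrivial_ext_neg_dim (ω : Dual.D A) (hω : Dual.IsDualizing A ω)
    (hn : Dual.IsNormalized A ω) (M : Type u) [AddCommGroup M] [Module A M] [Module.Finite A M]
    [Nontrivial M] (d : ℕ) (hd : Module.supportDim A M = d) :
    Nontrivial (Dual.inD A M ⟶ ω⟦(-(d : ℤ))⟧) := by
  obtain ⟨δ, h1, h2⟩ := Groth.Agent.Lib.Helper5.DualDim.main A ω hω
  have hδ : δ (IsLocalRing.closedPoint A) = 0 := delta_closedPoint_eq_zero ω hn δ h1
  have hm : IsLocalRing.closedPoint A ∈ Module.support A M :=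
    IsLocalRing.closedPoint_mem_support A M
  obtain ⟨e, d', hde, hsd, hdp, hht, hrange, hme, hmd⟩ :=
    profile ω hω δ h1 h2 M (IsLocalRing.closedPoint A) hm
  have hed : e = d := by
    have h3 : Module.supportDim A M =
        ((Order.height (⟨IsLocalRing.closedPoint A, hm⟩ : Module.support A M) : ℕ∞) :
          WithBot ℕ∞) := by
      apply le_antisymm
      · unfold Module.supportDim
        rw [Order.krullDim_eq_iSup_height]
        refine iSup_le fun x => ?_
        rw [WithBot.coe_le_coe]
        apply Order.height_mono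
        show x.1 ≤ IsLocalRing.closedPoint A
        exact IsLocalRing.le_maximalIdeal x.1.isPrime.ne_top
      · exact Order.height_le_krullDim _
    rw [hd, hht] at h3
    have h4 : ((d : ℕ) : ℕ∞) = ((e : ℕ) : ℕ∞) := WithBot.coe_injective h3
    exact (Nat.cast_injective h4).symm
  subst hed
  rw [hδ] at hme
  have h5 : -(0 : ℤ) - (e : ℤ) = -(e : ℤ) := by ring
  rw [h5] at hme
  have h6 := Module.mem_support_iff.mp hme
  by_contra hcon
  rw [not_nontrivial_iff_subsingleton] at hcon
  haveI := hcon
  exact not_subsingleton _ (inferInstance : Subsingleton (LocalizedModule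
    (IsLocalRing.closedPoint A).asIdeal.primeCompl (Dual.inD A M ⟶ ω⟦(-(e : ℤ))⟧)))

end Groth.Agent.Lib.Helper5.LocD
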