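import Mathlib
import Groth.Prelude.Def_BlowUp2
import Groth.Agent.Lib.Helper5SliceListSch
import Groth.Agent.Lib.Helper5SliceListGeo
import Groth.Agent.Lib.Helper20EffCartier
import Groth.Agent.Lib.Helper20RelCartier
import Groth.Agent.Lib.Helper20FlatDescSch

/-!
# Relative effective Cartier divisors from the fibres (helper5)

`φ : X ⟶ S` flat and locally of finite presentation, `𝓘` an ideal sheaf which near `x` is generated by
one section `h`, and whose pullback to the fibre through `x` is effective Cartier.  Then near `x` the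
section `h` is a nonzerodivisor and `V(h)` is flat over `S`.
-/

set_option autoImplicit false
set_option linter.style.haveILetI false
universe u
open CategoryTheory CategoryTheory.Limits AlgebraicGeometry TopologicalSpace Opposite
open RingTheory.Sequence IsLocalRing

namespace Groth.Agent.Lib.Helper5.RelEffCartier
open Groth.Agent.Lib.Helper5.SliceListSch Groth.Agent.Lib.Helper5.SliceListGeo
  Groth.Agent.Lib.Helper5.FiberStalk

theorem nzd_of_span_singleton_eq {R : Type*} [CommRing R] {a b : R}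
    (h : Ideal.span {a} = Ideal.span {b}) (hb : b ∈ nonZeroDivisors R) : a ∈ nonZeroDivisors R := by
  have h1 : a ∈ Ideal.span {b} := h ▸ Ideal.mem_span_singleton_self a
  have h2 : b ∈ Ideal.span {a} := h.symm ▸ Ideal.mem_span_singleton_self b
  obtain ⟨c, hc⟩ := Ideal.mem_span_singleton'.mp h1
  obtain ⟨d, hd⟩ := Ideal.mem_span_singleton'.mp h2
  have hdc : d * c = 1 := by
    have h3 : (d * c - 1) * b = 0 := by
      rw [sub_mul, one_mul, mul_assoc, hc, hd, sub_self]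
    have := (mem_nonZeroDivisors_iff_right.mp hb) _ h3
    exact sub_eq_zero.mp this
  rw [mem_nonZeroDivisors_iff_right]
  intro y hy
  rw [← hc, ← mul_assoc] at hy
  have h4 := (mem_nonZeroDivisors_iff_right.mp hb) _ hy
  calc y = y * (c * d) := by rw [mul_comm c d, hdc, mul_one]
    _ = y * c * d := (mul_assoc _ _ _).symm
    _ = 0 := by rw [h4, zero_mul]

theorem flat_congr_ideal {A C : Type*} [CommRing A] [CommRing C] (ψ : A →+* C) {I J : Ideal C}
    (h : I = J) (hf : ((Ideal.Quotient.mk I).comp ψ).Flat) :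
    ((Ideal.Quotient.mk J).comp ψ).Flat := by
  subst h
  exact hf

/-- away from the support the ideal is the unit ideal on small affine opens. -/
theorem exists_affine_ideal_eq_top {X : Scheme.{u}} (𝓘 : X.IdealSheafData) (x : X)
    (hx : x ∉ 𝓘.support) : ∃ U : X.affineOpens, x ∈ U.1 ∧ 𝓘.ideal U = ⊤ := by
  have hopen : IsOpen ((𝓘.support : Set X)ᶜ) := 𝓘.support.isClosed.isOpen_compl
  obtain ⟨_, ⟨U : X.Opens, hU, rfl⟩, hxU, hsub⟩ :=
    X.isBasis_affineOpens.exists_subset_of_mem_open (show x ∈ (𝓘.support : Set X)ᶜ from hx) hopen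
  refine ⟨⟨U, hU⟩, hxU, ?_⟩
  have h1 : (𝓘.support : Set X) ∩ U = ∅ := by
    ext y
    simp only [Set.mem_inter_iff, Set.mem_empty_iff_false, iff_false, not_and]
    intro hy hyU
    exact hsub hyU hy
  rw [𝓘.coe_support_inter ⟨U, hU⟩, ← hU.fromSpec_image_zeroLocus, Set.image_eq_empty] at h1
  exact PrimeSpectrum.zeroLocus_empty_iff_eq_top.mp h1

set_option maxHeartbeats 1600000 in
/-- the local equation is a nonzerodivisor in the local ring of the fibre. -/
theorem fibre_nzd {X S : Scheme.{u}} (φ : X ⟶ S) (𝓘 : X.IdealSheafData) (x : X) {U : X.Opens}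
    (hU : IsAffineOpen U) (hxU : x ∈ U) (h : Γ(X, U)) (hI : 𝓘.ideal ⟨U, hU⟩ = Ideal.span {h})
    (hfib : BlowUp.IsEffCartierIdeal (𝓘.comap (φ.fiberι (φ x)))) :
    Ideal.Quotient.mk (fibIdeal φ x) (X.presheaf.germ U x hxU h) ∈
      nonZeroDivisors (X.presheaf.stalk x ⧸ fibIdeal φ x) := by
  obtain ⟨z, hzdef⟩ : ∃ z : φ.fiber (φ x), z = toFiber φ x (closedPoint (Q φ x)) := ⟨_, rfl⟩
  have hz : φ.fiberι (φ x) z = x := by rw [hzdef]; exact fiberι_toFiber_closedPoint φ x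
  obtain ⟨W, hzW, t, ht, hW⟩ := hfib z
  have hzU : z ∈ (φ.fiberι (φ x)) ⁻¹ᵁ U := by
    show φ.fiberι (φ x) z ∈ U
    rw [hz]; exact hxU
  obtain ⟨W₂, hW₂, hzW₂, hle⟩ := exists_isAffineOpen_mem_and_subset (x := z)
    (U := W.1 ⊓ (φ.fiberι (φ x)) ⁻¹ᵁ U) ⟨hzW, hzU⟩
  have hle₁ : W₂ ≤ W.1 := fun y hy => (hle hy).1
  have hle₂ : W₂ ≤ (φ.fiberι (φ x)) ⁻¹ᵁ U := fun y hy => (hle hy).2
  have h1 : (𝓘.comap (φ.fiberι (φ x))).ideal ⟨W₂, hW₂⟩ =
      Ideal.span {((φ.fiber (φ x)).presheaf.map (homOfLE hle₁).op).hom t} := by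
    rw [← (𝓘.comap (φ.fiberι (φ x))).map_ideal (U := ⟨W₂, hW₂⟩) (V := W) hle₁, hW, Ideal.map_span]
    simp only [Set.image_singleton]
    rfl
  have h2 : (𝓘.comap (φ.fiberι (φ x))).ideal ⟨W₂, hW₂⟩ =
      Ideal.span {((φ.fiberι (φ x)).appLE U W₂ hle₂).hom h} := by
    rw [Groth.Agent.Lib.Helper20.EffCartier.ideal_comap_eq_map (φ.fiberι (φ x)) 𝓘 hW₂ hU hle₂, hI,
      Ideal.map_span, Set.image_singleton]
  -- pass to the stalk at `z`
  have h3 : Ideal.span {((φ.fiber (φ x)).presheaf.germ W₂ z hzW₂).hom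
      (((φ.fiberι (φ x)).appLE U W₂ hle₂).hom h)} =
      Ideal.span {((φ.fiber (φ x)).presheaf.germ W₂ z hzW₂).hom
        (((φ.fiber (φ x)).presheaf.map (homOfLE hle₁).op).hom t)} := by
    have := congrArg (Ideal.map ((φ.fiber (φ x)).presheaf.germ W₂ z hzW₂).hom) (h2.symm.trans h1)
    rwa [Ideal.map_span, Ideal.map_span, Set.image_singleton, Set.image_singleton] at this
  have h4 : ((φ.fiber (φ x)).presheaf.germ W₂ z hzW₂).hom
      (((φ.fiber (φ x)).presheaf.map (homOfLE hle₁).op).hom t) ∈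
      nonZeroDivisors ((φ.fiber (φ x)).presheaf.stalk z) := by
    have e1 : ((φ.fiber (φ x)).presheaf.germ W₂ z hzW₂).hom
        (((φ.fiber (φ x)).presheaf.map (homOfLE hle₁).op).hom t) =
        ((φ.fiber (φ x)).presheaf.germ W.1 z hzW).hom t :=
      TopCat.Presheaf.germ_res_apply (φ.fiber (φ x)).presheaf (homOfLE hle₁) z hzW₂ t
    rw [e1]
    refine Groth.Agent.Lib.Helper20.RelCartier.mem_nonZeroDivisors_map_flat' _ ?_ ht
    letI := (φ.fiber (φ x)).presheaf.algebra_section_stalk (U := W.1) ⟨z, hzW⟩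
    haveI := W.2.isLocalization_stalk ⟨z, hzW⟩
    exact RingHom.flat_algebraMap_iff.mpr (IsLocalization.flat _
      (W.2.primeIdealOf ⟨z, hzW⟩).asIdeal.primeCompl)
  have h5 := nzd_of_span_singleton_eq h3 h4
  -- transfer to `O_{X,x} / m_s O_{X,x}`
  have hbij : Function.Bijective (Scheme.stalkClosedPointTo (toFiber φ x)).hom :=
    ⟨stalkClosedPointTo_toFiber_injective φ x, stalkClosedPointTo_toFiber_surjective φ x⟩
  subst hzdef
  have hzU' : toFiber φ x (closedPoint (Q φ x)) ∈ (φ.fiberι (φ x)) ⁻¹ᵁ U := hzU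
  have key := stalkClosedPointTo_toFiber_germ φ x U hxU h hzU'
  have e2 : ((φ.fiber (φ x)).presheaf.germ W₂ _ hzW₂).hom
      (((φ.fiberι (φ x)).appLE U W₂ hle₂).hom h) =
      ((φ.fiber (φ x)).presheaf.germ ((φ.fiberι (φ x)) ⁻¹ᵁ U) _ hzU')
        ((φ.fiberι (φ x)).app U h) := by
    have e3 : ((φ.fiberι (φ x)).appLE U W₂ hle₂).hom h =
        (φ.fiber (φ x)).presheaf.map (homOfLE hle₂).op ((φ.fiberι (φ x)).app U h) := by
      rw [Scheme.Hom.appLE]; rfl
    rw [e3]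
    exact TopCat.Presheaf.germ_res_apply (φ.fiber (φ x)).presheaf (homOfLE hle₂) _ hzW₂ _
  rw [e2] at h5
  rw [← key, mem_nonZeroDivisors_iff_right]
  intro y hy
  obtain ⟨y₀, rfl⟩ := hbij.2 y
  rw [← map_mul] at hy
  have h6 := hbij.1 (hy.trans (map_zero _).symm)
  rw [(mem_nonZeroDivisors_iff_right.mp h5) _ h6, map_zero]

set_option maxHeartbeats 1600000 in
theorem exists_local_cartier {X S : Scheme.{u}} (φ : X ⟶ S) [Flat φ]
    [LocallyOfFinitePresentation φ] (𝓘 : X.IdealSheafData) (x : X) (hx : x ∈ 𝓘.support)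
    {U : X.Opens} (hU : IsAffineOpen U) (hxU : x ∈ U) (h : Γ(X, U))
    (hI : 𝓘.ideal ⟨U, hU⟩ = Ideal.span {h})
    (hfib : BlowUp.IsEffCartierIdeal (𝓘.comap (φ.fiberι (φ x)))) :
    ∃ (D : X.Opens) (hD : IsAffineOpen D), x ∈ D ∧
      (∃ h' : Γ(X, D), h' ∈ nonZeroDivisors Γ(X, D) ∧ 𝓘.ideal ⟨D, hD⟩ = Ideal.span {h'}) ∧
      Flat (sliceι hD (𝓘.ideal ⟨D, hD⟩) ≫ φ) := by
  have hnzd := fibre_nzd φ 𝓘 x hU hxU h hI hfib
  have hm : ∀ r ∈ [(X.presheaf.germ U x hxU).hom h], r ∈ maximalIdeal (X.presheaf.stalk x) := by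
    intro r hr
    rw [List.mem_singleton] at hr
    rw [hr, mem_maximalIdeal, mem_nonunits_iff]
    intro hunit
    have h1 : x ∈ X.zeroLocus (U := U) (𝓘.ideal ⟨U, hU⟩) :=
      (Scheme.IdealSheafData.mem_support_iff_of_mem (U := ⟨U, hU⟩) hxU).mp hx
    rw [Scheme.mem_zeroLocus_iff] at h1
    exact h1 h (by rw [hI]; exact Ideal.mem_span_singleton_self h)
      ((X.mem_basicOpen h x hxU).mpr hunit)
  have hreg : IsWeaklyRegular (X.presheaf.stalk x ⧸ Ideal.map (φ.stalkMap x).hom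
      (maximalIdeal (S.presheaf.stalk (φ x))))
      ([(X.presheaf.germ U x hxU).hom h].map (Ideal.Quotient.mk (Ideal.map (φ.stalkMap x).hom
        (maximalIdeal (S.presheaf.stalk (φ x)))))) := by
    rw [List.map_singleton, isWeaklyRegular_singleton_iff]
    exact (isRegular_iff_mem_nonZeroDivisors.2 hnzd).left.isSMulRegular
  obtain ⟨V, hV, U₀, hU₀, hxU₀, e, rs₀, g, hrs₀, hxg, H⟩ :=
    exists_slice_list φ x (Flat.stalkMap φ x) _ hm hreg
  obtain ⟨h₀, rfl, hh₀⟩ := List.map_eq_singleton_iff.mp hrs₀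
  obtain ⟨W₁, hxW₁, iU₀, iU, hres⟩ := TopCat.Presheaf.germ_eq X.presheaf x hxU₀ hxU h₀ h hh₀
  obtain ⟨a, haW, hxa⟩ := hU₀.exists_basicOpen_le ⟨x, hxW₁⟩ hxU₀
  have hDa : X.basicOpen (g * a) ≤ X.basicOpen a := by
    rw [Scheme.basicOpen_mul]; exact inf_le_right
  have hD : IsAffineOpen (X.basicOpen (g * a)) := hU₀.basicOpen _
  have hxD : x ∈ X.basicOpen (g * a) := by
    rw [Scheme.basicOpen_mul]; exact ⟨hxg, hxa⟩
  have hDW : X.basicOpen (g * a) ≤ W₁ := hDa.trans haW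
  have hDU : X.basicOpen (g * a) ≤ U := hDW.trans iU.le
  have hDU₀ : X.basicOpen (g * a) ≤ U₀ := X.basicOpen_le _
  have hsec : (X.presheaf.map (homOfLE hDU₀).op).hom h₀ = (X.presheaf.map (homOfLE hDU).op).hom h := by
    have := congrArg (X.presheaf.map (homOfLE hDW).op).hom hres
    have e1 : (X.presheaf.map (homOfLE hDW).op).hom ((X.presheaf.map iU₀.op).hom h₀) =
        (X.presheaf.map (homOfLE hDU₀).op).hom h₀ := by
      rw [← CommRingCat.comp_apply, ← X.presheaf.map_comp]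
      rfl
    have e2 : (X.presheaf.map (homOfLE hDW).op).hom ((X.presheaf.map iU.op).hom h) =
        (X.presheaf.map (homOfLE hDU).op).hom h := by
      rw [← CommRingCat.comp_apply, ← X.presheaf.map_comp]
      rfl
    exact e1.symm.trans (this.trans e2)
  have hideal : 𝓘.ideal ⟨X.basicOpen (g * a), hD⟩ =
      Ideal.span {(X.presheaf.map (homOfLE hDU₀).op).hom h₀} := by
    rw [hsec, ← 𝓘.map_ideal (U := ⟨X.basicOpen (g * a), hD⟩) (V := ⟨U, hU⟩) hDU, hI, Ideal.map_span]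
    simp only [Set.image_singleton]
    rfl
  obtain ⟨hw, hfl⟩ := H a
  rw [List.map_singleton, List.reverse_singleton] at hw hfl
  rw [isWeaklyRegular_singleton_iff] at hw
  refine ⟨X.basicOpen (g * a), hD, hxD, ⟨_, ?_, hideal⟩, ?_⟩
  · rw [mem_nonZeroDivisors_iff_right]
    intro y hy
    apply hw
    show (X.presheaf.map (homOfLE hDU₀).op).hom h₀ * y = (X.presheaf.map (homOfLE hDU₀).op).hom h₀ * 0
    rw [mul_zero]
    exact (mul_comm _ _).trans hy
  · refine flat_sliceι_comp hD _ φ hV (hDU₀.trans e) ?_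
    have h1 := hfl 1
    rw [List.take_one, List.head?_cons, Option.toList_some] at h1
    refine flat_congr_ideal _ ?_ h1
    rw [hideal, Ideal.ofList_singleton]

end Groth.Agent.Lib.Helper5.RelEffCartier
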