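import Mathlib
import Groth.Prelude.Def_BlowUp2
import Groth.Prelude.Def_CurvBase
import Groth.Agent.Lib.Helper5RelEffCartier

/-!
# Local principality of the ideal of a flat closed subscheme from the fibres (helper5)

`φ : X ⟶ S` flat lfp, `Z = V(𝓘)` flat lfp over `S`, and the pullback of `𝓘` to each fibre is effective
Cartier.  Then `𝓘` is locally generated by one section.  (Nakayama plus `I ∩ mB = mI` when `B/I` is
`A`-flat.)
-/

set_option autoImplicit false
set_option linter.style.haveILetI false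
universe u
open CategoryTheory CategoryTheory.Limits AlgebraicGeometry TopologicalSpace Opposite TensorProduct
open IsLocalRing

namespace Groth.Agent.Lib.Helper5.LocPrincFlat
open Groth.Agent.Lib.Helper5.SliceListGeo Groth.Agent.Lib.Helper5.FiberStalk

/-- If `B/I` is flat over `A` then `I ∩ mB = (mB) I`. -/
theorem mem_mul_of_flat_quotient {A B : Type*} [CommRing A] [CommRing B] [Algebra A B] (I : Ideal B)
    [Module.Flat A (B ⧸ I)] (m : Ideal A) {b : B} (hbI : b ∈ I)
    (hbm : b ∈ m.map (algebraMap A B)) : b ∈ m.map (algebraMap A B) * I := by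
  classical
  let N : Submodule A B := I.restrictScalars A
  let f : B →ₗ[A] B ⧸ I := (Ideal.Quotient.mkₐ A I).toLinearMap
  have hf : Function.Surjective f := Ideal.Quotient.mk_surjective
  have hex : Function.Exact N.subtype f := by
    intro y
    constructor
    · intro hy
      exact ⟨⟨y, Ideal.Quotient.eq_zero_iff_mem.mp hy⟩, rfl⟩
    · rintro ⟨n, rfl⟩
      exact Ideal.Quotient.eq_zero_iff_mem.mpr n.2
  have hinj := LinearMap.lTensor_injective_of_exact_of_flat f hf N.subtype N.injective_subtype hex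
    (A ⧸ m)
  have h0 : (N.subtype.lTensor (A ⧸ m)) ((1 : A ⧸ m) ⊗ₜ[A] (⟨b, hbI⟩ : N)) = 0 := by
    rw [LinearMap.lTensor_tmul]
    apply (TensorProduct.quotTensorEquivQuotSMul B m).injective
    rw [map_zero, TensorProduct.quotTensorEquivQuotSMul_mk_one_tmul, Submodule.Quotient.mk_eq_zero,
      Ideal.smul_top_eq_map]
    exact hbm
  have h1 : ((1 : A ⧸ m) ⊗ₜ[A] (⟨b, hbI⟩ : N)) = 0 := hinj (h0.trans (map_zero _).symm)
  have h2 : (⟨b, hbI⟩ : N) ∈ m • (⊤ : Submodule A N) := by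
    have := congrArg (TensorProduct.quotTensorEquivQuotSMul N m) h1
    rw [map_zero, TensorProduct.quotTensorEquivQuotSMul_mk_one_tmul,
      Submodule.Quotient.mk_eq_zero] at this
    exact this
  have h3 : b ∈ Submodule.map N.subtype (m • (⊤ : Submodule A N)) := ⟨_, h2, rfl⟩
  rw [Submodule.map_smul'', Submodule.map_top, Submodule.range_subtype] at h3
  have h4 : m • N ≤ ((m.map (algebraMap A B)) * I).restrictScalars A := by
    refine Submodule.smul_le.mpr (fun a ha n hn => ?_)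
    rw [Algebra.smul_def]
    exact Ideal.mul_mem_mul (Ideal.mem_map_of_mem _ ha) hn
  exact h4 h3

/-- Nakayama: a finitely generated ideal `I` of a local ring `B` with `B/I` flat over `A`, whose image
in `B/mB` is principal, is principal. -/
theorem principal_of_flat_quotient {A B : Type*} [CommRing A] [CommRing B] [Algebra A B]
    [IsLocalRing B] (m : Ideal A) (hm : m.map (algebraMap A B) ≤ maximalIdeal B) (I : Ideal B)
    (hI : I.FG) [Module.Flat A (B ⧸ I)] (t : B ⧸ m.map (algebraMap A B))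
    (ht : I.map (Ideal.Quotient.mk (m.map (algebraMap A B))) = Ideal.span {t}) :
    ∃ h ∈ I, I = Ideal.span {h} := by
  have htmem : t ∈ I.map (Ideal.Quotient.mk (m.map (algebraMap A B))) := by
    rw [ht]; exact Ideal.mem_span_singleton_self t
  obtain ⟨h, hhI, hht⟩ := (Ideal.mem_map_iff_of_surjective _ Ideal.Quotient.mk_surjective).mp htmem
  refine ⟨h, hhI, le_antisymm ?_ ((Ideal.span_singleton_le_iff_mem _).mpr hhI)⟩
  refine Submodule.le_of_le_smul_of_le_jacobson_bot hI (IsLocalRing.maximalIdeal_le_jacobson ⊥) ?_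
  intro b hb
  have hb' : Ideal.Quotient.mk (m.map (algebraMap A B)) b ∈ Ideal.span {t} := by
    rw [← ht]; exact Ideal.mem_map_of_mem _ hb
  obtain ⟨c, hc⟩ := Ideal.mem_span_singleton'.mp hb'
  obtain ⟨c', rfl⟩ := Ideal.Quotient.mk_surjective c
  have h1 : b - c' * h ∈ m.map (algebraMap A B) := by
    rw [← Ideal.Quotient.eq_zero_iff_mem, map_sub, map_mul, hht, hc, sub_self]
  have h2 : b - c' * h ∈ I := I.sub_mem hb (I.mul_mem_left _ hhI)
  have h3 := mem_mul_of_flat_quotient I m h2 h1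
  have h4 : b - c' * h ∈ maximalIdeal B • I := by
    rw [smul_eq_mul]; exact Ideal.mul_mono_left hm h3
  have hsum : b = c' * h + (b - c' * h) := by ring
  rw [hsum]
  exact Submodule.add_mem_sup (Ideal.mem_span_singleton'.mpr ⟨c', rfl⟩) h4

/-- spreading out principality from the local ring at a prime to a basic open. -/
theorem exists_away_principal {C L : Type u} [CommRing C] [CommRing L] [Algebra C L] (P : Ideal C)
    [P.IsPrime] [IsLocalization.AtPrime L P] (I : Ideal C) (hI : I.FG) (h : L)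
    (hspan : I.map (algebraMap C L) = Ideal.span {h}) :
    ∃ a ∉ P, ∃ i ∈ I, ∀ (C₁ : Type u) [CommRing C₁] [Algebra C C₁] [IsLocalization.Away a C₁],
      I.map (algebraMap C C₁) = Ideal.span {algebraMap C C₁ i} := by
  classical
  have hmem : h ∈ I.map (algebraMap C L) := by rw [hspan]; exact Ideal.mem_span_singleton_self h
  obtain ⟨⟨⟨i, hiI⟩, ⟨s, hs⟩⟩, his⟩ :=
    (IsLocalization.mem_map_algebraMap_iff P.primeCompl L).mp hmem
  have his' : h * algebraMap C L s = algebraMap C L i := his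
  have hsu : IsUnit (algebraMap C L s) := IsLocalization.map_units L (⟨s, hs⟩ : P.primeCompl)
  have hspan' : I.map (algebraMap C L) = Ideal.span {algebraMap C L i} := by
    rw [hspan, ← his', Ideal.span_singleton_mul_right_unit hsu]
  have hone : ∀ g ∈ I, ∃ w ∉ P, w * g ∈ Ideal.span {i} := by
    intro g hg
    have hg' : algebraMap C L g ∈ Ideal.span {algebraMap C L i} := by
      rw [← hspan']; exact Ideal.mem_map_of_mem _ hg
    obtain ⟨c, hc⟩ := Ideal.mem_span_singleton'.mp hg'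
    obtain ⟨⟨c', ⟨s', hs'⟩⟩, hcs⟩ := IsLocalization.surj P.primeCompl c
    have hcs' : c * algebraMap C L s' = algebraMap C L c' := hcs
    have heq : algebraMap C L (s' * g) = algebraMap C L (c' * i) := by
      rw [map_mul, map_mul, ← hc, ← hcs']; ring
    obtain ⟨⟨u, hu⟩, hu'⟩ := (IsLocalization.eq_iff_exists P.primeCompl L).mp heq
    have hu'' : u * (s' * g) = u * (c' * i) := hu'
    refine ⟨u * s', fun hmem' => ?_, ?_⟩
    · rcases Ideal.IsPrime.mem_or_mem ‹P.IsPrime› hmem' with h1 | h1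
      exacts [hu h1, hs' h1]
    · rw [mul_assoc, hu'']
      exact Ideal.mem_span_singleton'.mpr ⟨u * c', by ring⟩
  have hall : ∀ G : Finset C, (∀ g ∈ G, g ∈ I) → ∃ a ∉ P, ∀ g ∈ G, a * g ∈ Ideal.span {i} := by
    intro G
    induction G using Finset.induction_on with
    | empty =>
      intro _
      exact ⟨1, fun h1 => (Ideal.IsPrime.ne_top ‹P.IsPrime›) ((Ideal.eq_top_iff_one _).mpr h1),
        fun g hg => absurd hg (Finset.notMem_empty g)⟩
    | insert g₀ G' hnot ih =>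
      intro hGI
      obtain ⟨a₀, ha₀, H₀⟩ := ih (fun g hg => hGI g (Finset.mem_insert_of_mem hg))
      obtain ⟨w, hw, Hw⟩ := hone g₀ (hGI g₀ (Finset.mem_insert_self _ _))
      refine ⟨a₀ * w, fun hmem' => ?_, ?_⟩
      · rcases Ideal.IsPrime.mem_or_mem ‹P.IsPrime› hmem' with h1 | h1
        exacts [ha₀ h1, hw h1]
      · intro g hg
        rcases Finset.mem_insert.mp hg with rfl | hg
        · rw [mul_assoc]; exact Ideal.mul_mem_left _ _ Hw
        · rw [mul_comm a₀ w, mul_assoc]; exact Ideal.mul_mem_left _ _ (H₀ g hg)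
  obtain ⟨G, hG⟩ := hI
  obtain ⟨a, haP, Ha⟩ := hall G (fun g hg => hG ▸ Ideal.subset_span hg)
  refine ⟨a, haP, i, hiI, ?_⟩
  intro C₁ _ _ _
  have hau : IsUnit (algebraMap C C₁ a) := IsLocalization.Away.algebraMap_isUnit a
  apply le_antisymm
  · rw [← hG, Ideal.map_span, Ideal.span_le]
    rintro _ ⟨g, hg, rfl⟩
    have h1 : algebraMap C C₁ (a * g) ∈ Ideal.span {algebraMap C C₁ i} := by
      have := Ideal.mem_map_of_mem (algebraMap C C₁) (Ha g hg)
      rwa [Ideal.map_span, Set.image_singleton] at this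
    rw [map_mul] at h1
    exact (Ideal.unit_mul_mem_iff_mem _ hau).mp h1
  · rw [Ideal.span_singleton_le_iff_mem]
    exact Ideal.mem_map_of_mem _ hiI

/-- the ring-level statement. -/
theorem exists_away_principal_of_flat {A C L : Type u} [CommRing A] [CommRing C] [CommRing L]
    [Algebra A C] [Algebra C L] [Algebra A L] [IsScalarTower A C L] (P : Ideal C) [P.IsPrime]
    [IsLocalization.AtPrime L P] (I : Ideal C) (hI : I.FG) [Module.Flat A (C ⧸ I)]
    (m : Ideal A) (hm : m ≤ P.under A) (K : Ideal L) (hK : K = m.map (algebraMap A L))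
    (t : L ⧸ K)
    (ht : Ideal.map ((Ideal.Quotient.mk K).comp (algebraMap C L)) I = Ideal.span {t}) :
    ∃ a ∉ P, ∃ i ∈ I, ∀ (C₁ : Type u) [CommRing C₁] [Algebra C C₁] [IsLocalization.Away a C₁],
      I.map (algebraMap C C₁) = Ideal.span {algebraMap C C₁ i} := by
  subst hK
  haveI : IsLocalRing L := IsLocalization.AtPrime.isLocalRing L P
  have hILfg : (I.map (algebraMap C L)).FG := hI.map _
  haveI : IsScalarTower A (C ⧸ I) (L ⧸ I.map (algebraMap C L)) :=
    IsScalarTower.of_algebraMap_eq fun a => by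
      show Ideal.Quotient.mk _ (algebraMap A L a) =
        Ideal.Quotient.mk _ (algebraMap C L (algebraMap A C a))
      rw [← IsScalarTower.algebraMap_apply A C L]
  haveI : Module.Flat A (L ⧸ I.map (algebraMap C L)) := by
    haveI : Module.Flat (C ⧸ I) (L ⧸ I.map (algebraMap C L)) :=
      IsLocalization.flat (L ⧸ I.map (algebraMap C L))
        (Algebra.algebraMapSubmonoid (C ⧸ I) P.primeCompl)
    exact Module.Flat.trans A (C ⧸ I) (L ⧸ I.map (algebraMap C L))
  have hmL : m.map (algebraMap A L) ≤ maximalIdeal L := by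
    rw [Ideal.map_le_iff_le_comap]
    intro a ha
    have h1 : algebraMap A C a ∈ P := hm ha
    rw [Ideal.mem_comap, IsScalarTower.algebraMap_apply A C L]
    exact (IsLocalization.AtPrime.to_map_mem_maximal_iff L P _).mpr h1
  have ht' : (I.map (algebraMap C L)).map (Ideal.Quotient.mk (m.map (algebraMap A L))) =
      Ideal.span {t} := by
    rw [Ideal.map_map]; exact ht
  obtain ⟨h, -, hspan⟩ := principal_of_flat_quotient (A := A) (B := L) m hmL
    (I.map (algebraMap C L)) hILfg t ht'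
  exact exists_away_principal P I hI h hspan

set_option maxHeartbeats 1600000 in
/-- the image of the ideal in the local ring of the fibre is principal. -/
theorem fibre_principal {X S : Scheme.{u}} (φ : X ⟶ S) (𝓘 : X.IdealSheafData) (x : X) {U : X.Opens}
    (hU : IsAffineOpen U) (hxU : x ∈ U)
    (hfib : BlowUp.IsEffCartierIdeal (𝓘.comap (φ.fiberι (φ x)))) :
    ∃ t : X.presheaf.stalk x ⧸ fibIdeal φ x,
      Ideal.map ((Ideal.Quotient.mk (fibIdeal φ x)).comp (X.presheaf.germ U x hxU).hom)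
        (𝓘.ideal ⟨U, hU⟩) = Ideal.span {t} := by
  obtain ⟨z, hzdef⟩ : ∃ z : φ.fiber (φ x), z = toFiber φ x (closedPoint (Q φ x)) := ⟨_, rfl⟩
  have hz : φ.fiberι (φ x) z = x := by rw [hzdef]; exact fiberι_toFiber_closedPoint φ x
  obtain ⟨W, hzW, t, -, hW⟩ := hfib z
  have hzU : z ∈ (φ.fiberι (φ x)) ⁻¹ᵁ U := by
    show φ.fiberι (φ x) z ∈ U
    rw [hz]; exact hxU
  obtain ⟨W₂, hW₂, hzW₂, hle⟩ := exists_isAffineOpen_mem_and_subset (x := z)
    (U := W.1 ⊓ (φ.fiberι (φ x)) ⁻¹ᵁ U) ⟨hzW, hzU⟩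
  have hle₁ : W₂ ≤ W.1 := fun y hy => (hle hy).1
  have hle₂ : W₂ ≤ (φ.fiberι (φ x)) ⁻¹ᵁ U := fun y hy => (hle hy).2
  have h1 : (𝓘.comap (φ.fiberι (φ x))).ideal ⟨W₂, hW₂⟩ =
      Ideal.span {((φ.fiber (φ x)).presheaf.map (homOfLE hle₁).op).hom t} := by
    rw [← (𝓘.comap (φ.fiberι (φ x))).map_ideal (U := ⟨W₂, hW₂⟩) (V := W) hle₁, hW, Ideal.map_span]
    simp only [Set.image_singleton]
    rfl
  have h2 : (𝓘.comap (φ.fiberι (φ x))).ideal ⟨W₂, hW₂⟩ =
      Ideal.map ((φ.fiberι (φ x)).appLE U W₂ hle₂).hom (𝓘.ideal ⟨U, hU⟩) :=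
    Groth.Agent.Lib.Helper20.EffCartier.ideal_comap_eq_map (φ.fiberι (φ x)) 𝓘 hW₂ hU hle₂
  subst hzdef
  have hzU' : toFiber φ x (closedPoint (Q φ x)) ∈ (φ.fiberι (φ x)) ⁻¹ᵁ U := hzU
  have hΘ : ((Scheme.stalkClosedPointTo (toFiber φ x)).hom.comp
        ((φ.fiber (φ x)).presheaf.germ W₂ _ hzW₂).hom).comp
          ((φ.fiberι (φ x)).appLE U W₂ hle₂).hom =
      (Ideal.Quotient.mk (fibIdeal φ x)).comp (X.presheaf.germ U x hxU).hom := by
    refine RingHom.ext fun h => ?_
    have key := stalkClosedPointTo_toFiber_germ φ x U hxU h hzU'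
    have e2 : ((φ.fiber (φ x)).presheaf.germ W₂ _ hzW₂).hom
        (((φ.fiberι (φ x)).appLE U W₂ hle₂).hom h) =
        ((φ.fiber (φ x)).presheaf.germ ((φ.fiberι (φ x)) ⁻¹ᵁ U) _ hzU')
          ((φ.fiberι (φ x)).app U h) := by
      have e3 : ((φ.fiberι (φ x)).appLE U W₂ hle₂).hom h =
          (φ.fiber (φ x)).presheaf.map (homOfLE hle₂).op ((φ.fiberι (φ x)).app U h) := by
        rw [Scheme.Hom.appLE]; rfl
      rw [e3]
      exact TopCat.Presheaf.germ_res_apply (φ.fiber (φ x)).presheaf (homOfLE hle₂) _ hzW₂ _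
    show (Scheme.stalkClosedPointTo (toFiber φ x)).hom
      (((φ.fiber (φ x)).presheaf.germ W₂ _ hzW₂).hom
        (((φ.fiberι (φ x)).appLE U W₂ hle₂).hom h)) = _
    rw [e2]
    exact key
  refine ⟨((Scheme.stalkClosedPointTo (toFiber φ x)).hom.comp
        ((φ.fiber (φ x)).presheaf.germ W₂ _ hzW₂).hom)
          (((φ.fiber (φ x)).presheaf.map (homOfLE hle₁).op).hom t), ?_⟩
  rw [← hΘ, ← Ideal.map_map, ← h2, h1, Ideal.map_span, Set.image_singleton]

set_option maxHeartbeats 1600000 in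
/-- `Z = V(𝓘)` flat lfp over `S` inside `X` flat lfp over `S`, fibrewise effective Cartier: then `𝓘`
is locally principal. -/
theorem isLocPrincipal_of_flat_lfp {X S : Scheme.{u}} (φ : X ⟶ S) [Flat φ]
    [LocallyOfFinitePresentation φ] (𝓘 : X.IdealSheafData) [Flat (𝓘.subschemeι ≫ φ)]
    [LocallyOfFinitePresentation (𝓘.subschemeι ≫ φ)]
    (hfib : ∀ s : ↥S, BlowUp.IsEffCartierIdeal (𝓘.comap (φ.fiberι s))) :
    Curv2.IsLocPrincipal 𝓘 := by
  intro x hx
  obtain ⟨_, ⟨V : S.Opens, hV, rfl⟩, hxV, -⟩ :=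
    S.isBasis_affineOpens.exists_subset_of_mem_open (Set.mem_univ (φ x)) isOpen_univ
  obtain ⟨_, ⟨U : X.Opens, hU, rfl⟩, hxU, hUle⟩ :=
    X.isBasis_affineOpens.exists_subset_of_mem_open
      (show x ∈ ((φ ⁻¹ᵁ V : X.Opens) : Set X) from hxV) (φ ⁻¹ᵁ V).2
  have e : U ≤ φ ⁻¹ᵁ V := hUle
  obtain ⟨t, ht⟩ := fibre_principal φ 𝓘 x hU hxU (hfib (φ x))
  -- ring data
  letI algAC : Algebra Γ(S, V) Γ(X, U) := (φ.appLE V U e).hom.toAlgebra
  haveI hfp : Algebra.FinitePresentation Γ(S, V) Γ(X, U) :=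
    (HasRingHomProperty.iff_appLE (P := @LocallyOfFinitePresentation)).mp inferInstance
      ⟨V, hV⟩ ⟨U, hU⟩ e
  letI algCL : Algebra Γ(X, U) (X.presheaf.stalk x) :=
    X.presheaf.algebra_section_stalk ⟨x, hxU⟩
  haveI hlocL : IsLocalization.AtPrime (X.presheaf.stalk x)
      (hU.primeIdealOf ⟨x, hxU⟩).asIdeal := hU.isLocalization_stalk ⟨x, hxU⟩
  letI algAL : Algebra Γ(S, V) (X.presheaf.stalk x) :=
    ((algebraMap Γ(X, U) (X.presheaf.stalk x)).comp
      (algebraMap Γ(S, V) Γ(X, U))).toAlgebra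
  haveI : IsScalarTower Γ(S, V) Γ(X, U) (X.presheaf.stalk x) :=
    IsScalarTower.of_algebraMap_eq' rfl
  letI algAS : Algebra Γ(S, V) (S.presheaf.stalk (φ x)) :=
    S.presheaf.algebra_section_stalk ⟨φ x, hxV⟩
  haveI hlocS : IsLocalization.AtPrime (S.presheaf.stalk (φ x))
      (hV.primeIdealOf ⟨φ x, hxV⟩).asIdeal := hV.isLocalization_stalk ⟨φ x, hxV⟩
  have hnat : algebraMap Γ(S, V) (X.presheaf.stalk x) =
      (φ.stalkMap x).hom.comp (algebraMap Γ(S, V) (S.presheaf.stalk (φ x))) := by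
    refine RingHom.ext fun a => ?_
    show X.presheaf.germ U x hxU (φ.appLE V U e a) =
      φ.stalkMap x (S.presheaf.germ V (φ x) hxV a)
    have h1 : φ.appLE V U e a = X.presheaf.map (homOfLE e).op (φ.app V a) := by
      rw [Scheme.Hom.appLE]; rfl
    rw [h1, TopCat.Presheaf.germ_res_apply X.presheaf (homOfLE e) x hxU,
      Scheme.Hom.germ_stalkMap_apply]
  obtain ⟨P, hPdef⟩ : ∃ P : Ideal Γ(X, U), P = (hU.primeIdealOf ⟨x, hxU⟩).asIdeal := ⟨_, rfl⟩
  haveI hPprime : P.IsPrime := hPdef ▸ (hU.primeIdealOf ⟨x, hxU⟩).2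
  haveI hlocL' : IsLocalization.AtPrime (X.presheaf.stalk x) P := by
    subst hPdef; exact hlocL
  have hunder : P.under Γ(S, V) = (hV.primeIdealOf ⟨φ x, hxV⟩).asIdeal := by
    have := IsAffineOpen.comap_primeIdealOf_appLE (f := φ) V hV U hU e hxU
    rw [hPdef]
    exact congrArg PrimeSpectrum.asIdeal this
  have hK : fibIdeal φ x =
      (P.under Γ(S, V)).map (algebraMap Γ(S, V) (X.presheaf.stalk x)) := by
    show Ideal.map (φ.stalkMap x).hom (IsLocalRing.maximalIdeal (S.presheaf.stalk (φ x))) = _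
    rw [hunder, hnat, ← Ideal.map_map,
      IsLocalization.AtPrime.map_eq_maximalIdeal (hV.primeIdealOf ⟨φ x, hxV⟩).asIdeal
        (S.presheaf.stalk (φ x))]
  -- the slice
  have hcomp : 𝓘.subschemeCover.f ⟨U, hU⟩ ≫ 𝓘.subschemeι = sliceι hU (𝓘.ideal ⟨U, hU⟩) := by
    rw [𝓘.subschemeCover_map_subschemeι]
    simp only [Scheme.IdealSheafData.glueDataObjι, Category.assoc, IsAffineOpen.isoSpec_inv_ι]
    rfl
  have hdecomp : sliceι hU (𝓘.ideal ⟨U, hU⟩) ≫ φ =
      Spec.map (φ.appLE V U e ≫ CommRingCat.ofHom (Ideal.Quotient.mk (𝓘.ideal ⟨U, hU⟩))) ≫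
        hV.fromSpec := by
    show (Spec.map (CommRingCat.ofHom (Ideal.Quotient.mk (𝓘.ideal ⟨U, hU⟩))) ≫ hU.fromSpec) ≫ φ = _
    rw [Category.assoc, ← IsAffineOpen.SpecMap_appLE_fromSpec φ hV hU e, ← Category.assoc,
      ← Spec.map_comp]
  have hflS : Flat (Spec.map (φ.appLE V U e ≫
      CommRingCat.ofHom (Ideal.Quotient.mk (𝓘.ideal ⟨U, hU⟩)))) := by
    have h1 : Flat (sliceι hU (𝓘.ideal ⟨U, hU⟩) ≫ φ) := by
      have h0 : Flat (𝓘.subschemeCover.f ⟨U, hU⟩ ≫ 𝓘.subschemeι ≫ φ) := inferInstance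
      rw [← Category.assoc, hcomp] at h0
      exact h0
    rw [hdecomp] at h1
    exact MorphismProperty.of_postcomp (W := @Flat) (W' := @IsOpenImmersion) _ hV.fromSpec
      inferInstance h1
  have hfpS : LocallyOfFinitePresentation (Spec.map (φ.appLE V U e ≫
      CommRingCat.ofHom (Ideal.Quotient.mk (𝓘.ideal ⟨U, hU⟩)))) := by
    have h1 : LocallyOfFinitePresentation (sliceι hU (𝓘.ideal ⟨U, hU⟩) ≫ φ) := by
      have h0 : LocallyOfFinitePresentation
          (𝓘.subschemeCover.f ⟨U, hU⟩ ≫ 𝓘.subschemeι ≫ φ) := inferInstance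
      rw [← Category.assoc, hcomp] at h0
      exact h0
    rw [hdecomp] at h1
    exact MorphismProperty.of_postcomp (W := @LocallyOfFinitePresentation)
      (W' := @IsOpenImmersion) _ hV.fromSpec inferInstance h1
  have hfl : ((Ideal.Quotient.mk (𝓘.ideal ⟨U, hU⟩)).comp (φ.appLE V U e).hom).Flat := by
    have := (HasRingHomProperty.Spec_iff (P := @Flat)).mp hflS
    rwa [CommRingCat.hom_comp, CommRingCat.hom_ofHom] at this
  have hfpq : ((Ideal.Quotient.mk (𝓘.ideal ⟨U, hU⟩)).comp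
      (φ.appLE V U e).hom).FinitePresentation := by
    have := (HasRingHomProperty.Spec_iff (P := @LocallyOfFinitePresentation)).mp hfpS
    rwa [CommRingCat.hom_comp, CommRingCat.hom_ofHom] at this
  haveI : Module.Flat Γ(S, V) (Γ(X, U) ⧸ 𝓘.ideal ⟨U, hU⟩) :=
    RingHom.flat_algebraMap_iff.mp hfl
  haveI : Algebra.FinitePresentation Γ(S, V) (Γ(X, U) ⧸ 𝓘.ideal ⟨U, hU⟩) :=
    RingHom.finitePresentation_algebraMap.mp hfpq
  have hIfg : (𝓘.ideal ⟨U, hU⟩).FG := by
    have := Algebra.FinitePresentation.ker_fG_of_surjective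
      (Ideal.Quotient.mkₐ Γ(S, V) (𝓘.ideal ⟨U, hU⟩)) (Ideal.Quotient.mkₐ_surjective _ _)
    have hker : RingHom.ker (Ideal.Quotient.mkₐ Γ(S, V) (𝓘.ideal ⟨U, hU⟩)).toRingHom =
        𝓘.ideal ⟨U, hU⟩ := Ideal.mk_ker
    rwa [hker] at this
  have ht' : Ideal.map ((Ideal.Quotient.mk (fibIdeal φ x)).comp
      (algebraMap Γ(X, U) (X.presheaf.stalk x))) (𝓘.ideal ⟨U, hU⟩) = Ideal.span {t} := ht
  obtain ⟨a, haP, i, hiI, H⟩ := exists_away_principal_of_flat (A := Γ(S, V)) (C := Γ(X, U))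
    (L := X.presheaf.stalk x) P (𝓘.ideal ⟨U, hU⟩) hIfg (P.under Γ(S, V)) le_rfl (fibIdeal φ x)
    hK t ht'
  have hxa : x ∈ X.basicOpen a := by
    rw [X.mem_basicOpen a x hxU]
    exact IsLocalization.map_units (X.presheaf.stalk x) (⟨a, haP⟩ : P.primeCompl)
  have hD : IsAffineOpen (X.basicOpen a) := hU.basicOpen a
  haveI : IsLocalization.Away a Γ(X, X.basicOpen a) := hU.isLocalization_basicOpen a
  have H1 := H Γ(X, X.basicOpen a)
  refine ⟨⟨X.basicOpen a, hD⟩, hxa, (X.presheaf.map (homOfLE (X.basicOpen_le a)).op).hom i, ?_⟩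
  rw [← 𝓘.map_ideal (U := ⟨X.basicOpen a, hD⟩) (V := ⟨U, hU⟩) (X.basicOpen_le a)]
  exact H1

end Groth.Agent.Lib.Helper5.LocPrincFlat
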