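import Groth.Prelude.Def_LCI2
import Groth.Agent.Lib.Helper5NLIndep
import Groth.Agent.Lib.Helper1TwoTerm
import Groth.Agent.S7077
import Mathlib

/-!
# The jacobian determinant annihilates `Ext¹(NL, N)` (helper5)

For `B = A[x_1..x_n]/(f_1..f_m)`, `m ≤ n`, and `g` the image of the `m × m` jacobian minor in the first
`m` variables: `g` kills every map `NL_{B/A} → N[1]` in `D(B)`, and if `n = m` multiplication by `g`
on `NL_{B/A}` is zero in `D(B)`.
-/

set_option autoImplicit false
set_option linter.style.haveILetI false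
universe u

open CategoryTheory HomologicalComplex Algebra MvPolynomial

attribute [local instance] HasDerivedCategory.standard

namespace Groth.Agent.Lib.Helper5.NLJac

open Groth.Agent.Lib.Helper5.NLIndep

section Alg

variable {A : Type u} [CommRing A] {n m : ℕ} (hmn : m ≤ n) (f : Fin m → MvPolynomial (Fin n) A)

/-- the quotient ring -/
abbrev Bq : Type u := MvPolynomial (Fin n) A ⧸ Ideal.span (Set.range f)

/-- the presentation `A[x_1..x_n] → B` -/
noncomputable def gen : Algebra.Generators A (Bq f) (Fin n) :=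
  genOf (Ideal.Quotient.mkₐ A (Ideal.span (Set.range f))) (Ideal.Quotient.mkₐ_surjective A _)

theorem gen_ker : (gen f).toExtension.ker = Ideal.span (Set.range f) := by
  rw [gen, genOf_ker]
  ext p
  simp

theorem aeval_gen (p : MvPolynomial (Fin n) A) :
    aeval (gen f).val p = Ideal.Quotient.mk (Ideal.span (Set.range f)) p := by
  have h := aeval_eq (Ideal.Quotient.mkₐ A (Ideal.span (Set.range f)))
  exact congr($h p)

theorem f_mem (j : Fin m) : f j ∈ (gen f).toExtension.ker := by
  rw [gen_ker]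
  exact Ideal.subset_span ⟨j, rfl⟩

/-- the classes of the `f j` in the conormal module -/
noncomputable def cc (j : Fin m) : (gen f).toExtension.Cotangent :=
  Extension.Cotangent.mk ⟨f j, f_mem f j⟩

/-- the jacobian minor over `B` -/
noncomputable def Jb : Matrix (Fin m) (Fin m) (Bq f) :=
  Matrix.of fun i j => Ideal.Quotient.mk (Ideal.span (Set.range f))
    (pderiv (Fin.castLE hmn i) (f j))

theorem mk_det : Ideal.Quotient.mk (Ideal.span (Set.range f))
    (Matrix.det (Matrix.of (fun i j : Fin m => pderiv (Fin.castLE hmn i) (f j)))) =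
      (Jb hmn f).det := by
  rw [RingHom.map_det]
  congr 1

/-- coordinates in the first `m` variables -/
noncomputable def proj : (gen f).toExtension.CotangentSpace →ₗ[Bq f] (Fin m → Bq f) :=
  LinearMap.pi (fun i' => (gen f).cotangentSpaceBasis.coord (Fin.castLE hmn i'))

/-- linear combinations of the `cc j` -/
noncomputable def lc : (Fin m → Bq f) →ₗ[Bq f] (gen f).toExtension.Cotangent :=
  Fintype.linearCombination (Bq f) (cc f)

theorem proj_d_cc (j : Fin m) :
    proj hmn f ((gen f).toExtension.cotangentComplex (cc f j)) = fun i' => Jb hmn f i' j := by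
  ext i'
  simp only [proj, LinearMap.pi_apply, Module.Basis.coord_apply, cc,
    Extension.cotangentComplex_mk, Generators.cotangentSpaceBasis_repr_one_tmul, aeval_gen, Jb,
    Matrix.of_apply]

theorem key : proj hmn f ∘ₗ (gen f).toExtension.cotangentComplex ∘ₗ lc f =
    Matrix.toLin' (Jb hmn f) := by
  apply LinearMap.pi_ext'
  intro j
  apply LinearMap.ext_ring
  simp only [LinearMap.comp_apply, LinearMap.single_apply, lc,
    Fintype.linearCombination_apply_single, one_smul, proj_d_cc, Matrix.toLin'_apply]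
  ext i'
  simp [Matrix.mulVec, dotProduct, Pi.single_apply]

theorem key_apply (w : Fin m → Bq f) :
    proj hmn f ((gen f).toExtension.cotangentComplex (lc f w)) = (Jb hmn f).mulVec w := by
  have h := LinearMap.congr_fun (key hmn f) w
  simpa using h

theorem span_f : Submodule.span (gen f).toExtension.Ring
    (Set.range (fun j : Fin m => (⟨f j, f_mem f j⟩ : (gen f).toExtension.ker))) = ⊤ := by
  apply Submodule.map_injective_of_injective (f := Submodule.subtype (gen f).toExtension.ker)
    (Submodule.injective_subtype _)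
  rw [Submodule.map_span, Submodule.map_subtype_top, ← Set.range_comp]
  exact (gen_ker f).symm

theorem lc_surjective : Function.Surjective (lc f) := by
  intro y
  obtain ⟨x, rfl⟩ := Extension.Cotangent.mk_surjective y
  have hx : x ∈ Submodule.span (gen f).toExtension.Ring
      (Set.range (fun j : Fin m => (⟨f j, f_mem f j⟩ : (gen f).toExtension.ker))) := by
    rw [span_f]; trivial
  rw [← LinearMap.mem_range]
  induction hx using Submodule.span_induction with
  | mem x hx =>
    obtain ⟨j, rfl⟩ := hx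
    exact ⟨Pi.single j 1, by simp [lc, Fintype.linearCombination_apply_single, cc]⟩
  | zero => exact ⟨0, by simp⟩
  | add x y _ _ hx hy =>
    rw [map_add]
    exact add_mem hx hy
  | smul r x _ hx =>
    rw [map_smul, ← algebraMap_smul (Bq f) r]
    exact Submodule.smul_mem _ _ hx

variable {N : Type u} [AddCommGroup N] [Module (Bq f) N]

/-- the extension of `g • ψ` to the cotangent space -/
noncomputable def chi (ψ : (gen f).toExtension.Cotangent →ₗ[Bq f] N) :
    (gen f).toExtension.CotangentSpace →ₗ[Bq f] N :=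
  Fintype.linearCombination (Bq f) (fun l => ψ (cc f l)) ∘ₗ
    Matrix.toLin' (Jb hmn f).adjugate ∘ₗ proj hmn f

theorem chi_comp_d (ψ : (gen f).toExtension.Cotangent →ₗ[Bq f] N) :
    chi hmn f ψ ∘ₗ (gen f).toExtension.cotangentComplex = (Jb hmn f).det • ψ := by
  apply (LinearMap.cancel_right (lc_surjective f)).mp
  apply LinearMap.ext
  intro w
  simp only [chi, LinearMap.comp_apply, LinearMap.smul_apply, key_apply, Matrix.toLin'_apply,
    Matrix.mulVec_mulVec, Matrix.adjugate_mul, Matrix.smul_mulVec, Matrix.one_mulVec, map_smul]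
  congr 1
  simp [lc, Fintype.linearCombination_apply, map_sum, map_smul]

theorem proj_injective (hnm : n = m) : Function.Injective (proj hmn f) := by
  rw [injective_iff_map_eq_zero]
  intro x hx
  apply (gen f).cotangentSpaceBasis.repr.injective
  rw [map_zero]
  ext i
  have h := congr_fun hx ⟨i.1, by omega⟩
  simpa [proj] using h

theorem d_comp_chi (hnm : n = m) :
    (gen f).toExtension.cotangentComplex ∘ₗ chi hmn f LinearMap.id =
      (Jb hmn f).det • LinearMap.id := by
  apply (LinearMap.cancel_left (proj_injective hmn f hnm)).mp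
  apply LinearMap.ext
  intro x
  have h1 : chi hmn f LinearMap.id x = lc f ((Jb hmn f).adjugate.mulVec (proj hmn f x)) := by
    simp [chi, lc]
  simp only [LinearMap.comp_apply, h1, key_apply, Matrix.mulVec_mulVec, Matrix.mul_adjugate,
    Matrix.smul_mulVec, Matrix.one_mulVec, LinearMap.smul_apply, LinearMap.id_apply, map_smul]

end Alg

section Cat

variable {A : Type u} [CommRing A] {n m : ℕ} (hmn : m ≤ n) (f : Fin m → MvPolynomial (Fin n) A)

/-- the two-term complex of the presentation -/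
noncomputable abbrev EE : CochainComplex (ModuleCat.{u} (Bq f)) ℤ :=
  double (ModuleCat.ofHom (gen f).toExtension.cotangentComplex) rel

theorem isZero_EE (i : ℤ) (h1 : i ≠ -1) (h0 : i ≠ 0) : Limits.IsZero ((EE f).X i) :=
  isZero_double_X _ _ i h1 h0

/-- `g • ψ` extends along the differential, at the level of the complex -/
theorem exists_chi_cat (M : ModuleCat.{u} (Bq f)) (ψ : (EE f).X (-1) ⟶ M) :
    ∃ χ : (EE f).X 0 ⟶ M, (Jb hmn f).det • ψ = (EE f).d (-1) 0 ≫ χ := by
  let ψ₀ : (gen f).toExtension.Cotangent →ₗ[Bq f] M :=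
    ((doubleXIso₀ (ModuleCat.ofHom (gen f).toExtension.cotangentComplex) rel).inv ≫ ψ).hom
  refine ⟨(doubleXIso₁ (ModuleCat.ofHom (gen f).toExtension.cotangentComplex) rel ne10).hom ≫
    ModuleCat.ofHom (chi hmn f ψ₀), ?_⟩
  rw [double_d _ rel ne10]
  simp only [Category.assoc, Iso.inv_hom_id_assoc]
  rw [← ModuleCat.ofHom_comp, chi_comp_d]
  have h : ModuleCat.ofHom ((Jb hmn f).det • ψ₀) = (Jb hmn f).det •
      ((doubleXIso₀ (ModuleCat.ofHom (gen f).toExtension.cotangentComplex) rel).inv ≫ ψ) := by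
    rfl
  rw [h]
  exact ((Linear.comp_smul _ _ _
    (doubleXIso₀ (ModuleCat.ofHom (gen f).toExtension.cotangentComplex) rel).hom (Jb hmn f).det
    ((doubleXIso₀ (ModuleCat.ofHom (gen f).toExtension.cotangentComplex) rel).inv ≫ ψ)).trans
      (by rw [Iso.hom_inv_id_assoc])).symm

/-- `g • 𝟙` is null-homotopic when `n = m` -/
noncomputable def homotopySmulId (hnm : n = m) :
    Homotopy ((Jb hmn f).det • 𝟙 (EE f)) 0 :=
  homotopyOfDouble _ _ _ _ (ModuleCat.ofHom (chi hmn f LinearMap.id))
    (by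
      simp only [HomologicalComplex.smul_f_apply, HomologicalComplex.id_f,
        HomologicalComplex.zero_f, Linear.smul_comp, Linear.comp_smul, Category.id_comp,
        Iso.inv_hom_id, Limits.zero_comp, Limits.comp_zero, add_zero]
      rw [← ModuleCat.ofHom_comp, chi_comp_d]
      rfl)
    (by
      simp only [HomologicalComplex.smul_f_apply, HomologicalComplex.id_f,
        HomologicalComplex.zero_f, Linear.smul_comp, Linear.comp_smul, Category.id_comp,
        Iso.inv_hom_id, Limits.zero_comp, Limits.comp_zero, add_zero]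
      rw [← ModuleCat.ofHom_comp, d_comp_chi hmn f hnm]
      rfl)

theorem smul_id_Q_eq_zero (hnm : n = m) :
    (Jb hmn f).det • 𝟙 (DerivedCategory.Q.obj (EE f)) = 0 := by
  have h := DerivedCategory.Q_map_eq_of_homotopy _ (homotopySmulId hmn f hnm)
  have h' : DerivedCategory.Q.map ((Jb hmn f).det • 𝟙 (EE f)) =
      (Jb hmn f).det • DerivedCategory.Q.map (𝟙 (EE f)) :=
    Functor.map_smul DerivedCategory.Q (Jb hmn f).det (𝟙 (EE f))
  rw [h', CategoryTheory.Functor.map_id, Functor.map_zero] at h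
  exact h

open DerivedCategory Pretriangulated Groth.Agent.Lib.Helper1.TwoTerm in
theorem smul_hom_eq_zero (N : Type u) [AddCommGroup N] [Module (Bq f) N]
    (φ : DerivedCategory.Q.obj (EE f) ⟶ (Dual.inD (Bq f) N)⟦(1 : ℤ)⟧) :
    (Jb hmn f).det • φ = 0 := by
  obtain ⟨i, p, hT, hi⟩ := exists_triangle (EE f) (isZero_EE f)
  -- the degree zero term is projective
  haveI : Module.Free (Bq f) (gen f).toExtension.CotangentSpace :=
    Module.Free.of_basis (gen f).cotangentSpaceBasis
  haveI hP0 : Projective (ModuleCat.of (Bq f) (gen f).toExtension.CotangentSpace) :=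
    (IsProjective.iff_projective (gen f).toExtension.CotangentSpace).mp inferInstance
  haveI hP : Projective ((EE f).X 0) :=
    Projective.of_iso
      (doubleXIso₁ (ModuleCat.ofHom (gen f).toExtension.cotangentComplex) rel ne10).symm hP0
  haveI : ((Dual.inD (Bq f) N)⟦(1 : ℤ)⟧).IsLE (-1) :=
    DerivedCategory.TStructure.t.isLE_shift (Dual.inD (Bq f) N) 0 1 (-1) (by lia)
  have h0 : i ≫ φ = 0 :=
    Groth.Agent.S7077.hom_single_proj_eq_zero ((EE f).X 0) 0 (-1) (by lia) _ _
  obtain ⟨ψ', hψ'⟩ : ∃ ψ' : ((singleFunctor (ModuleCat.{u} (Bq f)) 0).obj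
      ((EE f).X (-1)))⟦(1 : ℤ)⟧ ⟶ (Dual.inD (Bq f) N)⟦(1 : ℤ)⟧, φ = p ≫ ψ' :=
    Triangle.yoneda_exact₂ _ hT φ h0
  obtain ⟨ψ'', hψ''⟩ : ∃ ψ'' : (singleFunctor (ModuleCat.{u} (Bq f)) 0).obj ((EE f).X (-1)) ⟶
      Dual.inD (Bq f) N, ψ''⟦(1 : ℤ)⟧' = ψ' :=
    ⟨(shiftFunctor (DerivedCategory (ModuleCat.{u} (Bq f))) (1 : ℤ)).preimage ψ',
      Functor.map_preimage _ _⟩
  obtain ⟨ψm, hψm⟩ : ∃ ψm : (EE f).X (-1) ⟶ ModuleCat.of (Bq f) N,
      (singleFunctor (ModuleCat.{u} (Bq f)) 0).map ψm = ψ'' :=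
    ⟨(singleFunctor (ModuleCat.{u} (Bq f)) 0).preimage ψ'', Functor.map_preimage _ _⟩
  obtain ⟨χ, hχ⟩ := exists_chi_cat hmn f _ ψm
  have hz : p ≫ ((singleFunctor (ModuleCat.{u} (Bq f)) 0).map ((EE f).d (-1) 0))⟦(1 : ℤ)⟧' = 0 :=
    comp_distTriang_mor_zero₂₃ _ hT
  have h1 : (Jb hmn f).det • ψ' =
      ((singleFunctor (ModuleCat.{u} (Bq f)) 0).map ((Jb hmn f).det • ψm))⟦(1 : ℤ)⟧' := by
    have e1 : (singleFunctor (ModuleCat.{u} (Bq f)) 0).map ((Jb hmn f).det • ψm) =
        (Jb hmn f).det • (singleFunctor (ModuleCat.{u} (Bq f)) 0).map ψm :=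
      Functor.map_smul (singleFunctor (ModuleCat.{u} (Bq f)) 0) (Jb hmn f).det ψm
    have e2 : ((Jb hmn f).det • (singleFunctor (ModuleCat.{u} (Bq f)) 0).map ψm)⟦(1 : ℤ)⟧' =
        (Jb hmn f).det • ((singleFunctor (ModuleCat.{u} (Bq f)) 0).map ψm)⟦(1 : ℤ)⟧' :=
      Functor.map_smul (shiftFunctor (DerivedCategory (ModuleCat.{u} (Bq f))) (1 : ℤ))
        (Jb hmn f).det ((singleFunctor (ModuleCat.{u} (Bq f)) 0).map ψm)
    rw [← hψ'', ← hψm, e1, e2]
  rw [hψ', ← Linear.comp_smul, h1, hχ, Functor.map_comp, Functor.map_comp, reassoc_of% hz,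
    Limits.zero_comp]

end Cat

section Main

variable (A : Type u) [CommRing A] (n m : ℕ) (hmn : m ≤ n) (f : Fin m → MvPolynomial (Fin n) A)

theorem main :
    (∀ (N : Type u) [AddCommGroup N] [Module (MvPolynomial (Fin n) A ⧸ Ideal.span (Set.range f)) N]
      (φ : LCI.NL A (MvPolynomial (Fin n) A ⧸ Ideal.span (Set.range f)) ⟶
        (Dual.inD (MvPolynomial (Fin n) A ⧸ Ideal.span (Set.range f)) N)⟦(1 : ℤ)⟧),
      (Ideal.Quotient.mk (Ideal.span (Set.range f)) (Matrix.det (Matrix.of
        (fun i j : Fin m => MvPolynomial.pderiv (Fin.castLE hmn i) (f j))))) • φ = 0) ∧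
    (n = m → (Ideal.Quotient.mk (Ideal.span (Set.range f)) (Matrix.det (Matrix.of
        (fun i j : Fin m => MvPolynomial.pderiv (Fin.castLE hmn i) (f j))))) •
      𝟙 (LCI.NL A (MvPolynomial (Fin n) A ⧸ Ideal.span (Set.range f))) = 0) := by
  obtain ⟨e⟩ : Nonempty (DerivedCategory.Q.obj (EE f) ≅ LCI.NL A (Bq f)) :=
    nonempty_iso ((gen f).defaultHom (Generators.self A (Bq f))).toExtensionHom
      ((Generators.self A (Bq f)).defaultHom (gen f)).toExtensionHom
  rw [mk_det hmn f]
  constructor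
  · intro N _ _ φ
    have h := smul_hom_eq_zero hmn f N (e.hom ≫ φ)
    have h2 : (Jb hmn f).det • φ = e.inv ≫ ((Jb hmn f).det • (e.hom ≫ φ)) := by
      rw [Linear.comp_smul, Iso.inv_hom_id_assoc]
    rw [h2, h, Limits.comp_zero]
  · intro hnm
    have h := smul_id_Q_eq_zero hmn f hnm
    have h2 : (Jb hmn f).det • 𝟙 (LCI.NL A (Bq f)) =
        e.inv ≫ ((Jb hmn f).det • 𝟙 (DerivedCategory.Q.obj (EE f))) ≫ e.hom := by
      rw [Linear.smul_comp, Linear.comp_smul, Category.id_comp, Iso.inv_hom_id]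
    rw [h2, h, Limits.zero_comp, Limits.comp_zero]

end Main

end Groth.Agent.Lib.Helper5.NLJac
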