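import Groth.Agent.Lib.Helper5ProCons
import Mathlib.AlgebraicGeometry.Noetherian

/-!
Constructible sets and closures of points.
-/

set_option autoImplicit false
universe u

namespace Groth.Agent.Lib.Helper5

open Topology AlgebraicGeometry CategoryTheory
open scoped Set.Notation

/-- A constructible set containing `p` contains an open neighbourhood of `p` in the closure
of `p`. -/
theorem exists_isOpen_inter_closure_subset {W : Type*} [TopologicalSpace W] [CompactSpace W]
    [QuasiSeparatedSpace W] [PrespectralSpace W] {T : Set W} (hT : IsConstructible T) :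
    ∀ p ∈ T, ∃ O : Set W, IsOpen O ∧ p ∈ O ∧ O ∩ closure {p} ⊆ T := by
  have hne : Nonempty {U : Set W // IsOpen U ∧ IsCompact U} := ⟨⟨∅, isOpen_empty, isCompact_empty⟩⟩
  induction T, hT using IsConstructible.induction_of_isTopologicalBasis
    (b := fun U : {U : Set W // IsOpen U ∧ IsCompact U} => (U : Set W)) with
  | basis =>
    have : (Set.range fun U : {U : Set W // IsOpen U ∧ IsCompact U} => (U : Set W)) =
        {U : Set W | IsOpen U ∧ IsCompact U} := Subtype.range_coe
    rw [this]
    exact PrespectralSpace.isTopologicalBasis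
  | isCompact_basis i => exact i.2.2
  | sdiff i s hs =>
    intro p hp
    refine ⟨i.1, i.2.1, hp.1, ?_⟩
    rintro z ⟨hzi, hzcl⟩
    refine ⟨hzi, ?_⟩
    intro hz
    rw [Set.mem_iUnion₂] at hz
    obtain ⟨j, hj, hzj⟩ := hz
    have hzp : p ⤳ z := specializes_iff_mem_closure.mpr hzcl
    exact hp.2 (Set.mem_iUnion₂.mpr ⟨j, hj, hzp.mem_open j.2.1 hzj⟩)
  | union s hs t ht hs' ht' =>
    rintro p (hp | hp)
    · obtain ⟨O, hO, hpO, hOs⟩ := hs' p hp
      exact ⟨O, hO, hpO, hOs.trans Set.subset_union_left⟩
    · obtain ⟨O, hO, hpO, hOt⟩ := ht' p hp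
      exact ⟨O, hO, hpO, hOt.trans Set.subset_union_right⟩

/-- In a Noetherian space, locally closed sets are constructible. -/
theorem isConstructible_inter_of_noetherianSpace {W : Type*} [TopologicalSpace W]
    [TopologicalSpace.NoetherianSpace W] {O Z : Set W} (hO : IsOpen O) (hZ : IsClosed Z) :
    IsConstructible (O ∩ Z) := by
  have hretro : ∀ s : Set W, IsRetrocompact s := fun s U _ _ => TopologicalSpace.NoetherianSpace.isCompact _
  have h1 : IsConstructible O := (hretro O).isConstructible hO
  have h2 : IsConstructible Z := by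
    rw [← compl_compl Z]
    exact ((hretro Zᶜ).isConstructible hZ.isOpen_compl).compl
  exact h1.inter h2

end Groth.Agent.Lib.Helper5
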