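import Mathlib
import Groth.Agent.Lib.Helper5LocalFlat3
import Groth.Agent.Lib.Helper5InjFlat2
import Groth.Agent.Lib.Helper5InfFlat

/-!
# Flatness over quasi-compact opens and flatness modulo `ker (I → Γ(U, I/I²))` (helper5)
-/

set_option autoImplicit false
universe u v

namespace Groth.Agent.Lib.Helper5

open TensorProduct LinearMap

section

variable {A : Type u} [CommRing A] (M : Type u) [AddCommGroup M] [Module A M]

theorem flat_quotient_smul_top_iff (I : Ideal A) :
    Module.Flat (A ⧸ I) (M ⧸ (I • ⊤ : Submodule A M)) ↔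
      Module.Flat (A ⧸ I) ((A ⧸ I) ⊗[A] M) := by
  let e : ((A ⧸ I) ⊗[A] M) ≃ₗ[A ⧸ I] (M ⧸ (I • ⊤ : Submodule A M)) :=
    (TensorProduct.quotTensorEquivQuotSMul M I).extendScalarsOfSurjective
      Ideal.Quotient.mk_surjective
  exact ⟨fun h => Module.Flat.of_linearEquiv e, fun h => Module.Flat.of_linearEquiv e.symm⟩

/-- Converse of `flat_localizedModule_of_forall_exists_smul_eq_zero`. -/
theorem exists_smul_eq_zero_of_flat_localizedModule (p : Submonoid A)
    [Module.Flat A (LocalizedModule p M)] (J : Ideal A) (z : M ⊗[A] J)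
    (hz : J.subtype.lTensor M z = 0) : ∃ c : p, (c : A) • z = 0 := by
  let g : M →ₗ[A] LocalizedModule p M := LocalizedModule.mkLinearMap p M
  have hmap := IsLocalizedModule.map_lTensor (R := A) (A := A) p (J.subtype) g
  have hinj : Function.Injective
      (AlgebraTensorModule.lTensor A (LocalizedModule p M) J.subtype) := by
    rw [AlgebraTensorModule.coe_lTensor]
    exact Module.Flat.lTensor_preserves_injective_linearMap _ J.injective_subtype
  have h1 : (AlgebraTensorModule.rTensor A J g) z = 0 := by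
    apply hinj
    rw [map_zero, ← hmap, IsLocalizedModule.map_apply]
    have : (AlgebraTensorModule.lTensor A M J.subtype) z = 0 := by
      rw [AlgebraTensorModule.coe_lTensor]
      exact hz
    rw [this, map_zero]
  exact (IsLocalizedModule.eq_zero_iff p (AlgebraTensorModule.rTensor A J g)).mp h1

omit [AddCommGroup M] [Module A M] in
theorem exists_pow_mem_of_forall_prime (K : Ideal A) (f : A)
    (h : ∀ p : PrimeSpectrum A, f ∉ p.asIdeal → ¬ K ≤ p.asIdeal) : ∃ k : ℕ, f ^ k ∈ K := by
  have : f ∈ K.radical := by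
    rw [Ideal.radical_eq_sInf, Ideal.mem_sInf]
    rintro q ⟨hKq, hq⟩
    by_contra hf
    exact h ⟨q, hq⟩ hf hKq
  exact this

theorem flat_localizedModule_away_of_forall_prime (f : A)
    (h : ∀ p : PrimeSpectrum A, f ∉ p.asIdeal →
      Module.Flat A (LocalizedModule p.asIdeal.primeCompl M)) :
    Module.Flat A (LocalizedModule (Submonoid.powers f) M) := by
  apply flat_localizedModule_of_forall_exists_smul_eq_zero (B := A)
  intro J z hz
  -- the annihilator of `z`
  let K : Ideal A := Submodule.annihilator (Submodule.span A {z})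
  have hK : ∀ a, a ∈ K ↔ a • z = 0 := by
    intro a
    simp only [K]
    rw [Submodule.mem_annihilator_span_singleton]
  obtain ⟨k, hk⟩ := exists_pow_mem_of_forall_prime K f (by
    intro p hp hKp
    haveI := h p hp
    obtain ⟨c, hc⟩ := exists_smul_eq_zero_of_flat_localizedModule M p.asIdeal.primeCompl J z hz
    exact c.2 (hKp ((hK _).mpr hc)))
  exact ⟨⟨f ^ k, k, rfl⟩, (hK _).mp hk⟩

theorem flat_away_tensor_of_forall_prime (f : A)
    (h : ∀ p : PrimeSpectrum A, f ∉ p.asIdeal →
      Module.Flat A (LocalizedModule p.asIdeal.primeCompl M)) :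
    Module.Flat (Localization.Away f) (Localization.Away f ⊗[A] M) := by
  have h1 := flat_localizedModule_away_of_forall_prime M f h
  have h2 : Module.Flat (Localization.Away f) (LocalizedModule (Submonoid.powers f) M) :=
    (Module.flat_iff_of_isLocalization (Localization.Away f) (Submonoid.powers f) _).mpr h1
  have hbc : IsBaseChange (Localization.Away f)
      (LocalizedModule.mkLinearMap (Submonoid.powers f) M) :=
    IsLocalizedModule.isBaseChange (Submonoid.powers f) (Localization.Away f) _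
  exact Module.Flat.of_linearEquiv hbc.equiv

/-- Stacks 05LX-type statement: flatness modulo the kernel of `I → Γ(U, I/I²)`. -/
theorem flat_quotient_of_flat_on_compact_open (I : Ideal A) (U : Set (PrimeSpectrum A))
    (hU : IsOpen U) (hUc : IsCompact U)
    (h1 : Module.Flat (A ⧸ I) (M ⧸ (I • ⊤ : Submodule A M)))
    (hflat : ∀ p ∈ U, Module.Flat A (LocalizedModule p.asIdeal.primeCompl M))
    (I₂ : Ideal A)
    (hI₂ : ∀ x : A, x ∈ I₂ ↔ x ∈ I ∧ ∀ p ∈ U, ∃ s : A, s ∉ p.asIdeal ∧ s * x ∈ I ^ 2) :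
    Module.Flat (A ⧸ I₂) (M ⧸ (I₂ • ⊤ : Submodule A M)) := by
  obtain ⟨t, ht⟩ := PrimeSpectrum.isCompact_isOpen_iff.mp ⟨hUc, hU⟩
  have hmemU : ∀ p : PrimeSpectrum A, p ∈ U ↔ ∃ f ∈ t, f ∉ p.asIdeal := by
    intro p
    rw [← ht, Set.mem_compl_iff, PrimeSpectrum.mem_zeroLocus, Set.not_subset]
    rfl
  rw [flat_quotient_smul_top_iff] at h1 ⊢
  let T : ↥t → Type u := fun f => Localization.Away (f : A)
  let Q : ∀ f : ↥t, Ideal (Localization.Away (f : A)) :=
    fun f => (I ^ 2).map (algebraMap A (Localization.Away (f : A)))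
  let L' : Ideal A := ⨅ f : ↥t, (Q f).comap (algebraMap A (Localization.Away (f : A)))
  have hmemL : ∀ x, x ∈ L' ↔ ∀ f ∈ t, ∃ k : ℕ, f ^ k * x ∈ I ^ 2 := by
    intro x
    simp only [L', Ideal.mem_iInf, Ideal.mem_comap, Q]
    constructor
    · intro h f hf
      have := h ⟨f, hf⟩
      rw [IsLocalization.algebraMap_mem_map_algebraMap_iff (Submonoid.powers f)] at this
      obtain ⟨m, ⟨k, rfl⟩, hm⟩ := this
      exact ⟨k, hm⟩
    · rintro h ⟨f, hf⟩
      obtain ⟨k, hk⟩ := h f hf
      rw [IsLocalization.algebraMap_mem_map_algebraMap_iff (Submonoid.powers f)]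
      exact ⟨f ^ k, ⟨k, rfl⟩, hk⟩
  have hL' : Module.Flat (A ⧸ L') ((A ⧸ L') ⊗[A] M) := by
    refine flat_quotient_of_flat_of_forall_mem M I L' 2 ?_ T Q (fun f => iInf_le _ f) ?_ h1 ?_
    · intro x hx
      rw [hmemL]
      intro f hf
      exact ⟨0, by simpa using hx⟩
    · intro a ha
      exact Ideal.mem_iInf.mpr ha
    · intro f
      apply flat_away_tensor_of_forall_prime
      intro p hp
      exact hflat p ((hmemU p).mpr ⟨f, f.2, hp⟩)
  have hinf := flat_quotient_inf_of_flat_quotient M I L' h1 hL'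
  have heq : I₂ = I ⊓ L' := by
    ext x
    rw [hI₂, Ideal.mem_inf, hmemL]
    constructor
    · rintro ⟨hxI, hx⟩
      refine ⟨hxI, fun f hf => ?_⟩
      obtain ⟨k, hk⟩ := exists_pow_mem_of_forall_prime (Submodule.colon (I ^ 2) {x}) f (by
        intro p hp hKp
        obtain ⟨s, hs, hsx⟩ := hx p ((hmemU p).mpr ⟨f, hf, hp⟩)
        exact hs (hKp (Submodule.mem_colon_singleton.mpr hsx)))
      exact ⟨k, Submodule.mem_colon_singleton.mp hk⟩
    · rintro ⟨hxI, hx⟩
      refine ⟨hxI, fun p hp => ?_⟩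
      obtain ⟨f, hf, hfp⟩ := (hmemU p).mp hp
      obtain ⟨k, hk⟩ := hx f hf
      exact ⟨f ^ k, fun h => hfp (p.2.mem_of_pow_mem k h), hk⟩
  rw [heq]
  exact hinf

end

end Groth.Agent.Lib.Helper5
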