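import Mathlib
import Groth.Agent.Lib.Helper5PCProp
import Groth.Agent.Lib.Helper5PCBC
import Groth.Agent.Lib.Helper5KzLocal
import Groth.Agent.S6962

/-!
# Pseudo-coherence of finite ring maps and finite morphisms (helper5)

For a module `M` over `A[x_1..x_n]` which is finite over `A`, pseudo-coherence over the polynomial ring
and over `A` agree (each variable satisfies a monic polynomial on `M`).  Hence a finite ring map is
pseudo-coherent iff the target is a pseudo-coherent module over the source; same for finite morphisms.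
-/

set_option autoImplicit false
set_option linter.style.haveILetI false
universe u
open CategoryTheory CategoryTheory.Limits AlgebraicGeometry
attribute [local instance] HasDerivedCategory.standard

namespace Groth.Agent.Lib.Helper5.PCFin

open Groth.Agent.Lib.Helper5.PCHom Groth.Agent.Lib.Helper5.PCProp Groth.Agent.Lib.Helper5.KzIdeal
open Groth.Agent.Lib.Helper5.LciLocal Groth.Agent.Lib.Helper5.KzLocal

theorem pcMod_algebraMap_iff {R S : Type u} [CommRing R] [CommRing S] [Algebra R S] :
    PCMod (algebraMap R S) ↔ DRing.IsPseudoCoherentModule' R S := by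
  unfold PCMod
  have hinst : (algebraMap R S).toAlgebra = (inferInstance : Algebra R S) :=
    Algebra.algebra_ext _ _ (fun _ => rfl)
  rw [hinst]

theorem isPC'_of_ringEquiv {S S' : Type u} [CommRing S] [CommRing S'] (e : S ≃+* S') (M : Type u)
    [AddCommGroup M] [Module S M] [Module S' M] (hsm : ∀ (s : S) (m : M), s • m = e s • m) :
    DRing.IsPseudoCoherentModule' S' M ↔ DRing.IsPseudoCoherentModule' S M := by
  letI : Algebra S S' := (e : S →+* S').toAlgebra
  haveI : IsScalarTower S S' M := ⟨fun s s' m => by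
    rw [Algebra.smul_def, mul_smul]
    exact (hsm s (s' • m)).symm⟩
  exact isPC'_iff_of_tower (pcMod_ringEquiv e) M

section OneVar

open Polynomial

variable (Q : Type u) [CommRing Q] (M : Type u) [AddCommGroup M] [Module Q M]
  [Module Q[X] M] [IsScalarTower Q Q[X] M]

theorem exists_monic_smul_eq_zero [Module.Finite Q M] :
    ∃ p : Q[X], p.Monic ∧ ∀ m : M, p • m = 0 := by
  let L : Q[X] →ₐ[Q] Module.End Q M := Algebra.lsmul Q Q M
  let T : Module.End Q M := L X
  obtain ⟨p, hp, h0⟩ := LinearMap.exists_monic_and_aeval_eq_zero Q T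
  have hae : Polynomial.aeval T = L := Polynomial.algHom_ext (by simp [T])
  refine ⟨p, hp, fun m => ?_⟩
  have h1 := LinearMap.congr_fun h0 m
  rw [hae] at h1
  exact h1

theorem isPC'_polynomial_iff [Module.Finite Q M] :
    DRing.IsPseudoCoherentModule' Q[X] M ↔ DRing.IsPseudoCoherentModule' Q M := by
  obtain ⟨p, hp, hpm⟩ := exists_monic_smul_eq_zero Q M
  have htors : Module.IsTorsionBySet Q[X] M (Ideal.span {p} : Ideal Q[X]) := by
    rw [Module.isTorsionBySet_span_singleton_iff]
    intro m
    exact hpm m
  letI modQ' : Module (Q[X] ⧸ (Ideal.span {p} : Ideal Q[X])) M := htors.module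
  haveI st1 : IsScalarTower Q[X] (Q[X] ⧸ (Ideal.span {p} : Ideal Q[X])) M := htors.isScalarTower
  haveI st2 : IsScalarTower Q (Q[X] ⧸ (Ideal.span {p} : Ideal Q[X])) M := htors.isScalarTower
  have h1 : DRing.IsPseudoCoherentModule' Q[X] (Q[X] ⧸ (Ideal.span {p} : Ideal Q[X])) := by
    rw [← pcMod_algebraMap_iff]
    refine pcMod_of_surjective_of_kr _ Ideal.Quotient.mk_surjective ?_
    have hk : RingHom.ker (algebraMap Q[X] (Q[X] ⧸ (Ideal.span {p} : Ideal Q[X]))) =
        Ideal.ofList [p] := by
      rw [Ideal.Quotient.algebraMap_eq, Ideal.mk_ker, Ideal.ofList_singleton]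
    rw [hk, kr_iff]
    exact kr_ofList _ (isKoszulRegularSeq_singleton p hp.isRegular.left.isSMulRegular)
  have h2 : DRing.IsPseudoCoherentModule' Q (Q[X] ⧸ (Ideal.span {p} : Ideal Q[X])) := by
    let pb : PowerBasis Q (AdjoinRoot p) := AdjoinRoot.powerBasis' hp
    haveI : Module.Free Q (AdjoinRoot p) := Module.Free.of_basis pb.basis
    haveI : Module.Finite Q (AdjoinRoot p) := Module.Finite.of_basis pb.basis
    have h3 : DRing.IsPseudoCoherentModule' Q (AdjoinRoot p) :=
      Groth.Agent.S7019.isPC'_of_isPerfect _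
        (Groth.Agent.S6962.isPerfect_of_projective_finite (ModuleCat.of Q (AdjoinRoot p))
          inferInstance inferInstance)
    exact h3
  exact ((isPC'_iff_of_tower h1 M).symm).trans (isPC'_iff_of_tower h2 M)

end OneVar

section MvPoly

open MvPolynomial

/-- pseudo-coherence over `A[x_1..x_n]` and over `A` agree for modules finite over `A` -/
theorem isPC'_mvPolynomial_iff : ∀ (n : ℕ) (A : Type u) [CommRing A] (M : Type u)
    [AddCommGroup M] [Module A M] [Module (MvPolynomial (Fin n) A) M]
    [IsScalarTower A (MvPolynomial (Fin n) A) M] [Module.Finite A M],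
    DRing.IsPseudoCoherentModule' (MvPolynomial (Fin n) A) M ↔
      DRing.IsPseudoCoherentModule' A M := by
  intro n
  induction n with
  | zero =>
    intro A _ M _ _ _ _ _
    let e : MvPolynomial (Fin 0) A ≃ₐ[A] A := MvPolynomial.isEmptyAlgEquiv A (Fin 0)
    have hsm : ∀ (s : MvPolynomial (Fin 0) A) (m : M), s • m = e.toRingEquiv s • m := by
      intro s m
      have hs : s = algebraMap A _ (e s) := by
        conv_lhs => rw [← e.symm_apply_apply s]
        exact e.symm.commutes (e s)
      conv_lhs => rw [hs, algebraMap_smul]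
      rfl
    exact (isPC'_of_ringEquiv e.toRingEquiv M hsm).symm
  | succ n ih =>
    intro A _ M _ _ _ _ _
    let e : MvPolynomial (Fin (n + 1)) A ≃ₐ[A] Polynomial (MvPolynomial (Fin n) A) :=
      MvPolynomial.finSuccEquiv A n
    let es : Polynomial (MvPolynomial (Fin n) A) →+* MvPolynomial (Fin (n + 1)) A :=
      (e.symm : Polynomial (MvPolynomial (Fin n) A) →ₐ[A] MvPolynomial (Fin (n + 1)) A).toRingHom
    letI modR : Module (Polynomial (MvPolynomial (Fin n) A)) M := Module.compHom M es
    letI modS₀ : Module (MvPolynomial (Fin n) A) M := Module.compHom M (es.comp Polynomial.C)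
    haveI : IsScalarTower (MvPolynomial (Fin n) A) (Polynomial (MvPolynomial (Fin n) A)) M :=
      ⟨fun s₀ r m => by
        show es (s₀ • r) • m = es (Polynomial.C s₀) • (es r • m)
        rw [Polynomial.smul_eq_C_mul, map_mul, mul_smul]⟩
    haveI : IsScalarTower A (MvPolynomial (Fin n) A) M := ⟨fun a s₀ m => by
      show es (Polynomial.C (a • s₀)) • m = a • (es (Polynomial.C s₀) • m)
      have h1 : es (Polynomial.C (algebraMap A (MvPolynomial (Fin n) A) a)) =
          algebraMap A (MvPolynomial (Fin (n + 1)) A) a := by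
        have := e.symm.commutes a
        rwa [Polynomial.algebraMap_apply] at this
      rw [Algebra.smul_def, map_mul, map_mul, mul_smul, h1, algebraMap_smul]⟩
    haveI : Module.Finite (MvPolynomial (Fin n) A) M :=
      Module.Finite.of_restrictScalars_finite A (MvPolynomial (Fin n) A) M
    have h2 := ih A M
    have h3 := isPC'_polynomial_iff (MvPolynomial (Fin n) A) M
    have hsm : ∀ (s : MvPolynomial (Fin (n + 1)) A) (m : M), s • m = e.toRingEquiv s • m := by
      intro s m
      show s • m = e.symm (e s) • m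
      rw [e.symm_apply_apply]
    have h4 := isPC'_of_ringEquiv e.toRingEquiv M hsm
    exact h4.symm.trans (h3.trans h2)

end MvPoly

/-- a finite ring map is pseudo-coherent iff the target is a pseudo-coherent module -/
theorem pcHom_iff_pcMod_of_finite {A B : Type u} [CommRing A] [CommRing B] (φ : A →+* B)
    (hfin : φ.Finite) : PCHom φ ↔ PCMod φ := by
  letI := φ.toAlgebra
  haveI : Module.Finite A B := hfin
  haveI : Algebra.FiniteType A B := inferInstance
  obtain ⟨n, α, hα⟩ := Algebra.FiniteType.iff_quotient_mvPolynomial''.mp ‹Algebra.FiniteType A B›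
  letI algPB : Algebra (MvPolynomial (Fin n) A) B := α.toRingHom.toAlgebra
  haveI : IsScalarTower A (MvPolynomial (Fin n) A) B :=
    IsScalarTower.of_algebraMap_eq (fun a => (α.commutes a).symm)
  have key := isPC'_mvPolynomial_iff n A B
  constructor
  · intro h
    have h1 : PCMod α.toRingHom := pcMod_of_isPseudoCoherentHom h α hα
    exact key.mp h1
  · intro h
    exact ⟨n, α, hα, key.mpr h⟩

/-- for a finite morphism, pseudo-coherence means `f_* O_X` is pseudo-coherent on affine opens -/
theorem isPseudoCoherentMor_iff_of_isFinite {X S : Scheme.{u}} (f : X ⟶ S) [IsFinite f] :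
    MoreMor.IsPseudoCoherentMor f ↔ ∀ (V : S.Opens), IsAffineOpen V →
      (letI := (f.app V).hom.toAlgebra
       DRing.IsPseudoCoherentModule' Γ(S, V) Γ(X, f ⁻¹ᵁ V)) := by
  have hfin : ∀ (V : S.Opens), IsAffineOpen V → (f.app V).hom.Finite :=
    fun V hV => IsFinite.finite_app f V hV
  constructor
  · intro h V hV
    have h1 := h (f ⁻¹ᵁ V) V (hV.preimage f) hV le_rfl
    have h2 : PCHom (f.app V).hom := by
      unfold PCHom
      rw [← Scheme.Hom.appLE_eq_app]
      exact h1
    exact (pcHom_iff_pcMod_of_finite _ (hfin V hV)).mp h2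
  · intro h
    rw [isPseudoCoherentMor_iff_exists]
    intro x
    obtain ⟨_, ⟨V, hV, rfl⟩, hxV, -⟩ :=
      S.isBasis_affineOpens.exists_subset_of_mem_open (Set.mem_univ (f.base x)) isOpen_univ
    refine ⟨f ⁻¹ᵁ V, V, le_rfl, hV.preimage f, hV, hxV, ?_⟩
    have h2 : PCHom (f.app V).hom := (pcHom_iff_pcMod_of_finite _ (hfin V hV)).mpr (h V hV)
    unfold PCHom at h2
    rw [Scheme.Hom.appLE_eq_app]
    exact h2

end Groth.Agent.Lib.Helper5.PCFin
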