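import Mathlib
import Groth.Agent.Lib.Helper5PerfProp
import Groth.Agent.Lib.Helper13LciSmB
import Groth.Agent.Lib.Helper14TorSyz

/-!
# Cancellation of a smooth morphism for perfect morphisms (helper5)

If `g` is smooth and `f ≫ g` is perfect then `f` is perfect.  Ring level: `A → B` standard smooth
factors as `A → A[x_1..x_n] → B` with the second map étale; tor dimension over `A[x]` is bounded by
tor dimension over `A` plus `n`, and tor dimension ascends along (weakly) étale maps (helper14).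
-/

set_option autoImplicit false
universe u
open CategoryTheory CategoryTheory.Limits
attribute [local instance] HasDerivedCategory.standard

namespace Groth.Agent.Lib.Helper5.PerfSm

open DerivedCategory
open Groth.Agent.Lib.Helper1.Tor Groth.Agent.Lib.Helper1.TorDim Groth.Agent.Lib.Helper14.TorSyz
open Groth.Agent.Lib.Helper5.PCHom Groth.Agent.Lib.Helper5.PCProp Groth.Agent.Lib.Helper5.FTD
open Groth.Agent.Lib.Helper5.PerfProp

section Ring

variable {A B C : Type u} [CommRing A] [CommRing B] [CommRing C]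

theorem ftdHom_of_comp_of_isStandardSmooth (φ : A →+* B) (ψ : B →+* C)
    (hφ : φ.IsStandardSmooth) (h : FTDHom (ψ.comp φ)) : FTDHom ψ := by
  obtain ⟨n, g, hg, hget⟩ := hφ.exists_etale_mvPolynomial
  letI := φ.toAlgebra
  letI := ψ.toAlgebra
  letI algAC : Algebra A C := (ψ.comp φ).toAlgebra
  letI algPB : Algebra (MvPolynomial (Fin n) A) B := g.toAlgebra
  letI algPC : Algebra (MvPolynomial (Fin n) A) C := (ψ.comp g).toAlgebra
  haveI : IsScalarTower A (MvPolynomial (Fin n) A) C := IsScalarTower.of_algebraMap_eq (fun a => by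
    show ψ (φ a) = ψ (g (MvPolynomial.C a))
    rw [← hg]
    rfl)
  haveI : IsScalarTower (MvPolynomial (Fin n) A) B C :=
    IsScalarTower.of_algebraMap_eq (fun _ => rfl)
  haveI : Algebra.Etale (MvPolynomial (Fin n) A) B := hget
  obtain ⟨d, hd⟩ := h
  have h2 := hasTorAmp_mvPolynomial n A C d ((hasTorDimLE_iff_hasTorAmp C d).1 hd)
  have h3 : DRing.HasTorDimLE (MvPolynomial (Fin n) A) (d + n) C :=
    (hasTorDimLE_iff_hasTorAmp C (d + n)).2 h2
  exact ⟨d + n, hasTorDimLE_of_weaklyEtale (MvPolynomial (Fin n) A) B (d + n) C h3⟩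

theorem perfHom_of_comp_of_isStandardSmooth (φ : A →+* B) (ψ : B →+* C)
    (hφ : φ.IsStandardSmooth) (h : PerfHom (ψ.comp φ)) : PerfHom ψ := by
  obtain ⟨hpc, hftd⟩ := (perfHom_iff _).mp h
  have hφpc : PCHom φ :=
    pcHom_of_isLCIHom φ (Groth.Agent.Helper13SmKR.isLCIHom_of_isStandardSmooth φ hφ)
  exact (perfHom_iff ψ).mpr ⟨pcHom_of_comp φ ψ hφpc hpc,
    ftdHom_of_comp_of_isStandardSmooth φ ψ hφ hftd⟩

end Ring

section Sch

open AlgebraicGeometry

theorem isPerfectMor_of_comp_of_smooth {X Y S : Scheme.{u}} (f : X ⟶ Y) (g : Y ⟶ S) [Smooth g]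
    (h : MoreMor.IsPerfectMor (f ≫ g)) : MoreMor.IsPerfectMor f := by
  rw [isPerfectMor_iff_exists]
  intro x
  obtain ⟨W, hW, V, hV, hxV, hVW, hsm⟩ := Smooth.exists_isStandardSmooth g (f x)
  obtain ⟨U, hU, hxU, hUV⟩ := TopologicalSpace.Opens.isBasis_iff_nbhd.mp X.isBasis_affineOpens
    (show x ∈ f ⁻¹ᵁ V from hxV)
  refine ⟨U, V, hUV, hU, hV, hxU, ?_⟩
  have hUW : U ≤ (f ≫ g) ⁻¹ᵁ W := fun y hy => hVW (hUV hy)
  have h2 : PerfHom ((f ≫ g).appLE W U hUW).hom := h U W hU hW hUW
  have h3 : ((f ≫ g).appLE W U hUW).hom = (f.appLE V U hUV).hom.comp (g.appLE W V hVW).hom := by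
    rw [← CommRingCat.hom_comp, Scheme.Hom.appLE_comp_appLE]
  rw [h3] at h2
  exact perfHom_of_comp_of_isStandardSmooth _ _ hsm h2

end Sch

end Groth.Agent.Lib.Helper5.PerfSm
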