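import Mathlib
import Groth.Agent.Lib.Helper5InjFlat2

/-!
# Adic flatness criterion over a principal ideal domain (helper5)
-/

set_option autoImplicit false
universe u
open scoped Pointwise

namespace Groth.Agent.Lib.Helper5

open TensorProduct LinearMap

section

variable {W : Type u} [CommRing W] (M : Type u) [AddCommGroup M] [Module W M]

/-- Hausdorffness transfers along linear equivalences. -/
theorem isHausdorff_of_linearEquiv (J : Ideal W) {N : Type*} [AddCommGroup N] [Module W N]
    (e : M ≃ₗ[W] N) (h : IsHausdorff J M) : IsHausdorff J N := by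
  rw [isHausdorff_iff]
  intro x hx
  have h1 : e.symm x = 0 := by
    apply h.haus
    intro n
    have h2 := hx n
    rw [SModEq.zero] at h2 ⊢
    have h3 : (J ^ n • ⊤ : Submodule W N).map e.symm.toLinearMap = (J ^ n • ⊤ : Submodule W M) := by
      rw [Submodule.map_smul'', Submodule.map_top, LinearEquiv.range]
    rw [← h3]
    exact Submodule.mem_map_of_mem h2
  exact e.symm.map_eq_zero_iff.mp h1

/-- Over a principal ideal domain, a `J`-adically separated module which is flat modulo every
power of `J` is flat. -/
theorem flat_of_isHausdorff_of_flat_quotient_pow_of_isPrincipalIdealRing [IsDomain W]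
    [IsPrincipalIdealRing W] (J : Ideal W) (hM : IsHausdorff J M)
    (h : ∀ n : ℕ, 1 ≤ n → Module.Flat (W ⧸ J ^ n) ((W ⧸ J ^ n) ⊗[W] M)) :
    Module.Flat W M := by
  apply flat_of_isHausdorff_of_forall_exists_le_pow M J
  · intro 𝔞
    obtain ⟨x, rfl⟩ := (IsPrincipalIdealRing.principal 𝔞).principal
    by_cases hx : x = 0
    · have hsub : Subsingleton (↥(Submodule.span W {x}) ⊗[W] M) := by
        have h0 : ∀ y : ↥(Submodule.span W {x}), y = 0 := by
          rintro ⟨y, hy⟩
          rw [hx, Submodule.span_zero_singleton, Submodule.mem_bot] at hy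
          exact Subtype.ext hy
        constructor
        intro a b
        have hz : ∀ t : ↥(Submodule.span W {x}) ⊗[W] M, t = 0 := by
          intro t
          induction t with
          | zero => rfl
          | add a b ha hb => rw [ha, hb, add_zero]
          | tmul y m => rw [h0 y, zero_tmul]
        rw [hz a, hz b]
      infer_instance
    · let e : M ≃ₗ[W] ↥(Submodule.span W {x}) ⊗[W] M :=
        (TensorProduct.lid W M).symm ≪≫ₗ
          TensorProduct.congr (LinearEquiv.toSpanNonzeroSingleton W W x hx) (LinearEquiv.refl W M)
      exact isHausdorff_of_linearEquiv M J e hM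
  · intro n
    exact ⟨J ^ (n + 1), Ideal.pow_le_pow_right (Nat.le_succ n), h (n + 1) (Nat.succ_pos n)⟩

end

end Groth.Agent.Lib.Helper5
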