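import Mathlib.RingTheory.Spectrum.Prime.ConstructibleSet
import Mathlib.RingTheory.LocalRing.ResidueField.Ideal

/-!
An intersection of constructible subsets of a prime spectrum is the image of the spectrum of a
product of fields.
-/

set_option autoImplicit false
universe u

namespace Groth.Agent.Lib.Helper5

open Topology PrimeSpectrum

variable {A : Type u} [CommRing A]

/-- the product of the residue fields at the points of `E` -/
abbrev ProdResidue (E : Set (PrimeSpectrum A)) : Type u :=
  ∀ x : E, x.1.asIdeal.ResidueField

/-- the canonical map to the product of residue fields -/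
noncomputable def toProdResidue (E : Set (PrimeSpectrum A)) : A →+* ProdResidue E :=
  RingHom.pi fun x => algebraMap A x.1.asIdeal.ResidueField

theorem toProdResidue_apply (E : Set (PrimeSpectrum A)) (a : A) (x : E) :
    toProdResidue E a x = algebraMap A x.1.asIdeal.ResidueField a := rfl

theorem toProdResidue_apply_eq_zero (E : Set (PrimeSpectrum A)) (a : A) (x : E) :
    toProdResidue E a x = 0 ↔ a ∈ x.1.asIdeal := by
  rw [toProdResidue_apply]
  exact Ideal.algebraMap_residueField_eq_zero

theorem subset_range_comap_toProdResidue (E : Set (PrimeSpectrum A)) :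
    E ⊆ Set.range (PrimeSpectrum.comap (toProdResidue E)) := by
  intro x hx
  let ev : ProdResidue E →+* (x.asIdeal.ResidueField) := Pi.evalRingHom _ (⟨x, hx⟩ : E)
  refine ⟨PrimeSpectrum.comap ev ⟨⊥, Ideal.isPrime_bot⟩, ?_⟩
  ext a
  simp only [PrimeSpectrum.comap_asIdeal, Ideal.mem_comap, Ideal.mem_bot]
  show toProdResidue E a ⟨x, hx⟩ = 0 ↔ a ∈ x.asIdeal
  exact toProdResidue_apply_eq_zero E a ⟨x, hx⟩

/-- the image of `Spec (∏ κ(x))` lies in every constructible set containing `E` -/
theorem range_comap_toProdResidue_subset (E : Set (PrimeSpectrum A))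
    (D : Set (PrimeSpectrum A)) (hD : IsConstructible D) (hED : E ⊆ D) :
    Set.range (PrimeSpectrum.comap (toProdResidue E)) ⊆ D := by
  classical
  obtain ⟨S, rfl⟩ := exists_constructibleSetData_iff.mpr hD
  rintro _ ⟨P, rfl⟩
  by_contra hq
  set φ := toProdResidue E with hφ
  -- membership in the contraction
  have hmemq : ∀ a : A, a ∈ (PrimeSpectrum.comap φ P).asIdeal ↔ φ a ∈ P.asIdeal := fun a => Iff.rfl
  -- for every piece, an element of `P` which is nonzero at the points of `E` in that piece
  have hpiece : ∀ C ∈ S, ∃ t : ProdResidue E, t ∈ P.asIdeal ∧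
      ∀ x : E, x.1 ∈ C.toSet → t x ≠ 0 := by
    intro C hC
    have hqC : PrimeSpectrum.comap φ P ∉ C.toSet := by
      intro h
      apply hq
      exact Set.mem_biUnion hC h
    simp only [BasicConstructibleSetData.toSet, Set.mem_sdiff, mem_zeroLocus,
      Set.singleton_subset_iff, SetLike.mem_coe, not_and, not_not] at hqC
    by_cases hg : Set.range C.g ⊆ (PrimeSpectrum.comap φ P).asIdeal
    · -- then `C.f` lies in the contraction
      have hf := hqC hg
      refine ⟨φ C.f, (hmemq _).mp hf, ?_⟩
      intro x hx
      rw [hφ, Ne, toProdResidue_apply_eq_zero]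
      intro hfx
      exact hx.2 (by simpa using hfx)
    · -- some `g j` is not in the contraction
      rw [Set.range_subset_iff] at hg
      push Not at hg
      obtain ⟨j, hj⟩ := hg
      let t : ProdResidue E := fun x => if C.g j ∈ x.1.asIdeal then 1 else 0
      have htφ : t * φ (C.g j) = 0 := by
        funext x
        simp only [Pi.mul_apply, Pi.zero_apply, t]
        split_ifs with h
        · rw [one_mul, hφ, toProdResidue_apply_eq_zero]
          exact h
        · rw [zero_mul]
      have htP : t ∈ P.asIdeal := by
        have h0 : t * φ (C.g j) ∈ P.asIdeal := by rw [htφ]; exact P.asIdeal.zero_mem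
        rcases P.isPrime.mem_or_mem h0 with h | h
        · exact h
        · exact absurd ((hmemq _).mpr h) hj
      refine ⟨t, htP, ?_⟩
      intro x hx
      have hgx : C.g j ∈ x.1.asIdeal := hx.1 ⟨j, rfl⟩
      simp only [t, if_pos hgx]
      exact one_ne_zero
  choose! t htP htne using hpiece
  -- choose a piece for every point of `E`
  have hk : ∀ x : E, ∃ C ∈ S, x.1 ∈ C.toSet := by
    intro x
    have := hED x.2
    simp only [ConstructibleSetData.toSet, Set.mem_iUnion, exists_prop] at this
    exact this
  choose k hkS hkx using hk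
  let s : BasicConstructibleSetData A → ProdResidue E := fun C x =>
    if C = k x then (t C x)⁻¹ else 0
  have hone : (1 : ProdResidue E) = ∑ C ∈ S, t C * s C := by
    funext x
    rw [Finset.sum_apply, Finset.sum_eq_single (k x)]
    · simp only [Pi.mul_apply, Pi.one_apply, s, if_true]
      rw [mul_inv_cancel₀ (htne (k x) (hkS x) x (hkx x))]
    · intro C _ hne
      simp only [Pi.mul_apply, s, if_neg hne, mul_zero]
    · intro h
      exact absurd (hkS x) h
  have h1 : (1 : ProdResidue E) ∈ P.asIdeal := by
    rw [hone]
    exact P.asIdeal.sum_mem fun C hC => Ideal.mul_mem_right _ _ (htP C hC)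
  exact P.isPrime.ne_top ((Ideal.eq_top_iff_one _).mpr h1)

/-- An intersection of constructible sets is the image of the spectrum of a ring. -/
theorem exists_ringHom_range_comap_eq (E : Set (PrimeSpectrum A))
    (𝒟 : Set (Set (PrimeSpectrum A))) (h𝒟 : ∀ D ∈ 𝒟, IsConstructible D) (hE : E = ⋂₀ 𝒟) :
    ∃ (K : Type u) (_ : CommRing K) (φ : A →+* K), Set.range (PrimeSpectrum.comap φ) = E := by
  refine ⟨ProdResidue E, inferInstance, toProdResidue E, ?_⟩
  apply subset_antisymm
  · intro y hy
    rw [hE]
    intro D hD
    exact range_comap_toProdResidue_subset E D (h𝒟 D hD) (by rw [hE]; exact Set.sInter_subset_of_mem hD) hy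
  · exact subset_range_comap_toProdResidue E

end Groth.Agent.Lib.Helper5
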