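import Mathlib
import Groth.Prelude.Def_CAlgX
import Groth.Agent.S5803
import Groth.Agent.Lib.Helper5QuasiRegImm
import Groth.Agent.Lib.Helper5SliceListA
import Groth.Agent.Lib.Helper5SliceListGeo
import Groth.Agent.Lib.Helper5SliceA

/-!
# Flatness lifts along locally nilpotent thickenings for quasi-regular quotients (helper5)

`A' → B'` flat of finite presentation, `I ⊆ A'` locally nilpotent, `f'` elements of `B'` whose
images in `B'/IB'` are quasi-regular with flat quotient over `A'/I`: then `B'/(f')` is flat over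
`A'`.
-/

set_option autoImplicit false
set_option linter.style.haveILetI false
universe u
open RingTheory.Sequence IsLocalRing TensorProduct

namespace Groth.Agent.Lib.Helper5.QuasiNilFlat

open Groth.Agent.Lib.Helper5.QuasiRegImm Groth.Agent.Lib.Helper5.QuasiRegFlat
  Groth.Agent.Lib.Helper5.SliceList Groth.Agent.Lib.Helper5.RegSeq

section Step1

variable {A' B' : Type u} [CommRing A'] [CommRing B'] [Algebra A' B']

set_option maxHeartbeats 800000 in
/-- quasi-regularity modulo `IB'` with flat quotient passes to `B'/𝔞B'` for every `𝔞 ⊇ I`. -/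
theorem isQuasiRegular_mk_of_le (I : Ideal A') {r : ℕ} (f' : Fin r → B')
    (hq : CAlgX.IsQuasiRegular (fun i => Ideal.Quotient.mk (I.map (algebraMap A' B')) (f' i)))
    (hflat : Module.Flat (A' ⧸ I) ((B' ⧸ I.map (algebraMap A' B')) ⧸
      Ideal.span (Set.range (fun i => Ideal.Quotient.mk (I.map (algebraMap A' B')) (f' i)))))
    (𝔞 : Ideal A') (h𝔞 : I ≤ 𝔞) :
    CAlgX.IsQuasiRegular (fun i => Ideal.Quotient.mk (𝔞.map (algebraMap A' B')) (f' i)) := by
  have h1 := isQuasiRegular_mk_map (A := A' ⧸ I) (B := B' ⧸ I.map (algebraMap A' B'))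
    (fun i => Ideal.Quotient.mk (I.map (algebraMap A' B')) (f' i)) hflat hq
    (𝔞.map (Ideal.Quotient.mk I))
  have hle : I.map (algebraMap A' B') ≤ 𝔞.map (algebraMap A' B') := Ideal.map_mono h𝔞
  have heq : ((𝔞.map (Ideal.Quotient.mk I)).map
      (algebraMap (A' ⧸ I) (B' ⧸ I.map (algebraMap A' B')))) =
      (𝔞.map (algebraMap A' B')).map (Ideal.Quotient.mk (I.map (algebraMap A' B'))) := by
    rw [Ideal.map_map, Ideal.map_map]
    congr 1
  let e : ((B' ⧸ I.map (algebraMap A' B')) ⧸ ((𝔞.map (Ideal.Quotient.mk I)).map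
      (algebraMap (A' ⧸ I) (B' ⧸ I.map (algebraMap A' B'))))) ≃+*
      B' ⧸ 𝔞.map (algebraMap A' B') :=
    (Ideal.quotEquivOfEq heq).trans (DoubleQuot.quotQuotEquivQuotOfLE hle)
  have h2 := isQuasiRegular_map_ringEquiv e _ h1
  have h3 : (fun i => e (Ideal.Quotient.mk ((𝔞.map (Ideal.Quotient.mk I)).map
      (algebraMap (A' ⧸ I) (B' ⧸ I.map (algebraMap A' B'))))
        (Ideal.Quotient.mk (I.map (algebraMap A' B')) (f' i)))) =
      fun i => Ideal.Quotient.mk (𝔞.map (algebraMap A' B')) (f' i) := by
    funext i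
    rfl
  rw [h3] at h2
  exact h2

end Step1

section Step2

set_option maxHeartbeats 800000 in
/-- quasi-regular in `C/𝔮` ⇒ weakly regular in the Noetherian local ring `C_P/𝔮C_P`. -/
theorem isWeaklyRegular_ofFn_of_quasi_mk {C L : Type u} [CommRing C] [CommRing L] [Algebra C L]
    (P : Ideal C) [P.IsPrime] [IsLocalization.AtPrime L P] (𝔮 : Ideal C) {r : ℕ} (f : Fin r → C)
    (hP : ∀ i, f i ∈ P)
    (hq : CAlgX.IsQuasiRegular (fun i => Ideal.Quotient.mk 𝔮 (f i)))
    [IsNoetherianRing (L ⧸ 𝔮.map (algebraMap C L))] :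
    IsWeaklyRegular (L ⧸ 𝔮.map (algebraMap C L))
      (((List.ofFn f).map (algebraMap C L)).map
        (Ideal.Quotient.mk (𝔮.map (algebraMap C L)))) := by
  haveI : IsLocalRing L := IsLocalization.AtPrime.isLocalRing L P
  have hfl : (algebraMap (C ⧸ 𝔮) (L ⧸ 𝔮.map (algebraMap C L))).Flat :=
    RingHom.flat_algebraMap_iff.mpr
      (IsLocalization.flat _ (Algebra.algebraMapSubmonoid (C ⧸ 𝔮) P.primeCompl))
  have h2 := isQuasiRegular_map_of_flat _ hfl _ hq
  have hjac : ∀ i : Fin r,
      algebraMap (C ⧸ 𝔮) (L ⧸ 𝔮.map (algebraMap C L)) (Ideal.Quotient.mk 𝔮 (f i)) ∈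
        Ring.jacobson _ := by
    intro i
    show Ideal.Quotient.mk (𝔮.map (algebraMap C L)) (algebraMap C L (f i)) ∈ _
    apply mk_mem_jacobson
    exact (IsLocalization.AtPrime.to_map_mem_maximal_iff L P _).mpr (hP i)
  have h3 := Groth.Agent.S5803.result _ r _ hjac h2
  have h4 : ((List.ofFn f).map (algebraMap C L)).map
      (Ideal.Quotient.mk (𝔮.map (algebraMap C L))) =
      List.ofFn fun i : Fin r =>
        algebraMap (C ⧸ 𝔮) (L ⧸ 𝔮.map (algebraMap C L)) (Ideal.Quotient.mk 𝔮 (f i)) := by
    rw [List.map_ofFn, List.map_ofFn]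
    rfl
  rw [h4]
  exact h3

end Step2

section Step3

variable {R S : Type u} [CommRing R] [CommRing S] [Algebra R S]

/-- the local ring of a fibre of a finite type algebra is Noetherian (in the form `S_r/pS_r`). -/
theorem isNoetherianRing_fiber_local [Algebra.FiniteType R S] (p : Ideal R) [p.IsPrime]
    (q : Ideal (p.Fiber S)) [q.IsPrime] :
    IsNoetherianRing (Localization.AtPrime
      (q.comap (Algebra.TensorProduct.includeRight : S →ₐ[R] p.Fiber S)) ⧸
        (p.map (algebraMap R S)).map (algebraMap S (Localization.AtPrime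
          (q.comap (Algebra.TensorProduct.includeRight : S →ₐ[R] p.Fiber S))))) := by
  haveI : IsNoetherianRing (p.Fiber S) :=
    Algebra.FiniteType.isNoetherianRing p.ResidueField (p.Fiber S)
  haveI : IsNoetherianRing (Localization.AtPrime q) :=
    IsLocalization.isNoetherianRing q.primeCompl _ inferInstance
  exact isNoetherianRing_of_ringEquiv _ (Ideal.Fiber.algEquivAux₂ p q).toRingEquiv

theorem exists_fiber_prime (p : Ideal R) [p.IsPrime] (r : Ideal S) [r.IsPrime]
    (hr : r.comap (algebraMap R S) = p) :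
    ∃ (q : Ideal (p.Fiber S)) (_ : q.IsPrime),
      q.comap (Algebra.TensorProduct.includeRight : S →ₐ[R] p.Fiber S) = r := by
  let x : ↥(PrimeSpectrum.comap (algebraMap R S) ⁻¹' {(⟨p, inferInstance⟩ : PrimeSpectrum R)}) :=
    ⟨⟨r, inferInstance⟩, by
      rw [Set.mem_preimage, Set.mem_singleton_iff]
      exact PrimeSpectrum.ext hr⟩
  refine ⟨(PrimeSpectrum.preimageEquivFiber R S ⟨p, inferInstance⟩ x).asIdeal,
    (PrimeSpectrum.preimageEquivFiber R S ⟨p, inferInstance⟩ x).isPrime, ?_⟩
  have h := (PrimeSpectrum.preimageEquivFiber R S ⟨p, inferInstance⟩).left_inv x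
  exact congrArg (fun z => z.1.asIdeal) h

end Step3

section Step4

/-- flatness of a quotient algebra can be tested on basic opens around every prime. -/
theorem flat_quotient_of_forall_prime_exists {A B : Type u} [CommRing A] [CommRing B]
    [Algebra A B] (J : Ideal B)
    (H : ∀ q : Ideal B, q.IsPrime → ∃ g : B, g ∉ q ∧
      Module.Flat A (Localization.Away g ⧸ J.map (algebraMap B (Localization.Away g)))) :
    Module.Flat A (B ⧸ J) := by
  let s : Set B :=
    {g | Module.Flat A (Localization.Away g ⧸ J.map (algebraMap B (Localization.Away g)))}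
  have spn : Ideal.span s = ⊤ := by
    by_contra hne
    obtain ⟨m, hm, hle⟩ := Ideal.exists_le_maximal _ hne
    obtain ⟨g, hg, hgs⟩ := H m hm.isPrime
    exact hg (hle (Ideal.subset_span hgs))
  exact Module.flat_of_isLocalized_span (R := A) (S := B) (M := B ⧸ J) s spn
    (fun r => Localization.Away r.1 ⧸ J.map (algebraMap B (Localization.Away r.1)))
    (fun r => (IsScalarTower.toAlgHom B (B ⧸ J)
      (Localization.Away r.1 ⧸ J.map (algebraMap B (Localization.Away r.1)))).toLinearMap)
    (fun r => r.2)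

end Step4

section Main

set_option maxHeartbeats 1600000 in
theorem main (A' B' : Type u) [CommRing A'] [CommRing B'] [Algebra A' B'] [Module.Flat A' B']
    [Algebra.FinitePresentation A' B'] (I : Ideal A') (hI : ∀ x ∈ I, IsNilpotent x) (r : ℕ)
    (f' : Fin r → B')
    (hq : CAlgX.IsQuasiRegular
      (fun i => Ideal.Quotient.mk (Ideal.map (algebraMap A' B') I) (f' i)))
    (hflat : Module.Flat (A' ⧸ I)
      ((B' ⧸ Ideal.map (algebraMap A' B') I) ⧸
        Ideal.span (Set.range
          (fun i => Ideal.Quotient.mk (Ideal.map (algebraMap A' B') I) (f' i))))) :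
    Module.Flat A' (B' ⧸ Ideal.span (Set.range f')) := by
  classical
  apply flat_quotient_of_forall_prime_exists
  intro q' hq'
  by_cases hle : Ideal.span (Set.range f') ≤ q'
  · obtain ⟨p, hp⟩ : ∃ p : Ideal A', p = q'.comap (algebraMap A' B') := ⟨_, rfl⟩
    haveI hpprime : p.IsPrime := by
      rw [hp]
      infer_instance
    have hIp : I ≤ p := by
      intro x hx
      obtain ⟨n, hn⟩ := hI x hx
      exact hpprime.mem_of_pow_mem n (by rw [hn]; exact p.zero_mem)
    obtain ⟨Q, hQ, rfl⟩ := exists_fiber_prime p q' hp.symm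
    haveI := hQ
    haveI := isNoetherianRing_fiber_local p Q
    have hqp := isQuasiRegular_mk_of_le I f' hq hflat p hIp
    have hfP : ∀ i, f' i ∈ Q.comap (Algebra.TensorProduct.includeRight : B' →ₐ[A'] p.Fiber B') :=
      fun i => hle (Ideal.subset_span (Set.mem_range_self i))
    have hw := isWeaklyRegular_ofFn_of_quasi_mk
      (L := Localization.AtPrime
        (Q.comap (Algebra.TensorProduct.includeRight : B' →ₐ[A'] p.Fiber B')))
      (Q.comap (Algebra.TensorProduct.includeRight : B' →ₐ[A'] p.Fiber B'))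
      (p.map (algebraMap A' B')) f' hfP hqp
    have hreg := regOn_of_isWeaklyRegular_quotient _ _ hw
    have hideal : ((Q.comap (Algebra.TensorProduct.includeRight : B' →ₐ[A'] p.Fiber B')).under
        A').map (algebraMap A' (Localization.AtPrime
          (Q.comap (Algebra.TensorProduct.includeRight : B' →ₐ[A'] p.Fiber B')))) =
        (p.map (algebraMap A' B')).map (algebraMap B' (Localization.AtPrime
          (Q.comap (Algebra.TensorProduct.includeRight : B' →ₐ[A'] p.Fiber B')))) := by
      rw [Ideal.map_map, ← IsScalarTower.algebraMap_eq, Ideal.under_def, ← hp]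
    rw [← hideal] at hreg
    haveI hflatL : Module.Flat A' (Localization.AtPrime
        (Q.comap (Algebra.TensorProduct.includeRight : B' →ₐ[A'] p.Fiber B'))) :=
      Module.Flat.trans A' B' _
    obtain ⟨g, hgP, Hg⟩ := exists_away_flatReg
      (L := Localization.AtPrime
        (Q.comap (Algebra.TensorProduct.includeRight : B' →ₐ[A'] p.Fiber B')))
      (Q.comap (Algebra.TensorProduct.includeRight : B' →ₐ[A'] p.Fiber B'))
      (List.ofFn f') A' hflatL (by
        intro h hh
        obtain ⟨i, rfl⟩ := (List.mem_ofFn' f' h).mp hh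
        exact hfP i) hreg
    refine ⟨g * 1, by rwa [mul_one], ?_⟩
    obtain ⟨-, Hfl⟩ := Hg 1 (Localization.Away (g * 1))
    have h1 := Hfl ((List.ofFn f').map (algebraMap B' (Localization.Away (g * 1)))).reverse.length
    rw [List.take_length] at h1
    refine flat_quotient_congr ?_ h1
    rw [Groth.Agent.Lib.Helper5.SliceListGeo.ofList_reverse, ← Ideal.map_ofList]
    congr 1
    rw [Ideal.ofList]
    congr 1
    ext x
    simp [List.mem_ofFn']
  · have hex : ∃ i, f' i ∉ q' := by
      by_contra hcon
      push Not at hcon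
      apply hle
      rw [Ideal.span_le]
      rintro _ ⟨i, rfl⟩
      exact hcon i
    obtain ⟨i, hi⟩ := hex
    refine ⟨f' i, hi, ?_⟩
    have htop : (Ideal.span (Set.range f')).map (algebraMap B' (Localization.Away (f' i))) = ⊤ := by
      apply Ideal.eq_top_of_isUnit_mem _
        (Ideal.mem_map_of_mem _ (Ideal.subset_span (Set.mem_range_self i)))
      exact IsLocalization.Away.algebraMap_isUnit (f' i)
    haveI : Subsingleton (Localization.Away (f' i) ⧸
        (Ideal.span (Set.range f')).map (algebraMap B' (Localization.Away (f' i)))) :=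
      Ideal.Quotient.subsingleton_iff.mpr htop
    haveI := Module.Free.of_subsingleton A' (Localization.Away (f' i) ⧸
        (Ideal.span (Set.range f')).map (algebraMap B' (Localization.Away (f' i))))
    infer_instance

end Main

end Groth.Agent.Lib.Helper5.QuasiNilFlat
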