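import Mathlib
import Groth.Agent.Lib.Helper5QuasiNilFlat

/-!
# Smoothness lifts along locally nilpotent thickenings for quasi-regular quotients (helper5)
-/

set_option autoImplicit false
set_option linter.style.haveILetI false
universe u
open TensorProduct

namespace Groth.Agent.Lib.Helper5.QuasiNilSmooth

section Iso

variable {A' B' : Type u} [CommRing A'] [CommRing B'] [Algebra A' B'] (I : Ideal A')
  (J' : Ideal B')

/-- `(B'/J')/I(B'/J') ≃ (B'/IB')/J'(B'/IB')` as `A'/I`-algebras. -/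
noncomputable def quotQuotEquiv :
    ((B' ⧸ J') ⧸ I.map (algebraMap A' (B' ⧸ J'))) ≃ₐ[A' ⧸ I]
      ((B' ⧸ I.map (algebraMap A' B')) ⧸
        J'.map (Ideal.Quotient.mk (I.map (algebraMap A' B')))) :=
  AlgEquiv.ofRingEquiv
    (f := (Ideal.quotEquivOfEq (show I.map (algebraMap A' (B' ⧸ J')) =
        (I.map (algebraMap A' B')).map (Ideal.Quotient.mk J') by
          rw [Ideal.map_map]; rfl)).trans
      (DoubleQuot.quotQuotEquivComm J' (I.map (algebraMap A' B')))) (by
    intro x
    obtain ⟨a, rfl⟩ := Ideal.Quotient.mk_surjective x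
    rfl)

end Iso

set_option maxHeartbeats 1600000 in
theorem main (A' B' : Type u) [CommRing A'] [CommRing B'] [Algebra A' B'] [Module.Flat A' B']
    [Algebra.FinitePresentation A' B'] (I : Ideal A') (hI : ∀ x ∈ I, IsNilpotent x) (r : ℕ)
    (f' : Fin r → B')
    (hq : CAlgX.IsQuasiRegular
      (fun i => Ideal.Quotient.mk (Ideal.map (algebraMap A' B') I) (f' i)))
    (hsm : Algebra.Smooth (A' ⧸ I)
      ((B' ⧸ Ideal.map (algebraMap A' B') I) ⧸
        Ideal.span (Set.range
          (fun i => Ideal.Quotient.mk (Ideal.map (algebraMap A' B') I) (f' i))))) :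
    Algebra.Smooth A' (B' ⧸ Ideal.span (Set.range f')) := by
  classical
  haveI := hsm
  haveI hfl0 : Module.Flat (A' ⧸ I)
      ((B' ⧸ Ideal.map (algebraMap A' B') I) ⧸
        Ideal.span (Set.range
          (fun i => Ideal.Quotient.mk (Ideal.map (algebraMap A' B') I) (f' i)))) := inferInstance
  haveI hflat : Module.Flat A' (B' ⧸ Ideal.span (Set.range f')) :=
    Groth.Agent.Lib.Helper5.QuasiNilFlat.main A' B' I hI r f' hq hfl0
  haveI hfp : Algebra.FinitePresentation A' (B' ⧸ Ideal.span (Set.range f')) :=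
    Algebra.FinitePresentation.quotient (Submodule.fg_span (Set.finite_range f'))
  refine Algebra.Smooth.of_formallySmooth_fiber (fun 𝔭 h𝔭 => ?_)
  have hI𝔭 : I ≤ 𝔭 := by
    intro x hx
    obtain ⟨n, hn⟩ := hI x hx
    exact h𝔭.mem_of_pow_mem n (by rw [hn]; exact 𝔭.zero_mem)
  letI algk : Algebra (A' ⧸ I) 𝔭.ResidueField :=
    (Ideal.Quotient.lift I (algebraMap A' 𝔭.ResidueField)
      (fun a ha => Ideal.algebraMap_residueField_eq_zero.mpr (hI𝔭 ha))).toAlgebra
  haveI : IsScalarTower A' (A' ⧸ I) 𝔭.ResidueField :=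
    IsScalarTower.of_algebraMap_eq (fun a => rfl)
  have hmapJ : (Ideal.span (Set.range f')).map
      (Ideal.Quotient.mk (I.map (algebraMap A' B'))) =
      Ideal.span (Set.range (fun i => Ideal.Quotient.mk (I.map (algebraMap A' B')) (f' i))) := by
    rw [Ideal.map_span, ← Set.range_comp]
    rfl
  haveI hsm' : Algebra.FormallySmooth (A' ⧸ I) ((B' ⧸ I.map (algebraMap A' B')) ⧸
      (Ideal.span (Set.range f')).map (Ideal.Quotient.mk (I.map (algebraMap A' B')))) :=
    Algebra.FormallySmooth.of_equiv (Ideal.quotientEquivAlgOfEq (A' ⧸ I) hmapJ.symm)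
  haveI hD : Algebra.FormallySmooth (A' ⧸ I)
      ((A' ⧸ I) ⊗[A'] (B' ⧸ Ideal.span (Set.range f'))) :=
    Algebra.FormallySmooth.of_equiv ((quotQuotEquiv I (Ideal.span (Set.range f'))).symm.trans
      (Algebra.TensorProduct.quotIdealMapEquivQuotTensor (B' ⧸ Ideal.span (Set.range f')) I))
  haveI hk : Algebra.FormallySmooth 𝔭.ResidueField
      (𝔭.ResidueField ⊗[A' ⧸ I] ((A' ⧸ I) ⊗[A'] (B' ⧸ Ideal.span (Set.range f')))) :=
    inferInstance
  exact Algebra.FormallySmooth.of_equiv
    (Algebra.TensorProduct.cancelBaseChange A' (A' ⧸ I) 𝔭.ResidueField 𝔭.ResidueField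
      (B' ⧸ Ideal.span (Set.range f')))

end Groth.Agent.Lib.Helper5.QuasiNilSmooth
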