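import Mathlib

/-!
# Regular sequences with flat quotients: injectivity after base change
-/

set_option autoImplicit false
universe u

namespace Groth.Agent.Lib.Helper5.RegFlatBC

open TensorProduct

theorem take_succ_smul_top {B : Type*} [CommRing B] {M : Type*} [AddCommGroup M] [Module B M]
    (fs : List B) (i : ℕ) (hi : i < fs.length) :
    (Ideal.ofList (fs.take (i + 1)) • (⊤ : Submodule B M)) =
      (Ideal.ofList (fs.take i) • (⊤ : Submodule B M)) ⊔
        (Ideal.span {fs[i]} • (⊤ : Submodule B M)) := by
  rw [List.take_succ_eq_append_getElem hi, Ideal.ofList_append, Ideal.ofList_singleton,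
    Submodule.sup_smul]

/-- The exact sequence `N_i --f_i--> N_i --> N_{i+1} --> 0`. -/
theorem exact_smul_factor {B : Type*} [CommRing B] {M : Type*} [AddCommGroup M] [Module B M]
    (fs : List B) (i : ℕ) (hi : i < fs.length) :
    Function.Exact
      ((LinearMap.lsmul B (M ⧸ (Ideal.ofList (fs.take i) • (⊤ : Submodule B M)))) fs[i])
      (Submodule.factor (show (Ideal.ofList (fs.take i) • (⊤ : Submodule B M)) ≤
        (Ideal.ofList (fs.take (i + 1)) • (⊤ : Submodule B M)) by
          rw [take_succ_smul_top fs i hi]; exact le_sup_left)) := by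
  intro x
  constructor
  · intro hx
    obtain ⟨m, rfl⟩ := Submodule.Quotient.mk_surjective _ x
    change (Submodule.Quotient.mk m : M ⧸ _) = 0 at hx
    rw [Submodule.Quotient.mk_eq_zero, take_succ_smul_top fs i hi,
      Submodule.mem_sup] at hx
    obtain ⟨a, ha, b, hb, hab⟩ := hx
    rw [Submodule.ideal_span_singleton_smul, Submodule.mem_smul_pointwise_iff_exists] at hb
    obtain ⟨y, -, rfl⟩ := hb
    refine ⟨Submodule.Quotient.mk y, ?_⟩
    rw [LinearMap.lsmul_apply, ← Submodule.Quotient.mk_smul, ← hab, Submodule.Quotient.mk_add,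
      (Submodule.Quotient.mk_eq_zero _).2 ha, zero_add]
  · rintro ⟨y, rfl⟩
    obtain ⟨m, rfl⟩ := Submodule.Quotient.mk_surjective _ y
    rw [LinearMap.lsmul_apply, ← Submodule.Quotient.mk_smul]
    change (Submodule.Quotient.mk (fs[i] • m) : M ⧸ _) = 0
    rw [Submodule.Quotient.mk_eq_zero, take_succ_smul_top fs i hi]
    refine Submodule.mem_sup_right ?_
    rw [Submodule.ideal_span_singleton_smul]
    exact Submodule.smul_mem_pointwise_smul _ _ _ trivial

theorem lTensor_smul_injective (A B : Type u) [CommRing A]
    [CommRing B] [Algebra A B] (M : Type u) [AddCommGroup M] [Module B M] [Module A M]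
    [IsScalarTower A B M]
    (fs : List B) (hreg : RingTheory.Sequence.IsWeaklyRegular M fs)
    (i : ℕ) (hi : i < fs.length)
    (hflat : Module.Flat A (M ⧸ (Ideal.ofList (fs.take (i + 1)) • (⊤ : Submodule B M))))
    (A' : Type u) [AddCommGroup A'] [Module A A'] :
    Function.Injective (LinearMap.lTensor A'
        (((LinearMap.lsmul B (M ⧸ (Ideal.ofList (fs.take i) • (⊤ : Submodule B M)))) fs[i]).restrictScalars A)) := by
  have hle : (Ideal.ofList (fs.take i) • (⊤ : Submodule B M)) ≤
        (Ideal.ofList (fs.take (i + 1)) • (⊤ : Submodule B M)) := by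
    rw [take_succ_smul_top fs i hi]; exact le_sup_left
  have hinj : Function.Injective
      (((LinearMap.lsmul B (M ⧸ (Ideal.ofList (fs.take i) • (⊤ : Submodule B M)))) fs[i]).restrictScalars A) := by
    have := (RingTheory.Sequence.isWeaklyRegular_iff M fs).1 hreg i hi
    exact this
  refine LinearMap.lTensor_injective_of_exact_of_flat
    ((Submodule.factor hle).restrictScalars A) ?_ _ hinj ?_ A'
  · exact Submodule.factor_surjective hle
  · exact exact_smul_factor fs i hi

end Groth.Agent.Lib.Helper5.RegFlatBC
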