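import Groth.Prelude.Def_RegImm
import Groth.Agent.Lib.Helper5RegImm
import Groth.Agent.Lib.Helper5RegImmAlg

/-!
# Regular immersions (locally closed) from the stalk criterion (helper5)
-/

set_option autoImplicit false
set_option linter.style.haveILetI false
universe u

open AlgebraicGeometry CategoryTheory RingTheory.Sequence TopologicalSpace
open Set.Notation

namespace Groth.Agent.Lib.Helper5.RegImm

theorem isClosedImmersion_morphismRestrict_of_le_coborderRange {Z X : Scheme.{u}} (i : Z ⟶ X)
    [IsImmersion i] (U : X.Opens) (hU : U ≤ i.coborderRange) : IsClosedImmersion (i ∣_ U) := by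
  refine .of_isPreimmersion _ ?_
  have hrange : Set.range (i ∣_ U) = {x : ↥(U : Scheme.{u}) | x.1 ∈ Set.range i} := by
    ext x
    constructor
    · rintro ⟨y, rfl⟩
      exact ⟨y.1, (morphismRestrict_base_coe i U y).symm⟩
    · rintro ⟨y, hy⟩
      have hyU : y ∈ i ⁻¹ᵁ U := by
        change i y ∈ U
        rw [hy]
        exact x.2
      exact ⟨⟨y, hyU⟩, Subtype.ext ((morphismRestrict_base_coe i U ⟨y, hyU⟩).trans hy)⟩
  rw [hrange]
  have h1 : IsClosed (coborder (Set.range i) ↓∩ Set.range i) := isClosed_preimage_val_coborder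
  have hsub : (U : Set X) ⊆ coborder (Set.range i) := fun x hx => hU hx
  have hcont : Continuous (Set.inclusion hsub) := continuous_inclusion hsub
  exact h1.preimage hcont

theorem isRegularImmersionAt_of_stalkReg {Z X : Scheme.{u}} (i : Z ⟶ X) [IsImmersion i]
    [IsLocallyNoetherian X] (z : Z) (h : StalkReg i.liftCoborder z) :
    RegImm.IsRegularImmersionAt RegImm.Kind.regular i z := by
  obtain ⟨U', hU', hzU', rs, hreg, hker⟩ := regAt_of_stalkReg i.liftCoborder z h
  have hU : IsAffineOpen (i.coborderRange.ι ''ᵁ U') :=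
    hU'.image_of_isOpenImmersion i.coborderRange.ι
  have hle : i.coborderRange.ι ''ᵁ U' ≤ i.coborderRange := by
    rintro _ ⟨x, _, rfl⟩
    exact x.2
  have hmem : i z ∈ i.coborderRange.ι ''ᵁ U' := by
    refine ⟨i.liftCoborder z, hzU', ?_⟩
    change (i.liftCoborder ≫ i.coborderRange.ι) z = i z
    rw [i.liftCoborder_ι]
  refine ⟨⟨i.coborderRange.ι ''ᵁ U', hU⟩, hmem,
    isClosedImmersion_morphismRestrict_of_le_coborderRange i _ hle, rs, hreg, ?_⟩
  rw [Scheme.Hom.ker_apply] at hker
  have hinj : Function.Injective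
      (Z.presheaf.map (eqToHom (i.liftCoborder_preimage U')).op).hom :=
    (ConcreteCategory.bijective_of_isIso
      (Z.presheaf.map (eqToHom (i.liftCoborder_preimage U')).op)).1
  have e := liftCoborder_app (f := i) U'
  have hcomp : ∀ a : Γ(X, i.coborderRange.ι ''ᵁ U'), (i.liftCoborder.app U').hom a
      = (Z.presheaf.map (eqToHom (i.liftCoborder_preimage U')).op).hom
        ((i.app (i.coborderRange.ι ''ᵁ U')).hom a) := by
    intro a
    exact congrArg (fun φ => φ.hom a) e
  have key : RingHom.ker (i.app (i.coborderRange.ι ''ᵁ U')).hom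
      = RingHom.ker (i.liftCoborder.app U').hom := by
    apply le_antisymm
    · intro a ha
      rw [RingHom.mem_ker] at ha
      exact RingHom.mem_ker.mpr ((hcomp a).trans (by rw [ha, map_zero]))
    · intro a ha
      have ha' : (i.liftCoborder.app U').hom a = 0 := RingHom.mem_ker.mp ha
      rw [RingHom.mem_ker]
      exact hinj ((hcomp a).symm.trans (ha'.trans (map_zero _).symm))
  exact key.trans hker

theorem isRegularImmersion_of_regular {Z X : Scheme.{u}} (i : Z ⟶ X) [IsImmersion i]
    [IsLocallyNoetherian X]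
    (hX : ∀ x : X, IsRegularLocalRing (X.presheaf.stalk x))
    (hZ : ∀ z : Z, IsRegularLocalRing (Z.presheaf.stalk z)) :
    RegImm.IsRegularImmersion RegImm.Kind.regular i := by
  refine ⟨inferInstance, fun z => ?_⟩
  apply isRegularImmersionAt_of_stalkReg
  haveI : IsRegularLocalRing (Z.presheaf.stalk z) := hZ z
  haveI : IsRegularLocalRing (i.coborderRange.toScheme.presheaf.stalk (i.liftCoborder z)) :=
    @IsRegularLocalRing.of_ringEquiv _ _ (hX (i.liftCoborder z).1) _ _
      (i.coborderRange.stalkIso (i.liftCoborder z)).symm.commRingCatIsoToRingEquiv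
  exact Groth.Agent.Lib.Helper5.RegImmAlg.exists_regular_ker_of_surjective
    (i.liftCoborder.stalkMap z).hom (i.liftCoborder.stalkMap_surjective z)

end Groth.Agent.Lib.Helper5.RegImm
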