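import Mathlib
import Groth.Prelude.Def_BlowUp2
import Groth.Agent.Lib.Helper12EffCartier
import Groth.Agent.Lib.Helper20RelCartier

/-!
# Base change of relative effective Cartier divisors (helper5)

* `map_mem_nonZeroDivisors_of_isPushout`: for a pushout square of rings `B' = B ⊗_A A'` and a
  nonzerodivisor `f` of `B` with `B/(f)` flat over `A`, the image of `f` in `B'` is a
  nonzerodivisor;
* `isEffCartierIdeal_comap_of_flat_over_base`: for a cartesian square of schemes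
  `U' = U ×_V V'` and an effective Cartier ideal sheaf `I` on `U` with `V(I)` flat over `V`,
  the inverse image of `I` on `U'` is effective Cartier.
-/

set_option autoImplicit false
set_option linter.style.haveILetI false
universe u
open CategoryTheory CategoryTheory.Limits AlgebraicGeometry Opposite TensorProduct

namespace Groth.Agent.Lib.Helper5.RelCartA

section ring

variable {A B A' B' : Type u} [CommRing A] [CommRing B] [CommRing A'] [CommRing B']
  [Algebra A B] [Algebra A A'] [Algebra B B'] [Algebra A' B'] [Algebra A B']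
  [IsScalarTower A B B'] [IsScalarTower A A' B']

theorem map_mem_nonZeroDivisors_of_isPushout [hP : Algebra.IsPushout A B A' B'] (f : B)
    (hf : f ∈ nonZeroDivisors B) [Module.Flat A (B ⧸ Ideal.span {f})] :
    algebraMap B B' f ∈ nonZeroDivisors B' := by
  haveI hP' : Algebra.IsPushout A A' B B' := hP.symm
  let e := Algebra.IsPushout.equiv A A' B B'
  let g : B →ₗ[A] B := LinearMap.mulLeft A f
  let π : B →ₗ[A] (B ⧸ Ideal.span {f}) := (Ideal.Quotient.mkₐ A (Ideal.span {f})).toLinearMap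
  have hπ : Function.Surjective π := Ideal.Quotient.mk_surjective
  have hg : Function.Injective g := by
    intro a b hab
    have h1 : f * a = f * b := hab
    have h2 : (a - b) * f = 0 := by rw [sub_mul, mul_comm a f, mul_comm b f, h1, sub_self]
    exact sub_eq_zero.1 (hf.2 _ h2)
  have hex : Function.Exact g π := by
    intro x
    constructor
    · intro hx
      have hx' : Ideal.Quotient.mk (Ideal.span {f}) x = 0 := hx
      rw [Ideal.Quotient.eq_zero_iff_mem, Ideal.mem_span_singleton'] at hx'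
      obtain ⟨c, hc⟩ := hx'
      exact ⟨c, by rw [← hc, mul_comm]; rfl⟩
    · rintro ⟨c, rfl⟩
      show Ideal.Quotient.mk (Ideal.span {f}) (f * c) = 0
      rw [Ideal.Quotient.eq_zero_iff_mem, Ideal.mem_span_singleton']
      exact ⟨c, mul_comm c f⟩
  have hinj : Function.Injective (g.lTensor A') :=
    LinearMap.lTensor_injective_of_exact_of_flat π hπ g hg hex A'
  have key : ∀ t : A' ⊗[A] B, e (g.lTensor A' t) = algebraMap B B' f * e t := by
    intro t
    induction t with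
    | zero => simp
    | tmul a b =>
      rw [LinearMap.lTensor_tmul]
      show e (a ⊗ₜ[A] (f * b)) = _
      rw [Algebra.IsPushout.equiv_tmul, Algebra.IsPushout.equiv_tmul, map_mul]
      ring
    | add x y hx hy => rw [map_add, map_add, hx, hy, map_add, mul_add]
  rw [mem_nonZeroDivisors_iff_right]
  intro y hy
  obtain ⟨t, rfl⟩ := e.surjective y
  have h0 : e (g.lTensor A' t) = 0 := by rw [key, mul_comm]; exact hy
  have h1 : g.lTensor A' t = 0 := by
    have := e.injective (h0.trans (map_zero e).symm)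
    exact this
  have h2 : t = 0 := hinj (h1.trans (map_zero _).symm)
  rw [h2, map_zero]

end ring

open Groth.Agent.Lib.Helper12.EffCartier Groth.Agent.Lib.Helper20.RelCartier

/-- base change of a relative effective Cartier divisor -/
theorem isEffCartierIdeal_comap_of_flat_over_base {U V V' U' : Scheme.{u}} {h : U ⟶ V}
    {k : V' ⟶ V} {p : U' ⟶ U} {h' : U' ⟶ V'} (sq : IsPullback p h' h k) (I : U.IdealSheafData)
    (hI : BlowUp.IsEffCartierIdeal I) [Flat (I.subschemeι ≫ h)] :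
    BlowUp.IsEffCartierIdeal (I.comap p) := by
  intro x'
  obtain ⟨W1, hxW1, f1, hf1, hW1⟩ := hI (p x')
  obtain ⟨V0s, hV0a, hvV0, -⟩ := (V.isBasis_affineOpens).exists_subset_of_mem_open
    (Set.mem_univ (h (p x'))) isOpen_univ
  obtain ⟨V0, hV0, rfl⟩ := hV0a
  obtain ⟨Ws, hWa, hxW, hWsub⟩ := (U.isBasis_affineOpens).exists_subset_of_mem_open
    (show p x' ∈ ((W1.1 ⊓ h ⁻¹ᵁ V0 : U.Opens) : Set U) from ⟨hxW1, hvV0⟩) (W1.1 ⊓ h ⁻¹ᵁ V0).2
  obtain ⟨W, hW, rfl⟩ := hWa
  have hWW1 : W ≤ W1.1 := fun y hy => (hWsub hy).1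
  have hWV0 : W ≤ h ⁻¹ᵁ V0 := fun y hy => (hWsub hy).2
  obtain ⟨hf, hIW⟩ := restrict_principal I ⟨W, hW⟩ W1 hWW1 f1 hf1 hW1
  obtain ⟨f, hfdef⟩ : ∃ f : Γ(U, W), f = (U.presheaf.map (homOfLE hWW1).op).hom f1 := ⟨_, rfl⟩
  rw [← hfdef] at hf hIW
  have hkv : k (h' x') ∈ V0 := by
    rw [← Scheme.Hom.comp_apply, ← sq.w, Scheme.Hom.comp_apply]; exact hvV0
  obtain ⟨V0's, hV0'a, hv'V0', hV0'sub⟩ := (V'.isBasis_affineOpens).exists_subset_of_mem_open
    (show h' x' ∈ ((k ⁻¹ᵁ V0 : V'.Opens) : Set V') from hkv) (k ⁻¹ᵁ V0).2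
  obtain ⟨V0', hV0', rfl⟩ := hV0'a
  have hV0'le : V0' ≤ k ⁻¹ᵁ V0 := hV0'sub
  obtain ⟨W', hW'def⟩ : ∃ W' : U'.Opens, W' = p ⁻¹ᵁ W ⊓ h' ⁻¹ᵁ V0' := ⟨_, rfl⟩
  have hx'W' : x' ∈ W' := by rw [hW'def]; exact ⟨hxW, hv'V0'⟩
  have hpW : W' ≤ p ⁻¹ᵁ W := by rw [hW'def]; exact inf_le_left
  have hh'W : W' ≤ h' ⁻¹ᵁ V0' := by rw [hW'def]; exact inf_le_right
  have hiso := isIso_pushoutSection_of_isAffineOpen sq hV0'le hWV0 hW'def hV0 hV0' hW
  have hpo := (isIso_pushoutSection_iff sq hV0'le hWV0 hW'def).mp hiso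
  have hW'aff : IsAffineOpen W' := by
    haveI : IsAffine _ := hV0
    haveI : IsAffine _ := hV0'
    haveI : IsAffine _ := hW
    exact .of_isIso (Scheme.Hom.isPullback_resLE sq hV0'le hWV0 hW'def).isoPullback.hom
  letI iAB : Algebra Γ(V, V0) Γ(U, W) := (h.appLE V0 W hWV0).hom.toAlgebra
  letI iAA' : Algebra Γ(V, V0) Γ(V', V0') := (k.appLE V0 V0' hV0'le).hom.toAlgebra
  letI iBB' : Algebra Γ(U, W) Γ(U', W') := (p.appLE W W' hpW).hom.toAlgebra
  letI iA'B' : Algebra Γ(V', V0') Γ(U', W') := (h'.appLE V0' W' hh'W).hom.toAlgebra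
  letI iAB' : Algebra Γ(V, V0) Γ(U', W') :=
    ((p.appLE W W' hpW).hom.comp (h.appLE V0 W hWV0).hom).toAlgebra
  haveI t1 : IsScalarTower Γ(V, V0) Γ(U, W) Γ(U', W') :=
    IsScalarTower.of_algebraMap_eq (fun _ => rfl)
  haveI t2 : IsScalarTower Γ(V, V0) Γ(V', V0') Γ(U', W') :=
    IsScalarTower.of_algebraMap_eq (fun r => by
      have := congr($(hpo.w).hom r)
      exact this)
  haveI hP : Algebra.IsPushout Γ(V, V0) Γ(U, W) Γ(V', V0') Γ(U', W') :=
    (CommRingCat.isPushout_iff_isPushout).mp hpo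
  haveI hfl : Module.Flat Γ(V, V0) (Γ(U, W) ⧸ Ideal.span {f}) := by
    have := flat_quotient_of_flat h I hV0 hW hWV0
    rw [hIW] at this
    exact this
  refine ⟨⟨W', hW'aff⟩, hx'W', (p.appLE W W' hpW).hom f,
    map_mem_nonZeroDivisors_of_isPushout (A := Γ(V, V0)) (A' := Γ(V', V0')) (B' := Γ(U', W')) f hf,
    ?_⟩
  rw [ideal_comap_of_le p I ⟨W', hW'aff⟩ ⟨W, hW⟩ hpW, hIW, Ideal.map_span, Set.image_singleton]

end Groth.Agent.Lib.Helper5.RelCartA
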