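import Mathlib
import Groth.Agent.S3625
import Groth.Agent.S3627
import Groth.Agent.Lib.Helper5FieldFib

/-!
# Gorenstein at a point and etale morphisms of schemes (helper5)

* `FibLN h`: all fibres of `h` are locally Noetherian;
* `gorAt_of_etale`: an etale morphism is Gorenstein at every point;
* `gorAt_precomp_iff`: precomposition with an etale morphism;
* `gorAt_bc_iff`: base change along an etale morphism;
* `gorAt_postcomp_iff`: postcomposition with an etale morphism.
-/

set_option autoImplicit false
set_option linter.style.haveILetI false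
universe u
open CategoryTheory CategoryTheory.Limits AlgebraicGeometry

namespace Groth.Agent.Lib.Helper5.SpGorA

/-- all fibres of `h` are locally Noetherian -/
def FibLN {U V : Scheme.{u}} (h : U ⟶ V) : Prop := ∀ v : V, IsLocallyNoetherian (h.fiber v)

theorem fibLN_of_lft {U V : Scheme.{u}} (h : U ⟶ V) [LocallyOfFiniteType h] : FibLN h := by
  intro v
  haveI : LocallyOfFiniteType (h.fiberToSpecResidueField v) := by
    dsimp only [Scheme.Hom.fiberToSpecResidueField]
    exact MorphismProperty.pullback_snd (P := @LocallyOfFiniteType) h _ inferInstance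
  exact LocallyOfFiniteType.isLocallyNoetherian (h.fiberToSpecResidueField v)

/-- precomposition with a morphism locally of finite type keeps the fibres locally Noetherian -/
theorem fibLN_precomp {U' U V : Scheme.{u}} (e : U' ⟶ U) [LocallyOfFiniteType e] (h : U ⟶ V)
    (hh : FibLN h) : FibLN (e ≫ h) := by
  intro v
  haveI hv : IsLocallyNoetherian (pullback h (V.fromSpecResidueField v)) := hh v
  show IsLocallyNoetherian (pullback (e ≫ h) (V.fromSpecResidueField v))
  let t : pullback (e ≫ h) (V.fromSpecResidueField v) ⟶ pullback h (V.fromSpecResidueField v) :=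
    pullback.lift (pullback.fst (e ≫ h) (V.fromSpecResidueField v) ≫ e)
      (pullback.snd (e ≫ h) (V.fromSpecResidueField v))
      (by rw [Category.assoc, pullback.condition])
  have ht1 : t ≫ pullback.fst h (V.fromSpecResidueField v) =
      pullback.fst (e ≫ h) (V.fromSpecResidueField v) ≫ e := pullback.lift_fst _ _ _
  have ht2 : t ≫ pullback.snd h (V.fromSpecResidueField v) =
      pullback.snd (e ≫ h) (V.fromSpecResidueField v) := pullback.lift_snd _ _ _
  have hsq : IsPullback (pullback.fst (e ≫ h) (V.fromSpecResidueField v)) t e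
      (pullback.fst h (V.fromSpecResidueField v)) := by
    refine IsPullback.of_bot ?_ ht1.symm (IsPullback.of_hasPullback h (V.fromSpecResidueField v))
    rw [ht2]
    exact IsPullback.of_hasPullback (e ≫ h) (V.fromSpecResidueField v)
  haveI : LocallyOfFiniteType t :=
    MorphismProperty.of_isPullback (P := @LocallyOfFiniteType) hsq inferInstance
  exact LocallyOfFiniteType.isLocallyNoetherian t

/-- an etale morphism is Gorenstein at every point -/
theorem gorAt_of_etale {U' U : Scheme.{u}} (e : U' ⟶ U) [Etale e] (u' : U') :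
    Dual3.IsGorensteinAt e u' := by
  refine ⟨Flat.stalkMap e u', ?_⟩
  haveI : Etale (e.fiberToSpecResidueField (e u')) := by
    dsimp only [Scheme.Hom.fiberToSpecResidueField]
    exact MorphismProperty.pullback_snd (P := @Etale) e _ inferInstance
  exact Groth.Agent.Lib.Helper5.FieldFib.gor_of_isField _
    (Groth.Agent.Lib.Helper5.FieldFib.isField_stalk_of_etale_field (U.residueField (e u'))
      (e.fiberToSpecResidueField (e u')) (e.asFiber u'))

/-- precomposition with an etale morphism -/
theorem gorAt_precomp_iff {U' U V : Scheme.{u}} (e : U' ⟶ U) [Etale e] (h : U ⟶ V)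
    (hh : FibLN h) (heh : FibLN (e ≫ h)) (u' : U') :
    Dual3.IsGorensteinAt (e ≫ h) u' ↔ Dual3.IsGorensteinAt h (e u') := by
  have key := Groth.Agent.S3627.result U' U V e h (fibLN_of_lft e) hh heh u'
  constructor
  · intro H
    exact (key.2 H (Flat.stalkMap e u')).2
  · intro H
    exact key.1 (gorAt_of_etale e u') H

/-- base change along an etale morphism -/
theorem gorAt_bc_iff {U V U' V' : Scheme.{u}} (h : U ⟶ V) (k : V' ⟶ V) (h' : U' ⟶ V')
    (k' : U' ⟶ U) (hsq : IsPullback k' h' h k) [Etale k] (hh : FibLN h) (u' : U') :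
    Dual3.IsGorensteinAt h' u' ↔ Dual3.IsGorensteinAt h (k' u') := by
  have key := Groth.Agent.S3625.result U V U' V' h k h' k' hsq hh u'
  exact ⟨key.2.2 (Flat.stalkMap k (h' u')), key.1⟩

/-- postcomposition with an etale morphism -/
theorem gorAt_postcomp_iff {U V V' : Scheme.{u}} (h : U ⟶ V) (k : V ⟶ V') [Etale k]
    (hh : FibLN h) (hhk : FibLN (h ≫ k)) (hpr : FibLN (pullback.snd (h ≫ k) k)) (u : U) :
    Dual3.IsGorensteinAt (h ≫ k) u ↔ Dual3.IsGorensteinAt h u := by
  let s : U ⟶ pullback (h ≫ k) k := pullback.lift (𝟙 U) h (by simp)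
  have hs1 : s ≫ pullback.fst (h ≫ k) k = 𝟙 U := pullback.lift_fst _ _ _
  have hs2 : s ≫ pullback.snd (h ≫ k) k = h := pullback.lift_snd _ _ _
  haveI : Etale (pullback.fst (h ≫ k) k) :=
    MorphismProperty.pullback_fst (P := @Etale) _ _ inferInstance
  haveI : Etale (s ≫ pullback.fst (h ≫ k) k) := by rw [hs1]; infer_instance
  haveI : Etale s := MorphismProperty.of_postcomp (W := @Etale) (W' := @Etale) s
    (pullback.fst (h ≫ k) k) inferInstance inferInstance
  have hsu : pullback.fst (h ≫ k) k (s u) = u := by
    rw [← Scheme.Hom.comp_apply, hs1]; rfl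
  have h1 : Dual3.IsGorensteinAt (pullback.snd (h ≫ k) k) (s u) ↔
      Dual3.IsGorensteinAt (h ≫ k) (pullback.fst (h ≫ k) k (s u)) :=
    gorAt_bc_iff (h ≫ k) k (pullback.snd (h ≫ k) k) (pullback.fst (h ≫ k) k)
      (IsPullback.of_hasPullback (h ≫ k) k) hhk (s u)
  rw [hsu] at h1
  have h2 : Dual3.IsGorensteinAt (s ≫ pullback.snd (h ≫ k) k) u ↔
      Dual3.IsGorensteinAt (pullback.snd (h ≫ k) k) (s u) :=
    gorAt_precomp_iff s (pullback.snd (h ≫ k) k) hpr (by rw [hs2]; exact hh) u
  rw [hs2] at h2
  exact h1.symm.trans h2.symm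

end Groth.Agent.Lib.Helper5.SpGorA
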