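import Mathlib
import Groth.Prelude.Def_AlgSpOX3
import Groth.Agent.Lib.Helper9SpChart

/-!
# Invariants of chart diagrams of a morphism of sheaves do not depend on the diagram (helper9)

`chart_indep`: a quantity `Q h u` attached to a morphism of schemes and a point of its source which
is invariant under étale squares takes the same value on any two chart diagrams of `f : X ⟶ Y`
through the same point of `|X|`.
-/

set_option autoImplicit false
set_option linter.style.haveILetI false
set_option backward.isDefEq.respectTransparency false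
open CategoryTheory CategoryTheory.Limits AlgebraicGeometry Opposite
universe u

namespace Groth.Agent.Lib.Helper9.ChartIndep

open AlgSp Groth.Agent.Lib.Helper9.SpPoint

variable {S : Scheme.{u}}

/-- invariance under étale squares -/
def EtSqInv {α : Type*} (Q : ∀ (U V : Scheme.{u}), (U ⟶ V) → U → α) : Prop :=
  ∀ {U U' V V' : Scheme.{u}} (h : U ⟶ V) (h' : U' ⟶ V') (a : U' ⟶ U) (b : V' ⟶ V),
    Etale a → Etale b → h' ≫ b = a ≫ h → ∀ u' : U', Q U V h (a u') = Q U' V' h' u'

theorem chart_indep {α : Type*} (Q : ∀ (U V : Scheme.{u}), (U ⟶ V) → U → α) (hQ : EtSqInv Q)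
    {X Y : Sp S} (f : X ⟶ Y) {U V U' V' : Over S}
    (a : (yon S).obj U ⟶ X) (b : (yon S).obj V ⟶ Y) (h : U ⟶ V) (u : U.left)
    (ha : RepWith @Etale a) (hb : RepWith @Etale b) (hcomm : a ≫ f = (yon S).map h ≫ b)
    (a' : (yon S).obj U' ⟶ X) (b' : (yon S).obj V' ⟶ Y) (h' : U' ⟶ V') (u' : U'.left)
    (ha' : RepWith @Etale a') (hb' : RepWith @Etale b') (hcomm' : a' ≫ f = (yon S).map h' ≫ b')
    (hpt : Points.ofPt a u = Points.ofPt a' u') :
    Q U.left V.left h.left u = Q U'.left V'.left h'.left u' := by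
  let A : EtOver X := EtOver.mk a ha
  let A' : EtOver X := EtOver.mk a' ha'
  let B : EtOver Y := EtOver.mk b hb
  let B' : EtOver Y := EtOver.mk b' hb'
  -- a point of `U ×_X U'` over `u` and `u'`
  obtain ⟨z, hz1, hz2⟩ := exists_point_pullback a A' u u' hpt
  -- `z : (A'.property.1.pullback a).left`, snd z = u, fst' z = u'
  let P : Over S := ha'.1.pullback a
  let pr1 : P ⟶ U := ha'.1.snd a
  let pr2 : P ⟶ U' := ha'.1.fst' a
  have hpb := ha'.1.isPullback a
  have het1 : Etale pr1.left := ha'.2 a _ _ hpb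
  have hw : (yon S).map pr2 ≫ a' = (yon S).map pr1 ≫ a := by
    rw [ha'.1.map_fst']
    exact hpb.w
  have het2 : Etale pr2.left := by
    have := EtOver.etale_left (EtOver.prodSnd A A')
    exact this
  -- the induced map to `V ×_Y V'`
  have hk : (yon S).map (pr2 ≫ h') ≫ b' = (yon S).map (pr1 ≫ h) ≫ b := by
    rw [Functor.map_comp, Category.assoc, ← hcomm', ← Category.assoc, hw, Category.assoc, hcomm,
      Functor.map_comp, Category.assoc]
  let k : P ⟶ (EtOver.prodObj B B').obj.left := B'.property.1.lift' (pr2 ≫ h') (pr1 ≫ h) hk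
  have hk1 : k ≫ (EtOver.prodFst B B').hom.left = pr1 ≫ h :=
    Functor.relativelyRepresentable.lift'_snd _ _ _ _
  have hk2 : k ≫ (EtOver.prodSnd B B').hom.left = pr2 ≫ h' :=
    Functor.relativelyRepresentable.lift'_fst _ _ _ _
  have hq1 := EtOver.etale_left (EtOver.prodFst B B')
  have hq2 := EtOver.etale_left (EtOver.prodSnd B B')
  have e1 := hQ h.left k.left pr1.left (EtOver.prodFst B B').hom.left.left het1 hq1
    (congrArg (fun m => m.left) hk1) z
  have e2 := hQ h'.left k.left pr2.left (EtOver.prodSnd B B').hom.left.left het2 hq2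
    (congrArg (fun m => m.left) hk2) z
  have hz1' : pr1.left z = u := hz1
  have hz2' : pr2.left z = u' := hz2
  rw [hz1'] at e1
  rw [hz2'] at e2
  rw [e1, e2]

/-- the value of an étale-square invariant on some chart diagram through a point is its value on
any given chart diagram -/
theorem hasAtMor_iff {α : Type*} (Q : ∀ (U V : Scheme.{u}), (U ⟶ V) → U → α) (hQ : EtSqInv Q)
    (R : α → Prop) {X Y : Sp S} (f : X ⟶ Y) {U V : Over S}
    (a : (yon S).obj U ⟶ X) (b : (yon S).obj V ⟶ Y) (h : U ⟶ V) (u : U.left)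
    (ha : RepWith @Etale a) (hb : RepWith @Etale b) (hcomm : a ≫ f = (yon S).map h ≫ b) :
    HasAtMor (fun U V h u => R (Q U V h u)) f (Points.ofPt a u) ↔ R (Q U.left V.left h.left u) := by
  constructor
  · rintro ⟨U', V', a', b', h', u', ha', hb', hcomm', hpt, hR⟩
    rw [chart_indep Q hQ f a b h u ha hb hcomm a' b' h' u' ha' hb' hcomm' hpt.symm]
    exact hR
  · intro hR
    exact ⟨U, V, a, b, h, u, ha, hb, hcomm, rfl, hR⟩

/-- every point of an algebraic space lies on a chart diagram of any morphism -/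
theorem exists_chartDiagram {X Y : AlgSp.Space S} (f : X ⟶ Y) (x : Points X.obj) :
    ∃ (U V : Over S) (a : (yon S).obj U ⟶ X.obj) (b : (yon S).obj V ⟶ Y.obj) (h : U ⟶ V)
      (u : U.left), RepWith @Etale a ∧ RepWith @Etale b ∧ a ≫ f.hom = (yon S).map h ≫ b ∧
        Points.ofPt a u = x := by
  obtain ⟨U₀, a₀, ha₀, hs₀⟩ := X.property.atlas
  obtain ⟨V₀, b₀, hb₀, hsb₀⟩ := Y.property.atlas
  obtain ⟨u₀, hu₀⟩ := exists_atlas_point a₀ hs₀ x
  obtain ⟨T, e, k, z, het, hTa, hcomm, hz1⟩ :=
    exists_chart_diagram_atlas f.hom a₀ ha₀ u₀ b₀ hb₀ hsb₀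
  refine ⟨T, V₀, (yon S).map e ≫ a₀, b₀, k, z, hTa, hb₀, hcomm, ?_⟩
  rw [ofPt_yon_map_comp, hz1, hu₀]

end Groth.Agent.Lib.Helper9.ChartIndep
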