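import Mathlib
import Groth.Agent.Lib.Helper9ChartIndep
import Groth.Agent.Lib.Helper9ResTrdeg
import Groth.Agent.Lib.Helper3FibDimEt

/-!
# Étale-square invariance of fibre dimension and residue transcendence degree (helper9)
-/

set_option autoImplicit false
set_option linter.style.haveILetI false
set_option backward.isDefEq.respectTransparency false
open CategoryTheory CategoryTheory.Limits AlgebraicGeometry Opposite
universe u

namespace Groth.Agent.Lib.Helper9.ChartIndep

theorem etSqInv_fibreDimAt :
    EtSqInv (fun (U V : Scheme.{u}) (h : U ⟶ V) (u : U) => FlatMor.fibreDimAt h u) := by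
  intro U U' V V' h h' a b ha hb comm u'
  exact Groth.Agent.Lib.Helper3.FibDimEt.fibreDimAt_eq_of_etale_square h h' a b comm u'

theorem etSqInv_resTrdeg :
    EtSqInv (fun (U V : Scheme.{u}) (h : U ⟶ V) (u : U) => Dual3.resTrdeg h u) := by
  intro U U' V V' h h' a b ha hb comm u'
  haveI : LocallyQuasiFinite a :=
    Groth.Agent.Lib.Helper3.IrrTop.locallyQuasiFinite_of_unramified _
  haveI : LocallyQuasiFinite b :=
    Groth.Agent.Lib.Helper3.IrrTop.locallyQuasiFinite_of_unramified _
  change Dual3.resTrdeg h (a u') = Dual3.resTrdeg h' u'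
  rw [← ResTrdeg.resTrdeg_comp_of_lqf_left a h u', ← comm, ResTrdeg.resTrdeg_comp_of_lqf_right]

end Groth.Agent.Lib.Helper9.ChartIndep
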