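import Mathlib
import Groth.Agent.Lib.Helper7TopDim

/-!
# Dimension and étale morphisms of schemes (helper9)

* `ringKrullDim_stalk_eq_of_etale`: étale morphisms preserve the Krull dimension of local rings;
* `topologicalKrullDim_eq_iSup_stalk`: the dimension of a scheme is the supremum of the dimensions
  of its local rings;
* `topologicalKrullDim_le_of_etale`, `topologicalKrullDim_eq_of_etale_surjective`,
  `localDim_eq_of_etale`.
-/

set_option autoImplicit false
set_option backward.isDefEq.respectTransparency false

universe u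

open CategoryTheory AlgebraicGeometry TopologicalSpace

namespace Groth.Agent.Lib.Helper9.EtDim

/-- A faithfully flat algebra with incomparable fibres has the same Krull dimension (this is
helper3's lemma from `Helper3HzDim`, copied here to keep the imports light). -/
theorem ringKrullDim_eq_of_faithfullyFlat_of_incomparable {R S : Type*} [CommRing R] [CommRing S]
    [Algebra R S] [Module.FaithfullyFlat R S]
    (hinc : ∀ (P Q : Ideal S) [P.IsPrime] [Q.IsPrime], P ≤ Q → P.under R = Q.under R → P = Q) :
    ringKrullDim S = ringKrullDim R := by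
  apply le_antisymm
  · apply Order.krullDim_le_of_strictMono (PrimeSpectrum.comap (algebraMap R S))
    intro P Q hPQ
    have hle : PrimeSpectrum.comap (algebraMap R S) P ≤ PrimeSpectrum.comap (algebraMap R S) Q :=
      Ideal.comap_mono hPQ.le
    refine lt_of_le_of_ne hle (fun heq => ?_)
    have h1 : P.asIdeal.under R = Q.asIdeal.under R := congrArg PrimeSpectrum.asIdeal heq
    have h2 : P.asIdeal = Q.asIdeal := hinc P.asIdeal Q.asIdeal hPQ.le h1
    exact hPQ.ne (PrimeSpectrum.ext h2)
  · rw [ringKrullDim, Order.krullDim]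
    apply iSup_le
    intro l
    obtain ⟨P, hP⟩ := PrimeSpectrum.comap_surjective_of_faithfullyFlat (A := R) (B := S) l.last
    haveI : P.asIdeal.LiesOver l.last.asIdeal := ⟨by rw [← hP]; rfl⟩
    obtain ⟨L, hlen, -, -⟩ := Ideal.exists_ltSeries_of_hasGoingDown l P.asIdeal
    rw [← hlen]
    exact Order.LTSeries.length_le_krullDim L

/-- Étale morphisms of schemes preserve the Krull dimension of the local rings. -/
theorem ringKrullDim_stalk_eq_of_etale {X Y : Scheme.{u}} (f : X ⟶ Y) [Etale f] (x : X) :
    ringKrullDim (X.presheaf.stalk x) = ringKrullDim (Y.presheaf.stalk (f x)) := by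
  algebraize [(f.stalkMap x).hom]
  have hloc : IsLocalHom (algebraMap (Y.presheaf.stalk (f x)) (X.presheaf.stalk x)) :=
    inferInstanceAs <| IsLocalHom (f.stalkMap x).hom
  have hflat : Module.Flat (Y.presheaf.stalk (f x)) (X.presheaf.stalk x) := by
    have := Flat.stalkMap f x
    rwa [RingHom.Flat, ← RingHom.algebraMap_toAlgebra (f.stalkMap x).hom] at this
  have hess : Algebra.EssFiniteType (Y.presheaf.stalk (f x)) (X.presheaf.stalk x) := by
    rw [← RingHom.essFiniteType_algebraMap, RingHom.algebraMap_toAlgebra]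
    exact LocallyOfFiniteType.stalkMap f x
  have hunr : Algebra.FormallyUnramified (Y.presheaf.stalk (f x)) (X.presheaf.stalk x) := by
    rw [← RingHom.formallyUnramified_algebraMap, RingHom.algebraMap_toAlgebra]
    exact FormallyUnramified.stalkMap f x
  have : Module.FaithfullyFlat (Y.presheaf.stalk (f x)) (X.presheaf.stalk x) :=
    .of_flat_of_isLocalHom
  have : Algebra.QuasiFinite (Y.presheaf.stalk (f x)) (X.presheaf.stalk x) := inferInstance
  exact ringKrullDim_eq_of_faithfullyFlat_of_incomparable
    (fun P Q _ _ h1 h2 => Algebra.QuasiFinite.eq_of_le_of_under_eq P Q h1 h2)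

/-- The dimension of an affine open is the Krull dimension of its ring of sections. -/
theorem topologicalKrullDim_affineOpen {X : Scheme.{u}} {U : X.Opens} (hU : IsAffineOpen U) :
    topologicalKrullDim ↥U = ringKrullDim Γ(X, U) := by
  rw [← PrimeSpectrum.topologicalKrullDim_eq_ringKrullDim]
  exact IsHomeomorph.topologicalKrullDim_eq _ (Scheme.homeoOfIso hU.isoSpec).isHomeomorph

/-- The Krull dimension of the local ring at a point of an affine open is the height of the
corresponding prime. -/
theorem ringKrullDim_stalk_eq_height {X : Scheme.{u}} {W : X.Opens} (hW : IsAffineOpen W) (x : X)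
    (hxW : x ∈ W) :
    ringKrullDim (X.presheaf.stalk x) = (hW.primeIdealOf ⟨x, hxW⟩).asIdeal.height := by
  letI : Algebra Γ(X, W) (X.presheaf.stalk x) :=
    TopCat.Presheaf.algebra_section_stalk X.presheaf (⟨x, hxW⟩ : W)
  haveI : IsLocalization.AtPrime (X.presheaf.stalk x) (hW.primeIdealOf ⟨x, hxW⟩).asIdeal :=
    hW.isLocalization_stalk ⟨x, hxW⟩
  exact IsLocalization.AtPrime.ringKrullDim_eq_height _ _

theorem topologicalKrullDim_le_iff (X : Scheme.{u}) (d : WithBot ℕ∞) :
    topologicalKrullDim X ≤ d ↔ ∀ x : X, ringKrullDim (X.presheaf.stalk x) ≤ d := by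
  rw [Groth.Agent.Lib.Helper7.TopDim.topologicalKrullDim_eq_iSup_of_open_cover
    (fun V : X.affineOpens => V.1) (iSup_affineOpens_eq_top X), iSup_le_iff]
  constructor
  · intro h x
    obtain ⟨W, hW, hxW, -⟩ := exists_isAffineOpen_mem_and_subset (X := X) (x := x) (U := ⊤) trivial
    have h1 := h ⟨W, hW⟩
    rw [topologicalKrullDim_affineOpen hW] at h1
    rw [ringKrullDim_stalk_eq_height hW x hxW]
    exact (ringKrullDim_le_iff_height_le d).1 h1 (hW.primeIdealOf ⟨x, hxW⟩).2
  · intro h V
    rw [topologicalKrullDim_affineOpen V.2, ringKrullDim_le_iff_height_le]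
    intro p hp
    let y : PrimeSpectrum Γ(X, V.1) := ⟨p, hp⟩
    have hy : V.2.fromSpec y ∈ V.1 := (V.2.isoSpec.inv y).2
    letI : Algebra Γ(X, V.1) (X.presheaf.stalk (V.2.fromSpec y)) :=
      TopCat.Presheaf.algebra_section_stalk X.presheaf ⟨V.2.fromSpec y, hy⟩
    haveI : IsLocalization.AtPrime (X.presheaf.stalk (V.2.fromSpec y)) y.asIdeal :=
      V.2.isLocalization_stalk' y hy
    have := IsLocalization.AtPrime.ringKrullDim_eq_height y.asIdeal
      (X.presheaf.stalk (V.2.fromSpec y))
    rw [← this]
    exact h _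

/-- The dimension of a scheme is the supremum of the dimensions of its local rings. -/
theorem topologicalKrullDim_eq_iSup_stalk (X : Scheme.{u}) :
    topologicalKrullDim X = ⨆ x : X, ringKrullDim (X.presheaf.stalk x) :=
  le_antisymm ((topologicalKrullDim_le_iff X _).2 (fun x => le_iSup (fun x : X => ringKrullDim (X.presheaf.stalk x)) x))
    (iSup_le ((topologicalKrullDim_le_iff X _).1 le_rfl))

/-- The dimension of an open subset of a scheme is the supremum of the dimensions of the local
rings at its points. -/
theorem topologicalKrullDim_opens_eq_iSup_stalk (X : Scheme.{u}) (U : X.Opens) :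
    topologicalKrullDim ↥U = ⨆ x : U, ringKrullDim (X.presheaf.stalk x.1) := by
  have h := topologicalKrullDim_eq_iSup_stalk U.toScheme
  refine h.trans ?_
  refine iSup_congr fun x => ?_
  exact ringKrullDim_eq_of_ringEquiv (U.stalkIso x).commRingCatIsoToRingEquiv

theorem topologicalKrullDim_le_of_etale {W V : Scheme.{u}} (g : W ⟶ V) [Etale g] :
    topologicalKrullDim W ≤ topologicalKrullDim V := by
  rw [topologicalKrullDim_le_iff]
  intro w
  rw [ringKrullDim_stalk_eq_of_etale g w]
  exact (topologicalKrullDim_le_iff V _).1 le_rfl (g w)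

theorem topologicalKrullDim_eq_of_etale_surjective {W V : Scheme.{u}} (g : W ⟶ V) [Etale g]
    [Surjective g] : topologicalKrullDim W = topologicalKrullDim V := by
  refine le_antisymm (topologicalKrullDim_le_of_etale g) ?_
  rw [topologicalKrullDim_le_iff]
  intro v
  obtain ⟨w, rfl⟩ := g.surjective v
  rw [← ringKrullDim_stalk_eq_of_etale g w]
  exact (topologicalKrullDim_le_iff W _).1 le_rfl w

open Groth.Agent.Lib.Helper7.TopDim in
/-- Étale morphisms of schemes preserve the local dimension at a point. -/
theorem localDim_eq_of_etale {W V : Scheme.{u}} (g : W ⟶ V) [Etale g] (w : W) :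
    FlatMor.localDim W w = FlatMor.localDim V (g w) := by
  apply le_antisymm
  · rw [le_localDim_iff]
    intro U' hU'
    refine (localDim_le w (g ⁻¹ᵁ U') hU').trans ?_
    change topologicalKrullDim ↥(g ⁻¹ᵁ U') ≤ topologicalKrullDim ↥U'
    rw [topologicalKrullDim_opens_eq_iSup_stalk W, topologicalKrullDim_opens_eq_iSup_stalk V]
    refine iSup_le fun x => ?_
    rw [ringKrullDim_stalk_eq_of_etale g x.1]
    exact le_iSup (fun v : U' => ringKrullDim (V.presheaf.stalk v.1)) ⟨g x.1, x.2⟩
  · rw [le_localDim_iff]
    intro U hU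
    let U' : V.Opens := ⟨g '' U, g.isOpenMap _ U.isOpen⟩
    refine (localDim_le (g w) U' ⟨w, hU, rfl⟩).trans ?_
    change topologicalKrullDim ↥U' ≤ topologicalKrullDim ↥U
    rw [topologicalKrullDim_opens_eq_iSup_stalk V, topologicalKrullDim_opens_eq_iSup_stalk W]
    refine iSup_le fun v => ?_
    obtain ⟨v, x, hx, rfl⟩ := v
    rw [← ringKrullDim_stalk_eq_of_etale g x]
    exact le_iSup (fun x : U => ringKrullDim (W.presheaf.stalk x.1)) ⟨x, hx⟩

end Groth.Agent.Lib.Helper9.EtDim
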