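import Mathlib
import Groth.Prelude.Def_AlgSpOX3
import Groth.Agent.Lib.Helper9SpChart
import Groth.Agent.Lib.Helper9EtDim

/-!
# Étale-invariant quantities at a point of a sheaf do not depend on the chart (helper9)

`chart_indep_at`: a quantity `Q U u` attached to a pointed scheme which is invariant under étale
morphisms takes the same value on any two étale charts of `X` through the same point of `|X|`.
-/

set_option autoImplicit false
set_option linter.style.haveILetI false
set_option backward.isDefEq.respectTransparency false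
open CategoryTheory CategoryTheory.Limits AlgebraicGeometry Opposite
universe u

namespace Groth.Agent.Lib.Helper9.ChartIndepAt

open AlgSp Groth.Agent.Lib.Helper9.SpPoint

variable {S : Scheme.{u}}

/-- invariance under étale morphisms -/
def EtInv {α : Type*} (Q : ∀ (U : Scheme.{u}), U → α) : Prop :=
  ∀ {U U' : Scheme.{u}} (e : U' ⟶ U), Etale e → ∀ u' : U', Q U (e u') = Q U' u'

theorem chart_indep_at {α : Type*} (Q : ∀ (U : Scheme.{u}), U → α) (hQ : EtInv Q)
    {X : Sp S} {U U' : Over S}
    (a : (yon S).obj U ⟶ X) (u : U.left) (ha : RepWith @Etale a)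
    (a' : (yon S).obj U' ⟶ X) (u' : U'.left) (ha' : RepWith @Etale a')
    (hpt : Points.ofPt a u = Points.ofPt a' u') :
    Q U.left u = Q U'.left u' := by
  let A : EtOver X := EtOver.mk a ha
  let A' : EtOver X := EtOver.mk a' ha'
  obtain ⟨z, hz1, hz2⟩ := exists_point_pullback a A' u u' hpt
  let P : Over S := ha'.1.pullback a
  let pr1 : P ⟶ U := ha'.1.snd a
  let pr2 : P ⟶ U' := ha'.1.fst' a
  have hpb := ha'.1.isPullback a
  have het1 : Etale pr1.left := ha'.2 a _ _ hpb
  have het2 : Etale pr2.left := by
    have := EtOver.etale_left (EtOver.prodSnd A A')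
    exact this
  have e1 := hQ pr1.left het1 z
  have e2 := hQ pr2.left het2 z
  have hz1' : pr1.left z = u := hz1
  have hz2' : pr2.left z = u' := hz2
  rw [hz1'] at e1
  rw [hz2'] at e2
  rw [e1, e2]

theorem hasAt_iff {α : Type*} (Q : ∀ (U : Scheme.{u}), U → α) (hQ : EtInv Q)
    (R : α → Prop) {X : Sp S} {U : Over S}
    (a : (yon S).obj U ⟶ X) (u : U.left) (ha : RepWith @Etale a) :
    HasAt (fun U u => R (Q U u)) X (Points.ofPt a u) ↔ R (Q U.left u) := by
  constructor
  · rintro ⟨U', a', u', ha', hpt, hR⟩
    rw [chart_indep_at Q hQ a u ha a' u' ha' hpt.symm]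
    exact hR
  · intro hR
    exact ⟨U, a, u, ha, rfl, hR⟩

theorem etInv_localDim :
    EtInv (fun (U : Scheme.{u}) (u : U) => FlatMor.localDim U u) := by
  intro U U' e he u'
  exact (Groth.Agent.Lib.Helper9.EtDim.localDim_eq_of_etale e u').symm

end Groth.Agent.Lib.Helper9.ChartIndepAt
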