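import Mathlib
import Groth.Agent.Lib.Helper9ChartIndepAt
import Groth.Agent.Lib.Helper9ChartIndep2
import Groth.Agent.Lib.Helper3RelDimFlat

/-!
# Dimension formula for flat morphisms of locally Noetherian algebraic spaces (helper9)
-/

set_option autoImplicit false
set_option linter.style.haveILetI false
set_option backward.isDefEq.respectTransparency false
open CategoryTheory CategoryTheory.Limits AlgebraicGeometry Opposite
universe u

namespace Groth.Agent.Lib.Helper9.SpDimFormula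

open AlgSp Groth.Agent.Lib.Helper9.SpPoint Groth.Agent.Lib.Helper9.ChartIndep
  Groth.Agent.Lib.Helper9.ChartIndepAt

variable {S : Scheme.{u}}

/-- chart diagrams by locally Noetherian schemes through any point -/
theorem exists_chartDiagram_locNoeth {X Y : AlgSp.Space S} (f : X ⟶ Y)
    (hX : AlgSp.IsLocNoethSp X.obj) (hY : AlgSp.IsLocNoethSp Y.obj) (x : Points X.obj) :
    ∃ (U V : Over S) (a : (yon S).obj U ⟶ X.obj) (b : (yon S).obj V ⟶ Y.obj) (h : U ⟶ V)
      (u : U.left), RepWith @Etale a ∧ RepWith @Etale b ∧ a ≫ f.hom = (yon S).map h ≫ b ∧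
        Points.ofPt a u = x ∧ IsLocallyNoetherian U.left ∧ IsLocallyNoetherian V.left := by
  obtain ⟨U₀, a₀, ha₀, hs₀, hN₀⟩ := hX
  obtain ⟨V₀, b₀, hb₀, hsb₀, hNb₀⟩ := hY
  obtain ⟨u₀, hu₀⟩ := exists_atlas_point a₀ hs₀ x
  obtain ⟨T, e, k, z, het, hTa, hcomm, hz1⟩ :=
    exists_chart_diagram_atlas f.hom a₀ ha₀ u₀ b₀ hb₀ hsb₀
  refine ⟨T, V₀, (yon S).map e ≫ a₀, b₀, k, z, hTa, hb₀, hcomm, ?_, ?_, hNb₀⟩
  · rw [ofPt_yon_map_comp, hz1, hu₀]
  · haveI := hN₀
    haveI := het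
    exact LocallyOfFiniteType.isLocallyNoetherian e.left

/-- an open subscheme as an object over `S`, étale over the ambient one -/
theorem hasAt_localDim_iff {X : Sp S} {U : Over S}
    (a : (yon S).obj U ⟶ X) (u : U.left) (ha : RepWith @Etale a) (dX : WithBot ℕ∞) :
    HasAt (fun U u => FlatMor.localDim ↥U u = dX) X (Points.ofPt a u) ↔
      FlatMor.localDim U.left u = dX :=
  hasAt_iff (fun (U : Scheme.{u}) (u : U) => FlatMor.localDim U u) etInv_localDim
    (fun t => t = dX) a u ha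

theorem hasAtMor_fibreDimAt_iff {X Y : Sp S} (f : X ⟶ Y) {U V : Over S}
    (a : (yon S).obj U ⟶ X) (b : (yon S).obj V ⟶ Y) (h : U ⟶ V) (u : U.left)
    (ha : RepWith @Etale a) (hb : RepWith @Etale b) (hcomm : a ≫ f = (yon S).map h ≫ b)
    (d : WithBot ℕ∞) :
    HasAtMor (fun _ _ h u => FlatMor.fibreDimAt h u = d) f (Points.ofPt a u) ↔
      FlatMor.fibreDimAt h.left u = d :=
  hasAtMor_iff (fun (U V : Scheme.{u}) (h : U ⟶ V) (u : U) => FlatMor.fibreDimAt h u)
    etSqInv_fibreDimAt (fun t => t = d) f a b h u ha hb hcomm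

theorem main {X Y : AlgSp.Space S} (f : X ⟶ Y)
    (hX : AlgSp.IsLocNoethSp X.obj) (hY : AlgSp.IsLocNoethSp Y.obj) (hf : AlgSp.LocP @Flat f.hom)
    (hf' : AlgSp.LocP @LocallyOfFiniteType f.hom) (d : ℕ)
    (hd : ∀ x : AlgSp.Points X.obj,
      AlgSp.HasAtMor (fun _ _ h u => FlatMor.fibreDimAt h u = (d : WithBot ℕ∞)) f.hom x)
    (x : AlgSp.Points X.obj) (dX dY : WithBot ℕ∞)
    (hx : AlgSp.HasAt (fun U u => FlatMor.localDim ↥U u = dX) X.obj x)
    (hy : AlgSp.HasAt (fun U u => FlatMor.localDim ↥U u = dY) Y.obj (AlgSp.Points.map f.hom x)) :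
    dX = dY + (d : WithBot ℕ∞) := by
  obtain ⟨U, V, a, b, h, u, ha, hb, hcomm, rfl, hNU, hNV⟩ :=
    exists_chartDiagram_locNoeth f hX hY x
  haveI := hNU
  haveI := hNV
  haveI : Flat h.left := hf a b h ha hb hcomm
  haveI : LocallyOfFiniteType h.left := hf' a b h ha hb hcomm
  have hrel : Cyc.HasRelDim h.left d := by
    rw [Groth.Agent.Lib.Helper3.RelDim.hasRelDim_iff_forall_fibreDimAt_eq]
    intro t
    exact (hasAtMor_fibreDimAt_iff f.hom a b h t ha hb hcomm _).1 (hd _)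
  have key := Groth.Agent.Lib.Helper3.RelDimFlat.localDim_eq_add h.left d hrel u
  rw [hasAt_localDim_iff a u ha] at hx
  have hpt : Points.map f.hom (Points.ofPt a u) = Points.ofPt b (h.left u) := by
    rw [Points.map_ofPt, hcomm, ofPt_yon_map_comp]
  rw [hpt, hasAt_localDim_iff b _ hb] at hy
  rw [← hx, ← hy]
  exact key

end Groth.Agent.Lib.Helper9.SpDimFormula
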