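import Mathlib
import Groth.Agent.Lib.Helper9SpDimFormula
import Groth.Agent.Lib.Helper12BaseLocal
import Groth.Agent.Lib.Helper9SpPoint7
import Groth.Agent.Lib.Helper3LocDimBC

/-!
# Base change of chart diagrams of morphisms of algebraic spaces (helper9)
-/

set_option autoImplicit false
set_option linter.style.haveILetI false
set_option backward.isDefEq.respectTransparency false
open CategoryTheory CategoryTheory.Limits AlgebraicGeometry Opposite
universe u

namespace Groth.Agent.Lib.Helper9.SpBaseChange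

open AlgSp Groth.Agent.Lib.Helper9.SpPoint Groth.Agent.Lib.Helper9.ChartIndep
  Groth.Agent.Lib.Helper9.ChartIndepAt Groth.Agent.Lib.Helper9.SpDimFormula

variable {S : Scheme.{u}}

/-- base change of a chart diagram of `f` along a chart of `g` over the target chart: the scheme
fibre product `U ×_V W` is an étale chart of `X' = X ×_Y Y'` -/
theorem exists_chart_baseChange {X Y Y' X' : AlgSp.Sp S} (hX : IsAlgSpace X) (hY : IsAlgSpace Y)
    (f : X ⟶ Y) (g : Y' ⟶ Y) (g' : X' ⟶ X) (f' : X' ⟶ Y')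
    (sq : IsPullback g' f' f g) {U V W : Over S}
    (a : (yon S).obj U ⟶ X) (b : (yon S).obj V ⟶ Y) (h : U ⟶ V)
    (ha : RepWith @Etale a) (hb : RepWith @Etale b) (hcomm : a ≫ f = (yon S).map h ≫ b)
    (b' : (yon S).obj W ⟶ Y') (k : W ⟶ V) (hb' : RepWith @Etale b')
    (hk : b' ≫ g = (yon S).map k ≫ b) :
    ∃ a'' : (yon S).obj (pullback h k) ⟶ X', RepWith @Etale a'' ∧
      a'' ≫ g' = (yon S).map (pullback.fst h k) ≫ a ∧
      a'' ≫ f' = (yon S).map (pullback.snd h k) ≫ b' := by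
  have hP : IsPullback ((yon S).map (pullback.fst h k)) ((yon S).map (pullback.snd h k))
      ((yon S).map h) ((yon S).map k) := (IsPullback.of_hasPullback h k).map (yon S)
  have hw : ((yon S).map (pullback.fst h k) ≫ a) ≫ f =
      ((yon S).map (pullback.snd h k) ≫ b') ≫ g := by
    rw [Category.assoc, hcomm, Category.assoc, hk, ← Category.assoc, ← Category.assoc, hP.w]
  obtain ⟨a'', ha''⟩ : ∃ a'' : (yon S).obj (pullback h k) ⟶ X', a'' = sq.lift _ _ hw := ⟨_, rfl⟩
  have h1 : a'' ≫ g' = (yon S).map (pullback.fst h k) ≫ a := by rw [ha'', sq.lift_fst]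
  have h2 : a'' ≫ f' = (yon S).map (pullback.snd h k) ≫ b' := by rw [ha'', sq.lift_snd]
  refine ⟨a'', ?_, h1, h2⟩
  -- the étale map `φ : U ⟶ X ×_Y V`
  have hφ := Groth.Agent.Lib.Helper12.BaseLocal.repWith_etale_lift hX hY f a b h ha hb hcomm
  obtain ⟨φ, hφdef⟩ : ∃ φ : (yon S).obj U ⟶ pullback f b,
      φ = pullback.lift a ((yon S).map h) hcomm := ⟨_, rfl⟩
  rw [← hφdef] at hφ
  have hφ1 : φ ≫ pullback.fst f b = a := by rw [hφdef, pullback.lift_fst]
  have hφ2 : φ ≫ pullback.snd f b = (yon S).map h := by rw [hφdef, pullback.lift_snd]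
  -- `φ' : P ⟶ X' ×_{Y'} W`
  obtain ⟨φ', hφ'def⟩ : ∃ φ' : (yon S).obj (pullback h k) ⟶ pullback f' b',
      φ' = pullback.lift a'' ((yon S).map (pullback.snd h k)) h2 := ⟨_, rfl⟩
  have hφ'1 : φ' ≫ pullback.fst f' b' = a'' := by rw [hφ'def, pullback.lift_fst]
  have hφ'2 : φ' ≫ pullback.snd f' b' = (yon S).map (pullback.snd h k) := by
    rw [hφ'def, pullback.lift_snd]
  -- `ψ : X' ×_{Y'} W ⟶ X ×_Y V`
  have hψw : (pullback.fst f' b' ≫ g') ≫ f = (pullback.snd f' b' ≫ (yon S).map k) ≫ b := by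
    rw [Category.assoc, sq.w, ← Category.assoc, pullback.condition, Category.assoc, hk,
      Category.assoc]
  obtain ⟨ψ, hψdef⟩ : ∃ ψ : pullback f' b' ⟶ pullback f b,
      ψ = pullback.lift (pullback.fst f' b' ≫ g') (pullback.snd f' b' ≫ (yon S).map k) hψw :=
    ⟨_, rfl⟩
  have hψ1 : ψ ≫ pullback.fst f b = pullback.fst f' b' ≫ g' := by rw [hψdef, pullback.lift_fst]
  have hψ2 : ψ ≫ pullback.snd f b = pullback.snd f' b' ≫ (yon S).map k := by
    rw [hψdef, pullback.lift_snd]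
  -- bottom square
  have big : IsPullback (pullback.fst f' b' ≫ g') (pullback.snd f' b') f (b' ≫ g) :=
    (IsPullback.of_hasPullback f' b').paste_horiz sq
  have bot : IsPullback ψ (pullback.snd f' b') (pullback.snd f b) ((yon S).map k) := by
    refine IsPullback.of_right ?_ hψ2 (IsPullback.of_hasPullback f b)
    rw [hψ1, ← hk]
    exact big
  -- top square
  have hcommtop : (yon S).map (pullback.fst h k) ≫ φ = φ' ≫ ψ := by
    apply pullback.hom_ext
    · rw [Category.assoc, hφ1, Category.assoc, hψ1, ← Category.assoc, hφ'1, h1]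
    · rw [Category.assoc, hφ2, Category.assoc, hψ2, ← Category.assoc, hφ'2, hP.w]
  have top : IsPullback ((yon S).map (pullback.fst h k)) φ' φ ψ := by
    refine IsPullback.of_bot ?_ hcommtop bot
    rw [hφ'2, hφ2]
    exact hP
  have hφ' : RepWith @Etale φ' :=
    MorphismProperty.of_isPullback (P := AlgSp.RepWith @Etale) top hφ
  have hfst : RepWith @Etale (pullback.fst f' b') :=
    MorphismProperty.of_isPullback (P := AlgSp.RepWith @Etale)
      (IsPullback.of_hasPullback f' b').flip hb'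
  rw [← hφ'1]
  exact (repWith_isMultiplicative (S := S) @Etale).comp_mem _ _ hφ' hfst

/-- a geometric point in the class of any point of an algebraic space -/
theorem exists_geomPoint_mk (X : AlgSp.Space S) (x : Points X.obj) :
    ∃ p : FieldPt X.obj, p.IsGeometric ∧ Points.mk p = x := by
  obtain ⟨T₀, a₀, ha₀, hs₀⟩ := X.property.atlas
  obtain ⟨t₀, ht₀⟩ := exists_atlas_point a₀ hs₀ x
  obtain ⟨p, hp, l, hl, hlt⟩ := exists_geometric_lift_gen a₀ t₀
  refine ⟨p, hp, ?_⟩
  rw [← ht₀, ← hlt, ← ofPt_yon_map_comp, hl]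
  exact (Points.ofPt_toHom p _).symm

/-- **base change of the relative dimension at a point** -/
theorem main10311 {X Y Y' X' : AlgSp.Space S} (f : X ⟶ Y) (g : Y' ⟶ Y)
    (g' : X' ⟶ X) (f' : X' ⟶ Y') (sq : IsPullback g'.hom f'.hom f.hom g.hom)
    (hf : AlgSp.LocP @LocallyOfFiniteType f.hom) (x' : AlgSp.Points X'.obj) (d : WithBot ℕ∞)
    (hd : AlgSp.HasAtMor (fun _ _ h u => FlatMor.fibreDimAt h u = d) f.hom
      (AlgSp.Points.map g'.hom x')) :
    AlgSp.HasAtMor (fun _ _ h u => FlatMor.fibreDimAt h u = d) f'.hom x' := by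
  obtain ⟨p, hp, rfl⟩ := exists_geomPoint_mk X' x'
  obtain ⟨U, V, a, b, h, u, ha, hb, hcomm, hux, hdim⟩ := hd
  haveI : LocallyOfFiniteType h.left := hf a b h ha hb hcomm
  -- lift the geometric point of `X` to `U`
  have hξ : (p.map g'.hom).IsGeometric := hp
  obtain ⟨lu, hlu⟩ := exists_lift_of_ofPt_eq_mk' (p.map g'.hom) hξ (EtOver.mk a ha) u hux
  obtain ⟨ut, hut⟩ : ∃ ut : p.pt ⟶ U, ut = lu.1 := ⟨_, rfl⟩
  have hut_a : (yon S).map ut ≫ a = p.toHom ≫ g'.hom := by
    rw [hut, ← FieldPt.toHom_map]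
    exact lu.2
  have hut_u : ut.left (default : Spec (CommRingCat.of p.K)) = u := by
    rw [hut]
    exact hlu
  -- a chart of `Y'` through the image point, and a lift of the geometric point
  obtain ⟨V₀', b₀', hb₀', hsb₀'⟩ := Y'.property.atlas
  obtain ⟨v₀', hv₀'⟩ := exists_atlas_point b₀' hsb₀' (Points.mk (p.map f'.hom))
  have hη : (p.map f'.hom).IsGeometric := hp
  obtain ⟨lv, -⟩ := exists_lift_of_ofPt_eq_mk' (p.map f'.hom) hη (EtOver.mk b₀' hb₀') v₀' hv₀'
  obtain ⟨vt, hvt⟩ : ∃ vt : p.pt ⟶ V₀', vt = lv.1 := ⟨_, rfl⟩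
  have hvt_b : (yon S).map vt ≫ b₀' = p.toHom ≫ f'.hom := by
    rw [hvt, ← FieldPt.toHom_map]
    exact lv.2
  -- the chart `W = V₀' ×_Y V` of `Y'`
  have hpb := hb.1.isPullback (b₀' ≫ g.hom)
  have het : Etale (hb.1.snd (b₀' ≫ g.hom)).left := hb.2 _ _ _ hpb
  have hb' : RepWith @Etale ((yon S).map (hb.1.snd (b₀' ≫ g.hom)) ≫ b₀') :=
    (repWith_isMultiplicative (S := S) @Etale).comp_mem _ _
      ((repWith_yon_map_iff _ _).2 het) hb₀'
  have hk : ((yon S).map (hb.1.snd (b₀' ≫ g.hom)) ≫ b₀') ≫ g.hom =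
      (yon S).map (hb.1.fst' (b₀' ≫ g.hom)) ≫ b := by
    rw [Category.assoc, hb.1.map_fst']
    exact hpb.w.symm
  have hcompat : (yon S).map (ut ≫ h) ≫ b = (yon S).map vt ≫ b₀' ≫ g.hom := by
    rw [Functor.map_comp, Category.assoc, ← hcomm, ← Category.assoc, hut_a, ← Category.assoc, hvt_b,
      Category.assoc, Category.assoc, sq.w]
  obtain ⟨wt, hwt⟩ : ∃ wt : p.pt ⟶ hb.1.pullback (b₀' ≫ g.hom),
      wt = hb.1.lift' (ut ≫ h) vt hcompat := ⟨_, rfl⟩
  have hw1 : wt ≫ hb.1.snd (b₀' ≫ g.hom) = vt := by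
    rw [hwt]
    exact Functor.relativelyRepresentable.lift'_snd _ _ _ _
  have hw2 : wt ≫ hb.1.fst' (b₀' ≫ g.hom) = ut ≫ h := by
    rw [hwt]
    exact Functor.relativelyRepresentable.lift'_fst _ _ _ _
  generalize hb.1.snd (b₀' ≫ g.hom) = e at *
  generalize hb.1.fst' (b₀' ≫ g.hom) = k at *
  clear hpb hwt
  generalize hb.1.pullback (b₀' ≫ g.hom) = W at *
  -- base change of the chart diagram
  obtain ⟨a'', ha'', h1, h2⟩ := exists_chart_baseChange X.property Y.property f.hom g.hom g'.hom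
    f'.hom sq a b h ha hb hcomm _ k hb' hk
  obtain ⟨pt', hpt'⟩ : ∃ pt' : p.pt ⟶ pullback h k, pt' = pullback.lift ut wt hw2.symm := ⟨_, rfl⟩
  have hp1 : pt' ≫ pullback.fst h k = ut := by rw [hpt', pullback.lift_fst]
  have hp2 : pt' ≫ pullback.snd h k = wt := by rw [hpt', pullback.lift_snd]
  have hpa : (yon S).map pt' ≫ a'' = p.toHom := by
    apply sq.hom_ext
    · rw [Category.assoc, h1, ← Category.assoc, ← Functor.map_comp, hp1, hut_a]
    · rw [Category.assoc, h2, ← Category.assoc, ← Functor.map_comp, hp2, ← Category.assoc,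
        ← Functor.map_comp, hw1, hvt_b]
  have hsq : IsPullback (pullback.fst h k).left (pullback.snd h k).left h.left k.left :=
    (IsPullback.of_hasPullback h k).map (Over.forget S)
  refine ⟨pullback h k, W, a'', _, pullback.snd h k,
    pt'.left (default : Spec (CommRingCat.of p.K)), ha'', hb', h2, ?_, ?_⟩
  · rw [← ofPt_yon_map_comp, hpa]
    exact Points.ofPt_toHom p _
  · show FlatMor.fibreDimAt (pullback.snd h k).left
      (pt'.left (default : Spec (CommRingCat.of p.K))) = d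
    rw [Groth.Agent.Lib.Helper3.LocDimBC.fibreDimAt_eq_of_isPullback h.left k.left _ _ hsq,
      ← Scheme.Hom.comp_apply, ← Over.comp_left, hp1, hut_u]
    exact hdim

end Groth.Agent.Lib.Helper9.SpBaseChange
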