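import Mathlib
import Groth.Agent.Lib.Helper5SpGorA
import Groth.Agent.Lib.Helper9SpBaseChange
import Groth.Agent.Lib.Helper9SpChart
import Groth.Agent.Lib.Helper12FibreSpec

/-!
# Gorenstein at a point for morphisms of algebraic spaces: chart independence (helper5)

* `ChartFibLN f`: in every etale chart diagram of `f` the top arrow has locally Noetherian fibres;
* `chartFibLN_of_lft`, `chartFibLN_of_fibres`: this holds for `f` locally of finite type, and for
  `f` with locally Noetherian fibres in the sense of algebraic spaces;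
* `gorAt_chart_indep`: Gorenstein at a point does not depend on the chart diagram;
* `locPAt_gor_iff`: so it can be tested on one chart diagram.
-/

set_option autoImplicit false
set_option linter.style.haveILetI false
set_option backward.isDefEq.respectTransparency false
universe u
open CategoryTheory CategoryTheory.Limits AlgebraicGeometry Opposite

namespace Groth.Agent.Lib.Helper5.SpGorB

open AlgSp Groth.Agent.Lib.Helper5.SpGorA Groth.Agent.Lib.Helper9.SpPoint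
  Groth.Agent.Lib.Helper9.SpBaseChange

variable {S : Scheme.{u}}

/-- in every etale chart diagram of `f` the top arrow has locally Noetherian fibres -/
def ChartFibLN {X Y : Sp S} (f : X ⟶ Y) : Prop :=
  ∀ ⦃U V : Over S⦄ (a : (yon S).obj U ⟶ X) (b : (yon S).obj V ⟶ Y) (h : U ⟶ V),
    RepWith @Etale a → RepWith @Etale b → a ≫ f = (yon S).map h ≫ b → FibLN h.left

theorem chartFibLN_of_lft {X Y : Sp S} (f : X ⟶ Y) (hf : LocP @LocallyOfFiniteType f) :
    ChartFibLN f := by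
  intro U V a b h ha hb hc
  haveI : LocallyOfFiniteType h.left := hf a b h ha hb hc
  exact fibLN_of_lft h.left

theorem chartFibLN_of_fibres {X Y : Sp S} (hX : IsAlgSpace X) (hY : IsAlgSpace Y) (f : X ⟶ Y)
    (hf : ∀ (k : FieldPt Y) (Xk : Sp S) (a : Xk ⟶ X) (b : Xk ⟶ (yon S).obj k.pt),
      IsPullback a b f k.toHom → IsLocNoethSp Xk) : ChartFibLN f := by
  intro U V a b h ha hb hc v
  let kp : FieldPt Y := FieldPt.ofPt b v
  let ι : kp.pt ⟶ V := Over.homMk (V.left.fromSpecResidueField v) rfl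
  have hk : 𝟙 ((yon S).obj kp.pt) ≫ kp.toHom = (yon S).map ι ≫ b := by
    rw [Category.id_comp]
    exact FieldPt.toHom_ofPt b v
  have hLN : IsLocNoethSp (pullback f kp.toHom) :=
    hf kp _ _ _ (IsPullback.of_hasPullback f kp.toHom)
  obtain ⟨a'', ha'', -, -⟩ := exists_chart_baseChange hX hY f kp.toHom
    (pullback.fst f kp.toHom) (pullback.snd f kp.toHom) (IsPullback.of_hasPullback f kp.toHom)
    a b h ha hb hc (𝟙 _) ι (repWith_id _ _) hk
  haveI : IsLocallyNoetherian (pullback h ι).left :=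
    Groth.Agent.Lib.Helper12.FibreSpec.isLocallyNoetherian_of_chart hLN a'' ha''
  have hpb : IsPullback (pullback.fst h ι).left (pullback.snd h ι).left h.left ι.left :=
    (IsPullback.of_hasPullback h ι).map (Over.forget S)
  let e : (pullback h ι).left ≅ h.left.fiber v := hpb.isoPullback
  exact isLocallyNoetherian_of_isOpenImmersion e.inv

/-- Gorenstein at a point is independent of the chart diagram -/
theorem gorAt_chart_indep {X Y : Sp S} (hX : IsAlgSpace X) (hY : IsAlgSpace Y) (f : X ⟶ Y)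
    (HF : ChartFibLN f) {U₁ V₁ U₂ V₂ : Over S}
    (a₁ : (yon S).obj U₁ ⟶ X) (b₁ : (yon S).obj V₁ ⟶ Y) (h₁ : U₁ ⟶ V₁) (u₁ : U₁.left)
    (ha₁ : RepWith @Etale a₁) (hb₁ : RepWith @Etale b₁) (hc₁ : a₁ ≫ f = (yon S).map h₁ ≫ b₁)
    (a₂ : (yon S).obj U₂ ⟶ X) (b₂ : (yon S).obj V₂ ⟶ Y) (h₂ : U₂ ⟶ V₂) (u₂ : U₂.left)
    (ha₂ : RepWith @Etale a₂) (hb₂ : RepWith @Etale b₂) (hc₂ : a₂ ≫ f = (yon S).map h₂ ≫ b₂)
    (hpt : Points.ofPt a₁ u₁ = Points.ofPt a₂ u₂)
    (H : Dual3.IsGorensteinAt h₁.left u₁) : Dual3.IsGorensteinAt h₂.left u₂ := by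
  -- common refinement of the sources
  let A₂ : EtOver X := EtOver.mk a₂ ha₂
  obtain ⟨z, hz1, hz2⟩ := exists_point_pullback a₁ A₂ u₁ u₂ hpt
  let P : Over S := ha₂.1.pullback a₁
  let e₁ : P ⟶ U₁ := ha₂.1.snd a₁
  let e₂ : P ⟶ U₂ := ha₂.1.fst' a₁
  have hpb : IsPullback ((yon S).map e₂) ((yon S).map e₁) a₂ a₁ := by
    have := ha₂.1.isPullback a₁
    rwa [← ha₂.1.map_fst'] at this
  haveI het1 : Etale e₁.left := ha₂.2 a₁ _ _ (ha₂.1.isPullback a₁)
  haveI het2 : Etale e₂.left := ha₁.2 a₂ _ _ hpb.flip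
  -- common refinement of the targets
  let Q : Over S := hb₂.1.pullback b₁
  let q₁ : Q ⟶ V₁ := hb₂.1.snd b₁
  let q₂ : Q ⟶ V₂ := hb₂.1.fst' b₁
  have hqb : IsPullback ((yon S).map q₂) ((yon S).map q₁) b₂ b₁ := by
    have := hb₂.1.isPullback b₁
    rwa [← hb₂.1.map_fst'] at this
  haveI hq1 : Etale q₁.left := hb₂.2 b₁ _ _ (hb₂.1.isPullback b₁)
  haveI hq2 : Etale q₂.left := hb₁.2 b₂ _ _ hqb.flip
  -- the map `P ⟶ Q`
  have hw : (yon S).map (e₂ ≫ h₂) ≫ b₂ = (yon S).map (e₁ ≫ h₁) ≫ b₁ := by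
    rw [Functor.map_comp, Functor.map_comp, Category.assoc, Category.assoc, ← hc₂, ← hc₁,
      ← Category.assoc, ← Category.assoc, hpb.w]
  obtain ⟨m', hm'⟩ : ∃ m' : (yon S).obj P ⟶ (yon S).obj Q, m' = hqb.lift _ _ hw := ⟨_, rfl⟩
  obtain ⟨m, rfl⟩ := (yon S).map_surjective m'
  have hm1 : m ≫ q₂ = e₂ ≫ h₂ := by
    apply (yon S).map_injective
    rw [Functor.map_comp, hm', hqb.lift_fst]
  have hm2 : m ≫ q₁ = e₁ ≫ h₁ := by
    apply (yon S).map_injective
    rw [Functor.map_comp, hm', hqb.lift_snd]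
  have hm1' : m.left ≫ q₂.left = e₂.left ≫ h₂.left := by
    rw [← Over.comp_left, ← Over.comp_left, hm1]
  have hm2' : m.left ≫ q₁.left = e₁.left ≫ h₁.left := by
    rw [← Over.comp_left, ← Over.comp_left, hm2]
  -- charts
  have haP : RepWith @Etale ((yon S).map e₁ ≫ a₁) :=
    (repWith_isMultiplicative (S := S) @Etale).comp_mem _ _
      ((repWith_yon_map_iff _ _).2 het1) ha₁
  have hbQ : RepWith @Etale ((yon S).map q₁ ≫ b₁) :=
    (repWith_isMultiplicative (S := S) @Etale).comp_mem _ _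
      ((repWith_yon_map_iff _ _).2 hq1) hb₁
  have hcPQ : ((yon S).map e₁ ≫ a₁) ≫ f = (yon S).map m ≫ ((yon S).map q₁ ≫ b₁) := by
    rw [Category.assoc, hc₁, ← Category.assoc, ← Category.assoc, ← Functor.map_comp,
      ← Functor.map_comp, hm2]
  have hcPV₁ : ((yon S).map e₁ ≫ a₁) ≫ f = (yon S).map (e₁ ≫ h₁) ≫ b₁ := by
    rw [Category.assoc, hc₁, ← Category.assoc, ← Functor.map_comp]
  have hcPV₂ : ((yon S).map e₁ ≫ a₁) ≫ f = (yon S).map (e₂ ≫ h₂) ≫ b₂ := by
    rw [hcPV₁, hw]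
  have hbQ2 : (yon S).map q₁ ≫ b₁ = (yon S).map q₂ ≫ b₂ := hqb.w.symm
  -- fibres
  have F1 : FibLN h₁.left := HF a₁ b₁ h₁ ha₁ hb₁ hc₁
  have F2 : FibLN h₂.left := HF a₂ b₂ h₂ ha₂ hb₂ hc₂
  have F1' : FibLN (e₁.left ≫ h₁.left) := by
    have := HF _ b₁ (e₁ ≫ h₁) haP hb₁ hcPV₁
    rwa [Over.comp_left] at this
  have F2' : FibLN (e₂.left ≫ h₂.left) := by
    have := HF _ b₂ (e₂ ≫ h₂) haP hb₂ hcPV₂
    rwa [Over.comp_left] at this
  have Fm : FibLN m.left := HF _ _ m haP hbQ hcPQ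
  -- the pullback charts for postcomposition
  have key : ∀ {V' : Over S} (b' : (yon S).obj V' ⟶ Y) (hb' : RepWith @Etale b') (q : Q ⟶ V')
      (hq : Etale q.left) (hqb' : (yon S).map q ≫ b' = (yon S).map q₁ ≫ b₁),
      FibLN (pullback.snd (m.left ≫ q.left) q.left) := by
    intro V' b' hb' q hq hqb'
    have hsq : IsPullback (pullback.fst (m ≫ q) q).left (pullback.snd (m ≫ q) q).left
        (m ≫ q).left q.left := (IsPullback.of_hasPullback (m ≫ q) q).map (Over.forget S)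
    haveI : Etale (pullback.fst (m ≫ q) q).left :=
      MorphismProperty.of_isPullback (P := @Etale) hsq.flip hq
    have haR : RepWith @Etale ((yon S).map (pullback.fst (m ≫ q) q) ≫ ((yon S).map e₁ ≫ a₁)) :=
      (repWith_isMultiplicative (S := S) @Etale).comp_mem _ _
        ((repWith_yon_map_iff _ _).2 inferInstance) haP
    have hcR : ((yon S).map (pullback.fst (m ≫ q) q) ≫ ((yon S).map e₁ ≫ a₁)) ≫ f =
        (yon S).map (pullback.snd (m ≫ q) q) ≫ ((yon S).map q₁ ≫ b₁) := by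
      rw [Category.assoc, hcPQ, ← hqb', ← Category.assoc, ← Category.assoc, ← Category.assoc,
        ← Functor.map_comp, ← Functor.map_comp, ← Functor.map_comp, Category.assoc,
        pullback.condition]
    have hF := HF _ _ (pullback.snd (m ≫ q) q) haR hbQ hcR
    have hsnd : pullback.snd (m.left ≫ q.left) q.left =
        hsq.isoPullback.inv ≫ (pullback.snd (m ≫ q) q).left :=
      (hsq.isoPullback_inv_snd).symm
    rw [hsnd]
    exact fibLN_precomp _ _ hF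
  -- step 1
  have G1 : Dual3.IsGorensteinAt (e₁.left ≫ h₁.left) z :=
    (gorAt_precomp_iff e₁.left h₁.left F1 F1' z).mpr (by rw [hz1]; exact H)
  rw [← hm2'] at G1 F1'
  have G2 : Dual3.IsGorensteinAt m.left z :=
    (gorAt_postcomp_iff m.left q₁.left Fm F1' (key b₁ hb₁ q₁ hq1 rfl) z).mp G1
  rw [← hm1'] at F2'
  have G3 : Dual3.IsGorensteinAt (m.left ≫ q₂.left) z :=
    (gorAt_postcomp_iff m.left q₂.left Fm F2' (key b₂ hb₂ q₂ hq2 hqb.w) z).mpr G2
  rw [hm1'] at G3 F2'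
  have G4 := (gorAt_precomp_iff e₂.left h₂.left F2 F2' z).mp G3
  have hz2' : e₂.left z = u₂ := hz2
  rw [hz2'] at G4
  exact G4

/-- Gorenstein at a point can be tested on one chart diagram through the point -/
theorem locPAt_gor_iff {X Y : Sp S} (hX : IsAlgSpace X) (hY : IsAlgSpace Y) (f : X ⟶ Y)
    (HF : ChartFibLN f) {U V : Over S}
    (a : (yon S).obj U ⟶ X) (b : (yon S).obj V ⟶ Y) (h : U ⟶ V) (u : U.left)
    (ha : RepWith @Etale a) (hb : RepWith @Etale b) (hc : a ≫ f = (yon S).map h ≫ b)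
    {x : Points X} (hx : Points.ofPt a u = x) :
    LocPAt (fun h u => Dual3.IsGorensteinAt h u) f x ↔ Dual3.IsGorensteinAt h.left u :=
  ⟨fun H => H a b h u ha hb hc hx, fun H U' V' a' b' h' u' ha' hb' hc' hpt =>
    gorAt_chart_indep hX hY f HF a b h u ha hb hc a' b' h' u' ha' hb' hc' (hx.trans hpt.symm) H⟩

/-- the image point of a chart diagram -/
theorem ofPt_target {X Y : Sp S} (f : X ⟶ Y) {U V : Over S}
    (a : (yon S).obj U ⟶ X) (b : (yon S).obj V ⟶ Y) (h : U ⟶ V) (u : U.left)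
    (hc : a ≫ f = (yon S).map h ≫ b) :
    Points.ofPt b (h.left u) = Points.map f (Points.ofPt a u) := by
  rw [Points.map_ofPt, hc, ofPt_yon_map_comp]

/-- compatible chart diagrams of `f` and `g` through a point -/
theorem exists_diagram_comp {X Y Z : Sp S} (hX : IsAlgSpace X) (hY : IsAlgSpace Y)
    (hZ : IsAlgSpace Z) (f : X ⟶ Y) (g : Y ⟶ Z) (x : Points X) :
    ∃ (U V W : Over S) (a : (yon S).obj U ⟶ X) (b : (yon S).obj V ⟶ Y) (c : (yon S).obj W ⟶ Z)
      (μ : U ⟶ V) (k : V ⟶ W) (u : U.left), RepWith @Etale a ∧ RepWith @Etale b ∧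
      RepWith @Etale c ∧ RepWith @Surjective c ∧ a ≫ f = (yon S).map μ ≫ b ∧
      b ≫ g = (yon S).map k ≫ c ∧ Points.ofPt a u = x := by
  obtain ⟨U₀, a₀, ha₀, has₀⟩ := hX.atlas
  obtain ⟨V₀, b₀, hb₀, hbs₀⟩ := hY.atlas
  obtain ⟨W, c, hc, hcs⟩ := hZ.atlas
  obtain ⟨u₀, hu₀⟩ := exists_atlas_point a₀ has₀ x
  obtain ⟨v₀, hv₀⟩ := exists_atlas_point b₀ hbs₀ (Points.ofPt (a₀ ≫ f) u₀)
  obtain ⟨V, eV, k, z, heV, hb, hck, hz⟩ := exists_chart_diagram_atlas g b₀ hb₀ v₀ c hc hcs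
  have hzpt : Points.ofPt (a₀ ≫ f) u₀ = Points.ofPt ((yon S).map eV ≫ b₀) z := by
    rw [ofPt_yon_map_comp, hz, hv₀]
  obtain ⟨U, eU, μ, z', heU, ha, hcμ, hz'1, hz'2⟩ :=
    exists_chart_diagram f a₀ ha₀ u₀ ((yon S).map eV ≫ b₀) hb z hzpt
  refine ⟨U, V, W, (yon S).map eU ≫ a₀, (yon S).map eV ≫ b₀, c, μ, k, z', ha, hb, hc, hcs, hcμ,
    hck, ?_⟩
  rw [ofPt_yon_map_comp, hz'1, hu₀]

end Groth.Agent.Lib.Helper5.SpGorB
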