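import Mathlib
import Groth.Agent.Lib.Helper5SpGorB
import Groth.Agent.S9874

/-!
# Chart diagrams of a base change of algebraic spaces, through a point (helper5)

* `repWith_chart_baseChange`: the base change of a chart diagram of `f` along a chart of `g` is a
  chart of `X' = X ×_Y Y'` with any property `P` (stable under base change and composition) shared
  by the chart of `X ×_Y V` and the chart of `Y'`;
* `exists_diagram_baseChange`: chart diagrams of `f`, `g` and `f'` forming a cartesian square of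
  schemes, through a prescribed point of `|X'|`;
* `fibres_baseChange`: the fibres of a base change are fibres of the original morphism.
-/

set_option autoImplicit false
set_option linter.style.haveILetI false
set_option backward.isDefEq.respectTransparency false
universe u
open CategoryTheory CategoryTheory.Limits AlgebraicGeometry Opposite

namespace Groth.Agent.Lib.Helper5.SpGorC

open AlgSp Groth.Agent.Lib.Helper5.SpGorA Groth.Agent.Lib.Helper5.SpGorB
  Groth.Agent.Lib.Helper9.SpPoint

variable {S : Scheme.{u}}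

/-- base change of a chart diagram of `f` along a chart of `g` over the target chart -/
theorem repWith_chart_baseChange (P : MorphismProperty Scheme.{u}) [P.IsStableUnderBaseChange]
    [P.IsMultiplicative] {X Y Y' X' : AlgSp.Sp S}
    (f : X ⟶ Y) (g : Y' ⟶ Y) (g' : X' ⟶ X) (f' : X' ⟶ Y')
    (sq : IsPullback g' f' f g) {U V W : Over S}
    (a : (yon S).obj U ⟶ X) (b : (yon S).obj V ⟶ Y) (h : U ⟶ V)
    (hcomm : a ≫ f = (yon S).map h ≫ b)
    (hφ : RepWith P (pullback.lift a ((yon S).map h) hcomm))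
    (b' : (yon S).obj W ⟶ Y') (k : W ⟶ V) (hb' : RepWith P b')
    (hk : b' ≫ g = (yon S).map k ≫ b)
    (a'' : (yon S).obj (pullback h k) ⟶ X')
    (h1 : a'' ≫ g' = (yon S).map (pullback.fst h k) ≫ a)
    (h2 : a'' ≫ f' = (yon S).map (pullback.snd h k) ≫ b') : RepWith P a'' := by
  have hP : IsPullback ((yon S).map (pullback.fst h k)) ((yon S).map (pullback.snd h k))
      ((yon S).map h) ((yon S).map k) := (IsPullback.of_hasPullback h k).map (yon S)
  obtain ⟨φ, hφdef⟩ : ∃ φ : (yon S).obj U ⟶ pullback f b,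
      φ = pullback.lift a ((yon S).map h) hcomm := ⟨_, rfl⟩
  rw [← hφdef] at hφ
  have hφ1 : φ ≫ pullback.fst f b = a := by rw [hφdef, pullback.lift_fst]
  have hφ2 : φ ≫ pullback.snd f b = (yon S).map h := by rw [hφdef, pullback.lift_snd]
  obtain ⟨φ', hφ'def⟩ : ∃ φ' : (yon S).obj (pullback h k) ⟶ pullback f' b',
      φ' = pullback.lift a'' ((yon S).map (pullback.snd h k)) h2 := ⟨_, rfl⟩
  have hφ'1 : φ' ≫ pullback.fst f' b' = a'' := by rw [hφ'def, pullback.lift_fst]
  have hφ'2 : φ' ≫ pullback.snd f' b' = (yon S).map (pullback.snd h k) := by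
    rw [hφ'def, pullback.lift_snd]
  have hψw : (pullback.fst f' b' ≫ g') ≫ f = (pullback.snd f' b' ≫ (yon S).map k) ≫ b := by
    rw [Category.assoc, sq.w, ← Category.assoc, pullback.condition, Category.assoc, hk,
      Category.assoc]
  obtain ⟨ψ, hψdef⟩ : ∃ ψ : pullback f' b' ⟶ pullback f b,
      ψ = pullback.lift (pullback.fst f' b' ≫ g') (pullback.snd f' b' ≫ (yon S).map k) hψw :=
    ⟨_, rfl⟩
  have hψ1 : ψ ≫ pullback.fst f b = pullback.fst f' b' ≫ g' := by rw [hψdef, pullback.lift_fst]
  have hψ2 : ψ ≫ pullback.snd f b = pullback.snd f' b' ≫ (yon S).map k := by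
    rw [hψdef, pullback.lift_snd]
  have big : IsPullback (pullback.fst f' b' ≫ g') (pullback.snd f' b') f (b' ≫ g) :=
    (IsPullback.of_hasPullback f' b').paste_horiz sq
  have bot : IsPullback ψ (pullback.snd f' b') (pullback.snd f b) ((yon S).map k) := by
    refine IsPullback.of_right ?_ hψ2 (IsPullback.of_hasPullback f b)
    rw [hψ1, ← hk]
    exact big
  have hcommtop : (yon S).map (pullback.fst h k) ≫ φ = φ' ≫ ψ := by
    apply pullback.hom_ext
    · rw [Category.assoc, hφ1, Category.assoc, hψ1, ← Category.assoc, hφ'1, h1]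
    · rw [Category.assoc, hφ2, Category.assoc, hψ2, ← Category.assoc, hφ'2, hP.w]
  have top : IsPullback ((yon S).map (pullback.fst h k)) φ' φ ψ := by
    refine IsPullback.of_bot ?_ hcommtop bot
    rw [hφ'2, hφ2]
    exact hP
  have hφ' : RepWith P φ' :=
    MorphismProperty.of_isPullback (P := AlgSp.RepWith P) top hφ
  have hfst : RepWith P (pullback.fst f' b') :=
    MorphismProperty.of_isPullback (P := AlgSp.RepWith P)
      (IsPullback.of_hasPullback f' b').flip hb'
  rw [← hφ'1]
  exact (repWith_isMultiplicative (S := S) P).comp_mem _ _ hφ' hfst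

/-- chart diagrams of `f`, `g`, `f'` forming a cartesian square of schemes, through a prescribed
point of `|X'|` -/
theorem exists_diagram_baseChange {X Y Y' X' : AlgSp.Sp S} (hX : IsAlgSpace X)
    (hY : IsAlgSpace Y) (hY' : IsAlgSpace Y')
    (f : X ⟶ Y) (g : Y' ⟶ Y) (g' : X' ⟶ X) (f' : X' ⟶ Y')
    (sq : IsPullback g' f' f g) (x' : Points X') :
    ∃ (U V W : Over S) (a : (yon S).obj U ⟶ X) (b : (yon S).obj V ⟶ Y) (h : U ⟶ V)
      (b' : (yon S).obj W ⟶ Y') (k : W ⟶ V) (a'' : (yon S).obj (pullback h k) ⟶ X')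
      (p : (pullback h k).left),
      RepWith @Etale a ∧ RepWith @Etale b ∧ RepWith @Etale b' ∧ RepWith @Etale a'' ∧
      a ≫ f = (yon S).map h ≫ b ∧ b' ≫ g = (yon S).map k ≫ b ∧
      a'' ≫ g' = (yon S).map (pullback.fst h k) ≫ a ∧
      a'' ≫ f' = (yon S).map (pullback.snd h k) ≫ b' ∧ Points.ofPt a'' p = x' := by
  obtain ⟨V, b, hb, hbs⟩ := hY.atlas
  have hQ : IsAlgSpace (pullback f b) :=
    Groth.Agent.S9874.isAlgSpace_of_isPullback hY.diag hX (IsAlgSpace.yon_obj V)
      (IsPullback.of_hasPullback f b)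
  have hR : IsAlgSpace (pullback g b) :=
    Groth.Agent.S9874.isAlgSpace_of_isPullback hY.diag hY' (IsAlgSpace.yon_obj V)
      (IsPullback.of_hasPullback g b)
  obtain ⟨U, φ, hφe, hφs⟩ := hQ.atlas
  obtain ⟨W, ω, hωe, hωs⟩ := hR.atlas
  obtain ⟨h, hh⟩ := (yon S).map_surjective (φ ≫ pullback.snd f b)
  obtain ⟨k, hk'⟩ := (yon S).map_surjective (ω ≫ pullback.snd g b)
  have hfe : RepWith @Etale (pullback.fst f b) :=
    MorphismProperty.of_isPullback (P := AlgSp.RepWith @Etale)
      (IsPullback.of_hasPullback f b).flip hb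
  have hge : RepWith @Etale (pullback.fst g b) :=
    MorphismProperty.of_isPullback (P := AlgSp.RepWith @Etale)
      (IsPullback.of_hasPullback g b).flip hb
  have hgs : RepWith @Surjective (pullback.fst g b) :=
    MorphismProperty.of_isPullback (P := AlgSp.RepWith @Surjective)
      (IsPullback.of_hasPullback g b).flip hbs
  have ha : RepWith @Etale (φ ≫ pullback.fst f b) :=
    (repWith_isMultiplicative (S := S) @Etale).comp_mem _ _ hφe hfe
  have hb'e : RepWith @Etale (ω ≫ pullback.fst g b) :=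
    (repWith_isMultiplicative (S := S) @Etale).comp_mem _ _ hωe hge
  have hb's : RepWith @Surjective (ω ≫ pullback.fst g b) :=
    (repWith_isMultiplicative (S := S) @Surjective).comp_mem _ _ hωs hgs
  have hcomm : (φ ≫ pullback.fst f b) ≫ f = (yon S).map h ≫ b := by
    rw [Category.assoc, pullback.condition, ← Category.assoc, hh]
  have hk : (ω ≫ pullback.fst g b) ≫ g = (yon S).map k ≫ b := by
    rw [Category.assoc, pullback.condition, ← Category.assoc, hk']
  have hlift : pullback.lift (φ ≫ pullback.fst f b) ((yon S).map h) hcomm = φ := by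
    apply pullback.hom_ext
    · rw [pullback.lift_fst]
    · rw [pullback.lift_snd, hh]
  have hP : IsPullback ((yon S).map (pullback.fst h k)) ((yon S).map (pullback.snd h k))
      ((yon S).map h) ((yon S).map k) := (IsPullback.of_hasPullback h k).map (yon S)
  have hw : ((yon S).map (pullback.fst h k) ≫ (φ ≫ pullback.fst f b)) ≫ f =
      ((yon S).map (pullback.snd h k) ≫ (ω ≫ pullback.fst g b)) ≫ g := by
    rw [Category.assoc, hcomm, Category.assoc, hk, ← Category.assoc, ← Category.assoc, hP.w]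
  obtain ⟨a'', ha''⟩ : ∃ a'' : (yon S).obj (pullback h k) ⟶ X', a'' = sq.lift _ _ hw := ⟨_, rfl⟩
  have h1 : a'' ≫ g' = (yon S).map (pullback.fst h k) ≫ (φ ≫ pullback.fst f b) := by
    rw [ha'', sq.lift_fst]
  have h2 : a'' ≫ f' = (yon S).map (pullback.snd h k) ≫ (ω ≫ pullback.fst g b) := by
    rw [ha'', sq.lift_snd]
  have hae : RepWith @Etale a'' :=
    repWith_chart_baseChange @Etale f g g' f' sq _ b h hcomm (by rw [hlift]; exact hφe) _ k hb'e
      hk a'' h1 h2
  have has : RepWith @Surjective a'' :=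
    repWith_chart_baseChange @Surjective f g g' f' sq _ b h hcomm (by rw [hlift]; exact hφs) _ k
      hb's hk a'' h1 h2
  obtain ⟨p, hp⟩ := exists_atlas_point a'' has x'
  exact ⟨U, V, W, _, b, h, _, k, a'', p, ha, hb, hb'e, hae, hcomm, hk, h1, h2, hp⟩

/-- the fibres of a base change are fibres of the original morphism -/
theorem fibres_baseChange {X Y Y' X' : AlgSp.Sp S}
    (f : X ⟶ Y) (g : Y' ⟶ Y) (g' : X' ⟶ X) (f' : X' ⟶ Y') (sq : IsPullback g' f' f g)
    (hf : ∀ (k : FieldPt Y) (Xk : Sp S) (a : Xk ⟶ X) (b : Xk ⟶ (yon S).obj k.pt),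
      IsPullback a b f k.toHom → IsLocNoethSp Xk) :
    ∀ (k : FieldPt Y') (Xk : Sp S) (a : Xk ⟶ X') (b : Xk ⟶ (yon S).obj k.pt),
      IsPullback a b f' k.toHom → IsLocNoethSp Xk := by
  intro k Xk a b hsq
  have big : IsPullback (a ≫ g') b f (k.toHom ≫ g) := hsq.paste_horiz sq
  rw [← FieldPt.toHom_map] at big
  exact hf (k.map g) Xk (a ≫ g') b big

end Groth.Agent.Lib.Helper5.SpGorC
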