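import Mathlib
import Groth.Agent.Lib.Helper5RelCartA
import Groth.Agent.Lib.Helper5SpGorC
import Groth.Agent.Lib.Helper12EffCartier7

/-!
# Base change of relative effective Cartier divisors on algebraic spaces (helper5)

* `exists_pointed_chart_of_chart`: from a chart of an effective Cartier divisor with effective
  Cartier ideal sheaf to an affine pointed chart with a global equation;
* `isEffCartierSub_baseChange_of_flat_over_base`: an effective Cartier divisor `D ⟶ X` which is
  flat over `Y` stays an effective Cartier divisor after every base change `Y' ⟶ Y`.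
-/

set_option autoImplicit false
set_option linter.style.haveILetI false
universe u
open CategoryTheory CategoryTheory.Limits AlgebraicGeometry Opposite

namespace Groth.Agent.Lib.Helper5.RelCartB

open AlgSp Groth.Agent.Lib.Helper12.EffCartier Groth.Agent.Lib.Helper12.IdealEt
  Groth.Agent.Lib.Helper5.RelCartA Groth.Agent.Lib.Helper5.SpGorC

variable {S : Scheme.{u}}

/-- from a chart of a closed subspace with effective Cartier ideal sheaf to an affine pointed chart
with a global equation -/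
theorem exists_pointed_chart_of_chart {X D : AlgSp.Sp S} (i : D ⟶ X)
    (hi : AlgSp.RepWith @IsClosedImmersion i) {V : Over S} (φ : (AlgSp.yon S).obj V ⟶ X)
    (hφe : AlgSp.RepWith @Etale φ) (K : V.left.IdealSheafData)
    (fstK : (AlgSp.yon S).obj (Over.mk (K.subschemeι ≫ V.hom)) ⟶ D)
    (sqK : IsPullback fstK ((AlgSp.yon S).map
      (Over.homMk K.subschemeι rfl : Over.mk (K.subschemeι ≫ V.hom) ⟶ V)) i φ)
    (hK : BlowUp.IsEffCartierIdeal K) (v : V.left) :
    ∃ (U : Over S) (_ : IsAffine U.left) (a : (AlgSp.yon S).obj U ⟶ X) (u : ↥U.left)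
      (f : Γ(U.left, ⊤)) (I : U.left.IdealSheafData)
      (fst : (AlgSp.yon S).obj (Over.mk (I.subschemeι ≫ U.hom)) ⟶ D),
      AlgSp.RepWith @Etale a ∧ AlgSp.Points.ofPt a u = AlgSp.Points.ofPt φ v ∧
        f ∈ nonZeroDivisors Γ(U.left, ⊤) ∧
        I.ideal ⟨⊤, isAffineOpen_top U.left⟩ = Ideal.span {f} ∧
        IsPullback fst ((AlgSp.yon S).map
          (Over.homMk I.subschemeι rfl : Over.mk (I.subschemeι ≫ U.hom) ⟶ U)) i a := by
  obtain ⟨O, hvO, f, hf, hO⟩ := hK v
  haveI hUaff : IsAffine (openOver V O.1).left := O.2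
  have hKker : ∀ (P' : Over S) (π' : P' ⟶ openOver V O.1) (fst' : (AlgSp.yon S).obj P' ⟶ D),
      IsPullback fst' ((AlgSp.yon S).map π') i ((AlgSp.yon S).map (openOverι V O.1) ≫ φ) →
      π'.left.ker = K.comap O.1.ι := by
    intro P' π' fst' sq'
    obtain ⟨C, c, d, sqC, hC⟩ := exists_pullback_of_chart i φ
      (Over.homMk K.subschemeι rfl : Over.mk (K.subschemeι ≫ V.hom) ⟶ V) fstK sqK
      (openOverι V O.1)
    rw [ker_eq_of_isPullback i _ π' c fst' d sq' sqC, hC]
    rfl
  obtain ⟨fst, sq⟩ := exists_isPullback_subschemeι hi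
    ((AlgSp.yon S).map (openOverι V O.1) ≫ φ) (K.comap O.1.ι) hKker
  refine ⟨openOver V O.1, hUaff, (AlgSp.yon S).map (openOverι V O.1) ≫ φ, ⟨v, hvO⟩,
    O.1.topIso.inv.hom f, K.comap O.1.ι, fst, (chartOfOpen φ hφe O.1).property, ?_, ?_, ?_, sq⟩
  · rw [Groth.Agent.S10176.ofPt_map_comp]
    rfl
  · exact map_mem_nonZeroDivisors_of_flat _
      (RingHom.Flat.of_bijective (ConcreteCategory.bijective_of_isIso O.1.topIso.inv)) hf
  · rw [ideal_comap_ι_top, hO, Ideal.map_span, Set.image_singleton]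
    rfl

/-- an effective Cartier divisor `D ⟶ X` flat over `Y` stays effective Cartier after base change
along any `Y' ⟶ Y` -/
theorem isEffCartierSub_baseChange_of_flat_over_base {X Y D Y' X' D' : AlgSp.Sp S}
    (hX : IsAlgSpace X) (hY : IsAlgSpace Y) (hY' : IsAlgSpace Y') (hX' : IsAlgSpace X')
    (f : X ⟶ Y) (i : D ⟶ X) (hD : IsEffCartierSub i) (hflat : LocP @Flat (i ≫ f))
    (g : Y' ⟶ Y) (g' : X' ⟶ X) (f' : X' ⟶ Y') (sqX : IsPullback g' f' f g)
    (k : D' ⟶ D) (i' : D' ⟶ X') (sqD : IsPullback k i' i g') : IsEffCartierSub i' := by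
  have hi := hD.1
  have hi' : RepWith @IsClosedImmersion i' :=
    MorphismProperty.of_isPullback (P := AlgSp.RepWith @IsClosedImmersion) sqD hi
  refine isEffCartierSub_of_pointed_charts hX' i' hi' (fun x' => ?_)
  obtain ⟨U, V, W, a, b, h, b', kk, a'', p, ha, hb, hb', ha'', hc1, hc2, hc3, hc4, hp⟩ :=
    exists_diagram_baseChange hX hY hY' f g g' f' sqX (Points.map i' x')
  obtain ⟨P, π, fstP, sqP⟩ := hi.1 a
  haveI : IsClosedImmersion π.left := hi.2 a fstP π sqP
  obtain ⟨I, fstI, sqI⟩ : ∃ (I : U.left.IdealSheafData)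
      (fstI : (yon S).obj (Over.mk (I.subschemeι ≫ U.hom)) ⟶ D),
      IsPullback fstI ((yon S).map
        (Over.homMk I.subschemeι rfl : Over.mk (I.subschemeι ≫ U.hom) ⟶ U)) i a := by
    obtain ⟨fstI, sqI⟩ := exists_isPullback_subschemeι hi a π.left.ker
      (fun P' π' fst' sq' => ker_eq_of_isPullback i a π' π fst' fstP sq' sqP)
    exact ⟨_, fstI, sqI⟩
  have hIC : BlowUp.IsEffCartierIdeal I :=
    (isEffCartierSub_iff_forall_chart hX i hi).mp hD U a ha I fstI sqI
  have hfstI : RepWith @Etale fstI :=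
    MorphismProperty.of_isPullback (P := AlgSp.RepWith @Etale) sqI.flip ha
  obtain ⟨ι, hι⟩ : ∃ ι : Over.mk (I.subschemeι ≫ U.hom) ⟶ U, ι = Over.homMk I.subschemeι rfl :=
    ⟨_, rfl⟩
  rw [← hι] at sqI
  have hcommD : fstI ≫ (i ≫ f) = (yon S).map (ι ≫ h) ≫ b := by
    rw [← Category.assoc, sqI.w, Category.assoc, hc1, Functor.map_comp, Category.assoc]
  haveI hfl : Flat (I.subschemeι ≫ h.left) := by
    have := hflat fstI b (ι ≫ h) hfstI hb hcommD
    rw [Over.comp_left, hι] at this
    exact this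
  have sqS : IsPullback (pullback.fst h kk).left (pullback.snd h kk).left h.left kk.left :=
    (IsPullback.of_hasPullback h kk).map (Over.forget S)
  have hI' := isEffCartierIdeal_comap_of_flat_over_base sqS I hIC
  have hK' : ∀ (P' : Over S) (π' : P' ⟶ pullback h kk) (fst' : (yon S).obj P' ⟶ D'),
      IsPullback fst' ((yon S).map π') i' a'' →
      π'.left.ker = I.comap (pullback.fst h kk).left := by
    intro P' π' fst' sq'
    have big : IsPullback (fst' ≫ k) ((yon S).map π') i (a'' ≫ g') := sq'.paste_horiz sqD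
    rw [hc3] at big
    obtain ⟨C, c, d, sqC, hC⟩ := exists_pullback_of_chart i a ι fstI sqI (pullback.fst h kk)
    rw [ker_eq_of_isPullback i _ π' c (fst' ≫ k) d big sqC, hC, hι]
    rfl
  obtain ⟨fst', sq'⟩ := exists_isPullback_subschemeι hi' a''
    (I.comap (pullback.fst h kk).left) hK'
  obtain ⟨U₀, hU₀, a₀, u₀, f₀, I₀, fst₀, h1, h2, h3, h4, h5⟩ :=
    exists_pointed_chart_of_chart i' hi' a'' ha'' _ fst' sq' hI' p
  exact ⟨U₀, hU₀, a₀, u₀, f₀, I₀, fst₀, h1, h2.trans hp, h3, h4, h5⟩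

end Groth.Agent.Lib.Helper5.RelCartB
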