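import Mathlib
import Groth.Prelude.Def_RegImm
import Groth.Agent.Lib.Helper5ImmStalk
import Groth.Agent.Lib.Helper5QuasiRegImm
import Groth.Agent.Lib.Helper2NzdFlat

/-!
# Flatness of `X/S` at points of a relative quasi-regular immersion with Noetherian local ring
(helper5)
-/

set_option autoImplicit false
set_option linter.style.haveILetI false
universe u

open AlgebraicGeometry CategoryTheory CategoryTheory.Limits TopologicalSpace
open RingTheory.Sequence IsLocalRing

namespace Groth.Agent.Lib.Helper5.RelQuasiFlat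

open Groth.Agent.Lib.Helper5.RegSeq Groth.Agent.Lib.Helper5.ImmBC
  Groth.Agent.Lib.Helper5.QuasiRegFlat Groth.Agent.Lib.Helper5.QuasiRegImm
  Groth.Agent.Lib.Helper5.ImmStalk

section Ring

set_option maxHeartbeats 800000 in
/-- Noetherian local `L`, a regular sequence in the maximal ideal with `A`-flat quotient: then `L`
is `A`-flat. -/
theorem flat_of_isWeaklyRegular_of_flat_quotient {A L : Type u} [CommRing A] [CommRing L]
    [Algebra A L] [IsNoetherianRing L] [IsLocalRing L] (rs : List L)
    (hm : ∀ r ∈ rs, r ∈ maximalIdeal L) (hreg : IsWeaklyRegular L rs)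
    (hflat : Module.Flat A (L ⧸ Ideal.ofList rs)) : Module.Flat A L := by
  have hreg' := (regOn_iff_take ⊥ rs).mp ((isWeaklyRegular_iff_regOn rs).mp hreg)
  have hle : ∀ k, Ideal.ofList (rs.take k) ≤ maximalIdeal L := by
    intro k
    rw [Ideal.ofList, Ideal.span_le]
    intro r hr
    exact hm r (List.mem_of_mem_take hr)
  have key : ∀ k, k ≤ rs.length →
      Module.Flat A (L ⧸ Ideal.ofList (rs.take (rs.length - k))) := by
    intro k
    induction k with
    | zero =>
      intro _
      rw [Nat.sub_zero, List.take_length]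
      exact hflat
    | succ k ih =>
      intro hk
      have ih' := ih (Nat.le_of_succ_le hk)
      obtain ⟨i, hi⟩ : ∃ i, i = rs.length - (k + 1) := ⟨_, rfl⟩
      have hi1 : rs.length - k = i + 1 := by omega
      have hilt : i < rs.length := by omega
      rw [hi1] at ih'
      rw [← hi]
      obtain ⟨I, hI⟩ : ∃ I : Ideal L, I = Ideal.ofList (rs.take i) := ⟨_, rfl⟩
      have hI1 : Ideal.ofList (rs.take (i + 1)) = I ⊔ Ideal.span {rs[i]} := by
        rw [List.take_succ_eq_append_getElem hilt, Ideal.ofList_append, Ideal.ofList_singleton,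
          hI]
      rw [hI1] at ih'
      rw [← hI]
      have hIle : I ≤ maximalIdeal L := hI ▸ hle i
      haveI : Nontrivial (L ⧸ I) :=
        Ideal.Quotient.nontrivial_iff.mpr (fun h => (maximalIdeal.isMaximal L).ne_top
          (top_le_iff.mp (h ▸ hIle)))
      haveI : IsLocalRing (L ⧸ I) :=
        IsLocalRing.of_surjective' (Ideal.Quotient.mk I) Ideal.Quotient.mk_surjective
      have hmem : Ideal.Quotient.mk I rs[i] ∈ maximalIdeal (L ⧸ I) := by
        rw [mem_maximalIdeal, mem_nonunits_iff]
        intro hu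
        obtain ⟨y, hy⟩ := isUnit_iff_exists_inv.mp hu
        obtain ⟨c, rfl⟩ := Ideal.Quotient.mk_surjective y
        rw [← map_mul, ← map_one (Ideal.Quotient.mk I), Ideal.Quotient.eq] at hy
        have h1 : rs[i] * c ∈ maximalIdeal L :=
          Ideal.mul_mem_right _ _ (hm _ (List.getElem_mem hilt))
        have h2 : (1 : L) ∈ maximalIdeal L := by
          have := Ideal.sub_mem _ h1 (hIle hy)
          rwa [sub_sub_cancel] at this
        exact (Ideal.ne_top_iff_one _).mp (maximalIdeal.isMaximal L).ne_top h2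
      have hnzd : Ideal.Quotient.mk I rs[i] ∈ nonZeroDivisors (L ⧸ I) := by
        rw [mem_nonZeroDivisors_iff_right]
        intro y hy
        obtain ⟨c, rfl⟩ := Ideal.Quotient.mk_surjective y
        rw [← map_mul, Ideal.Quotient.eq_zero_iff_mem] at hy
        rw [Ideal.Quotient.eq_zero_iff_mem]
        have := hreg' i hilt c (by rw [bot_sup_eq, ← hI]; exact hy)
        rwa [bot_sup_eq, ← hI] at this
      have hmapspan : (Ideal.span {rs[i]}).map (Ideal.Quotient.mkₐ A I) =
          Ideal.span {Ideal.Quotient.mk I rs[i]} := by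
        rw [Ideal.map_span, Set.image_singleton]
        rfl
      haveI : Module.Flat A ((L ⧸ I) ⧸ Ideal.span {Ideal.Quotient.mk I rs[i]}) := by
        rw [← hmapspan]
        exact Module.Flat.of_linearEquiv
          (DoubleQuot.quotQuotEquivQuotSupₐ A I (Ideal.span {rs[i]})).toLinearEquiv
      exact Groth.Agent.Lib.Helper2.NzdFlat.flat_of_flat_quotient_nzd
        (Ideal.Quotient.mk I rs[i]) hmem hnzd
  have h0 := key rs.length le_rfl
  rw [Nat.sub_self, List.take_zero, Ideal.ofList_nil] at h0
  exact Module.Flat.of_linearEquiv (AlgEquiv.quotientBot A L).symm.toLinearEquiv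

end Ring


section Sch

set_option maxHeartbeats 1600000 in
theorem flat_stalkMap_of_relQuasi {Z X S : Scheme.{u}} (f : X ⟶ S) (i : Z ⟶ X) [Flat (i ≫ f)]
    (z : Z) (hz : RegImm.IsRegularImmersionAt .quasi i z)
    [IsNoetherianRing (X.presheaf.stalk (i z))] : (f.stalkMap (i z)).hom.Flat := by
  obtain ⟨⟨U, hU⟩, hzU, hcl, rs, hseq, hker⟩ := hz
  simp only at hzU hcl hker hseq
  haveI := hcl
  letI alg := (X.presheaf.germ U (i z) hzU).hom.toAlgebra
  haveI loc : IsLocalization.AtPrime (X.presheaf.stalk (i z))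
      (hU.primeIdealOf ⟨i z, hzU⟩).asIdeal := hU.isLocalization_stalk ⟨i z, hzU⟩
  have hflg : (algebraMap Γ(X, U) (X.presheaf.stalk (i z))).Flat :=
    RingHom.flat_algebraMap_iff.mpr
      (IsLocalization.flat _ (hU.primeIdealOf ⟨i z, hzU⟩).asIdeal.primeCompl)
  have hq' := isQuasiRegular_map_of_flat _ hflg rs.get hseq
  have hm : ∀ r ∈ rs, algebraMap Γ(X, U) (X.presheaf.stalk (i z)) r ∈
      maximalIdeal (X.presheaf.stalk (i z)) := by
    intro r hr
    have hr0 : (i.app U).hom r = 0 := by
      have h1 : r ∈ RingHom.ker (i.app U).hom := by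
        rw [hker]
        exact Ideal.subset_span hr
      exact h1
    rw [mem_maximalIdeal, mem_nonunits_iff]
    intro hu
    have hx : i z ∈ X.basicOpen r := (X.mem_basicOpen r (i z) hzU).mpr hu
    have hz' : z ∈ i ⁻¹ᵁ X.basicOpen r := hx
    rw [Scheme.preimage_basicOpen] at hz'
    have h0 : (i.app U) r = 0 := hr0
    rw [h0, Scheme.basicOpen_zero] at hz'
    exact hz'
  have hjac : ∀ j : Fin rs.length, algebraMap Γ(X, U) (X.presheaf.stalk (i z)) (rs.get j) ∈
      Ring.jacobson (X.presheaf.stalk (i z)) := by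
    intro j
    rw [← Ideal.jacobson_bot, IsLocalRing.jacobson_eq_maximalIdeal ⊥ bot_ne_top]
    exact hm _ (List.get_mem _ _)
  have hw := Groth.Agent.S5803.result _ rs.length _ hjac hq'
  have hlist : (List.ofFn fun j : Fin rs.length =>
      algebraMap Γ(X, U) (X.presheaf.stalk (i z)) (rs.get j)) =
      rs.map (algebraMap Γ(X, U) (X.presheaf.stalk (i z))) := by
    apply List.ext_get
    · simp
    · intro n h₁ h₂
      simp
  rw [hlist] at hw
  have hk : RingHom.ker (i.stalkMap z).hom =
      Ideal.ofList (rs.map (algebraMap Γ(X, U) (X.presheaf.stalk (i z)))) := by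
    rw [ker_stalkMap_eq_map_ker i z hU hzU, hker, Ideal.map_ofList]
    rfl
  have hU' : IsAffineOpen (i ⁻¹ᵁ U) := isAffineOpen_preimage_of_isClosedImmersion_restrict i hU
  have hsq : ∀ a, (Z.presheaf.germ (i ⁻¹ᵁ U) z hzU).hom ((i.app U).hom a)
      = (i.stalkMap z).hom ((X.presheaf.germ U (i z) hzU).hom a) := fun a =>
    (i.germ_stalkMap_apply U z hzU a).symm
  have hsurj : Function.Surjective (i.stalkMap z).hom :=
    Groth.Agent.Lib.Helper5.SliceListGeo.surjective_of_isLocalization
      (X.presheaf.germ U (i z) hzU).hom (Z.presheaf.germ (i ⁻¹ᵁ U) z hzU).hom (i.app U).hom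
      (i.stalkMap z).hom hsq (app_surjective_of_isClosedImmersion_restrict i hU) _
      (hU'.isLocalization_stalk ⟨z, hzU⟩)
  have hcomp : ((i.stalkMap z).hom.comp (f.stalkMap (i z)).hom).Flat := by
    have h := Flat.stalkMap (i ≫ f) z
    rw [Scheme.Hom.stalkMap_comp] at h
    exact h
  have hfq : ((Ideal.Quotient.mk (Ideal.ofList
      (rs.map (algebraMap Γ(X, U) (X.presheaf.stalk (i z)))))).comp
      (f.stalkMap (i z)).hom).Flat :=
    flat_mk_comp_of_surjective _ _ hsurj _ hk hcomp
  letI algS : Algebra (S.presheaf.stalk (f (i z))) (X.presheaf.stalk (i z)) :=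
    (f.stalkMap (i z)).hom.toAlgebra
  have hA : Module.Flat (S.presheaf.stalk (f (i z))) (X.presheaf.stalk (i z) ⧸
      Ideal.ofList (rs.map (algebraMap Γ(X, U) (X.presheaf.stalk (i z))))) := by
    have h1 : (algebraMap (S.presheaf.stalk (f (i z))) (X.presheaf.stalk (i z) ⧸
      Ideal.ofList (rs.map (algebraMap Γ(X, U) (X.presheaf.stalk (i z)))))).Flat := hfq
    exact RingHom.flat_algebraMap_iff.mp h1
  have hfinal := flat_of_isWeaklyRegular_of_flat_quotient
    (A := S.presheaf.stalk (f (i z))) (L := X.presheaf.stalk (i z)) _ (by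
      intro r hr
      obtain ⟨r₀, hr₀, rfl⟩ := List.mem_map.mp hr
      exact hm r₀ hr₀) hw hA
  exact RingHom.flat_algebraMap_iff.mpr hfinal

end Sch

end Groth.Agent.Lib.Helper5.RelQuasiFlat
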