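import Mathlib
import Groth.Prelude.Def_BlowUp2
import Groth.Agent.Lib.Helper5FiberStalk
import Groth.Agent.Lib.Helper5RegImm

/-!
# The fibre through a Cartier section is regular of dimension one (helper5)

* `isDomain_of_maximalIdeal_eq_span`: a Noetherian local ring whose maximal ideal is generated by
  a nonzerodivisor is a domain.
* `main`: for local rings `A`, `B`, a local homomorphism `α : A → B`, a surjection `β : B → C`
  with `β ∘ α` bijective and `ker β = (t)` for a nonzerodivisor `t`, the ring `B ⧸ m_A B` (if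
  Noetherian) is a discrete valuation ring with uniformizer the class of `t`.
* `fiber_stalk_dvr`: the scheme version for a section `j` of `π` which is a closed immersion with
  effective Cartier ideal.
-/

set_option autoImplicit false
universe u

namespace Groth.Agent.Lib.Helper5.SectionDVR

open IsLocalRing

/-- A Noetherian local ring whose maximal ideal is generated by a nonzerodivisor is a domain. -/
theorem isDomain_of_maximalIdeal_eq_span {T : Type*} [CommRing T] [IsLocalRing T]
    [IsNoetherianRing T] (s : T) (hs : s ∈ nonZeroDivisors T)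
    (hm : maximalIdeal T = Ideal.span {s}) : IsDomain T := by
  have hK : ⨅ n : ℕ, maximalIdeal T ^ n = ⊥ :=
    Ideal.iInf_pow_eq_bot_of_isLocalRing _ (maximalIdeal.isMaximal T).ne_top
  have key : ∀ x : T, x ≠ 0 → x ∈ nonZeroDivisors T := by
    intro x hx
    have hex : ∃ n : ℕ, x ∉ maximalIdeal T ^ n := by
      by_contra hcon
      push Not at hcon
      apply hx
      have : x ∈ ⨅ n : ℕ, maximalIdeal T ^ n := (Ideal.mem_iInf).mpr hcon
      rwa [hK, Ideal.mem_bot] at this
    obtain ⟨n, hn, hmin⟩ : ∃ n : ℕ, x ∉ maximalIdeal T ^ n ∧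
        ∀ k < n, x ∈ maximalIdeal T ^ k := by
      classical
      exact ⟨Nat.find hex, Nat.find_spec hex, fun k hk => by
        by_contra hc
        exact Nat.find_min hex hk hc⟩
    cases n with
    | zero =>
      exact absurd (by rw [pow_zero, Ideal.one_eq_top]; exact Submodule.mem_top) hn
    | succ k =>
      have hxk := hmin k (Nat.lt_succ_self k)
      rw [hm, Ideal.span_singleton_pow, Ideal.mem_span_singleton'] at hxk
      obtain ⟨u, hu⟩ := hxk
      have hunit : IsUnit u := by
        by_contra hnu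
        have humem : u ∈ maximalIdeal T := (mem_maximalIdeal u).mpr (mem_nonunits_iff.mpr hnu)
        apply hn
        have hmem : s ^ k * u ∈ maximalIdeal T ^ k * maximalIdeal T :=
          Ideal.mul_mem_mul (by
            rw [hm, Ideal.span_singleton_pow]
            exact Ideal.mem_span_singleton_self _) humem
        rw [pow_succ, ← hu, mul_comm u]
        exact hmem
      rw [← hu]
      exact mul_mem hunit.mem_nonZeroDivisors (pow_mem hs k)
  haveI : NoZeroDivisors T := ⟨fun {a b} hab => by
    by_cases ha : a = 0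
    · exact Or.inl ha
    · exact Or.inr ((mem_nonZeroDivisors_iff_left.mp (key a ha)) b hab)⟩
  exact NoZeroDivisors.to_isDomain T

theorem main' {A B C : Type*} [CommRing A] [CommRing B] [CommRing C] [IsLocalRing A]
    [IsLocalRing B] (α : A →+* B) [IsLocalHom α] (β : B →+* C)
    (hβα : Function.Bijective fun a => β (α a)) (t : B) (ht : t ∈ nonZeroDivisors B)
    (hker : RingHom.ker β = Ideal.span {t}) (I : Ideal B)
    (hIdef : I = Submodule.span B (α '' (maximalIdeal A : Set A)))
    [IsNoetherianRing (B ⧸ I)] :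
    ∃ _ : IsDomain (B ⧸ I), IsDiscreteValuationRing (B ⧸ I) := by
  have hIle : I ≤ maximalIdeal B := by
    rw [hIdef]
    exact IsLocalRing.map_maximalIdeal_le α
  have hIne : I ≠ ⊤ := fun h => (maximalIdeal.isMaximal B).ne_top (top_le_iff.mp (h ▸ hIle))
  haveI : Nontrivial (B ⧸ I) := Ideal.Quotient.nontrivial_iff.mpr hIne
  haveI : IsLocalRing (B ⧸ I) :=
    IsLocalRing.of_surjective' (Ideal.Quotient.mk I) Ideal.Quotient.mk_surjective
  haveI : IsLocalHom (Ideal.Quotient.mk I) :=
    IsLocalHom.of_surjective _ Ideal.Quotient.mk_surjective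
  have hβt : β t = 0 := by
    have : t ∈ RingHom.ker β := by rw [hker]; exact Ideal.mem_span_singleton_self t
    exact this
  have hC : (1 : C) ≠ 0 := by
    intro h
    have h1 : β (α 1) = β (α 0) := by rw [map_one, map_one, map_zero, map_zero, h]
    exact one_ne_zero (hβα.1 h1)
  have htm : t ∈ maximalIdeal B := by
    rw [mem_maximalIdeal, mem_nonunits_iff]
    intro hu
    obtain ⟨u, hu⟩ := hu.exists_right_inv
    apply hC
    rw [← map_one β, ← hu, map_mul, hβt, zero_mul]
  have hdecomp : ∀ b : B, ∃ a : A, ∃ c : B, b = α a + t * c := by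
    intro b
    obtain ⟨a, ha⟩ := hβα.2 (β b)
    have ha' : β (α a) = β b := ha
    have hmem : b - α a ∈ RingHom.ker β := by
      rw [RingHom.mem_ker, map_sub, ha', sub_self]
    rw [hker, Ideal.mem_span_singleton'] at hmem
    obtain ⟨c, hc⟩ := hmem
    exact ⟨a, c, by rw [mul_comm, hc]; ring⟩
  have hI : ∀ x ∈ I, ∃ a ∈ maximalIdeal A, ∃ y ∈ I, x = α a + t * y := by
    intro x hx
    have hx' : x ∈ Submodule.span B (α '' (maximalIdeal A : Set A)) := hIdef ▸ hx
    refine Submodule.span_induction
      (p := fun x _ => ∃ a ∈ maximalIdeal A, ∃ y ∈ I, x = α a + t * y) ?_ ?_ ?_ ?_ hx'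
    · rintro _ ⟨a, ha, rfl⟩
      exact ⟨a, ha, 0, I.zero_mem, by rw [mul_zero, add_zero]⟩
    · exact ⟨0, (maximalIdeal A).zero_mem, 0, I.zero_mem, by rw [map_zero, mul_zero, add_zero]⟩
    · rintro x y _ _ ⟨a, ha, u, hu, rfl⟩ ⟨a', ha', u', hu', rfl⟩
      exact ⟨a + a', add_mem ha ha', u + u', add_mem hu hu', by rw [map_add]; ring⟩
    · rintro b x hxI ⟨a, ha, u, hu, hxe⟩
      have hxI' : x ∈ I := hIdef ▸ hxI
      obtain ⟨c, d, hb⟩ := hdecomp b
      refine ⟨c * a, Ideal.mul_mem_left _ c ha, α c * u + d * x,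
        add_mem (I.mul_mem_left _ hu) (I.mul_mem_left _ hxI'), ?_⟩
      have e1 : b • x = α c * x + t * (d * x) := by rw [smul_eq_mul, hb]; ring
      rw [e1, map_mul]
      nth_rewrite 1 [hxe]
      ring
  have hnzd : Ideal.Quotient.mk I t ∈ nonZeroDivisors (B ⧸ I) := by
    rw [mem_nonZeroDivisors_iff_left]
    intro y hy
    obtain ⟨b, rfl⟩ := Ideal.Quotient.mk_surjective y
    rw [← map_mul, Ideal.Quotient.eq_zero_iff_mem] at hy
    obtain ⟨a, ha, u, hu, he⟩ := hI _ hy
    have h0 : β (α a) = 0 := by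
      have := congrArg β he
      rw [map_mul, hβt, zero_mul, map_add, map_mul, hβt, zero_mul, add_zero] at this
      exact this.symm
    have ha0 : a = 0 := hβα.1 (by
      show β (α a) = β (α 0)
      rw [h0, map_zero, map_zero])
    rw [ha0, map_zero, zero_add] at he
    have hbu : b = u := by
      have h2 : t * (b - u) = 0 := by rw [mul_sub, he, sub_self]
      exact sub_eq_zero.mp ((mem_nonZeroDivisors_iff_left.mp ht) _ h2)
    rw [Ideal.Quotient.eq_zero_iff_mem, hbu]
    exact hu
  have hm : maximalIdeal (B ⧸ I) = Ideal.span {Ideal.Quotient.mk I t} := by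
    apply le_antisymm
    · intro y hy
      obtain ⟨b, rfl⟩ := Ideal.Quotient.mk_surjective y
      have hb : b ∈ maximalIdeal B := by
        rw [mem_maximalIdeal, mem_nonunits_iff]
        intro hu
        exact (mem_nonunits_iff.mp ((mem_maximalIdeal _).mp hy)) (hu.map (Ideal.Quotient.mk I))
      obtain ⟨a, c, hbe⟩ := hdecomp b
      have ha : a ∈ maximalIdeal A := by
        rw [mem_maximalIdeal, mem_nonunits_iff]
        intro hu
        have h1 : α a ∈ maximalIdeal B := by
          have : α a = b - t * c := by rw [hbe]; ring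
          rw [this]
          exact sub_mem hb (Ideal.mul_mem_right _ _ htm)
        exact (mem_nonunits_iff.mp ((mem_maximalIdeal _).mp h1)) (hu.map α)
      have hαa : α a ∈ I := by rw [hIdef]; exact Submodule.subset_span ⟨a, ha, rfl⟩
      rw [Ideal.mem_span_singleton']
      refine ⟨Ideal.Quotient.mk I c, ?_⟩
      rw [hbe, map_add, map_mul, Ideal.Quotient.eq_zero_iff_mem.mpr hαa, zero_add, mul_comm]
    · rw [Ideal.span_le, Set.singleton_subset_iff, SetLike.mem_coe, mem_maximalIdeal,
        mem_nonunits_iff]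
      intro hu
      exact (mem_nonunits_iff.mp ((mem_maximalIdeal _).mp htm))
        ((isUnit_map_iff (Ideal.Quotient.mk I) t).mp hu)
  have hdom : IsDomain (B ⧸ I) := isDomain_of_maximalIdeal_eq_span _ hnzd hm
  refine ⟨hdom, ?_⟩
  have hnf : ¬ IsField (B ⧸ I) := by
    intro hF
    have h0 := IsLocalRing.isField_iff_maximalIdeal_eq.mp hF
    rw [hm, Ideal.span_singleton_eq_bot] at h0
    rw [h0] at hnzd
    exact zero_notMem_nonZeroDivisors hnzd
  have h04 := (IsDiscreteValuationRing.TFAE (B ⧸ I) hnf).out 0 4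
  exact h04.mpr ⟨⟨_, hm⟩⟩

theorem main {A B C : Type*} [CommRing A] [CommRing B] [CommRing C] [IsLocalRing A]
    [IsLocalRing B] (α : A →+* B) [IsLocalHom α] (β : B →+* C)
    (hβα : Function.Bijective fun a => β (α a)) (t : B) (ht : t ∈ nonZeroDivisors B)
    (hker : RingHom.ker β = Ideal.span {t})
    [IsNoetherianRing (B ⧸ (maximalIdeal A).map α)] :
    ∃ _ : IsDomain (B ⧸ (maximalIdeal A).map α),
      IsDiscreteValuationRing (B ⧸ (maximalIdeal A).map α) :=
  main' α β hβα t ht hker _ rfl

open AlgebraicGeometry CategoryTheory Limits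

theorem fiber_stalk_dvr {X V : Scheme.{u}} (π : V ⟶ X) [LocallyOfFiniteType π]
    (j : X ⟶ V) [IsClosedImmersion j] (hj : j ≫ π = 𝟙 X)
    (hJ : BlowUp.IsEffCartierIdeal j.ker) (x : X) :
    ∃ _ : IsDomain ((π.fiber (π (j x))).presheaf.stalk (π.asFiber (j x))),
      IsDiscreteValuationRing ((π.fiber (π (j x))).presheaf.stalk (π.asFiber (j x))) := by
  haveI : IsLocallyNoetherian (π.fiber (π (j x))) := by
    unfold Scheme.Hom.fiber
    infer_instance
  obtain ⟨e⟩ := Groth.Agent.Lib.Helper5.FiberStalk.nonempty_stalk_asFiber_equiv π (j x)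
  haveI : IsNoetherianRing (V.presheaf.stalk (j x) ⧸
      (maximalIdeal (X.presheaf.stalk (π (j x)))).map (π.stalkMap (j x)).hom) :=
    isNoetherianRing_of_ringEquiv _ e
  obtain ⟨U, hxU, f, hf, hker⟩ := hJ (j x)
  have hk := Groth.Agent.Lib.Helper5.RegImm.ker_stalkMap_eq_map_ker j x U.1 U.2 hxU
  have hk' : RingHom.ker (j.stalkMap x).hom =
      Ideal.span {(V.presheaf.germ U.1 (j x) hxU).hom f} := by
    rw [hk]
    have hUU : j.ker.ideal ⟨U.1, U.2⟩ = Ideal.span {f} := hker
    rw [hUU, Ideal.map_span, Set.image_singleton]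
  have ht : (V.presheaf.germ U.1 (j x) hxU).hom f ∈ nonZeroDivisors (V.presheaf.stalk (j x)) := by
    letI := (V.presheaf.germ U.1 (j x) hxU).hom.toAlgebra
    haveI : IsLocalization.AtPrime (V.presheaf.stalk (j x))
        (U.2.primeIdealOf ⟨j x, hxU⟩).asIdeal := U.2.isLocalization_stalk ⟨j x, hxU⟩
    exact IsLocalization.map_nonZeroDivisors_le
      (U.2.primeIdealOf ⟨j x, hxU⟩).asIdeal.primeCompl _ (Submonoid.mem_map_of_mem _ hf)
  have hbij : Function.Bijective
      fun a => (j.stalkMap x).hom ((π.stalkMap (j x)).hom a) := by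
    haveI : IsIso (j ≫ π) := by rw [hj]; infer_instance
    have h2 : Function.Bijective ((j ≫ π).stalkMap x).hom :=
      ConcreteCategory.bijective_of_isIso ((j ≫ π).stalkMap x)
    have h3 : ∀ a, (j.stalkMap x).hom ((π.stalkMap (j x)).hom a) =
        ((j ≫ π).stalkMap x).hom a := by
      intro a
      rw [Scheme.Hom.stalkMap_comp]
      rfl
    refine ⟨fun a b hab => h2.1 ?_, fun c => ?_⟩
    · rw [← h3, ← h3]
      exact hab
    · obtain ⟨a, ha⟩ := h2.2 c
      exact ⟨a, (h3 a).trans ha⟩
  obtain ⟨hdom, hdvr⟩ := main (π.stalkMap (j x)).hom (j.stalkMap x).hom hbij _ ht hk'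
  haveI := hdom
  haveI := hdvr
  haveI : IsDomain ((π.fiber (π (j x))).presheaf.stalk (π.asFiber (j x))) :=
    e.toMulEquiv.isDomain _
  exact ⟨inferInstance, IsDiscreteValuationRing.RingEquivClass.isDiscreteValuationRing e.symm⟩

end Groth.Agent.Lib.Helper5.SectionDVR
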