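import Mathlib
import Groth.Agent.Lib.Helper5CoextB
import Groth.Agent.Lib.Helper5BassB
import Groth.Agent.Lib.Helper17DRingAdj2

/-!
# Right adjoints of restriction of scalars preserve lower bounds (helper5)

`subsingleton_HD_rightAdjoint`: if `H^i(K) = 0` for `i < a` then `H^i(R K) = 0` for `i < a`, for any
right adjoint `R` of restriction of scalars `D(B) → D(A)`.
-/

set_option autoImplicit false
universe u
open CategoryTheory CategoryTheory.Limits
attribute [local instance] HasDerivedCategory.standard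

namespace Groth.Agent.Lib.Helper5.Shriek

open DerivedCategory Groth.Agent.Lib.Helper5.Bass Groth.Agent.Lib.Helper17.DRingAdj

variable {A B : Type u} [CommRing A] [CommRing B] [Algebra A B]

theorem subsingleton_HD_rightAdjoint (Rr : Dual.D A ⥤ Dual.D B)
    (adj : DRing.restrictD (algebraMap A B) ⊣ Rr) (K : Dual.D A) (a : ℤ)
    (hKa : ∀ i : ℤ, i < a → Subsingleton (Dual.HD A K i)) (i : ℤ) (hi : i < a) :
    Subsingleton (Dual.HD B (Rr.obj K) i) := by
  letI : Rr.CommShift ℤ := adj.rightAdjointCommShift ℤ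
  have h00 : ∀ (X : ModuleCat.{u} A)
      (f : (DerivedCategory.singleFunctor (ModuleCat.{u} A) 0).obj X ⟶ K⟦i⟧), f = 0 :=
    fun X f => @eq_zero_below A _ K a hKa X X.isAddCommGroup X.isModule i hi f
  have h0 : Subsingleton ((DerivedCategory.singleFunctor (ModuleCat.{u} A) 0).obj
      ((ModuleCat.restrictScalars.{u} (algebraMap A B)).obj (ModuleCat.of B B)) ⟶ K⟦i⟧) :=
    ⟨fun f g => by rw [h00 _ f, h00 _ g]⟩
  have e1 : (Dual.inD B B ⟶ (Rr.obj K)⟦i⟧) ≃
      ((DRing.restrictD (algebraMap A B)).obj (Dual.inD B B) ⟶ K⟦i⟧) :=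
    ((Rr.commShiftIso i).app K).symm.homToEquiv.trans (adj.homEquiv _ _).symm
  have : Subsingleton (Dual.inD B B ⟶ (Rr.obj K)⟦i⟧) :=
    (e1.trans ((restrictDInD (algebraMap A B) B).homFromEquiv)).subsingleton
  have h1 := isZero_homologyFunctor_zero ((Rr.obj K)⟦i⟧) inferInstance
  exact ModuleCat.subsingleton_of_isZero
    (h1.of_iso (((DerivedCategory.homologyFunctor (ModuleCat.{u} B) 0).shiftIso i 0 i
      (by simp)).app (Rr.obj K)).symm)

end Groth.Agent.Lib.Helper5.Shriek
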