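import Mathlib
import Groth.Agent.Lib.Helper5DualDimB
import Groth.Agent.Lib.Helper5DualMinB
import Groth.Agent.Lib.Helper5BassB
import Groth.Agent.Lib.Helper5ExtTrans
import Groth.Agent.Lib.Helper5ShriekA
import Groth.Agent.Lib.Helper14FTDim
import Groth.Agent.S1782

/-!
# The upper shriek of a normalized dualizing complex at a closed point of the closed fibre (helper5)

* `delta_bot_sub_eq_height`: on a Noetherian domain, a function `δ` on the spectrum dropping by one
  along immediate specializations satisfies `δ(0) - δ(q) = ht q`.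
* `subsingleton_ext_quot_maximal`: for a Noetherian local ring `R` with normalized dualizing complex
  `ω`, `P = R[x_1..x_n]` and `M` a maximal ideal of `P` over the maximal ideal of `R`,
  `Ext^j_P(P/M, ω ⊗ P) = 0` for `j ≠ n`.
* `isNormalized_shriek`: the localization of `φ^!(ω)` at a maximal ideal over the maximal ideal of
  `R` is a normalized dualizing complex.
-/

set_option autoImplicit false
universe u
open CategoryTheory CategoryTheory.Limits
attribute [local instance] HasDerivedCategory.standard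

namespace Groth.Agent.Lib.Helper5.ShriekNorm

open DerivedCategory Groth.Agent.Lib.Helper1.Extend Groth.Agent.Lib.Helper5.LocD
  Groth.Agent.Lib.Helper5.HomBC Groth.Agent.Lib.Helper5.Bass Groth.Agent.Lib.Helper5.BiDual
  Groth.Agent.Lib.Helper5.NormDual Groth.Agent.Lib.Helper5.DualDim
  Groth.Agent.Lib.Helper5.DualMin Groth.Agent.Lib.Helper17.DRingAdj

section Delta

variable {B : Type u} [CommRing B] [IsNoetherianRing B]
  (δ : PrimeSpectrum B → ℤ) (h2 : ∀ p q : PrimeSpectrum B, p ⋖ q → δ p = δ q + 1)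

include h2 in
lemma delta_le_of_le (p q : PrimeSpectrum B) (hpq : p ≤ q) : δ q ≤ δ p := by
  rcases hpq.eq_or_lt with heq | hlt
  · rw [heq]
  · have := delta_anti δ h2 q p hlt
    lia

include h2 in
lemma height_add_delta_le : ∀ q p : PrimeSpectrum B, p ≤ q →
    p.asIdeal.height + ((δ p - δ q).toNat : ℕ∞) ≤ q.asIdeal.height := by
  intro q p
  induction p using (InvImage.wf (fun q : PrimeSpectrum B => q.asIdeal)
    (wellFounded_gt : WellFounded ((· > ·) : Ideal B → Ideal B → Prop))).induction with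
  | _ p IH =>
    intro hpq
    rcases hpq.eq_or_lt with heq | hlt
    · rw [heq, sub_self, Int.toNat_zero, Nat.cast_zero, add_zero]
    · let S : Set (PrimeSpectrum B) := {c | p < c ∧ c ≤ q}
      have hne : S.Nonempty := ⟨q, hlt, le_rfl⟩
      obtain ⟨c₀, hc₀, hmin⟩ := WellFounded.has_min
        (InvImage.wf (fun q : PrimeSpectrum B => q.asIdeal.height) wellFounded_lt) S hne
      haveI := p.isPrime
      haveI := c₀.isPrime
      have hcov : p ⋖ c₀ := by
        refine ⟨hc₀.1, fun c hpc hcc => ?_⟩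
        apply hmin c ⟨hpc, hcc.le.trans hc₀.2⟩
        show c.asIdeal.height < c₀.asIdeal.height
        haveI := c.isPrime
        have hlt' : c.asIdeal < c₀.asIdeal := hcc
        exact Ideal.height_strict_mono_of_isPrime hlt'
      have e1 := h2 p c₀ hcov
      have e2 := IH c₀ (show p.asIdeal < c₀.asIdeal from hc₀.1) hc₀.2
      have hlt2 : p.asIdeal < c₀.asIdeal := hc₀.1
      have e3 : p.asIdeal.height + 1 ≤ c₀.asIdeal.height :=
        Order.add_one_le_of_lt (Ideal.height_strict_mono_of_isPrime hlt2)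
      have e4 : δ q ≤ δ c₀ := delta_le_of_le δ h2 c₀ q hc₀.2
      have e5 : (δ p - δ q).toNat = 1 + (δ c₀ - δ q).toNat := by lia
      calc p.asIdeal.height + ((δ p - δ q).toNat : ℕ∞)
          = (p.asIdeal.height + 1) + ((δ c₀ - δ q).toNat : ℕ∞) := by
            rw [e5, Nat.cast_add, Nat.cast_one, add_assoc]
        _ ≤ c₀.asIdeal.height + ((δ c₀ - δ q).toNat : ℕ∞) := by gcongr
        _ ≤ q.asIdeal.height := e2

variable [IsDomain B]

/-- the generic point of a domain -/
def botPrime : PrimeSpectrum B := ⟨⊥, Ideal.bot_prime⟩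

lemma botPrime_le (q : PrimeSpectrum B) : botPrime ≤ q := by
  show (⊥ : Ideal B) ≤ q.asIdeal
  exact bot_le

include h2 in
lemma height_le_delta : ∀ q : PrimeSpectrum B,
    q.asIdeal.height ≤ ((δ botPrime - δ q).toNat : ℕ∞) := by
  intro q
  induction q using (InvImage.wf (fun q : PrimeSpectrum B => q.asIdeal.height)
    wellFounded_lt).induction with
  | _ q IH =>
    rw [PrimeSpectrum.height_eq_orderHeight, Order.height_eq_iSup_lt_height]
    refine iSup₂_le fun p hp => ?_
    haveI := p.isPrime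
    have hlt : p.asIdeal < q.asIdeal := hp
    have h1 := IH p (Ideal.height_strict_mono_of_isPrime hlt)
    have h3 := delta_anti δ h2 q p hp
    have h4 : δ p ≤ δ botPrime := delta_le_of_le δ h2 botPrime p (botPrime_le p)
    rw [← PrimeSpectrum.height_eq_orderHeight]
    calc p.asIdeal.height + 1 ≤ ((δ botPrime - δ p).toNat : ℕ∞) + 1 := by gcongr
      _ = (((δ botPrime - δ p).toNat + 1 : ℕ) : ℕ∞) := by push_cast; rfl
      _ ≤ ((δ botPrime - δ q).toNat : ℕ∞) := by
          have : (δ botPrime - δ p).toNat + 1 ≤ (δ botPrime - δ q).toNat := by lia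
          exact_mod_cast this

include h2 in
lemma delta_bot_sub_eq_height (q : PrimeSpectrum B) (n : ℕ) (hq : q.asIdeal.height = n) :
    δ botPrime - δ q = n := by
  have h1 := height_le_delta δ h2 q
  have h2' := height_add_delta_le δ h2 q botPrime (botPrime_le q)
  have h0 : (botPrime (B := B)).asIdeal.height = 0 := Ideal.height_bot
  rw [h0, zero_add] at h2'
  rw [hq] at h1 h2'
  have a : n ≤ (δ botPrime - δ q).toNat := by exact_mod_cast h1
  have b : (δ botPrime - δ q).toNat ≤ n := by exact_mod_cast h2'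
  have h4 : δ q ≤ δ botPrime := delta_le_of_le δ h2 botPrime q (botPrime_le q)
  lia

end Delta

section Core

variable (R : Type u) [CommRing R] [IsNoetherianRing R] [IsLocalRing R] (n : ℕ)

local notation "𝐏" => MvPolynomial (Fin n) R
local notation "𝐏k" => MvPolynomial (Fin n) (IsLocalRing.ResidueField R)

/-- reduction modulo the maximal ideal -/
noncomputable def rho : 𝐏 →+* 𝐏k := MvPolynomial.map (IsLocalRing.residue R)

lemma rho_surjective : Function.Surjective (rho R n) :=
  MvPolynomial.map_surjective _ IsLocalRing.residue_surjective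

lemma ker_rho : RingHom.ker (rho R n) = (IsLocalRing.maximalIdeal R).map (algebraMap R 𝐏) := by
  show RingHom.ker (MvPolynomial.map (IsLocalRing.residue R)) = _
  rw [MvPolynomial.ker_map, IsLocalRing.ker_residue, MvPolynomial.algebraMap_eq]

/-- pull back of primes -/
noncomputable def cm (p : PrimeSpectrum 𝐏k) : PrimeSpectrum 𝐏 :=
  ⟨p.asIdeal.comap (rho R n), inferInstance⟩

lemma cm_covBy (p q : PrimeSpectrum 𝐏k) (hpq : p ⋖ q) : cm R n p ⋖ cm R n q := by
  have hρ := rho_surjective R n
  have hmc : ∀ I : Ideal 𝐏k, (I.comap (rho R n)).map (rho R n) = I := fun I =>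
    Ideal.map_comap_of_surjective _ hρ I
  constructor
  · have hle : p.asIdeal.comap (rho R n) ≤ q.asIdeal.comap (rho R n) :=
      Ideal.comap_mono hpq.1.le
    have hne : p.asIdeal.comap (rho R n) ≠ q.asIdeal.comap (rho R n) := by
      intro h
      apply hpq.1.ne
      apply PrimeSpectrum.ext
      rw [← hmc p.asIdeal, h, hmc]
    show p.asIdeal.comap (rho R n) < q.asIdeal.comap (rho R n)
    exact lt_of_le_of_ne hle hne
  · intro r hpr hrq
    have hpr' : p.asIdeal.comap (rho R n) < r.asIdeal := hpr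
    have hrq' : r.asIdeal < q.asIdeal.comap (rho R n) := hrq
    have hker : RingHom.ker (rho R n) ≤ r.asIdeal := by
      rw [RingHom.ker_eq_comap_bot]
      exact (Ideal.comap_mono bot_le).trans hpr'.le
    haveI := r.isPrime
    have hrp : (r.asIdeal.map (rho R n)).IsPrime := Ideal.map_isPrime_of_surjective hρ hker
    have hcm : (r.asIdeal.map (rho R n)).comap (rho R n) = r.asIdeal := by
      rw [Ideal.comap_map_of_surjective _ hρ, ← RingHom.ker_eq_comap_bot]
      exact sup_eq_left.mpr hker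
    have h1 : p < (⟨r.asIdeal.map (rho R n), hrp⟩ : PrimeSpectrum 𝐏k) := by
      have hle : p.asIdeal ≤ r.asIdeal.map (rho R n) := by
        rw [← hmc p.asIdeal]
        exact Ideal.map_mono hpr'.le
      have hne : p.asIdeal ≠ r.asIdeal.map (rho R n) := by
        intro h
        apply hpr'.ne
        rw [h, hcm]
      show p.asIdeal < r.asIdeal.map (rho R n)
      exact lt_of_le_of_ne hle hne
    have h2 : (⟨r.asIdeal.map (rho R n), hrp⟩ : PrimeSpectrum 𝐏k) < q := by
      have hle : r.asIdeal.map (rho R n) ≤ q.asIdeal := by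
        rw [← hmc q.asIdeal]
        exact Ideal.map_mono hrq'.le
      have hne : r.asIdeal.map (rho R n) ≠ q.asIdeal := by
        intro h
        apply hrq'.ne
        rw [← h, hcm]
      show r.asIdeal.map (rho R n) < q.asIdeal
      exact lt_of_le_of_ne hle hne
    exact hpq.2 h1 h2

theorem subsingleton_ext_quot_maximal (ω : Dual.D R) (hω : Dual.IsDualizing R ω)
    (hn : Dual.IsNormalized R ω) (M : Ideal 𝐏) [hM : M.IsMaximal]
    (hMR : IsLocalRing.maximalIdeal R ≤ M.comap (algebraMap R 𝐏)) (j : ℤ) (hj : j ≠ (n : ℤ)) :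
    Subsingleton (Dual.inD 𝐏 (𝐏 ⧸ M) ⟶ ((extD R 𝐏).obj ω)⟦j⟧) := by
  have hρ := rho_surjective R n
  have hωP := Groth.Agent.Lib.Helper5.ExtTrans.isDualizing_extD_mvPoly R ω hω n
  obtain ⟨δ, hδ1, hδ2⟩ := Groth.Agent.Lib.Helper5.DualDim.main 𝐏 _ hωP
  have hbb := hasBBRes_of_isDualizing ω hω
  have hkerM : RingHom.ker (rho R n) ≤ M := by
    rw [ker_rho, Ideal.map_le_iff_le_comap]
    exact hMR
  -- vanishing at the generic point of the closed fibre
  have hvan0 : ∀ i : ℤ, i ≠ 0 →
      Subsingleton (Dual.inD 𝐏 (𝐏 ⧸ (IsLocalRing.maximalIdeal R).map (algebraMap R 𝐏)) ⟶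
        ((extD R 𝐏).obj ω)⟦i⟧) := by
    intro i hi
    have h0 : Subsingleton (Dual.inD R (R ⧸ IsLocalRing.maximalIdeal R) ⟶ ω⟦i⟧) := hn i hi
    exact subsingleton_hom_of_isos (Iso.refl _) (((extD R 𝐏).commShiftIso i).app ω)
      (subsingleton_hom_quot_map 𝐏 (IsLocalRing.maximalIdeal R) (ω⟦i⟧) (hbb.shift i) h0)
  have hcm0 : (cm R n botPrime).asIdeal =
      (IsLocalRing.maximalIdeal R).map (algebraMap R 𝐏) := by
    show (⊥ : Ideal 𝐏k).comap (rho R n) = _
    rw [← RingHom.ker_eq_comap_bot, ker_rho]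
  have hδ0 : δ (cm R n botPrime) = 0 := by
    by_contra hne
    have hnt := (hδ1 (cm R n botPrime) (-δ (cm R n botPrime))).mpr rfl
    have hi : -δ (cm R n botPrime) ≠ 0 := by lia
    have hs : Subsingleton (Dual.inD 𝐏 (𝐏 ⧸ (cm R n botPrime).asIdeal) ⟶
        ((extD R 𝐏).obj ω)⟦-δ (cm R n botPrime)⟧) :=
      subsingleton_hom_of_isos (inDIso (Submodule.quotEquivOfEq _ _ hcm0.symm)) (Iso.refl _)
        (hvan0 _ hi)
    have hs2 : Subsingleton (LocalizedModule (cm R n botPrime).asIdeal.primeCompl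
        (Dual.inD 𝐏 (𝐏 ⧸ (cm R n botPrime).asIdeal) ⟶
          ((extD R 𝐏).obj ω)⟦-δ (cm R n botPrime)⟧)) :=
      LocalizedModule.subsingleton_iff.mpr fun m =>
        ⟨1, Submonoid.one_mem _, by rw [one_smul]; exact Subsingleton.elim _ _⟩
    exact (not_subsingleton_iff_nontrivial.mpr hnt) hs2
  -- the maximal ideal
  haveI hMbar : (M.map (rho R n)).IsMaximal :=
    Ideal.IsMaximal.map_of_surjective_of_ker_le hρ hkerM
  let qM : PrimeSpectrum 𝐏k := ⟨M.map (rho R n), hMbar.isPrime⟩
  have hcmM : (cm R n qM).asIdeal = M := by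
    show (M.map (rho R n)).comap (rho R n) = M
    rw [Ideal.comap_map_of_surjective _ hρ, ← RingHom.ker_eq_comap_bot]
    exact sup_eq_left.mpr hkerM
  have hht : qM.asIdeal.height = n :=
    Groth.Agent.Lib.Helper14.FTDim.height_of_isMaximal n (M.map (rho R n))
  have hδ2' : ∀ p q : PrimeSpectrum 𝐏k, p ⋖ q →
      (fun x => δ (cm R n x)) p = (fun x => δ (cm R n x)) q + 1 :=
    fun p q hpq => hδ2 _ _ (cm_covBy R n p q hpq)
  have hdiff := delta_bot_sub_eq_height (fun x => δ (cm R n x)) hδ2' qM n hht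
  have hdiff' : δ (cm R n botPrime) - δ (cm R n qM) = (n : ℤ) := hdiff
  have hδM : δ (cm R n qM) = -(n : ℤ) := by
    lia
  have hnot : ¬ Nontrivial (LocalizedModule (cm R n qM).asIdeal.primeCompl
      (Dual.inD 𝐏 (𝐏 ⧸ (cm R n qM).asIdeal) ⟶ ((extD R 𝐏).obj ω)⟦j⟧)) := by
    rw [hδ1 (cm R n qM) j, hδM, neg_neg]
    exact hj
  rw [not_nontrivial_iff_subsingleton, LocalizedModule.subsingleton_iff] at hnot
  have key : ∀ t : Dual.inD 𝐏 (𝐏 ⧸ (cm R n qM).asIdeal) ⟶ ((extD R 𝐏).obj ω)⟦j⟧, t = 0 := by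
    intro t
    obtain ⟨s, hs, hst⟩ := hnot t
    have hs' : s ∉ M := by
      rw [← hcmM]
      exact hs
    obtain ⟨y, i, hi, hyi⟩ := hM.exists_inv hs'
    have hit : i • t = 0 := by
      have h1 : i • 𝟙 (Dual.inD 𝐏 (𝐏 ⧸ (cm R n qM).asIdeal)) = 0 :=
        smul_id_inD_eq_zero _ i (quot_killed _ i (by rw [hcmM]; exact hi))
      have h2 : i • t = (i • 𝟙 _) ≫ t := by rw [Linear.smul_comp, Category.id_comp]
      rw [h2, h1, zero_comp]
    calc t = (1 : 𝐏) • t := (one_smul _ _).symm
      _ = (y * s + i) • t := by rw [hyi]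
      _ = 0 := by rw [add_smul, mul_smul, hst, smul_zero, hit, add_zero]
  haveI : Subsingleton (Dual.inD 𝐏 (𝐏 ⧸ (cm R n qM).asIdeal) ⟶ ((extD R 𝐏).obj ω)⟦j⟧) :=
    ⟨fun a b => by rw [key a, key b]⟩
  exact subsingleton_hom_of_isos (inDIso (Submodule.quotEquivOfEq _ _ hcmM)) (Iso.refl _)
    inferInstance

end Core

section Transfer

lemma smul_quot_mk' {T : Type u} [CommRing T] (J : Ideal T) (c b : T) :
    c • (Ideal.Quotient.mk J b) = Ideal.Quotient.mk J (c * b) := rfl

theorem isNormalized_shriek (R A : Type u) [CommRing R] [CommRing A] [IsNoetherianRing R]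
    [IsNoetherianRing A] [Algebra R A] (n : ℕ) (ψ : MvPolynomial (Fin n) R →ₐ[R] A)
    (hψ : Function.Surjective ψ) [DRing.HasLBaseChange (algebraMap R (MvPolynomial (Fin n) R))]
    (Rψ : Dual.D (MvPolynomial (Fin n) R) ⥤ Dual.D A) (adj : DRing.restrictD ψ.toRingHom ⊣ Rψ)
    [IsLocalRing R] (m : Ideal A) [hm' : m.IsMaximal]
    (hm : m.comap (algebraMap R A) = IsLocalRing.maximalIdeal R) (ω : Dual.D R)
    (hω : Dual.IsDualizing R ω) (hn : Dual.IsNormalized R ω)
    [DRing.HasLBaseChange (algebraMap A (Localization.AtPrime m))] :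
    Dual.IsDualizing (Localization.AtPrime m)
        ((DRing.LBaseChange (algebraMap A (Localization.AtPrime m))).obj
          (Dual2.shriekVia n Rψ ω)) ∧
      Dual.IsNormalized (Localization.AtPrime m)
        ((DRing.LBaseChange (algebraMap A (Localization.AtPrime m))).obj
          (Dual2.shriekVia n Rψ ω)) := by
  have hX : Dual.IsDualizing A (Dual2.shriekVia n Rψ ω) :=
    Groth.Agent.S1782.result R A n ψ hψ Rψ adj ω hω
  obtain ⟨e3⟩ := lbc_iso_extD (Localization.AtPrime m) (Dual2.shriekVia n Rψ ω)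
  have hXm : Dual.IsDualizing (Localization.AtPrime m)
      ((extD A (Localization.AtPrime m)).obj (Dual2.shriekVia n Rψ ω)) :=
    isDualizing_extD m.primeCompl (Localization.AtPrime m) _ hX
  refine ⟨isDualizing_of_iso e3.symm hXm, fun i hi => ?_⟩
  have hbbX := hasBBRes_of_isDualizing _ hX
  obtain ⟨e0⟩ := lbc_iso_extD (MvPolynomial (Fin n) R) ω
  letI : Algebra (MvPolynomial (Fin n) R) A := ψ.toRingHom.toAlgebra
  letI : Rψ.CommShift ℤ := adj.rightAdjointCommShift ℤ
  -- the maximal ideal of the polynomial ring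
  haveI hMmax : (m.comap (algebraMap (MvPolynomial (Fin n) R) A)).IsMaximal :=
    Ideal.comap_isMaximal_of_surjective _ hψ
  have hMR : IsLocalRing.maximalIdeal R ≤ (m.comap (algebraMap (MvPolynomial (Fin n) R) A)).comap
      (algebraMap R (MvPolynomial (Fin n) R)) := by
    intro x hx
    rw [← hm] at hx
    rw [Ideal.mem_comap, Ideal.mem_comap]
    have h1 : algebraMap (MvPolynomial (Fin n) R) A (algebraMap R (MvPolynomial (Fin n) R) x) =
        algebraMap R A x := ψ.commutes x
    rw [h1]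
    exact hx
  have hcore := subsingleton_ext_quot_maximal R n ω hω hn
    (m.comap (algebraMap (MvPolynomial (Fin n) R) A)) hMR ((n : ℤ) + i) (by lia)
  -- the `P`-module `A/m`
  let f : MvPolynomial (Fin n) R →ₗ[MvPolynomial (Fin n) R]
      ((ModuleCat.restrictScalars.{u} (algebraMap (MvPolynomial (Fin n) R) A)).obj
        (ModuleCat.of A (A ⧸ m))) :=
    { toFun := fun p => (Ideal.Quotient.mk m (algebraMap (MvPolynomial (Fin n) R) A p) : A ⧸ m)
      map_add' := fun x y => by
        show Ideal.Quotient.mk m (algebraMap (MvPolynomial (Fin n) R) A (x + y)) = _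
        rw [map_add, map_add]
        rfl
      map_smul' := fun c x => by
        show Ideal.Quotient.mk m (algebraMap (MvPolynomial (Fin n) R) A (c * x)) =
          algebraMap (MvPolynomial (Fin n) R) A c •
            (Ideal.Quotient.mk m (algebraMap (MvPolynomial (Fin n) R) A x) : A ⧸ m)
        rw [map_mul, smul_quot_mk'] }
  have hf : Function.Surjective f := by
    intro y
    obtain ⟨a, rfl⟩ := Ideal.Quotient.mk_surjective (show A ⧸ m from y)
    obtain ⟨p, rfl⟩ := hψ a
    exact ⟨p, rfl⟩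
  have hkf : m.comap (algebraMap (MvPolynomial (Fin n) R) A) = LinearMap.ker f := by
    ext p
    rw [LinearMap.mem_ker, Ideal.mem_comap]
    exact (Ideal.Quotient.eq_zero_iff_mem (I := m)).symm
  let eQ : (MvPolynomial (Fin n) R ⧸ m.comap (algebraMap (MvPolynomial (Fin n) R) A))
      ≃ₗ[MvPolynomial (Fin n) R]
      ((ModuleCat.restrictScalars.{u} (algebraMap (MvPolynomial (Fin n) R) A)).obj
        (ModuleCat.of A (A ⧸ m))) :=
    Submodule.quotEquivOfEq _ _ hkf ≪≫ₗ f.quotKerEquivOfSurjective hf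
  -- vanishing over `A`
  have h1 : Subsingleton (Dual.inD A (A ⧸ m) ⟶ (Dual2.shriekVia n Rψ ω)⟦i⟧) := by
    have hP : Subsingleton ((DerivedCategory.singleFunctor
        (ModuleCat.{u} (MvPolynomial (Fin n) R)) 0).obj
        ((ModuleCat.restrictScalars.{u} (algebraMap (MvPolynomial (Fin n) R) A)).obj
          (ModuleCat.of A (A ⧸ m))) ⟶
        ((DRing.LBaseChange (algebraMap R (MvPolynomial (Fin n) R))).obj ω)⟦(n : ℤ) + i⟧) :=
      subsingleton_hom_of_isos
        ((DerivedCategory.singleFunctor (ModuleCat.{u} (MvPolynomial (Fin n) R)) 0).mapIso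
          eQ.toModuleIso)
        ((shiftFunctor (Dual.D (MvPolynomial (Fin n) R)) ((n : ℤ) + i)).mapIso e0.symm) hcore
    have e1 : (Dual.inD A (A ⧸ m) ⟶
        (Rψ.obj ((DRing.LBaseChange (algebraMap R (MvPolynomial (Fin n) R))).obj ω))⟦(n : ℤ) + i⟧) ≃
        ((DRing.restrictD (algebraMap (MvPolynomial (Fin n) R) A)).obj (Dual.inD A (A ⧸ m)) ⟶
          ((DRing.LBaseChange (algebraMap R (MvPolynomial (Fin n) R))).obj ω)⟦(n : ℤ) + i⟧) :=
      ((Rψ.commShiftIso ((n : ℤ) + i)).app _).symm.homToEquiv.trans (adj.homEquiv _ _).symm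
    haveI : Subsingleton (Dual.inD A (A ⧸ m) ⟶
        (Rψ.obj ((DRing.LBaseChange (algebraMap R (MvPolynomial (Fin n) R))).obj ω))⟦(n : ℤ) + i⟧) :=
      (e1.trans ((restrictDInD (algebraMap (MvPolynomial (Fin n) R) A)
        (A ⧸ m)).homFromEquiv)).subsingleton
    exact subsingleton_hom_of_isos (Iso.refl _)
      ((shiftFunctorAdd' (Dual.D A) (n : ℤ) i ((n : ℤ) + i) rfl).app _) inferInstance
  have h2 := subsingleton_hom_quot_map (Localization.AtPrime m) m
    ((Dual2.shriekVia n Rψ ω)⟦i⟧) (hbbX.shift i) h1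
  have hmax : m.map (algebraMap A (Localization.AtPrime m)) =
      IsLocalRing.maximalIdeal (Localization.AtPrime m) :=
    Localization.AtPrime.map_eq_maximalIdeal
  let eκ : (Localization.AtPrime m ⧸ m.map (algebraMap A (Localization.AtPrime m)))
      ≃ₗ[Localization.AtPrime m] IsLocalRing.ResidueField (Localization.AtPrime m) :=
    Submodule.quotEquivOfEq _ _ hmax
  exact subsingleton_hom_of_isos (inDIso eκ)
    (((extD A (Localization.AtPrime m)).commShiftIso i).app _ ≪≫
      (shiftFunctor (Dual.D (Localization.AtPrime m)) i).mapIso e3.symm) h2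

end Transfer

end Groth.Agent.Lib.Helper5.ShriekNorm
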