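import Mathlib
import Groth.Agent.Lib.Helper5SliceC

/-!
# Slicing flat morphisms by fibrewise nonzerodivisors: scheme level (helper5)
-/

set_option autoImplicit false
set_option linter.style.haveILetI false
universe u
open CategoryTheory CategoryTheory.Limits AlgebraicGeometry TopologicalSpace Opposite

namespace Groth.Agent.Lib.Helper5.SliceSch
open Groth.Agent.Lib.Helper5.Slice

set_option maxHeartbeats 1600000 in
theorem exists_slice {X S : Scheme.{u}} (f : X ⟶ S) [LocallyOfFinitePresentation f] (x : X)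
    (hflat : (f.stalkMap x).hom.Flat) (h : X.presheaf.stalk x)
    (hm : h ∈ IsLocalRing.maximalIdeal (X.presheaf.stalk x))
    (hreg : Ideal.Quotient.mk (Ideal.map (f.stalkMap x).hom
        (IsLocalRing.maximalIdeal (S.presheaf.stalk (f x)))) h ∈
      nonZeroDivisors (X.presheaf.stalk x ⧸ Ideal.map (f.stalkMap x).hom
        (IsLocalRing.maximalIdeal (S.presheaf.stalk (f x))))) :
    ∃ (U : X.Opens) (hU : IsAffineOpen U) (hx : x ∈ U) (h' : Γ(X, U)),
      X.presheaf.germ U x hx h' = h ∧ h' ∈ nonZeroDivisors Γ(X, U) ∧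
      Flat (Spec.map (CommRingCat.ofHom (Ideal.Quotient.mk (Ideal.span {h'}))) ≫
        hU.fromSpec ≫ f) ∧
      LocallyOfFinitePresentation (Spec.map (CommRingCat.ofHom (Ideal.Quotient.mk
        (Ideal.span {h'}))) ≫ hU.fromSpec ≫ f) := by
  classical
  obtain ⟨_, ⟨V : S.Opens, hV, rfl⟩, hxV, -⟩ :=
    S.isBasis_affineOpens.exists_subset_of_mem_open (Set.mem_univ (f x)) isOpen_univ
  obtain ⟨W, hxW, h₀, hh₀⟩ := TopCat.Presheaf.exists_germ_eq X.presheaf h
  obtain ⟨_, ⟨U₀ : X.Opens, hU₀, rfl⟩, hxU₀, hU₀le⟩ :=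
    X.isBasis_affineOpens.exists_subset_of_mem_open
      (show x ∈ ((W ⊓ f ⁻¹ᵁ V : X.Opens) : Set X) from ⟨hxW, hxV⟩) (W ⊓ f ⁻¹ᵁ V).2
  have hU₀W : U₀ ≤ W := fun y hy => (hU₀le hy).1
  have e : U₀ ≤ f ⁻¹ᵁ V := fun y hy => (hU₀le hy).2
  let h₁ : Γ(X, U₀) := X.presheaf.map (homOfLE hU₀W).op h₀
  have hh₁ : X.presheaf.germ U₀ x hxU₀ h₁ = h := by
    rw [← hh₀]
    exact TopCat.Presheaf.germ_res_apply X.presheaf (homOfLE hU₀W) x hxU₀ h₀
  -- ring data
  letI algAC : Algebra Γ(S, V) Γ(X, U₀) := (f.appLE V U₀ e).hom.toAlgebra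
  haveI hfp : Algebra.FinitePresentation Γ(S, V) Γ(X, U₀) :=
    (HasRingHomProperty.iff_appLE (P := @LocallyOfFinitePresentation)).mp inferInstance
      ⟨V, hV⟩ ⟨U₀, hU₀⟩ e
  letI algCL : Algebra Γ(X, U₀) (X.presheaf.stalk x) :=
    X.presheaf.algebra_section_stalk ⟨x, hxU₀⟩
  haveI hlocL : IsLocalization.AtPrime (X.presheaf.stalk x)
      (hU₀.primeIdealOf ⟨x, hxU₀⟩).asIdeal := hU₀.isLocalization_stalk ⟨x, hxU₀⟩
  letI algAL : Algebra Γ(S, V) (X.presheaf.stalk x) :=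
    ((algebraMap Γ(X, U₀) (X.presheaf.stalk x)).comp
      (algebraMap Γ(S, V) Γ(X, U₀))).toAlgebra
  haveI : IsScalarTower Γ(S, V) Γ(X, U₀) (X.presheaf.stalk x) :=
    IsScalarTower.of_algebraMap_eq' rfl
  letI algAS : Algebra Γ(S, V) (S.presheaf.stalk (f x)) :=
    S.presheaf.algebra_section_stalk ⟨f x, hxV⟩
  haveI hlocS : IsLocalization.AtPrime (S.presheaf.stalk (f x))
      (hV.primeIdealOf ⟨f x, hxV⟩).asIdeal := hV.isLocalization_stalk ⟨f x, hxV⟩
  have hnat : algebraMap Γ(S, V) (X.presheaf.stalk x) =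
      (f.stalkMap x).hom.comp (algebraMap Γ(S, V) (S.presheaf.stalk (f x))) := by
    refine RingHom.ext fun a => ?_
    show X.presheaf.germ U₀ x hxU₀ (f.appLE V U₀ e a) =
      f.stalkMap x (S.presheaf.germ V (f x) hxV a)
    have h1 : f.appLE V U₀ e a = X.presheaf.map (homOfLE e).op (f.app V a) := by
      rw [Scheme.Hom.appLE]; rfl
    rw [h1, TopCat.Presheaf.germ_res_apply X.presheaf (homOfLE e) x hxU₀,
      Scheme.Hom.germ_stalkMap_apply]
  have hflat' : Module.Flat Γ(S, V) (X.presheaf.stalk x) := by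
    rw [← RingHom.flat_algebraMap_iff, hnat]
    refine RingHom.Flat.comp ?_ hflat
    rw [RingHom.flat_algebraMap_iff]
    exact IsLocalization.flat (S.presheaf.stalk (f x))
      (hV.primeIdealOf ⟨f x, hxV⟩).asIdeal.primeCompl
  set P : Ideal Γ(X, U₀) := (hU₀.primeIdealOf ⟨x, hxU₀⟩).asIdeal with hPdef
  have hunder : P.under Γ(S, V) = (hV.primeIdealOf ⟨f x, hxV⟩).asIdeal := by
    have := IsAffineOpen.comap_primeIdealOf_appLE (f := f) V hV U₀ hU₀ e hxU₀
    exact congrArg PrimeSpectrum.asIdeal this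
  have hI : Ideal.map (f.stalkMap x).hom (IsLocalRing.maximalIdeal (S.presheaf.stalk (f x))) =
      (P.under Γ(S, V)).map (algebraMap Γ(S, V) (X.presheaf.stalk x)) := by
    rw [hunder, hnat, ← Ideal.map_map,
      IsLocalization.AtPrime.map_eq_maximalIdeal (hV.primeIdealOf ⟨f x, hxV⟩).asIdeal
        (S.presheaf.stalk (f x))]
  have hP : h₁ ∈ P := by
    refine (IsLocalization.AtPrime.to_map_mem_maximal_iff (X.presheaf.stalk x) P h₁).mp ?_
    show X.presheaf.germ U₀ x hxU₀ h₁ ∈ _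
    rw [hh₁]
    exact hm
  have hreg' : ∀ z : X.presheaf.stalk x,
      algebraMap Γ(X, U₀) (X.presheaf.stalk x) h₁ * z ∈
        (P.under Γ(S, V)).map (algebraMap Γ(S, V) (X.presheaf.stalk x)) →
      z ∈ (P.under Γ(S, V)).map (algebraMap Γ(S, V) (X.presheaf.stalk x)) := by
    intro z hz
    rw [← hI] at hz ⊢
    have h1 : algebraMap Γ(X, U₀) (X.presheaf.stalk x) h₁ = h := hh₁
    rw [h1] at hz
    have h2 : Ideal.Quotient.mk (Ideal.map (f.stalkMap x).hom
        (IsLocalRing.maximalIdeal (S.presheaf.stalk (f x)))) z *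
        Ideal.Quotient.mk (Ideal.map (f.stalkMap x).hom
        (IsLocalRing.maximalIdeal (S.presheaf.stalk (f x)))) h = 0 := by
      rw [← map_mul, Ideal.Quotient.eq_zero_iff_mem, mul_comm]
      exact hz
    exact Ideal.Quotient.eq_zero_iff_mem.mp ((mem_nonZeroDivisors_iff_right.mp hreg) _ h2)
  obtain ⟨g, hgP, Hg⟩ := exists_away_nzd_flat (A := Γ(S, V)) (C := Γ(X, U₀))
    (L := X.presheaf.stalk x) P hflat' h₁ hP hreg'
  have hU : IsAffineOpen (X.basicOpen g) := hU₀.basicOpen g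
  have hxU : x ∈ X.basicOpen g := by
    rw [X.mem_basicOpen g x hxU₀]
    exact IsLocalization.map_units (X.presheaf.stalk x) (⟨g, hgP⟩ : P.primeCompl)
  have e' : X.basicOpen g ≤ f ⁻¹ᵁ V := (X.basicOpen_le g).trans e
  letI algAC₁ : Algebra Γ(S, V) Γ(X, X.basicOpen g) :=
    (f.appLE V (X.basicOpen g) e').hom.toAlgebra
  haveI : IsScalarTower Γ(S, V) Γ(X, U₀) Γ(X, X.basicOpen g) :=
    IsScalarTower.of_algebraMap_eq' (by
      show (f.appLE V (X.basicOpen g) e').hom =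
        (X.presheaf.map (homOfLE (X.basicOpen_le g)).op).hom.comp (f.appLE V U₀ e).hom
      rw [← CommRingCat.hom_comp, Scheme.Hom.appLE_map])
  haveI : IsLocalization.Away g Γ(X, X.basicOpen g) := hU₀.isLocalization_basicOpen g
  obtain ⟨hnzd, hfl⟩ := Hg Γ(X, X.basicOpen g)
  refine ⟨X.basicOpen g, hU, hxU, algebraMap Γ(X, U₀) Γ(X, X.basicOpen g) h₁, ?_, hnzd, ?_, ?_⟩
  · rw [← hh₁]
    exact TopCat.Presheaf.germ_res_apply X.presheaf (homOfLE (X.basicOpen_le g)) x hxU h₁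
  · rw [← IsAffineOpen.SpecMap_appLE_fromSpec f hV hU e', ← Category.assoc, ← Spec.map_comp]
    haveI : Flat (Spec.map (f.appLE V (X.basicOpen g) e' ≫ CommRingCat.ofHom
        (Ideal.Quotient.mk (Ideal.span {algebraMap Γ(X, U₀) Γ(X, X.basicOpen g) h₁})))) := by
      rw [HasRingHomProperty.Spec_iff (P := @Flat), CommRingCat.hom_comp, CommRingCat.hom_ofHom]
      exact RingHom.flat_algebraMap_iff.mpr hfl
    infer_instance
  · haveI : LocallyOfFinitePresentation (Spec.map (CommRingCat.ofHom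
        (Ideal.Quotient.mk (Ideal.span {algebraMap Γ(X, U₀) Γ(X, X.basicOpen g) h₁})))) := by
      rw [HasRingHomProperty.Spec_iff (P := @LocallyOfFinitePresentation), CommRingCat.hom_ofHom]
      refine RingHom.FinitePresentation.of_surjective _ Ideal.Quotient.mk_surjective ?_
      rw [Ideal.mk_ker]
      exact Submodule.fg_span_singleton _
    infer_instance

end Groth.Agent.Lib.Helper5.SliceSch
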