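import Mathlib
import Groth.Prelude.Def_CAlg
import Groth.Agent.Lib.Helper5SliceSch
import Groth.Agent.Lib.Helper5FiberStalk

/-!
# Slicing through a point of positive fibre depth (helper5)
-/

set_option autoImplicit false
set_option linter.style.haveILetI false
universe u
open CategoryTheory CategoryTheory.Limits AlgebraicGeometry TopologicalSpace Opposite

namespace Groth.Agent.Lib.Helper5.SliceSch
open Groth.Agent.Lib.Helper5.Slice Groth.Agent.Lib.Helper5.FiberStalk

/-- a local ring of positive depth contains a regular element in its maximal ideal. -/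
theorem exists_isSMulRegular_of_one_le_depth (R : Type u) [CommRing R] [IsLocalRing R]
    (h : 1 ≤ LocCoh.depth R R) :
    ∃ r ∈ IsLocalRing.maximalIdeal R, IsSMulRegular R r := by
  classical
  have hne : IsLocalRing.maximalIdeal R • (⊤ : Submodule R R) ≠ ⊤ := by
    rw [smul_eq_mul, Ideal.mul_top]
    exact Ideal.IsPrime.ne_top inferInstance
  unfold LocCoh.depth LocCoh.idealDepth at h
  rw [if_neg hne] at h
  by_contra hcon
  push Not at hcon
  have hle : (⨆ (rs : List R) (_ : RingTheory.Sequence.IsWeaklyRegular R rs ∧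
      ∀ r ∈ rs, r ∈ IsLocalRing.maximalIdeal R), (rs.length : ℕ∞)) ≤ 0 := by
    refine iSup₂_le fun rs hrs => ?_
    cases rs with
    | nil => simp
    | cons r rs' =>
      exfalso
      have h1 := (RingTheory.Sequence.isWeaklyRegular_cons_iff R r rs').mp hrs.1
      exact hcon r (hrs.2 r (List.mem_cons_self)) h1.1
  have : (1 : ℕ∞) ≤ 0 := h.trans hle
  simp at this

theorem exists_slice_of_depth {X S : Scheme.{u}} (f : X ⟶ S) [LocallyOfFinitePresentation f]
    (x : X) (hflat : (f.stalkMap x).hom.Flat)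
    (hdepth : 1 ≤ LocCoh.depth ↑((f.fiber (f x)).presheaf.stalk (f.asFiber x))
      ↑((f.fiber (f x)).presheaf.stalk (f.asFiber x))) :
    ∃ (U : X.Opens) (hU : IsAffineOpen U) (hx : x ∈ U) (h' : Γ(X, U)),
      h' ∈ nonZeroDivisors Γ(X, U) ∧
      X.presheaf.germ U x hx h' ∈ IsLocalRing.maximalIdeal ↑(X.presheaf.stalk x) ∧
      Flat (Spec.map (CommRingCat.ofHom (Ideal.Quotient.mk (Ideal.span {h'}))) ≫
        hU.fromSpec ≫ f) ∧
      LocallyOfFinitePresentation (Spec.map (CommRingCat.ofHom (Ideal.Quotient.mk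
        (Ideal.span {h'}))) ≫ hU.fromSpec ≫ f) := by
  obtain ⟨r, hrm, hr⟩ := exists_isSMulRegular_of_one_le_depth _ hdepth
  obtain ⟨e⟩ := nonempty_stalk_asFiber_equiv f x
  obtain ⟨h, hh⟩ := Ideal.Quotient.mk_surjective (e r)
  have hm : h ∈ IsLocalRing.maximalIdeal (X.presheaf.stalk x) := by
    rw [IsLocalRing.mem_maximalIdeal, mem_nonunits_iff]
    intro hu
    have h1 : IsUnit (e r) := hh ▸ hu.map _
    have h2 : IsUnit r := by
      have := h1.map e.symm
      rwa [RingEquiv.symm_apply_apply] at this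
    exact (IsLocalRing.mem_maximalIdeal r).mp hrm h2
  have hreg : Ideal.Quotient.mk (Ideal.map (f.stalkMap x).hom
        (IsLocalRing.maximalIdeal (S.presheaf.stalk (f x)))) h ∈
      nonZeroDivisors (X.presheaf.stalk x ⧸ Ideal.map (f.stalkMap x).hom
        (IsLocalRing.maximalIdeal (S.presheaf.stalk (f x)))) := by
    rw [mem_nonZeroDivisors_iff_right]
    intro y hy
    rw [hh] at hy
    have h1 : e.symm y * r = 0 := by
      have := congrArg e.symm hy
      rwa [map_mul, RingEquiv.symm_apply_apply, map_zero] at this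
    have h2 : e.symm y = 0 := by
      apply hr
      show r * e.symm y = r * 0
      rw [mul_zero, mul_comm, h1]
    have := congrArg e h2
    rwa [RingEquiv.apply_symm_apply, map_zero] at this
  obtain ⟨U, hU, hx, h', hgerm, hnzd, hfl, hfp⟩ := exists_slice f x hflat h hm hreg
  exact ⟨U, hU, hx, h', hnzd, hgerm ▸ hm, hfl, hfp⟩

end Groth.Agent.Lib.Helper5.SliceSch
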