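import Mathlib
import Groth.Agent.Lib.Helper5SliceListA
import Groth.Agent.Lib.Helper5RegImm

/-!
# Slicing by fibrewise regular sequences, for a morphism lfp only near the point (helper5)

Variant of `exists_slice_list` where only `W.ι ≫ f` is locally of finite presentation, `x ∈ W`.
`exists_slice_list_nbhd`: `f : X ⟶ S` lfp on the open `W ∋ x`, flat at `x`, `hs` a list of germs at
`x` in the maximal ideal whose images in `O_{X,x} / m_s O_{X,x}` form a weakly regular sequence.  Then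
there are an affine open `U₀ ∋ x` mapping into an affine open `V` of `S`, sections `rs₀` on `U₀` with
germs `hs`, and `g ∈ Γ(X, U₀)` not vanishing at `x`, such that on every basic open `D(g a)` the
restricted sections (in reversed order) form a weakly regular sequence with all partial quotients
flat over `Γ(S, V)`.
-/

set_option autoImplicit false
set_option linter.style.haveILetI false
universe u
open CategoryTheory CategoryTheory.Limits AlgebraicGeometry TopologicalSpace Opposite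
open RingTheory.Sequence

namespace Groth.Agent.Lib.Helper5.SliceListSchW
open Groth.Agent.Lib.Helper5.Slice Groth.Agent.Lib.Helper5.SliceList
  Groth.Agent.Lib.Helper5.RegSeq Groth.Agent.Lib.Helper5.RegImm


set_option backward.isDefEq.respectTransparency false in
/-- chart maps are of finite presentation inside an open on which the morphism is locally of
finite presentation (pattern of helper10's `finiteType_appLE_of_le`). -/
theorem finitePresentation_appLE_of_le {X S : Scheme.{u}} (π : X ⟶ S) (W : X.Opens)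
    [LocallyOfFinitePresentation (W.ι ≫ π)]
    {V₀ : S.Opens} (hV₀ : IsAffineOpen V₀) {W₀ : X.Opens} (hW₀ : IsAffineOpen W₀) (hW₀W : W₀ ≤ W)
    (e₀ : W₀ ≤ π ⁻¹ᵁ V₀) : (π.appLE V₀ W₀ e₀).hom.FinitePresentation := by
  haveI : LocallyOfFinitePresentation (W₀.ι ≫ π) := by
    have : W₀.ι ≫ π = X.homOfLE hW₀W ≫ W.ι ≫ π := by rw [← Category.assoc, Scheme.homOfLE_ι]
    rw [this]
    infer_instance
  haveI : IsAffine W₀ := hW₀
  have e1 : (⊤ : W₀.toScheme.Opens) ≤ (W₀.ι ≫ π) ⁻¹ᵁ V₀ := by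
    intro w _
    exact e₀ w.2
  have h := (W₀.ι ≫ π).finitePresentation_appLE hV₀ (isAffineOpen_top W₀.toScheme) e1
  have hle : W₀.ι ''ᵁ ⊤ ≤ W₀ := (Scheme.Opens.ι_image_top W₀).le
  have h2 : (W₀.ι ≫ π).appLE V₀ ⊤ e1 = π.appLE V₀ W₀ e₀ ≫ X.presheaf.map (homOfLE hle).op := by
    rw [Scheme.Hom.comp_appLE, Scheme.Opens.ι_appLE, Scheme.Hom.appLE, Category.assoc,
      ← Functor.map_comp]
    rfl
  haveI : IsIso (X.presheaf.map (homOfLE hle).op) := by
    have heq : W₀.ι ''ᵁ ⊤ = W₀ := Scheme.Opens.ι_image_top W₀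
    have : homOfLE hle = eqToHom heq := Subsingleton.elim _ _
    rw [this, eqToHom_op, eqToHom_map]
    infer_instance
  rw [h2] at h
  exact (RingHom.finitePresentation_respectsIso.cancel_right_isIso _ _).mp h

set_option maxHeartbeats 1600000 in
theorem exists_slice_list_nbhd {X S : Scheme.{u}} (f : X ⟶ S) (W' : X.Opens)
    [LocallyOfFinitePresentation (W'.ι ≫ f)] (x : X) (hxW' : x ∈ W')
    (hflat : (f.stalkMap x).hom.Flat) (hs : List (X.presheaf.stalk x))
    (hm : ∀ h ∈ hs, h ∈ IsLocalRing.maximalIdeal (X.presheaf.stalk x))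
    (hreg : IsWeaklyRegular (X.presheaf.stalk x ⧸ Ideal.map (f.stalkMap x).hom
        (IsLocalRing.maximalIdeal (S.presheaf.stalk (f x))))
      (hs.map (Ideal.Quotient.mk (Ideal.map (f.stalkMap x).hom
        (IsLocalRing.maximalIdeal (S.presheaf.stalk (f x))))))) :
    ∃ (V : S.Opens) (_ : IsAffineOpen V) (U₀ : X.Opens) (_ : IsAffineOpen U₀) (hxU₀ : x ∈ U₀)
      (e : U₀ ≤ f ⁻¹ᵁ V) (rs₀ : List Γ(X, U₀)) (g : Γ(X, U₀)), U₀ ≤ W' ∧
      rs₀.map (X.presheaf.germ U₀ x hxU₀).hom = hs ∧ x ∈ X.basicOpen g ∧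
      ∀ a : Γ(X, U₀),
        IsWeaklyRegular Γ(X, X.basicOpen (g * a))
          (rs₀.map (X.presheaf.map (homOfLE (X.basicOpen_le (g * a))).op).hom).reverse ∧
        ∀ k : ℕ, ((Ideal.Quotient.mk (Ideal.ofList
          ((rs₀.map (X.presheaf.map (homOfLE (X.basicOpen_le (g * a))).op).hom).reverse.take k))).comp
            (f.appLE V (X.basicOpen (g * a)) ((X.basicOpen_le (g * a)).trans e)).hom).Flat := by
  classical
  obtain ⟨_, ⟨V : S.Opens, hV, rfl⟩, hxV, -⟩ :=
    S.isBasis_affineOpens.exists_subset_of_mem_open (Set.mem_univ (f x)) isOpen_univ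
  obtain ⟨W, -, hxW, ts, hts⟩ := exists_affine_lift X x hs
  obtain ⟨_, ⟨U₀ : X.Opens, hU₀, rfl⟩, hxU₀, hU₀le⟩ :=
    X.isBasis_affineOpens.exists_subset_of_mem_open
      (show x ∈ ((W ⊓ f ⁻¹ᵁ V ⊓ W' : X.Opens) : Set X) from ⟨⟨hxW, hxV⟩, hxW'⟩)
      (W ⊓ f ⁻¹ᵁ V ⊓ W').2
  have hU₀W : U₀ ≤ W := fun y hy => (hU₀le hy).1.1
  have e : U₀ ≤ f ⁻¹ᵁ V := fun y hy => (hU₀le hy).1.2
  have hU₀W' : U₀ ≤ W' := fun y hy => (hU₀le hy).2
  obtain ⟨rs₀, hrs₀def⟩ : ∃ rs₀ : List Γ(X, U₀),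
      rs₀ = ts.map (X.presheaf.map (homOfLE hU₀W).op).hom := ⟨_, rfl⟩
  have hrs₀ : rs₀.map (X.presheaf.germ U₀ x hxU₀).hom = hs := by
    rw [hrs₀def, ← hts, List.map_map]
    apply List.map_congr_left
    intro t _
    exact TopCat.Presheaf.germ_res_apply X.presheaf (homOfLE hU₀W) x hxU₀ t
  -- ring data
  letI algAC : Algebra Γ(S, V) Γ(X, U₀) := (f.appLE V U₀ e).hom.toAlgebra
  haveI hfp : Algebra.FinitePresentation Γ(S, V) Γ(X, U₀) :=
    finitePresentation_appLE_of_le f W' hV hU₀ hU₀W' e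
  letI algCL : Algebra Γ(X, U₀) (X.presheaf.stalk x) :=
    X.presheaf.algebra_section_stalk ⟨x, hxU₀⟩
  haveI hlocL : IsLocalization.AtPrime (X.presheaf.stalk x)
      (hU₀.primeIdealOf ⟨x, hxU₀⟩).asIdeal := hU₀.isLocalization_stalk ⟨x, hxU₀⟩
  letI algAL : Algebra Γ(S, V) (X.presheaf.stalk x) :=
    ((algebraMap Γ(X, U₀) (X.presheaf.stalk x)).comp
      (algebraMap Γ(S, V) Γ(X, U₀))).toAlgebra
  haveI : IsScalarTower Γ(S, V) Γ(X, U₀) (X.presheaf.stalk x) :=
    IsScalarTower.of_algebraMap_eq' rfl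
  letI algAS : Algebra Γ(S, V) (S.presheaf.stalk (f x)) :=
    S.presheaf.algebra_section_stalk ⟨f x, hxV⟩
  haveI hlocS : IsLocalization.AtPrime (S.presheaf.stalk (f x))
      (hV.primeIdealOf ⟨f x, hxV⟩).asIdeal := hV.isLocalization_stalk ⟨f x, hxV⟩
  have hnat : algebraMap Γ(S, V) (X.presheaf.stalk x) =
      (f.stalkMap x).hom.comp (algebraMap Γ(S, V) (S.presheaf.stalk (f x))) := by
    refine RingHom.ext fun a => ?_
    show X.presheaf.germ U₀ x hxU₀ (f.appLE V U₀ e a) =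
      f.stalkMap x (S.presheaf.germ V (f x) hxV a)
    have h1 : f.appLE V U₀ e a = X.presheaf.map (homOfLE e).op (f.app V a) := by
      rw [Scheme.Hom.appLE]; rfl
    rw [h1, TopCat.Presheaf.germ_res_apply X.presheaf (homOfLE e) x hxU₀,
      Scheme.Hom.germ_stalkMap_apply]
  have hflat' : Module.Flat Γ(S, V) (X.presheaf.stalk x) := by
    rw [← RingHom.flat_algebraMap_iff, hnat]
    refine RingHom.Flat.comp ?_ hflat
    rw [RingHom.flat_algebraMap_iff]
    exact IsLocalization.flat (S.presheaf.stalk (f x))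
      (hV.primeIdealOf ⟨f x, hxV⟩).asIdeal.primeCompl
  set P : Ideal Γ(X, U₀) := (hU₀.primeIdealOf ⟨x, hxU₀⟩).asIdeal with hPdef
  have hunder : P.under Γ(S, V) = (hV.primeIdealOf ⟨f x, hxV⟩).asIdeal := by
    have := IsAffineOpen.comap_primeIdealOf_appLE (f := f) V hV U₀ hU₀ e hxU₀
    exact congrArg PrimeSpectrum.asIdeal this
  have hI : Ideal.map (f.stalkMap x).hom (IsLocalRing.maximalIdeal (S.presheaf.stalk (f x))) =
      (P.under Γ(S, V)).map (algebraMap Γ(S, V) (X.presheaf.stalk x)) := by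
    rw [hunder, hnat, ← Ideal.map_map,
      IsLocalization.AtPrime.map_eq_maximalIdeal (hV.primeIdealOf ⟨f x, hxV⟩).asIdeal
        (S.presheaf.stalk (f x))]
  have hgerm : rs₀.map (algebraMap Γ(X, U₀) (X.presheaf.stalk x)) = hs := hrs₀
  have hP : ∀ h ∈ rs₀, h ∈ P := by
    intro h hh
    refine (IsLocalization.AtPrime.to_map_mem_maximal_iff (X.presheaf.stalk x) P h).mp ?_
    apply hm
    rw [← hgerm]
    exact List.mem_map_of_mem hh
  have hreg' : RegOn ((P.under Γ(S, V)).map (algebraMap Γ(S, V) (X.presheaf.stalk x)))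
      (rs₀.map (algebraMap Γ(X, U₀) (X.presheaf.stalk x))) := by
    rw [← hI, hgerm]
    exact regOn_of_isWeaklyRegular_quotient _ hs hreg
  obtain ⟨g, hgP, Hg⟩ := exists_away_flatReg (C := Γ(X, U₀)) (L := X.presheaf.stalk x) P rs₀
    Γ(S, V) hflat' hP hreg'
  have hxg : x ∈ X.basicOpen g := by
    rw [X.mem_basicOpen g x hxU₀]
    exact IsLocalization.map_units (X.presheaf.stalk x) (⟨g, hgP⟩ : P.primeCompl)
  refine ⟨V, hV, U₀, hU₀, hxU₀, e, rs₀, g, hU₀W', hrs₀, hxg, ?_⟩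
  intro a
  have e' : X.basicOpen (g * a) ≤ f ⁻¹ᵁ V := (X.basicOpen_le (g * a)).trans e
  letI algAC₁ : Algebra Γ(S, V) Γ(X, X.basicOpen (g * a)) :=
    (f.appLE V (X.basicOpen (g * a)) e').hom.toAlgebra
  haveI : IsScalarTower Γ(S, V) Γ(X, U₀) Γ(X, X.basicOpen (g * a)) :=
    IsScalarTower.of_algebraMap_eq' (by
      show (f.appLE V (X.basicOpen (g * a)) e').hom =
        (X.presheaf.map (homOfLE (X.basicOpen_le (g * a))).op).hom.comp (f.appLE V U₀ e).hom
      rw [← CommRingCat.hom_comp, Scheme.Hom.appLE_map])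
  haveI : IsLocalization.Away (g * a) Γ(X, X.basicOpen (g * a)) :=
    hU₀.isLocalization_basicOpen (g * a)
  obtain ⟨hw, hfl⟩ := Hg a Γ(X, X.basicOpen (g * a))
  refine ⟨hw, fun k => ?_⟩
  exact RingHom.flat_algebraMap_iff.mpr (hfl k)

end Groth.Agent.Lib.Helper5.SliceListSchW
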