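import Mathlib
import Groth.Agent.Lib.Helper5SliceListSchW
import Groth.Agent.Lib.Helper5SliceListGeo
import Groth.Agent.Lib.Helper5OpenImmSm
import Groth.Agent.Lib.Helper5CodepthFib
import Groth.Agent.Lib.Helper5RLR
import Groth.Agent.Lib.Helper20SmoothDescSch

/-!
# Smooth effective Cartier divisors through a point (helper5)

`f : X ⟶ S` smooth near `x`, `h ∈ m_x` with `dh ≠ 0` in `Ω_{X/S} ⊗ κ(x)`.  Then near `x` the germ `h`
is a nonzerodivisor and `V(h)` is smooth over `S`.

* ring level: `exists_functional_of_tmul_ne_zero`, `formallySmooth_quotient_of_functional`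
  (`B/(h)` is formally smooth over `A` if `B` is and some derivation sends `h` to `1`),
  `formallySmooth_comp_of_tmul_ne_zero`, `not_mem_map_of_tmul_D_ne_zero`;
* `exists_smooth_slice`: the scheme statement.
-/

set_option autoImplicit false
set_option linter.style.haveILetI false
universe u
open CategoryTheory CategoryTheory.Limits AlgebraicGeometry TopologicalSpace Opposite
open RingTheory.Sequence IsLocalRing TensorProduct

namespace Groth.Agent.Lib.Helper5.SmSlice
open Groth.Agent.Lib.Helper5.SliceListSchW Groth.Agent.Lib.Helper5.SliceListGeo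
  Groth.Agent.Lib.Helper5.FiberStalk Groth.Agent.Lib.Helper5.FiberMor
  Groth.Agent.Lib.Helper5.CodepthFib Groth.Agent.Lib.Helper5.OpenImmSm Groth.Agent.Lib.Helper5

section Ring
open KaehlerDifferential

theorem exists_functional_of_tmul_ne_zero {B : Type*} [CommRing B] [IsLocalRing B] {M : Type*}
    [AddCommGroup M] [Module B M] [Module.Projective B M] (m : M)
    (hm : (1 : ResidueField B) ⊗ₜ[B] m ≠ 0) : ∃ ℓ : M →ₗ[B] B, ℓ m = 1 := by
  classical
  obtain ⟨s, hs⟩ := Module.projective_def'.mp ‹Module.Projective B M›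
  by_cases hall : ∀ ω, s m ω ∈ maximalIdeal B
  · exfalso
    apply hm
    have h1 : m = Finsupp.linearCombination B id (s m) := (LinearMap.congr_fun hs m).symm
    rw [h1, Finsupp.linearCombination_apply, Finsupp.sum, TensorProduct.tmul_sum]
    refine Finset.sum_eq_zero fun ω _ => ?_
    have h2 : (s m ω) • (1 : ResidueField B) = 0 := by
      rw [Algebra.smul_def, mul_one, ResidueField.algebraMap_eq, residue_eq_zero_iff]
      exact hall ω
    rw [← TensorProduct.smul_tmul, h2, TensorProduct.zero_tmul]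
  · push Not at hall
    obtain ⟨ω₀, hω₀⟩ := hall
    have hu : IsUnit (s m ω₀) := IsLocalRing.notMem_maximalIdeal.mp hω₀
    refine ⟨(↑hu.unit⁻¹ : B) • ((Finsupp.lapply ω₀).comp s), ?_⟩
    show (↑hu.unit⁻¹ : B) • (s m ω₀) = 1
    rw [smul_eq_mul]
    exact hu.val_inv_mul

theorem not_mem_map_of_tmul_D_ne_zero {A B : Type*} [CommRing A] [CommRing B] [Algebra A B]
    [IsLocalRing B] (I : Ideal A) (hI : I.map (algebraMap A B) ≤ maximalIdeal B) (h : B)
    (hd : (1 : ResidueField B) ⊗ₜ[B] (D A B h) ≠ 0) : h ∉ I.map (algebraMap A B) := by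
  intro hmem
  apply hd
  have key : ∀ b (hb : b ∈ Ideal.span ((algebraMap A B) '' (I : Set A))),
      (1 : ResidueField B) ⊗ₜ[B] (D A B b) = 0 := by
    intro b hb
    induction hb using Submodule.span_induction with
    | mem b hb =>
      obtain ⟨a, -, rfl⟩ := hb
      rw [Derivation.map_algebraMap, TensorProduct.tmul_zero]
    | zero => rw [map_zero, TensorProduct.tmul_zero]
    | add b c hb hc ihb ihc => rw [map_add, TensorProduct.tmul_add, ihb, ihc, add_zero]
    | smul c b hb ih =>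
      have hbm : b ∈ maximalIdeal B := hI hb
      have h0 : b • (1 : ResidueField B) = 0 := by
        rw [Algebra.smul_def, mul_one, ResidueField.algebraMap_eq, residue_eq_zero_iff]
        exact hbm
      rw [smul_eq_mul, Derivation.leibniz, TensorProduct.tmul_add, TensorProduct.tmul_smul, ih,
        smul_zero, zero_add, ← TensorProduct.smul_tmul, h0, TensorProduct.zero_tmul]
  exact key h hmem

theorem formallySmooth_quotient_of_functional {A B C : Type u} [CommRing A] [CommRing B]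
    [CommRing C] [Algebra A B] [Algebra B C] [Algebra A C] [IsScalarTower A B C]
    [Algebra.FormallySmooth A B] (hsurj : Function.Surjective (algebraMap B C)) (h : B)
    (hker : RingHom.ker (algebraMap B C) = Ideal.span {h})
    (ℓ : Ω[B⁄A] →ₗ[B] B) (hℓ : ℓ (D A B h) = 1) : Algebra.FormallySmooth A C := by
  rw [Algebra.FormallySmooth.iff_split_injection hsurj]
  have hhK : h ∈ RingHom.ker (algebraMap B C) := by
    rw [hker]; exact Ideal.mem_span_singleton_self h
  obtain ⟨hc, hhc⟩ : ∃ hc : (RingHom.ker (algebraMap B C)).Cotangent,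
      hc = (RingHom.ker (algebraMap B C)).toCotangent ⟨h, hhK⟩ := ⟨_, rfl⟩
  have hkill : ∀ (k : B), k ∈ RingHom.ker (algebraMap B C) →
      ∀ x : (RingHom.ker (algebraMap B C)).Cotangent, k • x = 0 := by
    intro k hk x
    obtain ⟨y, rfl⟩ := Ideal.toCotangent_surjective _ x
    rw [← map_smul, Ideal.toCotangent_eq_zero]
    show (k * (y : B)) ∈ _ ^ 2
    rw [pow_two]; exact Ideal.mul_mem_mul hk y.2
  let φ₀ : Ω[B⁄A] →ₗ[B] (RingHom.ker (algebraMap B C)).Cotangent :=
    (LinearMap.toSpanSingleton B _ hc).comp ℓ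
  let β₀ : B →ₗ[B] (Ω[B⁄A] →ₗ[B] (RingHom.ker (algebraMap B C)).Cotangent) :=
    LinearMap.toSpanSingleton B _ φ₀
  let f : B →ₗ[B] C := Algebra.linearMap B C
  have hf : Function.Surjective f := hsurj
  have hle : LinearMap.ker f ≤ LinearMap.ker β₀ := by
    intro k hk
    have hk' : k ∈ RingHom.ker (algebraMap B C) := hk
    rw [LinearMap.mem_ker]
    refine LinearMap.ext fun ω => ?_
    show k • (ℓ ω • hc) = 0
    exact hkill k hk' _
  let β : C →ₗ[B] (Ω[B⁄A] →ₗ[B] (RingHom.ker (algebraMap B C)).Cotangent) :=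
    ((LinearMap.ker f).liftQ β₀ hle).comp (f.quotKerEquivOfSurjective hf).symm.toLinearMap
  have hβ : ∀ b ω, β (algebraMap B C b) ω = b • (ℓ ω • hc) := by
    intro b ω
    have h1 : (f.quotKerEquivOfSurjective hf).symm (algebraMap B C b) =
        Submodule.Quotient.mk b := by
      rw [LinearEquiv.symm_apply_eq]; rfl
    show ((LinearMap.ker f).liftQ β₀ hle)
      ((f.quotKerEquivOfSurjective hf).symm (algebraMap B C b)) ω = _
    rw [h1, Submodule.liftQ_apply]
    rfl
  have hβ1 : ∀ ω, β 1 ω = ℓ ω • hc := by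
    intro ω
    have := hβ 1 ω
    rwa [map_one, one_smul] at this
  refine ⟨TensorProduct.lift β, ?_⟩
  ext x
  obtain ⟨k, rfl⟩ := Ideal.toCotangent_surjective _ x
  have hk2 : (k : B) ∈ Ideal.span {h} := by rw [← hker]; exact k.2
  obtain ⟨b, hb⟩ := Ideal.mem_span_singleton'.mp hk2
  rw [LinearMap.comp_apply, kerCotangentToTensor_toCotangent, LinearMap.id_apply,
    TensorProduct.lift.tmul, ← hb, Derivation.leibniz, map_add, map_smul, map_smul, hβ1, hβ1, hℓ,
    one_smul, hkill h hhK, add_zero, hhc, ← map_smul]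
  congr 1
  exact Subtype.ext hb

theorem formallySmooth_comp_of_tmul_ne_zero {A B C : Type u} [CommRing A] [CommRing B]
    [CommRing C] [IsLocalRing B] (φ : A →+* B) (ψ : B →+* C) (hφ : φ.FormallySmooth)
    (hψ : Function.Surjective ψ) (h : B) (hker : RingHom.ker ψ = Ideal.span {h})
    (hd : letI := φ.toAlgebra
      (1 : ResidueField B) ⊗ₜ[B] (KaehlerDifferential.D A B h) ≠ 0) :
    (ψ.comp φ).FormallySmooth := by
  letI := φ.toAlgebra
  letI := ψ.toAlgebra
  letI := (ψ.comp φ).toAlgebra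
  haveI : IsScalarTower A B C := IsScalarTower.of_algebraMap_eq' rfl
  haveI : Algebra.FormallySmooth A B := hφ
  obtain ⟨ℓ, hℓ⟩ := exists_functional_of_tmul_ne_zero (D A B h) hd
  exact formallySmooth_quotient_of_functional (A := A) hψ h hker ℓ hℓ

end Ring

section Sch

variable {X S : Scheme.{u}}

theorem lfp_sliceι_comp' {U : X.Opens} (hU : IsAffineOpen U) (I : Ideal Γ(X, U)) (f : X ⟶ S)
    {V : S.Opens} (hV : IsAffineOpen V) (e : U ≤ f ⁻¹ᵁ V)
    (hfp : (f.appLE V U e).hom.FinitePresentation) (hI : I.FG) :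
    LocallyOfFinitePresentation (sliceι hU I ≫ f) := by
  show LocallyOfFinitePresentation
    ((Spec.map (CommRingCat.ofHom (Ideal.Quotient.mk I)) ≫ hU.fromSpec) ≫ f)
  rw [Category.assoc, ← IsAffineOpen.SpecMap_appLE_fromSpec f hV hU e, ← Category.assoc,
    ← Spec.map_comp]
  haveI : LocallyOfFinitePresentation
      (Spec.map (f.appLE V U e ≫ CommRingCat.ofHom (Ideal.Quotient.mk I))) := by
    rw [HasRingHomProperty.Spec_iff (P := @LocallyOfFinitePresentation), CommRingCat.hom_comp,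
      CommRingCat.hom_ofHom]
    refine RingHom.FinitePresentation.comp ?_ hfp
    refine RingHom.FinitePresentation.of_surjective _ Ideal.Quotient.mk_surjective ?_
    rw [Ideal.mk_ker]
    exact hI
  infer_instance

theorem map_ofList_singleton {R T : Type*} [CommRing R] [CommRing T] (φ : R →+* T) (a : R) :
    Ideal.map φ (Ideal.ofList [a]) = Ideal.span {φ a} := by
  rw [Ideal.ofList_singleton, Ideal.map_span, Set.image_singleton]

theorem smooth_congr_ideal {R : Type u} [CommRing R] {Y : Scheme.{u}}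
    (g : Spec (CommRingCat.of R) ⟶ Y) {I J : Ideal R} (hIJ : I = J)
    (h : Smooth (Spec.map (CommRingCat.ofHom (Ideal.Quotient.mk I)) ≫ g)) :
    Smooth (Spec.map (CommRingCat.ofHom (Ideal.Quotient.mk J)) ≫ g) := by
  subst hIJ
  exact h

set_option maxHeartbeats 3200000 in
theorem exists_smooth_slice (f : X ⟶ S) (x : X) (W : X.Opens) (hxW : x ∈ W)
    (hW : Smooth (W.ι ≫ f)) (h : X.presheaf.stalk x)
    (hm : h ∈ maximalIdeal (X.presheaf.stalk x))
    (hd : letI := (f.stalkMap x).hom.toAlgebra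
      (1 : ResidueField (X.presheaf.stalk x)) ⊗ₜ[X.presheaf.stalk x]
        (KaehlerDifferential.D (S.presheaf.stalk (f x)) (X.presheaf.stalk x) h) ≠ 0) :
    ∃ (U : X.Opens) (hU : IsAffineOpen U) (hx : x ∈ U) (h' : Γ(X, U)),
      (X.presheaf.germ U x hx).hom h' = h ∧ h' ∈ nonZeroDivisors Γ(X, U) ∧
      Smooth (Spec.map (CommRingCat.ofHom (Ideal.Quotient.mk (Ideal.span {h'}))) ≫
        hU.fromSpec ≫ f) := by
  classical
  haveI := hW
  have hFS : (f.stalkMap x).hom.FormallySmooth :=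
    Groth.Agent.Lib.Helper20.FlatDesc.formallySmooth_stalkMap_of_nbhd f x W hxW
  have hflat : (f.stalkMap x).hom.Flat := by
    have h1 : ((W.ι ≫ f).stalkMap ⟨x, hxW⟩).hom.Flat :=
      (Flat.iff_flat_stalkMap _).mp inferInstance _
    exact (Groth.Agent.Lib.Helper20.EtLocal.stalkMap_ι_comp_iff RingHom.Flat.respectsIso f W
      ⟨x, hxW⟩).mp h1
  -- the local ring of the fibre is a domain
  have hPe : IsoInv.{u} (fun R _ => IsDomain R) := fun R S _ _ e hR =>
    MulEquiv.isDomain R e.symm.toMulEquiv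
  haveI hdom : IsDomain (X.presheaf.stalk x ⧸
      (maximalIdeal (S.presheaf.stalk (f x))).map (f.stalkMap x).hom) := by
    have h1 := isRegularLocalRing_fiber_of_smooth (W.ι ≫ f) ((W.ι ≫ f) ⟨x, hxW⟩)
      ((W.ι ≫ f).asFiber ⟨x, hxW⟩)
    have h2 : IsDomain _ := @isDomain_of_isRegularLocalRing _ _ h1
    have h3 := (fiber_stalk_openImmersion_iff (P := fun R _ => IsDomain R) f hPe W.ι
      ⟨x, hxW⟩).mp h2
    exact (fiber_stalk_iff (P := fun R _ => IsDomain R) f x hPe).mp h3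
  have hnotmem : h ∉ (maximalIdeal (S.presheaf.stalk (f x))).map (f.stalkMap x).hom := by
    letI := (f.stalkMap x).hom.toAlgebra
    exact not_mem_map_of_tmul_D_ne_zero (A := S.presheaf.stalk (f x))
      (B := X.presheaf.stalk x) (maximalIdeal _) (fibIdeal_le f x) h hd
  have hnzd : Ideal.Quotient.mk ((maximalIdeal (S.presheaf.stalk (f x))).map
      (f.stalkMap x).hom) h ∈ nonZeroDivisors (X.presheaf.stalk x ⧸
        (maximalIdeal (S.presheaf.stalk (f x))).map (f.stalkMap x).hom) := by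
    apply mem_nonZeroDivisors_of_ne_zero
    rwa [Ne, Ideal.Quotient.eq_zero_iff_mem]
  have hm' : ∀ r ∈ [h], r ∈ maximalIdeal (X.presheaf.stalk x) := by
    intro r hr
    rw [List.mem_singleton] at hr
    rw [hr]; exact hm
  have hreg : IsWeaklyRegular (X.presheaf.stalk x ⧸ Ideal.map (f.stalkMap x).hom
      (maximalIdeal (S.presheaf.stalk (f x))))
      ([h].map (Ideal.Quotient.mk (Ideal.map (f.stalkMap x).hom
        (maximalIdeal (S.presheaf.stalk (f x)))))) := by
    rw [List.map_singleton, isWeaklyRegular_singleton_iff]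
    exact (isRegular_iff_mem_nonZeroDivisors.2 hnzd).left.isSMulRegular
  obtain ⟨V, hV, U₀, hU₀, hxU₀, e, rs₀, g, hU₀W, hrs₀, hxg, H⟩ :=
    exists_slice_list_nbhd f W x hxW hflat [h] hm' hreg
  obtain ⟨h₀, rfl, hh₀⟩ := List.map_eq_singleton_iff.mp hrs₀
  -- the first slice
  have hle₁ : X.basicOpen (g * 1) ≤ U₀ := X.basicOpen_le _
  have hD₁ : IsAffineOpen (X.basicOpen (g * 1)) := hU₀.basicOpen _
  have hx₁ : x ∈ X.basicOpen (g * 1) := by rw [mul_one]; exact hxg
  obtain ⟨h₁, hh₁def⟩ : ∃ h₁ : Γ(X, X.basicOpen (g * 1)),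
      h₁ = (X.presheaf.map (homOfLE hle₁).op).hom h₀ := ⟨_, rfl⟩
  have hgerm₁ : (X.presheaf.germ (X.basicOpen (g * 1)) x hx₁).hom h₁ = h := by
    rw [hh₁def, ← hh₀]
    exact TopCat.Presheaf.germ_res_apply X.presheaf (homOfLE hle₁) x hx₁ h₀
  have hI₁ : Ideal.ofList [h₁] ≤ (hD₁.primeIdealOf ⟨x, hx₁⟩).asIdeal := by
    rw [Ideal.ofList_singleton, Ideal.span_singleton_le_iff_mem]
    letI := X.presheaf.algebra_section_stalk (U := X.basicOpen (g * 1)) ⟨x, hx₁⟩
    haveI := hD₁.isLocalization_stalk ⟨x, hx₁⟩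
    refine (IsLocalization.AtPrime.to_map_mem_maximal_iff (X.presheaf.stalk x)
      (hD₁.primeIdealOf ⟨x, hx₁⟩).asIdeal h₁).mp ?_
    show (X.presheaf.germ (X.basicOpen (g * 1)) x hx₁).hom h₁ ∈ _
    rw [hgerm₁]; exact hm
  obtain ⟨y₁, hy₁⟩ := exists_sliceι_eq hD₁ (Ideal.ofList [h₁]) x hx₁ hI₁
  have e₁ : X.basicOpen (g * 1) ≤ f ⁻¹ᵁ V := hle₁.trans e
  have hfp₁ : (f.appLE V (X.basicOpen (g * 1)) e₁).hom.FinitePresentation :=
    finitePresentation_appLE_of_le f W hV hD₁ (hle₁.trans hU₀W) e₁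
  haveI hlfp₁ : LocallyOfFinitePresentation (sliceι hD₁ (Ideal.ofList [h₁]) ≫ f) :=
    lfp_sliceι_comp' hD₁ _ f hV e₁ hfp₁ (ofList_fg [h₁])
  -- smoothness at `y₁`
  have hsm₁ : y₁ ∈ (sliceι hD₁ (Ideal.ofList [h₁]) ≫ f).smoothLocus := by
    rw [Scheme.Hom.mem_smoothLocus]
    obtain ⟨hsurj, hker⟩ := stalkMap_sliceι hD₁ (Ideal.ofList [h₁]) y₁
    subst hy₁
    have hcomp_eq : ((sliceι hD₁ (Ideal.ofList [h₁]) ≫ f).stalkMap y₁).hom =
        ((sliceι hD₁ (Ideal.ofList [h₁])).stalkMap y₁).hom.comp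
          (f.stalkMap (sliceι hD₁ (Ideal.ofList [h₁]) y₁)).hom := by
      rw [Scheme.Hom.stalkMap_comp]; rfl
    rw [hcomp_eq]
    refine formallySmooth_comp_of_tmul_ne_zero _ _ hFS hsurj h ?_ hd
    exact hker.trans ((map_ofList_singleton _ _).trans
      (congrArg (fun t => Ideal.span {t}) hgerm₁))
  -- shrink into the smooth locus
  obtain ⟨_, ⟨β, rfl⟩, hyβ, hβG⟩ :=
    (PrimeSpectrum.isTopologicalBasis_basic_opens
      (R := Γ(X, X.basicOpen (g * 1)) ⧸ Ideal.ofList [h₁])).exists_subset_of_mem_open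
        (show y₁ ∈ ((sliceι hD₁ (Ideal.ofList [h₁]) ≫ f).smoothLocus : Set _) from hsm₁)
        (sliceι hD₁ (Ideal.ofList [h₁]) ≫ f).smoothLocus.2
  obtain ⟨b₁, rfl⟩ := Ideal.Quotient.mk_surjective β
  haveI : IsLocalization.Away (g * 1) Γ(X, X.basicOpen (g * 1)) :=
    hU₀.isLocalization_basicOpen (g * 1)
  obtain ⟨⟨c, s⟩, hcs⟩ := IsLocalization.surj (Submonoid.powers (g * 1)) b₁
  have hu : IsUnit (algebraMap Γ(X, U₀) Γ(X, X.basicOpen (g * 1)) (s : Γ(X, U₀))) :=
    IsLocalization.map_units _ s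
  obtain ⟨b', hb'⟩ : ∃ b' : Γ(X, X.basicOpen (g * 1)),
      b' = algebraMap Γ(X, U₀) Γ(X, X.basicOpen (g * 1)) c := ⟨_, rfl⟩
  have hcs' : b₁ * algebraMap Γ(X, U₀) Γ(X, X.basicOpen (g * 1)) (s : Γ(X, U₀)) = b' := by
    rw [hb']; exact hcs
  have hiff : ∀ p : Spec (CommRingCat.of (Γ(X, X.basicOpen (g * 1)) ⧸ Ideal.ofList [h₁])),
      Ideal.Quotient.mk (Ideal.ofList [h₁]) b' ∉ PrimeSpectrum.asIdeal p ↔
        Ideal.Quotient.mk (Ideal.ofList [h₁]) b₁ ∉ PrimeSpectrum.asIdeal p := by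
    intro p
    rw [← hcs', map_mul]
    exact not_congr (Ideal.mul_unit_mem_iff_mem _ (hu.map _))
  have hleU : X.basicOpen (g * (1 * c)) ≤ X.basicOpen (g * 1) := by
    rw [← mul_assoc, Scheme.basicOpen_mul]
    exact inf_le_left
  have hU : IsAffineOpen (X.basicOpen (g * (1 * c))) := hU₀.basicOpen _
  have heq : X.basicOpen (g * (1 * c)) = X.basicOpen b' := by
    rw [hb']
    show _ = X.basicOpen ((X.presheaf.map (homOfLE hle₁).op).hom c)
    rw [Scheme.basicOpen_res, ← mul_assoc, Scheme.basicOpen_mul]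
  obtain ⟨ι, hι, hrange, hcomp⟩ := exists_openImmersion_slice hD₁ hU hleU b' heq [h₁]
  haveI := hι
  have hsmooth : Smooth (sliceι hU (Ideal.ofList
      ([h₁].map (X.presheaf.map (homOfLE hleU).op).hom)) ≫ f) := by
    rw [← hcomp, Category.assoc, ← Scheme.Hom.smoothLocus_eq_top_iff,
      ← Scheme.Hom.preimage_smoothLocus_eq, eq_top_iff]
    intro p _
    show ι p ∈ ((sliceι hD₁ (Ideal.ofList [h₁]) ≫ f).smoothLocus : Set _)
    exact hβG ((hiff _).mp ((hrange _).mp ⟨p, rfl⟩))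
  have hleU₀ : X.basicOpen (g * (1 * c)) ≤ U₀ := X.basicOpen_le _
  obtain ⟨h', hh'def⟩ : ∃ h' : Γ(X, X.basicOpen (g * (1 * c))),
      h' = (X.presheaf.map (homOfLE hleU).op).hom h₁ := ⟨_, rfl⟩
  have hh'eq : h' = (X.presheaf.map (homOfLE hleU₀).op).hom h₀ := by
    rw [hh'def, hh₁def, ← CommRingCat.comp_apply, ← X.presheaf.map_comp]
    rfl
  have hxU : x ∈ X.basicOpen (g * (1 * c)) := by
    obtain ⟨p, hp⟩ : y₁ ∈ Set.range ι := by
      rw [hrange, hiff]; exact hyβ
    have h1 : sliceι hU (Ideal.ofList ([h₁].map (X.presheaf.map (homOfLE hleU).op).hom)) p = x := by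
      rw [← hcomp, Scheme.Hom.comp_apply, hp, hy₁]
    rw [← h1]
    exact sliceι_mem hU _ p
  refine ⟨X.basicOpen (g * (1 * c)), hU, hxU, h', ?_, ?_, ?_⟩
  · rw [hh'eq, ← hh₀]
    exact TopCat.Presheaf.germ_res_apply X.presheaf (homOfLE hleU₀) x hxU h₀
  · obtain ⟨hw, -⟩ := H (1 * c)
    rw [List.map_singleton, List.reverse_singleton, isWeaklyRegular_singleton_iff] at hw
    rw [hh'eq, mem_nonZeroDivisors_iff_right]
    intro y hy
    apply hw
    show (X.presheaf.map (homOfLE hleU₀).op).hom h₀ * y =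
      (X.presheaf.map (homOfLE hleU₀).op).hom h₀ * 0
    rw [mul_zero]
    exact (mul_comm _ _).trans hy
  · have h5 : Ideal.ofList ([h₁].map (X.presheaf.map (homOfLE hleU).op).hom) =
        Ideal.span {h'} := by
      rw [List.map_singleton, Ideal.ofList_singleton, hh'def]
    refine smooth_congr_ideal (hU.fromSpec ≫ f) h5 ?_
    rw [← Category.assoc]
    exact hsmooth

end Sch

end Groth.Agent.Lib.Helper5.SmSlice
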