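import Mathlib
import Groth.Agent.Lib.Helper5SmSlice

/-!
# Smooth effective Cartier divisors through a point, II (helper5)

If the map `Ω_{B/A} ⊗ κ → Ω_{κ/A}` (for a local `A`-algebra `B` with residue field `κ`) has a nonzero
kernel then some `k ∈ m_B` has `1 ⊗ dk ≠ 0` (conormal sequence).
-/

set_option autoImplicit false
set_option linter.style.haveILetI false
universe u
open CategoryTheory CategoryTheory.Limits AlgebraicGeometry TopologicalSpace Opposite
open IsLocalRing TensorProduct KaehlerDifferential

namespace Groth.Agent.Lib.Helper5.SmSliceB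

theorem exists_mem_maximalIdeal_tmul_D_ne_zero {A B : Type u} [CommRing A] [CommRing B]
    [Algebra A B] [IsLocalRing B] [Algebra A (ResidueField B)]
    [IsScalarTower A B (ResidueField B)]
    (hker : LinearMap.ker (KaehlerDifferential.mapBaseChange A B (ResidueField B)) ≠ ⊥) :
    ∃ k ∈ maximalIdeal B, (1 : ResidueField B) ⊗ₜ[B] D A B k ≠ 0 := by
  obtain ⟨y, hy, hy0⟩ := Submodule.exists_mem_ne_zero_of_ne_bot hker
  have hex := KaehlerDifferential.exact_kerCotangentToTensor_mapBaseChange A B (ResidueField B)
    IsLocalRing.residue_surjective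
  obtain ⟨c, rfl⟩ := (hex y).mp (LinearMap.mem_ker.mp hy)
  obtain ⟨k, rfl⟩ := Ideal.toCotangent_surjective _ c
  refine ⟨k, ?_, ?_⟩
  · have h1 : algebraMap B (ResidueField B) (k : B) = 0 := k.2
    have h2 : residue B (k : B) = 0 := h1
    exact (residue_eq_zero_iff _).mp h2
  · rwa [kerCotangentToTensor_toCotangent] at hy0

end Groth.Agent.Lib.Helper5.SmSliceB
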