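import Mathlib
import Groth.Agent.Lib.Helper5SmSlice
import Groth.Agent.Lib.Helper5CMAffSp

/-!
# Smooth effective Cartier divisors through a point, III: separable residue field (helper5)

`A → B` a formally smooth local homomorphism of local rings with Noetherian closed fibre
`F = B / m_A B`, separable residue field extension, and `m_B ≠ m_A B`.  Then some `k ∈ m_B` has
`1 ⊗ dk ≠ 0` in `κ_B ⊗ Ω_{B/A}`: the conormal map `m_F/m_F² → κ ⊗ Ω_{F/κ_A}` is injective because
`κ_B/κ_A` is formally smooth, `m_F/m_F² ≠ 0` by Nakayama, and `κ ⊗ Ω_{B/A} → κ ⊗ Ω_{F/κ_A}` sends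
`1 ⊗ dk` to `1 ⊗ d k̄`.
-/

set_option autoImplicit false
set_option linter.style.haveILetI false
universe u
open CategoryTheory CategoryTheory.Limits AlgebraicGeometry TopologicalSpace Opposite
open IsLocalRing TensorProduct KaehlerDifferential

namespace Groth.Agent.Lib.Helper5.SmSliceC

set_option maxHeartbeats 1600000 in
theorem exists_mem_maximalIdeal_tmul_D_ne_zero_of_separable {A B : Type u} [CommRing A]
    [CommRing B] [IsLocalRing A] [IsLocalRing B] [Algebra A B] [IsLocalHom (algebraMap A B)]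
    [Algebra.FormallySmooth A B]
    [IsNoetherianRing (B ⧸ (maximalIdeal A).map (algebraMap A B))]
    (hF : ¬ IsField (B ⧸ (maximalIdeal A).map (algebraMap A B)))
    (hsep : letI := (ResidueField.map (algebraMap A B)).toAlgebra
      Algebra.FormallySmooth (ResidueField A) (ResidueField B)) :
    ∃ k ∈ maximalIdeal B, (1 : ResidueField B) ⊗ₜ[B] D A B k ≠ 0 := by
  have hJle : (maximalIdeal A).map (algebraMap A B) ≤ maximalIdeal B :=
    Ideal.map_le_iff_le_comap.mpr (IsLocalRing.maximalIdeal_comap (algebraMap A B)).ge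
  letI algk₀F : Algebra (ResidueField A) (B ⧸ (maximalIdeal A).map (algebraMap A B)) :=
    inferInstanceAs (Algebra (A ⧸ maximalIdeal A) (B ⧸ (maximalIdeal A).map (algebraMap A B)))
  haveI tw1 : IsScalarTower A (ResidueField A) (B ⧸ (maximalIdeal A).map (algebraMap A B)) :=
    inferInstanceAs (IsScalarTower A (A ⧸ maximalIdeal A)
      (B ⧸ (maximalIdeal A).map (algebraMap A B)))
  haveI fsF : Algebra.FormallySmooth (ResidueField A)
      (B ⧸ (maximalIdeal A).map (algebraMap A B)) := by
    haveI : Algebra.FormallySmooth (A ⧸ maximalIdeal A) ((A ⧸ maximalIdeal A) ⊗[A] B) :=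
      inferInstance
    show Algebra.FormallySmooth (A ⧸ maximalIdeal A) (B ⧸ (maximalIdeal A).map (algebraMap A B))
    exact Algebra.FormallySmooth.of_equiv
      (Algebra.TensorProduct.quotIdealMapEquivQuotTensor B (maximalIdeal A)).symm
  letI algFκ : Algebra (B ⧸ (maximalIdeal A).map (algebraMap A B)) (ResidueField B) :=
    (Ideal.Quotient.lift _ (residue B)
      (fun b hb => (residue_eq_zero_iff b).mpr (hJle hb))).toAlgebra
  letI algk₀κ : Algebra (ResidueField A) (ResidueField B) :=
    (ResidueField.map (algebraMap A B)).toAlgebra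
  haveI tw2 : IsScalarTower (ResidueField A) (B ⧸ (maximalIdeal A).map (algebraMap A B))
      (ResidueField B) :=
    IsScalarTower.of_algebraMap_eq (fun x => by
      obtain ⟨a, rfl⟩ := Ideal.Quotient.mk_surjective x
      rfl)
  haveI tw3 : IsScalarTower B (B ⧸ (maximalIdeal A).map (algebraMap A B)) (ResidueField B) :=
    IsScalarTower.of_algebraMap_eq (fun b => rfl)
  have hsurj : Function.Surjective
      (algebraMap (B ⧸ (maximalIdeal A).map (algebraMap A B)) (ResidueField B)) := by
    intro x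
    obtain ⟨b, rfl⟩ := residue_surjective x
    exact ⟨Ideal.Quotient.mk _ b, rfl⟩
  haveI : Algebra.FormallySmooth (ResidueField A) (ResidueField B) := hsep
  have hinj : Function.Injective (kerCotangentToTensor (ResidueField A)
      (B ⧸ (maximalIdeal A).map (algebraMap A B)) (ResidueField B)) :=
    (Algebra.FormallySmooth.kerCotangentToTensor_injective_iff hsurj).mpr inferInstance
  haveI : Nontrivial (B ⧸ (maximalIdeal A).map (algebraMap A B)) :=
    Ideal.Quotient.nontrivial_iff.mpr (fun h =>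
      (maximalIdeal.isMaximal B).ne_top (top_le_iff.mp (h ▸ hJle)))
  haveI : IsLocalRing (B ⧸ (maximalIdeal A).map (algebraMap A B)) :=
    IsLocalRing.of_surjective' (Ideal.Quotient.mk _) Ideal.Quotient.mk_surjective
  have hkerm : RingHom.ker (algebraMap (B ⧸ (maximalIdeal A).map (algebraMap A B))
      (ResidueField B)) = maximalIdeal (B ⧸ (maximalIdeal A).map (algebraMap A B)) :=
    IsLocalRing.eq_maximalIdeal (RingHom.ker_isMaximal_of_surjective _ hsurj)
  have hne : RingHom.ker (algebraMap (B ⧸ (maximalIdeal A).map (algebraMap A B))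
      (ResidueField B)) ≠ ⊥ := by
    rw [hkerm]
    intro h0
    exact hF (IsLocalRing.isField_iff_maximalIdeal_eq.mpr h0)
  haveI hcot : Nontrivial (RingHom.ker (algebraMap (B ⧸ (maximalIdeal A).map (algebraMap A B))
      (ResidueField B))).Cotangent := by
    by_contra hnt
    rw [not_nontrivial_iff_subsingleton, Ideal.cotangent_subsingleton_iff] at hnt
    apply hne
    have hfg : (RingHom.ker (algebraMap (B ⧸ (maximalIdeal A).map (algebraMap A B))
        (ResidueField B))).FG := IsNoetherian.noetherian _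
    exact Submodule.eq_bot_of_le_smul_of_le_jacobson_bot
      (RingHom.ker (algebraMap (B ⧸ (maximalIdeal A).map (algebraMap A B)) (ResidueField B)))
      (RingHom.ker (algebraMap (B ⧸ (maximalIdeal A).map (algebraMap A B)) (ResidueField B)))
      hfg (by rw [smul_eq_mul]; exact hnt.eq.symm.le)
      (by rw [hkerm]; exact IsLocalRing.maximalIdeal_le_jacobson _)
  obtain ⟨c, hc⟩ := exists_ne (0 : (RingHom.ker (algebraMap
    (B ⧸ (maximalIdeal A).map (algebraMap A B)) (ResidueField B))).Cotangent)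
  obtain ⟨kF, rfl⟩ := Ideal.toCotangent_surjective _ c
  obtain ⟨k, hk⟩ := Ideal.Quotient.mk_surjective
    (kF : B ⧸ (maximalIdeal A).map (algebraMap A B))
  have hne1 : (1 : ResidueField B) ⊗ₜ[B ⧸ (maximalIdeal A).map (algebraMap A B)]
      D (ResidueField A) (B ⧸ (maximalIdeal A).map (algebraMap A B))
        (kF : B ⧸ (maximalIdeal A).map (algebraMap A B)) ≠ 0 := by
    rw [← kerCotangentToTensor_toCotangent]
    intro h0
    exact hc (hinj (h0.trans (map_zero _).symm))
  have hkm : k ∈ maximalIdeal B := by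
    have h1 : algebraMap (B ⧸ (maximalIdeal A).map (algebraMap A B)) (ResidueField B)
        (kF : B ⧸ (maximalIdeal A).map (algebraMap A B)) = 0 := kF.2
    rw [← hk] at h1
    exact (residue_eq_zero_iff k).mp h1
  refine ⟨k, hkm, fun h0 => hne1 ?_⟩
  letI : SMulCommClass (ResidueField A) B (B ⧸ (maximalIdeal A).map (algebraMap A B)) :=
    ⟨fun s b y => by
      rw [Algebra.smul_def, Algebra.smul_def, Algebra.smul_def, Algebra.smul_def]; ring⟩
  let mp : Ω[B⁄A] →ₗ[B] Ω[(B ⧸ (maximalIdeal A).map (algebraMap A B))⁄(ResidueField A)] :=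
    KaehlerDifferential.map A (ResidueField A) B (B ⧸ (maximalIdeal A).map (algebraMap A B))
  let Φ : (ResidueField B) ⊗[B] Ω[B⁄A] →ₗ[B]
      (ResidueField B) ⊗[B ⧸ (maximalIdeal A).map (algebraMap A B)]
        Ω[(B ⧸ (maximalIdeal A).map (algebraMap A B))⁄(ResidueField A)] :=
    TensorProduct.lift (LinearMap.mk₂ B
      (fun (c : ResidueField B) (ω : Ω[B⁄A]) =>
        c ⊗ₜ[B ⧸ (maximalIdeal A).map (algebraMap A B)] mp ω)
      (fun c₁ c₂ ω => TensorProduct.add_tmul _ _ _)
      (fun b c ω => (TensorProduct.smul_tmul' b c (mp ω)).symm)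
      (fun c ω₁ ω₂ => by rw [map_add, TensorProduct.tmul_add])
      (fun b c ω => by rw [map_smul, TensorProduct.tmul_smul]))
  have h1 := congrArg Φ h0
  rw [map_zero, TensorProduct.lift.tmul] at h1
  have h2 : mp (D A B k) = D (ResidueField A) (B ⧸ (maximalIdeal A).map (algebraMap A B))
      (kF : B ⧸ (maximalIdeal A).map (algebraMap A B)) := by
    rw [← hk]
    exact KaehlerDifferential.map_D A (ResidueField A) B
      (B ⧸ (maximalIdeal A).map (algebraMap A B)) k
  rw [← h2]
  exact h1

open Groth.Agent.Lib.Helper5.FiberStalk Groth.Agent.Lib.Helper5.FiberMor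
  Groth.Agent.Lib.Helper5.CodepthFib Groth.Agent.Lib.Helper5.CMAffSp in
set_option maxHeartbeats 1600000 in
theorem exists_smooth_slice_of_separable {X S : Scheme.{u}} (f : X ⟶ S) (x : X) (W : X.Opens)
    (hxW : x ∈ W) (hW : Smooth (W.ι ≫ f))
    (hsep : letI := (f.residueFieldMap x).hom.toAlgebra
      Algebra.FormallySmooth (S.residueField (f x)) (X.residueField x))
    (hgen : IsLocalRing.maximalIdeal ↑((f.fiber (f x)).presheaf.stalk (f.asFiber x)) ≠ ⊥) :
    ∃ (U : X.Opens) (hU : IsAffineOpen U) (hx : x ∈ U) (h' : Γ(X, U)),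
      h' ∈ nonZeroDivisors Γ(X, U) ∧
      (X.presheaf.germ U x hx).hom h' ∈ IsLocalRing.maximalIdeal ↑(X.presheaf.stalk x) ∧
      Smooth (Spec.map (CommRingCat.ofHom (Ideal.Quotient.mk (Ideal.span {h'}))) ≫
        hU.fromSpec ≫ f) := by
  haveI := hW
  have hFS : (f.stalkMap x).hom.FormallySmooth :=
    Groth.Agent.Lib.Helper20.FlatDesc.formallySmooth_stalkMap_of_nbhd f x W hxW
  letI := (f.stalkMap x).hom.toAlgebra
  haveI : IsLocalHom (algebraMap (S.presheaf.stalk (f x)) (X.presheaf.stalk x)) :=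
    inferInstanceAs (IsLocalHom (f.stalkMap x).hom)
  haveI : Algebra.FormallySmooth (S.presheaf.stalk (f x)) (X.presheaf.stalk x) := hFS
  haveI hNoe : IsNoetherianRing (X.presheaf.stalk x ⧸
      (maximalIdeal (S.presheaf.stalk (f x))).map
        (algebraMap (S.presheaf.stalk (f x)) (X.presheaf.stalk x))) := by
    have hPe : IsoInv.{u} (fun R _ => IsNoetherianRing R) := fun R S _ _ e hR =>
      isNoetherianRing_of_ringEquiv R e
    have h1 : IsNoetherianRing (((W.ι ≫ f).fiber ((W.ι ≫ f) ⟨x, hxW⟩)).presheaf.stalk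
        ((W.ι ≫ f).asFiber ⟨x, hxW⟩)) := by
      haveI := isLocallyNoetherian_fiber (W.ι ≫ f) ((W.ι ≫ f) ⟨x, hxW⟩)
      infer_instance
    have h3 := (fiber_stalk_openImmersion_iff (P := fun R _ => IsNoetherianRing R) f hPe W.ι
      ⟨x, hxW⟩).mp h1
    exact (fiber_stalk_iff (P := fun R _ => IsNoetherianRing R) f x hPe).mp h3
  have hF : ¬ IsField (X.presheaf.stalk x ⧸
      (maximalIdeal (S.presheaf.stalk (f x))).map
        (algebraMap (S.presheaf.stalk (f x)) (X.presheaf.stalk x))) := by
    have hPe : IsoInv.{u} (fun R _ => IsField R) := fun R S _ _ e hR =>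
      MulEquiv.isField hR e.symm.toMulEquiv
    intro hfield
    have h1 := (fiber_stalk_iff (P := fun R _ => IsField R) f x hPe).mpr hfield
    exact hgen (IsLocalRing.isField_iff_maximalIdeal_eq.mp h1)
  obtain ⟨k, hk, hne⟩ := exists_mem_maximalIdeal_tmul_D_ne_zero_of_separable
    (A := S.presheaf.stalk (f x)) (B := X.presheaf.stalk x) hF hsep
  obtain ⟨U, hU, hx, h', hgerm, hnzd, hsm⟩ :=
    Groth.Agent.Lib.Helper5.SmSlice.exists_smooth_slice f x W hxW hW k hk hne
  refine ⟨U, hU, hx, h', hnzd, ?_, hsm⟩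
  rw [hgerm]
  exact hk

end Groth.Agent.Lib.Helper5.SmSliceC
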