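import Mathlib

/-!
# Chains of parameter systems (helper5)

`B` a Noetherian ring, `Q` a maximal ideal and `ρ : B → B` a map with values in `Q` fixing `Q`
pointwise (think `b ↦ b - b(x)`). A family `w : ι → B` is `Good` when `Q` is minimal over the ideal
generated by the `ρ (w i)`. Two good families are joined by a chain of good families in which
consecutive members differ in at most one coordinate (`chain`), via prime avoidance and the
inductive step of Krull's height theorem.
-/

set_option autoImplicit false
set_option linter.style.haveILetI false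

namespace Groth.Agent.Lib.Helper5.SopChainA

open Ideal

section Alg

variable {B : Type*} [CommRing B]

/-- replacing the extra generator by an element of `Q` avoiding the other minimal primes keeps `Q`
minimal. -/
theorem mem_minimalPrimes_insert_of_avoid [IsNoetherianRing B] {Q : Ideal B} (x c : B) (S : Set B)
    (hQ : Q ∈ (span (insert x S)).minimalPrimes) (hc : c ∈ Q)
    (hav : ∀ q ∈ (span S).minimalPrimes, q ≠ Q → c ∉ q) :
    Q ∈ (span (insert c S)).minimalPrimes := by
  have hQp : Q.IsPrime := hQ.1.1
  have hSQ : S ⊆ Q := fun s hs => hQ.1.2 (subset_span (Set.mem_insert_of_mem _ hs))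
  refine ⟨⟨hQp, span_le.mpr (Set.insert_subset hc hSQ)⟩, ?_⟩
  rintro q' ⟨hq'p, hq'⟩ hq'Q
  by_contra hne
  have hlt : q' < Q := lt_of_le_of_ne hq'Q (fun h => hne (h ▸ le_rfl))
  have hSq : S ⊆ q' := fun s hs => hq' (subset_span (Set.mem_insert_of_mem _ hs))
  haveI := hq'p
  have := Ideal.mem_minimalPrimes_span_of_mem_minimalPrimes_span_insert hlt x S hQ S hSq
    (fun s hs => le_radical (subset_span (Set.mem_insert_of_mem _ hs)))
  exact hav q' this hlt.ne (hq' (subset_span (Set.mem_insert _ _)))

/-- prime avoidance inside a maximal ideal. -/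
theorem exists_mem_avoid {Q : Ideal B} [Q.IsMaximal] (T : Set (Ideal B)) (hT : T.Finite)
    (hTp : ∀ q ∈ T, q.IsPrime) (hTQ : ∀ q ∈ T, q ≠ Q) :
    ∃ c ∈ Q, ∀ q ∈ T, c ∉ q := by
  classical
  by_contra hcon
  push Not at hcon
  have hsub : (Q : Set B) ⊆ ⋃ q ∈ (↑hT.toFinset : Set (Ideal B)), ((id q : Ideal B) : Set B) := by
    intro c hc
    obtain ⟨q, hqT, hcq⟩ := hcon c hc
    simp only [Set.mem_iUnion]
    exact ⟨q, by simpa using hqT, hcq⟩
  obtain ⟨q, hq, hQq⟩ := (Ideal.subset_union_prime (s := hT.toFinset) (f := id) Q Q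
    (fun q hq _ _ => hTp q (hT.mem_toFinset.mp hq))).mp hsub
  have hqT : q ∈ T := hT.mem_toFinset.mp hq
  haveI := hTp q hqT
  exact hTQ q hqT ((Ideal.IsMaximal.eq_of_le inferInstance (hTp q hqT).ne_top hQq).symm)

end Alg

section Chain

variable {B : Type*} [CommRing B] {ι : Type*} (Q : Ideal B) (ρ : B → B)

/-- `Q` is minimal over the ideal generated by the `ρ (w i)`. -/
def Good (w : ι → B) : Prop := Q ∈ (span (Set.range (ρ ∘ w))).minimalPrimes

/-- one step: both families good, differing in at most one coordinate. -/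
def Step (w w' : ι → B) : Prop :=
  Good Q ρ w ∧ Good Q ρ w' ∧ ∃ i, ∀ i', i' ≠ i → w i' = w' i'

omit [CommRing B] in
theorem range_update [DecidableEq ι] (f : ι → B) (i₀ : ι) (y : B) :
    Set.range (Function.update f i₀ y) = insert y (f '' {i | i ≠ i₀}) := by
  ext b
  constructor
  · rintro ⟨i, rfl⟩
    by_cases h : i = i₀
    · subst h; simp
    · rw [Function.update_of_ne h]
      exact Set.mem_insert_of_mem _ ⟨i, h, rfl⟩
  · rintro (rfl | ⟨i, hi, rfl⟩)
    · exact ⟨i₀, by simp⟩
    · exact ⟨i, by rw [Function.update_of_ne hi]⟩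

omit [CommRing B] in
theorem range_eq_insert [DecidableEq ι] (f : ι → B) (i₀ : ι) :
    Set.range f = insert (f i₀) (f '' {i | i ≠ i₀}) := by
  conv_lhs => rw [← Function.update_eq_self i₀ f]
  exact range_update f i₀ (f i₀)

variable [IsNoetherianRing B] [Q.IsMaximal]

theorem chain_aux [DecidableEq ι] (hρQ : ∀ c ∈ Q, ρ c = c) (s : Finset ι) :
    ∀ (w w' : ι → B), Good Q ρ w → Good Q ρ w' → (∀ i, i ∉ s → w i = w' i) →
      Relation.ReflTransGen (Step Q ρ) w w' := by
  induction s using Finset.induction_on with
  | empty =>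
    intro w w' _ _ h
    have : w = w' := funext (fun i => h i (Finset.notMem_empty i))
    subst this
    exact Relation.ReflTransGen.refl
  | insert i₀ s hi₀ ih =>
    intro w w' hw hw' h
    set S : Set B := (ρ ∘ w) '' {i | i ≠ i₀} with hS
    set S' : Set B := (ρ ∘ w') '' {i | i ≠ i₀} with hS'
    have hw1 : Q ∈ (span (insert (ρ (w i₀)) S)).minimalPrimes := by
      have := hw
      rw [Good, range_eq_insert (ρ ∘ w) i₀] at this
      exact this
    have hw1' : Q ∈ (span (insert (ρ (w' i₀)) S')).minimalPrimes := by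
      have := hw'
      rw [Good, range_eq_insert (ρ ∘ w') i₀] at this
      exact this
    obtain ⟨c, hcQ, hc⟩ := exists_mem_avoid (Q := Q)
      ({q | q ∈ (span S).minimalPrimes ∧ q ≠ Q} ∪ {q | q ∈ (span S').minimalPrimes ∧ q ≠ Q})
      (((Ideal.finite_minimalPrimes_of_isNoetherianRing B (span S)).subset
          (fun q hq => hq.1)).union
        ((Ideal.finite_minimalPrimes_of_isNoetherianRing B (span S')).subset
          (fun q hq => hq.1)))
      (by
        rintro q (hq | hq)
        · exact hq.1.1.1
        · exact hq.1.1.1)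
      (by
        rintro q (hq | hq)
        · exact hq.2
        · exact hq.2)
    have hcomp : ∀ f : ι → B, ρ ∘ Function.update f i₀ c = Function.update (ρ ∘ f) i₀ c := by
      intro f
      funext i
      by_cases hi : i = i₀
      · subst hi; simp [hρQ c hcQ]
      · simp [Function.update_of_ne hi]
    have h1 : Good Q ρ (Function.update w i₀ c) := by
      rw [Good, hcomp, range_update]
      exact mem_minimalPrimes_insert_of_avoid _ c S hw1 hcQ
        (fun q hq hne => hc q (Or.inl ⟨hq, hne⟩))
    have h2 : Good Q ρ (Function.update w' i₀ c) := by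
      rw [Good, hcomp, range_update]
      exact mem_minimalPrimes_insert_of_avoid _ c S' hw1' hcQ
        (fun q hq hne => hc q (Or.inr ⟨hq, hne⟩))
    have h3 := ih (Function.update w i₀ c) (Function.update w' i₀ c) h1 h2 (by
      intro i hi
      by_cases hi0 : i = i₀
      · subst hi0; simp
      · rw [Function.update_of_ne hi0, Function.update_of_ne hi0]
        exact h i (by simp [hi0, hi]))
    refine (Relation.ReflTransGen.single ⟨hw, h1, i₀, fun i' hi' => ?_⟩).trans
      (h3.trans (Relation.ReflTransGen.single ⟨h2, hw', i₀, fun i' hi' => ?_⟩))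
    · rw [Function.update_of_ne hi']
    · rw [Function.update_of_ne hi']

/-- two good families are joined by a chain of single-coordinate changes through good families. -/
theorem chain [Finite ι] (hρQ : ∀ c ∈ Q, ρ c = c) (w w' : ι → B) (hw : Good Q ρ w)
    (hw' : Good Q ρ w') : Relation.ReflTransGen (Step Q ρ) w w' := by
  classical
  cases nonempty_fintype ι
  exact chain_aux Q ρ hρQ Finset.univ w w' hw hw' (fun i hi => absurd (Finset.mem_univ i) hi)

end Chain

/-- a reflexive-transitive chain as a finite sequence. -/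
theorem exists_fin_chain {α : Type*} {r : α → α → Prop} {a b : α}
    (h : Relation.ReflTransGen r a b) :
    ∃ (m : ℕ) (w : Fin (m + 1) → α), w 0 = a ∧ w (Fin.last m) = b ∧
      ∀ j : Fin m, r (w j.castSucc) (w j.succ) := by
  induction h with
  | refl => exact ⟨0, fun _ => a, rfl, rfl, fun j => j.elim0⟩
  | @tail b' c _ hbc ih =>
    obtain ⟨m, w, h0, hl, hst⟩ := ih
    refine ⟨m + 1, Fin.snoc w c, ?_, Fin.snoc_last _ _, ?_⟩
    · have : (0 : Fin (m + 2)) = Fin.castSucc (0 : Fin (m + 1)) := rfl
      rw [this, Fin.snoc_castSucc]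
      exact h0
    · intro j
      refine Fin.lastCases ?_ (fun j' => ?_) j
      · rw [Fin.snoc_castSucc, Fin.succ_last, Fin.snoc_last, hl]
        exact hbc
      · rw [Fin.snoc_castSucc, ← Fin.castSucc_succ, Fin.snoc_castSucc]
        exact hst j'

end Groth.Agent.Lib.Helper5.SopChainA
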