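import Mathlib
import Groth.Agent.Lib.Helper5SopChainA

/-!
# Quasi-finiteness of maps to affine space and parameter systems (helper5)
-/

set_option autoImplicit false
set_option linter.style.haveILetI false
universe u

open CategoryTheory CategoryTheory.Limits AlgebraicGeometry

namespace Groth.Agent.Lib.Helper5.SopChainB

open Groth.Agent.Lib.Helper5.SopChainA

section Top

theorem isOpen_singleton_subtype_iff {X : Type*} [TopologicalSpace X] (F : Set X) (x : X)
    (hx : x ∈ F) :
    IsOpen ({⟨x, hx⟩} : Set F) ↔ ∃ O : Set X, IsOpen O ∧ x ∈ O ∧ ∀ z ∈ O, z ∈ F → z = x := by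
  rw [isOpen_induced_iff]
  constructor
  · rintro ⟨O, hO, h⟩
    refine ⟨O, hO, ?_, ?_⟩
    · have : (⟨x, hx⟩ : F) ∈ Subtype.val ⁻¹' O := by rw [h]; rfl
      exact this
    · intro z hz hzF
      have : (⟨z, hzF⟩ : F) ∈ Subtype.val ⁻¹' O := hz
      rw [h] at this
      exact congrArg Subtype.val this
  · rintro ⟨O, hO, hxO, h⟩
    refine ⟨O, hO, ?_⟩
    ext ⟨z, hz⟩
    simp only [Set.mem_preimage, Set.mem_singleton_iff, Subtype.mk.injEq]
    exact ⟨fun hzO => h z hzO hz, fun e => e ▸ hxO⟩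

set_option backward.isDefEq.respectTransparency false in
/-- quasi-finiteness at a point: the point is isolated in its fibre. -/
theorem quasiFiniteAt_iff_exists_open {X Y : Scheme.{u}} (f : X ⟶ Y) [LocallyOfFiniteType f]
    (x : X) :
    f.QuasiFiniteAt x ↔ ∃ O : Set X, IsOpen O ∧ x ∈ O ∧ ∀ z ∈ O, f z = f x → z = x := by
  rw [Scheme.Hom.quasiFiniteAt_iff_isOpen_singleton_asFiber,
    ← (f.fiberHomeo (f x)).isOpen_image]
  simp only [Set.image_singleton, Scheme.Hom.asFiber, Homeomorph.apply_symm_apply]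
  exact isOpen_singleton_subtype_iff (f ⁻¹' {f x}) x rfl

end Top

section Spectrum

variable {R : Type u} [CommRing R]

/-- if the closed point `y` is minimal over `I` then it is isolated in `V(I)`. -/
theorem exists_open_isolating [IsNoetherianRing R] (I : Ideal R) (y : PrimeSpectrum R)
    [hmax : y.asIdeal.IsMaximal] (hmin : y.asIdeal ∈ I.minimalPrimes) :
    ∃ O : Set (PrimeSpectrum R), IsOpen O ∧ y ∈ O ∧ ∀ z ∈ O, I ≤ z.asIdeal → z = y := by
  set T : Set (Ideal R) := {q | q ∈ I.minimalPrimes ∧ q ≠ y.asIdeal} with hT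
  have hTfin : T.Finite :=
    (Ideal.finite_minimalPrimes_of_isNoetherianRing R I).subset (fun q hq => hq.1)
  refine ⟨(⋃ q ∈ T, PrimeSpectrum.zeroLocus (q : Set R))ᶜ, ?_, ?_, ?_⟩
  · rw [isOpen_compl_iff]
    exact hTfin.isClosed_biUnion (fun q _ => PrimeSpectrum.isClosed_zeroLocus _)
  · simp only [Set.mem_compl_iff, Set.mem_iUnion, not_exists]
    rintro q ⟨hq, hne⟩ hy
    rw [PrimeSpectrum.mem_zeroLocus, SetLike.coe_subset_coe] at hy
    exact hne (le_antisymm hy (hmin.2 hq.1 hy))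
  · intro z hz hIz
    simp only [Set.mem_compl_iff, Set.mem_iUnion, not_exists] at hz
    obtain ⟨q, hq, hqz⟩ := Ideal.exists_minimalPrimes_le hIz
    have hqy : q = y.asIdeal := by
      by_contra hne
      exact hz q ⟨hq, hne⟩ (by rwa [PrimeSpectrum.mem_zeroLocus, SetLike.coe_subset_coe])
    have : y.asIdeal = z.asIdeal :=
      Ideal.IsMaximal.eq_of_le hmax z.isPrime.ne_top (hqy ▸ hqz)
    exact (PrimeSpectrum.ext this).symm

/-- over an algebraically closed field, every element of a finitely generated algebra is constant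
modulo a maximal ideal. -/
theorem exists_const_sub_mem {k : Type u} [Field k] [IsAlgClosed k] (φ : k →+* R)
    (hφ : φ.FiniteType) (Q : Ideal R) [Q.IsMaximal] (b : R) : ∃ c : k, b - φ c ∈ Q := by
  letI : Field (R ⧸ Q) := Ideal.Quotient.field Q
  letI : Algebra k (R ⧸ Q) := ((Ideal.Quotient.mk Q).comp φ).toAlgebra
  haveI : Algebra.FiniteType k (R ⧸ Q) := by
    have h1 : ((Ideal.Quotient.mk Q).comp φ).FiniteType :=
      (RingHom.FiniteType.of_surjective _ Ideal.Quotient.mk_surjective).comp hφ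
    exact h1
  haveI : Module.Finite k (R ⧸ Q) := finite_of_finite_type_of_isJacobsonRing k (R ⧸ Q)
  haveI : Algebra.IsIntegral k (R ⧸ Q) := Algebra.IsIntegral.of_finite k (R ⧸ Q)
  obtain ⟨c, hc⟩ := (IsAlgClosed.algebraMap_bijective_of_isIntegral (k := k) (K := R ⧸ Q)).2
    (Ideal.Quotient.mk Q b)
  refine ⟨c, ?_⟩
  rw [← Ideal.Quotient.eq_zero_iff_mem, map_sub, sub_eq_zero]
  exact hc.symm

end Spectrum

section Aff

theorem ΓSpecIso_inv_nat_apply {R S : CommRingCat.{u}} (f : R ⟶ S) (r : R) :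
    (Spec.map f).appTop ((Scheme.ΓSpecIso R).inv r) = (Scheme.ΓSpecIso S).inv (f r) := by
  have := ConcreteCategory.congr_hom (Scheme.ΓSpecIso_inv_naturality f) r
  rw [CommRingCat.comp_apply, CommRingCat.comp_apply] at this
  exact this.symm

/-- two points of `Spec R` with the same image cannot be separated by pulled back functions. -/
theorem mem_asIdeal_iff_of_eq {R : CommRingCat.{u}} {T : Scheme.{u}} (f : Spec R ⟶ T)
    (z y : Spec R) (hzy : f z = f y) (h : Γ(T, ⊤)) :
    (Scheme.ΓSpecIso R).hom (f.appTop h) ∈ z.asIdeal ↔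
      (Scheme.ΓSpecIso R).hom (f.appTop h) ∈ y.asIdeal := by
  have key : ∀ p : Spec R, (Scheme.ΓSpecIso R).hom (f.appTop h) ∈ p.asIdeal ↔
      f p ∉ T.basicOpen h := by
    intro p
    have h1 : f ⁻¹ᵁ T.basicOpen h =
        PrimeSpectrum.basicOpen ((Scheme.ΓSpecIso R).hom (f.appTop h)) := by
      rw [Scheme.preimage_basicOpen_top, basicOpen_eq_of_affine']
    have h2 : f p ∈ T.basicOpen h ↔ p ∈ f ⁻¹ᵁ T.basicOpen h := Iff.rfl
    rw [h2, h1]
    exact not_not.symm
  rw [key, key, hzy]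

variable (k : Type u) [Field k] {R : CommRingCat.{u}} (φ : CommRingCat.of k ⟶ R) {ι : Type u}

/-- the morphism to affine space over `k` with coordinates `w`. -/
noncomputable def toA (w : ι → R) : Spec R ⟶ AffineSpace ι (Spec (CommRingCat.of k)) :=
  AffineSpace.homOfVector (Spec.map φ) (fun i => (Scheme.ΓSpecIso R).inv (w i))

theorem toA_over (w : ι → R) :
    toA k φ w ≫ (AffineSpace ι (Spec (CommRingCat.of k)) ↘ Spec (CommRingCat.of k)) =
      Spec.map φ :=
  AffineSpace.homOfVector_over _ _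

theorem toA_coord (w : ι → R) (i : ι) :
    (toA k φ w).appTop (AffineSpace.coord _ i) = (Scheme.ΓSpecIso R).inv (w i) :=
  AffineSpace.homOfVector_appTop_coord _ _ _

theorem toA_eq (u₀ : Spec R ⟶ AffineSpace ι (Spec (CommRingCat.of k)))
    (hu : u₀ ≫ (AffineSpace ι (Spec (CommRingCat.of k)) ↘ Spec (CommRingCat.of k)) =
      Spec.map φ) :
    toA k φ (fun i => (Scheme.ΓSpecIso R).hom (u₀.appTop (AffineSpace.coord _ i))) = u₀ := by
  refine AffineSpace.hom_ext ?_ (fun i => ?_)
  · rw [toA_over, hu]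
  · rw [toA_coord]
    exact Iso.hom_inv_id_apply _ _

/-- the function `T_i - c` on affine space. -/
noncomputable def hfun (ι : Type u) (i : ι) (c : k) :
    Γ(AffineSpace ι (Spec (CommRingCat.of k)), ⊤) :=
  AffineSpace.coord _ i -
    (AffineSpace ι (Spec (CommRingCat.of k)) ↘ Spec (CommRingCat.of k)).appTop
      ((Scheme.ΓSpecIso (CommRingCat.of k)).inv c)

theorem toA_hfun (w : ι → R) (i : ι) (c : k) :
    (Scheme.ΓSpecIso R).hom ((toA k φ w).appTop (hfun k ι i c)) = w i - φ c := by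
  have h1 : (toA k φ w).appTop
      ((AffineSpace ι (Spec (CommRingCat.of k)) ↘ Spec (CommRingCat.of k)).appTop
        ((Scheme.ΓSpecIso (CommRingCat.of k)).inv c)) = (Scheme.ΓSpecIso R).inv (φ c) := by
    rw [← CommRingCat.comp_apply, ← Scheme.Hom.comp_appTop, toA_over]
    exact ΓSpecIso_inv_nat_apply φ c
  rw [hfun, map_sub, map_sub, toA_coord, h1]
  congr 1
  · exact Iso.inv_hom_id_apply _ _
  · exact Iso.inv_hom_id_apply _ _

/-- the `k`-point of affine space with coordinates `c`. -/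
noncomputable def kpt (c : ι → k) :
    Spec (CommRingCat.of k) ⟶ AffineSpace ι (Spec (CommRingCat.of k)) :=
  AffineSpace.homOfVector (𝟙 _) (fun i => (Scheme.ΓSpecIso (CommRingCat.of k)).inv (c i))

/-- a point at which the coordinates take the values `c` is sent to the `k`-point `c`. -/
theorem toA_apply_eq (w : ι → R) (c : ι → k) (z : Spec R)
    (hz : ∀ i, w i - φ (c i) ∈ z.asIdeal) (pt : Spec (CommRingCat.of k)) :
    (toA k φ w) z = (kpt k c) pt := by
  let A' : CommRingCat.{u} := CommRingCat.of (R ⧸ z.asIdeal)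
  let ψ : R ⟶ A' := CommRingCat.ofHom (Ideal.Quotient.mk z.asIdeal)
  have hfac : Spec.map ψ ≫ toA k φ w = Spec.map (φ ≫ ψ) ≫ kpt k c := by
    refine AffineSpace.hom_ext ?_ (fun i => ?_)
    · rw [Category.assoc, toA_over, Category.assoc, kpt, AffineSpace.homOfVector_over,
        Category.comp_id, Spec.map_comp]
    · rw [Scheme.Hom.comp_appTop, Scheme.Hom.comp_appTop, CommRingCat.comp_apply,
        CommRingCat.comp_apply, toA_coord, kpt, AffineSpace.homOfVector_appTop_coord,
        ΓSpecIso_inv_nat_apply, ΓSpecIso_inv_nat_apply]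
      congr 1
      have : ψ (w i - φ (c i)) = 0 := Ideal.Quotient.eq_zero_iff_mem.mpr (hz i)
      rw [map_sub, sub_eq_zero] at this
      exact this
  haveI : IsDomain (R ⧸ z.asIdeal) := Ideal.Quotient.isDomain _
  let g : Spec A' := ⟨⊥, Ideal.isPrime_bot⟩
  have hg : Spec.map ψ g = z := by
    rw [Spec.map_apply]
    apply PrimeSpectrum.ext
    change Ideal.comap (Ideal.Quotient.mk z.asIdeal) ⊥ = z.asIdeal
    rw [← RingHom.ker_eq_comap_bot, Ideal.mk_ker]
  haveI : Subsingleton (Spec (CommRingCat.of k)) :=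
    inferInstanceAs (Subsingleton (PrimeSpectrum k))
  calc (toA k φ w) z = (toA k φ w) (Spec.map ψ g) := by rw [hg]
    _ = (Spec.map ψ ≫ toA k φ w) g := rfl
    _ = (Spec.map (φ ≫ ψ) ≫ kpt k c) g := by rw [hfac]
    _ = (kpt k c) (Spec.map (φ ≫ ψ) g) := rfl
    _ = (kpt k c) pt := by rw [Subsingleton.elim (Spec.map (φ ≫ ψ) g) pt]

end Aff

section Good

variable (k : Type u) [Field k] [IsAlgClosed k] {R : CommRingCat.{u}} (φ : CommRingCat.of k ⟶ R)
  (hφ : φ.hom.FiniteType) (y : Spec R) [hmax : y.asIdeal.IsMaximal] {ι : Type u}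

/-- the value at `y` of a function. -/
noncomputable def cst (b : R) : k :=
  Classical.choose (exists_const_sub_mem φ.hom hφ y.asIdeal b)

theorem cst_spec (b : R) : b - φ (cst k φ hφ y b) ∈ y.asIdeal :=
  Classical.choose_spec (exists_const_sub_mem φ.hom hφ y.asIdeal b)

/-- `b ↦ b - b(y)`. -/
noncomputable def rho (b : R) : R := b - φ (cst k φ hφ y b)

theorem rho_mem (b : R) : rho k φ hφ y b ∈ y.asIdeal := cst_spec k φ hφ y b

theorem rho_fix (c : R) (hc : c ∈ y.asIdeal) : rho k φ hφ y c = c := by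
  have h1 : φ (cst k φ hφ y c) ∈ y.asIdeal := by
    have := y.asIdeal.sub_mem hc (cst_spec k φ hφ y c)
    rwa [sub_sub_cancel] at this
  have h2 : cst k φ hφ y c = 0 := by
    by_contra hne
    have hu : IsUnit (φ (cst k φ hφ y c)) := (IsUnit.mk0 _ hne).map φ.hom
    exact y.isPrime.ne_top (Ideal.eq_top_of_isUnit_mem _ h1 hu)
  rw [rho, h2, map_zero, sub_zero]

include hφ in
theorem locallyOfFiniteType_toA (w : ι → R) : LocallyOfFiniteType (toA k φ w) := by
  haveI : LocallyOfFiniteType (Spec.map φ) :=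
    (HasRingHomProperty.Spec_iff (P := @LocallyOfFiniteType)).mpr hφ
  haveI : LocallyOfFiniteType (toA k φ w ≫
      (AffineSpace ι (Spec (CommRingCat.of k)) ↘ Spec (CommRingCat.of k))) := by
    rw [toA_over]; infer_instance
  exact locallyOfFiniteType_of_comp (toA k φ w)
    (AffineSpace ι (Spec (CommRingCat.of k)) ↘ Spec (CommRingCat.of k))

/-- a parameter system at `y` gives a map quasi-finite at `y`. -/
theorem quasiFiniteAt_of_good [IsNoetherianRing R] (w : ι → R)
    (hg : Good y.asIdeal (rho k φ hφ y) w) : (toA k φ w).QuasiFiniteAt y := by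
  haveI := locallyOfFiniteType_toA k φ hφ w
  rw [quasiFiniteAt_iff_exists_open]
  obtain ⟨O, hO, hyO, h⟩ := exists_open_isolating _ y hg
  refine ⟨O, hO, hyO, fun z hz hzy => h z hz ?_⟩
  rw [Ideal.span_le]
  rintro _ ⟨i, rfl⟩
  have h1 := mem_asIdeal_iff_of_eq (toA k φ w) z y hzy (hfun k ι i (cst k φ hφ y (w i)))
  rw [toA_hfun] at h1
  exact h1.mpr (rho_mem k φ hφ y (w i))

/-- conversely the coordinates of a map quasi-finite at `y` form a parameter system at `y`. -/
theorem good_of_quasiFiniteAt (w : ι → R) (hq : (toA k φ w).QuasiFiniteAt y) :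
    Good y.asIdeal (rho k φ hφ y) w := by
  haveI := locallyOfFiniteType_toA k φ hφ w
  rw [quasiFiniteAt_iff_exists_open] at hq
  obtain ⟨O, hO, hyO, h⟩ := hq
  refine ⟨⟨y.isPrime, ?_⟩, ?_⟩
  · rw [Ideal.span_le]
    rintro _ ⟨i, rfl⟩
    exact rho_mem k φ hφ y (w i)
  · rintro q ⟨hqp, hIq⟩ hqQ
    let z : Spec R := ⟨q, hqp⟩
    have hzy : z ⤳ y := (PrimeSpectrum.le_iff_specializes z y).mp hqQ
    have hzO : z ∈ O := hzy.mem_open hO hyO
    let pt : Spec (CommRingCat.of k) := Spec.map φ y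
    have e1 : (toA k φ w) z = (kpt k (fun i => cst k φ hφ y (w i))) pt :=
      toA_apply_eq k φ w _ z (fun i => hIq (Ideal.subset_span ⟨i, rfl⟩)) pt
    have e2 : (toA k φ w) y = (kpt k (fun i => cst k φ hφ y (w i))) pt :=
      toA_apply_eq k φ w _ y (fun i => rho_mem k φ hφ y (w i)) pt
    have hz : z = y := h z hzO (e1.trans e2.symm)
    have : q = y.asIdeal := congrArg PrimeSpectrum.asIdeal hz
    exact this ▸ le_rfl

end Good

end Groth.Agent.Lib.Helper5.SopChainB
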