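import Mathlib
import Groth.Agent.Lib.Helper5SopChainB
import Groth.Agent.Lib.Helper5CMAffSp
import Groth.Agent.Lib.Helper5FieldFib
import Groth.Agent.Lib.Helper6QFAffB
import Groth.Agent.Lib.Helper3FlatFibDim
import Groth.Agent.Lib.Helper20FlatDescSch

/-!
# Flatness of quasi-finite maps from a Cohen–Macaulay scheme to affine space over a field (helper5)
-/

set_option autoImplicit false
set_option linter.style.haveILetI false
universe u

open CategoryTheory CategoryTheory.Limits AlgebraicGeometry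

namespace Groth.Agent.Lib.Helper5.SopChainC

open Groth.Agent.Lib.Helper5.SopChainA Groth.Agent.Lib.Helper5.SopChainB
  Groth.Agent.Lib.Helper5.CMAffSp Groth.Agent.Lib.Helper5.FieldFib
  Groth.Agent.Lib.Helper5.FiberMor Groth.Agent.Lib.Helper6.QFAff
  Groth.Agent.Lib.Helper3.FlatFibDim Groth.Agent.Lib.Helper20.FlatDesc LocCoh

theorem isIso_reindex {n m : Type u} (e : m ≃ n) (S : Scheme.{u}) :
    IsIso (AffineSpace.reindex e S) := by
  refine ⟨⟨AffineSpace.reindex e.symm S, ?_, ?_⟩⟩
  · refine AffineSpace.hom_ext (by simp) (fun i => ?_)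
    rw [Scheme.Hom.comp_appTop, CommRingCat.comp_apply, AffineSpace.reindex_appTop_coord,
      AffineSpace.reindex_appTop_coord]
    simp
  · refine AffineSpace.hom_ext (by simp) (fun i => ?_)
    rw [Scheme.Hom.comp_appTop, CommRingCat.comp_apply, AffineSpace.reindex_appTop_coord,
      AffineSpace.reindex_appTop_coord]
    simp

/-- the fibres of `𝔸^ι_Y ⟶ Y` have local dimension `card ι` at every point. -/
theorem fibreDimAt_affineSpace_gen (Y : Scheme.{u}) (ι : Type u) [Finite ι]
    (w : AffineSpace ι Y) :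
    FlatMor.fibreDimAt (AffineSpace ι Y ↘ Y) w = ((Nat.card ι : ℕ) : WithBot ℕ∞) := by
  let e : ULift.{u} (Fin (Nat.card ι)) ≃ ι := Equiv.ulift.trans (Finite.equivFin ι).symm
  haveI := isIso_reindex e Y
  have h1 : AffineSpace.reindex e Y ≫ (AffineSpace (ULift.{u} (Fin (Nat.card ι))) Y ↘ Y) =
      AffineSpace ι Y ↘ Y := AffineSpace.reindex_over e Y
  rw [← h1, fibreDimAt_comp_of_isOpenImmersion, fibreDimAt_affineSpace]

/-- **Miracle flatness** for a map from a Cohen–Macaulay affine `k`-scheme of the right dimension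
to affine space: quasi-finite at `y` implies flat at `y`. -/
theorem flat_stalkMap_of_quasiFiniteAt (k : Type u) [Field k] {R : CommRingCat.{u}}
    (φ : CommRingCat.of k ⟶ R) (hφ : φ.hom.FiniteType) (y : Spec R)
    (hCM : IsCohenMacaulayLocalRing ((Spec R).presheaf.stalk y)) (ι : Type u) [Finite ι]
    (hd : FlatMor.fibreDimAt (Spec.map φ) y = ((Nat.card ι : ℕ) : WithBot ℕ∞))
    (W : Spec R ⟶ AffineSpace ι (Spec (CommRingCat.of k)))
    (hW : W ≫ (AffineSpace ι (Spec (CommRingCat.of k)) ↘ Spec (CommRingCat.of k)) = Spec.map φ)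
    (hq : W.QuasiFiniteAt y) : (W.stalkMap y).hom.Flat := by
  set π := (AffineSpace ι (Spec (CommRingCat.of k)) ↘ Spec (CommRingCat.of k)) with hπ
  haveI : LocallyOfFiniteType (Spec.map φ) :=
    (HasRingHomProperty.Spec_iff (P := @LocallyOfFiniteType)).mpr hφ
  haveI : LocallyOfFiniteType (W ≫ π) := by rw [hW]; infer_instance
  haveI : LocallyOfFiniteType W := locallyOfFiniteType_of_comp W π
  haveI : LocallyOfFiniteType π := inferInstance
  let O := W.quasiFiniteLocus
  let g := O.ι ≫ W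
  let y' : O := ⟨y, hq⟩
  have hg : g ≫ π = O.ι ≫ Spec.map φ := by rw [Category.assoc, hW]
  have hfield : IsField ((Spec (CommRingCat.of k)).presheaf.stalk ((g ≫ π) y')) :=
    isField_stalk_of_etale_field k (𝟙 _) _
  have hcm : MoreMor.IsCMAt (g ≫ π) y' := by
    refine ⟨flat_stalkMap_of_isField (g ≫ π) y' hfield, ?_⟩
    rw [fiber_stalk_iff_of_isField (P := fun R _ => IsCohenMacaulayLocalRing R) (g ≫ π) y'
      isoInv_cm hfield]
    exact isoInv_cm _ _ (asIso (O.ι.stalkMap y')).commRingCatIsoToRingEquiv hCM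
  have hd' : FlatMor.fibreDimAt (g ≫ π) y' = ((Nat.card ι : ℕ) : WithBot ℕ∞) := by
    rw [hg, fibreDimAt_comp_of_isOpenImmersion]
    exact hd
  have := flat_stalkMap_of_isCMAt g π y' (Nat.card ι) (fibreDimAt_affineSpace_gen _ ι _)
    (isRegularLocalRing_fiber_affineSpace ι _ _ _) hcm hd'
  exact (stalkMap_comp_iff_left RingHom.Flat.respectsIso O.ι W y').mp this

/-- **Affine chain.** Two `k`-maps from a Cohen–Macaulay affine `k`-scheme to affine space which are
quasi-finite at a closed point `y` are joined by a chain of such maps, each flat at `y`, in which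
consecutive members differ in at most one coordinate. -/
theorem affine_chain (k : Type u) [Field k] [IsAlgClosed k] {R : CommRingCat.{u}}
    (φ : CommRingCat.of k ⟶ R) (hφ : φ.hom.FiniteType) (y : Spec R)
    (hy : IsClosed ({y} : Set (Spec R)))
    (hCM : IsCohenMacaulayLocalRing ((Spec R).presheaf.stalk y)) (ι : Type u) [Finite ι]
    (hd : FlatMor.fibreDimAt (Spec.map φ) y = ((Nat.card ι : ℕ) : WithBot ℕ∞))
    (u₀ v₀ : Spec R ⟶ AffineSpace ι (Spec (CommRingCat.of k)))
    (hu : u₀ ≫ (AffineSpace ι (Spec (CommRingCat.of k)) ↘ Spec (CommRingCat.of k)) = Spec.map φ)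
    (hv : v₀ ≫ (AffineSpace ι (Spec (CommRingCat.of k)) ↘ Spec (CommRingCat.of k)) = Spec.map φ)
    (hqu : u₀.QuasiFiniteAt y) (hqv : v₀.QuasiFiniteAt y) :
    ∃ (m : ℕ) (W : Fin (m + 1) → (Spec R ⟶ AffineSpace ι (Spec (CommRingCat.of k)))),
      W 0 = u₀ ∧ W (Fin.last m) = v₀ ∧
      (∀ j, W j ≫ (AffineSpace ι (Spec (CommRingCat.of k)) ↘ Spec (CommRingCat.of k)) =
          Spec.map φ ∧ (W j).QuasiFiniteAt y ∧ ((W j).stalkMap y).hom.Flat) ∧
      ∀ j : Fin m, ∃ i : ι, ∀ i' : ι, i' ≠ i →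
        (W j.castSucc).appTop (AffineSpace.coord _ i') =
          (W j.succ).appTop (AffineSpace.coord _ i') := by
  haveI : IsNoetherianRing R := by
    letI := φ.hom.toAlgebra
    haveI : Algebra.FiniteType k R := hφ
    exact Algebra.FiniteType.isNoetherianRing k R
  haveI hmax : y.asIdeal.IsMaximal := (PrimeSpectrum.isClosed_singleton_iff_isMaximal y).mp hy
  set wu : ι → R := fun i => (Scheme.ΓSpecIso R).hom (u₀.appTop (AffineSpace.coord _ i)) with hwu
  set wv : ι → R := fun i => (Scheme.ΓSpecIso R).hom (v₀.appTop (AffineSpace.coord _ i)) with hwv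
  have eu : toA k φ wu = u₀ := toA_eq k φ u₀ hu
  have ev : toA k φ wv = v₀ := toA_eq k φ v₀ hv
  have hgu : Good y.asIdeal (rho k φ hφ y) wu :=
    good_of_quasiFiniteAt k φ hφ y wu (by rw [eu]; exact hqu)
  have hgv : Good y.asIdeal (rho k φ hφ y) wv :=
    good_of_quasiFiniteAt k φ hφ y wv (by rw [ev]; exact hqv)
  obtain ⟨m, w, h0, hl, hst⟩ := exists_fin_chain
    (chain y.asIdeal (rho k φ hφ y) (rho_fix k φ hφ y) wu wv hgu hgv)
  have hgood : ∀ j : Fin (m + 1), Good y.asIdeal (rho k φ hφ y) (w j) := by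
    intro j
    refine Fin.cases ?_ (fun j' => ?_) j
    · rw [h0]; exact hgu
    · exact (hst j').2.1
  refine ⟨m, fun j => toA k φ (w j), ?_, ?_, fun j => ?_, fun j => ?_⟩
  · change toA k φ (w 0) = u₀
    rw [h0, eu]
  · change toA k φ (w (Fin.last m)) = v₀
    rw [hl, ev]
  · have hq := quasiFiniteAt_of_good k φ hφ y (w j) (hgood j)
    exact ⟨toA_over k φ (w j), hq,
      flat_stalkMap_of_quasiFiniteAt k φ hφ y hCM ι hd _ (toA_over k φ (w j)) hq⟩
  · obtain ⟨i, hi⟩ := (hst j).2.2
    refine ⟨i, fun i' hi' => ?_⟩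
    change (toA k φ (w j.castSucc)).appTop _ = (toA k φ (w j.succ)).appTop _
    rw [toA_coord, toA_coord, hi i' hi']

end Groth.Agent.Lib.Helper5.SopChainC
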