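import Mathlib
import Groth.Prelude.Def_AlgSp4
import Groth.Prelude.Def_AlgSpDec
import Groth.Agent.S9908
import Groth.Agent.S10175
import Groth.Agent.S10177

set_option autoImplicit false
universe u
open CategoryTheory CategoryTheory.Limits AlgebraicGeometry

namespace Groth.Agent.Lib.Helper5.SpCC

variable {S : Scheme.{u}}

/-- the map on points of the morphism of a field point hits only the class of the point. -/
lemma map_toHom_eq {P : AlgSp.Sp S} (p : AlgSp.FieldPt P)
    (y : AlgSp.Points ((AlgSp.yon S).obj p.pt)) :
    AlgSp.Points.map p.toHom y = AlgSp.Points.mk p := by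
  obtain ⟨s, rfl⟩ := (AlgSp.Points.schemeHomeo p.pt).surjective y
  change AlgSp.Points.map p.toHom (AlgSp.Points.ofScheme p.pt s) = _
  rw [← AlgSp.Points.ofPt_eq_map_ofScheme]
  exact AlgSp.Points.ofPt_toHom p s

/-- the fibre of the map on points over the class of a field point is the image of the
points of the fibre sheaf. -/
lemma preimage_mk_eq_range {P P' Z : AlgSp.Sp S} (π : P' ⟶ P) (p : AlgSp.FieldPt P)
    (c : Z ⟶ P') (d : Z ⟶ (AlgSp.yon S).obj p.pt) (sq : IsPullback c d π p.toHom) :
    AlgSp.Points.map π ⁻¹' {AlgSp.Points.mk p} = Set.range (AlgSp.Points.map c) := by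
  ext y
  constructor
  · intro hy
    have hy' : AlgSp.Points.map π y = AlgSp.Points.mk p := hy
    let s : AlgSp.Points ((AlgSp.yon S).obj p.pt) :=
      AlgSp.Points.schemeHomeo p.pt (IsLocalRing.closedPoint p.K)
    have e : AlgSp.Points.map π y = AlgSp.Points.map p.toHom s := by
      rw [hy', map_toHom_eq]
    obtain ⟨z, hz, -⟩ := Groth.Agent.S10175.exists_point_of_isPullback sq y s e
    exact ⟨z, hz⟩
  · rintro ⟨z, rfl⟩
    change AlgSp.Points.map π (AlgSp.Points.map c z) = AlgSp.Points.mk p
    rw [← AlgSp.Points.map_comp, sq.w, AlgSp.Points.map_comp, map_toHom_eq]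

/-- a map of sheaves which is open on points and has connected fibre sheaves over all
field points induces a bijection on connected components of the spaces of points. -/
theorem bijective_of_isOpenMap_of_fibres {P P' : AlgSp.Sp S} (π : P' ⟶ P)
    (ho : IsOpenMap (AlgSp.Points.map π))
    (hfib : ∀ p : AlgSp.FieldPt P, ∃ (Z : AlgSp.Sp S) (c : Z ⟶ P')
      (d : Z ⟶ (AlgSp.yon S).obj p.pt), IsPullback c d π p.toHom ∧
        ConnectedSpace (AlgSp.Points Z)) :
    Function.Bijective (Continuous.connectedComponentsMap (AlgSp.Points.continuous_map π)) := by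
  have hconn : ∀ y : AlgSp.Points P, IsConnected (AlgSp.Points.map π ⁻¹' {y}) := by
    intro y
    induction y using AlgSp.Points.ind with | h p => ?_
    obtain ⟨Z, c, d, sq, hZ⟩ := hfib p
    rw [preimage_mk_eq_range π p c d sq]
    exact isConnected_range (AlgSp.Points.continuous_map c)
  have hsurj : Function.Surjective (AlgSp.Points.map π) := by
    intro y
    obtain ⟨x, hx⟩ := (hconn y).nonempty
    exact ⟨x, hx⟩
  have hco : Topology.IsCoinducing (AlgSp.Points.map π) :=
    (ho.isQuotientMap (AlgSp.Points.continuous_map π) hsurj).isCoinducing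
  exact hco.connectedComponentsMap_bijective hconn

end Groth.Agent.Lib.Helper5.SpCC
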