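import Mathlib
import Groth.Agent.Lib.Helper5SpCCA

set_option autoImplicit false
universe u
open CategoryTheory CategoryTheory.Limits AlgebraicGeometry

namespace Groth.Agent.Lib.Helper5.SpCC

variable {S : Scheme.{u}}

/-- the spectrum of a field is connected. -/
theorem connectedSpace_spec_field (K : Type u) [Field K] :
    ConnectedSpace (Spec (CommRingCat.of K)) := by
  change ConnectedSpace (PrimeSpectrum K)
  infer_instance

/-- a scheme with connected underlying space has connected space of points as a sheaf. -/
lemma connectedSpace_points_yon (Z : Over S) [ConnectedSpace Z.left] :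
    ConnectedSpace (AlgSp.Points ((AlgSp.yon S).obj Z)) :=
  (AlgSp.Points.schemeHomeo Z).connectedSpace_iff.1 inferInstance

/-- the pullback in `Over S` of a field point along a geometrically connected universally
open morphism is connected. -/
lemma connectedSpace_pullback_left {T T' Q : Over S} (t : Q ⟶ T) (j : T' ⟶ T)
    [ConnectedSpace Q.left] [GeometricallyConnected j.left] [UniversallyOpen j.left] :
    ConnectedSpace (pullback t j).left := by
  let e : (pullback t j).left ≅ pullback t.left j.left :=
    ((IsPullback.of_hasPullback t j).map (Over.forget S)).isoPullback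
  exact e.hom.homeomorph.connectedSpace_iff.2 inferInstance

/-- base change along a geometrically connected universally open morphism of schemes
induces a bijection on connected components of spaces of points. -/
theorem bijective_of_isPullback_yon {P P' : AlgSp.Sp S} {T T' : Over S} (j : T' ⟶ T)
    [GeometricallyConnected j.left] [UniversallyOpen j.left]
    {π : P' ⟶ P} {b' : P' ⟶ (AlgSp.yon S).obj T'} {b : P ⟶ (AlgSp.yon S).obj T}
    (sq : IsPullback π b' b ((AlgSp.yon S).map j)) :
    Function.Bijective (Continuous.connectedComponentsMap (AlgSp.Points.continuous_map π)) := by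
  have hj : AlgSp.RepWith @UniversallyOpen ((AlgSp.yon S).map j) :=
    (AlgSp.repWith_yon_map_iff @UniversallyOpen j).2 inferInstance
  have hπ : AlgSp.RepWith @UniversallyOpen π :=
    MorphismProperty.of_isPullback (P := AlgSp.RepWith @UniversallyOpen) sq.flip hj
  refine bijective_of_isOpenMap_of_fibres π
    (Groth.Agent.S9908.isOpenMap_map_of_repWith π hπ) ?_
  intro p
  obtain ⟨t, ht⟩ := (AlgSp.yon S).map_surjective (p.toHom ≫ b)
  haveI : ConnectedSpace p.pt.left := connectedSpace_spec_field p.K
  haveI := connectedSpace_pullback_left t j
  have hsch := (IsPullback.of_hasPullback t j).map (AlgSp.yon S)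
  have hw : (AlgSp.yon S).map (pullback.fst t j) ≫ p.toHom ≫ b =
      (AlgSp.yon S).map (pullback.snd t j) ≫ (AlgSp.yon S).map j := by
    rw [← ht]
    exact hsch.w
  refine ⟨(AlgSp.yon S).obj (pullback t j),
    sq.lift ((AlgSp.yon S).map (pullback.fst t j) ≫ p.toHom) ((AlgSp.yon S).map (pullback.snd t j))
      (by rw [Category.assoc]; exact hw),
    (AlgSp.yon S).map (pullback.fst t j), ?_, connectedSpace_points_yon _⟩
  have hbig : IsPullback ((AlgSp.yon S).map (pullback.fst t j))
      (sq.lift ((AlgSp.yon S).map (pullback.fst t j) ≫ p.toHom)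
        ((AlgSp.yon S).map (pullback.snd t j)) (by rw [Category.assoc]; exact hw) ≫ b')
      (p.toHom ≫ b) ((AlgSp.yon S).map j) := by
    rw [sq.lift_snd, ← ht]
    exact hsch
  exact IsPullback.of_right hbig.flip (by rw [sq.lift_fst]) sq.flip

end Groth.Agent.Lib.Helper5.SpCC
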