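import Mathlib
import Groth.Agent.Lib.Helper5SpCCB
import Groth.Agent.Lib.Helper6SepCl
import Groth.Agent.Lib.Helper12FieldBC4

set_option autoImplicit false
universe u
open CategoryTheory CategoryTheory.Limits AlgebraicGeometry

namespace Groth.Agent.Lib.Helper5.SpCC

open Groth.Agent.Lib.Helper12.FieldBC (ptK)

/-- a field extension of a separably closed field is geometrically connected. -/
theorem geometricallyConnected_specMap_of_isSepClosed (k K : Type u) [Field k] [Field K]
    [Algebra k K] [IsSepClosed k] :
    GeometricallyConnected (Spec.map (CommRingCat.ofHom (algebraMap k K))) := by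
  haveI := Groth.Agent.Lib.Helper6.SepCl.geometricallyIrreducible_specMap_of_isSepClosed k K
  exact Groth.Agent.Lib.Helper6.SepCl.geometricallyConnected_of_geometricallyIrreducible _

/-- every morphism to the spectrum of a field is universally open. -/
theorem universallyOpen_to_spec_field {X : Scheme.{u}} (K : Type u) [Field K]
    (f : X ⟶ Spec (CommRingCat.of K)) : UniversallyOpen f := by
  haveI : Subsingleton (Spec (CommRingCat.of K)) :=
    (inferInstance : Subsingleton (PrimeSpectrum K))
  infer_instance

/-- a space whose connected components form a subsingleton is preconnected. -/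
theorem preconnectedSpace_of_subsingleton {A : Type*} [TopologicalSpace A]
    [Subsingleton (ConnectedComponents A)] : PreconnectedSpace A := by
  rw [preconnectedSpace_iff_connectedComponent]
  intro x
  ext y
  simp only [Set.mem_univ, iff_true]
  have h : (ConnectedComponents.mk y) = ConnectedComponents.mk x := Subsingleton.elim _ _
  rw [ConnectedComponents.coe_eq_coe] at h
  rw [← h]
  exact mem_connectedComponent

/-- a surjective continuous map which is injective on connected components, with
connected target, has connected source. -/
theorem connectedSpace_of_injective_connectedComponentsMap {A B : Type*} [TopologicalSpace A]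
    [TopologicalSpace B] {f : A → B} (hf : Continuous f) (hs : Function.Surjective f)
    (hi : Function.Injective hf.connectedComponentsMap) [ConnectedSpace B] :
    ConnectedSpace A := by
  haveI : Subsingleton (ConnectedComponents A) := hi.subsingleton
  haveI : PreconnectedSpace A := preconnectedSpace_of_subsingleton
  haveI : Nonempty A := by
    obtain ⟨b⟩ := (inferInstance : Nonempty B)
    obtain ⟨a, -⟩ := hs b
    exact ⟨a⟩
  exact { toPreconnectedSpace := inferInstance, toNonempty := inferInstance }

variable {k : Type u} [Field k]

/-- the structure morphism of `Spec K` as a morphism to the terminal object. -/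
noncomputable abbrev ptStr (k K : Type u) [Field k] [Field K] [Algebra k K] :
    ptK k K ⟶ Over.mk (𝟙 (Spec (CommRingCat.of k))) :=
  Over.homMk (Spec.map (CommRingCat.ofHom (algebraMap k K))) (by simp)

/-- `X_K` is the pullback of `X` along `Spec K ⟶ Spec k`. -/
theorem isPullback_prod_fst (X : AlgSp.Sp (Spec (CommRingCat.of k))) (K : Type u) [Field K]
    [Algebra k K] (q : X ⟶ (AlgSp.yon (Spec (CommRingCat.of k))).obj (Over.mk (𝟙 _))) :
    IsPullback (prod.fst : X ⨯ (AlgSp.yon _).obj (ptK k K) ⟶ X) prod.snd q
      ((AlgSp.yon (Spec (CommRingCat.of k))).map (ptStr k K)) := by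
  have hpt : IsTerminal ((AlgSp.yon (Spec (CommRingCat.of k))).obj (Over.mk (𝟙 _))) :=
    IsTerminal.isTerminalObj (AlgSp.yon _) _ Over.mkIdTerminal
  have sq : IsPullback (prod.fst : X ⨯ (AlgSp.yon _).obj (ptK k K) ⟶ X) prod.snd
      (hpt.from _) (hpt.from _) :=
    IsPullback.of_is_product' (prodIsProd _ _) hpt
  have e : hpt.from ((AlgSp.yon (Spec (CommRingCat.of k))).obj (ptK k K)) =
      (AlgSp.yon (Spec (CommRingCat.of k))).map (ptStr k K) := hpt.hom_ext _ _
  have e' : hpt.from X = q := hpt.hom_ext _ _
  rw [e, e'] at sq
  exact sq

/-- over a separably closed field, `X_K ⟶ X` is bijective on connected components. -/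
theorem bijective_prod_fst [IsSepClosed k] (X : AlgSp.Sp (Spec (CommRingCat.of k)))
    (K : Type u) [Field K] [Algebra k K] :
    Function.Bijective (Continuous.connectedComponentsMap (AlgSp.Points.continuous_map
      (prod.fst : X ⨯ (AlgSp.yon _).obj (ptK k K) ⟶ X))) := by
  haveI : GeometricallyConnected (ptStr k K).left :=
    geometricallyConnected_specMap_of_isSepClosed k K
  haveI : UniversallyOpen (ptStr k K).left := universallyOpen_to_spec_field k _
  exact bijective_of_isPullback_yon (ptStr k K) (isPullback_prod_fst X K
    ((IsTerminal.isTerminalObj (AlgSp.yon _) _ Over.mkIdTerminal).from X))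

/-- for a separably closed intermediate field `K`, `X_Ω ⟶ X_K` is bijective on connected
components. -/
theorem bijective_prod_map (X : AlgSp.Sp (Spec (CommRingCat.of k)))
    (K Ω : Type u) [Field K] [Field Ω] [Algebra k K] [Algebra k Ω] [Algebra K Ω]
    [IsSepClosed K] (g : ptK k Ω ⟶ ptK k K)
    (hg : g.left = Spec.map (CommRingCat.ofHom (algebraMap K Ω))) :
    Function.Bijective (Continuous.connectedComponentsMap (AlgSp.Points.continuous_map
      (prod.map (𝟙 X) ((AlgSp.yon (Spec (CommRingCat.of k))).map g)))) := by
  have hpt : IsTerminal ((AlgSp.yon (Spec (CommRingCat.of k))).obj (Over.mk (𝟙 _))) :=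
    IsTerminal.isTerminalObj (AlgSp.yon _) _ Over.mkIdTerminal
  haveI : GeometricallyConnected g.left := by
    rw [hg]
    exact geometricallyConnected_specMap_of_isSepClosed K Ω
  haveI : UniversallyOpen g.left := universallyOpen_to_spec_field K _
  exact bijective_of_isPullback_yon g
    (Groth.Agent.Lib.Helper12.FieldBC.isPullback_prod_map hpt X
      ((AlgSp.yon (Spec (CommRingCat.of k))).map g)).flip

end Groth.Agent.Lib.Helper5.SpCC
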