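import Mathlib
import Groth.Agent.Lib.Helper5SpCCC
import Groth.Agent.Lib.Helper9SpPoint6

set_option autoImplicit false
universe u
open CategoryTheory CategoryTheory.Limits AlgebraicGeometry

namespace Groth.Agent.Lib.Helper5.SpCC

open AlgSp

variable {S : Scheme.{u}}

/-- the fibre over an extension of a separably closed field point has the same number of
connected components. -/
theorem card_connectedComponents_fibre_ext {X Y : Sp S} (f : X ⟶ Y) (k : FieldPt Y)
    [IsSepClosed k.K] {Ω : Type u} [Field Ω] {w : Spec (CommRingCat.of Ω) ⟶ S}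
    (α : Over.mk w ⟶ k.pt)
    {Xk : Sp S} {a : Xk ⟶ X} {b : Xk ⟶ (yon S).obj k.pt} (h : IsPullback a b f k.toHom)
    {XΩ : Sp S} {aΩ : XΩ ⟶ X} {bΩ : XΩ ⟶ (yon S).obj (Over.mk w)}
    (hΩ : IsPullback aΩ bΩ f ((yon S).map α ≫ k.toHom)) :
    ENat.card (_root_.ConnectedComponents (Points XΩ)) =
      ENat.card (_root_.ConnectedComponents (Points Xk)) := by
  have hw : aΩ ≫ f = (bΩ ≫ (yon S).map α) ≫ k.toHom := by
    rw [Category.assoc]; exact hΩ.w
  have sq : IsPullback (h.lift aΩ (bΩ ≫ (yon S).map α) hw) bΩ b ((yon S).map α) := by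
    refine IsPullback.of_right ?_ (h.lift_snd _ _ _) h
    rw [h.lift_fst]
    exact hΩ
  obtain ⟨ψ, hψ⟩ : ∃ ψ : k.K →+* Ω, Spec.map (CommRingCat.ofHom ψ) = α.left :=
    ⟨(Spec.preimage α.left).hom, by rw [CommRingCat.ofHom_hom, Spec.map_preimage]⟩
  letI : Algebra k.K Ω := ψ.toAlgebra
  haveI : GeometricallyConnected α.left := by
    rw [← hψ]
    exact geometricallyConnected_specMap_of_isSepClosed k.K Ω
  haveI : UniversallyOpen α.left := universallyOpen_to_spec_field k.K _
  exact ENat.card_congr (Equiv.ofBijective _ (bijective_of_isPullback_yon α sq))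

/-- the number of connected components of the geometric fibre only depends on the class
of the geometric point. -/
theorem card_connectedComponents_fibre_of_mk_eq {X Y : Sp S} (f : X ⟶ Y) (k k₁ : FieldPt Y)
    (hk : k.IsGeometric) (hk₁ : k₁.IsGeometric) (hkk : Points.mk k = Points.mk k₁)
    {Xk : Sp S} {a : Xk ⟶ X} {b : Xk ⟶ (yon S).obj k.pt} (h : IsPullback a b f k.toHom)
    {Xk₁ : Sp S} {a₁ : Xk₁ ⟶ X} {b₁ : Xk₁ ⟶ (yon S).obj k₁.pt}
    (h₁ : IsPullback a₁ b₁ f k₁.toHom) :
    ENat.card (_root_.ConnectedComponents (Points Xk₁)) =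
      ENat.card (_root_.ConnectedComponents (Points Xk)) := by
  haveI : IsAlgClosed k.K := hk
  haveI : IsAlgClosed k₁.K := hk₁
  haveI : IsSepClosed k.K := inferInstance
  haveI : IsSepClosed k₁.K := inferInstance
  obtain ⟨Ω, hΩ, w, α, β, hαβ⟩ :=
    Groth.Agent.Lib.Helper9.SpPoint.rel_toHom (Points.mk_eq_mk_iff.1 hkk)
  letI : Field Ω := hΩ
  have hpb := IsPullback.of_hasPullback f ((yon S).map α ≫ k.toHom)
  have e1 := card_connectedComponents_fibre_ext f k α h hpb
  have hpb' : IsPullback (pullback.fst f ((yon S).map α ≫ k.toHom))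
      (pullback.snd f ((yon S).map α ≫ k.toHom)) f ((yon S).map β ≫ k₁.toHom) := by
    rw [← hαβ]
    exact hpb
  have e2 := card_connectedComponents_fibre_ext f k₁ β h₁ hpb'
  rw [← e1, ← e2]

end Groth.Agent.Lib.Helper5.SpCC
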