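import Mathlib
import Groth.Agent.Lib.Helper5SpCCC
import Groth.Agent.S9906

set_option autoImplicit false
universe u
open CategoryTheory CategoryTheory.Limits AlgebraicGeometry

namespace Groth.Agent.Lib.Helper5.SpCC

open AlgSp

/-- the product of a map with an identity is a base change of the map. -/
lemma isPullback_prod_map_id {C : Type*} [Category C] [HasBinaryProducts C] {pt : C}
    (hpt : IsTerminal pt) {U X : C} (a : U ⟶ X) (Y : C) :
    IsPullback (prod.map a (𝟙 Y)) prod.fst prod.fst a := by
  have hbig : IsPullback (prod.snd : U ⨯ Y ⟶ Y) prod.fst (hpt.from _) (hpt.from _) :=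
    (IsPullback.of_is_product' (prodIsProd U Y) hpt).flip
  have hright : IsPullback (prod.snd : X ⨯ Y ⟶ Y) prod.fst (hpt.from _) (hpt.from _) :=
    (IsPullback.of_is_product' (prodIsProd X Y) hpt).flip
  have e1 : (prod.snd : U ⨯ Y ⟶ Y) = prod.map a (𝟙 Y) ≫ prod.snd := by
    rw [prod.map_snd, Category.comp_id]
  have e2 : hpt.from U = a ≫ hpt.from X := hpt.hom_ext _ _
  rw [e1, e2] at hbig
  exact IsPullback.of_right hbig (by rw [prod.map_fst]) hright

/-- a continuous surjection followed by a map such that the composite is open: the second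
map is open. -/
lemma isOpenMap_of_comp_surjective {A B C : Type*} [TopologicalSpace A] [TopologicalSpace B]
    [TopologicalSpace C] {q : A → B} {g : B → C} (hq : Continuous q)
    (hs : Function.Surjective q) (ho : IsOpenMap (g ∘ q)) : IsOpenMap g := by
  intro W hW
  have : g '' W = (g ∘ q) '' (q ⁻¹' W) := by
    rw [Set.image_comp, Set.image_preimage_eq W hs]
  rw [this]
  exact ho _ (hW.preimage hq)

variable {k : Type u} [Field k]

/-- for an algebraic space `X` over a field, the projection `X × Y ⟶ Y` is open on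
points. -/
theorem isOpenMap_map_prod_snd {X : Sp (Spec (CommRingCat.of k))} (hX : IsAlgSpace X)
    (Y : Sp (Spec (CommRingCat.of k))) :
    IsOpenMap (Points.map (prod.snd : X ⨯ Y ⟶ Y)) := by
  have hpt : IsTerminal ((yon (Spec (CommRingCat.of k))).obj (Over.mk (𝟙 _))) :=
    IsTerminal.isTerminalObj (yon _) _ Over.mkIdTerminal
  obtain ⟨U, a, -, has⟩ := hX.atlas
  have hq : RepWith @Surjective (prod.map a (𝟙 Y)) :=
    MorphismProperty.of_isPullback (P := RepWith @Surjective)
      (isPullback_prod_map_id hpt a Y).flip has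
  have hqs := Groth.Agent.S9906.surjective_map_of_repWith _ hq
  have hu : RepWith @UniversallyOpen ((yon (Spec (CommRingCat.of k))).map
      (Over.mkIdTerminal.from U)) := by
    rw [repWith_yon_map_iff]
    exact universallyOpen_to_spec_field k _
  have sq : IsPullback (prod.fst : (yon _).obj U ⨯ Y ⟶ (yon _).obj U) prod.snd
      (hpt.from _) (hpt.from _) :=
    IsPullback.of_is_product' (prodIsProd _ _) hpt
  have e : hpt.from ((yon (Spec (CommRingCat.of k))).obj U) =
      (yon (Spec (CommRingCat.of k))).map (Over.mkIdTerminal.from U) := hpt.hom_ext _ _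
  rw [e] at sq
  have hsnd : RepWith @UniversallyOpen (prod.snd : (yon _).obj U ⨯ Y ⟶ Y) :=
    MorphismProperty.of_isPullback (P := RepWith @UniversallyOpen) sq hu
  have ho := Groth.Agent.S9908.isOpenMap_map_of_repWith _ hsnd
  refine isOpenMap_of_comp_surjective (Points.continuous_map (prod.map a (𝟙 Y))) hqs ?_
  have hcomp : Points.map (prod.snd : X ⨯ Y ⟶ Y) ∘ Points.map (prod.map a (𝟙 Y)) =
      Points.map (prod.snd : (yon _).obj U ⨯ Y ⟶ Y) := by
    funext z
    change Points.map prod.snd (Points.map (prod.map a (𝟙 Y)) z) = _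
    rw [← Points.map_comp, prod.map_snd, Category.comp_id]
  rw [hcomp]
  exact ho

/-- for a geometrically connected algebraic space `X` over a field, `X × Y ⟶ Y` is
bijective on connected components. -/
theorem bijective_prod_snd {X : Sp (Spec (CommRingCat.of k))} (hX : IsAlgSpace X)
    (hc : ∀ (K : Type u) [Field K] [Algebra k K], ConnectedSpace (Points (X ⨯
      (yon (Spec (CommRingCat.of k))).obj
        (Over.mk (Spec.map (CommRingCat.ofHom (algebraMap k K)))))))
    (Y : Sp (Spec (CommRingCat.of k))) :
    Function.Bijective (Continuous.connectedComponentsMap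
      (Points.continuous_map (prod.snd : X ⨯ Y ⟶ Y))) := by
  have hpt : IsTerminal ((yon (Spec (CommRingCat.of k))).obj (Over.mk (𝟙 _))) :=
    IsTerminal.isTerminalObj (yon _) _ Over.mkIdTerminal
  refine bijective_of_isOpenMap_of_fibres _ (isOpenMap_map_prod_snd hX Y) ?_
  intro p
  refine ⟨X ⨯ (yon _).obj p.pt, prod.map (𝟙 X) p.toHom, prod.snd,
    (Groth.Agent.Lib.Helper12.FieldBC.isPullback_prod_map hpt X p.toHom).flip, ?_⟩
  obtain ⟨K, str, val⟩ := p
  obtain ⟨ψ, rfl⟩ : ∃ ψ : k →+* K, Spec.map (CommRingCat.ofHom ψ) = str :=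
    ⟨(Spec.preimage str).hom, by rw [CommRingCat.ofHom_hom, Spec.map_preimage]⟩
  letI : Algebra k K := ψ.toAlgebra
  exact hc K

end Groth.Agent.Lib.Helper5.SpCC
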