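import Mathlib
import Groth.Agent.Lib.Helper5SpCCC
import Groth.Agent.Lib.Helper12GeomRed
import Groth.Agent.Lib.Helper12FieldBC

set_option autoImplicit false
universe u
open CategoryTheory CategoryTheory.Limits AlgebraicGeometry

namespace Groth.Agent.Lib.Helper5.SpDecBC

open AlgSp Groth.Agent.Lib.Helper5.SpCC

variable {S : Scheme.{u}}

/-- the fibre of a base change along a morphism of schemes over a field point, as a
scheme. -/
theorem exists_fibre_square {P P' : Sp S} {T T' : Over S} (j : T' ⟶ T)
    {π : P' ⟶ P} {b' : P' ⟶ (yon S).obj T'} {b : P ⟶ (yon S).obj T}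
    (sq : IsPullback π b' b ((yon S).map j)) (p : FieldPt P) :
    ∃ (t : p.pt ⟶ T) (c : (yon S).obj (pullback t j) ⟶ P'),
      IsPullback c ((yon S).map (pullback.fst t j)) π p.toHom := by
  obtain ⟨t, ht⟩ := (yon S).map_surjective (p.toHom ≫ b)
  have hsch := (IsPullback.of_hasPullback t j).map (yon S)
  have hw : (yon S).map (pullback.fst t j) ≫ p.toHom ≫ b =
      (yon S).map (pullback.snd t j) ≫ (yon S).map j := by
    rw [← ht]
    exact hsch.w
  refine ⟨t, sq.lift ((yon S).map (pullback.fst t j) ≫ p.toHom) ((yon S).map (pullback.snd t j))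
      (by rw [Category.assoc]; exact hw), ?_⟩
  have hbig : IsPullback ((yon S).map (pullback.fst t j))
      (sq.lift ((yon S).map (pullback.fst t j) ≫ p.toHom)
        ((yon S).map (pullback.snd t j)) (by rw [Category.assoc]; exact hw) ≫ b')
      (p.toHom ≫ b) ((yon S).map j) := by
    rw [sq.lift_snd, ← ht]
    exact hsch
  exact IsPullback.of_right hbig.flip (by rw [sq.lift_fst]) sq.flip

/-- decency is stable under base change along an affine morphism of schemes. -/
theorem isDecent_of_isPullback_yon {P P' : Sp S} {T T' : Over S} (j : T' ⟶ T)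
    [IsAffineHom j.left] {π : P' ⟶ P} {b' : P' ⟶ (yon S).obj T'} {b : P ⟶ (yon S).obj T}
    (sq : IsPullback π b' b ((yon S).map j)) (hP : IsDecent P) : IsDecent P' := by
  intro x'
  obtain ⟨p, hp, hm, hq⟩ := hP (Points.map π x')
  obtain ⟨t, c, hc⟩ := exists_fibre_square j sq p
  have hZaff : IsAffine (pullback t j).left := by
    let e : (pullback t j).left ≅ pullback t.left j.left :=
      ((IsPullback.of_hasPullback t j).map (Over.forget S)).isoPullback
    haveI : IsAffine p.pt.left := (inferInstance : IsAffine (Spec (CommRingCat.of p.K)))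
    exact IsAffine.of_isIso e.hom
  let s : Points ((yon S).obj p.pt) := Points.schemeHomeo p.pt (IsLocalRing.closedPoint p.K)
  have e : Points.map π x' = Points.map p.toHom s := by
    rw [map_toHom_eq, hp]
  obtain ⟨w, hw, -⟩ := Groth.Agent.S10175.exists_point_of_isPullback hc x' s e
  obtain ⟨z, rfl⟩ := (Points.schemeHomeo (pullback t j)).surjective w
  have hx' : Points.ofPt c z = x' := by
    rw [Points.ofPt_eq_map_ofScheme]
    exact hw
  refine ⟨FieldPt.ofPt c z, hx', ?_, ?_⟩
  · rw [FieldPt.toHom_ofPt]
    haveI hmc : Mono c := hc.mono_fst_of_mono hm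
    have hι : Mono (Over.homMk ((pullback t j).left.fromSpecResidueField z) rfl :
        Over.mk ((pullback t j).left.fromSpecResidueField z ≫ (pullback t j).hom) ⟶
          pullback t j) := by
      haveI : Mono (Over.homMk ((pullback t j).left.fromSpecResidueField z) rfl :
        Over.mk ((pullback t j).left.fromSpecResidueField z ≫ (pullback t j).hom) ⟶
          pullback t j).left := by
        show Mono ((pullback t j).left.fromSpecResidueField z)
        infer_instance
      exact Over.mono_of_mono_left _
    haveI : (yon S).PreservesMonomorphisms :=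
      preservesMonomorphisms_of_preservesLimitsOfShape _
    have hyι := @Functor.map_mono _ _ _ _ (yon S) _ _ _ _ hι
    exact @mono_comp _ _ _ _ _ _ hyι _ hmc
  · rw [FieldPt.toHom_ofPt]
    have h1 : RepWith @QuasiCompact ((yon S).map
        (Over.homMk ((pullback t j).left.fromSpecResidueField z) rfl :
        Over.mk ((pullback t j).left.fromSpecResidueField z ≫ (pullback t j).hom) ⟶
          pullback t j)) := by
      rw [repWith_yon_map_iff]
      show QuasiCompact ((pullback t j).left.fromSpecResidueField z)
      infer_instance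
    have h2 : RepWith @QuasiCompact c :=
      MorphismProperty.of_isPullback (P := RepWith @QuasiCompact) hc.flip hq
    exact (RepWith @QuasiCompact).comp_mem _ _ h1 h2

end Groth.Agent.Lib.Helper5.SpDecBC
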