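import Mathlib
import Groth.Agent.Lib.Helper5SpGorC
import Groth.Agent.S3617
import Groth.Agent.S3626
import Groth.Agent.S10176

/-!
# The Gorenstein locus of a flat, locally finitely presented morphism of algebraic spaces (helper5)

* `exists_atlas_diagram`: a chart diagram of `f` whose source chart is surjective;
* `isOpen_gorLocus`: the locus where `f` is Gorenstein is open in `|X|`;
* `gorLocus_baseChange`: it commutes with base change.
-/

set_option autoImplicit false
set_option linter.style.haveILetI false
set_option backward.isDefEq.respectTransparency false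
universe u
open CategoryTheory CategoryTheory.Limits AlgebraicGeometry Opposite

namespace Groth.Agent.Lib.Helper5.SpGorD

open AlgSp Groth.Agent.Lib.Helper5.SpGorA Groth.Agent.Lib.Helper5.SpGorB
  Groth.Agent.Lib.Helper5.SpGorC Groth.Agent.Lib.Helper9.SpPoint

variable {S : Scheme.{u}}

/-- a chart diagram of `f` whose source chart is surjective -/
theorem exists_atlas_diagram {X Y : AlgSp.Sp S} (hX : IsAlgSpace X) (hY : IsAlgSpace Y)
    (f : X ⟶ Y) :
    ∃ (U V : Over S) (a : (yon S).obj U ⟶ X) (b : (yon S).obj V ⟶ Y) (h : U ⟶ V),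
      RepWith @Etale a ∧ RepWith @Surjective a ∧ RepWith @Etale b ∧ RepWith @Surjective b ∧
      a ≫ f = (yon S).map h ≫ b := by
  obtain ⟨V, b, hb, hbs⟩ := hY.atlas
  have hQ : IsAlgSpace (pullback f b) :=
    Groth.Agent.S9874.isAlgSpace_of_isPullback hY.diag hX (IsAlgSpace.yon_obj V)
      (IsPullback.of_hasPullback f b)
  obtain ⟨U, φ, hφe, hφs⟩ := hQ.atlas
  obtain ⟨h, hh⟩ := (yon S).map_surjective (φ ≫ pullback.snd f b)
  have hfe : RepWith @Etale (pullback.fst f b) :=
    MorphismProperty.of_isPullback (P := AlgSp.RepWith @Etale)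
      (IsPullback.of_hasPullback f b).flip hb
  have hfs : RepWith @Surjective (pullback.fst f b) :=
    MorphismProperty.of_isPullback (P := AlgSp.RepWith @Surjective)
      (IsPullback.of_hasPullback f b).flip hbs
  refine ⟨U, V, φ ≫ pullback.fst f b, b, h,
    (repWith_isMultiplicative (S := S) @Etale).comp_mem _ _ hφe hfe,
    (repWith_isMultiplicative (S := S) @Surjective).comp_mem _ _ hφs hfs, hb, hbs, ?_⟩
  rw [Category.assoc, pullback.condition, ← Category.assoc, hh]

theorem chartFibLN_of_lfp {X Y : Sp S} (f : X ⟶ Y) (hf : LocP @LocallyOfFinitePresentation f) :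
    ChartFibLN f := by
  intro U V a b h ha hb hc
  haveI : LocallyOfFinitePresentation h.left := hf a b h ha hb hc
  exact fibLN_of_lft h.left

/-- the Gorenstein locus of a flat, locally finitely presented morphism is open -/
theorem isOpen_gorLocus {X Y : AlgSp.Sp S} (hX : IsAlgSpace X) (hY : IsAlgSpace Y) (f : X ⟶ Y)
    (hf1 : LocP @Flat f) (hf2 : LocP @LocallyOfFinitePresentation f) :
    IsOpen {x : Points X | LocPAt (fun h u => Dual3.IsGorensteinAt h u) f x} := by
  have HF := chartFibLN_of_lfp f hf2
  obtain ⟨U, V, a, b, h, ha, has, hb, -, hc⟩ := exists_atlas_diagram hX hY f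
  haveI : Flat h.left := hf1 a b h ha hb hc
  haveI : LocallyOfFinitePresentation h.left := hf2 a b h ha hb hc
  have hopen : IsOpen {u : U.left | Dual3.IsGorensteinAt h.left u} :=
    Groth.Agent.S3617.result U.left V.left h.left
  have himg : {x : Points X | LocPAt (fun h u => Dual3.IsGorensteinAt h u) f x} =
      Points.ofPt a '' {u : U.left | Dual3.IsGorensteinAt h.left u} := by
    ext x
    constructor
    · intro H
      obtain ⟨u, hu⟩ := exists_atlas_point a has x
      exact ⟨u, H a b h u ha hb hc hu, hu⟩
    · rintro ⟨u, hu, rfl⟩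
      exact (locPAt_gor_iff hX hY f HF a b h u ha hb hc rfl).mpr hu
  rw [himg]
  exact Groth.Agent.S10176.isOpenMap_ofPt a ha _ hopen

/-- the Gorenstein locus of a flat, locally finitely presented morphism commutes with base
change -/
theorem gorLocus_baseChange {X Y X' Y' : AlgSp.Sp S} (hX : IsAlgSpace X) (hY : IsAlgSpace Y)
    (hX' : IsAlgSpace X') (hY' : IsAlgSpace Y')
    (f : X ⟶ Y) (hf1 : LocP @Flat f) (hf2 : LocP @LocallyOfFinitePresentation f)
    (g : Y' ⟶ Y) (g' : X' ⟶ X) (f' : X' ⟶ Y') (hsq : IsPullback g' f' f g) (x' : Points X') :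
    LocPAt (fun h u => Dual3.IsGorensteinAt h u) f' x' ↔
      LocPAt (fun h u => Dual3.IsGorensteinAt h u) f (Points.map g' x') := by
  have HF := chartFibLN_of_lfp f hf2
  have hf2' : LocP @LocallyOfFinitePresentation f' :=
    Groth.Agent.Lib.Helper12.LocPCases.good_lfp.locP_baseChange hX hY hY' hsq hf2
  have HF' := chartFibLN_of_lfp f' hf2'
  obtain ⟨U, V, W, a, b, h, b', k, a'', p, ha, hb, hb', ha'', hc, hk, h1, h2, hp⟩ :=
    exists_diagram_baseChange hX hY hY' f g g' f' hsq x'
  have hsch : IsPullback (pullback.fst h k).left (pullback.snd h k).left h.left k.left :=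
    (IsPullback.of_hasPullback h k).map (Over.forget S)
  haveI : Flat h.left := hf1 a b h ha hb hc
  haveI : LocallyOfFinitePresentation h.left := hf2 a b h ha hb hc
  have hx : Points.ofPt a ((pullback.fst h k).left p) = Points.map g' x' := by
    rw [← ofPt_yon_map_comp, ← h1, ← Points.map_ofPt, hp]
  have key := Groth.Agent.S3626.result U.left V.left (pullback h k).left W.left h.left k.left
    (pullback.snd h k).left (pullback.fst h k).left hsch p
  have E1 := locPAt_gor_iff hX hY f HF a b h ((pullback.fst h k).left p) ha hb hc hx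
  have E2 := locPAt_gor_iff hX' hY' f' HF' a'' b' (pullback.snd h k) p ha'' hb' h2 hp
  exact E2.trans (key.trans E1.symm)

end Groth.Agent.Lib.Helper5.SpGorD
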