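import Mathlib
import Groth.Agent.Lib.Helper5SpGorD
import Groth.Agent.Lib.Helper3HzP
import Groth.Agent.S3624

/-!
# Gorenstein algebraic spaces and strict henselizations (helper5)

* `isGorenstein_of_chart`: every etale chart of a Gorenstein algebraic space is a Gorenstein scheme;
* `gor_sh_iff`: a strict henselization of a Noetherian local ring is Gorenstein iff the ring is.
-/

set_option autoImplicit false
set_option linter.style.haveILetI false
set_option backward.isDefEq.respectTransparency false
universe u
open CategoryTheory CategoryTheory.Limits AlgebraicGeometry Opposite IsLocalRing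

namespace Groth.Agent.Lib.Helper5.SpGorE

open AlgSp Groth.Agent.Lib.Helper5.SpGorA Groth.Agent.Lib.Helper5.SpGorB
  Groth.Agent.Lib.Helper5.SpGorC Groth.Agent.Lib.Helper9.SpPoint
  Groth.Agent.Lib.Helper5.FiberMor Groth.Agent.Lib.Helper5.FiberRing
  Groth.Agent.Lib.Helper5.FieldFib LocCoh

variable {S : Scheme.{u}}

/-- every etale chart of a Gorenstein algebraic space is a Gorenstein scheme -/
theorem isGorenstein_of_chart {F : AlgSp.Sp S} (hF : EtaleLocally Dual3.IsGorenstein F)
    {U : Over S} (a : (yon S).obj U ⟶ F) (ha : RepWith @Etale a) :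
    Dual3.IsGorenstein U.left := by
  obtain ⟨V, q, hqe, hqs, hV1, hV2⟩ := hF
  obtain ⟨W, snd, fst', sq⟩ := hqe.1 a
  obtain ⟨fst, rfl⟩ := (yon S).map_surjective fst'
  haveI : Etale snd.left := hqe.2 _ _ snd sq
  haveI : Surjective snd.left := hqs.2 _ _ snd sq
  haveI : Etale fst.left := ha.2 _ _ fst sq.flip
  haveI : IsLocallyNoetherian V.left := hV1
  haveI : IsLocallyNoetherian W.left := LocallyOfFiniteType.isLocallyNoetherian fst.left
  haveI : IsLocallyNoetherian U.left :=
    Groth.Agent.Lib.Helper12.NoethDescent.isLocallyNoetherian_of_flat_lfp_surjective snd.left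
  refine ⟨inferInstance, fun u => ?_⟩
  obtain ⟨w, rfl⟩ := snd.left.surjective u
  have h1 : IsGorensteinLocalRing (W.left.presheaf.stalk w) :=
    (stalk_iff_of_etale (X := V.left) fst.left w flatLocalIff_gor isoInv_gor
      (fun R _ hR => gor_of_isField R hR)).mpr (hV2 _)
  exact (stalk_iff_of_etale (X := U.left) snd.left w flatLocalIff_gor isoInv_gor
    (fun R _ hR => gor_of_isField R hR)).mp h1

/-- a strict henselization of a Noetherian local ring is Gorenstein iff the ring is -/
theorem gor_sh_iff (A R : Type u) [CommRing A] [IsLocalRing A] [IsNoetherianRing A] [CommRing R]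
    [IsLocalRing R] [Algebra A R] [IsLocalHom (algebraMap A R)]
    [Hensel.IsStrictHenselization A R] :
    IsGorensteinLocalRing R ↔ IsGorensteinLocalRing A := by
  haveI : IsNoetherianRing R := Groth.Agent.Lib.Helper3.HzP.sh_isNoetherianRing A R
  haveI : Module.FaithfullyFlat A R := Groth.Agent.Lib.Helper3.HzP.sh_faithfullyFlat A R
  have hker : RingHom.ker (residue R) = (maximalIdeal A).map (algebraMap A R) := by
    rw [IsLocalRing.ker_residue, Groth.Agent.Lib.Helper3.HzP.sh_map_maximalIdeal A R]
  have key : IsGorensteinLocalRing R ↔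
      IsGorensteinLocalRing A ∧ IsGorensteinLocalRing (ResidueField R) :=
    flatLocalIff_gor A R (ResidueField R) (residue R) IsLocalRing.residue_surjective hker
  exact key.trans (and_iff_left (gor_of_isField _ (Field.toIsField _)))

end Groth.Agent.Lib.Helper5.SpGorE
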