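import Mathlib
import Groth.Agent.Lib.Helper5SpGorE

/-!
# Gorenstein morphisms of algebraic spaces and Gorenstein fibres (helper5)

* `isGorenstein_of_iso`: Gorenstein schemes are invariant under isomorphism;
* `isGorenstein_fiber_iff`: a fibre of a morphism of schemes is a Gorenstein scheme iff the fibre
  local rings at all points over the given point are Gorenstein;
* `exists_fibre_chart`: the scheme fibre of a chart diagram is an etale chart of the fibre space;
* `gor_fibre_space_of_gorAt`, `gorAt_of_gor_fibre_space`: the two halves of the fibrewise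
  criterion.
-/

set_option autoImplicit false
set_option linter.style.haveILetI false
set_option backward.isDefEq.respectTransparency false
universe u
open CategoryTheory CategoryTheory.Limits AlgebraicGeometry Opposite IsLocalRing

namespace Groth.Agent.Lib.Helper5.SpGorF

open AlgSp Groth.Agent.Lib.Helper5.SpGorA Groth.Agent.Lib.Helper5.SpGorB
  Groth.Agent.Lib.Helper5.SpGorC Groth.Agent.Lib.Helper5.SpGorD Groth.Agent.Lib.Helper5.SpGorE
  Groth.Agent.Lib.Helper9.SpPoint
  Groth.Agent.Lib.Helper5.FiberMor Groth.Agent.Lib.Helper5.FiberRing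
  Groth.Agent.Lib.Helper5.FieldFib LocCoh

variable {S : Scheme.{u}}

/-- Gorenstein schemes are invariant under isomorphism -/
theorem isGorenstein_of_iso {X Y : Scheme.{u}} (e : X ≅ Y) (hX : Dual3.IsGorenstein X) :
    Dual3.IsGorenstein Y := by
  haveI := hX.1
  refine ⟨isLocallyNoetherian_of_isOpenImmersion e.inv, fun y => ?_⟩
  have h1 := hX.2 (e.inv y)
  exact isoInv_gor _ _ (asIso (e.inv.stalkMap y)).commRingCatIsoToRingEquiv h1

/-- a fibre is a Gorenstein scheme iff the fibre local rings at the points over the given point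
are Gorenstein -/
theorem isGorenstein_fiber_iff {U V : Scheme.{u}} (h : U ⟶ V) (v : V)
    [IsLocallyNoetherian (h.fiber v)] :
    Dual3.IsGorenstein (h.fiber v) ↔ ∀ u : U, h u = v →
      IsGorensteinLocalRing ((h.fiber (h u)).presheaf.stalk (h.asFiber u)) := by
  constructor
  · intro H u hu
    have hmem : u ∈ Set.range (h.fiberι v) := by
      rw [h.range_fiberι v]; exact hu
    obtain ⟨t, ht⟩ := hmem
    obtain ⟨e⟩ := Groth.Agent.Lib.Helper5.FiberBC.fiber_stalk_transport h hu (h.asFiber u) t
      (by rw [h.fiberι_asFiber u, ht])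
    exact isoInv_gor _ _ e.symm (H.2 t)
  · intro H
    refine ⟨inferInstance, fun t => ?_⟩
    have hu : h (h.fiberι v t) = v := by
      have : h.fiberι v t ∈ h ⁻¹' {v} := by
        rw [← h.range_fiberι v]; exact Set.mem_range_self t
      exact this
    obtain ⟨e⟩ := Groth.Agent.Lib.Helper5.FiberBC.fiber_stalk_transport h hu
      (h.asFiber (h.fiberι v t)) t (by rw [h.fiberι_asFiber])
    exact isoInv_gor _ _ e (H _ hu)

/-- the residue field point of a chart -/
noncomputable abbrev ptOver (V : Over S) (v : V.left) : Over S := Over.mk (V.left.fromSpecResidueField v ≫ V.hom)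

/-- the inclusion of the residue field point -/
noncomputable abbrev ptι (V : Over S) (v : V.left) : ptOver V v ⟶ V :=
  Over.homMk (V.left.fromSpecResidueField v) rfl

/-- the scheme fibre of a chart diagram is an etale chart of the fibre space -/
theorem exists_fibre_chart (P : MorphismProperty Scheme.{u}) [P.IsStableUnderBaseChange]
    [P.IsMultiplicative] {X Y : AlgSp.Sp S} (f : X ⟶ Y) {U V : Over S}
    (a : (yon S).obj U ⟶ X) (b : (yon S).obj V ⟶ Y) (h : U ⟶ V)
    (hc : a ≫ f = (yon S).map h ≫ b)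
    (hφ : RepWith P (pullback.lift a ((yon S).map h) hc)) (v : V.left)
    {Xv : AlgSp.Sp S} (a' : Xv ⟶ X) (c : Xv ⟶ (yon S).obj (ptOver V v))
    (sq : IsPullback a' c f ((yon S).map (ptι V v) ≫ b)) :
    ∃ a'' : (yon S).obj (pullback h (ptι V v)) ⟶ Xv, RepWith P a'' := by
  have hP : IsPullback ((yon S).map (pullback.fst h (ptι V v)))
      ((yon S).map (pullback.snd h (ptι V v))) ((yon S).map h) ((yon S).map (ptι V v)) :=
    (IsPullback.of_hasPullback h (ptι V v)).map (yon S)
  have hw : ((yon S).map (pullback.fst h (ptι V v)) ≫ a) ≫ f =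
      ((yon S).map (pullback.snd h (ptι V v)) ≫ 𝟙 _) ≫ ((yon S).map (ptι V v) ≫ b) := by
    rw [Category.assoc, hc, Category.comp_id, ← Category.assoc, ← Category.assoc, hP.w]
  obtain ⟨a'', ha''⟩ : ∃ a'' : (yon S).obj (pullback h (ptι V v)) ⟶ Xv,
      a'' = sq.lift _ _ hw := ⟨_, rfl⟩
  have h1 : a'' ≫ a' = (yon S).map (pullback.fst h (ptι V v)) ≫ a := by
    rw [ha'', sq.lift_fst]
  have h2 : a'' ≫ c = (yon S).map (pullback.snd h (ptι V v)) ≫ 𝟙 _ := by
    rw [ha'', sq.lift_snd]
  haveI : P.ContainsIdentities := inferInstance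
  exact ⟨a'', repWith_chart_baseChange P f ((yon S).map (ptι V v) ≫ b) a' c sq a b h hc hφ
    (𝟙 _) (ptι V v) (repWith_id P _) (Category.id_comp _) a'' h1 h2⟩

/-- the scheme fibre of a chart diagram as a scheme -/
noncomputable def fibreIso {U V : Over S} (h : U ⟶ V) (v : V.left) :
    (pullback h (ptι V v)).left ≅ h.left.fiber v :=
  (((IsPullback.of_hasPullback h (ptι V v)).map (Over.forget S)).isoPullback :
    (pullback h (ptι V v)).left ≅ pullback h.left (ptι V v).left)

/-- a chart diagram of `f` over an atlas of `Y`, with etale surjective map to `X ×_Y V` -/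
theorem exists_atlas_diagram_over {X Y : AlgSp.Sp S} (hX : IsAlgSpace X) (hY : IsAlgSpace Y)
    (f : X ⟶ Y) {V : Over S} (b : (yon S).obj V ⟶ Y) (hb : RepWith @Etale b) :
    ∃ (U : Over S) (a : (yon S).obj U ⟶ X) (h : U ⟶ V) (hc : a ≫ f = (yon S).map h ≫ b),
      RepWith @Etale a ∧ RepWith @Etale (pullback.lift a ((yon S).map h) hc) ∧
      RepWith @Surjective (pullback.lift a ((yon S).map h) hc) := by
  have hQ : IsAlgSpace (pullback f b) :=
    Groth.Agent.S9874.isAlgSpace_of_isPullback hY.diag hX (IsAlgSpace.yon_obj V)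
      (IsPullback.of_hasPullback f b)
  obtain ⟨U, φ, hφe, hφs⟩ := hQ.atlas
  obtain ⟨h, hh⟩ := (yon S).map_surjective (φ ≫ pullback.snd f b)
  have hfe : RepWith @Etale (pullback.fst f b) :=
    MorphismProperty.of_isPullback (P := AlgSp.RepWith @Etale)
      (IsPullback.of_hasPullback f b).flip hb
  have hc : (φ ≫ pullback.fst f b) ≫ f = (yon S).map h ≫ b := by
    rw [Category.assoc, pullback.condition, ← Category.assoc, hh]
  have hlift : pullback.lift (φ ≫ pullback.fst f b) ((yon S).map h) hc = φ := by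
    apply pullback.hom_ext
    · rw [pullback.lift_fst]
    · rw [pullback.lift_snd, hh]
  refine ⟨U, φ ≫ pullback.fst f b, h, hc,
    (repWith_isMultiplicative (S := S) @Etale).comp_mem _ _ hφe hfe, ?_, ?_⟩
  · rw [hlift]; exact hφe
  · rw [hlift]; exact hφs

/-- Gorenstein at every point implies Gorenstein fibre spaces -/
theorem gor_fibre_space_of_gorAt {X Y : AlgSp.Sp S} (hX : IsAlgSpace X) (hY : IsAlgSpace Y)
    (f : X ⟶ Y) (HF : ChartFibLN f)
    (H : ∀ x : Points X, LocPAt (fun h u => Dual3.IsGorensteinAt h u) f x)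
    {V : Over S} (b : (yon S).obj V ⟶ Y) (hb : RepWith @Etale b) (v : V.left)
    {Xv : AlgSp.Sp S} (a' : Xv ⟶ X) (c : Xv ⟶ (yon S).obj (ptOver V v))
    (sq : IsPullback a' c f ((yon S).map (ptι V v) ≫ b)) :
    EtaleLocally Dual3.IsGorenstein Xv := by
  obtain ⟨U, a, h, hc, ha, hφe, hφs⟩ := exists_atlas_diagram_over hX hY f b hb
  obtain ⟨a'', ha''e⟩ := exists_fibre_chart @Etale f a b h hc hφe v a' c sq
  -- the same map is surjective
  have hP : IsPullback ((yon S).map (pullback.fst h (ptι V v)))
      ((yon S).map (pullback.snd h (ptι V v))) ((yon S).map h) ((yon S).map (ptι V v)) :=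
    (IsPullback.of_hasPullback h (ptι V v)).map (yon S)
  have hw : ((yon S).map (pullback.fst h (ptι V v)) ≫ a) ≫ f =
      ((yon S).map (pullback.snd h (ptι V v)) ≫ 𝟙 _) ≫ ((yon S).map (ptι V v) ≫ b) := by
    rw [Category.assoc, hc, Category.comp_id, ← Category.assoc, ← Category.assoc, hP.w]
  have h1 : sq.lift _ _ hw ≫ a' = (yon S).map (pullback.fst h (ptι V v)) ≫ a := sq.lift_fst _ _ _
  have h2 : sq.lift _ _ hw ≫ c = (yon S).map (pullback.snd h (ptι V v)) ≫ 𝟙 _ :=
    sq.lift_snd _ _ _
  have hae : RepWith @Etale (sq.lift _ _ hw) :=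
    repWith_chart_baseChange @Etale f ((yon S).map (ptι V v) ≫ b) a' c sq a b h hc hφe
      (𝟙 _) (ptι V v) (repWith_id _ _) (Category.id_comp _) _ h1 h2
  have has : RepWith @Surjective (sq.lift _ _ hw) :=
    repWith_chart_baseChange @Surjective f ((yon S).map (ptι V v) ≫ b) a' c sq a b h hc hφs
      (𝟙 _) (ptι V v) (repWith_id _ _) (Category.id_comp _) _ h1 h2
  refine ⟨pullback h (ptι V v), sq.lift _ _ hw, hae, has, ?_⟩
  haveI : IsLocallyNoetherian (h.left.fiber v) := HF a b h ha hb hc v
  refine isGorenstein_of_iso (fibreIso h v).symm ?_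
  rw [isGorenstein_fiber_iff]
  intro u _
  exact (H (Points.ofPt a u) a b h u ha hb hc rfl).2

/-- flat with Gorenstein fibre spaces over an atlas implies Gorenstein at every point -/
theorem gorAt_of_gor_fibre_space {X Y : AlgSp.Sp S} (hX : IsAlgSpace X) (hY : IsAlgSpace Y)
    (f : X ⟶ Y) (HF : ChartFibLN f) (hfl : LocP @Flat f)
    {V : Over S} (b : (yon S).obj V ⟶ Y) (hb : RepWith @Etale b) (hbs : RepWith @Surjective b)
    (HG : ∀ (v : V.left) (Xv : AlgSp.Sp S) (a' : Xv ⟶ X) (c : Xv ⟶ (yon S).obj (ptOver V v)),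
      IsPullback a' c f ((yon S).map (ptι V v) ≫ b) → EtaleLocally Dual3.IsGorenstein Xv)
    (x : Points X) : LocPAt (fun h u => Dual3.IsGorensteinAt h u) f x := by
  obtain ⟨U, a, h, hc, ha, hφe, hφs⟩ := exists_atlas_diagram_over hX hY f b hb
  have hfs : RepWith @Surjective (pullback.fst f b) :=
    MorphismProperty.of_isPullback (P := AlgSp.RepWith @Surjective)
      (IsPullback.of_hasPullback f b).flip hbs
  have has : RepWith @Surjective a := by
    have := (repWith_isMultiplicative (S := S) @Surjective).comp_mem _ _ hφs hfs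
    rwa [pullback.lift_fst] at this
  obtain ⟨u, hu⟩ := exists_atlas_point a has x
  refine (locPAt_gor_iff hX hY f HF a b h u ha hb hc hu).mpr ?_
  haveI : Flat h.left := hfl a b h ha hb hc
  refine ⟨Flat.stalkMap h.left u, ?_⟩
  have hGv := HG (h.left u) _ _ _ (IsPullback.of_hasPullback f ((yon S).map (ptι V (h.left u)) ≫ b))
  obtain ⟨a'', ha''e⟩ := exists_fibre_chart @Etale f a b h hc hφe (h.left u) _ _
    (IsPullback.of_hasPullback f ((yon S).map (ptι V (h.left u)) ≫ b))
  have hT : Dual3.IsGorenstein (pullback h (ptι V (h.left u))).left :=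
    isGorenstein_of_chart hGv a'' ha''e
  have hF : Dual3.IsGorenstein (h.left.fiber (h.left u)) :=
    isGorenstein_of_iso (fibreIso h (h.left u)) hT
  haveI : IsLocallyNoetherian (h.left.fiber (h.left u)) := hF.1
  exact (isGorenstein_fiber_iff h.left (h.left u)).mp hF u rfl

end Groth.Agent.Lib.Helper5.SpGorF
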