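import Mathlib
import Groth.Agent.Lib.Helper5SpGorF
import Groth.Agent.Lib.Helper12FieldBC
import Groth.Agent.Lib.Helper12Reduced
import Groth.Agent.Lib.Helper9SpPoint6

/-!
# Geometrically reduced fibres of morphisms of algebraic spaces: independence of the field point
(helper5)

* `RedOver f g`: every fibre product of `f` with `g : h_T ⟶ Y` is reduced;
* `redOver_of_flat_surjective`: `RedOver` descends along flat surjective morphisms `T' ⟶ T`;
* `GeomRedFib f k`: the fibre of `f` over the field point `k` is geometrically reduced;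
* `geomRedFib_of_rel`: geometric reducedness of the fibre only depends on the class of the field
  point.
-/

set_option autoImplicit false
set_option linter.style.haveILetI false
set_option backward.isDefEq.respectTransparency false
universe u
open CategoryTheory CategoryTheory.Limits AlgebraicGeometry Opposite

namespace Groth.Agent.Lib.Helper5.SpGRA

open AlgSp Groth.Agent.Lib.Helper9.SpPoint

variable {S : Scheme.{u}}

/-- every fibre product of `f` with `g` is reduced (etale locally) -/
def RedOver {X Y : Sp S} (f : X ⟶ Y) {T : Over S} (g : (yon S).obj T ⟶ Y) : Prop :=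
  ∀ (P : Sp S) (a : P ⟶ X) (b : P ⟶ (yon S).obj T), IsPullback a b f g →
    EtaleLocally (fun U => IsReduced U) P

/-- `Spec` of a homomorphism of fields is flat -/
theorem flat_Spec_map_field {K L : Type u} [Field K] [Field L] (φ : K →+* L) :
    Flat (Spec.map (CommRingCat.ofHom φ)) := by
  rw [HasRingHomProperty.Spec_iff (P := @Flat)]
  letI := φ.toAlgebra
  show Module.Flat K L
  infer_instance

/-- `Spec` of a homomorphism of fields is surjective -/
theorem surjective_Spec_map_field {K L : Type u} [Field K] [Field L] (φ : K →+* L) :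
    Surjective (Spec.map (CommRingCat.ofHom φ)) :=
  ⟨fun _ => ⟨IsLocalRing.closedPoint L, Subsingleton.elim (α := PrimeSpectrum K) _ _⟩⟩

/-- reducedness of the fibre products descends along flat surjective morphisms -/
theorem redOver_of_flat_surjective {X Y : Sp S} (hX : IsAlgSpace X) (hY : IsAlgSpace Y)
    (f : X ⟶ Y) {T T' : Over S} (g : (yon S).obj T ⟶ Y) (j : T' ⟶ T) (hjf : Flat j.left)
    (hjs : Surjective j.left) (H : RedOver f ((yon S).map j ≫ g)) : RedOver f g := by
  intro P a b sq
  have hP : IsAlgSpace P :=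
    Groth.Agent.S9874.isAlgSpace_of_isPullback hY.diag hX (IsAlgSpace.yon_obj T) sq
  obtain ⟨W, c, hce, hcs⟩ := hP.atlas
  obtain ⟨w, hw⟩ := (yon S).map_surjective (c ≫ b)
  have hred := H (pullback f ((yon S).map j ≫ g)) (pullback.fst _ _) (pullback.snd _ _)
    (IsPullback.of_hasPullback _ _)
  have hπw : pullback.fst f ((yon S).map j ≫ g) ≫ f =
      (pullback.snd f ((yon S).map j ≫ g) ≫ (yon S).map j) ≫ g := by
    rw [pullback.condition, Category.assoc]
  obtain ⟨π, hπdef⟩ : ∃ π : pullback f ((yon S).map j ≫ g) ⟶ P, π = sq.lift _ _ hπw := ⟨_, rfl⟩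
  have hπ1 : π ≫ a = pullback.fst _ _ := by rw [hπdef, sq.lift_fst]
  have hπ2 : π ≫ b = pullback.snd _ _ ≫ (yon S).map j := by rw [hπdef, sq.lift_snd]
  have hleft : IsPullback π (pullback.snd f ((yon S).map j ≫ g)) b ((yon S).map j) := by
    refine IsPullback.of_right ?_ hπ2 sq
    rw [hπ1]
    exact IsPullback.of_hasPullback _ _
  have hWP : IsPullback ((yon S).map (pullback.fst w j)) ((yon S).map (pullback.snd w j))
      ((yon S).map w) ((yon S).map j) := (IsPullback.of_hasPullback w j).map (yon S)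
  have hcw : ((yon S).map (pullback.fst w j) ≫ c) ≫ b =
      (yon S).map (pullback.snd w j) ≫ (yon S).map j := by
    rw [Category.assoc, ← hw, hWP.w]
  obtain ⟨c', hc'def⟩ : ∃ c' : (yon S).obj (pullback w j) ⟶ pullback f ((yon S).map j ≫ g),
      c' = hleft.lift _ _ hcw := ⟨_, rfl⟩
  have hc'1 : c' ≫ π = (yon S).map (pullback.fst w j) ≫ c := by rw [hc'def, hleft.lift_fst]
  have hc'2 : c' ≫ pullback.snd f ((yon S).map j ≫ g) = (yon S).map (pullback.snd w j) := by
    rw [hc'def, hleft.lift_snd]
  have hsqc : IsPullback c' ((yon S).map (pullback.fst w j)) π c := by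
    refine IsPullback.of_right ?_ hc'1 hleft.flip
    rw [hc'2, ← hw]
    exact hWP.flip
  have hc'e : RepWith @Etale c' :=
    MorphismProperty.of_isPullback (P := AlgSp.RepWith @Etale) hsqc.flip hce
  haveI hW' : IsReduced (pullback w j).left :=
    Groth.Agent.Lib.Helper12.FieldBC.isReduced_of_chart hred c' hc'e
  have hsch : IsPullback (pullback.snd w j).left (pullback.fst w j).left j.left w.left :=
    ((IsPullback.of_hasPullback w j).map (Over.forget S)).flip
  haveI : Flat (pullback.fst w j).left :=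
    MorphismProperty.of_isPullback (P := @Flat) hsch hjf
  haveI : Surjective (pullback.fst w j).left :=
    MorphismProperty.of_isPullback (P := @Surjective) hsch hjs
  have hWred : IsReduced W.left :=
    Groth.Agent.Lib.Helper12.Reduced.isReduced_of_flat_of_surjective (pullback.fst w j).left
  exact ⟨W, c, hce, hcs, hWred⟩

/-- the fibre of `f` over the field point `k` is geometrically reduced: all its base changes to
field extensions are reduced -/
def GeomRedFib {X Y : Sp S} (f : X ⟶ Y) (k : FieldPt Y) : Prop :=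
  ∀ (k' : Type u) [Field k'] (φ : k.K →+* k'),
    RedOver f ((yon S).map (Over.homMk (Spec.map (CommRingCat.ofHom φ)) rfl :
      Over.mk (Spec.map (CommRingCat.ofHom φ) ≫ k.str) ⟶ k.pt) ≫ k.toHom)

/-- a geometrically reduced fibre is reduced over every field mapping to the field point -/
theorem GeomRedFib.redOver {X Y : Sp S} (hX : IsAlgSpace X) (hY : IsAlgSpace Y) (f : X ⟶ Y)
    {k : FieldPt Y} (H : GeomRedFib f k) {K' : Type u} [Field K']
    {w' : Spec (CommRingCat.of K') ⟶ S} (j : Over.mk w' ⟶ k.pt) :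
    RedOver f ((yon S).map j ≫ k.toHom) := by
  obtain ⟨ψ, hψ⟩ : ∃ ψ : k.K →+* K', Spec.map (CommRingCat.ofHom ψ) = j.left :=
    ⟨(Spec.preimage j.left).hom, by rw [CommRingCat.ofHom_hom, Spec.map_preimage]⟩
  have hw' : w' = Spec.map (CommRingCat.ofHom ψ) ≫ k.str := by
    rw [hψ]
    exact (Over.w j).symm
  let e : Over.mk (Spec.map (CommRingCat.ofHom ψ) ≫ k.str) ⟶ Over.mk w' :=
    Over.homMk (𝟙 _) (by simp [hw'])
  have he : e ≫ j = (Over.homMk (Spec.map (CommRingCat.ofHom ψ)) rfl :
      Over.mk (Spec.map (CommRingCat.ofHom ψ) ≫ k.str) ⟶ k.pt) := by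
    apply Over.OverMorphism.ext
    simp [e, hψ]
  have h1 := H K' ψ
  rw [← he, Functor.map_comp, Category.assoc] at h1
  have hfl : Flat e.left := by
    show Flat (𝟙 _)
    infer_instance
  have hsu : Surjective e.left := by
    show Surjective (𝟙 _)
    infer_instance
  exact redOver_of_flat_surjective hX hY f _ e hfl hsu h1

/-- geometric reducedness of the fibre only depends on the class of the field point -/
theorem geomRedFib_of_rel {X Y : Sp S} (hX : IsAlgSpace X) (hY : IsAlgSpace Y) (f : X ⟶ Y)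
    {k k₁ : FieldPt Y} (hr : FieldPt.Rel k k₁) (H : GeomRedFib f k) : GeomRedFib f k₁ := by
  intro k' _ φ
  obtain ⟨Ω, hΩ, w, α, β, hαβ⟩ := rel_toHom hr
  letI : Field Ω := hΩ
  obtain ⟨ψβ, hψβ⟩ : ∃ ψ : k₁.K →+* Ω, Spec.map (CommRingCat.ofHom ψ) = β.left :=
    ⟨(Spec.preimage β.left).hom, by rw [CommRingCat.ofHom_hom, Spec.map_preimage]⟩
  obtain ⟨Ω', hΩ', i₁, i₂, hi⟩ := FieldPt.exists_amalgamation φ ψβ
  letI : Field Ω' := hΩ'
  have hL : Spec.map (CommRingCat.ofHom i₁) ≫ Spec.map (CommRingCat.ofHom φ) =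
      Spec.map (CommRingCat.ofHom i₂) ≫ β.left := by
    rw [← hψβ, ← Spec.map_comp, ← Spec.map_comp]
    congr 1
    exact CommRingCat.hom_ext hi
  have hwβ : β.left ≫ k₁.str = w := Over.w β
  let T₁ : Over S := Over.mk (Spec.map (CommRingCat.ofHom φ) ≫ k₁.str)
  let j₁ : T₁ ⟶ k₁.pt := Over.homMk (Spec.map (CommRingCat.ofHom φ)) rfl
  let T₂ : Over S := Over.mk (Spec.map (CommRingCat.ofHom i₁) ≫ T₁.hom)
  let d₁ : T₂ ⟶ T₁ := Over.homMk (Spec.map (CommRingCat.ofHom i₁)) rfl
  have hd₂w : Spec.map (CommRingCat.ofHom i₂) ≫ w = T₂.hom := by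
    show _ = Spec.map (CommRingCat.ofHom i₁) ≫ Spec.map (CommRingCat.ofHom φ) ≫ k₁.str
    rw [← hwβ, ← Category.assoc, ← Category.assoc, hL]
  let d₂ : T₂ ⟶ Over.mk w := Over.homMk (Spec.map (CommRingCat.ofHom i₂)) hd₂w
  have hd : d₁ ≫ j₁ = d₂ ≫ β := by
    apply Over.OverMorphism.ext
    simpa [d₁, d₂, j₁] using hL
  have h1 : RedOver f ((yon S).map (d₂ ≫ α) ≫ k.toHom) :=
    GeomRedFib.redOver hX hY f H (K' := Ω') (d₂ ≫ α)
  have h2 : (yon S).map (d₂ ≫ α) ≫ k.toHom = (yon S).map d₁ ≫ ((yon S).map j₁ ≫ k₁.toHom) := by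
    rw [Functor.map_comp, Category.assoc, hαβ, ← Category.assoc, ← Functor.map_comp, ← hd,
      Functor.map_comp, Category.assoc]
  rw [h2] at h1
  have hfl : Flat d₁.left := flat_Spec_map_field i₁
  have hsu : Surjective d₁.left := surjective_Spec_map_field i₁
  exact redOver_of_flat_surjective hX hY f _ d₁ hfl hsu h1

end Groth.Agent.Lib.Helper5.SpGRA
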