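import Mathlib
import Groth.Agent.Lib.Helper5SpGRA

/-!
# Geometrically reduced fibres of morphisms of algebraic spaces: comparison with chart diagrams
(helper5)

* `redOver_chart_iff`: for a chart diagram `(a, b, h)` of `f` with `U ⟶ X ×_Y V` etale surjective
  and `j : T ⟶ V`, the fibre products of `f` with `h_T ⟶ h_V ⟶ Y` are reduced iff the scheme
  `U ×_V T` is reduced;
* `geomRedFib_ofPt_iff`: the fibre of `f` over the field point of a point `v` of `V` is
  geometrically reduced iff the fibre of `h` over `v` is.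
-/

set_option autoImplicit false
set_option linter.style.haveILetI false
set_option backward.isDefEq.respectTransparency false
universe u
open CategoryTheory CategoryTheory.Limits AlgebraicGeometry Opposite

namespace Groth.Agent.Lib.Helper5.SpGRB

open AlgSp Groth.Agent.Lib.Helper9.SpPoint Groth.Agent.Lib.Helper5.SpGRA
  Groth.Agent.Lib.Helper5.SpGorC Groth.Agent.Lib.Helper5.SpGorF

variable {S : Scheme.{u}}

theorem redOver_chart_iff {X Y : Sp S} (f : X ⟶ Y) {U V : Over S}
    (a : (yon S).obj U ⟶ X) (b : (yon S).obj V ⟶ Y) (h : U ⟶ V)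
    (hc : a ≫ f = (yon S).map h ≫ b)
    (hφe : RepWith @Etale (pullback.lift a ((yon S).map h) hc))
    (hφs : RepWith @Surjective (pullback.lift a ((yon S).map h) hc))
    {T : Over S} (j : T ⟶ V) :
    RedOver f ((yon S).map j ≫ b) ↔ IsReduced (pullback h j).left := by
  have hP : IsPullback ((yon S).map (pullback.fst h j)) ((yon S).map (pullback.snd h j))
      ((yon S).map h) ((yon S).map j) := (IsPullback.of_hasPullback h j).map (yon S)
  have hw : ((yon S).map (pullback.fst h j) ≫ a) ≫ f =
      ((yon S).map (pullback.snd h j) ≫ 𝟙 _) ≫ ((yon S).map j ≫ b) := by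
    rw [Category.assoc, hc, Category.comp_id, ← Category.assoc, ← Category.assoc, hP.w]
  have key : ∀ (P : Sp S) (a' : P ⟶ X) (c : P ⟶ (yon S).obj T)
      (sq : IsPullback a' c f ((yon S).map j ≫ b)),
      ∃ a'' : (yon S).obj (pullback h j) ⟶ P, RepWith @Etale a'' ∧ RepWith @Surjective a'' := by
    intro P a' c sq
    obtain ⟨a'', ha''⟩ : ∃ a'' : (yon S).obj (pullback h j) ⟶ P, a'' = sq.lift _ _ hw := ⟨_, rfl⟩
    have h1 : a'' ≫ a' = (yon S).map (pullback.fst h j) ≫ a := by rw [ha'', sq.lift_fst]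
    have h2 : a'' ≫ c = (yon S).map (pullback.snd h j) ≫ 𝟙 _ := by rw [ha'', sq.lift_snd]
    exact ⟨a'', repWith_chart_baseChange @Etale f ((yon S).map j ≫ b) a' c sq a b h hc hφe
        (𝟙 _) j (repWith_id @Etale _) (Category.id_comp _) a'' h1 h2,
      repWith_chart_baseChange @Surjective f ((yon S).map j ≫ b) a' c sq a b h hc hφs
        (𝟙 _) j (repWith_id @Surjective _) (Category.id_comp _) a'' h1 h2⟩
  constructor
  · intro H
    obtain ⟨a'', hae, -⟩ := key _ _ _ (IsPullback.of_hasPullback f ((yon S).map j ≫ b))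
    exact Groth.Agent.Lib.Helper12.FieldBC.isReduced_of_chart
      (H _ _ _ (IsPullback.of_hasPullback f ((yon S).map j ≫ b))) a'' hae
  · intro hred P a' c sq
    obtain ⟨a'', hae, has⟩ := key P a' c sq
    exact ⟨pullback h j, a'', hae, has, hred⟩

/-- the scheme underlying `U ×_V T` for `T ⟶ Spec κ(v) ⟶ V` is the base change of the fibre -/
noncomputable def fibreBcIso {U V T : Over S} (h : U ⟶ V) (v : V.left) (jT : T ⟶ ptOver V v) :
    (pullback h (jT ≫ ptι V v)).left ≅
      pullback (h.left.fiberToSpecResidueField v) jT.left :=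
  (((IsPullback.of_hasPullback h (jT ≫ ptι V v)).map (Over.forget S)).isoPullback :
    (pullback h (jT ≫ ptι V v)).left ≅ pullback h.left (jT ≫ ptι V v).left) ≪≫
  (pullbackLeftPullbackSndIso h.left (V.left.fromSpecResidueField v) jT.left).symm

theorem isReduced_of_iso {A B : Scheme.{u}} (e : A ≅ B) [IsReduced A] : IsReduced B :=
  isReduced_of_isOpenImmersion e.inv

theorem geomRedFib_ofPt_iff {X Y : Sp S} (f : X ⟶ Y) {U V : Over S}
    (a : (yon S).obj U ⟶ X) (b : (yon S).obj V ⟶ Y) (h : U ⟶ V)
    (hc : a ≫ f = (yon S).map h ≫ b)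
    (hφe : RepWith @Etale (pullback.lift a ((yon S).map h) hc))
    (hφs : RepWith @Surjective (pullback.lift a ((yon S).map h) hc)) (v : V.left) :
    GeomRedFib f (FieldPt.ofPt b v) ↔
      GeometricallyReduced (h.left.fiberToSpecResidueField v) := by
  have hcore : ∀ (k' : Type u) [Field k'] (φ : (FieldPt.ofPt b v).K →+* k'),
      RedOver f ((yon S).map (Over.homMk (Spec.map (CommRingCat.ofHom φ)) rfl :
        Over.mk (Spec.map (CommRingCat.ofHom φ) ≫ (FieldPt.ofPt b v).str) ⟶
          (FieldPt.ofPt b v).pt) ≫ (FieldPt.ofPt b v).toHom) ↔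
      IsReduced (pullback (h.left.fiberToSpecResidueField v)
        (Spec.map (CommRingCat.ofHom φ))) := by
    intro k' _ φ
    let jT : Over.mk (Spec.map (CommRingCat.ofHom φ) ≫ (FieldPt.ofPt b v).str) ⟶ ptOver V v :=
      Over.homMk (Spec.map (CommRingCat.ofHom φ)) rfl
    have e1 : (yon S).map (Over.homMk (Spec.map (CommRingCat.ofHom φ)) rfl :
        Over.mk (Spec.map (CommRingCat.ofHom φ) ≫ (FieldPt.ofPt b v).str) ⟶
          (FieldPt.ofPt b v).pt) ≫ (FieldPt.ofPt b v).toHom =
        (yon S).map (jT ≫ ptι V v) ≫ b := by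
      rw [FieldPt.toHom_ofPt, ← Category.assoc, ← Functor.map_comp]
    rw [e1, redOver_chart_iff f a b h hc hφe hφs (jT ≫ ptι V v)]
    constructor
    · intro hr
      exact isReduced_of_iso (fibreBcIso h v jT)
    · intro hr
      haveI : IsReduced (pullback (h.left.fiberToSpecResidueField v) jT.left) := hr
      exact isReduced_of_iso (fibreBcIso h v jT).symm
  constructor
  · intro H
    rw [geometricallyReduced_iff, geometrically_iff_of_isClosedUnderIsomorphisms]
    intro K _ y
    obtain ⟨ψ, hψ⟩ : ∃ ψ : (FieldPt.ofPt b v).K →+* K, Spec.map (CommRingCat.ofHom ψ) = y :=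
      ⟨(Spec.preimage y).hom, by rw [CommRingCat.ofHom_hom, Spec.map_preimage]⟩
    rw [← hψ]
    exact (hcore K ψ).1 (H K ψ)
  · intro H k' _ φ
    rw [hcore k' φ]
    exact pullback_of_geometrically H.geometrically_isReduced k' _

end Groth.Agent.Lib.Helper5.SpGRB
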