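import Mathlib
import Groth.Agent.Lib.Helper5SpGRB
import Groth.Agent.Lib.Helper22ValRedC
import Groth.Agent.Lib.Helper9ChartIndepAt
import Groth.Agent.Lib.Helper12GeomRed

/-!
# Proper flat algebraic spaces over a discrete valuation ring with reduced special fibre (helper5)

* `etInv_isReduced_stalk`: reducedness of the local ring is invariant under etale morphisms;
* `isOpenImmersion_genPt`: the generic point of a discrete valuation ring is open;
* `isReduced_fiber_closedPoint`: the closed fibre is reduced if the base change to the residue
  field of the local ring is;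
* `main10669`: the total space and the generic fibre are reduced.
-/

set_option autoImplicit false
set_option linter.style.haveILetI false
set_option backward.isDefEq.respectTransparency false
universe u
open CategoryTheory CategoryTheory.Limits AlgebraicGeometry Opposite IsLocalRing

namespace Groth.Agent.Lib.Helper5.SpDvrRed

open AlgSp Groth.Agent.Lib.Helper9.SpPoint Groth.Agent.Lib.Helper9.ChartIndepAt
  Groth.Agent.Lib.Helper5.SpGRA Groth.Agent.Lib.Helper5.SpGRB

/-- reducedness of the local ring is invariant under etale morphisms -/
theorem etInv_isReduced_stalk :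
    EtInv.{u} (fun (U : Scheme.{u}) (u : U) => _root_.IsReduced (U.presheaf.stalk u)) := by
  intro U U' e he u'
  haveI := he
  apply propext
  constructor
  · intro h
    exact Groth.Agent.Lib.Helper12.GeomRed.isReduced_stalk_of_smooth e u' h
  · intro h
    exact Groth.Agent.Lib.Helper12.GeomRed.isReduced_stalk_of_flat e u' h

theorem away_of_dvr (R : Type u) [CommRing R] [IsDomain R] [IsDiscreteValuationRing R] {ϖ : R}
    (hϖ : Irreducible ϖ) : IsLocalization.Away ϖ (FractionRing R) := by
  haveI h1 : IsLocalization (nonZeroDivisors R) (Localization.Away ϖ) := by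
    refine IsLocalization.of_le_of_exists_dvd (Submonoid.powers ϖ) (nonZeroDivisors R) ?_ ?_
    · rw [Submonoid.powers_le]
      exact mem_nonZeroDivisors_of_ne_zero hϖ.ne_zero
    · intro n hn
      have hn0 : n ≠ 0 := nonZeroDivisors.ne_zero hn
      obtain ⟨a, v, hv⟩ := IsDiscreteValuationRing.eq_unit_mul_pow_irreducible hn0 hϖ
      refine ⟨ϖ ^ a, ⟨a, rfl⟩, ?_⟩
      rw [hv]
      exact ⟨(↑v⁻¹ : R), by rw [mul_comm (↑v) (ϖ ^ a), mul_assoc, Units.mul_inv, mul_one]⟩
  let e : Localization.Away ϖ ≃ₐ[R] FractionRing R :=
    IsLocalization.algEquiv (nonZeroDivisors R) _ _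
  exact IsLocalization.isLocalization_of_algEquiv (Submonoid.powers ϖ) e

/-- the generic point of a discrete valuation ring is open -/
theorem isOpenImmersion_genPt (R : Type u) [CommRing R] [IsDomain R] [IsDiscreteValuationRing R] :
    IsOpenImmersion (Spec.map (CommRingCat.ofHom (algebraMap R (FractionRing R)))) := by
  obtain ⟨ϖ, hϖ⟩ := IsDiscreteValuationRing.exists_irreducible R
  haveI := away_of_dvr R hϖ
  exact IsOpenImmersion.of_isLocalization (R := R) (S := FractionRing R) ϖ

/-- the closed fibre is reduced if the base change to the residue field of the local ring is -/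
theorem isReduced_fiber_closedPoint {R : Type u} [CommRing R] [IsLocalRing R] {U : Scheme.{u}}
    (f : U ⟶ Spec (CommRingCat.of R))
    (h : IsReduced (pullback f (Spec.map (CommRingCat.ofHom (residue R))))) :
    IsReduced (f.fiber (closedPoint R)) := by
  obtain ⟨⟨t, ψ⟩, hy⟩ := (Scheme.SpecToEquivOfField (ResidueField R)
    (Spec (CommRingCat.of R))).symm.surjective (Spec.map (CommRingCat.ofHom (residue R)))
  have hy' : Spec.map ψ ≫ (Spec (CommRingCat.of R)).fromSpecResidueField t =
      Spec.map (CommRingCat.ofHom (residue R)) := hy
  have ht : t = closedPoint R := by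
    have h1 : (Spec.map ψ ≫ (Spec (CommRingCat.of R)).fromSpecResidueField t)
        (closedPoint (ResidueField R)) = t := by
      rw [Scheme.Hom.comp_apply, Scheme.fromSpecResidueField_apply]
    rw [hy'] at h1
    rw [← h1]
    apply PrimeSpectrum.ext
    show Ideal.comap (residue R) (maximalIdeal (ResidueField R)) = maximalIdeal R
    rw [IsLocalRing.maximalIdeal_eq_bot, ← RingHom.ker_eq_comap_bot, IsLocalRing.ker_residue]
  subst ht
  rw [← hy'] at h
  haveI := h
  let E := pullbackLeftPullbackSndIso f
    ((Spec (CommRingCat.of R)).fromSpecResidueField (closedPoint R)) (Spec.map ψ)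
  haveI : IsReduced (pullback (pullback.snd f
      ((Spec (CommRingCat.of R)).fromSpecResidueField (closedPoint R))) (Spec.map ψ)) :=
    isReduced_of_iso E.symm
  have hfl : Flat (Spec.map ψ) := by
    have := flat_Spec_map_field ψ.hom
    rwa [CommRingCat.ofHom_hom] at this
  have hsu : Surjective (Spec.map ψ) := by
    have := surjective_Spec_map_field ψ.hom
    rwa [CommRingCat.ofHom_hom] at this
  haveI : Flat (pullback.fst (pullback.snd f
      ((Spec (CommRingCat.of R)).fromSpecResidueField (closedPoint R))) (Spec.map ψ)) :=
    MorphismProperty.pullback_fst (P := @Flat) _ _ hfl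
  haveI : Surjective (pullback.fst (pullback.snd f
      ((Spec (CommRingCat.of R)).fromSpecResidueField (closedPoint R))) (Spec.map ψ)) :=
    MorphismProperty.pullback_fst (P := @Surjective) _ _ hsu
  exact Groth.Agent.Lib.Helper12.Reduced.isReduced_of_flat_of_surjective
    (pullback.fst (pullback.snd f
      ((Spec (CommRingCat.of R)).fromSpecResidueField (closedPoint R))) (Spec.map ψ))

end Groth.Agent.Lib.Helper5.SpDvrRed
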