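import Mathlib
import Groth.Agent.Lib.Helper5SpDvrRed

/-!
# Proper flat algebraic spaces over a discrete valuation ring with reduced special fibre: the
main theorem (helper5)
-/

set_option autoImplicit false
set_option linter.style.haveILetI false
set_option backward.isDefEq.respectTransparency false
universe u
open CategoryTheory CategoryTheory.Limits AlgebraicGeometry Opposite IsLocalRing

namespace Groth.Agent.Lib.Helper5.SpDvrRed

open AlgSp Groth.Agent.Lib.Helper9.SpPoint Groth.Agent.Lib.Helper9.ChartIndepAt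
  Groth.Agent.Lib.Helper5.SpGRA Groth.Agent.Lib.Helper5.SpGRB

theorem main10669 (R : Type u) [CommRing R] [IsDomain R] [IsDiscreteValuationRing R]
    {X : AlgSp.Space (Spec (CommRingCat.of R))}
    (s : X.obj ⟶ (AlgSp.yon (Spec (CommRingCat.of R))).obj (Over.mk (𝟙 _)))
    (hs1 : AlgSp.IsProperMor s) (hs2 : AlgSp.LocP @Flat s)
    (h0 : RedOver s ((AlgSp.yon (Spec (CommRingCat.of R))).map
      (Over.homMk (Spec.map (CommRingCat.ofHom (IsLocalRing.residue R))) (Category.comp_id _) :
        Over.mk (Spec.map (CommRingCat.ofHom (IsLocalRing.residue R))) ⟶ Over.mk (𝟙 _)))) :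
    AlgSp.EtaleLocally (fun U => IsReduced U) X.obj ∧
      RedOver s ((AlgSp.yon (Spec (CommRingCat.of R))).map
        (Over.homMk (Spec.map (CommRingCat.ofHom (algebraMap R (FractionRing R))))
          (Category.comp_id _) :
          Over.mk (Spec.map (CommRingCat.ofHom (algebraMap R (FractionRing R)))) ⟶
            Over.mk (𝟙 _))) := by
  obtain ⟨U, a, hae, has⟩ := X.property.atlas
  have hpt : IsTerminal ((AlgSp.yon (Spec (CommRingCat.of R))).obj (Over.mk (𝟙 _))) :=
    IsTerminal.isTerminalObj (AlgSp.yon _) _ Over.mkIdTerminal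
  let hU : U ⟶ Over.mk (𝟙 (Spec (CommRingCat.of R))) := Over.homMk U.hom (Category.comp_id _)
  have hc : a ≫ s = (AlgSp.yon _).map hU ≫ 𝟙 _ := hpt.hom_ext _ _
  have hφe : RepWith @Etale (pullback.lift a ((AlgSp.yon _).map hU) hc) := by
    rw [← MorphismProperty.cancel_right_of_respectsIso (RepWith @Etale) _
      (pullback.fst s (𝟙 _)), pullback.lift_fst]
    exact hae
  have hφs : RepWith @Surjective (pullback.lift a ((AlgSp.yon _).map hU) hc) := by
    rw [← MorphismProperty.cancel_right_of_respectsIso (RepWith @Surjective) _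
      (pullback.fst s (𝟙 _)), pullback.lift_fst]
    exact has
  have key : ∀ {T : Over (Spec (CommRingCat.of R))} (j : T ⟶ Over.mk (𝟙 _)),
      RedOver s ((AlgSp.yon _).map j) ↔ IsReduced (pullback hU j).left := by
    intro T j
    have := redOver_chart_iff s a (𝟙 _) hU hc hφe hφs j
    rwa [Category.comp_id] at this
  have e1 : ∀ {T : Over (Spec (CommRingCat.of R))} (j : T ⟶ Over.mk (𝟙 _)),
      (pullback hU j).left ≅ pullback U.hom j.left := fun j =>
    ((IsPullback.of_hasPullback hU j).map (Over.forget _)).isoPullback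
  -- the special fibre of the chart
  haveI h1 : IsReduced (pullback hU (Over.homMk (Spec.map (CommRingCat.ofHom
      (IsLocalRing.residue R))) (Category.comp_id _) :
        Over.mk (Spec.map (CommRingCat.ofHom (IsLocalRing.residue R))) ⟶ Over.mk (𝟙 _))).left :=
    (key _).1 h0
  have h2 : IsReduced (pullback U.hom (Spec.map (CommRingCat.ofHom (IsLocalRing.residue R)))) :=
    isReduced_of_iso (e1 (Over.homMk (Spec.map (CommRingCat.ofHom
      (IsLocalRing.residue R))) (Category.comp_id _) :
        Over.mk (Spec.map (CommRingCat.ofHom (IsLocalRing.residue R))) ⟶ Over.mk (𝟙 _)))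
  have hfib : IsReduced (U.hom.fiber (closedPoint R)) := isReduced_fiber_closedPoint U.hom h2
  haveI : Flat U.hom := hs2 a (𝟙 _) hU hae (repWith_id @Etale _) hc
  haveI : LocallyOfFiniteType U.hom := hs1.2.1.1 a (𝟙 _) hU hae (repWith_id @Etale _) hc
  -- all local rings of the chart are reduced
  have hall : ∀ u₀ : U.left, _root_.IsReduced (U.left.presheaf.stalk u₀) := by
    intro u₀
    obtain ⟨-, -, huc⟩ := hs1
    have hclosed : IsClosedMap (Points.map s) :=
      huc (IsAlgSpace.yon_obj _) (𝟙 _) (𝟙 _) s (IsPullback.of_horiz_isIso ⟨by simp⟩)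
    have hcl := hclosed _ (isClosed_closure (s := {Points.ofPt a u₀}))
    have hmem : Points.map s (Points.ofPt a u₀) ∈
        Points.map s '' closure {Points.ofPt a u₀} := ⟨_, subset_closure rfl, rfl⟩
    have hsp : Points.map s (Points.ofPt a u₀) ⤳
        Points.schemeHomeo (Over.mk (𝟙 (Spec (CommRingCat.of R)))) (closedPoint R) := by
      have h3 : (Points.schemeHomeo (Over.mk (𝟙 (Spec (CommRingCat.of R))))).symm
          (Points.map s (Points.ofPt a u₀)) ⤳ closedPoint R :=
        IsLocalRing.specializes_closedPoint _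
      have h4 := h3.map (Points.schemeHomeo (Over.mk (𝟙 (Spec (CommRingCat.of R))))).continuous
      rwa [Homeomorph.apply_symm_apply] at h4
    obtain ⟨x₁, hx₁, hx₁s⟩ := hsp.mem_closed hcl hmem
    obtain ⟨u₁, hu₁⟩ := Groth.Agent.S10177.surjective_ofPt a has x₁
    have hu₁cp : U.hom u₁ = closedPoint R := by
      have h4 : Points.map s (Points.ofPt a u₁) = Points.ofPt ((AlgSp.yon _).map hU) u₁ := by
        rw [Points.map_ofPt, hc, Category.comp_id]
      rw [hu₁, hx₁s] at h4
      have h5 := congrArg (Points.toScheme (Over.mk (𝟙 (Spec (CommRingCat.of R))))) h4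
      rw [Points.toScheme_ofPt] at h5
      have h6 : Points.toScheme (Over.mk (𝟙 (Spec (CommRingCat.of R))))
          (Points.schemeHomeo (Over.mk (𝟙 (Spec (CommRingCat.of R)))) (closedPoint R)) =
          closedPoint R := Points.toScheme_ofScheme _ _
      rw [h6] at h5
      exact h5.symm
    obtain ⟨V, hV, hu₁V, hrad⟩ :=
      Groth.Agent.Lib.Helper22.ValRed.exists_affine_isRadical_of_closedPoint U.hom hfib
        (⊥ : Ideal R) u₁ hu₁cp
    rw [Ideal.map_bot] at hrad
    haveI hVred : _root_.IsReduced Γ(U.left, V) := Ideal.isRadical_bot_iff.mp hrad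
    haveI : IsAffine V.toScheme := hV
    haveI : _root_.IsReduced Γ(V.toScheme, ⊤) :=
      isReduced_of_injective V.topIso.hom.hom
        (ConcreteCategory.bijective_of_isIso V.topIso.hom).1
    haveI : IsReduced V.toScheme := isReduced_of_isAffine_isReduced _
    have hopen : IsOpen (Points.ofPt a '' (V : Set U.left)) :=
      isOpenMap_ofPt (EtOver.mk a hae) _ V.isOpen
    have hx₁V : x₁ ∈ Points.ofPt a '' (V : Set U.left) := ⟨u₁, hu₁V, hu₁⟩
    have hx₀V : Points.ofPt a u₀ ∈ Points.ofPt a '' (V : Set U.left) := by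
      by_contra hne
      have hsub : closure {Points.ofPt a u₀} ⊆ (Points.ofPt a '' (V : Set U.left))ᶜ :=
        closure_minimal (by simpa using hne) hopen.isClosed_compl
      exact hsub hx₁ hx₁V
    obtain ⟨u₂, hu₂V, hu₂⟩ := hx₀V
    have h7 := chart_indep_at (fun (U : Scheme.{u}) (u : U) => _root_.IsReduced (U.presheaf.stalk u))
      etInv_isReduced_stalk a u₂ hae a u₀ hae hu₂
    have h8 : _root_.IsReduced (U.left.presheaf.stalk (V.ι ⟨u₂, hu₂V⟩)) := by
      have h8' := etInv_isReduced_stalk V.ι inferInstance ⟨u₂, hu₂V⟩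
      exact Eq.mpr h8' inferInstance
    exact Eq.mp h7 h8
  haveI hUred : IsReduced U.left := by
    haveI := hall
    exact isReduced_of_isReduced_stalk _
  refine ⟨⟨U, a, hae, has, hUred⟩, ?_⟩
  rw [key]
  haveI := isOpenImmersion_genPt R
  haveI : IsReduced (pullback U.hom (Spec.map (CommRingCat.ofHom
      (algebraMap R (FractionRing R))))) :=
    isReduced_of_isOpenImmersion (pullback.fst U.hom _)
  haveI : IsReduced (pullback U.hom (Over.homMk (Spec.map (CommRingCat.ofHom
      (algebraMap R (FractionRing R)))) (Category.comp_id _) :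
      Over.mk (Spec.map (CommRingCat.ofHom (algebraMap R (FractionRing R)))) ⟶
        Over.mk (𝟙 (Spec (CommRingCat.of R)))).left) := by
    show IsReduced (pullback U.hom (Spec.map (CommRingCat.ofHom
      (algebraMap R (FractionRing R)))))
    infer_instance
  exact isReduced_of_iso (e1 (Over.homMk (Spec.map (CommRingCat.ofHom
    (algebraMap R (FractionRing R)))) (Category.comp_id _) :
      Over.mk (Spec.map (CommRingCat.ofHom (algebraMap R (FractionRing R)))) ⟶
        Over.mk (𝟙 _))).symm

end Groth.Agent.Lib.Helper5.SpDvrRed
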