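import Mathlib
import Groth.Agent.S0404
import Groth.Agent.Lib.Helper4FibDimG
import Groth.Agent.Lib.Helper3FibDimEt

/-!
# Lower semicontinuity of the fibre dimension for flat lfp morphisms of schemes (no qc hypothesis)
(helper5)
-/

set_option autoImplicit false
universe u
open CategoryTheory CategoryTheory.Limits AlgebraicGeometry

namespace Groth.Agent.Lib.Helper5.SpFibLscA

open Groth.Agent.Lib.Helper4.FibDim

/-- nothing is strictly above the top element of `WithBot ℕ∞` -/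
theorem not_top_lt (v : WithBot ℕ∞) : ¬ (((⊤ : ℕ∞) : WithBot ℕ∞) < v) := by
  intro h
  have : v ≤ ((⊤ : ℕ∞) : WithBot ℕ∞) := by
    induction v with
    | bot => exact bot_le
    | coe w => exact WithBot.coe_le_coe.mpr le_top
  exact absurd (lt_of_lt_of_le h this) (lt_irrefl _)

/-- a nonempty fibre has dimension `> ⊥` -/
theorem bot_lt_dim_fiber_iff {U V : Scheme.{u}} (h : U ⟶ V) (v : V) :
    ⊥ < topologicalKrullDim (h.fiber v) ↔ v ∈ Set.range h := by
  constructor
  · intro hlt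
    by_contra hv
    have : topologicalKrullDim (h.fiber v) ≤ ⊥ := by
      rw [topologicalKrullDim_fiber_le_iff]
      intro x hx
      exact absurd ⟨x, hx⟩ hv
    exact absurd (lt_of_lt_of_le hlt this) (lt_irrefl _)
  · rintro ⟨u, rfl⟩
    rw [bot_lt_iff_ne_bot]
    intro hbot
    have h1 := (topologicalKrullDim_fiber_le_iff h (h u) ⊥).1 hbot.le u rfl
    have h2 := Groth.Agent.Lib.Helper7.TopDim.localDim_nonneg (h.asFiber u)
    unfold FlatMor.fibreDimAt at h1
    exact absurd (h2.trans h1) (by simp)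

/-- a fibre has dimension `> c` iff some point of it has fibre dimension `> c` -/
theorem lt_dim_fiber_iff {U V : Scheme.{u}} (h : U ⟶ V) (v : V) (c : WithBot ℕ∞) :
    c < topologicalKrullDim (h.fiber v) ↔ ∃ u : U, h u = v ∧ c < FlatMor.fibreDimAt h u := by
  rw [← not_le, topologicalKrullDim_fiber_le_iff]
  push Not
  rfl

/-- **Lower semicontinuity of the fibre dimension** for flat morphisms locally of finite
presentation, without any quasi-compactness hypothesis. -/
theorem isOpen_setOf_lt_dim_fiber {U V : Scheme.{u}} (h : U ⟶ V) [Flat h]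
    [LocallyOfFinitePresentation h] (c : WithBot ℕ∞) :
    IsOpen {v : V | c < topologicalKrullDim (h.fiber v)} := by
  rw [isOpen_iff_forall_mem_open]
  intro v₀ hv₀
  obtain ⟨u₀, hu₀, hlt₀⟩ := (lt_dim_fiber_iff h v₀ c).1 hv₀
  -- affine neighbourhoods
  obtain ⟨V', hV'aff, hv₀V', -⟩ := exists_isAffineOpen_mem_and_subset (x := v₀) (U := ⊤) trivial
  have hu₀pre : u₀ ∈ h ⁻¹ᵁ V' := by
    show h u₀ ∈ V'
    rw [hu₀]
    exact hv₀V'
  obtain ⟨U', hU'aff, hu₀U', hU'le⟩ := exists_isAffineOpen_mem_and_subset hu₀pre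
  have e : U' ≤ h ⁻¹ᵁ V' := hU'le
  let h' : (U' : Scheme.{u}) ⟶ (V' : Scheme.{u}) := h.resLE V' U' e
  have comm : h' ≫ V'.ι = U'.ι ≫ h := Scheme.Hom.resLE_comp_ι h e
  haveI : IsAffine (U' : Scheme.{u}) := hU'aff
  haveI : IsAffine (V' : Scheme.{u}) := hV'aff
  have hopen' := Groth.Agent.S0404.result h' c
  have key : ∀ u' : (U' : Scheme.{u}), FlatMor.fibreDimAt h (U'.ι u') = FlatMor.fibreDimAt h' u' :=
    fun u' => Groth.Agent.Lib.Helper3.FibDimEt.fibreDimAt_eq_of_etale_square h h' U'.ι V'.ι comm u'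
  refine ⟨V'.ι '' {v' | c < topologicalKrullDim (h'.fiber v')}, ?_, ?_, ?_⟩
  · rintro _ ⟨v', hv', rfl⟩
    obtain ⟨u', hu', hlt'⟩ := (lt_dim_fiber_iff h' v' c).1 hv'
    refine (lt_dim_fiber_iff h _ c).2 ⟨U'.ι u', ?_, ?_⟩
    · rw [← hu']
      exact (congrArg (fun φ : (U' : Scheme.{u}) ⟶ V => φ u') comm).symm
    · rw [key]
      exact hlt'
  · exact V'.ι.isOpenEmbedding.isOpenMap _ hopen'
  · let u₀' : (U' : Scheme.{u}) := ⟨u₀, hu₀U'⟩
    refine ⟨h' u₀', ?_, ?_⟩
    · refine (lt_dim_fiber_iff h' _ c).2 ⟨u₀', rfl, ?_⟩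
      rw [← key]
      exact hlt₀
    · rw [← hu₀]
      exact (congrArg (fun φ : (U' : Scheme.{u}) ⟶ V => φ u₀') comm)

end Groth.Agent.Lib.Helper5.SpFibLscA
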