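import Mathlib
import Groth.Prelude.Def_AlgSp4
import Groth.Agent.Lib.Helper9SpDimFormula
import Groth.Agent.Lib.Helper3GrpHomQF
import Groth.Agent.Lib.Helper4FibDimF
import Groth.Agent.S9335
import Groth.Agent.S10175

/-!
# Quasi-finiteness at a point of a morphism of algebraic spaces (helper9)
-/

set_option autoImplicit false
set_option linter.style.haveILetI false
set_option backward.isDefEq.respectTransparency false
open CategoryTheory CategoryTheory.Limits AlgebraicGeometry Opposite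
universe u

namespace Groth.Agent.Lib.Helper9.SpQfAt

open AlgSp Groth.Agent.Lib.Helper9.SpPoint Groth.Agent.Lib.Helper9.ChartIndep
  Groth.Agent.Lib.Helper9.ChartIndepAt Groth.Agent.Lib.Helper9.SpDimFormula

/-- for a morphism locally of finite type, being locally quasi-finite near a point means that the
fibre has dimension `≤ 0` at the point -/
theorem qfNear_iff {U V : Scheme.{u}} (h : U ⟶ V) [LocallyOfFiniteType h] (u : U) :
    (∃ W : U.Opens, u ∈ W ∧ LocallyQuasiFinite (W.ι ≫ h) ∧ LocallyOfFiniteType (W.ι ≫ h)) ↔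
      FlatMor.fibreDimAt h u ≤ 0 := by
  constructor
  · rintro ⟨W, huW, h1, h2⟩
    have := (Groth.Agent.Lib.Helper3.GrpHomQF.locallyQuasiFinite_iff_forall_fibreDimAt_le_zero
      (W.ι ≫ h)).1 h1 ⟨u, huW⟩
    rw [Groth.Agent.Lib.Helper3.FibDimEt.fibreDimAt_comp_of_etale] at this
    exact this
  · intro hu
    let W : U.Opens := ⟨{x : U | FlatMor.fibreDimAt h x ≤ ((0 : ℕ) : WithBot ℕ∞)},
      Groth.Agent.Lib.Helper4.FibDim.isOpen_setOf_fibreDimAt_le h 0⟩
    refine ⟨W, ?_, ?_, inferInstance⟩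
    · show FlatMor.fibreDimAt h u ≤ ((0 : ℕ) : WithBot ℕ∞)
      exact_mod_cast hu
    · rw [Groth.Agent.Lib.Helper3.GrpHomQF.locallyQuasiFinite_iff_forall_fibreDimAt_le_zero]
      intro w
      rw [Groth.Agent.Lib.Helper3.FibDimEt.fibreDimAt_comp_of_etale]
      have : FlatMor.fibreDimAt h (W.ι w) ≤ ((0 : ℕ) : WithBot ℕ∞) := w.2
      exact_mod_cast this

theorem quasiFiniteAt_iff_qfNear {U V : Scheme.{u}} (h : U ⟶ V) [LocallyOfFiniteType h] (u : U) :
    h.QuasiFiniteAt u ↔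
      (∃ W : U.Opens, u ∈ W ∧ LocallyQuasiFinite (W.ι ≫ h) ∧ LocallyOfFiniteType (W.ι ≫ h)) := by
  rw [qfNear_iff, Groth.Agent.Lib.Helper3.GrpHomQF.quasiFiniteAt_iff_fibreDimAt_le_zero]

variable {S : Scheme.{u}}

/-- quasi-finiteness at a point of a morphism locally of finite type, read on any chart diagram -/
theorem hasAtMor_qfNear_iff {X Y : Sp S} (f : X ⟶ Y) (hf : AlgSp.LocP @LocallyOfFiniteType f)
    {U V : Over S} (a : (yon S).obj U ⟶ X) (b : (yon S).obj V ⟶ Y) (h : U ⟶ V) (u : U.left)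
    (ha : RepWith @Etale a) (hb : RepWith @Etale b) (hcomm : a ≫ f = (yon S).map h ≫ b) :
    HasAtMor (fun U _ h u => ∃ W : U.Opens, u ∈ W ∧ LocallyQuasiFinite (W.ι ≫ h) ∧
      LocallyOfFiniteType (W.ι ≫ h)) f (Points.ofPt a u) ↔ FlatMor.fibreDimAt h.left u ≤ 0 := by
  haveI : LocallyOfFiniteType h.left := hf a b h ha hb hcomm
  constructor
  · rintro ⟨U', V', a', b', h', u', ha', hb', hcomm', hpt, hQ⟩
    haveI : LocallyOfFiniteType h'.left := hf a' b' h' ha' hb' hcomm'
    rw [qfNear_iff] at hQ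
    have := chart_indep (fun (U V : Scheme.{u}) (h : U ⟶ V) (u : U) => FlatMor.fibreDimAt h u)
      etSqInv_fibreDimAt f a b h u ha hb hcomm a' b' h' u' ha' hb' hcomm' hpt.symm
    change FlatMor.fibreDimAt h.left u = FlatMor.fibreDimAt h'.left u' at this
    rw [this]
    exact hQ
  · intro hu
    exact ⟨U, V, a, b, h, u, ha, hb, hcomm, rfl, (qfNear_iff h.left u).2 hu⟩

theorem main9995 {X Y : AlgSp.Space S} (f : X ⟶ Y)
    (hf : AlgSp.IsFiniteTypeMor f.hom) (y : AlgSp.Points Y.obj) :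
    {x : AlgSp.Points X.obj | AlgSp.Points.map f.hom x = y ∧
      AlgSp.HasAtMor (fun U _ h u => ∃ W : U.Opens, u ∈ W ∧ LocallyQuasiFinite (W.ι ≫ h) ∧
        LocallyOfFiniteType (W.ι ≫ h)) f.hom x}.Finite := by
  obtain ⟨hlft, hqc⟩ := hf
  -- an affine étale chart of `Y` through `y`
  obtain ⟨V₀, b₀, hb₀, hsb₀⟩ := Y.property.atlas
  obtain ⟨v₀, hv₀⟩ := exists_atlas_point b₀ hsb₀ y
  obtain ⟨W, hW, hv₀W⟩ : ∃ W : V₀.left.Opens, IsAffineOpen W ∧ v₀ ∈ W := by
    obtain ⟨_, ⟨W, hW, rfl⟩, hv₀W, -⟩ := V₀.left.isBasis_affineOpens.exists_subset_of_mem_open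
      (Set.mem_univ v₀) isOpen_univ
    exact ⟨W, hW, hv₀W⟩
  let V : Over S := Over.mk (W.ι ≫ V₀.hom)
  let j : V ⟶ V₀ := Over.homMk W.ι rfl
  haveI : IsAffine V.left := hW
  have hj : Etale j.left := (inferInstance : Etale W.ι)
  have hb : RepWith @Etale ((yon S).map j ≫ b₀) :=
    (repWith_isMultiplicative (S := S) @Etale).comp_mem _ _
      ((repWith_yon_map_iff _ _).2 hj) hb₀
  let v : V.left := ⟨v₀, hv₀W⟩
  have hv : Points.ofPt ((yon S).map j ≫ b₀) v = y := by
    rw [ofPt_yon_map_comp]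
    exact hv₀
  generalize (yon S).map j ≫ b₀ = b at hb hv
  -- the base change of `X` to `V` is quasi-compact
  have hVqc : IsQuasiCompactSp ((yon S).obj V) :=
    ⟨V, 𝟙 _, repWith_id _ V, repWith_id _ V, (inferInstance : CompactSpace V.left)⟩
  have hpb := IsPullback.of_hasPullback f.hom b
  obtain ⟨U, c, hc, hcs, hUc⟩ := hqc (IsAlgSpace.yon_obj V) hVqc b _ _ hpb
  haveI : CompactSpace U.left := hUc
  have hfst : RepWith @Etale (pullback.fst f.hom b) :=
    MorphismProperty.of_isPullback (P := AlgSp.RepWith @Etale) hpb.flip hb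
  have ha : RepWith @Etale (c ≫ pullback.fst f.hom b) :=
    (repWith_isMultiplicative (S := S) @Etale).comp_mem _ _ hc hfst
  obtain ⟨h, hh⟩ := (yon S).map_surjective (c ≫ pullback.snd f.hom b)
  have hcomm : (c ≫ pullback.fst f.hom b) ≫ f.hom = (yon S).map h ≫ b := by
    rw [hh, Category.assoc, Category.assoc, pullback.condition]
  haveI : LocallyOfFiniteType h.left := hlft _ b h ha hb hcomm
  haveI : QuasiCompact h.left := inferInstance
  have hfin := Groth.Agent.S9335.result h.left v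
  refine (hfin.image (Points.ofPt (c ≫ pullback.fst f.hom b))).subset ?_
  rintro x ⟨hxy, hxq⟩
  have e : Points.map f.hom x = Points.map b (Points.ofScheme V v) := by
    rw [← Points.ofPt_eq_map_ofScheme, hv, hxy]
  obtain ⟨p, hp1, hp2⟩ := Groth.Agent.S10175.exists_point_of_isPullback hpb x _ e
  obtain ⟨t, ht⟩ := exists_atlas_point c hcs p
  have hat : Points.ofPt (c ≫ pullback.fst f.hom b) t = x := by
    rw [← Points.map_ofPt, ht, hp1]
  have hht : h.left t = v := by
    have h1 : Points.ofPt ((yon S).map h) t = Points.ofScheme V v := by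
      rw [hh, ← Points.map_ofPt, ht, hp2]
    have h2 := congrArg (Points.toScheme V) h1
    rw [Points.toScheme_ofPt, Points.toScheme_ofScheme] at h2
    exact h2
  refine ⟨t, ⟨hht, ?_⟩, hat⟩
  rw [← hat, hasAtMor_qfNear_iff f.hom hlft _ b h t ha hb hcomm] at hxq
  exact (Groth.Agent.Lib.Helper3.GrpHomQF.quasiFiniteAt_iff_fibreDimAt_le_zero h.left t).2 hxq

end Groth.Agent.Lib.Helper9.SpQfAt
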