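import Mathlib
import Groth.Agent.Lib.Helper9SpQfAt
import Groth.Agent.Lib.Helper9SpBaseChange
import Groth.Agent.Lib.Helper9SpPoint6
import Groth.Agent.Lib.Helper15OpenSub
import Groth.Agent.Lib.Helper3DimCons
import Groth.Agent.S9984
import Groth.Agent.S10195

/-!
# The locally quasi-finite locus of a morphism of algebraic spaces (helper9)
-/

set_option autoImplicit false
set_option linter.style.haveILetI false
set_option backward.isDefEq.respectTransparency false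
open CategoryTheory CategoryTheory.Limits AlgebraicGeometry Opposite
universe u

namespace Groth.Agent.Lib.Helper9.SpQfLocus

open AlgSp Groth.Agent.Lib.Helper9.SpPoint Groth.Agent.Lib.Helper9.ChartIndep
  Groth.Agent.Lib.Helper9.ChartIndepAt Groth.Agent.Lib.Helper9.SpDimFormula
  Groth.Agent.Lib.Helper9.SpQfAt Groth.Agent.Lib.Helper9.SpBaseChange

variable {S : Scheme.{u}}

/-- the quasi-finite locus -/
def qfLocus {X Y : AlgSp.Space S} (f : X ⟶ Y) : Set (AlgSp.Points X.obj) :=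
  {x | AlgSp.HasAtMor (fun U _ h u => ∃ W : U.Opens, u ∈ W ∧ LocallyQuasiFinite (W.ι ≫ h) ∧
    LocallyOfFiniteType (W.ι ≫ h)) f.hom x}

theorem isOpen_qfLocus {X Y : AlgSp.Space S} (f : X ⟶ Y)
    (hf : AlgSp.LocP @LocallyOfFiniteType f.hom) : IsOpen (qfLocus f) := by
  rw [isOpen_iff_forall_mem_open]
  intro x hx
  obtain ⟨U, V, a, b, h, u, ha, hb, hcomm, rfl⟩ := exists_chartDiagram f x
  haveI : LocallyOfFiniteType h.left := hf a b h ha hb hcomm
  refine ⟨Points.ofPt a '' {t : U.left | FlatMor.fibreDimAt h.left t ≤ ((0 : ℕ) : WithBot ℕ∞)},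
    ?_, ?_, ?_⟩
  · rintro _ ⟨t, ht, rfl⟩
    exact (hasAtMor_qfNear_iff f.hom hf a b h t ha hb hcomm).2 (by exact_mod_cast ht)
  · exact isOpenMap_ofPt (EtOver.mk a ha) _
      (Groth.Agent.Lib.Helper4.FibDim.isOpen_setOf_fibreDimAt_le h.left 0)
  · refine ⟨u, ?_, rfl⟩
    have := (hasAtMor_qfNear_iff f.hom hf a b h u ha hb hcomm).1 hx
    show FlatMor.fibreDimAt h.left u ≤ ((0 : ℕ) : WithBot ℕ∞)
    exact_mod_cast this

/-- quasi-finiteness at a point is insensitive to base change -/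
theorem hasAtMor_qfNear_baseChange_iff {X Y Y' X' : AlgSp.Space S} (f : X ⟶ Y) (g : Y' ⟶ Y)
    (g' : X' ⟶ X) (f' : X' ⟶ Y') (sq : IsPullback g'.hom f'.hom f.hom g.hom)
    (hf : AlgSp.LocP @LocallyOfFiniteType f.hom) (x' : AlgSp.Points X'.obj) :
    x' ∈ qfLocus f' ↔ AlgSp.Points.map g'.hom x' ∈ qfLocus f := by
  have hf' : AlgSp.LocP @LocallyOfFiniteType f'.hom :=
    Groth.Agent.S9984.result _ (Or.inl rfl) f g g' f' sq hf
  obtain ⟨U, V, a, b, h, u, ha, hb, hcomm, hux⟩ := exists_chartDiagram f (Points.map g'.hom x')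
  have hd : AlgSp.HasAtMor (fun _ _ h' u' => FlatMor.fibreDimAt h' u' =
      FlatMor.fibreDimAt h.left u) f.hom (Points.map g'.hom x') :=
    ⟨U, V, a, b, h, u, ha, hb, hcomm, hux, rfl⟩
  obtain ⟨U', V', a', b', h', u', ha', hb', hcomm', hux', hdim⟩ :=
    main10311 f g g' f' sq hf x' _ hd
  unfold qfLocus
  rw [Set.mem_ofPred_eq, Set.mem_ofPred_eq, ← hux, ← hux',
    hasAtMor_qfNear_iff f.hom hf a b h u ha hb hcomm,
    hasAtMor_qfNear_iff f'.hom hf' a' b' h' u' ha' hb' hcomm', hdim]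

theorem main10313 {X Y : AlgSp.Space S} (f : X ⟶ Y)
    (hf : AlgSp.LocP @LocallyOfFiniteType f.hom) :
    ∃ (X' : AlgSp.Space S) (j : X' ⟶ X), AlgSp.RepWith @IsOpenImmersion j.hom ∧
      AlgSp.LocP (@LocallyQuasiFinite ⊓ @LocallyOfFiniteType) (j ≫ f).hom ∧
      (∀ x : AlgSp.Points X.obj, x ∉ Set.range (AlgSp.Points.map j.hom) →
        AlgSp.HasAtMor (fun _ _ h u => 1 ≤ FlatMor.fibreDimAt h u) f.hom x) ∧
      ∀ (Y'' X'' : AlgSp.Space S) (g : Y'' ⟶ Y) (b : X'' ⟶ X) (f'' : X'' ⟶ Y''),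
        IsPullback b.hom f''.hom f.hom g.hom → ∀ x'' : AlgSp.Points X''.obj,
          AlgSp.Points.map b.hom x'' ∈ Set.range (AlgSp.Points.map j.hom) ↔
            AlgSp.HasAtMor (fun U _ h u => ∃ W : U.Opens, u ∈ W ∧
              LocallyQuasiFinite (W.ι ≫ h) ∧ LocallyOfFiniteType (W.ι ≫ h)) f''.hom x'' := by
  obtain ⟨X', j, hj, hrange⟩ := Groth.Agent.S10195.result X (qfLocus f) (isOpen_qfLocus f hf)
  have hjet : RepWith @Etale j.hom :=
    Groth.Agent.Lib.Helper15OpenSub.repWith_mono (fun A B g hg => by haveI := hg; infer_instance) hj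
  refine ⟨X', j, hj, ?_, ?_, ?_⟩
  · intro U V a b h ha hb hcomm
    have ha' : RepWith @Etale (a ≫ j.hom) :=
      (repWith_isMultiplicative (S := S) @Etale).comp_mem _ _ ha hjet
    have hcomm' : (a ≫ j.hom) ≫ f.hom = (yon S).map h ≫ b := by
      rw [Category.assoc]
      exact hcomm
    haveI : LocallyOfFiniteType h.left := hf _ b h ha' hb hcomm'
    refine ⟨?_, inferInstance⟩
    rw [Groth.Agent.Lib.Helper3.GrpHomQF.locallyQuasiFinite_iff_forall_fibreDimAt_le_zero]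
    intro t
    have hmem : Points.ofPt (a ≫ j.hom) t ∈ qfLocus f := by
      rw [← hrange, ← Points.map_ofPt]
      exact ⟨_, rfl⟩
    exact (hasAtMor_qfNear_iff f.hom hf _ b h t ha' hb hcomm').1 hmem
  · intro x hx
    rw [hrange] at hx
    obtain ⟨U, V, a, b, h, u, ha, hb, hcomm, rfl⟩ := exists_chartDiagram f x
    refine ⟨U, V, a, b, h, u, ha, hb, hcomm, rfl, ?_⟩
    have h0 : ¬ FlatMor.fibreDimAt h.left u ≤ ((0 : ℕ) : WithBot ℕ∞) := by
      intro hle
      exact hx ((hasAtMor_qfNear_iff f.hom hf a b h u ha hb hcomm).2 (by exact_mod_cast hle))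
    have := (Groth.Agent.Lib.Helper3.DimCons.succ_le_iff_not_le _ 0).2 h0
    exact_mod_cast this
  · intro Y'' X'' g b f'' sq x''
    rw [hrange]
    exact (hasAtMor_qfNear_baseChange_iff f g b f'' sq hf x'').symm

end Groth.Agent.Lib.Helper9.SpQfLocus
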