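import Mathlib
import Groth.Agent.Lib.Helper9SpQfLocus
import Groth.Agent.Lib.Helper3CompDim
import Groth.Agent.S5341
import Groth.Agent.S9874

/-!
# Dimension of a fibre of a morphism of algebraic spaces vs relative dimension (helper9)
-/

set_option autoImplicit false
set_option linter.style.haveILetI false
set_option backward.isDefEq.respectTransparency false
open CategoryTheory CategoryTheory.Limits AlgebraicGeometry Opposite
universe u

namespace Groth.Agent.Lib.Helper9.SpFibreDim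

open AlgSp Groth.Agent.Lib.Helper9.SpPoint Groth.Agent.Lib.Helper9.ChartIndep
  Groth.Agent.Lib.Helper9.ChartIndepAt Groth.Agent.Lib.Helper9.SpDimFormula
  Groth.Agent.Lib.Helper9.SpQfAt Groth.Agent.Lib.Helper9.SpBaseChange

variable {S : Scheme.{u}}

/-- every point of `h_{Spec K}` maps to the class of `k` under `k.toHom` -/
theorem map_toHom_eq_mk {Y : Sp S} (k : FieldPt Y) (t : Points ((yon S).obj k.pt)) :
    Points.map k.toHom t = Points.mk k := by
  obtain ⟨s, rfl⟩ := (Points.schemeEquiv k.pt).surjective t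
  change Points.map k.toHom (Points.ofScheme k.pt s) = Points.mk k
  rw [← Points.ofPt_eq_map_ofScheme]
  exact Points.ofPt_toHom k s

/-- the local dimension of a chart of the fibre `X_k` at a point is the relative dimension of `f`
at the image point, read on any chart diagram -/
theorem localDim_chart_fibre {X Y : AlgSp.Space S} (f : X ⟶ Y)
    (hf : AlgSp.LocP @LocallyOfFiniteType f.hom) (k : AlgSp.FieldPt Y.obj)
    (Xk : AlgSp.Sp S) (fst : Xk ⟶ X.obj) (snd : Xk ⟶ (AlgSp.yon S).obj k.pt)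
    (h : IsPullback fst snd f.hom k.toHom)
    {U : Over S} (a : (yon S).obj U ⟶ Xk) (ha : RepWith @Etale a) (u : U.left)
    {U₁ V₁ : Over S} (a₁ : (yon S).obj U₁ ⟶ X.obj) (b₁ : (yon S).obj V₁ ⟶ Y.obj) (h₁ : U₁ ⟶ V₁)
    (u₁ : U₁.left) (ha₁ : RepWith @Etale a₁) (hb₁ : RepWith @Etale b₁)
    (hcomm₁ : a₁ ≫ f.hom = (yon S).map h₁ ≫ b₁)
    (hpt : Points.ofPt a₁ u₁ = Points.map fst (Points.ofPt a u)) :
    FlatMor.localDim U.left u = FlatMor.fibreDimAt h₁.left u₁ := by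
  have hXk : IsAlgSpace Xk :=
    Groth.Agent.S9874.isAlgSpace_of_isPullback Y.property.diag X.property
      (IsAlgSpace.yon_obj _) h
  let XK : AlgSp.Space S := ⟨Xk, hXk⟩
  let KK : AlgSp.Space S := ⟨(yon S).obj k.pt, IsAlgSpace.yon_obj _⟩
  let fstS : XK ⟶ X := ObjectProperty.homMk fst
  let sndS : XK ⟶ KK := ObjectProperty.homMk snd
  let gS : KK ⟶ Y := ObjectProperty.homMk k.toHom
  have sq : IsPullback fstS.hom sndS.hom f.hom gS.hom := h
  have hd : AlgSp.HasAtMor (fun _ _ h' u' => FlatMor.fibreDimAt h' u' =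
      FlatMor.fibreDimAt h₁.left u₁) f.hom (Points.map fstS.hom (Points.ofPt a u)) :=
    ⟨U₁, V₁, a₁, b₁, h₁, u₁, ha₁, hb₁, hcomm₁, hpt, rfl⟩
  have key := main10311 f gS fstS sndS sq hf (Points.ofPt a u) _ hd
  obtain ⟨hU, hhU⟩ := (yon S).map_surjective (a ≫ snd)
  have hcomm : a ≫ sndS.hom = (yon S).map hU ≫ 𝟙 _ := by
    rw [Category.comp_id, hhU]
    rfl
  have hid : RepWith @Etale (𝟙 ((yon S).obj k.pt)) := repWith_id _ _
  rw [hasAtMor_fibreDimAt_iff sndS.hom a (𝟙 _) hU u ha hid hcomm] at key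
  haveI : Subsingleton ↥k.pt.left :=
    Groth.Agent.Lib.Helper3.CompDim.subsingleton_Spec_of_isField (K := CommRingCat.of k.K)
      (Field.toIsField k.K)
  rw [← key, Groth.Agent.S5341.fibreDimAt_eq_localDim_of_subsingleton]

theorem main10678 {X Y : AlgSp.Space S} (f : X ⟶ Y) (hf : AlgSp.IsFiniteTypeMor f.hom)
    (y : AlgSp.Points Y.obj) (k : AlgSp.FieldPt Y.obj) (hk : AlgSp.Points.mk k = y)
    (Xk : AlgSp.Sp S) (fst : Xk ⟶ X.obj) (snd : Xk ⟶ (AlgSp.yon S).obj k.pt)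
    (h : IsPullback fst snd f.hom k.toHom) :
    (AlgSp.dim Xk = ⊥ ↔ y ∉ Set.range (AlgSp.Points.map f.hom)) ∧
      ∀ d : ℕ, (AlgSp.dim Xk ≤ d ↔
        ∀ x : AlgSp.Points X.obj, AlgSp.Points.map f.hom x = y →
          AlgSp.HasAtMor (fun _ _ h u => FlatMor.fibreDimAt h u ≤ (d : WithBot ℕ∞)) f.hom x) := by
  have hlft := hf.1
  have hXk : IsAlgSpace Xk :=
    Groth.Agent.S9874.isAlgSpace_of_isPullback Y.property.diag X.property
      (IsAlgSpace.yon_obj _) h
  -- points of the fibre lie over `y`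
  have hover : ∀ t : Points Xk, Points.map f.hom (Points.map fst t) = y := by
    intro t
    rw [← Points.map_comp, h.w, Points.map_comp, map_toHom_eq_mk, hk]
  -- points over `y` lift to the fibre
  have hlift : ∀ x : Points X.obj, Points.map f.hom x = y →
      ∃ t : Points Xk, Points.map fst t = x := by
    intro x hx
    obtain ⟨s⟩ : Nonempty ↥k.pt.left := ⟨(default : Spec (CommRingCat.of k.K))⟩
    have e : Points.map f.hom x = Points.map k.toHom (Points.ofScheme k.pt s) := by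
      rw [map_toHom_eq_mk, hk, hx]
    obtain ⟨t, ht, -⟩ := Groth.Agent.S10175.exists_point_of_isPullback h x _ e
    exact ⟨t, ht⟩
  obtain ⟨U₀, a₀, ha₀, hs₀⟩ := hXk.atlas
  refine ⟨⟨fun hbot hy => ?_, fun hy => ?_⟩, fun d => ⟨fun hd x hx => ?_, fun hd => ?_⟩⟩
  · obtain ⟨x, hx⟩ := hy
    obtain ⟨t, -⟩ := hlift x hx
    obtain ⟨u₀, -⟩ := exists_atlas_point a₀ hs₀ t
    haveI : Nonempty ↥U₀.left := ⟨u₀⟩
    have h1 : (0 : WithBot ℕ∞) ≤ topologicalKrullDim ↥U₀.left :=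
      Groth.Agent.Lib.Helper7.TopDim.topologicalKrullDim_nonneg
    have h2 : topologicalKrullDim ↥U₀.left ≤ AlgSp.dim Xk :=
      le_iSup_of_le U₀ (le_iSup_of_le a₀ (le_iSup_of_le ha₀ le_rfl))
    rw [hbot] at h2
    exact absurd (h1.trans h2) (by simp)
  · unfold AlgSp.dim
    rw [eq_bot_iff]
    refine iSup_le fun U => iSup_le fun a => iSup_le fun ha => ?_
    haveI : IsEmpty ↥U.left := ⟨fun u => hy ⟨_, hover (Points.ofPt a u)⟩⟩
    haveI : IsEmpty (TopologicalSpace.IrreducibleCloseds ↥U.left) :=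
      ⟨fun Z => isEmptyElim Z.2.nonempty.some⟩
    rw [topologicalKrullDim, Order.krullDim_eq_bot]
  · obtain ⟨t, rfl⟩ := hlift x hx
    obtain ⟨u₀, rfl⟩ := exists_atlas_point a₀ hs₀ t
    obtain ⟨U₁, V₁, a₁, b₁, h₁, u₁, ha₁, hb₁, hcomm₁, hpt⟩ :=
      exists_chartDiagram f (Points.map fst (Points.ofPt a₀ u₀))
    refine ⟨U₁, V₁, a₁, b₁, h₁, u₁, ha₁, hb₁, hcomm₁, hpt, ?_⟩
    show FlatMor.fibreDimAt h₁.left u₁ ≤ (d : WithBot ℕ∞)
    rw [← localDim_chart_fibre f hlft k Xk fst snd h a₀ ha₀ u₀ a₁ b₁ h₁ u₁ ha₁ hb₁ hcomm₁ hpt]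
    refine (Groth.Agent.Lib.Helper7.TopDim.localDim_le_dim u₀).trans (le_trans ?_ hd)
    exact le_iSup_of_le U₀ (le_iSup_of_le a₀ (le_iSup_of_le ha₀ le_rfl))
  · unfold AlgSp.dim
    refine iSup_le fun U => iSup_le fun a => iSup_le fun ha => ?_
    rw [Groth.Agent.Lib.Helper7.TopDim.topologicalKrullDim_eq_iSup_localDim]
    refine iSup_le fun u => ?_
    obtain ⟨U₁, V₁, a₁, b₁, h₁, u₁, ha₁, hb₁, hcomm₁, hpt⟩ :=
      exists_chartDiagram f (Points.map fst (Points.ofPt a u))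
    rw [localDim_chart_fibre f hlft k Xk fst snd h a ha u a₁ b₁ h₁ u₁ ha₁ hb₁ hcomm₁ hpt]
    have := hd _ (hover (Points.ofPt a u))
    rw [← hpt] at this
    exact (hasAtMor_iff (fun (U V : Scheme.{u}) (h : U ⟶ V) (u : U) => FlatMor.fibreDimAt h u)
      etSqInv_fibreDimAt (fun v => v ≤ (d : WithBot ℕ∞)) f.hom a₁ b₁ h₁ u₁ ha₁ hb₁ hcomm₁).1 this

end Groth.Agent.Lib.Helper9.SpFibreDim
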