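import Mathlib
import Groth.Agent.Lib.Helper9SpFibreDim

/-!
# Upper semicontinuity of the fibre dimension of a proper morphism of algebraic spaces (helper9)
-/

set_option autoImplicit false
set_option linter.style.haveILetI false
set_option backward.isDefEq.respectTransparency false
open CategoryTheory CategoryTheory.Limits AlgebraicGeometry Opposite
universe u

namespace Groth.Agent.Lib.Helper9.SpFibreDim

open AlgSp Groth.Agent.Lib.Helper9.SpPoint Groth.Agent.Lib.Helper9.ChartIndep
  Groth.Agent.Lib.Helper9.ChartIndepAt Groth.Agent.Lib.Helper9.SpDimFormula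
  Groth.Agent.Lib.Helper9.SpQfAt Groth.Agent.Lib.Helper9.SpBaseChange

variable {S : Scheme.{u}}

theorem hasAtMor_fibreDimAt_le_iff {X Y : Sp S} (f : X ⟶ Y) {U V : Over S}
    (a : (yon S).obj U ⟶ X) (b : (yon S).obj V ⟶ Y) (h : U ⟶ V) (u : U.left)
    (ha : RepWith @Etale a) (hb : RepWith @Etale b) (hcomm : a ≫ f = (yon S).map h ≫ b)
    (d : WithBot ℕ∞) :
    HasAtMor (fun _ _ h u => FlatMor.fibreDimAt h u ≤ d) f (Points.ofPt a u) ↔
      FlatMor.fibreDimAt h.left u ≤ d :=
  hasAtMor_iff (fun (U V : Scheme.{u}) (h : U ⟶ V) (u : U) => FlatMor.fibreDimAt h u)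
    etSqInv_fibreDimAt (fun t => t ≤ d) f a b h u ha hb hcomm

/-- the locus where the relative dimension is `≤ n` is open -/
theorem isOpen_relDimLe {X Y : AlgSp.Space S} (f : X ⟶ Y)
    (hf : AlgSp.LocP @LocallyOfFiniteType f.hom) (n : ℕ) :
    IsOpen {x : Points X.obj | AlgSp.HasAtMor (fun _ _ h u => FlatMor.fibreDimAt h u ≤
      (n : WithBot ℕ∞)) f.hom x} := by
  rw [isOpen_iff_forall_mem_open]
  intro x hx
  obtain ⟨U, V, a, b, h, u, ha, hb, hcomm, rfl⟩ := exists_chartDiagram f x
  haveI : LocallyOfFiniteType h.left := hf a b h ha hb hcomm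
  refine ⟨Points.ofPt a '' {t : U.left | FlatMor.fibreDimAt h.left t ≤ (n : WithBot ℕ∞)},
    ?_, ?_, ?_⟩
  · rintro _ ⟨t, ht, rfl⟩
    exact (hasAtMor_fibreDimAt_le_iff f.hom a b h t ha hb hcomm _).2 ht
  · exact isOpenMap_ofPt (EtOver.mk a ha) _
      (Groth.Agent.Lib.Helper4.FibDim.isOpen_setOf_fibreDimAt_le h.left n)
  · exact ⟨u, (hasAtMor_fibreDimAt_le_iff f.hom a b h u ha hb hcomm _).1 hx, rfl⟩

/-- fibres of morphisms of finite type are finite dimensional -/
theorem dim_fibre_lt_top {X Y : AlgSp.Space S} (f : X ⟶ Y) (hf : AlgSp.IsFiniteTypeMor f.hom)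
    (k : AlgSp.FieldPt Y.obj)
    (Xk : AlgSp.Sp S) (fst : Xk ⟶ X.obj) (snd : Xk ⟶ (AlgSp.yon S).obj k.pt)
    (h : IsPullback fst snd f.hom k.toHom) : AlgSp.dim Xk < ⊤ := by
  obtain ⟨hlft, hqc⟩ := hf
  have hXk : IsAlgSpace Xk :=
    Groth.Agent.S9874.isAlgSpace_of_isPullback Y.property.diag X.property
      (IsAlgSpace.yon_obj _) h
  let XK : AlgSp.Space S := ⟨Xk, hXk⟩
  let KK : AlgSp.Space S := ⟨(yon S).obj k.pt, IsAlgSpace.yon_obj _⟩
  let fstS : XK ⟶ X := ObjectProperty.homMk fst
  let sndS : XK ⟶ KK := ObjectProperty.homMk snd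
  let gS : KK ⟶ Y := ObjectProperty.homMk k.toHom
  have sq : IsPullback fstS.hom sndS.hom f.hom gS.hom := h
  have hsnd : AlgSp.LocP @LocallyOfFiniteType sndS.hom :=
    Groth.Agent.S9984.result _ (Or.inl rfl) f gS fstS sndS sq hlft
  have hKqc : IsQuasiCompactSp ((yon S).obj k.pt) :=
    ⟨k.pt, 𝟙 _, repWith_id _ _, repWith_id _ _,
      (inferInstance : CompactSpace (Spec (CommRingCat.of k.K)))⟩
  obtain ⟨U₀, a₀, ha₀, hs₀, hc₀⟩ := hqc (IsAlgSpace.yon_obj k.pt) hKqc k.toHom fst snd h
  haveI : CompactSpace U₀.left := hc₀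
  obtain ⟨h₀, hh₀⟩ := (yon S).map_surjective (a₀ ≫ snd)
  have hcomm₀ : a₀ ≫ sndS.hom = (yon S).map h₀ ≫ 𝟙 _ := by
    rw [Category.comp_id, hh₀]
    rfl
  have hid : RepWith @Etale (𝟙 ((yon S).obj k.pt)) := repWith_id _ _
  haveI : LocallyOfFiniteType h₀.left := hsnd a₀ (𝟙 _) h₀ ha₀ hid hcomm₀
  have hfin : topologicalKrullDim U₀.left < ⊤ :=
    Groth.Agent.Lib.Helper3.DimCons.topologicalKrullDim_lt_top_of_lft_field k.K h₀.left
  refine lt_of_le_of_lt ?_ hfin
  unfold AlgSp.dim
  refine iSup_le fun U => iSup_le fun a => iSup_le fun ha => ?_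
  rw [Groth.Agent.Lib.Helper7.TopDim.topologicalKrullDim_eq_iSup_localDim]
  refine iSup_le fun u => ?_
  obtain ⟨u₀, hu₀⟩ := exists_atlas_point a₀ hs₀ (Points.ofPt a u)
  have := chart_indep_at (fun (U : Scheme.{u}) (u : U) => FlatMor.localDim U u) etInv_localDim
    a u ha a₀ u₀ ha₀ hu₀.symm
  change FlatMor.localDim U.left u = FlatMor.localDim U₀.left u₀ at this
  rw [this]
  exact Groth.Agent.Lib.Helper7.TopDim.localDim_le_dim u₀

theorem lt_zero_iff_eq_bot (v : WithBot ℕ∞) : v < 0 ↔ v = ⊥ := by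
  induction v with
  | bot => simp
  | coe w =>
    simp only [WithBot.coe_ne_bot, iff_false, not_lt]
    have : (0 : ℕ∞) ≤ w := zero_le
    exact_mod_cast this

theorem main10680 {X Y : AlgSp.Space S} (f : X ⟶ Y) (hf : AlgSp.IsProperMor f.hom)
    (d : WithBot ℕ∞) :
    IsOpen {y : AlgSp.Points Y.obj | ∀ (k : AlgSp.FieldPt Y.obj), AlgSp.Points.mk k = y →
      ∀ (Xk : AlgSp.Sp S) (fst : Xk ⟶ X.obj) (snd : Xk ⟶ (AlgSp.yon S).obj k.pt),
        IsPullback fst snd f.hom k.toHom → AlgSp.dim Xk < d} := by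
  obtain ⟨-, hft, huc⟩ := hf
  have hlft := hft.1
  have hclosed : IsClosedMap (Points.map f.hom) :=
    huc Y.property (𝟙 _) (𝟙 _) f.hom (IsPullback.of_horiz_isIso ⟨by simp⟩)
  -- a convenient reformulation: the condition only depends on one fibre
  have hone : ∀ (y : Points Y.obj) (Q : WithBot ℕ∞ → Prop),
      (∀ (k : AlgSp.FieldPt Y.obj), AlgSp.Points.mk k = y →
        ∀ (Xk : AlgSp.Sp S) (fst : Xk ⟶ X.obj) (snd : Xk ⟶ (AlgSp.yon S).obj k.pt),
          IsPullback fst snd f.hom k.toHom → Q (AlgSp.dim Xk)) →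
      ∃ (k : AlgSp.FieldPt Y.obj) (_ : AlgSp.Points.mk k = y)
        (Xk : AlgSp.Sp S) (fst : Xk ⟶ X.obj) (snd : Xk ⟶ (AlgSp.yon S).obj k.pt)
        (_ : IsPullback fst snd f.hom k.toHom), Q (AlgSp.dim Xk) := by
    intro y Q hall
    obtain ⟨k, hk⟩ := Points.mk_surjective y
    exact ⟨k, hk, pullback f.hom k.toHom, pullback.fst _ _, pullback.snd _ _,
      IsPullback.of_hasPullback _ _, hall k hk _ _ _ (IsPullback.of_hasPullback _ _)⟩
  induction d with
  | bot =>
    convert isOpen_empty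
    ext y
    simp only [Set.mem_ofPred_eq, Set.mem_empty_iff_false, iff_false]
    intro hall
    obtain ⟨k, hk, Xk, fst, snd, hpb, hQ⟩ := hone y (fun v => v < ⊥) hall
    exact not_lt_bot hQ
  | coe d =>
    induction d with
    | top =>
      convert isOpen_univ
      ext y
      simp only [Set.mem_ofPred_eq, Set.mem_univ, iff_true]
      intro k hk Xk fst snd hpb
      exact dim_fibre_lt_top f hft k Xk fst snd hpb
    | coe n =>
      rcases Nat.eq_zero_or_pos n with rfl | hn
      · -- the complement of the image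
        have hrc : IsClosed (Set.range (Points.map f.hom)) := by
          rw [← Set.image_univ]
          exact hclosed _ isClosed_univ
        convert hrc.isOpen_compl
        ext y
        simp only [Set.mem_ofPred_eq, Set.mem_compl_iff]
        constructor
        · intro hall
          obtain ⟨k, hk, Xk, fst, snd, hpb, hQ⟩ :=
            hone y (fun v => v < ((0 : ℕ) : ℕ∞)) hall
          have hQ' : AlgSp.dim Xk < 0 := by exact_mod_cast hQ
          exact ((main10678 f hft y k hk Xk fst snd hpb).1).1 ((lt_zero_iff_eq_bot _).1 hQ')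
        · intro hy k hk Xk fst snd hpb
          have := ((main10678 f hft y k hk Xk fst snd hpb).1).2 hy
          rw [this]
          exact WithBot.bot_lt_coe _
      · obtain ⟨m, rfl⟩ : ∃ m, n = m + 1 := ⟨n - 1, by omega⟩
        have hopen := isOpen_relDimLe f hlft m
        have hcl : IsClosed (Points.map f.hom '' {x : Points X.obj | AlgSp.HasAtMor
            (fun _ _ h u => FlatMor.fibreDimAt h u ≤ (m : WithBot ℕ∞)) f.hom x}ᶜ) :=
          hclosed _ hopen.isClosed_compl
        convert hcl.isOpen_compl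
        ext y
        simp only [Set.mem_ofPred_eq, Set.mem_compl_iff, Set.mem_image, not_exists, not_and]
        have hlt : ∀ v : WithBot ℕ∞, v < (((m + 1 : ℕ) : ℕ∞) : WithBot ℕ∞) ↔
            v ≤ (m : WithBot ℕ∞) := by
          intro v
          have := Groth.Agent.Lib.Helper3.DimCons.succ_le_iff_not_le v m
          rw [← not_le]
          constructor
          · intro h1
            by_contra h2
            exact h1 (by exact_mod_cast this.2 h2)
          · intro h1 h2
            exact this.1 (by exact_mod_cast h2) h1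
        constructor
        · intro hall x hx
          obtain ⟨k, hk, Xk, fst, snd, hpb, hQ⟩ :=
            hone y (fun v => v < (((m + 1 : ℕ) : ℕ∞) : WithBot ℕ∞)) hall
          intro hxy
          exact hx (((main10678 f hft y k hk Xk fst snd hpb).2 m).1 ((hlt _).1 hQ) x hxy)
        · intro hy k hk Xk fst snd hpb
          rw [hlt]
          refine ((main10678 f hft y k hk Xk fst snd hpb).2 m).2 fun x hx => ?_
          by_contra hne
          exact hy x hne hx

end Groth.Agent.Lib.Helper9.SpFibreDim
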