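import Mathlib
import Groth.Agent.Lib.Helper5SpFibLscA
import Groth.Agent.Lib.Helper9SpFibreDim2

/-!
# Lower semicontinuity of the fibre dimension for flat finitely presented morphisms of algebraic
spaces (helper5)
-/

set_option autoImplicit false
set_option linter.style.haveILetI false
set_option backward.isDefEq.respectTransparency false
open CategoryTheory CategoryTheory.Limits AlgebraicGeometry Opposite
universe u

namespace Groth.Agent.Lib.Helper5.SpFibLscB

open AlgSp Groth.Agent.Lib.Helper9.SpPoint Groth.Agent.Lib.Helper9.ChartIndep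
  Groth.Agent.Lib.Helper9.ChartIndepAt Groth.Agent.Lib.Helper9.SpDimFormula
  Groth.Agent.Lib.Helper9.SpQfAt Groth.Agent.Lib.Helper9.SpBaseChange
  Groth.Agent.Lib.Helper9.SpFibreDim Groth.Agent.Lib.Helper5.SpFibLscA

variable {S : Scheme.{u}}

theorem map_ofPt_chart {X Y : Sp S} (f : X ⟶ Y) {U V : Over S}
    (a : (yon S).obj U ⟶ X) (b : (yon S).obj V ⟶ Y) (h : U ⟶ V)
    (hcomm : a ≫ f = (yon S).map h ≫ b) (u : U.left) :
    Points.map f (Points.ofPt a u) = Points.ofPt b (h.left u) := by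
  rw [Points.map_ofPt, hcomm, ofPt_yon_map_comp]

/-- fibre dimension of a chart bounds the dimension of the fibre of the space from below -/
theorem lt_dim_of_lt_dim_chart {X Y : AlgSp.Space S} (f : X ⟶ Y)
    (hft : AlgSp.IsFiniteTypeMor f.hom) {U V : Over S}
    (a : (yon S).obj U ⟶ X.obj) (b : (yon S).obj V ⟶ Y.obj) (h : U ⟶ V)
    (ha : RepWith @Etale a) (hb : RepWith @Etale b) (hcomm : a ≫ f.hom = (yon S).map h ≫ b)
    (d : WithBot ℕ∞) (v : V.left) (hv : d < topologicalKrullDim (h.left.fiber v))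
    (k : AlgSp.FieldPt Y.obj) (hk : AlgSp.Points.mk k = Points.ofPt b v)
    (Xk : AlgSp.Sp S) (fst : Xk ⟶ X.obj) (snd : Xk ⟶ (AlgSp.yon S).obj k.pt)
    (hpb : IsPullback fst snd f.hom k.toHom) : d < AlgSp.dim Xk := by
  obtain ⟨u, hu, hlt⟩ := (lt_dim_fiber_iff h.left v d).1 hv
  have hx : Points.map f.hom (Points.ofPt a u) = Points.ofPt b v := by
    rw [map_ofPt_chart f.hom a b h hcomm u, hu]
  have main := main10678 f hft (Points.ofPt b v) k hk Xk fst snd hpb
  induction d with
  | bot =>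
    rw [bot_lt_iff_ne_bot]
    intro hbot
    exact (main.1.1 hbot) ⟨_, hx⟩
  | coe d =>
    induction d with
    | top => exact absurd hlt (not_top_lt _)
    | coe n =>
      rw [← not_le]
      intro hle
      have h1 := (main.2 n).1 hle (Points.ofPt a u) hx
      rw [hasAtMor_fibreDimAt_le_iff f.hom a b h u ha hb hcomm] at h1
      exact absurd (lt_of_lt_of_le hlt h1) (lt_irrefl _)

/-- a fibre of dimension `> d` is detected on some chart diagram -/
theorem exists_chart_lt_dim {X Y : AlgSp.Space S} (f : X ⟶ Y)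
    (hft : AlgSp.IsFiniteTypeMor f.hom) (d : WithBot ℕ∞) (y : Points Y.obj)
    (k : AlgSp.FieldPt Y.obj) (hk : AlgSp.Points.mk k = y)
    (Xk : AlgSp.Sp S) (fst : Xk ⟶ X.obj) (snd : Xk ⟶ (AlgSp.yon S).obj k.pt)
    (hpb : IsPullback fst snd f.hom k.toHom) (hd : d < AlgSp.dim Xk) :
    ∃ (U V : Over S) (a : (yon S).obj U ⟶ X.obj) (b : (yon S).obj V ⟶ Y.obj) (h : U ⟶ V)
      (v : V.left), RepWith @Etale a ∧ RepWith @Etale b ∧ a ≫ f.hom = (yon S).map h ≫ b ∧
        Points.ofPt b v = y ∧ d < topologicalKrullDim (h.left.fiber v) := by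
  have main := main10678 f hft y k hk Xk fst snd hpb
  -- a point over `y` with large relative dimension
  have hx : ∃ x : Points X.obj, Points.map f.hom x = y ∧
      ∀ {U V : Over S} (a : (yon S).obj U ⟶ X.obj) (b : (yon S).obj V ⟶ Y.obj) (h : U ⟶ V)
        (u : U.left), RepWith @Etale a → RepWith @Etale b → a ≫ f.hom = (yon S).map h ≫ b →
        Points.ofPt a u = x → d < FlatMor.fibreDimAt h.left u := by
    induction d with
    | bot =>
      have hne : AlgSp.dim Xk ≠ ⊥ := (bot_lt_iff_ne_bot.1 hd)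
      have hy : y ∈ Set.range (Points.map f.hom) := by
        by_contra hy
        exact hne (main.1.2 hy)
      obtain ⟨x, hx⟩ := hy
      refine ⟨x, hx, fun a b h u _ _ _ _ => ?_⟩
      have h2 := Groth.Agent.Lib.Helper7.TopDim.localDim_nonneg (h.left.asFiber u)
      unfold FlatMor.fibreDimAt
      exact lt_of_lt_of_le (WithBot.bot_lt_coe _) h2
    | coe d =>
      induction d with
      | top => exact absurd hd (not_top_lt _)
      | coe n =>
        have hnle : ¬ AlgSp.dim Xk ≤ (n : WithBot ℕ∞) := not_le.2 hd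
        rw [(main.2 n)] at hnle
        push Not at hnle
        obtain ⟨x, hx, hnot⟩ := hnle
        refine ⟨x, hx, fun a b h u ha hb hcomm hu => ?_⟩
        rw [← not_le]
        intro hle
        apply hnot
        rw [← hu]
        exact (hasAtMor_fibreDimAt_le_iff f.hom a b h u ha hb hcomm _).2 hle
  obtain ⟨x, hxy, hx⟩ := hx
  obtain ⟨U, V, a, b, h, u, ha, hb, hcomm, hu⟩ := exists_chartDiagram f x
  refine ⟨U, V, a, b, h, h.left u, ha, hb, hcomm, ?_, ?_⟩
  · rw [← map_ofPt_chart f.hom a b h hcomm u, hu, hxy]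
  · exact (lt_dim_fiber_iff h.left _ d).2 ⟨u, rfl, hx a b h u ha hb hcomm hu⟩

/-- **Lower semicontinuity of the fibre dimension** for flat morphisms of finite presentation of
algebraic spaces. -/
theorem main10679 {X Y : AlgSp.Space S} (f : X ⟶ Y)
    (hf1 : AlgSp.LocP @Flat f.hom) (hf2 : AlgSp.IsFinitePresentationMor f.hom) (d : WithBot ℕ∞) :
    IsOpen {y : AlgSp.Points Y.obj | ∀ (k : AlgSp.FieldPt Y.obj), AlgSp.Points.mk k = y →
      ∀ (Xk : AlgSp.Sp S) (fst : Xk ⟶ X.obj) (snd : Xk ⟶ (AlgSp.yon S).obj k.pt),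
        IsPullback fst snd f.hom k.toHom → d < AlgSp.dim Xk} := by
  have hft : AlgSp.IsFiniteTypeMor f.hom := by
    refine ⟨fun U V a b h ha hb hcomm => ?_, hf2.2.1⟩
    haveI : LocallyOfFinitePresentation h.left := hf2.1 a b h ha hb hcomm
    infer_instance
  rw [isOpen_iff_forall_mem_open]
  intro y hy
  obtain ⟨k, hk⟩ := Points.mk_surjective y
  have hd := hy k hk (pullback f.hom k.toHom) (pullback.fst _ _) (pullback.snd _ _)
    (IsPullback.of_hasPullback _ _)
  obtain ⟨U, V, a, b, h, v, ha, hb, hcomm, hv, hlt⟩ :=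
    exists_chart_lt_dim f hft d y k hk _ _ _ (IsPullback.of_hasPullback _ _) hd
  haveI : Flat h.left := hf1 a b h ha hb hcomm
  haveI : LocallyOfFinitePresentation h.left := hf2.1 a b h ha hb hcomm
  refine ⟨Points.ofPt b '' {v' : V.left | d < topologicalKrullDim (h.left.fiber v')}, ?_, ?_, ?_⟩
  · rintro _ ⟨v', hv', rfl⟩ k' hk' Xk fst snd hpb
    exact lt_dim_of_lt_dim_chart f hft a b h ha hb hcomm d v' hv' k' hk' Xk fst snd hpb
  · exact isOpenMap_ofPt (EtOver.mk b hb) _ (isOpen_setOf_lt_dim_fiber h.left d)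
  · exact ⟨v, hlt, hv⟩

end Groth.Agent.Lib.Helper5.SpFibLscB
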