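import Mathlib
import Groth.Agent.Lib.Helper5SpFibLscB

/-!
# Local constancy of the fibre dimension for proper flat finitely presented morphisms of algebraic
spaces (helper5)
-/

set_option autoImplicit false
set_option linter.style.haveILetI false
set_option backward.isDefEq.respectTransparency false
open CategoryTheory CategoryTheory.Limits AlgebraicGeometry Opposite
universe u

namespace Groth.Agent.Lib.Helper5.SpFibLscC

open AlgSp Groth.Agent.Lib.Helper9.SpFibreDim Groth.Agent.Lib.Helper5.SpFibLscA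
  Groth.Agent.Lib.Helper5.SpFibLscB

variable {S : Scheme.{u}}

theorem eq_natCast_zero_iff (v : WithBot ℕ∞) :
    v = ((0 : ℕ) : WithBot ℕ∞) ↔ v < (((0 + 1 : ℕ) : ℕ∞) : WithBot ℕ∞) ∧ ⊥ < v := by
  have h1 := Groth.Agent.Lib.Helper3.DimCons.succ_le_iff_not_le v 0
  constructor
  · rintro rfl
    refine ⟨?_, WithBot.bot_lt_coe _⟩
    rw [← not_le]
    intro h
    exact (h1.1 (by exact_mod_cast h)) le_rfl
  · rintro ⟨h2, h3⟩
    have h4 : v ≤ ((0 : ℕ) : WithBot ℕ∞) := by
      by_contra hn
      have := h1.2 hn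
      exact absurd (lt_of_lt_of_le h2 (by exact_mod_cast this)) (lt_irrefl _)
    refine le_antisymm h4 ?_
    induction v with
    | bot => exact absurd h3 (lt_irrefl _)
    | coe w =>
      have : (0 : ℕ∞) ≤ w := zero_le
      exact_mod_cast this

theorem eq_natCast_succ_iff (v : WithBot ℕ∞) (m : ℕ) :
    v = ((m + 1 : ℕ) : WithBot ℕ∞) ↔
      v < (((m + 1 + 1 : ℕ) : ℕ∞) : WithBot ℕ∞) ∧ ((m : ℕ) : WithBot ℕ∞) < v := by
  have h1 := Groth.Agent.Lib.Helper3.DimCons.succ_le_iff_not_le v (m + 1)
  have h0 := Groth.Agent.Lib.Helper3.DimCons.succ_le_iff_not_le v m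
  constructor
  · rintro rfl
    refine ⟨?_, ?_⟩
    · rw [← not_le]
      intro h
      exact (h1.1 (by exact_mod_cast h)) le_rfl
    · rw [← not_le]
      exact h0.1 le_rfl
  · rintro ⟨h2, h3⟩
    have h4 : v ≤ ((m + 1 : ℕ) : WithBot ℕ∞) := by
      by_contra hn
      have := h1.2 hn
      exact absurd (lt_of_lt_of_le h2 (by exact_mod_cast this)) (lt_irrefl _)
    exact le_antisymm h4 (h0.2 (not_le.2 h3))

theorem main10692 {X Y : AlgSp.Space S} (f : X ⟶ Y) (hf1 : AlgSp.IsProperMor f.hom)
    (hf2 : AlgSp.LocP @Flat f.hom) (hf3 : AlgSp.IsFinitePresentationMor f.hom) (d : WithBot ℕ∞) :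
    IsOpen {y : AlgSp.Points Y.obj | ∀ (k : AlgSp.FieldPt Y.obj), AlgSp.Points.mk k = y →
      ∀ (Xk : AlgSp.Sp S) (fst : Xk ⟶ X.obj) (snd : Xk ⟶ (AlgSp.yon S).obj k.pt),
        IsPullback fst snd f.hom k.toHom → AlgSp.dim Xk = d} := by
  have hft : AlgSp.IsFiniteTypeMor f.hom := hf1.2.1
  have hup := main10680 f hf1
  have hlow := main10679 f hf2 hf3
  induction d with
  | bot =>
    convert hup ((0 : ℕ) : ℕ∞) using 1
    ext y
    simp only [Set.mem_ofPred_eq]
    refine forall_congr' fun k => forall_congr' fun hk => forall_congr' fun Xk =>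
      forall_congr' fun fst => forall_congr' fun snd => forall_congr' fun hpb => ?_
    have := lt_zero_iff_eq_bot (AlgSp.dim Xk)
    constructor
    · intro h
      have h' := this.2 h
      exact_mod_cast h'
    · intro h
      exact this.1 (by exact_mod_cast h)
  | coe d =>
    induction d with
    | top =>
      convert isOpen_empty
      ext y
      simp only [Set.mem_ofPred_eq, Set.mem_empty_iff_false, iff_false]
      intro hall
      obtain ⟨k, hk⟩ := Points.mk_surjective y
      have h1 := hall k hk (pullback f.hom k.toHom) (pullback.fst _ _) (pullback.snd _ _)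
        (IsPullback.of_hasPullback _ _)
      have h2 := dim_fibre_lt_top f hft k _ _ _ (IsPullback.of_hasPullback f.hom k.toHom)
      rw [h1] at h2
      exact absurd h2 (lt_irrefl _)
    | coe n =>
      rcases Nat.eq_zero_or_pos n with rfl | hn
      · convert (hup (((0 + 1 : ℕ) : ℕ∞) : WithBot ℕ∞)).inter (hlow ⊥) using 1
        ext y
        simp only [Set.mem_ofPred_eq, Set.mem_inter_iff]
        constructor
        · intro hall
          exact ⟨fun k hk Xk fst snd hpb => ((eq_natCast_zero_iff _).1 (hall k hk Xk fst snd hpb)).1,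
            fun k hk Xk fst snd hpb => ((eq_natCast_zero_iff _).1 (hall k hk Xk fst snd hpb)).2⟩
        · rintro ⟨h1, h2⟩ k hk Xk fst snd hpb
          exact (eq_natCast_zero_iff _).2 ⟨h1 k hk Xk fst snd hpb, h2 k hk Xk fst snd hpb⟩
      · obtain ⟨m, rfl⟩ : ∃ m, n = m + 1 := ⟨n - 1, by omega⟩
        convert (hup (((m + 1 + 1 : ℕ) : ℕ∞) : WithBot ℕ∞)).inter
          (hlow ((m : ℕ) : WithBot ℕ∞)) using 1
        ext y
        simp only [Set.mem_ofPred_eq, Set.mem_inter_iff]
        constructor
        · intro hall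
          exact ⟨fun k hk Xk fst snd hpb =>
              ((eq_natCast_succ_iff _ m).1 (hall k hk Xk fst snd hpb)).1,
            fun k hk Xk fst snd hpb => ((eq_natCast_succ_iff _ m).1 (hall k hk Xk fst snd hpb)).2⟩
        · rintro ⟨h1, h2⟩ k hk Xk fst snd hpb
          exact (eq_natCast_succ_iff _ m).2 ⟨h1 k hk Xk fst snd hpb, h2 k hk Xk fst snd hpb⟩

end Groth.Agent.Lib.Helper5.SpFibLscC
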