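import Mathlib
import Groth.Agent.Lib.Helper5SpGRB
import Groth.Agent.S1301

/-!
# Geometrically reduced fibres of morphisms of algebraic spaces: constructibility and independence
of the field point (helper5)
-/

set_option autoImplicit false
set_option linter.style.haveILetI false
set_option backward.isDefEq.respectTransparency false
universe u
open CategoryTheory CategoryTheory.Limits AlgebraicGeometry Opposite

namespace Groth.Agent.Lib.Helper5.SpGRC

open AlgSp Groth.Agent.Lib.Helper9.SpPoint Groth.Agent.Lib.Helper5.SpGRA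
  Groth.Agent.Lib.Helper5.SpGRB Groth.Agent.Lib.Helper5.SpGorC Groth.Agent.Lib.Helper5.SpGorF

variable {S : Scheme.{u}}

/-- a chart diagram of a quasi-compact `f` over a quasi-compact chart of `Y`, with quasi-compact
source chart -/
theorem exists_qc_atlas_diagram_over {X Y : Sp S} (f : X ⟶ Y) (hqc : IsQuasiCompactMor f)
    {V : Over S} [CompactSpace V.left] (b : (yon S).obj V ⟶ Y) (hb : RepWith @Etale b) :
    ∃ (U : Over S) (a : (yon S).obj U ⟶ X) (h : U ⟶ V) (hc : a ≫ f = (yon S).map h ≫ b),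
      CompactSpace U.left ∧ RepWith @Etale a ∧
      RepWith @Etale (pullback.lift a ((yon S).map h) hc) ∧
      RepWith @Surjective (pullback.lift a ((yon S).map h) hc) := by
  have hVqc : IsQuasiCompactSp ((yon S).obj V) :=
    ⟨V, 𝟙 _, repWith_id @Etale V, repWith_id @Surjective V, inferInstance⟩
  obtain ⟨U, φ, hφe, hφs, hU⟩ := hqc (IsAlgSpace.yon_obj V) hVqc b (pullback.fst f b)
    (pullback.snd f b) (IsPullback.of_hasPullback f b)
  obtain ⟨h, hh⟩ := (yon S).map_surjective (φ ≫ pullback.snd f b)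
  have hfe : RepWith @Etale (pullback.fst f b) :=
    MorphismProperty.of_isPullback (P := AlgSp.RepWith @Etale)
      (IsPullback.of_hasPullback f b).flip hb
  have hc : (φ ≫ pullback.fst f b) ≫ f = (yon S).map h ≫ b := by
    rw [Category.assoc, pullback.condition, ← Category.assoc, hh]
  have hlift : pullback.lift (φ ≫ pullback.fst f b) ((yon S).map h) hc = φ := by
    apply pullback.hom_ext
    · rw [pullback.lift_fst]
    · rw [pullback.lift_snd, hh]
  refine ⟨U, φ ≫ pullback.fst f b, h, hc, hU,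
    (repWith_isMultiplicative (S := S) @Etale).comp_mem _ _ hφe hfe, ?_, ?_⟩
  · rw [hlift]; exact hφe
  · rw [hlift]; exact hφs

/-- the condition at a point of a chart of `Y` -/
theorem forall_geomRedFib_ofPt_iff {X Y : Sp S} (hX : IsAlgSpace X) (hY : IsAlgSpace Y)
    (f : X ⟶ Y) {U V : Over S}
    (a : (yon S).obj U ⟶ X) (b : (yon S).obj V ⟶ Y) (h : U ⟶ V)
    (hc : a ≫ f = (yon S).map h ≫ b)
    (hφe : RepWith @Etale (pullback.lift a ((yon S).map h) hc))
    (hφs : RepWith @Surjective (pullback.lift a ((yon S).map h) hc)) (v : V.left) :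
    (∀ k : FieldPt Y, Points.mk k = Points.ofPt b v → GeomRedFib f k) ↔
      GeometricallyReduced (h.left.fiberToSpecResidueField v) := by
  rw [← geomRedFib_ofPt_iff f a b h hc hφe hφs v]
  constructor
  · intro H
    exact H (FieldPt.ofPt b v) rfl
  · intro H k hk
    exact geomRedFib_of_rel hX hY f (Points.mk_eq_mk_iff.1 hk).symm H

theorem main10683 {X Y : AlgSp.Space S} (f : X ⟶ Y)
    (hf1 : AlgSp.IsQuasiCompactMor f.hom) (hf2 : AlgSp.LocP @LocallyOfFinitePresentation f.hom)
    (V : Over S) (hV : IsAffine V.left) (b : (AlgSp.yon S).obj V ⟶ Y.obj)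
    (hb : AlgSp.RepWith @Etale b) :
    Topology.IsConstructible ((AlgSp.Points.ofPt b) ⁻¹' {y : AlgSp.Points Y.obj |
      ∀ (k : AlgSp.FieldPt Y.obj), AlgSp.Points.mk k = y → GeomRedFib f.hom k}) := by
  obtain ⟨U, a, h, hc, hU, ha, hφe, hφs⟩ := exists_qc_atlas_diagram_over f.hom hf1 b hb
  haveI : QuasiCompact h.left := (HasAffineProperty.iff_of_isAffine (P := @QuasiCompact)).2 hU
  haveI : LocallyOfFinitePresentation h.left := hf2 a b h ha hb hc
  have h1 := (Groth.Agent.S1301.result h.left).isConstructible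
  convert h1 using 1
  ext v
  simp only [Set.mem_preimage, Set.mem_setOf_eq]
  exact forall_geomRedFib_ofPt_iff X.property Y.property f.hom a b h hc hφe hφs v

/-- the field point obtained from a field point by extending the field -/
noncomputable def extPt {Y : Sp S} (k : FieldPt Y) (k' : Type u) [Field k'] (φ : k.K →+* k') :
    FieldPt Y :=
  ⟨k', Spec.map (CommRingCat.ofHom φ) ≫ k.str,
    Y.obj.map (Over.homMk (Spec.map (CommRingCat.ofHom φ)) rfl :
      Over.mk (Spec.map (CommRingCat.ofHom φ) ≫ k.str) ⟶ k.pt).op k.val⟩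

theorem extPt_toHom {Y : Sp S} (k : FieldPt Y) (k' : Type u) [Field k'] (φ : k.K →+* k') :
    (extPt k k' φ).toHom = (yon S).map (Over.homMk (Spec.map (CommRingCat.ofHom φ)) rfl :
      Over.mk (Spec.map (CommRingCat.ofHom φ) ≫ k.str) ⟶ k.pt) ≫ k.toHom := by
  change (AlgSp.J S).uliftYonedaEquiv.symm _ =
    (AlgSp.J S).uliftYoneda.map _ ≫ (AlgSp.J S).uliftYonedaEquiv.symm k.val
  rw [GrothendieckTopology.uliftYonedaEquiv_symm_naturality_left]
  rfl

theorem mk_extPt {Y : Sp S} (k : FieldPt Y) (k' : Type u) [Field k'] (φ : k.K →+* k') :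
    Points.mk (extPt k k' φ) = Points.mk k := by
  refine Points.sound ⟨k', inferInstance, Spec.map (CommRingCat.ofHom φ) ≫ k.str, 𝟙 _,
    (Over.homMk (Spec.map (CommRingCat.ofHom φ)) rfl :
      Over.mk (Spec.map (CommRingCat.ofHom φ) ≫ k.str) ⟶ k.pt), ?_⟩
  show Y.obj.map (𝟙 (extPt k k' φ).pt).op (extPt k k' φ).val = _
  rw [op_id, Functor.map_id_apply]
  rfl

theorem main10686 {X Y : AlgSp.Space S} (f : X ⟶ Y) (y : AlgSp.Points Y.obj) :
    [∃ (k : AlgSp.FieldPt Y.obj), AlgSp.Points.mk k = y ∧ GeomRedFib f.hom k,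
      ∀ (k : AlgSp.FieldPt Y.obj), AlgSp.Points.mk k = y → GeomRedFib f.hom k,
      ∀ (k : AlgSp.FieldPt Y.obj), AlgSp.Points.mk k = y → RedOver f.hom k.toHom].TFAE := by
  tfae_have 1 → 2 := by
    rintro ⟨k, hk, H⟩ k₁ hk₁
    exact geomRedFib_of_rel X.property Y.property f.hom
      (Points.mk_eq_mk_iff.1 (hk.trans hk₁.symm)) H
  tfae_have 2 → 1 := by
    intro H
    obtain ⟨k, hk⟩ := Points.mk_surjective y
    exact ⟨k, hk, H k hk⟩
  tfae_have 2 → 3 := by
    intro H k hk
    have h1 := GeomRedFib.redOver X.property Y.property f.hom (H k hk) (K' := k.K) (𝟙 k.pt)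
    rwa [CategoryTheory.Functor.map_id, Category.id_comp] at h1
  tfae_have 3 → 2 := by
    intro H k hk k' _ φ
    have h1 := H (extPt k k' φ) ((mk_extPt k k' φ).trans hk)
    rw [extPt_toHom] at h1
    exact h1
  tfae_finish

end Groth.Agent.Lib.Helper5.SpGRC
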