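import Mathlib
import Groth.Agent.Lib.Helper5SpGRC
import Groth.Agent.Lib.Helper5SpFibLscB
import Groth.Agent.Lib.Helper22GRpb
import Groth.Agent.Lib.Helper6GRProper
import Groth.Agent.Lib.Helper9ChartIndep

/-!
# Openness of the locus of geometrically reduced fibres for proper flat finitely presented
morphisms of algebraic spaces (helper5)

* `gRAt_precomp_iff`: geometric reducedness of the fibre at a point is invariant under etale
  precomposition;
* `etSqInv_gRAt`: invariance under etale squares;
* `main10682`: the openness theorem.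
-/

set_option autoImplicit false
set_option linter.style.haveILetI false
set_option backward.isDefEq.respectTransparency false
universe u
open CategoryTheory CategoryTheory.Limits AlgebraicGeometry Opposite

namespace Groth.Agent.Lib.Helper5.SpGRD

open AlgSp Groth.Agent.Lib.Helper9.SpPoint Groth.Agent.Lib.Helper9.ChartIndep
  Groth.Agent.Lib.Helper5.SpGRA Groth.Agent.Lib.Helper5.SpGRB Groth.Agent.Lib.Helper5.SpGRC
  Groth.Agent.Lib.Helper5.SpGorC Groth.Agent.Lib.Helper5.SpGorF Groth.Agent.Lib.Helper5.SpFibLscB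
  Groth.Agent.Lib.Helper22.SC

/-- geometric reducedness at a point of a fibre is invariant under etale precomposition -/
theorem isGeomReducedAt_precomp_iff {U' U V : Scheme.{u}} (e : U' ⟶ U) [Etale e] (h : U ⟶ V)
    (v : V) (u' : U') (hu : h (e u') = v) (hu' : (e ≫ h) u' = v) :
    FBase.IsGeomReducedAt ((e ≫ h).fiberToSpecResidueField v)
        (((e ≫ h).fiberHomeo v).symm ⟨u', hu'⟩) ↔
      FBase.IsGeomReducedAt (h.fiberToSpecResidueField v) ((h.fiberHomeo v).symm ⟨e u', hu⟩) := by
  have hw : ((e ≫ h).fiberι v ≫ e) ≫ h =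
      (e ≫ h).fiberToSpecResidueField v ≫ V.fromSpecResidueField v := by
    rw [Category.assoc]
    exact (e ≫ h).fiber_fac v
  let ē : (e ≫ h).fiber v ⟶ h.fiber v := pullback.lift _ _ hw
  have hē1 : ē ≫ h.fiberι v = (e ≫ h).fiberι v ≫ e := pullback.lift_fst _ _ _
  have hē2 : ē ≫ h.fiberToSpecResidueField v = (e ≫ h).fiberToSpecResidueField v :=
    pullback.lift_snd _ _ _
  have hsq : IsPullback ē ((e ≫ h).fiberι v) (h.fiberι v) e := by
    have hR : IsPullback (h.fiberToSpecResidueField v) (h.fiberι v) (V.fromSpecResidueField v) h :=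
      (IsPullback.of_hasPullback h (V.fromSpecResidueField v)).flip
    have hL : IsPullback ((e ≫ h).fiberToSpecResidueField v) ((e ≫ h).fiberι v)
        (V.fromSpecResidueField v) (e ≫ h) :=
      (IsPullback.of_hasPullback (e ≫ h) (V.fromSpecResidueField v)).flip
    refine IsPullback.of_right ?_ hē1 hR
    rw [hē2]
    exact hL
  haveI : Etale ē := MorphismProperty.of_isPullback (P := @Etale) hsq.flip inferInstance
  have key := Groth.Agent.Lib.Helper12.GeomRed.isGeomReducedAt_iff_of_etale ē
    (h.fiberToSpecResidueField v) (((e ≫ h).fiberHomeo v).symm ⟨u', hu'⟩)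
  rw [hē2] at key
  rw [key]
  have hpt : ē (((e ≫ h).fiberHomeo v).symm ⟨u', hu'⟩) =
      (h.fiberHomeo v).symm ⟨e u', hu⟩ := by
    apply (h.fiberι v).isEmbedding.injective
    rw [← Scheme.Hom.comp_apply, hē1, Scheme.Hom.comp_apply, Scheme.Hom.fiberι_fiberHomeo_symm,
      Scheme.Hom.fiberι_fiberHomeo_symm]
  rw [hpt]

/-- geometric reducedness of the fibre at a point is invariant under etale precomposition -/
theorem gRAt_precomp_iff {U' U V : Scheme.{u}} (e : U' ⟶ U) [Etale e] (h : U ⟶ V) (u' : U') :
    GRAt (e ≫ h) u' ↔ GRAt h (e u') := by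
  have hv : (e ≫ h) u' = h (e u') := rfl
  rw [gRAt_iff (e ≫ h) u' (h (e u')) hv, gRAt_iff h (e u') (h (e u')) rfl]
  exact isGeomReducedAt_precomp_iff e h (h (e u')) u' rfl hv

/-- geometric reducedness of the fibre at a point is invariant under etale squares -/
theorem etSqInv_gRAt : EtSqInv.{u} (fun _ _ h u => GRAt h u) := by
  intro U U' V V' h h' a b ha hb hcomm u'
  haveI := ha
  haveI := hb
  apply propext
  let e : U' ⟶ pullback h b := pullback.lift a h' hcomm.symm
  have he1 : e ≫ pullback.fst h b = a := pullback.lift_fst _ _ _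
  have he2 : e ≫ pullback.snd h b = h' := pullback.lift_snd _ _ _
  haveI : Etale (pullback.fst h b) :=
    MorphismProperty.pullback_fst (P := @Etale) _ _ inferInstance
  haveI : Etale (e ≫ pullback.fst h b) := by rw [he1]; infer_instance
  haveI : Etale e := MorphismProperty.of_postcomp (W := @Etale) (W' := @Etale) e
    (pullback.fst h b) inferInstance inferInstance
  have h1 := gRAt_precomp_iff e (pullback.snd h b) u'
  rw [he2] at h1
  have h2 := gRAt_iff_of_isPullback (IsPullback.of_hasPullback h b) (e u')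
  rw [← Scheme.Hom.comp_apply, he1] at h2
  exact (h1.trans h2).symm

variable {S : Scheme.{u}}

theorem main10682 {X Y : AlgSp.Space S} (f : X ⟶ Y)
    (hf1 : AlgSp.LocP @Flat f.hom) (hf2 : AlgSp.IsProperMor f.hom)
    (hf3 : AlgSp.IsFinitePresentationMor f.hom) :
    IsOpen {y : AlgSp.Points Y.obj | ∀ (k : AlgSp.FieldPt Y.obj), AlgSp.Points.mk k = y →
      GeomRedFib f.hom k} := by
  obtain ⟨-, -, huc⟩ := hf2
  have hclosed : IsClosedMap (Points.map f.hom) :=
    huc Y.property (𝟙 _) (𝟙 _) f.hom (IsPullback.of_horiz_isIso ⟨by simp⟩)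
  have hG : IsOpen {x : Points X.obj | HasAtMor (fun _ _ h u => GRAt h u) f.hom x} := by
    rw [isOpen_iff_forall_mem_open]
    rintro x ⟨U, V, a, b, h, u, ha, hb, hc, hu, hQ⟩
    haveI : Flat h.left := hf1 a b h ha hb hc
    haveI : LocallyOfFinitePresentation h.left := hf3.1 a b h ha hb hc
    refine ⟨Points.ofPt a '' {u' : U.left | GRAt h.left u'}, ?_, ?_, ?_⟩
    · rintro _ ⟨u', hu', rfl⟩
      exact ⟨U, V, a, b, h, u', ha, hb, hc, rfl, hu'⟩
    · exact isOpenMap_ofPt (EtOver.mk a ha) _
        (Groth.Agent.Lib.Helper6.FibRkOpen.isOpen_geomReduced h.left)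
    · exact ⟨u, hQ, hu⟩
  have hcl := hclosed _ hG.isClosed_compl
  convert hcl.isOpen_compl using 1
  ext y
  simp only [Set.mem_ofPred_eq, Set.mem_compl_iff, Set.mem_image, not_exists, not_and]
  obtain ⟨V, b, hb, hbs⟩ := Y.property.atlas
  obtain ⟨U, a, h, hc, ha, hφe, hφs⟩ :=
    exists_atlas_diagram_over X.property Y.property f.hom b hb
  have hfs : RepWith @Surjective (pullback.fst f.hom b) :=
    MorphismProperty.of_isPullback (P := AlgSp.RepWith @Surjective)
      (IsPullback.of_hasPullback f.hom b).flip hbs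
  have has : RepWith @Surjective a := by
    have := (repWith_isMultiplicative (S := S) @Surjective).comp_mem _ _ hφs hfs
    rwa [pullback.lift_fst] at this
  constructor
  · intro H x hx hxy
    apply hx
    obtain ⟨u, hu⟩ := Groth.Agent.S10177.surjective_ofPt a has x
    have hy' : Points.ofPt b (h.left u) = y := by
      rw [← map_ofPt_chart f.hom a b h hc u, hu, hxy]
    have h1 := (forall_geomRedFib_ofPt_iff X.property Y.property f.hom a b h hc hφe hφs
      (h.left u)).1 (by rw [hy']; exact H)
    rw [Groth.Agent.Lib.Helper6.GRProper.geometricallyReduced_fibre_iff] at h1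
    exact ⟨U, V, a, b, h, u, ha, hb, hc, hu, h1 u rfl⟩
  · intro H
    obtain ⟨v, hv⟩ := Groth.Agent.S10177.surjective_ofPt b hbs y
    have h1 : GeometricallyReduced (h.left.fiberToSpecResidueField v) := by
      rw [Groth.Agent.Lib.Helper6.GRProper.geometricallyReduced_fibre_iff]
      intro u hu
      have hxy : Points.map f.hom (Points.ofPt a u) = y := by
        rw [map_ofPt_chart f.hom a b h hc u, hu, hv]
      have h2 : HasAtMor (fun _ _ h u => GRAt h u) f.hom (Points.ofPt a u) := by
        by_contra hne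
        exact H _ hne hxy
      exact (hasAtMor_iff (fun _ _ h u => GRAt h u) etSqInv_gRAt (fun p => p) f.hom a b h u
        ha hb hc).1 h2
    have h3 := (forall_geomRedFib_ofPt_iff X.property Y.property f.hom a b h hc hφe hφs v).2 h1
    rw [hv] at h3
    exact h3

end Groth.Agent.Lib.Helper5.SpGRD
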