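import Mathlib
import Groth.Agent.Lib.Helper5SpGorE
import Groth.Agent.Lib.Helper3IndEtHz
import Groth.Agent.Lib.Helper3IndEtFlat
import Groth.Agent.Lib.Helper3ShQuot
import Groth.Agent.Lib.Helper12Flat

/-!
# Gorenstein at a point and strict henselizations (helper5)

Ring-level comparison for a local homomorphism `ψ : A → B` of local rings and a compatible local
homomorphism `φ : A' → B'` of strict henselizations:

* `flat_sh_iff`: `ψ` is flat iff `φ` is flat;
* `map_maximalIdeal_sh`: `m_{A'} B' = (m_A B) B'`;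
* `gor_quot_sh_iff`: `B' / m_{A'} B'` is Gorenstein iff `B / m_A B` is (when the latter is
  Noetherian).
-/

set_option autoImplicit false
set_option linter.style.haveILetI false
set_option backward.isDefEq.respectTransparency false
universe u
open IsLocalRing LocCoh

namespace Groth.Agent.Lib.Helper5.SpGorG

open Groth.Agent.Lib.Helper5.FiberMor

variable {A B A' B' : Type u} [CommRing A] [IsLocalRing A] [CommRing B] [IsLocalRing B]
  [CommRing A'] [IsLocalRing A'] [CommRing B'] [IsLocalRing B']
  [Algebra A A'] [IsLocalHom (algebraMap A A')] [Hensel.IsStrictHenselization A A']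
  [Algebra B B'] [IsLocalHom (algebraMap B B')] [Hensel.IsStrictHenselization B B']
  (ψ : A →+* B) (φ : A' →+* B')
  (hφ : φ.comp (algebraMap A A') = (algebraMap B B').comp ψ)

include hφ

/-- flatness of a local homomorphism can be tested on strict henselizations -/
theorem flat_sh_iff : ψ.Flat ↔ φ.Flat := by
  letI i1 : Algebra A B := ψ.toAlgebra
  letI i2 : Algebra A' B' := φ.toAlgebra
  letI i3 : Algebra A B' := ((algebraMap B B').comp ψ).toAlgebra
  haveI t1 : IsScalarTower A B B' := IsScalarTower.of_algebraMap_eq (fun _ => rfl)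
  haveI t2 : IsScalarTower A A' B' := IsScalarTower.of_algebraMap_eq (fun r => by
    have := congr($hφ r)
    exact this.symm)
  haveI f1 : Module.FaithfullyFlat A A' := Groth.Agent.Lib.Helper3.HzP.sh_faithfullyFlat A A'
  haveI f2 : Module.FaithfullyFlat B B' := Groth.Agent.Lib.Helper3.HzP.sh_faithfullyFlat B B'
  constructor
  · intro hψ
    haveI : Module.Flat A B := hψ
    haveI : Module.Flat A B' := Module.Flat.trans A B B'
    exact (Groth.Agent.Lib.Helper3.IndEt.flat_iff_of_isIndEtale
      (Groth.Agent.Lib.Helper3.IndEt.isIndEtale_of_isStrictHenselization A A') B').mp inferInstance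
  · intro hφ'
    haveI : Module.Flat A' B' := hφ'
    haveI : Module.Flat A B' := Module.Flat.trans A A' B'
    exact Groth.Agent.Lib.Helper12.flat_of_faithfullyFlat_of_flat_comp A B B'

theorem map_maximalIdeal_sh :
    (maximalIdeal A').map φ = ((maximalIdeal A).map ψ).map (algebraMap B B') := by
  rw [← Groth.Agent.Lib.Helper3.HzP.sh_map_maximalIdeal A A', Ideal.map_map, Ideal.map_map, hφ]

/-- the closed fibre ring of `φ` is Gorenstein iff the closed fibre ring of `ψ` is -/
theorem gor_quot_sh_iff [IsLocalHom ψ] [IsNoetherianRing (B ⧸ (maximalIdeal A).map ψ)] :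
    IsGorensteinLocalRing (B' ⧸ (maximalIdeal A').map φ) ↔
      IsGorensteinLocalRing (B ⧸ (maximalIdeal A).map ψ) := by
  have hI := map_maximalIdeal_sh ψ φ hφ
  have hne : (maximalIdeal A).map ψ ≠ ⊤ :=
    ne_top_of_le_ne_top (Ideal.IsMaximal.ne_top (I := maximalIdeal B) inferInstance)
      (((IsLocalRing.local_hom_TFAE ψ).out 0 2).mp (inferInstance : IsLocalHom ψ))
  have hne' : ((maximalIdeal A).map ψ).map (algebraMap B B') ≠ ⊤ := by
    refine ne_top_of_le_ne_top (Ideal.IsMaximal.ne_top (I := maximalIdeal B') inferInstance) ?_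
    refine (Ideal.map_mono (le_maximalIdeal hne)).trans ?_
    exact ((IsLocalRing.local_hom_TFAE (algebraMap B B')).out 0 2).mp
      (inferInstance : IsLocalHom (algebraMap B B'))
  generalize (maximalIdeal A).map ψ = I at *
  haveI : IsLocalRing (B ⧸ I) := Groth.Agent.Lib.Helper5.isLocalRing_quotient hne
  haveI : IsLocalRing (B' ⧸ I.map (algebraMap B B')) :=
    Groth.Agent.Lib.Helper5.isLocalRing_quotient hne'
  haveI hm1 := Groth.Agent.Lib.Helper3.ShQuot.isLocalHom_mk I
  haveI hm2 := Groth.Agent.Lib.Helper3.ShQuot.isLocalHom_mk (I.map (algebraMap B B'))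
  haveI : IsLocalHom (algebraMap (B ⧸ I) (B' ⧸ I.map (algebraMap B B'))) := by
    refine ⟨fun x hx => ?_⟩
    obtain ⟨x, rfl⟩ := Ideal.Quotient.mk_surjective x
    have h1 : IsUnit (Ideal.Quotient.mk (I.map (algebraMap B B')) (algebraMap B B' x)) := hx
    have h2 : IsUnit (algebraMap B B' x) := isUnit_of_map_unit _ _ h1
    have h3 : IsUnit x := isUnit_of_map_unit _ _ h2
    exact h3.map _
  haveI := Groth.Agent.Lib.Helper3.ShQuot.isStrictHenselization_quotient (A := B) (S := B') I
  have e : (B' ⧸ (maximalIdeal A').map φ) ≃+* (B' ⧸ I.map (algebraMap B B')) :=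
    Ideal.quotEquivOfEq hI
  refine Iff.trans ⟨isoInv_gor _ _ e, isoInv_gor _ _ e.symm⟩ ?_
  exact Groth.Agent.Lib.Helper5.SpGorE.gor_sh_iff (B ⧸ I) (B' ⧸ I.map (algebraMap B B'))

end Groth.Agent.Lib.Helper5.SpGorG
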