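import Mathlib
import Groth.Prelude.Def_AlgSp4
import Groth.Prelude.Def_AlgSpDec
import Groth.Agent.Lib.Helper6SepClosedPts
import Groth.Agent.S10177

set_option autoImplicit false
universe u
open CategoryTheory CategoryTheory.Limits AlgebraicGeometry

namespace Groth.Agent.Lib.Helper5.SpSepPts

open AlgSp

attribute [local instance] Curv2.resAlgebra

/-- changing the structure morphism of a field point along an equality. -/
lemma exists_val_of_str_eq {S : Scheme.{u}} {F : Sp S} {K : Type u} [Field K]
    {str str' : Spec (CommRingCat.of K) ⟶ S} (e : str' = str)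
    (val : F.obj.obj (Opposite.op (Over.mk str))) :
    ∃ v : F.obj.obj (Opposite.op (Over.mk str')),
      Points.mk (⟨K, str', v⟩ : FieldPt F) = Points.mk ⟨K, str, val⟩ := by
  subst e
  exact ⟨val, rfl⟩

variable {k : Type u} [Field k]

/-- in an algebraic space smooth over a field, the points with finite separable residue
field are dense. -/
theorem dense_finite_separable_points {X : Sp (Spec (CommRingCat.of k))} (hX : IsAlgSpace X)
    (p : X ⟶ (yon (Spec (CommRingCat.of k))).obj (Over.mk (𝟙 _))) (hp : LocP @Smooth p) :
    Dense {x : Points X | ∃ (k' : Type u) (_ : Field k') (_ : Algebra k k'),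
      Module.Finite k k' ∧ Algebra.IsSeparable k k' ∧
        ∃ v : X.obj.obj (Opposite.op (Over.mk (Spec.map (CommRingCat.ofHom (algebraMap k k'))))),
          Points.mk ⟨k', Spec.map (CommRingCat.ofHom (algebraMap k k')), v⟩ = x} := by
  have hpt : IsTerminal ((yon (Spec (CommRingCat.of k))).obj (Over.mk (𝟙 _))) :=
    IsTerminal.isTerminalObj (yon _) _ Over.mkIdTerminal
  obtain ⟨U, a, hae, has⟩ := hX.atlas
  have hsm : Smooth (Over.mkIdTerminal.from U).left :=
    hp a (𝟙 _) (Over.mkIdTerminal.from U) hae (repWith_id @Etale _) (hpt.hom_ext _ _)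
  letI : U.left.Over (Spec (CommRingCat.of k)) := ⟨U.hom⟩
  haveI : Smooth (U.left ↘ Spec (CommRingCat.of k)) := by
    have e : (Over.mkIdTerminal.from U).left = U.hom := by simp
    rw [e] at hsm
    exact hsm
  have hD := Groth.Agent.Lib.Helper6.SepClosedPts.dense_closed_separable k U.left
  have hD' := (Groth.Agent.S10177.surjective_ofPt a has).denseRange.dense_image
    (Points.continuous_ofPt a) hD
  refine hD'.mono ?_
  rintro _ ⟨u, ⟨-, hfin, hsep⟩, rfl⟩
  refine ⟨U.left.residueField u, inferInstance, Curv2.resAlgebra k U.left u, hfin, hsep, ?_⟩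
  have e : Spec.map (CommRingCat.ofHom (algebraMap k (U.left.residueField u))) =
      U.left.fromSpecResidueField u ≫ U.hom :=
    Groth.Agent.Lib.Helper6.GeomComp.specMap_resMap k U.left u
  exact exists_val_of_str_eq e _

end Groth.Agent.Lib.Helper5.SpSepPts
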