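import Mathlib
import Groth.Agent.Lib.Helper5SpGorE
import Groth.Agent.Lib.Helper20SubStalk

/-!
# Serre's condition (S_k) on etale charts of algebraic spaces (helper5)

* `FibFieldInv P`: `P B ↔ P A` for flat local homomorphisms `A → B` of Noetherian local rings
  whose closed fibre is a field;
* `stalk_iff_of_etale_fibField`: such a property passes up and down an etale morphism;
* `SkPt k R`: `R` is local with `min(k, dim R) ≤ depth R`; `fibFieldInv_skPt`;
* `chart_transfer`: if some etale surjective chart of `X` is locally Noetherian with all local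
  rings `P`, then so is every etale chart;
* `etaleLocally_Sk_of_isEffCartierSub`: effective Cartier divisors of `(S_k)` spaces are
  `(S_{k-1})`.
-/

set_option autoImplicit false
set_option linter.style.haveILetI false
set_option backward.isDefEq.respectTransparency false
universe u
open CategoryTheory CategoryTheory.Limits AlgebraicGeometry Opposite IsLocalRing

namespace Groth.Agent.Lib.Helper5.SpSkA

open AlgSp Groth.Agent.Lib.Helper5.FiberMor Groth.Agent.Lib.Helper5.FiberRing
  Groth.Agent.Lib.Helper5.FieldFib Groth.Agent.Lib.Helper5.FiberStalk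
  Groth.Agent.Lib.Helper5.GorFlat LocCoh

/-- `P B ↔ P A` for flat local homomorphisms of Noetherian local rings with closed fibre a field -/
def FibFieldInv (P : ∀ (R : Type u) [CommRing R], Prop) : Prop :=
  ∀ (A B F : Type u) [CommRing A] [CommRing B] [CommRing F] [IsLocalRing A] [IsNoetherianRing A]
    [IsLocalRing B] [IsNoetherianRing B] [IsLocalRing F] [Algebra A B]
    [IsLocalHom (algebraMap A B)] [Module.Flat A B] (π : B →+* F), Function.Surjective π →
    RingHom.ker π = (maximalIdeal A).map (algebraMap A B) → IsField F → (P B ↔ P A)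

variable {P : ∀ (R : Type u) [CommRing R], Prop}

/-- a property insensitive to flat local homomorphisms with field fibre passes up and down an etale
morphism -/
theorem stalk_iff_of_etale_fibField {U X : Scheme.{u}} [IsLocallyNoetherian X] (a : U ⟶ X)
    [Etale a] (u : U) (hP : FibFieldInv P) :
    P (U.presheaf.stalk u) ↔ P (X.presheaf.stalk (a u)) := by
  haveI : IsLocallyNoetherian U := LocallyOfFiniteType.isLocallyNoetherian a
  have hfl : (a.stalkMap u).hom.Flat := Flat.stalkMap a u
  letI := (a.stalkMap u).hom.toAlgebra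
  haveI : IsLocalHom (algebraMap (X.presheaf.stalk (a u)) (U.presheaf.stalk u)) :=
    inferInstanceAs (IsLocalHom (a.stalkMap u).hom)
  haveI : Module.Flat (X.presheaf.stalk (a u)) (U.presheaf.stalk u) := hfl
  have hne : (maximalIdeal (X.presheaf.stalk (a u))).map (a.stalkMap u).hom ≠ ⊤ :=
    (IsLocalRing.map_maximalIdeal_lt_top _).ne
  haveI : IsLocalRing (U.presheaf.stalk u ⧸
      (maximalIdeal (X.presheaf.stalk (a u))).map (a.stalkMap u).hom) :=
    isLocalRing_quotient hne
  haveI : Etale (a.fiberToSpecResidueField (a u)) := by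
    dsimp only [Scheme.Hom.fiberToSpecResidueField]
    exact MorphismProperty.pullback_snd (P := @Etale) a _ inferInstance
  have hF0 : IsField ((a.fiber (a u)).presheaf.stalk (a.asFiber u)) :=
    isField_stalk_of_etale_field (X.residueField (a u))
      (a.fiberToSpecResidueField (a u)) (a.asFiber u)
  obtain ⟨e⟩ := nonempty_stalk_asFiber_equiv a u
  have hF : IsField (U.presheaf.stalk u ⧸
      (maximalIdeal (X.presheaf.stalk (a u))).map (a.stalkMap u).hom) :=
    MulEquiv.isField hF0 e.symm.toMulEquiv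
  exact hP (X.presheaf.stalk (a u)) (U.presheaf.stalk u) _ (Ideal.Quotient.mk _)
    Ideal.Quotient.mk_surjective (by rw [Ideal.mk_ker]; rfl) hF

/-- pointwise Serre condition: `R` is local and `min(k, dim R) ≤ depth R` -/
def SkPt (k : ℕ) (R : Type u) [CommRing R] : Prop :=
  ∃ _ : IsLocalRing R, min ((k : ℕ) : WithBot ℕ∞) (ringKrullDim R) ≤
    ((LocCoh.depth R R : ℕ∞) : WithBot ℕ∞)

theorem skPt_iff (k : ℕ) (R : Type u) [CommRing R] [IsLocalRing R] :
    SkPt k R ↔ min ((k : ℕ) : WithBot ℕ∞) (ringKrullDim R) ≤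
      ((LocCoh.depth R R : ℕ∞) : WithBot ℕ∞) :=
  ⟨fun ⟨_, h⟩ => h, fun h => ⟨inferInstance, h⟩⟩

theorem depth_eq_zero_of_isField (F : Type u) [CommRing F] [IsLocalRing F] (hF : IsField F) :
    LocCoh.depth F F = 0 := by
  letI := hF.toField
  haveI : IsNoetherianRing F := inferInstance
  have h := depth_le_height F
  have hm : maximalIdeal F = ⊥ := IsLocalRing.isField_iff_maximalIdeal_eq.mp hF
  rw [hm, Ideal.height_bot] at h
  exact le_antisymm h bot_le

theorem fibFieldInv_skPt (k : ℕ) : FibFieldInv.{u} (SkPt k) := by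
  intro A B F _ _ _ _ _ _ _ _ _ _ _ π hπ hker hF
  have hdim := dim_formula π hπ hker
  have hdep := depth_formula π hπ hker
  rw [ringKrullDim_eq_zero_of_isField hF, zero_add] at hdim
  rw [depth_eq_zero_of_isField F hF, add_zero] at hdep
  rw [skPt_iff, skPt_iff, hdim, hdep]

variable {S : Scheme.{u}}

/-- if some etale surjective chart of `X` is locally Noetherian with all local rings `P`, then so
is every etale chart of `X` -/
theorem chart_transfer (hP : FibFieldInv P) {F : AlgSp.Sp S}
    (hF : EtaleLocally (fun U => IsLocallyNoetherian U ∧ ∀ x : U, P (U.presheaf.stalk x)) F)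
    {U : Over S} (a : (yon S).obj U ⟶ F) (ha : RepWith @Etale a) :
    IsLocallyNoetherian U.left ∧ ∀ x : U.left, P (U.left.presheaf.stalk x) := by
  obtain ⟨V, q, hqe, hqs, hV1, hV2⟩ := hF
  obtain ⟨W, snd, fst', sq⟩ := hqe.1 a
  obtain ⟨fst, rfl⟩ := (yon S).map_surjective fst'
  haveI : Etale snd.left := hqe.2 _ _ snd sq
  haveI : Surjective snd.left := hqs.2 _ _ snd sq
  haveI : Etale fst.left := ha.2 _ _ fst sq.flip
  haveI : IsLocallyNoetherian V.left := hV1
  haveI : IsLocallyNoetherian W.left := LocallyOfFiniteType.isLocallyNoetherian fst.left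
  haveI : IsLocallyNoetherian U.left :=
    Groth.Agent.Lib.Helper12.NoethDescent.isLocallyNoetherian_of_flat_lfp_surjective snd.left
  refine ⟨inferInstance, fun u => ?_⟩
  obtain ⟨w, rfl⟩ := snd.left.surjective u
  have h1 : P (W.left.presheaf.stalk w) :=
    (stalk_iff_of_etale_fibField (X := V.left) fst.left w hP).mpr (hV2 _)
  exact (stalk_iff_of_etale_fibField (X := U.left) snd.left w hP).mp h1

/-- effective Cartier divisors of `(S_k)` algebraic spaces are `(S_{k-1})` -/
theorem etaleLocally_Sk_of_isEffCartierSub {X D : AlgSp.Sp S} (k : ℕ)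
    (hX : AlgSp.EtaleLocally (fun U => IsLocallyNoetherian U ∧ ∀ x : ↥U,
        min ((k : ℕ) : WithBot ℕ∞) (ringKrullDim ↥(U.presheaf.stalk x)) ≤
          ((LocCoh.depth ↥(U.presheaf.stalk x) ↥(U.presheaf.stalk x) : ℕ∞) : WithBot ℕ∞)) X)
    (i : D ⟶ X) (hD : AlgSp.IsEffCartierSub i) :
    AlgSp.EtaleLocally (fun V => IsLocallyNoetherian V ∧ ∀ v : ↥V,
        min ((k - 1 : ℕ) : WithBot ℕ∞) (ringKrullDim ↥(V.presheaf.stalk v)) ≤
          ((LocCoh.depth ↥(V.presheaf.stalk v) ↥(V.presheaf.stalk v) : ℕ∞) : WithBot ℕ∞)) D := by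
  obtain ⟨-, V, φ, I, fst, hφe, hφs, sq, hI⟩ := hD
  have hX' : EtaleLocally (fun U => IsLocallyNoetherian U ∧
      ∀ x : U, SkPt k (U.presheaf.stalk x)) X := by
    obtain ⟨U, p, hpe, hps, hU1, hU2⟩ := hX
    exact ⟨U, p, hpe, hps, hU1, fun x => (skPt_iff k _).mpr (hU2 x)⟩
  obtain ⟨hV1, hV2⟩ := chart_transfer (fibFieldInv_skPt k) hX' φ hφe
  haveI : IsLocallyNoetherian V.left := hV1
  refine ⟨Over.mk (I.subschemeι ≫ V.hom), fst,
    MorphismProperty.of_isPullback (P := AlgSp.RepWith @Etale) sq.flip hφe,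
    MorphismProperty.of_isPullback (P := AlgSp.RepWith @Surjective) sq.flip hφs, ?_, ?_⟩
  · show IsLocallyNoetherian I.subscheme
    exact LocallyOfFiniteType.isLocallyNoetherian I.subschemeι
  · intro d
    exact Groth.Agent.Lib.Helper20.SubStalk.effCartier_Sk_of_Sk_succ k
      (fun x => (skPt_iff k _).mp (hV2 x)) I hI d

end Groth.Agent.Lib.Helper5.SpSkA
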