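import Mathlib
import Groth.Agent.Lib.Helper5SpSkA
import Groth.Agent.Lib.Helper28Normal
import Groth.Agent.Lib.Helper28SkLift

/-!
# Normal implies (S_2), pointwise; effective Cartier divisors of normal spaces are (S_1) (helper5)
-/

set_option autoImplicit false
set_option linter.style.haveILetI false
set_option backward.isDefEq.respectTransparency false
universe u
open CategoryTheory CategoryTheory.Limits AlgebraicGeometry Opposite IsLocalRing

namespace Groth.Agent.Lib.Helper5.SpSkB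

open AlgSp Groth.Agent.Lib.Helper5.SpSkA LocCoh

theorem withBot_enat_le_one_of_lt_two (a : WithBot ℕ∞) (h : a < 2) : a ≤ 1 := by
  induction a using WithBot.recBotCoe with
  | bot => exact bot_le
  | coe a =>
    have h1 : a < 2 :=
      WithBot.coe_lt_coe.mp (h : ((a : ℕ∞) : WithBot ℕ∞) < ((2 : ℕ∞) : WithBot ℕ∞))
    have h2 : a ≤ 1 := by
      have : (2 : ℕ∞) = 1 + 1 := by norm_num
      rw [this] at h1
      exact Order.le_of_lt_add_one h1
    exact (WithBot.coe_le_coe.mpr h2 : ((a : ℕ∞) : WithBot ℕ∞) ≤ ((1 : ℕ∞) : WithBot ℕ∞))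

/-- a normal Noetherian local domain satisfies `min(2, dim) ≤ depth` -/
theorem s2_of_normal (A : Type u) [CommRing A] [IsLocalRing A] [IsNoetherianRing A] [IsDomain A]
    [IsIntegrallyClosed A] :
    min ((2 : ℕ) : WithBot ℕ∞) (ringKrullDim A) ≤ ((LocCoh.depth A A : ℕ∞) : WithBot ℕ∞) := by
  by_cases hdim : (2 : WithBot ℕ∞) ≤ ringKrullDim A
  · have h2 := Groth.Agent.Lib.Helper28.two_le_depth_of_isIntegrallyClosed_of_two_le_dim hdim
    refine (min_le_left _ _).trans ?_
    have h2' : ((2 : ℕ∞) : WithBot ℕ∞) ≤ ((LocCoh.depth A A : ℕ∞) : WithBot ℕ∞) :=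
      WithBot.coe_le_coe.mpr h2
    exact h2'
  · push Not at hdim
    by_cases hm : maximalIdeal A = ⊥
    · have hf : IsField A := IsLocalRing.isField_iff_maximalIdeal_eq.mpr hm
      rw [ringKrullDim_eq_zero_of_isField hf]
      refine (min_le_right _ _).trans ?_
      exact_mod_cast (bot_le : (0 : ℕ∞) ≤ LocCoh.depth A A)
    · obtain ⟨a, ham, ha0⟩ := Submodule.exists_mem_ne_zero_of_ne_bot hm
      have hreg : IsSMulRegular A a := (IsRegular.of_ne_zero ha0).isSMulRegular
      have hne : Ideal.span {a} ≠ ⊤ :=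
        ne_top_of_le_ne_top (Ideal.IsMaximal.ne_top (I := maximalIdeal A) inferInstance)
          ((Ideal.span_singleton_le_iff_mem _).mpr ham)
      haveI : IsLocalRing (A ⧸ Ideal.span {a}) := Groth.Agent.Lib.Helper5.isLocalRing_quotient hne
      have h1 := Groth.Agent.Lib.Helper28.depth_quotient_span_singleton_add_one a ham hreg
      have h2 : (1 : ℕ∞) ≤ LocCoh.depth A A := by
        rw [← h1]; exact le_add_self
      refine (min_le_right _ _).trans ((withBot_enat_le_one_of_lt_two _ hdim).trans ?_)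
      exact (WithBot.coe_le_coe.mpr h2 :
        ((1 : ℕ∞) : WithBot ℕ∞) ≤ ((LocCoh.depth A A : ℕ∞) : WithBot ℕ∞))

variable {S : Scheme.{u}}

/-- effective Cartier divisors of normal locally Noetherian algebraic spaces are `(S_1)` -/
theorem etaleLocally_S1_of_isEffCartierSub_of_normal {X D : AlgSp.Sp S}
    (hX : AlgSp.EtaleLocally (fun U => IsLocallyNoetherian U ∧ Pi1.IsNormalScheme U) X)
    (i : D ⟶ X) (hD : AlgSp.IsEffCartierSub i) :
    AlgSp.EtaleLocally (fun V => IsLocallyNoetherian V ∧ ∀ v : ↥V,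
        min ((1 : ℕ) : WithBot ℕ∞) (ringKrullDim ↥(V.presheaf.stalk v)) ≤
          ((LocCoh.depth ↥(V.presheaf.stalk v) ↥(V.presheaf.stalk v) : ℕ∞) : WithBot ℕ∞)) D := by
  have hX' : AlgSp.EtaleLocally (fun U => IsLocallyNoetherian U ∧ ∀ x : ↥U,
        min ((2 : ℕ) : WithBot ℕ∞) (ringKrullDim ↥(U.presheaf.stalk x)) ≤
          ((LocCoh.depth ↥(U.presheaf.stalk x) ↥(U.presheaf.stalk x) : ℕ∞) : WithBot ℕ∞)) X := by
    obtain ⟨U, p, hpe, hps, hU1, hU2⟩ := hX
    refine ⟨U, p, hpe, hps, hU1, fun x => ?_⟩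
    haveI : IsLocallyNoetherian U.left := hU1
    obtain ⟨h1, h2⟩ := hU2 x
    haveI := h1
    haveI := h2
    exact s2_of_normal _
  exact etaleLocally_Sk_of_isEffCartierSub 2 hX' i hD

end Groth.Agent.Lib.Helper5.SpSkB
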