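import Mathlib

/-!
# Splitting an object of a triangulated category with t-structure along a gap
-/

set_option autoImplicit false
universe u v
open CategoryTheory CategoryTheory.Limits

namespace Groth.Agent.Lib.Helper5.Split

open Pretriangulated Triangulated

variable {C : Type u} [Category.{v} C] [Preadditive C] [HasZeroObject C] [HasShift C ℤ]
  [∀ (n : ℤ), (shiftFunctor C n).Additive] [Pretriangulated C] (t : TStructure C)

theorem split_of_retracts (X G Y : C) (i : ℤ) [t.IsGE G (i + 1)] [t.IsLE Y (i - 1)]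
    (a : X ⟶ G) (b : G ⟶ X) (c : X ⟶ Y) (d : Y ⟶ X)
    (hba : b ≫ a = 𝟙 G) (hdc : d ≫ c = 𝟙 Y) (hsum : a ≫ b + c ≫ d = 𝟙 X) :
    Nonempty ((t.truncGE (i + 1)).obj X ≅ G) ∧
      ∀ [HasBinaryBiproduct ((t.truncGE (i + 1)).obj X) ((t.truncLT i).obj X)],
        ∃ e : X ≅ (t.truncGE (i + 1)).obj X ⊞ (t.truncLT i).obj X,
          e.hom ≫ biprod.fst = (t.truncGEπ (i + 1)).app X ∧
            (t.truncLTι i).app X ≫ e.hom = biprod.inr := by
  have hbc : b ≫ c = 0 := by
    have h1 : b ≫ (a ≫ b + c ≫ d) = b := by rw [hsum, Category.comp_id]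
    rw [Preadditive.comp_add, ← Category.assoc, hba, Category.id_comp] at h1
    have h2 : b ≫ c ≫ d = 0 := by simpa using h1
    calc b ≫ c = b ≫ c ≫ (d ≫ c) := by rw [hdc, Category.comp_id]
      _ = (b ≫ c ≫ d) ≫ c := by simp only [Category.assoc]
      _ = 0 := by rw [h2, zero_comp]
  have hab : a ≫ b = 𝟙 X - c ≫ d := by rw [← hsum]; abel
  have hcd : c ≫ d = 𝟙 X - a ≫ b := by rw [← hsum]; abel
  obtain ⟨πX, hπX⟩ : ∃ πX : X ⟶ (t.truncGE (i + 1)).obj X, πX = (t.truncGEπ (i + 1)).app X :=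
    ⟨_, rfl⟩
  obtain ⟨ιX, hιX⟩ : ∃ ιX : (t.truncLT i).obj X ⟶ X, ιX = (t.truncLTι i).app X := ⟨_, rfl⟩
  obtain ⟨a', ha'⟩ : ∃ a' : (t.truncGE (i + 1)).obj X ⟶ G, πX ≫ a' = a := by
    rw [hπX]
    exact ⟨t.descTruncGE a (i + 1), t.π_descTruncGE a (i + 1)⟩
  obtain ⟨d', hd'⟩ : ∃ d' : Y ⟶ (t.truncLT i).obj X, d' ≫ ιX = d := by
    rw [hιX]
    exact ⟨t.liftTruncLT d (i - 1) i (by omega), t.liftTruncLT_ι d (i - 1) i (by omega)⟩
  have hdπ : d ≫ πX = 0 := t.zero _ (i - 1) (i + 1) (by omega)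
  have hιa : ιX ≫ a = 0 := t.zero _ (i - 1) (i + 1) (by omega)
  have hιπ : ιX ≫ πX = 0 := t.zero _ (i - 1) (i + 1) (by omega)
  have H1 : πX ≫ (a' ≫ b) + (c ≫ d') ≫ ιX = 𝟙 X := by
    rw [← Category.assoc, ha', Category.assoc, hd', hsum]
  have hX : (a ≫ b) ≫ πX = πX := by
    rw [hab, Preadditive.sub_comp, Category.assoc, hdπ, comp_zero, sub_zero]
    exact Category.id_comp _
  have hX' : ιX ≫ (c ≫ d) = ιX := by
    rw [hcd, Preadditive.comp_sub, ← Category.assoc, hιa, zero_comp, sub_zero]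
    exact Category.comp_id _
  have H2 : (a' ≫ b) ≫ πX = 𝟙 _ := by
    apply t.from_truncGE_obj_ext
    rw [← hπX]
    have e1 : πX ≫ (a' ≫ b) ≫ πX = (a ≫ b) ≫ πX := by
      rw [← ha']; simp only [Category.assoc]
    exact (e1.trans hX).trans (Category.comp_id _).symm
  have H3 : ιX ≫ (c ≫ d') = 𝟙 _ := by
    apply t.to_truncLT_obj_ext
    rw [← hιX]
    have e1 : (ιX ≫ (c ≫ d')) ≫ ιX = ιX ≫ (c ≫ d) := by
      rw [← hd']; simp only [Category.assoc]
    exact (e1.trans hX').trans (Category.id_comp _).symm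
  have H4 : (a' ≫ b) ≫ (c ≫ d') = 0 := by
    rw [Category.assoc, ← Category.assoc b, hbc, zero_comp, comp_zero]
  refine ⟨⟨{ hom := a'
             inv := b ≫ πX
             hom_inv_id := by rw [← Category.assoc]; exact H2
             inv_hom_id := by rw [Category.assoc, ha', hba] }⟩, ?_⟩
  intro _
  rw [← hπX, ← hιX]
  refine ⟨{ hom := biprod.lift πX (c ≫ d')
            inv := biprod.desc (a' ≫ b) ιX
            hom_inv_id := by rw [biprod.lift_desc]; exact H1
            inv_hom_id := ?_ }, biprod.lift_fst _ _, ?_⟩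
  · apply biprod.hom_ext'
    · apply biprod.hom_ext
      · simp only [biprod.inl_desc_assoc, Category.assoc, biprod.lift_fst, Category.comp_id,
          biprod.inl_fst]
        exact (Category.assoc _ _ _).symm.trans H2
      · simp only [biprod.inl_desc_assoc, Category.assoc, biprod.lift_snd, Category.comp_id,
          biprod.inl_snd]
        exact (Category.assoc _ _ _).symm.trans H4
    · apply biprod.hom_ext
      · simp only [biprod.inr_desc_assoc, Category.assoc, biprod.lift_fst, Category.comp_id,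
          biprod.inr_fst]
        exact hιπ
      · simp only [biprod.inr_desc_assoc, Category.assoc, biprod.lift_snd, Category.comp_id,
          biprod.inr_snd]
        exact H3
  · apply biprod.hom_ext
    · simp only [Category.assoc, biprod.lift_fst, biprod.inr_fst]
      exact hιπ
    · simp only [Category.assoc, biprod.lift_snd, biprod.inr_snd]
      exact H3

end Groth.Agent.Lib.Helper5.Split
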