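import Mathlib

/-!
# Splitting a three-term complex of finite free modules near a prime

If `M1 → M2 → M3` is a complex with `M2`, `M3` finite free whose fibre at a prime `p` is exact in the
middle, then over some `R_f`, `f ∉ p`, the identity of the middle term is `φ s + t ψ`.
-/

set_option autoImplicit false
universe u
open TensorProduct

namespace Groth.Agent.Lib.Helper5.Split

section Local

variable {A : Type*} [CommRing A] [IsLocalRing A]
  {N1 N2 N3 : Type*} [AddCommGroup N1] [AddCommGroup N2] [AddCommGroup N3]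
  [Module A N1] [Module A N2] [Module A N3]
  [Module.Finite A N2] [Module.Projective A N2] [Module.Finite A N3] [Module.Free A N3]

theorem local_split (φ : N1 →ₗ[A] N2) (ψ : N2 →ₗ[A] N3) (h0 : ψ ∘ₗ φ = 0)
    (hex : Function.Exact (φ.lTensor (IsLocalRing.ResidueField A))
      (ψ.lTensor (IsLocalRing.ResidueField A))) :
    ∃ (s : N2 →ₗ[A] N1) (t : N3 →ₗ[A] N2), φ ∘ₗ s + t ∘ₗ ψ = LinearMap.id := by
  classical
  obtain ⟨P, hP⟩ : ∃ P : Submodule A N2, P = LinearMap.range φ := ⟨_, rfl⟩
  have hle : P ≤ LinearMap.ker ψ := by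
    rw [hP]
    rintro _ ⟨x, rfl⟩
    exact LinearMap.congr_fun h0 x
  obtain ⟨ψb, hψb⟩ : ∃ ψb : (N2 ⧸ P) →ₗ[A] N3, ψb ∘ₗ P.mkQ = ψ := ⟨P.liftQ ψ hle, P.liftQ_mkQ ψ hle⟩
  have hmφ : P.mkQ ∘ₗ φ = 0 := by
    apply LinearMap.ext
    intro x
    rw [LinearMap.comp_apply, LinearMap.zero_apply, Submodule.mkQ_apply,
      Submodule.Quotient.mk_eq_zero, hP]
    exact LinearMap.mem_range_self φ x
  have hinj : Function.Injective (ψb.lTensor (IsLocalRing.ResidueField A)) := by
    rw [injective_iff_map_eq_zero]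
    intro x hx
    obtain ⟨y, rfl⟩ := LinearMap.lTensor_surjective (IsLocalRing.ResidueField A)
      (Submodule.mkQ_surjective P) x
    have h1 : ψ.lTensor (IsLocalRing.ResidueField A) y = 0 := by
      rw [← hψb, LinearMap.lTensor_comp]
      exact hx
    obtain ⟨z, rfl⟩ := (hex y).1 h1
    rw [← LinearMap.comp_apply, ← LinearMap.lTensor_comp, hmφ, LinearMap.lTensor_zero,
      LinearMap.zero_apply]
  obtain ⟨l', hl'⟩ :=
    (IsLocalRing.split_injective_iff_lTensor_residueField_injective ψb).2 hinj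
  haveI : Module.Projective A (N2 ⧸ P) := Module.Projective.of_split ψb l' hl'
  obtain ⟨σ, hσ⟩ := Module.projective_lifting_property P.mkQ (LinearMap.id : (N2 ⧸ P) →ₗ[A] _)
    (Submodule.mkQ_surjective P)
  have hσ' : ∀ y, P.mkQ (σ y) = y := fun y => LinearMap.congr_fun hσ y
  have hmem : ∀ x : N2, ((LinearMap.id : N2 →ₗ[A] N2) - σ ∘ₗ P.mkQ) x ∈ LinearMap.range φ := by
    intro x
    rw [← hP, ← Submodule.Quotient.mk_eq_zero P, ← Submodule.mkQ_apply, LinearMap.sub_apply,
      map_sub, LinearMap.comp_apply, hσ', LinearMap.id_apply, sub_self]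
  obtain ⟨s, hs⟩ := Module.projective_lifting_property φ.rangeRestrict
    (((LinearMap.id : N2 →ₗ[A] N2) - σ ∘ₗ P.mkQ).codRestrict (LinearMap.range φ) hmem)
    (LinearMap.surjective_rangeRestrict φ)
  refine ⟨s, σ ∘ₗ l', ?_⟩
  apply LinearMap.ext
  intro x
  have h1 : φ (s x) = x - σ (P.mkQ x) := by
    have := congrArg Subtype.val (LinearMap.congr_fun hs x)
    exact this
  have h2 : l' (ψ x) = P.mkQ x := by
    rw [← hψb]
    exact LinearMap.congr_fun hl' (P.mkQ x)
  rw [LinearMap.add_apply, LinearMap.comp_apply, LinearMap.comp_apply, LinearMap.comp_apply, h1,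
    h2, LinearMap.id_apply, sub_add_cancel]

end Local

section Nat

variable {R : Type*} [CommRing R] {A : Type*} [CommRing A] [Algebra R A]
  {k : Type*} [CommRing k] [Algebra A k] [Algebra R k] [IsScalarTower R A k]
  {M M' : Type*} [AddCommGroup M] [AddCommGroup M'] [Module R M] [Module R M']

theorem cancel_nat (φ : M →ₗ[R] M') (x : k ⊗[A] (A ⊗[R] M)) :
    AlgebraTensorModule.cancelBaseChange R A k k M' ((φ.baseChange A).lTensor k x) =
      φ.baseChange k (AlgebraTensorModule.cancelBaseChange R A k k M x) := by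
  induction x using TensorProduct.induction_on with
  | zero => simp only [map_zero]
  | tmul c y =>
    induction y using TensorProduct.induction_on with
    | zero => simp only [tmul_zero, map_zero]
    | tmul a m =>
      simp only [LinearMap.lTensor_tmul, LinearMap.baseChange_tmul,
        AlgebraTensorModule.cancelBaseChange_tmul]
    | add y1 y2 h1 h2 => simp only [tmul_add, map_add, h1, h2]
  | add x1 x2 h1 h2 => simp only [map_add, h1, h2]

theorem exact_lTensor_of_exact_baseChange {M'' : Type*} [AddCommGroup M''] [Module R M'']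
    (φ : M →ₗ[R] M') (ψ : M' →ₗ[R] M'')
    (hex : Function.Exact (φ.baseChange k) (ψ.baseChange k)) :
    Function.Exact ((φ.baseChange A).lTensor k) ((ψ.baseChange A).lTensor k) := by
  intro y
  constructor
  · intro hy
    have h1 : ψ.baseChange k (AlgebraTensorModule.cancelBaseChange R A k k M' y) = 0 := by
      rw [← cancel_nat, hy, map_zero]
    obtain ⟨z, hz⟩ := (hex _).1 h1
    obtain ⟨x, rfl⟩ := (AlgebraTensorModule.cancelBaseChange R A k k M).surjective z
    refine ⟨x, ?_⟩
    apply (AlgebraTensorModule.cancelBaseChange R A k k M').injective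
    rw [cancel_nat, hz]
  · rintro ⟨x, rfl⟩
    apply (AlgebraTensorModule.cancelBaseChange R A k k M'').injective
    rw [cancel_nat, cancel_nat, map_zero]
    exact (hex _).2 ⟨_, rfl⟩

end Nat

section Global

variable {R : Type u} [CommRing R] (p : Ideal R) [p.IsPrime]
  {M1 M2 M3 : Type u} [AddCommGroup M1] [AddCommGroup M2] [AddCommGroup M3]
  [Module R M1] [Module R M2] [Module R M3]
  [Module.Finite R M2] [Module.Free R M2] [Module.Finite R M3] [Module.Free R M3]

theorem exists_away_split (φ : M1 →ₗ[R] M2) (ψ : M2 →ₗ[R] M3) (h0 : ψ ∘ₗ φ = 0)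
    (hex : Function.Exact (φ.baseChange p.ResidueField) (ψ.baseChange p.ResidueField)) :
    ∃ f : R, f ∉ p ∧
      ∃ (s : Localization.Away f ⊗[R] M2 →ₗ[Localization.Away f] Localization.Away f ⊗[R] M1)
        (t : Localization.Away f ⊗[R] M3 →ₗ[Localization.Away f] Localization.Away f ⊗[R] M2),
        φ.baseChange (Localization.Away f) ∘ₗ s + t ∘ₗ ψ.baseChange (Localization.Away f) =
          LinearMap.id := by
  classical
  haveI : Module.FinitePresentation R M2 := Module.finitePresentation_of_projective R M2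
  haveI : Module.FinitePresentation R M3 := Module.finitePresentation_of_projective R M3
  have hexA := exact_lTensor_of_exact_baseChange (A := Localization.AtPrime p)
    (k := p.ResidueField) φ ψ hex
  obtain ⟨s', t', hst⟩ := local_split (φ.baseChange (Localization.AtPrime p))
    (ψ.baseChange (Localization.AtPrime p))
    (by rw [← LinearMap.baseChange_comp, h0, LinearMap.baseChange_zero]) hexA
  have hst' : ∀ y, φ.baseChange (Localization.AtPrime p) (s' y) +
      t' (ψ.baseChange (Localization.AtPrime p) y) = y := fun y => LinearMap.congr_fun hst y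
  obtain ⟨s0, c1, hs0⟩ := Module.FinitePresentation.exists_lift_of_isLocalizedModule p.primeCompl
    (TensorProduct.mk R (Localization.AtPrime p) M1 1)
    ((s'.restrictScalars R) ∘ₗ (TensorProduct.mk R (Localization.AtPrime p) M2 1))
  obtain ⟨t0, c2, ht0⟩ := Module.FinitePresentation.exists_lift_of_isLocalizedModule p.primeCompl
    (TensorProduct.mk R (Localization.AtPrime p) M2 1)
    ((t'.restrictScalars R) ∘ₗ (TensorProduct.mk R (Localization.AtPrime p) M3 1))
  have hs0' : ∀ x : M2, (1 : Localization.AtPrime p) ⊗ₜ[R] (s0 x) =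
      (c1 : R) • s' ((1 : Localization.AtPrime p) ⊗ₜ[R] x) := fun x => LinearMap.congr_fun hs0 x
  have ht0' : ∀ x : M3, (1 : Localization.AtPrime p) ⊗ₜ[R] (t0 x) =
      (c2 : R) • t' ((1 : Localization.AtPrime p) ⊗ₜ[R] x) := fun x => LinearMap.congr_fun ht0 x
  have key : (TensorProduct.mk R (Localization.AtPrime p) M2 1) ∘ₗ
      ((c2 : R) • (φ ∘ₗ s0) + (c1 : R) • (t0 ∘ₗ ψ)) =
      (TensorProduct.mk R (Localization.AtPrime p) M2 1) ∘ₗ
        (((c1 : R) * (c2 : R)) • (LinearMap.id : M2 →ₗ[R] M2)) := by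
    apply LinearMap.ext
    intro x
    have e1 : (1 : Localization.AtPrime p) ⊗ₜ[R] (φ (s0 x)) =
        (c1 : R) • φ.baseChange (Localization.AtPrime p) (s' ((1 : Localization.AtPrime p) ⊗ₜ[R] x)) := by
      rw [← LinearMap.baseChange_tmul, hs0', LinearMap.map_smul_of_tower]
    have e2 : (1 : Localization.AtPrime p) ⊗ₜ[R] (t0 (ψ x)) =
        (c2 : R) • t' (ψ.baseChange (Localization.AtPrime p) ((1 : Localization.AtPrime p) ⊗ₜ[R] x)) := by
      rw [ht0', LinearMap.baseChange_tmul]
    simp only [LinearMap.comp_apply, LinearMap.add_apply, LinearMap.smul_apply, TensorProduct.mk_apply,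
      LinearMap.id_apply, tmul_add, tmul_smul, e1, e2]
    rw [smul_smul, smul_smul, mul_comm (c2 : R) (c1 : R), ← smul_add, hst']
  obtain ⟨c3, hc3⟩ := Module.Finite.exists_smul_of_comp_eq_of_isLocalizedModule p.primeCompl
    (TensorProduct.mk R (Localization.AtPrime p) M2 1) _ _ key
  have hc3' : ∀ x : M2, (c3 : R) • ((c2 : R) • φ (s0 x) + (c1 : R) • t0 (ψ x)) =
      (c3 : R) • (((c1 : R) * (c2 : R)) • x) := fun x => LinearMap.congr_fun hc3 x
  refine ⟨((c1 * c2 * c3 : p.primeCompl) : R), (c1 * c2 * c3).2, ?_⟩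
  obtain ⟨f, hf⟩ : ∃ f : R, f = ((c1 * c2 * c3 : p.primeCompl) : R) := ⟨_, rfl⟩
  rw [← hf]
  have hf' : f = (c1 : R) * (c2 : R) * (c3 : R) := by
    rw [hf]; simp only [Submonoid.coe_mul]
  have hR : φ ∘ₗ (((c2 : R) * (c3 : R)) • s0) + (((c1 : R) * (c3 : R)) • t0) ∘ₗ ψ =
      f • (LinearMap.id : M2 →ₗ[R] M2) := by
    apply LinearMap.ext
    intro x
    have := hc3' x
    simp only [LinearMap.add_apply, LinearMap.comp_apply, LinearMap.smul_apply, LinearMap.id_apply,
      map_smul]
    rw [smul_add, smul_smul, smul_smul, smul_smul] at this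
    rw [hf', mul_comm (c2 : R) (c3 : R), mul_comm (c1 : R) (c3 : R), this, mul_comm]
  obtain ⟨v, hv⟩ : ∃ v : Localization.Away f, algebraMap R (Localization.Away f) f * v = 1 :=
    ⟨IsLocalization.Away.invSelf f, IsLocalization.Away.mul_invSelf f⟩
  refine ⟨v • (((c2 : R) * (c3 : R)) • s0).baseChange (Localization.Away f),
    v • (((c1 : R) * (c3 : R)) • t0).baseChange (Localization.Away f), ?_⟩
  rw [LinearMap.comp_smul, LinearMap.smul_comp, ← LinearMap.baseChange_comp,
    ← LinearMap.baseChange_comp, ← smul_add, ← LinearMap.baseChange_add, hR,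
    LinearMap.baseChange_smul, LinearMap.baseChange_id]
  apply LinearMap.ext
  intro y
  rw [LinearMap.smul_apply, LinearMap.smul_apply, LinearMap.id_apply,
    ← algebraMap_smul (Localization.Away f) f y, smul_smul, mul_comm, hv, one_smul]

end Global

end Groth.Agent.Lib.Helper5.Split
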