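import Mathlib

/-!
# Chain level: a contraction in one degree splits a complex into its parts above and below
-/

set_option autoImplicit false
universe u
open CategoryTheory CategoryTheory.Limits
attribute [local instance] HasDerivedCategory.standard

namespace Groth.Agent.Lib.Helper5.Split

section Chain

variable {C : Type*} [Category C] [Preadditive C] (K : CochainComplex C ℤ)

/-- the family with a single nonzero entry `g : K.X q ⟶ K.X p`. -/
noncomputable def sing (p q : ℤ) (g : K.X q ⟶ K.X p) : ∀ j j' : ℤ, K.X j ⟶ K.X j' :=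
  fun j j' => if h : j = q ∧ j' = p then
    eqToHom (by rw [h.1]) ≫ g ≫ eqToHom (by rw [h.2]) else 0

lemma sing_self (p q : ℤ) (g : K.X q ⟶ K.X p) : sing K p q g q p = g := by
  rw [sing, dif_pos ⟨rfl, rfl⟩, eqToHom_refl, eqToHom_refl, Category.id_comp, Category.comp_id]

lemma sing_ne (p q : ℤ) (g : K.X q ⟶ K.X p) (j j' : ℤ) (h : ¬ (j = q ∧ j' = p)) :
    sing K p q g j j' = 0 := dif_neg h

/-- the null homotopic endomorphism attached to a single entry. -/
noncomputable def nh (p q : ℤ) (g : K.X q ⟶ K.X p) : K ⟶ K :=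
  Homotopy.nullHomotopicMap (sing K p q g)

lemma nh_f_left (p q : ℤ) (h : p + 1 = q) (g : K.X q ⟶ K.X p) :
    (nh K p q g).f p = K.d p q ≫ g := by
  have h1 := Homotopy.nullHomotopicMap_f (c := ComplexShape.up ℤ) (k₂ := p - 1) (k₁ := p)
    (k₀ := q) (by simp) h (sing K p q g)
  rw [nh, h1, sing_self, sing_ne K p q g p (p - 1) (by omega), zero_comp, add_zero]

lemma nh_f_right (p q : ℤ) (h : p + 1 = q) (g : K.X q ⟶ K.X p) :
    (nh K p q g).f q = g ≫ K.d p q := by
  have h1 := Homotopy.nullHomotopicMap_f (c := ComplexShape.up ℤ) (k₂ := p) (k₁ := q)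
    (k₀ := q + 1) h rfl (sing K p q g)
  rw [nh, h1, sing_self, sing_ne K p q g (q + 1) q (by omega), comp_zero, zero_add]

lemma nh_f_ne (p q : ℤ) (h : p + 1 = q) (g : K.X q ⟶ K.X p) (j : ℤ) (h1 : j ≠ p)
    (h2 : j ≠ q) : (nh K p q g).f j = 0 := by
  have h3 := Homotopy.nullHomotopicMap_f (c := ComplexShape.up ℤ) (k₂ := j - 1) (k₁ := j)
    (k₀ := j + 1) (by simp) rfl (sing K p q g)
  rw [nh, h3, sing_ne K p q g (j + 1) j (by omega), sing_ne K p q g j (j - 1) (by omega),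
    comp_zero, zero_comp, add_zero]

variable {K}

/-- the part of `γ` above degree `n`. -/
noncomputable def above (γ : K ⟶ K) (n : ℤ) (hγ : γ.f n = 0) : K ⟶ K where
  f j := if n < j then γ.f j else 0
  comm' j j' hjj' := by
    have hjj : j + 1 = j' := hjj'
    by_cases h1 : n < j
    · have h2 : n < j' := by omega
      rw [if_pos h1, if_pos h2]
      exact γ.comm j j'
    · rw [if_neg h1, zero_comp]
      by_cases h2 : n < j'
      · have h3 : j = n := by omega
        subst h3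
        rw [if_pos h2, ← γ.comm _ j', hγ, zero_comp]
      · rw [if_neg h2, comp_zero]

/-- the part of `γ` below degree `n`. -/
noncomputable def below (γ : K ⟶ K) (n : ℤ) (hγ : γ.f n = 0) : K ⟶ K where
  f j := if j < n then γ.f j else 0
  comm' j j' hjj' := by
    have hjj : j + 1 = j' := hjj'
    by_cases h2 : j' < n
    · have h1 : j < n := by omega
      rw [if_pos h1, if_pos h2]
      exact γ.comm j j'
    · rw [if_neg h2, comp_zero]
      by_cases h1 : j < n
      · have h3 : j' = n := by omega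
        subst h3
        rw [if_pos h1, γ.comm j _, hγ, comp_zero]
      · rw [if_neg h1, zero_comp]

lemma above_f (γ : K ⟶ K) (n : ℤ) (hγ : γ.f n = 0) (j : ℤ) :
    (above γ n hγ).f j = if n < j then γ.f j else 0 := rfl

lemma below_f (γ : K ⟶ K) (n : ℤ) (hγ : γ.f n = 0) (j : ℤ) :
    (below γ n hγ).f j = if j < n then γ.f j else 0 := rfl

lemma above_add_below (γ : K ⟶ K) (n : ℤ) (hγ : γ.f n = 0) :
    above γ n hγ + below γ n hγ = γ := by
  ext j
  rw [HomologicalComplex.add_f_apply, above_f, below_f]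
  rcases lt_trichotomy j n with h | h | h
  · rw [if_neg (by omega), if_pos h, zero_add]
  · subst h
    rw [if_neg (lt_irrefl _), hγ, add_zero]
  · rw [if_pos h, if_neg (by omega), add_zero]

lemma above_idem (γ : K ⟶ K) (n : ℤ) (hγ : γ.f n = 0) (h : γ ≫ γ = γ) :
    above γ n hγ ≫ above γ n hγ = above γ n hγ := by
  ext j
  rw [HomologicalComplex.comp_f, above_f]
  by_cases h1 : n < j
  · rw [if_pos h1, ← HomologicalComplex.comp_f, h]
  · rw [if_neg h1, zero_comp]

lemma below_idem (γ : K ⟶ K) (n : ℤ) (hγ : γ.f n = 0) (h : γ ≫ γ = γ) :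
    below γ n hγ ≫ below γ n hγ = below γ n hγ := by
  ext j
  rw [HomologicalComplex.comp_f, below_f]
  by_cases h1 : j < n
  · rw [if_pos h1, ← HomologicalComplex.comp_f, h]
  · rw [if_neg h1, zero_comp]

variable (K)

/-- the null homotopic idempotent attached to a contraction in degree `i`. -/
theorem exists_idem (i : ℤ) (s : K.X i ⟶ K.X (i - 1)) (t : K.X (i + 1) ⟶ K.X i)
    (hst : s ≫ K.d (i - 1) i + K.d i (i + 1) ≫ t = 𝟙 (K.X i)) :
    (nh K (i - 1) i s + nh K i (i + 1) t).f i = 𝟙 (K.X i) ∧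
      (nh K (i - 1) i s + nh K i (i + 1) t) ≫ (nh K (i - 1) i s + nh K i (i + 1) t) =
        nh K (i - 1) i s + nh K i (i + 1) t := by
  obtain ⟨N, hN⟩ : ∃ N : K ⟶ K, N = nh K (i - 1) i s + nh K i (i + 1) t := ⟨_, rfl⟩
  rw [← hN]
  have hsd : s ≫ K.d (i - 1) i = 𝟙 (K.X i) - K.d i (i + 1) ≫ t := eq_sub_of_add_eq hst
  have hdt : K.d i (i + 1) ≫ t = 𝟙 (K.X i) - s ≫ K.d (i - 1) i := eq_sub_of_add_eq' hst
  have hN1 : N.f (i - 1) = K.d (i - 1) i ≫ s := by
    rw [hN, HomologicalComplex.add_f_apply, nh_f_left K (i - 1) i (by omega) s,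
      nh_f_ne K i (i + 1) rfl t (i - 1) (by omega) (by omega), add_zero]
  have hNi : N.f i = 𝟙 (K.X i) := by
    rw [hN, HomologicalComplex.add_f_apply, nh_f_right K (i - 1) i (by omega) s,
      nh_f_left K i (i + 1) rfl t, hst]
  have hN2 : N.f (i + 1) = t ≫ K.d i (i + 1) := by
    rw [hN, HomologicalComplex.add_f_apply, nh_f_right K i (i + 1) rfl t,
      nh_f_ne K (i - 1) i (by omega) s (i + 1) (by omega) (by omega), zero_add]
  have hN0 : ∀ j : ℤ, j ≠ i - 1 → j ≠ i → j ≠ i + 1 → N.f j = 0 := by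
    intro j h1 h2 h3
    rw [hN, HomologicalComplex.add_f_apply, nh_f_ne K (i - 1) i (by omega) s j h1 h2,
      nh_f_ne K i (i + 1) rfl t j h2 h3, add_zero]
  refine ⟨hNi, ?_⟩
  ext j
  rw [HomologicalComplex.comp_f]
  by_cases h1 : j = i - 1
  · subst h1
    rw [hN1]
    calc (K.d (i - 1) i ≫ s) ≫ K.d (i - 1) i ≫ s
        = K.d (i - 1) i ≫ (s ≫ K.d (i - 1) i) ≫ s := by simp only [Category.assoc]
      _ = K.d (i - 1) i ≫ s := by
        rw [hsd, Preadditive.sub_comp, Preadditive.comp_sub, Category.id_comp, Category.assoc,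
          K.d_comp_d_assoc, zero_comp, sub_zero]
  · by_cases h2 : j = i
    · subst h2
      rw [hNi, Category.comp_id]
    · by_cases h3 : j = i + 1
      · subst h3
        rw [hN2]
        calc (t ≫ K.d i (i + 1)) ≫ t ≫ K.d i (i + 1)
            = t ≫ (K.d i (i + 1) ≫ t) ≫ K.d i (i + 1) := by simp only [Category.assoc]
          _ = t ≫ K.d i (i + 1) := by
            rw [hdt, Preadditive.sub_comp, Preadditive.comp_sub, Category.id_comp, Category.assoc,
              K.d_comp_d, comp_zero, comp_zero, sub_zero]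
      · rw [hN0 j h1 h2 h3, zero_comp]

end Chain

section Mod

open DerivedCategory

variable {S : Type u} [CommRing S] (E : CochainComplex (ModuleCat.{u} S) ℤ)

lemma Q_nh (p q : ℤ) (h : p + 1 = q) (g : E.X q ⟶ E.X p) : Q.map (nh E p q g) = 0 := by
  have hz : ∀ j j' : ℤ, ¬ (ComplexShape.up ℤ).Rel j' j → sing E p q g j j' = 0 := by
    intro j j' hjj'
    have h' : ¬ (j' + 1 = j) := hjj'
    exact sing_ne E p q g j j' (by omega)
  exact (DerivedCategory.Q_map_eq_of_homotopy _ (Homotopy.nullHomotopy _ hz)).trans (Q.map_zero _ _)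

theorem chain_split (i : ℤ) (s : E.X i ⟶ E.X (i - 1)) (t : E.X (i + 1) ⟶ E.X i)
    (hst : s ≫ E.d (i - 1) i + E.d i (i + 1) ≫ t = 𝟙 (E.X i)) :
    ∃ (G Y : CochainComplex (ModuleCat.{u} S) ℤ) (a : Q.obj E ⟶ Q.obj G) (b : Q.obj G ⟶ Q.obj E)
      (c : Q.obj E ⟶ Q.obj Y) (d : Q.obj Y ⟶ Q.obj E),
      b ≫ a = 𝟙 _ ∧ d ≫ c = 𝟙 _ ∧ a ≫ b + c ≫ d = 𝟙 _ ∧
      (∀ j : ℤ, j ≤ i → IsZero (G.X j)) ∧ (∀ j : ℤ, i ≤ j → IsZero (Y.X j)) ∧
      (∀ j : ℤ, ∃ (u : G.X j ⟶ E.X j) (v : E.X j ⟶ G.X j), u ≫ v = 𝟙 _) := by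
  obtain ⟨hNi, hNN⟩ := exists_idem E i s t hst
  obtain ⟨N, hN⟩ : ∃ N : E ⟶ E, N = nh E (i - 1) i s + nh E i (i + 1) t := ⟨_, rfl⟩
  rw [← hN] at hNi hNN
  have hQN : Q.map N = 0 := by
    rw [hN, Functor.map_add, Q_nh E (i - 1) i (by omega) s, Q_nh E i (i + 1) rfl t, add_zero]
  obtain ⟨ε, hε⟩ : ∃ ε : E ⟶ E, ε = 𝟙 E - N := ⟨_, rfl⟩
  have hεi : ε.f i = 0 := by
    rw [hε, HomologicalComplex.sub_f_apply, HomologicalComplex.id_f, hNi, sub_self]
  have hεε : ε ≫ ε = ε := by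
    rw [hε, Preadditive.sub_comp, Preadditive.comp_sub, Preadditive.comp_sub, Category.id_comp,
      Category.id_comp, Category.comp_id, hNN, sub_self, sub_zero]
  have hQε : Q.map ε = 𝟙 _ := by
    rw [hε, Functor.map_sub, hQN, sub_zero, Q.map_id]
  obtain ⟨G, inG, prG, h1G, h2G⟩ := IsIdempotentComplete.idempotents_split E (above ε i hεi)
    (above_idem ε i hεi hεε)
  obtain ⟨Y, inY, prY, h1Y, h2Y⟩ := IsIdempotentComplete.idempotents_split E (below ε i hεi)
    (below_idem ε i hεi hεε)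
  refine ⟨G, Y, Q.map prG, Q.map inG, Q.map prY, Q.map inY, ?_, ?_, ?_, ?_, ?_, ?_⟩
  · rw [← Q.map_comp, h1G, Q.map_id]
  · rw [← Q.map_comp, h1Y, Q.map_id]
  · rw [← Q.map_comp, ← Q.map_comp, h2G, h2Y, ← Functor.map_add, above_add_below, hQε]
  · intro j hj
    rw [IsZero.iff_id_eq_zero]
    have e1 : 𝟙 (G.X j) = inG.f j ≫ prG.f j := by
      rw [← HomologicalComplex.comp_f, h1G, HomologicalComplex.id_f]
    have e2 : prG.f j ≫ inG.f j = 0 := by
      rw [← HomologicalComplex.comp_f, h2G, above_f, if_neg (by omega)]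
    calc 𝟙 (G.X j) = (inG.f j ≫ prG.f j) ≫ (inG.f j ≫ prG.f j) := by
          rw [← e1, Category.comp_id]
      _ = inG.f j ≫ (prG.f j ≫ inG.f j) ≫ prG.f j := by simp only [Category.assoc]
      _ = 0 := by rw [e2, zero_comp, comp_zero]
  · intro j hj
    rw [IsZero.iff_id_eq_zero]
    have e1 : 𝟙 (Y.X j) = inY.f j ≫ prY.f j := by
      rw [← HomologicalComplex.comp_f, h1Y, HomologicalComplex.id_f]
    have e2 : prY.f j ≫ inY.f j = 0 := by
      rw [← HomologicalComplex.comp_f, h2Y, below_f, if_neg (by omega)]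
    calc 𝟙 (Y.X j) = (inY.f j ≫ prY.f j) ≫ (inY.f j ≫ prY.f j) := by
          rw [← e1, Category.comp_id]
      _ = inY.f j ≫ (prY.f j ≫ inY.f j) ≫ prY.f j := by simp only [Category.assoc]
      _ = 0 := by rw [e2, zero_comp, comp_zero]
  · intro j
    exact ⟨inG.f j, prG.f j, by rw [← HomologicalComplex.comp_f, h1G, HomologicalComplex.id_f]⟩

end Mod

end Groth.Agent.Lib.Helper5.Split
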