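import Mathlib
import Groth.Agent.S2380
import Groth.Agent.Lib.Helper1LBC
import Groth.Agent.Lib.Helper1Extend
import Groth.Agent.Lib.Helper1TorD
import Groth.Agent.Lib.Helper5SplitA
import Groth.Agent.Lib.Helper5SplitB
import Groth.Agent.Lib.Helper5SplitC

/-!
# Splitting the truncations of a pseudo-coherent complex near a prime where a fibre cohomology vanishes
-/

set_option autoImplicit false
universe u
open CategoryTheory CategoryTheory.Limits
attribute [local instance] HasDerivedCategory.standard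

namespace Groth.Agent.Lib.Helper5.Split

open DerivedCategory Groth.Agent.Lib.Helper1.LDer Groth.Agent.Lib.Helper1.Extend TensorProduct
open Groth.Agent.S2380 (bridge bridge_naturality)

section Fibre

variable {R : Type u} [CommRing R]

/-- transfer of exactness along the bridge -/
lemma exact_baseChange_of_exact_ext (S : Type u) [CommRing S] [Algebra R S]
    {M1 M2 M3 : ModuleCat.{u} R} (φ : M1 ⟶ M2) (ψ : M2 ⟶ M3) (h0 : φ ≫ ψ = 0)
    (hex : Function.Exact ((ext R S).map φ).hom ((ext R S).map ψ).hom) :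
    Function.Exact (φ.hom.baseChange S) (ψ.hom.baseChange S) := by
  intro y
  constructor
  · intro hy
    obtain ⟨y', rfl⟩ := (bridge R S M2).surjective y
    have h1 : ((ext R S).map ψ).hom y' = 0 := by
      apply (bridge R S M3).injective
      rw [map_zero]
      exact (bridge_naturality R S ψ y').trans hy
    obtain ⟨z', hz'⟩ := (hex y').1 h1
    refine ⟨bridge R S M1 z', ?_⟩
    rw [← bridge_naturality R S φ z']
    exact congrArg _ hz'
  · rintro ⟨z, rfl⟩
    have h1 : ψ.hom ∘ₗ φ.hom = 0 := by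
      rw [← ModuleCat.hom_comp, h0]
      rfl
    rw [← LinearMap.comp_apply, ← LinearMap.baseChange_comp, h1, LinearMap.baseChange_zero,
      LinearMap.zero_apply]

end Fibre

section Step2

variable {R : Type u} [CommRing R] (S : Type u) [CommRing S] [Algebra R S] [Module.Flat R S]

theorem step2 (E K : DRing.Cx R) (e : Q.obj E ≅ Q.obj K) (b : ℤ) (hb : DRing.VanishesAbove E b)
    (hff : DRing.TermwiseFiniteFree E) (i : ℤ)
    (s_lin : S ⊗[R] (E.X i) →ₗ[S] S ⊗[R] (E.X (i - 1)))
    (t_lin : S ⊗[R] (E.X (i + 1)) →ₗ[S] S ⊗[R] (E.X i))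
    (hst : (E.d (i - 1) i).hom.baseChange S ∘ₗ s_lin + t_lin ∘ₗ (E.d i (i + 1)).hom.baseChange S =
      LinearMap.id) :
    let Kf := DRing.toD (((ModuleCat.extendScalars (algebraMap R S)).mapHomologicalComplex
        (ComplexShape.up ℤ)).obj K)
    let t := (DerivedCategory.TStructure.t : Triangulated.TStructure (Dual.D S))
    let Kge := (t.truncGE (i + 1)).obj Kf
    let Klt := (t.truncLT i).obj Kf
    DRing.IsPerfect S Kge ∧
      (∃ b : ℤ, DRing.HasTorAmplitudeIn S (i + 1) b Kge) ∧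
      ∀ [HasBinaryBiproduct Kge Klt], ∃ e : Kf ≅ Kge ⊞ Klt,
        e.hom ≫ biprod.fst = (t.truncGEπ (i + 1)).app Kf ∧ (t.truncLTι i).app Kf ≫ e.hom = biprod.inr := by
  obtain ⟨Ef, hEf⟩ : ∃ Ef : DRing.Cx S, Ef = (bcCx (algebraMap R S)).obj E := ⟨_, rfl⟩
  obtain ⟨s, hs⟩ : ∃ s : ((bcCx (algebraMap R S)).obj E).X i ⟶ ((bcCx (algebraMap R S)).obj E).X (i - 1),
      ∀ z, bridge R S (E.X (i - 1)) (s.hom z) = s_lin (bridge R S (E.X i) z) :=
    ⟨(ModuleCat.ofHom (X := ((ext R S).obj (E.X i))) (Y := ((ext R S).obj (E.X (i - 1))))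
      ((bridge R S (E.X (i - 1))).symm.toLinearMap ∘ₗ s_lin ∘ₗ
      (bridge R S (E.X i)).toLinearMap) : (ext R S).obj (E.X i) ⟶ (ext R S).obj (E.X (i - 1))),
      fun z => (bridge R S (E.X (i - 1))).apply_symm_apply _⟩
  obtain ⟨t, ht⟩ : ∃ t : ((bcCx (algebraMap R S)).obj E).X (i + 1) ⟶ ((bcCx (algebraMap R S)).obj E).X i,
      ∀ z, bridge R S (E.X i) (t.hom z) = t_lin (bridge R S (E.X (i + 1)) z) :=
    ⟨(ModuleCat.ofHom (X := ((ext R S).obj (E.X (i + 1)))) (Y := ((ext R S).obj (E.X i)))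
      ((bridge R S (E.X i)).symm.toLinearMap ∘ₗ t_lin ∘ₗ
      (bridge R S (E.X (i + 1))).toLinearMap) : (ext R S).obj (E.X (i + 1)) ⟶ (ext R S).obj (E.X i)),
      fun z => (bridge R S (E.X i)).apply_symm_apply _⟩
  have hst_cat : s ≫ ((bcCx (algebraMap R S)).obj E).d (i - 1) i +
      ((bcCx (algebraMap R S)).obj E).d i (i + 1) ≫ t = 𝟙 _ := by
    apply ModuleCat.hom_ext
    apply LinearMap.ext
    intro z
    apply (bridge R S (E.X i)).injective
    have e1 : bridge R S (E.X i) (((ext R S).map (E.d (i - 1) i)).hom (s.hom z)) =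
        (E.d (i - 1) i).hom.baseChange S (s_lin (bridge R S (E.X i) z)) := by
      rw [← hs]
      exact bridge_naturality R S (E.d (i - 1) i) (s.hom z)
    have e2 : bridge R S (E.X i) (t.hom (((ext R S).map (E.d i (i + 1))).hom z)) =
        t_lin ((E.d i (i + 1)).hom.baseChange S (bridge R S (E.X i) z)) := by
      rw [ht]
      exact congrArg t_lin (bridge_naturality R S (E.d i (i + 1)) z)
    have e3 := LinearMap.congr_fun hst (bridge R S (E.X i) z)
    show bridge R S (E.X i) ((((ext R S).map (E.d (i - 1) i)).hom (s.hom z) :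
        ↑((ext R S).obj (E.X i))) +
      (show ↑((ext R S).obj (E.X i)) from t.hom (((ext R S).map (E.d i (i + 1))).hom z))) =
        bridge R S (E.X i) z
    rw [map_add, e1, e2]
    exact e3
  obtain ⟨G, Y, a, b', c, d, hba, hdc, hsum, hG, hY, hret⟩ :=
    chain_split ((bcCx (algebraMap R S)).obj E) i s t hst_cat
  -- transport
  obtain ⟨θ⟩ : Nonempty (Q.obj (((ext R S).mapHomologicalComplex (ComplexShape.up ℤ)).obj K) ≅
      Q.obj ((bcCx (algebraMap R S)).obj E)) :=
    ⟨(mapQIso (ext R S) K).symm ≪≫ (ext R S).mapDerivedCategory.mapIso e.symm ≪≫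
      mapQIso (ext R S) E⟩
  haveI : G.IsStrictlyGE (i + 1) := by
    rw [CochainComplex.isStrictlyGE_iff]
    intro j hj
    exact hG j (by omega)
  haveI : Y.IsStrictlyLE (i - 1) := by
    rw [CochainComplex.isStrictlyLE_iff]
    intro j hj
    exact hY j (by omega)
  haveI : (Q.obj G).IsGE (i + 1) := inferInstance
  haveI : (Q.obj Y).IsLE (i - 1) := inferInstance
  have hsum' : (θ.hom ≫ a) ≫ (b' ≫ θ.inv) + (θ.hom ≫ c) ≫ (d ≫ θ.inv) = 𝟙 _ := by
    have h1 : θ.hom ≫ (a ≫ b' + c ≫ d) ≫ θ.inv = 𝟙 _ := by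
      rw [hsum, Category.id_comp, Iso.hom_inv_id]
    rw [← h1]
    simp only [Preadditive.comp_add, Preadditive.add_comp, Category.assoc]
  obtain ⟨⟨isoG⟩, hbi⟩ := split_of_retracts (DerivedCategory.TStructure.t)
    (Q.obj (((ext R S).mapHomologicalComplex (ComplexShape.up ℤ)).obj K)) (Q.obj G) (Q.obj Y) i
    (θ.hom ≫ a) (b' ≫ θ.inv) (θ.hom ≫ c) (d ≫ θ.inv)
    (by rw [Category.assoc, Iso.inv_hom_id_assoc, hba])
    (by rw [Category.assoc, Iso.inv_hom_id_assoc, hdc]) hsum'
  have hbc := termwiseFiniteFree_bc (algebraMap R S) E hff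
  have hvan : DRing.VanishesOutside G (i + 1) b := by
    intro j hj
    rcases hj with hj | hj
    · exact hG j (by omega)
    · obtain ⟨u, v, huv⟩ := hret j
      have hz : IsZero (((bcCx (algebraMap R S)).obj E).X j) :=
        vanishesAbove_bc (algebraMap R S) E b hb j hj
      rw [IsZero.iff_id_eq_zero, ← huv, hz.eq_of_tgt u 0, zero_comp]
  have hproj : DRing.TermwiseFiniteProjective G := by
    intro j
    obtain ⟨u, v, huv⟩ := hret j
    haveI := (hbc j).1
    haveI := (hbc j).2
    have huv' : v.hom ∘ₗ u.hom = LinearMap.id := by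
      rw [← ModuleCat.hom_comp, huv]
      rfl
    refine ⟨Module.Finite.of_surjective v.hom ?_, Module.Projective.of_split u.hom v.hom huv'⟩
    intro x
    exact ⟨u.hom x, LinearMap.congr_fun huv' x⟩
  refine ⟨⟨G, i + 1, b, hvan, hproj, ⟨isoG.symm⟩⟩, ⟨b, G, hvan, ?_, ⟨isoG.symm⟩⟩, hbi⟩
  intro j
  haveI := (hproj j).2
  infer_instance

end Step2

section Main

theorem main (R : Type u) [CommRing R]
    (p : Ideal R) [p.IsPrime] [DRing.HasLBaseChange (algebraMap R p.ResidueField)] (i : ℤ) (K : DRing.Cx R)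
    (hK : DRing.IsPseudoCoherent' R (DRing.toD K))
    (hi : Subsingleton (Dual.HD p.ResidueField ((DRing.LBaseChange (algebraMap R p.ResidueField)).obj (DRing.toD K)) i)) :
    ∃ f : R, f ∉ p ∧
      let Kf := DRing.toD (((ModuleCat.extendScalars (algebraMap R (Localization.Away f))).mapHomologicalComplex
        (ComplexShape.up ℤ)).obj K)
      let t := (DerivedCategory.TStructure.t : Triangulated.TStructure (Dual.D (Localization.Away f)))
      let Kge := (t.truncGE (i + 1)).obj Kf
      let Klt := (t.truncLT i).obj Kf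
      DRing.IsPerfect (Localization.Away f) Kge ∧
        (∃ b : ℤ, DRing.HasTorAmplitudeIn (Localization.Away f) (i + 1) b Kge) ∧
        ∀ [HasBinaryBiproduct Kge Klt], ∃ e : Kf ≅ Kge ⊞ Klt,
          e.hom ≫ biprod.fst = (t.truncGEπ (i + 1)).app Kf ∧ (t.truncLTι i).app Kf ≫ e.hom = biprod.inr := by
  obtain ⟨E, b, hb, hff, ⟨e⟩⟩ := hK
  haveI : E.IsKProjective := isKProjective_of_vanishesAbove E b hb (fun j => by
    haveI := (hff j).2
    infer_instance)
  have hexκ : ((bcCx (algebraMap R p.ResidueField)).obj E).ExactAt i := by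
    rw [Groth.Agent.Lib.Helper1.Tor.exactAt_iff_isZero_H]
    have iso1 := (homologyFunctor (ModuleCat.{u} p.ResidueField) i).mapIso
      ((lbcIso (algebraMap R p.ResidueField) E).symm ≪≫
        (DRing.LBaseChange (algebraMap R p.ResidueField)).mapIso e)
    have hz : IsZero ((homologyFunctor (ModuleCat.{u} p.ResidueField) i).obj
        ((DRing.LBaseChange (algebraMap R p.ResidueField)).obj (DRing.toD K))) :=
      ModuleCat.isZero_of_subsingleton _
    exact hz.of_iso iso1
  have hsc := (HomologicalComplex.exactAt_iff' _ (i - 1) i (i + 1) (by simp) (by simp)).1 hexκ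
  rw [ShortComplex.ShortExact.moduleCat_exact_iff_function_exact] at hsc
  have hexb := exact_baseChange_of_exact_ext p.ResidueField (E.d (i - 1) i) (E.d i (i + 1))
    (E.d_comp_d _ _ _) hsc
  haveI := (hff i).1
  haveI := (hff i).2
  haveI := (hff (i + 1)).1
  haveI := (hff (i + 1)).2
  have h0 : (E.d i (i + 1)).hom ∘ₗ (E.d (i - 1) i).hom = 0 := by
    rw [← ModuleCat.hom_comp, E.d_comp_d]
    rfl
  obtain ⟨f, hf, s_lin, t_lin, hst⟩ := exists_away_split p (E.d (i - 1) i).hom (E.d i (i + 1)).hom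
    h0 hexb
  exact ⟨f, hf, step2 (Localization.Away f) E K e b hb hff i s_lin t_lin hst⟩

end Main

end Groth.Agent.Lib.Helper5.Split
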