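import Mathlib
import Groth.Agent.Lib.Helper5LocalFlat

/-!
# Flatness in a square of local rings (helper5)
-/

set_option autoImplicit false
universe u
open scoped Pointwise

namespace Groth.Agent.Lib.Helper5

open TensorProduct LinearMap

section

variable {R S S' : Type u} [CommRing R] [CommRing S] [CommRing S'] [Algebra R S] [Algebra S S']
  [Algebra R S'] [IsScalarTower R S S']
  (M : Type u) [AddCommGroup M] [Module S M] [Module R M] [IsScalarTower R S M]

/-- If `M` is `R`-flat and `S'` is `S`-flat then `S' ⊗_S M` is `R`-flat. -/
theorem flat_tensorProduct_of_flat_of_flat [Module.Flat R M] [Module.Flat S S'] :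
    Module.Flat R (S' ⊗[S] M) := by
  rw [Module.Flat.iff_lTensor_injective']
  intro I
  have h1 : Function.Injective (AlgebraTensorModule.lTensor S M I.subtype) := by
    rw [AlgebraTensorModule.coe_lTensor]
    exact Module.Flat.lTensor_preserves_injective_linearMap (M := M) I.subtype
      I.injective_subtype
  have h2 : Function.Injective ((AlgebraTensorModule.lTensor S M I.subtype).lTensor S') :=
    Module.Flat.lTensor_preserves_injective_linearMap (M := S') _ h1
  let e₁ := AlgebraTensorModule.assoc R S S' S' M ↥I
  let e₂ := AlgebraTensorModule.assoc R S S' S' M R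
  have hsq : ∀ t, e₂ (I.subtype.lTensor (S' ⊗[S] M) t) =
      (AlgebraTensorModule.lTensor S M I.subtype).lTensor S' (e₁ t) := by
    intro t
    induction t with
    | zero => simp
    | add a b ha hb => rw [map_add, map_add, ha, hb, map_add, map_add]
    | tmul x i =>
      induction x with
      | zero => simp
      | add a b ha hb => rw [add_tmul, map_add, map_add, ha, hb, map_add, map_add]
      | tmul s m => rfl
  intro t₁ t₂ ht
  apply e₁.injective
  apply h2
  rw [← hsq, ← hsq, ht]

end

end Groth.Agent.Lib.Helper5
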