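import Mathlib
import Groth.Agent.S0563
import Groth.Agent.Lib.Helper21PdLoc
import Groth.Agent.Lib.Helper28RegLoc

/-!
# Higher syzygies over rings of finite global dimension (helper5)

If every module over `R` has projective dimension `≤ k`, then the left end `N 0` of an exact
sequence `0 → N 0 → N 1 → ⋯ → N k` with `N 1, …, N k` projective is projective.
-/

set_option autoImplicit false
universe u
open CategoryTheory

namespace Groth.Agent.Lib.Helper5.Syzygy

open Groth.Agent.Lib.Helper21.PdLoc

section general

variable {R : Type u} [CommRing R] (N : ℕ → Type u) [∀ i, AddCommGroup (N i)]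
  [∀ i, Module R (N i)] (d : ∀ i, N i →ₗ[R] N (i + 1))

theorem pdLT_range (k : ℕ)
    (hproj : ∀ i, 1 ≤ i → i ≤ k → Module.Projective R (N i))
    (hex : ∀ i, i + 1 < k → LinearMap.range (d i) = LinearMap.ker (d (i + 1)))
    (hgl : ∀ (M : Type u) [AddCommGroup M] [Module R M],
      HasProjectiveDimensionLT (ModuleCat.of R M) (k + 1)) :
    ∀ j i : ℕ, i + j + 1 = k →
      HasProjectiveDimensionLT (ModuleCat.of R (LinearMap.range (d i))) (i + 1) := by
  intro j
  induction j with
  | zero =>
    intro i hi
    have hP : Module.Projective R (N (i + 1)) := hproj (i + 1) (by omega) (by omega)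
    have h1 := pdLT_succ_iff_of_ses (R := R) (LinearMap.range (d i)).subtype
      (LinearMap.range (d i)).mkQ (Submodule.subtype_injective _)
      (Submodule.mkQ_surjective _) (LinearMap.exact_subtype_mkQ _) i
    rw [← h1]
    have h2 := hgl (N (i + 1) ⧸ LinearMap.range (d i))
    have h3 : k + 1 = i + 2 := by omega
    rw [h3] at h2
    exact h2
  | succ j ih =>
    intro i hi
    have hP : Module.Projective R (N (i + 1)) := hproj (i + 1) (by omega) (by omega)
    have h0 := ih (i + 1) (by omega)
    have hexact : Function.Exact (LinearMap.range (d i)).subtype (d (i + 1)).rangeRestrict := by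
      intro y
      constructor
      · intro h
        have h' : d (i + 1) y = 0 := by
          have := congrArg Subtype.val h
          simpa using this
        have hy : y ∈ LinearMap.range (d i) := by
          rw [hex i (by omega)]
          exact h'
        exact ⟨⟨y, hy⟩, rfl⟩
      · rintro ⟨z, rfl⟩
        apply Subtype.ext
        have : (z : N (i + 1)) ∈ LinearMap.ker (d (i + 1)) := by
          rw [← hex i (by omega)]
          exact z.2
        simpa using this
    have h1 := pdLT_succ_iff_of_ses (R := R) (LinearMap.range (d i)).subtype
      (d (i + 1)).rangeRestrict (Submodule.subtype_injective _)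
      (LinearMap.surjective_rangeRestrict _) hexact i
    rw [← h1]
    exact h0

theorem projective_zero (k : ℕ)
    (hproj : ∀ i, 1 ≤ i → i ≤ k → Module.Projective R (N i))
    (hinj : Function.Injective (d 0))
    (hex : ∀ i, i + 1 < k → LinearMap.range (d i) = LinearMap.ker (d (i + 1)))
    (hgl : ∀ (M : Type u) [AddCommGroup M] [Module R M],
      HasProjectiveDimensionLT (ModuleCat.of R M) (k + 1)) :
    Module.Projective R (N 0) := by
  rcases Nat.eq_zero_or_pos k with hk | hk
  · subst hk
    exact (pdLT_one_iff (N 0)).mp (hgl (N 0))
  · have h1 := pdLT_range N d k hproj hex hgl (k - 1) 0 (by omega)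
    have h2 : Module.Projective R (LinearMap.range (d 0)) := (pdLT_one_iff _).mp h1
    exact Module.Projective.of_equiv (LinearEquiv.ofInjective (d 0) hinj).symm

end general

section atprime

variable (A : Type u) [CommRing A] [IsRegularLocalRing A]

theorem free_localization (k : ℕ) (N : ℕ → Type u) [∀ i, AddCommGroup (N i)]
    [∀ i, Module A (N i)] [Module.Finite A (N 0)]
    (hfree : ∀ i, 1 ≤ i → i ≤ k → Module.Free A (N i) ∧ Module.Finite A (N i))
    (d : ∀ i, N i →ₗ[A] N (i + 1)) (hinj : Function.Injective (d 0))
    (hex : ∀ i, i + 1 < k → LinearMap.range (d i) = LinearMap.ker (d (i + 1)))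
    (p : Ideal A) [p.IsPrime] (hp : p.height ≤ k) :
    Module.Free (Localization.AtPrime p) (LocalizedModule p.primeCompl (N 0)) := by
  haveI : IsRegularLocalRing (Localization.AtPrime p) :=
    Groth.Agent.Lib.Helper28.isRegularLocalRing_localization_of_isRegularLocalRing A p
  have hdim : ringKrullDim (Localization.AtPrime p) = p.height :=
    IsLocalization.AtPrime.ringKrullDim_eq_height p _
  obtain ⟨h, hh⟩ : ∃ h : ℕ, p.height = h := by
    have : p.height ≠ ⊤ := fun ht => by
      rw [ht] at hp
      exact absurd hp (by simp)
    exact ⟨_, (ENat.natCast_toNat this).symm⟩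
  have hhk : h ≤ k := by
    rw [hh] at hp
    exact_mod_cast hp
  have hdim' : ringKrullDim (Localization.AtPrime p) = h := by
    rw [hdim, hh]
    rfl
  have hgl : ∀ (M : Type u) [AddCommGroup M] [Module (Localization.AtPrime p) M],
      HasProjectiveDimensionLT (ModuleCat.of (Localization.AtPrime p) M) (k + 1) := by
    intro M _ _
    have := Groth.Agent.S0563.result (Localization.AtPrime p) h hdim' M
    exact hasProjectiveDimensionLT_of_ge _ (h + 1) _ (by omega)
  have hproj : Module.Projective (Localization.AtPrime p)
      (LocalizedModule p.primeCompl (N 0)) := by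
    refine projective_zero (R := Localization.AtPrime p)
      (fun i => LocalizedModule p.primeCompl (N i))
      (fun i => LocalizedModule.map p.primeCompl (d i)) k ?_ ?_ ?_ hgl
    · intro i h1 h2
      haveI := (hfree i h1 h2).1
      infer_instance
    · exact LocalizedModule.map_injective p.primeCompl (d 0) hinj
    · intro i hi
      have h1 : Function.Exact (d i) (d (i + 1)) := by
        rw [LinearMap.exact_iff]
        exact (hex i hi).symm
      have h2 := LocalizedModule.map_exact p.primeCompl (d i) (d (i + 1)) h1
      have h3 : Function.Exact (LocalizedModule.map p.primeCompl (d i))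
          (LocalizedModule.map p.primeCompl (d (i + 1))) := h2
      rw [LinearMap.exact_iff] at h3
      exact h3.symm
  exact Module.free_of_flat_of_isLocalRing

end atprime

end Groth.Agent.Lib.Helper5.Syzygy
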