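import Mathlib
import Groth.Agent.Lib.Helper5Conductor
import Groth.Agent.Lib.Helper5KADegree

/-!
# Generators of torsion-free modules over a one-dimensional local domain (helper5)

For a one-dimensional Noetherian local domain `O` with infinite residue field and finite
normalization `B`, there is `x ∈ m` with `m B = x B`; consequently a torsion-free module of
rank `n` needs at most `n * length (B / m B)` generators.
-/

set_option autoImplicit false
universe u

namespace Groth.Agent.Lib.Helper5.TFRank

open Groth.Agent.Lib.Helper5

section principal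

variable (O : Type u) [CommRing O] [IsDomain O] [IsNoetherianRing O] [IsLocalRing O]
  (K : Type u) [Field K] [Algebra O K] [IsFractionRing O K]

omit [IsDomain O] [IsNoetherianRing O] in
/-- avoidance of finitely many proper submodules over a local ring with infinite residue field -/
theorem exists_notMem_of_forall_exists {E : Type u} [AddCommGroup E] [Module O E]
    [Infinite (IsLocalRing.ResidueField O)] {ι : Type*} [Fintype ι] (p : ι → Submodule O E)
    (hp : ∀ i, ∃ y : E, y ∉ p i) : ∃ x : E, ∀ i, x ∉ p i := by
  classical
  by_contra hcon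
  push Not at hcon
  have hcov : ⋃ i ∈ (Finset.univ : Finset ι), (p i : Set E) = Set.univ := by
    ext x
    simp only [Finset.mem_univ, Set.iUnion_true, Set.mem_iUnion, SetLike.mem_coe, Set.mem_univ,
      iff_true]
    exact hcon x
  obtain ⟨i, -, hfi⟩ := Submodule.exists_finiteIndex_of_cover hcov
  have hfin : Finite (E ⧸ p i) := AddSubgroup.finite_quotient_of_finiteIndex
  obtain ⟨y, hy⟩ := hp i
  let g : IsLocalRing.ResidueField O → E ⧸ p i := fun a =>
    Submodule.Quotient.mk (Function.surjInv IsLocalRing.residue_surjective a • y)
  have hg : Function.Injective g := by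
    intro a b hab
    have h1 : (Function.surjInv IsLocalRing.residue_surjective a -
        Function.surjInv IsLocalRing.residue_surjective b) • y ∈ p i := by
      rw [sub_smul, ← Submodule.Quotient.eq]
      exact hab
    have h2 : Function.surjInv IsLocalRing.residue_surjective a -
        Function.surjInv IsLocalRing.residue_surjective b ∈ IsLocalRing.maximalIdeal O := by
      by_contra hnm
      have hu : IsUnit (Function.surjInv IsLocalRing.residue_surjective a -
        Function.surjInv IsLocalRing.residue_surjective b) := by
        by_contra hnu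
        exact hnm ((IsLocalRing.mem_maximalIdeal _).mpr hnu)
      obtain ⟨u, hu⟩ := hu
      apply hy
      have := (p i).smul_mem (↑u⁻¹ : O) h1
      rwa [← hu, smul_smul, Units.inv_mul, one_smul] at this
    have h3 := (IsLocalRing.residue_eq_zero_iff _).mpr h2
    rw [map_sub, Function.surjInv_eq IsLocalRing.residue_surjective,
      Function.surjInv_eq IsLocalRing.residue_surjective, sub_eq_zero] at h3
    exact h3
  have : Infinite (E ⧸ p i) := Infinite.of_injective g hg
  exact not_finite (E ⧸ p i)

/-- a principal reduction of the maximal ideal in the normalization -/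
theorem exists_map_eq_span [Infinite (IsLocalRing.ResidueField O)] (hdim : ringKrullDim O = 1) :
    ∃ x ∈ IsLocalRing.maximalIdeal O, x ≠ 0 ∧
      Ideal.map (algebraMap O (integralClosure O K)) (IsLocalRing.maximalIdeal O) =
        Ideal.span {algebraMap O (integralClosure O K) x} := by
  classical
  have hD : IsDedekindDomain (integralClosure O K) :=
    Conductor.isDedekindDomain_integralClosure (le_of_eq hdim)
  have hfm : Finite (MaximalSpectrum (integralClosure O K)) :=
    Conductor.finite_maximalSpectrum_integralClosure hdim
  have hinj := Conductor.algebraMap_integralClosure_injective (B := O) (K := K)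
  have hmaxfin : {I : Ideal (integralClosure O K) | I.IsMaximal}.Finite := by
    have h1 : {I : Ideal (integralClosure O K) | I.IsMaximal} =
        Set.range (MaximalSpectrum.asIdeal (R := integralClosure O K)) := by
      ext I
      constructor
      · intro hI
        exact ⟨⟨I, hI⟩, rfl⟩
      · rintro ⟨J, rfl⟩
        exact J.isMaximal
    rw [h1]
    exact Set.finite_range _
  have hpid : IsPrincipalIdealRing (integralClosure O K) :=
    IsPrincipalIdealRing.of_finite_maximals hmaxfin
  obtain ⟨π, hπ⟩ := (hpid.principal
    (Ideal.map (algebraMap O (integralClosure O K)) (IsLocalRing.maximalIdeal O))).principal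
  have hπ' : Ideal.map (algebraMap O (integralClosure O K)) (IsLocalRing.maximalIdeal O) =
      Ideal.span {π} := hπ
  -- the maximal ideal is nonzero
  have hOnf : ¬ IsField O := by
    intro hf
    have h0 := ringKrullDim_eq_zero_of_isField hf
    rw [hdim] at h0
    exact one_ne_zero h0
  obtain ⟨u, hum, hu0⟩ : ∃ u ∈ IsLocalRing.maximalIdeal O, u ≠ 0 := by
    by_contra hcon
    push Not at hcon
    apply hOnf
    rw [IsLocalRing.isField_iff_maximalIdeal_eq]
    exact (Submodule.eq_bot_iff _).mpr hcon
  have hπ0 : π ≠ 0 := by
    rintro rfl
    have h1 : algebraMap O (integralClosure O K) u ∈ Ideal.span {(0 : integralClosure O K)} := by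
      rw [← hπ']
      exact Ideal.mem_map_of_mem _ hum
    rw [Ideal.span_singleton_eq_bot.mpr rfl, Ideal.mem_bot] at h1
    exact hu0 (hinj (by rw [h1, map_zero]))
  have : Fintype (MaximalSpectrum (integralClosure O K)) := Fintype.ofFinite _
  -- the submodules to avoid
  let p : MaximalSpectrum (integralClosure O K) → Submodule O (IsLocalRing.maximalIdeal O) :=
    fun n => Submodule.comap ((Algebra.linearMap O (integralClosure O K)).comp
      (IsLocalRing.maximalIdeal O).subtype) ((Ideal.span {π} * n.asIdeal).restrictScalars O)
  have hp : ∀ n, ∃ y : IsLocalRing.maximalIdeal O, y ∉ p n := by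
    intro n
    by_contra hcon
    push Not at hcon
    have h1 : Ideal.map (algebraMap O (integralClosure O K)) (IsLocalRing.maximalIdeal O) ≤
        Ideal.span {π} * n.asIdeal := by
      rw [Ideal.map_le_iff_le_comap]
      intro y hy
      exact hcon ⟨y, hy⟩
    rw [hπ'] at h1
    have h2 : π ∈ Ideal.span {π} * n.asIdeal := h1 (Ideal.mem_span_singleton_self π)
    rw [Ideal.mem_span_singleton_mul] at h2
    obtain ⟨z, hz, hzπ⟩ := h2
    have h3 : z = 1 := by
      have : π * z = π * 1 := by rw [hzπ, mul_one]
      exact mul_left_cancel₀ hπ0 this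
    rw [h3] at hz
    exact n.isMaximal.ne_top ((Ideal.eq_top_iff_one _).mpr hz)
  obtain ⟨x, hx⟩ := exists_notMem_of_forall_exists O p hp
  have hxmem : algebraMap O (integralClosure O K) (x : O) ∈ Ideal.span {π} := by
    rw [← hπ']
    exact Ideal.mem_map_of_mem _ x.2
  obtain ⟨b, hb⟩ := Ideal.mem_span_singleton'.mp hxmem
  have hbu : IsUnit b := by
    by_contra hnu
    obtain ⟨n, hn, hbn⟩ := exists_max_ideal_of_mem_nonunits (mem_nonunits_iff.mpr hnu)
    apply hx ⟨n, hn⟩
    change algebraMap O (integralClosure O K) (x : O) ∈ Ideal.span {π} * n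
    rw [← hb, mul_comm b π]
    exact Ideal.mul_mem_mul (Ideal.mem_span_singleton_self π) hbn
  refine ⟨x, x.2, ?_, ?_⟩
  · intro hx0
    rw [hx0, map_zero] at hb
    rcases mul_eq_zero.mp hb with h | h
    · rw [h] at hbu
      exact not_isUnit_zero hbu
    · exact hπ0 h
  · rw [hπ', ← hb]
    obtain ⟨ub, rfl⟩ := hbu
    rw [Ideal.span_singleton_eq_span_singleton]
    exact ⟨ub, by rw [mul_comm]⟩

/-- the length of `B / m B` is the order of a principal reduction -/
theorem length_normalization (hdim : ringKrullDim O = 1)
    (hfin : Module.Finite O (integralClosure O K)) (x : O)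
    (hxm : x ∈ IsLocalRing.maximalIdeal O) (hx0 : x ≠ 0)
    (hx : Ideal.map (algebraMap O (integralClosure O K)) (IsLocalRing.maximalIdeal O) =
      Ideal.span {algebraMap O (integralClosure O K) x}) :
    Module.length O ((integralClosure O K) ⧸
      (IsLocalRing.maximalIdeal O) • (⊤ : Submodule O (integralClosure O K))) = Ring.ord O x := by
  haveI := Conductor.isFractionRing_integralClosure (B := O) (K := K)
  have h1 := (KADegree.length_eq_iff O (integralClosure O K) K K (le_of_eq hdim) x hxm
    hx0).mpr hfin
  rw [Module.finrank_self, Nat.cast_one, one_mul] at h1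
  rw [Ideal.smul_top_eq_map, hx]
  change _ = Module.length O (O ⧸ Ideal.span ({x} : Set O))
  rw [← h1]
  exact (Submodule.Quotient.restrictScalarsEquiv O
    (Ideal.span {algebraMap O (integralClosure O K) x})).length_eq

/-- the number of generators of a lattice is at most `dim V * e` -/
theorem spanFinrank_lattice_le [Infinite (IsLocalRing.ResidueField O)] (hdim : ringKrullDim O = 1)
    (hfin : Module.Finite O (integralClosure O K)) {V : Type u} [AddCommGroup V] [Module K V]
    [Module O V] [IsScalarTower O K V] [FiniteDimensional K V] (L : Submodule O V)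
    [Submodule.IsLattice K L] :
    (L.spanFinrank : ℕ∞) ≤
      (Module.finrank K V : ℕ∞) *
        Module.length O ((integralClosure O K) ⧸
          (IsLocalRing.maximalIdeal O) • (⊤ : Submodule O (integralClosure O K))) := by
  classical
  obtain ⟨x, hxm, hx0, hx⟩ := exists_map_eq_span O K hdim
  rw [length_normalization O K hdim hfin x hxm hx0 hx]
  have hLfg : L.FG := Submodule.IsLattice.fg
  have h1 := KADegree.length_quot_smul_lattice O K (le_of_eq hdim) L x hx0
  have h3 : (L.spanFinrank : ℕ∞) = Module.length O
      (L ⧸ (IsLocalRing.maximalIdeal O) • (⊤ : Submodule O L)) := by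
    rw [IsLocalRing.spanFinrank_eq_finrank_quotient L hLfg]
    letI : Field (O ⧸ IsLocalRing.maximalIdeal O) := Ideal.Quotient.field _
    haveI : Module.Finite (O ⧸ IsLocalRing.maximalIdeal O)
        (L ⧸ (IsLocalRing.maximalIdeal O) • (⊤ : Submodule O L)) :=
      Module.Finite.of_restrictScalars_finite O _ _
    rw [← Module.length_eq_finrank (O ⧸ IsLocalRing.maximalIdeal O),
      Module.length_eq_of_surjective (S := O) (R := O ⧸ IsLocalRing.maximalIdeal O)
        Ideal.Quotient.mk_surjective]
  have h4 : Module.length O (L ⧸ (IsLocalRing.maximalIdeal O) • (⊤ : Submodule O L)) ≤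
      Module.length O (L ⧸ KADegree.sm x L) := by
    have hle : KADegree.sm x L ≤ (IsLocalRing.maximalIdeal O) • (⊤ : Submodule O L) := by
      intro z hz
      rw [KADegree.mem_sm] at hz
      obtain ⟨l, hl, hlz⟩ := hz
      have h5 : z = x • (⟨l, hl⟩ : L) := Subtype.ext hlz.symm
      rw [h5]
      exact Submodule.smul_mem_smul hxm Submodule.mem_top
    exact Module.length_le_of_surjective (Submodule.factor hle) (Submodule.factor_surjective hle)
  rw [h3]
  exact h4.trans (le_of_eq h1)

/-- the number of generators of a torsion-free module of rank `n` is at most `n e` -/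
theorem spanFinrank_le [Infinite (IsLocalRing.ResidueField O)] (hdim : ringKrullDim O = 1)
    (hfin : Module.Finite O (integralClosure O K)) (M : Type u) [AddCommGroup M] [Module O M]
    [Module.Finite O M] [NoZeroSMulDivisors O M] :
    ((⊤ : Submodule O M).spanFinrank : ℕ∞) ≤
      (Module.finrank K (TensorProduct O K M) : ℕ∞) *
        Module.length O ((integralClosure O K) ⧸
          (IsLocalRing.maximalIdeal O) • (⊤ : Submodule O (integralClosure O K))) := by
  classical
  have hιinj : Function.Injective (TensorProduct.mk O K M 1) := by
    rw [injective_iff_map_eq_zero]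
    intro m hm
    obtain ⟨s, hs⟩ := (IsLocalizedModule.eq_zero_iff (nonZeroDivisors O)
      (TensorProduct.mk O K M 1)).mp hm
    rw [Submonoid.smul_def] at hs
    rcases smul_eq_zero.mp hs with h | h
    · exact absurd h (nonZeroDivisors.coe_ne_zero s)
    · exact h
  obtain ⟨L, hL⟩ : ∃ L : Submodule O (TensorProduct O K M),
      L = LinearMap.range (TensorProduct.mk O K M 1) := ⟨_, rfl⟩
  have hLfg : L.FG := by
    rw [hL, LinearMap.range_eq_map]
    exact Module.Finite.fg_top.map _
  have hLspan : Submodule.span K (L : Set (TensorProduct O K M)) = ⊤ := by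
    rw [Submodule.eq_top_iff']
    intro z
    induction z using TensorProduct.induction_on with
    | zero => exact Submodule.zero_mem _
    | tmul a m =>
      have h1 : a ⊗ₜ[O] m = a • ((1 : K) ⊗ₜ[O] m) := by
        rw [TensorProduct.smul_tmul', smul_eq_mul, mul_one]
      rw [h1]
      refine Submodule.smul_mem _ _ (Submodule.subset_span ?_)
      rw [hL]
      exact ⟨m, rfl⟩
    | add x y hx hy => exact Submodule.add_mem _ hx hy
  haveI : Submodule.IsLattice K L := ⟨hLfg, hLspan⟩
  have h2 : (⊤ : Submodule O M).spanFinrank = L.spanFinrank := by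
    rw [hL, LinearMap.range_eq_map]
    exact (Submodule.spanFinrank_map_eq_of_injective _ hιinj).symm
  rw [h2]
  exact spanFinrank_lattice_le O K hdim hfin L

end principal

end Groth.Agent.Lib.Helper5.TFRank
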