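import Mathlib
import Groth.Agent.Lib.Helper5IntegralMod

/-!
# Dimension of a tensor product along a local homomorphism (helper5)
-/

set_option autoImplicit false
universe u

namespace Groth.Agent.Lib.Helper5.TensorDim

open TensorProduct

section

variable (A B : Type u) [CommRing A] [CommRing B] [Algebra A B]
  (M : Type u) [AddCommGroup M] [Module A M] (N : Type u) [AddCommGroup N] [Module B N]
  [Module A N] [IsScalarTower A B N]

theorem finite_tensor [Module.Finite A M] [Module.Finite B N] : Module.Finite B (N ⊗[A] M) := by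
  classical
  obtain ⟨s, hs⟩ := (inferInstance : Module.Finite B N).fg_top
  obtain ⟨t, ht⟩ := (inferInstance : Module.Finite A M).fg_top
  refine ⟨⟨(s ×ˢ t).image (fun p => p.1 ⊗ₜ[A] p.2), eq_top_iff.2 ?_⟩⟩
  rintro x -
  induction x with
  | zero => exact zero_mem _
  | add x y hx hy => exact add_mem hx hy
  | tmul n m =>
    have hn : n ∈ Submodule.span B (s : Set N) := hs ▸ Submodule.mem_top
    have hm : m ∈ Submodule.span A (t : Set M) := ht ▸ Submodule.mem_top
    induction hn using Submodule.span_induction with
    | mem n hn' =>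
      induction hm using Submodule.span_induction with
      | mem m hm' =>
        exact Submodule.subset_span (Finset.mem_coe.2 (Finset.mem_image.2
          ⟨(n, m), Finset.mem_product.2 ⟨hn', hm'⟩, rfl⟩))
      | zero =>
        rw [TensorProduct.tmul_zero]
        exact zero_mem _
      | add m₁ m₂ _ _ h₁ h₂ =>
        rw [TensorProduct.tmul_add]
        exact add_mem h₁ h₂
      | smul a m _ h =>
        rw [← TensorProduct.smul_tmul, ← algebraMap_smul B a n, ← TensorProduct.smul_tmul']
        exact Submodule.smul_mem _ _ h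
    | zero =>
      rw [TensorProduct.zero_tmul]
      exact zero_mem _
    | add n₁ n₂ _ _ h₁ h₂ =>
      rw [TensorProduct.add_tmul]
      exact add_mem h₁ h₂
    | smul b n _ h =>
      rw [← TensorProduct.smul_tmul']
      exact Submodule.smul_mem _ _ h

theorem annihilator_le_annihilator_tensor :
    Module.annihilator B N ≤ Module.annihilator B (N ⊗[A] M) := by
  intro b hb
  rw [Module.mem_annihilator] at hb ⊢
  intro x
  induction x with
  | zero => exact smul_zero _
  | add x y hx hy => rw [smul_add, hx, hy, add_zero]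
  | tmul n m => rw [TensorProduct.smul_tmul', hb n, TensorProduct.zero_tmul]

theorem tmul_mem (rs : List A) (n : N) (y : M)
    (hy : y ∈ Ideal.ofList rs • (⊤ : Submodule A M)) :
    n ⊗ₜ[A] y ∈ Ideal.ofList (rs.map (algebraMap A B)) • (⊤ : Submodule B (N ⊗[A] M)) := by
  refine Submodule.smul_induction_on hy ?_ ?_
  · intro r hr m' _
    rw [← TensorProduct.smul_tmul, ← algebraMap_smul B r n, ← TensorProduct.smul_tmul']
    refine Submodule.smul_mem_smul ?_ Submodule.mem_top
    rw [← Ideal.map_ofList]
    exact Ideal.mem_map_of_mem _ hr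
  · intro y₁ y₂ h₁ h₂
    rw [TensorProduct.tmul_add]
    exact add_mem h₁ h₂

theorem smul_mem (rs : List A) (a : A)
    (ha : ∀ m : M, a • m ∈ Ideal.ofList rs • (⊤ : Submodule A M)) (x : N ⊗[A] M) :
    (algebraMap A B a) • x ∈
      Ideal.ofList (rs.map (algebraMap A B)) • (⊤ : Submodule B (N ⊗[A] M)) := by
  induction x with
  | zero =>
    rw [smul_zero]
    exact zero_mem _
  | add x y hx hy =>
    rw [smul_add]
    exact add_mem hx hy
  | tmul n m =>
    rw [TensorProduct.smul_tmul', algebraMap_smul, TensorProduct.smul_tmul]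
    exact tmul_mem A B M N rs n _ (ha m)

end

section main

variable (A B : Type u) [CommRing A] [CommRing B] [IsLocalRing A] [IsLocalRing B]
  [IsNoetherianRing A] [IsNoetherianRing B] [Algebra A B] [IsLocalHom (algebraMap A B)]
  (M : Type u) [AddCommGroup M] [Module A M] [Module.Finite A M] (N : Type u) [AddCommGroup N]
  [Module B N] [Module A N] [IsScalarTower A B N] [Module.Finite B N]

theorem main : Module.supportDim B (N ⊗[A] M) ≤ Module.supportDim A M +
    Module.supportDim B
      (N ⧸ ((IsLocalRing.maximalIdeal A).map (algebraMap A B) • (⊤ : Submodule B N))) := by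
  haveI : Module.Finite B (N ⊗[A] M) := finite_tensor A B M N
  by_cases hM : Subsingleton M
  · haveI : Subsingleton (N ⊗[A] M) := by
      refine ⟨fun x y => ?_⟩
      have h0 : ∀ z : N ⊗[A] M, z = 0 := by
        intro z
        induction z with
        | zero => rfl
        | add x y hx hy => rw [hx, hy, add_zero]
        | tmul n m => rw [Subsingleton.elim m 0, TensorProduct.tmul_zero]
      rw [h0 x, h0 y]
    rw [Module.supportDim_eq_bot_of_subsingleton]
    exact bot_le
  rw [not_subsingleton_iff_nontrivial] at hM
  obtain ⟨d, hd⟩ := IntegralMod.exists_nat_supportDim (A := A) M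
  obtain ⟨rs, hlen, hrsmem, hfl⟩ := exists_list_isFiniteLength_quot_of_supportDim_le (A := A) d M
    hd.le
  -- a power of the maximal ideal kills `M/(rs)M`
  have hmax : ∀ P : Ideal A, P.IsPrime →
      Module.annihilator A (M ⧸ Ideal.ofList rs • (⊤ : Submodule A M)) ≤ P →
      P = IsLocalRing.maximalIdeal A := by
    intro P hP hle
    haveI := hP
    exact IsLocalRing.eq_maximalIdeal (isMaximal_of_annihilator_le_of_isFiniteLength hfl P hle)
  have hrad : IsLocalRing.maximalIdeal A ≤
      (Module.annihilator A (M ⧸ Ideal.ofList rs • (⊤ : Submodule A M))).radical := by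
    rw [Ideal.radical_eq_sInf]
    refine le_sInf (fun P hP => ?_)
    rw [hmax P hP.2 hP.1]
  obtain ⟨k, hk⟩ := Ideal.exists_pow_le_of_le_radical_of_fg hrad (IsNoetherian.noetherian _)
  have hkill : ∀ a ∈ IsLocalRing.maximalIdeal A ^ k, ∀ m : M,
      a • m ∈ Ideal.ofList rs • (⊤ : Submodule A M) := by
    intro a ha m
    have h1 := Module.mem_annihilator.1 (hk ha) (Submodule.Quotient.mk m)
    rw [← Submodule.Quotient.mk_smul, Submodule.Quotient.mk_eq_zero] at h1
    exact h1
  -- the dimension inequality over `B`
  have hrs' : ∀ r ∈ rs.map (algebraMap A B), r ∈ Ring.jacobson B := by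
    intro r hr
    obtain ⟨r₀, hr₀, rfl⟩ := List.mem_map.1 hr
    rw [IsLocalRing.ringJacobson_eq_maximalIdeal]
    have h1 := hrsmem r₀ hr₀
    rw [IsLocalRing.ringJacobson_eq_maximalIdeal] at h1
    rw [IsLocalRing.mem_maximalIdeal, mem_nonunits_iff] at h1 ⊢
    exact fun hu => h1 (IsLocalHom.map_nonunit r₀ hu)
  have h1 := supportDim_le_supportDim_quot_ofList_add_length (A := B) (M := N ⊗[A] M)
    (rs.map (algebraMap A B)) hrs'
  have hsub : Module.support B ((N ⊗[A] M) ⧸
      Ideal.ofList (rs.map (algebraMap A B)) • (⊤ : Submodule B (N ⊗[A] M))) ⊆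
      Module.support B
        (N ⧸ ((IsLocalRing.maximalIdeal A).map (algebraMap A B) • (⊤ : Submodule B N))) := by
    intro q hq
    have hann := Module.annihilator_le_of_mem_support hq
    rw [Module.support_quotient]
    refine ⟨?_, ?_⟩
    · rw [Module.mem_support_iff_of_finite]
      refine le_trans (annihilator_le_annihilator_tensor A B M N) (le_trans ?_ hann)
      intro b hb
      rw [Module.mem_annihilator] at hb ⊢
      intro v
      obtain ⟨x, rfl⟩ := Submodule.Quotient.mk_surjective _ v
      rw [← Submodule.Quotient.mk_smul, hb x, Submodule.Quotient.mk_zero]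
    · rw [PrimeSpectrum.mem_zeroLocus, SetLike.coe_subset_coe, Ideal.map_le_iff_le_comap]
      intro a ha
      rw [Ideal.mem_comap]
      have h2 : algebraMap A B (a ^ k) ∈ q.asIdeal := by
        apply hann
        rw [Module.mem_annihilator]
        intro v
        obtain ⟨x, rfl⟩ := Submodule.Quotient.mk_surjective _ v
        rw [← Submodule.Quotient.mk_smul, Submodule.Quotient.mk_eq_zero]
        exact smul_mem A B M N rs (a ^ k) (hkill (a ^ k) (Ideal.pow_mem_pow ha k)) x
      rw [map_pow] at h2
      exact q.2.mem_of_pow_mem k h2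
  have h2 : Module.supportDim B ((N ⊗[A] M) ⧸
      Ideal.ofList (rs.map (algebraMap A B)) • (⊤ : Submodule B (N ⊗[A] M))) ≤
      Module.supportDim B
        (N ⧸ ((IsLocalRing.maximalIdeal A).map (algebraMap A B) • (⊤ : Submodule B N))) :=
    Order.krullDim_le_of_strictMono (Set.inclusion hsub) (by intro a b h; exact h)
  rw [hd, add_comm]
  refine h1.trans (add_le_add h2 ?_)
  rw [List.length_map]
  exact_mod_cast hlen

end main

end Groth.Agent.Lib.Helper5.TensorDim
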