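import Mathlib
import Groth.Prelude.Def_DRing2
import Groth.Agent.S6939
import Groth.Agent.S6942

/-!
# Maps from a complex to a shifted torsion module, nonzero on cohomology
-/

set_option autoImplicit false
universe u
open CategoryTheory CategoryTheory.Limits
attribute [local instance] HasDerivedCategory.standard

namespace Groth.Agent.Lib.Helper5.TorsMap

open DerivedCategory

variable {A : Type u} [CommRing A]

/-- Artin–Rees consequence: a submodule `N` with `m N ≠ N` is not contained in all `m ^ n W`. -/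
lemma exists_not_le_pow_smul [IsNoetherianRing A] (m : Ideal A) {W : Type u} [AddCommGroup W]
    [Module A W] [Module.Finite A W] (N : Submodule A W) (hN : m • N ≠ N) :
    ∃ n : ℕ, ¬ N ≤ m ^ n • (⊤ : Submodule A W) := by
  obtain ⟨k, hk⟩ := Ideal.exists_pow_inf_eq_pow_smul m N
  refine ⟨k + 1, fun hle => hN ?_⟩
  have h1 := hk (k + 1) (by omega)
  rw [inf_eq_right.2 hle, show k + 1 - k = 1 by omega, pow_one] at h1
  refine le_antisymm Submodule.smul_le_right ?_
  calc N = m • (m ^ k • ⊤ ⊓ N) := h1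
    _ ≤ m • N := Submodule.smul_mono le_rfl inf_le_right

lemma smul_top_eq_top_of_equiv (m : Ideal A) {X Y : Type u} [AddCommGroup X] [Module A X]
    [AddCommGroup Y] [Module A Y] (e : X ≃ₗ[A] Y) (h : m • (⊤ : Submodule A X) = ⊤) :
    m • (⊤ : Submodule A Y) = ⊤ := by
  have h1 := congrArg (Submodule.map e.toLinearMap) h
  rw [Submodule.map_smul'', Submodule.map_top, LinearMap.range_eq_top.2 e.surjective] at h1
  exact h1

/-- chain level statement -/
theorem exists_chain_map [IsNoetherianRing A] (E : DRing.Cx A) (i : ℤ)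
    [Module.Finite A (E.X i)] (m : Ideal A)
    (hi : m • (⊤ : Submodule A (E.homology i)) ≠ ⊤) :
    ∃ (n : ℕ) (f : E ⟶ (HomologicalComplex.single (ModuleCat.{u} A) (ComplexShape.up ℤ) i).obj
        (ModuleCat.of A ((E.opcycles i) ⧸ (m ^ n • (⊤ : Submodule A (E.opcycles i)))))),
      HomologicalComplex.homologyMap f i ≠ 0 := by
  haveI : Module.Finite A (E.opcycles i) :=
    Module.Finite.of_surjective (E.pOpcycles i).hom
      ((ModuleCat.epi_iff_surjective _).1 inferInstance)
  have hinj : Function.Injective (E.homologyι i).hom :=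
    (ModuleCat.mono_iff_injective _).1 inferInstance
  obtain ⟨N, hNdef⟩ : ∃ N : Submodule A (E.opcycles i), N = LinearMap.range (E.homologyι i).hom :=
    ⟨_, rfl⟩
  have hN : m • N ≠ N := by
    intro h
    apply hi
    apply Submodule.map_injective_of_injective hinj
    rw [Submodule.map_smul'', Submodule.map_top, ← hNdef, h]
  obtain ⟨n, hn⟩ := exists_not_le_pow_smul m N hN
  have key : ∀ (Wn : ModuleCat.{u} A) (q : E.opcycles i ⟶ Wn),
      (∀ x, q.hom x = 0 → x ∈ m ^ n • (⊤ : Submodule A (E.opcycles i))) →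
      ∃ f : E ⟶ (HomologicalComplex.single (ModuleCat.{u} A) (ComplexShape.up ℤ) i).obj Wn,
        HomologicalComplex.homologyMap f i ≠ 0 := by
    intro Wn q hq
    have hφ : ∀ j : ℤ, (ComplexShape.up ℤ).Rel j i → E.d j i ≫ (E.pOpcycles i ≫ q) = 0 := by
      intro j _
      rw [← Category.assoc, HomologicalComplex.d_pOpcycles, zero_comp]
    obtain ⟨f, hf⟩ : ∃ f : E ⟶ (HomologicalComplex.single (ModuleCat.{u} A)
        (ComplexShape.up ℤ) i).obj Wn, f.f i = (E.pOpcycles i ≫ q) ≫
          (HomologicalComplex.singleObjXSelf (ComplexShape.up ℤ) i Wn).inv :=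
      ⟨HomologicalComplex.mkHomToSingle (E.pOpcycles i ≫ q) hφ,
        HomologicalComplex.mkHomToSingle_f _ _⟩
    refine ⟨f, fun h0 => hn ?_⟩
    have h1 : E.homologyι i ≫ HomologicalComplex.opcyclesMap f i = 0 := by
      rw [← HomologicalComplex.homologyι_naturality, h0, zero_comp]
    haveI : IsIso (((HomologicalComplex.single (ModuleCat.{u} A)
        (ComplexShape.up ℤ) i).obj Wn).pOpcycles i) :=
      HomologicalComplex.isIso_pOpcycles _ ((ComplexShape.up ℤ).prev i) i rfl
        (HomologicalComplex.single_obj_d (c := ComplexShape.up ℤ) i Wn _ _)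
    have h2 : HomologicalComplex.opcyclesMap f i =
        q ≫ (HomologicalComplex.singleObjXSelf (ComplexShape.up ℤ) i Wn).inv ≫
          ((HomologicalComplex.single (ModuleCat.{u} A)
            (ComplexShape.up ℤ) i).obj Wn).pOpcycles i := by
      rw [← cancel_epi (E.pOpcycles i), HomologicalComplex.p_opcyclesMap, hf,
        Category.assoc, Category.assoc]
    rw [h2, ← Category.assoc, ← Category.assoc] at h1
    have h3 : E.homologyι i ≫ q = 0 := by
      have h4 := (cancel_mono (((HomologicalComplex.single (ModuleCat.{u} A)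
        (ComplexShape.up ℤ) i).obj Wn).pOpcycles i)).1 (h1.trans zero_comp.symm)
      exact (cancel_mono (HomologicalComplex.singleObjXSelf (ComplexShape.up ℤ) i Wn).inv).1
        (h4.trans zero_comp.symm)
    rw [hNdef]
    rintro _ ⟨x, rfl⟩
    apply hq
    have h5 := congrArg (fun z => z.hom x) h3
    simpa using h5
  exact ⟨n, key _ (ModuleCat.ofHom (Submodule.mkQ _))
    (fun x hx => (Submodule.Quotient.mk_eq_zero _).1 hx)⟩

lemma pow_smul_top_quot (m : Ideal A) (n : ℕ) (W : Type u) [AddCommGroup W] [Module A W] :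
    m ^ n • (⊤ : Submodule A (W ⧸ (m ^ n • (⊤ : Submodule A W)))) = ⊥ := by
  rw [eq_bot_iff]
  intro x hx
  refine Submodule.smul_induction_on hx ?_ ?_
  · intro r hr y _
    obtain ⟨w, rfl⟩ := Submodule.Quotient.mk_surjective _ y
    rw [← Submodule.Quotient.mk_smul]
    exact (Submodule.mem_bot _).2 ((Submodule.Quotient.mk_eq_zero _).2
      (Submodule.smul_mem_smul hr Submodule.mem_top))
  · intro a b ha hb
    exact Submodule.add_mem _ ha hb

theorem main [IsNoetherianRing A] (K : Dual.D A)
    (hb : ∃ b : ℤ, ∀ j : ℤ, b < j → Subsingleton (Dual.HD A K j))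
    (hfin : ∀ j : ℤ, Module.Finite A (Dual.HD A K j)) (m : Ideal A) (i : ℤ)
    (hi : m • (⊤ : Submodule A (Dual.HD A K i)) ≠ ⊤) :
    ∃ (E : Type u) (_ : AddCommGroup E) (_ : Module A E) (_ : Module.Finite A E) (n : ℕ)
      (_ : m ^ n • (⊤ : Submodule A E) = ⊥)
      (f : K ⟶ (shiftFunctor (Dual.D A) (-i)).obj (Dual.inD A E)),
      (DerivedCategory.homologyFunctor (ModuleCat.{u} A) i).map f ≠ 0 := by
  have hpc : DRing.IsPseudoCoherent' A K :=
    (Groth.Agent.S6939.result A 0 K hb).2
      (fun j => (Groth.Agent.S6942.result A 0 K (Dual.HD A K j)).2.2 (hfin j))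
  obtain ⟨E₀, b, hE₀b, hE₀f, ⟨e⟩⟩ := hpc
  haveI := (hE₀f i).1
  let ε : Dual.HD A K i ≃ₗ[A] E₀.homology i :=
    ((DerivedCategory.homologyFunctor (ModuleCat.{u} A) i).mapIso e.symm ≪≫
      (DerivedCategory.homologyFunctorFactors (ModuleCat.{u} A) i).app E₀).toLinearEquiv
  have hi' : m • (⊤ : Submodule A (E₀.homology i)) ≠ ⊤ :=
    fun h => hi (smul_top_eq_top_of_equiv m ε.symm h)
  obtain ⟨n, f₀, hf₀⟩ := exists_chain_map E₀ i m hi'
  haveI : Module.Finite A (E₀.opcycles i) :=
    Module.Finite.of_surjective (E₀.pOpcycles i).hom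
      ((ModuleCat.epi_iff_surjective _).1 inferInstance)
  let ψ : Q.obj ((HomologicalComplex.single (ModuleCat.{u} A) (ComplexShape.up ℤ) i).obj
      (ModuleCat.of A ((E₀.opcycles i) ⧸ (m ^ n • (⊤ : Submodule A (E₀.opcycles i)))))) ≅
      (shiftFunctor (Dual.D A) (-i)).obj
        (Dual.inD A ((E₀.opcycles i) ⧸ (m ^ n • (⊤ : Submodule A (E₀.opcycles i))))) :=
    ((DerivedCategory.singleFunctorIsoCompQ (ModuleCat.{u} A) i).app _).symm ≪≫
      (((DerivedCategory.singleFunctors (ModuleCat.{u} A)).shiftIso (-i) i 0 (by omega)).app _).symm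
  refine ⟨(E₀.opcycles i) ⧸ (m ^ n • (⊤ : Submodule A (E₀.opcycles i))), inferInstance,
    inferInstance, inferInstance, n, pow_smul_top_quot m n _, e.inv ≫ Q.map f₀ ≫ ψ.hom, ?_⟩
  intro h0
  apply hf₀
  rw [Functor.map_comp, Functor.map_comp] at h0
  have h2 : (DerivedCategory.homologyFunctor (ModuleCat.{u} A) i).map (Q.map f₀) = 0 := by
    have h3 := (cancel_epi ((DerivedCategory.homologyFunctor (ModuleCat.{u} A) i).map e.inv)).1
      (h0.trans comp_zero.symm)
    exact (cancel_mono ((DerivedCategory.homologyFunctor (ModuleCat.{u} A) i).map ψ.hom)).1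
      (h3.trans zero_comp.symm)
  have h4 := (DerivedCategory.homologyFunctorFactors (ModuleCat.{u} A) i).hom.naturality f₀
  have h5 : (HomologicalComplex.homologyFunctor (ModuleCat.{u} A) (ComplexShape.up ℤ) i).map f₀ =
      0 := by
    rw [← cancel_epi ((DerivedCategory.homologyFunctorFactors (ModuleCat.{u} A) i).hom.app E₀),
      ← h4, Functor.comp_map, h2, zero_comp, comp_zero]
  exact h5

end Groth.Agent.Lib.Helper5.TorsMap
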