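import Mathlib
import Groth.Prelude.Def_RegImm
import Groth.Agent.Lib.Helper5NoethQuasi
import Groth.Agent.Lib.Helper5QuasiRegBC
import Groth.Agent.Lib.Helper5QuasiRegFlat
import Groth.Agent.Lib.Helper5FlatKer
import Groth.Agent.Lib.Helper5LocalFlat3

/-!
# Flatness of `J^n/J^m` and `(J^n)_q` for a transversally regular sequence (helper5)
-/

set_option autoImplicit false
universe u

namespace Groth.Agent.Lib.Helper5.TransFlat

open TensorProduct

section General

variable {A B : Type u} [CommRing A] [CommRing B] [Algebra A B]

/-- The kernel of a surjection of `A`-flat `B`-modules is `A`-flat (restriction of scalars). -/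
theorem flat_restrictScalars_of_exact {M N P : Type u} [AddCommGroup M] [Module B M]
    [AddCommGroup N] [Module B N] [Module A N] [IsScalarTower A B N]
    [AddCommGroup P] [Module B P] [Module A P] [IsScalarTower A B P]
    [Module.Flat A N] [Module.Flat A P] (f : M →ₗ[B] N) (g : N →ₗ[B] P)
    (hf : Function.Injective f) (hg : Function.Surjective g) (hfg : Function.Exact f g) :
    Module.Flat A (RestrictScalars A B M) := by
  letI : Module A M := Module.compHom M (algebraMap A B)
  haveI : IsScalarTower A B M := IsScalarTower.of_algebraMap_smul (fun a m => rfl)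
  have h : Module.Flat A M :=
    Groth.Agent.Lib.Helper5.flat_of_exact_of_flat_of_flat (f.restrictScalars A)
      (g.restrictScalars A) hf hg hfg
  exact h

/-- A localisation (at a submonoid of `B`) of an `A`-flat `B`-module is `A`-flat. -/
theorem flat_restrictScalars_localizedModule (M : Type u) [AddCommGroup M] [Module B M]
    (p : Submonoid B) (hM : Module.Flat A (RestrictScalars A B M)) :
    Module.Flat A (RestrictScalars A B (LocalizedModule p M)) := by
  letI : Module A M := Module.compHom M (algebraMap A B)
  haveI : IsScalarTower A B M := IsScalarTower.of_algebraMap_smul (fun a m => rfl)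
  haveI hM' : Module.Flat A M := hM
  haveI h1 : Module.Flat A (LocalizedModule p M) := by
    apply Groth.Agent.Lib.Helper5.flat_localizedModule_of_forall_exists_smul_eq_zero
    intro J z hz
    refine ⟨1, ?_⟩
    have hinj := Module.Flat.lTensor_preserves_injective_linearMap
      (M := M) J.subtype J.injective_subtype
    have hz0 : z = 0 := hinj (by rw [hz, map_zero])
    rw [hz0, smul_zero]
  have key : ∀ (a : A) (x : LocalizedModule p M), a • x = (algebraMap A B a) • x := by
    intro a x
    induction x using LocalizedModule.induction_on with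
    | _ m s => rw [LocalizedModule.smul'_mk, LocalizedModule.smul'_mk, algebraMap_smul]
  let e : RestrictScalars A B (LocalizedModule p M) ≃ₗ[A] LocalizedModule p M :=
    { RestrictScalars.addEquiv A B (LocalizedModule p M) with
      map_smul' := fun a x => by
        show RestrictScalars.addEquiv A B _ (a • x) = a • RestrictScalars.addEquiv A B _ x
        rw [RestrictScalars.addEquiv_map_smul]
        exact (key a _).symm }
  exact Module.Flat.of_linearEquiv e

end General

theorem main (A B : Type u) [CommRing A] [CommRing B] [Algebra A B]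
    (rs : List B) (hrs : RegImm.IsTransRegularSeq A B rs) (n m : ℕ) (hnm : n < m) :
    Module.Flat A (RestrictScalars A B
      (↥(Ideal.ofList rs ^ n) ⧸
        (Submodule.comap (Ideal.ofList rs ^ n).subtype (Ideal.ofList rs ^ m)))) ∧
      ∀ (q : Ideal B) [q.IsPrime], Ideal.ofList rs ≤ q →
        Module.Flat A (RestrictScalars A B
          (LocalizedModule q.primeCompl ↥(Ideal.ofList rs ^ n))) := by
  obtain ⟨hw, hflat⟩ := hrs
  have hq : CAlgX.IsQuasiRegular rs.get :=
    NoethQuasi.isQuasiRegular_get_of_isWeaklyRegular rs hw
  have hJ : Ideal.ofList rs = QuasiRegBC.JJ rs.get :=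
    QuasiRegFlat.ofList_eq_span_range_get rs
  haveI : Module.Flat A (B ⧸ QuasiRegBC.JJ rs.get) := by
    rw [← hJ]
    have := hflat rs.length le_rfl
    rwa [List.take_length] at this
  have hpow : ∀ k, Module.Flat A (B ⧸ Ideal.ofList rs ^ k) := by
    intro k
    rw [hJ]
    exact QuasiRegBC.flat_quot_pow rs.get hq k
  haveI hB : Module.Flat A B := by
    have h0 := hflat 0 (Nat.zero_le _)
    rw [List.take_zero, Ideal.ofList_nil] at h0
    exact Module.Flat.of_linearEquiv (AlgEquiv.quotientBot A B).symm.toLinearEquiv
  set J : Ideal B := Ideal.ofList rs with hJdef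
  haveI := hpow n
  haveI := hpow m
  constructor
  · have hle : J ^ m ≤ J ^ n := Ideal.pow_le_pow_right hnm.le
    refine flat_restrictScalars_of_exact (N := B ⧸ J ^ m) (P := B ⧸ J ^ n)
      (Submodule.mapQ (Submodule.comap (J ^ n).subtype (J ^ m)) (J ^ m) (J ^ n).subtype le_rfl)
      (Submodule.mapQ (J ^ m) (J ^ n) LinearMap.id hle) ?_ ?_ ?_
    · rw [injective_iff_map_eq_zero]
      intro x hx
      obtain ⟨⟨b, hb⟩, rfl⟩ := Submodule.Quotient.mk_surjective _ x
      rw [Submodule.mapQ_apply, Submodule.Quotient.mk_eq_zero] at hx
      rw [Submodule.Quotient.mk_eq_zero]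
      exact hx
    · intro y
      obtain ⟨b, rfl⟩ := Submodule.Quotient.mk_surjective _ y
      exact ⟨Submodule.Quotient.mk b, rfl⟩
    · intro y
      obtain ⟨b, rfl⟩ := Submodule.Quotient.mk_surjective _ y
      rw [Submodule.mapQ_apply, Submodule.Quotient.mk_eq_zero]
      constructor
      · intro hb
        exact ⟨Submodule.Quotient.mk ⟨b, hb⟩, rfl⟩
      · rintro ⟨x, hx⟩
        obtain ⟨⟨c, hc⟩, rfl⟩ := Submodule.Quotient.mk_surjective _ x
        rw [Submodule.mapQ_apply, Submodule.Quotient.eq] at hx
        have h2 : b = c - (c - b) := by ring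
        rw [LinearMap.id_apply, h2]
        exact Submodule.sub_mem _ hc (hle hx)
  · intro q _ _
    have : Module.Flat A (RestrictScalars A B ↥(J ^ n)) :=
      flat_restrictScalars_of_exact (N := B) (P := B ⧸ J ^ n) (J ^ n).subtype
        (Submodule.mkQ (J ^ n)) Subtype.val_injective (Submodule.mkQ_surjective _)
        (LinearMap.exact_subtype_mkQ (J ^ n))
    exact flat_restrictScalars_localizedModule ↥(J ^ n) q.primeCompl this

end Groth.Agent.Lib.Helper5.TransFlat
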