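import Mathlib
import Groth.Prelude.Def_Mor2
import Groth.Agent.Lib.Helper5RegSeq
import Groth.Agent.Lib.Helper5SliceListSch
import Groth.Agent.Lib.Helper5SliceListGeo
import Groth.Agent.Lib.Helper20EffCartier

/-!
# Arbitrary base change of a transversally regular closed immersion (helper5)

Ring part: a weakly regular sequence in an `A`-algebra `B` all of whose successive quotients are
`A`-flat stays weakly regular in `A' ⊗[A] B`, and in any pushout of `A' ← A → B`.
Scheme part: the base change along any `S' ⟶ S` of a closed immersion into an affine scheme over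
`S` cut out by such a sequence is a regular closed immersion; the slicing statement with its
base change clause.
-/

set_option autoImplicit false
set_option linter.style.haveILetI false
universe u

open AlgebraicGeometry CategoryTheory CategoryTheory.Limits RingTheory.Sequence TopologicalSpace
open TensorProduct IsLocalRing

namespace Groth.Agent.Lib.Helper5.TransRegBC

open Groth.Agent.Lib.Helper5.RegSeq Groth.Agent.Lib.Helper5.RegImm
  Groth.Agent.Lib.Helper5.SliceListGeo Groth.Agent.Lib.Helper20.EffCartier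

section Alg

set_option maxHeartbeats 800000 in
/-- `f` a nonzerodivisor modulo `I` with `B/(I + f)` flat over `A`: then `1 ⊗ f` is a
nonzerodivisor modulo the extension of `I` to `A' ⊗[A] B`. -/
theorem mem_map_includeRight_of_mul_mem {A B A' : Type*} [CommRing A] [CommRing B] [Algebra A B]
    [CommRing A'] [Algebra A A'] (I : Ideal B) (f : B) (hreg : ∀ c, c * f ∈ I → c ∈ I)
    [hflat : Module.Flat A (B ⧸ (I ⊔ Ideal.span {f}))] (c : A' ⊗[A] B)
    (hc : c * ((1 : A') ⊗ₜ[A] f) ∈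
      I.map (Algebra.TensorProduct.includeRight : B →ₐ[A] A' ⊗[A] B)) :
    c ∈ I.map (Algebra.TensorProduct.includeRight : B →ₐ[A] A' ⊗[A] B) := by
  let g : B ⧸ I →ₗ[A] B ⧸ I := LinearMap.mulLeft A (Ideal.Quotient.mk I f)
  have hgdef : ∀ y, g y = Ideal.Quotient.mk I f * y := fun y => rfl
  let p : B ⧸ I →ₗ[A] B ⧸ (I ⊔ Ideal.span {f}) :=
    (Ideal.Quotient.factorₐ A (le_sup_left : I ≤ I ⊔ Ideal.span {f})).toLinearMap
  have hpmk : ∀ b, p (Ideal.Quotient.mk I b) = Ideal.Quotient.mk (I ⊔ Ideal.span {f}) b :=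
    fun b => rfl
  have hp : Function.Surjective p :=
    Ideal.Quotient.factor_surjective (le_sup_left : I ≤ I ⊔ Ideal.span {f})
  have hg : Function.Injective g := by
    rw [injective_iff_map_eq_zero]
    intro y hy
    obtain ⟨b, rfl⟩ := Ideal.Quotient.mk_surjective y
    rw [hgdef, ← map_mul, Ideal.Quotient.eq_zero_iff_mem, mul_comm] at hy
    exact Ideal.Quotient.eq_zero_iff_mem.mpr (hreg b hy)
  have hex : Function.Exact g p := by
    intro y
    obtain ⟨b, rfl⟩ := Ideal.Quotient.mk_surjective y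
    constructor
    · intro h
      rw [hpmk, Ideal.Quotient.eq_zero_iff_mem] at h
      obtain ⟨i, hi, t, ht, rfl⟩ := Submodule.mem_sup.mp h
      obtain ⟨r, rfl⟩ := Ideal.mem_span_singleton'.mp ht
      refine ⟨Ideal.Quotient.mk I r, ?_⟩
      rw [hgdef, map_add, Ideal.Quotient.eq_zero_iff_mem.mpr hi, zero_add, map_mul, mul_comm]
    · rintro ⟨y, hy⟩
      obtain ⟨r, rfl⟩ := Ideal.Quotient.mk_surjective y
      rw [← hy, hgdef, ← map_mul, hpmk, Ideal.Quotient.eq_zero_iff_mem]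
      exact Ideal.mul_mem_right _ _ (Ideal.mem_sup_right (Ideal.mem_span_singleton_self f))
  have hinj := LinearMap.lTensor_injective_of_exact_of_flat p hp g hg hex A'
  let e := Algebra.TensorProduct.tensorQuotientEquiv (R := A) A' B A' I
  have hesymm : ∀ (a : A') (b : B), e.symm (Ideal.Quotient.mk _ (a ⊗ₜ[A] b)) =
      a ⊗ₜ[A] Ideal.Quotient.mk I b := fun a b => rfl
  have key : ∀ c : A' ⊗[A] B, g.lTensor A' (e.symm (Ideal.Quotient.mk _ c)) =
      e.symm (Ideal.Quotient.mk _ (c * ((1 : A') ⊗ₜ[A] f))) := by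
    intro c
    induction c using TensorProduct.induction_on with
    | zero => simp
    | tmul a b =>
      rw [Algebra.TensorProduct.tmul_mul_tmul, mul_one, hesymm, hesymm, LinearMap.lTensor_tmul,
        hgdef, ← map_mul, mul_comm]
    | add x y hx hy =>
      rw [map_add, map_add, map_add, add_mul, map_add, map_add, hx, hy]
  have h0 : e.symm (Ideal.Quotient.mk _ c) = 0 := by
    apply hinj
    rw [key, Ideal.Quotient.eq_zero_iff_mem.mpr hc, map_zero, map_zero]
  rw [← Ideal.Quotient.eq_zero_iff_mem]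
  exact (EmbeddingLike.map_eq_zero_iff (f := e.symm)).mp h0

theorem isWeaklyRegular_map_includeRight {A B A' : Type*} [CommRing A] [CommRing B]
    [Algebra A B] [CommRing A'] [Algebra A A'] (fs : List B) (hreg : IsWeaklyRegular B fs)
    (hflat : ∀ k, Module.Flat A (B ⧸ Ideal.ofList (fs.take k))) :
    IsWeaklyRegular (A' ⊗[A] B)
      (fs.map (Algebra.TensorProduct.includeRight : B →ₐ[A] A' ⊗[A] B)) := by
  rw [isWeaklyRegular_iff_regOn, regOn_iff_take]
  intro i hi c hc
  rw [List.length_map] at hi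
  have hreg' := (regOn_iff_take ⊥ fs).mp ((isWeaklyRegular_iff_regOn fs).mp hreg) i hi
  simp only [bot_sup_eq] at hreg' hc ⊢
  rw [List.getElem_map] at hc
  have hmap : ∀ l : List B, Ideal.ofList
      (l.map (⇑(Algebra.TensorProduct.includeRight : B →ₐ[A] A' ⊗[A] B))) =
      (Ideal.ofList l).map (Algebra.TensorProduct.includeRight : B →ₐ[A] A' ⊗[A] B) := by
    intro l
    exact (Ideal.map_ofList
      (Algebra.TensorProduct.includeRight : B →ₐ[A] A' ⊗[A] B).toRingHom l).symm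
  rw [← List.map_take, hmap] at hc ⊢
  haveI : Module.Flat A (B ⧸ (Ideal.ofList (fs.take i) ⊔ Ideal.span {fs[i]})) := by
    have h1 : Ideal.ofList (fs.take (i + 1)) =
        Ideal.ofList (fs.take i) ⊔ Ideal.span {fs[i]} := by
      rw [List.take_succ_eq_append_getElem hi, Ideal.ofList_append, Ideal.ofList_singleton]
    rw [← h1]; exact hflat (i + 1)
  exact mem_map_includeRight_of_mul_mem _ fs[i] hreg' c hc

theorem isWeaklyRegular_map_of_bijective {R S : Type*} [CommRing R] [CommRing S] (θ : R →+* S)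
    (hθ : Function.Bijective θ) (rs : List R) (h : IsWeaklyRegular R rs) :
    IsWeaklyRegular S (rs.map θ) := by
  rw [isWeaklyRegular_iff_regOn] at h ⊢
  have h2 := (regOn_map_of_surjective θ hθ.2 ⊥
    (by rw [(RingHom.injective_iff_ker_eq_bot θ).mp hθ.1]) rs).mpr h
  rwa [Ideal.map_bot] at h2

set_option maxHeartbeats 800000 in
theorem isWeaklyRegular_map_of_isPushout {R A B X : CommRingCat.{u}} {f : R ⟶ A} {g : R ⟶ B}
    {a : A ⟶ X} {b : B ⟶ X} (H : IsPushout f g a b) (fs : List A)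
    (hreg : IsWeaklyRegular A fs)
    (hflat : ∀ k, ((Ideal.Quotient.mk (Ideal.ofList (fs.take k))).comp f.hom).Flat) :
    IsWeaklyRegular X (fs.map a.hom) := by
  algebraize [f.hom, g.hom]
  let e : (B ⊗[R] A) ≃+* X :=
    ((CommRingCat.isPushout_tensorProduct R B A).isoIsPushout _ _ H.flip).commRingCatIsoToRingEquiv
  have he : ∀ x : A, e ((1 : B) ⊗ₜ[R] x) = a.hom x := by
    intro x
    have h1 := (CommRingCat.isPushout_tensorProduct R B A).inr_isoIsPushout_hom _ _ H.flip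
    exact congr($h1 x)
  have hflat' : ∀ k, Module.Flat R (A ⧸ Ideal.ofList (fs.take k)) := by
    intro k
    have h1 : (algebraMap R (A ⧸ Ideal.ofList (fs.take k))).Flat := hflat k
    exact RingHom.flat_algebraMap_iff.mp h1
  have h1 := isWeaklyRegular_map_includeRight (A := R) (B := A) (A' := B) fs hreg hflat'
  have h2 := isWeaklyRegular_map_of_bijective e.toRingHom e.bijective _ h1
  rw [List.map_map] at h2
  have h3 : fs.map a.hom = fs.map (⇑e.toRingHom ∘
      ⇑(Algebra.TensorProduct.includeRight : A →ₐ[R] B ⊗[R] A)) := by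
    apply List.map_congr_left
    intro x _
    exact (he x).symm
  rw [h3]
  exact h2

theorem flat_quotient_map_of_bijective {A R R' : Type*} [CommRing A] [CommRing R] [CommRing R']
    (α : A →+* R) (θ : R →+* R') (hθ : Function.Bijective θ) (I : Ideal R)
    (h : ((Ideal.Quotient.mk I).comp α).Flat) :
    ((Ideal.Quotient.mk (I.map θ)).comp (θ.comp α)).Flat := by
  let Q : R ⧸ I ≃+* R' ⧸ I.map θ :=
    Ideal.quotientEquiv I (I.map θ) (RingEquiv.ofBijective θ hθ) rfl
  have h1 : (Ideal.Quotient.mk (I.map θ)).comp (θ.comp α) =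
      Q.toRingHom.comp ((Ideal.Quotient.mk I).comp α) := by
    ext x
    rfl
  rw [h1]
  exact RingHom.Flat.comp h (RingHom.Flat.of_bijective Q.bijective)

end Alg

section Sch

set_option maxHeartbeats 1600000 in
/-- base change of a transversally regular closed immersion into an affine scheme. -/
theorem isRegularClosedImmersion_pullback_map {Z U' S : Scheme.{u}} [IsAffine U'] (j : Z ⟶ U')
    [IsClosedImmersion j] (φ : U' ⟶ S) (V : S.Opens) (hV : IsAffineOpen V)
    (hφV : (⊤ : U'.Opens) ≤ φ ⁻¹ᵁ V) (rs : List Γ(U', ⊤))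
    (hker : j.ker.ideal ⟨⊤, isAffineOpen_top U'⟩ = Ideal.ofList rs)
    (hreg : IsWeaklyRegular Γ(U', ⊤) rs)
    (hflat : ∀ k, ((Ideal.Quotient.mk (Ideal.ofList (rs.take k))).comp
      (φ.appLE V ⊤ hφV).hom).Flat)
    {S' : Scheme.{u}} (g : S' ⟶ S) (ψ : Z ⟶ S) (w₁ : ψ ≫ 𝟙 S = j ≫ φ)
    (w₂ : g ≫ 𝟙 S = 𝟙 S' ≫ g) :
    Mor2.IsRegularClosedImmersion (pullback.map ψ g φ g j (𝟙 S') (𝟙 S) w₁ w₂) := by
  have hψ : ψ = j ≫ φ := by rw [← w₁, Category.comp_id]
  subst hψ
  obtain ⟨j', hj'⟩ : ∃ j' : pullback (j ≫ φ) g ⟶ pullback φ g,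
      j' = pullback.map (j ≫ φ) g φ g j (𝟙 S') (𝟙 S) w₁ w₂ := ⟨_, rfl⟩
  rw [← hj']
  have hfst : j' ≫ pullback.fst φ g = pullback.fst (j ≫ φ) g ≫ j := by
    rw [hj']; exact pullback.lift_fst _ _ _
  have hsnd : j' ≫ pullback.snd φ g = pullback.snd (j ≫ φ) g := by
    rw [hj']
    have h1 : pullback.map (j ≫ φ) g φ g j (𝟙 S') (𝟙 S) w₁ w₂ ≫ pullback.snd φ g =
        pullback.snd (j ≫ φ) g ≫ 𝟙 S' := pullback.lift_snd _ _ _
    rw [h1, Category.comp_id]
  have hpb : IsPullback j' (pullback.fst (j ≫ φ) g) (pullback.fst φ g) j := by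
    refine IsPullback.of_right ?_ hfst (IsPullback.of_hasPullback φ g).flip
    rw [hsnd]
    exact (IsPullback.of_hasPullback (j ≫ φ) g).flip
  haveI : IsClosedImmersion j' :=
    MorphismProperty.of_isPullback (P := @IsClosedImmersion) hpb.flip inferInstance
  have hkerj' : j'.ker = j.ker.comap (pullback.fst φ g) := by
    have h1 : j' = hpb.isoPullback.hom ≫ pullback.fst (pullback.fst φ g) j :=
      (hpb.isoPullback_hom_fst).symm
    rw [h1, Scheme.Hom.ker_comp_of_isIso, Scheme.IdealSheafData.ker_fst_of_isClosedImmersion]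
  refine ⟨inferInstance, fun z => ?_⟩
  have hgV : g (pullback.snd φ g (j' z)) ∈ V := by
    have h1 : g (pullback.snd φ g (j' z)) = φ (pullback.fst φ g (j' z)) := by
      have h2 := congr($(pullback.condition (f := φ) (g := g)) (j' z))
      simp only [Scheme.Hom.comp_apply] at h2
      exact h2.symm
    rw [h1]; exact hφV trivial
  obtain ⟨_, ⟨V' : S'.Opens, hV', rfl⟩, hsV', hV'le⟩ :=
    S'.isBasis_affineOpens.exists_subset_of_mem_open
      (show pullback.snd φ g (j' z) ∈ ((g ⁻¹ᵁ V : S'.Opens) : Set S') from hgV) (g ⁻¹ᵁ V).2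
  have eV' : V' ≤ g ⁻¹ᵁ V := hV'le
  obtain ⟨W, hWdef⟩ : ∃ W : (pullback φ g).Opens,
      W = pullback.fst φ g ⁻¹ᵁ ⊤ ⊓ pullback.snd φ g ⁻¹ᵁ V' := ⟨_, rfl⟩
  have H := IsPullback.of_hasPullback φ g
  have hWaff : IsAffineOpen W := by
    haveI : IsAffine (V : Scheme.{u}) := hV
    haveI : IsAffine (V' : Scheme.{u}) := hV'
    haveI : IsAffine ((⊤ : U'.Opens) : Scheme.{u}) := isAffineOpen_top U'
    exact .of_isIso (Scheme.Hom.isPullback_resLE H eV' hφV hWdef).isoPullback.hom
  have hPO := (isIso_pushoutSection_iff H eV' hφV hWdef).mp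
    (isIso_pushoutSection_of_isAffineOpen H eV' hφV hWdef hV hV' (isAffineOpen_top U'))
  have hzW : j' z ∈ W := by rw [hWdef]; exact ⟨trivial, hsV'⟩
  have hleW : W ≤ pullback.fst φ g ⁻¹ᵁ ⊤ := by rw [hWdef]; exact inf_le_left
  have hk : j'.ker.ideal ⟨W, hWaff⟩ =
      Ideal.ofList (rs.map ((pullback.fst φ g).appLE ⊤ W hleW).hom) := by
    rw [hkerj', ideal_comap_eq_map (pullback.fst φ g) j.ker hWaff (isAffineOpen_top U') hleW,
      hker, Ideal.map_ofList]
  have hwr : IsWeaklyRegular Γ(pullback φ g, W)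
      (rs.map ((pullback.fst φ g).appLE ⊤ W hleW).hom) :=
    isWeaklyRegular_map_of_isPushout hPO rs hreg hflat
  refine ⟨W, hWaff, hzW, _, ⟨hwr, ?_⟩, hk⟩
  rw [smul_eq_mul, Ideal.mul_top, ← hk, Scheme.Hom.ker_apply]
  haveI : Nonempty ↥(j' ⁻¹ᵁ W) := ⟨⟨z, hzW⟩⟩
  exact (RingHom.ker_ne_top _).symm

variable {X : Scheme.{u}} {U : X.Opens} (hU : IsAffineOpen U)

set_option maxHeartbeats 800000 in
/-- the kernel of the slice on the whole of `↑U`. -/
theorem ker_slice_top (I : Ideal Γ(X, U))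
    (htop : IsAffineOpen (⊤ : (U : Scheme.{u}).Opens)) :
    (Spec.map (CommRingCat.ofHom (Ideal.Quotient.mk I)) ≫ hU.isoSpec.inv).ker.ideal
      ⟨⊤, htop⟩ = I.map U.topIso.inv.hom := by
  obtain ⟨j, hj⟩ : ∃ j : Spec (CommRingCat.of (Γ(X, U) ⧸ I)) ⟶ (U : Scheme.{u}),
      j = Spec.map (CommRingCat.ofHom (Ideal.Quotient.mk I)) ≫ hU.isoSpec.inv := ⟨_, rfl⟩
  haveI : IsClosedImmersion (Spec.map (CommRingCat.ofHom (Ideal.Quotient.mk I))) :=
    IsClosedImmersion.spec_of_surjective _ Ideal.Quotient.mk_surjective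
  haveI : IsClosedImmersion j := by rw [hj]; infer_instance
  rw [← hj, Scheme.Hom.ker_apply]
  have h1 : j.appTop = U.topIso.hom ≫ CommRingCat.ofHom (Ideal.Quotient.mk I) ≫
      (Scheme.ΓSpecIso (CommRingCat.of (Γ(X, U) ⧸ I))).inv := by
    rw [hj, Scheme.Hom.comp_appTop, hU.isoSpec_inv_appTop, Category.assoc,
      ← Scheme.ΓSpecIso_inv_naturality]
  have hinj : Function.Injective (Scheme.ΓSpecIso (CommRingCat.of (Γ(X, U) ⧸ I))).inv.hom :=
    (ConcreteCategory.bijective_of_isIso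
      (Scheme.ΓSpecIso (CommRingCat.of (Γ(X, U) ⧸ I))).inv).1
  ext a
  rw [RingHom.mem_ker]
  change j.appTop.hom a = 0 ↔ _
  have h3 : j.appTop.hom a = (Scheme.ΓSpecIso (CommRingCat.of (Γ(X, U) ⧸ I))).inv.hom
      (Ideal.Quotient.mk I (U.topIso.hom.hom a)) := by
    rw [h1]; rfl
  have hz : (Scheme.ΓSpecIso (CommRingCat.of (Γ(X, U) ⧸ I))).inv.hom
      (Ideal.Quotient.mk I (U.topIso.hom.hom a)) = 0 ↔
      Ideal.Quotient.mk I (U.topIso.hom.hom a) = 0 :=
    ⟨fun h => hinj (by rw [h, map_zero]), fun h => by rw [h, map_zero]⟩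
  rw [h3, hz, Ideal.Quotient.eq_zero_iff_mem]
  constructor
  · intro h
    have h4 := Ideal.mem_map_of_mem U.topIso.inv.hom h
    have h5 : U.topIso.inv.hom (U.topIso.hom.hom a) = a := by
      rw [← RingHom.comp_apply, ← CommRingCat.hom_comp, Iso.hom_inv_id]; rfl
    rwa [h5] at h4
  · intro h
    have h4 := Ideal.mem_map_of_mem U.topIso.hom.hom h
    rw [Ideal.map_map, ← CommRingCat.hom_comp, Iso.inv_hom_id, CommRingCat.hom_id,
      Ideal.map_id] at h4
    exact h4

set_option maxHeartbeats 1600000 in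
/-- base change clause for a slice. -/
theorem isRegularClosedImmersion_slice_baseChange {S : Scheme.{u}} (f : X ⟶ S) (V : S.Opens)
    (hV : IsAffineOpen V) (e : U ≤ f ⁻¹ᵁ V) (I : Ideal Γ(X, U)) (rs : List Γ(X, U))
    (hI : I = Ideal.ofList rs) (hreg : IsWeaklyRegular Γ(X, U) rs)
    (hflat : ∀ k, ((Ideal.Quotient.mk (Ideal.ofList (rs.take k))).comp
      (f.appLE V U e).hom).Flat)
    {S' : Scheme.{u}} (g : S' ⟶ S)
    (ψ : Spec (CommRingCat.of (Γ(X, U) ⧸ I)) ⟶ S)
    (w₁ : ψ ≫ 𝟙 S = (Spec.map (CommRingCat.ofHom (Ideal.Quotient.mk I)) ≫ hU.isoSpec.inv) ≫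
      U.ι ≫ f) (w₂ : g ≫ 𝟙 S = 𝟙 S' ≫ g) :
    Mor2.IsRegularClosedImmersion (pullback.map ψ g (U.ι ≫ f) g
      (Spec.map (CommRingCat.ofHom (Ideal.Quotient.mk I)) ≫ hU.isoSpec.inv) (𝟙 S') (𝟙 S)
      w₁ w₂) := by
  haveI : IsAffine (U : Scheme.{u}) := hU
  haveI : IsClosedImmersion (Spec.map (CommRingCat.ofHom (Ideal.Quotient.mk I))) :=
    IsClosedImmersion.spec_of_surjective _ Ideal.Quotient.mk_surjective
  have hφV : (⊤ : (U : Scheme.{u}).Opens) ≤ (U.ι ≫ f) ⁻¹ᵁ V := by
    intro y _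
    exact e y.2
  have hθ : Function.Bijective U.topIso.inv.hom :=
    ConcreteCategory.bijective_of_isIso U.topIso.inv
  have happ : ((U.ι ≫ f).appLE V ⊤ hφV).hom = U.topIso.inv.hom.comp (f.appLE V U e).hom := by
    have h1 : f.appLE V U e ≫ U.ι.appLE U ⊤ (by simp) = (U.ι ≫ f).appLE V ⊤ hφV :=
      Scheme.Hom.appLE_comp_appLE _ _ _ _ _ _ _
    have h2 : U.ι.appLE U ⊤ (by simp) = U.topIso.inv := by
      rw [Scheme.Opens.ι_appLE, Scheme.Opens.topIso_inv]
      congr 1
    rw [← h1, h2, CommRingCat.hom_comp]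
  refine isRegularClosedImmersion_pullback_map _ (U.ι ≫ f) V hV hφV
    (rs.map U.topIso.inv.hom) ?_ (isWeaklyRegular_map_of_bijective _ hθ rs hreg) ?_ g ψ w₁ w₂
  · rw [ker_slice_top hU I, hI, Ideal.map_ofList]
  · intro k
    rw [← List.map_take, ← Ideal.map_ofList, happ]
    exact flat_quotient_map_of_bijective _ _ hθ _ (hflat k)

end Sch

end Groth.Agent.Lib.Helper5.TransRegBC
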