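import Mathlib
import Groth.Prelude.Def_Mor2
import Groth.Agent.Lib.Helper5TransRegBC

/-!
# Slicing by a fibrewise regular sequence, with the base change clause (helper5)
-/

set_option autoImplicit false
set_option linter.style.haveILetI false
universe u

open AlgebraicGeometry CategoryTheory CategoryTheory.Limits RingTheory.Sequence TopologicalSpace
open IsLocalRing

namespace Groth.Agent.Lib.Helper5.TransRegBCMain

open Groth.Agent.Lib.Helper5.RegSeq Groth.Agent.Lib.Helper5.RegImm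
  Groth.Agent.Lib.Helper5.SliceListGeo Groth.Agent.Lib.Helper5.TransRegBC

set_option maxHeartbeats 1600000 in
theorem exists_slice_baseChange {X S : Scheme.{u}} (f : X ⟶ S) [LocallyOfFinitePresentation f]
    (x : X) (hflat : (f.stalkMap x).hom.Flat) (hs : List ↑(X.presheaf.stalk x))
    (hreg : RingTheory.Sequence.IsRegular (↑(X.presheaf.stalk x) ⧸ Ideal.map (f.stalkMap x).hom
      (IsLocalRing.maximalIdeal ↑(S.presheaf.stalk (f x))))
      (hs.map (Ideal.Quotient.mk (Ideal.map (f.stalkMap x).hom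
        (IsLocalRing.maximalIdeal ↑(S.presheaf.stalk (f x))))))) :
    ∃ (U : X.Opens) (hU : IsAffineOpen U) (hx : x ∈ U) (hs' : List Γ(X, U)),
      hs'.map (X.presheaf.germ U x hx) = hs ∧
      Mor2.IsRegularClosedImmersion (Spec.map (CommRingCat.ofHom
        (Ideal.Quotient.mk (Ideal.ofList hs'))) ≫ hU.isoSpec.inv) ∧
      x ∈ Set.range ⇑(Spec.map (CommRingCat.ofHom (Ideal.Quotient.mk (Ideal.ofList hs'))) ≫
        hU.fromSpec) ∧
      Flat (Spec.map (CommRingCat.ofHom (Ideal.Quotient.mk (Ideal.ofList hs'))) ≫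
        hU.fromSpec ≫ f) ∧
      LocallyOfFinitePresentation (Spec.map (CommRingCat.ofHom
        (Ideal.Quotient.mk (Ideal.ofList hs'))) ≫ hU.fromSpec ≫ f) ∧
      ∀ (S' : Scheme.{u}) (g : S' ⟶ S), Mor2.IsRegularClosedImmersion
        (pullback.map (Spec.map (CommRingCat.ofHom (Ideal.Quotient.mk (Ideal.ofList hs'))) ≫
          hU.isoSpec.inv ≫ U.ι ≫ f) g (U.ι ≫ f) g
          (Spec.map (CommRingCat.ofHom (Ideal.Quotient.mk (Ideal.ofList hs'))) ≫ hU.isoSpec.inv)
          (𝟙 S') (𝟙 S) (Category.comp_id _)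
          ((Category.comp_id g).trans (Category.id_comp g).symm)) := by
  classical
  have hm : ∀ h ∈ hs, h ∈ maximalIdeal (X.presheaf.stalk x) := by
    intro h hh
    by_contra hnot
    have hu : IsUnit h := by
      rw [mem_maximalIdeal, mem_nonunits_iff, not_not] at hnot
      exact hnot
    apply hreg.top_ne_smul
    rw [smul_eq_mul, Ideal.mul_top]
    symm
    exact Ideal.eq_top_of_isUnit_mem _ (Ideal.subset_span (List.mem_map_of_mem hh)) (hu.map _)
  obtain ⟨V, hV, U₀, hU₀, hxU₀, e, rs₀, g, hrs₀, hxg, H⟩ :=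
    Groth.Agent.Lib.Helper5.SliceListSch.exists_slice_list f x hflat hs hm
      hreg.toIsWeaklyRegular
  have hle₁ : X.basicOpen (g * 1) ≤ U₀ := X.basicOpen_le _
  have hU₁ : IsAffineOpen (X.basicOpen (g * 1)) := hU₀.basicOpen _
  have hx₁ : x ∈ X.basicOpen (g * 1) := by rw [mul_one]; exact hxg
  obtain ⟨rs₁, hrs₁def⟩ : ∃ rs₁ : List Γ(X, X.basicOpen (g * 1)),
      rs₁ = rs₀.map (X.presheaf.map (homOfLE hle₁).op).hom := ⟨_, rfl⟩
  obtain ⟨hw₁, hfl₁⟩ := H 1
  rw [← hrs₁def] at hw₁ hfl₁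
  have hgerm₁ : rs₁.map (X.presheaf.germ (X.basicOpen (g * 1)) x hx₁).hom = hs := by
    rw [hrs₁def, List.map_map, ← hrs₀]
    apply List.map_congr_left
    intro t _
    exact TopCat.Presheaf.germ_res_apply X.presheaf (homOfLE hle₁) x hx₁ t
  have hI₁ : Ideal.ofList rs₁ ≤ (hU₁.primeIdealOf ⟨x, hx₁⟩).asIdeal := by
    rw [Ideal.ofList, Ideal.span_le]
    intro r hr
    letI := X.presheaf.algebra_section_stalk (U := X.basicOpen (g * 1)) ⟨x, hx₁⟩
    haveI := hU₁.isLocalization_stalk ⟨x, hx₁⟩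
    refine (IsLocalization.AtPrime.to_map_mem_maximal_iff (X.presheaf.stalk x)
      (hU₁.primeIdealOf ⟨x, hx₁⟩).asIdeal r).mp ?_
    apply hm
    rw [← hgerm₁]
    exact List.mem_map_of_mem hr
  obtain ⟨y₁, hy₁⟩ := exists_sliceι_eq hU₁ (Ideal.ofList rs₁) x hx₁ hI₁
  have e₁' : X.basicOpen (g * 1) ≤ f ⁻¹ᵁ V := hle₁.trans e
  have hflat₁ : Flat (sliceι hU₁ (Ideal.ofList rs₁) ≫ f) := by
    refine flat_sliceι_comp hU₁ _ f hV e₁' ?_
    have h1 := hfl₁ rs₁.reverse.length
    rw [List.take_length, ofList_reverse] at h1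
    exact h1
  have hlfp₁ := lfp_sliceι_comp hU₁ (Ideal.ofList rs₁) f (ofList_fg rs₁)
  refine ⟨X.basicOpen (g * 1), hU₁, hx₁, rs₁, hgerm₁, ?_, ⟨y₁, hy₁⟩, ?_, ?_, ?_⟩
  · exact isRegularClosedImmersion_slice' hU₁ _ rs₁.reverse (ofList_reverse rs₁).symm hw₁
  · rw [← Category.assoc]; exact hflat₁
  · rw [← Category.assoc]; exact hlfp₁
  · intro S' g'
    exact isRegularClosedImmersion_slice_baseChange hU₁ f V hV e₁' (Ideal.ofList rs₁)
      rs₁.reverse (ofList_reverse rs₁).symm hw₁ hfl₁ g' _ _ _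

end Groth.Agent.Lib.Helper5.TransRegBCMain
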