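import Mathlib
import Groth.Agent.Lib.Helper4DimFormulaC

/-!
# Residue transcendence degree of a valuation centred on a Noetherian local domain (helper5)

`main`: `A` Noetherian local domain, `O` a non-trivial valuation ring of `Frac A` dominating `A`;
if the residues of `f₁, …, fₙ ∈ O` are algebraically independent over `κ(A)`, then `n + 1 ≤ dim A`.
Proof: dimension inequality (helper4 `height_add_trdeg_le`) for `A ⊆ A[f₁, …, fₙ] ⊆ O` at the
centre `m_O ∩ A[f]`.
-/

set_option autoImplicit false
universe u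

namespace Groth.Agent.Lib.Helper5.ValCentre

open IsLocalRing

theorem main (A : Type u) [CommRing A] [IsDomain A] [IsNoetherianRing A] [IsLocalRing A]
    (O : Type u) [CommRing O] [IsDomain O] [ValuationRing O] [Algebra A O]
    (hinj : Function.Injective (algebraMap A O)) (hloc : IsLocalHom (algebraMap A O))
    (hfrac : ∀ x : O, ∃ a b : A, b ≠ 0 ∧ algebraMap A O b * x = algebraMap A O a)
    (hnt : ¬ IsField O) (n : ℕ) (f : Fin n → O)
    (hind : ∀ p : MvPolynomial (Fin n) A,
      MvPolynomial.eval₂ ((IsLocalRing.residue O).comp (algebraMap A O))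
        (fun i => IsLocalRing.residue O (f i)) p = 0 →
      ∀ m : Fin n →₀ ℕ, IsLocalRing.residue A (p.coeff m) = 0) :
    (n : WithBot ℕ∞) + 1 ≤ ringKrullDim A := by
  haveI := hloc
  let S : Subalgebra A O := Algebra.adjoin A (Set.range f)
  have hinjS : Function.Injective (algebraMap A S) := fun a b hab =>
    hinj (congrArg Subtype.val hab)
  haveI : FaithfulSMul A S := (faithfulSMul_iff_algebraMap_injective A S).mpr hinjS
  haveI : Algebra.FiniteType A S :=
    (Subalgebra.fg_iff_finiteType S).mp (Subalgebra.fg_def.mpr ⟨_, Set.finite_range f, rfl⟩)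
  let q : Ideal S := (maximalIdeal O).comap (algebraMap S O)
  haveI hqp : q.IsPrime := Ideal.comap_isPrime _ _
  haveI hlo : q.LiesOver (maximalIdeal A) := ⟨by
    show maximalIdeal A = q.comap (algebraMap A S)
    rw [Ideal.comap_comap, ← IsScalarTower.algebraMap_eq]
    exact (IsLocalRing.maximalIdeal_comap (algebraMap A O)).symm⟩
  have key := Groth.Agent.Lib.Helper4.DimFormula.height_add_trdeg_le A S (maximalIdeal A) q
  -- (1) `S` is algebraic over `A`
  haveI : Algebra.IsAlgebraic A S := ⟨fun s => by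
    obtain ⟨a, b, hb, hab⟩ := hfrac s.1
    refine ⟨Polynomial.C b * Polynomial.X - Polynomial.C a, ?_, ?_⟩
    · intro h
      apply hb
      have := congrArg (fun p => Polynomial.coeff p 1) h
      simpa using this
    · apply Subtype.ext
      simp only [map_sub, map_mul, Polynomial.aeval_C, Polynomial.aeval_X]
      show algebraMap A O b * s.1 - algebraMap A O a = 0
      rw [hab, sub_self]⟩
  have h1 : Algebra.trdeg A S = 0 := _root_.trdeg_eq_zero
  -- (2) the residues are algebraically independent
  let g : Fin n → S ⧸ q := fun i => Ideal.Quotient.mk q ⟨f i, Algebra.subset_adjoin ⟨i, rfl⟩⟩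
  have hAI : AlgebraicIndependent (A ⧸ maximalIdeal A) g := by
    rw [algebraicIndependent_iff]
    intro P hP
    obtain ⟨P', rfl⟩ := MvPolynomial.map_surjective (Ideal.Quotient.mk (maximalIdeal A))
      Ideal.Quotient.mk_surjective P
    let θ : S ⧸ q →+* IsLocalRing.ResidueField O :=
      Ideal.Quotient.lift q ((IsLocalRing.residue O).comp (algebraMap S O))
        (fun s hs => (IsLocalRing.residue_eq_zero_iff _).mpr hs)
    have h2 : MvPolynomial.eval₂ ((IsLocalRing.residue O).comp (algebraMap A O))
        (fun i => IsLocalRing.residue O (f i)) P' = 0 := by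
      have h3 := congrArg θ hP
      rw [map_zero, MvPolynomial.aeval_def, MvPolynomial.eval₂_map, MvPolynomial.hom_eval₂] at h3
      rw [← h3]
      congr 1
    have hc := hind P' h2
    ext m
    rw [MvPolynomial.coeff_map, MvPolynomial.coeff_zero]
    exact hc m
  have h3 : (n : Cardinal.{u}) ≤ Algebra.trdeg (A ⧸ maximalIdeal A) (S ⧸ q) := by
    simpa using hAI.lift_cardinalMk_le_trdeg
  -- (3) the centre is nonzero
  have hq : q ≠ ⊥ := by
    have hm : maximalIdeal O ≠ ⊥ := fun h => hnt (IsLocalRing.isField_iff_maximalIdeal_eq.mpr h)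
    obtain ⟨x, hx, hx0⟩ := Submodule.exists_mem_ne_zero_of_ne_bot hm
    obtain ⟨a, b, hb, hab⟩ := hfrac x
    have ha : algebraMap A O a ∈ maximalIdeal O := by
      rw [← hab]
      exact Ideal.mul_mem_left _ _ hx
    have ha0 : algebraMap A O a ≠ 0 := by
      rw [← hab]
      exact mul_ne_zero (fun h => hb (hinj (h.trans (map_zero _).symm))) hx0
    intro hbot
    have hmem : algebraMap A S a ∈ q := ha
    rw [hbot, Ideal.mem_bot] at hmem
    exact ha0 (congrArg Subtype.val hmem)
  have h4 : 1 ≤ q.height := Groth.Agent.Lib.Helper4.DimFormula.one_le_height_of_ne_bot q hq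
  rw [h1, add_zero] at key
  have h4' : ((1 : ℕ∞) : Cardinal.{u}) ≤ (q.height : Cardinal.{u}) :=
    Cardinal.ofENat_le_ofENat.mpr h4
  have h4'' : (1 : Cardinal.{u}) ≤ (q.height : Cardinal.{u}) := by exact_mod_cast h4'
  have h5 : ((1 + n : ℕ∞) : Cardinal.{u}) ≤ ((maximalIdeal A).height : Cardinal.{u}) := by
    calc ((1 + n : ℕ∞) : Cardinal.{u}) = (1 : Cardinal.{u}) + (n : Cardinal.{u}) := by
          rw [Cardinal.ofENat_add]
          simp
      _ ≤ (q.height : Cardinal.{u}) + Algebra.trdeg (A ⧸ maximalIdeal A) (S ⧸ q) :=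
          add_le_add h4'' h3
      _ ≤ _ := key
  have h6 : (1 + n : ℕ∞) ≤ (maximalIdeal A).height := Cardinal.ofENat_le_ofENat.mp h5
  rw [← IsLocalRing.maximalIdeal_height_eq_ringKrullDim]
  have h7 : ((1 + n : ℕ∞) : WithBot ℕ∞) ≤ ((maximalIdeal A).height : WithBot ℕ∞) :=
    WithBot.coe_le_coe.mpr h6
  rw [add_comm]
  exact_mod_cast h7

end Groth.Agent.Lib.Helper5.ValCentre
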