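import Mathlib
import Groth.Agent.Lib.Helper5Abhyankar

/-!
# Height of a valuation ring is at most the transcendence degree over the prime field plus one
(helper5)

* `exists_int_frac`: elements of the prime subfield are quotients of coprime integers.
* `val_eq_one_of_le`: for valuation subrings `B' ≤ B`, if some nonzero element of the prime field is
  a non-unit of `B`, every element of the prime field which is a unit of `B` is a unit of `B'`.
* `transition_unique`, `ringKrullDim_le`.
-/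

set_option autoImplicit false
universe u

namespace Groth.Agent.Lib.Helper5.ValHeight

open Valuation

variable {K : Type u} [Field K]

theorem exists_int_frac (q : K) (hq : q ∈ (⊥ : Subfield K)) :
    ∃ a b : ℤ, IsCoprime a b ∧ (b : K) ≠ 0 ∧ q = (a : K) / (b : K) := by
  rw [← Subfield.closure_empty, Subfield.mem_closure_iff] at hq
  obtain ⟨y, hy, z, hz, rfl⟩ := hq
  rw [Subring.closure_empty, Subring.mem_bot] at hy hz
  obtain ⟨a, rfl⟩ := hy
  obtain ⟨b, rfl⟩ := hz
  by_cases hb : (b : K) = 0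
  · refine ⟨0, 1, isCoprime_zero_left.mpr isUnit_one, by simp, ?_⟩
    rw [hb, div_zero, Int.cast_zero, zero_div]
  · have hb0 : b ≠ 0 := by
      rintro rfl
      exact hb Int.cast_zero
    have hg : 0 < Int.gcd a b := Int.gcd_pos_of_ne_zero_right _ hb0
    obtain ⟨a', b', hcop, ha, hb'⟩ := Int.exists_gcd_one hg
    have haK : (a : K) = (a' : K) * ((Int.gcd a b : ℤ) : K) := by
      exact_mod_cast congrArg (Int.cast : ℤ → K) ha
    have hbK : (b : K) = (b' : K) * ((Int.gcd a b : ℤ) : K) := by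
      exact_mod_cast congrArg (Int.cast : ℤ → K) hb'
    have hgK : ((Int.gcd a b : ℤ) : K) ≠ 0 := by
      intro h
      apply hb
      rw [hbK, h, mul_zero]
    refine ⟨a', b', Int.isCoprime_iff_gcd_eq_one.mpr hcop, ?_, ?_⟩
    · intro h
      apply hb
      rw [hbK, h, zero_mul]
    · rw [haK, hbK, mul_div_mul_right _ _ hgK]

theorem val_eq_one_mono {B B' : ValuationSubring K} (hle : B' ≤ B) {x : K}
    (hx : B'.valuation x = 1) : B.valuation x = 1 := by
  have hx0 : x ≠ 0 := by
    rintro rfl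
    rw [map_zero] at hx
    exact zero_ne_one hx
  have h1 : Units.mk0 x hx0 ∈ B'.unitGroup := (ValuationSubring.mem_unitGroup_iff _ _).mpr hx
  have h2 := (ValuationSubring.unitGroup_le_unitGroup.mpr hle) h1
  exact (ValuationSubring.mem_unitGroup_iff _ _).mp h2

/-- The integers which are non-units of `B`. -/
noncomputable def intIdeal (B : ValuationSubring K) : Ideal ℤ :=
  Ideal.comap (Int.castRingHom B) (IsLocalRing.maximalIdeal B)

theorem mem_intIdeal (B : ValuationSubring K) (n : ℤ) :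
    n ∈ intIdeal B ↔ B.valuation (n : K) < 1 := by
  unfold intIdeal
  rw [Ideal.mem_comap, ValuationSubring.valuation_lt_one_iff]
  simp

instance (B : ValuationSubring K) : (intIdeal B).IsPrime := by
  unfold intIdeal
  exact Ideal.comap_isPrime _ _

theorem int_val_le (B : ValuationSubring K) (n : ℤ) : B.valuation (n : K) ≤ 1 :=
  (ValuationSubring.valuation_le_one_iff B _).mpr (intCast_mem B n)

theorem int_val_eq_one_iff (B : ValuationSubring K) (n : ℤ) :
    B.valuation (n : K) = 1 ↔ n ∉ intIdeal B := by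
  rw [mem_intIdeal, not_lt]
  exact ⟨fun h => h.ge, fun h => le_antisymm (int_val_le B n) h⟩

theorem val_eq_one_of_le (B B' : ValuationSubring K) (hle : B' ≤ B)
    (q q₀ : K) (hq : q ∈ (⊥ : Subfield K)) (hq₀ : q₀ ∈ (⊥ : Subfield K)) (hq₀0 : q₀ ≠ 0)
    (h1 : B.valuation q = 1) (h0 : B.valuation q₀ ≠ 1) : B'.valuation q = 1 := by
  have hI : intIdeal B ≤ intIdeal B' := by
    intro n hn
    by_contra hn'
    have h2 := (int_val_eq_one_iff B' n).mpr hn'
    have h3 := val_eq_one_mono hle h2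
    exact (int_val_eq_one_iff B n).mp h3 hn
  obtain ⟨a₀, b₀, -, hb₀, rfl⟩ := exists_int_frac q₀ hq₀
  have ha₀ : (a₀ : K) ≠ 0 := by
    intro h
    apply hq₀0
    rw [h, zero_div]
  have hne : intIdeal B ≠ ⊥ := by
    intro hbot
    apply h0
    have e1 : B.valuation (a₀ : K) = 1 := by
      rw [int_val_eq_one_iff, hbot, Ideal.mem_bot]
      rintro rfl
      exact ha₀ Int.cast_zero
    have e2 : B.valuation (b₀ : K) = 1 := by
      rw [int_val_eq_one_iff, hbot, Ideal.mem_bot]
      rintro rfl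
      exact hb₀ Int.cast_zero
    rw [map_div₀, e1, e2, div_one]
  have hmax : (intIdeal B).IsMaximal := Ideal.IsPrime.isMaximal inferInstance hne
  have heq : intIdeal B = intIdeal B' :=
    hmax.eq_of_le (Ideal.IsPrime.ne_top inferInstance) hI
  obtain ⟨a, b, hcop, hb, rfl⟩ := exists_int_frac q hq
  have hbv : B.valuation (b : K) ≠ 0 := (Valuation.ne_zero_iff _).mpr hb
  have hab : B.valuation (a : K) = B.valuation (b : K) := by
    rw [map_div₀] at h1
    exact (div_eq_one_iff_eq hbv).mp h1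
  have hnot : ¬ (a ∈ intIdeal B' ∧ b ∈ intIdeal B') := by
    rintro ⟨ha, hb'⟩
    obtain ⟨s, t, hst⟩ := hcop
    have h1mem : (1 : ℤ) ∈ intIdeal B' := by
      rw [← hst]
      exact (intIdeal B').add_mem ((intIdeal B').mul_mem_left s ha)
        ((intIdeal B').mul_mem_left t hb')
    exact (Ideal.IsPrime.ne_top inferInstance) ((Ideal.eq_top_iff_one _).mpr h1mem)
  have hboth : a ∉ intIdeal B' ∧ b ∉ intIdeal B' := by
    by_cases ha : a ∈ intIdeal B'
    · have hb' : b ∉ intIdeal B' := fun hb' => hnot ⟨ha, hb'⟩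
      have e2 : B.valuation (b : K) = 1 := (int_val_eq_one_iff B b).mpr (heq ▸ hb')
      have e1 : B.valuation (a : K) = 1 := hab.trans e2
      exact absurd (heq ▸ ha) ((int_val_eq_one_iff B a).mp e1)
    · have e1 : B.valuation (a : K) = 1 := (int_val_eq_one_iff B a).mpr (heq ▸ ha)
      have e2 : B.valuation (b : K) = 1 := hab.symm.trans e1
      exact ⟨ha, heq ▸ (int_val_eq_one_iff B b).mp e2⟩
  rw [map_div₀, (int_val_eq_one_iff B' a).mpr hboth.1, (int_val_eq_one_iff B' b).mpr hboth.2,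
    div_one]

theorem transition_unique (B : ℕ → ValuationSubring K) (hB : ∀ i j, i ≤ j → B j ≤ B i)
    (j j' : ℕ) (q q' : K) (hq : q ∈ (⊥ : Subfield K)) (hq' : q' ∈ (⊥ : Subfield K))
    (h1 : (B j).valuation q = 1) (h2 : (B (j + 1)).valuation q ≠ 1)
    (h1' : (B j').valuation q' = 1) (h2' : (B (j' + 1)).valuation q' ≠ 1) : j = j' := by
  have hq0 : q ≠ 0 := by
    rintro rfl
    rw [map_zero] at h1
    exact zero_ne_one h1
  have hq'0 : q' ≠ 0 := by
    rintro rfl
    rw [map_zero] at h1'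
    exact zero_ne_one h1'
  rcases lt_trichotomy j j' with h | h | h
  · exfalso
    have e1 : (B (j + 1)).valuation q' = 1 := val_eq_one_mono (hB (j + 1) j' h) h1'
    exact h2' (val_eq_one_of_le (B (j + 1)) (B (j' + 1)) (hB _ _ (by omega)) q' q hq' hq hq0 e1 h2)
  · exact h
  · exfalso
    have e1 : (B (j' + 1)).valuation q = 1 := val_eq_one_mono (hB (j' + 1) j h) h1
    exact h2 (val_eq_one_of_le (B (j' + 1)) (B (j + 1)) (hB _ _ (by omega)) q q' hq hq' hq'0 e1 h2')

theorem sum_zsmul_mk_eq {ι : Type*} (s : Finset ι) (u : ι → Kˣ) (g : ι → ℤ)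
    (N : AddSubgroup (Additive Kˣ)) :
    ∑ i ∈ s, g i • (QuotientAddGroup.mk (Additive.ofMul (u i)) : Additive Kˣ ⧸ N) =
      QuotientAddGroup.mk (Additive.ofMul (∏ i ∈ s, u i ^ g i)) := by
  have h : (QuotientAddGroup.mk' N) (Additive.ofMul (∏ i ∈ s, u i ^ g i)) =
      ∑ i ∈ s, g i • (QuotientAddGroup.mk' N) (Additive.ofMul (u i)) := by
    rw [ofMul_prod, map_sum]
    refine Finset.sum_congr rfl fun i _ => ?_
    rw [ofMul_zpow, map_zsmul]
  exact h.symm

theorem ringKrullDim_le (A : ValuationSubring K) (d : ℕ)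
    (hd : Algebra.trdeg (⊥ : Subfield K) K = d) :
    ringKrullDim A ≤ ((d + 1 : ℕ) : WithBot ℕ∞) := by
  classical
  unfold ringKrullDim Order.krullDim
  refine iSup_le fun l => ?_
  by_contra hlen
  have hlen' : d + 2 ≤ l.length := by
    by_contra h
    exact hlen (by exact_mod_cast (by omega : l.length ≤ d + 1))
  let 𝔭 : ℕ → PrimeSpectrum A := fun i => l ⟨min i l.length, by omega⟩
  have h𝔭mono : Monotone 𝔭 := by
    intro i j hij
    apply l.monotone
    show min i l.length ≤ min j l.length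
    omega
  have h𝔭lt : ∀ i, i < l.length → 𝔭 i < 𝔭 (i + 1) := by
    intro i hi
    apply l.strictMono
    show min i l.length < min (i + 1) l.length
    omega
  let B : ℕ → ValuationSubring K := fun i => A.ofPrime (𝔭 i).asIdeal
  have hB : ∀ i j, i ≤ j → B j ≤ B i := fun i j hij =>
    ValuationSubring.ofPrime_le_of_le A _ _ ((PrimeSpectrum.asIdeal_le_asIdeal _ _).mpr (h𝔭mono hij))
  have hAB : ∀ i, A ≤ B i := fun i => A.le_ofPrime _
  have hx : ∀ i : ℕ, ∃ x : A, i < l.length →
      (x ∈ (𝔭 (i + 1)).asIdeal ∧ x ∉ (𝔭 i).asIdeal) := by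
    intro i
    by_cases hi : i < l.length
    · obtain ⟨x, hx1, hx2⟩ :=
        SetLike.exists_of_lt ((PrimeSpectrum.asIdeal_lt_asIdeal _ _).mpr (h𝔭lt i hi))
      exact ⟨x, fun _ => ⟨hx1, hx2⟩⟩
    · exact ⟨0, fun h => absurd h hi⟩
  choose x hx using hx
  have hv1 : ∀ i j, i < l.length → j ≤ i → (B j).valuation (x i : K) = 1 := by
    intro i j hi hji
    rw [ValuationSubring.ofPrime_valuation_eq_one_iff_mem_primeCompl]
    intro hmem
    exact (hx i hi).2 ((PrimeSpectrum.asIdeal_le_asIdeal _ _).mpr (h𝔭mono hji) hmem)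
  have hvlt : ∀ i j, i < l.length → i < j → (B j).valuation (x i : K) < 1 := by
    intro i j hi hij
    have hle : (B j).valuation (x i : K) ≤ 1 :=
      (ValuationSubring.valuation_le_one_iff _ _).mpr (hAB j (x i).2)
    refine lt_of_le_of_ne hle ?_
    intro hnot
    rw [ValuationSubring.ofPrime_valuation_eq_one_iff_mem_primeCompl] at hnot
    exact hnot ((PrimeSpectrum.asIdeal_le_asIdeal _ _).mpr
      (h𝔭mono (Nat.succ_le_of_lt hij)) (hx i hi).1)
  have hx0 : ∀ i, i < l.length → (x i : K) ≠ 0 := by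
    intro i hi h0
    have := hv1 i i hi le_rfl
    rw [h0, map_zero] at this
    exact zero_ne_one this
  let u : Fin (d + 2) → Kˣ := fun i =>
    Units.mk0 (x i.1 : K) (hx0 i.1 (lt_of_lt_of_le i.2 hlen'))
  -- Abhyankar over the prime field
  let vL : Valuation K A.ValueGroup := A.valuation
  let vK : Valuation (⊥ : Subfield K) A.ValueGroup := vL.comap (algebraMap (⊥ : Subfield K) K)
  haveI : vK.HasExtension vL := ⟨Valuation.IsEquiv.refl⟩
  have hab := Groth.Agent.Lib.Helper5.Abhyankar.abhyankar vK vL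
  have hrank : Module.rank ℤ (Additive Kˣ ⧸ Subgroup.toAddSubgroup
      (vL.valuationSubring.unitGroup ⊔
        (Units.map (algebraMap (⊥ : Subfield K) K).toMonoidHom).range)) ≤ (d : Cardinal.{u}) := by
    rw [← hd]
    exact le_trans (self_le_add_right _ _) hab
  let T : ℕ → Prop := fun j => ∃ q : K, q ∈ (⊥ : Subfield K) ∧ (B j).valuation q = 1 ∧
    (B (j + 1)).valuation q ≠ 1
  have hTuniq : ∀ j j', T j → T j' → j = j' := by
    rintro j j' ⟨q, hq, h1, h2⟩ ⟨q', hq', h1', h2'⟩
    exact transition_unique B hB j j' q q' hq hq' h1 h2 h1' h2'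
  obtain ⟨j₀, hj₀⟩ : ∃ j₀ : Fin (d + 2), ∀ j : Fin (d + 2), T j.1 → j = j₀ := by
    by_cases h : ∃ j : Fin (d + 2), T j.1
    · obtain ⟨j₀, hj₀⟩ := h
      exact ⟨j₀, fun j hj => Fin.ext (hTuniq _ _ hj hj₀)⟩
    · exact ⟨0, fun j hj => absurd ⟨j, hj⟩ h⟩
  have hli : LinearIndependent ℤ (fun i : {i : Fin (d + 2) // i ≠ j₀} =>
      (QuotientAddGroup.mk (Additive.ofMul (u i.1)) : Additive Kˣ ⧸ Subgroup.toAddSubgroup
        (vL.valuationSubring.unitGroup ⊔
          (Units.map (algebraMap (⊥ : Subfield K) K).toMonoidHom).range))) := by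
    rw [linearIndependent_iff']
    intro s g hsum i₀ hi₀
    by_contra hgi
    let S' := s.filter (fun i => g i ≠ 0)
    have hS' : S'.Nonempty := ⟨i₀, Finset.mem_filter.mpr ⟨hi₀, hgi⟩⟩
    let j := S'.min' hS'
    have hjS : j ∈ S' := Finset.min'_mem _ _
    have hjs : j ∈ s := (Finset.mem_filter.mp hjS).1
    have hgj : g j ≠ 0 := (Finset.mem_filter.mp hjS).2
    have hjmin : ∀ i ∈ s, g i ≠ 0 → j.1.1 ≤ i.1.1 := fun i hi hg =>
      Finset.min'_le S' i (Finset.mem_filter.mpr ⟨hi, hg⟩)
    rw [sum_zsmul_mk_eq s (fun i => u i.1) g, QuotientAddGroup.eq_zero_iff] at hsum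
    have hsum' : (∏ i ∈ s, u i.1 ^ g i : Kˣ) ∈ vL.valuationSubring.unitGroup ⊔
        (Units.map (algebraMap (⊥ : Subfield K) K).toMonoidHom).range := hsum
    obtain ⟨w, hw, z, ⟨c, rfl⟩, hwz⟩ := Subgroup.mem_sup.mp hsum'
    have hvX : ∀ k, (B k).valuation ((∏ i ∈ s, u i.1 ^ g i : Kˣ) : K) =
        ∏ i ∈ s, (B k).valuation (x i.1.1 : K) ^ g i := by
      intro k
      rw [Units.coe_prod, map_prod]
      refine Finset.prod_congr rfl fun i _ => ?_
      rw [Units.val_zpow_eq_zpow_val, map_zpow₀]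
      rfl
    have hvz : ∀ k, (B k).valuation ((∏ i ∈ s, u i.1 ^ g i : Kˣ) : K) =
        (B k).valuation ((c : (⊥ : Subfield K)) : K) := by
      intro k
      have hw1 : (B k).valuation (w : K) = 1 :=
        val_eq_one_mono (hAB k) (by
          rw [Valuation.mem_unitGroup_iff] at hw
          exact hw)
      have : ((∏ i ∈ s, u i.1 ^ g i : Kˣ) : K) = (w : K) *
          ((Units.map (algebraMap (⊥ : Subfield K) K).toMonoidHom c : Kˣ) : K) := by
        rw [← hwz, Units.val_mul]
      rw [this, map_mul, hw1, one_mul]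
      rfl
    have hT : T j.1.1 := by
      refine ⟨((c : (⊥ : Subfield K)) : K), (c : (⊥ : Subfield K)).2, ?_, ?_⟩
      · rw [← hvz, hvX]
        refine Finset.prod_eq_one fun i hi => ?_
        by_cases hg : g i = 0
        · rw [hg, zpow_zero]
        · rw [hv1 i.1.1 j.1.1 (lt_of_lt_of_le i.1.2 hlen') (hjmin i hi hg), one_zpow]
      · rw [← hvz, hvX, Finset.prod_eq_single j]
        · have hlt := hvlt j.1.1 (j.1.1 + 1) (lt_of_lt_of_le j.1.2 hlen') (Nat.lt_succ_self _)
          intro h1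
          exact hgj ((zpow_eq_one_iff_right₀ zero_le hlt.ne).mp h1)
        · intro i hi hij
          by_cases hg : g i = 0
          · rw [hg, zpow_zero]
          · have h1 : j.1.1 ≤ i.1.1 := hjmin i hi hg
            have h2 : j.1.1 < i.1.1 :=
              lt_of_le_of_ne h1 (fun h => hij (Subtype.ext (Fin.ext h)).symm)
            rw [hv1 i.1.1 (j.1.1 + 1) (lt_of_lt_of_le i.1.2 hlen') h2, one_zpow]
        · intro h
          exact absurd hjs h
    exact j.2 (hj₀ j.1 hT)
  have hcard := hli.cardinal_lift_le_rank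
  have hc : Cardinal.mk {i : Fin (d + 2) // i ≠ j₀} = ((d + 1 : ℕ) : Cardinal) := by
    rw [Cardinal.mk_fintype]
    congr 1
    rw [Fintype.card_subtype_compl (fun i => i = j₀), Fintype.card_subtype_eq, Fintype.card_fin]
    rfl
  rw [hc] at hcard
  have h3 : ((d + 1 : ℕ) : Cardinal.{u}) ≤ (d : Cardinal.{u}) := by
    have h4 := le_trans hcard (Cardinal.lift_le.mpr hrank)
    simpa using h4
  have h5 : d + 1 ≤ d := by exact_mod_cast h3
  omega

end Groth.Agent.Lib.Helper5.ValHeight
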