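import Mathlib
import Groth.Agent.Lib.Helper5ValHeight

/-!
# A valuation ring is a filtered union of valuation subrings of finite height (helper5)

For a finite subset `S` of a valuation ring `R` with fraction field `K`, the subring
`F R S = R ∩ (subfield of K generated by S)` is a valuation ring whose fraction field has finite
transcendence degree over the prime field; by `ValHeight.ringKrullDim_le` it has finite Krull
dimension, hence finite spectrum (the spectrum is totally ordered).
-/

set_option autoImplicit false
universe u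

namespace Groth.Agent.Lib.Helper5.ValUnion

open Valuation

theorem finite_primeSpectrum_of_ringKrullDim_le (A : Type*) [CommRing A] [IsDomain A]
    [ValuationRing A] (n : ℕ) (h : ringKrullDim A ≤ (n : WithBot ℕ∞)) :
    Finite (PrimeSpectrum A) := by
  classical
  by_contra hinf
  rw [not_finite_iff_infinite] at hinf
  letI : LinearOrder (PrimeSpectrum A) :=
    { (inferInstance : PartialOrder (PrimeSpectrum A)) with
      le_total := fun p q => Std.Total.total (r := (· ≤ ·)) p.asIdeal q.asIdeal
      toDecidableLE := Classical.decRel _ }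
  obtain ⟨s, hs⟩ := Infinite.exists_subset_card_eq (PrimeSpectrum A) (n + 1 + 1)
  let e := s.orderEmbOfFin hs
  let l : LTSeries (PrimeSpectrum A) :=
    LTSeries.mk (n + 1) (fun i => e i) (fun i j hij => e.strictMono hij)
  have h1 := Order.LTSeries.length_le_krullDim l
  have h2 : ((n + 1 : ℕ) : WithBot ℕ∞) ≤ (n : WithBot ℕ∞) := le_trans h1 h
  have h3 : n + 1 ≤ n := by exact_mod_cast h2
  omega

variable (R : Type u) [CommRing R] [IsDomain R] [ValuationRing R]

/-- The subfield of the fraction field generated by a finite subset of `R`. -/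
noncomputable abbrev fld (S : Finset R) : Subfield (FractionRing R) :=
  Subfield.closure ((algebraMap R (FractionRing R)) '' (S : Set R))

/-- `R ∩ fld R S`. -/
noncomputable def F (S : Finset R) : Subring R :=
  (fld R S).toSubring.comap (algebraMap R (FractionRing R))

theorem mem_F (S : Finset R) (r : R) :
    r ∈ F R S ↔ algebraMap R (FractionRing R) r ∈ fld R S := Iff.rfl

theorem F_mono : Monotone (F R) := by
  intro S T hST r hr
  rw [mem_F] at hr ⊢
  exact Subfield.closure_mono (Set.image_mono (Finset.coe_subset.mpr hST)) hr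

theorem mem_F_singleton (r : R) : r ∈ F R {r} := by
  rw [mem_F]
  exact Subfield.subset_closure ⟨r, by simp, rfl⟩

theorem iSup_F : (⨆ S, F R S) = ⊤ := by
  rw [eq_top_iff]
  intro r _
  exact (le_iSup (F R) {r}) (mem_F_singleton R r)

instance valuationRing_F (S : Finset R) : ValuationRing (F R S) := by
  refine { toPreValuationRing := ⟨?_⟩ }
  intro a b
  by_cases ha : a = 0
  · exact ⟨0, Or.inr (by rw [ha, mul_zero])⟩
  by_cases hb : b = 0
  · exact ⟨0, Or.inl (by rw [hb, mul_zero])⟩
  have haK : algebraMap R (FractionRing R) (a : R) ≠ 0 := by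
    rw [Ne, map_eq_zero_iff _ (IsFractionRing.injective R (FractionRing R))]
    exact fun h => ha (Subtype.ext h)
  have hbK : algebraMap R (FractionRing R) (b : R) ≠ 0 := by
    rw [Ne, map_eq_zero_iff _ (IsFractionRing.injective R (FractionRing R))]
    exact fun h => hb (Subtype.ext h)
  obtain ⟨c, hc⟩ := ValuationRing.cond (a : R) (b : R)
  rcases hc with hc | hc
  · have hcK : algebraMap R (FractionRing R) c =
        algebraMap R (FractionRing R) (b : R) / algebraMap R (FractionRing R) (a : R) := by
      rw [eq_div_iff haK, ← map_mul, mul_comm, hc]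
    have hcF : c ∈ F R S := by
      rw [mem_F, hcK]
      exact div_mem ((mem_F R S _).mp b.2) ((mem_F R S _).mp a.2)
    exact ⟨⟨c, hcF⟩, Or.inl (Subtype.ext hc)⟩
  · have hcK : algebraMap R (FractionRing R) c =
        algebraMap R (FractionRing R) (a : R) / algebraMap R (FractionRing R) (b : R) := by
      rw [eq_div_iff hbK, ← map_mul, mul_comm, hc]
    have hcF : c ∈ F R S := by
      rw [mem_F, hcK]
      exact div_mem ((mem_F R S _).mp a.2) ((mem_F R S _).mp b.2)
    exact ⟨⟨c, hcF⟩, Or.inr (Subtype.ext hc)⟩

/-- `R ∩ fld R S` as a valuation subring of `fld R S`. -/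
noncomputable def VS (S : Finset R) : ValuationSubring (fld R S) :=
  { toSubring := ((algebraMap R (FractionRing R)).range).comap (fld R S).subtype
    mem_or_inv_mem' := by
      intro y
      rcases ValuationRing.isInteger_or_isInteger R (y : FractionRing R) with ⟨r, hr⟩ | ⟨r, hr⟩
      · left
        exact ⟨r, hr⟩
      · right
        exact ⟨r, hr⟩ }

theorem mem_VS (S : Finset R) (y : fld R S) :
    y ∈ VS R S ↔ ∃ r : R, algebraMap R (FractionRing R) r = (y : FractionRing R) := Iff.rfl

/-- `F R S ≃+* VS R S`. -/
noncomputable def equivVS (S : Finset R) : F R S ≃+* VS R S := by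
  let f₀ : F R S →+* fld R S :=
    ((algebraMap R (FractionRing R)).comp (F R S).subtype).codRestrict (fld R S) (fun x => x.2)
  let f : F R S →+* VS R S := f₀.codRestrict (VS R S) (fun x => ⟨x.1, rfl⟩)
  refine RingEquiv.ofBijective f ⟨?_, ?_⟩
  · intro a b hab
    have h1 : algebraMap R (FractionRing R) (a : R) = algebraMap R (FractionRing R) (b : R) :=
      congrArg (fun z : VS R S => ((z : fld R S) : FractionRing R)) hab
    exact Subtype.ext (IsFractionRing.injective R (FractionRing R) h1)
  · rintro ⟨y, r, hr⟩
    have hrF : r ∈ F R S := by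
      rw [mem_F]
      have : algebraMap R (FractionRing R) r = (y : FractionRing R) := hr
      rw [this]
      exact y.2
    exact ⟨⟨r, hrF⟩, Subtype.ext (Subtype.ext hr)⟩

theorem closure_eq_top (S : Finset R) :
    Subfield.closure (((↑) : fld R S → FractionRing R) ⁻¹'
      ((algebraMap R (FractionRing R)) '' (S : Set R))) = ⊤ := by
  rw [eq_top_iff]
  rintro ⟨x, hx⟩ -
  refine Subfield.closure_induction
    (p := fun y hy => (⟨y, hy⟩ : fld R S) ∈ Subfield.closure (((↑) : fld R S → FractionRing R) ⁻¹'
      ((algebraMap R (FractionRing R)) '' (S : Set R)))) ?_ ?_ ?_ ?_ ?_ ?_ hx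
  · intro y hy
    exact Subfield.subset_closure hy
  · exact one_mem _
  · intro a b ha hb h1 h2
    exact add_mem h1 h2
  · intro a ha h1
    exact neg_mem h1
  · intro a ha h1
    exact inv_mem h1
  · intro a b ha hb h1 h2
    exact mul_mem h1 h2

theorem exists_trdeg_eq (S : Finset R) :
    ∃ d : ℕ, Algebra.trdeg (⊥ : Subfield (fld R S)) (fld R S) = d := by
  have hfin : (((↑) : fld R S → FractionRing R) ⁻¹'
      ((algebraMap R (FractionRing R)) '' (S : Set R))).Finite :=
    (Set.Finite.image _ S.finite_toSet).preimage Subtype.val_injective.injOn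
  have htop : IntermediateField.adjoin (⊥ : Subfield (fld R S))
      (((↑) : fld R S → FractionRing R) ⁻¹' ((algebraMap R (FractionRing R)) '' (S : Set R))) =
      ⊤ := by
    rw [eq_top_iff]
    intro x _
    have hx : x ∈ Subfield.closure (((↑) : fld R S → FractionRing R) ⁻¹'
        ((algebraMap R (FractionRing R)) '' (S : Set R))) := by
      rw [closure_eq_top]
      trivial
    exact (Subfield.closure_le.mpr (IntermediateField.subset_adjoin _ _) :
      _ ≤ (IntermediateField.adjoin (⊥ : Subfield (fld R S)) _).toSubfield) hx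
  have hFG : (⊤ : IntermediateField (⊥ : Subfield (fld R S)) (fld R S)).FG :=
    ⟨hfin.toFinset, by rw [Set.Finite.coe_toFinset]; exact htop⟩
  haveI : Algebra.EssFiniteType (⊥ : Subfield (fld R S)) (fld R S) :=
    IntermediateField.fg_top_iff.mp hFG
  have hlt := trdeg_lt_aleph0 (⊥ : Subfield (fld R S)) (fld R S)
  obtain ⟨d, hd⟩ := Cardinal.lt_aleph0.mp hlt
  exact ⟨d, hd⟩

theorem finite_primeSpectrum_F (S : Finset R) : Finite (PrimeSpectrum (F R S)) := by
  obtain ⟨d, hd⟩ := exists_trdeg_eq R S
  have h1 := Groth.Agent.Lib.Helper5.ValHeight.ringKrullDim_le (VS R S) d hd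
  haveI := finite_primeSpectrum_of_ringKrullDim_le (VS R S) (d + 1) h1
  exact Finite.of_equiv _ (PrimeSpectrum.comapEquiv (equivVS R S)).symm.toEquiv

end Groth.Agent.Lib.Helper5.ValUnion
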