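import Mathlib
import Groth.Prelude.Def_W4c1liftfrobW2
import Groth.Agent.Lib.Helper5W2Lift

/-!
# Descent of `W₂`-liftability along a linearly split ring map (helper5)

If `A → B` has an `A`-linear retraction `r` and `B'` is a flat lifting of `B` over `W₂(k)`, then
`π⁻¹(A) / p·ker r` is a flat lifting of `A`.
-/

set_option autoImplicit false
universe u

namespace Groth.Agent.Lib.Helper5.W2Retract

open Groth.Agent.Lib.Helper5.W2Lift

variable {p : ℕ} [Fact p.Prime] {k : Type u} [Field k] [CharP k p] [PerfectRing k p]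
  {A B : Type u} [CommRing A] [CommRing B] [Algebra k A] [Algebra k B] [Algebra A B]
  [IsScalarTower k A B]
  (r : B →ₗ[A] A) (hr : ∀ a : A, r (algebraMap A B a) = a)
  {B' : Type u} [CommRing B'] {ιB : FrobAlg.W2 p k →+* B'} {πB : B' →+* B}
  (hB : FrobAlg.IsLift p k B B' ιB πB)

/-- The preimage of `A` in `B'`. -/
def C (A : Type u) [CommRing A] [Algebra A B] (πB : B' →+* B) : Subring B' :=
  (algebraMap A B).range.comap πB

omit [Algebra k A] [Algebra k B] [IsScalarTower k A B] [Fact p.Prime] [CharP k p]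
  [PerfectRing k p] in
theorem exists_of_mem (c : C A πB) : ∃ a : A, algebraMap A B a = πB c := c.2

include hr in
omit [Algebra k A] [Algebra k B] [IsScalarTower k A B] [Fact p.Prime] [CharP k p]
  [PerfectRing k p] in
theorem r_one : r 1 = 1 := by
  have := hr 1
  rwa [map_one] at this

/-- The reduction map `π⁻¹(A) → A`. -/
noncomputable def piC : C A πB →+* A where
  toFun c := r (πB c)
  map_one' := by
    change r (πB 1) = 1
    rw [map_one, r_one r hr]
  map_mul' c c' := by
    obtain ⟨a, ha⟩ := exists_of_mem c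
    obtain ⟨a', ha'⟩ := exists_of_mem c'
    change r (πB (c * c' : B')) = r (πB c) * r (πB c')
    rw [map_mul, ← ha, ← ha', ← map_mul, hr, hr, hr]
  map_zero' := by
    change r (πB 0) = 0
    rw [map_zero, map_zero]
  map_add' c c' := by
    change r (πB (c + c' : B')) = r (πB c) + r (πB c')
    rw [map_add, map_add]

omit [Algebra k A] [Algebra k B] [IsScalarTower k A B] [Fact p.Prime] [CharP k p]
  [PerfectRing k p] in
theorem piC_apply (c : C A πB) : piC r hr c = r (πB c) := rfl

omit [Algebra k A] [Algebra k B] [IsScalarTower k A B] [Fact p.Prime] [CharP k p]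
  [PerfectRing k p] in
theorem algebraMap_piC (c : C A πB) : algebraMap A B (piC r hr c) = πB c := by
  obtain ⟨a, ha⟩ := exists_of_mem c
  rw [piC_apply, ← ha, hr]

/-- The ideal `p · ker r` of `π⁻¹(A)`. -/
noncomputable def J : Ideal (C A πB) where
  carrier := {c | ∃ b, r b = 0 ∧ mu hB b = (c : B')}
  add_mem' := by
    rintro c c' ⟨b, hb, hc⟩ ⟨b', hb', hc'⟩
    refine ⟨b + b', by rw [map_add, hb, hb', add_zero], ?_⟩
    rw [mu_add, hc, hc']
    rfl
  zero_mem' := ⟨0, map_zero r, mu_zero hB⟩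
  smul_mem' := by
    rintro c x ⟨b, hb, hx⟩
    obtain ⟨a, ha⟩ := exists_of_mem c
    refine ⟨πB c * b, ?_, ?_⟩
    · rw [← ha, ← Algebra.smul_def, map_smul, hb, smul_zero]
    · rw [← mul_mu, hx]
      rfl

omit [Algebra k A] [IsScalarTower k A B] in
theorem mem_J (c : C A πB) : c ∈ J r hB ↔ ∃ b, r b = 0 ∧ mu hB b = (c : B') := Iff.rfl

include hr in
omit [Algebra k A] [IsScalarTower k A B] in
theorem J_le_ker : ∀ c ∈ J r hB, piC r hr c = 0 := by
  rintro c ⟨b, _, hc⟩
  rw [piC_apply, ← hc, pi_mu, map_zero]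

/-- The lifting of `A`. -/
abbrev A' : Type u := C A πB ⧸ J r hB

/-- The reduction map of the lifting of `A`. -/
noncomputable def piA : A' r hB →+* A :=
  Ideal.Quotient.lift (J r hB) (piC r hr) (J_le_ker r hr hB)

include hB in
omit [CharP k p] [PerfectRing k p] in
theorem iota_mem (w : FrobAlg.W2 p k) : ιB w ∈ C A πB := by
  change πB (ιB w) ∈ (algebraMap A B).range
  have : πB (ιB w) = algebraMap k B (FrobAlg.res p k w) := RingHom.congr_fun hB.comm w
  rw [this, IsScalarTower.algebraMap_apply k A B]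
  exact ⟨_, rfl⟩

/-- The structure map of `π⁻¹(A)`. -/
noncomputable def iotaC : FrobAlg.W2 p k →+* C A πB :=
  ιB.codRestrict (C A πB) (iota_mem hB)

/-- The structure map of the lifting of `A`. -/
noncomputable def iotaA : FrobAlg.W2 p k →+* A' r hB :=
  (Ideal.Quotient.mk (J r hB)).comp (iotaC hB)

theorem isLift : FrobAlg.IsLift p k A (A' r hB) (iotaA r hB) (piA r hr hB) := by
  have hmk : ∀ c : C A πB, piA r hr hB (Ideal.Quotient.mk (J r hB) c) = r (πB c) := fun c => rfl
  have hpmem : ((p : ℕ) : B') ∈ C A πB := by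
    have := iota_mem (A := A) hB ((p : ℕ) : FrobAlg.W2 p k)
    rwa [map_natCast] at this
  have hpC : ∀ c : C A πB, (((p : ℕ) : C A πB) * c : C A πB) = (⟨((p : ℕ) : B') * c,
      Subring.mul_mem _ hpmem c.2⟩ : C A πB) := by
    intro c
    apply Subtype.ext
    simp
  refine isLift_of ?_ ?_ ?_ ?_
  · intro a
    obtain ⟨b', hb'⟩ := hB.surj (algebraMap A B a)
    refine ⟨Ideal.Quotient.mk _ ⟨b', ⟨a, hb'.symm⟩⟩, ?_⟩
    rw [hmk]
    change r (πB b') = a
    rw [hb', hr]
  · ext w
    change r (πB (ιB w)) = algebraMap k A (FrobAlg.res p k w)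
    have : πB (ιB w) = algebraMap k B (FrobAlg.res p k w) := RingHom.congr_fun hB.comm w
    rw [this, IsScalarTower.algebraMap_apply k A B, hr]
  · intro x hx
    obtain ⟨c, rfl⟩ := Ideal.Quotient.mk_surjective x
    rw [hmk] at hx
    have h0 : πB c = 0 := by
      rw [← algebraMap_piC r hr c, piC_apply, hx, map_zero]
    obtain ⟨b, hb⟩ := exists_mu_eq hB h0
    obtain ⟨c', hc'⟩ := hB.surj (algebraMap A B (r b))
    refine ⟨Ideal.Quotient.mk _ ⟨c', ⟨r b, hc'.symm⟩⟩, ?_⟩
    rw [← map_natCast (Ideal.Quotient.mk (J r hB)), ← map_mul, Ideal.Quotient.eq, mem_J]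
    refine ⟨b - algebraMap A B (r b), by rw [map_sub, hr, sub_self], ?_⟩
    have e : mu hB (algebraMap A B (r b)) = ((p : ℕ) : B') * c' := by rw [← hc', mu_pi]
    rw [mu_sub, hb, e]
    simp
  · intro x hx
    obtain ⟨c, rfl⟩ := Ideal.Quotient.mk_surjective x
    rw [hmk]
    rw [← map_natCast (Ideal.Quotient.mk (J r hB)), ← map_mul, Ideal.Quotient.eq_zero_iff_mem,
      mem_J] at hx
    obtain ⟨b, hb, hbc⟩ := hx
    have h1 : mu hB b = mu hB (πB c) := by
      rw [hbc, mu_pi]
      simp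
    rw [← mu_injective hB h1, hb]

end Groth.Agent.Lib.Helper5.W2Retract
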