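import Mathlib
import Groth.Prelude.Def_PiSp
import Groth.Agent.Lib.Helper20FEtFaith

/-!
# Multiplication by `n` on an abelian variety as a Galois cover (helper6)
-/

set_option autoImplicit false
set_option linter.style.haveILetI false
set_option linter.unusedVariables false
set_option linter.unusedSectionVars false
universe u
open CategoryTheory CategoryTheory.Limits MonoidalCategory CartesianMonoidalCategory MonObj GrpObj
  AlgebraicGeometry

namespace Groth.Agent.Lib.Helper6.AbGal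

section cat

variable {C : Type*} [Category C] [CartesianMonoidalCategory C] {G : C} [GrpObj G]

/-- right translation by a point -/
def tr (a : 𝟙_ C ⟶ G) : G ⟶ G := 𝟙 G * (toUnit G ≫ a)

lemma comp_tr {T : C} (s : T ⟶ G) (a : 𝟙_ C ⟶ G) : s ≫ tr a = s * (toUnit T ≫ a) := by
  rw [tr, MonObj.comp_mul, Category.comp_id, ← Category.assoc,
    toUnit_unique (s ≫ toUnit G) (toUnit T)]

lemma tr_comp_tr (a b : 𝟙_ C ⟶ G) : tr a ≫ tr b = tr (a * b) := by
  rw [comp_tr, tr, tr, _root_.mul_assoc, ← MonObj.comp_mul]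

lemma tr_one : tr (1 : 𝟙_ C ⟶ G) = 𝟙 G := by
  rw [tr, MonObj.comp_one, _root_.mul_one]

lemma eta_tr (a : 𝟙_ C ⟶ G) : η[G] ≫ tr a = a := by
  rw [comp_tr, MonObj.one_eq_one, _root_.one_mul, toUnit_unique (toUnit (𝟙_ C)) (𝟙 _), Category.id_comp]

lemma tr_comp_pow [BraidedCategory C] [IsCommMonObj G] (a : 𝟙_ C ⟶ G) (n : ℕ) :
    tr a ≫ (𝟙 G : G ⟶ G) ^ n = (𝟙 G : G ⟶ G) ^ n * (toUnit G ≫ a ^ n) := by
  rw [MonObj.comp_pow, Category.comp_id, tr, mul_pow, ← MonObj.comp_pow]

end cat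

section L1

open IsLocalRing

/-- a morphism from the spectrum of a field hitting a closed point factors through the rational
point. -/
lemma eq_comp_pointOfClosedPoint {K : Type u} [Field K] [IsAlgClosed K] {X : Scheme.{u}}
    (f : X ⟶ Spec (.of K)) [LocallyOfFiniteType f] {Ω : Type u} [Field Ω]
    (g : Spec (.of Ω) ⟶ X) (hx : IsClosed {g (closedPoint Ω)}) :
    g = (g ≫ f) ≫ pointOfClosedPoint f (g (closedPoint Ω)) hx := by
  have hg := Scheme.descResidueField_stalkClosedPointTo_fromSpecResidueField Ω X g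
  set φ := X.descResidueField (Scheme.stalkClosedPointTo g) with hφ
  conv_lhs => rw [← hg]
  have h1 : g ≫ f = Spec.map φ ≫ Spec.map (residueFieldIsoBase f _ hx).inv := by
    rw [SpecMap_residueFieldIsoBase_inv, ← Category.assoc, hg]
  have h2 : Spec.map (residueFieldIsoBase f _ hx).inv ≫ Spec.map (residueFieldIsoBase f _ hx).hom =
      𝟙 _ := by
    rw [← Spec.map_comp, Iso.hom_inv_id, Spec.map_id]
  rw [h1, pointOfClosedPoint, Category.assoc, reassoc_of% h2]

end L1

section Main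

variable (k : Type u) [Field k] (A : Over (Spec (CommRingCat.of k))) [GrpObj A]
  [IsCommMonObj A]

lemma tr_comp_P (n : ℕ) (P : A ⟶ A) (hP : P = (𝟙 A : A ⟶ A) ^ n)
    (a : 𝟙_ (Over (Spec (CommRingCat.of k))) ⟶ A) (ha : a ^ n = 1) : tr a ≫ P = P := by
  rw [hP, tr_comp_pow, ha, MonObj.comp_one, _root_.mul_one]

/-- the automorphism of the cover `P` given by translation by an `n`-torsion point. -/
noncomputable def autOf (n : ℕ) (P : A ⟶ A) (hP : P = (𝟙 A : A ⟶ A) ^ n)
    (hF : IsFinite P.left) (hE : Etale P.left)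
    (a : 𝟙_ (Over (Spec (CommRingCat.of k))) ⟶ A) (ha : a ^ n = 1) :
    Aut (MorphismProperty.Over.mk ⊤ P.left ⟨hF, hE⟩ : FEt.Cat A.left) where
  hom := MorphismProperty.Over.homMk (tr a).left
    (congrArg (fun m => m.left) (tr_comp_P k A n P hP a ha)) trivial
  inv := MorphismProperty.Over.homMk (tr a⁻¹).left
    (congrArg (fun m => m.left) (tr_comp_P k A n P hP a⁻¹ (by rw [inv_pow, ha, inv_one]))) trivial
  hom_inv_id := by
    apply MorphismProperty.Over.Hom.ext
    have := congrArg (fun m => m.left) ((tr_comp_tr a a⁻¹).trans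
      (by rw [mul_inv_cancel, tr_one] : tr (a * a⁻¹) = 𝟙 A))
    exact this
  inv_hom_id := by
    apply MorphismProperty.Over.Hom.ext
    have := congrArg (fun m => m.left) ((tr_comp_tr a⁻¹ a).trans
      (by rw [inv_mul_cancel, tr_one] : tr (a⁻¹ * a) = 𝟙 A))
    exact this

lemma autOf_hom_left (n : ℕ) (P : A ⟶ A) (hP : P = (𝟙 A : A ⟶ A) ^ n)
    (hF : IsFinite P.left) (hE : Etale P.left)
    (a : 𝟙_ (Over (Spec (CommRingCat.of k))) ⟶ A) (ha : a ^ n = 1) :
    (autOf k A n P hP hF hE a ha).hom.left = (tr a).left := rfl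

theorem existsUnique_point (n : ℕ) (P : A ⟶ A) (hP : P = (𝟙 A : A ⟶ A) ^ n)
    (hF : IsFinite P.left) (hE : Etale P.left) [ConnectedSpace A.left]
    (θ : Aut (MorphismProperty.Over.mk ⊤ P.left ⟨hF, hE⟩ : FEt.Cat A.left)) :
    ∃! a : 𝟙_ (Over (Spec (CommRingCat.of k))) ⟶ A, a ^ n = 1 ∧ θ.hom.left = (tr a).left := by
  let θL : A.left ⟶ A.left := θ.hom.left
  have hθw : θL ≫ P.left = P.left := MorphismProperty.Over.w θ.hom
  have hPw : P.left ≫ A.hom = A.hom := Over.w P
  let θ' : A ⟶ A := Over.homMk θL (by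
    rw [← hPw, ← Category.assoc, hθw])
  have hθP : θ' ≫ P = P := by
    ext
    exact hθw
  let a : 𝟙_ (Over (Spec (CommRingCat.of k))) ⟶ A := η[A] ≫ θ'
  have hηP : η[A] ≫ P = 1 := by
    rw [hP, MonObj.comp_pow, Category.comp_id, MonObj.one_eq_one, one_pow]
  have ha : a ^ n = 1 := by
    have h1 : a ≫ P = a ^ n := by
      rw [hP, MonObj.comp_pow, Category.comp_id]
    rw [← h1, Category.assoc, hθP, hηP]
  have hagree : θL = (tr a).left := by
    have hψ : (tr a).left ≫ P.left = P.left :=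
      congrArg (fun m => m.left) (tr_comp_P k A n P hP a ha)
    obtain ⟨C, hC, hCt, hCuniv⟩ := Groth.Agent.Lib.Helper20.FEtFaith.exists_isClopen_agree
      P.left P.left θL (tr a).left hθw hψ
    apply hCuniv
    apply hC.eq_univ
    have ht : η[A].left ≫ θL = η[A].left ≫ (tr a).left := by
      have h2 : η[A] ≫ θ' = η[A] ≫ tr a := by rw [eta_tr]
      exact congrArg (fun m => m.left) h2
    exact ⟨η[A].left (IsLocalRing.closedPoint k), hCt η[A].left ht ⟨_, rfl⟩⟩
  refine ⟨a, ⟨ha, hagree⟩, ?_⟩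
  rintro a' ⟨-, ha'⟩
  have h3 : tr a' = θ' := by
    ext
    exact ha'.symm
  have h4 : η[A] ≫ tr a' = a := by rw [h3]
  rw [eta_tr] at h4
  exact h4

open IsLocalRing in
theorem isGaloisCover [IsAlgClosed k] [LocallyOfFiniteType A.hom] (n : ℕ) (P : A ⟶ A)
    (hP : P = (𝟙 A : A ⟶ A) ^ n)
    (hF : IsFinite P.left) (hE : Etale P.left) [ConnectedSpace A.left] :
    PiSp.IsGaloisCover (MorphismProperty.Over.mk ⊤ P.left ⟨hF, hE⟩ : FEt.Cat A.left) := by
  refine ⟨inferInstanceAs (ConnectedSpace A.left), ?_⟩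
  intro Ω _ _ ξ s t
  let sL : Spec (CommRingCat.of Ω) ⟶ A.left := s.1
  let tL : Spec (CommRingCat.of Ω) ⟶ A.left := t.1
  have hs : sL ≫ P.left = ξ := s.2
  have ht : tL ≫ P.left = ξ := t.2
  have hPw : P.left ≫ A.hom = A.hom := Over.w P
  let T : Over (Spec (CommRingCat.of k)) := Over.mk (sL ≫ A.hom)
  let s' : T ⟶ A := Over.homMk sL rfl
  let t' : T ⟶ A := Over.homMk tL (by
    change tL ≫ A.hom = sL ≫ A.hom
    rw [← hPw, ← Category.assoc, ← Category.assoc, hs, ht])
  have hsP : s' ≫ P = t' ≫ P := by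
    ext
    exact hs.trans ht.symm
  have hpow : ∀ x : T ⟶ A, x ≫ P = x ^ n := by
    intro x
    rw [hP, MonObj.comp_pow, Category.comp_id]
  let δ : T ⟶ A := s'⁻¹ * t'
  have hδn : δ ^ n = 1 := by
    rw [mul_pow, inv_pow, ← hpow, ← hpow, hsP, inv_mul_cancel]
  have hδP : δ ≫ P = 1 := by rw [hpow, hδn]
  -- the image point of `δ` is closed
  set z := δ.left (closedPoint Ω) with hz
  have hsub : Subsingleton (Spec (CommRingCat.of k)) :=
    inferInstanceAs (Subsingleton (PrimeSpectrum k))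
  have hPz : P.left z = η[A].left (closedPoint k) := by
    have h1 := congrArg (fun m => m.left (closedPoint Ω)) hδP
    simp only [Over.comp_left, Scheme.Hom.comp_apply] at h1
    rw [h1, Hom.one_def]
    simp only [Over.comp_left, Scheme.Hom.comp_apply]
    congr 1
    exact @Subsingleton.elim _ hsub _ _
  have hclosed_e : IsClosed ({η[A].left (closedPoint k)} : Set A.left) :=
    ((pointEquivClosedPoint A.hom) ⟨η[A].left, Over.w η[A]⟩).2
  haveI : LocallyQuasiFinite P.left := inferInstance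
  have hdisc := Scheme.Hom.isDiscrete_preimage_singleton P.left (η[A].left (closedPoint k))
  have hFclosed : IsClosed (P.left ⁻¹' {η[A].left (closedPoint k)}) :=
    hclosed_e.preimage P.left.continuous
  have hzF : z ∈ P.left ⁻¹' {η[A].left (closedPoint k)} := hPz
  have hzc : IsClosed ({z} : Set A.left) := by
    haveI : DiscreteTopology (P.left ⁻¹' {η[A].left (closedPoint k)}) :=
      isDiscrete_iff_discreteTopology.mp hdisc
    have h1 : IsClosed ({⟨z, hzF⟩} : Set (P.left ⁻¹' {η[A].left (closedPoint k)})) :=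
      isClosed_discrete _
    have h2 := hFclosed.isClosedEmbedding_subtypeVal.isClosedMap _ h1
    simpa using h2
  -- the rational point
  have hfac := eq_comp_pointOfClosedPoint A.hom δ.left hzc
  have hδw : δ.left ≫ A.hom = T.hom := Over.w δ
  let a : 𝟙_ (Over (Spec (CommRingCat.of k))) ⟶ A :=
    Over.homMk (pointOfClosedPoint A.hom z hzc) (pointOfClosedPoint_comp A.hom z hzc)
  have hδa : δ = toUnit T ≫ a := by
    ext
    rw [hfac, hδw]
    rfl
  have ha : a ^ n = 1 := by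
    have h1 : toUnit T ≫ a ^ n = 1 := by rw [MonObj.comp_pow, ← hδa, hδn]
    have h2 := congrArg (fun m => m.left (closedPoint Ω)) h1
    simp only [Over.comp_left, Scheme.Hom.comp_apply] at h2
    have h3 : (a ^ n).left = η[A].left := by
      apply ext_of_apply_closedPoint_eq A.hom (Over.w (a ^ n)) (Over.w η[A])
      rw [Hom.one_def] at h2
      simp only [Over.comp_left, Scheme.Hom.comp_apply] at h2
      rw [@Subsingleton.elim _ hsub (closedPoint k) ((toUnit T).left (closedPoint Ω)), h2]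
    rw [MonObj.one_eq_one] at h3
    ext
    exact h3
  refine ⟨autOf k A n P hP hF hE a ha, ?_⟩
  apply Subtype.ext
  change sL ≫ (tr a).left = tL
  have h4 : s' ≫ tr a = t' := by
    rw [comp_tr, ← hδa, mul_inv_cancel_left]
  exact congrArg (fun m => m.left) h4

end Main

section Final

theorem main (k : Type u) [Field k] [IsAlgClosed k]
    (A : Over (Spec (CommRingCat.of k))) [GrpObj A] [IsProper A.hom] [GeometricallyIntegral A.hom]
    (n : ℕ) :
    ∀ [hF : IsFinite ((𝟙 A) ^ (n : ℤ)).left] [hE : Etale ((𝟙 A) ^ (n : ℤ)).left],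
      PiSp.IsGaloisCover (MorphismProperty.Over.mk ⊤ ((𝟙 A) ^ (n : ℤ)).left ⟨hF, hE⟩ : FEt.Cat A.left) ∧
      (∀ θ : Aut (MorphismProperty.Over.mk ⊤ ((𝟙 A) ^ (n : ℤ)).left ⟨hF, hE⟩ : FEt.Cat A.left),
        ∃! a : 𝟙_ (Over (Spec (CommRingCat.of k))) ⟶ A, a ^ (n : ℤ) = 1 ∧
          θ.hom.left = ((𝟙 A) * (toUnit A ≫ a)).left) ∧
      (∀ a : 𝟙_ (Over (Spec (CommRingCat.of k))) ⟶ A, a ^ (n : ℤ) = 1 →
        ∃ θ : Aut (MorphismProperty.Over.mk ⊤ ((𝟙 A) ^ (n : ℤ)).left ⟨hF, hE⟩ : FEt.Cat A.left),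
          θ.hom.left = ((𝟙 A) * (toUnit A ≫ a)).left) := by
  intro hF hE
  haveI : IsCommMonObj A := isCommMonObj_of_isProper_of_geometricallyIntegral A
  haveI : Subsingleton (Spec (CommRingCat.of k)) :=
    inferInstanceAs (Subsingleton (PrimeSpectrum k))
  haveI : Nonempty (Spec (CommRingCat.of k)) := ⟨IsLocalRing.closedPoint k⟩
  haveI : IrreducibleSpace A.left :=
    GeometricallyIrreducible.irreducibleSpace_of_subsingleton (f := A.hom)
  haveI : ConnectedSpace A.left := inferInstance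
  have hP : (𝟙 A : A ⟶ A) ^ (n : ℤ) = (𝟙 A : A ⟶ A) ^ n := zpow_natCast _ _
  refine ⟨isGaloisCover k A n _ hP hF hE, fun θ => ?_, fun a ha => ?_⟩
  · obtain ⟨a, ⟨ha1, ha2⟩, hau⟩ := existsUnique_point k A n _ hP hF hE θ
    refine ⟨a, ⟨by rw [zpow_natCast]; exact ha1, ha2⟩, fun a' ha' =>
      hau a' ⟨by rw [← zpow_natCast]; exact ha'.1, ha'.2⟩⟩
  · exact ⟨autOf k A n _ hP hF hE a (by rw [← zpow_natCast]; exact ha), rfl⟩

end Final

end Groth.Agent.Lib.Helper6.AbGal
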