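import Groth.Prelude
import Mathlib

open scoped BigOperators

namespace Groth.Agent.Lib.Helper6

universe u

section
variable {A : Type*} [CommRing A] (J : Ideal A)
    {M N : Type*} [AddCommGroup M] [Module A M] [AddCommGroup N] [Module A N]

theorem map_mem_pow_smul_top (u : N →ₗ[A] M) (k : ℕ) {n : N}
    (hn : n ∈ (J ^ k • ⊤ : Submodule A N)) : u n ∈ (J ^ k • ⊤ : Submodule A M) := by
  refine Submodule.smul_induction_on hn (fun r hr n' _ => ?_) (fun x y hx hy => ?_)
  · rw [map_smul]; exact Submodule.smul_mem_smul hr trivial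
  · rw [map_add]; exact Submodule.add_mem _ hx hy

theorem exists_approx (u : N →ₗ[A] M)
    (hsurj : ∀ m : M, ∃ n : N, m - u n ∈ (J • ⊤ : Submodule A M)) (k : ℕ) {m : M}
    (hm : m ∈ (J ^ k • ⊤ : Submodule A M)) :
    ∃ n : N, n ∈ (J ^ k • ⊤ : Submodule A N) ∧ m - u n ∈ (J ^ (k + 1) • ⊤ : Submodule A M) := by
  refine Submodule.smul_induction_on hm (fun r hr m' _ => ?_) (fun x y hx hy => ?_)
  · obtain ⟨n', hn'⟩ := hsurj m'
    refine ⟨r • n', Submodule.smul_mem_smul hr trivial, ?_⟩
    rw [map_smul, ← smul_sub, pow_succ, Submodule.mul_smul]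
    exact Submodule.smul_mem_smul hr hn'
  · obtain ⟨n₁, h₁, h₁'⟩ := hx
    obtain ⟨n₂, h₂, h₂'⟩ := hy
    refine ⟨n₁ + n₂, Submodule.add_mem _ h₁ h₂, ?_⟩
    have : x + y - u (n₁ + n₂) = (x - u n₁) + (y - u n₂) := by rw [map_add]; abel
    rw [this]
    exact Submodule.add_mem _ h₁' h₂'

theorem surjective_of_surjective_mod [IsHausdorff J M] [IsPrecomplete J N] (u : N →ₗ[A] M)
    (hsurj : ∀ m : M, ∃ n : N, m - u n ∈ (J • ⊤ : Submodule A M)) :
    Function.Surjective u := by
  intro m
  -- build the sequence of partial sums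
  have step : ∀ (k : ℕ) (s : N), m - u s ∈ (J ^ k • ⊤ : Submodule A M) →
      ∃ s' : N, m - u s' ∈ (J ^ (k + 1) • ⊤ : Submodule A M) ∧
        s' - s ∈ (J ^ k • ⊤ : Submodule A N) := by
    intro k s hs
    obtain ⟨n, hn, hn'⟩ := exists_approx J u hsurj k hs
    refine ⟨s + n, ?_, by simpa using hn⟩
    have : m - u (s + n) = m - u s - u n := by rw [map_add]; abel
    rw [this]; exact hn'
  let f : (k : ℕ) → {s : N // m - u s ∈ (J ^ k • ⊤ : Submodule A M)} := fun k =>
    Nat.rec ⟨0, by simp⟩ (fun k s => ⟨(step k s.1 s.2).choose, (step k s.1 s.2).choose_spec.1⟩) k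
  have hf : ∀ k, ((f (k + 1)).1 - (f k).1) ∈ (J ^ k • ⊤ : Submodule A N) := fun k =>
    (step k (f k).1 (f k).2).choose_spec.2
  have hcauchy : ∀ {a b : ℕ}, a ≤ b →
      (f a).1 ≡ (f b).1 [SMOD (J ^ a • ⊤ : Submodule A N)] := by
    intro a b hab
    induction b, hab using Nat.le_induction with
    | base => exact SModEq.refl _
    | succ b hab ih =>
      refine ih.trans ?_
      rw [SModEq.sub_mem]
      have h1 : (f b).1 - (f (b + 1)).1 = -((f (b + 1)).1 - (f b).1) := by abel
      rw [h1]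
      exact Submodule.neg_mem _
        (Submodule.smul_mono_left (Ideal.pow_le_pow_right hab) (hf b))
  obtain ⟨L, hL⟩ := IsPrecomplete.prec' (I := J) (fun k => (f k).1) hcauchy
  refine ⟨L, ?_⟩
  have h0 : m - u L = 0 := by
    apply IsHausdorff.haus' (I := J)
    intro k
    rw [SModEq.sub_mem, sub_zero]
    have h1 : m - u L = (m - u (f k).1) + u ((f k).1 - L) := by rw [map_sub]; abel
    rw [h1]
    refine Submodule.add_mem _ (f k).2 (map_mem_pow_smul_top J u k ?_)
    exact SModEq.sub_mem.mp (hL k)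
  exact (sub_eq_zero.mp h0).symm

theorem ker_le_smul_ker [Module.Flat A M] (u : N →ₗ[A] M) (hu : Function.Surjective u)
    (hinj : ∀ n : N, u n ∈ (J • ⊤ : Submodule A M) → n ∈ (J • ⊤ : Submodule A N)) :
    LinearMap.ker u ≤ J • LinearMap.ker u := by
  classical
  intro x hx
  have hx0 : u x = 0 := hx
  have hxJ : x ∈ (J • ⊤ : Submodule A N) := hinj x (by rw [hx0]; exact Submodule.zero_mem _)
  have hspan : (⊤ : Submodule A N) = Submodule.span A (Set.range (id : N → N)) := by simp
  rw [hspan, Submodule.mem_ideal_smul_span_iff_exists_sum] at hxJ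
  obtain ⟨a, ha, hax⟩ := hxJ
  -- finite family indexed by the support
  let ι := ↥a.support
  have hrel : ∑ i : ι, a i.1 • u i.1 = 0 := by
    have : ∑ i : ι, a i.1 • u i.1 = u (a.sum fun i c => c • id i) := by
      rw [Finsupp.sum, map_sum]
      simp only [map_smul, id]
      exact Finset.sum_coe_sort a.support (fun i => a i • u i)
    rw [this, hax, hx0]
  obtain ⟨k, c, y, hy, hc⟩ := Module.Flat.isTrivialRelation_of_sum_smul_eq_zero hrel
  have hy' : ∀ i : ι, u i.1 = ∑ j, c i j • y j := hy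
  have hc' : ∀ j, ∑ i : ι, a i.1 * c i j = 0 := hc
  choose n' hn' using fun l => hu (y l)
  let z : ι → N := fun i => i.1 - ∑ l, c i l • n' l
  have hz : ∀ i, z i ∈ LinearMap.ker u := by
    intro i
    simp only [z, LinearMap.mem_ker, map_sub, map_sum, map_smul, hn']
    rw [hy' i, sub_self]
  have hxz : x = ∑ i : ι, a i.1 • z i := by
    have h1 : ∑ i : ι, a i.1 • z i =
        ∑ i : ι, a i.1 • (i.1 : N) - ∑ l, (∑ i : ι, a i.1 * c i l) • n' l := by
      simp only [z, smul_sub, Finset.sum_sub_distrib, Finset.smul_sum, Finset.sum_smul, smul_smul]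
      rw [Finset.sum_comm]
    rw [h1]
    simp only [hc', zero_smul, Finset.sum_const_zero, sub_zero]
    rw [← hax, Finsupp.sum]
    exact (Finset.sum_coe_sort a.support (fun i => a i • (id i : N))).symm
  rw [hxz]
  exact Submodule.sum_mem _ fun i _ => Submodule.smul_mem_smul (ha i.1) (hz i)

theorem bijective_of_bijective_mod [IsHausdorff J M] [IsAdicComplete J N] [Module.Flat A M]
    (u : N →ₗ[A] M)
    (hsurj : ∀ m : M, ∃ n : N, m - u n ∈ (J • ⊤ : Submodule A M))
    (hinj : ∀ n : N, u n ∈ (J • ⊤ : Submodule A M) → n ∈ (J • ⊤ : Submodule A N)) :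
    Function.Bijective u := by
  have hs : Function.Surjective u := surjective_of_surjective_mod J u hsurj
  refine ⟨?_, hs⟩
  have hK := ker_le_smul_ker J u hs hinj
  have hpow : ∀ k : ℕ, LinearMap.ker u ≤ (J ^ k • ⊤ : Submodule A N) := by
    intro k
    induction k with
    | zero => simp
    | succ k ih =>
      refine hK.trans ?_
      rw [pow_succ', Submodule.mul_smul]
      exact Submodule.smul_mono le_rfl ih
  rw [← LinearMap.ker_eq_bot, eq_bot_iff]
  intro x hx
  rw [Submodule.mem_bot]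
  apply IsHausdorff.haus' (I := J)
  intro k
  rw [SModEq.sub_mem, sub_zero]
  exact hpow k hx

end

end Groth.Agent.Lib.Helper6
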