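import Groth.Agent.Lib.Helper6AnPts
import Mathlib.Topology.Algebra.MvPolynomial
import Mathlib.AlgebraicGeometry.AffineSpace

/-!
# Complex points of affine schemes: closed embedding into `ℂ^n` from generators
-/

set_option autoImplicit false

open AlgebraicGeometry CategoryTheory TopologicalSpace Opposite An

namespace Groth.Agent.Lib.Helper6

variable {X : Scheme.{0}} [X.Over SC]

lemma evTop_eval₂Hom (x : Pts X) {n : ℕ} (s : Fin n → Γ(X, ⊤)) (P : MvPolynomial (Fin n) ℂ) :
    x.evTop (MvPolynomial.eval₂Hom (strHom X) s P) =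
      MvPolynomial.eval (fun i => x.evTop (s i)) P := by
  have h : (evHom x ⊤ (Opens.mem_top _)).comp (MvPolynomial.eval₂Hom (strHom X) s) =
      MvPolynomial.eval (fun i => x.evTop (s i)) := by
    apply MvPolynomial.ringHom_ext
    · intro c
      simp only [RingHom.coe_comp, Function.comp_apply, MvPolynomial.eval₂Hom_C,
        MvPolynomial.eval_C]
      exact evTop_strHom x c
    · intro i
      simp only [RingHom.coe_comp, Function.comp_apply, MvPolynomial.eval₂Hom_X',
        MvPolynomial.eval_X]
      rfl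
  exact DFunLike.congr_fun h P

lemma range_evGens [IsAffine X] (n : ℕ) (s : Fin n → Γ(X, ⊤))
    (hs : Function.Surjective (MvPolynomial.eval₂Hom (strHom X) s)) :
    Set.range (fun (x : Pts X) (i : Fin n) => x.evTop (s i)) =
      ⋂ P ∈ (RingHom.ker (MvPolynomial.eval₂Hom (strHom X) s) :
      Set (MvPolynomial (Fin n) ℂ)), {z | MvPolynomial.eval z P = 0} := by
  ext z
  simp only [Set.mem_range, Set.mem_iInter, Set.mem_ofPred_eq, SetLike.mem_coe, RingHom.mem_ker]
  constructor
  · rintro ⟨x, rfl⟩ P hP
    rw [← evTop_eval₂Hom x s, hP]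
    exact ev_zero x ⊤ (Opens.mem_top _)
  · intro hz
    let ψ : Γ(X, ⊤) →+* ℂ := RingHom.liftOfSurjective _ hs
      ⟨MvPolynomial.eval z, fun P hP => by rw [RingHom.mem_ker] at hP ⊢; exact hz P hP⟩
    have hψ : ∀ P, ψ (MvPolynomial.eval₂Hom (strHom X) s P) = MvPolynomial.eval z P :=
      fun P => RingHom.liftOfRightInverse_comp_apply _ _ _ _ P
    have hψc : ∀ c, ψ (strHom X c) = c := by
      intro c
      have := hψ (MvPolynomial.C c)
      simpa using this
    refine ⟨ptOfRingHom ψ hψc, ?_⟩
    funext i
    rw [evTop_ptOfRingHom]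
    have := hψ (MvPolynomial.X i)
    simpa using this

theorem isClosedEmbedding_of_generators [IsAffine X] (n : ℕ) (s : Fin n → Γ(X, ⊤))
    (hs : Function.Surjective (MvPolynomial.eval₂Hom (strHom X) s)) :
    Topology.IsClosedEmbedding (fun (x : Pts X) (i : Fin n) => x.evTop (s i)) := by
  set Φ : Pts X → (Fin n → ℂ) := fun x i => x.evTop (s i) with hΦ
  have hΦc : Continuous Φ :=
    continuous_pi fun i => (continuous_apply (s i)).comp continuous_evAll
  -- a continuous map in the other direction
  let G : (Fin n → ℂ) → (Γ(X, ⊤) → ℂ) := fun z f => MvPolynomial.eval z (Classical.choose (hs f))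
  have hG : Continuous G := continuous_pi fun f => MvPolynomial.continuous_eval _
  have hGΦ : G ∘ Φ = evAll := by
    funext x f
    simp only [Function.comp_apply, G, evAll]
    rw [← evTop_eval₂Hom x s, Classical.choose_spec (hs f)]
  have hind : Topology.IsInducing Φ := by
    apply Topology.IsInducing.of_comp hΦc hG
    rw [hGΦ]
    exact isInducing_evAll
  have hinj : Function.Injective Φ := by
    intro x x' h
    apply ext_of_evTop
    intro f
    have := congrFun (congrArg G h) f
    have h1 := congrFun (congrFun hGΦ x) f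
    have h2 := congrFun (congrFun hGΦ x') f
    simp only [Function.comp_apply] at h1 h2
    rw [h1, h2] at this
    exact this
  refine ⟨⟨hind, hinj⟩, ?_⟩
  rw [range_evGens n s hs]
  apply isClosed_biInter
  intro P _
  exact isClosed_eq (MvPolynomial.continuous_eval P) continuous_const

/-- affine space -/
theorem isHomeomorph_affineSpace (n : ℕ) :
    IsHomeomorph (fun (x : Pts (𝔸(Fin n; SC))) (i : Fin n) => x.evTop (AffineSpace.coord SC i)) := by
  have hbij : Function.Bijective (MvPolynomial.eval₂Hom (strHom (𝔸(Fin n; SC)))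
      (AffineSpace.coord SC)) := by
    have h1 := AffineSpace.SpecIso_hom_appTop (n := Fin n) (CommRingCat.of ℂ)
    have h2 : IsIso ((AffineSpace.SpecIso (Fin n) (CommRingCat.of ℂ)).hom.appTop) :=
      ⟨⟨(AffineSpace.SpecIso (Fin n) (CommRingCat.of ℂ)).inv.appTop, by
        rw [← Scheme.Hom.comp_appTop]; simp, by
        rw [← Scheme.Hom.comp_appTop]; simp⟩⟩
    rw [h1] at h2
    have h3 : IsIso (CommRingCat.ofHom (MvPolynomial.eval₂Hom
        ((Scheme.ΓSpecIso (CommRingCat.of ℂ)).inv ≫
          (𝔸(Fin n; Spec (CommRingCat.of ℂ)) ↘ Spec (CommRingCat.of ℂ)).appTop).hom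
        (AffineSpace.coord (Spec (CommRingCat.of ℂ))))) :=
      IsIso.of_isIso_comp_left (Scheme.ΓSpecIso _).hom _
    exact (ConcreteCategory.isIso_iff_bijective _).1 h3
  have hce := isClosedEmbedding_of_generators n (AffineSpace.coord SC) hbij.2
  rw [isHomeomorph_iff_isEmbedding_surjective]
  refine ⟨hce.isEmbedding, ?_⟩
  rw [← Set.range_eq_univ, range_evGens n _ hbij.2]
  ext z
  simp only [Set.mem_iInter, Set.mem_ofPred_eq, SetLike.mem_coe, RingHom.mem_ker, Set.mem_univ,
    iff_true]
  intro P hP
  have : P = 0 := hbij.1 (by rw [hP, map_zero])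
  rw [this, map_zero]

end Groth.Agent.Lib.Helper6
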