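import Mathlib

namespace Groth.Agent.Lib.Helper6.AnBound
open Topology Filter Polynomial

/-- Cauchy bound for roots of the image of a monic polynomial -/
theorem norm_root_lt {R : Type*} [CommRing R] (p : R[X]) (hp : p.Monic) (φ : R →+* ℂ) (t : ℂ)
    (ht : (p.map φ).eval t = 0) :
    ‖t‖ < 1 + ∑ j ∈ Finset.range p.natDegree, ‖φ (p.coeff j)‖ := by
  have hq : (p.map φ).Monic := hp.map φ
  have hne : p.map φ ≠ 0 := hq.ne_zero
  have h1 := Polynomial.IsRoot.norm_lt_cauchyBound hne (a := t) ht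
  have hdeg : (p.map φ).natDegree = p.natDegree := hp.natDegree_map φ
  have h2 : Polynomial.cauchyBound (p.map φ) ≤
      1 + ∑ j ∈ Finset.range p.natDegree, ‖φ (p.coeff j)‖₊ := by
    unfold Polynomial.cauchyBound
    rw [hq.leadingCoeff, nnnorm_one, div_one, hdeg, add_comm]
    gcongr
    apply Finset.sup_le
    intro j hj
    rw [Polynomial.coeff_map]
    exact Finset.single_le_sum (f := fun j => ‖φ (p.coeff j)‖₊) (fun _ _ => bot_le) hj
  have h3 := lt_of_lt_of_le h1 h2
  have h4 : ((‖t‖₊ : NNReal) : ℝ) < ((1 + ∑ j ∈ Finset.range p.natDegree, ‖φ (p.coeff j)‖₊ : NNReal) : ℝ) :=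
    NNReal.coe_lt_coe.2 h3
  simpa using h4

/-- projection of a closed set with locally bounded fibres is closed -/
theorem isClosed_image_fst {P : Type*} [TopologicalSpace P] (n : ℕ)
    (F : Set (P × (Fin n → ℂ))) (hF : IsClosed F) (M : P → ℝ) (hM : Continuous M)
    (hb : ∀ z ∈ F, ∀ i, ‖z.2 i‖ ≤ M z.1) : IsClosed (Prod.fst '' F) := by
  rw [← closure_subset_iff_isClosed]
  intro y₀ hy₀
  set M₀ : ℝ := |M y₀| + 1 with hM₀
  set N : Set P := {y | M y < M₀} with hN
  have hNo : IsOpen N := isOpen_lt hM continuous_const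
  have hy₀N : y₀ ∈ N := by
    change M y₀ < |M y₀| + 1
    exact lt_of_le_of_lt (le_abs_self _) (lt_add_one _)
  set K : Set (Fin n → ℂ) := Metric.closedBall 0 M₀ with hK
  have hKc : IsCompact K := isCompact_closedBall 0 M₀
  haveI : CompactSpace K := isCompact_iff_compactSpace.1 hKc
  -- the closed subset of P × K
  set F₂ : Set (P × K) := (Prod.map id Subtype.val) ⁻¹' F with hF₂
  have hF₂c : IsClosed F₂ := hF.preimage (continuous_id.prodMap continuous_subtype_val)
  have hcl : IsClosed (Prod.fst '' F₂) := isClosedMap_fst_of_compactSpace F₂ hF₂c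
  have hsub : Prod.fst '' F ∩ N ⊆ Prod.fst '' F₂ := by
    rintro _ ⟨⟨⟨y, t⟩, hz, rfl⟩, hyN⟩
    have htK : t ∈ K := by
      rw [hK, mem_closedBall_zero_iff, pi_norm_le_iff_of_nonneg]
      · intro i
        exact (hb _ hz i).trans (le_of_lt hyN)
      · have : (0 : ℝ) ≤ |M y₀| := abs_nonneg _
        linarith
    exact ⟨(y, ⟨t, htK⟩), hz, rfl⟩
  have h1 : y₀ ∈ closure (N ∩ Prod.fst '' F) := hNo.inter_closure ⟨hy₀N, hy₀⟩
  rw [Set.inter_comm] at h1
  have h2 : y₀ ∈ Prod.fst '' F₂ := by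
    have := closure_mono hsub h1
    rwa [hcl.closure_eq] at this
  obtain ⟨z, hz, hz0⟩ := h2
  exact ⟨(z.1, z.2.1), hz, hz0⟩

end Groth.Agent.Lib.Helper6.AnBound
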