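import Groth.Prelude.Def_AnCl
import Mathlib.CategoryTheory.Sites.DenseSubsite.SheafEquiv

/-!
# The opens of a space form a dense subsite of the site of local homeomorphisms
-/

set_option autoImplicit false

universe u

open CategoryTheory TopologicalSpace Topology Opposite An

namespace Groth.Agent.Lib.Helper6

variable (T : Type u) [TopologicalSpace T]

instance opensToCl_faithful : (opensToCl T).Faithful where
  map_injective := fun _ => Subsingleton.elim _ _

instance opensToCl_full : (opensToCl T).Full where
  map_surjective := by
    intro U V f
    have hle : U ≤ V := by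
      intro x hx
      have := f.over ⟨x, hx⟩
      let y : V := f.toFun ⟨x, hx⟩
      change (y : T) = x at this
      rw [← this]
      exact y.2
    refine ⟨homOfLE hle, ?_⟩
    apply Cl.hom_ext
    funext ⟨x, hx⟩
    apply Subtype.ext
    exact (f.over ⟨x, hx⟩).symm

/-- the section of a local homeomorphism over the target of a chart, as a morphism of the site -/
noncomputable def chartHom (A : Cl T) (e : OpenPartialHomeomorph A.E T) (he : A.p = e) :
    (opensToCl T).obj ⟨e.target, e.open_target⟩ ⟶ A where
  toFun u := e.symm u.1
  continuous := e.continuousOn_symm.comp_continuous continuous_subtype_val (fun u => u.2)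
  over u := by
    rw [he]
    exact e.right_inv u.2

lemma chartHom_isOpenEmbedding (A : Cl T) (e : OpenPartialHomeomorph A.E T) (he : A.p = e) :
    IsOpenEmbedding (chartHom T A e he).toFun :=
  e.symm.isOpenEmbedding_restrict

instance opensToCl_isCoverDense : (opensToCl T).IsCoverDense (Cl.topology T) where
  is_cover A := by
    intro a
    obtain ⟨e, hae, he⟩ := A.lh a
    refine ⟨_, chartHom T A e he, Presieve.in_coverByImage _ _, chartHom_isOpenEmbedding T A e he,
      ⟨⟨e a, e.map_source hae⟩, e.left_inv hae⟩⟩

instance opensToCl_isDenseSubsite :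
    (opensToCl T).IsDenseSubsite (Opens.grothendieckTopology T) (Cl.topology T) where
  functorPushforward_mem_iff := by
    intro U S
    constructor
    · intro h x hx
      obtain ⟨B, g, ⟨V, f, k, hSf, hg⟩, -, ⟨b, hb⟩⟩ := h ⟨x, hx⟩
      refine ⟨V, f, hSf, ?_⟩
      let y : V := k.toFun b
      have : (y : T) = x := by
        have h1 := congrArg (fun (y : U) => (y : T)) hb
        rw [hg] at h1
        exact h1
      rw [← this]
      exact y.2
    · intro h a
      obtain ⟨V, f, hSf, haV⟩ := h a.1 a.2
      refine ⟨(opensToCl T).obj V, (opensToCl T).map f, ⟨V, f, 𝟙 _, hSf, by simp⟩, ?_,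
        ⟨⟨a.1, haV⟩, rfl⟩⟩
      exact IsOpenEmbedding.inclusion f.le (V.2.preimage continuous_subtype_val)

theorem opCont : OpCont T := inferInstance

theorem resOpens_isEquivalence [OpCont T] : (resOpens T).IsEquivalence := inferInstance

end Groth.Agent.Lib.Helper6
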