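import Mathlib.Topology.Constructible
import Mathlib.Topology.JacobsonSpace
import Mathlib.Topology.LocallyClosed

/-!
# Constructible sets are finite unions of locally closed sets
-/

set_option autoImplicit false

open Topology Set

namespace Groth.Agent.Lib.Helper6

variable {X : Type*} [TopologicalSpace X]

/-- a finite union of locally closed sets -/
def IsFULC (s : Set X) : Prop :=
  ∃ F : Set (Set X), F.Finite ∧ (∀ t ∈ F, IsLocallyClosed t) ∧ s = ⋃₀ F

lemma IsFULC.of_isLocallyClosed {s : Set X} (hs : IsLocallyClosed s) : IsFULC s :=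
  ⟨{s}, Set.finite_singleton _, by simpa using hs, by simp⟩

lemma IsFULC.union {s t : Set X} (hs : IsFULC s) (ht : IsFULC t) : IsFULC (s ∪ t) := by
  obtain ⟨F, hF, hF', rfl⟩ := hs
  obtain ⟨G, hG, hG', rfl⟩ := ht
  refine ⟨F ∪ G, hF.union hG, ?_, (Set.sUnion_union F G).symm⟩
  rintro t (h | h)
  · exact hF' t h
  · exact hG' t h

lemma IsFULC.inter {s t : Set X} (hs : IsFULC s) (ht : IsFULC t) : IsFULC (s ∩ t) := by
  obtain ⟨F, hF, hF', rfl⟩ := hs
  obtain ⟨G, hG, hG', rfl⟩ := ht
  refine ⟨Set.image2 (· ∩ ·) F G, hF.image2 _ hG, ?_, ?_⟩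
  · rintro _ ⟨a, ha, b, hb, rfl⟩
    exact (hF' a ha).inter (hG' b hb)
  · ext x
    simp only [mem_inter_iff, mem_sUnion, mem_image2, exists_exists_and_exists_and_eq_and]
    constructor
    · rintro ⟨⟨a, ha, hxa⟩, ⟨b, hb, hxb⟩⟩
      exact ⟨a, ha, b, hb, hxa, hxb⟩
    · rintro ⟨a, ha, b, hb, hxa, hxb⟩
      exact ⟨⟨a, ha, hxa⟩, ⟨b, hb, hxb⟩⟩

lemma IsFULC.compl {s : Set X} (hs : IsFULC s) : IsFULC sᶜ := by
  obtain ⟨F, hF, hF', rfl⟩ := hs
  induction F, hF using Set.Finite.induction_on with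
  | empty => simpa using IsFULC.of_isLocallyClosed (isOpen_univ (X := X)).isLocallyClosed
  | @insert a F ha hFfin ih =>
    rw [Set.sUnion_insert, Set.compl_union]
    refine IsFULC.inter ?_ (ih fun t ht => hF' t (Set.mem_insert_of_mem _ ht))
    obtain ⟨U, Z, hU, hZ, rfl⟩ := hF' a (Set.mem_insert _ _)
    rw [Set.compl_inter]
    exact (IsFULC.of_isLocallyClosed hU.isClosed_compl.isLocallyClosed).union
      (IsFULC.of_isLocallyClosed hZ.isOpen_compl.isLocallyClosed)

lemma IsConstructible.isFULC {s : Set X} (hs : IsConstructible s) : IsFULC s := by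
  induction hs using IsConstructible.empty_union_induction with
  | open_retrocompact U hU _ => exact IsFULC.of_isLocallyClosed hU.isLocallyClosed
  | union s _ t _ hs ht => exact hs.union ht
  | compl s _ hs => exact hs.compl

/-- a nonempty constructible set contains a nonempty locally closed set -/
lemma IsConstructible.exists_isLocallyClosed_subset {s : Set X} (hs : IsConstructible s)
    (hne : s.Nonempty) : ∃ t : Set X, IsLocallyClosed t ∧ t.Nonempty ∧ t ⊆ s := by
  obtain ⟨F, -, hF', rfl⟩ := IsConstructible.isFULC hs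
  obtain ⟨x, t, ht, hxt⟩ := hne
  exact ⟨t, hF' t ht, ⟨x, hxt⟩, Set.subset_sUnion_of_mem ht⟩

lemma IsLocallyConstructible.compl' {s : Set X} (hs : IsLocallyConstructible s) :
    IsLocallyConstructible sᶜ := by
  intro x
  obtain ⟨U, hU, hUo, hc⟩ := hs x
  exact ⟨U, hU, hUo, by simpa using hc.compl⟩

/-- a nonempty locally constructible set contains a nonempty locally closed set -/
lemma IsLocallyConstructible.exists_isLocallyClosed_subset {s : Set X}
    (hs : IsLocallyConstructible s)
    (hne : s.Nonempty) : ∃ t : Set X, IsLocallyClosed t ∧ t.Nonempty ∧ t ⊆ s := by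
  obtain ⟨x, hx⟩ := hne
  obtain ⟨U, hU, hUo, hc⟩ := hs x
  obtain ⟨t, ht, ⟨y, hy⟩, hts⟩ := IsConstructible.exists_isLocallyClosed_subset hc
    ⟨⟨x, mem_of_mem_nhds hU⟩, hx⟩
  refine ⟨Subtype.val '' t, ?_, ⟨y, ⟨y, hy, rfl⟩⟩, ?_⟩
  · exact ht.image hUo.isOpenEmbedding_subtypeVal.isInducing
      (by simpa using hUo.isLocallyClosed)
  · rintro _ ⟨z, hz, rfl⟩
    exact hts hz

/-- in a Jacobson space, a nonempty locally constructible set contains a closed point -/
lemma IsLocallyConstructible.exists_isClosed_singleton [JacobsonSpace X] {s : Set X}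
    (hs : IsLocallyConstructible s) (hne : s.Nonempty) : ∃ x ∈ s, IsClosed ({x} : Set X) := by
  obtain ⟨t, ht, htne, hts⟩ := IsLocallyConstructible.exists_isLocallyClosed_subset hs hne
  obtain ⟨x, hxt, hx⟩ := nonempty_inter_closedPoints htne ht
  exact ⟨x, hts hxt, hx⟩

end Groth.Agent.Lib.Helper6
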