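import Groth.Agent.Lib.Helper6AnFT
import Groth.Agent.Lib.Helper6Constructible
import Mathlib.AlgebraicGeometry.Noetherian
import Mathlib.AlgebraicGeometry.Morphisms.FinitePresentation
import Mathlib.AlgebraicGeometry.Morphisms.UnderlyingMap
import Mathlib.AlgebraicGeometry.Morphisms.Immersion

/-!
# Complex points and constructible sets

A nonempty locally constructible subset of a scheme locally of finite type over `ℂ` contains a
`ℂ`-point; surjectivity and injectivity can be tested on `ℂ`-points.
-/

set_option autoImplicit false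

open AlgebraicGeometry CategoryTheory TopologicalSpace Opposite An Topology

namespace Groth.Agent.Lib.Helper6

variable {X : Scheme.{0}} [X.Over SC]

lemma pt_injective_affine [IsAffine X] : Function.Injective (Pts.pt : Pts X → X) := by
  intro u u' h
  apply ext_of_evTop
  intro f
  have h0 : u.evTop (f - strHom X (u.evTop f)) = 0 := by
    have := map_sub (evHom u ⊤ (Opens.mem_top _)) f (strHom X (u.evTop f))
    simp only [evHom_apply] at this
    have h2 : u.ev ⊤ (Opens.mem_top _) (strHom X (u.evTop f)) = u.evTop f := evTop_strHom u _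
    rw [h2, sub_self] at this
    exact this
  rw [← mem_toSpecΓ_pt_iff, h, mem_toSpecΓ_pt_iff] at h0
  have := map_sub (evHom u' ⊤ (Opens.mem_top _)) f (strHom X (u.evTop f))
  simp only [evHom_apply] at this
  have h2 : u'.ev ⊤ (Opens.mem_top _) (strHom X (u.evTop f)) = u.evTop f := evTop_strHom u' _
  have h3 : u'.ev ⊤ (Opens.mem_top _) (f - strHom X (u.evTop f)) = 0 := h0
  rw [h2, h3] at this
  exact (sub_eq_zero.1 this.symm).symm

/-- a `ℂ`-point is determined by its underlying point -/
theorem pt_injective : Function.Injective (Pts.pt : Pts X → X) := by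
  intro x x' h
  obtain ⟨_, ⟨(U : X.Opens), hU : IsAffineOpen U, rfl⟩, hxU, -⟩ :=
    X.isBasis_affineOpens.exists_subset_of_mem_open (Set.mem_univ x.pt) isOpen_univ
  have : IsAffine U.toScheme := hU
  have hx : x ∈ Set.range (Pts.map U.ι) := by
    rw [range_map_of_isOpenImmersion]
    simpa using hxU
  have hx' : x' ∈ Set.range (Pts.map U.ι) := by
    rw [range_map_of_isOpenImmersion]
    rw [Set.mem_preimage, ← h]
    simpa using hxU
  obtain ⟨u, rfl⟩ := hx
  obtain ⟨u', rfl⟩ := hx'
  congr 1
  apply pt_injective_affine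
  rw [Pts.pt_map, Pts.pt_map] at h
  exact U.ι.isOpenEmbedding.injective h


instance : IsLocallyNoetherian SC := inferInstance
instance : JacobsonSpace SC := inferInstance

lemma isLocallyNoetherian_of_lft [LocallyOfFiniteType (X ↘ SC)] : IsLocallyNoetherian X :=
  LocallyOfFiniteType.isLocallyNoetherian (X ↘ SC)

lemma jacobsonSpace_of_lft [LocallyOfFiniteType (X ↘ SC)] : JacobsonSpace X :=
  LocallyOfFiniteType.jacobsonSpace (X ↘ SC)

/-- principle: a nonempty locally constructible subset contains a `ℂ`-point -/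
theorem exists_pt_mem_of_isLocallyConstructible [LocallyOfFiniteType (X ↘ SC)] {T : Set X}
    (hT : IsLocallyConstructible T) (hne : T.Nonempty) : ∃ x : Pts X, x.pt ∈ T := by
  have := jacobsonSpace_of_lft (X := X)
  obtain ⟨p, hpT, hp⟩ := IsLocallyConstructible.exists_isClosed_singleton hT hne
  obtain ⟨x, rfl⟩ := exists_pt_eq_of_isClosed p hp
  exact ⟨x, hpT⟩

theorem exists_pt_mem_of_isLocallyClosed [LocallyOfFiniteType (X ↘ SC)] {T : Set X}
    (hT : IsLocallyClosed T) (hne : T.Nonempty) : ∃ x : Pts X, x.pt ∈ T := by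
  have := jacobsonSpace_of_lft (X := X)
  obtain ⟨p, hpT, hp⟩ := nonempty_inter_closedPoints hne hT
  obtain ⟨x, rfl⟩ := exists_pt_eq_of_isClosed p hp
  exact ⟨x, hpT⟩

variable {Y : Scheme.{0}} [Y.Over SC]

lemma locallyOfFiniteType_of_isOver [LocallyOfFiniteType (X ↘ SC)] (f : X ⟶ Y) [f.IsOver SC] :
    LocallyOfFiniteType f := by
  have : LocallyOfFiniteType (f ≫ (Y ↘ SC)) := by rw [comp_over]; infer_instance
  exact locallyOfFiniteType_of_comp f (Y ↘ SC)

/-- a `ℂ`-point of `Y` whose underlying point is in the image of `f` lifts to `X` -/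
theorem exists_map_eq_of_pt_mem_range [LocallyOfFiniteType (X ↘ SC)] (f : X ⟶ Y) [f.IsOver SC]
    (y : Pts Y) (hy : y.pt ∈ Set.range f) : ∃ x : Pts X, Pts.map f x = y := by
  have hf := locallyOfFiniteType_of_isOver f
  let Z := Limits.pullback f y.1
  let _ : Z.Over SC := ⟨Limits.pullback.snd f y.1⟩
  have hZ : LocallyOfFiniteType (Z ↘ SC) :=
    inferInstanceAs (LocallyOfFiniteType (Limits.pullback.snd f y.1))
  have hne : Nonempty Z := by
    obtain ⟨p, hp⟩ := hy
    obtain ⟨z, -, -⟩ := Scheme.Pullback.exists_preimage_pullback p cpt (by rw [hp]; rfl)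
    exact ⟨z⟩
  obtain ⟨z⟩ := nonempty_pts_iff.1 hne
  have hz : z.1 ≫ Limits.pullback.snd f y.1 = 𝟙 SC := z.2
  refine ⟨⟨z.1 ≫ Limits.pullback.fst f y.1, ?_⟩, ?_⟩
  · rw [← comp_over f, Category.assoc, ← Category.assoc (Limits.pullback.fst f y.1),
      Limits.pullback.condition, Category.assoc, ← Category.assoc, hz, Category.id_comp, y.2]
  · apply Subtype.ext
    change (z.1 ≫ Limits.pullback.fst f y.1) ≫ f = y.1
    rw [Category.assoc, Limits.pullback.condition, ← Category.assoc, hz, Category.id_comp]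

theorem range_map_eq_preimage_range [LocallyOfFiniteType (X ↘ SC)] (f : X ⟶ Y) [f.IsOver SC] :
    Set.range (Pts.map f) = Pts.pt ⁻¹' (Set.range f) := by
  ext y
  constructor
  · rintro ⟨x, rfl⟩
    exact ⟨x.pt, (Pts.pt_map f x).symm⟩
  · intro hy
    exact exists_map_eq_of_pt_mem_range f y hy

theorem surjective_iff_pts [LocallyOfFiniteType (X ↘ SC)] [LocallyOfFiniteType (Y ↘ SC)]
    (f : X ⟶ Y) [f.IsOver SC] [QuasiCompact f] :
    Function.Surjective f.base ↔ Function.Surjective (Pts.map f) := by
  constructor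
  · intro hf y
    exact exists_map_eq_of_pt_mem_range f y (hf y.pt)
  · intro hf
    have := isLocallyNoetherian_of_lft (X := Y)
    have := locallyOfFiniteType_of_isOver f
    have hc : IsLocallyConstructible (Set.range f)ᶜ := by
      apply IsLocallyConstructible.compl'
      rw [← Set.image_univ]
      exact f.isLocallyConstructible_image IsLocallyConstructible.univ
    by_contra hns
    have hne : (Set.range f)ᶜ.Nonempty := by
      rw [Set.nonempty_compl]
      intro h
      exact hns (Set.range_eq_univ.1 h)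
    obtain ⟨y, hy⟩ := exists_pt_mem_of_isLocallyConstructible hc hne
    obtain ⟨x, rfl⟩ := hf y
    exact hy ⟨x.pt, (Pts.pt_map f x).symm⟩





instance locallyOfFiniteType_pullbackOver {S : Scheme.{0}} [S.Over SC]
    [LocallyOfFiniteType (X ↘ SC)] [LocallyOfFiniteType (Y ↘ SC)]
    (f : X ⟶ S) (g : Y ⟶ S) [f.IsOver SC] [g.IsOver SC] :
    LocallyOfFiniteType (Limits.pullback f g ↘ SC) := by
  have := locallyOfFiniteType_of_isOver g
  exact inferInstanceAs (LocallyOfFiniteType (Limits.pullback.fst f g ≫ X ↘ SC))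

theorem injective_iff_pts [LocallyOfFiniteType (X ↘ SC)]
    (f : X ⟶ Y) [f.IsOver SC] :
    Function.Injective f.base ↔ Function.Injective (Pts.map f) := by
  constructor
  · intro hf x x' h
    apply pt_injective
    apply hf
    have := congrArg Pts.pt h
    rwa [Pts.pt_map, Pts.pt_map] at this
  · intro hf p p' hpp'
    by_contra hne
    obtain ⟨z, hz1, hz2⟩ := Scheme.Pullback.exists_preimage_pullback (f := f) (g := f) p p' hpp'
    have hz : z ∉ Set.range (Limits.pullback.diagonal f) := by
      rintro ⟨q, rfl⟩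
      apply hne
      rw [← hz1, ← hz2, ← Scheme.Hom.comp_apply, ← Scheme.Hom.comp_apply]
      simp
    obtain ⟨U, Z, hU, hZ, hUZ⟩ := (Limits.pullback.diagonal f).isLocallyClosed_range
    have key : ∃ T : Set ↥(Limits.pullback f f), IsLocallyClosed T ∧ T.Nonempty ∧
        T ⊆ (Set.range (Limits.pullback.diagonal f))ᶜ := by
      rw [hUZ] at hz ⊢
      by_cases hzU : z ∈ U
      · exact ⟨Zᶜ, hZ.isOpen_compl.isLocallyClosed, ⟨z, fun h => hz ⟨hzU, h⟩⟩,
          Set.compl_subset_compl.2 Set.inter_subset_right⟩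
      · exact ⟨Uᶜ, hU.isClosed_compl.isLocallyClosed, ⟨z, hzU⟩,
          Set.compl_subset_compl.2 Set.inter_subset_left⟩
    obtain ⟨T, hT, hTne, hTsub⟩ := key
    obtain ⟨w, hw⟩ := exists_pt_mem_of_isLocallyClosed hT hTne
    apply hTsub hw
    have hxx' := hf (Pts.map_pullback_condition f f w)
    have h1 : w.1 ≫ Limits.pullback.fst f f = w.1 ≫ Limits.pullback.snd f f :=
      congrArg Subtype.val hxx'
    have h2 : w.1 = (w.1 ≫ Limits.pullback.fst f f) ≫ Limits.pullback.diagonal f := by
      apply Limits.pullback.hom_ext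
      · simp
      · simp [h1]
    refine ⟨(w.1 ≫ Limits.pullback.fst f f) cpt, ?_⟩
    rw [← Scheme.Hom.comp_apply, ← h2]
    rfl

end Groth.Agent.Lib.Helper6
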