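import Groth.Agent.Lib.Helper6Density
import Groth.Agent.Lib.Helper6AnCons
import Mathlib.RingTheory.Spectrum.Prime.ConstructibleSet
import Mathlib.RingTheory.Ideal.MinimalPrime.Localization

/-!
# Closure, openness and density of locally constructible sets can be tested on `ℂ`-points
-/

set_option autoImplicit false

open AlgebraicGeometry CategoryTheory TopologicalSpace Opposite An Topology PrimeSpectrum

namespace Groth.Agent.Lib.Helper6

/-- For a constructible subset `T` of a prime spectrum and a point `m` of its closure, there is a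
generisation `p` of `m` in `T`, and an `h ∉ p` such that `D(h) ∩ V(p) ⊆ T`. -/
lemma exists_prime_le_of_mem_closure_constructible {A : Type*} [CommRing A]
    {T : Set (PrimeSpectrum A)} (hT : IsConstructible T) (m : PrimeSpectrum A)
    (hm : m ∈ closure T) :
    ∃ (p : PrimeSpectrum A) (h : A), p ≤ m ∧ h ∉ p.asIdeal ∧
      ∀ q : PrimeSpectrum A, p ≤ q → h ∉ q.asIdeal → q ∈ T := by
  obtain ⟨B, _, f, rfl⟩ := exists_range_eq_of_isConstructible hT
  rw [closure_range_comap, mem_zeroLocus] at hm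
  obtain ⟨p, hp, hpm⟩ := Ideal.exists_minimalPrimes_le (J := m.asIdeal) hm
  obtain ⟨p', hp', -, hpp'⟩ := Ideal.exists_comap_eq_of_mem_minimalPrimes f (I := ⊥) p hp
  have hpT : (⟨p, hp.1.1⟩ : PrimeSpectrum A) ∈ Set.range (comap f) :=
    ⟨⟨p', hp'⟩, PrimeSpectrum.ext hpp'⟩
  obtain ⟨S, hS⟩ := exists_constructibleSetData_iff.2 hT
  rw [← hS] at hpT ⊢
  simp only [ConstructibleSetData.toSet, Set.mem_iUnion] at hpT
  obtain ⟨C, hC, hpC⟩ := hpT
  refine ⟨⟨p, hp.1.1⟩, C.f, hpm, ?_, fun q hpq hq => ?_⟩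
  · intro hf
    apply hpC.2
    rw [mem_zeroLocus, Set.singleton_subset_iff]
    exact hf
  · simp only [ConstructibleSetData.toSet, Set.mem_iUnion]
    refine ⟨C, hC, ?_, ?_⟩
    · rw [mem_zeroLocus]
      have := hpC.1
      rw [mem_zeroLocus] at this
      exact this.trans hpq
    · intro hq'
      rw [mem_zeroLocus, Set.singleton_subset_iff] at hq'
      exact hq hq'

/-- the point of the prime spectrum underlying a `ℂ`-point -/
def kerPt {A : Type*} [CommRing A] [Algebra ℂ A] (ψ : A →ₐ[ℂ] ℂ) : PrimeSpectrum A :=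
  ⟨RingHom.ker (ψ : A →+* ℂ), RingHom.ker_isPrime _⟩

/-- (R1) density for constructible subsets of the spectrum of a finite type `ℂ`-algebra -/
theorem mem_closure_of_kerPt_mem_closure {A : Type*} [CommRing A] [Algebra ℂ A]
    [Algebra.FiniteType ℂ A] {T : Set (PrimeSpectrum A)} (hT : IsConstructible T)
    (ψ₀ : A →ₐ[ℂ] ℂ) (h₀ : kerPt ψ₀ ∈ closure T) :
    (⇑ψ₀ : A → ℂ) ∈ closure {φ : A → ℂ | ∃ ψ : A →ₐ[ℂ] ℂ, ⇑ψ = φ ∧ kerPt ψ ∈ T} := by
  obtain ⟨p, h, hpm, hhp, hpT⟩ := exists_prime_le_of_mem_closure_constructible hT _ h₀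
  -- pass to the quotient domain
  let Aq := A ⧸ p.asIdeal
  have hdom : IsDomain Aq := Ideal.Quotient.isDomain p.asIdeal
  have hft : Algebra.FiniteType ℂ Aq :=
    Algebra.FiniteType.of_surjective (Ideal.Quotient.mkₐ ℂ p.asIdeal)
      (Ideal.Quotient.mkₐ_surjective ℂ p.asIdeal)
  have hle : ∀ a : A, a ∈ p.asIdeal → ψ₀ a = 0 := fun a ha => hpm ha
  let ψq₀ : Aq →ₐ[ℂ] ℂ := Ideal.Quotient.liftₐ p.asIdeal ψ₀ hle
  have hhq : (Ideal.Quotient.mk p.asIdeal h : Aq) ≠ 0 := by
    rw [Ne, Ideal.Quotient.eq_zero_iff_mem]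
    exact hhp
  have hcore := core_density (A := Aq) _ hhq ψq₀
  -- pull back along the quotient map
  let π : (Aq → ℂ) → (A → ℂ) := fun φ a => φ (Ideal.Quotient.mk p.asIdeal a)
  have hπ : Continuous π := continuous_pi fun a => continuous_apply _
  have h1 : π ⇑ψq₀ = ⇑ψ₀ := by
    funext a
    exact Ideal.Quotient.liftₐ_apply p.asIdeal ψ₀ hle _
  rw [← h1]
  have h2 := image_closure_subset_closure_image hπ (Set.mem_image_of_mem π hcore)
  refine closure_mono ?_ h2
  rintro _ ⟨_, ⟨ψq, rfl, hψq⟩, rfl⟩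
  refine ⟨ψq.comp (Ideal.Quotient.mkₐ ℂ p.asIdeal), rfl, ?_⟩
  apply hpT
  · intro a ha
    change a ∈ RingHom.ker _
    rw [RingHom.mem_ker]
    change ψq (Ideal.Quotient.mk p.asIdeal a) = 0
    rw [Ideal.Quotient.eq_zero_iff_mem.2 ha, map_zero]
  · intro hmem
    apply hψq
    have : h ∈ RingHom.ker ((ψq.comp (Ideal.Quotient.mkₐ ℂ p.asIdeal) : A →ₐ[ℂ] ℂ) : A →+* ℂ) := hmem
    rw [RingHom.mem_ker] at this
    exact this

/-- every point of a locally constructible set lies in a locally closed subset of it -/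
lemma IsLocallyConstructible.exists_isLocallyClosed_mem {Z : Type*} [TopologicalSpace Z]
    {s : Set Z} (hs : IsLocallyConstructible s) {x : Z} (hx : x ∈ s) :
    ∃ t : Set Z, IsLocallyClosed t ∧ x ∈ t ∧ t ⊆ s := by
  obtain ⟨U, hU, hUo, hc⟩ := hs x
  obtain ⟨F, -, hF', hF⟩ := IsConstructible.isFULC hc
  have hxU : (⟨x, mem_of_mem_nhds hU⟩ : U) ∈ (Subtype.val ⁻¹' s : Set U) := hx
  rw [hF] at hxU
  obtain ⟨t, ht, hxt⟩ := hxU
  refine ⟨Subtype.val '' t, ?_, ⟨_, hxt, rfl⟩, ?_⟩
  · exact (hF' t ht).image hUo.isOpenEmbedding_subtypeVal.isInducing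
      (by simpa using hUo.isLocallyClosed)
  · rintro _ ⟨z, hz, rfl⟩
    have : z ∈ (Subtype.val ⁻¹' s : Set U) := by rw [hF]; exact ⟨t, ht, hz⟩
    exact this

variable {X : Scheme.{0}} [X.Over SC]

/-- (R2) the key density lemma, affine case -/
theorem mem_closure_preimage_pt_affine [IsAffine X] [LocallyOfFiniteType (X ↘ SC)] {T : Set X}
    (hT : IsConstructible T) (x : Pts X) (hx : x.pt ∈ closure T) :
    x ∈ closure (Pts.pt ⁻¹' T) := by
  let _ : Algebra ℂ Γ(X, ⊤) := (strHom X).toAlgebra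
  have hft : Algebra.FiniteType ℂ Γ(X, ⊤) := strHom_finiteType (X := X)
  -- the homeomorphism to the prime spectrum
  let e : X ≃ₜ PrimeSpectrum Γ(X, ⊤) := X.toSpecΓ.homeomorph
  have he : ∀ p, e p = X.toSpecΓ p := fun p => rfl
  -- algebra homomorphisms from points
  let toAlg : Pts X → (Γ(X, ⊤) →ₐ[ℂ] ℂ) := fun y =>
    { evHom y ⊤ (Opens.mem_top _) with commutes' := fun c => evTop_strHom y c }
  have htoAlg : ∀ y, (⇑(toAlg y) : Γ(X, ⊤) → ℂ) = evAll y := fun y => rfl
  have hker : ∀ y : Pts X, kerPt (toAlg y) = e y.pt := by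
    intro y
    apply PrimeSpectrum.ext
    ext f
    rw [he, mem_toSpecΓ_pt_iff]
    rfl
  have hT' : IsConstructible (e '' T) := by
    apply hT.image_of_isOpenEmbedding e.isOpenEmbedding
    rw [e.range_coe]
    exact IsRetrocompact.univ
  have hx' : kerPt (toAlg x) ∈ closure (e '' T) := by
    rw [hker, ← e.image_closure]
    exact Set.mem_image_of_mem e hx
  have key := mem_closure_of_kerPt_mem_closure hT' (toAlg x) hx'
  rw [isInducing_evAll.closure_eq_preimage_closure_image, Set.mem_preimage, ← htoAlg]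
  refine closure_mono ?_ key
  rintro φ ⟨ψ, rfl, hψ⟩
  have hψc : ∀ c, (ψ : Γ(X, ⊤) →+* ℂ) (strHom X c) = c := fun c => ψ.commutes c
  refine ⟨ptOfRingHom (ψ : Γ(X, ⊤) →+* ℂ) hψc, ?_, ?_⟩
  · rw [Set.mem_preimage]
    obtain ⟨p, hp, hpe⟩ := hψ
    have : e (ptOfRingHom (ψ : Γ(X, ⊤) →+* ℂ) hψc).pt = e p := by
      rw [hpe, ← hker]
      apply PrimeSpectrum.ext
      ext f
      change (toAlg _) f = 0 ↔ ψ f = 0
      rw [show (toAlg (ptOfRingHom (ψ : Γ(X, ⊤) →+* ℂ) hψc)) f =
        (ptOfRingHom (ψ : Γ(X, ⊤) →+* ℂ) hψc).evTop f from rfl, evTop_ptOfRingHom]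
      rfl
    rw [e.injective this]
    exact hp
  · funext f
    exact evTop_ptOfRingHom _ hψc f

/-- (R3) the key density lemma -/
theorem mem_closure_preimage_pt [LocallyOfFiniteType (X ↘ SC)] {T : Set X}
    (hT : IsLocallyConstructible T) (x : Pts X) (hx : x.pt ∈ closure T) :
    x ∈ closure (Pts.pt ⁻¹' T) := by
  obtain ⟨_, ⟨(U : X.Opens), hU : IsAffineOpen U, rfl⟩, hxU, -⟩ :=
    X.isBasis_affineOpens.exists_subset_of_mem_open (Set.mem_univ x.pt) isOpen_univ
  have : IsAffine U.toScheme := hU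
  have : LocallyOfFiniteType (U.toScheme ↘ SC) := by
    rw [← Scheme.Opens.ι_comp_over]; infer_instance
  have hx' : x ∈ Set.range (Pts.map U.ι) := by
    rw [range_map_of_isOpenImmersion]
    simpa using hxU
  obtain ⟨u, rfl⟩ := hx'
  have hTU : IsConstructible (U.ι ⁻¹' T) :=
    (hT.preimage_of_isOpenEmbedding U.ι.isOpenEmbedding).isConstructible
  have hu : u.pt ∈ closure (U.ι ⁻¹' T) := by
    rw [← U.ι.isOpenEmbedding.isOpenMap.preimage_closure_eq_closure_preimage U.ι.continuous]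
    rw [Pts.pt_map] at hx
    exact hx
  have key := mem_closure_preimage_pt_affine hTU u hu
  have h2 := image_closure_subset_closure_image (Pts.continuous_map U.ι)
    (Set.mem_image_of_mem (Pts.map U.ι) key)
  refine closure_mono ?_ h2
  rintro _ ⟨v, hv, rfl⟩
  rw [Set.mem_preimage, Pts.pt_map]
  exact hv

/-- S4188 -/
theorem preimage_closure_eq [LocallyOfFiniteType (X ↘ SC)] (T : Set X)
    (hT : IsLocallyConstructible T) :
    (Pts.pt ⁻¹' closure T : Set (Pts X)) = closure (Pts.pt ⁻¹' T) := by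
  apply Set.Subset.antisymm
  · intro x hx
    exact mem_closure_preimage_pt hT x hx
  · exact closure_minimal (Set.preimage_mono subset_closure)
      (isClosed_closure.preimage Pts.continuous_pt)

/-- S4190 -/
theorem dense_iff_pts [LocallyOfFiniteType (X ↘ SC)] (T : Set X)
    (hT : IsLocallyConstructible T) :
    Dense T ↔ Dense (Pts.pt ⁻¹' T : Set (Pts X)) := by
  constructor
  · intro h x
    rw [← preimage_closure_eq T hT, h.closure_eq]
    trivial
  · intro h
    have h1 : (Pts.pt ⁻¹' closure T : Set (Pts X)) = Set.univ := by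
      rw [preimage_closure_eq T hT, h.closure_eq]
    by_contra hnd
    have hne : (closure T)ᶜ.Nonempty := by
      rw [Set.nonempty_compl]
      intro h'
      exact hnd (dense_iff_closure_eq.2 h')
    obtain ⟨x, hx⟩ := exists_pt_mem_of_isLocallyClosed
      isClosed_closure.isOpen_compl.isLocallyClosed hne
    apply hx
    have : x ∈ (Pts.pt ⁻¹' closure T : Set (Pts X)) := by rw [h1]; trivial
    exact this

/-- S4189 -/
theorem isOpen_iff_pts [LocallyOfFiniteType (X ↘ SC)] (T : Set X)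
    (hT : IsLocallyConstructible T) :
    IsOpen T ↔ IsOpen (Pts.pt ⁻¹' T : Set (Pts X)) := by
  constructor
  · intro h
    exact h.preimage Pts.continuous_pt
  · intro h
    rw [← isClosed_compl_iff]
    have hTc : IsLocallyConstructible Tᶜ := IsLocallyConstructible.compl' hT
    have hcl : IsClosed (Pts.pt ⁻¹' Tᶜ : Set (Pts X)) := by
      rw [Set.preimage_compl]; exact h.isClosed_compl
    -- closure Tᶜ and Tᶜ have the same points
    have h1 : (Pts.pt ⁻¹' closure Tᶜ : Set (Pts X)) = Pts.pt ⁻¹' Tᶜ := by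
      rw [preimage_closure_eq _ hTc, hcl.closure_eq]
    rw [← closure_subset_iff_isClosed]
    by_contra hns
    obtain ⟨p, hp, hpT⟩ : ∃ p, p ∈ closure Tᶜ ∧ p ∈ T := by
      by_contra hemp
      apply hns
      intro p hp hpT
      exact hemp ⟨p, hp, hpT⟩
    obtain ⟨L, hL, hpL, hLT⟩ := IsLocallyConstructible.exists_isLocallyClosed_mem hT hpT
    obtain ⟨x, hx⟩ := exists_pt_mem_of_isLocallyClosed
      (hL.inter isClosed_closure.isLocallyClosed) ⟨p, hpL, hp⟩
    have : x ∈ (Pts.pt ⁻¹' closure Tᶜ : Set (Pts X)) := hx.2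
    rw [h1] at this
    exact this (hLT hx.1)


/-- S4199 -/
theorem denseRange_iff_pts {Y : Scheme.{0}} [Y.Over SC] [LocallyOfFiniteType (X ↘ SC)]
    [LocallyOfFiniteType (Y ↘ SC)] (f : X ⟶ Y) [f.IsOver SC] [QuasiCompact f] :
    DenseRange f.base ↔ DenseRange (Pts.map f) := by
  have := isLocallyNoetherian_of_lft (X := Y)
  have := locallyOfFiniteType_of_isOver f
  have hc : IsLocallyConstructible (Set.range f) := by
    rw [← Set.image_univ]
    exact f.isLocallyConstructible_image IsLocallyConstructible.univ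
  have h := dense_iff_pts (Set.range f) hc
  rw [← range_map_eq_preimage_range] at h
  exact h

end Groth.Agent.Lib.Helper6
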