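import Groth.Agent.Lib.Helper6AnAffine
import Mathlib.RingTheory.Jacobson.Ring
import Mathlib.FieldTheory.IsAlgClosed.Basic
import Mathlib.Analysis.Complex.Polynomial.Basic
import Mathlib.AlgebraicGeometry.Properties

/-!
# Complex points of schemes locally of finite type over `ℂ`

Local compactness, the Nullstellensatz (closed points are `ℂ`-points).
-/

set_option autoImplicit false

open AlgebraicGeometry CategoryTheory TopologicalSpace Opposite An

namespace Groth.Agent.Lib.Helper6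

variable {X : Scheme.{0}} [X.Over SC]

lemma strHom_finiteType [IsAffine X] [LocallyOfFiniteType (X ↘ SC)] :
    (strHom X).FiniteType := by
  have h1 : (X ↘ SC).appTop.hom.FiniteType :=
    (HasRingHomProperty.iff_of_isAffine (P := @LocallyOfFiniteType)).1 inferInstance
  unfold strHom
  refine h1.comp (RingHom.FiniteType.of_surjective _ ?_)
  exact ((ConcreteCategory.isIso_iff_bijective (Scheme.ΓSpecIso (CommRingCat.of ℂ)).inv).1
    inferInstance).2

lemma exists_generators [IsAffine X] [LocallyOfFiniteType (X ↘ SC)] :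
    ∃ (n : ℕ) (s : Fin n → Γ(X, ⊤)),
      Function.Surjective (MvPolynomial.eval₂Hom (strHom X) s) := by
  have h := strHom_finiteType (X := X)
  let : Algebra ℂ Γ(X, ⊤) := (strHom X).toAlgebra
  obtain ⟨n, f, hf⟩ := Algebra.FiniteType.iff_quotient_mvPolynomial''.1 h
  refine ⟨n, fun i => f (MvPolynomial.X i), ?_⟩
  have : (f : MvPolynomial (Fin n) ℂ →+* Γ(X, ⊤)) =
      MvPolynomial.eval₂Hom (strHom X) (fun i => f (MvPolynomial.X i)) := by
    apply MvPolynomial.ringHom_ext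
    · intro c
      simp only [MvPolynomial.eval₂Hom_C]
      exact f.commutes c
    · intro i
      simp
  rw [← this]
  exact hf

lemma locallyCompactSpace_of_affine [IsAffine X] [LocallyOfFiniteType (X ↘ SC)] :
    LocallyCompactSpace (Pts X) := by
  obtain ⟨n, s, hs⟩ := exists_generators (X := X)
  exact (isClosedEmbedding_of_generators n s hs).locallyCompactSpace

theorem locallyCompactSpace_pts [LocallyOfFiniteType (X ↘ SC)] :
    LocallyCompactSpace (Pts X) := by
  refine ⟨fun x N hN => ?_⟩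
  obtain ⟨_, ⟨(U : X.Opens), hU : IsAffineOpen U, rfl⟩, hxU, -⟩ :=
    X.isBasis_affineOpens.exists_subset_of_mem_open (Set.mem_univ x.pt) isOpen_univ
  have : IsAffine U.toScheme := hU
  have : LocallyOfFiniteType (U.toScheme ↘ SC) := by
    rw [← Scheme.Opens.ι_comp_over]; infer_instance
  have := locallyCompactSpace_of_affine (X := U.toScheme)
  have hoe := isOpenEmbedding_map_of_isOpenImmersion U.ι
  have hx : x ∈ Set.range (Pts.map U.ι) := by
    rw [range_map_of_isOpenImmersion]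
    simpa using hxU
  obtain ⟨x', rfl⟩ := hx
  obtain ⟨K, hK, hKN, hKc⟩ := local_compact_nhds (hoe.continuous.continuousAt.preimage_mem_nhds hN)
  exact ⟨Pts.map U.ι '' K, hoe.isOpenMap.image_mem_nhds hK, Set.image_subset_iff.2 hKN,
    hKc.image hoe.continuous⟩


/-- Nullstellensatz: every maximal ideal of a finite type `ℂ`-algebra is the kernel of a
`ℂ`-algebra map to `ℂ`. -/
lemma exists_ringHom_ker_eq [IsAffine X] [LocallyOfFiniteType (X ↘ SC)]
    (m : Ideal Γ(X, ⊤)) [hm : m.IsMaximal] :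
    ∃ ψ : Γ(X, ⊤) →+* ℂ, (∀ c, ψ (strHom X c) = c) ∧ RingHom.ker ψ = m := by
  have h := strHom_finiteType (X := X)
  let _ : Algebra ℂ Γ(X, ⊤) := (strHom X).toAlgebra
  have hft : Algebra.FiniteType ℂ Γ(X, ⊤) := h
  let _ := Ideal.Quotient.field m
  have hft' : Algebra.FiniteType ℂ (Γ(X, ⊤) ⧸ m) :=
    Algebra.FiniteType.of_surjective (Ideal.Quotient.mkₐ ℂ m) (Ideal.Quotient.mkₐ_surjective ℂ m)
  have hfin : Module.Finite ℂ (Γ(X, ⊤) ⧸ m) := finite_of_finite_type_of_isJacobsonRing ℂ _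
  have hbij : Function.Bijective (algebraMap ℂ (Γ(X, ⊤) ⧸ m)) :=
    IsAlgClosed.algebraMap_bijective_of_isIntegral
  let e : ℂ ≃+* (Γ(X, ⊤) ⧸ m) := RingEquiv.ofBijective (algebraMap ℂ (Γ(X, ⊤) ⧸ m)) hbij
  refine ⟨e.symm.toRingHom.comp (Ideal.Quotient.mk m), ?_, ?_⟩
  · intro c
    simp only [RingEquiv.toRingHom_eq_coe, RingHom.coe_comp, RingHom.coe_coe, Function.comp_apply]
    rw [RingEquiv.symm_apply_eq]
    rfl
  · ext a
    simp only [RingEquiv.toRingHom_eq_coe, RingHom.mem_ker, RingHom.coe_comp, RingHom.coe_coe,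
      Function.comp_apply]
    rw [RingEquiv.map_eq_zero_iff, Ideal.Quotient.eq_zero_iff_mem]


lemma mem_toSpecΓ_pt_iff (x : Pts X) (f : Γ(X, ⊤)) :
    f ∈ (X.toSpecΓ x.pt).asIdeal ↔ x.evTop f = 0 := by
  have h1 : x.pt ∈ X.basicOpen f ↔ x.evTop f ≠ 0 := mem_basicOpen_iff x ⊤ (Opens.mem_top _) f
  rw [← Scheme.toSpecΓ_preimage_basicOpen] at h1
  have h2 : x.pt ∈ X.toSpecΓ ⁻¹ᵁ PrimeSpectrum.basicOpen f ↔ f ∉ (X.toSpecΓ x.pt).asIdeal :=
    Iff.rfl
  rw [h2] at h1
  exact not_iff_not.1 h1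

/-- On an affine scheme of finite type over `ℂ` every closed point underlies a `ℂ`-point. -/
lemma exists_pt_eq_of_isClosed_affine [IsAffine X] [LocallyOfFiniteType (X ↘ SC)] (p : X)
    (hp : IsClosed ({p} : Set X)) : ∃ x : Pts X, x.pt = p := by
  have hhomeo : IsHomeomorph X.toSpecΓ := X.toSpecΓ.homeomorph.isHomeomorph
  have hcl : IsClosed ({X.toSpecΓ p} : Set (Spec Γ(X, ⊤))) := by
    rw [← Set.image_singleton]
    exact hhomeo.isClosedMap _ hp
  have hmax : (X.toSpecΓ p).asIdeal.IsMaximal :=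
    (PrimeSpectrum.isClosed_singleton_iff_isMaximal _).1 hcl
  obtain ⟨ψ, hψ, hker⟩ := exists_ringHom_ker_eq (X := X) (X.toSpecΓ p).asIdeal
  refine ⟨ptOfRingHom ψ hψ, ?_⟩
  apply hhomeo.injective
  apply PrimeSpectrum.ext
  ext f
  rw [mem_toSpecΓ_pt_iff, evTop_ptOfRingHom, ← hker, RingHom.mem_ker]

/-- On a scheme locally of finite type over `ℂ` every closed point underlies a `ℂ`-point. -/
theorem exists_pt_eq_of_isClosed [LocallyOfFiniteType (X ↘ SC)] (p : X)
    (hp : IsClosed ({p} : Set X)) : ∃ x : Pts X, x.pt = p := by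
  obtain ⟨_, ⟨(U : X.Opens), hU : IsAffineOpen U, rfl⟩, hpU, -⟩ :=
    X.isBasis_affineOpens.exists_subset_of_mem_open (Set.mem_univ p) isOpen_univ
  have : IsAffine U.toScheme := hU
  have : LocallyOfFiniteType (U.toScheme ↘ SC) := by
    rw [← Scheme.Opens.ι_comp_over]; infer_instance
  have hcl : IsClosed ({⟨p, hpU⟩} : Set U.toScheme) := by
    have : ({⟨p, hpU⟩} : Set U.toScheme) = U.ι ⁻¹' {p} := by
      ext q
      simp only [Set.mem_singleton_iff, Set.mem_preimage]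
      constructor
      · rintro rfl; rfl
      · intro h; exact Subtype.ext h
    rw [this]
    exact hp.preimage U.ι.continuous
  obtain ⟨x', hx'⟩ := exists_pt_eq_of_isClosed_affine (X := U.toScheme) ⟨p, hpU⟩ hcl
  refine ⟨Pts.map U.ι x', ?_⟩
  rw [Pts.pt_map, hx']
  rfl

theorem nonempty_pts_iff [LocallyOfFiniteType (X ↘ SC)] : Nonempty ↥X ↔ Nonempty (Pts X) := by
  refine ⟨fun ⟨p⟩ => ?_, fun ⟨x⟩ => ⟨x.pt⟩⟩
  obtain ⟨_, ⟨(U : X.Opens), hU : IsAffineOpen U, rfl⟩, hpU, -⟩ :=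
    X.isBasis_affineOpens.exists_subset_of_mem_open (Set.mem_univ p) isOpen_univ
  have : IsAffine U.toScheme := hU
  have : LocallyOfFiniteType (U.toScheme ↘ SC) := by
    rw [← Scheme.Opens.ι_comp_over]; infer_instance
  have : Nonempty U.toScheme := ⟨⟨p, hpU⟩⟩
  have : Nonempty (⊤ : U.toScheme.Opens) := ⟨⟨⟨p, hpU⟩, Opens.mem_top _⟩⟩
  have : Nontrivial Γ(U.toScheme, ⊤) := Scheme.component_nontrivial _ _
  obtain ⟨m, hm⟩ := Ideal.exists_maximal Γ(U.toScheme, ⊤)
  obtain ⟨ψ, hψ, -⟩ := exists_ringHom_ker_eq (X := U.toScheme) m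
  exact ⟨Pts.map U.ι (ptOfRingHom ψ hψ)⟩

end Groth.Agent.Lib.Helper6
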