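import Groth.Agent.Lib.Helper6Density
import Groth.Agent.Lib.Helper6AnCons
import Groth.Agent.Lib.Helper6AnFT
import Groth.Agent.Lib.Helper6AnAffine
import Mathlib.Analysis.Complex.Cardinality
import Mathlib.AlgebraicGeometry.Artinian

open AlgebraicGeometry CategoryTheory TopologicalSpace Opposite An Topology

namespace Groth.Agent.Lib.Helper6

/-- a finite type `ℂ`-algebra with countably many `ℂ`-points is finite dimensional -/
lemma finite_of_countable_algHom {A : Type*} [CommRing A] [Algebra ℂ A] [Algebra.FiniteType ℂ A]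
    (hc : Countable (A →ₐ[ℂ] ℂ)) : Module.Finite ℂ A := by
  rcases subsingleton_or_nontrivial A with hA | hA
  · infer_instance
  obtain ⟨d, g, hginj, hgfin⟩ := exists_finite_inj_algHom_of_fg ℂ A
  rcases Nat.eq_zero_or_pos d with rfl | hd
  · -- `d = 0`
    let _ : Algebra (MvPolynomial (Fin 0) ℂ) A := g.toRingHom.toAlgebra
    have : IsScalarTower ℂ (MvPolynomial (Fin 0) ℂ) A :=
      IsScalarTower.of_algebraMap_eq fun c => (g.commutes c).symm
    have h1 : Module.Finite (MvPolynomial (Fin 0) ℂ) A := hgfin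
    have h2 : Module.Finite ℂ (MvPolynomial (Fin 0) ℂ) :=
      Module.Finite.equiv (MvPolynomial.isEmptyAlgEquiv ℂ (Fin 0)).symm.toLinearEquiv
    exact Module.Finite.trans (MvPolynomial (Fin 0) ℂ) A
  · exfalso
    -- the restriction map to `ℂ^d` is surjective
    have hsurj : Function.Surjective (fun ψ : A →ₐ[ℂ] ℂ => ψ (g (MvPolynomial.X ⟨0, hd⟩))) := by
      intro c
      obtain ⟨ψ, hψ⟩ := exists_algHom_comp_eq g hgfin.to_isIntegral
        (MvPolynomial.aeval (fun _ => c) : MvPolynomial (Fin d) ℂ →ₐ[ℂ] ℂ) (by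
          rw [(RingHom.injective_iff_ker_eq_bot _).1 hginj]
          exact bot_le)
      refine ⟨ψ, ?_⟩
      have := congrArg (fun k : MvPolynomial (Fin d) ℂ →ₐ[ℂ] ℂ => k (MvPolynomial.X ⟨0, hd⟩)) hψ
      simpa using this
    have : Countable ℂ := hsurj.countable
    exact not_countable_complex (Set.countable_univ_iff.2 this)

variable {X : Scheme.{0}} [X.Over SC]

lemma discreteTopology_of_pts_affine [IsAffine X] [LocallyOfFiniteType (X ↘ SC)]
    (h : DiscreteTopology (Pts X)) : DiscreteTopology ↥X := by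
  obtain ⟨n, s, hs⟩ := exists_generators (X := X)
  have hce := isClosedEmbedding_of_generators n s hs
  have h2 : SecondCountableTopology (Pts X) := hce.isEmbedding.secondCountableTopology
  have hcount : Countable (Pts X) := separableSpace_iff_countable.1 inferInstance
  let _ : Algebra ℂ Γ(X, ⊤) := (strHom X).toAlgebra
  have hft : Algebra.FiniteType ℂ Γ(X, ⊤) := strHom_finiteType (X := X)
  let Φ : (Γ(X, ⊤) →ₐ[ℂ] ℂ) → Pts X := fun ψ => ptOfRingHom ψ.toRingHom (fun c => ψ.commutes c)
  have hΦ : Function.Injective Φ := by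
    intro ψ ψ' hψ
    ext f
    have h1 := evTop_ptOfRingHom ψ.toRingHom (fun c => ψ.commutes c) f
    have h2 := evTop_ptOfRingHom ψ'.toRingHom (fun c => ψ'.commutes c) f
    have h3 : (Φ ψ).evTop f = (Φ ψ').evTop f := by rw [hψ]
    rw [h1, h2] at h3
    exact h3
  have hc : Countable (Γ(X, ⊤) →ₐ[ℂ] ℂ) := hΦ.countable
  have hfin : Module.Finite ℂ Γ(X, ⊤) := finite_of_countable_algHom hc
  have hart : IsArtinianRing Γ(X, ⊤) := IsArtinianRing.of_finite ℂ _
  have : DiscreteTopology (Spec Γ(X, ⊤)) := inferInstanceAs (DiscreteTopology (PrimeSpectrum _))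
  exact X.isoSpec.hom.homeomorph.symm.discreteTopology

theorem discreteTopology_iff_pts [LocallyOfFiniteType (X ↘ SC)] :
    DiscreteTopology ↥X ↔ DiscreteTopology (Pts X) := by
  constructor
  · intro h
    rw [discreteTopology_iff_isOpen_singleton]
    intro x
    have : ({x} : Set (Pts X)) = Pts.pt ⁻¹' {x.pt} := by
      ext y
      simp only [Set.mem_singleton_iff, Set.mem_preimage]
      exact ⟨fun h => by rw [h], fun h => pt_injective h⟩
    rw [this]
    exact (isOpen_discrete _).preimage Pts.continuous_pt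
  · intro h
    rw [discreteTopology_iff_isOpen_singleton]
    intro p
    obtain ⟨_, ⟨(U : X.Opens), hU : IsAffineOpen U, rfl⟩, hpU, -⟩ :=
      X.isBasis_affineOpens.exists_subset_of_mem_open (Set.mem_univ p) isOpen_univ
    have : IsAffine U.toScheme := hU
    have : LocallyOfFiniteType (U.toScheme ↘ SC) := by
      rw [← Scheme.Opens.ι_comp_over]; infer_instance
    have hoe := isOpenEmbedding_map_of_isOpenImmersion U.ι
    have hd : DiscreteTopology (Pts U.toScheme) := hoe.isEmbedding.discreteTopology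
    have hdU : DiscreteTopology ↥U.toScheme := discreteTopology_of_pts_affine hd
    have := (isOpen_discrete ({⟨p, hpU⟩} : Set U)).trans U.2
    have h3 : (Subtype.val '' ({⟨p, hpU⟩} : Set U) : Set X) = {p} := by
      ext q
      simp only [Set.mem_image, Set.mem_singleton_iff]
      constructor
      · rintro ⟨a, rfl, rfl⟩
        rfl
      · rintro rfl
        exact ⟨⟨q, hpU⟩, rfl, rfl⟩
    rw [← h3]
    exact this

end Groth.Agent.Lib.Helper6
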