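import Groth.Agent.Lib.Helper6AnCons
import Groth.Prelude.Def_AnEps
import Mathlib.Topology.IsLocalHomeomorph
import Mathlib.Topology.Homeomorph.Lemmas
import Mathlib.CategoryTheory.Limits.Shapes.Pullback.IsPullback.Basic
import Mathlib.CategoryTheory.Limits.Constructions.Over.Connected
import Mathlib.CategoryTheory.Sites.CoverPreserving
import Mathlib.CategoryTheory.Limits.Preserves.Shapes.Pullbacks
import Mathlib.CategoryTheory.Limits.Preserves.Shapes.Terminal
import Mathlib.CategoryTheory.Limits.Preserves.Finite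
import Mathlib.CategoryTheory.Limits.Constructions.FiniteProductsOfBinaryProducts
import Mathlib.CategoryTheory.Limits.Constructions.LimitsOfProductsAndEqualizers
import Mathlib.CategoryTheory.Functor.Flat

/-!
# The comparison functor from the small etale site to the classical site is continuous

Given that etale morphisms induce local homeomorphisms on `ℂ`-points, the functor `An.eps X`
preserves finite limits (hence is representably flat) and preserves covers.
-/

set_option autoImplicit false

open AlgebraicGeometry CategoryTheory CategoryTheory.Limits TopologicalSpace Opposite An Topology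

namespace Groth.Agent.Lib.Helper6

/-- Topological lemma: if `P` maps bijectively to the fibre product of `U` and `V` over `W`,
the first projection is open and `g : V → W` is locally injective, then `P` is homeomorphic
to the fibre product. -/
theorem isHomeomorph_fibreProduct {P U V W : Type*} [TopologicalSpace P] [TopologicalSpace U]
    [TopologicalSpace V] [TopologicalSpace W] (π₁ : P → U) (π₂ : P → V) (f : U → W) (g : V → W)
    (h₁ : Continuous π₁) (h₂ : Continuous π₂) (ho : IsOpenMap π₁)
    (hg : ∀ v : V, ∃ M : Set V, IsOpen M ∧ v ∈ M ∧ Set.InjOn g M)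
    (hcomm : ∀ z, f (π₁ z) = g (π₂ z))
    (hbij : Function.Bijective
      (fun z => (⟨(π₁ z, π₂ z), hcomm z⟩ : {q : U × V // f q.1 = g q.2}))) :
    IsHomeomorph (fun z => (⟨(π₁ z, π₂ z), hcomm z⟩ : {q : U × V // f q.1 = g q.2})) := by
  set Φ : P → {q : U × V // f q.1 = g q.2} := fun z => ⟨(π₁ z, π₂ z), hcomm z⟩ with hΦ
  have hcont : Continuous Φ := Continuous.subtype_mk (h₁.prodMk h₂) _
  refine ⟨hcont, ?_, hbij⟩
  rw [isOpenMap_iff_nhds_le]
  intro z
  rw [Filter.le_map_iff]
  intro N hN
  obtain ⟨M, hMo, hzM, hMinj⟩ := hg (π₂ z)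
  -- shrink N
  obtain ⟨N', hN'N, hN'o, hzN'⟩ := mem_nhds_iff.1
    (Filter.inter_mem hN ((hMo.preimage h₂).mem_nhds hzM))
  have hopen : IsOpen (π₁ '' N') := ho N' hN'o
  have hsub : (Subtype.val ⁻¹' ((π₁ '' N') ×ˢ M) : Set {q : U × V // f q.1 = g q.2}) ⊆ Φ '' N := by
    rintro ⟨⟨u, v⟩, huv⟩ ⟨⟨z', hz'N', hz'u⟩, hvM⟩
    refine ⟨z', (hN'N hz'N').1, ?_⟩
    apply Subtype.ext
    simp only [hΦ]
    have h1 : π₁ z' = u := hz'u
    have h2 : π₂ z' = v := by
      apply hMinj (hN'N hz'N').2 hvM
      rw [← hcomm, h1]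
      exact huv
    rw [h1, h2]
  refine Filter.mem_of_superset ?_ hsub
  apply IsOpen.mem_nhds
  · exact (hopen.prod hMo).preimage continuous_subtype_val
  · exact ⟨⟨z, hzN', rfl⟩, hzM⟩

section pullbackPts

variable {P U V W : Scheme.{0}} [P.Over SC] [U.Over SC] [V.Over SC] [W.Over SC]
  (π₁ : P ⟶ U) (π₂ : P ⟶ V) (f : U ⟶ W) (g : V ⟶ W)
  [π₁.IsOver SC] [π₂.IsOver SC] [f.IsOver SC] [g.IsOver SC]

lemma map_isPullback_condition (h : IsPullback π₁ π₂ f g) (z : Pts P) :
    Pts.map f (Pts.map π₁ z) = Pts.map g (Pts.map π₂ z) :=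
  Subtype.ext (by
    change (z.1 ≫ π₁) ≫ f = (z.1 ≫ π₂) ≫ g
    rw [Category.assoc, Category.assoc, h.w])

/-- the `ℂ`-points of a fibre product are the fibre product of the `ℂ`-points (as sets) -/
theorem bijective_pts_of_isPullback (h : IsPullback π₁ π₂ f g) :
    Function.Bijective (fun z : Pts P =>
      (⟨(Pts.map π₁ z, Pts.map π₂ z), map_isPullback_condition π₁ π₂ f g h z⟩ :
        {q : Pts U × Pts V // Pts.map f q.1 = Pts.map g q.2})) := by
  constructor
  · intro z z' hzz'
    have h1 : z.1 ≫ π₁ = z'.1 ≫ π₁ :=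
      congrArg (fun q : {q : Pts U × Pts V // Pts.map f q.1 = Pts.map g q.2} => q.1.1.1) hzz'
    have h2 : z.1 ≫ π₂ = z'.1 ≫ π₂ :=
      congrArg (fun q : {q : Pts U × Pts V // Pts.map f q.1 = Pts.map g q.2} => q.1.2.1) hzz'
    exact Subtype.ext (h.hom_ext h1 h2)
  · rintro ⟨⟨x, y⟩, hxy⟩
    have hxy' : x.1 ≫ f = y.1 ≫ g := congrArg Subtype.val hxy
    refine ⟨⟨h.lift x.1 y.1 hxy', ?_⟩, ?_⟩
    · rw [← comp_over π₁, ← Category.assoc, h.lift_fst, x.2]
    · apply Subtype.ext
      apply Prod.ext
      · exact Subtype.ext (h.lift_fst _ _ _)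
      · exact Subtype.ext (h.lift_snd _ _ _)

end pullbackPts

variable (X : Scheme.{0}) [X.Over SC] [LocallyOfFiniteType (X ↘ SC)]

instance lft_etale_left (U : X.Etale) : LocallyOfFiniteType (U.left ↘ SC) := by
  have : LocallyOfFiniteType (U.left ↘ X) := inferInstance
  exact inferInstanceAs (LocallyOfFiniteType ((U.left ↘ X) ≫ X ↘ SC))

variable {X}

lemma isLocalHomeomorph_map_etale [Fact EtaleLH] {Z U : X.Etale} (k : Z ⟶ U) :
    IsLocalHomeomorph (Pts.map (X := Z.left) (Y := U.left) k.left) :=
  (Fact.out : EtaleLH) Z.left U.left k.left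

omit [X.Over SC] [LocallyOfFiniteType (X ↘ SC)] in
/-- covering sieves of the small etale site are jointly surjective -/
lemma exists_mem_range_of_mem_smallEtaleTopology {U : X.Etale} {S : Sieve U}
    (hS : S ∈ X.smallEtaleTopology U) (p : U.left) :
    ∃ (Z : X.Etale) (k : Z ⟶ U), S k ∧ p ∈ Set.range k.left := by
  obtain ⟨𝒰, _, h, hle⟩ := (Scheme.mem_smallGrothendieckTopology (P := @Etale) U S).1 hS
  obtain ⟨i, y, hy⟩ := 𝒰.exists_eq p
  exact ⟨_, _, hle _ _ ⟨i⟩, ⟨y, hy⟩⟩

variable (X)

theorem eps_coverPreserving [Fact EtaleLH] :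
    CoverPreserving X.smallEtaleTopology (Cl.topology (Pts X)) (eps X) where
  cover_preserve := by
    intro U S hS a
    -- `a : Pts U.left`
    let a' : Pts U.left := a
    obtain ⟨Z, k, hSk, hk⟩ := exists_mem_range_of_mem_smallEtaleTopology hS a'.pt
    obtain ⟨b, hb⟩ := exists_map_eq_of_pt_mem_range (X := Z.left) (Y := U.left) k.left a' hk
    obtain ⟨e, hbe, he⟩ := isLocalHomeomorph_map_etale k b
    refine ⟨Cl.restrictOpen ((eps X).obj Z) e.source e.open_source,
      Cl.restrictOpenι _ _ _ ≫ (eps X).map k, ⟨Z, k, Cl.restrictOpenι _ _ _, hSk, rfl⟩, ?_, ?_⟩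
    · have : (Cl.restrictOpenι ((eps X).obj Z) e.source e.open_source ≫ (eps X).map k).toFun =
          e.source.domRestrict e := by
        funext w
        change Pts.map (X := Z.left) (Y := U.left) k.left w.1 = e w.1
        rw [he]
      rw [this]
      exact e.isOpenEmbedding_restrict
    · exact ⟨⟨b, hbe⟩, hb⟩

variable {X}

omit [X.Over SC] [LocallyOfFiniteType (X ↘ SC)] in
lemma isPullback_left {P U V W : X.Etale} {π₁ : P ⟶ U} {π₂ : P ⟶ V} {f : U ⟶ W} {g : V ⟶ W}
    (h : IsPullback π₁ π₂ f g) : IsPullback π₁.left π₂.left f.left g.left :=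
  h.map (Scheme.Etale.forget X ⋙ Over.forget X)

/-- the homeomorphism from the points of a fibre product of etale schemes to the fibre product
of the spaces of points -/
theorem isHomeomorph_pts_of_isPullback_etale [Fact EtaleLH] {P U V W : X.Etale} {π₁ : P ⟶ U}
    {π₂ : P ⟶ V} {f : U ⟶ W} {g : V ⟶ W} (h : IsPullback π₁ π₂ f g) :
    IsHomeomorph (fun z : Pts P.left =>
      (⟨(Pts.map π₁.left z, Pts.map π₂.left z),
        map_isPullback_condition π₁.left π₂.left f.left g.left (isPullback_left h) z⟩ :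
        {q : Pts U.left × Pts V.left // Pts.map f.left q.1 = Pts.map g.left q.2})) := by
  apply isHomeomorph_fibreProduct (Pts.map π₁.left) (Pts.map π₂.left) (Pts.map f.left)
    (Pts.map g.left) (Pts.continuous_map _) (Pts.continuous_map _)
    (isLocalHomeomorph_map_etale π₁).isOpenMap
  · intro v
    obtain ⟨e, hve, he⟩ := isLocalHomeomorph_map_etale g v
    refine ⟨e.source, e.open_source, hve, ?_⟩
    rw [he]
    exact e.injOn
  · exact bijective_pts_of_isPullback π₁.left π₂.left f.left g.left (isPullback_left h)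

/-- `eps` carries pullback squares to pullback squares -/
theorem isPullback_eps [Fact EtaleLH] {P U V W : X.Etale} {π₁ : P ⟶ U}
    {π₂ : P ⟶ V} {f : U ⟶ W} {g : V ⟶ W} (h : IsPullback π₁ π₂ f g) :
    IsPullback ((eps X).map π₁) ((eps X).map π₂) ((eps X).map f) ((eps X).map g) := by
  have hw : (eps X).map π₁ ≫ (eps X).map f = (eps X).map π₂ ≫ (eps X).map g := by
    rw [← Functor.map_comp, ← Functor.map_comp, h.w]
  let Ψ := (isHomeomorph_pts_of_isPullback_etale h).homeomorph
  have hΨ1 : ∀ q, Pts.map π₁.left (Ψ.symm q) = q.1.1 := by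
    intro q
    have := congrArg (fun q : {q : Pts U.left × Pts V.left //
      Pts.map f.left q.1 = Pts.map g.left q.2} => q.1.1) (Ψ.apply_symm_apply q)
    exact this
  have hΨ2 : ∀ q, Pts.map π₂.left (Ψ.symm q) = q.1.2 := by
    intro q
    have := congrArg (fun q : {q : Pts U.left × Pts V.left //
      Pts.map f.left q.1 = Pts.map g.left q.2} => q.1.2) (Ψ.apply_symm_apply q)
    exact this
  refine IsPullback.of_isLimit (c := PullbackCone.mk _ _ hw) (PullbackCone.IsLimit.mk hw
    (fun s => ?_) (fun s => ?_) (fun s => ?_) (fun s m h1 h2 => ?_))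
  · -- the lift
    have hcond : ∀ t : s.pt.E, Pts.map f.left (s.fst.toFun t) = Pts.map g.left (s.snd.toFun t) := by
      intro t
      exact congrFun (congrArg Cl.Hom.toFun s.condition) t
    exact
      { toFun := fun t => Ψ.symm ⟨(s.fst.toFun t, s.snd.toFun t), hcond t⟩
        continuous := Ψ.symm.continuous.comp
          (Continuous.subtype_mk (s.fst.continuous.prodMk s.snd.continuous) _)
        over := by
          intro t
          have h1 := ((eps X).map π₁).over (Ψ.symm ⟨(s.fst.toFun t, s.snd.toFun t), hcond t⟩)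
          rw [← h1, ← s.fst.over t]
          congr 1
          exact hΨ1 _ }
  · apply Cl.hom_ext
    funext t
    exact hΨ1 _
  · apply Cl.hom_ext
    funext t
    exact hΨ2 _
  · apply Cl.hom_ext
    funext t
    apply Ψ.injective
    change Ψ (m.toFun t) = Ψ (Ψ.symm _)
    rw [Ψ.apply_symm_apply]
    apply Subtype.ext
    apply Prod.ext
    · exact congrFun (congrArg Cl.Hom.toFun h1) t
    · exact congrFun (congrArg Cl.Hom.toFun h2) t

variable (X)

instance eps_preservesPullbacks [Fact EtaleLH] : PreservesLimitsOfShape WalkingCospan (eps X) := by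
  have key : ∀ {U V W : X.Etale} (f : U ⟶ W) (g : V ⟶ W), PreservesLimit (cospan f g) (eps X) := by
    intro U V W f g
    have h := IsPullback.of_hasPullback f g
    exact preservesLimit_of_preserves_limit_cone h.isLimit
      ((isLimitMapConePullbackConeEquiv (eps X) h.w).symm (isPullback_eps h).isLimit)
  exact ⟨fun {K} => preservesLimit_of_iso_diagram (eps X) (diagramIsoCospan K).symm⟩

instance eps_preservesTerminal [Fact EtaleLH] :
    PreservesLimitsOfShape (Discrete PEmpty.{1}) (eps X) := by
  have : PreservesLimit (Functor.empty.{0} X.Etale) (eps X) :=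
    preservesLimit_of_preserves_limit_cone (EtCore.topIsTerminal X)
      ((isLimitMapConeEmptyConeEquiv (eps X) (EtCoh.top X)).symm
        (IsTerminal.ofIso (Cl.selfIsTerminal (Pts X)) (epsTopIso X).symm))
  exact preservesLimitsOfShape_pempty_of_preservesTerminal (eps X)

instance eps_preservesFiniteLimits [Fact EtaleLH] : PreservesFiniteLimits (eps X) := by
  have : HasTerminal X.Etale := (EtCore.topIsTerminal X).hasTerminal
  exact preservesFiniteLimits_of_preservesTerminal_and_pullbacks (eps X)

instance eps_representablyFlat [Fact EtaleLH] : RepresentablyFlat (eps X) :=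
  flat_of_preservesFiniteLimits (eps X)

theorem epsCont [Fact EtaleLH] : EpsCont X :=
  (Functor.isContinuous_iff_coverPreserving).2 (eps_coverPreserving X)

end Groth.Agent.Lib.Helper6
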