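import Mathlib

namespace Groth.Agent.Lib.Helper6.AnIFT
open Topology Filter Polynomial

/-- graph lemma: if `Z ⊆ P × T` is near `(p₀,t₀)` the graph of a continuous function, then the
first projection restricted to a neighbourhood is an open embedding. -/
theorem isOpenEmbedding_restrict_fst {P T : Type*} [TopologicalSpace P] [TopologicalSpace T]
    (Z : Set (P × T)) (W : Set P) (D : Set T) (hW : IsOpen W) (hD : IsOpen D) (ρ : P → T)
    (hρ : ContinuousOn ρ W) (h : ∀ p ∈ W, ∀ t ∈ D, (p, t) ∈ Z ↔ ρ p = t) :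
    IsOpenEmbedding (({z : Z | z.1.1 ∈ W ∧ z.1.2 ∈ D}).restrict (fun z : Z => z.1.1)) := by
  set U : Set Z := {z : Z | z.1.1 ∈ W ∧ z.1.2 ∈ D} with hU
  set f : U → P := U.restrict (fun z : Z => z.1.1) with hf
  have hfc : Continuous f :=
    (continuous_fst.comp continuous_subtype_val).comp continuous_subtype_val
  have hfW : ∀ u : U, f u ∈ W := fun u => u.2.1
  have hρf : ∀ u : U, ρ (f u) = u.1.1.2 := fun u =>
    (h _ u.2.1 _ u.2.2).1 (by exact u.1.2)
  -- range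
  have hrange : Set.range f = {p | p ∈ W ∧ ρ p ∈ D} := by
    ext p
    constructor
    · rintro ⟨u, rfl⟩
      exact ⟨hfW u, by rw [hρf]; exact u.2.2⟩
    · rintro ⟨hpW, hpD⟩
      exact ⟨⟨⟨(p, ρ p), (h p hpW _ hpD).2 rfl⟩, hpW, hpD⟩, rfl⟩
  have hopen : IsOpen (Set.range f) := by
    rw [hrange]
    exact hρ.isOpen_inter_preimage hW hD
  refine ⟨⟨⟨?_⟩, ?_⟩, hopen⟩
  · -- inducing
    apply le_antisymm
    · exact hfc.le_induced
    · -- the inverse is continuous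
      intro O hO
      rw [isOpen_induced_iff]
      -- O = preimage under subtype vals of an open set of P × T
      obtain ⟨O₁, hO₁, rfl⟩ := isOpen_induced_iff.1 hO
      obtain ⟨O₂, hO₂, rfl⟩ := isOpen_induced_iff.1 hO₁
      refine ⟨{p | p ∈ W ∧ (p, ρ p) ∈ O₂}, ?_, ?_⟩
      · have hc : ContinuousOn (fun p => (p, ρ p)) W := continuousOn_id.prodMk hρ
        exact hc.isOpen_inter_preimage hW hO₂
      · ext u
        simp only [Set.mem_preimage, Set.mem_setOf_eq]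
        constructor
        · rintro ⟨_, h2⟩
          have : (f u, ρ (f u)) = u.1.1 := Prod.ext rfl (hρf u)
          rw [this] at h2
          exact h2
        · intro h2
          refine ⟨hfW u, ?_⟩
          have : (f u, ρ (f u)) = u.1.1 := Prod.ext rfl (hρf u)
          rw [this]
          exact h2
  · -- injective
    intro u u' huu'
    apply Subtype.ext
    apply Subtype.ext
    apply Prod.ext
    · exact huu'
    · rw [← hρf u, ← hρf u', huu']

/-- the universal polynomial function -/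
noncomputable def polyFun (n : ℕ) : (Fin n → ℂ) × ℂ → ℂ := fun v => ∑ i : Fin n, v.1 i * v.2 ^ (i : ℕ)

lemma contDiff_polyFun (n : ℕ) : ContDiff ℂ ⊤ (polyFun n) := by
  unfold polyFun
  apply ContDiff.sum
  intro i _
  apply ContDiff.mul
  · exact (contDiff_apply ℂ ℂ i).comp contDiff_fst
  · exact contDiff_snd.pow _

/-- implicit function theorem for the universal polynomial -/
theorem exists_implicit (n : ℕ) (c₀ : Fin n → ℂ) (t₀ a : ℂ) (ha : a ≠ 0)
    (h0 : polyFun n (c₀, t₀) = 0)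
    (hd : HasDerivAt (fun t => polyFun n (c₀, t)) a t₀) :
    ∃ (W : Set (Fin n → ℂ)) (D : Set ℂ) (ρ : (Fin n → ℂ) → ℂ), IsOpen W ∧ IsOpen D ∧ c₀ ∈ W ∧
      t₀ ∈ D ∧ ContinuousOn ρ W ∧ ∀ c ∈ W, ∀ t ∈ D, polyFun n (c, t) = 0 ↔ ρ c = t := by
  set u : (Fin n → ℂ) × ℂ := (c₀, t₀) with hu
  have hs : HasStrictFDerivAt (polyFun n) (fderiv ℂ (polyFun n) u) u :=
    (contDiff_polyFun n).hasStrictFDerivAt (by simp)
  -- partial derivative
  have hpart : (fderiv ℂ (polyFun n) u) ((0 : Fin n → ℂ), (1 : ℂ)) = a := by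
    have h1 : HasDerivAt (fun t : ℂ => ((c₀, t) : (Fin n → ℂ) × ℂ)) ((0 : Fin n → ℂ), (1 : ℂ)) t₀ :=
      (hasDerivAt_const t₀ c₀).prodMk (hasDerivAt_id t₀)
    have h2 := hs.hasFDerivAt.comp_hasDerivAt t₀ h1
    exact h2.unique hd
  have hinv : ((fderiv ℂ (polyFun n) u) ∘L (ContinuousLinearMap.inr ℂ (Fin n → ℂ) ℂ)).IsInvertible := by
    refine ⟨ContinuousLinearEquiv.unitsEquivAut ℂ (Units.mk0 a ha), ?_⟩
    apply ContinuousLinearMap.ext_ring
    simp [hpart]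
  set ψ := hs.implicitFunctionOfProdDomain hinv with hψ
  have hev := hs.eventually_apply_eq_iff_implicitFunctionOfProdDomain hinv
  have hψs := hs.hasStrictFDerivAt_implicitFunctionOfProdDomain hinv
  obtain ⟨K, s, hs_nhds, hLip⟩ := hψs.exists_lipschitzOnWith
  have hev' : ∀ᶠ v in 𝓝 c₀ ×ˢ 𝓝 t₀, polyFun n v = polyFun n u ↔ ψ v.1 = v.2 := by
    rw [← nhds_prod_eq]; exact hev
  rw [Filter.eventually_prod_iff] at hev'
  obtain ⟨pa, hpa, pb, hpb, hab⟩ := hev'
  obtain ⟨W₁, hW₁sub, hW₁o, hcW₁⟩ := mem_nhds_iff.1 hpa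
  obtain ⟨D, hDsub, hDo, htD⟩ := mem_nhds_iff.1 hpb
  obtain ⟨W₂, hW₂sub, hW₂o, hcW₂⟩ := mem_nhds_iff.1 hs_nhds
  refine ⟨W₁ ∩ W₂, D, ψ, hW₁o.inter hW₂o, hDo, ⟨hcW₁, hcW₂⟩, htD,
    hLip.continuousOn.mono (Set.inter_subset_right.trans hW₂sub), ?_⟩
  intro c hc t ht
  have := hab (hW₁sub hc.1) (hDsub ht)
  simp only at this
  rw [h0] at this
  exact this

lemma polyFun_coeff (n : ℕ) (q : ℂ[X]) (hq : q.natDegree < n) (t : ℂ) :
    polyFun n ((fun i : Fin n => q.coeff i), t) = q.eval t := by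
  rw [Polynomial.eval_eq_sum_range' hq, Finset.sum_range]
  rfl

/-- the root locus of a continuous family of polynomials with simple roots is a local
homeomorphism over the parameter space -/
theorem isLocalHomeomorph_fst_rootLocus {P : Type*} [TopologicalSpace P] (n : ℕ) (q : P → ℂ[X])
    (hq : ∀ p, (q p).natDegree < n) (hqc : ∀ i, Continuous (fun p => (q p).coeff i))
    (b : P × ℂ → ℂ) (hb : Continuous b)
    (Z : Set (P × ℂ)) (hZ : Z = {z | (q z.1).eval z.2 = 0 ∧ b z ≠ 0})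
    (hsimple : ∀ z ∈ Z, (derivative (q z.1)).eval z.2 ≠ 0) :
    IsLocalHomeomorph (fun z : Z => z.1.1) := by
  rw [isLocalHomeomorph_iff_isOpenEmbedding_restrict]
  intro z₀
  obtain ⟨⟨p₀, t₀⟩, hz₀⟩ := z₀
  have hz₀' : (q p₀).eval t₀ = 0 ∧ b (p₀, t₀) ≠ 0 := by rw [hZ] at hz₀; exact hz₀
  set Φ : P → (Fin n → ℂ) := fun p i => (q p).coeff i with hΦ
  have hΦc : Continuous Φ := continuous_pi fun i => hqc i
  have hF : ∀ p t, polyFun n (Φ p, t) = (q p).eval t := fun p t => polyFun_coeff n (q p) (hq p) t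
  have hd : HasDerivAt (fun t => polyFun n (Φ p₀, t)) ((derivative (q p₀)).eval t₀) t₀ := by
    have : (fun t => polyFun n (Φ p₀, t)) = fun t => (q p₀).eval t := funext (hF p₀)
    rw [this]
    exact (q p₀).hasDerivAt t₀
  obtain ⟨W, D, ρ, hW, hD, hcW, htD, hρ, hWD⟩ := exists_implicit n (Φ p₀) t₀ _
    (hsimple _ hz₀) (by rw [hF]; exact hz₀'.1) hd
  -- the locus where b ≠ 0
  have hbo : IsOpen {z : P × ℂ | b z ≠ 0} := isOpen_ne_fun hb continuous_const
  obtain ⟨W₁, D₁, hW₁, hD₁, hpW₁, htD₁, hsub⟩ :=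
    isOpen_prod_iff.1 hbo p₀ t₀ hz₀'.2
  set W' : Set P := Φ ⁻¹' W ∩ W₁ with hW'
  set D' : Set ℂ := D ∩ D₁ with hD'
  have hemb := isOpenEmbedding_restrict_fst Z W' D' ((hW.preimage hΦc).inter hW₁) (hD.inter hD₁)
    (ρ ∘ Φ) ((hρ.comp hΦc.continuousOn (fun p hp => hp)).mono Set.inter_subset_left) (by
      intro p hp t ht
      rw [hZ]
      simp only [Set.mem_setOf_eq, Function.comp_apply]
      rw [← hWD (Φ p) hp.1 t ht.1, hF]
      constructor
      · exact fun h => h.1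
      · exact fun h => ⟨h, hsub (Set.mk_mem_prod hp.2 ht.2)⟩)
  refine ⟨_, ?_, hemb⟩
  have ho : IsOpen {z : Z | z.1.1 ∈ W' ∧ z.1.2 ∈ D'} := by
    have h1 : IsOpen {z : P × ℂ | z.1 ∈ W' ∧ z.2 ∈ D'} :=
      (((hW.preimage hΦc).inter hW₁).preimage continuous_fst).inter
        ((hD.inter hD₁).preimage continuous_snd)
    exact h1.preimage continuous_subtype_val
  exact ho.mem_nhds ⟨⟨hcW, hpW₁⟩, ⟨htD, htD₁⟩⟩

end Groth.Agent.Lib.Helper6.AnIFT
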