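import Groth.Agent.Lib.Helper6AnFib
import Groth.Agent.Lib.Helper6AnIFT
import Mathlib

/-!
# Etale morphisms induce local homeomorphisms on `ℂ`-points
-/

set_option autoImplicit false

open AlgebraicGeometry CategoryTheory CategoryTheory.Limits TopologicalSpace Opposite An Topology
open Polynomial

namespace Groth.Agent.Lib.Helper6

section appTop

variable {X Y : Scheme.{0}} [X.Over SC] [Y.Over SC] (g : X ⟶ Y) [g.IsOver SC]

lemma appTop_strHom (c : ℂ) : g.appTop.hom (strHom Y c) = strHom X c := by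
  unfold strHom
  have h : (X ↘ SC).appTop = (Y ↘ SC).appTop ≫ g.appTop := by
    rw [← Scheme.Hom.comp_appTop, comp_over]
  rw [h]
  rfl

end appTop

section StdEtale

variable {X Y : Scheme.{0}} [X.Over SC] [Y.Over SC] (g : X ⟶ Y) [g.IsOver SC]
  {R S : Type} [CommRing R] [CommRing S] [Algebra R S]
  (ιR : R ≃+* Γ(Y, ⊤)) (ιS : S ≃+* Γ(X, ⊤))
  (hcomm : ∀ r, ιS (algebraMap R S r) = g.appTop.hom (ιR r))
  (Pr : StandardEtalePresentation R S)

/-- evaluation on `R` -/
noncomputable def evR (y : Pts Y) : R →+* ℂ := (evHom y ⊤ (Opens.mem_top _)).comp ιR.toRingHom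

/-- evaluation on `S` -/
noncomputable def evS (x : Pts X) : S →+* ℂ := (evHom x ⊤ (Opens.mem_top _)).comp ιS.toRingHom

lemma evR_apply (y : Pts Y) (r : R) : evR ιR y r = y.evTop (ιR r) := rfl
lemma evS_apply (x : Pts X) (s : S) : evS ιS x s = x.evTop (ιS s) := rfl

include hcomm in
lemma evS_algebraMap (x : Pts X) (r : R) :
    evS ιS x (algebraMap R S r) = evR ιR (Pts.map g x) r := by
  rw [evS_apply, evR_apply, hcomm, evTop_map]

include hcomm in
lemma evS_comp_algebraMap (x : Pts X) :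
    (evS ιS x).comp (algebraMap R S) = evR ιR (Pts.map g x) :=
  RingHom.ext fun r => evS_algebraMap g ιR ιS hcomm x r

lemma continuous_evR (r : R) : Continuous (fun y : Pts Y => evR ιR y r) :=
  (continuous_apply (ιR r)).comp continuous_evAll

lemma continuous_evS (s : S) : Continuous (fun x : Pts X => evS ιS x s) :=
  (continuous_apply (ιS s)).comp continuous_evAll

lemma ext_of_evR [IsAffine Y] {y y' : Pts Y} (h : ∀ r, evR ιR y r = evR ιR y' r) : y = y' := by
  apply ext_of_evTop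
  intro f
  obtain ⟨r, rfl⟩ := ιR.surjective f
  exact h r

lemma ext_of_evS [IsAffine X] {x x' : Pts X} (h : ∀ s, evS ιS x s = evS ιS x' s) : x = x' := by
  apply ext_of_evTop
  intro f
  obtain ⟨s, rfl⟩ := ιS.surjective f
  exact h s

include hcomm in
/-- the image of a point satisfies the equations -/
lemma eval_f_eq_zero (x : Pts X) :
    (Pr.f.map (evR ιR (Pts.map g x))).eval (evS ιS x Pr.x) = 0 := by
  rw [Polynomial.eval_map, ← evS_comp_algebraMap g ιR ιS hcomm x, ← Polynomial.hom_eval₂,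
    ← Polynomial.aeval_def, Pr.hasMap.1, map_zero]

include hcomm in
lemma eval_g_ne_zero (x : Pts X) :
    (Pr.g.map (evR ιR (Pts.map g x))).eval (evS ιS x Pr.x) ≠ 0 := by
  rw [Polynomial.eval_map, ← evS_comp_algebraMap g ιR ιS hcomm x, ← Polynomial.hom_eval₂,
    ← Polynomial.aeval_def]
  exact (Pr.hasMap.2.map (evS ιS x)).ne_zero

include hcomm in
lemma evS_aeval (x : Pts X) (p : R[X]) :
    evS ιS x (aeval Pr.x p) = (p.map (evR ιR (Pts.map g x))).eval (evS ιS x Pr.x) := by
  rw [Polynomial.eval_map, ← evS_comp_algebraMap g ιR ιS hcomm x, ← Polynomial.hom_eval₂,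
    ← Polynomial.aeval_def]

lemma continuous_eval_map (p : R[X]) :
    Continuous (fun z : Pts Y × ℂ => (p.map (evR ιR z.1)).eval z.2) := by
  have h : ∀ z : Pts Y × ℂ, (p.map (evR ιR z.1)).eval z.2 =
      ∑ i ∈ Finset.range (p.natDegree + 1), evR ιR z.1 (p.coeff i) * z.2 ^ i := by
    intro z
    rw [Polynomial.eval_eq_sum_range' (lt_of_le_of_lt Polynomial.natDegree_map_le
      (Nat.lt_succ_self _))]
    simp only [Polynomial.coeff_map]
  simp_rw [h]
  apply continuous_finsetSum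
  intro i _
  exact ((continuous_evR ιR (p.coeff i)).comp continuous_fst).mul (continuous_snd.pow i)

/-- the root locus -/
def rootLocus : Set (Pts Y × ℂ) :=
  {z | (Pr.f.map (evR ιR z.1)).eval z.2 = 0 ∧ (Pr.g.map (evR ιR z.1)).eval z.2 ≠ 0}

/-- the comparison map -/
noncomputable def toRootLocus (x : Pts X) : rootLocus ιR Pr :=
  ⟨(Pts.map g x, evS ιS x Pr.x), eval_f_eq_zero g ιR ιS hcomm Pr x,
    eval_g_ne_zero g ιR ιS hcomm Pr x⟩

lemma continuous_toRootLocus : Continuous (toRootLocus g ιR ιS hcomm Pr) :=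
  Continuous.subtype_mk ((Pts.continuous_map g).prodMk (continuous_evS ιS Pr.x)) _

lemma toRootLocus_injective [IsAffine X] : Function.Injective (toRootLocus g ιR ιS hcomm Pr) := by
  intro x x' h
  have h1 : Pts.map g x = Pts.map g x' := congrArg (fun z => z.1.1) h
  have h2 : evS ιS x Pr.x = evS ιS x' Pr.x := congrArg (fun z => z.1.2) h
  letI : Algebra R ℂ := (evR ιR (Pts.map g x)).toAlgebra
  let ψ : S →ₐ[R] ℂ :=
    { evS ιS x with commutes' := fun r => evS_algebraMap g ιR ιS hcomm x r }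
  have hc' : ∀ r, evS ιS x' (algebraMap R S r) = algebraMap R ℂ r := by
    intro r
    have := evS_algebraMap g ιR ιS hcomm x' r
    rw [← h1] at this
    exact this
  let ψ' : S →ₐ[R] ℂ := { evS ιS x' with commutes' := hc' }
  have h3 : ψ = ψ' := Pr.hom_ext (f₁ := ψ) (f₂ := ψ') h2
  apply ext_of_evS ιS
  intro s
  exact congrArg (fun φ : S →ₐ[R] ℂ => φ s) h3

lemma toRootLocus_surjective [IsAffine X] [IsAffine Y] :
    Function.Surjective (toRootLocus g ιR ιS hcomm Pr) := by
  rintro ⟨⟨y, t⟩, hz1, hz2⟩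
  letI : Algebra R ℂ := (evR ιR y).toAlgebra
  have hmap : Pr.HasMap t := by
    refine ⟨?_, ?_⟩
    · rw [Polynomial.aeval_def, ← Polynomial.eval_map]; exact hz1
    · rw [Polynomial.aeval_def, ← Polynomial.eval_map]; exact isUnit_iff_ne_zero.2 hz2
  let ψ₀ : S →ₐ[R] ℂ := (Pr.lift t hmap).comp Pr.equivRing.toAlgHom
  have hψx : ψ₀ Pr.x = t := by simp [ψ₀]
  let ψ : Γ(X, ⊤) →+* ℂ := ψ₀.toRingHom.comp ιS.symm.toRingHom
  have hψS : ∀ s, ψ (ιS s) = ψ₀ s := by
    intro s
    simp [ψ]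
  have hψ : ∀ c, ψ (strHom X c) = c := by
    intro c
    have h1 : strHom X c = ιS (algebraMap R S (ιR.symm (strHom Y c))) := by
      rw [hcomm, ιR.apply_symm_apply, appTop_strHom]
    rw [h1, hψS, ψ₀.commutes]
    change evR ιR y (ιR.symm (strHom Y c)) = c
    rw [evR_apply, ιR.apply_symm_apply, evTop_strHom]
  let x : Pts X := ptOfRingHom ψ hψ
  have hx : ∀ s, evS ιS x s = ψ₀ s := by
    intro s
    rw [evS_apply, evTop_ptOfRingHom, hψS]
  have hy : Pts.map g x = y := by
    apply ext_of_evR ιR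
    intro r
    rw [← evS_algebraMap g ιR ιS hcomm x r, hx, ψ₀.commutes]
    rfl
  refine ⟨x, ?_⟩
  apply Subtype.ext
  apply Prod.ext
  · exact hy
  · change evS ιS x Pr.x = t
    rw [hx, hψx]

lemma isInducing_toRootLocus [IsAffine X] :
    IsInducing (toRootLocus g ιR ιS hcomm Pr) := by
  -- express every evaluation through the root locus
  choose p n hpn using fun s : S => Pr.exists_mul_aeval_x_g_pow_eq_aeval_x s
  let G : rootLocus ιR Pr → (Γ(X, ⊤) → ℂ) := fun z f =>
    ((p (ιS.symm f)).map (evR ιR z.1.1)).eval z.1.2 /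
      ((Pr.g.map (evR ιR z.1.1)).eval z.1.2) ^ (n (ιS.symm f))
  have hG : Continuous G := by
    refine continuous_pi fun f => ?_
    apply Continuous.div
    · exact (continuous_eval_map ιR (p (ιS.symm f))).comp continuous_subtype_val
    · exact ((continuous_eval_map ιR Pr.g).comp continuous_subtype_val).pow _
    · intro z
      exact pow_ne_zero _ z.2.2
  have hcomp : G ∘ (toRootLocus g ιR ιS hcomm Pr) = (evAll : Pts X → Γ(X, ⊤) → ℂ) := by
    funext x f
    change ((p (ιS.symm f)).map (evR ιR (Pts.map g x))).eval (evS ιS x Pr.x) /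
      ((Pr.g.map (evR ιR (Pts.map g x))).eval (evS ιS x Pr.x)) ^ (n (ιS.symm f)) = x.evTop f
    rw [div_eq_iff (pow_ne_zero _ (eval_g_ne_zero g ιR ιS hcomm Pr x))]
    rw [← evS_aeval g ιR ιS hcomm Pr x, ← evS_aeval g ιR ιS hcomm Pr x, ← hpn, map_mul, map_pow,
      evS_apply, ιS.apply_symm_apply]
  apply IsInducing.of_comp (continuous_toRootLocus g ιR ιS hcomm Pr) hG
  rw [hcomp]
  exact isInducing_evAll

include hcomm Pr in
/-- affine standard etale case -/
theorem isLocalHomeomorph_map_of_standardEtale [IsAffine X] [IsAffine Y] :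
    IsLocalHomeomorph (Pts.map g) := by
  have hE : IsOpenEmbedding (toRootLocus g ιR ιS hcomm Pr) := by
    refine ⟨⟨isInducing_toRootLocus g ιR ιS hcomm Pr, toRootLocus_injective g ιR ιS hcomm Pr⟩, ?_⟩
    rw [(toRootLocus_surjective g ιR ιS hcomm Pr).range_eq]
    exact isOpen_univ
  have hpr : IsLocalHomeomorph (fun z : rootLocus ιR Pr => z.1.1) := by
    apply AnIFT.isLocalHomeomorph_fst_rootLocus (Pr.f.natDegree + 1)
      (fun y => Pr.f.map (evR ιR y)) (fun y => lt_of_le_of_lt Polynomial.natDegree_map_le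
        (Nat.lt_succ_self _))
      (fun i => by
        simp only [Polynomial.coeff_map]
        exact continuous_evR ιR _)
      (fun z => (Pr.g.map (evR ιR z.1)).eval z.2) (continuous_eval_map ιR Pr.g)
      (rootLocus ιR Pr) rfl
    rintro ⟨y, t⟩ ⟨hz1, hz2⟩
    obtain ⟨p₁, p₂, k, hk⟩ := Pr.cond
    have h1 := congrArg (fun q : R[X] => (q.map (evR ιR y)).eval t) hk
    simp only [Polynomial.map_add, Polynomial.map_mul, Polynomial.eval_add, Polynomial.eval_mul,
      Polynomial.map_pow, Polynomial.eval_pow] at h1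
    simp only at hz1 hz2 ⊢
    rw [hz1, zero_mul, add_zero] at h1
    intro h0
    rw [Polynomial.derivative_map] at h0
    rw [h0, zero_mul] at h1
    exact pow_ne_zero k hz2 h1.symm
  exact hpr.comp hE.isLocalHomeomorph

end StdEtale

section General

variable {X Y : Scheme.{0}} [X.Over SC] [Y.Over SC] (g : X ⟶ Y) [g.IsOver SC] [Etale g]

/-- local structure: around any `ℂ`-point there are affine opens on which `g` is standard etale,
hence a local homeomorphism on points -/
theorem exists_affine_isLocalHomeomorph (x₀ : Pts X) :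
    ∃ (V : Y.Opens) (U : X.Opens) (hle : U ≤ g ⁻¹ᵁ V), x₀.pt ∈ U ∧
      IsLocalHomeomorph (Pts.map (g.resLE V U hle)) := by
  -- affine opens
  obtain ⟨_, ⟨(V : Y.Opens), hV : IsAffineOpen V, rfl⟩, hyV, -⟩ :=
    Y.isBasis_affineOpens.exists_subset_of_mem_open (Set.mem_univ (Pts.map g x₀).pt) isOpen_univ
  have hxV : x₀.pt ∈ g ⁻¹ᵁ V := by rw [Pts.pt_map] at hyV; exact hyV
  obtain ⟨_, ⟨(U₀ : X.Opens), hU₀ : IsAffineOpen U₀, rfl⟩, hxU₀, hU₀le⟩ :=
    X.isBasis_affineOpens.exists_subset_of_mem_open hxV (g ⁻¹ᵁ V).2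
  have hU₀le' : U₀ ≤ g ⁻¹ᵁ V := hU₀le
  -- the etale ring map
  have hφ : (g.appLE V U₀ hU₀le').hom.Etale := Etale.etale_appLE g hV hU₀ hU₀le'
  letI : Algebra Γ(Y, V) Γ(X, U₀) := (g.appLE V U₀ hU₀le').hom.toAlgebra
  haveI : Algebra.Etale Γ(Y, V) Γ(X, U₀) := hφ
  -- the prime
  let Q : Ideal Γ(X, U₀) := RingHom.ker (evHom x₀ U₀ hxU₀)
  haveI : Q.IsPrime := RingHom.ker_isPrime _
  haveI : Algebra.IsEtaleAt Γ(Y, V) Q := by
    have h1 : Algebra.etaleLocus Γ(Y, V) Γ(X, U₀) = Set.univ :=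
      Algebra.etaleLocus_eq_univ_iff.2 inferInstance
    have h2 : (⟨Q, inferInstance⟩ : PrimeSpectrum Γ(X, U₀)) ∈
        Algebra.etaleLocus Γ(Y, V) Γ(X, U₀) := by rw [h1]; trivial
    exact h2
  obtain ⟨f, hfQ, hstd⟩ := Algebra.IsEtaleAt.exists_isStandardEtale (R := Γ(Y, V)) Q
  -- the basic open
  have hUle : X.basicOpen f ≤ U₀ := X.basicOpen_le f
  have hU : IsAffineOpen (X.basicOpen f) := hU₀.basicOpen f
  have hxU : x₀.pt ∈ X.basicOpen f := by
    rw [mem_basicOpen_iff x₀ U₀ hxU₀ f]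
    intro h0
    exact hfQ h0
  have hle : X.basicOpen f ≤ g ⁻¹ᵁ V := hUle.trans hU₀le'
  refine ⟨V, X.basicOpen f, hle, hxU, ?_⟩
  haveI : IsAffine V.toScheme := hV
  haveI : IsAffine (X.basicOpen f).toScheme := hU
  haveI hloc : IsLocalization.Away f Γ(X, X.basicOpen f) := hU₀.isLocalization_basicOpen f
  let Pr : StandardEtalePresentation Γ(Y, V) (Localization.Away f) :=
    hstd.nonempty_standardEtalePresentation.some
  let ιR : Γ(Y, V) ≃+* Γ(V.toScheme, ⊤) := V.topIso.commRingCatIsoToRingEquiv.symm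
  let e₁ : Localization.Away f ≃ₐ[Γ(X, U₀)] Γ(X, X.basicOpen f) :=
    IsLocalization.algEquiv (Submonoid.powers f) _ _
  let ιS : Localization.Away f ≃+* Γ((X.basicOpen f).toScheme, ⊤) :=
    e₁.toRingEquiv.trans (X.basicOpen f).topIso.commRingCatIsoToRingEquiv.symm
  apply isLocalHomeomorph_map_of_standardEtale (g.resLE V (X.basicOpen f) hle) ιR ιS ?_ Pr
  intro r
  have h1 : algebraMap Γ(Y, V) (Localization.Away f) r =
      algebraMap Γ(X, U₀) (Localization.Away f) ((g.appLE V U₀ hU₀le').hom r) :=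
    IsScalarTower.algebraMap_apply Γ(Y, V) Γ(X, U₀) (Localization.Away f) r
  have h2 : e₁ (algebraMap Γ(X, U₀) (Localization.Away f) ((g.appLE V U₀ hU₀le').hom r)) =
      algebraMap Γ(X, U₀) Γ(X, X.basicOpen f) ((g.appLE V U₀ hU₀le').hom r) :=
    e₁.commutes _
  have h3 : algebraMap Γ(X, U₀) Γ(X, X.basicOpen f) ((g.appLE V U₀ hU₀le').hom r) =
      (g.appLE V (X.basicOpen f) hle).hom r := by
    have := Scheme.Hom.appLE_map g hU₀le' (homOfLE hUle).op
    exact congrArg (fun φ => φ.hom r) this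
  have h4 : (g.resLE V (X.basicOpen f) hle).appTop =
      V.topIso.hom ≫ g.appLE V (X.basicOpen f) hle ≫ (X.basicOpen f).topIso.inv :=
    Scheme.Hom.resLE_app_top g hle
  change (X.basicOpen f).topIso.inv.hom (e₁ (algebraMap Γ(Y, V) (Localization.Away f) r)) =
    (g.resLE V (X.basicOpen f) hle).appTop.hom (V.topIso.inv.hom r)
  rw [h1, h2, h3, h4]
  simp only [CommRingCat.hom_comp, RingHom.coe_comp, Function.comp_apply]
  congr 2
  exact (congrArg (fun φ => φ.hom r) V.topIso.inv_hom_id).symm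

/-- etale morphisms over `ℂ` induce local homeomorphisms on `ℂ`-points -/
theorem isLocalHomeomorph_map_of_etale : IsLocalHomeomorph (Pts.map g) := by
  intro x₀
  obtain ⟨V, U, hle, hxU, hloc⟩ := exists_affine_isLocalHomeomorph g x₀
  have hj : IsOpenEmbedding (Pts.map U.ι) := isOpenEmbedding_map_of_isOpenImmersion U.ι
  have hk : IsOpenEmbedding (Pts.map V.ι) := isOpenEmbedding_map_of_isOpenImmersion V.ι
  have hsq : (Pts.map g) ∘ (Pts.map U.ι) = (Pts.map V.ι) ∘ (Pts.map (g.resLE V U hle)) := by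
    funext z
    simp only [Function.comp_apply]
    rw [← Pts.map_comp, ← Pts.map_comp]
    apply Subtype.ext
    change z.1 ≫ U.ι ≫ g = z.1 ≫ g.resLE V U hle ≫ V.ι
    rw [Scheme.Hom.resLE_comp_ι]
  have hgf : IsLocalHomeomorphOn ((Pts.map g) ∘ (Pts.map U.ι)) Set.univ := by
    rw [hsq]
    exact (hk.isLocalHomeomorph.comp hloc).isLocalHomeomorphOn
  have hon : IsLocalHomeomorphOn (Pts.map g) ((Pts.map U.ι) '' Set.univ) :=
    IsLocalHomeomorphOn.of_comp_right hgf hj.isLocalHomeomorph.isLocalHomeomorphOn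
  have hx₀ : x₀ ∈ (Pts.map U.ι) '' Set.univ := by
    rw [Set.image_univ, range_map_of_isOpenImmersion]
    simpa using hxU
  exact hon x₀ hx₀

end General

theorem etaleLH : An.EtaleLH := by
  intro X Y _ _ _ g _ _
  exact isLocalHomeomorph_map_of_etale g

end Groth.Agent.Lib.Helper6
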