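import Groth.Agent.Lib.Helper6AnEps
import Mathlib.AlgebraicGeometry.Morphisms.Affine

/-!
# Complex points of fibre products

The `ℂ`-points of a fibre product of schemes over `ℂ` are homeomorphic to the fibre product of
the spaces of `ℂ`-points.
-/

set_option autoImplicit false

open AlgebraicGeometry CategoryTheory CategoryTheory.Limits TopologicalSpace Opposite An Topology

namespace Groth.Agent.Lib.Helper6

/-- In a pushout square of commutative rings, the pushout is generated by the two images. -/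
lemma closure_range_eq_top_of_isPushout {R S T P : CommRingCat.{0}} {f : R ⟶ S} {g : R ⟶ T}
    {inl : S ⟶ P} {inr : T ⟶ P} (h : IsPushout f g inl inr) :
    Subring.closure (Set.range inl.hom ∪ Set.range inr.hom) = ⊤ := by
  set B : Subring P := Subring.closure (Set.range inl.hom ∪ Set.range inr.hom) with hB
  let inl' : S ⟶ CommRingCat.of B := CommRingCat.ofHom
    (inl.hom.codRestrict B fun a => Subring.subset_closure (Or.inl ⟨a, rfl⟩))
  let inr' : T ⟶ CommRingCat.of B := CommRingCat.ofHom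
    (inr.hom.codRestrict B fun a => Subring.subset_closure (Or.inr ⟨a, rfl⟩))
  let ι : CommRingCat.of B ⟶ P := CommRingCat.ofHom B.subtype
  have hl : inl' ≫ ι = inl := by ext a; rfl
  have hr : inr' ≫ ι = inr := by ext a; rfl
  have hw : f ≫ inl' = g ≫ inr' := by
    ext a
    have := congrArg (fun k => k.hom a) h.w
    exact this
  have hid : h.desc inl' inr' hw ≫ ι = 𝟙 P := by
    apply h.hom_ext
    · rw [← Category.assoc, h.inl_desc, hl, Category.comp_id]
    · rw [← Category.assoc, h.inr_desc, hr, Category.comp_id]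
  rw [eq_top_iff]
  intro γ _
  have : γ = ι.hom ((h.desc inl' inr' hw).hom γ) := by
    have := congrArg (fun k => k.hom γ) hid
    exact this.symm
  rw [this]
  exact ((h.desc inl' inr' hw).hom γ).2

section

variable {P U V W : Scheme.{0}} [P.Over SC] [U.Over SC] [V.Over SC] [W.Over SC]
  (π₁ : P ⟶ U) (π₂ : P ⟶ V) (f : U ⟶ W) (g : V ⟶ W)
  [π₁.IsOver SC] [π₂.IsOver SC] [f.IsOver SC] [g.IsOver SC]

lemma evTop_map {X Y : Scheme.{0}} [X.Over SC] [Y.Over SC] (k : X ⟶ Y) [k.IsOver SC] (x : Pts X)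
    (a : Γ(Y, ⊤)) : (Pts.map k x).evTop a = x.evTop (k.appTop a) :=
  Pts.ev_map k x ⊤ (Opens.mem_top _) a

/-- affine case: the canonical map is inducing -/
theorem isInducing_pts_of_isPullback_affine [IsAffine U] [IsAffine V] [IsAffine W]
    (h : IsPullback π₁ π₂ f g) :
    IsInducing (fun z : Pts P =>
      (⟨(Pts.map π₁ z, Pts.map π₂ z), map_isPullback_condition π₁ π₂ f g h z⟩ :
        {q : Pts U × Pts V // Pts.map f q.1 = Pts.map g q.2})) := by
  have : IsAffine P := IsAffine.of_isPullback h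
  set Φ : Pts P → {q : Pts U × Pts V // Pts.map f q.1 = Pts.map g q.2} := fun z =>
    ⟨(Pts.map π₁ z, Pts.map π₂ z), map_isPullback_condition π₁ π₂ f g h z⟩ with hΦ
  have hΦc : Continuous Φ :=
    Continuous.subtype_mk ((Pts.continuous_map π₁).prodMk (Pts.continuous_map π₂)) _
  -- the subring of sections whose evaluation factors continuously through `Φ`
  let C : Subring Γ(P, ⊤) :=
    { carrier := {γ | ∃ G : {q : Pts U × Pts V // Pts.map f q.1 = Pts.map g q.2} → ℂ,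
        Continuous G ∧ ∀ w : Pts P, w.evTop γ = G (Φ w)}
      mul_mem' := by
        rintro a b ⟨Ga, hGa, ha⟩ ⟨Gb, hGb, hb⟩
        refine ⟨fun q => Ga q * Gb q, hGa.mul hGb, fun w => ?_⟩
        change _ = Ga (Φ w) * Gb (Φ w)
        rw [← ha, ← hb]
        exact ev_mul w ⊤ (Opens.mem_top _) a b
      one_mem' := ⟨fun _ => 1, continuous_const, fun w => ev_one w ⊤ (Opens.mem_top _)⟩
      add_mem' := by
        rintro a b ⟨Ga, hGa, ha⟩ ⟨Gb, hGb, hb⟩
        refine ⟨fun q => Ga q + Gb q, hGa.add hGb, fun w => ?_⟩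
        change _ = Ga (Φ w) + Gb (Φ w)
        rw [← ha, ← hb]
        exact ev_add w ⊤ (Opens.mem_top _) a b
      zero_mem' := ⟨fun _ => 0, continuous_const, fun w => ev_zero w ⊤ (Opens.mem_top _)⟩
      neg_mem' := by
        rintro a ⟨Ga, hGa, ha⟩
        refine ⟨fun q => - Ga q, hGa.neg, fun w => ?_⟩
        change _ = - Ga (Φ w)
        rw [← ha]
        exact map_neg (evHom w ⊤ (Opens.mem_top _)) a }
  have hC : C = ⊤ := by
    rw [eq_top_iff, ← closure_range_eq_top_of_isPushout (isPushout_appTop_of_isPullback h),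
      Subring.closure_le]
    rintro _ (⟨a, rfl⟩ | ⟨b, rfl⟩)
    · refine ⟨fun q => q.1.1.evTop a, ?_, fun w => ?_⟩
      · exact ((continuous_apply a).comp continuous_evAll).comp
          (continuous_fst.comp continuous_subtype_val)
      · exact (evTop_map π₁ w a).symm
    · refine ⟨fun q => q.1.2.evTop b, ?_, fun w => ?_⟩
      · exact ((continuous_apply b).comp continuous_evAll).comp
          (continuous_snd.comp continuous_subtype_val)
      · exact (evTop_map π₂ w b).symm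
  have hall : ∀ γ : Γ(P, ⊤), ∃ G : {q : Pts U × Pts V // Pts.map f q.1 = Pts.map g q.2} → ℂ,
        Continuous G ∧ ∀ w : Pts P, w.evTop γ = G (Φ w) := by
    intro γ
    have : γ ∈ C := by rw [hC]; trivial
    exact this
  choose G hGc hG using hall
  have hcomp : (fun q γ => G γ q) ∘ Φ = evAll := by
    funext w γ
    exact (hG γ w).symm
  apply IsInducing.of_comp hΦc (continuous_pi fun γ => hGc γ)
  rw [hcomp]
  exact isInducing_evAll

end

instance resLE_isOver {X S : Scheme.{0}} [X.Over SC] [S.Over SC] (f : X ⟶ S) [f.IsOver SC]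
    (S₀ : S.Opens) (X₀ : X.Opens) (hle : X₀ ≤ f ⁻¹ᵁ S₀) : (f.resLE S₀ X₀ hle).IsOver SC := by
  constructor
  rw [← Scheme.Opens.ι_comp_over, ← Scheme.Opens.ι_comp_over, ← Category.assoc,
    Scheme.Hom.resLE_comp_ι, Category.assoc, comp_over]

variable {X Y S : Scheme.{0}} [X.Over SC] [Y.Over SC] [S.Over SC]
  (f : X ⟶ S) (g : Y ⟶ S) [f.IsOver SC] [g.IsOver SC]

theorem isHomeomorph_pts_pullback :
    IsHomeomorph (fun z : Pts (pullback f g) =>
      (⟨(Pts.map (pullback.fst f g) z, Pts.map (pullback.snd f g) z),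
        Pts.map_pullback_condition f g z⟩ :
        {q : Pts X × Pts Y // Pts.map f q.1 = Pts.map g q.2})) := by
  set Φ : Pts (pullback f g) → {q : Pts X × Pts Y // Pts.map f q.1 = Pts.map g q.2} := fun z =>
    ⟨(Pts.map (pullback.fst f g) z, Pts.map (pullback.snd f g) z),
        Pts.map_pullback_condition f g z⟩ with hΦ
  have hΦc : Continuous Φ :=
    Continuous.subtype_mk ((Pts.continuous_map _).prodMk (Pts.continuous_map _)) _
  have hΦb : Function.Bijective Φ :=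
    bijective_pts_of_isPullback _ _ f g (IsPullback.of_hasPullback f g)
  refine ⟨hΦc, ?_, hΦb⟩
  rw [isOpenMap_iff_nhds_le]
  intro w
  set x := Pts.map (pullback.fst f g) w with hx
  set y := Pts.map (pullback.snd f g) w with hy
  have hxy : Pts.map f x = Pts.map g y := Pts.map_pullback_condition f g w
  -- affine opens
  obtain ⟨_, ⟨(S₀ : S.Opens), hS₀ : IsAffineOpen S₀, rfl⟩, hsS₀, -⟩ :=
    S.isBasis_affineOpens.exists_subset_of_mem_open (Set.mem_univ (Pts.map f x).pt) isOpen_univ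
  have hxS₀ : x.pt ∈ f ⁻¹ᵁ S₀ := by
    rw [Pts.pt_map] at hsS₀; exact hsS₀
  have hyS₀ : y.pt ∈ g ⁻¹ᵁ S₀ := by
    rw [hxy, Pts.pt_map] at hsS₀; exact hsS₀
  obtain ⟨_, ⟨(X₀ : X.Opens), hX₀ : IsAffineOpen X₀, rfl⟩, hxX₀, hX₀le⟩ :=
    X.isBasis_affineOpens.exists_subset_of_mem_open hxS₀ (f ⁻¹ᵁ S₀).2
  obtain ⟨_, ⟨(Y₀ : Y.Opens), hY₀ : IsAffineOpen Y₀, rfl⟩, hyY₀, hY₀le⟩ :=
    Y.isBasis_affineOpens.exists_subset_of_mem_open hyS₀ (g ⁻¹ᵁ S₀).2
  have : IsAffine S₀.toScheme := hS₀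
  have : IsAffine X₀.toScheme := hX₀
  have : IsAffine Y₀.toScheme := hY₀
  let f₀ : X₀.toScheme ⟶ S₀.toScheme := f.resLE S₀ X₀ hX₀le
  let g₀ : Y₀.toScheme ⟶ S₀.toScheme := g.resLE S₀ Y₀ hY₀le
  have e₁ : f₀ ≫ S₀.ι = X₀.ι ≫ f := Scheme.Hom.resLE_comp_ι _ _
  have e₂ : g₀ ≫ S₀.ι = Y₀.ι ≫ g := Scheme.Hom.resLE_comp_ι _ _
  let ιP : pullback f₀ g₀ ⟶ pullback f g := pullback.map f₀ g₀ f g X₀.ι Y₀.ι S₀.ι e₁ e₂
  have : ιP.IsOver SC := by
    constructor
    change ιP ≫ pullback.fst f g ≫ (X ↘ SC) = pullback.fst f₀ g₀ ≫ (X₀.toScheme ↘ SC)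
    rw [← Category.assoc, pullback.lift_fst, Category.assoc, Scheme.Opens.ι_comp_over]
  -- the affine homeomorphism
  set Φ₀ : Pts (pullback f₀ g₀) →
      {q : Pts X₀.toScheme × Pts Y₀.toScheme // Pts.map f₀ q.1 = Pts.map g₀ q.2} := fun z =>
    ⟨(Pts.map (pullback.fst f₀ g₀) z, Pts.map (pullback.snd f₀ g₀) z),
        Pts.map_pullback_condition f₀ g₀ z⟩ with hΦ₀
  have hΦ₀i : IsInducing Φ₀ :=
    isInducing_pts_of_isPullback_affine _ _ f₀ g₀ (IsPullback.of_hasPullback f₀ g₀)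
  have hΦ₀b : Function.Bijective Φ₀ :=
    bijective_pts_of_isPullback _ _ f₀ g₀ (IsPullback.of_hasPullback f₀ g₀)
  have hΦ₀h : IsHomeomorph Φ₀ := by
    rw [isHomeomorph_iff_isEmbedding_surjective]
    exact ⟨⟨hΦ₀i, hΦ₀b.1⟩, hΦ₀b.2⟩
  -- the comparison map on fibre products of spaces
  have hS₀inj : Function.Injective (Pts.map S₀.ι) := map_injective_of_mono S₀.ι
  have hjcond : ∀ q : {q : Pts X₀.toScheme × Pts Y₀.toScheme // Pts.map f₀ q.1 = Pts.map g₀ q.2},
      Pts.map f (Pts.map X₀.ι q.1.1) = Pts.map g (Pts.map Y₀.ι q.1.2) := by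
    intro q
    rw [← Pts.map_comp, ← Pts.map_comp]
    have h1 : Pts.map (X₀.ι ≫ f) q.1.1 = Pts.map S₀.ι (Pts.map f₀ q.1.1) := by
      apply Subtype.ext
      change q.1.1.1 ≫ X₀.ι ≫ f = (q.1.1.1 ≫ f₀) ≫ S₀.ι
      rw [Category.assoc, e₁]
    have h2 : Pts.map (Y₀.ι ≫ g) q.1.2 = Pts.map S₀.ι (Pts.map g₀ q.1.2) := by
      apply Subtype.ext
      change q.1.2.1 ≫ Y₀.ι ≫ g = (q.1.2.1 ≫ g₀) ≫ S₀.ι
      rw [Category.assoc, e₂]
    rw [h1, h2, q.2]
  let j : {q : Pts X₀.toScheme × Pts Y₀.toScheme // Pts.map f₀ q.1 = Pts.map g₀ q.2} →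
      {q : Pts X × Pts Y // Pts.map f q.1 = Pts.map g q.2} := fun q =>
    ⟨(Pts.map X₀.ι q.1.1, Pts.map Y₀.ι q.1.2), hjcond q⟩
  have hE : IsOpenEmbedding (Prod.map (Pts.map X₀.ι) (Pts.map Y₀.ι)) :=
    (isOpenEmbedding_map_of_isOpenImmersion X₀.ι).prodMap
      (isOpenEmbedding_map_of_isOpenImmersion Y₀.ι)
  have hjopen : IsOpenMap j := by
    intro O hO
    obtain ⟨O', hO', rfl⟩ := isOpen_induced_iff.1 hO
    have : j '' (Subtype.val ⁻¹' O') =
        Subtype.val ⁻¹' (Prod.map (Pts.map X₀.ι) (Pts.map Y₀.ι) '' O') := by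
      ext q
      constructor
      · rintro ⟨p, hp, rfl⟩
        exact ⟨p.1, hp, rfl⟩
      · rintro ⟨p, hp, hpq⟩
        have hcond : Pts.map f₀ p.1 = Pts.map g₀ p.2 := by
          apply hS₀inj
          have h1 : Pts.map S₀.ι (Pts.map f₀ p.1) = Pts.map f (Pts.map X₀.ι p.1) := by
            apply Subtype.ext
            change (p.1.1 ≫ f₀) ≫ S₀.ι = (p.1.1 ≫ X₀.ι) ≫ f
            rw [Category.assoc, e₁, Category.assoc]
          have h2 : Pts.map S₀.ι (Pts.map g₀ p.2) = Pts.map g (Pts.map Y₀.ι p.2) := by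
            apply Subtype.ext
            change (p.2.1 ≫ g₀) ≫ S₀.ι = (p.2.1 ≫ Y₀.ι) ≫ g
            rw [Category.assoc, e₂, Category.assoc]
          rw [h1, h2]
          have hq := q.2
          rw [← hpq] at hq
          exact hq
        exact ⟨⟨p, hcond⟩, hp, Subtype.ext hpq⟩
    rw [this]
    exact (hE.isOpenMap O' hO').preimage continuous_subtype_val
  -- compatibility
  have hsq : ∀ w₀, Φ (Pts.map ιP w₀) = j (Φ₀ w₀) := by
    intro w₀
    apply Subtype.ext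
    apply Prod.ext
    · apply Subtype.ext
      change (w₀.1 ≫ ιP) ≫ pullback.fst f g = (w₀.1 ≫ pullback.fst f₀ g₀) ≫ X₀.ι
      rw [Category.assoc, pullback.lift_fst, Category.assoc]
    · apply Subtype.ext
      change (w₀.1 ≫ ιP) ≫ pullback.snd f g = (w₀.1 ≫ pullback.snd f₀ g₀) ≫ Y₀.ι
      rw [Category.assoc, pullback.lift_snd, Category.assoc]
  -- the point `w` comes from the affine piece
  have hxr : x ∈ Set.range (Pts.map X₀.ι) := by
    rw [range_map_of_isOpenImmersion]; simpa using hxX₀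
  have hyr : y ∈ Set.range (Pts.map Y₀.ι) := by
    rw [range_map_of_isOpenImmersion]; simpa using hyY₀
  obtain ⟨x₀, hx₀⟩ := hxr
  obtain ⟨y₀, hy₀⟩ := hyr
  have hcond₀ : Pts.map f₀ x₀ = Pts.map g₀ y₀ := by
    apply hS₀inj
    have h1 : Pts.map S₀.ι (Pts.map f₀ x₀) = Pts.map f (Pts.map X₀.ι x₀) := by
      apply Subtype.ext
      change (x₀.1 ≫ f₀) ≫ S₀.ι = (x₀.1 ≫ X₀.ι) ≫ f
      rw [Category.assoc, e₁, Category.assoc]
    have h2 : Pts.map S₀.ι (Pts.map g₀ y₀) = Pts.map g (Pts.map Y₀.ι y₀) := by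
      apply Subtype.ext
      change (y₀.1 ≫ g₀) ≫ S₀.ι = (y₀.1 ≫ Y₀.ι) ≫ g
      rw [Category.assoc, e₂, Category.assoc]
    rw [h1, h2, hx₀, hy₀, hxy]
  obtain ⟨w₀, hw₀⟩ := hΦ₀b.2 ⟨(x₀, y₀), hcond₀⟩
  have hw : Pts.map ιP w₀ = w := by
    apply hΦb.1
    rw [hsq, hw₀]
    apply Subtype.ext
    exact Prod.ext hx₀ hy₀
  -- conclude
  rw [Filter.le_map_iff]
  intro N hN
  have hN₀ : Pts.map ιP ⁻¹' N ∈ 𝓝 w₀ := by
    apply (Pts.continuous_map ιP).continuousAt.preimage_mem_nhds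
    rw [hw]; exact hN
  have h1 : Φ₀ '' (Pts.map ιP ⁻¹' N) ∈ 𝓝 (Φ₀ w₀) := hΦ₀h.isOpenMap.image_mem_nhds hN₀
  have h2 : j '' (Φ₀ '' (Pts.map ιP ⁻¹' N)) ∈ 𝓝 (j (Φ₀ w₀)) := hjopen.image_mem_nhds h1
  rw [← hsq, hw] at h2
  refine Filter.mem_of_superset h2 ?_
  rintro _ ⟨_, ⟨w₁, hw₁, rfl⟩, rfl⟩
  exact ⟨Pts.map ιP w₁, hw₁, hsq w₁⟩

end Groth.Agent.Lib.Helper6
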