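import Groth.Agent.Lib.Helper6AnEtale
import Groth.Agent.Lib.Helper6AnBound
import Mathlib

/-!
# Finite morphisms induce closed maps on `ℂ`-points; finite etale morphisms induce covering maps
-/

set_option autoImplicit false

open AlgebraicGeometry CategoryTheory CategoryTheory.Limits TopologicalSpace Opposite An Topology
open Polynomial

namespace Groth.Agent.Lib.Helper6

section AffineFinite

variable {X Y : Scheme.{0}} [X.Over SC] [Y.Over SC] (g : X ⟶ Y) [g.IsOver SC]

/-- evaluation of global sections at a point, as a ring hom -/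
noncomputable abbrev evTopHom (x : Pts X) : Γ(X, ⊤) →+* ℂ := evHom x ⊤ (Opens.mem_top _)

lemma evTopHom_map (x : Pts X) :
    evTopHom (Pts.map g x) = (evTopHom x).comp g.appTop.hom :=
  RingHom.ext fun a => evTop_map g x a

lemma continuous_evTopHom (a : Γ(X, ⊤)) : Continuous (fun x : Pts X => evTopHom x a) :=
  (continuous_apply a).comp continuous_evAll

instance t2Space_pts_of_isAffine [IsAffine X] : T2Space (Pts X) := by
  have hemb : IsEmbedding (evAll : Pts X → Γ(X, ⊤) → ℂ) :=
    ⟨isInducing_evAll, fun x x' h => ext_of_evTop fun f => congrFun h f⟩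
  exact hemb.t2Space

variable {n : ℕ} (s : Fin n → Γ(X, ⊤))

/-- the map to `Y(ℂ) × ℂⁿ` given by sections -/
noncomputable def toProd (x : Pts X) : Pts Y × (Fin n → ℂ) :=
  (Pts.map g x, fun i => x.evTop (s i))

lemma continuous_toProd : Continuous (toProd g s) :=
  (Pts.continuous_map g).prodMk (continuous_pi fun i => continuous_evTopHom (s i))

/-- evaluation of a polynomial with coefficients on `Y` -/
noncomputable def evalMv (z : Pts Y × (Fin n → ℂ)) : MvPolynomial (Fin n) Γ(Y, ⊤) →+* ℂ :=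
  MvPolynomial.eval₂Hom (evTopHom z.1) z.2

lemma continuous_evalMv (k : MvPolynomial (Fin n) Γ(Y, ⊤)) :
    Continuous (fun z : Pts Y × (Fin n → ℂ) => evalMv z k) := by
  have h : ∀ z : Pts Y × (Fin n → ℂ), evalMv z k =
      ∑ d ∈ k.support, evTopHom z.1 (k.coeff d) * ∏ i, z.2 i ^ d i := by
    intro z
    exact MvPolynomial.eval₂_eq' _ _ _
  simp_rw [h]
  apply continuous_finsetSum
  intro d _
  apply Continuous.mul
  · exact (continuous_evTopHom (k.coeff d)).comp continuous_fst
  · apply continuous_finsetProd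
    intro i _
    exact ((continuous_apply i).comp continuous_snd).pow _

lemma evalMv_toProd (x : Pts X) (k : MvPolynomial (Fin n) Γ(Y, ⊤)) :
    evalMv (toProd g s x) k = evTopHom x (MvPolynomial.eval₂ g.appTop.hom s k) := by
  rw [MvPolynomial.eval₂_comp_left (evTopHom x)]
  change MvPolynomial.eval₂ (evTopHom (Pts.map g x)) _ k = _
  rw [evTopHom_map]
  rfl

/-- the range of `toProd` when the sections generate: the locus where all relations vanish -/
lemma range_toProd [IsAffine X] [IsAffine Y]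
    (hsurj : Function.Surjective (MvPolynomial.eval₂Hom g.appTop.hom s)) :
    Set.range (toProd g s) =
      {z | ∀ k : MvPolynomial (Fin n) Γ(Y, ⊤), MvPolynomial.eval₂ g.appTop.hom s k = 0 →
        evalMv z k = 0} := by
  ext z
  constructor
  · rintro ⟨x, rfl⟩ k hk
    rw [evalMv_toProd, hk, map_zero]
  · intro hz
    set π : MvPolynomial (Fin n) Γ(Y, ⊤) →+* Γ(X, ⊤) := MvPolynomial.eval₂Hom g.appTop.hom s
      with hπ
    have hker : RingHom.ker π ≤ RingHom.ker (evalMv z) := by
      intro k hk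
      rw [RingHom.mem_ker] at hk ⊢
      exact hz k hk
    let ψ : Γ(X, ⊤) →+* ℂ := RingHom.liftOfSurjective π hsurj ⟨evalMv z, hker⟩
    have hψπ : ∀ k, ψ (π k) = evalMv z k := fun k =>
      RingHom.liftOfRightInverse_comp_apply _ _ _ ⟨evalMv z, hker⟩ k
    have hψC : ∀ r : Γ(Y, ⊤), ψ (g.appTop.hom r) = evTopHom z.1 r := by
      intro r
      have := hψπ (MvPolynomial.C r)
      simpa [π, evalMv] using this
    have hψX : ∀ i, ψ (s i) = z.2 i := by
      intro i
      have := hψπ (MvPolynomial.X i)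
      simpa [π, evalMv] using this
    have hψ : ∀ c, ψ (strHom X c) = c := by
      intro c
      rw [← appTop_strHom g c, hψC]
      exact evTop_strHom z.1 c
    refine ⟨ptOfRingHom ψ hψ, ?_⟩
    apply Prod.ext
    · apply ext_of_evTop
      intro r
      change (Pts.map g (ptOfRingHom ψ hψ)).evTop r = z.1.evTop r
      rw [evTop_map, evTop_ptOfRingHom, hψC]
      rfl
    · funext i
      change (ptOfRingHom ψ hψ).evTop (s i) = z.2 i
      rw [evTop_ptOfRingHom, hψX]

lemma isClosed_range_toProd [IsAffine X] [IsAffine Y]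
    (hsurj : Function.Surjective (MvPolynomial.eval₂Hom g.appTop.hom s)) :
    IsClosed (Set.range (toProd g s)) := by
  rw [range_toProd g s hsurj]
  have : {z : Pts Y × (Fin n → ℂ) | ∀ k : MvPolynomial (Fin n) Γ(Y, ⊤),
      MvPolynomial.eval₂ g.appTop.hom s k = 0 → evalMv z k = 0} =
      ⋂ (k : MvPolynomial (Fin n) Γ(Y, ⊤)) (_ : MvPolynomial.eval₂ g.appTop.hom s k = 0),
        {z | evalMv z k = 0} := by
    ext z; simp
  rw [this]
  exact isClosed_iInter fun k => isClosed_iInter fun _ =>
    isClosed_eq (continuous_evalMv k) continuous_const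

/-- affine finite case: the map on points is closed -/
theorem isClosedMap_map_of_finite_affine [IsAffine X] [IsAffine Y]
    (hfin : g.appTop.hom.Finite) : IsClosedMap (Pts.map g) := by
  letI : Algebra Γ(Y, ⊤) Γ(X, ⊤) := g.appTop.hom.toAlgebra
  haveI : Module.Finite Γ(Y, ⊤) Γ(X, ⊤) := hfin
  obtain ⟨n, s, hs⟩ := Module.Finite.exists_fin (R := Γ(Y, ⊤)) (M := Γ(X, ⊤))
  -- coefficients
  have hc : ∀ b : Γ(X, ⊤), ∃ c : Fin n → Γ(Y, ⊤), ∑ i, g.appTop.hom (c i) * s i = b := by
    intro b
    have hb : b ∈ Submodule.span Γ(Y, ⊤) (Set.range s) := by rw [hs]; trivial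
    obtain ⟨c, hc⟩ := (Submodule.mem_span_range_iff_exists_fun _).1 hb
    refine ⟨c, ?_⟩
    rw [← hc]
    apply Finset.sum_congr rfl
    intro i _
    rw [Algebra.smul_def]
    rfl
  choose c hc using hc
  have hsurj : Function.Surjective (MvPolynomial.eval₂Hom g.appTop.hom s) := by
    intro b
    refine ⟨∑ i, MvPolynomial.C (c b i) * MvPolynomial.X i, ?_⟩
    rw [map_sum]
    simp only [map_mul, MvPolynomial.coe_eval₂Hom, MvPolynomial.eval₂_C, MvPolynomial.eval₂_X]
    exact hc b
  -- every evaluation factors through `toProd`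
  let G : Pts Y × (Fin n → ℂ) → (Γ(X, ⊤) → ℂ) := fun z b => ∑ i, evTopHom z.1 (c b i) * z.2 i
  have hG : Continuous G := continuous_pi fun b => continuous_finsetSum _ fun i _ =>
    ((continuous_evTopHom (c b i)).comp continuous_fst).mul
      ((continuous_apply i).comp continuous_snd)
  have hcomp : G ∘ toProd g s = (evAll : Pts X → Γ(X, ⊤) → ℂ) := by
    funext x b
    change ∑ i, evTopHom (Pts.map g x) (c b i) * x.evTop (s i) = evTopHom x b
    conv_rhs => rw [← hc b]
    rw [evTopHom_map, map_sum]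
    apply Finset.sum_congr rfl
    intro i _
    rw [map_mul]
    rfl
  have hind : IsInducing (toProd g s) := by
    apply IsInducing.of_comp (continuous_toProd g s) hG
    rw [hcomp]
    exact isInducing_evAll
  have hinj : Function.Injective (toProd g s) := by
    intro x x' h
    apply ext_of_evTop
    intro b
    have h1 := congrFun (congrFun hcomp x) b
    have h2 := congrFun (congrFun hcomp x') b
    simp only [Function.comp_apply] at h1 h2
    rw [h] at h1
    exact h1.symm.trans h2
  have hce : IsClosedEmbedding (toProd g s) :=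
    ⟨⟨hind, hinj⟩, isClosed_range_toProd g s hsurj⟩
  -- integrality
  have hint : ∀ i, ∃ p : Polynomial Γ(Y, ⊤), p.Monic ∧
      Polynomial.eval₂ g.appTop.hom (s i) p = 0 := fun i =>
    Algebra.IsIntegral.isIntegral (R := Γ(Y, ⊤)) (s i)
  choose p hpm hp0 using hint
  let M : Pts Y → ℝ := fun y =>
    ∑ i, (1 + ∑ j ∈ Finset.range (p i).natDegree, ‖evTopHom y ((p i).coeff j)‖)
  have hMc : Continuous M := continuous_finsetSum _ fun i _ =>
    continuous_const.add (continuous_finsetSum _ fun j _ =>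
      (continuous_evTopHom ((p i).coeff j)).norm)
  intro F hF
  have hF' : IsClosed (toProd g s '' F) := hce.isClosedMap F hF
  have hcl := AnBound.isClosed_image_fst n (toProd g s '' F) hF' M hMc (by
    rintro _ ⟨x, _, rfl⟩ i
    change ‖x.evTop (s i)‖ ≤ M (Pts.map g x)
    have hroot : ((p i).map (evTopHom (Pts.map g x))).eval (x.evTop (s i)) = 0 := by
      rw [Polynomial.eval_map, evTopHom_map]
      have := congrArg (evTopHom x) (hp0 i)
      rw [Polynomial.hom_eval₂, map_zero] at this
      exact this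
    have hlt := AnBound.norm_root_lt (p i) (hpm i) (evTopHom (Pts.map g x)) _ hroot
    refine le_of_lt (lt_of_lt_of_le hlt ?_)
    exact Finset.single_le_sum (f := fun i => 1 + ∑ j ∈ Finset.range (p i).natDegree,
      ‖evTopHom (Pts.map g x) ((p i).coeff j)‖)
      (fun i _ => add_nonneg zero_le_one (Finset.sum_nonneg fun j _ => norm_nonneg _))
      (Finset.mem_univ i))
  have himg : Prod.fst '' (toProd g s '' F) = Pts.map g '' F := by
    rw [Set.image_image]
    rfl
  rw [← himg]
  exact hcl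

end AffineFinite

section GeneralFinite

variable {X Y : Scheme.{0}} [X.Over SC] [Y.Over SC] (f : X ⟶ Y) [f.IsOver SC]

lemma range_map_opens_ι (V : Y.Opens) :
    Set.range (Pts.map V.ι) = Pts.pt ⁻¹' (V : Set Y) := by
  rw [range_map_of_isOpenImmersion]
  simp

lemma map_resLE_sq (V : Y.Opens) (U : X.Opens) (hle : U ≤ f ⁻¹ᵁ V) (z : Pts U.toScheme) :
    Pts.map f (Pts.map U.ι z) = Pts.map V.ι (Pts.map (f.resLE V U hle) z) := by
  rw [← Pts.map_comp, ← Pts.map_comp]
  apply Subtype.ext
  change z.1 ≫ U.ι ≫ f = z.1 ≫ f.resLE V U hle ≫ V.ι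
  rw [Scheme.Hom.resLE_comp_ι]

instance isFinite_resLE [IsFinite f] (V : Y.Opens) :
    IsFinite (f.resLE V (f ⁻¹ᵁ V) le_rfl) := by
  rw [Scheme.Hom.resLE_eq_morphismRestrict]
  infer_instance

/-- finite morphisms induce closed maps on `ℂ`-points -/
theorem isClosedMap_map_of_isFinite [IsFinite f] : IsClosedMap (Pts.map f) := by
  intro F hF
  rw [← closure_subset_iff_isClosed]
  intro y₀ hy₀
  obtain ⟨_, ⟨(V : Y.Opens), hV : IsAffineOpen V, rfl⟩, hyV, -⟩ :=
    Y.isBasis_affineOpens.exists_subset_of_mem_open (Set.mem_univ y₀.pt) isOpen_univ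
  haveI : IsAffine V.toScheme := hV
  have haff := (HasAffineProperty.iff_of_isAffine (P := @IsFinite)
    (f := f.resLE V (f ⁻¹ᵁ V) le_rfl)).1 inferInstance
  haveI : IsAffine (f ⁻¹ᵁ V).toScheme := haff.1
  have hclV : IsClosedMap (Pts.map (f.resLE V (f ⁻¹ᵁ V) le_rfl)) :=
    isClosedMap_map_of_finite_affine _ haff.2
  have hjV : IsOpenEmbedding (Pts.map V.ι) := isOpenEmbedding_map_of_isOpenImmersion V.ι
  have hy₀r : y₀ ∈ Set.range (Pts.map V.ι) := by
    rw [range_map_opens_ι]; exact hyV
  obtain ⟨y₀', hy₀'⟩ := hy₀r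
  have hFU : IsClosed (Pts.map (f ⁻¹ᵁ V).ι ⁻¹' F) := hF.preimage (Pts.continuous_map _)
  have hcl := hclV _ hFU
  have hmem : y₀' ∈ closure (Pts.map (f.resLE V (f ⁻¹ᵁ V) le_rfl) ''
      (Pts.map (f ⁻¹ᵁ V).ι ⁻¹' F)) := by
    rw [hjV.isInducing.closure_eq_preimage_closure_image]
    have h1 : Pts.map V.ι y₀' ∈ closure (Set.range (Pts.map V.ι) ∩ Pts.map f '' F) :=
      hjV.isOpen_range.inter_closure ⟨⟨y₀', rfl⟩, by rw [hy₀']; exact hy₀⟩
    refine closure_mono ?_ h1
    rintro _ ⟨⟨y', rfl⟩, x, hxF, hxy⟩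
    have hxU : x ∈ Set.range (Pts.map (f ⁻¹ᵁ V).ι) := by
      rw [range_map_opens_ι]
      change f x.pt ∈ V
      rw [← Pts.pt_map, hxy]
      have : Pts.map V.ι y' ∈ Set.range (Pts.map V.ι) := ⟨y', rfl⟩
      rw [range_map_opens_ι] at this
      exact this
    obtain ⟨x', rfl⟩ := hxU
    refine ⟨Pts.map (f.resLE V (f ⁻¹ᵁ V) le_rfl) x', ⟨x', hxF, rfl⟩, ?_⟩
    rw [← map_resLE_sq, hxy]
  rw [hcl.closure_eq] at hmem
  obtain ⟨x', hx'F, hx'⟩ := hmem
  refine ⟨Pts.map (f ⁻¹ᵁ V).ι x', hx'F, ?_⟩
  rw [map_resLE_sq f V (f ⁻¹ᵁ V) le_rfl, hx', hy₀']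

end GeneralFinite

section Covering

variable {X Y : Scheme.{0}} [X.Over SC] [Y.Over SC] (f : X ⟶ Y) [f.IsOver SC]

theorem finite_fibre_map [IsFinite f] (y : Pts Y) : (Pts.map f ⁻¹' {y}).Finite := by
  have h : (f ⁻¹' {y.pt}).Finite := Scheme.Hom.finite_preimage_singleton f y.pt
  refine Set.Finite.of_injOn (f := Pts.pt) ?_ pt_injective.injOn h
  intro x hx
  simp only [Set.mem_preimage, Set.mem_singleton_iff] at hx ⊢
  rw [← Pts.pt_map, hx]

/-- finite etale morphisms induce covering maps on `ℂ`-points -/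
theorem isCoveringMap_map_of_finite_etale [IsFinite f] [Etale f] :
    IsCoveringMap (Pts.map f) := by
  intro y₀
  obtain ⟨_, ⟨(V : Y.Opens), hV : IsAffineOpen V, rfl⟩, hyV, -⟩ :=
    Y.isBasis_affineOpens.exists_subset_of_mem_open (Set.mem_univ y₀.pt) isOpen_univ
  haveI : IsAffine V.toScheme := hV
  have haff := (HasAffineProperty.iff_of_isAffine (P := @IsFinite)
    (f := f.resLE V (f ⁻¹ᵁ V) le_rfl)).1 inferInstance
  haveI : IsAffine (f ⁻¹ᵁ V).toScheme := haff.1
  set s : Set (Pts Y) := Pts.pt ⁻¹' (V : Set Y) with hsdef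
  have hs : IsOpen s := Pts.isOpen_preimage_pt V
  have hfs : IsOpen (Pts.map f ⁻¹' s) := hs.preimage (Pts.continuous_map f)
  suffices h : IsCoveringMap (s.restrictPreimage (Pts.map f)) from
    (IsCoveringMapOn.of_isCoveringMap_restrictPreimage _ hs hfs h) y₀ hyV
  haveI : T2Space ↥(Pts.map f ⁻¹' s) := by
    have heq : Pts.map f ⁻¹' s = Set.range (Pts.map (f ⁻¹ᵁ V).ι) := by
      rw [range_map_opens_ι]
      ext x
      simp only [Set.mem_preimage, hsdef, Pts.pt_map]
      rfl
    rw [heq]
    have hj := isOpenEmbedding_map_of_isOpenImmersion (f ⁻¹ᵁ V).ι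
    exact (hj.isEmbedding.toHomeomorph.symm.isEmbedding).t2Space
  rw [isCoveringMap_iff_isCoveringMapOn_univ]
  apply IsClosedMap.isCoveringMapOn_of_isLocalHomeomorphOn
  · exact (isClosedMap_map_of_isFinite f).restrictPreimage s
  · intro y _
    have hfin := finite_fibre_map f y.1
    refine Set.Finite.of_injOn (f := fun x => x.1) ?_ Subtype.val_injective.injOn hfin
    intro x hx
    simp only [Set.mem_preimage, Set.mem_singleton_iff] at hx ⊢
    exact congrArg Subtype.val hx
  · have hloc : IsLocalHomeomorph (s.restrictPreimage (Pts.map f)) := by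
      have h1 : IsLocalHomeomorph (Subtype.val ∘ s.restrictPreimage (Pts.map f)) := by
        have : Subtype.val ∘ s.restrictPreimage (Pts.map f) = Pts.map f ∘ Subtype.val := rfl
        rw [this]
        exact (isLocalHomeomorph_map_of_etale f).comp
          hfs.isOpenEmbedding_subtypeVal.isLocalHomeomorph
      exact IsLocalHomeomorph.of_comp h1 hs.isOpenEmbedding_subtypeVal.isLocalHomeomorph
        ((Pts.continuous_map f).restrictPreimage)
    exact hloc.isLocalHomeomorphOn.mono (Set.subset_univ _)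

end Covering

end Groth.Agent.Lib.Helper6
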