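import Groth.Agent.Lib.Helper6AnAffine
import Groth.Prelude
import Mathlib

/-!
# Holomorphic functions on affine space are the complex-differentiable functions (helper6)
-/

set_option autoImplicit false

open AlgebraicGeometry CategoryTheory TopologicalSpace Opposite An

namespace Groth.Agent.Lib.Helper6

variable {X : Scheme.{0}} [X.Over SC]

/-- Sections over Zariski opens of an affine scheme are locally rational functions of the
generators. -/
theorem exists_rational_repr [IsAffine X] (n : ℕ) (s : Fin n → Γ(X, ⊤))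
    (hs : Function.Surjective (MvPolynomial.eval₂Hom (strHom X) s))
    (W : X.Opens) (σ : Γ(X, W)) (y : Pts X) (hy : y.pt ∈ W) :
    ∃ (P Q : MvPolynomial (Fin n) ℂ) (k : ℕ),
      MvPolynomial.eval (fun i => y.evTop (s i)) Q ≠ 0 ∧
      ∀ x : Pts X, MvPolynomial.eval (fun i => x.evTop (s i)) Q ≠ 0 →
        ∃ h : x.pt ∈ W, x.ev W h σ =
          MvPolynomial.eval (fun i => x.evTop (s i)) P /
            (MvPolynomial.eval (fun i => x.evTop (s i)) Q) ^ k := by
  obtain ⟨q, hqW, hyq⟩ := (isAffineOpen_top X).exists_basicOpen_le (V := W) ⟨y.pt, hy⟩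
    (Opens.mem_top _)
  have hloc := (isAffineOpen_top X).isLocalization_basicOpen q
  obtain ⟨⟨a, ⟨_, k, rfl⟩⟩, hak⟩ := IsLocalization.surj (Submonoid.powers q)
    (X.presheaf.map (homOfLE hqW).op σ)
  obtain ⟨P, rfl⟩ := hs a
  obtain ⟨Q, rfl⟩ := hs q
  refine ⟨P, Q, k, ?_, ?_⟩
  · rw [← evTop_eval₂Hom y s]
    exact (mem_basicOpen_iff y ⊤ (Opens.mem_top _) _).mp hyq
  · intro x hx
    rw [← evTop_eval₂Hom x s] at hx
    have hxq : x.pt ∈ X.basicOpen (MvPolynomial.eval₂Hom (strHom X) s Q) :=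
      (mem_basicOpen_iff x ⊤ (Opens.mem_top _) _).mpr hx
    refine ⟨hqW hxq, ?_⟩
    have h1 := congrArg (fun t => x.ev _ hxq t) hak
    simp only at h1
    rw [ev_mul] at h1
    have h2 : ∀ b : Γ(X, ⊤), x.ev _ hxq (algebraMap Γ(X, ⊤)
        Γ(X, X.basicOpen (MvPolynomial.eval₂Hom (strHom X) s Q)) b) = x.evTop b := by
      intro b
      exact ev_res x (le_top) hxq b
    rw [h2, ev_res x hqW hxq σ] at h1
    rw [h2] at h1
    change _ * x.ev ⊤ _ (_ ^ k) = _ at h1
    rw [ev_pow] at h1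
    change _ * (x.evTop _) ^ k = _ at h1
    rw [evTop_eval₂Hom, evTop_eval₂Hom] at h1
    rw [← h1, mul_div_assoc, div_self, mul_one]
    rw [evTop_eval₂Hom] at hx
    exact pow_ne_zero _ hx


section

variable [IsAffine X] (n : ℕ) (s : Fin n → Γ(X, ⊤))
  (hs : Function.Surjective (MvPolynomial.eval₂Hom (strHom X) s))
  (Ψ : (Fin n → ℂ) ≃ₜ Pts X) (hΨ : ∀ (x : Pts X) (i : Fin n), Ψ.symm x i = x.evTop (s i))

/-- Transport a function on an open of `X(ℂ)` to `ℂ^n`, extending by zero. -/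
noncomputable def extFun (V : Opens (top X)) (h : V → ℂ) : (Fin n → ℂ) → ℂ := by
  classical
  exact fun z => if hz : Ψ z ∈ V then h ⟨Ψ z, hz⟩ else 0

theorem extFun_apply_of_mem (V : Opens (top X)) (h : V → ℂ) (z : Fin n → ℂ) (hz : Ψ z ∈ V) :
    extFun n Ψ V h z = h ⟨Ψ z, hz⟩ := by
  classical
  simp only [extFun, dif_pos hz]

theorem extFun_add (V : Opens (top X)) (a b : V → ℂ) :
    extFun n Ψ V (a + b) = extFun n Ψ V a + extFun n Ψ V b := by
  classical
  funext z
  by_cases hz : Ψ z ∈ V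
  · simp [extFun, dif_pos hz]
  · simp [extFun, dif_neg hz]

theorem extFun_mul (V : Opens (top X)) (a b : V → ℂ) :
    extFun n Ψ V (a * b) = extFun n Ψ V a * extFun n Ψ V b := by
  classical
  funext z
  by_cases hz : Ψ z ∈ V
  · simp [extFun, dif_pos hz]
  · simp [extFun, dif_neg hz]

theorem isOpen_preimage_opens (V : Opens (top X)) : IsOpen {z : Fin n → ℂ | Ψ z ∈ V} :=
  V.2.preimage Ψ.continuous

include hs hΨ in
theorem differentiableAt_extFun_of_mem_chartAlg (V : Opens (top X)) (h : V → ℂ)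
    (hh : h ∈ chartAlg V) (y : V) : DifferentiableAt ℂ (extFun n Ψ V h) (Ψ.symm y.1) := by
  have hyV : Ψ (Ψ.symm y.1) ∈ V := by rw [Ψ.apply_symm_apply]; exact y.2
  have hnhds : {z : Fin n → ℂ | Ψ z ∈ V} ∈ nhds (Ψ.symm y.1) :=
    (isOpen_preimage_opens n Ψ V).mem_nhds hyV
  induction hh using Algebra.adjoin_induction with
  | mem h hh =>
    obtain ⟨W, hW, m, σ, V', G', hV', hG', hh⟩ := hh
    have hrep := fun j => exists_rational_repr n s hs W (σ j) y.1 (hW y)
    choose P Q k hQy hPQ using hrep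
    -- the rational map
    let R : (Fin n → ℂ) → (Fin m → ℂ) := fun z j =>
      MvPolynomial.eval z (P j) / (MvPolynomial.eval z (Q j)) ^ (k j)
    have hΦy : (fun i => y.1.evTop (s i)) = Ψ.symm y.1 := by
      funext i; exact (hΨ y.1 i).symm
    have hQy' : ∀ j, MvPolynomial.eval (Ψ.symm y.1) (Q j) ≠ 0 := by
      intro j; rw [← hΦy]; exact hQy j
    have hRdiff : DifferentiableAt ℂ R (Ψ.symm y.1) := by
      rw [differentiableAt_pi]
      intro j
      have h1 : DifferentiableAt ℂ (fun z => MvPolynomial.eval z (P j)) (Ψ.symm y.1) :=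
        ((AnalyticOnNhd.eval_mvPolynomial (𝕜 := ℂ) (P j)) _ (Set.mem_univ _)).differentiableAt
      have h2 : DifferentiableAt ℂ (fun z => MvPolynomial.eval z (Q j)) (Ψ.symm y.1) :=
        ((AnalyticOnNhd.eval_mvPolynomial (𝕜 := ℂ) (Q j)) _ (Set.mem_univ _)).differentiableAt
      have h3 : DifferentiableAt ℂ (fun z => (MvPolynomial.eval z (Q j)) ^ (k j)) (Ψ.symm y.1) :=
        h2.pow (k j)
      change DifferentiableAt ℂ (fun z => MvPolynomial.eval z (P j) /
        (MvPolynomial.eval z (Q j)) ^ (k j)) _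
      have h4 : DifferentiableAt ℂ (fun z => ((MvPolynomial.eval z (Q j)) ^ (k j))⁻¹)
          (Ψ.symm y.1) := DifferentiableAt.inv h3 (pow_ne_zero _ (hQy' j))
      simp only [div_eq_mul_inv]
      exact h1.mul h4
    have hRy : R (Ψ.symm y.1) = fun j => Pts.ev y.1 W (hW y) (σ j) := by
      funext j
      obtain ⟨_, hval⟩ := hPQ j y.1 (hQy j)
      rw [hval, hΦy]
    have hG'diff : DifferentiableAt ℂ G' (R (Ψ.symm y.1)) := by
      rw [hRy]
      exact (hG' _ (hh y).1).differentiableAt (hV'.mem_nhds (hh y).1)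
    have hcomp : DifferentiableAt ℂ (G' ∘ R) (Ψ.symm y.1) := hG'diff.comp _ hRdiff
    refine hcomp.congr_of_eventuallyEq ?_
    have hopenQ : ∀ j, {z : Fin n → ℂ | MvPolynomial.eval z (Q j) ≠ 0} ∈ nhds (Ψ.symm y.1) := by
      intro j
      exact (isOpen_ne_fun (MvPolynomial.continuous_eval (Q j)) continuous_const).mem_nhds
        (hQy' j)
    have hall : {z : Fin n → ℂ | ∀ j, MvPolynomial.eval z (Q j) ≠ 0} ∈ nhds (Ψ.symm y.1) := by
      have := (Filter.eventually_all (l := nhds (Ψ.symm y.1))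
        (p := fun j z => MvPolynomial.eval z (Q j) ≠ 0)).mpr hopenQ
      exact this
    filter_upwards [hnhds, hall] with z hzV hzQ
    rw [extFun_apply_of_mem n Ψ V h z hzV]
    have hz' := (hh ⟨Ψ z, hzV⟩).2
    rw [hz']
    simp only [Function.comp_apply]
    congr 1
    funext j
    have hΦz : (fun i => (Ψ z).evTop (s i)) = z := by
      funext i
      rw [← hΨ (Ψ z) i, Ψ.symm_apply_apply]
    obtain ⟨_, hval⟩ := hPQ j (Ψ z) (by rw [hΦz]; exact hzQ j)
    rw [hval, hΦz]
  | algebraMap c =>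
    refine (differentiableAt_const c).congr_of_eventuallyEq ?_
    filter_upwards [hnhds] with z hzV
    rw [extFun_apply_of_mem n Ψ V _ z hzV]
    rfl
  | add a b _ _ ha hb =>
    rw [extFun_add]
    exact ha.add hb
  | mul a b _ _ ha hb =>
    rw [extFun_mul]
    exact ha.mul hb

include hs hΨ in
/-- Holomorphic functions on opens of `X(ℂ)`, `X` affine with coordinates giving a homeomorphism
with `ℂ^n`, are exactly the complex differentiable functions of the coordinates. -/
theorem holPred_iff_differentiableOn (U : Opens (Pts X)) (g : U → ℂ) :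
    (holPred X).pred g ↔
      ∃ G : (Fin n → ℂ) → ℂ,
        DifferentiableOn ℂ G ((fun (x : Pts X) (i : Fin n) => x.evTop (s i)) '' (U : Set (Pts X))) ∧
        ∀ x : U, g x = G (fun i => (x : Pts X).evTop (s i)) := by
  have hΦ : (fun (x : Pts X) (i : Fin n) => x.evTop (s i)) = Ψ.symm := by
    funext x i; exact (hΨ x i).symm
  have himage : (fun (x : Pts X) (i : Fin n) => x.evTop (s i)) '' (U : Set (Pts X)) =
      {z : Fin n → ℂ | Ψ z ∈ U} := by
    rw [hΦ]
    ext z
    constructor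
    · rintro ⟨x, hx, rfl⟩
      change Ψ (Ψ.symm x) ∈ U
      rw [Ψ.apply_symm_apply]; exact hx
    · intro hz
      exact ⟨Ψ z, hz, Ψ.symm_apply_apply z⟩
  constructor
  · intro hg
    refine ⟨extFun n Ψ U g, ?_, ?_⟩
    · rw [himage]
      intro z hz
      apply DifferentiableAt.differentiableWithinAt
      obtain ⟨V, hxV, i, hV⟩ := hg ⟨Ψ z, hz⟩
      have h1 := differentiableAt_extFun_of_mem_chartAlg n s hs Ψ hΨ V _ hV ⟨Ψ z, hxV⟩
      simp only [Ψ.symm_apply_apply] at h1
      refine h1.congr_of_eventuallyEq ?_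
      have hnhds : {w : Fin n → ℂ | Ψ w ∈ V} ∈ nhds z :=
        (isOpen_preimage_opens n Ψ V).mem_nhds hxV
      filter_upwards [hnhds] with w hw
      rw [extFun_apply_of_mem n Ψ V _ w hw, extFun_apply_of_mem n Ψ U g w (i.le hw)]
      rfl
    · intro x
      have hx : Ψ (fun i => (x : Pts X).evTop (s i)) = x.1 := by
        have : (fun i => (x : Pts X).evTop (s i)) = Ψ.symm x.1 := congrFun hΦ x.1
        rw [this, Ψ.apply_symm_apply]
      rw [extFun_apply_of_mem n Ψ U g _ (by rw [hx]; exact x.2)]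
      congr 1
      exact Subtype.ext hx.symm
  · rintro ⟨G, hG, hgG⟩
    apply holPred_of_chartAlg
    apply Algebra.subset_adjoin
    refine ⟨⊤, fun _ => Opens.mem_top _, n, s,
      (fun (x : Pts X) (i : Fin n) => x.evTop (s i)) '' (U : Set (Pts X)), G, ?_, hG, ?_⟩
    · rw [himage]
      exact isOpen_preimage_opens n Ψ U
    · intro x
      exact ⟨⟨x.1, x.2, rfl⟩, hgG x⟩

end


/-- The case of affine `n`-space. -/
theorem holPred_affineSpace_iff (n : ℕ) (U : Opens (Pts (𝔸(Fin n; SC)))) (g : U → ℂ) :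
    (holPred (𝔸(Fin n; SC))).pred g ↔
      ∃ G : (Fin n → ℂ) → ℂ,
        DifferentiableOn ℂ G ((fun (x : Pts (𝔸(Fin n; SC))) (i : Fin n) =>
          x.evTop (AffineSpace.coord SC i)) '' (U : Set (Pts (𝔸(Fin n; SC))))) ∧
        ∀ x : U, g x = G (fun i => (x : Pts (𝔸(Fin n; SC))).evTop (AffineSpace.coord SC i)) := by
  have hbij : Function.Bijective (MvPolynomial.eval₂Hom (strHom (𝔸(Fin n; SC)))
      (AffineSpace.coord SC)) := by
    have h1 := AffineSpace.SpecIso_hom_appTop (n := Fin n) (CommRingCat.of ℂ)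
    have h2 : IsIso ((AffineSpace.SpecIso (Fin n) (CommRingCat.of ℂ)).hom.appTop) :=
      ⟨⟨(AffineSpace.SpecIso (Fin n) (CommRingCat.of ℂ)).inv.appTop, by
        rw [← Scheme.Hom.comp_appTop]; simp, by
        rw [← Scheme.Hom.comp_appTop]; simp⟩⟩
    rw [h1] at h2
    have h3 : IsIso (CommRingCat.ofHom (MvPolynomial.eval₂Hom
        ((Scheme.ΓSpecIso (CommRingCat.of ℂ)).inv ≫
          (𝔸(Fin n; Spec (CommRingCat.of ℂ)) ↘ Spec (CommRingCat.of ℂ)).appTop).hom
        (AffineSpace.coord (Spec (CommRingCat.of ℂ))))) :=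
      IsIso.of_isIso_comp_left (Scheme.ΓSpecIso _).hom _
    exact (ConcreteCategory.isIso_iff_bijective _).1 h3
  exact holPred_iff_differentiableOn n (AffineSpace.coord SC) hbij.2
    ((isHomeomorph_affineSpace n).homeomorph _).symm (fun _ _ => rfl) U g

end Groth.Agent.Lib.Helper6
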