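import Groth.Agent.Lib.Helper6AnAffine
import Groth.Agent.Lib.Helper27ChartPoly

/-!
# `P^n(ℂ)` is compact (helper6)
-/

set_option autoImplicit false

open AlgebraicGeometry CategoryTheory TopologicalSpace Opposite An HomogeneousLocalization MvPolynomial
open Groth.Agent.Lib.Helper27ProjSpaceBC Groth.Agent.Lib.Helper27DehomAway
  Groth.Agent.Lib.Helper27ChartPoly Groth.Agent.Lib.Helper6

namespace Groth.Agent.Lib.Helper6.AnProj

variable (n : ℕ)

/-- the ring of the `i`-th standard chart -/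
abbrev Aw (i : Fin (n + 1)) : Type :=
  Away (CohB1.polyGrading n ℂ) (X i : MvPolynomial (Fin (n + 1)) ℂ)

/-- the `i`-th standard chart -/
noncomputable abbrev chart (i : Fin (n + 1)) : Scheme.{0} := Spec (CommRingCat.of (Aw n i))

/-- the inclusion of the `i`-th standard chart -/
noncomputable abbrev ι (i : Fin (n + 1)) : chart n i ⟶ CohB1.ProjSpace n ℂ :=
  Proj.awayι (CohB1.polyGrading n ℂ) (X i) (hX n ℂ i) Nat.one_pos

noncomputable instance chartOver (i : Fin (n + 1)) : (chart n i).Over SC :=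
  ⟨ι n i ≫ CohB1.ProjSpace.toSpec n ℂ⟩

instance ιIsOver (i : Fin (n + 1)) : (ι n i).IsOver SC := ⟨rfl⟩

instance ιIsOpenImmersion (i : Fin (n + 1)) : IsOpenImmersion (ι n i) :=
  inferInstanceAs (IsOpenImmersion (Proj.awayι (CohB1.polyGrading n ℂ) (X i) (hX n ℂ i) Nat.one_pos))

lemma chart_over (i : Fin (n + 1)) :
    (chart n i ↘ SC) =
      Spec.map (CommRingCat.ofHom (strA (CohB1.polyGrading n ℂ) (X i : MvPolynomial (Fin (n + 1)) ℂ))) :=
  awayι_toSpec n ℂ (X i) (hX n ℂ i)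

/-- the point attached to a ring homomorphism -/
noncomputable def mkPt (i : Fin (n + 1)) (ψ : Aw n i →+* ℂ)
    (hψ : ψ.comp (strA (CohB1.polyGrading n ℂ) (X i : MvPolynomial (Fin (n + 1)) ℂ)) = RingHom.id ℂ) :
    Pts (chart n i) :=
  ⟨Spec.map (CommRingCat.ofHom ψ), by
    rw [chart_over, ← Spec.map_comp, ← CommRingCat.ofHom_comp, hψ]
    exact Spec.map_id _⟩

/-- the ring homomorphism of a point -/
noncomputable def homOf (i : Fin (n + 1)) (c : Pts (chart n i)) : Aw n i →+* ℂ :=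
  (Spec.preimage c.1).hom

lemma spec_homOf (i : Fin (n + 1)) (c : Pts (chart n i)) :
    Spec.map (CommRingCat.ofHom (homOf n i c)) = c.1 :=
  Spec.map_preimage _

lemma homOf_mkPt (i : Fin (n + 1)) (ψ : Aw n i →+* ℂ) (hψ) : homOf n i (mkPt n i ψ hψ) = ψ := by
  unfold homOf mkPt
  rw [Spec.preimage_map]
  rfl

lemma homOf_strA (i : Fin (n + 1)) (c : Pts (chart n i)) :
    (homOf n i c).comp (strA (CohB1.polyGrading n ℂ) (X i : MvPolynomial (Fin (n + 1)) ℂ)) =
      RingHom.id ℂ := by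
  have h : Spec.map (CommRingCat.ofHom (homOf n i c)) ≫ (chart n i ↘ SC) = 𝟙 SC := by
    rw [spec_homOf]; exact c.2
  rw [chart_over, ← Spec.map_comp, ← Spec.map_id] at h
  have h2 := Spec.map_injective h
  exact congrArg CommRingCat.Hom.hom h2

lemma evTop_eq_homOf (i : Fin (n + 1)) (c : Pts (chart n i)) (a : Aw n i) :
    c.evTop ((Scheme.ΓSpecIso (CommRingCat.of (Aw n i))).inv a) = homOf n i c a := by
  rw [evTop_eq]
  have h1 : c.1.appTop = (Spec.map (CommRingCat.ofHom (homOf n i c))).appTop := by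
    rw [spec_homOf]
  rw [h1]
  have h2 := Scheme.ΓSpecIso_inv_naturality (CommRingCat.ofHom (homOf n i c))
  have h3 := congrArg (fun φ => φ.hom a) h2
  simp only [CommRingCat.hom_comp, RingHom.coe_comp, Function.comp_apply,
    CommRingCat.hom_ofHom] at h3
  erw [← h3]
  exact congrArg (fun φ => φ.hom (homOf n i c a)) (Scheme.ΓSpecIso (CommRingCat.of ℂ)).inv_hom_id

/-- the coordinate functions on the chart -/
noncomputable def s (i l : Fin (n + 1)) : Γ(chart n i, ⊤) :=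
  (Scheme.ΓSpecIso (CommRingCat.of (Aw n i))).inv (dehA (hX n ℂ i) (X l))

lemma strHom_chart (i : Fin (n + 1)) (c : ℂ) :
    strHom (chart n i) c = (Scheme.ΓSpecIso (CommRingCat.of (Aw n i))).inv
      (strA (CohB1.polyGrading n ℂ) (X i : MvPolynomial (Fin (n + 1)) ℂ) c) := by
  have h2 : (chart n i ↘ SC).appTop ((Scheme.ΓSpecIso (CommRingCat.of ℂ)).inv c) =
    strHom (chart n i) c := rfl
  rw [← h2, chart_over]
  have h3 := Scheme.ΓSpecIso_inv_naturality
    (CommRingCat.ofHom (strA (CohB1.polyGrading n ℂ) (X i : MvPolynomial (Fin (n + 1)) ℂ)))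
  have h4 := congrArg (fun φ => φ.hom c) h3
  simp only [CommRingCat.hom_comp, RingHom.coe_comp, Function.comp_apply,
    CommRingCat.hom_ofHom] at h4
  exact h4.symm

lemma eval₂Hom_s (i : Fin (n + 1)) :
    MvPolynomial.eval₂Hom (strHom (chart n i)) (s n i) =
      ((Scheme.ΓSpecIso (CommRingCat.of (Aw n i))).inv.hom).comp (dehA (hX n ℂ i)) := by
  apply MvPolynomial.ringHom_ext
  · intro c
    rw [MvPolynomial.eval₂Hom_C, strHom_chart, RingHom.comp_apply]
    have := dehA_algebraMap' (CohB1.polyGrading n ℂ) (hX n ℂ i) c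
    rw [show (C c : MvPolynomial (Fin (n + 1)) ℂ) = algebraMap ℂ _ c from rfl, this]
  · intro l
    rw [MvPolynomial.eval₂Hom_X', RingHom.comp_apply]
    rfl

lemma surjective_eval₂Hom_s (i : Fin (n + 1)) :
    Function.Surjective (MvPolynomial.eval₂Hom (strHom (chart n i)) (s n i)) := by
  rw [eval₂Hom_s]
  have h1 : Function.Bijective (Scheme.ΓSpecIso (CommRingCat.of (Aw n i))).inv.hom :=
    (ConcreteCategory.isIso_iff_bijective _).1 inferInstance
  exact h1.2.comp (dehA_surjective (hX n ℂ i))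

/-- the compact polydisc in the chart -/
def Kc (i : Fin (n + 1)) : Set (Pts (chart n i)) := {c | ∀ l, ‖c.evTop (s n i l)‖ ≤ 1}

lemma isCompact_Kc (i : Fin (n + 1)) : IsCompact (Kc n i) := by
  have hce := isClosedEmbedding_of_generators (n + 1) (s n i) (surjective_eval₂Hom_s n i)
  have h : Kc n i = (fun (c : Pts (chart n i)) (l : Fin (n + 1)) => c.evTop (s n i l)) ⁻¹'
      (Set.pi Set.univ fun _ => Metric.closedBall (0 : ℂ) 1) := by
    ext c
    simp [Kc, Set.mem_pi]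
  rw [h]
  exact hce.isCompact_preimage (isCompact_univ_pi fun _ => isCompact_closedBall 0 1)

section trans

variable {n}
variable (i j : Fin (n + 1))

/-- `A_(X_i) → A_(X_i X_j)` -/
noncomputable abbrev αL : Aw n i →+*
    Away (CohB1.polyGrading n ℂ) (X i * X j : MvPolynomial (Fin (n + 1)) ℂ) :=
  awayMap (CohB1.polyGrading n ℂ) (hX n ℂ j)
    (rfl : (X i * X j : MvPolynomial (Fin (n + 1)) ℂ) = X i * X j)

/-- `A_(X_j) → A_(X_i X_j)` -/
noncomputable abbrev αR : Aw n j →+*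
    Away (CohB1.polyGrading n ℂ) (X i * X j : MvPolynomial (Fin (n + 1)) ℂ) :=
  awayMap (CohB1.polyGrading n ℂ) (hX n ℂ i)
    (mul_comm _ _ : (X i * X j : MvPolynomial (Fin (n + 1)) ℂ) = X j * X i)

lemma trans_identity (l : Fin (n + 1)) :
    αR i j (dehA (hX n ℂ j) (X l)) * αL i j (dehA (hX n ℂ i) (X j)) =
      αL i j (dehA (hX n ℂ i) (X l)) := by
  rw [dehA_of_mem (hX n ℂ j) (hX n ℂ l), dehA_of_mem (hX n ℂ i) (hX n ℂ j),
    dehA_of_mem (hX n ℂ i) (hX n ℂ l)]
  apply HomogeneousLocalization.val_injective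
  rw [HomogeneousLocalization.val_mul, awayMap_mk, awayMap_mk, awayMap_mk, Away.val_mk,
    Away.val_mk, Away.val_mk, Localization.mk_mul, Localization.mk_eq_mk_iff,
    Localization.r_iff_exists]
  refine ⟨1, ?_⟩
  simp only [OneMemClass.coe_one, one_mul, Submonoid.coe_mul, pow_one]
  ring

lemma strA_αL (c : ℂ) :
    αL i j (strA (CohB1.polyGrading n ℂ) (X i : MvPolynomial (Fin (n + 1)) ℂ) c) =
      strA (CohB1.polyGrading n ℂ) (X i * X j : MvPolynomial (Fin (n + 1)) ℂ) c :=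
  awayMap_fromZeroRingHom _ _ _ _

lemma strA_αR (c : ℂ) :
    αR i j (strA (CohB1.polyGrading n ℂ) (X j : MvPolynomial (Fin (n + 1)) ℂ) c) =
      strA (CohB1.polyGrading n ℂ) (X i * X j : MvPolynomial (Fin (n + 1)) ℂ) c :=
  awayMap_fromZeroRingHom _ _ _ _

theorem exists_trans (φ : Aw n i →+* ℂ)
    (hφ : φ.comp (strA (CohB1.polyGrading n ℂ) (X i : MvPolynomial (Fin (n + 1)) ℂ)) = RingHom.id ℂ)
    (hne : φ (dehA (hX n ℂ i) (X j)) ≠ 0) :
    ∃ ψ : Aw n j →+* ℂ,
      ψ.comp (strA (CohB1.polyGrading n ℂ) (X j : MvPolynomial (Fin (n + 1)) ℂ)) = RingHom.id ℂ ∧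
      (∀ l, ψ (dehA (hX n ℂ j) (X l)) * φ (dehA (hX n ℂ i) (X j)) = φ (dehA (hX n ℂ i) (X l))) ∧
      Spec.map (CommRingCat.ofHom ψ) ≫ ι n j = Spec.map (CommRingCat.ofHom φ) ≫ ι n i := by
  letI := (αL i j).toAlgebra
  haveI hloc : IsLocalization.Away (Away.isLocalizationElem (hX n ℂ i) (hX n ℂ j))
      (Away (CohB1.polyGrading n ℂ) (X i * X j : MvPolynomial (Fin (n + 1)) ℂ)) :=
    Away.isLocalization_mul (hX n ℂ i) (hX n ℂ j) rfl one_ne_zero
  have helem : Away.isLocalizationElem (hX n ℂ i) (hX n ℂ j) = dehA (hX n ℂ i) (X j) := by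
    rw [dehA_of_mem (hX n ℂ i) (hX n ℂ j)]
    apply HomogeneousLocalization.val_injective
    rw [Away.val_mk, Away.val_mk]
    simp only [pow_one]
  have hu : IsUnit (φ (Away.isLocalizationElem (hX n ℂ i) (hX n ℂ j))) := by
    rw [helem]; exact hne.isUnit
  let θ : Away (CohB1.polyGrading n ℂ) (X i * X j : MvPolynomial (Fin (n + 1)) ℂ) →+* ℂ :=
    IsLocalization.Away.lift (Away.isLocalizationElem (hX n ℂ i) (hX n ℂ j)) hu
  have hθ : ∀ a, θ (αL i j a) = φ a := fun a =>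
    IsLocalization.Away.lift_eq (Away.isLocalizationElem (hX n ℂ i) (hX n ℂ j)) hu a
  refine ⟨θ.comp (αR i j), ?_, ?_, ?_⟩
  · ext c
    rw [RingHom.comp_apply, RingHom.comp_apply, strA_αR, ← strA_αL, hθ]
    exact congrArg (fun χ => χ c) hφ
  · intro l
    rw [RingHom.comp_apply, ← hθ (dehA (hX n ℂ i) (X j)), ← map_mul, trans_identity, hθ]
  · have h1 : Spec.map (CommRingCat.ofHom (αR i j)) ≫ ι n j =
        Spec.map (CommRingCat.ofHom (αL i j)) ≫ ι n i := by
      exact (Proj.SpecMap_awayMap_awayι (CohB1.polyGrading n ℂ) (hX n ℂ j) Nat.one_pos (hX n ℂ i)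
        (mul_comm _ _ : (X i * X j : MvPolynomial (Fin (n + 1)) ℂ) = X j * X i)).trans
        (Proj.SpecMap_awayMap_awayι (CohB1.polyGrading n ℂ) (hX n ℂ i) Nat.one_pos (hX n ℂ j)
        (rfl : (X i * X j : MvPolynomial (Fin (n + 1)) ℂ) = X i * X j)).symm
    have h2 : φ = θ.comp (αL i j) := by
      ext a; exact (hθ a).symm
    rw [CommRingCat.ofHom_comp, Spec.map_comp, Category.assoc, h1, h2, CommRingCat.ofHom_comp,
      Spec.map_comp, Category.assoc]

end trans

lemma evTop_s (i l : Fin (n + 1)) (c : Pts (chart n i)) :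
    c.evTop (s n i l) = homOf n i c (dehA (hX n ℂ i) (X l)) :=
  evTop_eq_homOf n i c _

theorem exists_mem_Kc (x : Pts (CohB1.ProjSpace n ℂ)) :
    ∃ i, ∃ c ∈ Kc n i, Pts.map (ι n i) c = x := by
  -- a chart containing the point
  have hcov : ⨆ i : Fin (n + 1), Proj.basicOpen (CohB1.polyGrading n ℂ)
      (X i : MvPolynomial (Fin (n + 1)) ℂ) = ⊤ :=
    Proj.iSup_basicOpen_eq_top _ _ (irrelevant_le_span (CohB1.polyGrading n ℂ)
      (fun j : Fin (n + 1) => (X j : MvPolynomial (Fin (n + 1)) ℂ)) (fun _ => 1)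
      (hX n ℂ) MvPolynomial.adjoin_range_X)
  have hx : x.pt ∈ (⨆ i : Fin (n + 1), Proj.basicOpen (CohB1.polyGrading n ℂ)
      (X i : MvPolynomial (Fin (n + 1)) ℂ)) := by
    rw [hcov]; trivial
  obtain ⟨i, hi⟩ := Opens.mem_iSup.1 hx
  have hr : x ∈ Set.range (Pts.map (ι n i)) := by
    rw [range_map_of_isOpenImmersion, Set.mem_preimage]
    have : (ι n i).opensRange = Proj.basicOpen (CohB1.polyGrading n ℂ)
        (X i : MvPolynomial (Fin (n + 1)) ℂ) := Proj.opensRange_awayι _ _ _ _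
    rw [this]
    exact hi
  obtain ⟨c, rfl⟩ := hr
  set φ := homOf n i c with hφdef
  have hφ := homOf_strA n i c
  -- choose the largest coordinate
  obtain ⟨j, -, hj⟩ := Finset.exists_max_image Finset.univ
    (fun l : Fin (n + 1) => ‖φ (dehA (hX n ℂ i) (X l))‖) ⟨i, Finset.mem_univ i⟩
  have hzi : φ (dehA (hX n ℂ i) (X i)) = 1 := by
    rw [dehA_self, map_one]
  have h1j : 1 ≤ ‖φ (dehA (hX n ℂ i) (X j))‖ := by
    have := hj i (Finset.mem_univ i)
    rwa [hzi, norm_one] at this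
  have hne : φ (dehA (hX n ℂ i) (X j)) ≠ 0 := by
    intro h0
    rw [h0, norm_zero] at h1j
    exact absurd h1j (by norm_num)
  obtain ⟨ψ, hψ, hrel, hsp⟩ := exists_trans i j φ hφ hne
  refine ⟨j, mkPt n j ψ hψ, ?_, ?_⟩
  · intro l
    rw [evTop_s, homOf_mkPt]
    have h2 := hrel l
    have h3 : ‖ψ (dehA (hX n ℂ j) (X l))‖ * ‖φ (dehA (hX n ℂ i) (X j))‖ =
        ‖φ (dehA (hX n ℂ i) (X l))‖ := by
      rw [← norm_mul, h2]
    have h4 := hj l (Finset.mem_univ l)
    have hpos : 0 < ‖φ (dehA (hX n ℂ i) (X j))‖ := lt_of_lt_of_le one_pos h1j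
    by_contra hcon
    push Not at hcon
    have : ‖φ (dehA (hX n ℂ i) (X j))‖ < ‖ψ (dehA (hX n ℂ j) (X l))‖ * ‖φ (dehA (hX n ℂ i) (X j))‖ := by
      nlinarith
    rw [h3] at this
    exact absurd h4 (not_le.2 this)
  · apply Subtype.ext
    change Spec.map (CommRingCat.ofHom ψ) ≫ ι n j = c.1 ≫ ι n i
    rw [hsp, hφdef, spec_homOf]

/-- `P^n(ℂ)` is compact. -/
theorem compactSpace_pts_projSpace : CompactSpace (Pts (CohB1.ProjSpace n ℂ)) := by
  constructor
  have h : (Set.univ : Set (Pts (CohB1.ProjSpace n ℂ))) =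
      ⋃ i : Fin (n + 1), Pts.map (ι n i) '' Kc n i := by
    ext x
    simp only [Set.mem_univ, Set.mem_iUnion, Set.mem_image, true_iff]
    obtain ⟨i, c, hc, hx⟩ := exists_mem_Kc n x
    exact ⟨i, c, hc, hx⟩
  rw [h]
  exact isCompact_iUnion fun i => (isCompact_Kc n i).image (Pts.continuous_map _)

end Groth.Agent.Lib.Helper6.AnProj
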