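import Groth.Agent.Lib.Helper6AnDensity
import Groth.Agent.Lib.Helper6AnFib
import Mathlib.AlgebraicGeometry.Morphisms.Separated
import Mathlib.Topology.SeparatedMap

/-!
# Separatedness can be tested on `ℂ`-points
-/

set_option autoImplicit false

open AlgebraicGeometry CategoryTheory CategoryTheory.Limits TopologicalSpace Opposite An Topology

namespace Groth.Agent.Lib.Helper6

/-- in a Noetherian space every open set is constructible -/
lemma IsOpen.isConstructible_of_noetherianSpace {Z : Type*} [TopologicalSpace Z] [NoetherianSpace Z]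
    {U : Set Z} (hU : IsOpen U) : IsConstructible U :=
  IsRetrocompact.isConstructible hU (fun _ _ _ => NoetherianSpace.isCompact _)

lemma isLocallyConstructible_of_isLocallyClosed {W : Scheme.{0}} [IsLocallyNoetherian W]
    {T : Set W} (hT : IsLocallyClosed T) : IsLocallyConstructible T := by
  intro p
  obtain ⟨_, ⟨(U : W.Opens), hU : IsAffineOpen U, rfl⟩, hpU, -⟩ :=
    W.isBasis_affineOpens.exists_subset_of_mem_open (Set.mem_univ p) isOpen_univ
  have : IsNoetherianRing Γ(W, U) := IsLocallyNoetherian.component_noetherian ⟨U, hU⟩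
  have : NoetherianSpace ((U : Set W) : Type) := noetherianSpace_of_isAffineOpen U hU
  refine ⟨U, U.2.mem_nhds hpU, U.2, ?_⟩
  obtain ⟨O, Z, hO, hZ, rfl⟩ := hT
  rw [Set.preimage_inter]
  refine IsConstructible.inter ?_ ?_
  · exact IsOpen.isConstructible_of_noetherianSpace (hO.preimage continuous_subtype_val)
  · rw [← isConstructible_compl, ← Set.preimage_compl]
    exact IsOpen.isConstructible_of_noetherianSpace
      (hZ.isOpen_compl.preimage continuous_subtype_val)

variable {X : Scheme.{0}} [X.Over SC]

theorem isClosed_iff_pts [LocallyOfFiniteType (X ↘ SC)] (T : Set X)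
    (hT : IsLocallyConstructible T) :
    IsClosed T ↔ IsClosed (Pts.pt ⁻¹' T : Set (Pts X)) := by
  rw [← isOpen_compl_iff, ← isOpen_compl_iff, ← Set.preimage_compl]
  exact isOpen_iff_pts Tᶜ (IsLocallyConstructible.compl' hT)

variable {Y : Scheme.{0}} [Y.Over SC]

instance diagonal_isOver (f : X ⟶ Y) [f.IsOver SC] : (pullback.diagonal f).IsOver SC := by
  constructor
  change pullback.diagonal f ≫ pullback.fst f f ≫ (X ↘ SC) = X ↘ SC
  rw [← Category.assoc, pullback.diagonal_fst, Category.id_comp]

/-- S4195 -/
theorem isSeparated_iff_pts [LocallyOfFiniteType (X ↘ SC)] [LocallyOfFiniteType (Y ↘ SC)]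
    (f : X ⟶ Y) [f.IsOver SC] :
    IsSeparated f ↔ IsSeparatedMap (Pts.map f) := by
  rw [isSeparatedMap_iff_isClosed_diagonal]
  have hΦ := isHomeomorph_pts_pullback f f
  set Φ : Pts (pullback f f) → (Pts.map f).Pullback (Pts.map f) := fun z =>
    ⟨(Pts.map (pullback.fst f f) z, Pts.map (pullback.snd f f) z),
      Pts.map_pullback_condition f f z⟩ with hΦdef
  -- the range of the diagonal corresponds to the diagonal
  have hrange : Φ '' Set.range (Pts.map (pullback.diagonal f)) =
      (Pts.map f).pullbackDiagonal := by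
    ext q
    constructor
    · rintro ⟨_, ⟨x, rfl⟩, rfl⟩
      change Pts.map (pullback.fst f f) (Pts.map (pullback.diagonal f) x) =
        Pts.map (pullback.snd f f) (Pts.map (pullback.diagonal f) x)
      rw [← Pts.map_comp, ← Pts.map_comp]
      apply Subtype.ext
      change x.1 ≫ pullback.diagonal f ≫ pullback.fst f f = x.1 ≫ pullback.diagonal f ≫ pullback.snd f f
      rw [pullback.diagonal_fst, pullback.diagonal_snd]
    · intro hq
      have hq' : q.1.1 = q.1.2 := hq
      refine ⟨Pts.map (pullback.diagonal f) q.1.1, ⟨q.1.1, rfl⟩, ?_⟩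
      apply Subtype.ext
      apply Prod.ext
      · change Pts.map (pullback.fst f f) (Pts.map (pullback.diagonal f) q.1.1) = q.1.1
        rw [← Pts.map_comp]
        apply Subtype.ext
        change q.1.1.1 ≫ pullback.diagonal f ≫ pullback.fst f f = q.1.1.1
        rw [pullback.diagonal_fst, Category.comp_id]
      · change Pts.map (pullback.snd f f) (Pts.map (pullback.diagonal f) q.1.1) = q.1.2
        rw [← Pts.map_comp, ← hq']
        apply Subtype.ext
        change q.1.1.1 ≫ pullback.diagonal f ≫ pullback.snd f f = q.1.1.1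
        rw [pullback.diagonal_snd, Category.comp_id]
  have hclosed_iff : IsClosed ((Pts.map f).pullbackDiagonal) ↔
      IsClosed (Set.range (Pts.map (pullback.diagonal f))) := by
    rw [← hrange]
    exact (hΦ.homeomorph.isClosed_image (s := Set.range (Pts.map (pullback.diagonal f))))
  rw [hclosed_iff]
  have hlft : LocallyOfFiniteType (pullback f f ↘ SC) := inferInstance
  have := isLocallyNoetherian_of_lft (X := pullback f f)
  have hT : IsLocallyConstructible (Set.range (pullback.diagonal f)) :=
    isLocallyConstructible_of_isLocallyClosed (pullback.diagonal f).isLocallyClosed_range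
  rw [range_map_eq_preimage_range, ← isClosed_iff_pts _ hT]
  constructor
  · intro h
    exact (pullback.diagonal f).isClosedEmbedding.isClosed_range
  · intro h
    constructor
    exact IsClosedImmersion.of_isPreimmersion _ h

instance subsingleton_pts_SC : Subsingleton (Pts SC) := by
  constructor
  intro x y
  apply Subtype.ext
  have hx : x.1 ≫ 𝟙 SC = 𝟙 SC := x.2
  have hy : y.1 ≫ 𝟙 SC = 𝟙 SC := y.2
  rw [Category.comp_id] at hx hy
  rw [hx, hy]

/-- S4204 -/
theorem isSeparated_iff_t2Space [LocallyOfFiniteType (X ↘ SC)] :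
    IsSeparated (X ↘ SC) ↔ T2Space (Pts X) := by
  rw [isSeparated_iff_pts (X ↘ SC)]
  let y₀ : Pts SC := ⟨𝟙 SC, Category.comp_id _⟩
  have : Pts.map (X ↘ SC) = fun _ => y₀ := by
    funext x
    exact Subsingleton.elim _ _
  rw [this]
  exact (t2space_iff_isSeparatedMap y₀).symm

end Groth.Agent.Lib.Helper6
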