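import Groth.Agent.Lib.Helper6AnProjA
import Groth.Agent.Lib.Helper6AnFib
import Groth.Agent.Lib.Helper6AnCons
import Groth.Agent.Lib.Helper6AnSep
import Groth.Agent.Lib.Helper6AnDensity
import Groth.Agent.S0025
import Groth.Agent.Lib.Helper27ProjSpaceFibres

/-!
# Proper morphisms induce proper maps on `ℂ`-points (helper6)
-/

set_option autoImplicit false

open AlgebraicGeometry CategoryTheory CategoryTheory.Limits TopologicalSpace Opposite An Topology
open Groth.Agent.Lib.Helper27ProjSpaceBC Groth.Agent.Lib.Helper6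

namespace Groth.Agent.Lib.Helper6.AnProj

section topology

variable {α β α' β' : Type*} [TopologicalSpace α] [TopologicalSpace β] [TopologicalSpace α']
  [TopologicalSpace β']

/-- restriction of a proper map over an embedded piece of the target -/
theorem isProperMap_restrict {f : α → β} {a : α' → α} {b : β' → β} {f' : α' → β'}
    (hcomm : ∀ x, f (a x) = b (f' x)) (ha : IsInducing a) (hb : IsEmbedding b)
    (hrange : Set.range a = f ⁻¹' Set.range b) (hf : IsProperMap f) : IsProperMap f' := by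
  have hf'c : Continuous f' := by
    rw [hb.isInducing.continuous_iff]
    have : b ∘ f' = f ∘ a := by funext x; exact (hcomm x).symm
    rw [this]
    exact hf.continuous.comp ha.continuous
  rw [isProperMap_iff_isClosedMap_and_compact_fibers]
  refine ⟨hf'c, ?_, ?_⟩
  · intro T' hT'
    obtain ⟨T, hT, rfl⟩ := ha.isClosed_iff.1 hT'
    have : f' '' (a ⁻¹' T) = b ⁻¹' (f '' T) := by
      ext y'
      constructor
      · rintro ⟨x', hx', rfl⟩
        exact ⟨a x', hx', hcomm x'⟩
      · rintro ⟨t, ht, hty⟩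
        have : t ∈ Set.range a := by
          rw [hrange]; exact ⟨y', hty.symm⟩
        obtain ⟨t', rfl⟩ := this
        refine ⟨t', ht, ?_⟩
        apply hb.injective
        rw [← hcomm, hty]
    rw [this]
    exact (hf.isClosedMap T hT).preimage hb.continuous
  · intro y'
    rw [ha.isCompact_iff]
    have : a '' (f' ⁻¹' {y'}) = f ⁻¹' {b y'} := by
      ext x
      constructor
      · rintro ⟨x', hx', rfl⟩
        rw [Set.mem_preimage, Set.mem_singleton_iff] at hx' ⊢
        rw [hcomm, hx']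
      · intro hx
        rw [Set.mem_preimage, Set.mem_singleton_iff] at hx
        have : x ∈ Set.range a := by
          rw [hrange]; exact ⟨y', hx.symm⟩
        obtain ⟨x', rfl⟩ := this
        refine ⟨x', ?_, rfl⟩
        rw [Set.mem_preimage, Set.mem_singleton_iff]
        apply hb.injective
        rw [← hcomm, hx]
    rw [this]
    exact hf.isCompact_preimage isCompact_singleton

/-- separatedness restricts -/
theorem isSeparatedMap_restrict {f : α → β} {a : α' → α} {b : β' → β} {f' : α' → β'}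
    (hcomm : ∀ x, f (a x) = b (f' x)) (ha : Continuous a) (hai : Function.Injective a)
    (hf : IsSeparatedMap f) : IsSeparatedMap f' := by
  intro x₁ x₂ h12 hne
  have h1 : f (a x₁) = f (a x₂) := by rw [hcomm, hcomm, h12]
  obtain ⟨s₁, s₂, hs₁, hs₂, hx₁, hx₂, hd⟩ := hf (a x₁) (a x₂) h1 (fun h => hne (hai h))
  exact ⟨a ⁻¹' s₁, a ⁻¹' s₂, hs₁.preimage ha, hs₂.preimage ha, hx₁, hx₂,
    hd.preimage a⟩

/-- properness is local on the target -/
theorem isProperMap_of_cover {ι : Type*} {α' β' : ι → Type*} [∀ i, TopologicalSpace (α' i)]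
    [∀ i, TopologicalSpace (β' i)] {f : α → β} (hfc : Continuous f) (a : ∀ i, α' i → α)
    (b : ∀ i, β' i → β) (f' : ∀ i, α' i → β' i)
    (hcomm : ∀ i x, f (a i x) = b i (f' i x)) (ha : ∀ i, Continuous (a i))
    (hb : ∀ i, IsOpenEmbedding (b i))
    (hrange : ∀ i, Set.range (a i) = f ⁻¹' Set.range (b i))
    (hcov : ∀ y, ∃ i, y ∈ Set.range (b i))
    (hf : ∀ i, IsProperMap (f' i)) : IsProperMap f := by
  rw [isProperMap_iff_isClosedMap_and_compact_fibers]
  refine ⟨hfc, ?_, ?_⟩
  · intro T hT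
    rw [← isOpen_compl_iff, isOpen_iff_forall_mem_open]
    intro y hy
    obtain ⟨i, y', rfl⟩ := hcov y
    have hcl : IsClosed (f' i '' (a i ⁻¹' T)) := (hf i).isClosedMap _ (hT.preimage (ha i))
    refine ⟨b i '' (f' i '' (a i ⁻¹' T))ᶜ, ?_, (hb i).isOpenMap _ hcl.isOpen_compl, ?_⟩
    · rintro _ ⟨w, hw, rfl⟩ ⟨t, ht, htw⟩
      have : t ∈ Set.range (a i) := by
        rw [hrange]; exact ⟨w, htw.symm⟩
      obtain ⟨t', rfl⟩ := this
      apply hw
      refine ⟨t', ht, ?_⟩
      apply (hb i).injective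
      rw [← hcomm, htw]
    · refine ⟨y', ?_, rfl⟩
      rintro ⟨x', hx', hxy⟩
      apply hy
      exact ⟨a i x', hx', by rw [hcomm, hxy]⟩
  · intro y
    obtain ⟨i, y', rfl⟩ := hcov y
    have : f ⁻¹' {b i y'} = a i '' (f' i ⁻¹' {y'}) := by
      ext x
      constructor
      · intro hx
        rw [Set.mem_preimage, Set.mem_singleton_iff] at hx
        have : x ∈ Set.range (a i) := by
          rw [hrange]; exact ⟨y', hx.symm⟩
        obtain ⟨x', rfl⟩ := this
        refine ⟨x', ?_, rfl⟩
        rw [Set.mem_preimage, Set.mem_singleton_iff]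
        apply (hb i).injective
        rw [← hcomm, hx]
      · rintro ⟨x', hx', rfl⟩
        rw [Set.mem_preimage, Set.mem_singleton_iff] at hx' ⊢
        rw [hcomm, hx']
    rw [this]
    exact ((hf i).isCompact_preimage isCompact_singleton).image (ha i)

end topology

section restrict

variable {X Y : Scheme.{0}} [X.Over SC] [Y.Over SC] (f : X ⟶ Y) [f.IsOver SC]

instance morphismRestrict_isOver (V : Y.Opens) : (f ∣_ V).IsOver SC := by
  constructor
  rw [← Scheme.Opens.ι_comp_over, ← Scheme.Opens.ι_comp_over, ← Category.assoc,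
    morphismRestrict_ι, Category.assoc, comp_over]

lemma map_restrict_comm (V : Y.Opens) (x : Pts (f ⁻¹ᵁ V).toScheme) :
    Pts.map f (Pts.map (f ⁻¹ᵁ V).ι x) = Pts.map V.ι (Pts.map (f ∣_ V) x) := by
  apply Subtype.ext
  change (x.1 ≫ (f ⁻¹ᵁ V).ι) ≫ f = (x.1 ≫ (f ∣_ V)) ≫ V.ι
  rw [Category.assoc, Category.assoc, morphismRestrict_ι]

lemma range_map_preimage_ι (V : Y.Opens) :
    Set.range (Pts.map (f ⁻¹ᵁ V).ι) = Pts.map f ⁻¹' Set.range (Pts.map V.ι) := by
  rw [range_map_of_isOpenImmersion, range_map_of_isOpenImmersion]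
  ext x
  simp only [Set.mem_preimage, Scheme.Opens.opensRange_ι, Pts.pt_map]
  rfl

theorem isProperMap_morphismRestrict (V : Y.Opens) (h : IsProperMap (Pts.map f)) :
    IsProperMap (Pts.map (f ∣_ V)) :=
  isProperMap_restrict (map_restrict_comm f V)
    (isOpenEmbedding_map_of_isOpenImmersion _).isInducing
    (isOpenEmbedding_map_of_isOpenImmersion _).isEmbedding (range_map_preimage_ι f V) h

theorem isSeparatedMap_morphismRestrict (V : Y.Opens) (h : IsSeparatedMap (Pts.map f)) :
    IsSeparatedMap (Pts.map (f ∣_ V)) :=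
  isSeparatedMap_restrict (map_restrict_comm f V) (Pts.continuous_map _)
    (isOpenEmbedding_map_of_isOpenImmersion _).injective h

theorem isProperMap_of_openCover {ι : Type*} (U : ι → Y.Opens) (hU : ⨆ i, U i = ⊤)
    (h : ∀ i, IsProperMap (Pts.map (f ∣_ U i))) : IsProperMap (Pts.map f) := by
  refine isProperMap_of_cover (Pts.continuous_map f)
    (fun i => Pts.map (f ⁻¹ᵁ U i).ι) (fun i => Pts.map (U i).ι) (fun i => Pts.map (f ∣_ U i))
    (fun i x => map_restrict_comm f (U i) x) (fun i => Pts.continuous_map _)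
    (fun i => isOpenEmbedding_map_of_isOpenImmersion _) (fun i => range_map_preimage_ι f (U i))
    ?_ h
  intro y
  have hy : y.pt ∈ (⨆ i, U i) := by rw [hU]; trivial
  obtain ⟨i, hi⟩ := Opens.mem_iSup.1 hy
  refine ⟨i, ?_⟩
  rw [range_map_of_isOpenImmersion, Set.mem_preimage, Scheme.Opens.opensRange_ι]
  exact hi

end restrict

section pullbackSC

variable {P U V : Scheme.{0}} [P.Over SC] [U.Over SC] [V.Over SC]
  (π₁ : P ⟶ U) (π₂ : P ⟶ V) [π₁.IsOver SC] [π₂.IsOver SC]

/-- `ℂ`-points of a fibre product, for an arbitrary cartesian square -/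
theorem isHomeomorph_pts_of_isPullback {W : Scheme.{0}} [W.Over SC] (f : U ⟶ W) (g : V ⟶ W)
    [f.IsOver SC] [g.IsOver SC] (h : IsPullback π₁ π₂ f g) :
    IsHomeomorph (fun z : Pts P =>
      (⟨(Pts.map π₁ z, Pts.map π₂ z), map_isPullback_condition π₁ π₂ f g h z⟩ :
        {q : Pts U × Pts V // Pts.map f q.1 = Pts.map g q.2})) := by
  let e := h.isoPullback
  haveI he : e.hom.IsOver SC := by
    constructor
    change e.hom ≫ pullback.fst f g ≫ (U ↘ SC) = P ↘ SC
    rw [← Category.assoc, h.isoPullback_hom_fst, comp_over]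
  haveI he' : e.inv.IsOver SC := by
    constructor
    rw [← cancel_epi e.hom, Iso.hom_inv_id_assoc, comp_over]
  let E : Pts P ≃ₜ Pts (pullback f g) :=
    { toFun := Pts.map e.hom
      invFun := Pts.map e.inv
      left_inv := fun z => Subtype.ext (by
        change (z.1 ≫ e.hom) ≫ e.inv = z.1
        rw [Category.assoc, Iso.hom_inv_id, Category.comp_id])
      right_inv := fun z => Subtype.ext (by
        change (z.1 ≫ e.inv) ≫ e.hom = z.1
        rw [Category.assoc, Iso.inv_hom_id, Category.comp_id])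
      continuous_toFun := Pts.continuous_map _
      continuous_invFun := Pts.continuous_map _ }
  have h2 := (isHomeomorph_pts_pullback f g).comp E.isHomeomorph
  convert h2 using 1
  funext z
  apply Subtype.ext
  apply Prod.ext
  · apply Subtype.ext
    change z.1 ≫ π₁ = (z.1 ≫ e.hom) ≫ pullback.fst f g
    rw [Category.assoc, h.isoPullback_hom_fst]
  · apply Subtype.ext
    change z.1 ≫ π₂ = (z.1 ≫ e.hom) ≫ pullback.snd f g
    rw [Category.assoc, h.isoPullback_hom_snd]

/-- the identity structure on `Spec ℂ` (pinned, to avoid `specOverSpec`) -/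
@[reducible] noncomputable def scOver : SC.Over SC := ⟨𝟙 SC⟩

lemma subsingleton_pts_sc : Subsingleton (@Pts SC scOver) :=
  ⟨fun a b => Subtype.ext (by
    have ha : a.1 ≫ 𝟙 SC = 𝟙 SC := a.2
    have hb : b.1 ≫ 𝟙 SC = 𝟙 SC := b.2
    rw [Category.comp_id] at ha hb
    rw [ha, hb])⟩

/-- base change of a scheme with compact `ℂ`-points: the projection is proper on `ℂ`-points -/
theorem isProperMap_snd_of_isPullback (h : IsPullback π₁ π₂ (U ↘ SC) (V ↘ SC))
    [CompactSpace (Pts U)] : IsProperMap (Pts.map π₂) := by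
  letI iSC : SC.Over SC := scOver
  haveI : (U ↘ SC).IsOver SC := ⟨Category.comp_id _⟩
  haveI : (V ↘ SC).IsOver SC := ⟨Category.comp_id _⟩
  haveI : Subsingleton (Pts SC) := subsingleton_pts_sc
  have hΦ := isHomeomorph_pts_of_isPullback π₁ π₂ (U ↘ SC) (V ↘ SC) h
  have hcl : IsClosed {q : Pts U × Pts V | Pts.map (U ↘ SC) q.1 = Pts.map (V ↘ SC) q.2} := by
    have : {q : Pts U × Pts V | Pts.map (U ↘ SC) q.1 = Pts.map (V ↘ SC) q.2} = Set.univ := by
      ext q
      simp only [Set.mem_ofPred_eq, Set.mem_univ, iff_true]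
      exact Subsingleton.elim _ _
    rw [this]
    exact isClosed_univ
  have h1 : IsProperMap (Subtype.val :
      {q : Pts U × Pts V // Pts.map (U ↘ SC) q.1 = Pts.map (V ↘ SC) q.2} → Pts U × Pts V) :=
    hcl.isProperMap_subtypeVal
  have h2 : IsProperMap (Prod.snd : Pts U × Pts V → Pts V) := isProperMap_snd_of_compactSpace
  exact (h2.comp h1).comp hΦ.isProperMap

end pullbackSC

section projOver

variable {Y : Scheme.{0}} [Y.Over SC] (n : ℕ)

/-- `P^n_Y` as a scheme over `ℂ` -/
@[reducible] noncomputable def projOver : (CohB1.ProjSpaceOver n Y).Over SC :=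
  ⟨CohB1.ProjSpaceOver.toBase n Y ≫ Y ↘ SC⟩

attribute [local instance] projOver

instance toBase_isOver : (CohB1.ProjSpaceOver.toBase n Y).IsOver SC := ⟨rfl⟩

omit [Y.Over SC] in
lemma from_eq' (g : Y ⟶ SC) :
    g ≫ specULiftZIsTerminal.from SC = specULiftZIsTerminal.from Y :=
  specULiftZIsTerminal.hom_ext _ _

/-- the projection `P^n_Y ⟶ P^n_ℂ` -/
noncomputable def toPn : CohB1.ProjSpaceOver n Y ⟶ CohB1.ProjSpace n ℂ :=
  (isPullback_projSpace n ℂ).lift (pullback.fst _ _) (CohB1.ProjSpaceOver.toBase n Y ≫ Y ↘ SC)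
    (by rw [Category.assoc, from_eq']; exact pullback.condition)

lemma toPn_toSpec :
    toPn (Y := Y) n ≫ CohB1.ProjSpace.toSpec n ℂ = CohB1.ProjSpaceOver.toBase n Y ≫ Y ↘ SC :=
  IsPullback.lift_snd _ _ _ _

instance toPn_isOver : (toPn (Y := Y) n).IsOver SC := ⟨toPn_toSpec n⟩

theorem isPullback_toPn :
    IsPullback (toPn (Y := Y) n) (CohB1.ProjSpaceOver.toBase n Y) (CohB1.ProjSpace.toSpec n ℂ)
      (Y ↘ SC) := by
  have hbig : IsPullback (toPn (Y := Y) n ≫ bcMap' n ℂ) (CohB1.ProjSpaceOver.toBase n Y)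
      (CohB1.ProjSpace.toSpec n (ULift.{0} ℤ)) ((Y ↘ SC) ≫ specULiftZIsTerminal.from SC) := by
    have h1 : toPn (Y := Y) n ≫ bcMap' n ℂ = pullback.fst _ _ := IsPullback.lift_fst _ _ _ _
    rw [h1, from_eq']
    exact IsPullback.of_hasPullback _ _
  exact IsPullback.of_right hbig (toPn_toSpec n) (isPullback_projSpace n ℂ)

theorem isProperMap_map_toBase : IsProperMap (Pts.map (CohB1.ProjSpaceOver.toBase n Y)) := by
  haveI := compactSpace_pts_projSpace n
  exact isProperMap_snd_of_isPullback (toPn (Y := Y) n) (CohB1.ProjSpaceOver.toBase n Y)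
    (isPullback_toPn n)

end projOver

section proper

variable {X Y : Scheme.{0}} [X.Over SC] [Y.Over SC] [LocallyOfFiniteType (X ↘ SC)]
  [LocallyOfFiniteType (Y ↘ SC)] (f : X ⟶ Y) [f.IsOver SC]

attribute [local instance] projOver

theorem isProperMap_map_of_isProper_noeth [IsNoetherian Y] [IsProper f] :
    IsProperMap (Pts.map f) := by
  obtain ⟨n, X', π, j, hj, hcomm, hπ, hπs, -⟩ := Groth.Agent.S0025.result f
  letI : X'.Over SC := ⟨π ≫ X ↘ SC⟩
  haveI : π.IsOver SC := ⟨rfl⟩
  haveI : j.IsOver SC := ⟨by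
    change j ≫ CohB1.ProjSpaceOver.toBase n Y ≫ Y ↘ SC = π ≫ X ↘ SC
    rw [← Category.assoc, hcomm, Category.assoc, comp_over]⟩
  haveI : IsProper (j ≫ CohB1.ProjSpaceOver.toBase n Y) := by rw [hcomm]; infer_instance
  haveI hpb : IsProper (CohB1.ProjSpaceOver.toBase n Y) :=
    Groth.Agent.Lib.Helper27ProjSpaceFibres.isProper_toBase n Y
  haveI : IsProper j := IsProper.of_comp j (CohB1.ProjSpaceOver.toBase n Y)
  haveI : IsClosedImmersion j := .of_isPreimmersion j j.isClosedMap.isClosed_range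
  have h1 : IsProperMap (Pts.map j) := (isClosedEmbedding_map_of_isClosedImmersion j).isProperMap
  have h2 : IsProperMap (Pts.map (CohB1.ProjSpaceOver.toBase n Y)) := isProperMap_map_toBase n
  have h3 : IsProperMap (Pts.map f ∘ Pts.map π) := by
    have : Pts.map f ∘ Pts.map π = Pts.map (CohB1.ProjSpaceOver.toBase n Y) ∘ Pts.map j := by
      funext x
      apply Subtype.ext
      change (x.1 ≫ π) ≫ f = (x.1 ≫ j) ≫ CohB1.ProjSpaceOver.toBase n Y
      rw [Category.assoc, Category.assoc, hcomm]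
    rw [this]
    exact h2.comp h1
  haveI : LocallyOfFiniteType (X' ↘ SC) := inferInstanceAs (LocallyOfFiniteType (π ≫ X ↘ SC))
  have hsurj : Function.Surjective (Pts.map π) := (surjective_iff_pts π).1 hπs.surj
  exact isProperMap_of_comp_of_surj (Pts.continuous_map π) (Pts.continuous_map f) h3 hsurj

/-- a proper morphism induces a proper map on `ℂ`-points -/
theorem isProperMap_map_of_isProper [IsProper f] : IsProperMap (Pts.map f) := by
  haveI := isLocallyNoetherian_of_lft (X := Y)
  refine isProperMap_of_openCover f (fun V : Y.affineOpens => V.1) (iSup_affineOpens_eq_top Y)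
    (fun V => ?_)
  haveI : IsAffine V.1.toScheme := V.2
  haveI : IsNoetherian V.1.toScheme := { }
  haveI : LocallyOfFiniteType (V.1.toScheme ↘ SC) :=
    inferInstanceAs (LocallyOfFiniteType (V.1.ι ≫ Y ↘ SC))
  haveI : LocallyOfFiniteType ((f ⁻¹ᵁ V.1).toScheme ↘ SC) :=
    inferInstanceAs (LocallyOfFiniteType ((f ⁻¹ᵁ V.1).ι ≫ X ↘ SC))
  exact isProperMap_map_of_isProper_noeth (f ∣_ V.1)

end proper

end Groth.Agent.Lib.Helper6.AnProj
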