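import Groth.Agent.Lib.Helper6AnProjB

/-!
# Properness of a morphism from properness on `ℂ`-points (helper6)
-/

set_option autoImplicit false

open AlgebraicGeometry CategoryTheory CategoryTheory.Limits TopologicalSpace Opposite An Topology
open Groth.Agent.Lib.Helper27ProjSpaceBC Groth.Agent.Lib.Helper6

namespace Groth.Agent.Lib.Helper6.AnProj

section converse

variable {X Y : Scheme.{0}} [X.Over SC] [Y.Over SC] [LocallyOfFiniteType (X ↘ SC)]
  [LocallyOfFiniteType (Y ↘ SC)] (f : X ⟶ Y) [f.IsOver SC] [QuasiCompact f]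

attribute [local instance] projOver

theorem isProper_of_isProperMap_noeth [IsNoetherian Y] [IsAffine Y]
    (hp : IsProperMap (Pts.map f)) (hs : IsSeparatedMap (Pts.map f)) : IsProper f := by
  haveI : LocallyOfFiniteType f := locallyOfFiniteType_of_isOver f
  haveI : IsSeparated f := (isSeparated_iff_pts f).2 hs
  obtain ⟨n, X', π, j, hj, hcomm, hπ, hπs, -⟩ := Groth.Agent.S0025.result f
  letI : X'.Over SC := ⟨π ≫ X ↘ SC⟩
  haveI : π.IsOver SC := ⟨rfl⟩
  haveI : j.IsOver SC := ⟨by
    change j ≫ CohB1.ProjSpaceOver.toBase n Y ≫ Y ↘ SC = π ≫ X ↘ SC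
    rw [← Category.assoc, hcomm, Category.assoc, comp_over]⟩
  haveI hpb : IsProper (CohB1.ProjSpaceOver.toBase n Y) :=
    Groth.Agent.Lib.Helper27ProjSpaceFibres.isProper_toBase n Y
  haveI : QuasiCompact (j ≫ CohB1.ProjSpaceOver.toBase n Y) := by rw [hcomm]; infer_instance
  haveI : QuasiCompact j := QuasiCompact.of_comp j (CohB1.ProjSpaceOver.toBase n Y)
  -- the scheme-theoretic image
  let Z := j.image
  let u : X' ⟶ Z := j.toImage
  let ιZ : Z ⟶ CohB1.ProjSpaceOver n Y := j.imageι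
  have hu : u ≫ ιZ = j := j.toImage_imageι
  letI : Z.Over SC := ⟨ιZ ≫ CohB1.ProjSpaceOver.toBase n Y ≫ Y ↘ SC⟩
  haveI : ιZ.IsOver SC := ⟨rfl⟩
  haveI : u.IsOver SC := ⟨by
    change u ≫ ιZ ≫ CohB1.ProjSpaceOver.toBase n Y ≫ Y ↘ SC = π ≫ X ↘ SC
    rw [← Category.assoc, hu, ← Category.assoc, hcomm, Category.assoc, comp_over]⟩
  haveI : LocallyOfFiniteType (X' ↘ SC) := inferInstanceAs (LocallyOfFiniteType (π ≫ X ↘ SC))
  haveI : LocallyOfFiniteType (Z ↘ SC) :=
    inferInstanceAs (LocallyOfFiniteType (ιZ ≫ CohB1.ProjSpaceOver.toBase n Y ≫ Y ↘ SC))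
  haveI : IsSeparated (Z ↘ SC) :=
    inferInstanceAs (IsSeparated (ιZ ≫ CohB1.ProjSpaceOver.toBase n Y ≫ Y ↘ SC))
  haveI : T2Space (Pts Z) := (isSeparated_iff_t2Space (X := Z)).1 inferInstance
  -- `u` is proper on points
  let g : Z ⟶ Y := ιZ ≫ CohB1.ProjSpaceOver.toBase n Y
  have hgu : Pts.map g ∘ Pts.map u = Pts.map f ∘ Pts.map π := by
    funext x
    apply Subtype.ext
    change (x.1 ≫ u) ≫ ιZ ≫ CohB1.ProjSpaceOver.toBase n Y = (x.1 ≫ π) ≫ f
    rw [Category.assoc, Category.assoc, ← Category.assoc u, hu, hcomm]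
  have hπp : IsProperMap (Pts.map π) := isProperMap_map_of_isProper π
  have h1 : IsProperMap (Pts.map g ∘ Pts.map u) := by
    rw [hgu]; exact hp.comp hπp
  have h2 : IsProperMap (Pts.map u) :=
    isProperMap_of_comp_of_t2 (Pts.continuous_map u) (Pts.continuous_map g) h1
  -- dense and closed range
  have h3 : DenseRange (Pts.map u) := (denseRange_iff_pts u).1 u.denseRange
  have h4 : Function.Surjective (Pts.map u) := by
    rw [← Set.range_eq_univ, ← h2.isClosed_range.closure_eq]
    exact h3.closure_range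
  haveI : Surjective u := ⟨(surjective_iff_pts u).2 h4⟩
  haveI : IsIso u := (isIso_iff_isOpenImmersion_and_surjective u).2 ⟨inferInstance, inferInstance⟩
  haveI : IsProper (π ≫ f) := by
    rw [← hcomm, ← hu, Category.assoc]
    infer_instance
  haveI : UniversallyClosed f := UniversallyClosed.of_comp_surjective π f
  exact { }

/-- a quasi-compact morphism which is proper and separated on `ℂ`-points is proper -/
theorem isProper_of_isProperMap (hp : IsProperMap (Pts.map f)) (hs : IsSeparatedMap (Pts.map f)) :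
    IsProper f := by
  haveI := isLocallyNoetherian_of_lft (X := Y)
  rw [IsZariskiLocalAtTarget.iff_of_iSup_eq_top (P := @IsProper) _ (iSup_affineOpens_eq_top Y)]
  intro V
  haveI : IsAffine V.1.toScheme := V.2
  haveI : IsNoetherian V.1.toScheme := { }
  haveI : LocallyOfFiniteType (V.1.toScheme ↘ SC) :=
    inferInstanceAs (LocallyOfFiniteType (V.1.ι ≫ Y ↘ SC))
  haveI : LocallyOfFiniteType ((f ⁻¹ᵁ V.1).toScheme ↘ SC) :=
    inferInstanceAs (LocallyOfFiniteType ((f ⁻¹ᵁ V.1).ι ≫ X ↘ SC))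
  exact isProper_of_isProperMap_noeth (f ∣_ V.1) (isProperMap_morphismRestrict f V.1 hp)
    (isSeparatedMap_morphismRestrict f V.1 hs)

/-- S4202 -/
theorem isProper_iff_pts :
    IsProper f ↔ IsProperMap (Pts.map f) ∧ IsSeparatedMap (Pts.map f) := by
  constructor
  · intro h
    exact ⟨isProperMap_map_of_isProper f, (isSeparated_iff_pts f).1 inferInstance⟩
  · rintro ⟨hp, hs⟩
    exact isProper_of_isProperMap f hp hs

end converse

end Groth.Agent.Lib.Helper6.AnProj
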