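import Groth.Agent.Lib.Helper6AnProjC
import Groth.Agent.Lib.Helper6AnFinite
import Groth.Agent.Lib.Helper6AnFT

/-!
# Properness over `ℂ` and finiteness, on `ℂ`-points (helper6)
-/

set_option autoImplicit false

open AlgebraicGeometry CategoryTheory CategoryTheory.Limits TopologicalSpace Opposite An Topology
open Groth.Agent.Lib.Helper6

namespace Groth.Agent.Lib.Helper6.AnProj

section overC

variable (X : Scheme.{0}) [X.Over SC] [LocallyOfFiniteType (X ↘ SC)] [QuasiCompact (X ↘ SC)]

/-- S4205 -/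
theorem isProper_iff_compactSpace_t2Space :
    IsProper (X ↘ SC) ↔ CompactSpace (Pts X) ∧ T2Space (Pts X) := by
  letI iSC : SC.Over SC := scOver
  haveI : (X ↘ SC).IsOver SC := ⟨Category.comp_id _⟩
  haveI : LocallyOfFiniteType (SC ↘ SC) := inferInstanceAs (LocallyOfFiniteType (𝟙 SC))
  haveI : Subsingleton (Pts SC) := subsingleton_pts_sc
  haveI : T2Space (Pts SC) := ⟨fun x y h => (h (Subsingleton.elim x y)).elim⟩
  rw [isProper_iff_pts (X ↘ SC)]
  constructor
  · rintro ⟨hp, hs⟩
    refine ⟨⟨?_⟩, ⟨?_⟩⟩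
    · have := hp.isCompact_preimage (isCompact_univ (X := Pts SC))
      simpa using this
    · intro x y hxy
      exact hs x y (Subsingleton.elim _ _) hxy
  · rintro ⟨hc, ht⟩
    refine ⟨(Pts.continuous_map _).isProperMap, ?_⟩
    intro x y _ hxy
    exact t2_separation hxy

end overC

section closedPt

variable {X : Scheme.{0}} [X.Over SC]

lemma isClosed_singleton_pt_affine [IsAffine X] (x : Pts X) : IsClosed ({x.pt} : Set X) := by
  have hhomeo : IsHomeomorph X.toSpecΓ := X.toSpecΓ.homeomorph.isHomeomorph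
  have hsurj : Function.Surjective (evHom x ⊤ (Opens.mem_top _)) := by
    intro c
    exact ⟨strHom X c, evTop_strHom x c⟩
  have hmax : (RingHom.ker (evHom x ⊤ (Opens.mem_top _))).IsMaximal :=
    RingHom.ker_isMaximal_of_surjective _ hsurj
  have hker : (X.toSpecΓ x.pt).asIdeal = RingHom.ker (evHom x ⊤ (Opens.mem_top _)) := by
    ext f
    rw [mem_toSpecΓ_pt_iff, RingHom.mem_ker]
    rfl
  have hcl : IsClosed ({X.toSpecΓ x.pt} : Set (Spec Γ(X, ⊤))) :=
    (PrimeSpectrum.isClosed_singleton_iff_isMaximal (X.toSpecΓ x.pt)).2 (hker ▸ hmax)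
  have : ({x.pt} : Set X) = X.toSpecΓ ⁻¹' {X.toSpecΓ x.pt} := by
    ext q
    simp only [Set.mem_singleton_iff, Set.mem_preimage]
    exact ⟨fun h => by rw [h], fun h => hhomeo.injective h⟩
  rw [this]
  exact hcl.preimage hhomeo.continuous

/-- the point underlying a `ℂ`-point is closed -/
theorem isClosed_singleton_pt (x : Pts X) : IsClosed ({x.pt} : Set X) := by
  rw [← closure_eq_iff_isClosed]
  apply Set.Subset.antisymm _ subset_closure
  intro q hq
  have hsp : x.pt ⤳ q := specializes_iff_mem_closure.2 hq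
  obtain ⟨_, ⟨(U : X.Opens), hU : IsAffineOpen U, rfl⟩, hqU, -⟩ :=
    X.isBasis_affineOpens.exists_subset_of_mem_open (Set.mem_univ q) isOpen_univ
  have hxU : x.pt ∈ U := hsp.mem_open U.2 hqU
  haveI : IsAffine U.toScheme := hU
  have hr : x ∈ Set.range (Pts.map U.ι) := by
    rw [range_map_of_isOpenImmersion, Set.mem_preimage, Scheme.Opens.opensRange_ι]
    exact hxU
  obtain ⟨x', rfl⟩ := hr
  have hcl := isClosed_singleton_pt_affine x'
  have hsp' : x'.pt ⤳ (⟨q, hqU⟩ : U.toScheme) := by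
    refine (subtype_specializes_iff _ _).2 ?_
    rw [Pts.pt_map] at hsp
    exact hsp
  have h1 := specializes_iff_mem_closure.1 hsp'
  rw [hcl.closure_eq, Set.mem_singleton_iff] at h1
  rw [Set.mem_singleton_iff, Pts.pt_map, ← h1]
  rfl

end closedPt

section finite

variable {X Y : Scheme.{0}} [X.Over SC] [Y.Over SC] [LocallyOfFiniteType (X ↘ SC)]
  [LocallyOfFiniteType (Y ↘ SC)] (f : X ⟶ Y) [f.IsOver SC]

/-- the fibre through a `ℂ`-point with finitely many `ℂ`-points consists of `ℂ`-points -/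
lemma preimage_singleton_eq (c : Pts X) (hfin : (Pts.map f ⁻¹' {Pts.map f c}).Finite) :
    f ⁻¹' {f c.pt} = Pts.pt '' (Pts.map f ⁻¹' {Pts.map f c}) := by
  haveI := jacobsonSpace_of_lft (X := X)
  have hScl : IsClosed (Pts.pt '' (Pts.map f ⁻¹' {Pts.map f c}) : Set X) := by
    have : (Pts.pt '' (Pts.map f ⁻¹' {Pts.map f c}) : Set X) =
        ⋃ z ∈ (Pts.map f ⁻¹' {Pts.map f c}), {Pts.pt z} := by
      ext q; simp [eq_comm]
    rw [this]
    exact hfin.isClosed_biUnion fun z _ => isClosed_singleton_pt z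
  have hFcl : IsClosed (f ⁻¹' {f c.pt}) := by
    rw [← Pts.pt_map]
    exact (isClosed_singleton_pt (Pts.map f c)).preimage f.continuous
  apply Set.Subset.antisymm
  · rw [← closure_inter_closedPoints hFcl]
    apply closure_minimal _ hScl
    rintro z ⟨hzF, hzc⟩
    obtain ⟨c', rfl⟩ := exists_pt_eq_of_isClosed z hzc
    refine ⟨c', ?_, rfl⟩
    rw [Set.mem_preimage, Set.mem_singleton_iff]
    apply pt_injective
    rw [Pts.pt_map, Pts.pt_map]
    exact hzF
  · rintro _ ⟨c', hc', rfl⟩
    rw [Set.mem_preimage, Set.mem_singleton_iff] at hc' ⊢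
    rw [← Pts.pt_map, hc', Pts.pt_map]

lemma quasiFiniteAt_pt (c : Pts X) (hfin : (Pts.map f ⁻¹' {Pts.map f c}).Finite) :
    f.QuasiFiniteAt c.pt := by
  haveI : LocallyOfFiniteType f := locallyOfFiniteType_of_isOver f
  rw [Scheme.Hom.quasiFiniteAt_iff_isOpen_singleton_asFiber,
    ← (f.fiberHomeo (f c.pt)).isOpen_image]
  simp only [Set.image_singleton, Scheme.Hom.asFiber, Homeomorph.apply_symm_apply]
  rw [isOpen_induced_iff]
  have hS := preimage_singleton_eq f c hfin
  have hfinS : (Pts.pt '' (Pts.map f ⁻¹' {Pts.map f c}) : Set X).Finite := hfin.image _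
  refine ⟨((Pts.pt '' (Pts.map f ⁻¹' {Pts.map f c}) : Set X) \ {c.pt})ᶜ, ?_, ?_⟩
  · rw [isOpen_compl_iff]
    have hsub : ((Pts.pt '' (Pts.map f ⁻¹' {Pts.map f c}) : Set X) \ {c.pt}).Finite :=
      hfinS.subset Set.sdiff_subset
    have : ((Pts.pt '' (Pts.map f ⁻¹' {Pts.map f c}) : Set X) \ {c.pt}) =
        ⋃ z ∈ ((Pts.pt '' (Pts.map f ⁻¹' {Pts.map f c}) : Set X) \ {c.pt}), {z} := by
      ext q; simp
    rw [this]
    refine hsub.isClosed_biUnion ?_
    rintro z ⟨⟨c', -, rfl⟩, -⟩
    exact isClosed_singleton_pt c'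
  · ext ⟨q, hq⟩
    simp only [Set.mem_preimage, Set.mem_compl_iff, Set.mem_sdiff, Set.mem_singleton_iff,
      not_and, not_not, Subtype.mk.injEq]
    constructor
    · intro h
      exact h (hS ▸ hq)
    · intro h _
      exact h

/-- finitely many `ℂ`-points in every fibre: locally quasi-finite -/
theorem locallyQuasiFinite_of_finite_fibres
    (hfin : ∀ y : Pts Y, (Pts.map f ⁻¹' {y}).Finite) : LocallyQuasiFinite f := by
  haveI : LocallyOfFiniteType f := locallyOfFiniteType_of_isOver f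
  haveI := jacobsonSpace_of_lft (X := X)
  rw [← Scheme.Hom.quasiFiniteLocus_eq_top_iff]
  have hcl : IsClosed ((f.quasiFiniteLocus : Set X)ᶜ) := f.quasiFiniteLocus.2.isClosed_compl
  have hempty : (f.quasiFiniteLocus : Set X)ᶜ ∩ closedPoints X = ∅ := by
    ext z
    simp only [Set.mem_inter_iff, Set.mem_compl_iff, SetLike.mem_coe, Set.mem_empty_iff_false,
      iff_false, not_and]
    intro hz hzc
    obtain ⟨c, rfl⟩ := exists_pt_eq_of_isClosed z hzc
    exact hz (quasiFiniteAt_pt f c (hfin _))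
  have h2 := closure_inter_closedPoints hcl
  rw [hempty, closure_empty] at h2
  ext z
  simp only [Opens.coe_top, Set.mem_univ, iff_true]
  by_contra hz
  have : z ∈ (f.quasiFiniteLocus : Set X)ᶜ := hz
  rw [← h2] at this
  exact this

variable [QuasiCompact f]

/-- S4203 -/
theorem isFinite_iff_pts :
    IsFinite f ↔ IsProperMap (Pts.map f) ∧ IsSeparatedMap (Pts.map f) ∧
      ∀ y : Pts Y, (Pts.map f ⁻¹' {y}).Finite := by
  constructor
  · intro h
    exact ⟨isProperMap_map_of_isProper f, (isSeparated_iff_pts f).1 inferInstance,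
      fun y => finite_fibre_map f y⟩
  · rintro ⟨hp, hs, hfin⟩
    haveI : IsProper f := isProper_of_isProperMap f hp hs
    haveI : LocallyQuasiFinite f := locallyQuasiFinite_of_finite_fibres f hfin
    exact IsFinite.of_isProper_of_locallyQuasiFinite f

end finite

end Groth.Agent.Lib.Helper6.AnProj
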