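import Groth.Prelude.Def_AnPts
import Mathlib.AlgebraicGeometry.Morphisms.OpenImmersion
import Mathlib.AlgebraicGeometry.Morphisms.ClosedImmersion
import Mathlib.AlgebraicGeometry.Morphisms.FiniteType
import Mathlib.AlgebraicGeometry.Morphisms.Immersion

/-!
# Helper library for the analytic-comparison rows: the complex topology on `ℂ`-points

Basic facts about `An.Pts`: evaluation is a ring homomorphism compatible with restriction,
`x.pt ∈ X.basicOpen f ↔ f(x) ≠ 0`, open immersions induce open embeddings.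
-/

set_option autoImplicit false

open AlgebraicGeometry CategoryTheory TopologicalSpace Opposite An

namespace Groth.Agent.Lib.Helper6

variable {X : Scheme.{0}} [X.Over SC]

/-- evaluation at a `ℂ`-point as a ring homomorphism -/
noncomputable def evHom (x : Pts X) (U : X.Opens) (h : x.pt ∈ U) : Γ(X, U) →+* ℂ :=
  (Scheme.ΓSpecIso (CommRingCat.of ℂ)).hom.hom.comp (x.1.appLE U ⊤ (Pts.top_le_preimage x h)).hom

lemma evHom_apply (x : Pts X) (U : X.Opens) (h : x.pt ∈ U) (f : Γ(X, U)) :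
    evHom x U h f = x.ev U h f := rfl

lemma ev_res (x : Pts X) {U U' : X.Opens} (hUU' : U' ≤ U) (h' : x.pt ∈ U') (f : Γ(X, U)) :
    x.ev U' h' (X.presheaf.map (homOfLE hUU').op f) = x.ev U (hUU' h') f := by
  unfold Pts.ev
  congr 1
  have := x.1.map_appLE (Pts.top_le_preimage x h') (homOfLE hUU').op
  exact congrArg (fun φ => φ.hom f) this

lemma ev_zero (x : Pts X) (U : X.Opens) (h : x.pt ∈ U) : x.ev U h 0 = 0 := map_zero (evHom x U h)
lemma ev_one (x : Pts X) (U : X.Opens) (h : x.pt ∈ U) : x.ev U h 1 = 1 := map_one (evHom x U h)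
lemma ev_add (x : Pts X) (U : X.Opens) (h : x.pt ∈ U) (f g : Γ(X, U)) :
    x.ev U h (f + g) = x.ev U h f + x.ev U h g := map_add (evHom x U h) f g
lemma ev_mul (x : Pts X) (U : X.Opens) (h : x.pt ∈ U) (f g : Γ(X, U)) :
    x.ev U h (f * g) = x.ev U h f * x.ev U h g := map_mul (evHom x U h) f g
lemma ev_pow (x : Pts X) (U : X.Opens) (h : x.pt ∈ U) (f : Γ(X, U)) (n : ℕ) :
    x.ev U h (f ^ n) = x.ev U h f ^ n := map_pow (evHom x U h) f n

/-- the value of a constant -/
lemma evTop_strHom (x : Pts X) (c : ℂ) : x.evTop (strHom X c) = c := by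
  unfold Pts.evTop Pts.ev strHom
  have h1 : x.1.appLE ⊤ ⊤ (Pts.top_le_preimage x (Opens.mem_top _)) = x.1.appTop := by
    simp [Scheme.Hom.appLE]
  rw [h1]
  have h2 : (X ↘ SC).appTop ≫ x.1.appTop = 𝟙 _ := by
    rw [← Scheme.Hom.comp_appTop, x.2]
    simp
  have := congrArg (fun φ => φ.hom ((Scheme.ΓSpecIso (CommRingCat.of ℂ)).inv.hom c)) h2
  simp only [CommRingCat.hom_comp, RingHom.coe_comp, Function.comp_apply, CommRingCat.hom_id,
    RingHom.id_apply] at this
  simp only [RingHom.coe_comp, Function.comp_apply]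
  rw [this]
  simp


lemma mem_basicOpen_iff (x : Pts X) (U : X.Opens) (h : x.pt ∈ U) (f : Γ(X, U)) :
    x.pt ∈ X.basicOpen f ↔ x.ev U h f ≠ 0 := by
  have h1 := Scheme.basicOpen_appLE x.1 ⊤ U (Pts.top_le_preimage x h) f
  have h2 : x.pt ∈ X.basicOpen f ↔ cpt ∈ SC.basicOpen (x.1.appLE U ⊤ (Pts.top_le_preimage x h) f) := by
    rw [h1]
    simp only [Opens.mem_inf, Opens.mem_top, true_and]
    rfl
  rw [h2]
  set g := x.1.appLE U ⊤ (Pts.top_le_preimage x h) f with hg
  have h3 : g = (Scheme.ΓSpecIso (CommRingCat.of ℂ)).inv ((Scheme.ΓSpecIso (CommRingCat.of ℂ)).hom g) := by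
    simp
  rw [h3, basicOpen_eq_of_affine]
  unfold Pts.ev
  rw [← hg]
  have h4 : ∀ r : ℂ, (cpt ∈ PrimeSpectrum.basicOpen r) ↔ r ≠ 0 := by
    intro r
    unfold cpt
    erw [PrimeSpectrum.mem_basicOpen]
    change r ∉ (⊥ : Ideal ℂ) ↔ _
    simp
  exact h4 _

lemma basicSet_subset_preimage (U : X.Opens) (f : Γ(X, U)) (V : Set ℂ) :
    Pts.basicSet U f V ⊆ Pts.pt ⁻¹' (U : Set X) := fun _ hx => hx.1

lemma basicSet_res {U U' : X.Opens} (hUU' : U' ≤ U) (f : Γ(X, U)) (V : Set ℂ) :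
    Pts.basicSet U' (X.presheaf.map (homOfLE hUU').op f) V =
      Pts.basicSet U f V ∩ Pts.pt ⁻¹' (U' : Set X) := by
  ext x
  constructor
  · rintro ⟨h, hv⟩
    rw [ev_res] at hv
    exact ⟨⟨hUU' h, hv⟩, h⟩
  · rintro ⟨⟨h, hv⟩, h'⟩
    exact ⟨h', by rw [ev_res]; exact hv⟩

variable {Y : Scheme.{0}} [Y.Over SC]

lemma map_injective_of_mono (f : X ⟶ Y) [f.IsOver SC] [Mono f] : Function.Injective (Pts.map f) := by
  intro x x' h
  apply Subtype.ext
  have := congrArg Subtype.val h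
  simp only [Pts.map_val] at this
  exact (cancel_mono f).1 this

lemma range_map_of_isOpenImmersion (f : X ⟶ Y) [f.IsOver SC] [IsOpenImmersion f] :
    Set.range (Pts.map f) = Pts.pt ⁻¹' (f.opensRange : Set Y) := by
  ext y
  constructor
  · rintro ⟨x, rfl⟩
    rw [Set.mem_preimage, Pts.pt_map]
    exact ⟨x.pt, rfl⟩
  · intro hy
    have hr : Set.range y.1.base ⊆ Set.range f.base := by
      rintro _ ⟨p, rfl⟩
      rw [eq_cpt p]
      exact hy
    refine ⟨⟨IsOpenImmersion.lift f y.1 hr, ?_⟩, ?_⟩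
    · rw [← comp_over f SC, ← Category.assoc, IsOpenImmersion.lift_fac]
      exact y.2
    · apply Subtype.ext
      simp [Pts.map_val]

lemma isInducing_map_of_isOpenImmersion (f : X ⟶ Y) [f.IsOver SC] [IsOpenImmersion f] :
    Topology.IsInducing (Pts.map f) := by
  constructor
  apply le_antisymm
  · exact (Pts.continuous_map f).le_induced
  · apply le_generateFrom
    rintro _ ⟨U, g, V, hV, rfl⟩
    refine ⟨Pts.basicSet (f ''ᵁ U) ((f.appIso U).inv g) V, Pts.isOpen_basicSet _ _ hV, ?_⟩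
    rw [Pts.preimage_basicSet]
    have h1 : f.app (f ''ᵁ U) ((f.appIso U).inv g) =
        X.presheaf.map (homOfLE (f.preimage_image_eq U).le).op g := by
      have := f.appIso_inv_app U
      exact congrArg (fun φ => φ.hom g) this
    rw [h1, basicSet_res]
    apply Set.inter_eq_left.2
    intro x hx
    rw [f.preimage_image_eq U]
    exact hx.1

theorem isOpenEmbedding_map_of_isOpenImmersion (f : X ⟶ Y) [f.IsOver SC] [IsOpenImmersion f] :
    Topology.IsOpenEmbedding (Pts.map f) := by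
  refine ⟨⟨isInducing_map_of_isOpenImmersion f, map_injective_of_mono f⟩, ?_⟩
  rw [range_map_of_isOpenImmersion]
  exact Pts.isOpen_preimage_pt _


instance quasiCompact_of_pt (y : SC ⟶ Y) : QuasiCompact y := by
  constructor
  intro U _ _
  exact (Set.toFinite _).isCompact

lemma app_eq_zero_of_ev_eq_zero (y : Pts Y) (U : Y.Opens) (h : y.pt ∈ U) (a : Γ(Y, U))
    (ha : y.ev U h a = 0) : y.1.app U a = 0 := by
  unfold Pts.ev at ha
  have h1 : y.1.appLE U ⊤ (Pts.top_le_preimage y h) a = 0 := by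
    have := congrArg (Scheme.ΓSpecIso (CommRingCat.of ℂ)).inv.hom ha
    simpa using this
  -- appLE = app ≫ restriction along ⊤ ≤ y⁻¹U which is an iso
  have h2 : y.1 ⁻¹ᵁ U = ⊤ := Pts.preimage_eq_top y h
  have h3 : y.1.appLE U ⊤ (Pts.top_le_preimage y h) a =
      SC.presheaf.map (homOfLE (Pts.top_le_preimage y h)).op (y.1.app U a) := rfl
  rw [h3] at h1
  have : IsIso (SC.presheaf.map (homOfLE (Pts.top_le_preimage y h)).op) := by
    have : IsIso (homOfLE (Pts.top_le_preimage y h)) := by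
      refine ⟨⟨homOfLE (by rw [h2]), by subsingleton, by subsingleton⟩⟩
    infer_instance
  have hinj : Function.Injective (SC.presheaf.map (homOfLE (Pts.top_le_preimage y h)).op) :=
    ((ConcreteCategory.isIso_iff_bijective _).1 this).1
  apply hinj
  rw [h1, map_zero]

lemma range_map_of_isClosedImmersion (f : X ⟶ Y) [f.IsOver SC] [IsClosedImmersion f] :
    Set.range (Pts.map f) = Pts.pt ⁻¹' (Set.range f.base) := by
  ext y
  constructor
  · rintro ⟨x, rfl⟩
    rw [Set.mem_preimage, Pts.pt_map]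
    exact ⟨x.pt, rfl⟩
  · rintro ⟨p', hp'⟩
    have hker : f.ker ≤ y.1.ker := by
      rw [Scheme.IdealSheafData.le_def]
      intro U
      rw [Scheme.Hom.ker_apply, Scheme.Hom.ker_apply]
      intro a ha
      rw [RingHom.mem_ker] at ha ⊢
      by_cases h : y.pt ∈ (U : Y.Opens)
      · apply app_eq_zero_of_ev_eq_zero y U h
        by_contra hne
        have h1 := (mem_basicOpen_iff y U h a).2 hne
        rw [← hp'] at h1
        have h2 : p' ∈ f ⁻¹ᵁ (Y.basicOpen a) := h1
        rw [Scheme.preimage_basicOpen, ha, Scheme.basicOpen_zero] at h2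
        exact h2
      · have h2 : y.1 ⁻¹ᵁ (U : Y.Opens) = ⊥ := by
          ext p
          simp only [Opens.coe_bot, Set.mem_empty_iff_false, iff_false]
          intro hp
          apply h
          rw [eq_cpt p] at hp
          exact hp
        have : Subsingleton Γ(SC, y.1 ⁻¹ᵁ (U : Y.Opens)) := by
          rw [h2]
          infer_instance
        exact Subsingleton.elim _ _
    refine ⟨⟨IsClosedImmersion.lift f y.1 hker, ?_⟩, ?_⟩
    · rw [← comp_over f SC, ← Category.assoc, IsClosedImmersion.lift_fac]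
      exact y.2
    · apply Subtype.ext
      simp [Pts.map_val]


/-- a criterion for inducing maps into a space with generated topology -/
lemma isInducing_of_local {P Q : Type*} [tQ : TopologicalSpace Q] (S : Set (Set P))
    [tP : TopologicalSpace P] (hP : tP = TopologicalSpace.generateFrom S) (φ : P → Q)
    (hφ : Continuous φ)
    (h : ∀ s ∈ S, ∀ x ∈ s, ∃ O : Set Q, IsOpen O ∧ x ∈ φ ⁻¹' O ∧ φ ⁻¹' O ⊆ s) :
    Topology.IsInducing φ := by
  constructor
  apply le_antisymm
  · exact hφ.le_induced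
  · rw [hP]
    apply le_generateFrom
    intro s hs
    rw [@isOpen_iff_forall_mem_open _ (TopologicalSpace.induced φ tQ)]
    intro x hx
    obtain ⟨O, hO, hxO, hOs⟩ := h s hs x hx
    exact ⟨φ ⁻¹' O, hOs, isOpen_induced hO, hxO⟩

lemma isInducing_map_of_isClosedImmersion (f : X ⟶ Y) [f.IsOver SC] [IsClosedImmersion f] :
    Topology.IsInducing (Pts.map f) := by
  refine isInducing_of_local _ rfl _ (Pts.continuous_map f) ?_
  rintro _ ⟨U, g, V, hV, rfl⟩ x hx
  obtain ⟨hxU, hxV⟩ := hx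
  -- an open of `Y` with preimage `U`
  obtain ⟨U', hU', hUU'⟩ := f.isClosedEmbedding.isInducing.isOpen_iff.1 U.2
  have hfx : f x.pt ∈ (⟨U', hU'⟩ : Y.Opens) := by
    change x.pt ∈ f.base ⁻¹' U'
    rw [hUU']
    exact hxU
  obtain ⟨_, ⟨W, hW, rfl⟩, hfxW, hWU'⟩ :=
    Y.isBasis_affineOpens.exists_subset_of_mem_open hfx hU'
  have hWU : f ⁻¹ᵁ W ≤ U := by
    intro p hp
    have : p ∈ f.base ⁻¹' U' := hWU' hp
    rw [hUU'] at this
    exact this
  obtain ⟨g', hg'⟩ := f.app_surjective W hW (X.presheaf.map (homOfLE hWU).op g)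
  refine ⟨Pts.basicSet W g' V, Pts.isOpen_basicSet _ _ hV, ?_, ?_⟩
  · rw [Pts.preimage_basicSet, hg', basicSet_res]
    exact ⟨⟨hxU, hxV⟩, hfxW⟩
  · rw [Pts.preimage_basicSet, hg', basicSet_res]
    exact Set.inter_subset_left

theorem isClosedEmbedding_map_of_isClosedImmersion (f : X ⟶ Y) [f.IsOver SC]
    [IsClosedImmersion f] : Topology.IsClosedEmbedding (Pts.map f) := by
  refine ⟨⟨isInducing_map_of_isClosedImmersion f, map_injective_of_mono f⟩, ?_⟩
  rw [range_map_of_isClosedImmersion]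
  exact f.isClosedEmbedding.isClosed_range.preimage Pts.continuous_pt


lemma liftCoborder_isOver (f : X ⟶ Y) [f.IsOver SC] [IsImmersion f] : f.liftCoborder.IsOver SC := by
  constructor
  rw [← Scheme.Opens.ι_comp_over, ← Category.assoc, f.liftCoborder_ι, comp_over]

theorem isEmbedding_map_of_isImmersion (f : X ⟶ Y) [f.IsOver SC] [IsImmersion f] :
    Topology.IsEmbedding (Pts.map f) ∧ IsLocallyClosed (Set.range (Pts.map f)) := by
  have := liftCoborder_isOver f
  have h1 := isClosedEmbedding_map_of_isClosedImmersion f.liftCoborder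
  have h2 := isOpenEmbedding_map_of_isOpenImmersion f.coborderRange.ι
  have hcomp : Pts.map f = Pts.map f.coborderRange.ι ∘ Pts.map f.liftCoborder := by
    funext x
    apply Subtype.ext
    simp only [Pts.map_val, Function.comp_apply, Category.assoc, f.liftCoborder_ι]
  rw [hcomp]
  refine ⟨h2.isEmbedding.comp h1.isEmbedding, ?_⟩
  rw [Set.range_comp]
  exact h1.isClosed_range.isLocallyClosed.image h2.isInducing h2.isOpen_range.isLocallyClosed


section affine

variable {X : Scheme.{0}} [X.Over SC]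

/-- all values of global sections -/
noncomputable def evAll (x : Pts X) : Γ(X, ⊤) → ℂ := fun f => x.evTop f

lemma continuous_evAll : Continuous (evAll : Pts X → Γ(X, ⊤) → ℂ) := by
  refine continuous_pi fun f => ?_
  refine continuous_def.2 fun V hV => ?_
  have : (fun x : Pts X => evAll x f) ⁻¹' V = Pts.basicSet ⊤ f V := by
    ext x
    simp only [Set.mem_preimage, evAll, Pts.basicSet, Set.mem_ofPred_eq]
    constructor
    · intro h; exact ⟨Opens.mem_top _, h⟩
    · rintro ⟨_, h⟩; exact h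
  rw [this]
  exact Pts.isOpen_basicSet _ _ hV

theorem isInducing_evAll [IsAffine X] : Topology.IsInducing (evAll : Pts X → Γ(X, ⊤) → ℂ) := by
  refine isInducing_of_local _ rfl _ continuous_evAll ?_
  rintro _ ⟨U, g, V, hV, rfl⟩ x ⟨hxU, hxV⟩
  -- a basic open around x inside U
  obtain ⟨_, ⟨_, ⟨h, rfl⟩, rfl⟩, hxh, hhU⟩ :=
    (isBasis_basicOpen X).exists_subset_of_mem_open hxU U.2
  -- write g restricted to D(h) as a / h^k
  have hhU' : X.basicOpen h ≤ U := hhU
  obtain ⟨⟨a, ⟨_, k, rfl⟩⟩, hak⟩ := IsLocalization.surj (Submonoid.powers h)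
    (X.presheaf.map (homOfLE hhU').op g)
  simp only [RingHom.algebraMap_toAlgebra] at hak
  -- the open set
  let O : Set (Γ(X, ⊤) → ℂ) := {φ | φ h ≠ 0} ∩ (fun φ => φ a / (φ h) ^ k) ⁻¹' V
  have hO : IsOpen O := by
    apply ContinuousOn.isOpen_inter_preimage
    · apply ContinuousOn.div (continuous_apply a).continuousOn
        ((continuous_apply h).pow k).continuousOn
      intro φ hφ
      exact pow_ne_zero k hφ
    · exact isOpen_ne_fun (continuous_apply h) continuous_const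
    · exact hV
  -- the key computation
  have key : ∀ y : Pts X, ∀ hy : y.pt ∈ X.basicOpen h,
      y.ev U (hhU' hy) g = y.evTop a / (y.evTop h) ^ k := by
    intro y hy
    have h0 : y.evTop h ≠ 0 := (mem_basicOpen_iff y ⊤ (Opens.mem_top _) h).1 hy
    rw [eq_div_iff (pow_ne_zero k h0)]
    have e1 : y.evTop a = y.ev (X.basicOpen h) hy (X.presheaf.map (homOfLE le_top).op a) :=
      (ev_res y (le_top : X.basicOpen h ≤ ⊤) hy a).symm
    have e2 : y.evTop h ^ k = y.ev (X.basicOpen h) hy (X.presheaf.map (homOfLE le_top).op (h ^ k)) := by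
      rw [ev_res y (le_top : X.basicOpen h ≤ ⊤) hy (h ^ k), ev_pow]
    rw [← ev_res y hhU' hy g, e1, e2, ← ev_mul]
    exact congrArg _ hak
  refine ⟨O, hO, ?_, ?_⟩
  · refine ⟨(mem_basicOpen_iff x ⊤ (Opens.mem_top _) h).1 hxh, ?_⟩
    change x.evTop a / (x.evTop h) ^ k ∈ V
    rw [← key x hxh]
    exact hxV
  · rintro y ⟨hy1, hy2⟩
    have hy : y.pt ∈ X.basicOpen h := (mem_basicOpen_iff y ⊤ (Opens.mem_top _) h).2 hy1
    refine ⟨hhU' hy, ?_⟩
    rw [key y hy]
    exact hy2


lemma evTop_eq (x : Pts X) (f : Γ(X, ⊤)) :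
    x.evTop f = (Scheme.ΓSpecIso (CommRingCat.of ℂ)).hom (x.1.appTop f) := by
  unfold Pts.evTop Pts.ev
  have h1 : x.1.appLE ⊤ ⊤ (Pts.top_le_preimage x (Opens.mem_top _)) = x.1.appTop := by
    simp [Scheme.Hom.appLE]
  rw [h1]

lemma ext_of_evTop [IsAffine X] {x x' : Pts X} (h : ∀ f : Γ(X, ⊤), x.evTop f = x'.evTop f) :
    x = x' := by
  apply Subtype.ext
  apply ext_of_isAffine
  ext f
  have := h f
  rw [evTop_eq, evTop_eq] at this
  have h2 := congrArg (Scheme.ΓSpecIso (CommRingCat.of ℂ)).inv.hom this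
  simpa using h2

lemma isoSpec_inv_appTop' (X : Scheme.{0}) [IsAffine X] :
    X.isoSpec.inv.appTop = (Scheme.ΓSpecIso Γ(X, ⊤)).inv := by
  have h : X.isoSpec.hom.appTop = (Scheme.ΓSpecIso Γ(X, ⊤)).hom := by
    simp [Scheme.isoSpec]
  have h2 : X.isoSpec.hom.appTop ≫ X.isoSpec.inv.appTop = 𝟙 _ := by
    rw [← Scheme.Hom.comp_appTop, Iso.inv_hom_id]
    simp
  rw [h] at h2
  rw [← cancel_epi (Scheme.ΓSpecIso Γ(X, ⊤)).hom, h2]
  simp

lemma appTop_spec_comp_isoSpec_inv (X : Scheme.{0}) [IsAffine X] (ψ : Γ(X, ⊤) →+* ℂ) :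
    (Spec.map (CommRingCat.ofHom ψ) ≫ X.isoSpec.inv).appTop =
      CommRingCat.ofHom ψ ≫ (Scheme.ΓSpecIso (CommRingCat.of ℂ)).inv := by
  rw [Scheme.Hom.comp_appTop, isoSpec_inv_appTop', ← Scheme.ΓSpecIso_inv_naturality]

/-- the `ℂ`-point of an affine scheme attached to a ring homomorphism -/
noncomputable def ptOfRingHom [IsAffine X] (ψ : Γ(X, ⊤) →+* ℂ) (hψ : ∀ c, ψ (strHom X c) = c) :
    Pts X :=
  ⟨Spec.map (CommRingCat.ofHom ψ) ≫ X.isoSpec.inv, by
    apply ext_of_isAffine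
    rw [Scheme.Hom.comp_appTop, appTop_spec_comp_isoSpec_inv]
    ext c'
    obtain ⟨c, rfl⟩ : ∃ c : ℂ, c' = (Scheme.ΓSpecIso (CommRingCat.of ℂ)).inv c :=
      ⟨(Scheme.ΓSpecIso (CommRingCat.of ℂ)).hom c', by simp⟩
    have h2 : (X ↘ SC).appTop ((Scheme.ΓSpecIso (CommRingCat.of ℂ)).inv c) = strHom X c := rfl
    simp only [CommRingCat.hom_comp, RingHom.coe_comp, Function.comp_apply, CommRingCat.hom_ofHom]
    erw [h2, hψ c]
    simp⟩

lemma evTop_ptOfRingHom [IsAffine X] (ψ : Γ(X, ⊤) →+* ℂ) (hψ : ∀ c, ψ (strHom X c) = c)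
    (f : Γ(X, ⊤)) : (ptOfRingHom ψ hψ).evTop f = ψ f := by
  rw [evTop_eq]
  have h2 : (ptOfRingHom ψ hψ).1.appTop =
      CommRingCat.ofHom ψ ≫ (Scheme.ΓSpecIso (CommRingCat.of ℂ)).inv :=
    appTop_spec_comp_isoSpec_inv X ψ
  rw [h2]
  simp only [CommRingCat.hom_comp, RingHom.coe_comp, Function.comp_apply, CommRingCat.hom_ofHom]
  exact congrArg (fun φ => φ.hom (ψ f)) (Scheme.ΓSpecIso (CommRingCat.of ℂ)).inv_hom_id


end affine

end Groth.Agent.Lib.Helper6
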