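import Groth.Agent.Lib.Helper6Atiyah

/-!
# Rank two bundles of odd degree on curves of genus one (helper6): S12633
-/

set_option autoImplicit false
set_option linter.style.haveILetI false
universe u
open CategoryTheory Limits AlgebraicGeometry Opposite TopologicalSpace

namespace Groth.Agent.Lib.Helper6.Atiyah

open Groth.Agent.Lib.Helper4.CurveBun Groth.Agent.Lib.Helper4.DegAdd Groth.Agent.Lib.Helper4.CurveRR
  Groth.Agent.Lib.Helper4.Dev Groth.Agent.Lib.Helper6.CurveDeg Groth.Agent.Lib.Helper27ExtDual1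
  Groth.Agent.Lib.Helper4.CurveStab Groth.Agent.Lib.Helper6.SSVanish Groth.Agent.Lib.Helper23.SecTw
  Groth.Agent.Lib.Helper17.IAdic Groth.Agent.Lib.Helper27GlobGenPn

section Gen

variable (k : Type u) [Field k] {X : Scheme.{u}} [X.Over (Spec (CommRingCat.of k))]

/-- a module all of whose endomorphisms are scalars is indecomposable -/
theorem indecomposable_of_simple (E : X.Modules)
    (hs : ∀ φ : E ⟶ E, ∃ c : k, φ = Formal.smulMod k E c) (E₁ E₂ : X.Modules) (e : E ≅ E₁ ⊞ E₂) :
    IsZero E₁ ∨ IsZero E₂ := by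
  by_contra hcon
  push Not at hcon
  have hS := Groth.Agent.Lib.Helper6.ExtIndec.shortExact_of_iso_biprod X e
  obtain ⟨c, hc⟩ := hs ((e.hom ≫ biprod.snd) ≫ (biprod.inr ≫ e.inv))
  exact nonscalar_of_split k _ hS (biprod.inr ≫ e.inv) (by simp) hcon.1 hcon.2 c hc

end Gen

section Curve

variable (k : Type u) [Field k] (X : Scheme.{u}) [X.Over (Spec (CommRingCat.of k))]
  [IsIntegral X] [IsProper (X ↘ (Spec (CommRingCat.of k)))]

/-- a nonzero endomorphism of a stable rank two bundle is a monomorphism -/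
theorem mono_of_stable (hpid : PIDStalks X) (E : X.Modules) (hE : FlatMod.IsFinLocFreeOfRank 2 E)
    (hst : ModFun.IsSlopeStable k X E 2) (ψ : E ⟶ E) (hψ : ψ ≠ 0) : Mono ψ := by
  obtain ⟨a, b, hab, -, hK, hI, hd⟩ := ker_im k X hpid ψ 2 2 hE hE
  have hb : b ≠ 0 := by
    rintro rfl
    exact hψ (eq_zero_of_image_rank_zero ψ hI)
  rcases Nat.eq_zero_or_pos a with ha | ha
  · subst ha
    exact mono_of_kernel_rank_zero ψ hK
  · exfalso
    have ha1 : a = 1 := by omega
    have hb1 : b = 1 := by omega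
    subst ha1
    subst hb1
    have h1 := hst _ 1 (kernel.ι (Abelian.factorThruImage ψ)) inferInstance Nat.one_pos (by norm_num) hK
    have h2 := hst _ 1 (Abelian.image.ι ψ) inferInstance Nat.one_pos (by norm_num) hI
    push_cast at h1 h2
    linarith

open Groth.Agent.Lib.Helper6.H0Crit Groth.Agent.Lib.Helper4.CurveAsym in
/-- a stable rank two bundle is simple -/
theorem simple_of_stable [IsAlgClosed k] (hpid : PIDStalks X) (hdim : topologicalKrullDim X = 1)
    (E : X.Modules) (hE : FlatMod.IsFinLocFreeOfRank 2 E) (hst : ModFun.IsSlopeStable k X E 2)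
    (φ : E ⟶ E) : ∃ c : k, φ = Formal.smulMod k E c := by
  haveI : IsLocallyNoetherian X := isLocallyNoetherian_of_proper k X
  have hχO := Groth.Agent.Lib.Helper6.H0Semi.euler_structureModule k X hdim
  obtain ⟨A, hA, hAd⟩ := exists_invertible_deg k X hpid hdim (|Curv2.deg k X E 2| + (Curv2.genus k X : ℤ) + 1)
  obtain ⟨hEA, hdEA⟩ := rtwist_rank_deg k X hpid hdim A hA 2 E hE
  have cEA := isCoh_of_isFinLocFreeOfRank _ 2 hEA
  have hA1 := isFinLocFreeOfRank_one_of_isInvertible A hA
  have hAflat := Groth.Agent.Lib.Helper4.CurveChi.isFlat_of_isFinLocFreeOfRank A 1 hA1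
  have hχpos : 0 < Curv2.euler k X (CohB1.tensorMod E A) := by
    have h1 : Curv2.deg k X (CohB1.tensorMod E A) 2 =
        Curv2.euler k X (CohB1.tensorMod E A) - ((2 : ℕ) : ℤ) * Curv2.euler k X (Coh.structureModule X) := rfl
    rw [h1, hχO, hAd] at hdEA
    have h2 := neg_abs_le (Curv2.deg k X E 2)
    have h3 : (0 : ℤ) ≤ (Curv2.genus k X : ℤ) := Int.natCast_nonneg _
    have h4 := abs_nonneg (Curv2.deg k X E 2)
    push_cast at hdEA
    linarith
  haveI : Module.Finite k (Coh.HH X (CohB1.tensorMod E A) 0) := Groth.Agent.S0002.result k X _ cEA 0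
  haveI : Nontrivial (Coh.HH X (CohB1.tensorMod E A) 0) := by
    have h1 := euler_le_h0 k X hdim.le _ cEA
    have h2 : 0 < Module.finrank k (Coh.HH X (CohB1.tensorMod E A) 0) := by
      zify
      linarith
    exact Module.nontrivial_of_finrank_pos h2
  obtain ⟨c, hc⟩ := Module.End.exists_eigenvalue (Canon.HHlin k (wl φ A) 0)
  obtain ⟨v, hv⟩ := hc.exists_hasEigenvector
  have hv1 : Canon.HHlin k (wl φ A) 0 v = c • v := hv.apply_eq_smul
  have hv0 : v ≠ 0 := hv.2
  refine ⟨c, ?_⟩
  by_contra hne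
  have hψ : φ - Formal.smulMod k E c ≠ 0 := fun h => hne (sub_eq_zero.1 h)
  haveI := mono_of_stable k X hpid E hE hst _ hψ
  haveI := Groth.Agent.Lib.Helper6.SimpleSub.mono_wl (φ - Formal.smulMod k E c) A hAflat
  have hinj := Groth.Agent.Lib.LeadCohRank.injective_zero
    (sesOfMono (wl (φ - Formal.smulMod k E c) A)) (sesOfMono_shortExact _)
  have hsm : wl (Formal.smulMod k E c) A = Formal.smulMod k (CohB1.tensorMod E A) c := by
    have h1 := tw_map_smul k A c (𝟙 E)
    rw [KLin.smul_def, KLin.smul_def, Category.comp_id, CategoryTheory.Functor.map_id, Category.comp_id] at h1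
    exact h1
  have hsum : wl φ A = wl (φ - Formal.smulMod k E c) A + Formal.smulMod k (CohB1.tensorMod E A) c := by
    rw [← hsm]
    have : φ = (φ - Formal.smulMod k E c) + Formal.smulMod k E c := by abel
    conv_lhs => rw [this]
    exact (Groth.Agent.Lib.Helper27SerreVan.tw A).map_add
  have h0 : Canon.HHlin k (wl (φ - Formal.smulMod k E c) A) 0 v = 0 := by
    have h1 := hv1
    rw [hsum, Groth.Agent.Lib.Helper4.CurveAsym.HHlin_add, LinearMap.add_apply, Groth.Agent.Lib.Helper4.CurveAsym.HHlin_smulMod k] at h1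
    exact add_eq_right.1 h1
  apply hv0
  apply hinj
  change Canon.HHlin k (wl (φ - Formal.smulMod k E c) A) 0 v = _
  rw [h0]
  exact (map_zero _).symm

/-- S12633 -/
theorem main_tfae [IsAlgClosed k] [Smooth (X ↘ Spec (CommRingCat.of k))]
    (hdim : topologicalKrullDim X = 1)
    (hg : Curv2.genus k X = 1) (E : X.Modules) (hE : FlatMod.IsFinLocFreeOfRank 2 E)
    (hodd : Odd (Curv2.deg k X E 2)) :
    List.TFAE [
      (¬ IsZero E ∧ ∀ (E₁ E₂ : X.Modules), Nonempty (E ≅ E₁ ⊞ E₂) → IsZero E₁ ∨ IsZero E₂),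
      (∀ φ : E ⟶ E, ∃ c : k, (SheafOfModules.toSheaf X.ringCatSheaf).map φ =
        Coh.smulAb E (Coh.toGlobal (X ↘ Spec (CommRingCat.of k)) c)),
      (∀ (F : X.Modules) (r' : ℕ) (i : F ⟶ E), Mono i → 0 < r' → r' < 2 → FlatMod.IsFinLocFreeOfRank r' F →
        Curv2.deg k X F r' * (2 : ℤ) < Curv2.deg k X E 2 * (r' : ℤ)),
      (∀ (F : X.Modules) (r' : ℕ) (i : F ⟶ E), Mono i → 0 < r' → FlatMod.IsFinLocFreeOfRank r' F →
        Curv2.deg k X F r' * (2 : ℤ) ≤ Curv2.deg k X E 2 * (r' : ℤ))] := by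
  have hpid : PIDStalks X := pidStalks_of_smooth k X (X ↘ Spec (CommRingCat.of k)) hdim.le
  haveI : Nonempty X := nonempty_of_dim_eq_one hdim
  tfae_have 1 → 4 := by
    intro hind F r' i hi hr' hF
    have h := semistable_of_indecomposable k X hpid hdim hg E hE hind.2 F r' i hi hr' hF
    exact_mod_cast h
  tfae_have 4 → 3 := by
    intro h F r' i hi hr' hlt hF
    have h1 := h F r' i hi hr' hF
    have hr1 : r' = 1 := by omega
    subst hr1
    rcases h1.lt_or_eq with h2 | h2
    · exact h2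
    · exfalso
      obtain ⟨m, hm⟩ := hodd
      push_cast at h2
      omega
  tfae_have 3 → 2 := by
    intro h φ
    have hst : ModFun.IsSlopeStable k X E 2 := by
      intro F r' i hi hr' hlt hF
      have h1 := h F r' i hi hr' hlt hF
      exact_mod_cast h1
    obtain ⟨c, hc⟩ := simple_of_stable k X hpid hdim E hE hst φ
    exact ⟨c, by rw [hc]; rfl⟩
  tfae_have 2 → 1 := by
    intro h
    refine ⟨Groth.Agent.Lib.Helper4.CurveHN.not_isZero_of_rank_pos X E 2 (by norm_num) hE,
      fun E₁ E₂ ⟨e⟩ => indecomposable_of_simple k E ?_ E₁ E₂ e⟩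
    intro φ
    obtain ⟨c, hc⟩ := h φ
    refine ⟨c, (SheafOfModules.toSheaf X.ringCatSheaf).map_injective ?_⟩
    rw [hc]
    rfl
  tfae_finish

end Curve

end Groth.Agent.Lib.Helper6.Atiyah
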