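import Mathlib
import Groth.Prelude.Def_Curv2
import Groth.Agent.Lib.Helper6BcBridge
import Groth.Agent.Lib.Helper28DepthFlat3

set_option autoImplicit false
universe u
open CategoryTheory CategoryTheory.Limits AlgebraicGeometry TensorProduct

namespace Groth.Agent.Lib.Helper6.BcNoeth

open Groth.Agent.Lib.Helper6.BcBridge

theorem isLocallyNoetherian_of_forall_chart (Y : Scheme.{u})
    (h : ∀ y : Y, ∃ (R : Type u) (_ : CommRing R) (_ : IsNoetherianRing R)
      (j : Spec (CommRingCat.of R) ⟶ Y) (_ : IsOpenImmersion j), y ∈ Set.range j) :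
    IsLocallyNoetherian Y := by
  choose R hR hN j hj hy using h
  refine isLocallyNoetherian_of_affine_cover
    (S := fun y : Y => ⟨(j y).opensRange, isAffineOpen_opensRange (j y)⟩) ?_ fun y => ?_
  · rw [eq_top_iff]
    intro y _
    exact TopologicalSpace.Opens.mem_iSup.mpr ⟨y, hy y⟩
  · haveI : IsNoetherianRing (CommRingCat.of (R y)) := hN y
    haveI : IsNoetherianRing Γ(Spec (CommRingCat.of (R y)), ⊤) :=
      isNoetherianRing_of_ringEquiv _
        (Scheme.ΓSpecIso (CommRingCat.of (R y))).symm.commRingCatIsoToRingEquiv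
    exact isNoetherianRing_of_ringEquiv _
      (IsOpenImmersion.ΓIsoTop (j y)).commRingCatIsoToRingEquiv

theorem isNoetherianRing_of_chart (Y : Scheme.{u}) [IsLocallyNoetherian Y] {R : Type u}
    [CommRing R] (j : Spec (CommRingCat.of R) ⟶ Y) [IsOpenImmersion j] : IsNoetherianRing R := by
  haveI : IsLocallyNoetherian (Spec (CommRingCat.of R)) := isLocallyNoetherian_of_isOpenImmersion j
  exact (isLocallyNoetherian_Spec (R := CommRingCat.of R)).mp inferInstance

variable (k : Type u) [Field k] (X : Scheme.{u}) [X.Over (Spec (CommRingCat.of k))]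

theorem isLocallyNoetherian_bc_iff (k' : Type u) [Field k'] [Algebra k k']
    [Algebra.EssFiniteType k k'] :
    IsLocallyNoetherian X ↔ IsLocallyNoetherian (Curv2.bc k X k') := by
  constructor
  · intro hX
    refine isLocallyNoetherian_of_forall_chart _ fun y => ?_
    obtain ⟨R, _, _, ι, _, hι, z, hz⟩ := exists_chart k X (Curv2.bcFst k X k' y)
    haveI : IsNoetherianRing R := isNoetherianRing_of_chart X ι
    haveI : Algebra.EssFiniteType R (R ⊗[k] k') := inferInstance
    haveI : IsNoetherianRing (R ⊗[k] k') := Algebra.EssFiniteType.isNoetherianRing R _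
    refine ⟨R ⊗[k] k', inferInstance, inferInstance, chartMap k X k' ι hι, inferInstance, ?_⟩
    rw [range_chartMap]
    exact ⟨z, hz⟩
  · intro hX
    refine isLocallyNoetherian_of_forall_chart _ fun x => ?_
    obtain ⟨R, _, _, ι, _, hι, z, hz⟩ := exists_chart k X x
    haveI : IsNoetherianRing (R ⊗[k] k') :=
      isNoetherianRing_of_chart (Curv2.bc k X k') (chartMap k X k' ι hι)
    haveI : Module.FaithfullyFlat R (R ⊗[k] k') := inferInstance
    haveI : IsNoetherianRing R :=
      Groth.Agent.Lib.Helper28.isNoetherianRing_of_faithfullyFlat (R := R) (S := R ⊗[k] k')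
    exact ⟨R, inferInstance, inferInstance, ι, inferInstance, ⟨z, hz⟩⟩

end Groth.Agent.Lib.Helper6.BcNoeth
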