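import Groth.Agent.Lib.Helper6PullDeg

/-!
# Degrees are invariant under pullback along proper birational morphisms of curves (helper6): S1666
-/

set_option autoImplicit false
set_option linter.style.haveILetI false
universe u
open CategoryTheory Limits AlgebraicGeometry Opposite TopologicalSpace

namespace Groth.Agent.Lib.Helper6.BirDeg

open Groth.Agent.Lib.Helper4.Dev Groth.Agent.Lib.Helper6.GenusLe

section Struct

variable {X Y : Scheme.{u}} (f : Y ⟶ X)

theorem app_injective_of_isIso_restrict (U : X.Opens) [IsIso (f ∣_ U)] (W : U.toScheme.Opens) :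
    Function.Injective (f.app (U.ι ''ᵁ W)) := by
  have h1 : Function.Bijective ((f ∣_ U).app W) := ConcreteCategory.bijective_of_isIso _
  rw [morphismRestrict_app] at h1
  intro a b hab
  apply h1.1
  change (Y.presheaf.map _).hom ((f.app (U.ι ''ᵁ W)).hom a) =
    (Y.presheaf.map _).hom ((f.app (U.ι ''ᵁ W)).hom b)
  exact congrArg _ hab

/-- over an open where `f` is an isomorphism, `O_X ⟶ f_* O_Y` is injective on stalks -/
theorem stalkL_unitPush_injective (U : X.Opens) [IsIso (f ∣_ U)] (x : X) (hx : x ∈ U) :
    Function.Injective (stalkL (unitPush f) x) := by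
  rw [injective_iff_map_eq_zero]
  intro w hw
  obtain ⟨V, hxV, r, rfl⟩ := (Coh.structureModule X).presheaf.exists_germ_eq w
  rw [stalkL_germ] at hw
  let G := (Scheme.Modules.pushforward f).obj (Coh.structureModule Y)
  obtain ⟨W, hxW, iU, iV, hres⟩ := G.presheaf.germ_eq x hxV hxV ((unitPush f).app V r) 0
    (by rw [hw, map_zero])
  rw [map_zero] at hres
  let W' : X.Opens := U.ι ''ᵁ (U.ι ⁻¹ᵁ W)
  have hW'W : W' ≤ W := by
    rintro _ ⟨y, hy, rfl⟩
    exact hy
  have hxW' : x ∈ W' := ⟨⟨x, hx⟩, hxW, rfl⟩
  have hW'V : W' ≤ V := hW'W.trans iU.le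
  have hinj := app_injective_of_isIso_restrict f U (U.ι ⁻¹ᵁ W)
  have hres' : G.presheaf.map (homOfLE hW'V).op ((unitPush f).app V r) = 0 := by
    have : (homOfLE hW'V).op = iU.op ≫ (homOfLE hW'W).op := rfl
    rw [this, G.presheaf.map_comp]
    change G.presheaf.map (homOfLE hW'W).op (G.presheaf.map iU.op ((unitPush f).app V r)) = 0
    rw [hres, map_zero]
  have hr0 : X.presheaf.map (homOfLE hW'V).op r = 0 := by
    apply hinj
    rw [map_zero]
    have hnat := f.naturality (homOfLE hW'V).op
    have := congrArg (fun g => g.hom r) hnat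
    simp only [CommRingCat.hom_comp, RingHom.comp_apply] at this
    rw [this]
    exact hres'
  have e1 : (Coh.structureModule X).presheaf.germ V x hxV r =
      (Coh.structureModule X).presheaf.germ W' x hxW'
        ((Coh.structureModule X).presheaf.map (homOfLE hW'V).op r) :=
    (TopCat.Presheaf.germ_res_apply (Coh.structureModule X).presheaf (homOfLE hW'V) x hxW' r).symm
  rw [e1]
  have : (Coh.structureModule X).presheaf.map (homOfLE hW'V).op r = 0 := hr0
  rw [this, map_zero]

theorem subsingleton_stalk_kernel_of_fac (U : X.Opens) [IsIso (f ∣_ U)] (x : X) (hx : x ∈ U)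
    {I : X.Modules} (e : Coh.structureModule X ⟶ I)
    (m : I ⟶ (Scheme.Modules.pushforward f).obj (Coh.structureModule Y)) (h : e ≫ m = unitPush f) :
    Subsingleton ((kernel e).presheaf.stalk x) := by
  have key : ∀ z : (kernel e).presheaf.stalk x, z = 0 := by
    intro z
    apply stalkL_injective_of_mono (kernel.ι e) x
    apply stalkL_unitPush_injective f U x hx
    rw [← h, stalkL_comp_apply, ← stalkL_comp_apply (kernel.ι e) e, kernel.condition, stalkL_zero,
      map_zero, map_zero]
    change stalkL m x 0 = 0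
    rw [map_zero]
  exact ⟨fun a b => by rw [key a, key b]⟩

end Struct


section Top

variable {X : Scheme.{u}}

theorem dim_compl_dense_le_zero [IsNoetherian X] (hdim : topologicalKrullDim X ≤ 1)
    (U : X.Opens) (hU : Dense (U : Set X)) : topologicalKrullDim ↥((U : Set X)ᶜ) ≤ 0 := by
  haveI : DiscreteTopology ↥((U : Set X)ᶜ) := by
    rw [discreteTopology_iff_forall_isClosed]
    intro S
    have hT : IsClosed (Subtype.val '' S : Set X) :=
      isClosed_of_subset_compl_dense hdim U hU _ (by rintro _ ⟨y, -, rfl⟩; exact y.2)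
    have : S = Subtype.val ⁻¹' (Subtype.val '' S : Set X) :=
      (Set.preimage_image_eq S Subtype.val_injective).symm
    rw [this]
    exact hT.preimage continuous_subtype_val
  exact topologicalKrullDim_zero_of_discreteTopology _

end Top

section Main

variable (k : Type u) [Field k] (X X' : Scheme.{u}) [X.Over (Spec (CommRingCat.of k))]
  [X'.Over (Spec (CommRingCat.of k))] [IsProper (X ↘ (Spec (CommRingCat.of k)))]
  [IsProper (X' ↘ (Spec (CommRingCat.of k)))]

/-- **S1666** -/
theorem main (hdim : topologicalKrullDim X ≤ 1)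
    (f : X' ⟶ X) (hf : f ≫ (X ↘ (Spec (CommRingCat.of k))) = X' ↘ (Spec (CommRingCat.of k)))
    (U : X.Opens) (hU : Dense (U : Set X)) (hU' : Dense ((f ⁻¹ᵁ U : X'.Opens) : Set X'))
    (hfU : IsIso (f ∣_ U))
    (n : ℕ) (E : X.Modules) (hE : FlatMod.IsFinLocFreeOfRank n E) :
    Curv2.deg k X' ((Scheme.Modules.pullback f).obj E) n = Curv2.deg k X E n := by
  haveI : IsNoetherian X := Groth.Agent.Lib.Helper4.CurveRR.isNoetherian_of_proper k X
  haveI : IsNoetherian X' := Groth.Agent.Lib.Helper4.CurveRR.isNoetherian_of_proper k X'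
  haveI : IsProper (f ≫ (X ↘ (Spec (CommRingCat.of k)))) := by rw [hf]; infer_instance
  haveI : IsProper f := IsProper.of_comp f (X ↘ (Spec (CommRingCat.of k)))
  haveI hfin : IsFinite f := isFinite_of_isIso_dense k X X' hdim f hf U hU' hfU
  haveI : IsAffineHom f := inferInstance
  have hEc : Coh.IsCoh E := Groth.Agent.Lib.Helper4.DegAdd.isCoh_of_isFinLocFreeOfRank E n hE
  haveI : E.IsQuasicoherent := hEc.1
  have hEf : FlatMod.IsFinLocFree E := fun x => by
    obtain ⟨V, hxV, e⟩ := hE x
    exact ⟨V, n, hxV, e⟩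
  have cO : Coh.IsCoh (Coh.structureModule X) := isCoh_structureModule X
  have cG : Coh.IsCoh ((Scheme.Modules.pushforward f).obj (Coh.structureModule X')) :=
    Groth.Agent.Lib.Helper23.ZarConn.isCoh_push_structure f
  haveI : (Coh.structureModule X').IsQuasicoherent := (isCoh_structureModule X').1
  let φ := unitPush f
  let e := Abelian.factorThruImage φ
  have cI : Coh.IsCoh (Abelian.image φ) := isCoh_image φ cO cG
  have cK : Coh.IsCoh (kernel e) := isCoh_kernel e cO cI
  have cC : Coh.IsCoh (cokernel φ) := isCoh_cokernel φ cO cG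
  -- supports
  have hZ0 := dim_compl_dense_le_zero hdim U hU
  have hsK : CohB1.support (kernel e) ⊆ (U : Set X)ᶜ := fun x hx hxU =>
    hx (subsingleton_stalk_kernel_of_fac f U x hxU e (Abelian.image.ι φ) (Abelian.image.fac φ))
  haveI : IsClosedImmersion (f ∣_ U) := inferInstance
  have hsC : CohB1.support (cokernel φ) ⊆ (U : Set X)ᶜ := fun x hx hxU =>
    hx (subsingleton_stalk_cokernel_unitPush f U x hxU)
  have dK : topologicalKrullDim (CohB1.support (kernel e)) ≤ 0 :=
    (Topology.IsEmbedding.inclusion hsK).isInducing.topologicalKrullDim_le.trans hZ0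
  have dC : topologicalKrullDim (CohB1.support (cokernel φ)) ≤ 0 :=
    (Topology.IsEmbedding.inclusion hsC).isInducing.topologicalKrullDim_le.trans hZ0
  -- the two short exact sequences
  let S₁ : ShortComplex X.Modules := ShortComplex.mk (kernel.ι e) e (kernel.condition e)
  have hS₁ : S₁.ShortExact :=
    ShortComplex.ShortExact.mk' (ShortComplex.exact_kernel e) inferInstance inferInstance
  let S₂ : ShortComplex X.Modules :=
    ShortComplex.mk (Abelian.image.ι φ) (cokernel.π φ) (kernel.condition (cokernel.π φ))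
  have hS₂ : S₂.ShortExact :=
    ShortComplex.ShortExact.mk' (ShortComplex.exact_kernel (cokernel.π φ)) inferInstance
      inferInstance
  have a1 := Groth.Agent.Lib.Helper4.CurveChi.euler_tensor_additive k X S₁ hS₁ cK cO cI n E hE
  have a2 := Groth.Agent.Lib.Helper4.CurveChi.euler_tensor_additive k X S₂ hS₂ cI cG cC n E hE
  have b1 := Groth.Agent.Lib.Helper6.Euler.euler_additive k X S₁ hS₁ cK cO cI
  have b2 := Groth.Agent.Lib.Helper6.Euler.euler_additive k X S₂ hS₂ cI cG cC
  have c1 := Groth.Agent.Lib.Helper4.ZeroDimChi.euler_tensor_locFree k (kernel e) cK dK n E hE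
  have c2 := Groth.Agent.Lib.Helper4.ZeroDimChi.euler_tensor_locFree k (cokernel φ) cC dC n E hE
  have d1 := Groth.Agent.Lib.Helper4.CurveChi.euler_congr_iso k
    (Groth.Agent.Lib.Helper23.TensorUnit.unitTensorIso E)
  have p1 := Groth.Agent.Lib.Helper6.PullDeg.euler_pullback k X X' f hf E hEf
  have p2 := Groth.Agent.Lib.Helper4.CurveChi.euler_congr_iso k
    (Groth.Agent.Lib.Helper23.AmpleFam2.tensorBraid E
      ((Scheme.Modules.pushforward f).obj (Coh.structureModule X')))
  have p3 := Groth.Agent.Lib.Helper6.PullDeg.euler_push k X X' f hf (Coh.structureModule X')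
  change Curv2.euler k X (CohB1.tensorMod (Coh.structureModule X) E) =
    Curv2.euler k X (CohB1.tensorMod (kernel e) E) +
      Curv2.euler k X (CohB1.tensorMod (Abelian.image φ) E) at a1
  change Curv2.euler k X (CohB1.tensorMod
      ((Scheme.Modules.pushforward f).obj (Coh.structureModule X')) E) =
    Curv2.euler k X (CohB1.tensorMod (Abelian.image φ) E) +
      Curv2.euler k X (CohB1.tensorMod (cokernel φ) E) at a2
  change Curv2.euler k X (Coh.structureModule X) =
    Curv2.euler k X (kernel e) + Curv2.euler k X (Abelian.image φ) at b1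
  change Curv2.euler k X ((Scheme.Modules.pushforward f).obj (Coh.structureModule X')) =
    Curv2.euler k X (Abelian.image φ) + Curv2.euler k X (cokernel φ) at b2
  unfold Curv2.deg
  rw [p1, p2, ← p3]
  linear_combination a2 - a1 - c1 + c2 + d1 + (n : ℤ) * b1 - (n : ℤ) * b2

end Main

end Groth.Agent.Lib.Helper6.BirDeg
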