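import Groth.Agent.Lib.Helper6Koszul
import Groth.Agent.Lib.Helper23LocGen
import Groth.Agent.Lib.Helper23TensorMap
import Groth.Agent.Lib.Helper27SerreVan
import Groth.Agent.Lib.Helper27SpanTop
import Groth.Agent.Lib.Helper4DevA

/-!
# The kernel of `O^{n+1} ⟶ L` twisted by `L` is globally generated (helper6): S9569
-/

set_option autoImplicit false
set_option linter.style.haveILetI false
universe u
open CategoryTheory Limits AlgebraicGeometry Opposite TopologicalSpace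

namespace Groth.Agent.Lib.Helper6.KoszulGG

open Groth.Agent.Lib.Helper23.SecTw Groth.Agent.Lib.Helper27GlobGenPn
  Groth.Agent.Lib.Helper23.LocGen Groth.Agent.Lib.Helper4.Dev
  Groth.Agent.Lib.Helper27SerreVan

variable {X : Scheme.{u}}

/-- `(φ ⊗ L)(a ⊗ l) = φ(a) ⊗ l` on sections over any open -/
theorem wl_tm {A B : X.Modules} (φ : A ⟶ B) (L : X.Modules) (U : X.Opens) (a : Γ(A, U))
    (l : Γ(L, U)) : (wl φ L).app U (tm A L U a l) = tm B L U (φ.app U a) l := by
  have h := KoszTw.tensorMap_tmul φ (𝟙 L) U a l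
  rw [← KoszTw.tensorBi_map_app] at h
  exact h

/-- `(G ⊗ δ)(g ⊗ l) = g ⊗ δ(l)` on sections over any open -/
theorem wr_tm (G : X.Modules) {L L' : X.Modules} (δ : L ⟶ L') (U : X.Opens) (g : Γ(G, U))
    (l : Γ(L, U)) : (wr G δ).app U (tm G L U g l) = tm G L' U g (δ.app U l) := by
  have h := KoszTw.tensorMap_tmul (𝟙 G) δ U g l
  rw [← KoszTw.tensorBi_obj_map] at h
  exact h

/-- sections lift locally along an epimorphism -/
theorem exists_local_lift {A B : X.Modules} (p : A ⟶ B) [Epi p] (U : X.Opens) (b : Γ(B, U))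
    (y : X) (hy : y ∈ U) :
    ∃ (W : X.Opens) (hW : W ≤ U), y ∈ W ∧ ∃ a : Γ(A, W), p.app W a = res B hW b := by
  obtain ⟨α, hα⟩ := stalkL_surjective_of_epi p y (B.presheaf.germ U y hy b)
  obtain ⟨W₀, hyW₀, a₀, rfl⟩ := A.presheaf.exists_germ_eq α
  rw [stalkL_germ] at hα
  obtain ⟨W, hyW, i₁, i₂, h⟩ := B.presheaf.germ_eq y hyW₀ hy _ _ hα
  refine ⟨W, i₂.le, hyW, A.presheaf.map i₁.op a₀, ?_⟩
  have h1 : p.app W (A.presheaf.map i₁.op a₀) = B.presheaf.map i₁.op (p.app W₀ a₀) :=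
    Groth.Agent.Lib.Helper23.Extend.app_map p i₁ a₀
  rw [h1]
  exact h

/-- a tensor product is generated by global sections over `V` as soon as pure tensors are,
locally -/
theorem locGen_tensor_of_pure {M N : X.Modules} {V : X.Opens}
    (h : ∀ (V' : X.Opens) (_ : V' ≤ V) (m : Γ(M, V')) (n : Γ(N, V')) (y : X), y ∈ V' →
      ∃ (B : X.Opens) (hB : B ≤ V'), y ∈ B ∧
        res (CohB1.tensorMod M N) hB (tm M N V' m n) ∈ gspan (CohB1.tensorMod M N) B) :
    LocGen (CohB1.tensorMod M N) V := by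
  intro A hA t y hy
  obtain ⟨V', hV', p, hyV', hp⟩ := locSurj M N A t y hy
  have key : ∀ p : PreSec M N V', ∃ (B : X.Opens) (hB : B ≤ V'), y ∈ B ∧
      res (CohB1.tensorMod M N) hB (toT M N V' p) ∈ gspan (CohB1.tensorMod M N) B := by
    intro p
    have hzero : ∃ (B : X.Opens) (hB : B ≤ V'), y ∈ B ∧
        res (CohB1.tensorMod M N) hB (toT M N V' (0 : PreSec M N V')) ∈
          gspan (CohB1.tensorMod M N) B := by
      refine ⟨V', le_rfl, hyV', ?_⟩
      rw [toT_zero, res_zero]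
      exact zero_mem _
    have htmul : ∀ (m : Γ(M, V')) (n : Γ(N, V')), ∃ (B : X.Opens) (hB : B ≤ V'), y ∈ B ∧
        res (CohB1.tensorMod M N) hB (tm M N V' m n) ∈ gspan (CohB1.tensorMod M N) B :=
      fun m n => h V' (hV'.trans hA) m n y hyV'
    have hadd : ∀ a b : PreSec M N V',
        (∃ (B : X.Opens) (hB : B ≤ V'), y ∈ B ∧
          res (CohB1.tensorMod M N) hB (toT M N V' a) ∈ gspan (CohB1.tensorMod M N) B) →
        (∃ (B : X.Opens) (hB : B ≤ V'), y ∈ B ∧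
          res (CohB1.tensorMod M N) hB (toT M N V' b) ∈ gspan (CohB1.tensorMod M N) B) →
        ∃ (B : X.Opens) (hB : B ≤ V'), y ∈ B ∧
          res (CohB1.tensorMod M N) hB (toT M N V' (a + b)) ∈ gspan (CohB1.tensorMod M N) B := by
      rintro a b ⟨B₁, hB₁, hyB₁, h1⟩ ⟨B₂, hB₂, hyB₂, h2⟩
      refine ⟨B₁ ⊓ B₂, inf_le_left.trans hB₁, ⟨hyB₁, hyB₂⟩, ?_⟩
      rw [toT_add, res_add']
      refine add_mem ?_ ?_
      · rw [← res_res _ hB₁ inf_le_left]
        exact res_mem_gspan _ _ h1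
      · rw [← res_res _ hB₂ inf_le_right]
        exact res_mem_gspan _ _ h2
    exact pt_induction (CohB1.toPMod M) (CohB1.toPMod N) (op V')
      (motive := fun p => ∃ (B : X.Opens) (hB : B ≤ V'), y ∈ B ∧
        res (CohB1.tensorMod M N) hB (toT M N V' p) ∈ gspan (CohB1.tensorMod M N) B)
      hzero htmul hadd p
  obtain ⟨B, hB, hyB, hmem⟩ := key p
  refine ⟨B, hB.trans hV', hyB, ?_⟩
  rw [← res_res _ hV' hB, ← hp]
  exact hmem


theorem sv_sub' {L : X.Modules} (σ τ : Coh.structureModule X ⟶ L) (W : X.Opens) :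
    sv (σ - τ) W = sv σ W - sv τ W := by
  rw [val_eq_app, val_eq_app, val_eq_app]
  rfl

theorem tm_neg_right (M N : X.Modules) (U : X.Opens) (m : Γ(M, U)) (n : Γ(N, U)) :
    tm M N U m (-n) = - tm M N U m n := by
  have h := tm_add_right M N U m n (-n)
  rw [add_neg_cancel, tm_zero_right] at h
  exact eq_neg_of_add_eq_zero_right h.symm

theorem tm_sub_right (M N : X.Modules) (U : X.Opens) (m : Γ(M, U)) (n n' : Γ(N, U)) :
    tm M N U m (n - n') = tm M N U m n - tm M N U m n' := by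
  rw [sub_eq_add_neg, tm_add_right, tm_neg_right, ← sub_eq_add_neg]

section Main

variable {V L : X.Modules} (hL : PicF.IsInvertible L) (σ : V ⟶ L) [Epi σ]

/-- the Koszul section `τ' ⊗ σ(τ) - τ ⊗ σ(τ')` of `V ⊗ L` -/
noncomputable def K (τ' τ : Coh.structureModule X ⟶ V) :
    Coh.structureModule X ⟶ CohB1.tensorMod V L :=
  SecTwist.tmulHom τ' (τ ≫ σ) - SecTwist.tmulHom τ (τ' ≫ σ)

omit [Epi σ] in
include hL in
theorem K_wl (τ' τ : Coh.structureModule X ⟶ V) : K σ τ' τ ≫ wl σ L = 0 := by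
  unfold K
  rw [Preadditive.sub_comp, Groth.Agent.Lib.Helper6.Koszul.tmulHom_wl,
    Groth.Agent.Lib.Helper6.Koszul.tmulHom_wl,
    Groth.Agent.Lib.Helper6.Koszul.tmulHom_comm L hL (τ' ≫ σ) (τ ≫ σ), sub_self]

/-- the short exact sequence `0 → ker σ → V → L → 0` -/
noncomputable def sc : ShortComplex X.Modules := ShortComplex.mk (kernel.ι σ) σ (kernel.condition σ)

theorem sc_shortExact : (sc σ).ShortExact := by
  have hex : (sc σ).Exact := ShortComplex.exact_of_f_is_kernel _ (kernelIsKernel σ)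
  exact { exact := hex, mono_f := inferInstanceAs (Mono (kernel.ι σ)), epi_g := inferInstanceAs (Epi σ) }

include hL in
theorem mono_wl_ι : Mono (wl (kernel.ι σ) L) :=
  (shortExact_tw L hL (sc σ) (sc_shortExact σ)).mono_f

include hL in
theorem exists_K' (τ' τ : Coh.structureModule X ⟶ V) :
    ∃ K' : Coh.structureModule X ⟶ CohB1.tensorMod (kernel σ) L, K' ≫ wl (kernel.ι σ) L = K σ τ' τ := by
  have hS := shortExact_tw L hL (sc σ) (sc_shortExact σ)
  haveI := hS.mono_f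
  exact ⟨hS.exact.lift (K σ τ' τ) (K_wl hL σ τ' τ), hS.exact.lift_f _ _⟩

include hL in
/-- Claim A -/
theorem claimA (B : X.Opens) (τ : Coh.structureModule X ⟶ V) (w : Γ(V, B)) (hw : w ∈ gspan V B) :
    ∃ g ∈ gspan (CohB1.tensorMod (kernel σ) L) B,
      (wl (kernel.ι σ) L).app B g =
        tm V L B w (sv (τ ≫ σ) B) - tm V L B (sv τ B) (σ.app B w) := by
  induction hw using Submodule.span_induction with
  | mem x hx =>
    obtain ⟨τ', rfl⟩ := hx
    obtain ⟨K', hK'⟩ := exists_K' hL σ τ' τ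
    refine ⟨sv K' B, sv_mem_gspan _ _ _, ?_⟩
    have h1 : (wl (kernel.ι σ) L).app B (sv K' B) = sv (K' ≫ wl (kernel.ι σ) L) B := rfl
    rw [h1, hK']
    unfold K
    rw [sv_sub', sv_tmulHom, sv_tmulHom]
    rfl
  | zero =>
    refine ⟨0, zero_mem _, ?_⟩
    rw [map_zero, map_zero, tm_zero_left, tm_zero_right, sub_zero]
  | add x y _ _ hx hy =>
    obtain ⟨g₁, hg₁, h₁⟩ := hx
    obtain ⟨g₂, hg₂, h₂⟩ := hy
    refine ⟨g₁ + g₂, add_mem hg₁ hg₂, ?_⟩
    rw [map_add, h₁, h₂, map_add, tm_add_left, tm_add_right]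
    abel
  | smul r x _ hx =>
    obtain ⟨g, hg, h⟩ := hx
    refine ⟨r • g, Submodule.smul_mem _ _ hg, ?_⟩
    rw [Scheme.Modules.Hom.app_smul, h, Scheme.Modules.Hom.app_smul, tm_smul_left, tm_smul_right,
      smul_sub]

include hL in
/-- Claim B -/
theorem claimB (B : X.Opens) (τ : Coh.structureModule X ⟶ V) (a : Γ(kernel σ, B))
    (ha : (kernel.ι σ).app B a ∈ gspan V B) :
    tm (kernel σ) L B a (sv (τ ≫ σ) B) ∈ gspan (CohB1.tensorMod (kernel σ) L) B := by
  obtain ⟨g, hg, h⟩ := claimA hL σ B τ _ ha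
  have h0 : σ.app B ((kernel.ι σ).app B a) = 0 := by
    have h1 : σ.app B ((kernel.ι σ).app B a) = (kernel.ι σ ≫ σ).app B a := rfl
    rw [h1, kernel.condition]
    rfl
  rw [h0, tm_zero_right, sub_zero, ← wl_tm] at h
  haveI := mono_wl_ι hL σ
  have hinj := Groth.Agent.Lib.Helper23.Extend.injective_app_of_mono (wl (kernel.ι σ) L) B
  rw [← hinj h]
  exact hg

include hL in
/-- Claim C -/
theorem claimC (B : X.Opens) (a : Γ(kernel σ, B)) (ha : (kernel.ι σ).app B a ∈ gspan V B)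
    (v : Γ(V, B)) (hv : v ∈ gspan V B) :
    tm (kernel σ) L B a (σ.app B v) ∈ gspan (CohB1.tensorMod (kernel σ) L) B := by
  induction hv using Submodule.span_induction with
  | mem x hx =>
    obtain ⟨τ, rfl⟩ := hx
    exact claimB hL σ B τ a ha
  | zero => rw [map_zero, tm_zero_right]; exact zero_mem _
  | add x y _ _ hx hy => rw [map_add, tm_add_right]; exact add_mem hx hy
  | smul r x _ hx =>
    rw [Scheme.Modules.Hom.app_smul, tm_smul_right]
    exact Submodule.smul_mem _ _ hx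

include hL in
/-- if `V` is locally generated by global sections, so is `ker σ ⊗ L` -/
theorem locGen_kernel_tensor (hV : LocGen V ⊤) : LocGen (CohB1.tensorMod (kernel σ) L) ⊤ := by
  apply locGen_tensor_of_pure
  intro V' _ a b y hy
  obtain ⟨B₁, hB₁, hyB₁, v, hv⟩ := exists_local_lift σ V' b y hy
  obtain ⟨B₂, hB₂, hyB₂, hv₂⟩ := hV B₁ le_top v y hyB₁
  obtain ⟨B₃, hB₃, hyB₃, ha₃⟩ := hV V' le_top ((kernel.ι σ).app V' a) y hy
  have hB : B₂ ⊓ B₃ ≤ V' := inf_le_right.trans hB₃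
  refine ⟨B₂ ⊓ B₃, hB, ⟨hyB₂, hyB₃⟩, ?_⟩
  rw [res_tm]
  have hb : res L hB b = σ.app (B₂ ⊓ B₃) (res V (inf_le_left.trans hB₂) v) := by
    have h1 : σ.app (B₂ ⊓ B₃) (res V (inf_le_left.trans hB₂) v) =
        res L (inf_le_left.trans hB₂) (σ.app B₁ v) :=
      Groth.Agent.Lib.Helper23.Extend.app_map σ (homOfLE (inf_le_left.trans hB₂)) v
    rw [h1, hv, res_res]
  rw [hb]
  apply claimC hL σ
  · have h1 : (kernel.ι σ).app (B₂ ⊓ B₃) (res (kernel σ) hB a) =
        res V hB ((kernel.ι σ).app V' a) :=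
      Groth.Agent.Lib.Helper23.Extend.app_map (kernel.ι σ) (homOfLE hB) a
    rw [h1, ← res_res _ hB₃ inf_le_right]
    exact res_mem_gspan _ _ ha₃
  · rw [← res_res _ hB₂ inf_le_left]
    exact res_mem_gspan _ _ hv₂

end Main

/-- S9569 -/
theorem main (L : X.Modules) (hL : PicF.IsInvertible L) (n : ℕ)
    (s : Fin (n + 1) → (Coh.structureModule X ⟶ L))
    (hs : Epi (Sigma.desc s : FlatMod.freeMod X (n + 1) ⟶ L)) :
    Curv2.IsGloballyGenerated (CohB1.tensorMod (kernel (Sigma.desc s : FlatMod.freeMod X (n + 1) ⟶ L)) L) := by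
  haveI := hs
  apply isGloballyGenerated_of_locGen
  intro x
  refine ⟨⊤, trivial, ?_⟩
  apply locGen_kernel_tensor hL
  haveI : Epi (𝟙 (FlatMod.freeMod X (n + 1))) := inferInstance
  exact Groth.Agent.Lib.Helper23.TensorMap.locGen_of_epi_freeMod (𝟙 (FlatMod.freeMod X (n + 1)))

end Groth.Agent.Lib.Helper6.KoszulGG
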