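import Groth.Agent.Lib.Helper6DefAmple
import Groth.Agent.Lib.Helper6KoszulGG
import Groth.Agent.Lib.Helper23FinGen
import Groth.Agent.Lib.Helper23GG
import Groth.Agent.Lib.Helper20ZClos20
import Groth.Agent.Lib.Helper27SpanTop
import Groth.Agent.Lib.Helper4CurveGrd
import Groth.Agent.Lib.Helper4CurveRR
import Groth.Agent.Lib.Helper23Serre2

/-!
# Castelnuovo–Mumford on curves: surjectivity of multiplication maps (helper6): S16308
-/

set_option autoImplicit false
set_option linter.style.haveILetI false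
universe u
open CategoryTheory Limits AlgebraicGeometry Opposite TopologicalSpace

namespace Groth.Agent.Lib.Helper6.CMCurve

open Groth.Agent.Lib.Helper23.SecTw Groth.Agent.Lib.Helper27GlobGenPn
  Groth.Agent.Lib.Helper23.LocGen Groth.Agent.Lib.Helper27SerreVan
  Groth.Agent.Lib.Helper6.DefAmple Groth.Agent.Lib.Helper6.KoszulGG
  Groth.Agent.Lib.Helper27SpanTop

section Gen

variable {X : Scheme.{u}} [IsNoetherian X] [X.IsSeparated]

omit [X.IsSeparated] in
/-- a globally generated invertible module on a quasi-compact scheme is a quotient of a finite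
free module -/
theorem exists_epi_freeMod (A : X.Modules) (hA : PicF.IsInvertible A)
    (hgg : Curv2.IsGloballyGenerated A) :
    ∃ (N : ℕ) (p : FlatMod.freeMod X N ⟶ A), Epi p := by
  haveI := isQuasicoherent_of_isInvertible A hA
  haveI := Groth.Agent.Lib.Helper20.ZClosLib.isFiniteType_of_isInvertible A hA
  apply Groth.Agent.Lib.Helper23.FinGen.exists_epi_freeMod_of_locGen
  intro x
  obtain ⟨t, ht⟩ := Groth.Agent.Lib.Helper23.GG.exists_section_mem_genLocus A hA hgg x
  exact ⟨CohB1.genLocus A t, ht, locGen_genLocus A t⟩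

/-- `H¹(A^j) = 0` for `j ≥ m` when `A` is globally generated and `H¹(A^m) = 0` -/
theorem h1_pow (hdim : topologicalKrullDim X ≤ 1) (A : X.Modules) (hA : PicF.IsInvertible A)
    (hgg : Curv2.IsGloballyGenerated A) (m : ℕ)
    (hm : Subsingleton (Coh.HH X (CohB1.tensorPow A m) 1)) (j : ℕ) (hj : m ≤ j) :
    Subsingleton (Coh.HH X (CohB1.tensorPow A j) 1) := by
  induction j, hj using Nat.le_induction with
  | base => exact hm
  | succ j hj ih =>
    have hq : (CohB1.tensorPow A j).IsQuasicoherent :=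
      isQuasicoherent_of_isInvertible _ (isInvertible_tensorPow hA j)
    have h1 := h1_tensor_of_gg hdim A (CohB1.tensorPow A j)
      (isQuasicoherent_of_isInvertible A hA) hq hgg ih
    exact subsingleton_HH_of_iso
      (Groth.Agent.Lib.Helper27AffineCrit.tensorComm (CohB1.tensorPow A j) A) 1 h1

end Gen

section Lift

variable (k : Type u) [Field k] {X : Scheme.{u}} [X.Over (Spec (CommRingCat.of k))]
  [IsNoetherian X] [X.IsSeparated]

open Groth.Agent.Lib.Helper21.ModTensor3 Groth.Agent.Lib.Helper21.ModTensor5 in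
instance tl_pfc (Q : X.Modules) : PreservesFiniteColimits (tl Q) :=
  tL_preservesFiniteColimits X.sheaf Q

open Groth.Agent.Lib.Helper23.TensorQCoh Groth.Agent.Lib.Helper23.QCohLocal in
include k in
/-- if `H¹(P ⊗ S.X₁) = 0` then `P ⊗ S.X₂ ⟶ P ⊗ S.X₃` is surjective on global sections -/
theorem surjective_wr (hdim : topologicalKrullDim X ≤ 1) (P : X.Modules) (hPq : P.IsQuasicoherent)
    (S : ShortComplex X.Modules) (hS : S.ShortExact) (h₁q : S.X₁.IsQuasicoherent)
    (h₂q : S.X₂.IsQuasicoherent) (h₃q : S.X₃.IsQuasicoherent)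
    (h : Subsingleton (Coh.HH X (CohB1.tensorMod P S.X₁) 1)) :
    Function.Surjective ((wr P S.g).app ⊤) := by
  haveI := hS.epi_g
  haveI := hPq
  haveI := h₁q
  haveI := h₂q
  haveI := h₃q
  have hT : (S.map (tl P)).Exact :=
    hS.exact.map_of_epi_of_preservesCokernel (tl P) hS.epi_g inferInstance
  haveI hepi : Epi (wr P S.g) := inferInstanceAs (Epi ((tl P).map S.g))
  have q1 : (CohB1.tensorMod P S.X₁).IsQuasicoherent := isQuasicoherent_tensorMod P S.X₁
  haveI q2 : (CohB1.tensorMod P S.X₂).IsQuasicoherent := isQuasicoherent_tensorMod P S.X₂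
  haveI q3 : (CohB1.tensorMod P S.X₃).IsQuasicoherent := isQuasicoherent_tensorMod P S.X₃
  have hKq : (kernel (wr P S.g)).IsQuasicoherent := isQuasicoherent_kernel (wr P S.g)
  let l : CohB1.tensorMod P S.X₁ ⟶ kernel (wr P S.g) :=
    kernel.lift (wr P S.g) (wr P S.f) (by rw [← wr_comp, S.zero, wr_zero])
  haveI : Epi l := hT.epi_kernelLift
  have hK : Subsingleton (Coh.HH X (kernel (wr P S.g)) 1) := h1_of_epi hdim l q1 hKq h
  let S' : ShortComplex X.Modules :=
    ShortComplex.mk (kernel.ι (wr P S.g)) (wr P S.g) (kernel.condition _)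
  have hS' : S'.ShortExact :=
    ShortComplex.ShortExact.mk' (ShortComplex.exact_of_f_is_kernel _ (kernelIsKernel _))
      (inferInstanceAs (Mono (kernel.ι (wr P S.g)))) hepi
  intro x
  obtain ⟨t, ht⟩ := exists_lift_section k S' hS' hK (secHom _ x)
  refine ⟨sv t ⊤, ?_⟩
  have h1 : (wr P S.g).app ⊤ (sv t ⊤) = sv (t ≫ wr P S.g) ⊤ := rfl
  have ht' : t ≫ wr P S.g = secHom _ x := ht
  rw [h1, ht', sv_secHom, res_self]

end Lift

section Iso

variable {X : Scheme.{u}}

/-- `wl` of an isomorphism -/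
noncomputable def wlIso {A B : X.Modules} (e : A ≅ B) (P : X.Modules) :
    CohB1.tensorMod A P ≅ CohB1.tensorMod B P where
  hom := wl e.hom P
  inv := wl e.inv P
  hom_inv_id := by rw [← wl_comp, e.hom_inv_id, wl_id]
  inv_hom_id := by rw [← wl_comp, e.inv_hom_id, wl_id]

theorem h1_eIso (P A F : X.Modules)
    (h : Subsingleton (Coh.HH X (CohB1.tensorMod (CohB1.tensorMod F A) P) 1)) :
    Subsingleton (Coh.HH X (CohB1.tensorMod (CohB1.tensorMod P A) F) 1) := by
  have h1 : Subsingleton (Coh.HH X (CohB1.tensorMod (CohB1.tensorMod A F) P) 1) :=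
    subsingleton_HH_of_iso (wlIso (Groth.Agent.Lib.Helper27AffineCrit.tensorComm A F) P) 1 h
  have h2 : Subsingleton (Coh.HH X (CohB1.tensorMod P (CohB1.tensorMod A F)) 1) :=
    subsingleton_HH_of_iso
      (Groth.Agent.Lib.Helper27AffineCrit.tensorComm P (CohB1.tensorMod A F)) 1 h1
  exact subsingleton_HH_of_iso (tensorAssoc P A F) 1 h2

end Iso

section Main

open Groth.Agent.Lib.Helper4.CurveRR

variable (k : Type u) [Field k] (X : Scheme.{u}) [X.Over (Spec (CommRingCat.of k))]
  [IsProper (X ↘ (Spec (CommRingCat.of k)))]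

open Groth.Agent.Lib.Helper23.TensorQCoh Groth.Agent.Lib.Helper23.QCohLocal in
include k in
theorem CT_pow (hdim : topologicalKrullDim X = 1) (A : X.Modules) (hA : PicF.IsInvertible A)
    (hgg : Curv2.IsGloballyGenerated A) (m : ℕ)
    (hm : Subsingleton (Coh.HH X (CohB1.tensorPow A m) 1)) (n : ℕ) (hn : m + 1 ≤ n) :
    CT (CohB1.tensorPow A n) A = ⊤ := by
  haveI := isNoetherian_of_proper k X
  haveI := isSeparated_of_proper k X
  obtain ⟨N, p, hp⟩ := exists_epi_freeMod A hA hgg
  obtain ⟨j, rfl⟩ : ∃ j, n = j + 1 := ⟨n - 1, by omega⟩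
  have hj : m ≤ j := by omega
  haveI hAq := isQuasicoherent_of_isInvertible A hA
  haveI hVq : (FlatMod.freeMod X N).IsQuasicoherent :=
    Groth.Agent.Lib.Helper23.Serre.isQuasicoherent_freeMod N
  have hFA : Curv2.IsGloballyGenerated (CohB1.tensorMod (kernel p) A) := by
    apply isGloballyGenerated_of_locGen
    intro x
    refine ⟨⊤, trivial, ?_⟩
    apply locGen_kernel_tensor hA p
    haveI : Epi (𝟙 (FlatMod.freeMod X N)) := inferInstance
    exact Groth.Agent.Lib.Helper23.TensorMap.locGen_of_epi_freeMod (𝟙 (FlatMod.freeMod X N))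
  have hj1 := h1_pow hdim.le A hA hgg m hm j hj
  haveI hPjq : (CohB1.tensorPow A j).IsQuasicoherent :=
    isQuasicoherent_of_isInvertible _ (isInvertible_tensorPow hA j)
  have hPq : (CohB1.tensorPow A (j + 1)).IsQuasicoherent :=
    isQuasicoherent_of_isInvertible _ (isInvertible_tensorPow hA (j + 1))
  haveI hFq : (kernel p).IsQuasicoherent := isQuasicoherent_kernel p
  have hFAq : (CohB1.tensorMod (kernel p) A).IsQuasicoherent := isQuasicoherent_tensorMod _ _
  have h2 : Subsingleton (Coh.HH X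
      (CohB1.tensorMod (CohB1.tensorMod (kernel p) A) (CohB1.tensorPow A j)) 1) :=
    h1_tensor_of_gg hdim.le _ _ hFAq hPjq hFA hj1
  have h3 : Subsingleton (Coh.HH X (CohB1.tensorMod (CohB1.tensorPow A (j + 1)) (kernel p)) 1) :=
    h1_eIso (CohB1.tensorPow A j) A (kernel p) h2
  have hsurj := surjective_wr k hdim.le (CohB1.tensorPow A (j + 1)) hPq (sc p) (sc_shortExact p)
    hFq hVq hAq h3
  exact CT_of_surjective _ p (CT_sigma _ _ (fun _ => CT_unit _)) hsurj

include k in
/-- S16308 -/
theorem main (hdim : topologicalKrullDim X = 1) (A : X.Modules) (hA : PicF.IsInvertible A)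
    (hgg : Curv2.IsGloballyGenerated A) (m : ℕ)
    (hm : Subsingleton (Coh.HH X (CohB1.tensorPow A m) 1)) (n : ℕ) (hn : m + 1 ≤ n) :
    Submodule.span (X.ringCatSheaf.obj.obj (Opposite.op ⊤))
        (Set.range (fun p : (CohB1.tensorPow A n).val.obj (Opposite.op ⊤) × A.val.obj (Opposite.op ⊤) =>
          SecTwist.tmul (CohB1.tensorPow A n) A ⊤ p.1 p.2)) = ⊤ := by
  have h := CT_pow k X hdim A hA hgg m hm n hn
  rw [eq_top_iff]
  intro x hx0
  clear hx0
  have hx : x ∈ CT (CohB1.tensorPow A n) A := by rw [h]; trivial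
  unfold CT at hx
  induction hx using AddSubgroup.closure_induction with
  | mem y hy => exact Submodule.subset_span hy
  | zero => exact zero_mem _
  | add a b _ _ ha hb => exact add_mem ha hb
  | neg a _ ha => exact neg_mem ha

end Main

end Groth.Agent.Lib.Helper6.CMCurve
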