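import Groth.Prelude
import Mathlib

/-! EGA 0_IV 21: differentials in characteristic `p`. -/

open TensorProduct

namespace Groth.Agent.Lib.Helper6

universe u



theorem isNilpotent_of_mem_kaehler_ideal (p : ℕ) [Fact p.Prime] {A B : Type u}
    [CommRing A] [CommRing B] [Algebra A B] [CharP B p] (s : ℕ)
    (hpow : ∀ b : B, b ^ p ^ s ∈ Set.range (algebraMap A B)) :
    ∀ x ∈ KaehlerDifferential.ideal A B, IsNilpotent x := by
  intro x hx
  rw [← mem_nilradical]
  rw [← KaehlerDifferential.span_range_eq_ideal] at hx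
  refine (Ideal.span_le.mpr ?_) hx
  rintro _ ⟨b, rfl⟩
  rw [SetLike.mem_coe, mem_nilradical]
  refine ⟨p ^ s, ?_⟩
  have hp0 : ((p : ℕ) : B ⊗[A] B) = 0 := by
    have : ((p : ℕ) : B ⊗[A] B) = algebraMap B (B ⊗[A] B) ((p : ℕ) : B) := by
      rw [map_natCast]
    rw [this, CharP.cast_eq_zero B p, map_zero]
  obtain ⟨r, hr⟩ := exists_add_pow_prime_pow_eq (Fact.out : p.Prime)
    ((1 : B) ⊗ₜ[A] b - b ⊗ₜ[A] (1 : B)) (b ⊗ₜ[A] (1 : B)) s
  rw [sub_add_cancel, hp0, zero_mul, zero_mul, zero_mul, add_zero] at hr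
  obtain ⟨a, ha⟩ := hpow b
  have h1 : ((1 : B) ⊗ₜ[A] b) ^ p ^ s = (b ⊗ₜ[A] (1 : B)) ^ p ^ s := by
    rw [Algebra.TensorProduct.tmul_pow, Algebra.TensorProduct.tmul_pow, one_pow, ← ha,
      Algebra.algebraMap_eq_smul_one, TensorProduct.smul_tmul]
  rw [h1] at hr
  exact (add_eq_right.mp hr.symm)




theorem D_eq_zero_of_mem_pPowerSubalgebra (p : ℕ) [Fact p.Prime] {A B : Type u}
    [CommRing A] [CommRing B] [Algebra A B] [CharP B p] {M : Type*} [AddCommGroup M] [Module A M]
    [Module B M] [IsScalarTower A B M] (D : Derivation A B M) {x : B}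
    (hx : x ∈ EGA41.pPowerSubalgebra p A B) : D x = 0 := by
  induction hx using Algebra.adjoin_induction with
  | mem y hy =>
    obtain ⟨b, rfl⟩ := hy
    rw [Derivation.leibniz_pow]
    have : (p : ℕ) • (b ^ (p - 1) • D b) = ((p : ℕ) : B) • (b ^ (p - 1) • D b) := by
      rw [Nat.cast_smul_eq_nsmul]
    rw [this, CharP.cast_eq_zero B p, zero_smul]
  | algebraMap r => exact D.map_algebraMap r
  | add x y _ _ hx hy => rw [map_add, hx, hy, add_zero]
  | mul x y _ _ hx hy => rw [Derivation.leibniz, hx, hy, smul_zero, smul_zero, add_zero]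

theorem bijective_kaehler_map_of_le_pPowerSubalgebra (p : ℕ) [Fact p.Prime] {A B : Type u}
    [CommRing A] [CommRing B] [Algebra A B] [CharP B p] (A' : Subalgebra A B)
    (hA' : A' ≤ EGA41.pPowerSubalgebra p A B) :
    Function.Bijective (KaehlerDifferential.map A A' B B) := by
  refine ⟨?_, KaehlerDifferential.map_surjective A A' B⟩
  let D := KaehlerDifferential.D A B
  have hD0 : ∀ a' : A', D (a' : B) = 0 := fun a' =>
    D_eq_zero_of_mem_pPowerSubalgebra p D (hA' a'.2)
  let D' : Derivation A' B (Ω[B⁄A]) :=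
    { toFun := D
      map_add' := fun x y => map_add D x y
      map_smul' := fun a' b => by
        change D ((a' : B) * b) = (a' : B) • D b
        rw [Derivation.leibniz, hD0, smul_zero, add_zero]
      map_one_eq_zero' := D.map_one_eq_zero
      leibniz' := fun a b => D.leibniz a b }
  let g : Ω[B⁄A'] →ₗ[B] Ω[B⁄A] := D'.liftKaehlerDifferential
  have hg : g ∘ₗ (KaehlerDifferential.map A A' B B) = LinearMap.id := by
    apply Derivation.liftKaehlerDifferential_unique
    ext b
    change g (KaehlerDifferential.map A A' B B (KaehlerDifferential.D A B b)) =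
      KaehlerDifferential.D A B b
    rw [KaehlerDifferential.map_D]
    exact D'.liftKaehlerDifferential_comp_D b
  intro x y hxy
  have := congrArg g hxy
  rw [← LinearMap.comp_apply, ← LinearMap.comp_apply, hg] at this
  exact this


end Groth.Agent.Lib.Helper6
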