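import Groth.Prelude
import Mathlib

open Polynomial TensorProduct

namespace Groth.Agent.Lib.Helper6

universe u

/-- A monic split polynomial over a field `L` all of whose roots are integral over `A` has
coefficients integral over `A`. -/
theorem isIntegral_coeff_of_splits_of_roots {A L : Type*} [CommRing A] [Field L] [Algebra A L]
    (p : L[X]) (hp : p.Monic) (hs : p.Splits) (hr : ∀ x ∈ p.roots, IsIntegral A x) (i : ℕ) :
    IsIntegral A (p.coeff i) := by
  let T : Subring L := (integralClosure A L).toSubring
  have hmem : p ∈ Polynomial.lifts T.subtype := by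
    rw [hs.eq_prod_roots_of_monic hp]
    refine Subsemiring.multiset_prod_mem _ _ ?_
    intro q hq
    obtain ⟨x, hx, rfl⟩ := Multiset.mem_map.mp hq
    rw [Polynomial.lifts_iff_liftsRing]
    refine Subring.sub_mem _ ?_ ?_
    · rw [← Polynomial.lifts_iff_liftsRing]; exact Polynomial.X_mem_lifts _
    · rw [← Polynomial.lifts_iff_liftsRing]
      exact Polynomial.C'_mem_lifts ⟨⟨x, hr x hx⟩, rfl⟩
  obtain ⟨y, hy⟩ := (Polynomial.lifts_iff_coeff_lifts _).mp hmem i
  rw [← hy]
  exact y.2

theorem isIntegral_charpoly_coeff_of_aeval_eq_zero {A K V : Type*} [CommRing A] [Field K]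
    [Algebra A K] [AddCommGroup V] [Module K V] [Module.Finite K V] (g : Module.End K V)
    (P : A[X]) (hP : P.Monic) (hg : Polynomial.aeval g (P.map (algebraMap A K)) = 0) (i : ℕ) :
    IsIntegral A (g.charpoly.coeff i) := by
  let L := AlgebraicClosure K
  let gL : Module.End L (L ⊗[K] V) := g.baseChange L
  have hchar : gL.charpoly = g.charpoly.map (algebraMap K L) := LinearMap.charpoly_baseChange g L
  have hgL : Polynomial.aeval gL ((P.map (algebraMap A K)).map (algebraMap K L)) = 0 := by
    have h1 : gL = Module.End.baseChangeHom K L V g := rfl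
    rw [Polynomial.aeval_map_algebraMap, h1, Polynomial.aeval_algHom_apply, hg, map_zero]
  have hroots : ∀ x ∈ gL.charpoly.roots, IsIntegral A x := by
    intro x hx
    have hx' : gL.charpoly.IsRoot x := (Polynomial.mem_roots'.mp hx).2
    rw [← Module.End.hasEigenvalue_iff_isRoot_charpoly] at hx'
    obtain ⟨v, hv⟩ := hx'.exists_hasEigenvector
    have h2 := Module.End.aeval_apply_of_hasEigenvector
      (p := (P.map (algebraMap A K)).map (algebraMap K L)) hv
    rw [hgL, LinearMap.zero_apply] at h2
    have h3 : ((P.map (algebraMap A K)).map (algebraMap K L)).eval x = 0 := by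
      rcases smul_eq_zero.mp h2.symm with h | h
      · exact h
      · exact absurd h hv.2
    refine ⟨P, hP, ?_⟩
    rw [Polynomial.eval₂_eq_eval_map, ← h3, Polynomial.map_map, ← IsScalarTower.algebraMap_eq]
  have hcoef : IsIntegral A (gL.charpoly.coeff i) :=
    isIntegral_coeff_of_splits_of_roots gL.charpoly (LinearMap.charpoly_monic gL)
      (IsAlgClosed.splits _) hroots i
  rw [hchar, Polynomial.coeff_map] at hcoef
  exact (isIntegral_algebraMap_iff (algebraMap K L).injective).mp hcoef

theorem isIntegral_charpoly_baseChange_coeff (A : Type u) [CommRing A] (K : Type u) [Field K]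
    [Algebra A K] (E : Type u) [AddCommGroup E] [Module A E] [Module.Finite A E]
    (u : E →ₗ[A] E) (i : ℕ) :
    IsIntegral A (((u.baseChange K).charpoly).coeff i) := by
  obtain ⟨P, hP, hu⟩ := LinearMap.exists_monic_and_aeval_eq_zero A u
  refine isIntegral_charpoly_coeff_of_aeval_eq_zero (u.baseChange K) P hP ?_ i
  have h1 : u.baseChange K = Module.End.baseChangeHom A K E u := rfl
  rw [Polynomial.aeval_map_algebraMap, h1, Polynomial.aeval_algHom_apply, hu, map_zero]

end Groth.Agent.Lib.Helper6
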