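import Groth.Agent.Lib.Helper6Charpoly

/-! EGA II 6.4: determinants of endomorphisms of f.g. modules over a domain. -/

open Polynomial TensorProduct

namespace Groth.Agent.Lib.Helper6

universe u



/-- If `b * a = 1` in an `A`-algebra `K` with `a` coming from `A` and `b` integral over `A`, then
`b` comes from `A`. -/
theorem exists_algebraMap_eq_of_isIntegral_of_mul_eq_one {A K : Type*} [CommRing A] [CommRing K]
    [Algebra A K] (a : A) (b : K) (hab : b * algebraMap A K a = 1) (hb : IsIntegral A b) :
    ∃ y : A, algebraMap A K y = b := by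
  obtain ⟨P, hP, hPb⟩ := hb
  set m := P.natDegree with hm
  have h1 : b ^ m + ∑ i ∈ Finset.range m, algebraMap A K (P.coeff i) * b ^ i = 0 := by
    have := hPb
    rw [hP.as_sum] at this
    simpa [Polynomial.eval₂_add, Polynomial.eval₂_finsetSum, ← hm] using this
  refine ⟨-∑ i ∈ Finset.range m, P.coeff i * a ^ (m - 1 - i), ?_⟩
  have h2 : (b ^ m + ∑ i ∈ Finset.range m, algebraMap A K (P.coeff i) * b ^ i) *
      (algebraMap A K a) ^ m = 0 := by rw [h1, zero_mul]
  have h3 : ∀ i ∈ Finset.range m, algebraMap A K (P.coeff i) * b ^ i * (algebraMap A K a) ^ m =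
      algebraMap A K (P.coeff i * a ^ (m - 1 - i)) * algebraMap A K a := by
    intro i hi
    have hi' : i < m := Finset.mem_range.mp hi
    have e : m = i + ((m - 1 - i) + 1) := by omega
    have hbi : b ^ i * (algebraMap A K a) ^ i = 1 := by rw [← mul_pow, hab, one_pow]
    rw [map_mul, map_pow]
    calc algebraMap A K (P.coeff i) * b ^ i * (algebraMap A K a) ^ m
        = algebraMap A K (P.coeff i) * b ^ i *
            ((algebraMap A K a) ^ i * (algebraMap A K a) ^ (m - 1 - i) * algebraMap A K a) := by
          have e2 : (algebraMap A K a) ^ m = (algebraMap A K a) ^ i *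
              (algebraMap A K a) ^ (m - 1 - i) * algebraMap A K a := by
            rw [← pow_add, ← pow_succ]; congr 1
          rw [e2]
      _ = algebraMap A K (P.coeff i) * (b ^ i * (algebraMap A K a) ^ i) *
            (algebraMap A K a) ^ (m - 1 - i) * algebraMap A K a := by ring
      _ = _ := by rw [hbi, mul_one]
  rw [add_mul, ← mul_pow, hab, one_pow, Finset.sum_mul, Finset.sum_congr rfl h3,
    ← Finset.sum_mul] at h2
  -- h2 : 1 + (∑ algebraMap (c_i a^(m-1-i))) * a' = 0
  have h4 : b = b * 1 := (mul_one b).symm
  rw [map_neg, map_sum]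
  have h5 : (∑ i ∈ Finset.range m, algebraMap A K (P.coeff i * a ^ (m - 1 - i))) *
      algebraMap A K a = -1 := by linear_combination h2
  calc -(∑ i ∈ Finset.range m, algebraMap A K (P.coeff i * a ^ (m - 1 - i)))
      = -(∑ i ∈ Finset.range m, algebraMap A K (P.coeff i * a ^ (m - 1 - i))) *
          (b * algebraMap A K a) := by rw [hab, mul_one]
    _ = -((∑ i ∈ Finset.range m, algebraMap A K (P.coeff i * a ^ (m - 1 - i))) *
          algebraMap A K a) * b := by ring
    _ = b := by rw [h5]; ring

theorem isUnit_of_det_baseChange_of_bijective (A : Type u) [CommRing A] [IsDomain A] (K : Type u)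
    [Field K] [Algebra A K] [IsFractionRing A K] (E : Type u) [AddCommGroup E] [Module A E]
    [Module.Finite A E] (u : E →ₗ[A] E)
    (a : A) (ha : algebraMap A K a = LinearMap.det (u.baseChange K)) (hu : Function.Bijective u) :
    IsUnit a := by
  let e := LinearEquiv.ofBijective u hu
  let v : E →ₗ[A] E := e.symm.toLinearMap
  have hvu : v ∘ₗ u = LinearMap.id := by
    ext x; exact e.symm_apply_apply x
  have h1 : (v.baseChange K) ∘ₗ (u.baseChange K) = LinearMap.id := by
    rw [← LinearMap.baseChange_comp, hvu, LinearMap.baseChange_id]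
  have h2 : LinearMap.det (v.baseChange K) * LinearMap.det (u.baseChange K) = 1 := by
    rw [← LinearMap.det_comp, h1, LinearMap.det_id]
  have h3 : IsIntegral A (LinearMap.det (v.baseChange K)) := by
    rw [LinearMap.det_eq_sign_charpoly_coeff]
    refine IsIntegral.mul ?_ (isIntegral_charpoly_baseChange_coeff A K E v 0)
    exact IsIntegral.pow (IsIntegral.neg isIntegral_one) _
  rw [← ha] at h2
  obtain ⟨y, hy⟩ := exists_algebraMap_eq_of_isIntegral_of_mul_eq_one a _ h2 h3
  rw [← hy, ← map_mul, ← map_one (algebraMap A K)] at h2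
  have h4 : y * a = 1 := IsFractionRing.injective A K h2
  exact IsUnit.of_mul_eq_one _ (by rw [mul_comm]; exact h4)




theorem injective_mk_of_isTorsionFree (A : Type*) [CommRing A] [IsDomain A] (K : Type*)
    [Field K] [Algebra A K] [IsFractionRing A K] (E : Type*) [AddCommGroup E] [Module A E]
    [Module.IsTorsionFree A E] : Function.Injective (TensorProduct.mk A K E 1) := by
  rw [injective_iff_map_eq_zero]
  intro e he
  have := (IsLocalizedModule.eq_zero_iff (nonZeroDivisors A) (TensorProduct.mk A K E 1)).mp he
  obtain ⟨s, hs⟩ := this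
  have hs' : (s : A) • e = 0 := hs
  rcases smul_eq_zero.mp hs' with h | h
  · exact absurd h (nonZeroDivisors.coe_ne_zero s)
  · exact h

theorem bijective_of_det_baseChange_isUnit (A : Type u) [CommRing A] [IsDomain A] (K : Type u)
    [Field K] [Algebra A K] [IsFractionRing A K] (E : Type u) [AddCommGroup E] [Module A E]
    [Module.Finite A E] [Module.IsTorsionFree A E]
    (u : E →ₗ[A] E)
    (hcoeff : ∀ i : ℕ, ((u.baseChange K).charpoly).coeff i ∈ (algebraMap A K).range)
    (a : A) (ha : algebraMap A K a = LinearMap.det (u.baseChange K)) (hunit : IsUnit a) :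
    Function.Bijective u := by
  set χ := (u.baseChange K).charpoly with hχ
  have hlift : χ ∈ Polynomial.lifts (algebraMap A K) :=
    (Polynomial.lifts_iff_coeff_lifts _).mpr fun i => hcoeff i
  obtain ⟨q, hq⟩ := (Polynomial.mem_lifts _).mp hlift
  -- Cayley–Hamilton descends to `E`
  have hCH : Polynomial.aeval u q = 0 := by
    have h1 : Polynomial.aeval (u.baseChange K) (q.map (algebraMap A K)) = 0 := by
      rw [hq]; exact LinearMap.aeval_self_charpoly _
    have h2 : u.baseChange K = Module.End.baseChangeHom A K E u := rfl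
    rw [Polynomial.aeval_map_algebraMap, h2, Polynomial.aeval_algHom_apply] at h1
    ext e
    apply injective_mk_of_isTorsionFree A K E
    have h3 : ((Polynomial.aeval u q).baseChange K) ((1 : K) ⊗ₜ[A] e) = 0 := by
      have h4 : (Polynomial.aeval u q).baseChange K =
          Module.End.baseChangeHom A K E (Polynomial.aeval u q) := rfl
      rw [h4, h1]; rfl
    rw [LinearMap.baseChange_tmul] at h3
    simpa using h3
  -- the constant coefficient is a unit
  have hc : algebraMap A K (q.coeff 0) = (-1) ^ Module.finrank K (K ⊗[A] E) * algebraMap A K a := by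
    rw [ha, LinearMap.det_eq_sign_charpoly_coeff, ← hχ, ← hq, Polynomial.coeff_map, ← mul_assoc,
      ← mul_pow]
    simp
  have hc' : q.coeff 0 = (-1) ^ Module.finrank K (K ⊗[A] E) * a := by
    apply IsFractionRing.injective A K
    rw [hc, map_mul, map_pow, map_neg, map_one]
  have hcu : IsUnit (q.coeff 0) := by
    rw [hc']
    exact (IsUnit.pow _ (IsUnit.neg isUnit_one)).mul hunit
  -- factor `q = divX q * X + C (q.coeff 0)`
  set w : Module.End A E := Polynomial.aeval u q.divX with hw
  have hfac : w * u + algebraMap A (Module.End A E) (q.coeff 0) = 0 := by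
    have := congrArg (Polynomial.aeval u) (Polynomial.divX_mul_X_add q)
    rw [hCH, map_add, map_mul, Polynomial.aeval_X, Polynomial.aeval_C] at this
    exact this
  have hcomm : w * u = u * w := by
    have h1 : w * u = Polynomial.aeval u (q.divX * X) := by rw [map_mul, Polynomial.aeval_X]
    have h2 : u * w = Polynomial.aeval u (X * q.divX) := by rw [map_mul, Polynomial.aeval_X]
    rw [h1, h2, mul_comm]
  constructor
  · -- injective
    rw [← LinearMap.ker_eq_bot, LinearMap.ker_eq_bot']
    intro e he
    have := congrArg (fun φ : Module.End A E => φ e) hfac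
    simp only [LinearMap.add_apply, Module.End.mul_apply, he, map_zero, zero_add,
      Module.algebraMap_end_apply, LinearMap.zero_apply] at this
    exact (hcu.smul_eq_zero).mp this
  · intro e
    obtain ⟨c, hcc⟩ := hcu
    refine ⟨-((c⁻¹ : Aˣ) : A) • w e, ?_⟩
    have := congrArg (fun φ : Module.End A E => φ e) hfac
    rw [hcomm] at this
    simp only [LinearMap.add_apply, Module.End.mul_apply, Module.algebraMap_end_apply,
      LinearMap.zero_apply] at this
    have h5 : u (w e) = -(q.coeff 0 • e) := eq_neg_of_add_eq_zero_left this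
    rw [map_smul, h5, ← hcc, smul_neg, neg_smul, neg_neg, smul_smul, Units.inv_mul, one_smul]


end Groth.Agent.Lib.Helper6
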