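import Groth.Prelude
import Mathlib

open CategoryTheory CategoryTheory.Limits AlgebraicGeometry TopologicalSpace

namespace Groth.Agent.Lib.Helper6

universe u

lemma ker_fg_of_finitePresentation_of_surjective {A B : Type u} [CommRing A] [CommRing B]
    (f : A →+* B) (hf : Function.Surjective f) (hfp : f.FinitePresentation) :
    (RingHom.ker f).FG := by
  algebraize [f]
  have : Algebra.FinitePresentation A B := hfp
  exact Algebra.FinitePresentation.ker_fG_of_surjective (Algebra.ofId A B) hf

theorem locallyOfFinitePresentation_iff_ker_fg_of_isClosedImmersion {X Y : Scheme.{u}} (j : X ⟶ Y)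
    [IsClosedImmersion j] :
    LocallyOfFinitePresentation j ↔ ∀ U : Y.affineOpens, (RingHom.ker (j.app U).hom).FG := by
  constructor
  · intro h U
    have hUaff : IsAffineOpen (j ⁻¹ᵁ U.1) := U.2.preimage j
    have h1 := HasRingHomProperty.appLE (P := @LocallyOfFinitePresentation) j h U
      ⟨_, hUaff⟩ le_rfl
    rw [Scheme.Hom.appLE_eq_app] at h1
    exact ker_fg_of_finitePresentation_of_surjective _ (j.app_surjective U.1 U.2) h1
  · intro h
    rw [HasRingHomProperty.iff_appLE (P := @LocallyOfFinitePresentation)]
    intro U V e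
    have hUaff : IsAffineOpen (j ⁻¹ᵁ U.1) := U.2.preimage j
    have h1 : (j.app U.1).hom.FinitePresentation :=
      RingHom.FinitePresentation.of_surjective _ (j.app_surjective U.1 U.2) (h U)
    have h2 := HasRingHomProperty.appLE (P := @LocallyOfFinitePresentation) (𝟙 X) inferInstance
      ⟨_, hUaff⟩ V e
    have h3 : j.appLE U.1 V.1 e = j.app U.1 ≫ Scheme.Hom.appLE (𝟙 X) (j ⁻¹ᵁ U.1) V.1 e := by
      simp only [Scheme.Hom.appLE, Scheme.Hom.id_app]
      erw [Category.id_comp]
      rfl
    rw [h3, CommRingCat.hom_comp]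
    exact h2.comp h1

end Groth.Agent.Lib.Helper6
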