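import Groth.Agent.Lib.Helper19RegPs
import Groth.Agent.Lib.Helper19PsLiftComplete
import Groth.Agent.Lib.Helper19FSField
import Mathlib

set_option autoImplicit false
universe u

namespace Groth.Agent.Lib.Helper6.Cohen

open IsLocalRing MvPowerSeries Groth.Agent.Lib.Helper19

theorem cohen_coeff_field (R : Type u) [CommRing R] [IsRegularLocalRing R]
    [IsAdicComplete (maximalIdeal R) R]
    (k : Type u) [Field k] [Algebra k R]
    (hk : Function.Bijective (algebraMap k (ResidueField R))) :
    ∃ d : ℕ, Nonempty (R ≃ₐ[k] MvPowerSeries (Fin d) k) := by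
  classical
  let B := Module.finBasis (ResidueField R) (CotangentSpace R)
  set d := Module.finrank (ResidueField R) (CotangentSpace R) with hd
  have hsurj : Function.Surjective (maximalIdeal R).toCotangent := Ideal.toCotangent_surjective _
  choose b hb using fun i => hsurj (B i)
  obtain ⟨ψ, hψX⟩ := exists_algHom_X_eq_of_isAdicComplete (Λ := k) (maximalIdeal R)
    (fun i : Fin d => (b i : R)) (fun i => (b i).2)
  have hψ : ∀ i, ψ (X i) ∈ maximalIdeal R := fun i => by rw [hψX]; exact (b i).2
  have heq : (fun i : Fin d => (maximalIdeal R).toCotangent ⟨ψ (X i), hψ i⟩) = B := by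
    funext i
    have : (⟨ψ (X i), hψ i⟩ : maximalIdeal R) = b i := Subtype.ext (hψX i)
    rw [this]
    exact hb i
  have hR : Function.Surjective ((residue R).comp (algebraMap k R)) := by
    have : ((residue R).comp (algebraMap k R)) = algebraMap k (ResidueField R) := rfl
    rw [this]
    exact hk.2
  let resR := resOfSurj hR
  have hbij := (isRegularLocalRing_iff_ps_bijective ψ hψ resR
    (by rw [heq]; exact B.linearIndependent) (by rw [heq]; exact B.span_eq)).1 inferInstance
  exact ⟨d, ⟨(AlgEquiv.ofBijective ψ hbij).symm⟩⟩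

/-- A complete local ring whose residue field is formally smooth over a base ring `F` has a
coefficient field. -/
theorem exists_section_of_formallySmooth (R : Type u) [CommRing R] [IsLocalRing R]
    [IsAdicComplete (maximalIdeal R) R] (F : Type*) [CommRing F] [Algebra F R]
    [Algebra.FormallySmooth F (ResidueField R)] :
    ∃ g : ResidueField R →+* R, ∀ x, residue R (g x) = x := by
  let f : ResidueField R →ₐ[F] R ⧸ maximalIdeal R := AlgHom.id F _
  obtain ⟨g, hg⟩ := Algebra.FormallySmooth.exists_mkₐ_comp_eq_of_isAdicComplete f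
  refine ⟨g.toRingHom, fun x => ?_⟩
  exact congr($hg x)

lemma formallySmooth_rat (K : Type*) [Field K] [Algebra ℚ K] : Algebra.FormallySmooth ℚ K := by
  haveI : CharZero K := algebraRat.charZero K
  obtain ⟨ι, x, hx⟩ := exists_isTranscendenceBasis' ℚ K
  have halg := hx.isAlgebraic_field
  have : Algebra.IsSeparable (IntermediateField.adjoin ℚ (Set.range x)) K := inferInstance
  exact Algebra.FormallySmooth.of_algebraicIndependent_of_isSeparable hx.1

/-- Existence of coefficient fields in equal characteristic. -/
theorem exists_coeff_field (R : Type u) [CommRing R] [IsLocalRing R]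
    [IsAdicComplete (maximalIdeal R) R] (k₀ : Type u) [Field k₀] [Algebra k₀ R] :
    ∃ g : ResidueField R →+* R, ∀ x, residue R (g x) = x := by
  obtain ⟨p, hp⟩ := CharP.exists k₀
  rcases CharP.char_is_prime_or_zero k₀ p with hpp | rfl
  · haveI : Fact p.Prime := ⟨hpp⟩
    haveI : CharP R p := charP_of_injective_algebraMap (algebraMap k₀ R).injective p
    letI : Algebra (ZMod p) R := ZMod.algebra R p
    haveI := PBasis.formallySmooth_zmod p (ResidueField R)
    exact exists_section_of_formallySmooth R (ZMod p)
  · haveI : CharZero k₀ := CharP.charP_to_charZero k₀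
    letI : Algebra ℚ R := ((algebraMap k₀ R).comp (algebraMap ℚ k₀)).toAlgebra
    haveI hFS : Algebra.FormallySmooth ℚ (ResidueField R) := formallySmooth_rat _
    exact exists_section_of_formallySmooth R ℚ

theorem cohen_equichar (R : Type u) [CommRing R] [IsRegularLocalRing R]
    [IsAdicComplete (maximalIdeal R) R] (k₀ : Type u) [Field k₀] [Algebra k₀ R] :
    ∃ d : ℕ, Nonempty (R ≃+* MvPowerSeries (Fin d) (ResidueField R)) := by
  obtain ⟨g, hg⟩ := exists_coeff_field R k₀
  letI : Algebra (ResidueField R) R := g.toAlgebra
  have hk : Function.Bijective (@algebraMap (ResidueField R) (ResidueField R) _ _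
      (ResidueField.algebra R)) := by
    refine ⟨RingHom.injective _, fun x => ⟨x, ?_⟩⟩
    exact hg x
  obtain ⟨d, ⟨e⟩⟩ := cohen_coeff_field R (ResidueField R) hk
  exact ⟨d, ⟨e.toRingEquiv⟩⟩

end Groth.Agent.Lib.Helper6.Cohen
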