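import Mathlib
import Groth.Agent.Lib.Helper19CohenRingLift

set_option autoImplicit false
universe u

namespace Groth.Agent.Lib.Helper6.CohenFS

open IsLocalRing

theorem main (Λ : Type u) [CommRing Λ] [IsDomain Λ]
    [IsDiscreteValuationRing Λ] [IsAdicComplete (IsLocalRing.maximalIdeal Λ) Λ] (p : ℕ)
    (hp : p.Prime) (hm : IsLocalRing.maximalIdeal Λ = Ideal.span {(p : Λ)}) (n : ℕ) (hn : 1 ≤ n)
    [Algebra (ZMod (p ^ n)) (Λ ⧸ Ideal.span {((p : Λ) ^ n)})] :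
    Algebra.FormallySmooth (ZMod (p ^ n)) (Λ ⧸ Ideal.span {((p : Λ) ^ n)}) := by
  have hΛ : CAlg.IsCohenRing Λ := ⟨inferInstance, inferInstance, inferInstance, p, hp, hm⟩
  apply Algebra.FormallySmooth.of_comp_surjective
  intro B _ _ J hJ φ
  let ψ₀ : Λ →+* B ⧸ J := φ.toRingHom.comp (Ideal.Quotient.mk _)
  have hψ : ∃ k : ℕ, ∀ x ∈ maximalIdeal Λ ^ k, ψ₀ x = 0 := by
    refine ⟨n, fun x hx => ?_⟩
    rw [hm, Ideal.span_singleton_pow] at hx
    have : Ideal.Quotient.mk (Ideal.span {((p : Λ) ^ n)}) x = 0 :=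
      Ideal.Quotient.eq_zero_iff_mem.2 hx
    change φ (Ideal.Quotient.mk _ x) = 0
    rw [this, map_zero]
  obtain ⟨χ, hχ⟩ := Groth.Agent.Lib.Helper19.FlatLift.exists_ringHom_lift_of_isCohenRing hΛ J hJ ψ₀ hψ
  have hpB : ((p : B) ^ n) = 0 := by
    have h1 : ((p ^ n : ℕ) : ZMod (p ^ n)) = 0 := ZMod.natCast_self _
    have h2 := congrArg (algebraMap (ZMod (p ^ n)) B) h1
    rw [map_natCast, map_zero] at h2
    rw [← Nat.cast_pow]
    exact h2
  have hker : ∀ a ∈ Ideal.span {((p : Λ) ^ n)}, χ a = 0 := by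
    intro a ha
    obtain ⟨c, rfl⟩ := Ideal.mem_span_singleton'.1 ha
    rw [map_mul, map_pow, map_natCast, hpB, mul_zero]
  let g₀ : Λ ⧸ Ideal.span {((p : Λ) ^ n)} →+* B := Ideal.Quotient.lift _ χ hker
  let g : Λ ⧸ Ideal.span {((p : Λ) ^ n)} →ₐ[ZMod (p ^ n)] B :=
    { g₀ with
      commutes' := fun r => by
        have : g₀.comp (algebraMap (ZMod (p ^ n)) _) = algebraMap (ZMod (p ^ n)) B :=
          Subsingleton.elim _ _
        exact congrArg (fun f : ZMod (p ^ n) →+* B => f r) this }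
  refine ⟨g, ?_⟩
  apply AlgHom.ext
  intro x
  obtain ⟨y, rfl⟩ := Ideal.Quotient.mk_surjective x
  change Ideal.Quotient.mk J (χ y) = φ (Ideal.Quotient.mk _ y)
  exact congrArg (fun f : Λ →+* B ⧸ J => f y) hχ

end Groth.Agent.Lib.Helper6.CohenFS
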