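import Groth.Prelude
import Mathlib

open CategoryTheory CategoryTheory.Limits

namespace Groth.Agent.Lib.Helper6

universe u

theorem subsingleton_colimit_iff {I : Type u} [SmallCategory I] [IsFiltered I]
    (D : I ⥤ CommRingCat.{u}) (c : Cocone D) (hc : IsColimit c) :
    Subsingleton c.pt ↔ ∃ i : I, Subsingleton (D.obj i) := by
  constructor
  · intro h
    obtain ⟨i₀⟩ := IsFiltered.nonempty (C := I)
    have ht : IsColimit ((forget CommRingCat.{u}).mapCocone c) :=
      isColimitOfPreserves (forget CommRingCat.{u}) hc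
    have h01 : ((forget CommRingCat.{u}).mapCocone c).ι.app i₀ (0 : D.obj i₀) =
        ((forget CommRingCat.{u}).mapCocone c).ι.app i₀ (1 : D.obj i₀) :=
      Subsingleton.elim (α := c.pt) _ _
    obtain ⟨k, f, g, hfg⟩ := (Types.FilteredColimit.isColimit_eq_iff _ ht).mp h01
    refine ⟨k, ?_⟩
    have h1 : (D.map f).hom (0 : D.obj i₀) = (D.map g).hom (1 : D.obj i₀) := hfg
    rw [map_zero, map_one] at h1
    exact subsingleton_of_zero_eq_one h1
  · rintro ⟨i, hi⟩
    have h1 : (c.ι.app i).hom (0 : D.obj i) = (c.ι.app i).hom (1 : D.obj i) := by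
      rw [Subsingleton.elim (0 : D.obj i) 1]
    rw [map_zero, map_one] at h1
    exact subsingleton_of_zero_eq_one h1

end Groth.Agent.Lib.Helper6
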