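import Mathlib

/-!
# Primitive element data for a finite extension of an integrally closed domain of characteristic 0
-/

set_option autoImplicit false

open Polynomial
open scoped nonZeroDivisors IntermediateField

namespace Groth.Agent.Lib.Helper6.ConnA

attribute [local instance] FractionRing.liftAlgebra

/-- Let `A` be an integrally closed domain of characteristic zero and `R` a domain finite and
faithful over `A`. There are `g ∈ R`, `h ≠ 0` in `A` with `h R ⊆ A[g]`, and a Bézout relation
`a μ + b μ' = δ ≠ 0` for the minimal polynomial `μ` of `g`. -/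
theorem exists_primitive_data (A R : Type*) [CommRing A] [IsDomain A] [IsIntegrallyClosed A]
    [CharZero A] [CommRing R] [IsDomain R] [Algebra A R] [Module.Finite A R] [FaithfulSMul A R] :
    ∃ (g : R) (h δ : A) (a b : A[X]), h ≠ 0 ∧ δ ≠ 0 ∧
      (∀ r : R, ∃ F : A[X], aeval g F = h • r) ∧
      a * minpoly A g + b * derivative (minpoly A g) = C δ := by
  classical
  let K := FractionRing A
  let L := FractionRing R
  haveI : Algebra.IsIntegral A R := Algebra.IsIntegral.of_finite A R
  haveI : Algebra.IsAlgebraic A R := inferInstance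
  haveI : FiniteDimensional K L := by
    rw [FiniteDimensional, ← Module.rank_lt_aleph0_iff, Algebra.IsAlgebraic.rank_fractionRing]
    exact Module.rank_lt_aleph0 A R
  haveI : CharZero K := charZero_of_injective_algebraMap (IsFractionRing.injective A K)
  have hinjRL : Function.Injective (algebraMap R L) := IsFractionRing.injective R L
  obtain ⟨α, hα⟩ := Field.exists_primitive_element K L
  -- write `α = g / s`
  haveI hloc : IsLocalization (Algebra.algebraMapSubmonoid R A⁰) L := inferInstance
  obtain ⟨⟨g, ⟨s, hs⟩⟩, hgs⟩ := IsLocalization.surj (Algebra.algebraMapSubmonoid R A⁰) α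
  obtain ⟨a₀, ha₀, rfl⟩ := hs
  simp only at hgs
  have ha₀0 : a₀ ≠ 0 := nonZeroDivisors.ne_zero ha₀
  set gL : L := algebraMap R L g with hgL
  have hsL : algebraMap R L (algebraMap A R a₀) = algebraMap K L (algebraMap A K a₀) := by
    rw [← IsScalarTower.algebraMap_apply, ← IsScalarTower.algebraMap_apply]
  have hK0 : algebraMap K L (algebraMap A K a₀) ≠ 0 := by
    rw [Ne, map_eq_zero, map_eq_zero_iff _ (IsFractionRing.injective A K)]
    exact ha₀0
  have hgtop : K⟮gL⟯ = ⊤ := by
    rw [eq_top_iff, ← hα, IntermediateField.adjoin_simple_le_iff]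
    have : α = (algebraMap K L (algebraMap A K a₀))⁻¹ * gL := by
      rw [← hgs, hsL, mul_comm α, ← mul_assoc, inv_mul_cancel₀ hK0, one_mul]
    rw [this]
    apply mul_mem
    · apply inv_mem
      exact IntermediateField.algebraMap_mem _ _
    · exact IntermediateField.mem_adjoin_simple_self K gL
  have hgint : IsIntegral A g := Algebra.IsIntegral.isIntegral g
  have hgLalg : IsAlgebraic K gL := Algebra.IsAlgebraic.isAlgebraic gL
  -- every element of `R` has a multiple in `A[g]`
  have hmult : ∀ r : R, ∃ (c : A) (F : A[X]), c ≠ 0 ∧ aeval g F = c • r := by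
    intro r
    have hmem : algebraMap R L r ∈ K⟮gL⟯ := by rw [hgtop]; trivial
    rw [← IntermediateField.mem_toSubalgebra,
      IntermediateField.adjoin_simple_toSubalgebra_of_isAlgebraic hgLalg,
      Algebra.adjoin_singleton_eq_range_aeval] at hmem
    obtain ⟨P, hP⟩ := hmem
    change aeval gL P = algebraMap R L r at hP
    obtain ⟨c, hc, hcP⟩ := IsLocalization.integerNormalization_spec A⁰ P
    refine ⟨c, IsLocalization.integerNormalization A⁰ P, nonZeroDivisors.ne_zero hc, ?_⟩
    apply hinjRL
    have h1 : aeval gL ((IsLocalization.integerNormalization A⁰ P).map (algebraMap A K)) =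
        algebraMap R L (aeval g (IsLocalization.integerNormalization A⁰ P)) := by
      rw [aeval_map_algebraMap, hgL, aeval_algebraMap_apply]
    rw [← h1, hcP, ← algebraMap_smul K c P, Polynomial.smul_eq_C_mul, map_mul, aeval_C, hP,
      Algebra.smul_def, map_mul, ← IsScalarTower.algebraMap_apply, ← IsScalarTower.algebraMap_apply]
  -- common multiplier
  obtain ⟨S, hS⟩ := (Module.Finite.fg_top : (⊤ : Submodule A R).FG)
  choose c F hc hF using hmult
  set h : A := ∏ s ∈ S, c s with hh
  have hh0 : h ≠ 0 := Finset.prod_ne_zero_iff.2 fun s _ => hc s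
  have hall : ∀ r : R, ∃ F' : A[X], aeval g F' = h • r := by
    intro r
    have hr : r ∈ Submodule.span A (S : Set R) := by rw [hS]; trivial
    induction hr using Submodule.span_induction with
    | mem x hx =>
      refine ⟨C (∏ s ∈ S.erase x, c s) * F x, ?_⟩
      rw [map_mul, aeval_C, hF x, hh, ← Finset.mul_prod_erase S c hx]
      simp only [Algebra.smul_def, map_mul]
      ring
    | zero => exact ⟨0, by simp⟩
    | add x y _ _ hx hy =>
      obtain ⟨Fx, hFx⟩ := hx
      obtain ⟨Fy, hFy⟩ := hy
      exact ⟨Fx + Fy, by rw [map_add, hFx, hFy, smul_add]⟩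
    | smul t x _ hx =>
      obtain ⟨Fx, hFx⟩ := hx
      exact ⟨C t * Fx, by rw [map_mul, aeval_C, hFx, ← Algebra.smul_def, smul_comm]⟩
  -- separability
  haveI : Algebra.IsSeparable K L := inferInstance
  have hsep : (minpoly K gL).Separable := Algebra.IsSeparable.isSeparable K gL
  have hmin : minpoly K gL = (minpoly A g).map (algebraMap A K) :=
    minpoly.isIntegrallyClosed_eq_field_fractions K L hgint
  rw [hmin] at hsep
  obtain ⟨a, b, hab⟩ := hsep
  obtain ⟨s₁, hs₁, ha⟩ := IsLocalization.integerNormalization_spec A⁰ a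
  obtain ⟨s₂, hs₂, hb⟩ := IsLocalization.integerNormalization_spec A⁰ b
  refine ⟨g, h, s₁ * s₂, C s₂ * IsLocalization.integerNormalization A⁰ a,
    C s₁ * IsLocalization.integerNormalization A⁰ b, hh0,
    mul_ne_zero (nonZeroDivisors.ne_zero hs₁) (nonZeroDivisors.ne_zero hs₂), hall, ?_⟩
  apply Polynomial.map_injective (algebraMap A K) (IsFractionRing.injective A K)
  rw [Polynomial.map_add, Polynomial.map_mul, Polynomial.map_mul, Polynomial.map_mul,
    Polynomial.map_mul, ha, hb, ← derivative_map, map_C, map_C, map_C, map_mul]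
  rw [derivative_map] at hab ⊢
  have : C ((algebraMap A K) s₂) * s₁ • a * map (algebraMap A K) (minpoly A g) +
      C ((algebraMap A K) s₁) * s₂ • b * map (algebraMap A K) (derivative (minpoly A g)) =
      C ((algebraMap A K) s₁ * (algebraMap A K) s₂) *
        (a * map (algebraMap A K) (minpoly A g) +
          b * map (algebraMap A K) (derivative (minpoly A g))) := by
    rw [← algebraMap_smul K s₁ a, ← algebraMap_smul K s₂ b, Polynomial.smul_eq_C_mul,
      Polynomial.smul_eq_C_mul, C_mul]
    ring
  rw [this, hab, mul_one]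

end Groth.Agent.Lib.Helper6.ConnA
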