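import Mathlib

/-!
# One-variable input: holomorphic off a finite set with polynomial growth ⇒ polynomial
-/

set_option autoImplicit false

open Topology Filter Polynomial Metric

namespace Groth.Agent.Lib.Helper6.ConnE

/-- An entire function of polynomial growth of order `N` has vanishing higher derivatives at 0. -/
lemma iteratedDeriv_eq_zero_of_growth (f : ℂ → ℂ) (hf : Differentiable ℂ f) (C : ℝ) (N : ℕ)
    (hb : ∀ t, ‖f t‖ ≤ C * (1 + ‖t‖) ^ N) (k : ℕ) (hk : N < k) : iteratedDeriv k f 0 = 0 := by
  have hC : 0 ≤ C := by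
    have h0 := hb 0
    simp only [norm_zero, add_zero, one_pow, mul_one] at h0
    exact (norm_nonneg _).trans h0
  set K : ℝ := k.factorial * C * 2 ^ N with hK
  have hK0 : 0 ≤ K := by positivity
  have key : ∀ R : ℝ, 1 ≤ R → ‖iteratedDeriv k f 0‖ ≤ K / R := by
    intro R hR
    have hR0 : 0 < R := lt_of_lt_of_le one_pos hR
    have h1 := Complex.norm_iteratedDeriv_le_of_forall_mem_sphere_norm_le (c := 0) (R := R)
      (C := C * (1 + R) ^ N) (f := f) k hR0 hf.diffContOnCl (by
        intro z hz
        have : ‖z‖ = R := by simpa using hz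
        rw [← this]
        exact hb z)
    refine h1.trans ?_
    have h2 : (1 + R) ^ N ≤ (2 * R) ^ N := by
      apply pow_le_pow_left₀ (by positivity)
      linarith
    have h3 : R ^ (N + 1) ≤ R ^ k := pow_le_pow_right₀ hR hk
    have h4 : (0 : ℝ) < R ^ k := by positivity
    rw [div_le_div_iff₀ h4 hR0]
    calc ↑k.factorial * (C * (1 + R) ^ N) * R
        ≤ ↑k.factorial * (C * (2 * R) ^ N) * R := by gcongr
      _ = K * R ^ (N + 1) := by rw [hK, mul_pow]; ring
      _ ≤ K * R ^ k := by gcongr
  by_contra hne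
  have hpos : 0 < ‖iteratedDeriv k f 0‖ := norm_pos_iff.2 hne
  set a := ‖iteratedDeriv k f 0‖ with ha
  have h5 := key (max 1 (K / a + 1)) (le_max_left _ _)
  have hR0 : 0 < max 1 (K / a + 1) := lt_of_lt_of_le one_pos (le_max_left _ _)
  rw [le_div_iff₀ hR0] at h5
  have h6 : K / a + 1 ≤ max 1 (K / a + 1) := le_max_right _ _
  have h7 : a * (K / a + 1) ≤ K := (mul_le_mul_of_nonneg_left h6 hpos.le).trans h5
  have h8 : a * (K / a + 1) = K + a := by field_simp
  linarith

/-- An entire function of polynomial growth of order `N` is a polynomial of degree `≤ N`. -/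
theorem exists_polynomial_of_entire (f : ℂ → ℂ) (hf : Differentiable ℂ f) (C : ℝ) (N : ℕ)
    (hb : ∀ t, ‖f t‖ ≤ C * (1 + ‖t‖) ^ N) :
    ∃ p : ℂ[X], p.natDegree ≤ N ∧ ∀ t, f t = p.eval t := by
  refine ⟨∑ k ∈ Finset.range (N + 1),
    Polynomial.C ((k.factorial : ℂ)⁻¹ * iteratedDeriv k f 0) * X ^ k, ?_, ?_⟩
  · apply Polynomial.natDegree_sum_le_of_forall_le
    intro k hk
    refine (Polynomial.natDegree_C_mul_X_pow_le _ _).trans ?_
    exact Nat.lt_succ_iff.1 (Finset.mem_range.1 hk)
  · intro t
    have h := Complex.taylorSeries_eq_of_entire' (c := 0) (z := t) hf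
    rw [← h, tsum_eq_sum (s := Finset.range (N + 1))]
    · simp [Polynomial.eval_finsetSum]
    · intro k hk
      have : N < k := by
        by_contra h'
        exact hk (Finset.mem_range.2 (Nat.lt_succ_iff.2 (not_lt.1 h')))
      rw [iteratedDeriv_eq_zero_of_growth f hf C N hb k this]
      simp

/-- **Lemma E**: a function holomorphic off a finite set, of polynomial growth of order `N`, agrees
off that set with a polynomial of degree `≤ N`. -/
theorem exists_polynomial_of_diff_off_finite (S : Finset ℂ) (C : ℝ) (N : ℕ) :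
    ∀ f : ℂ → ℂ, DifferentiableOn ℂ f (S : Set ℂ)ᶜ → (∀ t, t ∉ S → ‖f t‖ ≤ C * (1 + ‖t‖) ^ N) →
    ∃ p : ℂ[X], p.natDegree ≤ N ∧ ∀ t, t ∉ S → f t = p.eval t := by
  classical
  induction S using Finset.induction_on with
  | empty =>
    intro f hf hb
    have hf' : Differentiable ℂ f := by
      intro t
      have : (((∅ : Finset ℂ) : Set ℂ)ᶜ) = Set.univ := by simp
      rw [this] at hf
      exact hf.differentiableAt Filter.univ_mem
    obtain ⟨p, hp, hpe⟩ := exists_polynomial_of_entire f hf' C N (fun t => hb t (by simp))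
    exact ⟨p, hp, fun t _ => hpe t⟩
  | insert s S' hs ih =>
    intro f hf hb
    -- a small ball around `s` missing `S'`
    have hS'c : IsOpen ((S' : Set ℂ)ᶜ) := S'.finite_toSet.isClosed.isOpen_compl
    have hsS' : s ∈ ((S' : Set ℂ)ᶜ) := by simpa using hs
    obtain ⟨r, hr, hball⟩ := Metric.isOpen_iff.1 hS'c s hsS'
    set f' : ℂ → ℂ := Function.update f s (limUnder (𝓝[≠] s) f) with hf'
    have hsub : ball s r \ {s} ⊆ ((insert s S' : Finset ℂ) : Set ℂ)ᶜ := by
      rintro t ⟨ht, hts⟩
      simp only [Finset.coe_insert, Set.mem_compl_iff, Set.mem_insert_iff, not_or]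
      exact ⟨hts, hball ht⟩
    have hd1 : DifferentiableOn ℂ f' (ball s r) := by
      apply Complex.differentiableOn_update_limUnder_of_bddAbove (ball_mem_nhds s hr)
        (hf.mono hsub)
      refine ⟨|C| * (1 + (‖s‖ + r)) ^ N, ?_⟩
      rintro _ ⟨t, ht, rfl⟩
      have htS : t ∉ insert s S' := by
        have := hsub ht
        simpa using this
      refine (hb t htS).trans ?_
      have h1 : ‖t‖ ≤ ‖s‖ + r := by
        have : ‖t - s‖ < r := by simpa [dist_eq_norm] using ht.1
        calc ‖t‖ = ‖s + (t - s)‖ := by ring_nf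
          _ ≤ ‖s‖ + ‖t - s‖ := norm_add_le _ _
          _ ≤ ‖s‖ + r := by linarith
      calc C * (1 + ‖t‖) ^ N ≤ |C| * (1 + ‖t‖) ^ N := by
            apply mul_le_mul_of_nonneg_right (le_abs_self C); positivity
        _ ≤ |C| * (1 + (‖s‖ + r)) ^ N := by gcongr
    have heq : ∀ t, t ≠ s → f' t = f t := fun t ht => Function.update_of_ne ht _ _
    -- differentiable on the complement of S'
    have hd2 : DifferentiableOn ℂ f' (S' : Set ℂ)ᶜ := by
      intro t ht
      by_cases hts : t = s
      · subst hts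
        exact (hd1.differentiableAt (ball_mem_nhds t hr)).differentiableWithinAt
      · have htS : t ∈ ((insert s S' : Finset ℂ) : Set ℂ)ᶜ := by
          simp only [Finset.coe_insert, Set.mem_compl_iff, Set.mem_insert_iff, not_or]
          exact ⟨hts, ht⟩
        have hopen : IsOpen (((insert s S' : Finset ℂ) : Set ℂ)ᶜ) :=
          (insert s S').finite_toSet.isClosed.isOpen_compl
        have h1 : DifferentiableAt ℂ f t := hf.differentiableAt (hopen.mem_nhds htS)
        have h2 : f' =ᶠ[𝓝 t] f := by
          filter_upwards [isOpen_ne.mem_nhds hts] with u hu using heq u hu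
        exact (h1.congr_of_eventuallyEq h2).differentiableWithinAt
    -- the bound at `s`
    have hb' : ∀ t, t ∉ S' → ‖f' t‖ ≤ C * (1 + ‖t‖) ^ N := by
      intro t ht
      by_cases hts : t = s
      · subst hts
        have hcont : ContinuousAt f' t := (hd1.differentiableAt (ball_mem_nhds t hr)).continuousAt
        have h1 : Tendsto (fun u => ‖f' u‖) (𝓝[≠] t) (𝓝 ‖f' t‖) :=
          (hcont.norm).tendsto.mono_left nhdsWithin_le_nhds
        have h2 : Tendsto (fun u : ℂ => C * (1 + ‖u‖) ^ N) (𝓝[≠] t) (𝓝 (C * (1 + ‖t‖) ^ N)) := by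
          have : Continuous (fun u : ℂ => C * (1 + ‖u‖) ^ N) := by fun_prop
          exact this.continuousAt.tendsto.mono_left nhdsWithin_le_nhds
        apply le_of_tendsto_of_tendsto h1 h2
        have hmem : ball t r \ {t} ∈ 𝓝[≠] t := by
          rw [Set.sdiff_eq, Set.inter_comm]
          exact inter_mem_nhdsWithin _ (ball_mem_nhds t hr)
        filter_upwards [hmem] with u hu
        rw [heq u hu.2]
        apply hb
        have := hsub hu
        simpa using this
      · rw [heq t hts]
        apply hb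
        simp only [Finset.mem_insert, not_or]
        exact ⟨hts, ht⟩
    obtain ⟨p, hp, hpe⟩ := ih f' hd2 hb'
    refine ⟨p, hp, fun t ht => ?_⟩
    simp only [Finset.mem_insert, not_or] at ht
    rw [← heq t ht.1]
    exact hpe t ht.2

end Groth.Agent.Lib.Helper6.ConnE
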