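import Mathlib
import Groth.Agent.Lib.Helper6ConnE

/-!
# Several variables: holomorphic off a hypersurface with polynomial growth ⇒ polynomial
-/

set_option autoImplicit false

open Topology Filter Metric MvPolynomial

namespace Groth.Agent.Lib.Helper6.ConnP

/-- a nonzero polynomial does not vanish identically on a nonempty open set -/
lemma exists_eval_ne_zero_of_isOpen {n : ℕ} (G : MvPolynomial (Fin n) ℂ) (hG : G ≠ 0)
    (O : Set (Fin n → ℂ)) (hO : IsOpen O) (hne : O.Nonempty) : ∃ u ∈ O, eval u G ≠ 0 := by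
  obtain ⟨v, hv⟩ := hne
  obtain ⟨ε, hε, hball⟩ := Metric.isOpen_iff.1 hO v hv
  by_contra hcon
  push Not at hcon
  apply hG
  refine MvPolynomial.funext_set (fun i => ball (v i) ε) (fun i => ?_) (fun x hx => ?_)
  · exact infinite_of_mem_nhds (v i) (ball_mem_nhds _ hε)
  · rw [map_zero]
    apply hcon
    apply hball
    rw [ball_pi _ hε]
    exact hx

lemma isOpen_eval_ne_zero {n : ℕ} (H : MvPolynomial (Fin n) ℂ) :
    IsOpen {v : Fin n → ℂ | eval v H ≠ 0} :=
  isOpen_ne_fun (MvPolynomial.continuous_eval H) continuous_const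

lemma differentiable_cons_right {n : ℕ} (t : ℂ) :
    Differentiable ℂ (fun x' : Fin n → ℂ => (Fin.cons t x' : Fin (n + 1) → ℂ)) := by
  rw [differentiable_pi]
  intro i
  refine Fin.cases ?_ (fun j => ?_) i
  · simp only [Fin.cons_zero]; exact differentiable_const _
  · simp only [Fin.cons_succ]; exact differentiable_apply j

lemma differentiable_cons_left {n : ℕ} (x' : Fin n → ℂ) :
    Differentiable ℂ (fun t : ℂ => (Fin.cons t x' : Fin (n + 1) → ℂ)) := by
  rw [differentiable_pi]
  intro i
  refine Fin.cases ?_ (fun j => ?_) i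
  · simp only [Fin.cons_zero]; exact differentiable_id
  · simp only [Fin.cons_succ]; exact differentiable_const _

lemma norm_cons_le {n : ℕ} (t : ℂ) (x' : Fin n → ℂ) :
    ‖(Fin.cons t x' : Fin (n + 1) → ℂ)‖ ≤ max ‖t‖ ‖x'‖ := by
  rw [pi_norm_le_iff_of_nonneg (le_max_of_le_left (norm_nonneg _))]
  intro i
  refine Fin.cases ?_ (fun j => ?_) i
  · simp only [Fin.cons_zero]; exact le_max_left _ _
  · simp only [Fin.cons_succ]; exact (norm_le_pi_norm x' j).trans (le_max_right _ _)

lemma one_add_norm_cons_le {n : ℕ} (t : ℂ) (x' : Fin n → ℂ) :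
    1 + ‖(Fin.cons t x' : Fin (n + 1) → ℂ)‖ ≤ (1 + ‖t‖) * (1 + ‖x'‖) := by
  have h := norm_cons_le t x'
  have h1 : max ‖t‖ ‖x'‖ ≤ ‖t‖ + ‖x'‖ := max_le (by linarith [norm_nonneg x'])
    (by linarith [norm_nonneg t])
  nlinarith [norm_nonneg t, norm_nonneg x', mul_nonneg (norm_nonneg t) (norm_nonneg x')]

lemma eval_cons_eq {n : ℕ} (H : MvPolynomial (Fin (n + 1)) ℂ) (t : ℂ) (x' : Fin n → ℂ) :
    eval x' (Polynomial.eval (C t) (finSuccEquiv ℂ n H)) = eval (Fin.cons t x') H := by
  rw [eval_polynomial_eval_finSuccEquiv, eval_C]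
  rfl

lemma eval_cons_eq' {n : ℕ} (H : MvPolynomial (Fin (n + 1)) ℂ) (t : ℂ) (x' : Fin n → ℂ) :
    Polynomial.eval t (Polynomial.map (eval x') (finSuccEquiv ℂ n H)) = eval (Fin.cons t x') H :=
  (eval_eq_eval_mv_eval' x' t H).symm

lemma eval_aeval_X0 {n : ℕ} (v : Fin (n + 1) → ℂ) (L : Polynomial ℂ) :
    eval v (Polynomial.aeval (X 0 : MvPolynomial (Fin (n + 1)) ℂ) L) = L.eval (v 0) := by
  induction L using Polynomial.induction_on' with
  | add p q hp hq => simp [hp, hq]
  | monomial k a => simp [Polynomial.aeval_monomial, MvPolynomial.algebraMap_eq]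

/-- **Proposition P(n)**: a function holomorphic on the complement of a hypersurface in `ℂⁿ`, of
polynomial growth, agrees there with a polynomial. -/
theorem exists_mvPolynomial_of_diff (n : ℕ) :
    ∀ (H : MvPolynomial (Fin n) ℂ), H ≠ 0 → ∀ (c : (Fin n → ℂ) → ℂ) (C : ℝ) (N : ℕ), 0 ≤ C →
      DifferentiableOn ℂ c {v | eval v H ≠ 0} →
      (∀ v, eval v H ≠ 0 → ‖c v‖ ≤ C * (1 + ‖v‖) ^ N) →
      ∃ Q : MvPolynomial (Fin n) ℂ, ∀ v, eval v H ≠ 0 → c v = eval v Q := by
  classical
  induction n with
  | zero =>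
    intro H hH c C N hC hd hb
    refine ⟨MvPolynomial.C (c 0), fun v _ => ?_⟩
    rw [eval_C]
    congr 1
    exact Subsingleton.elim _ _
  | succ n ih =>
    intro H hH c C N hC hd hb
    set Hp := finSuccEquiv ℂ n H with hHp
    have hHp0 : Hp ≠ 0 := by
      rw [hHp]; exact (map_ne_zero_iff _ (finSuccEquiv ℂ n).injective).2 hH
    -- the bad values of `t`
    set bad : Set ℂ := {t | Polynomial.eval (MvPolynomial.C t) Hp = 0} with hbad
    have hbadfin : bad.Finite := by
      by_contra hinf
      apply hHp0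
      apply Polynomial.eq_zero_of_infinite_isRoot
      have : (MvPolynomial.C '' bad : Set (MvPolynomial (Fin n) ℂ)).Infinite :=
        (Set.Infinite.image (C_injective (Fin n) ℂ).injOn hinf)
      apply this.mono
      rintro _ ⟨t, ht, rfl⟩
      exact ht
    obtain ⟨s, hs_sub, hs_card⟩ := (hbadfin.infinite_compl).exists_subset_card_eq (N + 1)
    have hgood : ∀ t ∈ s, Polynomial.eval (MvPolynomial.C t) Hp ≠ 0 := fun t ht => hs_sub ht
    -- induction hypothesis on the slices
    have hQ : ∀ t : ℂ, t ∈ s → ∃ Q : MvPolynomial (Fin n) ℂ, ∀ x' : Fin n → ℂ,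
        eval x' (Polynomial.eval (MvPolynomial.C t) Hp) ≠ 0 → c (Fin.cons t x') = eval x' Q := by
      intro t ht
      apply ih (Polynomial.eval (MvPolynomial.C t) Hp) (hgood t ht) (fun x' => c (Fin.cons t x'))
        (C * (1 + ‖t‖) ^ N) N (by positivity)
      · apply hd.comp (differentiable_cons_right t).differentiableOn
        intro x' hx'
        simp only [Set.mem_ofPred_eq] at hx' ⊢
        rwa [hHp, eval_cons_eq] at hx'
      · intro x' hx'
        rw [hHp, eval_cons_eq] at hx'
        refine (hb _ hx').trans ?_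
        rw [mul_assoc, ← mul_pow]
        gcongr
        exact one_add_norm_cons_le t x'
    choose! Q hQ using hQ
    set Qtot : MvPolynomial (Fin (n + 1)) ℂ :=
      ∑ ti ∈ s, rename Fin.succ (Q ti) * Polynomial.aeval (X 0 : MvPolynomial (Fin (n + 1)) ℂ)
        (Lagrange.basis s id ti) with hQtot
    have hevalQ : ∀ (t : ℂ) (x' : Fin n → ℂ), eval (Fin.cons t x') Qtot =
        ∑ ti ∈ s, eval x' (Q ti) * Polynomial.eval t (Lagrange.basis s id ti) := by
      intro t x'
      rw [hQtot, map_sum]
      apply Finset.sum_congr rfl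
      intro ti _
      rw [map_mul, eval_rename]
      congr 1
      rw [eval_aeval_X0, Fin.cons_zero]
    refine ⟨Qtot, ?_⟩
    -- Step 1: equality on the good set
    have h1 : ∀ (t : ℂ) (x' : Fin n → ℂ), eval (Fin.cons t x') H ≠ 0 →
        (∀ ti ∈ s, eval x' (Polynomial.eval (MvPolynomial.C ti) Hp) ≠ 0) →
        c (Fin.cons t x') = eval (Fin.cons t x') Qtot := by
      intro t x' ht hx'
      set hx : Polynomial ℂ := Polynomial.map (eval x') Hp with hhx
      have hxeval : ∀ u : ℂ, Polynomial.eval u hx = eval (Fin.cons u x') H := fun u =>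
        eval_cons_eq' H u x'
      have hsne : s.Nonempty := by
        rw [← Finset.card_pos, hs_card]; exact Nat.succ_pos N
      obtain ⟨t0, ht0⟩ := hsne
      have hx0 : hx ≠ 0 := by
        intro h0
        have := hx' t0 ht0
        rw [hHp, eval_cons_eq, ← hxeval, h0, Polynomial.eval_zero] at this
        exact this rfl
      set S : Finset ℂ := hx.roots.toFinset with hS
      have hSmem : ∀ u, u ∉ S ↔ eval (Fin.cons u x') H ≠ 0 := by
        intro u
        rw [hS, Multiset.mem_toFinset, Polynomial.mem_roots hx0, Polynomial.IsRoot, hxeval]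
      set f : ℂ → ℂ := fun u => c (Fin.cons u x') with hf
      have hfd : DifferentiableOn ℂ f (S : Set ℂ)ᶜ := by
        apply hd.comp (differentiable_cons_left x').differentiableOn
        intro u hu
        simp only [Set.mem_compl_iff, Finset.mem_coe] at hu
        exact (hSmem u).1 hu
      have hfb : ∀ u, u ∉ S → ‖f u‖ ≤ (C * (1 + ‖x'‖) ^ N) * (1 + ‖u‖) ^ N := by
        intro u hu
        refine (hb _ ((hSmem u).1 hu)).trans ?_
        rw [mul_assoc, ← mul_pow]
        gcongr
        rw [mul_comm]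
        exact one_add_norm_cons_le u x'
      obtain ⟨p, hp, hpe⟩ := ConnE.exists_polynomial_of_diff_off_finite S _ N f hfd hfb
      have hpdeg : p.degree < s.card := by
        rw [hs_card]
        refine lt_of_le_of_lt Polynomial.degree_le_natDegree ?_
        exact_mod_cast Nat.lt_succ_of_le hp
      have hinterp : p = Lagrange.interpolate s id (fun ti => eval x' (Q ti)) := by
        apply Lagrange.eq_interpolate_of_eval_eq _ (Set.injOn_id _) hpdeg
        intro ti hti
        have hti' : ti ∉ S := by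
          rw [hSmem]
          have := hx' ti hti
          rwa [hHp, eval_cons_eq] at this
        rw [id, ← hpe ti hti', hf]
        exact hQ ti hti x' (hx' ti hti)
      have htS : t ∉ S := (hSmem t).2 ht
      have h2 : c (Fin.cons t x') = p.eval t := hpe t htS
      rw [hevalQ, h2, hinterp, Lagrange.interpolate_apply, Polynomial.eval_finsetSum]
      apply Finset.sum_congr rfl
      intro ti _
      rw [Polynomial.eval_mul, Polynomial.eval_C]
    -- Step 2: density
    set G : MvPolynomial (Fin (n + 1)) ℂ :=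
      H * ∏ ti ∈ s, rename Fin.succ (Polynomial.eval (MvPolynomial.C ti) Hp) with hG
    have hG0 : G ≠ 0 := by
      rw [hG]
      apply mul_ne_zero hH
      rw [Finset.prod_ne_zero_iff]
      intro ti hti
      exact (map_ne_zero_iff _ (rename_injective _ (Fin.succ_injective n))).2 (hgood ti hti)
    have hgoodpt : ∀ u : Fin (n + 1) → ℂ, eval u G ≠ 0 → c u = eval u Qtot := by
      intro u hu
      rw [hG, map_mul, map_prod] at hu
      have hu1 : eval u H ≠ 0 := left_ne_zero_of_mul hu
      have hu2 := right_ne_zero_of_mul hu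
      rw [Finset.prod_ne_zero_iff] at hu2
      have hcons : u = Fin.cons (u 0) (Fin.tail u) := (Fin.cons_self_tail u).symm
      rw [hcons]
      apply h1
      · rw [← hcons]; exact hu1
      · intro ti hti
        have := hu2 ti hti
        rw [eval_rename] at this
        exact this
    intro v hv
    by_contra hne
    have hcont : ContinuousOn (fun u => c u - eval u Qtot) {v | eval v H ≠ 0} :=
      hd.continuousOn.sub (MvPolynomial.continuous_eval Qtot).continuousOn
    have hO : IsOpen ({v | eval v H ≠ 0} ∩ (fun u => c u - eval u Qtot) ⁻¹' {z | z ≠ 0}) :=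
      hcont.isOpen_inter_preimage (isOpen_eval_ne_zero H) isOpen_ne
    obtain ⟨u, hu, huG⟩ := exists_eval_ne_zero_of_isOpen G hG0 _ hO ⟨v, hv, sub_ne_zero.2 hne⟩
    exact hu.2 (sub_eq_zero.2 (hgoodpt u huG))

end Groth.Agent.Lib.Helper6.ConnP
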