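import Mathlib
import Groth.Agent.Lib.Helper6AnIFT

/-!
# Local holomorphic root functions of a family of monic separable polynomials
-/

set_option autoImplicit false

open Topology Filter Metric Polynomial
open Groth.Agent.Lib.Helper6.AnIFT

namespace Groth.Agent.Lib.Helper6.ConnZ

/-- implicit function theorem for the universal polynomial, with a holomorphic implicit function -/
theorem exists_implicit_diff (n : ℕ) (c₀ : Fin n → ℂ) (t₀ a : ℂ) (ha : a ≠ 0)
    (h0 : polyFun n (c₀, t₀) = 0)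
    (hd : HasDerivAt (fun t => polyFun n (c₀, t)) a t₀) :
    ∃ (W : Set (Fin n → ℂ)) (D : Set ℂ) (ρ : (Fin n → ℂ) → ℂ), IsOpen W ∧ IsOpen D ∧ c₀ ∈ W ∧
      t₀ ∈ D ∧ DifferentiableOn ℂ ρ W ∧ ρ c₀ = t₀ ∧
      ∀ c ∈ W, ∀ t ∈ D, polyFun n (c, t) = 0 ↔ ρ c = t := by
  set u : (Fin n → ℂ) × ℂ := (c₀, t₀) with hu
  have cdf : ContDiffAt ℂ 1 (polyFun n) u := ((contDiff_polyFun n).of_le le_top).contDiffAt
  have pn : (1 : WithTop ℕ∞) ≠ 0 := one_ne_zero
  have hs : HasStrictFDerivAt (polyFun n) (fderiv ℂ (polyFun n) u) u := cdf.hasStrictFDerivAt pn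
  have hpart : (fderiv ℂ (polyFun n) u) ((0 : Fin n → ℂ), (1 : ℂ)) = a := by
    have h1 : HasDerivAt (fun t : ℂ => ((c₀, t) : (Fin n → ℂ) × ℂ)) ((0 : Fin n → ℂ), (1 : ℂ)) t₀ :=
      (hasDerivAt_const t₀ c₀).prodMk (hasDerivAt_id t₀)
    have h2 := hs.hasFDerivAt.comp_hasDerivAt t₀ h1
    exact h2.unique hd
  have hinv : ((fderiv ℂ (polyFun n) u) ∘L (ContinuousLinearMap.inr ℂ (Fin n → ℂ) ℂ)).IsInvertible := by
    refine ⟨ContinuousLinearEquiv.unitsEquivAut ℂ (Units.mk0 a ha), ?_⟩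
    apply ContinuousLinearMap.ext_ring
    simp [hpart]
  set ψ := cdf.implicitFunction pn hinv with hψ
  have hev := cdf.eventually_apply_eq_iff_implicitFunction pn hinv
  have hcd : ContDiffAt ℂ 1 ψ c₀ := cdf.contDiffAt_implicitFunction pn hinv
  have hself : ψ c₀ = t₀ := cdf.implicitFunction_apply_self pn hinv
  have hcd' : ∀ᶠ c in 𝓝 c₀, DifferentiableAt ℂ ψ c := by
    have := hcd.eventually (by simp)
    filter_upwards [this] with c hc using hc.differentiableAt one_ne_zero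
  have hev' : ∀ᶠ v in 𝓝 c₀ ×ˢ 𝓝 t₀, polyFun n v = polyFun n u ↔ ψ v.1 = v.2 := by
    rw [← nhds_prod_eq]; exact hev
  rw [Filter.eventually_prod_iff] at hev'
  obtain ⟨pa, hpa, pb, hpb, hab⟩ := hev'
  obtain ⟨W₁, hW₁sub, hW₁o, hcW₁⟩ := _root_.mem_nhds_iff.1 hpa
  obtain ⟨D, hDsub, hDo, htD⟩ := _root_.mem_nhds_iff.1 hpb
  obtain ⟨W₂, hW₂sub, hW₂o, hcW₂⟩ := _root_.mem_nhds_iff.1 hcd'
  refine ⟨W₁ ∩ W₂, D, ψ, hW₁o.inter hW₂o, hDo, ⟨hcW₁, hcW₂⟩, htD, ?_, hself, ?_⟩
  · intro c hc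
    exact (hW₂sub hc.2).differentiableWithinAt
  · intro c hc t ht
    have := hab (hW₁sub hc.1) (hDsub ht)
    simp only at this
    rw [h0] at this
    exact this

variable {n : ℕ} (μ : Polynomial (MvPolynomial (Fin n) ℂ))

/-- specialisation of the family at a point -/
noncomputable def spec (v : Fin n → ℂ) : ℂ[X] := μ.map (MvPolynomial.eval v)

/-- the coefficient vector of the specialisation -/
noncomputable def coeffMap (v : Fin n → ℂ) : Fin (μ.natDegree + 1) → ℂ :=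
  fun i => MvPolynomial.eval v (μ.coeff i)

lemma differentiable_eval (P : MvPolynomial (Fin n) ℂ) :
    Differentiable ℂ (fun v : Fin n → ℂ => MvPolynomial.eval v P) := by
  induction P using MvPolynomial.induction_on with
  | C a => simp only [MvPolynomial.eval_C]; exact differentiable_const _
  | add p q hp hq => simp only [map_add]; exact hp.add hq
  | mul_X p i hp =>
    simp only [map_mul, MvPolynomial.eval_X]
    exact hp.mul (differentiable_apply i)

lemma differentiable_coeffMap : Differentiable ℂ (coeffMap μ) := by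
  rw [differentiable_pi]
  intro i
  exact differentiable_eval _

lemma spec_coeff (v : Fin n → ℂ) (i : ℕ) :
    (spec μ v).coeff i = MvPolynomial.eval v (μ.coeff i) := Polynomial.coeff_map _ _

lemma natDegree_spec_le (v : Fin n → ℂ) : (spec μ v).natDegree ≤ μ.natDegree :=
  Polynomial.natDegree_map_le

lemma polyFun_coeffMap (v : Fin n → ℂ) (t : ℂ) :
    polyFun (μ.natDegree + 1) (coeffMap μ v, t) = (spec μ v).eval t := by
  rw [← polyFun_coeff (μ.natDegree + 1) (spec μ v) (Nat.lt_succ_of_le (natDegree_spec_le μ v)) t]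
  congr 2
  funext i
  exact (spec_coeff μ v i).symm

/-- a simple root of the specialisation at `v₀` extends to a holomorphic root function -/
theorem exists_local_root (v₀ : Fin n → ℂ) (w₀ : ℂ) (h0 : (spec μ v₀).eval w₀ = 0)
    (hd : (derivative (spec μ v₀)).eval w₀ ≠ 0) :
    ∃ (W : Set (Fin n → ℂ)) (D : Set ℂ) (ρ : (Fin n → ℂ) → ℂ), IsOpen W ∧ IsOpen D ∧ v₀ ∈ W ∧
      w₀ ∈ D ∧ DifferentiableOn ℂ ρ W ∧ ρ v₀ = w₀ ∧
      ∀ v ∈ W, ∀ t ∈ D, (spec μ v).eval t = 0 ↔ ρ v = t := by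
  have hd' : HasDerivAt (fun t => polyFun (μ.natDegree + 1) (coeffMap μ v₀, t))
      ((derivative (spec μ v₀)).eval w₀) w₀ := by
    have : (fun t => polyFun (μ.natDegree + 1) (coeffMap μ v₀, t)) = fun t => (spec μ v₀).eval t :=
      funext (polyFun_coeffMap μ v₀)
    rw [this]
    exact (spec μ v₀).hasDerivAt w₀
  obtain ⟨W, D, ρ, hW, hD, hcW, htD, hρ, hρ0, hWD⟩ :=
    exists_implicit_diff (μ.natDegree + 1) (coeffMap μ v₀) w₀ _ hd
      (by rw [polyFun_coeffMap]; exact h0) hd'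
  refine ⟨coeffMap μ ⁻¹' W, D, ρ ∘ coeffMap μ, hW.preimage (differentiable_coeffMap μ).continuous,
    hD, hcW, htD, ?_, hρ0, ?_⟩
  · exact hρ.comp (differentiable_coeffMap μ).differentiableOn (fun v hv => hv)
  · intro v hv t ht
    rw [← polyFun_coeffMap]
    exact hWD _ hv t ht

lemma spec_monic (hμ : μ.Monic) (v : Fin n → ℂ) : (spec μ v).Monic := hμ.map _

lemma natDegree_spec (hμ : μ.Monic) (v : Fin n → ℂ) : (spec μ v).natDegree = μ.natDegree :=
  hμ.natDegree_map _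

lemma derivative_eval_ne_zero_of_separable {p : ℂ[X]} (hp : p.Separable) {w : ℂ}
    (hw : p.eval w = 0) : (derivative p).eval w ≠ 0 := by
  obtain ⟨a, b, hab⟩ := hp
  intro h
  have := congrArg (Polynomial.eval w) hab
  simp [hw, h] at this

lemma card_roots_toFinset_of_separable {p : ℂ[X]} (hp : p.Separable) :
    p.roots.toFinset.card = p.natDegree := by
  rw [Multiset.toFinset_card_of_nodup (nodup_roots hp)]
  exact ((IsAlgClosed.splits p).natDegree_eq_card_roots).symm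

/-- all the roots near a separable specialisation are given by holomorphic functions -/
theorem exists_local_roots (hμ : μ.Monic) (v₀ : Fin n → ℂ) (hsep : (spec μ v₀).Separable)
    (O : ℂ → Set ((Fin n → ℂ) × ℂ))
    (hO : ∀ w, (spec μ v₀).eval w = 0 → IsOpen (O w) ∧ (v₀, w) ∈ O w) :
    ∃ (W : Set (Fin n → ℂ)) (ρ : ℂ → (Fin n → ℂ) → ℂ), IsOpen W ∧ v₀ ∈ W ∧
      (∀ w ∈ (spec μ v₀).roots.toFinset, DifferentiableOn ℂ (ρ w) W) ∧
      (∀ v ∈ W, Set.InjOn (fun w => ρ w v) ((spec μ v₀).roots.toFinset : Set ℂ)) ∧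
      (∀ v ∈ W, (spec μ v).roots.toFinset = (spec μ v₀).roots.toFinset.image (fun w => ρ w v)) ∧
      (∀ w ∈ (spec μ v₀).roots.toFinset, ∀ v ∈ W, (v, ρ w v) ∈ O w) := by
  classical
  set S₀ := (spec μ v₀).roots.toFinset with hS₀
  have hne0 : ∀ v, spec μ v ≠ 0 := fun v => (spec_monic μ hμ v).ne_zero
  have hmemS₀ : ∀ w, w ∈ S₀ ↔ (spec μ v₀).eval w = 0 := by
    intro w
    rw [hS₀, Multiset.mem_toFinset, mem_roots (hne0 v₀), IsRoot]
  have hloc : ∀ w, w ∈ S₀ → ∃ (W : Set (Fin n → ℂ)) (D : Set ℂ) (ρ : (Fin n → ℂ) → ℂ),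
      IsOpen W ∧ IsOpen D ∧ v₀ ∈ W ∧ w ∈ D ∧ DifferentiableOn ℂ ρ W ∧ ρ v₀ = w ∧
      ∀ v ∈ W, ∀ t ∈ D, (spec μ v).eval t = 0 ↔ ρ v = t := by
    intro w hw
    exact exists_local_root μ v₀ w ((hmemS₀ w).1 hw)
      (derivative_eval_ne_zero_of_separable hsep ((hmemS₀ w).1 hw))
  choose! Wf Df ρ hWo hDo hvW hwD hρd hρ0 hiff using hloc
  obtain ⟨U, hU, hUdisj⟩ := (S₀.finite_toSet).t2_separation
  -- the good neighbourhood for each root
  set W' : ℂ → Set (Fin n → ℂ) := fun w =>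
    Wf w ∩ (fun v => (v, ρ w v)) ⁻¹' ((Set.univ ×ˢ (Df w ∩ U w)) ∩ O w) with hW'
  have hW'o : ∀ w ∈ S₀, IsOpen (W' w) := by
    intro w hw
    have hc : ContinuousOn (fun v => (v, ρ w v)) (Wf w) :=
      continuousOn_id.prodMk (hρd w hw).continuousOn
    apply hc.isOpen_inter_preimage (hWo w hw)
    exact (isOpen_univ.prod ((hDo w hw).inter (hU w).2)).inter (hO w ((hmemS₀ w).1 hw)).1
  have hv₀W' : ∀ w ∈ S₀, v₀ ∈ W' w := by
    intro w hw
    refine ⟨hvW w hw, ?_⟩
    simp only [Set.mem_preimage, hρ0 w hw]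
    exact ⟨⟨trivial, hwD w hw, (hU w).1⟩, (hO w ((hmemS₀ w).1 hw)).2⟩
  refine ⟨⋂ w ∈ S₀, W' w, ρ, isOpen_biInter_finset hW'o, ?_, ?_, ?_, ?_, ?_⟩
  · simp only [Set.mem_iInter]
    exact hv₀W'
  · intro w hw
    apply (hρd w hw).mono
    intro v hv
    simp only [Set.mem_iInter] at hv
    exact (hv w hw).1
  · intro v hv w hw w' hw' heq
    simp only [Set.mem_iInter] at hv
    by_contra hne
    have h1 : ρ w v ∈ U w := (hv w hw).2.1.2.2
    have h2 : ρ w' v ∈ U w' := (hv w' hw').2.1.2.2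
    have hdis := hUdisj hw hw' hne
    simp only at heq
    rw [heq] at h1
    exact Set.disjoint_left.1 hdis h1 h2
  · intro v hv
    simp only [Set.mem_iInter] at hv
    have hinj : Set.InjOn (fun w => ρ w v) (S₀ : Set ℂ) := by
      intro w hw w' hw' heq
      by_contra hne
      have h1 : ρ w v ∈ U w := (hv w hw).2.1.2.2
      have h2 : ρ w' v ∈ U w' := (hv w' hw').2.1.2.2
      have hdis := hUdisj hw hw' hne
      simp only at heq
      rw [heq] at h1
      exact Set.disjoint_left.1 hdis h1 h2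
    symm
    apply Finset.eq_of_subset_of_card_le
    · intro t ht
      obtain ⟨w, hw, rfl⟩ := Finset.mem_image.1 ht
      rw [Multiset.mem_toFinset, mem_roots (hne0 v), IsRoot]
      exact (hiff w hw v (hv w hw).1 (ρ w v) (hv w hw).2.1.2.1).2 rfl
    · rw [Finset.card_image_of_injOn hinj, hS₀, card_roots_toFinset_of_separable hsep,
        natDegree_spec μ hμ]
      calc (spec μ v).roots.toFinset.card ≤ Multiset.card (spec μ v).roots :=
            Multiset.toFinset_card_le _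
        _ ≤ (spec μ v).natDegree := Polynomial.card_roots' _
        _ = μ.natDegree := natDegree_spec μ hμ v
  · intro w hw v hv
    simp only [Set.mem_iInter] at hv
    exact (hv w hw).2.2

end Groth.Agent.Lib.Helper6.ConnZ
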