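import Mathlib
import Groth.Agent.Lib.Helper6ConnP
import Groth.Agent.Lib.Helper6ConnZA
import Groth.Agent.Lib.Helper6AnBound

/-!
# The root locus of an irreducible monic polynomial over `ℂ[x₁,…,xₙ]` is connected
-/

set_option autoImplicit false

open Topology Filter Metric Polynomial
open scoped Classical

namespace Groth.Agent.Lib.Helper6.ConnZ

section general

lemma differentiableOn_coeff_prod {E : Type*} [NormedAddCommGroup E] [NormedSpace ℂ E] {ι : Type*}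
    (s : Finset ι) (r : ι → E → ℂ) (W : Set E) (hr : ∀ i ∈ s, DifferentiableOn ℂ (r i) W) :
    ∀ k : ℕ, DifferentiableOn ℂ (fun v => (∏ i ∈ s, (X - C (r i v))).coeff k) W := by
  induction s using Finset.induction_on with
  | empty =>
    intro k
    simp only [Finset.prod_empty]
    exact differentiableOn_const _
  | insert a s ha ih =>
    intro k
    have ih' := ih (fun i hi => hr i (Finset.mem_insert_of_mem hi))
    have hra := hr a (Finset.mem_insert_self a s)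
    cases k with
    | zero =>
      have : (fun v => (∏ i ∈ insert a s, (X - C (r i v))).coeff 0) =
          fun v => (- r a v) * (∏ i ∈ s, (X - C (r i v))).coeff 0 := by
        funext v
        rw [Finset.prod_insert ha, mul_coeff_zero]
        simp
      rw [this]
      exact hra.neg.mul (ih' 0)
    | succ k =>
      have : (fun v => (∏ i ∈ insert a s, (X - C (r i v))).coeff (k + 1)) =
          fun v => (∏ i ∈ s, (X - C (r i v))).coeff k -
            r a v * (∏ i ∈ s, (X - C (r i v))).coeff (k + 1) := by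
        funext v
        rw [Finset.prod_insert ha, coeff_X_sub_C_mul]
      rw [this]
      exact (ih' k).sub (hra.mul (ih' (k + 1)))

lemma norm_coeff_prod_le (s : Finset ℂ) (R : ℝ) (hR : 0 ≤ R) (hs : ∀ w ∈ s, ‖w‖ ≤ R) :
    ∀ k : ℕ, ‖(∏ w ∈ s, (X - C w)).coeff k‖ ≤ (1 + R) ^ s.card := by
  induction s using Finset.induction_on with
  | empty =>
    intro k
    simp only [Finset.prod_empty, Finset.card_empty, pow_zero, coeff_one]
    split_ifs <;> simp
  | insert a s ha ih =>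
    intro k
    have ih' := ih (fun i hi => hs i (Finset.mem_insert_of_mem hi))
    have hra := hs a (Finset.mem_insert_self a s)
    rw [Finset.card_insert_of_notMem ha, Finset.prod_insert ha, pow_succ]
    have hpos : (0 : ℝ) ≤ (1 + R) ^ s.card := by positivity
    cases k with
    | zero =>
      rw [mul_coeff_zero]
      simp only [coeff_sub, coeff_X_zero, coeff_C_zero, zero_sub, neg_mul, norm_neg, norm_mul]
      calc ‖a‖ * ‖(∏ w ∈ s, (X - C w)).coeff 0‖ ≤ R * (1 + R) ^ s.card :=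
            mul_le_mul hra (ih' 0) (norm_nonneg _) hR
        _ ≤ (1 + R) ^ s.card * (1 + R) := by nlinarith
    | succ k =>
      rw [coeff_X_sub_C_mul]
      calc ‖(∏ w ∈ s, (X - C w)).coeff k - a * (∏ w ∈ s, (X - C w)).coeff (k + 1)‖
          ≤ ‖(∏ w ∈ s, (X - C w)).coeff k‖ + ‖a * (∏ w ∈ s, (X - C w)).coeff (k + 1)‖ :=
            norm_sub_le _ _
        _ ≤ (1 + R) ^ s.card + R * (1 + R) ^ s.card := by
            rw [norm_mul]
            exact add_le_add (ih' k) (mul_le_mul hra (ih' (k + 1)) (norm_nonneg _) hR)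
        _ = (1 + R) ^ s.card * (1 + R) := by ring

variable {n : ℕ}

lemma exists_bound_eval (P : MvPolynomial (Fin n) ℂ) :
    ∃ (C : ℝ) (M : ℕ), 0 ≤ C ∧ ∀ v : Fin n → ℂ, ‖MvPolynomial.eval v P‖ ≤ C * (1 + ‖v‖) ^ M := by
  induction P using MvPolynomial.induction_on with
  | C a =>
    refine ⟨‖a‖, 0, norm_nonneg _, fun v => ?_⟩
    simp
  | add p q hp hq =>
    obtain ⟨C₁, M₁, hC₁, h₁⟩ := hp
    obtain ⟨C₂, M₂, hC₂, h₂⟩ := hq
    refine ⟨C₁ + C₂, max M₁ M₂, by positivity, fun v => ?_⟩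
    have h1 : (1 : ℝ) ≤ 1 + ‖v‖ := by linarith [norm_nonneg v]
    rw [map_add]
    calc ‖MvPolynomial.eval v p + MvPolynomial.eval v q‖
        ≤ ‖MvPolynomial.eval v p‖ + ‖MvPolynomial.eval v q‖ := norm_add_le _ _
      _ ≤ C₁ * (1 + ‖v‖) ^ M₁ + C₂ * (1 + ‖v‖) ^ M₂ := add_le_add (h₁ v) (h₂ v)
      _ ≤ C₁ * (1 + ‖v‖) ^ (max M₁ M₂) + C₂ * (1 + ‖v‖) ^ (max M₁ M₂) := by
          apply add_le_add
          · exact mul_le_mul_of_nonneg_left (pow_le_pow_right₀ h1 (le_max_left _ _)) hC₁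
          · exact mul_le_mul_of_nonneg_left (pow_le_pow_right₀ h1 (le_max_right _ _)) hC₂
      _ = (C₁ + C₂) * (1 + ‖v‖) ^ (max M₁ M₂) := by ring
  | mul_X p i hp =>
    obtain ⟨C₁, M₁, hC₁, h₁⟩ := hp
    refine ⟨C₁, M₁ + 1, hC₁, fun v => ?_⟩
    rw [map_mul, MvPolynomial.eval_X, norm_mul, pow_succ, ← mul_assoc]
    have h2 : ‖v i‖ ≤ 1 + ‖v‖ := (norm_le_pi_norm v i).trans (by linarith)
    exact mul_le_mul (h₁ v) h2 (norm_nonneg _) (by positivity)

lemma exists_bound_sum_eval {ι : Type*} (J : Finset ι) (P : ι → MvPolynomial (Fin n) ℂ) :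
    ∃ (C : ℝ) (M : ℕ), 0 ≤ C ∧ ∀ v : Fin n → ℂ,
      ∑ j ∈ J, ‖MvPolynomial.eval v (P j)‖ ≤ C * (1 + ‖v‖) ^ M := by
  induction J using Finset.induction_on with
  | empty => exact ⟨0, 0, le_rfl, fun v => by simp⟩
  | insert a J ha ih =>
    obtain ⟨C₁, M₁, hC₁, h₁⟩ := ih
    obtain ⟨C₂, M₂, hC₂, h₂⟩ := exists_bound_eval (P a)
    refine ⟨C₂ + C₁, max M₂ M₁, by positivity, fun v => ?_⟩
    have h1 : (1 : ℝ) ≤ 1 + ‖v‖ := by linarith [norm_nonneg v]
    rw [Finset.sum_insert ha]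
    calc ‖MvPolynomial.eval v (P a)‖ + ∑ j ∈ J, ‖MvPolynomial.eval v (P j)‖
        ≤ C₂ * (1 + ‖v‖) ^ M₂ + C₁ * (1 + ‖v‖) ^ M₁ := add_le_add (h₂ v) (h₁ v)
      _ ≤ C₂ * (1 + ‖v‖) ^ (max M₂ M₁) + C₁ * (1 + ‖v‖) ^ (max M₂ M₁) := by
          apply add_le_add
          · exact mul_le_mul_of_nonneg_left (pow_le_pow_right₀ h1 (le_max_left _ _)) hC₂
          · exact mul_le_mul_of_nonneg_left (pow_le_pow_right₀ h1 (le_max_right _ _)) hC₁
      _ = (C₂ + C₁) * (1 + ‖v‖) ^ (max M₂ M₁) := by ring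

/-- a polynomial over `ℂ[x]` all of whose specialisations on a basic open vanish is zero -/
lemma eq_zero_of_map_eval_eq_zero (H : MvPolynomial (Fin n) ℂ) (hH : H ≠ 0)
    (P : Polynomial (MvPolynomial (Fin n) ℂ))
    (h : ∀ v : Fin n → ℂ, MvPolynomial.eval v H ≠ 0 → P.map (MvPolynomial.eval v) = 0) : P = 0 := by
  apply Polynomial.ext
  intro k
  rw [coeff_zero]
  have h1 : H * P.coeff k = 0 := by
    apply MvPolynomial.funext
    intro v
    rw [map_mul, map_zero]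
    by_cases hv : MvPolynomial.eval v H = 0
    · rw [hv, zero_mul]
    · have := congrArg (fun q => Polynomial.coeff q k) (h v hv)
      simp only [coeff_map, coeff_zero] at this
      rw [this, mul_zero]
  exact (mul_eq_zero.1 h1).resolve_left hH

end general

section family

variable {n : ℕ} (μ : Polynomial (MvPolynomial (Fin n) ℂ))

/-- the roots `w` of the specialisation at `v` with `(v, w) ∈ U` -/
noncomputable def rootsIn (U : Set ((Fin n → ℂ) × ℂ)) (v : Fin n → ℂ) : Finset ℂ :=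
  (spec μ v).roots.toFinset.filter (fun w => (v, w) ∈ U)

/-- the corresponding factor of the specialisation -/
noncomputable def PU (U : Set ((Fin n → ℂ) × ℂ)) (v : Fin n → ℂ) : ℂ[X] :=
  ∏ w ∈ rootsIn μ U v, (X - C w)

lemma mem_rootsIn (hμ : μ.Monic) (U : Set ((Fin n → ℂ) × ℂ)) (v : Fin n → ℂ) (w : ℂ) :
    w ∈ rootsIn μ U v ↔ (spec μ v).eval w = 0 ∧ (v, w) ∈ U := by
  unfold rootsIn
  rw [Finset.mem_filter, Multiset.mem_toFinset, mem_roots (spec_monic μ hμ v).ne_zero, IsRoot]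

lemma card_rootsIn_le (hμ : μ.Monic) (U : Set ((Fin n → ℂ) × ℂ)) (v : Fin n → ℂ) :
    (rootsIn μ U v).card ≤ μ.natDegree := by
  unfold rootsIn
  calc _ ≤ (spec μ v).roots.toFinset.card := Finset.card_filter_le _ _
    _ ≤ Multiset.card (spec μ v).roots := Multiset.toFinset_card_le _
    _ ≤ (spec μ v).natDegree := Polynomial.card_roots' _
    _ = μ.natDegree := natDegree_spec μ hμ v

lemma natDegree_PU (U : Set ((Fin n → ℂ) × ℂ)) (v : Fin n → ℂ) :
    (PU μ U v).natDegree = (rootsIn μ U v).card := by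
  unfold PU
  exact natDegree_finsetProd_X_sub_C_eq_card _ _

variable (U₁ U₂ : Set ((Fin n → ℂ) × ℂ)) (V : Set (Fin n → ℂ))

/-- local description of the factor `PU` by holomorphic root functions -/
theorem exists_local_PU (hμ : μ.Monic) (hU₁ : IsOpen U₁) (hU₂ : IsOpen U₂) (hV : IsOpen V)
    (hcov : ∀ v ∈ V, ∀ w, (spec μ v).eval w = 0 → (v, w) ∈ U₁ ∪ U₂)
    (hdisj : ∀ v ∈ V, ∀ w, (spec μ v).eval w = 0 → (v, w) ∈ U₁ → (v, w) ∈ U₂ → False)
    (v₀ : Fin n → ℂ) (hv₀ : v₀ ∈ V) (hsep : (spec μ v₀).Separable) :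
    ∃ W : Set (Fin n → ℂ), IsOpen W ∧ v₀ ∈ W ∧ W ⊆ V ∧ ∃ ρ : ℂ → (Fin n → ℂ) → ℂ,
      (∀ w ∈ rootsIn μ U₁ v₀, DifferentiableOn ℂ (ρ w) W) ∧
      ∀ v ∈ W, PU μ U₁ v = ∏ w ∈ rootsIn μ U₁ v₀, (X - C (ρ w v)) := by
  set O : ℂ → Set ((Fin n → ℂ) × ℂ) := fun w => if (v₀, w) ∈ U₁ then U₁ else U₂ with hOdef
  have hO : ∀ w, (spec μ v₀).eval w = 0 → IsOpen (O w) ∧ (v₀, w) ∈ O w := by
    intro w hw
    by_cases h : (v₀, w) ∈ U₁
    · simp only [hOdef, if_pos h]; exact ⟨hU₁, h⟩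
    · simp only [hOdef, if_neg h]
      exact ⟨hU₂, (hcov v₀ hv₀ w hw).resolve_left h⟩
  obtain ⟨W, ρ, hWo, hv₀W, hρd, hinj, himg, hO'⟩ := exists_local_roots μ hμ v₀ hsep O hO
  have hsub : rootsIn μ U₁ v₀ ⊆ (spec μ v₀).roots.toFinset := Finset.filter_subset _ _
  refine ⟨W ∩ V, hWo.inter hV, ⟨hv₀W, hv₀⟩, Set.inter_subset_right, ρ, ?_, ?_⟩
  · intro w hw
    exact (hρd w (hsub hw)).mono Set.inter_subset_left
  · intro v hv
    have hroots : rootsIn μ U₁ v = (rootsIn μ U₁ v₀).image (fun w => ρ w v) := by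
      unfold rootsIn
      rw [himg v hv.1, Finset.filter_image]
      congr 1
      apply Finset.filter_congr
      intro w hw
      have hroot : (spec μ v).eval (ρ w v) = 0 := by
        have : ρ w v ∈ (spec μ v).roots.toFinset := by
          rw [himg v hv.1]; exact Finset.mem_image_of_mem _ hw
        rw [Multiset.mem_toFinset, mem_roots (spec_monic μ hμ v).ne_zero, IsRoot] at this
        exact this
      have hOw := hO' w hw v hv.1
      constructor
      · intro h1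
        by_contra h
        simp only [hOdef, if_neg h] at hOw
        exact hdisj v hv.2 _ hroot h1 hOw
      · intro h
        simp only [hOdef, if_pos h] at hOw
        exact hOw
    unfold PU
    rw [hroots, Finset.prod_image]
    intro w hw w' hw' heq
    exact hinj v hv.1 (Finset.mem_coe.2 (hsub hw)) (Finset.mem_coe.2 (hsub hw')) heq

/-- the coefficients of the factor `PU` are holomorphic on `V` -/
theorem differentiableOn_coeff_PU (hμ : μ.Monic) (hU₁ : IsOpen U₁) (hU₂ : IsOpen U₂)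
    (hV : IsOpen V)
    (hcov : ∀ v ∈ V, ∀ w, (spec μ v).eval w = 0 → (v, w) ∈ U₁ ∪ U₂)
    (hdisj : ∀ v ∈ V, ∀ w, (spec μ v).eval w = 0 → (v, w) ∈ U₁ → (v, w) ∈ U₂ → False)
    (hsep : ∀ v ∈ V, (spec μ v).Separable) (k : ℕ) :
    DifferentiableOn ℂ (fun v => (PU μ U₁ v).coeff k) V := by
  intro v₀ hv₀
  obtain ⟨W, hWo, hv₀W, hWV, ρ, hρd, hPU⟩ :=
    exists_local_PU μ U₁ U₂ V hμ hU₁ hU₂ hV hcov hdisj v₀ hv₀ (hsep v₀ hv₀)
  have h1 := differentiableOn_coeff_prod (rootsIn μ U₁ v₀) ρ W hρd k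
  have h2 : DifferentiableAt ℂ (fun v => (∏ w ∈ rootsIn μ U₁ v₀, (X - C (ρ w v))).coeff k) v₀ :=
    h1.differentiableAt (hWo.mem_nhds hv₀W)
  have h3 : (fun v => (PU μ U₁ v).coeff k) =ᶠ[𝓝 v₀]
      (fun v => (∏ w ∈ rootsIn μ U₁ v₀, (X - C (ρ w v))).coeff k) := by
    filter_upwards [hWo.mem_nhds hv₀W] with v hv
    rw [hPU v hv]
  exact (h2.congr_of_eventuallyEq h3).differentiableWithinAt

/-- polynomial growth of the coefficients of `PU` -/
theorem exists_bound_coeff_PU (hμ : μ.Monic) :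
    ∃ (C : ℝ) (N : ℕ), 0 ≤ C ∧ ∀ (U : Set ((Fin n → ℂ) × ℂ)) (v : Fin n → ℂ) (k : ℕ),
      ‖(PU μ U v).coeff k‖ ≤ C * (1 + ‖v‖) ^ N := by
  obtain ⟨C₁, M₁, hC₁, h₁⟩ := exists_bound_sum_eval (Finset.range μ.natDegree) (fun j => μ.coeff j)
  refine ⟨(2 + C₁) ^ μ.natDegree, M₁ * μ.natDegree, by positivity, fun U v k => ?_⟩
  set R : ℝ := 1 + ∑ j ∈ Finset.range μ.natDegree, ‖MvPolynomial.eval v (μ.coeff j)‖ with hR
  have hR0 : 0 ≤ R := by positivity
  have hroot : ∀ w ∈ rootsIn μ U v, ‖w‖ ≤ R := by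
    intro w hw
    rw [mem_rootsIn μ hμ] at hw
    exact (AnBound.norm_root_lt μ hμ (MvPolynomial.eval v) w hw.1).le
  have h2 := norm_coeff_prod_le (rootsIn μ U v) R hR0 hroot k
  have h1v : (1 : ℝ) ≤ 1 + ‖v‖ := by linarith [norm_nonneg v]
  have h3 : 1 + R ≤ (2 + C₁) * (1 + ‖v‖) ^ M₁ := by
    have h4 := h₁ v
    have h5 : (1 : ℝ) ≤ (1 + ‖v‖) ^ M₁ := one_le_pow₀ h1v
    rw [hR]
    nlinarith
  have h6 : (1 : ℝ) ≤ 1 + R := by linarith
  calc ‖(PU μ U v).coeff k‖ ≤ (1 + R) ^ (rootsIn μ U v).card := h2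
    _ ≤ (1 + R) ^ μ.natDegree := pow_le_pow_right₀ h6 (card_rootsIn_le μ hμ U v)
    _ ≤ ((2 + C₁) * (1 + ‖v‖) ^ M₁) ^ μ.natDegree := by gcongr
    _ = (2 + C₁) ^ μ.natDegree * (1 + ‖v‖) ^ (M₁ * μ.natDegree) := by
        rw [mul_pow, ← pow_mul]

/-- the factor `PU` is the specialisation of a polynomial over `ℂ[x]` -/
theorem exists_poly_PU (hμ : μ.Monic) (H : MvPolynomial (Fin n) ℂ) (hH : H ≠ 0)
    (hU₁ : IsOpen U₁) (hU₂ : IsOpen U₂)
    (hcov : ∀ v, MvPolynomial.eval v H ≠ 0 → ∀ w, (spec μ v).eval w = 0 → (v, w) ∈ U₁ ∪ U₂)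
    (hdisj : ∀ v, MvPolynomial.eval v H ≠ 0 → ∀ w, (spec μ v).eval w = 0 → (v, w) ∈ U₁ →
      (v, w) ∈ U₂ → False)
    (hsep : ∀ v, MvPolynomial.eval v H ≠ 0 → (spec μ v).Separable) :
    ∃ PP : Polynomial (MvPolynomial (Fin n) ℂ), ∀ v, MvPolynomial.eval v H ≠ 0 →
      PP.map (MvPolynomial.eval v) = PU μ U₁ v := by
  obtain ⟨C₀, N, hC, hb⟩ := exists_bound_coeff_PU μ hμ
  have hQ : ∀ k : ℕ, ∃ Q : MvPolynomial (Fin n) ℂ, ∀ v, MvPolynomial.eval v H ≠ 0 →
      (PU μ U₁ v).coeff k = MvPolynomial.eval v Q := by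
    intro k
    apply ConnP.exists_mvPolynomial_of_diff n H hH (fun v => (PU μ U₁ v).coeff k) C₀ N hC
    · exact differentiableOn_coeff_PU μ U₁ U₂ _ hμ hU₁ hU₂ (ConnP.isOpen_eval_ne_zero H)
        hcov hdisj hsep k
    · intro v _
      exact hb U₁ v k
  choose Q hQ using hQ
  refine ⟨∑ k ∈ Finset.range (μ.natDegree + 1), C (Q k) * X ^ k, fun v hv => ?_⟩
  apply Polynomial.ext
  intro k
  rw [coeff_map, finsetSum_coeff]
  simp only [coeff_C_mul_X_pow]
  by_cases hk : k < μ.natDegree + 1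
  · rw [Finset.sum_eq_single k]
    · rw [if_pos rfl, hQ k v hv]
    · intro j _ hjk
      rw [if_neg (Ne.symm hjk)]
    · intro hk'
      exact absurd (Finset.mem_range.2 hk) hk'
  · rw [Finset.sum_eq_zero, map_zero]
    · symm
      apply coeff_eq_zero_of_natDegree_lt
      rw [natDegree_PU]
      exact lt_of_le_of_lt (card_rootsIn_le μ hμ U₁ v) (by omega)
    · intro j hj
      rw [if_neg]
      intro h
      rw [h] at hk
      exact hk (Finset.mem_range.1 hj)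

/-- **Theorem Z**: the root locus of an irreducible monic polynomial over `ℂ[x₁,…,xₙ]`, over a basic
open where the specialisations are separable, is preconnected. -/
theorem isPreconnected_rootLocus (hμ : μ.Monic) (hirr : Irreducible μ)
    (H : MvPolynomial (Fin n) ℂ) (hH : H ≠ 0)
    (hsep : ∀ v, MvPolynomial.eval v H ≠ 0 → (spec μ v).Separable) :
    IsPreconnected {z : (Fin n → ℂ) × ℂ | MvPolynomial.eval z.1 H ≠ 0 ∧
      (spec μ z.1).eval z.2 = 0} := by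
  intro U₁ U₂ hU₁ hU₂ hcov hne₁ hne₂
  by_contra hemp
  have hcov' : ∀ v, MvPolynomial.eval v H ≠ 0 → ∀ w, (spec μ v).eval w = 0 → (v, w) ∈ U₁ ∪ U₂ :=
    fun v hv w hw => hcov ⟨hv, hw⟩
  have hcov'' : ∀ v, MvPolynomial.eval v H ≠ 0 → ∀ w, (spec μ v).eval w = 0 → (v, w) ∈ U₂ ∪ U₁ :=
    fun v hv w hw => (hcov' v hv w hw).symm
  have hdisj : ∀ v, MvPolynomial.eval v H ≠ 0 → ∀ w, (spec μ v).eval w = 0 → (v, w) ∈ U₁ →
      (v, w) ∈ U₂ → False := fun v hv w hw h1 h2 => hemp ⟨(v, w), ⟨hv, hw⟩, h1, h2⟩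
  have hdisj' : ∀ v, MvPolynomial.eval v H ≠ 0 → ∀ w, (spec μ v).eval w = 0 → (v, w) ∈ U₂ →
      (v, w) ∈ U₁ → False := fun v hv w hw h1 h2 => hdisj v hv w hw h2 h1
  obtain ⟨PA, hPA⟩ := exists_poly_PU μ U₁ U₂ hμ H hH hU₁ hU₂ hcov' hdisj hsep
  obtain ⟨PB, hPB⟩ := exists_poly_PU μ U₂ U₁ hμ H hH hU₂ hU₁ hcov'' hdisj' hsep
  -- the product of the two factors
  have hprod : ∀ v, MvPolynomial.eval v H ≠ 0 → PU μ U₁ v * PU μ U₂ v = spec μ v := by
    intro v hv
    have h2 : rootsIn μ U₂ v = (spec μ v).roots.toFinset.filter (fun w => ¬ (v, w) ∈ U₁) := by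
      unfold rootsIn
      apply Finset.filter_congr
      intro w hw
      rw [Multiset.mem_toFinset, mem_roots (spec_monic μ hμ v).ne_zero, IsRoot] at hw
      constructor
      · intro h2 h1
        exact hdisj v hv w hw h1 h2
      · intro h1
        exact (hcov' v hv w hw).resolve_left h1
    unfold PU
    rw [h2]
    unfold rootsIn
    rw [Finset.prod_filter_mul_prod_filter_not, Finset.prod_eq_multiset_prod,
      Multiset.toFinset_val, (nodup_roots (hsep v hv)).dedup]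
    exact ((IsAlgClosed.splits (spec μ v)).eq_prod_roots_of_monic (spec_monic μ hμ v)).symm
  have hfac : μ = PA * PB := by
    rw [← sub_eq_zero]
    apply eq_zero_of_map_eval_eq_zero H hH
    intro v hv
    rw [Polynomial.map_sub, Polynomial.map_mul, hPA v hv, hPB v hv, hprod v hv]
    exact sub_self _
  have hunit : ∀ (P : Polynomial (MvPolynomial (Fin n) ℂ)) (U : Set ((Fin n → ℂ) × ℂ)),
      (∀ v, MvPolynomial.eval v H ≠ 0 → P.map (MvPolynomial.eval v) = PU μ U v) → IsUnit P →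
      ∀ v, MvPolynomial.eval v H ≠ 0 → rootsIn μ U v = ∅ := by
    intro P U hP hu v hv
    have h1 : IsUnit (P.map (MvPolynomial.eval v)) := hu.map (Polynomial.mapRingHom _)
    rw [hP v hv] at h1
    have h2 := natDegree_eq_zero_of_isUnit h1
    rw [natDegree_PU] at h2
    exact Finset.card_eq_zero.1 h2
  rcases hirr.isUnit_or_isUnit hfac with hu | hu
  · obtain ⟨z, ⟨hzV, hzr⟩, hzU⟩ := hne₁
    have := hunit PA U₁ hPA hu z.1 hzV
    have hmem : z.2 ∈ rootsIn μ U₁ z.1 := (mem_rootsIn μ hμ U₁ z.1 z.2).2 ⟨hzr, hzU⟩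
    rw [this] at hmem
    exact absurd hmem (Finset.notMem_empty _)
  · obtain ⟨z, ⟨hzV, hzr⟩, hzU⟩ := hne₂
    have := hunit PB U₂ hPB hu z.1 hzV
    have hmem : z.2 ∈ rootsIn μ U₂ z.1 := (mem_rootsIn μ hμ U₂ z.1 z.2).2 ⟨hzr, hzU⟩
    rw [this] at hmem
    exact absurd hmem (Finset.notMem_empty _)

end family

end Groth.Agent.Lib.Helper6.ConnZ
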