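import Mathlib
import Groth.Agent.Lib.Helper6ConnZB
import Groth.Agent.Lib.Helper6ConnAA
import Groth.Agent.Lib.Helper6AnDensity

/-!
# The space of `ℂ`-points of a finitely generated `ℂ`-domain is connected
-/

set_option autoImplicit false

open Polynomial Topology
open Groth.Agent.Lib.Helper6.ConnZ

namespace Groth.Agent.Lib.Helper6.ConnA

section param

variable {n : ℕ} {R : Type*} [CommRing R] [IsDomain R] [Algebra ℂ R]
  [Algebra (MvPolynomial (Fin n) ℂ) R] [IsScalarTower ℂ (MvPolynomial (Fin n) ℂ) R]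
  [FaithfulSMul (MvPolynomial (Fin n) ℂ) R]

/-- evaluation of a polynomial over `ℂ[x]` at a point `(v, w)` -/
noncomputable def ee (z : (Fin n → ℂ) × ℂ) : (MvPolynomial (Fin n) ℂ)[X] →+* ℂ :=
  eval₂RingHom (MvPolynomial.eval z.1) z.2

lemma ee_apply (z : (Fin n → ℂ) × ℂ) (P : (MvPolynomial (Fin n) ℂ)[X]) :
    ee z P = (P.map (MvPolynomial.eval z.1)).eval z.2 := by
  rw [eval_map]; rfl

lemma ee_C (z : (Fin n → ℂ) × ℂ) (a : MvPolynomial (Fin n) ℂ) :
    ee z (C a) = MvPolynomial.eval z.1 a := by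
  unfold ee; simp

lemma continuous_ee (P : (MvPolynomial (Fin n) ℂ)[X]) :
    Continuous (fun z : (Fin n → ℂ) × ℂ => ee z P) := by
  have : (fun z : (Fin n → ℂ) × ℂ => ee z P) = fun z =>
      ∑ i ∈ Finset.range (P.natDegree + 1), MvPolynomial.eval z.1 (P.coeff i) * z.2 ^ i := by
    funext z
    unfold ee
    rw [coe_eval₂RingHom, eval₂_eq_sum_range]
  rw [this]
  apply continuous_finsetSum
  intro i _
  exact ((MvPolynomial.continuous_eval _).comp continuous_fst).mul (continuous_snd.pow i)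

variable (g : R) (h : MvPolynomial (Fin n) ℂ) (F : R → (MvPolynomial (Fin n) ℂ)[X])

lemma ee_eq_of_aeval_eq (hg : IsIntegral (MvPolynomial (Fin n) ℂ) g) (z : (Fin n → ℂ) × ℂ)
    (hz : ee z (minpoly (MvPolynomial (Fin n) ℂ) g) = 0) (P P' : (MvPolynomial (Fin n) ℂ)[X])
    (hP : aeval g P = aeval g P') : ee z P = ee z P' := by
  have h1 : aeval g (P - P') = 0 := by rw [map_sub, hP, sub_self]
  obtain ⟨Q, hQ⟩ := minpoly.isIntegrallyClosed_dvd hg h1
  have h2 : ee z (P - P') = 0 := by rw [hQ, map_mul, hz, zero_mul]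
  rw [map_sub] at h2
  exact sub_eq_zero.1 h2

/-- the candidate point of `R` attached to `(v, w)` -/
noncomputable def sigma (z : (Fin n → ℂ) × ℂ) (r : R) : ℂ :=
  ee z (F r) / MvPolynomial.eval z.1 h

variable {g h F}

lemma sigma_eq (hg : IsIntegral (MvPolynomial (Fin n) ℂ) g) (hF : ∀ r, aeval g (F r) = h • r)
    (z : (Fin n → ℂ) × ℂ) (hz : ee z (minpoly (MvPolynomial (Fin n) ℂ) g) = 0) (r : R)
    (P : (MvPolynomial (Fin n) ℂ)[X]) (hP : aeval g P = h • r) :
    sigma h F z r = ee z P / MvPolynomial.eval z.1 h := by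
  unfold sigma
  rw [ee_eq_of_aeval_eq g hg z hz (F r) P (by rw [hF, hP])]

/-- the point of `R` attached to `(v, w)` in the root locus -/
noncomputable def sigmaHom (hg : IsIntegral (MvPolynomial (Fin n) ℂ) g)
    (hF : ∀ r, aeval g (F r) = h • r) (z : (Fin n → ℂ) × ℂ)
    (hz : ee z (minpoly (MvPolynomial (Fin n) ℂ) g) = 0) (hh : MvPolynomial.eval z.1 h ≠ 0) :
    R →ₐ[ℂ] ℂ where
  toFun := sigma h F z
  map_one' := by
    rw [sigma_eq hg hF z hz 1 (C h) (by rw [aeval_C, Algebra.smul_def, mul_one]), ee_C]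
    exact div_self hh
  map_mul' r r' := by
    have h1 : ee z (F r * F r') = ee z (C h * F (r * r')) := by
      apply ee_eq_of_aeval_eq g hg z hz
      rw [map_mul, map_mul, hF, hF, hF, aeval_C]
      simp only [Algebra.smul_def]
      ring
    rw [map_mul, map_mul, ee_C] at h1
    unfold sigma
    field_simp
    rw [h1]
    ring
  map_zero' := by
    rw [sigma_eq hg hF z hz 0 0 (by simp), map_zero, zero_div]
  map_add' r r' := by
    rw [sigma_eq hg hF z hz (r + r') (F r + F r') (by rw [map_add, hF, hF, smul_add]), map_add,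
      add_div]
    rfl
  commutes' c := by
    have h1 : aeval g (C (h * MvPolynomial.C c) : (MvPolynomial (Fin n) ℂ)[X]) =
        h • algebraMap ℂ R c := by
      rw [aeval_C, map_mul, Algebra.smul_def, IsScalarTower.algebraMap_apply ℂ
        (MvPolynomial (Fin n) ℂ) R, MvPolynomial.algebraMap_eq]
    change sigma h F z (algebraMap ℂ R c) = _
    rw [sigma_eq hg hF z hz _ _ h1, ee_C, map_mul, MvPolynomial.eval_C]
    simp only [Algebra.algebraMap_self, RingHom.id_apply]
    field_simp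

lemma sigmaHom_apply (hg : IsIntegral (MvPolynomial (Fin n) ℂ) g)
    (hF : ∀ r, aeval g (F r) = h • r) (z : (Fin n → ℂ) × ℂ)
    (hz : ee z (minpoly (MvPolynomial (Fin n) ℂ) g) = 0) (hh : MvPolynomial.eval z.1 h ≠ 0)
    (r : R) : sigmaHom hg hF z hz hh r = sigma h F z r := rfl

lemma continuousOn_sigma (r : R) :
    ContinuousOn (fun z : (Fin n → ℂ) × ℂ => sigma h F z r)
      {z | MvPolynomial.eval z.1 h ≠ 0} := by
  unfold sigma
  apply ContinuousOn.div
  · exact (continuous_ee (F r)).continuousOn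
  · exact ((MvPolynomial.continuous_eval h).comp continuous_fst).continuousOn
  · intro z hz
    exact hz

/-- every point of `R` not on `h = 0` comes from the root locus -/
lemma exists_sigma_eq
    (hF : ∀ r, aeval g (F r) = h • r) (ψ : R →ₐ[ℂ] ℂ)
    (hψ : ψ (algebraMap (MvPolynomial (Fin n) ℂ) R h) ≠ 0) :
    ∃ z : (Fin n → ℂ) × ℂ, (∀ a : MvPolynomial (Fin n) ℂ,
        MvPolynomial.eval z.1 a = ψ (algebraMap (MvPolynomial (Fin n) ℂ) R a)) ∧
      ee z (minpoly (MvPolynomial (Fin n) ℂ) g) = 0 ∧ ∀ r, sigma h F z r = ψ r := by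
  set v : Fin n → ℂ := fun i => ψ (algebraMap (MvPolynomial (Fin n) ℂ) R (MvPolynomial.X i)) with hv
  set w : ℂ := ψ g with hw
  have hev : ∀ a : MvPolynomial (Fin n) ℂ,
      MvPolynomial.eval v a = ψ (algebraMap (MvPolynomial (Fin n) ℂ) R a) := by
    intro a
    have : (MvPolynomial.aeval v : MvPolynomial (Fin n) ℂ →ₐ[ℂ] ℂ) =
        ψ.comp (IsScalarTower.toAlgHom ℂ (MvPolynomial (Fin n) ℂ) R) := by
      apply MvPolynomial.algHom_ext
      intro i
      simp [hv]
    have h2 := congrArg (fun f => f a) this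
    simpa [MvPolynomial.coe_aeval_eq_eval] using h2
  have hee : ∀ P : (MvPolynomial (Fin n) ℂ)[X], ee (v, w) P = ψ (aeval g P) := by
    intro P
    have h3 := Polynomial.hom_eval₂ P (algebraMap (MvPolynomial (Fin n) ℂ) R) (ψ : R →+* ℂ) g
    unfold ee
    rw [coe_eval₂RingHom, aeval_def]
    change _ = (ψ : R →+* ℂ) _
    rw [h3]
    congr 1
    exact RingHom.ext fun a => hev a
  refine ⟨(v, w), hev, ?_, fun r => ?_⟩
  · rw [hee, minpoly.aeval, map_zero]
  · unfold sigma
    rw [hee, hF, hev, Algebra.smul_def, map_mul]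
    field_simp

end param

/-- **Theorem A**: the space of `ℂ`-points of a finitely generated `ℂ`-algebra which is a domain is
preconnected (for the topology of pointwise convergence). -/
theorem isPreconnected_algHom (R : Type*) [CommRing R] [IsDomain R] [Algebra ℂ R]
    [Algebra.FiniteType ℂ R] :
    IsPreconnected {f : R → ℂ | ∃ ψ : R →ₐ[ℂ] ℂ, ⇑ψ = f} := by
  classical
  obtain ⟨n, φ, hinj, hfin⟩ := exists_finite_inj_algHom_of_fg ℂ R
  letI : Algebra (MvPolynomial (Fin n) ℂ) R := φ.toRingHom.toAlgebra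
  haveI : IsScalarTower ℂ (MvPolynomial (Fin n) ℂ) R :=
    IsScalarTower.of_algebraMap_eq (fun c => (φ.commutes c).symm)
  haveI : Module.Finite (MvPolynomial (Fin n) ℂ) R := hfin
  haveI : FaithfulSMul (MvPolynomial (Fin n) ℂ) R :=
    (faithfulSMul_iff_algebraMap_injective _ R).2 hinj
  obtain ⟨g, h, δ, a, b, hh0, hδ0, hall, hbez⟩ :=
    exists_primitive_data (MvPolynomial (Fin n) ℂ) R
  choose F hF using hall
  have hg : IsIntegral (MvPolynomial (Fin n) ℂ) g := Algebra.IsIntegral.isIntegral g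
  set μ := minpoly (MvPolynomial (Fin n) ℂ) g with hμ
  have hμmonic : μ.Monic := minpoly.monic hg
  have hirr : Irreducible μ := (minpoly.prime_of_isIntegrallyClosed hg).irreducible
  set H := h * δ with hH
  have hH0 : H ≠ 0 := mul_ne_zero hh0 hδ0
  have hsep : ∀ v, MvPolynomial.eval v H ≠ 0 → (spec μ v).Separable := by
    intro v hv
    rw [hH, map_mul] at hv
    have hδv : MvPolynomial.eval v δ ≠ 0 := right_ne_zero_of_mul hv
    have h1 := congrArg (Polynomial.map (MvPolynomial.eval v)) hbez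
    rw [Polynomial.map_add, Polynomial.map_mul, Polynomial.map_mul, map_C, ← derivative_map] at h1
    refine ⟨C (MvPolynomial.eval v δ)⁻¹ * a.map (MvPolynomial.eval v),
      C (MvPolynomial.eval v δ)⁻¹ * b.map (MvPolynomial.eval v), ?_⟩
    unfold spec
    rw [mul_assoc, mul_assoc, ← mul_add, h1, ← C_mul, inv_mul_cancel₀ hδv, C_1]
  have hZ := isPreconnected_rootLocus μ hμmonic hirr H hH0 hsep
  set Z₀ : Set ((Fin n → ℂ) × ℂ) := {z | MvPolynomial.eval z.1 H ≠ 0 ∧ (spec μ z.1).eval z.2 = 0}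
    with hZ₀
  have hZh : ∀ z ∈ Z₀, MvPolynomial.eval z.1 h ≠ 0 := by
    intro z hz
    have := hz.1
    rw [hH, map_mul] at this
    exact left_ne_zero_of_mul this
  have hZee : ∀ z ∈ Z₀, ee z μ = 0 := by
    intro z hz
    rw [ee_apply]
    exact hz.2
  set σ : (Fin n → ℂ) × ℂ → (R → ℂ) := fun z r => sigma h F z r with hσ
  have hσc : ContinuousOn σ Z₀ := by
    rw [continuousOn_pi]
    intro r
    exact (continuousOn_sigma (h := h) (F := F) r).mono (fun z hz => hZh z hz)
  have himg : IsPreconnected (σ '' Z₀) := hZ.image σ hσc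
  apply himg.subset_closure
  · rintro _ ⟨z, hz, rfl⟩
    exact ⟨sigmaHom hg hF z (hZee z hz) (hZh z hz), rfl⟩
  · -- density
    rintro f ⟨ψ₀, rfl⟩
    set H' : R := algebraMap (MvPolynomial (Fin n) ℂ) R H with hH'
    have hH'0 : H' ≠ 0 := by
      rw [hH', Ne, map_eq_zero_iff _ (FaithfulSMul.algebraMap_injective (MvPolynomial (Fin n) ℂ) R)]
      exact hH0
    have hcons : IsConstructible (PrimeSpectrum.basicOpen H' : Set (PrimeSpectrum R)) :=
      PrimeSpectrum.isConstructible_basicOpen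
    have hdense : Dense (PrimeSpectrum.basicOpen H' : Set (PrimeSpectrum R)) := by
      apply IsOpen.dense (PrimeSpectrum.basicOpen H').2
      refine ⟨⊥, ?_⟩
      change (⊥ : PrimeSpectrum R) ∈ PrimeSpectrum.basicOpen H'
      rw [PrimeSpectrum.mem_basicOpen]
      intro hmem
      exact hH'0 (by simpa using hmem)
    have hcl := mem_closure_of_kerPt_mem_closure hcons ψ₀ (hdense _)
    refine closure_mono ?_ hcl
    rintro f ⟨ψ, rfl, hψ⟩
    have hψH : ψ H' ≠ 0 := by
      intro h0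
      apply hψ
      exact h0
    have hψh : ψ (algebraMap (MvPolynomial (Fin n) ℂ) R h) ≠ 0 := by
      intro h0
      apply hψH
      rw [hH', hH, map_mul, map_mul, h0, zero_mul]
    obtain ⟨z, hev, hz, hσz⟩ := exists_sigma_eq hF ψ hψh
    refine ⟨z, ⟨?_, ?_⟩, ?_⟩
    · rw [hev]; exact hψH
    · have := ee_apply z μ
      unfold spec
      rw [← this]; exact hz
    · funext r
      exact hσz r

end Groth.Agent.Lib.Helper6.ConnA
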