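import Mathlib
import Groth.Agent.Lib.Helper6ConnAB
import Groth.Agent.Lib.Helper6AnFT
import Groth.Agent.Lib.Helper6AnCons

/-!
# Connectedness of `ℂ`-points: irreducible closed subsets of affine schemes, local decomposition
-/

set_option autoImplicit false

open AlgebraicGeometry CategoryTheory TopologicalSpace Opposite An Topology

namespace Groth.Agent.Lib.Helper6.Conn

variable {X : Scheme.{0}} [X.Over SC]

/-- the `ℂ`-points of an affine scheme of finite type over `ℂ` lying on the zero locus of a prime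
ideal form a preconnected set -/
theorem isPreconnected_zeroLocus_pts [IsAffine X] [LocallyOfFiniteType (X ↘ SC)]
    (𝔭 : Ideal Γ(X, ⊤)) [h𝔭 : 𝔭.IsPrime] :
    IsPreconnected {x : Pts X | ∀ f ∈ 𝔭, x.evTop f = 0} := by
  letI : Algebra ℂ Γ(X, ⊤) := (strHom X).toAlgebra
  haveI hft : Algebra.FiniteType ℂ Γ(X, ⊤) := strHom_finiteType (X := X)
  haveI : IsDomain (Γ(X, ⊤) ⧸ 𝔭) := Ideal.Quotient.isDomain 𝔭
  haveI hft' : Algebra.FiniteType ℂ (Γ(X, ⊤) ⧸ 𝔭) :=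
    Algebra.FiniteType.of_surjective (Ideal.Quotient.mkₐ ℂ 𝔭) (Ideal.Quotient.mkₐ_surjective ℂ 𝔭)
  have hA := ConnA.isPreconnected_algHom (Γ(X, ⊤) ⧸ 𝔭)
  set G : ((Γ(X, ⊤) ⧸ 𝔭) → ℂ) → (Γ(X, ⊤) → ℂ) := fun f r => f (Ideal.Quotient.mk 𝔭 r) with hG
  have hGc : Continuous G := continuous_pi fun r => continuous_apply _
  have himg := hA.image G hGc.continuousOn
  rw [← isInducing_evAll.isPreconnected_image]
  convert himg using 1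
  ext f
  constructor
  · rintro ⟨x, hx, rfl⟩
    have hcomm : ∀ c : ℂ, evHom x ⊤ (Opens.mem_top _) (algebraMap ℂ Γ(X, ⊤) c) = c :=
      fun c => evTop_strHom x c
    let ψ : Γ(X, ⊤) →ₐ[ℂ] ℂ := { evHom x ⊤ (Opens.mem_top _) with commutes' := hcomm }
    have hψ : ∀ a ∈ 𝔭, ψ a = 0 := fun a ha => hx a ha
    refine ⟨⇑(Ideal.Quotient.liftₐ 𝔭 ψ hψ), ⟨_, rfl⟩, ?_⟩
    funext r
    simp only [hG]
    rfl
  · rintro ⟨_, ⟨ψ, rfl⟩, rfl⟩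
    set ψ' : Γ(X, ⊤) →ₐ[ℂ] ℂ := ψ.comp (Ideal.Quotient.mkₐ ℂ 𝔭) with hψ'
    have hc : ∀ c, (ψ' : Γ(X, ⊤) →+* ℂ) (strHom X c) = c := fun c => ψ'.commutes c
    refine ⟨ptOfRingHom (ψ' : Γ(X, ⊤) →+* ℂ) hc, ?_, ?_⟩
    · intro a ha
      rw [evTop_ptOfRingHom]
      change ψ (Ideal.Quotient.mk 𝔭 a) = 0
      rw [Ideal.Quotient.eq_zero_iff_mem.2 ha, map_zero]
    · funext r
      change (ptOfRingHom (ψ' : Γ(X, ⊤) →+* ℂ) hc).evTop r = _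
      rw [evTop_ptOfRingHom]
      rfl

lemma mem_preimage_zeroLocus_iff (x : Pts X) (𝔭 : Ideal Γ(X, ⊤)) :
    x.pt ∈ X.toSpecΓ ⁻¹' (PrimeSpectrum.zeroLocus (𝔭 : Set Γ(X, ⊤))) ↔
      ∀ f ∈ 𝔭, x.evTop f = 0 := by
  rw [Set.mem_preimage]
  have key : X.toSpecΓ x.pt ∈ PrimeSpectrum.zeroLocus (𝔭 : Set Γ(X, ⊤)) ↔
      (𝔭 : Set Γ(X, ⊤)) ⊆ (X.toSpecΓ x.pt).asIdeal := Iff.rfl
  refine key.trans ⟨?_, ?_⟩
  · intro h f hf
    exact (mem_toSpecΓ_pt_iff x f).1 (h hf)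
  · intro h f hf
    exact (mem_toSpecΓ_pt_iff x f).2 (h f hf)

/-- local decomposition on an affine scheme: a clopen set of `ℂ`-points is cut out by two open
subsets covering the scheme -/
theorem exists_open_cover_of_isClopen_affine [IsAffine X] [LocallyOfFiniteType (X ↘ SC)]
    (A : Set (Pts X)) (hA : IsClopen A) :
    ∃ OA OB : Set X, IsOpen OA ∧ IsOpen OB ∧ OA ∪ OB = Set.univ ∧
      Pts.pt ⁻¹' OA ⊆ A ∧ Pts.pt ⁻¹' OB ⊆ Aᶜ := by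
  classical
  haveI := isLocallyNoetherian_of_lft (X := X)
  haveI : IsNoetherianRing Γ(X, ⊤) :=
    IsLocallyNoetherian.component_noetherian (X := X) ⟨⊤, isAffineOpen_top X⟩
  have hfin : (minimalPrimes Γ(X, ⊤)).Finite := minimalPrimes.finite_of_isNoetherianRing _
  set V : Ideal Γ(X, ⊤) → Set X := fun 𝔭 =>
    X.toSpecΓ ⁻¹' (PrimeSpectrum.zeroLocus (𝔭 : Set Γ(X, ⊤))) with hV
  have hVc : ∀ 𝔭, IsClosed (V 𝔭) := fun 𝔭 =>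
    (PrimeSpectrum.isClosed_zeroLocus _).preimage X.toSpecΓ.continuous
  set S : Ideal Γ(X, ⊤) → Set (Pts X) := fun 𝔭 => {x | ∀ f ∈ 𝔭, x.evTop f = 0} with hS
  have hSV : ∀ 𝔭 (x : Pts X), x.pt ∈ V 𝔭 ↔ x ∈ S 𝔭 := fun 𝔭 x => mem_preimage_zeroLocus_iff x 𝔭
  have hSpre : ∀ 𝔭 ∈ minimalPrimes Γ(X, ⊤), IsPreconnected (S 𝔭) := by
    intro 𝔭 h𝔭
    haveI : 𝔭.IsPrime := h𝔭.1.1
    exact isPreconnected_zeroLocus_pts 𝔭
  set MA : Set (Ideal Γ(X, ⊤)) := {𝔭 ∈ minimalPrimes Γ(X, ⊤) | S 𝔭 ⊆ A} with hMA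
  set MB : Set (Ideal Γ(X, ⊤)) := {𝔭 ∈ minimalPrimes Γ(X, ⊤) | ¬ S 𝔭 ⊆ A} with hMB
  have hMBsub : ∀ 𝔭 ∈ MB, S 𝔭 ⊆ Aᶜ := by
    intro 𝔭 h𝔭 x hx hxA
    exact h𝔭.2 ((hSpre 𝔭 h𝔭.1).subset_isClopen hA ⟨x, hx, hxA⟩)
  set CA : Set X := ⋃ 𝔭 ∈ MA, V 𝔭 with hCA
  set CB : Set X := ⋃ 𝔭 ∈ MB, V 𝔭 with hCB
  have hCAc : IsClosed CA := (hfin.subset (fun 𝔭 h => h.1)).isClosed_biUnion fun 𝔭 _ => hVc 𝔭
  have hCBc : IsClosed CB := (hfin.subset (fun 𝔭 h => h.1)).isClosed_biUnion fun 𝔭 _ => hVc 𝔭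
  have hcover : CA ∪ CB = Set.univ := by
    rw [Set.eq_univ_iff_forall]
    intro x
    obtain ⟨𝔭, h𝔭, hle⟩ := Ideal.exists_minimalPrimes_le (I := (⊥ : Ideal Γ(X, ⊤)))
      (J := (X.toSpecΓ x).asIdeal) bot_le
    have hxV : x ∈ V 𝔭 := by
      simp only [hV, Set.mem_preimage]
      have key : X.toSpecΓ x ∈ PrimeSpectrum.zeroLocus (𝔭 : Set Γ(X, ⊤)) ↔
          (𝔭 : Set Γ(X, ⊤)) ⊆ (X.toSpecΓ x).asIdeal := Iff.rfl
      exact key.2 hle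
    by_cases h : S 𝔭 ⊆ A
    · left
      exact Set.mem_biUnion (show 𝔭 ∈ MA from ⟨h𝔭, h⟩) hxV
    · right
      exact Set.mem_biUnion (show 𝔭 ∈ MB from ⟨h𝔭, h⟩) hxV
  have hptA : Pts.pt ⁻¹' CA ⊆ A := by
    intro x hx
    simp only [hCA, Set.mem_preimage, Set.mem_iUnion] at hx
    obtain ⟨𝔭, h𝔭, hx𝔭⟩ := hx
    exact h𝔭.2 ((hSV 𝔭 x).1 hx𝔭)
  have hptB : Pts.pt ⁻¹' CB ⊆ Aᶜ := by
    intro x hx
    simp only [hCB, Set.mem_preimage, Set.mem_iUnion] at hx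
    obtain ⟨𝔭, h𝔭, hx𝔭⟩ := hx
    exact hMBsub 𝔭 h𝔭 ((hSV 𝔭 x).1 hx𝔭)
  have hdisj : CA ∩ CB = ∅ := by
    by_contra hne
    obtain ⟨x, hx⟩ := exists_pt_mem_of_isLocallyClosed (hCAc.inter hCBc).isLocallyClosed
      (Set.nonempty_iff_ne_empty.2 hne)
    exact hptB hx.2 (hptA hx.1)
  refine ⟨CBᶜ, CAᶜ, hCBc.isOpen_compl, hCAc.isOpen_compl, ?_, ?_, ?_⟩
  · rw [← Set.compl_inter, Set.inter_comm, hdisj, Set.compl_empty]
  · intro x hx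
    apply hptA
    have : x.pt ∈ CA ∪ CB := by rw [hcover]; trivial
    exact this.resolve_right hx
  · intro x hx
    apply hptB
    have : x.pt ∈ CA ∪ CB := by rw [hcover]; trivial
    exact this.resolve_left hx

end Groth.Agent.Lib.Helper6.Conn
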