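import Mathlib
import Groth.Agent.Lib.Helper6ConnB

/-!
# Connectedness of schemes locally of finite type over `ℂ` and of their spaces of `ℂ`-points
-/

set_option autoImplicit false

open AlgebraicGeometry CategoryTheory TopologicalSpace Opposite An Topology

namespace Groth.Agent.Lib.Helper6.Conn

variable {X : Scheme.{0}} [X.Over SC]

/-- if `X` is preconnected then so is `X(ℂ)` -/
theorem preconnectedSpace_pts [LocallyOfFiniteType (X ↘ SC)] [PreconnectedSpace X] :
    PreconnectedSpace (Pts X) := by
  rw [preconnectedSpace_iff_clopen]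
  intro A hA
  set W : Set X := ⋃₀ {O | IsOpen O ∧ Pts.pt ⁻¹' O ⊆ A} with hW
  set W' : Set X := ⋃₀ {O | IsOpen O ∧ Pts.pt ⁻¹' O ⊆ Aᶜ} with hW'
  have hWo : IsOpen W := isOpen_sUnion fun O hO => hO.1
  have hW'o : IsOpen W' := isOpen_sUnion fun O hO => hO.1
  have hWA : Pts.pt ⁻¹' W ⊆ A := by
    rintro x ⟨O, hO, hxO⟩
    exact hO.2 hxO
  have hW'A : Pts.pt ⁻¹' W' ⊆ Aᶜ := by
    rintro x ⟨O, hO, hxO⟩
    exact hO.2 hxO
  have hdisj : W ∩ W' = ∅ := by
    by_contra hne
    obtain ⟨x, hx⟩ := exists_pt_mem_of_isLocallyClosed (hWo.inter hW'o).isLocallyClosed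
      (Set.nonempty_iff_ne_empty.2 hne)
    exact hW'A hx.2 (hWA hx.1)
  have hcover : W ∪ W' = Set.univ := by
    rw [Set.eq_univ_iff_forall]
    intro x
    obtain ⟨_, ⟨(U : X.Opens), hU : IsAffineOpen U, rfl⟩, hxU, -⟩ :=
      X.isBasis_affineOpens.exists_subset_of_mem_open (Set.mem_univ x) isOpen_univ
    haveI : IsAffine U.toScheme := hU
    haveI : LocallyOfFiniteType (U.toScheme ↘ SC) := by
      rw [← Scheme.Opens.ι_comp_over]; infer_instance
    obtain ⟨OA, OB, hOA, hOB, hcov, hA', hB'⟩ :=
      exists_open_cover_of_isClopen_affine (X := U.toScheme) (Pts.map U.ι ⁻¹' A)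
        (hA.preimage (Pts.continuous_map U.ι))
    have hx' : (⟨x, hxU⟩ : U.toScheme) ∈ OA ∪ OB := by rw [hcov]; trivial
    have key : ∀ (O : Set U.toScheme) (B : Set (Pts X)), IsOpen O →
        Pts.pt ⁻¹' O ⊆ Pts.map U.ι ⁻¹' B → IsOpen (U.ι '' O) ∧ Pts.pt ⁻¹' (U.ι '' O) ⊆ B := by
      intro O B hO hOB
      refine ⟨U.ι.isOpenEmbedding.isOpenMap O hO, ?_⟩
      rintro p ⟨q, hqO, hq⟩
      have hp : p ∈ Set.range (Pts.map U.ι) := by
        rw [range_map_of_isOpenImmersion]
        exact ⟨q, hq⟩
      obtain ⟨p', rfl⟩ := hp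
      have : p'.pt = q := U.ι.isOpenEmbedding.injective (by rw [← Pts.pt_map]; exact hq.symm)
      exact hOB (show p'.pt ∈ O by rw [this]; exact hqO)
    rcases hx' with h | h
    · left
      exact ⟨U.ι '' OA, key OA A hOA hA', ⟨⟨x, hxU⟩, h, rfl⟩⟩
    · right
      exact ⟨U.ι '' OB, key OB Aᶜ hOB (by rw [Set.preimage_compl]; exact hB'), ⟨⟨x, hxU⟩, h, rfl⟩⟩
  have hW'eq : W' = Wᶜ := by
    ext x
    constructor
    · intro hx' hx
      have : x ∈ W ∩ W' := ⟨hx, hx'⟩
      rw [hdisj] at this
      exact this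
    · intro hx
      have : x ∈ W ∪ W' := by rw [hcover]; trivial
      exact this.resolve_left hx
  have hWclopen : IsClopen W := ⟨by rw [← isOpen_compl_iff, ← hW'eq]; exact hW'o, hWo⟩
  rcases isClopen_iff.1 hWclopen with h | h
  · left
    have hW'u : W' = Set.univ := by rw [hW'eq, h, Set.compl_empty]
    rw [Set.eq_empty_iff_forall_notMem]
    intro x hx
    have : x ∈ Pts.pt ⁻¹' W' := by rw [hW'u]; trivial
    exact hW'A this hx
  · right
    rw [Set.eq_univ_iff_forall]
    intro x
    apply hWA
    rw [h]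
    trivial

/-- **S4191**: `X` is connected iff `X(ℂ)` is connected -/
theorem connectedSpace_iff_pts [LocallyOfFiniteType (X ↘ SC)] :
    ConnectedSpace ↥X ↔ ConnectedSpace (Pts X) := by
  constructor
  · intro h
    haveI := preconnectedSpace_pts (X := X)
    have hne : Nonempty (Pts X) := nonempty_pts_iff.1 h.toNonempty
    exact ConnectedSpace.mk hne
  · intro h
    have hne : Nonempty X := nonempty_pts_iff.2 h.toNonempty
    haveI : PreconnectedSpace X := by
      rw [preconnectedSpace_iff_clopen]
      intro s hs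
      have hpre : IsClopen (Pts.pt ⁻¹' s : Set (Pts X)) := hs.preimage Pts.continuous_pt
      rcases isClopen_iff.1 hpre with h1 | h1
      · left
        by_contra hne
        obtain ⟨x, hx⟩ := exists_pt_mem_of_isLocallyClosed hs.2.isLocallyClosed
          (Set.nonempty_iff_ne_empty.2 hne)
        have : x ∈ (Pts.pt ⁻¹' s : Set (Pts X)) := hx
        rw [h1] at this
        exact this
      · right
        by_contra hne
        have hne' : sᶜ.Nonempty := by
          rw [Set.nonempty_compl]; exact hne
        obtain ⟨x, hx⟩ := exists_pt_mem_of_isLocallyClosed hs.1.isOpen_compl.isLocallyClosed hne'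
        apply hx
        have : x ∈ (Pts.pt ⁻¹' s : Set (Pts X)) := by rw [h1]; trivial
        exact this
    exact ConnectedSpace.mk hne

/-- the `ℂ`-points lying on a closed connected subset form a preconnected set -/
theorem isPreconnected_preimage_pt [LocallyOfFiniteType (X ↘ SC)] (C : Set X) (hC : IsClosed C)
    (hCc : _root_.IsPreconnected C) : _root_.IsPreconnected (Pts.pt ⁻¹' C : Set (Pts X)) := by
  set I := Scheme.IdealSheafData.vanishingIdeal ⟨C, hC⟩ with hI
  set Y := I.subscheme with hY
  set ι : Y ⟶ X := I.subschemeι with hι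
  have hrange : Set.range ι = C := by
    rw [hι, Scheme.IdealSheafData.range_subschemeι, hI,
      Scheme.IdealSheafData.coe_support_vanishingIdeal]
    rfl
  letI : Y.Over SC := ⟨ι ≫ (X ↘ SC)⟩
  haveI : ι.IsOver SC := ⟨rfl⟩
  haveI : LocallyOfFiniteType (Y ↘ SC) :=
    inferInstanceAs (LocallyOfFiniteType (ι ≫ (X ↘ SC)))
  haveI : PreconnectedSpace Y := by
    refine ⟨?_⟩
    rw [← ι.isClosedEmbedding.isInducing.isPreconnected_image, Set.image_univ, hrange]
    exact hCc
  haveI := preconnectedSpace_pts (X := Y)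
  have h1 : _root_.IsPreconnected (Set.range (Pts.map ι)) := by
    rw [← Set.image_univ]
    exact isPreconnected_univ.image _ (Pts.continuous_map ι).continuousOn
  rwa [range_map_eq_preimage_range, hrange] at h1

/-- **S4192**: `π₀(X(ℂ)) → π₀(X)` is bijective -/
theorem connectedComponentsMap_pt_bijective [LocallyOfFiniteType (X ↘ SC)] :
    Function.Bijective (Pts.continuous_pt (X := X)).connectedComponentsMap := by
  constructor
  · intro a b hab
    obtain ⟨p, rfl⟩ := ConnectedComponents.surjective_coe a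
    obtain ⟨q, rfl⟩ := ConnectedComponents.surjective_coe b
    have h1 : (p.pt : _root_.ConnectedComponents X) = (q.pt : _root_.ConnectedComponents X) := hab
    rw [ConnectedComponents.coe_eq_coe'] at h1 ⊢
    have hpre := isPreconnected_preimage_pt (X := X) (connectedComponent q.pt)
      isClosed_connectedComponent isPreconnected_connectedComponent
    exact hpre.subset_connectedComponent (show q ∈ Pts.pt ⁻¹' connectedComponent q.pt from
      mem_connectedComponent) h1
  · intro c
    obtain ⟨x, rfl⟩ := ConnectedComponents.surjective_coe c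
    obtain ⟨p, hp⟩ := exists_pt_mem_of_isLocallyClosed (X := X)
      (isClosed_connectedComponent (x := x)).isLocallyClosed ⟨x, mem_connectedComponent⟩
    refine ⟨(p : _root_.ConnectedComponents (Pts X)), ?_⟩
    change (p.pt : _root_.ConnectedComponents X) = _
    rw [ConnectedComponents.coe_eq_coe']
    exact hp

end Groth.Agent.Lib.Helper6.Conn
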