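import Mathlib
import Groth.Agent.Lib.Helper6ConnC
import Groth.Agent.Lib.Helper6AnEtale
import Groth.Agent.Lib.Helper6AnSep

/-!
# Morphisms into étale separated schemes from continuous maps on `ℂ`-points
-/

set_option autoImplicit false

open AlgebraicGeometry CategoryTheory CategoryTheory.Limits TopologicalSpace Opposite An Topology

namespace Groth.Agent.Lib.Helper6.Conn

section clopen

variable {X : Scheme.{0}} [X.Over SC]

/-- an open subset containing the underlying points of all `ℂ`-points is everything -/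
lemma eq_univ_of_isOpen_of_forall_pt [LocallyOfFiniteType (X ↘ SC)] {O : Set X} (hO : IsOpen O)
    (h : ∀ x : Pts X, x.pt ∈ O) : O = Set.univ := by
  by_contra hne
  have hne' : Oᶜ.Nonempty := by
    rw [Set.nonempty_compl]; exact hne
  obtain ⟨x, hx⟩ := exists_pt_mem_of_isLocallyClosed hO.isClosed_compl.isLocallyClosed hne'
  exact hx (h x)

/-- every clopen set of `ℂ`-points is the set of `ℂ`-points of a clopen subset -/
theorem exists_isClopen_preimage_pt_eq [LocallyOfFiniteType (X ↘ SC)] (A : Set (Pts X))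
    (hA : IsClopen A) : ∃ W : Set X, IsClopen W ∧ Pts.pt ⁻¹' W = A := by
  set W : Set X := ⋃₀ {O | IsOpen O ∧ Pts.pt ⁻¹' O ⊆ A} with hW
  set W' : Set X := ⋃₀ {O | IsOpen O ∧ Pts.pt ⁻¹' O ⊆ Aᶜ} with hW'
  have hWo : IsOpen W := isOpen_sUnion fun O hO => hO.1
  have hW'o : IsOpen W' := isOpen_sUnion fun O hO => hO.1
  have hWA : Pts.pt ⁻¹' W ⊆ A := by
    rintro x ⟨O, hO, hxO⟩
    exact hO.2 hxO
  have hW'A : Pts.pt ⁻¹' W' ⊆ Aᶜ := by
    rintro x ⟨O, hO, hxO⟩
    exact hO.2 hxO
  have hdisj : W ∩ W' = ∅ := by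
    by_contra hne
    obtain ⟨x, hx⟩ := exists_pt_mem_of_isLocallyClosed (hWo.inter hW'o).isLocallyClosed
      (Set.nonempty_iff_ne_empty.2 hne)
    exact hW'A hx.2 (hWA hx.1)
  have hcover : W ∪ W' = Set.univ := by
    rw [Set.eq_univ_iff_forall]
    intro x
    obtain ⟨_, ⟨(U : X.Opens), hU : IsAffineOpen U, rfl⟩, hxU, -⟩ :=
      X.isBasis_affineOpens.exists_subset_of_mem_open (Set.mem_univ x) isOpen_univ
    haveI : IsAffine U.toScheme := hU
    haveI : LocallyOfFiniteType (U.toScheme ↘ SC) := by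
      rw [← Scheme.Opens.ι_comp_over]; infer_instance
    obtain ⟨OA, OB, hOA, hOB, hcov, hA', hB'⟩ :=
      exists_open_cover_of_isClopen_affine (X := U.toScheme) (Pts.map U.ι ⁻¹' A)
        (hA.preimage (Pts.continuous_map U.ι))
    have hx' : (⟨x, hxU⟩ : U.toScheme) ∈ OA ∪ OB := by rw [hcov]; trivial
    have key : ∀ (O : Set U.toScheme) (B : Set (Pts X)), IsOpen O →
        Pts.pt ⁻¹' O ⊆ Pts.map U.ι ⁻¹' B → IsOpen (U.ι '' O) ∧ Pts.pt ⁻¹' (U.ι '' O) ⊆ B := by
      intro O B hO hOB
      refine ⟨U.ι.isOpenEmbedding.isOpenMap O hO, ?_⟩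
      rintro p ⟨q, hqO, hq⟩
      have hp : p ∈ Set.range (Pts.map U.ι) := by
        rw [range_map_of_isOpenImmersion]
        exact ⟨q, hq⟩
      obtain ⟨p', rfl⟩ := hp
      have : p'.pt = q := U.ι.isOpenEmbedding.injective (by rw [← Pts.pt_map]; exact hq.symm)
      exact hOB (show p'.pt ∈ O by rw [this]; exact hqO)
    rcases hx' with h | h
    · left
      exact ⟨U.ι '' OA, key OA A hOA hA', ⟨⟨x, hxU⟩, h, rfl⟩⟩
    · right
      exact ⟨U.ι '' OB, key OB Aᶜ hOB (by rw [Set.preimage_compl]; exact hB'), ⟨⟨x, hxU⟩, h, rfl⟩⟩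
  have hW'eq : W' = Wᶜ := by
    ext x
    constructor
    · intro hx' hx
      have : x ∈ W ∩ W' := ⟨hx, hx'⟩
      rw [hdisj] at this
      exact this
    · intro hx
      have : x ∈ W ∪ W' := by rw [hcover]; trivial
      exact this.resolve_left hx
  refine ⟨W, ⟨by rw [← isOpen_compl_iff, ← hW'eq]; exact hW'o, hWo⟩, ?_⟩
  apply Set.Subset.antisymm hWA
  intro x hx
  have : x.pt ∈ W ∪ W' := by rw [hcover]; trivial
  rcases this with h | h
  · exact h
  · exact absurd hx (hW'A h)

end clopen

/-- the image of a continuous section of a separated local homeomorphism is clopen -/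
lemma isClopen_range_section {E B : Type*} [TopologicalSpace E] [TopologicalSpace B] (p : E → B)
    (hp : IsLocalHomeomorph p) (hsep : IsSeparatedMap p) (s : B → E) (hs : Continuous s)
    (hps : ∀ b, p (s b) = b) : IsClopen (Set.range s) := by
  have hrange : Set.range s = {e | (s ∘ p) e = id e} := by
    ext e
    constructor
    · rintro ⟨b, rfl⟩
      simp only [Set.mem_ofPred_eq, Function.comp_apply, id]
      rw [hps]
    · intro h
      exact ⟨p e, h⟩
  have he : p ∘ (s ∘ p) = p ∘ id := by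
    funext e
    simp only [Function.comp_apply, id]
    rw [hps]
  rw [hrange]
  exact ⟨hsep.isClosed_eqLocus (hs.comp hp.continuous) continuous_id he,
    hp.isLocallyInjective.isOpen_eqLocus (hs.comp hp.continuous) continuous_id he⟩

/-- an etale morphism with surjective diagonal is an open immersion -/
theorem isOpenImmersion_of_etale_of_diagonal_surjective {A B : Scheme.{0}} (f : A ⟶ B) [Etale f]
    (hd : Surjective (pullback.diagonal f)) : IsOpenImmersion f := by
  haveI : IsOpenImmersion (pullback.diagonal f) := inferInstance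
  haveI : IsIso (pullback.diagonal f) :=
    (isIso_iff_isOpenImmersion_and_surjective _).mpr ⟨inferInstance, hd⟩
  have hfst : pullback.diagonal f ≫ pullback.fst f f = 𝟙 A := pullback.diagonal_fst f
  have hsnd : pullback.diagonal f ≫ pullback.snd f f = 𝟙 A := pullback.diagonal_snd f
  have heq : pullback.fst f f = pullback.snd f f := by
    rw [← cancel_epi (pullback.diagonal f), hfst, hsnd]
  haveI : Mono f := by
    refine ⟨fun {W} a b hab => ?_⟩
    have ha : pullback.lift a b hab ≫ pullback.fst f f = a := pullback.lift_fst _ _ _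
    have hb : pullback.lift a b hab ≫ pullback.snd f f = b := pullback.lift_snd _ _ _
    exact ha.symm.trans ((congrArg (fun φ => pullback.lift a b hab ≫ φ) heq).trans hb)
  exact IsOpenImmersion.of_flat_of_mono f

section lift

variable {U V X : Scheme.{0}} [U.Over SC] [V.Over SC] [X.Over SC]
  [LocallyOfFiniteType (U ↘ SC)] [LocallyOfFiniteType (V ↘ SC)] [LocallyOfFiniteType (X ↘ SC)]

/-- an etale morphism over `ℂ` which is bijective on `ℂ`-points is an isomorphism -/
theorem isIso_of_etale_of_bijective_pts (g : U ⟶ V) [g.IsOver SC] [Etale g]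
    (hbij : Function.Bijective (Pts.map g)) : IsIso g := by
  have hsurj : Surjective g := by
    constructor
    have hopen : IsOpen (Set.range g) := g.isOpenMap.isOpen_range
    have := eq_univ_of_isOpen_of_forall_pt hopen (fun y => by
      obtain ⟨x, rfl⟩ := hbij.2 y
      rw [Pts.pt_map]
      exact ⟨x.pt, rfl⟩)
    exact Set.range_eq_univ.1 this
  have hd : Surjective (pullback.diagonal g) := by
    constructor
    have hopen : IsOpen (Set.range (pullback.diagonal g)) :=
      (pullback.diagonal g).isOpenEmbedding.isOpen_range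
    have := eq_univ_of_isOpen_of_forall_pt (X := pullback g g) hopen (fun z => by
      have hcond := Pts.map_pullback_condition g g z
      have heq : Pts.map (pullback.fst g g) z = Pts.map (pullback.snd g g) z := hbij.1 hcond
      refine ⟨(Pts.map (pullback.fst g g) z).pt, ?_⟩
      have hz : (Pts.map (pullback.fst g g) z).1 ≫ pullback.diagonal g = z.1 := by
        apply pullback.hom_ext
        · rw [Category.assoc, pullback.diagonal_fst, Category.comp_id]
          rfl
        · rw [Category.assoc, pullback.diagonal_snd, Category.comp_id]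
          exact congrArg Subtype.val heq
      change (pullback.diagonal g) ((Pts.map (pullback.fst g g) z).1 cpt) = z.1 cpt
      rw [← Scheme.Hom.comp_apply, hz])
    exact Set.range_eq_univ.1 this
  haveI := isOpenImmersion_of_etale_of_diagonal_surjective g hd
  exact (isIso_iff_isOpenImmersion_and_surjective _).mpr ⟨inferInstance, hsurj⟩

/-- **lifting**: a continuous map on `ℂ`-points over `X(ℂ)` into an etale separated `X`-scheme is
induced by a morphism of `X`-schemes -/
theorem exists_lift_of_continuous (a : U ⟶ X) (b : V ⟶ X) [a.IsOver SC] [b.IsOver SC] [Etale b]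
    [IsSeparated b] (φ : Pts U → Pts V) (hφ : Continuous φ)
    (hφb : ∀ u, Pts.map b (φ u) = Pts.map a u) :
    ∃ g : U ⟶ V, g ≫ b = a ∧ ∀ u : Pts U, u.1 ≫ g = (φ u).1 := by
  set p₁ : pullback a b ⟶ U := pullback.fst a b with hp₁
  set p₂ : pullback a b ⟶ V := pullback.snd a b with hp₂
  haveI : Etale p₁ := by rw [hp₁]; infer_instance
  haveI : IsSeparated p₁ := by rw [hp₁]; infer_instance
  have hΦ := isHomeomorph_pts_pullback a b
  set Φ := hΦ.homeomorph with hΦdef
  -- the section
  set s : Pts U → Pts (pullback a b) := fun u => Φ.symm ⟨(u, φ u), (hφb u).symm⟩ with hs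
  have hsc : Continuous s :=
    Φ.symm.continuous.comp (Continuous.subtype_mk (continuous_id.prodMk hφ) _)
  have hΦs : ∀ u, Φ (s u) = ⟨(u, φ u), (hφb u).symm⟩ := fun u => Φ.apply_symm_apply _
  have hs₁ : ∀ u, Pts.map p₁ (s u) = u := fun u => congrArg (fun q => q.1.1) (hΦs u)
  have hs₂ : ∀ u, Pts.map p₂ (s u) = φ u := fun u => congrArg (fun q => q.1.2) (hΦs u)
  have hlh : IsLocalHomeomorph (Pts.map p₁) := isLocalHomeomorph_map_of_etale p₁
  have hsepm : IsSeparatedMap (Pts.map p₁) := (isSeparated_iff_pts p₁).1 inferInstance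
  have hclopen := isClopen_range_section (Pts.map p₁) hlh hsepm s hsc hs₁
  obtain ⟨W₀set, hW₀clopen, hW₀⟩ := exists_isClopen_preimage_pt_eq _ hclopen
  set W₀ : (pullback a b).Opens := ⟨W₀set, hW₀clopen.2⟩ with hW₀def
  haveI : LocallyOfFiniteType (W₀.toScheme ↘ SC) := by
    rw [← Scheme.Opens.ι_comp_over]; infer_instance
  set g₀ : W₀.toScheme ⟶ U := W₀.ι ≫ p₁ with hg₀
  haveI : Etale g₀ := by rw [hg₀]; infer_instance
  have hg₀map : ∀ w₀ : Pts W₀.toScheme, Pts.map g₀ w₀ = Pts.map p₁ (Pts.map W₀.ι w₀) :=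
    fun w₀ => Pts.map_comp W₀.ι p₁ w₀
  have hmemΓ : ∀ w₀ : Pts W₀.toScheme, Pts.map W₀.ι w₀ = s (Pts.map g₀ w₀) := by
    intro w₀
    have h1 : Pts.map W₀.ι w₀ ∈ Pts.pt ⁻¹' W₀set := by
      rw [Set.mem_preimage, Pts.pt_map]
      exact (w₀.pt).2
    rw [hW₀] at h1
    obtain ⟨u, hu⟩ := h1
    have : Pts.map g₀ w₀ = u := by
      rw [hg₀map, ← hu, hs₁]
    rw [this, hu]
  have hex : ∀ u : Pts U, ∃ w₀ : Pts W₀.toScheme, Pts.map W₀.ι w₀ = s u := by
    intro u
    have h1 : s u ∈ Pts.pt ⁻¹' W₀set := by rw [hW₀]; exact ⟨u, rfl⟩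
    have h2 : s u ∈ Set.range (Pts.map W₀.ι) := by
      rw [range_map_of_isOpenImmersion, Scheme.Opens.opensRange_ι]
      exact h1
    exact h2
  have hbij : Function.Bijective (Pts.map g₀) := by
    constructor
    · intro w₀ w₀' h
      apply map_injective_of_mono W₀.ι
      rw [hmemΓ w₀, hmemΓ w₀', h]
    · intro u
      obtain ⟨w₀, hw₀⟩ := hex u
      refine ⟨w₀, ?_⟩
      rw [hg₀map, hw₀, hs₁]
  haveI : IsIso g₀ := isIso_of_etale_of_bijective_pts g₀ hbij
  refine ⟨inv g₀ ≫ W₀.ι ≫ p₂, ?_, ?_⟩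
  · rw [Category.assoc, Category.assoc, hp₂, ← pullback.condition, ← hp₁, ← Category.assoc W₀.ι,
      ← hg₀, IsIso.inv_hom_id_assoc]
  · intro u
    obtain ⟨w₀, hw₀⟩ := hex u
    have h1 : Pts.map g₀ w₀ = u := by
      rw [hg₀map, hw₀, hs₁]
    have h2 : u.1 ≫ inv g₀ = w₀.1 := by
      rw [IsIso.comp_inv_eq]
      exact (congrArg Subtype.val h1).symm
    rw [← Category.assoc, h2]
    have h3 : w₀.1 ≫ W₀.ι = (s u).1 := congrArg Subtype.val hw₀
    rw [← Category.assoc, h3]
    exact congrArg Subtype.val (hs₂ u)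

end lift

end Groth.Agent.Lib.Helper6.Conn
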