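import Mathlib
import Groth.Agent.Lib.Helper6ConnD
import Groth.Agent.Lib.Helper6AnEps

/-!
# Faithfulness: morphisms into an étale scheme are determined by their effect on `ℂ`-points
-/

set_option autoImplicit false

open AlgebraicGeometry CategoryTheory CategoryTheory.Limits TopologicalSpace Opposite An Topology

namespace Groth.Agent.Lib.Helper6.Conn

set_option backward.isDefEq.respectTransparency false in
theorem isOpenImmersion_equalizer_ι_left {S : Scheme.{0}} {X Y : Over S}
    [IsOpenImmersion (pullback.diagonal Y.hom)]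
    (f g : X ⟶ Y) : IsOpenImmersion (equalizer.ι f g).left := by
  refine MorphismProperty.of_isPullback (P := @IsOpenImmersion)
    ((Limits.isPullback_equalizer_prod f g).map (Over.forget _)).flip ?_
  rw [← MorphismProperty.cancel_right_of_respectsIso @IsOpenImmersion _
    (Over.prodLeftIsoPullback Y Y).hom]
  convert! (inferInstance : IsOpenImmersion (pullback.diagonal Y.hom))
  ext1 <;> simp [← Over.comp_left]

/-- two morphisms over `X` into an etale `X`-scheme which agree on `ℂ`-points are equal -/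
theorem hom_ext_of_pts {U V X : Scheme.{0}} [U.Over SC] [LocallyOfFiniteType (U ↘ SC)]
    (b : V ⟶ X) [Etale b] (g₁ g₂ : U ⟶ V) (hb : g₁ ≫ b = g₂ ≫ b)
    (h : ∀ u : Pts U, u.1 ≫ g₁ = u.1 ≫ g₂) : g₁ = g₂ := by
  let X' : Over X := Over.mk (g₁ ≫ b)
  let Y' : Over X := Over.mk b
  let f₁ : X' ⟶ Y' := Over.homMk g₁ rfl
  let f₂ : X' ⟶ Y' := Over.homMk g₂ hb.symm
  haveI : IsOpenImmersion (pullback.diagonal Y'.hom) :=
    (inferInstance : IsOpenImmersion (pullback.diagonal b))
  haveI hopen : IsOpenImmersion (equalizer.ι f₁ f₂).left := isOpenImmersion_equalizer_ι_left f₁ f₂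
  have hrange : Set.range (equalizer.ι f₁ f₂).left = Set.univ := by
    apply eq_univ_of_isOpen_of_forall_pt (X := U)
      ((equalizer.ι f₁ f₂).left.isOpenEmbedding.isOpen_range)
    intro u
    let T : Over X := Over.mk (u.1 ≫ g₁ ≫ b)
    let ι' : T ⟶ X' := Over.homMk u.1 rfl
    have hι : ι' ≫ f₁ = ι' ≫ f₂ := by
      ext1
      exact h u
    have hl : (equalizer.lift ι' hι).left ≫ (equalizer.ι f₁ f₂).left = u.1 := by
      rw [← Over.comp_left, equalizer.lift_ι]
      rfl
    refine ⟨(equalizer.lift ι' hι).left cpt, ?_⟩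
    change _ = u.1 cpt
    rw [← hl, Scheme.Hom.comp_apply]
  have hs : Surjective (equalizer.ι f₁ f₂).left := ⟨Set.range_eq_univ.1 hrange⟩
  haveI : IsIso (equalizer.ι f₁ f₂).left :=
    (isIso_iff_isOpenImmersion_and_surjective _).2 ⟨inferInstance, hs⟩
  have key : f₁ = f₂ := by
    ext1
    rw [← cancel_epi (equalizer.ι f₁ f₂).left]
    exact congr($(equalizer.condition f₁ f₂).left)
  exact congrArg (fun k => k.left) key

end Groth.Agent.Lib.Helper6.Conn
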