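import Groth.Prelude
import Mathlib

open CategoryTheory CategoryTheory.Limits AlgebraicGeometry TopologicalSpace

namespace Groth.Agent.Lib.Helper6

universe u

lemma isClosedEmbedding_coprod_inl (X' X'' : Scheme.{u}) :
    Topology.IsClosedEmbedding (coprod.inl : X' ⟶ X' ⨿ X'') := by
  refine ⟨(coprod.inl : X' ⟶ X' ⨿ X'').isOpenEmbedding.isEmbedding, ?_⟩
  rw [← isOpen_compl_iff, (isCompl_range_inl_inr X' X'').compl_eq]
  exact (coprod.inr : X'' ⟶ X' ⨿ X'').isOpenEmbedding.isOpen_range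

lemma isClosedEmbedding_coprod_inr (X' X'' : Scheme.{u}) :
    Topology.IsClosedEmbedding (coprod.inr : X'' ⟶ X' ⨿ X'') := by
  refine ⟨(coprod.inr : X'' ⟶ X' ⨿ X'').isOpenEmbedding.isEmbedding, ?_⟩
  rw [← isOpen_compl_iff, (isCompl_range_inl_inr X' X'').symm.compl_eq]
  exact (coprod.inl : X' ⟶ X' ⨿ X'').isOpenEmbedding.isOpen_range

lemma coprod_desc_preimage {X' X'' Y : Scheme.{u}} (f' : X' ⟶ Y) (f'' : X'' ⟶ Y) (U : Set Y) :
    (coprod.desc f' f'') ⁻¹' U =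
      (coprod.inl : X' ⟶ X' ⨿ X'') '' (f' ⁻¹' U) ∪ (coprod.inr : X'' ⟶ X' ⨿ X'') '' (f'' ⁻¹' U) := by
  ext x
  obtain ⟨(a | b), rfl⟩ := (coprodMk X' X'').surjective x
  · rw [coprodMk_inl]
    simp only [Set.mem_preimage, Set.mem_union, Set.mem_image]
    rw [← Scheme.Hom.comp_apply, coprod.inl_desc]
    constructor
    · intro h
      exact Or.inl ⟨a, h, rfl⟩
    · rintro (⟨a', ha', h⟩ | ⟨b', hb', h⟩)
      · rwa [← (coprod.inl : X' ⟶ X' ⨿ X'').isOpenEmbedding.injective h]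
      · exact absurd h (inr_ne_inl _ _ _ _)
  · rw [coprodMk_inr]
    simp only [Set.mem_preimage, Set.mem_union, Set.mem_image]
    rw [← Scheme.Hom.comp_apply, coprod.inr_desc]
    constructor
    · intro h
      exact Or.inr ⟨b, h, rfl⟩
    · rintro (⟨a', ha', h⟩ | ⟨b', hb', h⟩)
      · exact absurd h (inl_ne_inr _ _ _ _)
      · rwa [← (coprod.inr : X'' ⟶ X' ⨿ X'').isOpenEmbedding.injective h]

theorem quasiCompact_coprod_desc_iff {X' X'' Y : Scheme.{u}} (f' : X' ⟶ Y) (f'' : X'' ⟶ Y) :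
    QuasiCompact (coprod.desc f' f'') ↔ QuasiCompact f' ∧ QuasiCompact f'' := by
  constructor
  · intro h
    refine ⟨⟨fun U hU hUc => ?_⟩, ⟨fun U hU hUc => ?_⟩⟩
    · have h1 := h.isCompact_preimage U hU hUc
      have h2 := (isClosedEmbedding_coprod_inl X' X'').isCompact_preimage h1
      rw [← Set.preimage_comp, ← TopCat.coe_comp, ← Scheme.Hom.comp_base, coprod.inl_desc] at h2
      exact h2
    · have h1 := h.isCompact_preimage U hU hUc
      have h2 := (isClosedEmbedding_coprod_inr X' X'').isCompact_preimage h1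
      rw [← Set.preimage_comp, ← TopCat.coe_comp, ← Scheme.Hom.comp_base, coprod.inr_desc] at h2
      exact h2
  · rintro ⟨h', h''⟩
    refine ⟨fun U hU hUc => ?_⟩
    rw [coprod_desc_preimage]
    exact ((h'.isCompact_preimage U hU hUc).image (coprod.inl : X' ⟶ X' ⨿ X'').continuous).union
      ((h''.isCompact_preimage U hU hUc).image (coprod.inr : X'' ⟶ X' ⨿ X'').continuous)

lemma isQuasiSeparated_union_of_disjoint {α : Type*} [TopologicalSpace α] {A B : Set α}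
    (hA : IsOpen A) (hB : IsOpen B) (hAB : Disjoint A B) (qA : IsQuasiSeparated A)
    (qB : IsQuasiSeparated B) : IsQuasiSeparated (A ∪ B) := by
  intro U V hUs hUo hUc hVs hVo hVc
  have key : ∀ W : Set α, W ⊆ A ∪ B → W ∩ A = W \ B ∧ W ∩ B = W \ A := by
    intro W hW
    constructor
    · ext x
      constructor
      · rintro ⟨hxW, hxA⟩
        exact ⟨hxW, fun hxB => Set.disjoint_left.mp hAB hxA hxB⟩
      · rintro ⟨hxW, hxB⟩
        exact ⟨hxW, (hW hxW).resolve_right hxB⟩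
    · ext x
      constructor
      · rintro ⟨hxW, hxB⟩
        exact ⟨hxW, fun hxA => Set.disjoint_left.mp hAB hxA hxB⟩
      · rintro ⟨hxW, hxA⟩
        exact ⟨hxW, (hW hxW).resolve_left hxA⟩
  have hUA : IsCompact (U ∩ A) := by rw [(key U hUs).1]; exact hUc.diff hB
  have hUB : IsCompact (U ∩ B) := by rw [(key U hUs).2]; exact hUc.diff hA
  have hVA : IsCompact (V ∩ A) := by rw [(key V hVs).1]; exact hVc.diff hB
  have hVB : IsCompact (V ∩ B) := by rw [(key V hVs).2]; exact hVc.diff hA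
  have h1 : IsCompact ((U ∩ A) ∩ (V ∩ A)) :=
    qA _ _ Set.inter_subset_right (hUo.inter hA) hUA Set.inter_subset_right (hVo.inter hA) hVA
  have h2 : IsCompact ((U ∩ B) ∩ (V ∩ B)) :=
    qB _ _ Set.inter_subset_right (hUo.inter hB) hUB Set.inter_subset_right (hVo.inter hB) hVB
  have h3 : U ∩ V = ((U ∩ A) ∩ (V ∩ A)) ∪ ((U ∩ B) ∩ (V ∩ B)) := by
    ext x
    constructor
    · rintro ⟨hxU, hxV⟩
      rcases hUs hxU with hxA | hxB
      · exact Or.inl ⟨⟨hxU, hxA⟩, ⟨hxV, hxA⟩⟩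
      · exact Or.inr ⟨⟨hxU, hxB⟩, ⟨hxV, hxB⟩⟩
    · rintro (⟨⟨hxU, _⟩, ⟨hxV, _⟩⟩ | ⟨⟨hxU, _⟩, ⟨hxV, _⟩⟩) <;> exact ⟨hxU, hxV⟩
  rw [h3]
  exact h1.union h2


theorem quasiSeparated_coprod_desc_iff {X' X'' Y : Scheme.{u}} (f' : X' ⟶ Y) (f'' : X'' ⟶ Y) :
    QuasiSeparated (coprod.desc f' f'') ↔ QuasiSeparated f' ∧ QuasiSeparated f'' := by
  constructor
  · intro h
    constructor
    · rw [← coprod.inl_desc f' f'']
      infer_instance
    · rw [← coprod.inr_desc f' f'']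
      infer_instance
  · rintro ⟨h', h''⟩
    rw [HasAffineProperty.eq_targetAffineLocally (P := @QuasiSeparated)]
    intro U
    change QuasiSeparatedSpace ↥((coprod.desc f' f'') ⁻¹ᵁ U.1)
    refine (isQuasiSeparated_iff_quasiSeparatedSpace _ ((coprod.desc f' f'') ⁻¹ᵁ U.1).2).mp ?_
    change IsQuasiSeparated ((coprod.desc f' f'') ⁻¹' (U.1 : Set Y))
    rw [coprod_desc_preimage]
    have q' : IsQuasiSeparated (f' ⁻¹' (U.1 : Set Y)) :=
      f'.isQuasiSeparated_preimage U.2.isQuasiSeparated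
    have q'' : IsQuasiSeparated (f'' ⁻¹' (U.1 : Set Y)) :=
      f''.isQuasiSeparated_preimage U.2.isQuasiSeparated
    refine isQuasiSeparated_union_of_disjoint
      ((coprod.inl : X' ⟶ X' ⨿ X'').isOpenEmbedding.isOpenMap _ (f' ⁻¹ᵁ U.1).2)
      ((coprod.inr : X'' ⟶ X' ⨿ X'').isOpenEmbedding.isOpenMap _ (f'' ⁻¹ᵁ U.1).2) ?_
      (q'.image_of_isEmbedding (coprod.inl : X' ⟶ X' ⨿ X'').isOpenEmbedding.isEmbedding)
      (q''.image_of_isEmbedding (coprod.inr : X'' ⟶ X' ⨿ X'').isOpenEmbedding.isEmbedding)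
    rw [Set.disjoint_left]
    rintro _ ⟨a, _, rfl⟩ ⟨b, _, h⟩
    exact inr_ne_inl _ _ _ _ h

end Groth.Agent.Lib.Helper6
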