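import Groth.Agent.Lib.Helper25Exact
import Groth.Agent.Lib.Helper25Cosemisimple
import Mathlib

set_option autoImplicit false

namespace Groth.Agent.Lib.Helper6.Cosemi

open TensorProduct Coalgebra HopfRep

universe u v w

section Galois

variable {K : Type u} {A : Type v} [Field K] [CommRing A] [HopfAlgebra K A]

/-- `x ⊗ y ↦ l y • x`. -/
noncomputable def sl (l : A →ₗ[K] K) : A ⊗[K] A →ₗ[K] A :=
  (TensorProduct.rid K A).toLinearMap ∘ₗ l.lTensor A

@[simp] lemma sl_tmul (l : A →ₗ[K] K) (x y : A) : sl l (x ⊗ₜ[K] y) = l y • x := by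
  simp [sl]

/-- The Galois map `x ⊗ y ↦ (x ⊗ 1) Δ(y)`, as an `A`-algebra map. -/
noncomputable def Phi : A ⊗[K] A →ₐ[A] A ⊗[K] A :=
  Algebra.TensorProduct.lift (Algebra.ofId A (A ⊗[K] A)) (Bialgebra.comulAlgHom K A)
    (fun _ _ => Commute.all _ _)

/-- The inverse Galois map `x ⊗ y ↦ (x ⊗ 1) (S ⊗ id)Δ(y)`. -/
noncomputable def Psi : A ⊗[K] A →ₐ[A] A ⊗[K] A :=
  Algebra.TensorProduct.lift (Algebra.ofId A (A ⊗[K] A))
    ((Algebra.TensorProduct.map (HopfAlgebra.antipodeAlgHom K A) (AlgHom.id K A)).comp
      (Bialgebra.comulAlgHom K A))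
    (fun _ _ => Commute.all _ _)

lemma Phi_tmul (x y : A) : Phi (K := K) (x ⊗ₜ[K] y) = (x ⊗ₜ[K] 1) * comul (R := K) y := by
  simp [Phi, Algebra.ofId_apply, Algebra.TensorProduct.algebraMap_apply]

lemma Psi_tmul (x y : A) : Psi (K := K) (x ⊗ₜ[K] y) =
    (x ⊗ₜ[K] 1) * TensorProduct.map (HopfAlgebra.antipode K) LinearMap.id (comul (R := K) y) := by
  simp [Psi, Algebra.ofId_apply, Algebra.TensorProduct.algebraMap_apply]
  rfl

lemma Psi_comul (y : A) : Psi (K := K) (comul (R := K) y) = 1 ⊗ₜ[K] y := by
  let G : A ⊗[K] (A ⊗[K] A) →ₗ[K] A ⊗[K] A :=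
    (LinearMap.mul' K A ∘ₗ (HopfAlgebra.antipode K).lTensor A).rTensor A ∘ₗ
      (TensorProduct.assoc K A A A).symm.toLinearMap
  have h1 : ∀ t : A ⊗[K] A, Psi (K := K) t = G (comul.lTensor A t) := by
    intro t
    induction t using TensorProduct.induction_on with
    | zero => simp
    | add t₁ t₂ h₁ h₂ => simp only [map_add, h₁, h₂]
    | tmul a b =>
      rw [Psi_tmul, LinearMap.lTensor_tmul]
      generalize comul (R := K) b = s
      induction s using TensorProduct.induction_on with
      | zero => simp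
      | add s₁ s₂ h₁ h₂ => simp only [map_add, mul_add, tmul_add, h₁, h₂]
      | tmul c d => simp [G]
  have h2 : ∀ t : A ⊗[K] A, G (TensorProduct.assoc K A A A (comul.rTensor A t)) =
      (LinearMap.mul' K A ∘ₗ (HopfAlgebra.antipode K).lTensor A ∘ₗ comul).rTensor A t := by
    intro t
    induction t using TensorProduct.induction_on with
    | zero => simp
    | add t₁ t₂ h₁ h₂ => simp only [map_add, h₁, h₂]
    | tmul a b =>
      rw [LinearMap.rTensor_tmul, LinearMap.rTensor_tmul]
      simp only [LinearMap.comp_apply]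
      generalize comul (R := K) a = s
      induction s using TensorProduct.induction_on with
      | zero => simp
      | add s₁ s₂ h₁ h₂ => simp only [map_add, add_tmul, h₁, h₂]
      | tmul c d => simp [G]
  rw [h1, ← Coalgebra.coassoc_apply, h2, HopfAlgebra.mul_antipode_lTensor_comul,
    LinearMap.rTensor_comp, LinearMap.comp_apply, Coalgebra.rTensor_counit_comul]
  simp

lemma Psi_Phi (z : A ⊗[K] A) : Psi (K := K) (Phi (K := K) z) = z := by
  induction z using TensorProduct.induction_on with
  | zero => simp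
  | add z₁ z₂ h₁ h₂ => simp only [map_add, h₁, h₂]
  | tmul x y =>
    rw [Phi_tmul, map_mul, Psi_comul]
    have : (x ⊗ₜ[K] (1 : A)) = algebraMap A (A ⊗[K] A) x := by
      rw [Algebra.TensorProduct.algebraMap_apply]; rfl
    rw [this, AlgHom.commutes, ← this, Algebra.TensorProduct.tmul_mul_tmul, mul_one, one_mul]

section Fin

variable [Module.Finite K A]

lemma Phi_bijective : Function.Bijective (Phi (K := K) (A := A)) := by
  have hinj : Function.Injective (Phi (K := K) (A := A)) :=
    Function.LeftInverse.injective Psi_Phi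
  refine ⟨hinj, ?_⟩
  have := LinearMap.injective_iff_surjective
    (f := ((Phi (K := K) (A := A)).toLinearMap.restrictScalars K))
  exact this.mp hinj

lemma trace_comul (a : A) : Algebra.trace A (A ⊗[K] A) (comul (R := K) a) =
    Algebra.trace A (A ⊗[K] A) ((1 : A) ⊗ₜ[K] a) := by
  have h := Algebra.trace_eq_of_algEquiv (AlgEquiv.ofBijective Phi Phi_bijective)
    ((1 : A) ⊗ₜ[K] a)
  rw [← h]
  congr 1
  simp [Phi_tmul, ← Algebra.TensorProduct.one_def]

lemma trace_eq_sl (z : A ⊗[K] A) :
    Algebra.trace A (A ⊗[K] A) z = sl (Algebra.trace K A) z := by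
  induction z using TensorProduct.induction_on with
  | zero => simp
  | add z₁ z₂ h₁ h₂ => simp only [map_add, h₁, h₂]
  | tmul x y =>
    rw [Algebra.trace_apply, sl_tmul]
    have : Algebra.lmul A (A ⊗[K] A) (x ⊗ₜ[K] y) =
        x • (LinearMap.baseChange A (Algebra.lmul K A y)) := by
      apply TensorProduct.AlgebraTensorModule.curry_injective
      ext u
      simp [TensorProduct.smul_tmul']
    rw [this, map_smul, LinearMap.trace_baseChange, ← Algebra.trace_apply, Algebra.smul_def,
      Algebra.algebraMap_self_apply, Algebra.smul_def, mul_comm]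

/-- The trace is a left integral. -/
lemma sl_trace_comul (a : A) :
    sl (Algebra.trace K A) (comul (R := K) a) = algebraMap K A (Algebra.trace K A a) := by
  rw [← trace_eq_sl, trace_comul, trace_eq_sl, sl_tmul, Algebra.smul_def, mul_one]

end Fin

end Galois

section Integral

variable {K : Type u} {A : Type v} [Field K] [CommRing A] [HopfAlgebra K A]

/-- A normalized left integral. -/
def IsNInt (l : A →ₗ[K] K) : Prop :=
  (∀ a, sl l (comul (R := K) a) = algebraMap K A (l a)) ∧ l 1 = 1

lemma exists_integral [Module.Finite K A] [CharZero K] : ∃ l : A →ₗ[K] K, IsNInt l := by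
  have hA : Nontrivial A := by
    refine ⟨⟨1, 0, fun h => ?_⟩⟩
    have := congrArg (counit (R := K)) h
    simp at this
  have hn : (Module.finrank K A : K) ≠ 0 := by
    exact_mod_cast (Module.finrank_pos (R := K) (M := A)).ne'
  refine ⟨(Module.finrank K A : K)⁻¹ • Algebra.trace K A, ?_, ?_⟩
  · intro a
    have h : sl ((Module.finrank K A : K)⁻¹ • Algebra.trace K A) =
        (Module.finrank K A : K)⁻¹ • sl (Algebra.trace K A) := by
      ext x y
      simp [smul_smul]
    rw [h, LinearMap.smul_apply, sl_trace_comul, LinearMap.smul_apply, smul_eq_mul, map_mul,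
      Algebra.smul_def]
  · have h1 : Algebra.trace K A 1 = (Module.finrank K A : K) := by
      have := Algebra.trace_algebraMap (R := K) (S := A) (1 : K)
      rw [map_one] at this
      rw [this]
      simp
    rw [LinearMap.smul_apply, h1, smul_eq_mul, inv_mul_cancel₀ hn]

variable {V : Type w} [AddCommGroup V] [Module K V] [Comod K A V]

/-- The Reynolds operator attached to an integral. -/
noncomputable def rey (l : A →ₗ[K] K) : V →ₗ[K] V :=
  (TensorProduct.rid K V).toLinearMap ∘ₗ l.lTensor V ∘ₗ Comod.coact (k := K) (A := A)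

lemma rey_mem_fixedPts {l : A →ₗ[K] K} (hl : IsNInt l) (v : V) :
    rey (A := A) l v ∈ fixedPts K A V := by
  change Comod.coact (k := K) (A := A) (rey l v) = rey l v ⊗ₜ[K] (1 : A)
  have h1 : ∀ t : V ⊗[K] A,
      Comod.coact (k := K) (A := A) (TensorProduct.rid K V (l.lTensor V t)) =
      TensorProduct.rid K (V ⊗[K] A) (l.lTensor (V ⊗[K] A)
        ((Comod.coact (k := K) (A := A)).rTensor A t)) := by
    intro t
    induction t using TensorProduct.induction_on with
    | zero => simp
    | add t₁ t₂ h₁ h₂ => simp only [map_add, h₁, h₂]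
    | tmul w a => simp
  have h2 : ∀ t : V ⊗[K] (A ⊗[K] A),
      TensorProduct.rid K (V ⊗[K] A) (l.lTensor (V ⊗[K] A)
        ((TensorProduct.assoc K V A A).symm t)) = (sl l).lTensor V t := by
    intro t
    induction t using TensorProduct.induction_on with
    | zero => simp
    | add t₁ t₂ h₁ h₂ => simp only [map_add, h₁, h₂]
    | tmul w s =>
      induction s using TensorProduct.induction_on with
      | zero => simp
      | add s₁ s₂ h₁ h₂ => simp only [tmul_add, map_add, h₁, h₂]
      | tmul b c => simp [TensorProduct.smul_tmul']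
  have h3 : ∀ t : V ⊗[K] A, ((Algebra.linearMap K A) ∘ₗ l).lTensor V t =
      (TensorProduct.rid K V (l.lTensor V t)) ⊗ₜ[K] (1 : A) := by
    intro t
    induction t using TensorProduct.induction_on with
    | zero => simp
    | add t₁ t₂ h₁ h₂ => simp only [map_add, add_tmul, h₁, h₂]
    | tmul w a =>
      simp [Algebra.algebraMap_eq_smul_one, TensorProduct.smul_tmul']
  have hc : (Comod.coact (k := K) (A := A)).rTensor A (Comod.coact (k := K) (A := A) v) =
      (TensorProduct.assoc K V A A).symm
        ((comul (R := K) (A := A)).lTensor V (Comod.coact (k := K) (A := A) v)) := by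
    rw [LinearEquiv.eq_symm_apply]
    exact LinearMap.congr_fun (Comod.coassoc (k := K) (A := A) (V := V)) v
  have h4 : sl l ∘ₗ comul (R := K) (A := A) = (Algebra.linearMap K A) ∘ₗ l := by
    ext a
    exact hl.1 a
  simp only [rey, LinearMap.comp_apply, LinearEquiv.coe_coe]
  rw [h1, hc, h2, ← LinearMap.comp_apply, ← LinearMap.lTensor_comp, h4, h3]

lemma rey_of_hom {l : A →ₗ[K] K} (hl : IsNInt l) (π : V →ₗ[K] K)
    (hπ : LinearMap.rTensor A π ∘ₗ Comod.coact (k := K) (A := A) (V := V) =
      (TensorProduct.mk K K A).flip (1 : A) ∘ₗ π) (v : V) :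
    π (rey (A := A) l v) = π v := by
  have h := LinearMap.congr_fun hπ v
  simp only [LinearMap.comp_apply, LinearMap.flip_apply, TensorProduct.mk_apply] at h
  have h1 : ∀ t : V ⊗[K] A, π (TensorProduct.rid K V (l.lTensor V t)) =
      TensorProduct.lid K K (l.lTensor K (π.rTensor A t)) := by
    intro t
    induction t using TensorProduct.induction_on with
    | zero => simp
    | add t₁ t₂ h₁ h₂ => simp only [map_add, h₁, h₂]
    | tmul w a => simp [mul_comm]
  simp only [rey, LinearMap.comp_apply, LinearEquiv.coe_coe]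
  rw [h1, h]
  simp [hl.2]

end Integral

section Main

variable {K : Type u} {A : Type v} [Field K] [CharZero K] [CommRing A] [HopfAlgebra K A]
  [Module.Finite K A]

theorem isSemisimpleComod_regular : IsSemisimpleComod K A A := by
  obtain ⟨l, hl⟩ := exists_integral (K := K) (A := A)
  refine Groth.Agent.Lib.Helper25.isSemisimpleComod_of_exact (k := K) (A := A) ?_ A
  intro X Y _ _ _ _ _ _ φ hX hY hφ hs y hy
  refine Groth.Agent.Lib.Helper25.exists_fixedPts_of_criterion ?_ X Y φ hX hφ hs y hy
  intro V _ _ _ hV π hπs hπc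
  obtain ⟨v0, hv0⟩ := hπs 1
  refine ⟨rey l v0, rey_mem_fixedPts hl v0, ?_⟩
  rw [rey_of_hom hl π hπc, hv0]
  exact one_ne_zero

theorem cosemisimple :
    ∃ (ι : Type v) (D : ι → Submodule K A), iSupIndep D ∧ iSup D = ⊤ ∧ ∀ i,
        D i ≠ ⊥ ∧ (∀ b ∈ (D i), CoalgebraStruct.comul (R := K) b ∈
          LinearMap.range (TensorProduct.map (D i).subtype (D i).subtype)) ∧
        ∀ B : Submodule K A, B ≤ D i → (∀ b ∈ B, CoalgebraStruct.comul (R := K) b ∈
          LinearMap.range (TensorProduct.map B.subtype B.subtype)) → B = ⊥ ∨ B = D i := by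
  obtain ⟨ι, D, h1, h2, h3⟩ :=
    Groth.Agent.Lib.Helper25.exists_cosemisimple_decomp (k := K) (A := A)
      isSemisimpleComod_regular
  exact ⟨ι, D, h1, h2, fun i => h3 i⟩

end Main

end Groth.Agent.Lib.Helper6.Cosemi
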