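import Mathlib
import Groth.Prelude.Def_Coh
import Groth.Prelude.Def_CurvBase
import Groth.Prelude.Def_CAlg
import Groth.Agent.Lib.Helper6EmbSec
import Groth.Agent.Lib.Helper6GammaField
import Groth.Agent.Lib.Helper28DepthLoc

set_option autoImplicit false
set_option linter.style.haveILetI false
universe u
open CategoryTheory Limits AlgebraicGeometry Opposite TopologicalSpace

namespace Groth.Agent.Lib.Helper6.CurveCM

open Groth.Agent.Lib.Helper17.GammaA Groth.Agent.Lib.Helper6.GammaField
open Groth.Agent.Lib.Helper6.EmbSec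

section Field

variable (k : Type u) [Field k] (X : Scheme.{u}) [X.Over (Spec (CommRingCat.of k))]

/-- `Γ(X, O_X) ≃ H⁰(X, O_X)`, `k`-linearly -/
theorem finrank_Γ_eq :
    letI := algΓ k X
    Module.finrank k Γ(X, ⊤) = Module.finrank k (Coh.HH X (Coh.structureModule X) 0) := by
  letI := algΓ k X
  let ℓ : ((Γ (X := X) k).obj (Coh.structureModule X)) →ₗ[k] Γ(X, ⊤) :=
    { toFun := fun s => s
      map_add' := fun _ _ => rfl
      map_smul' := fun a s => by
        rw [smul_eq, Coh.smulAb_app]
        have h1 : Coh.resTop X (op ⊤) (Coh.toGlobal (X ↘ Spec (CommRingCat.of k)) a) =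
            Coh.toGlobal (X ↘ Spec (CommRingCat.of k)) a := by
          change (X.ringCatSheaf.obj.map (𝟙 (op ⊤))).hom _ = _
          rw [X.ringCatSheaf.obj.map_id]
          rfl
        change @HSMul.hSMul (X.ringCatSheaf.obj.obj (op ⊤)) ((Coh.structureModule X).val.obj (op ⊤))
          ((Coh.structureModule X).val.obj (op ⊤)) _
          (Coh.resTop X (op ⊤) (Coh.toGlobal (X ↘ Spec (CommRingCat.of k)) a)) s = _
        rw [h1]
        rfl }
  let ℓ' : ((Γ (X := X) k).obj (Coh.structureModule X)) ≃ₗ[k] Γ(X, ⊤) :=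
    LinearEquiv.ofBijective ℓ ⟨fun _ _ h => h, fun s => ⟨s, rfl⟩⟩
  rw [← ℓ'.finrank_eq, (e0 k (Coh.structureModule X)).finrank_eq]

/-- if `h⁰(O_X) = 1` then germs of global functions are determined at any single point -/
theorem germ_injective (h0 : Module.finrank k (Coh.HH X (Coh.structureModule X) 0) = 1) (y : X) :
    Function.Injective (X.presheaf.germ ⊤ y trivial) := by
  letI := algΓ k X
  have h1 : Module.finrank k Γ(X, ⊤) = 1 := (finrank_Γ_eq k X).trans h0
  have hne : (1 : Γ(X, ⊤)) ≠ 0 := by
    intro h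
    haveI : Subsingleton Γ(X, ⊤) := subsingleton_of_zero_eq_one h.symm
    rw [Module.finrank_zero_of_subsingleton] at h1
    exact absurd h1 (by norm_num)
  have hgen := (finrank_eq_one_iff_of_nonzero' (1 : Γ(X, ⊤)) hne).1 h1
  let φ : k →+* X.presheaf.stalk y :=
    (X.presheaf.germ ⊤ y trivial).hom.comp (algebraMap k Γ(X, ⊤))
  have hφ : Function.Injective φ := φ.injective
  intro s t hst
  obtain ⟨c, rfl⟩ := hgen s
  obtain ⟨c', rfl⟩ := hgen t
  have e : ∀ d : k, X.presheaf.germ ⊤ y trivial (d • (1 : Γ(X, ⊤))) = φ d := by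
    intro d
    rw [Algebra.smul_def, mul_one]
    rfl
  rw [e, e] at hst
  rw [hφ hst]

end Field

section Alg

open Groth.Agent.Lib.Helper28

/-- a Noetherian local ring of dimension at most one is Cohen–Macaulay as soon as, in the
one-dimensional case, no nonzero element is killed by the maximal ideal -/
theorem isCM_of_dim_le_one (R : Type u) [CommRing R] [IsLocalRing R] [IsNoetherianRing R]
    (hd : ringKrullDim R ≤ 1)
    (h : ringKrullDim R = 1 →
      ∀ a : R, (∀ r ∈ IsLocalRing.maximalIdeal R, r * a = 0) → a = 0) :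
    LocCoh.IsCohenMacaulayLocalRing R := by
  refine { supportDim_eq_depth := ?_ }
  rw [Module.supportDim_self_eq_ringKrullDim]
  have hle : ((LocCoh.depth R R : ℕ∞) : WithBot ℕ∞) ≤ ringKrullDim R := by
    rw [← Module.supportDim_self_eq_ringKrullDim]
    exact depth_le_supportDim
  by_cases h1 : 1 ≤ LocCoh.depth R R
  · refine le_antisymm (hd.trans ?_) hle
    exact_mod_cast h1
  · have h0 : LocCoh.depth R R = 0 := by
      rw [not_le] at h1
      exact Order.lt_one_iff.1 h1
    rw [h0]
    have hIM : IsLocalRing.maximalIdeal R • (⊤ : Submodule R R) ≠ ⊤ := maximalIdeal_smul_top_ne_top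
    obtain ⟨p, hp, hmp⟩ := (idealDepth_eq_zero_iff hIM).1 h0
    have hpm : IsLocalRing.maximalIdeal R = p :=
      (IsLocalRing.maximalIdeal.isMaximal R).eq_of_le hp.isPrime.ne_top hmp
    obtain ⟨_, a, ha⟩ := isAssociatedPrime_iff.1 hp
    have hne1 : ringKrullDim R ≠ 1 := by
      intro hdim1
      have ha0 : a = 0 := by
        apply h hdim1 a
        intro r hr
        rw [hpm, ha, Submodule.mem_colon_singleton] at hr
        simpa using hr
      apply (IsLocalRing.maximalIdeal.isMaximal R).ne_top
      rw [hpm, ha, ha0]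
      ext r
      simp [Submodule.mem_colon_singleton]
    have hnn : (0 : WithBot ℕ∞) ≤ ringKrullDim R := ringKrullDim_nonneg_of_nontrivial
    -- dim ≤ 1, dim ≠ 1, 0 ≤ dim
    obtain ⟨d, hdim⟩ : ∃ d : ℕ∞, (d : WithBot ℕ∞) = ringKrullDim R :=
      WithBot.ne_bot_iff_exists.1 (fun hb => by rw [hb] at hnn; simp at hnn)
    rw [← hdim] at hd hne1 ⊢
    have hd' : d ≤ 1 := by exact_mod_cast hd
    have hne1' : d ≠ 1 := fun h => hne1 (by rw [h]; rfl)
    have : d = 0 := by
      rcases lt_or_eq_of_le hd' with h | h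
      · exact Order.lt_one_iff.1 h
      · exact absurd h hne1'
    rw [this]

end Alg

section Top

/-- in a connected Noetherian sober space of dimension one, every irreducible component has
dimension one -/
theorem dim_component_eq_one {T : Type*} [TopologicalSpace T] [NoetherianSpace T] [QuasiSober T]
    [T0Space T] [ConnectedSpace T] (hdim : topologicalKrullDim T = 1) (Z : Set T)
    (hZ : Z ∈ irreducibleComponents T) : topologicalKrullDim Z = 1 := by
  have hZirr : IsIrreducible Z := hZ.1
  have hZcl : IsClosed Z := isClosed_of_mem_irreducibleComponents Z hZ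
  obtain ⟨η, hη⟩ := QuasiSober.sober hZirr hZcl
  have hηZ : η ∈ Z := hη.mem
  refine le_antisymm ((topologicalKrullDim_subspace_le T Z).trans hdim.le) ?_
  by_cases h : ∃ z ∈ Z, z ≠ η
  · obtain ⟨z, hz, hzη⟩ := h
    unfold topologicalKrullDim
    rw [Order.one_le_krullDim_iff]
    haveI : IrreducibleSpace Z := Subtype.irreducibleSpace hZirr
    refine ⟨⟨closure {⟨z, hz⟩}, isIrreducible_singleton.closure, isClosed_closure⟩,
      ⟨Set.univ, IrreducibleSpace.isIrreducible_univ Z, isClosed_univ⟩, ?_⟩
    refine lt_of_le_of_ne (fun _ _ => trivial) (fun heq => hzη ?_)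
    have h1 : (⟨η, hηZ⟩ : Z) ∈ closure ({⟨z, hz⟩} : Set Z) := by
      have := congrArg (fun C : IrreducibleCloseds Z => (C : Set Z)) heq
      change closure ({⟨z, hz⟩} : Set Z) = Set.univ at this
      rw [this]
      trivial
    rw [closure_subtype, Set.image_singleton] at h1
    have hzη' : z ⤳ η := specializes_iff_mem_closure.2 h1
    have hηz : η ⤳ z := by
      rw [specializes_iff_mem_closure, hη.def]
      exact hz
    exact (hzη'.antisymm hηz).eq
  · exfalso
    push Not at h
    have hZη : Z = {η} := Set.eq_singleton_iff_unique_mem.2 ⟨hηZ, h⟩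
    obtain ⟨o, ho, hone, hoZ⟩ :=
      NoetherianSpace.exists_isOpen_nonempty_subset_irreducibleComponent Z hZ
    have hoη : o = Z := by
      rw [hZη] at hoZ ⊢
      exact (Set.Nonempty.subset_singleton_iff hone).1 hoZ
    have hclopen : IsClopen Z := ⟨hZcl, hoη ▸ ho⟩
    have huniv : Z = Set.univ := hclopen.eq_univ ⟨η, hηZ⟩
    haveI : Subsingleton T := ⟨fun a b => by
      have ha : a ∈ Z := huniv ▸ Set.mem_univ a
      have hb : b ∈ Z := huniv ▸ Set.mem_univ b
      rw [h a ha, h b hb]⟩
    have hle : topologicalKrullDim T ≤ 0 := by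
      unfold topologicalKrullDim
      haveI : Subsingleton (IrreducibleCloseds T) := ⟨fun A B => by
        apply IrreducibleCloseds.ext
        obtain ⟨a, ha⟩ := A.isIrreducible'.nonempty
        obtain ⟨b, hb⟩ := B.isIrreducible'.nonempty
        ext t
        rw [Subsingleton.elim t a]
        constructor
        · intro _; rw [Subsingleton.elim a b]; exact hb
        · intro _; exact ha⟩
      exact Order.krullDim_nonpos_of_subsingleton
    rw [hdim] at hle
    exact absurd hle (by decide)

end Top

section Geom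

variable {X : Scheme.{u}}

/-- if global functions are determined by their germ at any point, `X` is connected -/
theorem connectedSpace_of_germ_injective [Nonempty X]
    (hinj : ∀ y : X, Function.Injective (X.presheaf.germ ⊤ y trivial)) : ConnectedSpace X := by
  haveI : PreconnectedSpace X := by
    rw [preconnectedSpace_iff_clopen]
    intro S hS
    by_contra hcon
    push Not at hcon
    obtain ⟨hne, hnu⟩ := hcon
    obtain ⟨x, hx⟩ := hne
    obtain ⟨y, hy⟩ := (Set.ne_univ_iff_exists_notMem S).1 hnu
    let U₁ : X.Opens := ⟨S, hS.isOpen⟩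
    let U₂ : X.Opens := ⟨Sᶜ, hS.compl.isOpen⟩
    have hbot : U₁ ⊓ U₂ ≤ ⊥ := by
      rintro z ⟨hz1, hz2⟩
      exact (hz2 hz1).elim
    have hcompat : rs (bot_le : (⊥ : X.Opens) ≤ U₁) (1 : Γ(X, U₁)) =
        rs (bot_le : (⊥ : X.Opens) ≤ U₂) (0 : Γ(X, U₂)) := by
      refine TopCat.Presheaf.section_ext X.sheaf ⊥ _ _ (fun z hz => ?_)
      exact (hz : z ∈ (⊥ : X.Opens)).elim
    obtain ⟨s, hs1, hs2⟩ := Groth.Agent.Lib.Helper6.EmbSec.exists_glue₂ X.sheaf (homOfLE (le_top : U₁ ≤ ⊤))
      (homOfLE (le_top : U₂ ≤ ⊤))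
      (fun z _ => by
        by_cases hz : z ∈ S
        · exact Or.inl hz
        · exact Or.inr hz)
      (homOfLE (bot_le : (⊥ : X.Opens) ≤ U₁)) (homOfLE (bot_le : (⊥ : X.Opens) ≤ U₂)) hbot
      (1 : Γ(X, U₁)) (0 : Γ(X, U₂)) hcompat
    let s' : Γ(X, ⊤) := s
    have hs1' : rs (le_top : U₁ ≤ ⊤) s' = 1 := hs1
    have hs2' : rs (le_top : U₂ ≤ ⊤) s' = 0 := hs2
    have hxU : x ∈ U₁ := hx
    have hyU : y ∈ U₂ := hy
    have e1 : s' = 1 := by
      apply hinj x
      rw [← germ_rs (le_top : U₁ ≤ ⊤) s' x hxU, hs1', map_one, map_one]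
    have e2 : s' = 0 := by
      apply hinj y
      rw [← germ_rs (le_top : U₂ ≤ ⊤) s' y hyU, hs2', map_zero, map_zero]
    have h10 : (1 : Γ(X, ⊤)) = 0 := e1.symm.trans e2
    have := congrArg (X.presheaf.germ ⊤ x trivial) h10
    rw [map_one, map_zero] at this
    exact one_ne_zero this
  exact { toNonempty := inferInstance }

/-- Cohen–Macaulayness of the local rings of a locally Noetherian scheme of dimension at most one
whose global functions are determined by their germ at any point -/
theorem isCM_stalk_of_germ_injective [IsLocallyNoetherian X] (hdim : topologicalKrullDim X ≤ 1)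
    (hinj : ∀ y : X, Function.Injective (X.presheaf.germ ⊤ y trivial)) (x : X) :
    LocCoh.IsCohenMacaulayLocalRing (X.presheaf.stalk x) := by
  have hco : ringKrullDim (X.presheaf.stalk x) = Order.coheight x :=
    ringKrullDim_stalk_eq_coheight x
  apply isCM_of_dim_le_one
  · rw [hco]
    exact (coheight_le_dim x).trans hdim
  · intro h1 a ha
    rw [hco] at h1
    have hnm : ¬ IsMax x := by
      intro hm
      rw [← Order.coheight_eq_zero] at hm
      rw [hm] at h1
      exact absurd h1 (by decide)
    rw [not_isMax_iff] at hnm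
    obtain ⟨y, hxy⟩ := hnm
    have hyx : y ⤳ x := Scheme.le_iff_specializes.1 hxy.le
    have hne : x ≠ y := hxy.ne
    have hcl := isClosed_singleton_of_generization hdim hyx hne
    obtain ⟨s, hs, hs'⟩ := exists_section_supported x hcl a ha
    have hs0 : s = 0 := hinj y (by rw [hs' y hne.symm, map_zero])
    rw [← hs, hs0, map_zero]

end Geom

section Main

variable (k : Type u) [Field k] (X : Scheme.{u}) [X.Over (Spec (CommRingCat.of k))]
  [IsProper (X ↘ (Spec (CommRingCat.of k)))]

theorem main (hdim : topologicalKrullDim X = 1)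
    (h0 : Module.finrank k (Coh.HH X (Coh.structureModule X) 0) = 1) :
    ConnectedSpace X ∧ (∀ x : X, LocCoh.IsCohenMacaulayLocalRing (X.presheaf.stalk x)) ∧
      ∀ Z ∈ irreducibleComponents (X : Type u), topologicalKrullDim Z = 1 := by
  have hinj := germ_injective k X h0
  haveI : Nonempty X := by
    by_contra hne
    rw [not_nonempty_iff] at hne
    have hbot : topologicalKrullDim X = ⊥ := by
      unfold topologicalKrullDim
      haveI : IsEmpty (IrreducibleCloseds X) :=
        ⟨fun A => A.isIrreducible'.nonempty.elim (fun a _ => hne.false a)⟩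
      exact Order.krullDim_eq_bot
    rw [hdim] at hbot
    exact absurd hbot (by decide)
  haveI : IsLocallyNoetherian X :=
    LocallyOfFiniteType.isLocallyNoetherian (X ↘ (Spec (CommRingCat.of k)))
  haveI : CompactSpace X :=
    QuasiCompact.compactSpace_of_compactSpace (X ↘ (Spec (CommRingCat.of k)))
  haveI : AlgebraicGeometry.IsNoetherian X := {}
  haveI : ConnectedSpace X := connectedSpace_of_germ_injective hinj
  exact ⟨inferInstance, isCM_stalk_of_germ_injective hdim.le hinj,
    fun Z hZ => dim_component_eq_one hdim Z hZ⟩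

end Main

end Groth.Agent.Lib.Helper6.CurveCM
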