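import Mathlib
import Groth.Agent.Lib.Helper6PIRedSmoothSch
import Groth.Prelude.Def_Omega3
import Groth.Prelude.Def_Omega4

/-!
# Derivations vanish on global functions of a smooth proper scheme over a field (helper6, S15533)

* `separable_minpoly_of_isReduced_tensor`: integral element of a geometrically reduced algebra has
  separable minimal polynomial.
* `smooth_sections`, `isReduced_tensor_globalSections`: global sections of a smooth quasi-compact
  `k`-scheme form a geometrically reduced `k`-algebra.
* `derivation_eq_zero_of_separable`, `der_app_top_eq_zero`.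
-/

set_option autoImplicit false
universe u
open CategoryTheory CategoryTheory.Limits AlgebraicGeometry TopologicalSpace TensorProduct

namespace Groth.Agent.Lib.Helper6.DZero

open Groth.Agent.Lib.Helper6.PIRedSmoothSch

section
open Polynomial
/-- an integral element of a `k`-algebra `B` with `L ⊗ B` reduced (`L` a perfect field) has separable
minimal polynomial. -/
theorem separable_minpoly_of_isReduced_tensor {k B : Type u} [Field k] [CommRing B] [Algebra k B]
    (L : Type u) [Field L] [Algebra k L] [PerfectField L]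
    (hred : IsReduced (L ⊗[k] B)) (s : B) (hs : IsIntegral k s) : (minpoly k s).Separable := by
  rw [← Polynomial.separable_map (algebraMap k L), PerfectField.separable_iff_squarefree]
  intro x hx
  obtain ⟨h, hh⟩ := hx
  have hQ0 : (minpoly k s).map (algebraMap k L) ≠ 0 :=
    (Polynomial.map_ne_zero_iff (algebraMap k L).injective).mpr (minpoly.ne_zero hs)
  have hx0 : x ≠ 0 := by
    rintro rfl
    rw [zero_mul, zero_mul] at hh
    exact hQ0 hh
  have hh0 : h ≠ 0 := by
    rintro rfl
    rw [mul_zero] at hh
    exact hQ0 hh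
  by_contra hxu
  have hdegx : 0 < x.natDegree := by
    rw [Nat.pos_iff_ne_zero]
    intro h0
    apply hxu
    rw [Polynomial.isUnit_iff_degree_eq_zero, Polynomial.degree_eq_natDegree hx0, h0]
    rfl
  set t : L ⊗[k] B := (1 : L) ⊗ₜ[k] s with ht
  have hQt : aeval t ((minpoly k s).map (algebraMap k L)) = 0 := by
    rw [Polynomial.aeval_map_algebraMap]
    have : t = (Algebra.TensorProduct.includeRight : B →ₐ[k] L ⊗[k] B) s := rfl
    rw [this, Polynomial.aeval_algHom_apply, minpoly.aeval, map_zero]
  have hy : aeval t (x * h) = 0 := by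
    have h2 : aeval t (x * h) * aeval t (x * h) = 0 := by
      rw [← map_mul]
      have : x * h * (x * h) = (minpoly k s).map (algebraMap k L) * h := by rw [hh]; ring
      rw [this, map_mul, hQt, zero_mul]
    exact (IsReduced.eq_zero _ ⟨2, by rw [pow_two]; exact h2⟩)
  -- degree bound
  have hdeg : (x * h).natDegree < (minpoly k s).natDegree := by
    have h1 : ((minpoly k s).map (algebraMap k L)).natDegree = (minpoly k s).natDegree :=
      Polynomial.natDegree_map _
    rw [← h1, hh, Polynomial.natDegree_mul (mul_ne_zero hx0 hx0) hh0,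
      Polynomial.natDegree_mul hx0 hx0, Polynomial.natDegree_mul hx0 hh0]
    omega
  -- linear independence of the powers of t
  have hli : LinearIndependent L fun i : Fin (minpoly k s).natDegree => (1 : L) ⊗ₜ[k] (s ^ (i : ℕ)) :=
    Module.Flat.linearIndependent_one_tmul (linearIndependent_pow (K := k) s)
  have hcoeff : ∀ i : Fin (minpoly k s).natDegree, (x * h).coeff i = 0 := by
    rw [Polynomial.aeval_eq_sum_range' hdeg, Finset.sum_range] at hy
    have hy' : ∑ i : Fin (minpoly k s).natDegree, (x * h).coeff i • ((1 : L) ⊗ₜ[k] (s ^ (i : ℕ))) = 0 := by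
      rw [← hy]
      refine Finset.sum_congr rfl fun i _ => ?_
      rw [ht, Algebra.TensorProduct.tmul_pow, one_pow]
    exact Fintype.linearIndependent_iff.mp hli _ hy'
  have hzero : x * h = 0 := by
    ext i
    by_cases hi : i < (minpoly k s).natDegree
    · simpa using hcoeff ⟨i, hi⟩
    · rw [Polynomial.coeff_zero]
      exact Polynomial.coeff_eq_zero_of_natDegree_lt (lt_of_lt_of_le hdeg (not_lt.mp hi))
  exact mul_ne_zero hx0 hh0 hzero


end

theorem smooth_sections (k : Type u) [Field k] {X : Scheme.{u}}
    (f : X ⟶ Spec (CommRingCat.of k)) [Smooth f] (U : X.Opens) (hU : IsAffineOpen U) :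
    letI : Algebra k Γ(X, U) := (secMap k f U).hom.toAlgebra
    Algebra.Smooth k Γ(X, U) := by
  letI : Algebra k Γ(X, U) := (secMap k f U).hom.toAlgebra
  have h1 : Smooth (hU.fromSpec ≫ f) := inferInstance
  rw [fromSpec_comp k f U hU, HasRingHomProperty.Spec_iff (P := @Smooth)] at h1
  exact RingHom.smooth_algebraMap.mp h1

theorem isReduced_tensor_globalSections (k : Type u) [Field k] {X : Scheme.{u}}
    (f : X ⟶ Spec (CommRingCat.of k)) [Smooth f] [CompactSpace X]
    (L : Type u) [Field L] [Algebra k L] :
    letI : Algebra k Γ(X, ⊤) := (secMap k f ⊤).hom.toAlgebra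
    IsReduced (L ⊗[k] Γ(X, ⊤)) := by
  classical
  letI algB : Algebra k Γ(X, ⊤) := (secMap k f ⊤).hom.toAlgebra
  obtain ⟨S, hSfin, hS⟩ := isCompact_and_isOpen_iff_finite_and_eq_biUnion_affineOpens.mp
    ⟨isCompact_univ (X := X), isOpen_univ⟩
  haveI : Fintype S := hSfin.fintype
  letI algC : ∀ U : S, Algebra k Γ(X, U.1.1) := fun U => (secMap k f U.1.1).hom.toAlgebra
  have hsm : ∀ U : S, Algebra.Smooth k Γ(X, U.1.1) := fun U => smooth_sections k f U.1.1 U.1.2
  let ρ : ∀ U : S, Γ(X, ⊤) →ₐ[k] Γ(X, U.1.1) := fun U =>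
    { toRingHom := (X.presheaf.map (homOfLE (le_top : U.1.1 ≤ ⊤)).op).hom
      commutes' := fun c => by
        have := secMap_res k f (le_top : U.1.1 ≤ ⊤)
        exact congrArg (fun g => g.hom c) this }
  let ψ : Γ(X, ⊤) →ₐ[k] ∀ U : S, Γ(X, U.1.1) := AlgHom.pi ρ
  have hψ : Function.Injective ψ := by
    intro s t est
    apply X.IsSheaf.section_ext fun x hx ↦ ?_
    have hx' : x ∈ (Set.univ : Set X) := Set.mem_univ x
    rw [hS] at hx'
    simp only [Set.mem_iUnion] at hx'
    obtain ⟨U, hUS, hxU⟩ := hx'
    exact ⟨U.1, le_top, hxU, congrFun est ⟨U, hUS⟩⟩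
  have hψ' : Function.Injective (Algebra.TensorProduct.map (AlgHom.id L L) ψ) :=
    Module.Flat.lTensor_preserves_injective_linearMap ψ.toLinearMap hψ
  have hred : ∀ U : S, IsReduced (L ⊗[k] Γ(X, U.1.1)) := fun U =>
    Groth.Agent.Lib.Helper6.isReduced_of_smooth L _
  have h1 : ∀ (U : S) (w : L ⊗[k] Γ(X, ⊤)),
      (Algebra.TensorProduct.piRight k L L (fun U : S => Γ(X, U.1.1)))
      (Algebra.TensorProduct.map (AlgHom.id L L) ψ w) U =
      Algebra.TensorProduct.map (AlgHom.id L L) (ρ U) w := by
    intro U w
    induction w using TensorProduct.induction_on with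
    | zero => simp
    | tmul a b => simp [ψ]
    | add x y hx hy =>
      simp only [map_add, Pi.add_apply]
      rw [hx, hy]
  constructor
  intro z hz
  apply hψ'
  rw [map_zero]
  apply (Algebra.TensorProduct.piRight k L L (fun U : S => Γ(X, U.1.1))).injective
  rw [map_zero]
  funext U
  rw [h1]
  exact (hz.map (Algebra.TensorProduct.map (AlgHom.id L L) (ρ U))).eq_zero


/-- a derivation kills separable algebraic elements -/
theorem derivation_eq_zero_of_separable {k B M : Type*} [Field k] [CommRing B] [Algebra k B]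
    [AddCommGroup M] [Module B M] [Module k M] [IsScalarTower k B M]
    (D : Derivation k B M) (s : B) (hsep : (minpoly k s).Separable) :
    D s = 0 := by
  have h1 := D.map_aeval (minpoly k s) s
  rw [minpoly.aeval, map_zero] at h1
  obtain ⟨a, b, hab⟩ := hsep
  have h2 : Polynomial.aeval s b * Polynomial.aeval s (Polynomial.derivative (minpoly k s)) = 1 := by
    have := congrArg (Polynomial.aeval s) hab
    simpa [minpoly.aeval] using this
  calc D s = (1 : B) • D s := (one_smul _ _).symm
    _ = (Polynomial.aeval s b * Polynomial.aeval s (Polynomial.derivative (minpoly k s))) • D s := by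
        rw [h2]
    _ = Polynomial.aeval s b • (Polynomial.aeval s (Polynomial.derivative (minpoly k s)) • D s) :=
        mul_smul _ _ _
    _ = 0 := by rw [← h1, smul_zero]

theorem der_app_top_eq_zero (k : Type u) [Field k] (X : Scheme.{u})
    (f : X ⟶ Spec (CommRingCat.of k)) [IsProper f] [Smooth f]
    (F : X.Modules) (D : OmegaSh.Der f F) (s : Γ(X, ⊤)) : D.app ⊤ s = 0 := by
  haveI : CompactSpace X := QuasiCompact.compactSpace_of_compactSpace f
  letI algB : Algebra k Γ(X, ⊤) := (secMap k f ⊤).hom.toAlgebra
  have happ : f.appLE ⊤ ⊤ le_top = f.appTop := by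
    rw [Scheme.Hom.appTop, Scheme.Hom.app_eq_appLE]
    rfl
  -- integrality
  have hint : (secMap k f ⊤).hom.IsIntegral := by
    rw [secMap, happ]
    apply RingHom.isIntegral_respectsIso.2 (e := (Scheme.ΓSpecIso _).symm.commRingCatIsoToRingEquiv)
    exact isIntegral_appTop_of_universallyClosed f
  have hs : IsIntegral k s := hint s
  have hsep : (minpoly k s).Separable :=
    separable_minpoly_of_isReduced_tensor (AlgebraicClosure k)
      (isReduced_tensor_globalSections k f (AlgebraicClosure k)) s hs
  -- the derivation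
  have hmul : ∀ a b : Γ(X, ⊤), D.app ⊤ (a * b) = a • D.app ⊤ b + b • D.app ⊤ a := fun a b =>
    D.d_mul (X := Opposite.op ⊤) a b
  have hzero : ∀ c : k, D.app ⊤ (algebraMap k Γ(X, ⊤) c) = 0 := fun c => by
    have h1 : algebraMap k Γ(X, ⊤) c =
        f.appTop.hom ((Scheme.ΓSpecIso (CommRingCat.of k)).inv.hom c) := by
      show (secMap k f ⊤).hom c = _
      rw [secMap, happ]
      rfl
    rw [h1]
    exact D.d_app (X := Opposite.op ⊤) ((Scheme.ΓSpecIso (CommRingCat.of k)).inv.hom c)
  letI modk : Module k Γ(F, ⊤) := Module.compHom Γ(F, ⊤) (algebraMap k Γ(X, ⊤))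
  haveI : IsScalarTower k Γ(X, ⊤) Γ(F, ⊤) := ⟨fun c b m => by
    show (c • b) • m = algebraMap k Γ(X, ⊤) c • (b • m)
    rw [Algebra.smul_def, mul_smul]⟩
  let Dk : Derivation k Γ(X, ⊤) Γ(F, ⊤) :=
    { toFun := D.app ⊤
      map_add' := map_add _
      map_smul' := fun c b => by
        rw [Algebra.smul_def, hmul, hzero c, smul_zero, add_zero]
        rfl
      map_one_eq_zero' := by
        have := hmul 1 1
        simpa using this
      leibniz' := fun a b => hmul a b }
  exact derivation_eq_zero_of_separable Dk s hsep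

end Groth.Agent.Lib.Helper6.DZero
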