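import Groth.Prelude
import Mathlib

open TensorProduct

namespace Groth.Agent.Lib.Helper6

universe u

theorem eq_ker_iff_flat_and_ker_baseChange {A K : Type u} [CommRing A] [IsDedekindDomain A]
    [Field K] [Algebra A K] [IsFractionRing A K] {M : Type u} [AddCommGroup M] [Module A M]
    (P' : Submodule K (K ⊗[A] M)) (Q : Submodule A M) :
    Q = LinearMap.ker ((P'.restrictScalars A).mkQ ∘ₗ TensorProduct.mk A K M 1) ↔
      (Module.Flat A (M ⧸ Q) ∧ LinearMap.ker (Q.mkQ.baseChange K) = P') := by
  have hmemker : ∀ m : M, m ∈ LinearMap.ker ((P'.restrictScalars A).mkQ ∘ₗ TensorProduct.mk A K M 1)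
      ↔ (1 : K) ⊗ₜ[A] m ∈ P' := by
    intro m
    rw [LinearMap.mem_ker, LinearMap.comp_apply, Submodule.mkQ_apply,
      Submodule.Quotient.mk_eq_zero]
    rfl
  have hunit : ∀ (s : nonZeroDivisors A), algebraMap A K (s : A) ≠ 0 := by
    intro s
    exact IsFractionRing.to_map_ne_zero_of_mem_nonZeroDivisors s.2
  have hsmulP : ∀ (s : nonZeroDivisors A) (z : K ⊗[A] M), (s : A) • z ∈ P' ↔ z ∈ P' := by
    intro s z
    rw [← algebraMap_smul K (s : A) z]
    exact P'.smul_mem_iff (hunit s)
  constructor
  · intro hQ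
    have hQmem : ∀ m : M, m ∈ Q ↔ (1 : K) ⊗ₜ[A] m ∈ P' := by
      intro m
      rw [← hmemker m, ← hQ]
    refine ⟨?_, ?_⟩
    · rw [IsDedekindDomain.flat_iff_torsion_eq_bot, eq_bot_iff]
      rintro x ⟨s, hs⟩
      obtain ⟨m, rfl⟩ := Submodule.Quotient.mk_surjective Q x
      rw [Submodule.mem_bot, Submodule.Quotient.mk_eq_zero]
      have h1 : (s : A) • m ∈ Q := by
        rw [← Submodule.Quotient.mk_eq_zero, Submodule.Quotient.mk_smul]
        exact hs
      rw [hQmem, tmul_smul, hsmulP] at h1
      exact (hQmem m).mpr h1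
    · apply le_antisymm
      · intro z hz
        have hex : Function.Exact (LinearMap.lTensor K Q.subtype) (LinearMap.lTensor K Q.mkQ) :=
          lTensor_exact K (LinearMap.exact_subtype_mkQ Q) (Submodule.mkQ_surjective Q)
        have hz' : LinearMap.lTensor K Q.mkQ z = 0 := by
          have := LinearMap.mem_ker.mp hz
          rwa [LinearMap.baseChange_eq_ltensor] at this
        obtain ⟨w, rfl⟩ := (hex z).mp hz'
        clear hz hz'
        induction w using TensorProduct.induction_on with
        | zero => simp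
        | tmul c q =>
          rw [LinearMap.lTensor_tmul, Submodule.subtype_apply]
          have h1 : c ⊗ₜ[A] (q : M) = c • ((1 : K) ⊗ₜ[A] (q : M)) := by
            rw [smul_tmul', smul_eq_mul, mul_one]
          rw [h1]
          exact P'.smul_mem c ((hQmem _).mp q.2)
        | add x y hx hy =>
          rw [map_add]
          exact P'.add_mem hx hy
      · intro z hz
        obtain ⟨⟨m, s⟩, hms⟩ := IsLocalizedModule.surj (nonZeroDivisors A)
          (TensorProduct.mk A K M 1) z
        have hms' : (s : A) • z = (1 : K) ⊗ₜ[A] m := hms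
        have hm : m ∈ Q := by
          rw [hQmem, ← hms', hsmulP]
          exact hz
        rw [LinearMap.mem_ker]
        have h2 : (s : A) • (Q.mkQ.baseChange K) z = 0 := by
          rw [← algebraMap_smul K (s : A), ← map_smul, algebraMap_smul, hms',
            LinearMap.baseChange_tmul, Submodule.mkQ_apply,
            (Submodule.Quotient.mk_eq_zero Q).mpr hm, tmul_zero]
        rw [← algebraMap_smul K (s : A)] at h2
        exact (smul_eq_zero.mp h2).resolve_left (hunit s)
  · rintro ⟨hflat, hker⟩
    ext m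
    rw [hmemker, ← hker, LinearMap.mem_ker, LinearMap.baseChange_tmul, Submodule.mkQ_apply]
    constructor
    · intro hm
      rw [(Submodule.Quotient.mk_eq_zero Q).mpr hm, tmul_zero]
    · intro h
      have h1 : (TensorProduct.mk A K (M ⧸ Q) 1) (Submodule.Quotient.mk m) = 0 := h
      rw [IsLocalizedModule.eq_zero_iff (nonZeroDivisors A)] at h1
      obtain ⟨s, hs⟩ := h1
      have htor : Submodule.torsion A (M ⧸ Q) = ⊥ := Module.Flat.torsion_eq_bot
      have : (Submodule.Quotient.mk m : M ⧸ Q) ∈ Submodule.torsion A (M ⧸ Q) := ⟨s, hs⟩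
      rw [htor, Submodule.mem_bot] at this
      exact (Submodule.Quotient.mk_eq_zero Q).mp this

end Groth.Agent.Lib.Helper6
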