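import Groth.Agent.Lib.Helper6TwistSS
import Groth.Agent.Lib.Helper18Epi1
import Groth.Agent.Lib.Helper2FibreCrit2
import Groth.Agent.Lib.Helper4ZeroDimGG

/-!
# Global generation of bundles on a curve from `H¹(I_p ⊗ E) = 0` (helper6): S11814, S11815
-/

set_option autoImplicit false
set_option linter.style.haveILetI false
universe u
open CategoryTheory Limits AlgebraicGeometry Opposite TopologicalSpace
open scoped TensorProduct

namespace Groth.Agent.Lib.Helper6.GGCurve

open Groth.Agent.Lib.Helper4.CurveBun Groth.Agent.Lib.Helper4.DegAdd Groth.Agent.Lib.Helper4.CurveRR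
  Groth.Agent.Lib.Helper4.Dev Groth.Agent.Lib.Helper27GlobGenPn Groth.Agent.Lib.Helper23.SecTw
  Groth.Agent.Lib.Helper21.ModTensor7

/-- Nakayama: a finite module over a local ring which dies after tensoring with a nonzero cyclic module is zero -/
theorem subsingleton_of_cyclic_tensor {R : Type*} [CommRing R] [IsLocalRing R] {Q M : Type*}
    [AddCommGroup Q] [Module R Q] [AddCommGroup M] [Module R M] [Module.Finite R M]
    (f : R →ₗ[R] Q) (hf : Function.Surjective f) [Nontrivial Q]
    (h : Subsingleton (Q ⊗[R] M)) : Subsingleton M := by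
  let J : Ideal R := LinearMap.ker f
  have hJ : J ≠ ⊤ := by
    intro hJ
    have h1 : f 1 = 0 := by
      have : (1 : R) ∈ J := hJ ▸ Submodule.mem_top
      exact this
    obtain ⟨a, b, hab⟩ := exists_pair_ne Q
    apply hab
    obtain ⟨x, rfl⟩ := hf a
    obtain ⟨y, rfl⟩ := hf b
    have hx : f x = 0 := by
      have : x = x • (1 : R) := by simp
      rw [this, map_smul, h1, smul_zero]
    have hy : f y = 0 := by
      have : y = y • (1 : R) := by simp
      rw [this, map_smul, h1, smul_zero]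
    rw [hx, hy]
  let e : (R ⧸ J) ≃ₗ[R] Q := LinearMap.quotKerEquivOfSurjective f hf
  have h2 : Subsingleton ((R ⧸ J) ⊗[R] M) :=
    (TensorProduct.congr e (LinearEquiv.refl R M)).toEquiv.subsingleton
  have h3 : Subsingleton (M ⧸ (J • (⊤ : Submodule R M))) :=
    (TensorProduct.quotTensorEquivQuotSMul M J).symm.toEquiv.subsingleton
  have h4 : J • (⊤ : Submodule R M) = ⊤ := Submodule.Quotient.subsingleton_iff.1 h3
  have h5 : (⊤ : Submodule R M) = ⊥ :=
    Submodule.eq_bot_of_le_smul_of_le_jacobson_bot J ⊤ Module.Finite.fg_top (by rw [h4])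
      (by rw [IsLocalRing.jacobson_eq_maximalIdeal ⊥ bot_ne_top]; exact IsLocalRing.le_maximalIdeal hJ)
  refine ⟨fun a b => ?_⟩
  have ha : a ∈ (⊤ : Submodule R M) := Submodule.mem_top
  have hb : b ∈ (⊤ : Submodule R M) := Submodule.mem_top
  rw [h5, Submodule.mem_bot] at ha hb
  rw [ha, hb]

theorem epi_of_eq_iso_comp {C : Type*} [Category C] {A B A' B' : C} (f : A ⟶ B) (g : A' ⟶ B')
    (i : A ≅ A') (j : B ≅ B') (e : f = i.hom ≫ g ≫ j.inv) [Epi g] : Epi f := by
  subst e
  infer_instance

theorem comp_cokernel_π_eq_zero {C : Type*} [Category C] [HasZeroMorphisms C] {A B E : C} (i : A ⟶ B)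
    (e : B ⟶ E) [HasCokernel e] (s : A ⟶ E) (h : i ≫ e = s) : s ≫ cokernel.π e = 0 := by
  rw [← h, Category.assoc, cokernel.condition, comp_zero]

theorem eq_zero_of_sigma_epi {C : Type*} [Category C] [HasZeroMorphisms C] {ι : Type*} (f : ι → C)
    [HasCoproduct f] {M N : C} (p : ∐ f ⟶ M) [Epi p] (φ : M ⟶ N)
    (h : ∀ i, (Sigma.ι f i ≫ p) ≫ φ = 0) : φ = 0 := by
  have h0 : p ≫ φ = 0 := by
    apply Sigma.hom_ext
    intro i
    rw [comp_zero, ← Category.assoc]
    exact h i
  rw [← cancel_epi p, h0, comp_zero]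

section Gen

variable {X : Scheme.{u}}

/-- the left unitor `O ⊗ G ≅ G`, naturally in `G` -/
noncomputable def lam (G : X.Modules) : CohB1.tensorMod (Coh.structureModule X) G ≅ G :=
  (tLUnitIso X.sheaf).app G

theorem lam_naturality {G N : X.Modules} (h : G ⟶ N) :
    wr (Coh.structureModule X) h ≫ (lam N).hom = (lam G).hom ≫ h :=
  (tLUnitIso X.sheaf).hom.naturality h

/-- `Q ⊗ -` preserves epimorphisms -/
theorem epi_wr (Q : X.Modules) {G N : X.Modules} (h : G ⟶ N) [Epi h] : Epi (wr Q h) := by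
  haveI : ModSite.HasSheafHom (O := X.sheaf) Q :=
    Groth.Agent.Lib.Helper21.ExtShDelta.hasSheafHom X.sheaf Q
  haveI : (Groth.Agent.Lib.Helper27SerreVan.tw Q).IsLeftAdjoint :=
    (inferInstance : ((ModSite.tensorBi X.sheaf).flip.obj Q).IsLeftAdjoint)
  haveI : Epi ((Groth.Agent.Lib.Helper27SerreVan.tw Q).map h) := inferInstance
  let β : tl Q ≅ Groth.Agent.Lib.Helper27SerreVan.tw Q :=
    (Groth.Agent.Lib.Helper21.ModTensor5.brd X.sheaf).app Q
  have e : wr Q h = (β.app G).hom ≫ (Groth.Agent.Lib.Helper27SerreVan.tw Q).map h ≫ (β.app N).inv := by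
    have := β.hom.naturality h
    rw [← Category.assoc]
    change wr Q h = (β.hom.app G ≫ (Groth.Agent.Lib.Helper27SerreVan.tw Q).map h) ≫ β.inv.app N
    rw [← this, Category.assoc, Iso.hom_inv_id_app, Category.comp_id]
    rfl
  exact epi_of_eq_iso_comp (wr Q h) ((Groth.Agent.Lib.Helper27SerreVan.tw Q).map h) (β.app G) (β.app N) e


/-- the evaluation map `O^{(Γ(E))} ⟶ E` -/
noncomputable def ev (E : X.Modules) :
    (SheafOfModules.free (Coh.structureModule X ⟶ E) : X.Modules) ⟶ E :=
  Sigma.desc (C := SheafOfModules X.ringCatSheaf) (fun s : (Coh.structureModule X ⟶ E) => s)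

/-- the cokernel of the evaluation map -/
noncomputable def coker (E : X.Modules) : X.Modules := cokernel (C := X.Modules) (ev E)

/-- the projection onto the cokernel of the evaluation map -/
noncomputable def cπ (E : X.Modules) : E ⟶ coker E := cokernel.π (C := X.Modules) (ev E)

instance epi_cπ (E : X.Modules) : Epi (cπ E) :=
  coequalizer.π_epi (C := X.Modules) (f := ev E) (g := 0)

theorem sec_comp_π (E : X.Modules) (s : Coh.structureModule X ⟶ E) : s ≫ cπ E = 0 := by
  let i : Coh.structureModule X ⟶ (SheafOfModules.free (Coh.structureModule X ⟶ E) : X.Modules) :=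
    SheafOfModules.ιFree (R := X.ringCatSheaf) s
  have h : i ≫ ev E = s :=
    Sigma.ι_desc (C := SheafOfModules X.ringCatSheaf) (fun s : (Coh.structureModule X ⟶ E) => s) s
  exact comp_cokernel_π_eq_zero i (ev E) s h

theorem isGloballyGenerated_of_isZero_cokernel (E : X.Modules) (h : IsZero (coker E)) :
    Curv2.IsGloballyGenerated E :=
  ⟨_, ev E, Preadditive.epi_of_isZero_cokernel (C := X.Modules) (ev E) h⟩

theorem eq_zero_of_isGloballyGenerated {M N : X.Modules} (hM : Curv2.IsGloballyGenerated M) (φ : M ⟶ N)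
    (h : ∀ u : Coh.structureModule X ⟶ M, u ≫ φ = 0) : φ = 0 := by
  obtain ⟨ι, p, hp⟩ := hM
  exact @eq_zero_of_sigma_epi (SheafOfModules X.ringCatSheaf) _ _ _
    (fun _ : ι => SheafOfModules.unit X.ringCatSheaf) _ _ _ p hp φ (fun i => h _)

open Groth.Agent.Lib.Helper21.ExtCartier Groth.Agent.Lib.Helper6.SimpleSub Groth.Agent.Lib.Helper4.CurveChi in
/-- if `H¹(I ⊗ E) = 0` then `Q ⊗ E ⟶ Q ⊗ coker(ev)` vanishes (`Q = O/I` with zero-dimensional support) -/
theorem wr_π_eq_zero [IsLocallyNoetherian X] (D : X.IdealSheafData) (E : X.Modules) (r : ℕ)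
    (hE : FlatMod.IsFinLocFreeOfRank r E) (hQ : Coh.IsCoh (ClSub.quotMod D))
    (hsupp : ∀ x ∈ CohB1.support (ClSub.quotMod D), IsClosed ({x} : Set X))
    (hvan : Subsingleton (Coh.HH X (CohB1.tensorMod (ClSub.idealMod D) E) 1)) :
    wr (ClSub.quotMod D) (cπ E) = 0 := by
  have hEflat := isFlat_of_isFinLocFreeOfRank E r hE
  have hS := shortExact_map_tw (idealSES D) (idealSES_shortExact D) E hEflat
  have hQE : Coh.IsCoh (CohB1.tensorMod (ClSub.quotMod D) E) := isCoh_tensorMod_locFree _ E hQ r hE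
  have hsupp' : ∀ x ∈ CohB1.support (CohB1.tensorMod (ClSub.quotMod D) E), IsClosed ({x} : Set X) := by
    intro x hx
    apply hsupp
    intro hsub
    apply hx
    haveI := hsub
    exact (Groth.Agent.Lib.Helper4.KTensor.stalkTensorEquiv _ E x).toEquiv.subsingleton
  apply eq_zero_of_isGloballyGenerated
    (Groth.Agent.Lib.Helper4.ZeroDimGG.isGloballyGenerated_of_closed_points _ hQE hsupp')
  intro u
  obtain ⟨t, ht⟩ : ∃ t : Coh.structureModule X ⟶ CohB1.tensorMod (Coh.structureModule X) E,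
      t ≫ wl (ClSub.toSubscheme D) E = u := exists_lift_of_H1 _ hS hvan u
  rw [← ht, Category.assoc, interchange, ← Category.assoc]
  have h1 : t ≫ wr (Coh.structureModule X) (cπ E) = 0 := by
    have h2 : (t ≫ wr (Coh.structureModule X) (cπ E)) ≫ (lam _).hom = 0 := by
      rw [Category.assoc, lam_naturality, ← Category.assoc, sec_comp_π]
    rw [← cancel_mono (lam _).hom, h2, zero_comp]
  rw [h1, zero_comp]


/-- the stalk of a quotient of `O` is a cyclic module -/
theorem exists_cyclic_stalk (Q : X.Modules) (q : Coh.structureModule X ⟶ Q) [Epi q] (p : X) :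
    ∃ f : X.presheaf.stalk p →ₗ[X.presheaf.stalk p] Q.presheaf.stalk p, Function.Surjective f := by
  have hO1 : FlatMod.IsFinLocFreeOfRank 1 (Coh.structureModule X) :=
    Groth.Agent.Lib.Helper23.SecTw.isFinLocFreeOfRank_one_of_isInvertible _
      (Groth.Agent.Lib.Helper23.TensorUnit.isInvertible_structureModule X)
  obtain ⟨h1, h2, h3⟩ := Groth.Agent.Lib.Helper4.KTensor.stalk_of_isFinLocFreeOfRank _ 1 hO1 p
  haveI := h1
  haveI := h2
  let b := Module.finBasisOfFinrankEq (X.presheaf.stalk p) ((Coh.structureModule X).presheaf.stalk p) h3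
  refine ⟨LinearMap.toSpanSingleton _ _ (stalkL q p (b 0)), fun x => ?_⟩
  obtain ⟨y, rfl⟩ := stalkL_surjective_of_epi q p x
  refine ⟨b.repr y 0, ?_⟩
  have hy : y = b.repr y 0 • b 0 := by
    conv_lhs => rw [← b.sum_repr y]
    rw [Fin.sum_univ_one]
  rw [LinearMap.toSpanSingleton_apply, ← map_smul, ← hy]

/-- the stalk of the cokernel of `ev` vanishes at `p` if `Q ⊗ E ⟶ Q ⊗ coker` is zero for a quotient `Q` of `O`
with nonzero stalk at `p` -/
theorem subsingleton_stalk_cokernel (E : X.Modules) (hEc : Coh.IsCoh E) (Q : X.Modules)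
    (q : Coh.structureModule X ⟶ Q) [Epi q] (p : X) (hQp : Nontrivial (Q.presheaf.stalk p))
    (hz : wr Q (cπ E) = 0) : Subsingleton ((coker E).presheaf.stalk p) := by
  haveI : E.IsQuasicoherent := hEc.1
  haveI : SheafOfModules.IsFiniteType (R := X.ringCatSheaf) E := hEc.2
  haveI hCq : (coker E).IsQuasicoherent :=
    Groth.Agent.Lib.Helper23.QCohLocal.isQuasicoherent_cokernel (ev E)
  haveI hCf : SheafOfModules.IsFiniteType (R := X.ringCatSheaf) (coker E) :=
    Groth.Agent.Lib.Helper20.Nakayama.isFiniteType_of_epi (cπ E)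
  haveI := Groth.Agent.Lib.Helper2.FibreCrit.finite_stalk (coker E) p
  haveI : Epi (wr Q (cπ E)) := epi_wr Q _
  have hZ : IsZero (CohB1.tensorMod Q (coker E)) := IsZero.of_epi_eq_zero _ hz
  haveI hsub := Groth.Agent.Helper18Epi.subsingleton_stalk_of_isZero hZ p
  have hsub2 := (Groth.Agent.Lib.Helper4.KTensor.stalkTensorEquiv Q (coker E) p).symm.toEquiv.subsingleton
  obtain ⟨f, hf⟩ := exists_cyclic_stalk Q q p
  exact subsingleton_of_cyclic_tensor f hf hsub2

end Gen

section Curve

variable (k : Type u) [Field k] (X : Scheme.{u}) [X.Over (Spec (CommRingCat.of k))]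
  [IsProper (X ↘ Spec (CommRingCat.of k))] [IsIntegral X]

open Groth.Agent.Lib.Helper6.PointIdeal Groth.Agent.Lib.Helper6.SSVanish
  Groth.Agent.Lib.Helper21.ExtCartier in
omit [IsIntegral X] in
/-- a bundle `E` on a proper curve over an algebraically closed field with `H¹(I_p ⊗ E) = 0` for all closed
points `p` is globally generated -/
theorem isGloballyGenerated_of_vanish [IsAlgClosed k] (r : ℕ) (E : X.Modules)
    (hE : FlatMod.IsFinLocFreeOfRank r E)
    (hvan : ∀ (p : X) (hp : IsClosed ({p} : Set X)), Subsingleton (Coh.HH X (CohB1.tensorMod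
      (ClSub.idealMod (Scheme.IdealSheafData.vanishingIdeal ⟨{p}, hp⟩)) E) 1)) :
    Curv2.IsGloballyGenerated E := by
  haveI : IsLocallyNoetherian X := isLocallyNoetherian_of_proper k X
  haveI : AlgebraicGeometry.IsNoetherian X := isNoetherian_of_proper k X
  have hEc := isCoh_of_isFinLocFreeOfRank E r hE
  apply isGloballyGenerated_of_isZero_cokernel
  apply isZero_of_support_eq_empty
  by_contra hne
  have hne' : (CohB1.support (coker E)).Nonempty := Set.nonempty_iff_ne_empty.2 hne
  haveI : SheafOfModules.IsFiniteType (R := X.ringCatSheaf) E := hEc.2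
  have hCf : SheafOfModules.IsFiniteType (R := X.ringCatSheaf) (coker E) :=
    Groth.Agent.Lib.Helper20.Nakayama.isFiniteType_of_epi (cπ E)
  have hcl : IsClosed (CohB1.support (coker E)) := Groth.Agent.S0020.result X _ hCf
  obtain ⟨p, hpS, hp⟩ := hcl.exists_closed_singleton hne'
  obtain ⟨h0, hv, hQ, hsub⟩ := quotMod_point k X p hp
  have hz := wr_π_eq_zero _ E r hE hQ (fun x hx => by rw [hsub hx]; exact hp) (hvan p hp)
  have hQp : Nontrivial ((ClSub.quotMod (Scheme.IdealSheafData.vanishingIdeal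
      (⟨{p}, hp⟩ : TopologicalSpace.Closeds X))).presheaf.stalk p) := by
    by_contra hnt
    rw [not_nontrivial_iff_subsingleton] at hnt
    have hemp : CohB1.support (ClSub.quotMod (Scheme.IdealSheafData.vanishingIdeal
        (⟨{p}, hp⟩ : TopologicalSpace.Closeds X))) = ∅ := by
      apply Set.eq_empty_of_forall_notMem
      intro x hx
      have hxp := hsub hx
      rw [Set.mem_singleton_iff] at hxp
      subst hxp
      exact hx hnt
    have hZ := isZero_of_support_eq_empty _ hemp
    haveI := HH_subsingleton_of_isZero k _ hZ 0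
    rw [Module.finrank_zero_of_subsingleton] at h0
    exact zero_ne_one h0
  haveI : Epi (ClSub.toSubscheme (Scheme.IdealSheafData.vanishingIdeal
      (⟨{p}, hp⟩ : TopologicalSpace.Closeds X))) := (idealSES_shortExact _).epi_g
  exact hpS (subsingleton_stalk_cokernel E hEc _ (ClSub.toSubscheme _) p hQp hz)

open Groth.Agent.Lib.Helper6.PointIdeal Groth.Agent.Lib.Helper6.TwistSS in
/-- S11814: semistable of slope `> 2g - 1` is globally generated -/
theorem main_ss [IsAlgClosed k] [Smooth (X ↘ Spec (CommRingCat.of k))]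
    (hdim : topologicalKrullDim X = 1)
    (r : ℕ) (hr : 0 < r) (E : X.Modules) (hE : FlatMod.IsFinLocFreeOfRank r E)
    (hss : ModFun.IsSlopeSemistable k X E r)
    (hdeg : (r : ℤ) * (2 * (Curv2.genus k X : ℤ) - 1) < Curv2.deg k X E r) :
    Curv2.IsGloballyGenerated E := by
  have hpid : PIDStalks X := pidStalks_of_smooth k X (X ↘ Spec (CommRingCat.of k)) hdim.le
  apply isGloballyGenerated_of_vanish k X r E hE
  intro p hp
  obtain ⟨hNinv, hNdeg⟩ := idealMod_point k X hpid hdim p hp
  obtain ⟨hNE, hdNE⟩ := twist_rank_deg k X hpid hdim _ hNinv r E hE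
  have hssN := twist_semistable k X hpid hdim _ hNinv r E hE hss
  refine Groth.Agent.Lib.Helper6.SSVanish.main k X hdim r hr _ hNE hssN ?_
  rw [hdNE, hNdeg]
  linarith

open Groth.Agent.Lib.Helper6.PointIdeal Groth.Agent.Lib.Helper6.TwistSS in
/-- S11815: stable of rank `≥ 2` and slope `≥ 2g - 1` is globally generated -/
theorem main_st [IsAlgClosed k] [Smooth (X ↘ Spec (CommRingCat.of k))]
    (hdim : topologicalKrullDim X = 1)
    (r : ℕ) (hr : 2 ≤ r) (E : X.Modules) (hE : FlatMod.IsFinLocFreeOfRank r E)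
    (hst : ModFun.IsSlopeStable k X E r)
    (hdeg : (r : ℤ) * (2 * (Curv2.genus k X : ℤ) - 1) ≤ Curv2.deg k X E r) :
    Curv2.IsGloballyGenerated E := by
  have hpid : PIDStalks X := pidStalks_of_smooth k X (X ↘ Spec (CommRingCat.of k)) hdim.le
  apply isGloballyGenerated_of_vanish k X r E hE
  intro p hp
  obtain ⟨hNinv, hNdeg⟩ := idealMod_point k X hpid hdim p hp
  obtain ⟨hNE, hdNE⟩ := twist_rank_deg k X hpid hdim _ hNinv r E hE
  have hstN := twist_stable k X hpid hdim _ hNinv r E hE hst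
  refine Groth.Agent.Lib.Helper6.SSVanish.main_stable k X hdim r hr _ hNE hstN ?_
  rw [hdNE, hNdeg]
  linarith

end Curve

end Groth.Agent.Lib.Helper6.GGCurve
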