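import Groth.Agent.Lib.Helper27QCohVanish
import Groth.Agent.Lib.Helper27AffineCrit
import Groth.Agent.Lib.Helper11CurveAmpleD
import Groth.Agent.Lib.Helper6GGCurve
import Groth.Agent.Lib.Helper27LesDim
import Groth.Agent.Lib.Helper4CurveGrd
import Groth.Agent.Lib.Helper17HHLes
import Groth.Agent.S0010
import Groth.Agent.S0020
import Groth.Agent.S0047
import Groth.Agent.Lib.Helper4ZeroDimGG
import Groth.Agent.Lib.Helper4CurveVan
import Groth.Agent.Lib.Helper27SuppDimVan
import Groth.Agent.Lib.Helper21HZB9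
import Groth.Agent.Lib.Helper23LocGen

/-!
# Deformation-ample bundles on curves of arithmetic genus zero (helper6)
-/

set_option autoImplicit false
set_option linter.style.haveILetI false
universe u
open CategoryTheory Limits AlgebraicGeometry Opposite TopologicalSpace

namespace Groth.Agent.Lib.Helper6.DefAmple

open Groth.Agent.Lib.Helper6.GGCurve Groth.Agent.Lib.Helper27SerreVan
  Groth.Agent.Lib.Helper4.CurveAsym Groth.Agent.Lib.Helper17.HHLes

section Van

variable {X : Scheme.{u}} [IsNoetherian X] [X.IsSeparated]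

/-- a two-member affine cover with affine finite intersections -/
theorem exists_cover (hdim : topologicalKrullDim X ≤ 1) :
    ∃ U : ULift.{u} (Fin 2) → X.Opens, (⨆ i, U i = ⊤) ∧
      ∀ s : Finset (ULift.{u} (Fin 2)), s.Nonempty → IsAffineOpen (⨅ i ∈ s, U i) := by
  obtain ⟨W, V, b, hW, hV, hVW, -, -⟩ := Groth.Agent.Lib.Helper11.CurveAmple.exists_setup X hdim
  let U : ULift.{u} (Fin 2) → X.Opens := fun i => ![V, W] i.down
  have hU : ∀ i, IsAffineOpen (U i) := by
    rintro ⟨i⟩
    fin_cases i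
    · exact hV
    · exact hW
  refine ⟨U, ?_, fun s hs => Groth.Agent.Lib.Helper27QCohVanish.isAffineOpen_biInf
    Groth.Agent.Lib.Helper27AffineCrit.isAffineOpen_inf_of_isSeparated U hU s hs⟩
  apply le_antisymm le_top
  rw [← hVW]
  exact sup_le (le_iSup U ⟨0⟩) (le_iSup U ⟨1⟩)

/-- quasi-coherent cohomology vanishes in degrees `≥ 2` on a Noetherian separated scheme of
dimension `≤ 1` -/
theorem h2_vanish (hdim : topologicalKrullDim X ≤ 1) (G : X.Modules) (hG : G.IsQuasicoherent)
    (i : ℕ) (hi : 2 ≤ i) : Subsingleton (Coh.HH X G i) := by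
  obtain ⟨W, V, b, hW, hV, hVW, -, -⟩ := Groth.Agent.Lib.Helper11.CurveAmple.exists_setup X hdim
  haveI : Coh.IsQCoh G := hG
  refine Groth.Agent.S0010.result X 2 ![V, W] ?_ ?_
    Groth.Agent.Lib.Helper27AffineCrit.isAffineOpen_inf_of_isSeparated G i hi
  · intro i
    fin_cases i
    · exact hV
    · exact hW
  · apply le_antisymm le_top
    rw [← hVW]
    exact sup_le (le_iSup ![V, W] 0) (le_iSup ![V, W] 1)

end Van


section Gen

variable {X : Scheme.{u}} [IsNoetherian X] [X.IsSeparated]

open Groth.Agent.Lib.Helper23.QCohLocal in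
/-- if `H¹(A) = 0`, `A ⟶ B` is an epimorphism of quasi-coherent modules, then `H¹(B) = 0` -/
theorem h1_of_epi (hdim : topologicalKrullDim X ≤ 1) {A B : X.Modules} (φ : A ⟶ B) [Epi φ]
    (hA : A.IsQuasicoherent) (hB : B.IsQuasicoherent) (h : Subsingleton (Coh.HH X A 1)) :
    Subsingleton (Coh.HH X B 1) := by
  haveI := hA
  haveI := hB
  have hK : (kernel φ).IsQuasicoherent := isQuasicoherent_kernel φ
  let S : ShortComplex X.Modules := ShortComplex.mk (kernel.ι φ) φ (kernel.condition φ)
  have hS : S.ShortExact :=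
    ShortComplex.ShortExact.mk' (ShortComplex.exact_of_f_is_kernel _ (kernelIsKernel φ))
      (inferInstanceAs (Mono (kernel.ι φ))) ‹Epi φ›
  exact subsingleton_of_shortExact S hS 1 h (h2_vanish hdim _ hK 2 le_rfl)

open Groth.Agent.Lib.Helper23.QCohLocal in
/-- `H¹` of a coproduct of copies of a quasi-coherent module with `H¹ = 0` vanishes -/
theorem h1_coprod (hdim : topologicalKrullDim X ≤ 1) (ι : Type u) (M : X.Modules)
    (hM : M.IsQuasicoherent) (h : Subsingleton (Coh.HH X M 1)) :
    Subsingleton (Coh.HH X (∐ fun _ : ι => M) 1) := by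
  obtain ⟨U, hcov, hU⟩ := exists_cover (X := X) hdim
  exact Groth.Agent.Lib.Helper27CohSum.subsingleton_HH_coprod (fun _ : ι => M) U hcov hU
    (fun _ => hM) 0 (fun _ => h)

/-- a globally generated quasi-coherent module has `H¹ = 0` when `H¹(O) = 0` -/
theorem h1_of_gg (hdim : topologicalKrullDim X ≤ 1)
    (hO : Subsingleton (Coh.HH X (Coh.structureModule X) 1)) (M : X.Modules)
    (hM : M.IsQuasicoherent) (hgg : Curv2.IsGloballyGenerated M) :
    Subsingleton (Coh.HH X M 1) := by
  obtain ⟨ι, p, hp⟩ := hgg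
  have hOq : (Coh.structureModule X).IsQuasicoherent := inferInstance
  have h1 : Subsingleton (Coh.HH X (SheafOfModules.free ι : X.Modules) 1) :=
    h1_coprod hdim ι (Coh.structureModule X) hOq hO
  have hfq : (SheafOfModules.free ι : X.Modules).IsQuasicoherent :=
    Groth.Agent.Lib.Helper23.QCohLocal.isQuasicoherent_colimit
      (Discrete.functor fun _ : ι => Coh.structureModule X) (fun _ => hOq)
  exact @h1_of_epi X _ _ hdim _ _ p hp hfq hM h1


open Groth.Agent.Lib.Helper21.ModTensor3 Groth.Agent.Lib.Helper21.ModTensor5 in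
instance tw_preservesColimits (L : X.Modules) : PreservesColimitsOfSize.{u, u} (tw L) :=
  tR_preservesColimits X.sheaf L

open Groth.Agent.Lib.Helper23.TensorQCoh in
/-- if `P` is globally generated and `H¹(M) = 0` then `H¹(P ⊗ M) = 0` -/
theorem h1_tensor_of_gg (hdim : topologicalKrullDim X ≤ 1) (P M : X.Modules)
    (hP : P.IsQuasicoherent) (hM : M.IsQuasicoherent) (hgg : Curv2.IsGloballyGenerated P)
    (h : Subsingleton (Coh.HH X M 1)) :
    Subsingleton (Coh.HH X (CohB1.tensorMod P M) 1) := by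
  obtain ⟨ι, p, hp⟩ := hgg
  haveI := hP
  haveI := hM
  have hOq : (Coh.structureModule X).IsQuasicoherent := inferInstance
  -- the summand `O ⊗ M ≅ M`
  have hq1 : ((tw M).obj (Coh.structureModule X)).IsQuasicoherent :=
    isQuasicoherent_tensorMod (Coh.structureModule X) M
  have hv1 : Subsingleton (Coh.HH X ((tw M).obj (Coh.structureModule X)) 1) :=
    subsingleton_HH_of_iso (lam M) 1 h
  have h1 : Subsingleton (Coh.HH X (∐ fun _ : ι => (tw M).obj (Coh.structureModule X)) 1) :=
    h1_coprod hdim ι _ hq1 hv1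
  have hq2 : (∐ fun _ : ι => (tw M).obj (Coh.structureModule X)).IsQuasicoherent :=
    Groth.Agent.Lib.Helper23.QCohLocal.isQuasicoherent_colimit
      (Discrete.functor fun _ : ι => (tw M).obj (Coh.structureModule X)) (fun _ => hq1)
  let e : (tw M).obj (∐ fun _ : ι => Coh.structureModule X) ≅
      ∐ fun _ : ι => (tw M).obj (Coh.structureModule X) :=
    PreservesCoproduct.iso (tw M) (fun _ : ι => Coh.structureModule X)
  have h2 : Subsingleton (Coh.HH X ((tw M).obj (SheafOfModules.free ι : X.Modules)) 1) :=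
    subsingleton_HH_of_iso e 1 h1
  have hq3 : ((tw M).obj (SheafOfModules.free ι : X.Modules)).IsQuasicoherent := by
    haveI := hq2
    exact isQuasicoherent_of_iso e.symm
  have hq4 : (CohB1.tensorMod P M).IsQuasicoherent := isQuasicoherent_tensorMod P M
  have hepi : Epi ((tw M).map p) := @Functor.map_epi _ _ _ _ (tw M) _ _ _ p hp
  exact @h1_of_epi X _ _ hdim _ _ ((tw M).map p) hepi hq3 hq4 h2

/-- middle vanishing of `H¹` for a right exact sequence of quasi-coherent modules -/
theorem h1_mid (hdim : topologicalKrullDim X ≤ 1) (T : ShortComplex X.Modules) (hT : T.Exact)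
    [Epi T.g] (h₁q : T.X₁.IsQuasicoherent) (h₂q : T.X₂.IsQuasicoherent)
    (h₃q : T.X₃.IsQuasicoherent)
    (h₁ : Subsingleton (Coh.HH X T.X₁ 1)) (h₃ : Subsingleton (Coh.HH X T.X₃ 1)) :
    Subsingleton (Coh.HH X T.X₂ 1) := by
  haveI := h₁q
  haveI := h₂q
  haveI := h₃q
  -- the kernel of `g`
  have hKq : (kernel T.g).IsQuasicoherent :=
    Groth.Agent.Lib.Helper23.QCohLocal.isQuasicoherent_kernel T.g
  let S : ShortComplex X.Modules := ShortComplex.mk (kernel.ι T.g) T.g (kernel.condition T.g)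
  have hS : S.ShortExact :=
    ShortComplex.ShortExact.mk' (ShortComplex.exact_of_f_is_kernel _ (kernelIsKernel T.g))
      (inferInstanceAs (Mono (kernel.ι T.g))) ‹Epi T.g›
  -- `X₁ ⟶ ker g` is epi
  let l : T.X₁ ⟶ kernel T.g := kernel.lift T.g T.f T.zero
  haveI : Epi l := by
    have := hT.epi_kernelLift
    exact this
  have hK : Subsingleton (Coh.HH X (kernel T.g) 1) := h1_of_epi hdim l h₁q hKq h₁
  have key : ∀ x : Coh.HH X T.X₂ 1, x = 0 := by
    intro x
    obtain ⟨y, hy⟩ := exact₂ S hS 1 x (Subsingleton.elim _ _)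
    rw [← hy, Subsingleton.elim y 0, map_zero]
  exact ⟨fun x y => (key x).trans (key y).symm⟩

end Gen


section Ext

variable (k : Type u) [Field k] {X : Scheme.{u}} [X.Over (Spec (CommRingCat.of k))]

include k in
/-- sections lift along the epimorphism of a short exact sequence with `H¹(X₁) = 0` -/
theorem exists_lift_section (S : ShortComplex X.Modules) (hS : S.ShortExact)
    (h₁ : Subsingleton (Coh.HH X S.X₁ 1)) (u : Coh.structureModule X ⟶ S.X₃) :
    ∃ t : Coh.structureModule X ⟶ S.X₂, t ≫ S.g = u := by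
  have hker := Groth.Agent.Lib.Helper27LesDim.range_g_eq_ker_delta k S hS 0
  have hmem : homH0Equiv k S.X₃ u ∈
      LinearMap.ker (Groth.Agent.Lib.Helper27CohFin.deltaLin k S hS 0) := by
    rw [LinearMap.mem_ker]
    exact Subsingleton.elim _ _
  rw [← hker] at hmem
  obtain ⟨z, hz⟩ := hmem
  refine ⟨(homH0Equiv k S.X₂).symm z, ?_⟩
  apply (homH0Equiv k S.X₃).injective
  rw [Groth.Agent.Lib.Helper4.CurveGrd.homH0Equiv_comp, LinearEquiv.apply_symm_apply, hz]

include k in
/-- an extension of globally generated modules with `H¹(X₁) = 0` is globally generated -/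
theorem gg_ext (S : ShortComplex X.Modules) (hS : S.ShortExact)
    (h₁ : Subsingleton (Coh.HH X S.X₁ 1))
    (hg₁ : Curv2.IsGloballyGenerated S.X₁) (hg₃ : Curv2.IsGloballyGenerated S.X₃) :
    Curv2.IsGloballyGenerated S.X₂ := by
  apply isGloballyGenerated_of_isZero_cokernel
  -- `S.f ≫ cπ = 0`
  have h1 : S.f ≫ cπ S.X₂ = 0 := by
    apply eq_zero_of_isGloballyGenerated hg₁
    intro s
    rw [← Category.assoc]
    exact sec_comp_π S.X₂ (s ≫ S.f)
  -- factor through `X₃`
  haveI := hS.epi_g
  let π' : S.X₃ ⟶ coker S.X₂ := hS.exact.desc (cπ S.X₂) h1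
  have hπ' : S.g ≫ π' = cπ S.X₂ := hS.exact.g_desc (cπ S.X₂) h1
  have h2 : π' = 0 := by
    apply eq_zero_of_isGloballyGenerated hg₃
    intro u
    obtain ⟨t, ht⟩ := exists_lift_section k S hS h₁ u
    rw [← ht, Category.assoc, hπ']
    exact sec_comp_π S.X₂ t
  have h3 : cπ S.X₂ = 0 := by rw [← hπ', h2, comp_zero]
  exact IsZero.of_epi_eq_zero _ h3

end Ext


section GG

variable {X : Scheme.{u}}

/-- global generation means that the global sections are jointly epimorphic -/
theorem gg_iff (M : X.Modules) : Curv2.IsGloballyGenerated M ↔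
    ∀ (N : X.Modules) (f : M ⟶ N), (∀ s : Coh.structureModule X ⟶ M, s ≫ f = 0) → f = 0 := by
  constructor
  · intro h N f hf
    exact eq_zero_of_isGloballyGenerated h f hf
  · intro h
    apply isGloballyGenerated_of_isZero_cokernel
    exact IsZero.of_epi_eq_zero _ (h _ (cπ M) (sec_comp_π M))

theorem gg_of_epi {A B : X.Modules} (p : A ⟶ B) [Epi p] (hA : Curv2.IsGloballyGenerated A) :
    Curv2.IsGloballyGenerated B := by
  rw [gg_iff] at hA ⊢
  intro N f hf
  have h1 : p ≫ f = 0 := by
    apply hA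
    intro s
    rw [← Category.assoc]
    exact hf (s ≫ p)
  exact (cancel_epi p).1 (h1.trans comp_zero.symm)

theorem gg_of_iso {A B : X.Modules} (e : A ≅ B) (hA : Curv2.IsGloballyGenerated A) :
    Curv2.IsGloballyGenerated B :=
  gg_of_epi e.hom hA

theorem gg_coprod {ι : Type u} (M : ι → X.Modules) (h : ∀ i, Curv2.IsGloballyGenerated (M i)) :
    Curv2.IsGloballyGenerated (∐ M) := by
  rw [gg_iff]
  intro N f hf
  apply Sigma.hom_ext
  intro i
  rw [comp_zero]
  apply (gg_iff (M i)).1 (h i)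
  intro s
  rw [← Category.assoc]
  exact hf (s ≫ Sigma.ι M i)

theorem gg_unit : Curv2.IsGloballyGenerated (Coh.structureModule X) := by
  rw [gg_iff]
  intro N f hf
  have := hf (𝟙 _)
  rwa [Category.id_comp] at this

theorem gg_tensor (P M : X.Modules) (hP : Curv2.IsGloballyGenerated P)
    (hM : Curv2.IsGloballyGenerated M) : Curv2.IsGloballyGenerated (CohB1.tensorMod P M) := by
  obtain ⟨ι, p, hp⟩ := hP
  let e : (tw M).obj (∐ fun _ : ι => Coh.structureModule X) ≅
      ∐ fun _ : ι => (tw M).obj (Coh.structureModule X) :=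
    PreservesCoproduct.iso (tw M) (fun _ : ι => Coh.structureModule X)
  have h1 : Curv2.IsGloballyGenerated ((tw M).obj (Coh.structureModule X)) :=
    gg_of_iso (lam M).symm hM
  have h2 : Curv2.IsGloballyGenerated ((tw M).obj (SheafOfModules.free ι : X.Modules)) :=
    gg_of_iso e.symm (gg_coprod _ (fun _ => h1))
  have hepi : Epi ((tw M).map p) := @Functor.map_epi _ _ _ _ (tw M) _ _ _ p hp
  exact @gg_of_epi X _ _ ((tw M).map p) hepi h2

theorem gg_tensorPow (E : X.Modules) (hE : Curv2.IsGloballyGenerated E) (n : ℕ) :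
    Curv2.IsGloballyGenerated (CohB1.tensorPow E n) := by
  induction n with
  | zero => exact gg_unit
  | succ n ih => exact gg_tensor _ _ ih hE

end GG


section Main

open Groth.Agent.Lib.Helper4.CurveRR Groth.Agent.Lib.Helper21.HZB
  Groth.Agent.Lib.Helper23.TensorQCoh

variable (k : Type u) [Field k] (X : Scheme.{u}) [X.Over (Spec (CommRingCat.of k))]
  [IsProper (X ↘ Spec (CommRingCat.of k))]

/-- right exactness of `- ⊗ W` on a right exact sequence, with `H¹`-vanishing at the ends -/
theorem h1_mid_tw [IsNoetherian X] [X.IsSeparated] (hdim : topologicalKrullDim X ≤ 1)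
    (W : X.Modules) (hW : W.IsQuasicoherent)
    (T : ShortComplex X.Modules) (hT : T.Exact) (hg : Epi T.g)
    (h₁q : T.X₁.IsQuasicoherent) (h₂q : T.X₂.IsQuasicoherent) (h₃q : T.X₃.IsQuasicoherent)
    (h₁ : Subsingleton (Coh.HH X (CohB1.tensorMod T.X₁ W) 1))
    (h₃ : Subsingleton (Coh.HH X (CohB1.tensorMod T.X₃ W) 1)) :
    Subsingleton (Coh.HH X (CohB1.tensorMod T.X₂ W) 1) := by
  haveI := hW
  haveI := h₁q
  haveI := h₂q
  haveI := h₃q
  have hT' : (T.map (tw W)).Exact :=
    hT.map_of_epi_of_preservesCokernel (tw W) hg inferInstance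
  haveI : Epi (T.map (tw W)).g := @Functor.map_epi _ _ _ _ (tw W) _ _ _ T.g hg
  exact h1_mid hdim (T.map (tw W)) hT' (isQuasicoherent_tensorMod T.X₁ W)
    (isQuasicoherent_tensorMod T.X₂ W) (isQuasicoherent_tensorMod T.X₃ W) h₁ h₃

include k in
/-- **S17656**: extensions of deformation ample bundles -/
theorem ext_main (hdim : topologicalKrullDim X = 1)
    (hO : Subsingleton (Coh.HH X (Coh.structureModule X) 1)) (W : X.Modules)
    (hW : W.IsQuasicoherent) (S : ShortComplex X.Modules) (hS : S.ShortExact)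
    (hE₁ : FlatMod.IsFinLocFree S.X₁) (hE₂ : FlatMod.IsFinLocFree S.X₂)
    (hE₃ : FlatMod.IsFinLocFree S.X₃)
    (h₁ : Curv2.IsGloballyGenerated S.X₁ ∧ Subsingleton (Coh.HH X (CohB1.tensorMod S.X₁ W) 1))
    (h₃ : Curv2.IsGloballyGenerated S.X₃ ∧ Subsingleton (Coh.HH X (CohB1.tensorMod S.X₃ W) 1)) :
    Curv2.IsGloballyGenerated S.X₂ ∧ Subsingleton (Coh.HH X (CohB1.tensorMod S.X₂ W) 1) := by
  haveI := isNoetherian_of_proper k X
  haveI := isSeparated_of_proper k X
  have hq : ∀ M : X.Modules, FlatMod.IsFinLocFree M → M.IsQuasicoherent :=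
    fun M hM => (isCoh_of_isFinLocFree M hM).1
  constructor
  · exact gg_ext k S hS (h1_of_gg hdim.le hO _ (hq _ hE₁) h₁.1) h₁.1 h₃.1
  · exact h1_mid_tw X hdim.le W hW S hS.exact hS.epi_g (hq _ hE₁) (hq _ hE₂) (hq _ hE₃) h₁.2 h₃.2

include k in
/-- **S17657**: tensor powers of deformation ample bundles -/
theorem pow_main (hdim : topologicalKrullDim X = 1) (W : X.Modules)
    (hW : W.IsQuasicoherent) (E : X.Modules) (hE : FlatMod.IsFinLocFree E)
    (h₁ : Curv2.IsGloballyGenerated E ∧ Subsingleton (Coh.HH X (CohB1.tensorMod E W) 1))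
    (n : ℕ) (hn : 1 ≤ n) :
    Curv2.IsGloballyGenerated (CohB1.tensorPow E n) ∧
      Subsingleton (Coh.HH X (CohB1.tensorMod (CohB1.tensorPow E n) W) 1) := by
  haveI := isNoetherian_of_proper k X
  haveI := isSeparated_of_proper k X
  haveI := hW
  have hEq : E.IsQuasicoherent := (isCoh_of_isFinLocFree E hE).1
  haveI := hEq
  refine ⟨gg_tensorPow E h₁.1 n, ?_⟩
  obtain ⟨m, rfl⟩ : ∃ m, n = m + 1 := ⟨n - 1, by omega⟩
  have hPq : ∀ j : ℕ, (CohB1.tensorPow E j).IsQuasicoherent := by
    intro j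
    induction j with
    | zero => exact (inferInstance : (Coh.structureModule X).IsQuasicoherent)
    | succ j ih =>
      haveI := ih
      exact isQuasicoherent_tensorMod (CohB1.tensorPow E j) E
  have h2 : Subsingleton (Coh.HH X
      (CohB1.tensorMod (CohB1.tensorPow E m) (CohB1.tensorMod E W)) 1) :=
    h1_tensor_of_gg hdim.le _ _ (hPq m) (isQuasicoherent_tensorMod E W)
      (gg_tensorPow E h₁.1 m) h₁.2
  exact subsingleton_HH_of_iso
    (Groth.Agent.Lib.Helper23.LocGen.tensorAssoc (CohB1.tensorPow E m) E W) 1 h2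

include k in
/-- **S17655**: a map with torsion cokernel out of a deformation ample bundle -/
theorem tors_main (hdim : topologicalKrullDim X = 1)
    (hO : Subsingleton (Coh.HH X (Coh.structureModule X) 1)) (W : X.Modules)
    (hW : W.IsQuasicoherent) (E₁ E₂ : X.Modules) (hE₁ : FlatMod.IsFinLocFree E₁)
    (hE₂ : FlatMod.IsFinLocFree E₂) (φ : E₁ ⟶ E₂)
    (htors : ∀ x ∈ CohB1.support (cokernel φ), IsClosed ({x} : Set X))
    (h₁ : Curv2.IsGloballyGenerated E₁ ∧ Subsingleton (Coh.HH X (CohB1.tensorMod E₁ W) 1)) :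
    Curv2.IsGloballyGenerated E₂ ∧ Subsingleton (Coh.HH X (CohB1.tensorMod E₂ W) 1) := by
  haveI := isNoetherian_of_proper k X
  haveI := isSeparated_of_proper k X
  have hc₁ := isCoh_of_isFinLocFree E₁ hE₁
  have hc₂ := isCoh_of_isFinLocFree E₂ hE₂
  have hcC : Coh.IsCoh (cokernel φ) := Groth.Agent.Lib.Helper4.Dev.isCoh_cokernel φ hc₁ hc₂
  constructor
  · let S : ShortComplex X.Modules :=
      ShortComplex.mk (kernel.ι (cokernel.π φ)) (cokernel.π φ) (kernel.condition _)
    have hS : S.ShortExact :=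
      ShortComplex.ShortExact.mk' (ShortComplex.exact_of_f_is_kernel _ (kernelIsKernel _))
        (inferInstanceAs (Mono (kernel.ι (cokernel.π φ))))
        (inferInstanceAs (Epi (cokernel.π φ)))
    have hIgg : Curv2.IsGloballyGenerated (kernel (cokernel.π φ)) :=
      gg_of_epi (Abelian.factorThruImage φ) h₁.1
    have hIq : (kernel (cokernel.π φ)).IsQuasicoherent :=
      (Groth.Agent.Lib.Helper4.Dev.isCoh_kernel (cokernel.π φ) hc₂ hcC).1
    have hCgg : Curv2.IsGloballyGenerated (cokernel φ) :=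
      Groth.Agent.Lib.Helper4.ZeroDimGG.isGloballyGenerated_of_closed_points _ hcC htors
    exact gg_ext k S hS (h1_of_gg hdim.le hO _ hIq hIgg) hIgg hCgg
  · let T : ShortComplex X.Modules := ShortComplex.mk φ (cokernel.π φ) (cokernel.condition φ)
    have hT : T.Exact := ShortComplex.exact_of_g_is_cokernel _ (cokernelIsCokernel φ)
    have hfin : (CohB1.support (cokernel φ)).Finite :=
      Groth.Agent.S0047.finite_of_noetherian_quasiSober _
        (Groth.Agent.S0020.result X _ hcC.2) htors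
    have h3 : Subsingleton (Coh.HH X (CohB1.tensorMod (cokernel φ) W) 1) :=
      Groth.Agent.Lib.Helper4.CurveVan.HH_subsingleton_of_support_subset _
        (CohB1.support (cokernel φ))
        (Groth.Agent.Lib.Helper4.CurveVan.isClosed_of_subset_finite _ hfin htors)
        (Groth.Agent.Lib.Helper27SuppDimVan.support_tensorMod_subset_left _ _) 1 one_pos
    exact h1_mid_tw X hdim.le W hW T hT (inferInstanceAs (Epi (cokernel.π φ)))
      hc₁.1 hc₂.1 hcC.1 h₁.2 h3

end Main

end Groth.Agent.Lib.Helper6.DefAmple
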