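import Groth.Agent.Lib.Helper6GenusLe2
import Groth.Agent.Lib.Helper1ProjFC
import Groth.Agent.Lib.Helper4CurveChi
import Groth.Agent.Lib.Helper2CycFinFlat
import Groth.Agent.Lib.Helper2PullbackSec
import Groth.Agent.Lib.Helper2FlatOver
import Groth.Agent.Lib.Helper4DegAdd
import Groth.Agent.Lib.Helper23ZarConn

/-!
# Degrees of pullbacks of locally free modules along finite morphisms of curves (helper6): S7640
-/

set_option autoImplicit false
set_option linter.style.haveILetI false
universe u
open CategoryTheory Limits AlgebraicGeometry Opposite TopologicalSpace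

namespace Groth.Agent.Lib.Helper6.PullDeg

theorem inertiaDeg_bot_eq_finrank (A B : Type*) [CommRing A] [CommRing B] [IsDomain A] [IsDomain B]
    [Algebra A B] [FaithfulSMul A B] :
    (⊥ : Ideal B).inertiaDeg A = Module.finrank A B := by
  haveI : (⊥ : Ideal B).LiesOver (⊥ : Ideal A) := Ideal.bot_liesOver_bot A B
  letI := Localization.AtPrime.algebraOfLiesOver (⊥ : Ideal A) (⊥ : Ideal B)
  rw [Ideal.inertiaDeg_eq (⊥ : Ideal A) (⊥ : Ideal B)]
  exact IsFractionRing.finrank_eq A (⊥ : Ideal A).ResidueField B (⊥ : Ideal B).ResidueField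

section Gen

variable (k : Type u) [Field k] (X Y : Scheme.{u}) [X.Over (Spec (CommRingCat.of k))]
  [Y.Over (Spec (CommRingCat.of k))]

/-- Euler characteristics along an affine morphism -/
theorem euler_push (f : Y ⟶ X) [IsAffineHom f]
    (hf : f ≫ (X ↘ (Spec (CommRingCat.of k))) = Y ↘ (Spec (CommRingCat.of k)))
    [CompactSpace X] [QuasiSeparatedSpace X] (M : Y.Modules) [M.IsQuasicoherent] :
    Curv2.euler k X ((Scheme.Modules.pushforward f).obj M) = Curv2.euler k Y M := by
  unfold Curv2.euler
  refine finsum_congr fun i => ?_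
  obtain ⟨e⟩ := Groth.Agent.Lib.Helper6.AffPushLin.nonempty_linearEquiv (A := k) f hf M i
  rw [e.finrank_eq]

/-- `χ(Y, f^*E) = χ(X, E ⊗ f_*O_Y)` for an affine morphism `f : Y ⟶ X` and finite locally free `E` -/
theorem euler_pullback (f : Y ⟶ X) [IsAffineHom f]
    (hf : f ≫ (X ↘ (Spec (CommRingCat.of k))) = Y ↘ (Spec (CommRingCat.of k)))
    [CompactSpace X] [QuasiSeparatedSpace X] (E : X.Modules) (hE : FlatMod.IsFinLocFree E)
    [E.IsQuasicoherent] :
    Curv2.euler k Y ((Scheme.Modules.pullback f).obj E) =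
      Curv2.euler k X (CohB1.tensorMod E ((Scheme.Modules.pushforward f).obj (Coh.structureModule Y))) := by
  haveI : ((Scheme.Modules.pullback f).obj E).IsQuasicoherent :=
    Groth.Agent.Lib.Helper2.PullbackSec.isQuasicoherent_pullback f E
  rw [← euler_push k X Y f hf ((Scheme.Modules.pullback f).obj E)]
  let e1 : CohB1.tensorMod E ((Scheme.Modules.pushforward f).obj (Coh.structureModule Y)) ≅
      (Scheme.Modules.pushforward f).obj
        (CohB1.tensorMod ((Scheme.Modules.pullback f).obj E) (Coh.structureModule Y)) :=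
    (Groth.Agent.Lib.Helper1.Proj.projIso f E hE).app (Coh.structureModule Y)
  let e2 : (Scheme.Modules.pushforward f).obj
        (CohB1.tensorMod ((Scheme.Modules.pullback f).obj E) (Coh.structureModule Y)) ≅
      (Scheme.Modules.pushforward f).obj ((Scheme.Modules.pullback f).obj E) :=
    (Scheme.Modules.pushforward f).mapIso (Groth.Agent.Lib.Helper23.TensorUnit.tensorUnitIso _)
  exact (Groth.Agent.Lib.Helper4.CurveChi.euler_congr_iso k (e1 ≪≫ e2)).symm

end Gen

section Fin

variable (k : Type u) [Field k] (X Y : Scheme.{u}) [X.Over (Spec (CommRingCat.of k))]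
  [Y.Over (Spec (CommRingCat.of k))] [IsIntegral X] [IsIntegral Y]
  [IsProper (X ↘ (Spec (CommRingCat.of k)))] [IsProper (Y ↘ (Spec (CommRingCat.of k)))]

/-- a dominant morphism of integral proper curves is finite -/
theorem isFinite_of_dominant (hX : topologicalKrullDim X = 1) (hY : topologicalKrullDim Y = 1)
    (f : X ⟶ Y) (hf : f ≫ (Y ↘ (Spec (CommRingCat.of k))) = X ↘ (Spec (CommRingCat.of k)))
    (hξ : f.base (genericPoint X) = genericPoint Y) : IsFinite f := by
  haveI : IsNoetherian X := Groth.Agent.Lib.Helper4.CurveRR.isNoetherian_of_proper k X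
  haveI : IsNoetherian Y := Groth.Agent.Lib.Helper4.CurveRR.isNoetherian_of_proper k Y
  haveI : IsProper (f ≫ (Y ↘ (Spec (CommRingCat.of k)))) := by rw [hf]; infer_instance
  haveI : IsProper f := IsProper.of_comp f (Y ↘ (Spec (CommRingCat.of k)))
  have hcl : ∀ x : X, x ≠ genericPoint X → IsClosed ({x} : Set X) := fun x hx =>
    Groth.Agent.Lib.Helper6.EmbSec.isClosed_singleton_of_generization hX.le
      (genericPoint_specializes x) hx
  have hclY : ∀ y : Y, y ≠ genericPoint Y → IsClosed ({y} : Set Y) := fun y hy =>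
    Groth.Agent.Lib.Helper6.EmbSec.isClosed_singleton_of_generization hY.le
      (genericPoint_specializes y) hy
  haveI : LocallyQuasiFinite f := by
    refine LocallyQuasiFinite.of_finite_preimage_singleton f (fun y => ?_)
    by_cases hy : y = genericPoint Y
    · refine Set.Subsingleton.finite ?_
      have key : ∀ a ∈ f ⁻¹' {y}, a = genericPoint X := by
        intro a ha
        by_contra hne
        have hca := hcl a hne
        have him : IsClosed (f '' ({a} : Set X)) := f.isClosedMap _ hca
        rw [Set.image_singleton, show f a = y from ha, hy] at him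
        have huniv : ({genericPoint Y} : Set Y) = Set.univ := by
          rw [← him.closure_eq]
          exact genericPoint_spec Y
        haveI : Subsingleton Y := ⟨fun p q => by
          have hp : p ∈ ({genericPoint Y} : Set Y) := huniv ▸ Set.mem_univ p
          have hq : q ∈ ({genericPoint Y} : Set Y) := huniv ▸ Set.mem_univ q
          rw [Set.mem_singleton_iff] at hp hq
          rw [hp, hq]⟩
        have h0 : topologicalKrullDim Y ≤ 0 := topologicalKrullDim_zero_of_discreteTopology _
        rw [hY] at h0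
        exact absurd h0 (by decide)
      intro a ha b hb
      rw [key a ha, key b hb]
    · have hZ : IsClosed (f ⁻¹' ({y} : Set Y)) := (hclY y hy).preimage f.continuous
      let U : X.Opens := ⟨(f ⁻¹' ({y} : Set Y))ᶜ, hZ.isOpen_compl⟩
      have hηU : genericPoint X ∈ U := by
        change genericPoint X ∉ f ⁻¹' ({y} : Set Y)
        intro h
        apply hy
        rw [← hξ]
        exact (show f (genericPoint X) = y from h).symm
      have hU : Dense (U : Set X) := U.2.dense ⟨_, hηU⟩
      have hfin := Groth.Agent.Lib.Helper6.GenusLe.finite_compl_dense hX.le U hU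
      refine hfin.subset ?_
      intro a ha hau
      exact hau ha
  exact IsFinite.of_isProper_of_locallyQuasiFinite f

end Fin

section Rank

open Groth.Agent.Lib.Helper2.FlatOver

variable {Y : Scheme.{u}} [IsIntegral Y]

theorem genericPoint_mem_of_nonempty (V : Y.Opens) [h : Nonempty V] : genericPoint Y ∈ V :=
  ((genericPoint_spec Y).mem_open_set_iff V.isOpen).mpr (by simpa using h)

theorem primeIdealOf_genericPoint_asIdeal (V : Y.Opens) (hV : IsAffineOpen V) [Nonempty V] :
    (hV.primeIdealOf ⟨genericPoint Y, genericPoint_mem_of_nonempty V⟩).asIdeal = ⊥ := by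
  have h := hV.primeIdealOf_genericPoint
  rw [genericPoint_eq_bot_of_affine] at h
  exact congrArg PrimeSpectrum.asIdeal h

/-- the generic rank of a quasi-coherent module on an integral scheme is the rank of its module of sections
over any nonempty affine open -/
theorem finrank_stalk_genericPoint_eq (F : Y.Modules) [F.IsQuasicoherent] (V : Y.Opens)
    (hV : IsAffineOpen V) [Nonempty V] :
    Module.finrank (Y.presheaf.stalk (genericPoint Y)) (F.presheaf.stalk (genericPoint Y)) =
      Module.finrank Γ(Y, V) Γ(F, V) := by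
  have hη := genericPoint_mem_of_nonempty V
  letI := moduleStalkSections F V (genericPoint Y) hη
  haveI : IsDomain Γ(Y, V) := inferInstance
  haveI hfr : IsFractionRing Γ(Y, V) (Y.presheaf.stalk (genericPoint Y)) :=
    functionField_isFractionRing_of_isAffineOpen Y V hV
  haveI : IsScalarTower Γ(Y, V) (Y.presheaf.stalk (genericPoint Y))
      (F.presheaf.stalk (genericPoint Y)) := by
    refine ⟨fun a b y => ?_⟩
    change (Y.presheaf.germ V (genericPoint Y) hη a * b) • y =
      Y.presheaf.germ V (genericPoint Y) hη a • (b • y)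
    rw [mul_smul]
  rw [IsLocalization.finrank_eq (Y.presheaf.stalk (genericPoint Y)) (nonZeroDivisors Γ(Y, V)) le_rfl]
  have hloc := isLocalizedModule_germ hV F (genericPoint Y) hη
  have hp : (hV.primeIdealOf ⟨genericPoint Y, hη⟩).asIdeal.primeCompl ≤ nonZeroDivisors Γ(Y, V) := by
    intro x hx
    rw [mem_nonZeroDivisors_iff_ne_zero]
    intro h0
    apply hx
    rw [h0]
    exact Ideal.zero_mem _
  exact IsLocalizedModule.finrank_eq _ (germₗ F V (genericPoint Y) hη) hp

omit [IsIntegral Y] in
theorem finrank_sections_push {X : Scheme.{u}} (f : X ⟶ Y) (V : Y.Opens) :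
    letI := (f.app V).hom.toAlgebra
    Module.finrank Γ(Y, V) Γ((Scheme.Modules.pushforward f).obj (Coh.structureModule X), V) =
      Module.finrank Γ(Y, V) Γ(X, f ⁻¹ᵁ V) := by
  letI := (f.app V).hom.toAlgebra
  let e : Γ((Scheme.Modules.pushforward f).obj (Coh.structureModule X), V) ≃ₗ[Γ(Y, V)]
      Γ(X, f ⁻¹ᵁ V) :=
    { toFun := fun m => m
      invFun := fun m => m
      map_add' := fun _ _ => rfl
      map_smul' := fun r m => rfl
      left_inv := fun _ => rfl
      right_inv := fun _ => rfl }
  exact e.finrank_eq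

variable {X : Scheme.{u}} [IsIntegral X]

theorem app_injective_of_dominant (f : X ⟶ Y)
    (hξ : f.base (genericPoint X) = genericPoint Y) (V : Y.Opens) [Nonempty V] :
    Function.Injective (f.app V) := by
  have hηV : f.base (genericPoint X) ∈ V := by rw [hξ]; exact genericPoint_mem_of_nonempty V
  have hfield : IsField (Y.presheaf.stalk (f.base (genericPoint X))) := by
    rw [hξ]; exact Field.toIsField Y.functionField
  letI := hfield.toField
  have hinj : Function.Injective (f.stalkMap (genericPoint X)) :=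
    (f.stalkMap (genericPoint X)).hom.injective
  intro a b hab
  apply germ_injective_of_isIntegral Y (f.base (genericPoint X)) hηV
  apply hinj
  rw [Scheme.Hom.germ_stalkMap_apply, Scheme.Hom.germ_stalkMap_apply, hab]

theorem residueDegree_genericPoint_eq (f : X ⟶ Y) [IsAffineHom f]
    (hξ : f.base (genericPoint X) = genericPoint Y) (V : Y.Opens) (hV : IsAffineOpen V)
    [Nonempty V] :
    letI := (f.app V).hom.toAlgebra
    f.residueDegree (genericPoint X) = Module.finrank Γ(Y, V) Γ(X, f ⁻¹ᵁ V) := by
  have hηV : genericPoint X ∈ f ⁻¹ᵁ V := by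
    change f.base (genericPoint X) ∈ V
    rw [hξ]; exact genericPoint_mem_of_nonempty V
  haveI : Nonempty (f ⁻¹ᵁ V) := ⟨⟨_, hηV⟩⟩
  have hU : IsAffineOpen (f ⁻¹ᵁ V) := hV.preimage f
  have h1 := Groth.Agent.Lib.Helper2.CycFinFlat.chart_inertiaDeg f hV hU le_rfl (genericPoint X) hηV
  rw [← Scheme.Hom.app_eq_appLE] at h1
  letI := (f.app V).hom.toAlgebra
  rw [h1, primeIdealOf_genericPoint_asIdeal (f ⁻¹ᵁ V) hU]
  haveI : FaithfulSMul Γ(Y, V) Γ(X, f ⁻¹ᵁ V) :=
    (faithfulSMul_iff_algebraMap_injective _ _).mpr (app_injective_of_dominant f hξ V)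
  exact inertiaDeg_bot_eq_finrank Γ(Y, V) Γ(X, f ⁻¹ᵁ V)

end Rank


section Main

variable (k : Type u) [Field k] (X Y : Scheme.{u}) [X.Over (Spec (CommRingCat.of k))]
  [Y.Over (Spec (CommRingCat.of k))] [IsIntegral X] [IsIntegral Y]
  [IsProper (X ↘ (Spec (CommRingCat.of k)))] [IsProper (Y ↘ (Spec (CommRingCat.of k)))]

/-- **S7640** -/
theorem main (hX : topologicalKrullDim X = 1) (hY : topologicalKrullDim Y = 1)
    (f : X ⟶ Y) (hf : f ≫ (Y ↘ (Spec (CommRingCat.of k))) = X ↘ (Spec (CommRingCat.of k)))
    (hξ : f.base (genericPoint X) = genericPoint Y)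
    (n : ℕ) (E : Y.Modules) (hE : FlatMod.IsFinLocFreeOfRank n E) :
    Curv2.deg k X ((Scheme.Modules.pullback f).obj E) n =
      (f.residueDegree (genericPoint X) : ℤ) * Curv2.deg k Y E n := by
  haveI : IsNoetherian X := Groth.Agent.Lib.Helper4.CurveRR.isNoetherian_of_proper k X
  haveI : IsNoetherian Y := Groth.Agent.Lib.Helper4.CurveRR.isNoetherian_of_proper k Y
  haveI hfin : IsFinite f := isFinite_of_dominant k X Y hX hY f hf hξ
  haveI : IsAffineHom f := inferInstance
  haveI : IsProper f := inferInstance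
  have hEc : Coh.IsCoh E := Groth.Agent.Lib.Helper4.DegAdd.isCoh_of_isFinLocFreeOfRank E n hE
  haveI : E.IsQuasicoherent := hEc.1
  have hEf : FlatMod.IsFinLocFree E := fun x => by
    obtain ⟨U, hxU, e⟩ := hE x
    exact ⟨U, n, hxU, e⟩
  have hpc : Coh.IsCoh ((Scheme.Modules.pushforward f).obj (Coh.structureModule X)) :=
    Groth.Agent.Lib.Helper23.ZarConn.isCoh_push_structure f
  haveI : ((Scheme.Modules.pushforward f).obj (Coh.structureModule X)).IsQuasicoherent := hpc.1
  haveI : (Coh.structureModule X).IsQuasicoherent :=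
    (Groth.Agent.Lib.Helper4.Dev.isCoh_structureModule X).1
  have h1 := euler_pullback k Y X f hf E hEf
  have h2 := Groth.Agent.Lib.Helper4.CurveChi.euler_tensor_curve k Y hY n E hE _ hpc
  have h3 := euler_push k Y X f hf (Coh.structureModule X)
  -- a nonempty affine open of Y
  obtain ⟨V, hV, hηV⟩ : ∃ V : Y.Opens, IsAffineOpen V ∧ genericPoint Y ∈ V := by
    obtain ⟨_, ⟨V, hV, rfl⟩, hyV, -⟩ :=
      Y.isBasis_affineOpens.exists_subset_of_mem_open (Set.mem_univ (genericPoint Y)) isOpen_univ
    exact ⟨V, hV, hyV⟩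
  haveI : Nonempty V := ⟨⟨_, hηV⟩⟩
  have h4 := finrank_stalk_genericPoint_eq
    ((Scheme.Modules.pushforward f).obj (Coh.structureModule X)) V hV
  have h5 := finrank_sections_push f V
  have h6 := residueDegree_genericPoint_eq f hξ V hV
  rw [h4, h5, ← h6] at h2
  unfold Curv2.deg at h2 ⊢
  rw [h1, h2, h3]
  ring

end Main

end Groth.Agent.Lib.Helper6.PullDeg
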