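import Groth.Agent.Lib.Helper6SimpleSub
import Groth.Agent.Lib.Helper4CurveSat2
import Groth.Agent.Lib.Helper6PointIdeal

/-!
# Vanishing of `H¹` for bundles on a curve all of whose quotients have slope `> 2g - 2`, without Serre
duality (helper6): S11812

For a nonzero map `t : N ⟶ E` from a line bundle, the cokernel has `H¹ = 0` by induction on the rank, so
`H¹(t)` is onto; with `N = O` a nonzero functional on `H¹(E)` embeds `H⁰(E)` into `H¹(O)^*`.
-/

set_option autoImplicit false
set_option linter.style.haveILetI false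
universe u
open CategoryTheory Limits AlgebraicGeometry Opposite TopologicalSpace

namespace Groth.Agent.Lib.Helper6.SSVanish

open Groth.Agent.Lib.Helper4.CurveBun Groth.Agent.Lib.Helper4.DegAdd Groth.Agent.Lib.Helper4.CurveRR
  Groth.Agent.Lib.Helper4.Dev Groth.Agent.Lib.Helper6.CurveDeg Groth.Agent.Lib.Helper27ExtDual1
  Groth.Agent.Lib.Helper4.CurveStab

section Gen

variable (k : Type u) [Field k] {X : Scheme.{u}} [X.Over (Spec (CommRingCat.of k))]

theorem HHlin_zero_apply {M N : X.Modules} (i : ℕ) (x : Coh.HH X M i) :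
    Canon.HHlin k (0 : M ⟶ N) i x = 0 := by
  have h := HHlin_add (A := k) (0 : M ⟶ N) 0 i x
  rw [add_zero] at h
  exact left_eq_add.1 h

include k in
theorem HH_subsingleton_of_isZero (M : X.Modules) (hM : IsZero M) (i : ℕ) :
    Subsingleton (Coh.HH X M i) := by
  refine ⟨fun x y => ?_⟩
  have hx : x = 0 := by
    rw [← Groth.Agent.Lib.Helper4.CurveChi.HHlin_id k M i x, hM.eq_of_src (𝟙 M) 0, HHlin_zero_apply]
  have hy : y = 0 := by
    rw [← Groth.Agent.Lib.Helper4.CurveChi.HHlin_id k M i y, hM.eq_of_src (𝟙 M) 0, HHlin_zero_apply]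
  rw [hx, hy]

end Gen

variable (k : Type u) [Field k] (X : Scheme.{u}) [X.Over (Spec (CommRingCat.of k))]
  [IsIntegral X] [IsProper (X ↘ (Spec (CommRingCat.of k)))]

/-- every quotient bundle has slope `> c` -/
def QuotGt (c : ℤ) (E : X.Modules) : Prop :=
  ∀ (F : X.Modules) (s : ℕ) (p : E ⟶ F), Epi p → 0 < s → FlatMod.IsFinLocFreeOfRank s F →
    (s : ℤ) * c < Curv2.deg k X F s

/-- every quotient bundle of rank `< r` has slope `> c` -/
def ProperQuotGt (c : ℤ) (r : ℕ) (E : X.Modules) : Prop :=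
  ∀ (F : X.Modules) (s : ℕ) (p : E ⟶ F), Epi p → 0 < s → s < r → FlatMod.IsFinLocFreeOfRank s F →
    (s : ℤ) * c < Curv2.deg k X F s

include k in
/-- a coherent module with trivial generic stalk has no `H¹` -/
theorem HH_one_subsingleton_of_generic (hdim : topologicalKrullDim X = 1) (T : X.Modules)
    (cT : Coh.IsCoh T) (hgen : Subsingleton (T.presheaf.stalk (genericPoint X))) :
    Subsingleton (Coh.HH X T 1) := by
  haveI : IsLocallyNoetherian X := isLocallyNoetherian_of_proper k X
  have hZ : IsClosed (CohB1.support T) := Groth.Agent.S0020.result X _ cT.2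
  have hη : genericPoint X ∉ CohB1.support T := fun h => h hgen
  have hsupp : topologicalKrullDim (CohB1.support T) ≤ 0 :=
    topologicalKrullDim_le_zero_of_ne_univ hdim.le _ hZ (fun h => hη (h ▸ Set.mem_univ _))
  exact Groth.Agent.S1526.result k X _ cT hsupp 1 le_rfl

include k in
/-- a nonzero map from a line bundle to a bundle is a monomorphism -/
theorem mono_of_ne_zero_of_rank_one (hpid : PIDStalks X) {N E : X.Modules} (r : ℕ)
    (hN : FlatMod.IsFinLocFreeOfRank 1 N) (hE : FlatMod.IsFinLocFreeOfRank r E) (t : N ⟶ E)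
    (ht : t ≠ 0) : Mono t := by
  obtain ⟨a, b, hab, -, hK, hI, -⟩ := ker_im k X hpid t 1 r hN hE
  have hb : b ≠ 0 := by
    rintro rfl
    exact ht (eq_zero_of_image_rank_zero t hI)
  have ha : a = 0 := by omega
  subst ha
  exact mono_of_kernel_rank_zero t hK

/-- the induction step: a nonzero map from a line bundle is onto on `H¹` -/
theorem HHlin_one_surjective_of_quot (hpid : PIDStalks X) (hdim : topologicalKrullDim X = 1) (c : ℤ) (r : ℕ)
    (IH : ∀ r' < r, ∀ E' : X.Modules, FlatMod.IsFinLocFreeOfRank r' E' → QuotGt k X c E' →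
      Subsingleton (Coh.HH X E' 1))
    (E : X.Modules) (hE : FlatMod.IsFinLocFreeOfRank r E) (hQ : ProperQuotGt k X c r E)
    (N : X.Modules) (hN : FlatMod.IsFinLocFreeOfRank 1 N) (t : N ⟶ E) (ht : t ≠ 0) :
    Function.Surjective (Canon.HHlin k t 1) := by
  haveI : IsLocallyNoetherian X := isLocallyNoetherian_of_proper k X
  haveI : IsNoetherian X := isNoetherian_of_proper k X
  haveI : Mono t := mono_of_ne_zero_of_rank_one k X hpid r hN hE t ht
  have cN := isCoh_of_isFinLocFreeOfRank N 1 hN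
  have cE := isCoh_of_isFinLocFreeOfRank E r hE
  have cC : Coh.IsCoh (cokernel t) := isCoh_cokernel t cN cE
  obtain ⟨Q', p, q, hp, hQ', hgen⟩ :=
    Groth.Agent.Lib.Helper4.CurveSat.exists_locFree_quotient hpid (cokernel t) cC
  have cQ' := isCoh_of_isFinLocFreeOfRank Q' q hQ'
  have cK : Coh.IsCoh (kernel p) := isCoh_kernel p cC cQ'
  have h1 : Module.finrank (X.presheaf.stalk (genericPoint X)) (E.presheaf.stalk (genericPoint X)) =
      Module.finrank (X.presheaf.stalk (genericPoint X)) (N.presheaf.stalk (genericPoint X)) +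
      Module.finrank (X.presheaf.stalk (genericPoint X)) ((cokernel t).presheaf.stalk (genericPoint X)) :=
    Groth.Agent.Lib.Helper4.CurveChi.rk_additive X (sesOfMono t) (sesOfMono_shortExact t) cN cC
  have h2 : Module.finrank (X.presheaf.stalk (genericPoint X)) ((cokernel t).presheaf.stalk (genericPoint X)) =
      Module.finrank (X.presheaf.stalk (genericPoint X)) ((kernel p).presheaf.stalk (genericPoint X)) +
      Module.finrank (X.presheaf.stalk (genericPoint X)) (Q'.presheaf.stalk (genericPoint X)) :=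
    Groth.Agent.Lib.Helper4.CurveChi.rk_additive X (sesOfEpi p) (sesOfEpi_shortExact p) cK cQ'
  rw [Module.finrank_zero_of_subsingleton (M := (kernel p).presheaf.stalk (genericPoint X)), zero_add,
    (Groth.Agent.Lib.Helper4.KTensor.stalk_of_isFinLocFreeOfRank _ q hQ' (genericPoint X)).2.2] at h2
  rw [h2, (Groth.Agent.Lib.Helper4.KTensor.stalk_of_isFinLocFreeOfRank _ r hE (genericPoint X)).2.2,
    (Groth.Agent.Lib.Helper4.KTensor.stalk_of_isFinLocFreeOfRank _ 1 hN (genericPoint X)).2.2] at h1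
  have hqr : q < r := by omega
  -- `H¹(Q') = 0`
  have hH1Q : Subsingleton (Coh.HH X Q' 1) := by
    refine IH q hqr Q' hQ' ?_
    intro F s p' hp' hs hF
    haveI := hp'
    haveI := hp
    have hs' : s ≤ q := by
      obtain ⟨a, hra, -, -⟩ := Groth.Agent.Lib.Helper4.CurveSat.kernel_of_epi k X hpid p' q s hQ' hF
      omega
    exact hQ F s (cokernel.π t ≫ p ≫ p') (epi_comp _ _) hs (by omega) hF
  have hH1K : Subsingleton (Coh.HH X (kernel p) 1) :=
    HH_one_subsingleton_of_generic k X hdim _ cK hgen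
  have hH1C : Subsingleton (Coh.HH X (cokernel t) 1) := by
    refine ⟨fun x y => ?_⟩
    obtain ⟨x', hx'⟩ := Groth.Agent.Lib.LeadCohRank.exact_mid (sesOfEpi p) (sesOfEpi_shortExact p) 1 x
      (hH1Q.elim _ _)
    obtain ⟨y', hy'⟩ := Groth.Agent.Lib.LeadCohRank.exact_mid (sesOfEpi p) (sesOfEpi_shortExact p) 1 y
      (hH1Q.elim _ _)
    rw [← hx', ← hy', hH1K.elim x' y']
  intro x
  obtain ⟨y, hy⟩ := Groth.Agent.Lib.LeadCohRank.exact_mid (sesOfMono t) (sesOfMono_shortExact t) 1 x
    (hH1C.elim _ _)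
  exact ⟨y, hy⟩

omit [IsIntegral X] in
/-- if every nonzero section is onto on `H¹` and `H¹(E) ≠ 0` then `h⁰(E) ≤ g` -/
theorem h0_le_genus (E : X.Modules)
    (hsurj : ∀ s : Coh.structureModule X ⟶ E, s ≠ 0 → Function.Surjective (Canon.HHlin k s 1))
    (hns : ¬ Subsingleton (Coh.HH X E 1)) :
    Module.finrank k (Coh.HH X E 0) ≤ Curv2.genus k X := by
  haveI : Nontrivial (Coh.HH X E 1) := not_subsingleton_iff_nontrivial.1 hns
  obtain ⟨v, hv⟩ := exists_ne (0 : Coh.HH X E 1)
  obtain ⟨lam, hlam⟩ : ∃ lam : Module.Dual k (Coh.HH X E 1), lam v ≠ 0 := by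
    obtain ⟨g, hg⟩ := LinearMap.exists_leftInverse_of_injective
      (LinearMap.toSpanSingleton k (Coh.HH X E 1) v)
      (LinearMap.ker_eq_bot.2 (fun a b hab => by
        have h1 : a • v = b • v := hab
        exact smul_left_injective k hv h1))
    refine ⟨g, ?_⟩
    have h1 := LinearMap.congr_fun hg 1
    simp only [LinearMap.comp_apply, LinearMap.toSpanSingleton_apply, one_smul, LinearMap.id_apply] at h1
    rw [h1]
    exact one_ne_zero
  haveI : IsLocallyNoetherian X := isLocallyNoetherian_of_proper k X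
  haveI : Module.Finite k (Coh.HH X (Coh.structureModule X) 1) :=
    Groth.Agent.S0002.result k X _ (isCoh_structureModule X) 1
  have hinj : Function.Injective (dualityLin E 1 lam (Coh.structureModule X)) := by
    rw [← LinearMap.ker_eq_bot, LinearMap.ker_eq_bot']
    intro s hs
    by_contra hs0
    obtain ⟨x, hx⟩ := hsurj s hs0 v
    apply hlam
    rw [← hx, ← dualityLin_apply, hs]
    rfl
  haveI : Module.Finite k (Coh.structureModule X ⟶ E) := Module.Finite.of_injective _ hinj
  have h1 : Module.finrank k (Coh.structureModule X ⟶ E) ≤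
      Module.finrank k (Module.Dual k (Coh.HH X (Coh.structureModule X) 1)) :=
    LinearMap.finrank_le_finrank_of_injective hinj
  rw [Subspace.dual_finrank_eq] at h1
  have h2 : Module.finrank k (Coh.HH X E 0) ≤ Module.finrank k (Coh.structureModule X ⟶ E) :=
    LinearMap.finrank_le_finrank_of_surjective
      (Groth.Agent.Lib.Helper6.SpecialH1.secLin_surjective (k := k) E)
  unfold Curv2.genus
  omega

open Groth.Agent.Lib.Helper27GlobGenPn Groth.Agent.Lib.Helper23.SecTw in
/-- the main vanishing lemma, given a line bundle of degree `-1` in genus zero -/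
theorem vanish_of_quotGt [IsAlgClosed k] (hpid : PIDStalks X) (hdim : topologicalKrullDim X = 1)
    (hpt : Curv2.genus k X = 0 → ∃ N : X.Modules, PicF.IsInvertible N ∧ Curv2.deg k X N 1 = -1) :
    ∀ (r : ℕ) (E : X.Modules), FlatMod.IsFinLocFreeOfRank r E →
      QuotGt k X (2 * (Curv2.genus k X : ℤ) - 2) E → Subsingleton (Coh.HH X E 1) := by
  haveI : IsLocallyNoetherian X := isLocallyNoetherian_of_proper k X
  haveI : Nonempty X := nonempty_of_dim_eq_one hdim
  intro r
  induction r using Nat.strong_induction_on with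
  | _ r IH =>
  intro E hE hQ
  rcases Nat.eq_zero_or_pos r with hr0 | hr
  · subst hr0
    exact HH_subsingleton_of_isZero k E (isZero_of_rank_zero E hE) 1
  by_contra hns
  have cE := isCoh_of_isFinLocFreeOfRank E r hE
  have hO1 : FlatMod.IsFinLocFreeOfRank 1 (Coh.structureModule X) :=
    isFinLocFreeOfRank_one_of_isInvertible _
      (Groth.Agent.Lib.Helper23.TensorUnit.isInvertible_structureModule X)
  have hPQ : ProperQuotGt k X (2 * (Curv2.genus k X : ℤ) - 2) r E :=
    fun F s p hp hs _ hF => hQ F s p hp hs hF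
  have IH' : ∀ r' < r, ∀ E' : X.Modules, FlatMod.IsFinLocFreeOfRank r' E' →
      QuotGt k X (2 * (Curv2.genus k X : ℤ) - 2) E' → Subsingleton (Coh.HH X E' 1) :=
    fun r' hr' E' hE' hQ' => IH r' hr' E' hE' hQ'
  have hsurj : ∀ (N : X.Modules), FlatMod.IsFinLocFreeOfRank 1 N → ∀ t : N ⟶ E, t ≠ 0 →
      Function.Surjective (Canon.HHlin k t 1) :=
    fun N hN t ht => HHlin_one_surjective_of_quot k X hpid hdim _ r IH' E hE hPQ N hN t ht
  have h0g := h0_le_genus k X E (fun s hs => hsurj _ hO1 s hs) hns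
  have hχ := euler_eq_h0_sub_h1 k X hdim.le E cE
  have hχO := Groth.Agent.Lib.Helper6.H0Semi.euler_structureModule k X hdim
  haveI : Module.Finite k (Coh.HH X E 1) := Groth.Agent.S0002.result k X E cE 1
  haveI : Nontrivial (Coh.HH X E 1) := not_subsingleton_iff_nontrivial.1 hns
  have hpos : 0 < Module.finrank k (Coh.HH X E 1) := Module.finrank_pos
  have hdE : (r : ℤ) * (2 * (Curv2.genus k X : ℤ) - 2) < Curv2.deg k X E r := by
    have := hQ E r (𝟙 E) inferInstance hr hE
    exact this
  have hdE' : Curv2.deg k X E r = Curv2.euler k X E - r * (1 - (Curv2.genus k X : ℤ)) := by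
    unfold Curv2.deg
    rw [hχO]
  have h0g' : (Module.finrank k (Coh.HH X E 0) : ℤ) ≤ (Curv2.genus k X : ℤ) := by exact_mod_cast h0g
  have hpos' : (0 : ℤ) < (Module.finrank k (Coh.HH X E 1) : ℤ) := by exact_mod_cast hpos
  have hr' : (1 : ℤ) ≤ (r : ℤ) := by exact_mod_cast hr
  have hkey : ((r : ℤ) - 1) * ((Curv2.genus k X : ℤ) - 1) < 0 := by
    rw [hdE', hχ] at hdE
    nlinarith
  have hg0 : Curv2.genus k X = 0 := by
    by_contra hg
    have hg1 : (1 : ℤ) ≤ (Curv2.genus k X : ℤ) := by
      have : 1 ≤ Curv2.genus k X := Nat.one_le_iff_ne_zero.2 hg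
      exact_mod_cast this
    nlinarith
  have hr2 : 2 ≤ r := by
    by_contra hlt
    have : r = 1 := by omega
    subst this
    simp at hkey
  -- genus zero: twist by a line bundle of degree one
  obtain ⟨N, hNinv, hNdeg⟩ := hpt hg0
  have hN1 := isFinLocFreeOfRank_one_of_isInvertible N hNinv
  have hDinv := Groth.Agent.Lib.Helper23.InvDual.isInvertible_dual N hNinv
  obtain ⟨e₀⟩ := Groth.Agent.Lib.Helper23.InvDual.nonempty_tensorMod_dual_iso N hNinv
  have hD1 := isFinLocFreeOfRank_one_of_isInvertible _ hDinv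
  obtain ⟨ν, hν⟩ := Groth.Agent.Lib.Helper27LinRes.exists_untwist (RefHull.dual N) N
    (Groth.Agent.Lib.Helper23.AmpleFam2.tensorBraid _ _ ≪≫ e₀)
  obtain ⟨ν', hν'⟩ := Groth.Agent.Lib.Helper27LinRes.exists_untwist N (RefHull.dual N) e₀
  have hdND := Groth.Agent.Lib.Helper4.CurveDegT.deg_tensor k X hdim.le 1 1 N (RefHull.dual N) hN1 hD1
  rw [Groth.Agent.Lib.Helper4.CurveSSAb.deg_congr_iso k X e₀ (1 * 1)] at hdND
  have hdO : Curv2.deg k X (Coh.structureModule X) (1 * 1) = 0 := by
    unfold Curv2.deg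
    push_cast
    ring
  rw [hdO, hNdeg] at hdND
  have hdD : Curv2.deg k X (RefHull.dual N) 1 = 1 := by
    push_cast at hdND
    linarith
  have hdED := Groth.Agent.Lib.Helper4.CurveDegT.deg_tensor k X hdim.le r 1 E (RefHull.dual N) hE hD1
  have cED : Coh.IsCoh (CohB1.tensorMod E (RefHull.dual N)) :=
    Groth.Agent.Lib.Helper4.CurveChi.isCoh_tensorMod_locFree E (RefHull.dual N) cE 1 hD1
  have hχED : 0 < Curv2.euler k X (CohB1.tensorMod E (RefHull.dual N)) := by
    unfold Curv2.deg at hdED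
    rw [hχO] at hdED
    unfold Curv2.deg at hdE hdD
    rw [hχO] at hdE hdD
    rw [hg0] at hdE hdD hdED
    push_cast at hdE hdD hdED
    nlinarith
  have hh0 : 0 < Module.finrank k (Coh.HH X (CohB1.tensorMod E (RefHull.dual N)) 0) := by
    have := euler_le_h0 k X hdim.le _ cED
    zify
    linarith
  obtain ⟨t, ht⟩ := exists_hom_ne_zero k X _ hh0
  have ht' : (Groth.Agent.Lib.Helper23.TensorUnit.unitTensorIso N).inv ≫ wl t N ≫ (ν E).hom ≠ 0 := by
    intro h
    apply ht
    have h1 : wl t N = 0 := by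
      rw [← cancel_epi (Groth.Agent.Lib.Helper23.TensorUnit.unitTensorIso N).inv,
        ← cancel_mono (ν E).hom, Category.assoc, h, comp_zero, zero_comp]
    have h2 := hν' t
    have h3 : wl (wl t N) (RefHull.dual N) = 0 := by
      rw [h1]
      exact (Groth.Agent.Lib.Helper27SerreVan.tw (RefHull.dual N)).map_zero _ _
    rw [h3, zero_comp] at h2
    rw [← cancel_epi (ν' (Coh.structureModule X)).hom, ← h2, comp_zero]
  have hsN := hsurj N hN1 _ ht'
  have hH1N : Subsingleton (Coh.HH X N 1) := by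
    refine IH 1 (by omega) N hN1 ?_
    intro F s p hp hs hF
    haveI := hp
    obtain ⟨a, hra, hK, hdeg⟩ := Groth.Agent.Lib.Helper4.CurveSat.kernel_of_epi k X hpid p 1 s hN1 hF
    have hs1 : s = 1 := by omega
    have ha0 : a = 0 := by omega
    subst hs1
    subst ha0
    rw [deg_rank_zero k _ hK, zero_add, hNdeg] at hdeg
    rw [← hdeg, hg0]
    norm_num
  apply hns
  refine ⟨fun x y => ?_⟩
  obtain ⟨x', hx'⟩ := hsN x
  obtain ⟨y', hy'⟩ := hsN y
  rw [← hx', ← hy', hH1N.elim x' y']

/-- S11812: semistable of slope `> 2g - 2` has no `H¹` -/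
theorem main [IsAlgClosed k] [Smooth (X ↘ Spec (CommRingCat.of k))]
    (hdim : topologicalKrullDim X = 1)
    (r : ℕ) (hr : 0 < r) (E : X.Modules) (hE : FlatMod.IsFinLocFreeOfRank r E)
    (hss : ModFun.IsSlopeSemistable k X E r)
    (hdeg : (r : ℤ) * (2 * (Curv2.genus k X : ℤ) - 2) < Curv2.deg k X E r) :
    Subsingleton (Coh.HH X E 1) := by
  have hpid : PIDStalks X := pidStalks_of_smooth k X (X ↘ Spec (CommRingCat.of k)) hdim.le
  refine vanish_of_quotGt k X hpid hdim
    (fun _ => Groth.Agent.Lib.Helper6.PointIdeal.exists_invertible_deg_neg_one k X hpid hdim) r E hE ?_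
  intro F s p hp hs hF
  have h := (Groth.Agent.Lib.Helper4.CurveSat.quot_ss_iff_sub_ss k X hpid hdim r E hE).2 hss F s p hp hs hF
  have hr' : (0 : ℤ) < (r : ℤ) := by exact_mod_cast hr
  have hs' : (0 : ℤ) < (s : ℤ) := by exact_mod_cast hs
  have h1 : (r : ℤ) * ((s : ℤ) * (2 * (Curv2.genus k X : ℤ) - 2)) < (r : ℤ) * Curv2.deg k X F s := by
    nlinarith
  exact lt_of_mul_lt_mul_left h1 hr'.le

end Groth.Agent.Lib.Helper6.SSVanish
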