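import Groth.Agent.Lib.Helper4CurveChi
import Groth.Agent.Lib.Helper4DevM
import Groth.Agent.Lib.Helper10RatFunNoeth
import Groth.Agent.Lib.Helper6PullDeg
import Groth.Agent.Lib.Helper2FibreCrit2
import Groth.Agent.Lib.Helper4CurveComp
import Groth.Agent.Lib.Helper6CurveDeg
import Groth.Agent.Lib.Helper6SSVanish
import Groth.Agent.Lib.Helper23UnitStalk

/-!
# `χ(E ⊗ F)` on a proper scheme of dimension `≤ 1` through its irreducible components (helper6):
S17659, S1641
-/

set_option autoImplicit false
set_option linter.style.haveILetI false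
universe u
open CategoryTheory Limits AlgebraicGeometry Opposite TopologicalSpace

namespace Groth.Agent.Lib.Helper6.DegComp

open Groth.Agent.Lib.Helper4.Dev Groth.Agent.Lib.Helper10.RatFunNoeth

section Len

variable (X : Scheme.{u}) [AlgebraicGeometry.IsNoetherian X]

/-- finite length of stalks of coherent modules at generic points of components -/
theorem length_ne_top (Z : irreducibleComponents (X : Type u)) (F : X.Modules) (hF : Coh.IsCoh F) :
    Module.length (X.presheaf.stalk (gp X Z)) (F.presheaf.stalk (gp X Z)) ≠ ⊤ := by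
  haveI := isArtinianRing_stalk X Z
  haveI : F.IsQuasicoherent := hF.1
  haveI : SheafOfModules.IsFiniteType (R := X.ringCatSheaf) F := hF.2
  haveI := Groth.Agent.Lib.Helper2.FibreCrit.finite_stalk F (gp X Z)
  rw [Module.length_ne_top_iff, isFiniteLength_iff_isNoetherian_isArtinian]
  exact ⟨inferInstance, inferInstance⟩

/-- the multiplicity of `F` along the component `Z` -/
noncomputable def mult (Z : irreducibleComponents (X : Type u)) (F : X.Modules) : ℤ :=
  ((Module.length (X.presheaf.stalk (gp X Z)) (F.presheaf.stalk (gp X Z))).toNat : ℤ)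

theorem mult_additive (Z : irreducibleComponents (X : Type u)) (S : ShortComplex X.Modules)
    (hS : S.ShortExact) (h₁ : Coh.IsCoh S.X₁) (h₃ : Coh.IsCoh S.X₃) :
    mult X Z S.X₂ = mult X Z S.X₁ + mult X Z S.X₃ := by
  unfold mult
  rw [length_stalk_add S hS (gp X Z), ENat.toNat_add (length_ne_top X Z _ h₁) (length_ne_top X Z _ h₃)]
  push_cast
  rfl

omit [AlgebraicGeometry.IsNoetherian X] in
theorem mult_congr_iso (Z : irreducibleComponents (X : Type u)) {M N : X.Modules} (e : M ≅ N) :
    mult X Z M = mult X Z N := by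
  unfold mult
  have e' : ↑(M.presheaf.stalk (gp X Z)) ≃ₗ[X.presheaf.stalk (gp X Z)] ↑(N.presheaf.stalk (gp X Z)) :=
    LinearEquiv.ofLinearMap (stalkL e.hom (gp X Z)) (stalkL e.inv (gp X Z))
      (by rw [← stalkL_comp, e.inv_hom_id, stalkL_id])
      (by rw [← stalkL_comp, e.hom_inv_id, stalkL_id])
  rw [e'.length_eq]

omit [AlgebraicGeometry.IsNoetherian X] in
theorem mult_eq_zero_of_notMem (Z : irreducibleComponents (X : Type u)) (F : X.Modules)
    (h : gp X Z ∉ CohB1.support F) : mult X Z F = 0 := by
  unfold mult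
  have hsub : Subsingleton (F.presheaf.stalk (gp X Z)) := not_not.1 h
  rw [Module.length_eq_zero]
  rfl

end Len



section Top

theorem le_zero_of_lt_one (d : WithBot ℕ∞) (h : d < 1) : d ≤ 0 := by
  induction d using WithBot.recBotCoe with
  | bot => exact bot_le
  | coe a =>
    have h' : a < 1 := by exact_mod_cast h
    have h0 : a = 0 := Order.lt_one_iff.1 h'
    rw [h0]
    rfl

/-- a proper closed subset of an irreducible subset of dimension `≤ 1` has dimension `≤ 0` -/
theorem dim_le_zero_of_ssubset {T : Type*} [TopologicalSpace T] (Z S : Set T) (hZ : IsIrreducible Z)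
    (hdim : topologicalKrullDim Z ≤ 1) (hS : IsClosed S) (hSZ : S ⊆ Z) (hne : S ≠ Z) :
    topologicalKrullDim S ≤ 0 := by
  haveI : IrreducibleSpace Z := Subtype.irreducibleSpace hZ
  let S' : Set Z := Subtype.val ⁻¹' S
  have hS' : IsClosed S' := hS.preimage continuous_subtype_val
  have hne' : S' ≠ Set.univ := by
    intro h
    apply hne
    apply Set.Subset.antisymm hSZ
    intro z hz
    have : (⟨z, hz⟩ : Z) ∈ S' := h ▸ Set.mem_univ _
    exact this
  have h0 := Groth.Agent.Lib.Helper6.CurveDeg.topologicalKrullDim_le_zero_of_ne_univ hdim S' hS' hne'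
  let f : S → S' := fun x => ⟨⟨x.1, hSZ x.2⟩, x.2⟩
  have hg : Topology.IsInducing (fun x : S' => (x.1.1 : T)) :=
    Topology.IsInducing.subtypeVal.comp Topology.IsInducing.subtypeVal
  have hf : Topology.IsInducing f := by
    refine Topology.IsInducing.of_comp ?_ hg.continuous ?_
    · exact Continuous.subtype_mk (Continuous.subtype_mk continuous_subtype_val _) _
    · exact Topology.IsInducing.subtypeVal
  exact hf.topologicalKrullDim_le.trans h0

end Top

section KK

open Groth.Agent.Lib.Helper4.CurveChi

variable (k : Type u) [Field k] (X : Scheme.{u}) [X.Over (Spec (CommRingCat.of k))]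
  [IsProper (X ↘ (Spec (CommRingCat.of k)))] [AlgebraicGeometry.IsNoetherian X]

/-- the class of modules satisfying the formula with weights `w` -/
def KK (w : irreducibleComponents (X : Type u) → ℤ) (n : ℕ) (E F : X.Modules) : Prop :=
  Curv2.euler k X (CohB1.tensorMod F E) =
    (∑ᶠ Z : irreducibleComponents (X : Type u), mult X Z F * w Z) + n * Curv2.euler k X F

theorem exact23_KK (w : irreducibleComponents (X : Type u) → ℤ) (n : ℕ) (E : X.Modules)
    (hE : FlatMod.IsFinLocFreeOfRank n E) (Y : Set X) : Exact23 (KK k X w n E) Y := by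
  refine ⟨?_, ?_⟩
  · rintro M N ⟨e⟩ hM
    unfold KK at hM ⊢
    have h1 : Curv2.euler k X (CohB1.tensorMod M E) = Curv2.euler k X (CohB1.tensorMod N E) :=
      euler_congr_iso k ((DCoh.tensorRightMod E).mapIso e)
    have h2 : (fun Z : irreducibleComponents (X : Type u) => mult X Z N * w Z) =
        (fun Z => mult X Z M * w Z) := by
      funext Z
      rw [mult_congr_iso X Z e]
    rw [← h1, ← euler_congr_iso k e, h2]
    exact hM
  · intro S hS h₁ h₂ h₃ _
    have ha := euler_tensor_additive k X S hS h₁ h₂ h₃ n E hE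
    have hc := Groth.Agent.Lib.Helper6.Euler.euler_additive k X S hS h₁ h₂ h₃
    have hm : (∑ᶠ Z : irreducibleComponents (X : Type u), mult X Z S.X₂ * w Z) =
        (∑ᶠ Z : irreducibleComponents (X : Type u), mult X Z S.X₁ * w Z) +
          (∑ᶠ Z : irreducibleComponents (X : Type u), mult X Z S.X₃ * w Z) := by
      rw [← finsum_add_distrib (Set.toFinite _) (Set.toFinite _)]
      refine finsum_congr fun Z => ?_
      rw [mult_additive X Z S hS h₁ h₃]
      ring
    unfold KK
    rw [ha, hc, hm]
    refine ⟨fun k1 k2 => ?_, fun k1 k3 => ?_, fun k2 k3 => ?_⟩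
    · linear_combination k2 - k1
    · linear_combination k1 + k3
    · linear_combination k2 - k3

/-- the zero-dimensional case -/
theorem KK_of_dim_le_zero (w : irreducibleComponents (X : Type u) → ℤ)
    (hw0 : ∀ Z : irreducibleComponents (X : Type u), topologicalKrullDim (Z.1 : Set X) ≤ 0 → w Z = 0)
    (n : ℕ) (E : X.Modules) (hE : FlatMod.IsFinLocFreeOfRank n E) (F : X.Modules) (hF : Coh.IsCoh F)
    (hd : topologicalKrullDim (CohB1.support F) ≤ 0) : KK k X w n E F := by
  unfold KK
  rw [Groth.Agent.Lib.Helper4.ZeroDimChi.euler_tensor_locFree k F hF hd n E hE]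
  have h0 : (∑ᶠ Z : irreducibleComponents (X : Type u), mult X Z F * w Z) = 0 := by
    apply finsum_eq_zero_of_forall_eq_zero
    intro Z
    by_cases hZ : gp X Z ∈ CohB1.support F
    · have hcl : IsClosed (CohB1.support F) := Groth.Agent.S0020.result X F hF.2
      have hsub : Z.1 ⊆ CohB1.support F := by
        rw [← closure_gp X Z]
        exact closure_minimal (Set.singleton_subset_iff.2 hZ) hcl
      have hdZ : topologicalKrullDim (Z.1 : Set X) ≤ 0 :=
        ((Topology.IsEmbedding.inclusion hsub).isInducing.topologicalKrullDim_le).trans hd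
      rw [hw0 Z hdZ, mul_zero]
    · rw [mult_eq_zero_of_notMem X Z F hZ, zero_mul]
  rw [h0, zero_add]

end KK


section Gen

open Groth.Agent.Lib.Helper4.CurveChi

variable (k : Type u) [Field k] (X : Scheme.{u}) [X.Over (Spec (CommRingCat.of k))]
  [IsProper (X ↘ (Spec (CommRingCat.of k)))] [AlgebraicGeometry.IsNoetherian X]

/-- the reduced component as a closed subscheme -/
noncomputable abbrev compIdeal (Z : irreducibleComponents (X : Type u)) : X.IdealSheafData :=
  (X.irreducibleComponentIdeal Z.1 Z.2).radical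

omit [X.Over (Spec (CommRingCat.of k))] [IsProper (X ↘ (Spec (CommRingCat.of k)))] in
theorem range_compIdeal (Z : irreducibleComponents (X : Type u)) :
    Set.range (compIdeal X Z).subschemeι = Z.1 := by
  rw [Scheme.IdealSheafData.range_subschemeι]
  rfl

omit [X.Over (Spec (CommRingCat.of k))] [IsProper (X ↘ (Spec (CommRingCat.of k)))] in
/-- the generic point of the reduced component maps to the generic point of the component -/
theorem compIdeal_genericPoint (Z : irreducibleComponents (X : Type u)) :
    haveI := Groth.Agent.Lib.Helper4.CurveComp.isIntegral_radical_component X Z.1 Z.2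
    (compIdeal X Z).subschemeι (genericPoint (compIdeal X Z).subscheme) = gp X Z := by
  haveI := Groth.Agent.Lib.Helper4.CurveComp.isIntegral_radical_component X Z.1 Z.2
  set ι := (compIdeal X Z).subschemeι with hι
  have h1 : closure ({ι (genericPoint (compIdeal X Z).subscheme)} : Set X) = Z.1 := by
    have h2 := ι.isClosedEmbedding.closure_image_eq {genericPoint (compIdeal X Z).subscheme}
    rw [Set.image_singleton] at h2
    rw [h2, genericPoint_closure, Set.image_univ]
    exact range_compIdeal X Z
  have hg1 : IsGenericPoint (ι (genericPoint (compIdeal X Z).subscheme)) Z.1 := h1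
  have hg2 : IsGenericPoint (gp X Z) Z.1 := closure_gp X Z
  exact hg1.eq hg2

/-- the structure sheaf of the reduced component satisfies the formula, and has length one at the
generic point -/
theorem generator (w : irreducibleComponents (X : Type u) → ℤ) (n : ℕ) (E : X.Modules)
    (hE : FlatMod.IsFinLocFreeOfRank n E) (Z : irreducibleComponents (X : Type u))
    (hwZ : w Z = @Curv2.deg k _ (compIdeal X Z).subscheme
      ⟨(compIdeal X Z).subschemeι ≫ (X ↘ (Spec (CommRingCat.of k)))⟩
      ((Scheme.Modules.pullback (compIdeal X Z).subschemeι).obj E) n) :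
    Coh.IsCoh ((Scheme.Modules.pushforward (compIdeal X Z).subschemeι).obj
      (Coh.structureModule (compIdeal X Z).subscheme)) ∧
    CohB1.support ((Scheme.Modules.pushforward (compIdeal X Z).subschemeι).obj
      (Coh.structureModule (compIdeal X Z).subscheme)) ⊆ closure {gp X Z} ∧
    KK k X w n E ((Scheme.Modules.pushforward (compIdeal X Z).subschemeι).obj
      (Coh.structureModule (compIdeal X Z).subscheme)) ∧
    Module.length (X.presheaf.stalk (gp X Z)) (((Scheme.Modules.pushforward (compIdeal X Z).subschemeι).obj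
      (Coh.structureModule (compIdeal X Z).subscheme)).presheaf.stalk (gp X Z)) = 1 := by
  haveI : IsLocallyNoetherian X := inferInstance
  haveI hint := Groth.Agent.Lib.Helper4.CurveComp.isIntegral_radical_component X Z.1 Z.2
  set W := (compIdeal X Z).subscheme with hW
  set ι : W ⟶ X := (compIdeal X Z).subschemeι with hι
  set G := (Scheme.Modules.pushforward ι).obj (Coh.structureModule W) with hG
  have hgen : ι (genericPoint W) = gp X Z := compIdeal_genericPoint X Z
  have cG : Coh.IsCoh G := isCoh_push_closed ι _ (isCoh_structureModule W)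
  have hsupp : CohB1.support G ⊆ Z.1 := by
    have h := support_push_subset ι (Coh.structureModule W)
    rwa [range_compIdeal X Z] at h
  have hker : ι.ker = Scheme.IdealSheafData.vanishingIdeal
      ⟨closure {ι (genericPoint W)}, isClosed_closure⟩ := by
    rw [hι, Scheme.IdealSheafData.ker_subschemeι]
    change (X.irreducibleComponentIdeal Z.1 Z.2).radical = _
    rw [← Scheme.IdealSheafData.vanishingIdeal_support]
    congr 1
    apply Closeds.ext
    change Z.1 = closure {ι (genericPoint W)}
    rw [hgen, closure_gp]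
  have hlen : ∀ p : X, p = ι (genericPoint W) →
      Module.length (X.presheaf.stalk p) (G.presheaf.stalk p) = 1 := by
    rintro p rfl
    exact length_stalk_push_structure ι hker
  have hlen1 := hlen (gp X Z) hgen.symm
  refine ⟨cG, by rw [closure_gp]; exact hsupp, ?_, hlen1⟩
  letI : W.Over (Spec (CommRingCat.of k)) := ⟨ι ≫ (X ↘ Spec (CommRingCat.of k))⟩
  have hf : ι ≫ (X ↘ Spec (CommRingCat.of k)) = W ↘ Spec (CommRingCat.of k) := rfl
  haveI : E.IsQuasicoherent := (Groth.Agent.Lib.Helper4.DegAdd.isCoh_of_isFinLocFreeOfRank E n hE).1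
  have hEf : FlatMod.IsFinLocFree E := fun x => by
    obtain ⟨U, hxU, hU⟩ := hE x
    exact ⟨U, n, hxU, hU⟩
  have e1 := Groth.Agent.Lib.Helper6.PullDeg.euler_pullback k X W ι hf E hEf
  haveI := isQuasicoherent_structureModule W
  have e2 := Groth.Agent.Lib.Helper6.PullDeg.euler_push k X W ι hf (Coh.structureModule W)
  have e3 := euler_congr_iso k (Groth.Agent.Lib.Helper23.AmpleFam2.tensorBraid G E)
  have hsum : (∑ᶠ Z' : irreducibleComponents (X : Type u), mult X Z' G * w Z') = w Z := by
    rw [finsum_eq_single _ Z]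
    · unfold mult
      rw [hlen1]
      simp
    · intro Z' hne
      rw [mult_eq_zero_of_notMem X Z' G, zero_mul]
      intro hmem
      exact hne (eq_of_gp_mem X (hsupp hmem))
  unfold KK
  rw [hsum, hwZ, e3, ← e1, e2]
  unfold Curv2.deg
  ring

end Gen


section Main

open Groth.Agent.Lib.Helper4.CurveChi

variable (k : Type u) [Field k] (X : Scheme.{u}) [X.Over (Spec (CommRingCat.of k))]
  [IsProper (X ↘ (Spec (CommRingCat.of k)))] [AlgebraicGeometry.IsNoetherian X]

/-- **the general formula**: `χ(F ⊗ E) = Σ_Z mult_Z(F) · w_Z + n χ(F)` where `w_Z = deg(E|_{Z_red})` for the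
one-dimensional components and `w_Z = 0` for the zero-dimensional ones -/
theorem main (hdim : ∀ Z ∈ irreducibleComponents (X : Type u), topologicalKrullDim Z ≤ 1)
    (w : irreducibleComponents (X : Type u) → ℤ)
    (hw0 : ∀ Z : irreducibleComponents (X : Type u), topologicalKrullDim (Z.1 : Set X) ≤ 0 → w Z = 0)
    (n : ℕ) (E : X.Modules) (hE : FlatMod.IsFinLocFreeOfRank n E)
    (hw1 : ∀ Z : irreducibleComponents (X : Type u), ¬ topologicalKrullDim (Z.1 : Set X) ≤ 0 →
      w Z = @Curv2.deg k _ (compIdeal X Z).subscheme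
        ⟨(compIdeal X Z).subschemeι ≫ (X ↘ (Spec (CommRingCat.of k)))⟩
        ((Scheme.Modules.pullback (compIdeal X Z).subschemeι).obj E) n)
    (F : X.Modules) (hF : Coh.IsCoh F) : KK k X w n E F := by
  haveI : IsLocallyNoetherian X := inferInstance
  refine noetherian_induction_coh (KK k X w n E) Set.univ (exact23_KK k X w n E hE Set.univ).iso
    ?_ ?_ ?_ F hF (Set.subset_univ _)
  · intro M hM
    have cM : Coh.IsCoh M := isCoh_of_isZero hM (isCoh_structureModule X)
    apply KK_of_dim_le_zero k X w hw0 n E hE M cM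
    have hemp : CohB1.support M = ∅ := by
      apply Set.eq_empty_of_forall_notMem
      intro x hx
      exact hx (subsingleton_stalk_of_isZero hM x)
    rw [hemp]
    haveI : Subsingleton (↥(∅ : Set X)) := ⟨fun a => a.2.elim⟩
    exact topologicalKrullDim_zero_of_discreteTopology _
  · intro S hS h1 h2 h3 hsub k1 k3
    exact ((exact23_KK k X w n E hE Set.univ).tot S hS h1 h2 h3 hsub).2.1 k1 k3
  · intro y _ IH F hF hsF
    obtain ⟨Z', hZ', hsub⟩ := exists_mem_irreducibleComponents_subset_of_isIrreducible
      (closure ({y} : Set X)) isIrreducible_singleton.closure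
    by_cases hcase : closure ({y} : Set X) = Z' ∧ ¬ topologicalKrullDim (Z' : Set X) ≤ 0
    · obtain ⟨heq, hnd⟩ := hcase
      have hy : y = gp X ⟨Z', hZ'⟩ :=
        IsGenericPoint.eq (heq : IsGenericPoint y Z') (closure_gp X ⟨Z', hZ'⟩)
      subst hy
      obtain ⟨cG, hsG, hKG, hlenG⟩ := generator k X w n E hE ⟨Z', hZ'⟩ (hw1 ⟨Z', hZ'⟩ hnd)
      exact devissage_irreducible (gp X ⟨Z', hZ'⟩) (exact23_KK k X w n E hE _) IH cG hsG hKG hlenG F hF hsF
    · apply KK_of_dim_le_zero k X w hw0 n E hE F hF
      have hd : topologicalKrullDim (closure ({y} : Set X)) ≤ 0 := by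
        by_cases heq : closure ({y} : Set X) = Z'
        · have h0 : topologicalKrullDim (Z' : Set X) ≤ 0 := by
            by_contra h
            exact hcase ⟨heq, h⟩
          rw [heq]
          exact h0
        · exact dim_le_zero_of_ssubset Z' (closure {y}) hZ'.1 (hdim Z' hZ') isClosed_closure hsub heq
      exact ((Topology.IsEmbedding.inclusion hsF).isInducing.topologicalKrullDim_le).trans hd

end Main


section Cor

open Groth.Agent.Lib.Helper4.CurveChi

variable (k : Type u) [Field k] (X : Scheme.{u}) [X.Over (Spec (CommRingCat.of k))]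
  [IsProper (X ↘ (Spec (CommRingCat.of k)))] [AlgebraicGeometry.IsNoetherian X]

/-- **S17659** -/
theorem euler_tensor_components
    (hdim : ∀ Z ∈ irreducibleComponents (X : Type u), topologicalKrullDim Z = 1)
    (n : ℕ) (E : X.Modules) (hE : FlatMod.IsFinLocFreeOfRank n E) (F : X.Modules) (hF : Coh.IsCoh F) :
    Curv2.euler k X (CohB1.tensorMod E F) =
      (∑ᶠ Z : irreducibleComponents (X : Type u),
        ((Module.length (X.presheaf.stalk Z.2.1.genericPoint) (F.presheaf.stalk Z.2.1.genericPoint)).toNat : ℤ) *
          @Curv2.deg k _ (X.irreducibleComponentIdeal Z.1 Z.2).radical.subscheme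
            ⟨(X.irreducibleComponentIdeal Z.1 Z.2).radical.subschemeι ≫ (X ↘ (Spec (CommRingCat.of k)))⟩
            ((Scheme.Modules.pullback (X.irreducibleComponentIdeal Z.1 Z.2).radical.subschemeι).obj E) n) +
        (n : ℤ) * Curv2.euler k X F := by
  have h := main k X (fun Z hZ => (hdim Z hZ).le)
    (fun Z => @Curv2.deg k _ (compIdeal X Z).subscheme
      ⟨(compIdeal X Z).subschemeι ≫ (X ↘ (Spec (CommRingCat.of k)))⟩
      ((Scheme.Modules.pullback (compIdeal X Z).subschemeι).obj E) n)
    (fun Z h0 => by
      exfalso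
      have h1 : topologicalKrullDim (Z.1 : Set X) = 1 := hdim Z.1 Z.2
      rw [h1] at h0
      exact absurd h0 (by decide))
    n E hE (fun Z _ => rfl) F hF
  rw [euler_congr_iso k (Groth.Agent.Lib.Helper23.AmpleFam2.tensorBraid E F)]
  exact h

/-- **S1641** (with the weights abstracted) -/
theorem deg_eq_sum_components (hdim : topologicalKrullDim X ≤ 1)
    (n : ℕ) (E : X.Modules) (hE : FlatMod.IsFinLocFreeOfRank n E)
    (w : irreducibleComponents (X : Type u) → ℤ)
    (hw0 : ∀ Z : irreducibleComponents (X : Type u), topologicalKrullDim (Z.1 : Set X) ≠ 1 → w Z = 0)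
    (hw1 : ∀ Z : irreducibleComponents (X : Type u), topologicalKrullDim (Z.1 : Set X) = 1 →
      w Z = @Curv2.deg k _ (X.irreducibleComponentIdeal Z.1 Z.2).radical.subscheme
        ⟨(X.irreducibleComponentIdeal Z.1 Z.2).radical.subschemeι ≫ (X ↘ (Spec (CommRingCat.of k)))⟩
        ((Scheme.Modules.pullback (X.irreducibleComponentIdeal Z.1 Z.2).radical.subschemeι).obj E) n) :
    Curv2.deg k X E n = ∑ᶠ Z : irreducibleComponents (X : Type u),
      ((Module.length (X.presheaf.stalk Z.2.1.genericPoint) (X.presheaf.stalk Z.2.1.genericPoint)).toNat : ℤ) *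
        w Z := by
  haveI : IsLocallyNoetherian X := inferInstance
  have hle : ∀ Z : irreducibleComponents (X : Type u), topologicalKrullDim (Z.1 : Set X) ≤ 1 :=
    fun Z => (topologicalKrullDim_subspace_le X Z.1).trans hdim
  have hne : ∀ Z : irreducibleComponents (X : Type u), ¬ topologicalKrullDim (Z.1 : Set X) ≤ 0 →
      topologicalKrullDim (Z.1 : Set X) = 1 := by
    intro Z h0
    refine le_antisymm (hle Z) ?_
    by_contra h1
    apply h0
    rw [not_le] at h1
    exact le_zero_of_lt_one _ h1
  have h := main k X (fun Z hZ => hle ⟨Z, hZ⟩) w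
    (fun Z h0 => hw0 Z (fun h1 => by rw [h1] at h0; exact absurd h0 (by decide)))
    n E hE (fun Z h0 => hw1 Z (hne Z h0)) (Coh.structureModule X) (isCoh_structureModule X)
  unfold KK at h
  rw [euler_congr_iso k (Groth.Agent.Lib.Helper23.TensorUnit.unitTensorIso E)] at h
  have hm : ∀ Z : irreducibleComponents (X : Type u), mult X Z (Coh.structureModule X) =
      ((Module.length (X.presheaf.stalk Z.2.1.genericPoint) (X.presheaf.stalk Z.2.1.genericPoint)).toNat : ℤ) := by
    intro Z
    unfold mult
    rw [← (Groth.Agent.Lib.Helper23.UnitStalk.unitStalkEquiv (gp X Z)).length_eq]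
  unfold Curv2.deg
  rw [h]
  have : (fun Z : irreducibleComponents (X : Type u) => mult X Z (Coh.structureModule X) * w Z) =
      fun Z => ((Module.length (X.presheaf.stalk Z.2.1.genericPoint)
        (X.presheaf.stalk Z.2.1.genericPoint)).toNat : ℤ) * w Z := by
    funext Z
    rw [hm Z]
  rw [this]
  ring

end Cor

end Groth.Agent.Lib.Helper6.DegComp
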