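import Groth.Agent.Lib.Helper6Deligne
import Groth.Prelude.Def_CartDual2

set_option autoImplicit false

namespace Groth.Agent.Lib.Helper6.Deligne

open Coalgebra TensorProduct WithConv

universe u v

section CompPow

variable {R : Type u} [CommRing R] {H : Type v} [CommRing H] [HopfAlgebra R H]
  {S T : Type*} [CommRing S] [Algebra R S] [CommRing T] [Algebra R T]

lemma comp_one' (h : S →ₐ[R] T) :
    toConv (h.comp (1 : WithConv (H →ₐ[R] S)).ofConv) = 1 := by
  apply WithConv.ofConv_injective
  apply AlgHom.ext
  intro a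
  simp [AlgHom.convOne_def]

lemma comp_pow' (h : S →ₐ[R] T) (w : WithConv (H →ₐ[R] S)) (m : ℕ) :
    toConv (h.comp (w ^ m).ofConv) = (toConv (h.comp w.ofConv)) ^ m := by
  induction m with
  | zero => rw [pow_zero, pow_zero, comp_one']
  | succ m ih => rw [pow_succ, pow_succ, AlgHom.comp_convMul_distrib, toConv_ofConv, ih]

/-- every point of a group scheme killed by `m` is killed by `m` -/
lemma point_pow_eq_one (m : ℕ) (hm : (toConv (AlgHom.id R H)) ^ m = 1) (χ : H →ₐ[R] S) :
    (toConv χ) ^ m = 1 := by
  have := comp_pow' χ (toConv (AlgHom.id R H)) m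
  rw [hm, comp_one'] at this
  rw [this]
  rfl

end CompPow

section Theta

variable {k : Type u} [Field k] {A : Type u} [CommRing A] [HopfAlgebra k A]
  [Coalgebra.IsCocomm k A] [Module.Finite k A]
  (K : Type u) [Field K] [Algebra k K]

/-- `A → Hom_k(D, K)`, `a ↦ (x ↦ x a)`, as a `k`-algebra map into the convolution ring. -/
noncomputable def evK : A →ₐ[k] WithConv (CartDual.D k A →ₗ[k] K) :=
  { (convMap (A := CartDual.D k A) (Algebra.ofId k K)).comp
      ((CartDual.eval k A : A →ₐ[k] CartDual.D k (CartDual.D k A)) : A →+* _) with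
    commutes' := by
      intro r
      apply WithConv.ofConv_injective
      ext x
      simp [convMap_apply, Algebra.algebraMap_eq_smul_one, mul_smul] }

lemma evK_apply (a : A) (x : CartDual.D k A) : evK K a x = algebraMap k K (x a) := rfl

/-- `K → Hom_k(D, K)` as a `k`-algebra map -/
noncomputable def incK : K →ₐ[k] WithConv (CartDual.D k A →ₗ[k] K) :=
  { algebraMap K (WithConv (CartDual.D k A →ₗ[k] K)) with
    commutes' := by
      intro r
      apply WithConv.ofConv_injective
      ext x
      simp [Algebra.algebraMap_eq_smul_one] }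

lemma incK_apply (c : K) (x : CartDual.D k A) : incK (A := A) K c x = x 1 • c := by
  change c • algebraMap k K (counit (R := k) x) = _
  rw [CartDual.coalgebra_counit_apply, Algebra.algebraMap_eq_smul_one, smul_comm, smul_eq_mul,
    mul_one]

/-- `K ⊗ A → Hom_k(D, K)` -/
noncomputable def theta : K ⊗[k] A →ₐ[k] WithConv (CartDual.D k A →ₗ[k] K) :=
  Algebra.TensorProduct.lift (incK K) (evK K) (fun _ _ => Commute.all _ _)

lemma theta_tmul (c : K) (a : A) (x : CartDual.D k A) : theta K (c ⊗ₜ[k] a) x = x a • c := by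
  have h1 : theta K (c ⊗ₜ[k] a) = c • evK K a := by
    rw [theta, Algebra.TensorProduct.lift_tmul, Algebra.smul_def]
    rfl
  rw [h1]
  change c • evK K a x = _
  rw [evK_apply, Algebra.algebraMap_eq_smul_one, smul_comm, smul_eq_mul, mul_one]

section Bij

variable {ι : Type*} [Fintype ι] [DecidableEq ι] (b : Module.Basis ι k A)

omit [DecidableEq ι] [Module.Finite k A] [IsCocomm k A] in
lemma expand_dual (x : CartDual.D k A) :
    x = ∑ i, x (b i) • (toConv (b.coord i) : CartDual.D k A) := by
  apply WithConv.ofConv_injective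
  apply b.ext
  intro j
  simp only [WithConv.ofConv_sum, WithConv.ofConv_smul, LinearMap.sum_apply,
    LinearMap.smul_apply, Module.Basis.coord_apply, Module.Basis.repr_self, smul_eq_mul]
  rw [Finset.sum_eq_single j]
  · simp
  · intro i _ hij
    simp [Ne.symm hij]
  · intro h; exact absurd (Finset.mem_univ j) h

/-- the inverse of `theta` -/
noncomputable def psi (f : WithConv (CartDual.D k A →ₗ[k] K)) : K ⊗[k] A :=
  ∑ i, f (toConv (b.coord i)) ⊗ₜ[k] b i

omit [DecidableEq ι] in
lemma theta_psi (f : WithConv (CartDual.D k A →ₗ[k] K)) : theta K (psi K b f) = f := by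
  apply WithConv.ofConv_injective
  ext x
  rw [psi, map_sum, WithConv.ofConv_sum, LinearMap.sum_apply]
  conv_rhs => rw [expand_dual b x]
  rw [map_sum]
  refine Finset.sum_congr rfl (fun i _ => ?_)
  rw [map_smul]
  exact theta_tmul K _ _ _

omit [DecidableEq ι] in
lemma psi_theta (z : K ⊗[k] A) : psi K b (theta K z) = z := by
  induction z using TensorProduct.induction_on with
  | zero => simp [psi]
  | add z w hz hw =>
    rw [map_add]
    have : psi K b (theta K z + theta K w) = psi K b (theta K z) + psi K b (theta K w) := by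
      simp only [psi, ← Finset.sum_add_distrib, ← TensorProduct.add_tmul]
      rfl
    rw [this, hz, hw]
  | tmul c a =>
    simp only [psi, theta_tmul]
    change ∑ i, ((b.coord i) a • c) ⊗ₜ[k] b i = _
    simp only [TensorProduct.smul_tmul, ← TensorProduct.tmul_sum]
    congr 1
    exact b.sum_repr a

end Bij

omit [Module.Finite k A] in
lemma isReduced_conv [Module.Finite k A] [Algebra.Etale k A] :
    IsReduced (WithConv (CartDual.D k A →ₗ[k] K)) := by
  classical
  have hK : IsReduced (K ⊗[k] A) := Algebra.FormallyUnramified.isReduced_of_field K (K ⊗[k] A)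
  let b := Module.finBasis k A
  have hinj : Function.Injective (theta (A := A) K) :=
    Function.LeftInverse.injective (g := psi K b) (psi_theta K b)
  have hsurj : Function.Surjective (theta (A := A) K) :=
    Function.RightInverse.surjective (g := psi K b) (theta_psi K b)
  let e := AlgEquiv.ofBijective (theta (A := A) K) ⟨hinj, hsurj⟩
  exact isReduced_of_injective e.symm e.symm.injective

end Theta

section Local

variable {k : Type u} [Field k] {A : Type u} [CommRing A] [HopfAlgebra k A]
  [Coalgebra.IsCocomm k A] [Module.Finite k A]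

omit [Module.Finite k A] [IsCocomm k A] in
lemma finrank_dual [Module.Finite k A] :
    Module.finrank k (CartDual.D k A) = Module.finrank k A := by
  rw [(CartDual.toDual k A).finrank_eq, Subspace.dual_finrank_eq]

/-- S18543: the Cartier dual of an étale commutative group scheme of `p`-power order over a field
of characteristic `p` is local. -/
theorem isLocalRing_dual_of_etale (p : ℕ) [Fact p.Prime] [CharP k p] [Algebra.Etale k A] (n : ℕ)
    (hA : Module.finrank k A = p ^ n) : IsLocalRing (CartDual.D k A) := by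
  have hD : (toConv (AlgHom.id k (CartDual.D k A))) ^ (p ^ n) = 1 := by
    apply deligne k (CartDual.D k A) (p ^ n)
    intro q
    rw [Module.rankAtStalk_eq_finrank_of_free]
    change Module.finrank k (CartDual.D k A) = p ^ n
    rw [finrank_dual, hA]
  have hmax : (RingHom.ker (Bialgebra.counitAlgHom k (CartDual.D k A))).IsMaximal :=
    RingHom.ker_isMaximal_of_surjective _ (fun c => ⟨algebraMap k _ c, by simp⟩)
  apply IsLocalRing.of_unique_max_ideal
  refine ⟨_, hmax, ?_⟩
  intro 𝔪 h𝔪
  refine (hmax.eq_of_le h𝔪.ne_top ?_).symm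
  let _ : Field (CartDual.D k A ⧸ 𝔪) := Ideal.Quotient.field 𝔪
  let χ : CartDual.D k A →ₐ[k] (CartDual.D k A ⧸ 𝔪) := Ideal.Quotient.mkₐ k 𝔪
  have h1 := point_pow_eq_one (p ^ n) hD χ
  have h2 : (toLin (R := k) (A := CartDual.D k A) (CartDual.D k A ⧸ 𝔪) (toConv χ)) ^ (p ^ n) = 1 := by
    rw [← map_pow, h1, map_one]
  have hnt : Nontrivial (WithConv (CartDual.D k A →ₗ[k] (CartDual.D k A ⧸ 𝔪))) := by
    refine ⟨⟨0, 1, fun h => ?_⟩⟩
    have := congrArg (fun f => f.ofConv (1 : CartDual.D k A)) h
    simp at this
  have hchar : CharP (WithConv (CartDual.D k A →ₗ[k] (CartDual.D k A ⧸ 𝔪))) p :=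
    charP_of_injective_algebraMap (algebraMap k _).injective p
  have hred : IsReduced (WithConv (CartDual.D k A →ₗ[k] (CartDual.D k A ⧸ 𝔪))) :=
    isReduced_conv (CartDual.D k A ⧸ 𝔪)
  have h3 : toLin (R := k) (A := CartDual.D k A) (CartDual.D k A ⧸ 𝔪) (toConv χ) = 1 := by
    have h4 : (toLin (R := k) (A := CartDual.D k A) (CartDual.D k A ⧸ 𝔪) (toConv χ) - 1) ^ (p ^ n)
        = 0 := by
      rw [sub_pow_char_pow, h2, one_pow, sub_self]
    exact sub_eq_zero.1 (IsReduced.eq_zero _ ⟨_, h4⟩)
  intro x hx
  have h5 := congrArg (fun f => f.ofConv x) h3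
  change χ x = algebraMap k _ (counit (R := k) x) at h5
  have hx' : counit (R := k) x = 0 := hx
  rw [hx', map_zero] at h5
  exact Ideal.Quotient.eq_zero_iff_mem.1 h5

end Local

end Groth.Agent.Lib.Helper6.Deligne
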