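import Mathlib.RingTheory.Jacobson.Ring
import Mathlib.FieldTheory.IsAlgClosed.Basic
import Mathlib.Analysis.Complex.Polynomial.Basic
import Mathlib.RingTheory.Ideal.GoingUp
import Mathlib.FieldTheory.Minpoly.IsIntegrallyClosed
import Mathlib.RingTheory.Ideal.Quotient.Operations
import Mathlib.Analysis.Polynomial.CauchyBound
import Mathlib.Topology.Algebra.MvPolynomial
import Mathlib.Analysis.Normed.Module.FiniteDimension
import Mathlib.Topology.Algebra.Module.Cardinality
import Mathlib.Algebra.MvPolynomial.Funext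
import Mathlib.Algebra.Polynomial.Splits
import Mathlib.RingTheory.NoetherNormalization
import Mathlib.RingTheory.Polynomial.UniqueFactorization
import Mathlib.RingTheory.Polynomial.RationalRoot

/-!
# Density of a nonempty Zariski open subset in the complex topology (algebraic core)

For a finite type `ℂ`-algebra `A` which is a domain and `h ≠ 0` in `A`, every `ℂ`-point of `A`
is a limit (for the topology of pointwise convergence on `A → ℂ`) of `ℂ`-points at which `h`
does not vanish.  The proof follows the classical argument through Noether normalisation,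
continuity of roots and properness of finite maps.
-/

set_option autoImplicit false

open Polynomial

namespace Groth.Agent.Lib.Helper6

section algebra

variable {A : Type*} [CommRing A] [Algebra ℂ A]

/-- Lemma A: maximal ideals of a finite type `ℂ`-algebra are kernels of `ℂ`-points. -/
lemma exists_algHom_ker_eq [Algebra.FiniteType ℂ A] (m : Ideal A) [hm : m.IsMaximal] :
    ∃ ψ : A →ₐ[ℂ] ℂ, RingHom.ker ψ = m := by
  let _ := Ideal.Quotient.field m
  have hft' : Algebra.FiniteType ℂ (A ⧸ m) :=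
    Algebra.FiniteType.of_surjective (Ideal.Quotient.mkₐ ℂ m) (Ideal.Quotient.mkₐ_surjective ℂ m)
  have hfin : Module.Finite ℂ (A ⧸ m) := finite_of_finite_type_of_isJacobsonRing ℂ _
  have hbij : Function.Bijective (algebraMap ℂ (A ⧸ m)) :=
    IsAlgClosed.algebraMap_bijective_of_isIntegral
  let e : ℂ ≃ₐ[ℂ] (A ⧸ m) := AlgEquiv.ofBijective (Algebra.ofId ℂ (A ⧸ m)) hbij
  refine ⟨e.symm.toAlgHom.comp (Ideal.Quotient.mkₐ ℂ m), ?_⟩
  ext a
  simp only [RingHom.mem_ker, AlgHom.coe_comp, Function.comp_apply]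
  change e.symm (Ideal.Quotient.mk m a) = 0 ↔ _
  rw [map_eq_zero_iff _ e.symm.injective, Ideal.Quotient.eq_zero_iff_mem]

/-- Lemma B: a `ℂ`-point is determined by its kernel. -/
lemma algHom_eq_of_ker_le {ψ ψ' : A →ₐ[ℂ] ℂ} (h : RingHom.ker ψ ≤ RingHom.ker ψ') : ψ = ψ' := by
  ext a
  have h1 : a - algebraMap ℂ A (ψ a) ∈ RingHom.ker ψ := by
    rw [RingHom.mem_ker, map_sub, AlgHom.commutes]
    simp
  have h2 := h h1
  rw [RingHom.mem_ker, map_sub, AlgHom.commutes] at h2
  exact (sub_eq_zero.1 h2).symm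

/-- Lemma C: lifting `ℂ`-points along integral maps. -/
lemma exists_algHom_comp_eq [Algebra.FiniteType ℂ A] {S : Type*} [CommRing S] [Algebra ℂ S]
    (G : S →ₐ[ℂ] A) (hG : G.toRingHom.IsIntegral) (χ : S →ₐ[ℂ] ℂ)
    (hker : RingHom.ker G ≤ RingHom.ker χ) : ∃ ψ : A →ₐ[ℂ] ℂ, ψ.comp G = χ := by
  let _ : Algebra S A := G.toRingHom.toAlgebra
  have hint : Algebra.IsIntegral S A := ⟨hG⟩
  have hχsurj : Function.Surjective χ := fun c => ⟨algebraMap ℂ S c, by simp⟩
  have hmax : (RingHom.ker χ).IsMaximal := RingHom.ker_isMaximal_of_surjective _ hχsurj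
  obtain ⟨Q, hQ, hQP⟩ := Ideal.exists_ideal_over_maximal_of_isIntegral (S := A)
    (RingHom.ker χ) hker
  obtain ⟨ψ, hψ⟩ := exists_algHom_ker_eq Q
  refine ⟨ψ, ?_⟩
  apply algHom_eq_of_ker_le
  intro s hs
  rw [RingHom.mem_ker] at hs ⊢
  have : G s ∈ Q := by rw [← hψ, RingHom.mem_ker]; exact hs
  have h2 : s ∈ Q.comap (algebraMap S A) := this
  rw [hQP] at h2
  exact h2

/-- Lemma D: lifting a `ℂ`-point of an integrally closed domain `R` to a finite type domain `A`
integral over it, with prescribed value (a root of the specialised minimal polynomial) at `a`. -/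
lemma exists_algHom_apply_eq_of_isRoot [Algebra.FiniteType ℂ A] [IsDomain A]
    {R : Type*} [CommRing R] [IsDomain R] [IsIntegrallyClosed R] [Algebra ℂ R] [Algebra R A]
    [IsScalarTower ℂ R A] [FaithfulSMul R A] [Algebra.IsIntegral R A]
    (a : A) (φ : R →ₐ[ℂ] ℂ) (t : ℂ) (ht : eval₂ (φ : R →+* ℂ) t (minpoly R a) = 0) :
    ∃ ψ : A →ₐ[ℂ] ℂ, (∀ r, ψ (algebraMap R A r) = φ r) ∧ ψ a = t := by
  let G : R[X] →ₐ[ℂ] A := (aeval a : R[X] →ₐ[R] A).restrictScalars ℂ
  let χ : R[X] →ₐ[ℂ] ℂ := Polynomial.aevalTower φ t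
  have hG : G.toRingHom.IsIntegral := by
    apply RingHom.IsIntegral.tower_top (C : R →+* R[X]) G.toRingHom
    have : G.toRingHom.comp (C : R →+* R[X]) = algebraMap R A := by
      ext r
      simp [G]
    rw [this]
    exact Algebra.IsIntegral.isIntegral
  have hker : RingHom.ker G ≤ RingHom.ker χ := by
    intro q hq
    rw [RingHom.mem_ker] at hq ⊢
    have hq' : aeval a q = 0 := hq
    obtain ⟨q', rfl⟩ := minpoly.isIntegrallyClosed_dvd (Algebra.IsIntegral.isIntegral a) hq'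
    have h1 : χ (minpoly R a) = 0 := ht
    rw [map_mul, h1, zero_mul]
  obtain ⟨ψ, hψ⟩ := exists_algHom_comp_eq G hG χ hker
  refine ⟨ψ, fun r => ?_, ?_⟩
  · have := congrArg (fun k : R[X] →ₐ[ℂ] ℂ => k (C r)) hψ
    simpa [G, χ] using this
  · have := congrArg (fun k : R[X] →ₐ[ℂ] ℂ => k X) hψ
    simpa [G, χ] using this


variable {R : Type*} [CommRing R] [Algebra ℂ R] [Algebra R A] [IsScalarTower ℂ R A]

/-- the `ℂ`-points of `A` over a given `ℂ`-point of `R` -/
def Fib (φ : R →ₐ[ℂ] ℂ) : Set (A →ₐ[ℂ] ℂ) := {ψ | ∀ r, ψ (algebraMap R A r) = φ r}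

lemma isRoot_map_minpoly [Algebra.IsIntegral R A] (φ : R →ₐ[ℂ] ℂ) (ψ : A →ₐ[ℂ] ℂ)
    (hψ : ψ ∈ Fib (A := A) φ) (b : A) : ((minpoly R b).map (φ : R →+* ℂ)).IsRoot (ψ b) := by
  rw [IsRoot.def, eval_map]
  have h1 : (ψ : A →+* ℂ).comp (algebraMap R A) = (φ : R →+* ℂ) := by
    ext r
    exact hψ r
  rw [← h1]
  change eval₂ ((ψ : A →+* ℂ).comp (algebraMap R A)) ((ψ : A →+* ℂ) b) (minpoly R b) = 0
  rw [← hom_eval₂]
  have := minpoly.aeval R b
  rw [aeval_def] at this
  rw [this, map_zero]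

lemma finite_fib [Module.Finite R A] (φ : R →ₐ[ℂ] ℂ) : (Fib (A := A) φ).Finite := by
  have hint : Algebra.IsIntegral R A := Algebra.IsIntegral.of_finite R A
  obtain ⟨s, hs⟩ := (Module.Finite.fg_top : (⊤ : Submodule R A).FG)
  have hfin : ∀ b : s, Finite {t : ℂ // ((minpoly R b.1).map (φ : R →+* ℂ)).IsRoot t} := by
    intro b
    have hmonic : ((minpoly R b.1).map (φ : R →+* ℂ)) ≠ 0 :=
      ((minpoly.monic (Algebra.IsIntegral.isIntegral b.1)).map _).ne_zero
    exact (Polynomial.finite_setOfPred_isRoot hmonic).to_subtype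
  let ev : Fib (A := A) φ → ((b : s) → {t : ℂ // ((minpoly R b.1).map (φ : R →+* ℂ)).IsRoot t}) :=
    fun ψ b => ⟨ψ.1 b.1, isRoot_map_minpoly φ ψ.1 ψ.2 b.1⟩
  have hinj : Function.Injective ev := by
    intro ψ ψ' h
    apply Subtype.ext
    ext x
    have hx : x ∈ Submodule.span R (s : Set A) := by rw [hs]; trivial
    induction hx using Submodule.span_induction with
    | mem y hy =>
      exact congrArg Subtype.val (congrFun h ⟨y, hy⟩)
    | zero => simp
    | add y z _ _ hy hz => rw [map_add, map_add, hy, hz]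
    | smul r y _ hy =>
      rw [Algebra.smul_def, map_mul, map_mul, hy, ψ.2 r, ψ'.2 r]
  exact Set.finite_coe_iff.1 (Finite.of_injective ev hinj)

/-- Lemma H: an element vanishing at `ψ₀` and equal to one at the other points of its fibre. -/
lemma exists_separating [Module.Finite R A] (φ : R →ₐ[ℂ] ℂ) (ψ₀ : A →ₐ[ℂ] ℂ) :
    ∃ a : A, ψ₀ a = 0 ∧ ∀ ψ ∈ Fib (A := A) φ, ψ ≠ ψ₀ → ψ a = 1 := by
  classical
  have hfin : Finite (Fib (A := A) φ) := (finite_fib φ).to_subtype
  have hmax : ∀ ψ : A →ₐ[ℂ] ℂ, (RingHom.ker ψ).IsMaximal := fun ψ =>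
    RingHom.ker_isMaximal_of_surjective _ (fun c => ⟨algebraMap ℂ A c, by simp⟩)
  by_cases hψ₀ : ψ₀ ∈ Fib (A := A) φ
  · have hcop : Pairwise (Function.onFun IsCoprime
        (fun ψ : Fib (A := A) φ => RingHom.ker (ψ.1 : A →+* ℂ))) := by
      intro ψ ψ' hne
      rw [Function.onFun, Ideal.isCoprime_iff_sup_eq]
      apply Ideal.IsMaximal.coprime_of_ne (hmax ψ.1) (hmax ψ'.1)
      intro heq
      exact hne (Subtype.ext (algHom_eq_of_ker_le heq.le))
    obtain ⟨a, ha⟩ := Ideal.exists_forall_sub_mem_ideal hcop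
      (fun ψ => if ψ.1 = ψ₀ then 0 else 1)
    refine ⟨a, ?_, fun ψ hψ hne => ?_⟩
    · have := ha ⟨ψ₀, hψ₀⟩
      simp only [if_true] at this
      rw [sub_zero, RingHom.mem_ker] at this
      exact this
    · have := ha ⟨ψ, hψ⟩
      simp only [if_neg hne] at this
      rw [RingHom.mem_ker, map_sub, map_one, sub_eq_zero] at this
      exact this
  · -- `ψ₀` is not in the fibre: any element of its kernel works after adding the fibre
    let ι := Option (Fib (A := A) φ)
    let I : ι → Ideal A := fun o => match o with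
      | none => RingHom.ker (ψ₀ : A →+* ℂ)
      | some ψ => RingHom.ker (ψ.1 : A →+* ℂ)
    have hcop : Pairwise (Function.onFun IsCoprime I) := by
      intro o o' hne
      rw [Function.onFun, Ideal.isCoprime_iff_sup_eq]
      match o, o', hne with
      | none, none, hne => exact absurd rfl hne
      | none, some ψ, _ =>
        apply Ideal.IsMaximal.coprime_of_ne (hmax ψ₀) (hmax ψ.1)
        intro heq
        exact hψ₀ (by rw [algHom_eq_of_ker_le heq.le]; exact ψ.2)
      | some ψ, none, _ =>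
        apply Ideal.IsMaximal.coprime_of_ne (hmax ψ.1) (hmax ψ₀)
        intro heq
        exact hψ₀ (by rw [← algHom_eq_of_ker_le heq.le]; exact ψ.2)
      | some ψ, some ψ', hne =>
        apply Ideal.IsMaximal.coprime_of_ne (hmax ψ.1) (hmax ψ'.1)
        intro heq
        exact hne (congrArg some (Subtype.ext (algHom_eq_of_ker_le heq.le)))
    obtain ⟨a, ha⟩ := Ideal.exists_forall_sub_mem_ideal hcop
      (fun o => match o with | none => 0 | some _ => 1)
    refine ⟨a, ?_, fun ψ hψ _ => ?_⟩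
    · have := ha none
      simp only [I] at this
      rw [sub_zero, RingHom.mem_ker] at this
      exact this
    · have := ha (some ⟨ψ, hψ⟩)
      simp only [I] at this
      rw [RingHom.mem_ker, map_sub, map_one, sub_eq_zero] at this
      exact this

end algebra

lemma pow_card_le_norm_prod {δ : ℝ} (hδ : 0 < δ) (s : Multiset ℂ) (hs : ∀ t ∈ s, δ < ‖t‖) :
    δ ^ Multiset.card s ≤ ‖s.prod‖ ∧ (s ≠ 0 → δ ^ Multiset.card s < ‖s.prod‖) := by
  induction s using Multiset.induction_on with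
  | empty => simp
  | cons a s ih =>
    have h1 := ih (fun t ht => hs t (Multiset.mem_cons_of_mem ht))
    have ha := hs a (Multiset.mem_cons_self a s)
    have hlt : δ ^ Multiset.card (a ::ₘ s) < ‖(a ::ₘ s).prod‖ := by
      rw [Multiset.card_cons, Multiset.prod_cons, norm_mul, pow_succ, mul_comm]
      have h0 : 0 < δ ^ Multiset.card s := pow_pos hδ _
      calc δ * δ ^ Multiset.card s ≤ δ * ‖s.prod‖ := by gcongr; exact h1.1
        _ < ‖a‖ * ‖s.prod‖ := mul_lt_mul_of_pos_right ha (lt_of_lt_of_le h0 h1.1)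
    exact ⟨hlt.le, fun _ => hlt⟩

/-- Lemma G: a monic complex polynomial of positive degree with small constant coefficient has
a small root. -/
lemma exists_isRoot_norm_le {p : ℂ[X]} (hp : p.Monic) (hdeg : 0 < p.natDegree) {δ : ℝ}
    (hδ : 0 < δ) (h0 : ‖p.coeff 0‖ ≤ δ ^ p.natDegree) : ∃ t, p.IsRoot t ∧ ‖t‖ ≤ δ := by
  by_contra hcon
  simp only [not_exists, not_and, not_le] at hcon
  have hs : p.Splits := IsAlgClosed.splits p
  have h1 := hs.coeff_zero_eq_prod_roots_of_monic hp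
  have hcard := hs.natDegree_eq_card_roots
  have hne : p.roots ≠ 0 := by
    intro h
    rw [h, Multiset.card_zero] at hcard
    omega
  have h2 := (pow_card_le_norm_prod hδ p.roots (fun t ht =>
    hcon t ((mem_roots hp.ne_zero).1 ht))).2 hne
  rw [h1, norm_mul, norm_pow, norm_neg, norm_one, one_pow, one_mul, hcard] at h0
  exact absurd h0 (not_le.2 h2)

/-- Lemma F: the nonvanishing locus of a nonzero polynomial is dense in `ℂ^d`. -/
lemma dense_eval_ne_zero {d : ℕ} (c : MvPolynomial (Fin d) ℂ) (hc : c ≠ 0) :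
    Dense {z : Fin d → ℂ | MvPolynomial.eval z c ≠ 0} := by
  obtain ⟨w, hw⟩ : ∃ w : Fin d → ℂ, MvPolynomial.eval w c ≠ 0 := by
    by_contra hcon
    simp only [not_exists, not_not] at hcon
    exact hc (MvPolynomial.funext fun z => by rw [hcon z, map_zero])
  intro z₀
  rw [mem_closure_iff_nhds]
  intro N hN
  -- the one-variable polynomial `t ↦ c (z₀ + t (w - z₀))`
  let line : Fin d → ℂ[X] := fun i => C (z₀ i) + X * C (w i - z₀ i)
  let p : ℂ[X] := MvPolynomial.aeval line c
  have hp_eval : ∀ t : ℂ, p.eval t = MvPolynomial.eval (fun i => z₀ i + t * (w i - z₀ i)) c := by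
    intro t
    have h : (Polynomial.evalRingHom t).comp (MvPolynomial.aeval line).toRingHom =
        MvPolynomial.eval (fun i => z₀ i + t * (w i - z₀ i)) := by
      apply MvPolynomial.ringHom_ext
      · intro a
        simp
      · intro i
        simp [line]
    exact congrArg (fun k => k c) h
  have hp1 : p.eval 1 ≠ 0 := by
    rw [hp_eval]
    have : (fun i => z₀ i + 1 * (w i - z₀ i)) = w := by
      funext i
      ring
    rw [this]
    exact hw
  have hp : p ≠ 0 := fun h => hp1 (by rw [h, eval_zero])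
  have hfin : {t : ℂ | p.IsRoot t}.Finite := Polynomial.finite_setOfPred_isRoot hp
  have hdense : Dense ({t : ℂ | p.IsRoot t}ᶜ) := hfin.countable.dense_compl ℂ
  have hcont : Continuous fun t : ℂ => fun i => z₀ i + t * (w i - z₀ i) := by
    fun_prop
  have hN' : (fun t : ℂ => fun i => z₀ i + t * (w i - z₀ i)) ⁻¹' N ∈ nhds (0 : ℂ) := by
    apply hcont.continuousAt.preimage_mem_nhds
    simpa using hN
  obtain ⟨t, ht, htN⟩ := hdense.inter_nhds_nonempty hN'
  exact ⟨fun i => z₀ i + t * (w i - z₀ i), htN, by rw [Set.mem_ofPred_eq, ← hp_eval]; exact ht⟩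

/-- root bound for a monic polynomial in terms of the sum of norms of the lower coefficients -/
lemma norm_le_of_isRoot_monic {q : ℂ[X]} (hq : q.Monic) {t : ℂ} (ht : q.IsRoot t) :
    ‖t‖ ≤ ∑ i ∈ Finset.range q.natDegree, ‖q.coeff i‖ + 1 := by
  have h1 := ht.norm_lt_cauchyBound hq.ne_zero
  have h2 : (cauchyBound q : ℝ) ≤ ∑ i ∈ Finset.range q.natDegree, ‖q.coeff i‖ + 1 := by
    unfold cauchyBound
    rw [hq.leadingCoeff, nnnorm_one, div_one]
    push_cast
    gcongr
    have : (Finset.range q.natDegree).sup (fun i => ‖q.coeff i‖₊) ≤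
        ∑ i ∈ Finset.range q.natDegree, ‖q.coeff i‖₊ := by
      apply Finset.sup_le
      intro i hi
      exact Finset.single_le_sum (f := fun i => ‖q.coeff i‖₊) (fun _ _ => zero_le) hi
    have h3 := NNReal.coe_le_coe.2 this
    push_cast at h3
    exact h3
  have h1' : ‖t‖ < (cauchyBound q : ℝ) := by
    have := NNReal.coe_lt_coe.2 h1
    simpa using this
  exact h1'.le.trans h2

section

variable {d : ℕ} {A : Type*} [CommRing A] [Algebra ℂ A]
  [Algebra (MvPolynomial (Fin d) ℂ) A] [IsScalarTower ℂ (MvPolynomial (Fin d) ℂ) A]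

/-- Lemma E: values of `ℂ`-points over a bounded region are bounded. -/
lemma exists_bound_apply [Algebra.IsIntegral (MvPolynomial (Fin d) ℂ) A] (z₀ : Fin d → ℂ) (b : A) :
    ∃ M : ℝ, ∀ (z : Fin d → ℂ) (ψ : A →ₐ[ℂ] ℂ), (∀ i, ‖z i - z₀ i‖ ≤ 1) →
      ψ ∈ Fib (A := A) (MvPolynomial.aeval z : MvPolynomial (Fin d) ℂ →ₐ[ℂ] ℂ) → ‖ψ b‖ ≤ M := by
  set p := minpoly (MvPolynomial (Fin d) ℂ) b with hp
  have hmonic : p.Monic := minpoly.monic (Algebra.IsIntegral.isIntegral b)
  have hK : IsCompact (Metric.closedBall z₀ (1 : ℝ)) := isCompact_closedBall z₀ 1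
  have hbd : ∀ i : ℕ, ∃ C : ℝ, ∀ z ∈ Metric.closedBall z₀ (1 : ℝ),
      ‖MvPolynomial.eval z (p.coeff i)‖ ≤ C := by
    intro i
    exact hK.exists_bound_of_continuousOn (MvPolynomial.continuous_eval (p.coeff i)).continuousOn
  choose C hC using hbd
  refine ⟨∑ i ∈ Finset.range p.natDegree, C i + 1, fun z ψ hz hψ => ?_⟩
  have hzK : z ∈ Metric.closedBall z₀ (1 : ℝ) := by
    rw [Metric.mem_closedBall, dist_pi_le_iff zero_le_one]
    intro i
    rw [dist_eq_norm]
    exact hz i
  have hroot := isRoot_map_minpoly _ ψ hψ b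
  have hm : (p.map ((MvPolynomial.aeval z : MvPolynomial (Fin d) ℂ →ₐ[ℂ] ℂ) :
      MvPolynomial (Fin d) ℂ →+* ℂ)).Monic := hmonic.map _
  have h1 := norm_le_of_isRoot_monic hm hroot
  rw [hmonic.natDegree_map] at h1
  refine h1.trans ?_
  gcongr with i hi
  rw [coeff_map]
  exact hC i z hzK

lemma mem_fib_aeval_iff (z : Fin d → ℂ) (ψ : A →ₐ[ℂ] ℂ) :
    ψ ∈ Fib (A := A) (MvPolynomial.aeval z : MvPolynomial (Fin d) ℂ →ₐ[ℂ] ℂ) ↔
      ∀ i, ψ (algebraMap (MvPolynomial (Fin d) ℂ) A (MvPolynomial.X i)) = z i := by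
  constructor
  · intro h i
    rw [h]
    simp
  · intro h r
    have : (ψ.comp (IsScalarTower.toAlgHom ℂ (MvPolynomial (Fin d) ℂ) A)) =
        (MvPolynomial.aeval z : MvPolynomial (Fin d) ℂ →ₐ[ℂ] ℂ) := by
      apply MvPolynomial.algHom_ext
      intro i
      simp [h]
    exact congrArg (fun k : MvPolynomial (Fin d) ℂ →ₐ[ℂ] ℂ => k r) this

/-- the set of functions `A → ℂ` that are `ℂ`-algebra homomorphisms is closed -/
lemma isClosed_range_algHom : IsClosed (Set.range fun ψ : A →ₐ[ℂ] ℂ => (ψ : A → ℂ)) := by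
  have : (Set.range fun ψ : A →ₐ[ℂ] ℂ => (ψ : A → ℂ)) =
      {φ : A → ℂ | (∀ x y, φ (x + y) = φ x + φ y) ∧ (∀ x y, φ (x * y) = φ x * φ y) ∧
        (∀ c : ℂ, φ (algebraMap ℂ A c) = c)} := by
    ext φ
    constructor
    · rintro ⟨ψ, rfl⟩
      exact ⟨fun x y => map_add ψ x y, fun x y => map_mul ψ x y, fun c => ψ.commutes c⟩
    · rintro ⟨hadd, hmul, hc⟩
      refine ⟨{ toFun := φ
                map_one' := by simpa using hc 1
                map_mul' := hmul
                map_zero' := by simpa using hc 0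
                map_add' := hadd
                commutes' := hc }, rfl⟩
  rw [this]
  simp only [Set.ofPred_and, Set.ofPred_forall]
  refine IsClosed.inter ?_ (IsClosed.inter ?_ ?_)
  · exact isClosed_iInter fun x => isClosed_iInter fun y =>
      isClosed_eq (continuous_apply (x + y)) ((continuous_apply x).add (continuous_apply y))
  · exact isClosed_iInter fun x => isClosed_iInter fun y =>
      isClosed_eq (continuous_apply (x * y)) ((continuous_apply x).mul (continuous_apply y))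
  · exact isClosed_iInter fun c => isClosed_eq (continuous_apply _) continuous_const

end

lemma minpoly_coeff_zero_ne_zero {R A : Type*} [CommRing R] [IsDomain R] [IsIntegrallyClosed R]
    [CommRing A] [IsDomain A] [Algebra R A] [FaithfulSMul R A] {h : A} (hint : IsIntegral R h)
    (hh : h ≠ 0) : (minpoly R h).coeff 0 ≠ 0 := by
  intro h0
  have hne : minpoly R h ≠ 0 := minpoly.ne_zero hint
  have hdiv : divX (minpoly R h) * X = minpoly R h := by
    have := divX_mul_X_add (minpoly R h)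
    rwa [h0, C_0, add_zero] at this
  have hq0 : divX (minpoly R h) ≠ 0 := by
    intro hq
    rw [hq, zero_mul] at hdiv
    exact hne hdiv.symm
  have haeval : aeval h (divX (minpoly R h)) = 0 := by
    have := minpoly.aeval R h
    rw [← hdiv, map_mul, aeval_X] at this
    exact (mul_eq_zero.1 this).resolve_right hh
  have hdvd := minpoly.isIntegrallyClosed_dvd hint haeval
  have h1 := degree_le_of_dvd hdvd hq0
  have h2 := degree_divX_lt hne
  exact absurd h1 (not_le.2 h2)

/-- Core density statement, with the Noether normalisation given. -/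
theorem core_density_aux {d : ℕ} {A : Type*} [CommRing A] [Algebra ℂ A] [IsDomain A]
    [Algebra.FiniteType ℂ A]
    [Algebra (MvPolynomial (Fin d) ℂ) A] [IsScalarTower ℂ (MvPolynomial (Fin d) ℂ) A]
    [Module.Finite (MvPolynomial (Fin d) ℂ) A] [FaithfulSMul (MvPolynomial (Fin d) ℂ) A]
    (h : A) (hh : h ≠ 0) (ψ₀ : A →ₐ[ℂ] ℂ) :
    (⇑ψ₀ : A → ℂ) ∈ closure {φ : A → ℂ | ∃ ψ : A →ₐ[ℂ] ℂ, ⇑ψ = φ ∧ ψ h ≠ 0} := by
  set R := MvPolynomial (Fin d) ℂ with hR
  have hint : Algebra.IsIntegral R A := Algebra.IsIntegral.of_finite R A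
  -- the image point
  set z₀ : Fin d → ℂ := fun i => ψ₀ (algebraMap R A (MvPolynomial.X i)) with hz₀
  have hψ₀fib : ψ₀ ∈ Fib (A := A) (MvPolynomial.aeval z₀ : R →ₐ[ℂ] ℂ) :=
    (mem_fib_aeval_iff z₀ ψ₀).2 fun i => rfl
  -- separating element
  obtain ⟨a, ha0, ha1⟩ := exists_separating (A := A) (MvPolynomial.aeval z₀ : R →ₐ[ℂ] ℂ) ψ₀
  set pa := minpoly R a with hpa
  have hpa_monic : pa.Monic := minpoly.monic (Algebra.IsIntegral.isIntegral a)
  have hpa_deg : 0 < pa.natDegree := minpoly.natDegree_pos (Algebra.IsIntegral.isIntegral a)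
  -- constant coefficient of the minimal polynomial of `h`
  set c₀ := (minpoly R h).coeff 0 with hc₀
  have hc₀ne : c₀ ≠ 0 := minpoly_coeff_zero_ne_zero (Algebra.IsIntegral.isIntegral h) hh
  -- mem closure
  rw [mem_closure_iff_nhds]
  intro N hN
  -- the compact sets
  let V : ℕ → Set (A → ℂ) := fun n =>
    (Set.range fun ψ : A →ₐ[ℂ] ℂ => (ψ : A → ℂ)) ∩
      ((⋂ i, {φ : A → ℂ | ‖φ (algebraMap R A (MvPolynomial.X i)) - z₀ i‖ ≤ 1 / ((n : ℝ) + 1)}) ∩
        {φ : A → ℂ | ‖φ a‖ ≤ 1 / 2})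
  have hVmem : ∀ n φ, φ ∈ V n ↔ φ ∈ (Set.range fun ψ : A →ₐ[ℂ] ℂ => (ψ : A → ℂ)) ∧
      (∀ i, ‖φ (algebraMap R A (MvPolynomial.X i)) - z₀ i‖ ≤ 1 / ((n : ℝ) + 1)) ∧ ‖φ a‖ ≤ 1 / 2 := by
    intro n φ
    simp only [V, Set.mem_inter_iff, Set.mem_iInter, Set.mem_ofPred_eq]
  have hVclosed : ∀ n, IsClosed (V n) := by
    intro n
    refine IsClosed.inter isClosed_range_algHom (IsClosed.inter ?_ ?_)
    · exact isClosed_iInter fun i => isClosed_le
        (((continuous_apply _).sub continuous_const).norm) continuous_const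
    · exact isClosed_le (continuous_apply a).norm continuous_const
  have hle1 : ∀ n : ℕ, 1 / ((n : ℝ) + 1) ≤ 1 := by
    intro n
    rw [div_le_one (by positivity)]
    linarith [(Nat.cast_nonneg n : (0:ℝ) ≤ n)]
  choose M hM using fun b : A => exists_bound_apply (A := A) z₀ b
  have hVsub : ∀ n, V n ⊆ Set.pi Set.univ (fun b : A => Metric.closedBall (0 : ℂ) (M b)) := by
    intro n φ hφ b _
    obtain ⟨⟨ψ, rfl⟩, hz, -⟩ := (hVmem n φ).1 hφ
    rw [mem_closedBall_zero_iff]
    apply hM b (fun i => ψ (algebraMap R A (MvPolynomial.X i))) ψ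
    · intro i
      exact (hz i).trans (hle1 n)
    · exact (mem_fib_aeval_iff _ ψ).2 fun i => rfl
  have hVcpct : ∀ n, IsCompact (V n) := fun n =>
    (isCompact_univ_pi fun b => isCompact_closedBall (0 : ℂ) (M b)).of_isClosed_subset
      (hVclosed n) (hVsub n)
  have hVdir : Directed (· ⊇ ·) V := by
    apply directed_of_isDirected_le
    intro m n hmn φ hφ
    rw [hVmem] at hφ ⊢
    refine ⟨hφ.1, fun i => (hφ.2.1 i).trans ?_, hφ.2.2⟩
    apply one_div_le_one_div_of_le (by positivity)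
    have : (m : ℝ) ≤ n := Nat.cast_le.2 hmn
    linarith
  have hVinter : ∀ φ ∈ ⋂ n, V n, N ∈ nhds φ := by
    intro φ hφ
    rw [Set.mem_iInter] at hφ
    replace hφ := fun n => (hVmem n φ).1 (hφ n)
    obtain ⟨ψ, rfl⟩ := (hφ 0).1
    have hz : ∀ i, ψ (algebraMap R A (MvPolynomial.X i)) = z₀ i := by
      intro i
      have h1 : ∀ n : ℕ, ‖ψ (algebraMap R A (MvPolynomial.X i)) - z₀ i‖ ≤ 1 / ((n : ℝ) + 1) :=
        fun n => (hφ n).2.1 i
      have h2 : ‖ψ (algebraMap R A (MvPolynomial.X i)) - z₀ i‖ ≤ 0 := by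
        apply le_of_forall_pos_le_add
        intro ε hε
        obtain ⟨n, hn⟩ := exists_nat_one_div_lt hε
        rw [zero_add]
        exact (h1 n).trans hn.le
      exact sub_eq_zero.1 (norm_le_zero_iff.1 h2)
    have hψfib : ψ ∈ Fib (A := A) (MvPolynomial.aeval z₀ : R →ₐ[ℂ] ℂ) :=
      (mem_fib_aeval_iff z₀ ψ).2 hz
    have hψ : ψ = ψ₀ := by
      by_contra hne
      have h1 := ha1 ψ hψfib hne
      have h2 : ‖ψ a‖ ≤ 1 / 2 := (hφ 0).2.2
      rw [h1, norm_one] at h2
      linarith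
    rw [hψ]
    exact hN
  obtain ⟨n, hn⟩ := exists_subset_nhds_of_isCompact hVdir hVcpct hVinter
  -- now find a point of `V n` where `h` does not vanish
  set ca := pa.coeff 0 with hca
  have hca0 : MvPolynomial.eval z₀ ca = 0 := by
    have hroot := isRoot_map_minpoly (MvPolynomial.aeval z₀ : R →ₐ[ℂ] ℂ) ψ₀ hψ₀fib a
    rw [ha0, IsRoot.def, ← coeff_zero_eq_eval_zero, coeff_map] at hroot
    exact hroot
  have hopen1 : {z : Fin d → ℂ | ‖MvPolynomial.eval z ca‖ < (1 / 2 : ℝ) ^ pa.natDegree} ∈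
      nhds z₀ := by
    have hcont : Continuous fun z : Fin d → ℂ => ‖MvPolynomial.eval z ca‖ :=
      (MvPolynomial.continuous_eval ca).norm
    refine hcont.continuousAt.preimage_mem_nhds (t := Set.Iio ((1 / 2 : ℝ) ^ pa.natDegree)) ?_
    apply Iio_mem_nhds
    rw [hca0, norm_zero]
    positivity
  have hopen2 : Metric.closedBall z₀ (1 / ((n : ℝ) + 1)) ∈ nhds z₀ :=
    Metric.closedBall_mem_nhds z₀ (by positivity)
  obtain ⟨z, hzne, hz1, hz2⟩ :=
    (dense_eval_ne_zero c₀ hc₀ne).inter_nhds_nonempty (Filter.inter_mem hopen1 hopen2)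
  -- a small root
  have hm : (pa.map ((MvPolynomial.aeval z : R →ₐ[ℂ] ℂ) : R →+* ℂ)).Monic := hpa_monic.map _
  obtain ⟨t, ht, htn⟩ := exists_isRoot_norm_le hm (by rw [hpa_monic.natDegree_map]; exact hpa_deg)
    (by norm_num : (0:ℝ) < 1 / 2) (by
      rw [hpa_monic.natDegree_map, coeff_map]
      exact (le_of_lt hz1))
  obtain ⟨ψ, hψ1, hψ2⟩ := exists_algHom_apply_eq_of_isRoot (A := A) a
    (MvPolynomial.aeval z : R →ₐ[ℂ] ℂ) t (by rw [← eval_map]; exact ht)
  refine ⟨⇑ψ, hn ((hVmem n _).2 ⟨⟨ψ, rfl⟩, fun i => ?_, ?_⟩), ψ, rfl, ?_⟩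
  · rw [hψ1]
    simp only [MvPolynomial.aeval_X]
    have := (dist_pi_le_iff (by positivity)).1 (Metric.mem_closedBall.1 hz2) i
    rwa [dist_eq_norm] at this
  · rw [hψ2]; exact htn
  · -- `ψ h ≠ 0`
    intro hψh
    have h1 := isRoot_map_minpoly (MvPolynomial.aeval z : R →ₐ[ℂ] ℂ) ψ hψ1 h
    rw [hψh, IsRoot.def, ← coeff_zero_eq_eval_zero, coeff_map] at h1
    exact hzne h1


/-- **Core density statement**: in a finite type `ℂ`-domain, the `ℂ`-points where a nonzero
element does not vanish are dense among all `ℂ`-points (topology of pointwise convergence). -/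
theorem core_density {A : Type*} [CommRing A] [Algebra ℂ A] [IsDomain A]
    [Algebra.FiniteType ℂ A] (h : A) (hh : h ≠ 0) (ψ₀ : A →ₐ[ℂ] ℂ) :
    (⇑ψ₀ : A → ℂ) ∈ closure {φ : A → ℂ | ∃ ψ : A →ₐ[ℂ] ℂ, ⇑ψ = φ ∧ ψ h ≠ 0} := by
  obtain ⟨d, g, hginj, hgfin⟩ := exists_finite_inj_algHom_of_fg ℂ A
  let _ : Algebra (MvPolynomial (Fin d) ℂ) A := g.toRingHom.toAlgebra
  have : IsScalarTower ℂ (MvPolynomial (Fin d) ℂ) A :=
    IsScalarTower.of_algebraMap_eq fun c => (g.commutes c).symm
  have : Module.Finite (MvPolynomial (Fin d) ℂ) A := hgfin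
  have : FaithfulSMul (MvPolynomial (Fin d) ℂ) A :=
    (faithfulSMul_iff_algebraMap_injective _ _).2 hginj
  exact core_density_aux (d := d) h hh ψ₀

end Groth.Agent.Lib.Helper6
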