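import Mathlib
import Groth.Prelude.Def_EGA43
import Groth.Agent.Lib.Helper6UniE
import Groth.Agent.Lib.Helper3EquiDim
import Groth.Agent.Lib.Helper6FbcA

/-! # Irreducible components equidimensional over the base (no Noetherian hypotheses) -/

set_option autoImplicit false
set_option linter.style.haveILetI false
universe u
open IsLocalRing CategoryTheory CategoryTheory.Limits AlgebraicGeometry

namespace Groth.Agent.Lib.Helper6.EqComp

open EGA43 Groth.Agent.Lib.Helper4.DimFormula Groth.Agent.Lib.Helper4.VarDim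
open Groth.Agent.Lib.Helper4.FibDim

/-- **Equidimensionality of an irreducible scheme over a base**: if `W` has a generic point `ξ`,
`closure {g ξ}` is an irreducible component of `S`, and the fibre dimension at `w` is at most the
fibre dimension `e` at `ξ`, then `g : W ⟶ S` is equidimensional at `w`. -/
theorem isEquidimAt_of_generic {W S : Scheme.{u}} (g : W ⟶ S) [LocallyOfFiniteType g] (ξ w : W)
    (hξ : ∀ w' : W, ξ ⤳ w') (hS : closure {g.base ξ} ∈ irreducibleComponents (S : Type u)) (e : ℕ)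
    (hξe : FlatMor.fibreDimAt g ξ = (e : WithBot ℕ∞))
    (hw : FlatMor.fibreDimAt g w ≤ (e : WithBot ℕ∞)) : IsEquidimAt g w := by
  let U : W.Opens := ⟨{w' : W | FlatMor.fibreDimAt g w' ≤ (e : WithBot ℕ∞)},
    isOpen_setOf_fibreDimAt_le' g e⟩
  have hUe : ∀ w' : W, w' ∈ U → FlatMor.fibreDimAt g w' = (e : WithBot ℕ∞) := by
    intro w' hw'
    refine le_antisymm hw' ?_
    rw [← hξe]
    exact Groth.Agent.Lib.Helper4.DimFormula.fibreDimAt_le_of_specializes g ξ w' (hξ w')
  have hξU : ξ ∈ U := by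
    change FlatMor.fibreDimAt g ξ ≤ (e : WithBot ℕ∞)
    rw [hξe]
  refine ⟨e, U, hw, ?_, ?_⟩
  · intro Z hZ
    refine ⟨closure {g.base ξ}, hS, ?_, ?_⟩
    · exact ((hξ w).map g.continuous).mem_closure
    · have hcl : closure ({(⟨ξ, hξU⟩ : ↥U)} : Set ↥U) = Set.univ := by
        rw [Set.eq_univ_iff_forall]
        intro u
        have h1 : (⟨ξ, hξU⟩ : ↥U) ⤳ u := (subtype_specializes_iff _ _).mpr (hξ u.1)
        exact h1.mem_closure
      have hirr : IsIrreducible (Set.univ : Set ↥U) := by
        rw [← hcl]; exact isIrreducible_singleton.closure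
      have hZu : Z = Set.univ := le_antisymm (Set.subset_univ _) (hZ.2 hirr (Set.subset_univ _))
      rw [hZu]
      apply le_antisymm
      · apply closure_minimal _ isClosed_closure
        rintro _ ⟨u, -, rfl⟩
        exact ((hξ (U.ι.base u)).map g.continuous).mem_closure
      · apply closure_mono
        rw [Set.singleton_subset_iff]
        exact ⟨⟨ξ, hξU⟩, Set.mem_univ _, rfl⟩
  · intro x'
    letI : ((U.ι ≫ g).fiber ((U.ι ≫ g).base x')).Over
        (Spec (CommRingCat.of (S.residueField ((U.ι ≫ g).base x')))) :=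
      ⟨(U.ι ≫ g).fiberToSpecResidueField ((U.ι ≫ g).base x')⟩
    haveI : LocallyOfFiniteType (((U.ι ≫ g).fiber ((U.ι ≫ g).base x')) ↘
        Spec (CommRingCat.of (S.residueField ((U.ι ≫ g).base x')))) :=
      locallyOfFiniteType_fiberToSpecResidueField (U.ι ≫ g) _
    rw [Groth.Agent.Lib.Helper3.EquiDim.forall_dim_irreducibleComponents_eq_iff
      (S.residueField ((U.ι ≫ g).base x')) ((U.ι ≫ g).fiber ((U.ι ≫ g).base x')) e]
    intro z
    rw [localDim_fiber_eq (U.ι ≫ g) _ z, ← fibreDimAt_eq_fibLD, fibreDimAt_opens_ι_comp g U]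
    exact hUe _ (((U.ι ≫ g).fiberι ((U.ι ≫ g).base x')).base z).2

/-- at a point whose image is maximal in its fibre, the fibre dimension of `ι ≫ f` (with `ι` a
preimmersion) equals that of `f`. -/
theorem fibreDimAt_comp_eq_of_maximal {X S Z : Scheme.{u}} (ι : Z ⟶ X) [IsPreimmersion ι]
    [LocallyOfFiniteType ι] (f : X ⟶ S) [LocallyOfFiniteType f] (z : Z)
    (hmax : ∀ x' : X, f.base x' = f.base (ι.base z) → x' ⤳ ι.base z → x' = ι.base z) :
    FlatMor.fibreDimAt (ι ≫ f) z = FlatMor.fibreDimAt f (ι.base z) := by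
  rw [fibreDimAt_eq_ptTrdeg_of_maximal f _ hmax,
    fibreDimAt_eq_ptTrdeg_of_maximal (ι ≫ f) z (by
      intro y hy hyz
      have h1 : ι.base y ⤳ ι.base z := hyz.map ι.continuous
      have h2 : f.base (ι.base y) = f.base (ι.base z) := hy
      exact ι.isEmbedding.injective (hmax _ h2 h1)),
    Groth.Agent.Lib.Helper4.DimFormula.ptTrdeg_comp_of_isPreimmersion ι f z]

/-- **Equidimensionality of an irreducible closed subscheme**: let `ι : Z ⟶ X` be a closed
immersion, `tξ` a generic point of `Z`, `f : X ⟶ S` locally of finite type with `closure {f (ι tξ)}`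
an irreducible component of `S`. If the fibre dimension of `f` at `ι w` is at most the fibre
dimension `e` of `ι ≫ f` at `tξ`, then `ι ≫ f` is equidimensional at `w`. -/
theorem isEquidimAt_comp_of_generic {X S Z : Scheme.{u}} (ι : Z ⟶ X) [IsClosedImmersion ι]
    (f : X ⟶ S) [LocallyOfFiniteType f] (tξ w : Z) (hgen : ∀ w' : Z, tξ ⤳ w')
    (hS : closure {f.base (ι.base tξ)} ∈ irreducibleComponents (S : Type u)) (e : ℕ)
    (hξe : FlatMor.fibreDimAt (ι ≫ f) tξ = (e : WithBot ℕ∞))
    (hx : FlatMor.fibreDimAt f (ι.base w) ≤ (e : WithBot ℕ∞)) : IsEquidimAt (ι ≫ f) w := by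
  apply isEquidimAt_of_generic (ι ≫ f) tξ w hgen hS e hξe
  have hrange : Set.range ι.base = closure {ι.base tξ} := by
    apply le_antisymm
    · rintro _ ⟨w', rfl⟩
      exact ((hgen w').map ι.continuous).mem_closure
    · exact closure_minimal (by rw [Set.singleton_subset_iff]; exact ⟨tξ, rfl⟩)
        ι.isClosedEmbedding.isClosed_range
  have hsp : ι.base tξ ⤳ ι.base w := (hgen w).map ι.continuous
  have hL := Groth.Agent.Lib.Helper6.Uni.localDim_range_inter_fibre f ι _ hrange w hsp.mem_closure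
  rw [← hL]
  exact (localDim_closure_inter_fibre_bounds f _ _ hsp).2 e hx

open Scheme.IdealSheafData in
theorem range_subschemeι_vanishingIdeal {X : Scheme.{u}} (W : TopologicalSpace.Closeds X) :
    Set.range (vanishingIdeal W).subschemeι.base = (W : Set X) := by
  rw [range_subschemeι, coe_support_vanishingIdeal]

open Scheme.IdealSheafData in
/-- if `f` is equidimensional at `x`, then `x` lies on an irreducible component `W` of `X` whose
reduced subscheme is equidimensional over `S` at `x` (any component through `x` works). -/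
theorem exists_component_of_isEquidimAt {X S : Scheme.{u}} (f : X ⟶ S) [LocallyOfFiniteType f]
    (x : X) (h : EGA43.IsEquidimAt f x) :
    ∃ W : TopologicalSpace.Closeds X, (W : Set X) ∈ irreducibleComponents (X : Type u) ∧
      ∃ w : ↥((vanishingIdeal W).subscheme),
        (vanishingIdeal W).subschemeι.base w = x ∧
        EGA43.IsEquidimAt ((vanishingIdeal W).subschemeι ≫ f) w := by
  obtain ⟨ξ₀, hξ₀c, hξ₀x⟩ := exists_generic_specializes x
  have hξ₀max : ∀ z : X, z ⤳ ξ₀ → z = ξ₀ := fun z hz => eq_of_specializes_generic ξ₀ z hξ₀c hz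
  obtain ⟨e, hfe, hmax⟩ := Groth.Agent.Lib.Helper6.Fbc.forall_maximal_of_isEquidimAt f x h
  obtain ⟨hξe, hfξ⟩ := hmax ξ₀ hξ₀max hξ₀x
  let W : TopologicalSpace.Closeds X := ⟨closure {ξ₀}, isClosed_closure⟩
  have hrange : Set.range (vanishingIdeal W).subschemeι.base = closure {ξ₀} :=
    range_subschemeι_vanishingIdeal W
  have hxr : x ∈ Set.range (vanishingIdeal W).subschemeι.base := by
    rw [hrange]; exact hξ₀x.mem_closure
  obtain ⟨w, hw⟩ := hxr
  have hξr : ξ₀ ∈ Set.range (vanishingIdeal W).subschemeι.base := by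
    rw [hrange]; exact subset_closure rfl
  obtain ⟨tξ, htξ⟩ := hξr
  have hgen : ∀ w' : ↥((vanishingIdeal W).subscheme), tξ ⤳ w' := by
    intro w'
    apply (vanishingIdeal W).subschemeι.isEmbedding.isInducing.specializes_iff.mp
    rw [htξ]
    apply specializes_iff_mem_closure.mpr
    rw [← hrange]
    exact ⟨w', rfl⟩
  refine ⟨W, hξ₀c, w, hw, isEquidimAt_comp_of_generic _ f tξ w hgen ?_ e ?_ ?_⟩
  · rw [htξ]
    exact mem_irreducibleComponents_of_forall_specializes _ hfξ
  · rw [fibreDimAt_comp_eq_of_maximal _ f tξ (by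
      rw [htξ]
      intro x' _ hx'
      exact hξ₀max x' hx'), htξ]
    exact hξe
  · rw [hw, hfe]

open Scheme.IdealSheafData in
/-- if every point maximal in its fibre lies on an irreducible component equidimensional over `S`
at that point, so does every point. -/
theorem exists_component_of_forall_maximal {X S : Scheme.{u}} (f : X ⟶ S) [LocallyOfFiniteType f]
    (h : ∀ x : X, (∀ x' : X, f.base x' = f.base x → x ∈ closure ({x'} : Set X) → x' = x) →
      ∃ W : TopologicalSpace.Closeds X, (W : Set X) ∈ irreducibleComponents (X : Type u) ∧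
      ∃ w : ↥((vanishingIdeal W).subscheme),
        (vanishingIdeal W).subschemeι.base w = x ∧
        EGA43.IsEquidimAt ((vanishingIdeal W).subschemeι ≫ f) w)
    (x : X) :
    ∃ W : TopologicalSpace.Closeds X, (W : Set X) ∈ irreducibleComponents (X : Type u) ∧
      ∃ w : ↥((vanishingIdeal W).subscheme),
        (vanishingIdeal W).subschemeι.base w = x ∧
        EGA43.IsEquidimAt ((vanishingIdeal W).subschemeι ≫ f) w := by
  obtain ⟨c, hfc, hcx, hcmax, hfd⟩ :=
    Groth.Agent.Lib.Helper6.Uni.exists_maximal_ptTrdeg_eq_fibreDimAt f x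
  obtain ⟨W, hW, wc, hwc, hEq⟩ := h c
    (fun x' hx' hcl => hcmax x' hx' (specializes_iff_mem_closure.mpr hcl))
  have hrange : Set.range (vanishingIdeal W).subschemeι.base = (W : Set X) :=
    range_subschemeι_vanishingIdeal W
  obtain ⟨ξ₀, hξ₀⟩ := QuasiSober.sober hW.1 W.isClosed
  have hξ₀W : closure {ξ₀} = (W : Set X) := hξ₀.def
  have hξr : ξ₀ ∈ Set.range (vanishingIdeal W).subschemeι.base := by
    rw [hrange, ← hξ₀W]; exact subset_closure rfl
  obtain ⟨tξ, htξ⟩ := hξr
  have hgen : ∀ w' : ↥((vanishingIdeal W).subscheme), tξ ⤳ w' := by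
    intro w'
    apply (vanishingIdeal W).subschemeι.isEmbedding.isInducing.specializes_iff.mp
    rw [htξ]
    apply specializes_iff_mem_closure.mpr
    rw [hξ₀W, ← hrange]
    exact ⟨w', rfl⟩
  have hcW : c ∈ (W : Set X) := by rw [← hrange]; exact ⟨wc, hwc⟩
  have hxW : x ∈ (W : Set X) := hcx.mem_closed W.isClosed hcW
  have hxr : x ∈ Set.range (vanishingIdeal W).subschemeι.base := by rw [hrange]; exact hxW
  obtain ⟨w, hw⟩ := hxr
  have htξmax : ∀ ζ : ↥((vanishingIdeal W).subscheme), ζ ⤳ tξ → ζ = tξ :=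
    fun ζ hζ => (hζ.antisymm (hgen ζ)).eq
  obtain ⟨e', hge', hmax'⟩ := Groth.Agent.Lib.Helper6.Fbc.forall_maximal_of_isEquidimAt
    ((vanishingIdeal W).subschemeι ≫ f) wc hEq
  obtain ⟨hξe', hgξ⟩ := hmax' tξ htξmax (hgen wc)
  have h1 : FlatMor.fibreDimAt ((vanishingIdeal W).subschemeι ≫ f) wc = FlatMor.fibreDimAt f c := by
    rw [fibreDimAt_comp_eq_of_maximal _ f wc (by
      rw [hwc]
      exact fun x' hx' hsp => hcmax x' hx' hsp), hwc]
  have h2 : FlatMor.fibreDimAt f c = (ptTrdeg f c : WithBot ℕ∞) :=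
    fibreDimAt_eq_ptTrdeg_of_maximal f c hcmax
  refine ⟨W, hW, w, hw, isEquidimAt_comp_of_generic _ f tξ w hgen ?_ e' hξe' ?_⟩
  · exact mem_irreducibleComponents_of_forall_specializes _ hgξ
  · rw [hw, hfd, ← h2, ← h1, hge']

end Groth.Agent.Lib.Helper6.EqComp
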