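import Mathlib
import Groth.Prelude.Def_EGA43
import Groth.Agent.Lib.Helper6EqComp
import Groth.Agent.Lib.Helper6UnivOpenGen
import Groth.Agent.Lib.Helper26UnivOpenAt

/-! # Universally open morphisms: every point lies on an irreducible component equidimensional
over the base (no Noetherian hypotheses) -/

set_option autoImplicit false
set_option linter.style.haveILetI false
universe u
open IsLocalRing CategoryTheory CategoryTheory.Limits AlgebraicGeometry

namespace Groth.Agent.Lib.Helper6.EqComp

open EGA43 Groth.Agent.Lib.Helper4.DimFormula Groth.Agent.Lib.Helper4.VarDim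
open Groth.Agent.Lib.Helper4.FibDim Groth.Agent.Lib.Helper6.UnivOpenGen

open Scheme.IdealSheafData in
/-- if `f` is locally of finite type and universally open at the maximal points of the fibre
through `x`, then `x` lies on an irreducible component of `X` whose reduced subscheme is
equidimensional over the base at `x`. -/
theorem exists_component_of_isUnivOpenAt {X S : Scheme.{u}} (f : X ⟶ S) [LocallyOfFiniteType f]
    (x : X) (hf : ∀ x₁ : X, f.base x₁ = f.base x → x₁ ⤳ x → IsUnivOpenAt f x₁) :
    ∃ W : TopologicalSpace.Closeds X, (W : Set X) ∈ irreducibleComponents (X : Type u) ∧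
      ∃ w : ↥((vanishingIdeal W).subscheme),
        (vanishingIdeal W).subschemeι.base w = x ∧
        EGA43.IsEquidimAt ((vanishingIdeal W).subschemeι ≫ f) w := by
  obtain ⟨x₁, hfx₁, hx₁x, hx₁max, hfd⟩ :=
    Groth.Agent.Lib.Helper6.Uni.exists_maximal_ptTrdeg_eq_fibreDimAt f x
  obtain ⟨η, hηy, hηmax⟩ :=
    Groth.Agent.Lib.Helper4.DimFormula.exists_maximal_specializes S (f.base x₁)
  have hf₁ : IsUnivOpenAt f x₁ := hf x₁ hfx₁ hx₁x
  obtain ⟨ξ, hξx₁, hξmax, hfξ, hfd₁, -⟩ := exists_maximal_of_le_dim' f x₁ η hηmax hηy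
    (fun U hU => fibreDimAt_le_dim_inter_fibre_of_isUnivOpenAt f x₁ hx₁max hf₁ U hU η hηy)
  have hx₁e : FlatMor.fibreDimAt f x₁ = (ptTrdeg f x₁ : WithBot ℕ∞) :=
    fibreDimAt_eq_ptTrdeg_of_maximal f x₁ hx₁max
  have hξx : ξ ⤳ x := hξx₁.trans hx₁x
  let W : TopologicalSpace.Closeds X := ⟨closure {ξ}, isClosed_closure⟩
  have hrange : Set.range (vanishingIdeal W).subschemeι.base = closure {ξ} :=
    range_subschemeι_vanishingIdeal W
  have hxr : x ∈ Set.range (vanishingIdeal W).subschemeι.base := by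
    rw [hrange]; exact hξx.mem_closure
  obtain ⟨w, hw⟩ := hxr
  have hξr : ξ ∈ Set.range (vanishingIdeal W).subschemeι.base := by
    rw [hrange]; exact subset_closure rfl
  obtain ⟨tξ, htξ⟩ := hξr
  have hgen : ∀ w' : ↥((vanishingIdeal W).subscheme), tξ ⤳ w' := by
    intro w'
    apply (vanishingIdeal W).subschemeι.isEmbedding.isInducing.specializes_iff.mp
    rw [htξ]
    apply specializes_iff_mem_closure.mpr
    rw [← hrange]
    exact ⟨w', rfl⟩
  refine ⟨W, mem_irreducibleComponents_of_forall_specializes ξ hξmax, w, hw,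
    isEquidimAt_comp_of_generic _ f tξ w hgen ?_ (ptTrdeg f ξ) ?_ ?_⟩
  · rw [htξ, hfξ]
    exact mem_irreducibleComponents_of_forall_specializes η hηmax
  · rw [fibreDimAt_comp_eq_of_maximal _ f tξ (by
      rw [htξ]
      intro x' _ hx'
      exact hξmax x' hx'), htξ]
    exact fibreDimAt_eq_ptTrdeg_of_maximal f ξ (fun y _ hy => hξmax y hy)
  · rw [hw, hfd, ← hx₁e, hfd₁]

end Groth.Agent.Lib.Helper6.EqComp
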