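import Mathlib
import Groth.Prelude.Def_Curv2
import Groth.Agent.Lib.Helper6EquiDim2
import Groth.Agent.Lib.Helper6EquiDim3

set_option autoImplicit false
universe u
open CategoryTheory CategoryTheory.Limits AlgebraicGeometry TensorProduct

namespace Groth.Agent.Lib.Helper6.EquiDim

open Groth.Agent.Lib.Helper6.BcBridge

section IntegralDim

/-- the dimension of an integral scheme locally of finite type over a field is the dimension of
any nonempty affine chart -/
theorem topologicalKrullDim_eq_ringKrullDim_chart (k : Type u) [Field k] (X : Scheme.{u})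
    [X.Over (Spec (CommRingCat.of k))] [LocallyOfFiniteType (X ↘ Spec (CommRingCat.of k))]
    [IsIntegral X] {A : Type u} [CommRing A] [IsDomain A]
    (ι : Spec (CommRingCat.of A) ⟶ X) [IsOpenImmersion ι] :
    topologicalKrullDim X = ringKrullDim A := by
  let b : PrimeSpectrum A := ⟨⊥, Ideal.isPrime_bot⟩
  have h1 := topologicalKrullDim_closure_chart k X ι b
  have h2 : ringKrullDim (A ⧸ b.asIdeal) = ringKrullDim A :=
    ringKrullDim_eq_of_ringEquiv (RingEquiv.quotientBot A)
  have h3 : ι b = genericPoint X := by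
    have := genericPoint_eq_of_isOpenImmersion ι
    rw [genericPoint_eq_bot_of_affine (CommRingCat.of A)] at this
    exact this
  have h4 : closure ({ι b} : Set X) = Set.univ := by
    rw [h3]
    exact (genericPoint_spec X).def
  rw [h4] at h1
  rw [← h2, ← h1]
  exact (IsHomeomorph.topologicalKrullDim_eq _ (Homeomorph.Set.univ X).isHomeomorph).symm

end IntegralDim

section ProdScheme

variable {k : Type u} [Field k] {X Y : Scheme.{u}} (f : X ⟶ Spec (CommRingCat.of k))
  (g : Y ⟶ Spec (CommRingCat.of k)) [IsIntegral X] [IsIntegral Y]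
  [LocallyOfFiniteType f] [LocallyOfFiniteType g]

theorem topologicalKrullDim_component_prod (Z : Set ↥(pullback f g))
    (hZ : Z ∈ irreducibleComponents ↥(pullback f g)) :
    topologicalKrullDim Z = topologicalKrullDim X + topologicalKrullDim Y := by
  letI : X.Over (Spec (CommRingCat.of k)) := ⟨f⟩
  letI : Y.Over (Spec (CommRingCat.of k)) := ⟨g⟩
  haveI : LocallyOfFiniteType (X ↘ Spec (CommRingCat.of k)) := ‹LocallyOfFiniteType f›
  haveI : LocallyOfFiniteType (Y ↘ Spec (CommRingCat.of k)) := ‹LocallyOfFiniteType g›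
  letI : (pullback f g).Over (Spec (CommRingCat.of k)) := ⟨pullback.fst f g ≫ f⟩
  haveI : LocallyOfFiniteType ((pullback f g) ↘ Spec (CommRingCat.of k)) := by
    change LocallyOfFiniteType (pullback.fst f g ≫ f)
    infer_instance
  obtain ⟨ξ, hξ⟩ := QuasiSober.sober hZ.1 (isClosed_of_mem_irreducibleComponents _ hZ)
  obtain ⟨A, _, _, ι, _, hι, z, hz⟩ := exists_chart k X (pullback.fst f g ξ)
  obtain ⟨B, _, _, ι', _, hι', z', hz'⟩ := exists_chart k Y (pullback.snd f g ξ)
  haveI := finiteType_chart k X ι hι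
  haveI := finiteType_chart k Y ι' hι'
  haveI : Nonempty ↥(Spec (CommRingCat.of A)) := ⟨z⟩
  haveI : Nonempty ↥(Spec (CommRingCat.of B)) := ⟨z'⟩
  haveI : IsDomain A :=
    (affine_isIntegral_iff (CommRingCat.of A)).mp (isIntegral_of_isOpenImmersion ι)
  haveI : IsDomain B :=
    (affine_isIntegral_iff (CommRingCat.of B)).mp (isIntegral_of_isOpenImmersion ι')
  have hι₀ : ι ≫ f = Spec.map (CommRingCat.ofHom (algebraMap k A)) := hι
  have hι'₀ : ι' ≫ g = Spec.map (CommRingCat.ofHom (algebraMap k B)) := hι'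
  let j : Spec (CommRingCat.of (A ⊗[k] B)) ⟶ pullback f g :=
    (pullbackSpecIso k A B).inv ≫
      pullback.map (Spec.map (CommRingCat.ofHom (algebraMap k A)))
        (Spec.map (CommRingCat.ofHom (algebraMap k B))) f g ι ι' (𝟙 _)
        (by rw [Category.comp_id, hι₀]) (by rw [Category.comp_id, hι'₀])
  haveI : IsOpenImmersion j := by
    dsimp only [j]
    infer_instance
  have hrange : ξ ∈ Set.range j := by
    dsimp only [j]
    rw [Scheme.Hom.comp_base, TopCat.coe_comp, Set.range_comp, Set.range_eq_univ.mpr,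
      Set.image_univ, Scheme.Pullback.range_map]
    · exact ⟨⟨z, hz⟩, ⟨z', hz'⟩⟩
    · exact (pullbackSpecIso k A B).inv.surjective
  obtain ⟨Q, hQ⟩ := hrange
  have hmin : Q.asIdeal ∈ minimalPrimes (A ⊗[k] B) := by
    refine ⟨⟨Q.2, bot_le⟩, ?_⟩
    rintro Q' ⟨hQ'p, -⟩ hle
    let Q'' : PrimeSpectrum (A ⊗[k] B) := ⟨Q', hQ'p⟩
    have hspec : Q'' ⤳ Q := (PrimeSpectrum.le_iff_specializes Q'' Q).mp hle
    have hspec' : j Q'' ⤳ ξ := by
      rw [← hQ]
      exact hspec.map j.continuous
    have hcl : Z ≤ closure {j Q''} := by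
      rw [← hξ.def]
      exact closure_minimal (Set.singleton_subset_iff.mpr (specializes_iff_mem_closure.mp hspec'))
        isClosed_closure
    have heq : closure {j Q''} = Z :=
      le_antisymm (hZ.2 isIrreducible_singleton.closure hcl) hcl
    have h1 : j Q'' = ξ := (isGenericPoint_def.mpr heq : IsGenericPoint (j Q'') Z).eq hξ
    rw [← hQ] at h1
    have h2 : Q'' = Q := j.isOpenEmbedding.injective h1
    exact le_of_eq (congrArg PrimeSpectrum.asIdeal h2).symm
  have e1 := topologicalKrullDim_closure_chart k (pullback f g) j Q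
  rw [hQ, hξ.def] at e1
  rw [e1, ringKrullDim_quotient_minimalPrime_tensor k A B Q.asIdeal hmin,
    topologicalKrullDim_eq_ringKrullDim_chart k X ι, topologicalKrullDim_eq_ringKrullDim_chart k Y ι']

end ProdScheme

end Groth.Agent.Lib.Helper6.EquiDim
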