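import Mathlib
import Groth.Agent.Lib.Helper6EquiSubF
import Groth.Agent.Lib.Helper26HenselIdem
import Groth.Agent.Lib.Helper26HenselFinPart

set_option autoImplicit false
set_option linter.style.haveILetI false

universe u

open AlgebraicGeometry CategoryTheory TopologicalSpace Topology

namespace Groth.Agent.Lib.Helper6.EquiSub

section Alg

/-- A domain finite over a henselian local ring is local. -/
theorem isLocalRing_of_finite_domain_over_henselian (A : Type u) [CommRing A] [IsLocalRing A]
    [HenselianRing A (IsLocalRing.maximalIdeal A)]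
    (E : Type u) [CommRing E] [IsDomain E] [Algebra A E] [Module.Finite A E] : IsLocalRing E := by
  haveI : Algebra.IsIntegral A E := Algebra.IsIntegral.of_finite A E
  set I := IsLocalRing.maximalIdeal A with hI
  set J := I.map (algebraMap A E) with hJ
  -- idempotents of `E ⧸ J` are trivial
  have hidem : ∀ ē : E ⧸ J, IsIdempotentElem ē → ē = 0 ∨ ē = 1 := by
    intro ē h
    obtain ⟨e, he, rfl⟩ := Groth.Agent.Lib.Helper26.HenselIdem.idem_surjOn A I E h
    rcases IsIdempotentElem.iff_eq_zero_or_one.mp he with h0 | h1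
    · left; rw [h0, map_zero]
    · right; rw [h1, map_one]
  -- `E ⧸ J` is Artinian
  haveI : Module.Finite (A ⧸ I) (E ⧸ J) := Module.Finite.of_restrictScalars_finite A (A ⧸ I) (E ⧸ J)
  haveI hImax : I.IsMaximal := IsLocalRing.maximalIdeal.isMaximal A
  letI : Field (A ⧸ I) := Ideal.Quotient.field I
  haveI : IsArtinianRing (E ⧸ J) := IsArtinianRing.of_finite (A ⧸ I) (E ⧸ J)
  -- the prime spectrum of `E ⧸ J` is a subsingleton
  have hsub : ∀ p q : PrimeSpectrum (E ⧸ J), q = p := by
    intro p q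
    have hcl : IsClopen ({p} : Set (PrimeSpectrum (E ⧸ J))) := isClopen_discrete _
    obtain ⟨e, he, hpe⟩ := PrimeSpectrum.isClopen_iff.mp hcl
    rcases hidem e he with h0 | h1
    · exfalso
      rw [h0] at hpe
      have : p ∈ (PrimeSpectrum.basicOpen (0 : E ⧸ J) : Set (PrimeSpectrum (E ⧸ J))) := by
        rw [← hpe]; exact Set.mem_singleton p
      simp at this
    · rw [h1] at hpe
      have : q ∈ (PrimeSpectrum.basicOpen (1 : E ⧸ J) : Set (PrimeSpectrum (E ⧸ J))) := by simp
      rw [← hpe] at this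
      exact this
  -- maximal ideals of `E` contain `J`
  have hJle : ∀ n : Ideal E, n.IsMaximal → J ≤ n := by
    intro n hn
    have h1 : (n.comap (algebraMap A E)).IsMaximal :=
      Ideal.isMaximal_comap_of_isIntegral_of_isMaximal n
    have h2 : n.comap (algebraMap A E) = I := IsLocalRing.eq_maximalIdeal h1
    rw [hJ, Ideal.map_le_iff_le_comap, h2]
  obtain ⟨n₀, hn₀⟩ := Ideal.exists_maximal E
  refine IsLocalRing.of_unique_max_ideal ⟨n₀, hn₀, ?_⟩
  intro n hn
  have hker : RingHom.ker (Ideal.Quotient.mk J) = J := Ideal.mk_ker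
  have hp : ∀ n' : Ideal E, n'.IsMaximal → (n'.map (Ideal.Quotient.mk J)).IsPrime := fun n' hn' =>
    Ideal.map_isPrime_of_surjective Ideal.Quotient.mk_surjective (by rw [hker]; exact hJle n' hn')
  have h3 := hsub ⟨_, hp n₀ hn₀⟩ ⟨_, hp n hn⟩
  have h4 : n.map (Ideal.Quotient.mk J) = n₀.map (Ideal.Quotient.mk J) :=
    congrArg PrimeSpectrum.asIdeal h3
  have h5 : ∀ n' : Ideal E, n'.IsMaximal →
      (n'.map (Ideal.Quotient.mk J)).comap (Ideal.Quotient.mk J) = n' := fun n' hn' => by
    rw [Ideal.comap_map_of_surjective _ Ideal.Quotient.mk_surjective, ← RingHom.ker_eq_comap_bot,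
      hker, sup_eq_left]
    exact hJle n' hn'
  rw [← h5 n hn, h4, h5 n₀ hn₀]

/-- A quasi-finite domain of finite type over a henselian local ring, with a prime over the maximal
ideal, is finite. -/
theorem finite_of_quasiFinite_domain_over_henselian (A : Type u) [CommRing A] [IsLocalRing A]
    [HenselianRing A (IsLocalRing.maximalIdeal A)]
    (E : Type u) [CommRing E] [IsDomain E] [Algebra A E] [Algebra.FiniteType A E]
    [Algebra.QuasiFinite A E] (p : Ideal E) [p.IsPrime]
    (hp : p.comap (algebraMap A E) = IsLocalRing.maximalIdeal A) : Module.Finite A E := by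
  set I := IsLocalRing.maximalIdeal A with hI
  set J := I.map (algebraMap A E) with hJ
  haveI hImax : I.IsMaximal := IsLocalRing.maximalIdeal.isMaximal A
  letI : Field (A ⧸ I) := Ideal.Quotient.field I
  let q₁ : (E ⧸ J) ≃ₐ[A ⧸ I] TensorProduct A (A ⧸ I) E :=
    Algebra.TensorProduct.quotIdealMapEquivQuotTensor E I
  haveI : Algebra.QuasiFinite (A ⧸ I) (E ⧸ J) := (Algebra.QuasiFinite.iff_of_algEquiv q₁).mpr
    inferInstance
  haveI : Module.Finite (A ⧸ I) (E ⧸ J) := Module.Finite.of_quasiFinite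
  haveI : Module.Finite A (E ⧸ J) := Module.Finite.trans (A ⧸ I) _
  obtain ⟨e, he, heJ, hfin⟩ :=
    Groth.Agent.Lib.Helper26.HenselFinPart.exists_idem_finite_part (E := E) I
  have hJp : J ≤ p := by rw [hJ, Ideal.map_le_iff_le_comap, hp]
  rcases IsIdempotentElem.iff_eq_zero_or_one.mp he with h0 | h1
  · exfalso
    rw [h0, sub_zero] at heJ
    exact (Ideal.IsPrime.ne_top inferInstance) ((Ideal.eq_top_iff_one p).mpr (hJp heJ))
  · have hbot : Ideal.span ({1 - e} : Set E) = ⊥ := by
      rw [h1, sub_self, Ideal.span_singleton_eq_bot]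
    exact Module.Finite.equiv
      ((Ideal.quotientEquivAlgOfEq A hbot).trans (AlgEquiv.quotientBot A E)).toLinearEquiv

end Alg

section Sch

open Groth.Agent.Lib.Helper6.OpenDim

set_option maxHeartbeats 1600000 in
/-- EGA IV 14.5.10: over a complete Noetherian local domain, a quasi-section through `x` can be
taken of the form `Spec A'` with `A'` a finite local domain over `A`. -/
theorem exists_finite_local_quasiSection {A : Type u} [CommRing A] [IsDomain A]
    [IsNoetherianRing A] [IsLocalRing A] [IsAdicComplete (IsLocalRing.maximalIdeal A) A]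
    {X : Scheme.{u}} (f : X ⟶ Spec (CommRingCat.of A)) [LocallyOfFiniteType f] (x : X)
    (hx : f.base x = IsLocalRing.closedPoint A)
    (hf : EGA43.IsEquidimAt f x) (hcl : ∀ x' : X, f.base x' = f.base x → x ⤳ x' → x' = x) :
    ∃ (A' : Type u) (_ : CommRing A') (_ : IsDomain A') (_ : IsLocalRing A') (_ : Algebra A A')
      (_ : Module.Finite A A'),
      Function.Injective (algebraMap A A') ∧
      ∃ h : Spec (CommRingCat.of A') ⟶ X,
        h ≫ f = Spec.map (CommRingCat.ofHom (algebraMap A A')) ∧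
        IsImmersion h ∧ x ∈ Set.range h.base := by
  haveI : IrreducibleSpace ↥(Spec (CommRingCat.of A)) :=
    inferInstanceAs (IrreducibleSpace (PrimeSpectrum A))
  haveI : IsLocallyNoetherian (Spec (CommRingCat.of A)) := inferInstance
  obtain ⟨T, i, hi1, hi2, hi3, ⟨t, ht⟩, hi5, hi6, hi7, hi8⟩ := exists_quasiSection f x hf hcl
  haveI := hi1; haveI := hi2; haveI := hi3; haveI := hi5; haveI := hi6; haveI := hi7
  haveI := hi8
  haveI : IsIntegral T := isIntegral_of_irreducibleSpace_of_isReduced _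
  obtain ⟨T₀, hT₀, htT₀, -⟩ := exists_isAffineOpen_mem_and_subset (U := ⊤) (x := t) trivial
  haveI : Nonempty ↥T₀ := ⟨⟨t, htT₀⟩⟩
  haveI hdomE : IsDomain Γ(T, T₀) := @IsIntegral.component_integral _ _ T₀ ⟨⟨t, htT₀⟩⟩
  set j := hT₀.fromSpec with hj
  set ψ : Spec Γ(T, T₀) ⟶ Spec (CommRingCat.of A) := j ≫ (i ≫ f) with hψ
  set φ : CommRingCat.of A ⟶ Γ(T, T₀) := Spec.preimage ψ with hφ
  have hφψ : Spec.map φ = ψ := Spec.map_preimage ψ
  letI : Algebra A Γ(T, T₀) := φ.hom.toAlgebra
  have halg : CommRingCat.ofHom (algebraMap A Γ(T, T₀)) = φ := rfl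
  -- finite type and quasi-finite
  have hft : LocallyOfFiniteType (Spec.map φ) := by rw [hφψ]; infer_instance
  have hqf : LocallyQuasiFinite (Spec.map φ) := by rw [hφψ]; infer_instance
  haveI : Algebra.FiniteType A Γ(T, T₀) := by
    rw [HasRingHomProperty.Spec_iff (P := @LocallyOfFiniteType)] at hft
    exact (RingHom.finiteType_algebraMap (A := A) (B := Γ(T, T₀))).mp hft
  haveI : Algebra.QuasiFinite A Γ(T, T₀) := by
    rw [HasRingHomProperty.Spec_iff (P := @LocallyQuasiFinite)] at hqf
    exact (RingHom.quasiFinite_algebraMap (R := A) (S := Γ(T, T₀))).mp hqf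
  -- dominance ⇒ injectivity
  have hdom : IsDominant (Spec.map φ) := by
    rw [hφψ, hψ]
    haveI : IsDominant j := by
      refine ⟨?_⟩
      rw [DenseRange, hj, hT₀.range_fromSpec]
      exact T₀.2.dense ⟨t, htT₀⟩
    infer_instance
  have hinj : Function.Injective (algebraMap A Γ(T, T₀)) := by
    have h1 : DenseRange (PrimeSpectrum.comap φ.hom) := hdom.denseRange
    rw [PrimeSpectrum.denseRange_comap_iff_ker_le_nilRadical, nilradical_eq_zero] at h1
    exact (RingHom.injective_iff_ker_eq_bot _).mpr (le_bot_iff.mp h1)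
  -- the point over `x`
  have htr : t ∈ Set.range j.base := by rw [hj, hT₀.range_fromSpec]; exact htT₀
  obtain ⟨t₀, ht₀⟩ := htr
  have hψt₀ : ψ.base t₀ = IsLocalRing.closedPoint A := by
    rw [hψ, Scheme.Hom.comp_apply, ht₀, Scheme.Hom.comp_apply, ht, hx]
  have hcomap : t₀.asIdeal.comap (algebraMap A Γ(T, T₀)) = IsLocalRing.maximalIdeal A := by
    have h2 : (Spec.map φ).base t₀ = IsLocalRing.closedPoint A := by rw [hφψ]; exact hψt₀
    exact congrArg PrimeSpectrum.asIdeal h2
  haveI : HenselianRing A (IsLocalRing.maximalIdeal A) := inferInstance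
  haveI hfin : Module.Finite A Γ(T, T₀) :=
    finite_of_quasiFinite_domain_over_henselian A Γ(T, T₀) t₀.asIdeal hcomap
  haveI hloc : IsLocalRing Γ(T, T₀) := isLocalRing_of_finite_domain_over_henselian A Γ(T, T₀)
  refine ⟨Γ(T, T₀), inferInstance, inferInstance, hloc, inferInstance, hfin, hinj, j ≫ i, ?_,
    inferInstance, ⟨t₀, ?_⟩⟩
  · rw [halg, hφψ, hψ, Category.assoc]
  · rw [Scheme.Hom.comp_apply, ht₀, ht]

end Sch

end Groth.Agent.Lib.Helper6.EquiSub
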