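import Groth.Prelude
import Mathlib

open IsLocalRing

namespace Groth.Agent.Lib.Helper6

universe u

theorem exists_surjective_localization_mvPolynomial {A B : Type u} [CommRing A]
    [CommRing B] [IsLocalRing B] [Algebra A B] [Algebra.EssFiniteType A B] :
    ∃ (n : ℕ) (q : Ideal (MvPolynomial (Fin n) A)) (_ : q.IsPrime)
      (φ : Localization.AtPrime q →ₐ[A] B), Function.Surjective φ := by
  classical
  obtain ⟨σ, hσ⟩ := (Algebra.essFiniteType_iff (R := A) (S := B)).mp inferInstance
  let n := σ.card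
  let e : Fin n ≃ σ := σ.equivFin.symm
  let v : Fin n → B := fun i => (e i : B)
  let ev : MvPolynomial (Fin n) A →ₐ[A] B := MvPolynomial.aeval v
  have hrange : ∀ b : B, b ∈ Algebra.adjoin A (σ : Set B) → ∃ P, ev P = b := by
    intro b hb
    have h1 : (σ : Set B) = Set.range v := by
      ext x
      constructor
      · intro hx
        exact ⟨e.symm ⟨x, hx⟩, by simp [v]⟩
      · rintro ⟨i, rfl⟩
        exact (e i).2
    rw [h1, Algebra.adjoin_range_eq_range_aeval] at hb
    exact hb
  let q : Ideal (MvPolynomial (Fin n) A) := (maximalIdeal B).comap ev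
  have hq : q.IsPrime := Ideal.comap_isPrime ev (maximalIdeal B)
  have hunit : ∀ y : q.primeCompl, IsUnit (ev y) := by
    intro y
    have : ev y ∉ maximalIdeal B := y.2
    rwa [mem_maximalIdeal, mem_nonunits_iff, not_not] at this
  let φ : Localization.AtPrime q →ₐ[A] B :=
    IsLocalization.liftAlgHom (M := q.primeCompl) (f := ev) hunit
  refine ⟨n, q, hq, φ, ?_⟩
  intro s
  obtain ⟨t, ht, htu, hst⟩ := hσ s
  obtain ⟨Q, hQ⟩ := hrange t ht
  obtain ⟨P, hP⟩ := hrange (s * t) hst
  have hQq : Q ∈ q.primeCompl := by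
    change ev Q ∉ maximalIdeal B
    rw [hQ, mem_maximalIdeal, mem_nonunits_iff, not_not]
    exact htu
  refine ⟨IsLocalization.mk' (Localization.AtPrime q) P ⟨Q, hQq⟩, ?_⟩
  change IsLocalization.lift hunit (IsLocalization.mk' (Localization.AtPrime q) P ⟨Q, hQq⟩) = s
  rw [IsLocalization.lift_mk'_spec]
  change ev P = ev Q * s
  rw [hP, hQ, mul_comm]

end Groth.Agent.Lib.Helper6
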