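import Mathlib

set_option autoImplicit false
universe u

namespace Groth.Agent.Lib.Helper6.EtCoord

open CategoryTheory AlgebraicGeometry Limits MvPolynomial

local notation3 "ℤ[" n "]" => CommRingCat.of (MvPolynomial n (ULift ℤ))

variable (n : Type u) (S : Scheme.{u})

set_option backward.isDefEq.respectTransparency.types false in
/-- affine space over any base is smooth -/
instance smooth_affineSpace [Finite n] : Smooth (𝔸(n; S) ↘ S) :=
  MorphismProperty.pullback_fst _ _ <| by
  have := isIso_of_isTerminal specULiftZIsTerminal.{u} terminalIsTerminal (terminal.from _)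
  rw [← terminal.comp_from (Spec.map (CommRingCat.ofHom C)),
    MorphismProperty.cancel_right_of_respectsIso (P := @Smooth),
    HasRingHomProperty.Spec_iff (P := @Smooth)]
  have : Algebra.Smooth (ULift.{u} ℤ) (MvPolynomial n (ULift.{u} ℤ)) := ⟨inferInstance, inferInstance⟩
  exact RingHom.smooth_algebraMap.mpr this


/-- (⇐): an étale chart to affine space forces smoothness -/
theorem mem_smoothLocus_of_chart {X Y : Scheme.{u}} (f : X ⟶ Y) [LocallyOfFinitePresentation f]
    (U : Y.Opens) (V : X.Opens) (hVU : V ≤ f ⁻¹ᵁ U) (m : ℕ) (v : ULift.{u} (Fin m) → Γ(V, ⊤))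
    (h : Etale (AffineSpace.homOfVector (f.resLE U V hVU) v)) (x : X) (hx : x ∈ V) :
    x ∈ f.smoothLocus := by
  have h1 : Smooth (f.resLE U V hVU) := by
    rw [← AffineSpace.homOfVector_over (f.resLE U V hVU) v]
    infer_instance
  have h2 : Smooth (V.ι ≫ f) := by
    rw [← Scheme.Hom.resLE_comp_ι f hVU]
    infer_instance
  have h3 : (V.ι ≫ f).smoothLocus = ⊤ := Scheme.Hom.smoothLocus_eq_top _
  rw [← Scheme.Hom.preimage_smoothLocus_eq] at h3
  have h4 : (⟨x, hx⟩ : V) ∈ V.ι ⁻¹ᵁ f.smoothLocus := by rw [h3]; trivial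
  exact h4


variable {n S}

/-- the coordinate ring map of affine space over an affine base is bijective -/
theorem bijective_eval₂Hom_coord [IsAffine S] :
    Function.Bijective (eval₂Hom ((𝔸(n; S) ↘ S).appTop).hom (AffineSpace.coord (n := n) S)) := by
  have h := AffineSpace.isoOfIsAffine_hom_appTop (n := n) (S := S)
  have h2 : IsIso (CommRingCat.ofHom
      (eval₂Hom ((𝔸(n; S) ↘ S).appTop).hom (AffineSpace.coord (n := n) S))) := by
    have : CommRingCat.ofHom
      (eval₂Hom ((𝔸(n; S) ↘ S).appTop).hom (AffineSpace.coord (n := n) S)) =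
        (Scheme.ΓSpecIso _).inv ≫ (AffineSpace.isoOfIsAffine n S).hom.appTop := by
      rw [h, Iso.inv_hom_id_assoc]
    rw [this]
    haveI : IsIso (AffineSpace.isoOfIsAffine n S).hom.appTop :=
      show IsIso ((AffineSpace.isoOfIsAffine n S).hom.app ⊤) from inferInstance
    infer_instance
  exact (ConcreteCategory.isIso_iff_bijective _).mp h2

/-- affine criterion: `homOfVector h v` is étale when the induced polynomial ring map is étale -/
theorem etale_homOfVector_of_isAffine {X : Scheme.{u}} [IsAffine X] [IsAffine S] (h : X ⟶ S)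
    (v : n → Γ(X, ⊤)) (H : (eval₂Hom h.appTop.hom v).Etale) :
    Etale (AffineSpace.homOfVector h v) := by
  rw [HasRingHomProperty.iff_of_isAffine (P := @Etale)]
  set E := eval₂Hom ((𝔸(n; S) ↘ S).appTop).hom (AffineSpace.coord (n := n) S) with hE
  have hbij : Function.Bijective E := bijective_eval₂Hom_coord
  let e : MvPolynomial n Γ(S, ⊤) ≃+* Γ(𝔸(n; S), ⊤) := RingEquiv.ofBijective E hbij
  have hcomp : (AffineSpace.homOfVector h v).appTop.hom.comp E = eval₂Hom h.appTop.hom v := by
    apply MvPolynomial.ringHom_ext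
    · intro r
      simp only [RingHom.comp_apply, hE, coe_eval₂Hom, eval₂_C]
      rw [← CommRingCat.comp_apply, ← Scheme.Hom.comp_appTop, AffineSpace.homOfVector_over]
    · intro j
      simp only [RingHom.comp_apply, hE, coe_eval₂Hom, eval₂_X]
      exact AffineSpace.homOfVector_appTop_coord _ _ _
  have : (AffineSpace.homOfVector h v).appTop.hom =
      (eval₂Hom h.appTop.hom v).comp (e.symm : Γ(𝔸(n; S), ⊤) →+* MvPolynomial n Γ(S, ⊤)) := by
    rw [← hcomp]
    ext z
    simp only [RingHom.comp_apply]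
    congr 1
    exact (e.apply_symm_apply z).symm
  rw [this]
  exact RingHom.Etale.stableUnderComposition _ _ (RingHom.Etale.of_bijective e.symm.bijective) H


/-- translation of affine space by a vector of sections of the base -/
noncomputable def transl (c : n → Γ(S, ⊤)) : 𝔸(n; S) ⟶ 𝔸(n; S) :=
  AffineSpace.homOfVector (𝔸(n; S) ↘ S)
    (fun j => AffineSpace.coord S j + (𝔸(n; S) ↘ S).appTop (c j))

@[reassoc (attr := simp)]
theorem transl_over (c : n → Γ(S, ⊤)) : transl c ≫ 𝔸(n; S) ↘ S = 𝔸(n; S) ↘ S :=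
  AffineSpace.homOfVector_over _ _

@[simp]
theorem transl_appTop_coord (c : n → Γ(S, ⊤)) (j : n) :
    (transl c).appTop (AffineSpace.coord S j) =
      AffineSpace.coord S j + (𝔸(n; S) ↘ S).appTop (c j) :=
  AffineSpace.homOfVector_appTop_coord _ _ _

theorem homOfVector_comp_transl {X : Scheme.{u}} (h : X ⟶ S) (v : n → Γ(X, ⊤))
    (c : n → Γ(S, ⊤)) :
    AffineSpace.homOfVector h v ≫ transl c =
      AffineSpace.homOfVector h (fun j => v j + h.appTop (c j)) := by
  apply AffineSpace.hom_ext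
  · simp
  · intro j
    rw [Scheme.Hom.comp_appTop, CommRingCat.comp_apply, transl_appTop_coord, map_add,
      AffineSpace.homOfVector_appTop_coord, AffineSpace.homOfVector_appTop_coord,
      ← CommRingCat.comp_apply, ← Scheme.Hom.comp_appTop, AffineSpace.homOfVector_over]

theorem transl_comp_transl (c d : n → Γ(S, ⊤)) : transl c ≫ transl d = transl (c + d) := by
  rw [transl, homOfVector_comp_transl, transl]
  congr 1
  ext j
  simp only [Pi.add_apply, map_add]
  ring

theorem transl_zero : transl (0 : n → Γ(S, ⊤)) = 𝟙 _ := by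
  apply AffineSpace.hom_ext
  · simp
  · intro j
    simp

instance isIso_transl (c : n → Γ(S, ⊤)) : IsIso (transl c) :=
  ⟨transl (-c), by rw [transl_comp_transl, add_neg_cancel, transl_zero],
    by rw [transl_comp_transl, neg_add_cancel, transl_zero]⟩


/-- the map on affine spaces induced by an open immersion is an open immersion -/
instance isOpenImmersion_map {S T : Scheme.{u}} (b : S ⟶ T) [IsOpenImmersion b] :
    IsOpenImmersion (AffineSpace.map n b) :=
  MorphismProperty.of_isPullback (P := @IsOpenImmersion) (AffineSpace.isPullback_map (n := n) b).flip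
    inferInstance

/-- transport of a local étale chart (on open subschemes given by open immersions) to a chart in
the normal form of the statement, with the section sent to the zero section -/
theorem exists_chart_of_local_chart {X Y : Scheme.{u}} (f : X ⟶ Y) (i : Y ⟶ X)
    (hi : i ≫ f = 𝟙 Y) (y : Y)
    {V' U' : Scheme.{u}} (a : V' ⟶ X) (b : U' ⟶ Y) [IsOpenImmersion a] [IsOpenImmersion b]
    (f' : V' ⟶ U') (hcomm : f' ≫ b = a ≫ f) (hy : y ∈ b.opensRange)
    (hx : i.base y ∈ a.opensRange)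
    (m : ℕ) (w : ULift.{u} (Fin m) → Γ(V', ⊤)) (hw : Etale (AffineSpace.homOfVector f' w)) :
    ∃ (U : Y.Opens) (V : X.Opens) (_ : y ∈ U) (hUV : U ≤ i ⁻¹ᵁ V) (hVU : V ≤ f ⁻¹ᵁ U) (m : ℕ)
        (v : ULift.{u} (Fin m) → Γ(V, ⊤)),
        Etale (AffineSpace.homOfVector (f.resLE U V hVU) v) ∧
          ∀ j, (i.resLE V U hUV).appTop (v j) = 0 := by
  set U : Y.Opens := b.opensRange ⊓ i ⁻¹ᵁ a.opensRange with hU
  set V : X.Opens := a.opensRange ⊓ f ⁻¹ᵁ U with hV
  have hyU : y ∈ U := ⟨hy, hx⟩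
  have hfi : ∀ u : Y, f.base (i.base u) = u := fun u => by
    rw [← Scheme.Hom.comp_apply, hi]; rfl
  have hUV : U ≤ i ⁻¹ᵁ V := by
    intro u hu
    refine ⟨hu.2, ?_⟩
    show f.base (i.base u) ∈ U
    rw [hfi]; exact hu
  have hVU : V ≤ f ⁻¹ᵁ U := inf_le_right
  -- lifts
  have hVa : Set.range V.ι.base ⊆ Set.range a.base := by
    rw [Scheme.Opens.range_ι]
    exact fun z hz => hz.1
  have hUb : Set.range U.ι.base ⊆ Set.range b.base := by
    rw [Scheme.Opens.range_ι]
    exact fun z hz => hz.1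
  set a' : V.toScheme ⟶ V' := IsOpenImmersion.lift a V.ι hVa with ha'
  set b' : U.toScheme ⟶ U' := IsOpenImmersion.lift b U.ι hUb with hb'
  have ha'fac : a' ≫ a = V.ι := IsOpenImmersion.lift_fac _ _ _
  have hb'fac : b' ≫ b = U.ι := IsOpenImmersion.lift_fac _ _ _
  haveI : IsOpenImmersion (a' ≫ a) := by rw [ha'fac]; infer_instance
  haveI : IsOpenImmersion (b' ≫ b) := by rw [hb'fac]; infer_instance
  haveI : IsOpenImmersion a' := IsOpenImmersion.of_comp a' a
  haveI : IsOpenImmersion b' := IsOpenImmersion.of_comp b' b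
  have hsq : f.resLE U V hVU ≫ b' = a' ≫ f' := by
    rw [← cancel_mono b, Category.assoc, Category.assoc, hb'fac, hcomm, ← Category.assoc a',
      ha'fac, Scheme.Hom.resLE_comp_ι]
  -- restricted coordinates
  set w' : ULift.{u} (Fin m) → Γ(V, ⊤) := fun j => a'.appTop (w j) with hw'
  have hπ : AffineSpace.homOfVector (f.resLE U V hVU) w' ≫ AffineSpace.map _ b' =
      a' ≫ AffineSpace.homOfVector f' w := by
    apply AffineSpace.hom_ext
    · simp [hsq]
    · intro j
      rw [Scheme.Hom.comp_appTop, Scheme.Hom.comp_appTop, CommRingCat.comp_apply,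
        CommRingCat.comp_apply, AffineSpace.map_appTop_coord,
        AffineSpace.homOfVector_appTop_coord, AffineSpace.homOfVector_appTop_coord]
  have hπet : Etale (AffineSpace.homOfVector (f.resLE U V hVU) w') := by
    have h1 : Etale (AffineSpace.homOfVector (f.resLE U V hVU) w' ≫
        AffineSpace.map _ b') := by
      rw [hπ]; infer_instance
    exact MorphismProperty.of_postcomp (W := @Etale) (W' := @Etale) _ (AffineSpace.map _ b')
      inferInstance h1
  -- translate
  have hsec : i.resLE V U hUV ≫ f.resLE U V hVU = 𝟙 _ := by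
    rw [← cancel_mono U.ι, Category.assoc, Scheme.Hom.resLE_comp_ι,
      Scheme.Hom.resLE_comp_ι_assoc, hi, Category.comp_id, Category.id_comp]
  set c : ULift.{u} (Fin m) → Γ(U, ⊤) := fun j => - (i.resLE V U hUV).appTop (w' j) with hc
  refine ⟨U, V, hyU, hUV, hVU, m, fun j => w' j + (f.resLE U V hVU).appTop (c j), ?_, ?_⟩
  · rw [← homOfVector_comp_transl]
    infer_instance
  · intro j
    have key : ∀ s : Γ(U, ⊤), (i.resLE V U hUV).appTop ((f.resLE U V hVU).appTop s) = s := by
      intro s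
      rw [← CommRingCat.comp_apply, ← Scheme.Hom.comp_appTop, hsec]
      simp
    rw [map_add, key]
    simp [hc]


/-- the restriction of a morphism to its smooth locus is smooth -/
theorem smooth_smoothLocus_ι_comp {X Y : Scheme.{u}} (f : X ⟶ Y)
    [LocallyOfFinitePresentation f] : Smooth (f.smoothLocus.ι ≫ f) := by
  rw [← Scheme.Hom.smoothLocus_eq_top_iff, ← Scheme.Hom.preimage_smoothLocus_eq]
  ext x
  simp only [Scheme.Hom.mem_preimage, Scheme.Opens.ι_apply, TopologicalSpace.Opens.coe_top,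
    Set.mem_univ, iff_true, SetLike.mem_coe]
  exact x.2

/-- local étale coordinates at a point of the smooth locus -/
theorem exists_local_chart {X Y : Scheme.{u}} (f : X ⟶ Y) [LocallyOfFinitePresentation f]
    (x : X) (hx : x ∈ f.smoothLocus) :
    ∃ (V' U' : Scheme.{u}) (a : V' ⟶ X) (b : U' ⟶ Y) (_ : IsOpenImmersion a)
      (_ : IsOpenImmersion b) (f' : V' ⟶ U') (_ : f' ≫ b = a ≫ f) (_ : x ∈ a.opensRange)
      (m : ℕ) (w : ULift.{u} (Fin m) → Γ(V', ⊤)), Etale (AffineSpace.homOfVector f' w) := by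
  set W := f.smoothLocus with hW
  set g := W.ι ≫ f with hg
  haveI : Smooth g := smooth_smoothLocus_ι_comp f
  obtain ⟨U₀, hU₀, V₀, hV₀, hxV₀, e, hstd⟩ := Smooth.exists_isStandardSmooth g ⟨x, hx⟩
  obtain ⟨m, φ, hφC, hφ⟩ := hstd.exists_etale_mvPolynomial
  haveI : IsAffine V₀.toScheme := hV₀
  haveI : IsAffine U₀.toScheme := hU₀
  refine ⟨V₀.toScheme, U₀.toScheme, V₀.ι ≫ W.ι, U₀.ι, inferInstance, inferInstance,
    g.resLE U₀ V₀ e, ?_, ?_, m, fun j => V₀.topIso.inv (φ (MvPolynomial.X j.down)), ?_⟩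
  · rw [Scheme.Hom.resLE_comp_ι, hg, Category.assoc]
  · refine ⟨⟨⟨x, hx⟩, hxV₀⟩, rfl⟩
  · apply etale_homOfVector_of_isAffine
    let θ₁ : MvPolynomial (ULift.{u} (Fin m)) Γ(U₀.toScheme, ⊤) ≃ₐ[Γ(U₀.toScheme, ⊤)]
        MvPolynomial (Fin m) Γ(U₀.toScheme, ⊤) := renameEquiv Γ(U₀.toScheme, ⊤) Equiv.ulift
    let θ₂ : MvPolynomial (Fin m) Γ(U₀.toScheme, ⊤) ≃+* MvPolynomial (Fin m) Γ(Y, U₀) :=
      mapEquiv (Fin m) U₀.topIso.commRingCatIsoToRingEquiv
    let θ : MvPolynomial (ULift.{u} (Fin m)) Γ(U₀.toScheme, ⊤) ≃+* MvPolynomial (Fin m) Γ(Y, U₀) :=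
      θ₁.toRingEquiv.trans θ₂
    let ρ : Γ(W, V₀) ≃+* Γ(V₀.toScheme, ⊤) := V₀.topIso.symm.commRingCatIsoToRingEquiv
    have hψ : eval₂Hom (g.resLE U₀ V₀ e).appTop.hom
          (fun j => V₀.topIso.inv (φ (MvPolynomial.X j.down))) =
        (ρ : Γ(W, V₀) →+* Γ(V₀.toScheme, ⊤)).comp (φ.comp
          (θ : MvPolynomial (ULift.{u} (Fin m)) Γ(U₀.toScheme, ⊤) →+* _)) := by
      apply MvPolynomial.ringHom_ext
      · intro r
        have h1 : φ (C (U₀.topIso.hom r)) = (g.appLE U₀ V₀ e) (U₀.topIso.hom r) :=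
          DFunLike.congr_fun hφC (U₀.topIso.hom r)
        have h2 : θ (C r) = C (U₀.topIso.hom r) := by
          simp [θ, θ₁, θ₂]
        simp only [coe_eval₂Hom, eval₂_C, RingHom.comp_apply, RingHom.coe_coe]
        rw [h2, h1]
        show (g.resLE U₀ V₀ e).app ⊤ r = _
        rw [Scheme.Hom.resLE_app_top]
        rfl
      · intro j
        have h2 : θ (MvPolynomial.X j) = MvPolynomial.X j.down := by
          simp [θ, θ₁, θ₂]
        simp only [coe_eval₂Hom, eval₂_X, RingHom.comp_apply, RingHom.coe_coe]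
        rw [h2]
        rfl
    rw [hψ]
    refine RingHom.Etale.stableUnderComposition _ _ ?_ (RingHom.Etale.of_bijective ρ.bijective)
    exact RingHom.Etale.stableUnderComposition _ _ (RingHom.Etale.of_bijective θ.bijective) hφ


/-- **Étale coordinates at a section.** -/
theorem main {X Y : Scheme.{u}} (f : X ⟶ Y) [LocallyOfFinitePresentation f] (i : Y ⟶ X)
    (hi : i ≫ f = 𝟙 Y) (y : Y) :
    i.base y ∈ f.smoothLocus ↔
      ∃ (U : Y.Opens) (V : X.Opens) (_ : y ∈ U) (hUV : U ≤ i ⁻¹ᵁ V) (hVU : V ≤ f ⁻¹ᵁ U) (m : ℕ)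
        (v : ULift.{u} (Fin m) → Γ(V, ⊤)),
        Etale (AffineSpace.homOfVector (f.resLE U V hVU) v) ∧
          ∀ j, (i.resLE V U hUV).appTop (v j) = 0 := by
  constructor
  · intro hx
    obtain ⟨V', U', a, b, ha, hb, f', hcomm, hxa, m, w, hw⟩ :=
      exists_local_chart f (i.base y) hx
    refine exists_chart_of_local_chart f i hi y a b f' hcomm ?_ hxa m w hw
    obtain ⟨z, hz⟩ := hxa
    refine ⟨f'.base z, ?_⟩
    rw [← Scheme.Hom.comp_apply, hcomm, Scheme.Hom.comp_apply, hz, ← Scheme.Hom.comp_apply, hi]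
    rfl
  · rintro ⟨U, V, hyU, hUV, hVU, m, v, hv, -⟩
    exact mem_smoothLocus_of_chart f U V hVU m v hv _ (hUV hyU)

end Groth.Agent.Lib.Helper6.EtCoord
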