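import Mathlib

set_option autoImplicit false
universe u
open CategoryTheory CategoryTheory.Limits AlgebraicGeometry

namespace Groth.Agent.Lib.Helper6.GenEtale

variable {X Y : Scheme.{u}}

set_option backward.isDefEq.respectTransparency.types false in
/-- ring-level étaleness at a point from formal étaleness of the stalk map -/
theorem isEtaleAt_of_stalkMap {f : X ⟶ Y} {x : X} (U : Y.Opens)
    (hU : IsAffineOpen U) (V : X.Opens) (hV : IsAffineOpen V) (hVU : V ≤ f ⁻¹ᵁ U)
    (hx : x ∈ V) (H1 : (f.stalkMap x).hom.FormallySmooth)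
    (H2 : (f.stalkMap x).hom.FormallyUnramified) :
    letI := (f.appLE U V hVU).hom.toAlgebra
    Algebra.IsEtaleAt Γ(Y, U) (hV.primeIdealOf ⟨x, hx⟩).asIdeal := by
  let := (f.appLE U V hVU).hom.toAlgebra
  let p := (hU.primeIdealOf ⟨f x, hVU hx⟩).asIdeal
  let q := (hV.primeIdealOf ⟨x, hx⟩).asIdeal
  have : q.LiesOver p :=
    ⟨congr($(IsAffineOpen.comap_primeIdealOf_appLE U hU V hV hVU hx).1).symm⟩
  let := Localization.AtPrime.algebraOfLiesOver p q
  have hsm : Algebra.FormallySmooth Γ(Y, U) (Localization.AtPrime q) :=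
    (formallySmooth_stalkMap_iff U hU V hV hVU hx).mp H1
  have hun' : Algebra.FormallyUnramified (Localization.AtPrime p) (Localization.AtPrime q) := by
    rw [← RingHom.formallyUnramified_algebraMap]
    exact (RingHom.FormallyUnramified.respectsIso.arrow_mk_iso_iff
      (IsAffineOpen.arrowStalkMapIso f U hU V hV hVU hx)).mp H2
  have hun : Algebra.FormallyUnramified Γ(Y, U) (Localization.AtPrime q) :=
    Algebra.FormallyUnramified.comp Γ(Y, U) (Localization.AtPrime p) (Localization.AtPrime q)
  exact Algebra.FormallyEtale.of_formallyUnramified_and_formallySmooth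

set_option backward.defeqAttrib.useBackward true in
set_option backward.isDefEq.respectTransparency false in
/-- a morphism locally of finite presentation whose stalk map at `x` is formally étale is étale on an
affine open neighbourhood of `x` (ring-level form) -/
theorem exists_etale_appLE_of_stalkMap (f : X ⟶ Y) [LocallyOfFinitePresentation f] (x : X)
    (H1 : (f.stalkMap x).hom.FormallySmooth) (H2 : (f.stalkMap x).hom.FormallyUnramified) :
    ∃ (U : Y.Opens) (_ : IsAffineOpen U) (V : X.Opens) (_ : IsAffineOpen V) (hVU : V ≤ f ⁻¹ᵁ U),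
      x ∈ V ∧ (f.appLE U V hVU).hom.Etale := by
  obtain ⟨_, ⟨U, hU, rfl⟩, hxU, -⟩ :=
    Y.isBasis_affineOpens.exists_subset_of_mem_open (Set.mem_univ (f x)) isOpen_univ
  obtain ⟨_, ⟨V, hV, rfl⟩, hxV, hVU⟩ :=
    X.isBasis_affineOpens.exists_subset_of_mem_open hxU (U.2.preimage f.continuous)
  have := f.finitePresentation_appLE hU hV hVU
  algebraize [(f.appLE U V hVU).hom]
  have : Algebra.IsEtaleAt Γ(Y, U) (hV.primeIdealOf ⟨x, hxV⟩).asIdeal :=
    isEtaleAt_of_stalkMap U hU V hV hVU hxV H1 H2
  obtain ⟨r, hrx, hr⟩ := Algebra.exists_etale_of_isEtaleAt (R := Γ(Y, U))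
    (hV.primeIdealOf ⟨x, hxV⟩).asIdeal
  refine ⟨_, hU, _, hV.basicOpen r, (X.basicOpen_le r).trans hVU, ?_, ?_⟩
  · rwa [← PrimeSpectrum.mem_basicOpen, IsAffineOpen.primeIdealOf,
      ← hV.fromSpec_preimage_basicOpen, Scheme.Hom.mem_preimage, ← Scheme.Hom.comp_apply,
      IsAffineOpen.isoSpec_hom, IsAffineOpen.toSpecΓ_fromSpec] at hrx
  · have := hV.isLocalization_basicOpen r
    rw [← RingHom.etale_algebraMap] at hr
    convert!
      RingHom.Etale.respectsIso.1 _
        (IsLocalization.algEquiv (.powers r) _ Γ(X, X.basicOpen r)).toRingEquiv hr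
    ext
    dsimp
    simp only [IsScalarTower.algebraMap_apply Γ(Y, U) Γ(X, V) (Localization _),
      IsLocalization.map_eq]
    simp only [RingHom.algebraMap_toAlgebra, RingHomCompTriple.comp_apply, ← ConcreteCategory.comp_apply,
      Scheme.Hom.appLE_map]

/-- a morphism locally of finite presentation whose stalk map at `x` is formally étale is étale on
an open neighbourhood of `x` -/
theorem exists_etale_of_stalkMap (f : X ⟶ Y) [LocallyOfFinitePresentation f] (x : X)
    (H1 : (f.stalkMap x).hom.FormallySmooth) (H2 : (f.stalkMap x).hom.FormallyUnramified) :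
    ∃ V : X.Opens, x ∈ V ∧ Etale (V.ι ≫ f) := by
  obtain ⟨U, hU, V, hV, hVU, hxV, H⟩ := exists_etale_appLE_of_stalkMap f x H1 H2
  refine ⟨V, hxV, ?_⟩
  rw [← Scheme.Hom.resLE_comp_ι f hVU]
  have : IsAffine _ := hU
  have : IsAffine _ := hV
  haveI : Etale (f.resLE U V hVU) := by
    rw [HasRingHomProperty.iff_of_isAffine (P := @Etale)]
    exact (RingHom.Etale.respectsIso.arrow_mk_iso_iff (arrowResLEAppIso f U V hVU)).mpr H
  infer_instance

section FunctionField

variable [IsIntegral X] [IsIntegral Y] (f : X ⟶ Y) (e : f (genericPoint X) = genericPoint Y)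

/-- the map of function fields induced by a dominant morphism of integral schemes -/
noncomputable def ffMap : Y.functionField →+* X.functionField :=
  (Y.presheaf.stalkSpecializes (specializes_of_eq e) ≫ f.stalkMap (genericPoint X)).hom

omit [IsIntegral Y] in
theorem isIso_stalkSpecializes_of_eq {y y' : Y} (h : y = y') :
    IsIso (Y.presheaf.stalkSpecializes (specializes_of_eq h)) := by
  change IsIso (Y.presheaf.stalkCongr (.of_eq h.symm)).hom
  infer_instance

theorem ffMap_essFiniteType [LocallyOfFiniteType f] : (ffMap f e).EssFiniteType := by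
  unfold ffMap
  haveI := isIso_stalkSpecializes_of_eq e
  rw [CommRingCat.hom_comp, RingHom.EssFiniteType.respectsIso.cancel_left_isIso]
  exact LocallyOfFiniteType.stalkMap f (genericPoint X)

theorem ffMap_formallyUnramified_iff :
    (ffMap f e).FormallyUnramified ↔ (f.stalkMap (genericPoint X)).hom.FormallyUnramified := by
  unfold ffMap
  haveI := isIso_stalkSpecializes_of_eq e
  rw [CommRingCat.hom_comp, RingHom.FormallyUnramified.respectsIso.cancel_left_isIso]

theorem ffMap_formallySmooth_iff :
    (ffMap f e).FormallySmooth ↔ (f.stalkMap (genericPoint X)).hom.FormallySmooth := by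
  unfold ffMap
  haveI := isIso_stalkSpecializes_of_eq e
  rw [CommRingCat.hom_comp, RingHom.FormallySmooth.respectsIso.cancel_left_isIso]

theorem genericPoint_mem_of_nonempty (U : X.Opens) (hU : (U : Set X).Nonempty) :
    genericPoint X ∈ U := by
  obtain ⟨u, hu⟩ := hU
  exact (genericPoint_specializes u).mem_open U.2 hu

/-- generically unramified ⇒ the function field extension is separable -/
theorem isSeparable_of_formallyUnramified [LocallyOfFiniteType f]
    (h : ∃ U : X.Opens, (U : Set X).Nonempty ∧ FormallyUnramified (U.ι ≫ f)) :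
    letI := (ffMap f e).toAlgebra
    Algebra.IsSeparable Y.functionField X.functionField := by
  letI := (ffMap f e).toAlgebra
  obtain ⟨U, hU, hUf⟩ := h
  have hξ := genericPoint_mem_of_nonempty U hU
  let ξ' : U.toScheme := ⟨genericPoint X, hξ⟩
  have h1 : ((U.ι ≫ f).stalkMap ξ').hom.FormallyUnramified :=
    FormallyUnramified.stalkMap (U.ι ≫ f) ξ'
  have h2' : (f.stalkMap (U.ι ξ')).hom.FormallyUnramified := by
    refine (RingHom.FormallyUnramified.respectsIso.cancel_right_isIso _
      (U.ι.stalkMap ξ')).mp ?_
    rw [← CommRingCat.hom_comp, ← Scheme.Hom.stalkMap_comp]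
    exact h1
  have h2 : (f.stalkMap (genericPoint X)).hom.FormallyUnramified := h2'
  have h3 : Algebra.FormallyUnramified Y.functionField X.functionField :=
    (ffMap_formallyUnramified_iff f e).mpr h2
  have h4 : Algebra.EssFiniteType Y.functionField X.functionField := ffMap_essFiniteType f e
  exact Algebra.FormallyUnramified.isSeparable Y.functionField X.functionField

/-- separable function field extension ⇒ generically étale -/
theorem exists_etale_of_isSeparable [LocallyOfFinitePresentation f]
    (h : letI := (ffMap f e).toAlgebra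
      Algebra.IsSeparable Y.functionField X.functionField) :
    ∃ U : X.Opens, (U : Set X).Nonempty ∧ Etale (U.ι ≫ f) := by
  letI := (ffMap f e).toAlgebra
  haveI := h
  have h1 : Algebra.FormallyEtale Y.functionField X.functionField :=
    Algebra.FormallyEtale.of_isSeparable Y.functionField X.functionField
  have h2 : (ffMap f e).FormallySmooth := by
    change Algebra.FormallySmooth Y.functionField X.functionField
    infer_instance
  have h3 : (ffMap f e).FormallyUnramified := by
    change Algebra.FormallyUnramified Y.functionField X.functionField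
    infer_instance
  obtain ⟨V, hV, hVf⟩ := exists_etale_of_stalkMap f (genericPoint X)
    ((ffMap_formallySmooth_iff f e).mp h2) ((ffMap_formallyUnramified_iff f e).mp h3)
  exact ⟨V, ⟨_, hV⟩, hVf⟩

end FunctionField

/-- **Generically étale ⟺ generically unramified ⟺ separable function field extension.** -/
theorem generically_etale_tfae (k : Type u) [Field k]
    (X Y : Scheme.{u}) [X.Over (Spec (CommRingCat.of k))] [Y.Over (Spec (CommRingCat.of k))]
    [IsIntegral X] [LocallyOfFiniteType (X ↘ (Spec (CommRingCat.of k)))]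
    [IsIntegral Y] [LocallyOfFiniteType (Y ↘ (Spec (CommRingCat.of k)))]
    (f : X ⟶ Y) (hf : f ≫ (Y ↘ (Spec (CommRingCat.of k))) = X ↘ (Spec (CommRingCat.of k)))
    (e : f (genericPoint X) = genericPoint Y) :
    letI := ((Y.presheaf.stalkSpecializes (specializes_of_eq e) ≫
      f.stalkMap (genericPoint X)).hom).toAlgebra
    ((∃ U : X.Opens, (U : Set X).Nonempty ∧ FormallyUnramified (U.ι ≫ f)) ↔
      (∃ U : X.Opens, (U : Set X).Nonempty ∧ Etale (U.ι ≫ f))) ∧
    ((∃ U : X.Opens, (U : Set X).Nonempty ∧ Etale (U.ι ≫ f)) ↔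
      Algebra.IsSeparable Y.functionField X.functionField) := by
  haveI : LocallyOfFiniteType f := by
    haveI : LocallyOfFiniteType (f ≫ (Y ↘ (Spec (CommRingCat.of k)))) := by
      rw [hf]; infer_instance
    exact locallyOfFiniteType_of_comp f (Y ↘ (Spec (CommRingCat.of k)))
  haveI : IsLocallyNoetherian Y :=
    LocallyOfFiniteType.isLocallyNoetherian (Y ↘ (Spec (CommRingCat.of k)))
  haveI : LocallyOfFinitePresentation f :=
    LocallyOfFinitePresentation.iff_locallyOfFiniteType.mpr inferInstance
  have h12 : (∃ U : X.Opens, (U : Set X).Nonempty ∧ Etale (U.ι ≫ f)) →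
      (∃ U : X.Opens, (U : Set X).Nonempty ∧ FormallyUnramified (U.ι ≫ f)) := by
    rintro ⟨U, hU, hUf⟩
    exact ⟨U, hU, inferInstance⟩
  refine ⟨⟨fun h => exists_etale_of_isSeparable f e (isSeparable_of_formallyUnramified f e h),
    h12⟩, ⟨fun h => isSeparable_of_formallyUnramified f e (h12 h),
    fun h => exists_etale_of_isSeparable f e h⟩⟩

end Groth.Agent.Lib.Helper6.GenEtale
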