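import Mathlib
import Groth.Agent.Lib.Helper6GenEtale
import Groth.Agent.Lib.Helper6BirOpen
import Groth.Agent.Lib.Helper10CurveFlat
import Groth.Agent.Lib.Helper10WeilPt

set_option autoImplicit false
universe u
open CategoryTheory CategoryTheory.Limits AlgebraicGeometry IsLocalRing

namespace Groth.Agent.Lib.Helper6.EtCrit

variable {X Y : Scheme.{u}}

/-- the stalk map of an unramified morphism of finite type sends the maximal ideal onto a
generating set of the maximal ideal -/
theorem map_maximalIdeal_of_formallyUnramified (φ : X ⟶ Y) [LocallyOfFiniteType φ] (x : X)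
    (H : (φ.stalkMap x).hom.FormallyUnramified) :
    Ideal.map (φ.stalkMap x).hom (maximalIdeal (Y.presheaf.stalk (φ.base x))) =
      maximalIdeal (X.presheaf.stalk x) := by
  algebraize [(φ.stalkMap x).hom]
  have : IsLocalHom (algebraMap (Y.presheaf.stalk (φ x)) (X.presheaf.stalk x)) :=
    inferInstanceAs <| IsLocalHom (φ.stalkMap x).hom
  have : Algebra.EssFiniteType (Y.presheaf.stalk (φ x)) (X.presheaf.stalk x) := by
    rw [← RingHom.essFiniteType_algebraMap, RingHom.algebraMap_toAlgebra]
    exact LocallyOfFiniteType.stalkMap φ x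
  have : Algebra.FormallyUnramified (Y.presheaf.stalk (φ x)) (X.presheaf.stalk x) := by
    rw [← RingHom.formallyUnramified_algebraMap, RingHom.algebraMap_toAlgebra]
    exact H
  exact Algebra.FormallyUnramified.map_maximalIdeal

/-- formal unramifiedness of the stalk map only depends on an open neighbourhood -/
theorem formallyUnramified_stalkMap_of_opens (φ : X ⟶ Y) (U : X.Opens) (x : X) (hx : x ∈ U)
    [FormallyUnramified (U.ι ≫ φ)] : (φ.stalkMap x).hom.FormallyUnramified := by
  let x' : U.toScheme := ⟨x, hx⟩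
  have h1 := FormallyUnramified.stalkMap (U.ι ≫ φ) x'
  have h2 : (U.ι ≫ φ).stalkMap x' = φ.stalkMap (U.ι x') ≫ U.ι.stalkMap x' :=
    Scheme.Hom.stalkMap_comp _ _ _
  have h3 : ((φ.stalkMap (U.ι x')).hom).FormallyUnramified := by
    refine (RingHom.FormallyUnramified.respectsIso.cancel_right_isIso
      (φ.stalkMap (U.ι x')) (U.ι.stalkMap x')).mp ?_
    have h4 : (CommRingCat.Hom.hom (φ.stalkMap (U.ι x') ≫ U.ι.stalkMap x')).FormallyUnramified :=
      h2 ▸ h1
    exact h4
  exact h3


open Groth.Agent.Lib.Helper10.GaloisOrbit in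
/-- over an algebraically closed field, at a closed point, the maximal ideal condition implies
formal unramifiedness of the stalk map -/
theorem formallyUnramified_stalkMap_of_map_maximalIdeal (k : Type u) [Field k] [IsAlgClosed k]
    (pX : X ⟶ Spec (CommRingCat.of k)) (pY : Y ⟶ Spec (CommRingCat.of k)) (φ : X ⟶ Y)
    (w : φ ≫ pY = pX) [LocallyOfFiniteType pX] (x : X) (hx : IsClosed ({x} : Set X))
    (H : Ideal.map (φ.stalkMap x).hom (maximalIdeal (Y.presheaf.stalk (φ.base x))) =
      maximalIdeal (X.presheaf.stalk x)) :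
    (φ.stalkMap x).hom.FormallyUnramified := by
  haveI : LocallyOfFiniteType (φ ≫ pY) := by rw [w]; infer_instance
  haveI : LocallyOfFiniteType φ := locallyOfFiniteType_of_comp φ pY
  have hfac : resHom k pX x = resHom k pY (φ x) ≫ φ.residueFieldMap x := by
    apply Spec.map_injective
    rw [map_resHom, Spec.map_comp, map_resHom, ← Category.assoc,
      Scheme.Hom.SpecMap_residueFieldMap_fromSpecResidueField, Category.assoc, w]
  have hbij := Groth.Agent.Lib.Helper10.WeilPt.bijective_resHom pX x hx
  algebraize [(φ.stalkMap x).hom]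
  have : IsLocalHom (algebraMap (Y.presheaf.stalk (φ x)) (X.presheaf.stalk x)) :=
    inferInstanceAs <| IsLocalHom (φ.stalkMap x).hom
  have : Algebra.EssFiniteType (Y.presheaf.stalk (φ x)) (X.presheaf.stalk x) := by
    rw [← RingHom.essFiniteType_algebraMap, RingHom.algebraMap_toAlgebra]
    exact LocallyOfFiniteType.stalkMap φ x
  have hsurj : Function.Surjective (algebraMap (ResidueField (Y.presheaf.stalk (φ x)))
      (ResidueField (X.presheaf.stalk x))) := by
    intro b
    obtain ⟨a, ha⟩ := hbij.2 b
    obtain ⟨c', hc'⟩ := IsLocalRing.residue_surjective ((resHom k pY (φ x)).hom a)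
    refine ⟨(resHom k pY (φ x)).hom a, ?_⟩
    have e1 : (resHom k pX x).hom a =
        (φ.residueFieldMap x).hom ((resHom k pY (φ x)).hom a) := by rw [hfac]; rfl
    rw [← ha, e1, ← hc']
    rfl
  have : Algebra.IsSeparable (ResidueField (Y.presheaf.stalk (φ x)))
      (ResidueField (X.presheaf.stalk x)) :=
    ⟨fun b => by obtain ⟨a, rfl⟩ := hsurj b; exact isSeparable_algebraMap a⟩
  have H' : (maximalIdeal (Y.presheaf.stalk (φ x))).map
      (algebraMap (Y.presheaf.stalk (φ x)) (X.presheaf.stalk x)) =
      maximalIdeal (X.presheaf.stalk x) := H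
  have := Algebra.FormallyUnramified.of_map_maximalIdeal H'
  rw [← RingHom.formallyUnramified_algebraMap, RingHom.algebraMap_toAlgebra] at this
  exact this


/-- at a closed point of an integral scheme of dimension one the local ring is not a field -/
theorem maximalIdeal_stalk_ne_bot [IsIntegral X] (hdX : topologicalKrullDim X = 1) (x : X)
    (hx : IsClosed ({x} : Set X)) : maximalIdeal (X.presheaf.stalk x) ≠ ⊥ := by
  intro h
  have hF : IsField (X.presheaf.stalk x) := IsLocalRing.isField_iff_maximalIdeal_eq.mpr h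
  letI := hF.toField
  have h1 : genericPoint X ∈ Set.range (X.fromSpecStalk x) := by
    rw [Scheme.range_fromSpecStalk]; exact genericPoint_specializes x
  have h2 : x ∈ Set.range (X.fromSpecStalk x) := by
    rw [Scheme.range_fromSpecStalk]; exact specializes_rfl
  obtain ⟨a, ha⟩ := h1
  obtain ⟨b, hb⟩ := h2
  have hab : a = b := Subsingleton.elim (α := PrimeSpectrum (X.presheaf.stalk x)) a b
  have hηx : genericPoint X = x := ha.symm.trans ((congrArg _ hab).trans hb)
  have huniv : (Set.univ : Set X) = {x} := by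
    rw [← hx.closure_eq, ← hηx]
    exact (genericPoint_spec X).symm
  haveI : Subsingleton X := by
    refine ⟨fun a b => ?_⟩
    have ha : a ∈ ({x} : Set X) := huniv ▸ Set.mem_univ a
    have hb : b ∈ ({x} : Set X) := huniv ▸ Set.mem_univ b
    rw [Set.mem_singleton_iff.mp ha, Set.mem_singleton_iff.mp hb]
  have := topologicalKrullDim_zero_of_discreteTopology X
  rw [hdX] at this
  exact absurd this (by decide)

/-- if the stalk map at `x` generates the maximal ideal (for `x` closed on an integral curve), then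
the morphism is not constant -/
theorem range_nontrivial_of_map_maximalIdeal [IsIntegral X] [IsIntegral Y]
    (hdX : topologicalKrullDim X = 1) (φ : X ⟶ Y) (x : X) (hx : IsClosed ({x} : Set X))
    (H : Ideal.map (φ.stalkMap x).hom (maximalIdeal (Y.presheaf.stalk (φ.base x))) =
      maximalIdeal (X.presheaf.stalk x)) :
    (Set.range φ.base).Nontrivial := by
  by_contra hnc
  rw [Set.not_nontrivial_iff] at hnc
  have hηx : φ (genericPoint X) = φ x := hnc ⟨_, rfl⟩ ⟨_, rfl⟩
  apply maximalIdeal_stalk_ne_bot hdX x hx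
  rw [← H, Ideal.map_eq_bot_iff_le_ker]
  intro t ht
  rw [RingHom.mem_ker]
  have hη : genericPoint X ⤳ x := genericPoint_specializes x
  apply Groth.Agent.Lib.Helper10.CurveFlat.stalkSpecializes_injective hη
  rw [map_zero]
  have h3 := Scheme.Hom.stalkSpecializes_stalkMap_apply φ _ _ hη t
  refine h3.symm.trans ?_
  haveI : IsIso (Y.presheaf.stalkSpecializes (φ.base.hom.map_specializes hη)) :=
    Groth.Agent.Lib.Helper6.GenEtale.isIso_stalkSpecializes_of_eq hηx
  haveI : IsLocalHom (Y.presheaf.stalkSpecializes (φ.base.hom.map_specializes hη)).hom :=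
    isLocalHom_of_isIso _
  have h4 : ¬ IsUnit ((Y.presheaf.stalkSpecializes (φ.base.hom.map_specializes hη)).hom t) := by
    intro hu
    exact ht (isUnit_of_map_unit _ _ hu)
  have h5 : ¬ IsUnit ((φ.stalkMap (genericPoint X)).hom
      ((Y.presheaf.stalkSpecializes (φ.base.hom.map_specializes hη)).hom t)) := by
    intro hu
    exact h4 (isUnit_of_map_unit _ _ hu)
  letI : Field (X.presheaf.stalk (genericPoint X)) := inferInstanceAs (Field X.functionField)
  by_contra h6
  exact h5 (isUnit_iff_ne_zero.mpr h6)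

/-- flat + locally of finite presentation + unramified at `x` implies formally smooth at `x` -/
theorem formallySmooth_stalkMap_of_flat (φ : X ⟶ Y) [LocallyOfFinitePresentation φ] [Flat φ]
    (x : X) (H2 : (φ.stalkMap x).hom.FormallyUnramified) :
    (φ.stalkMap x).hom.FormallySmooth := by
  obtain ⟨_, ⟨U, hU, rfl⟩, hxU, -⟩ :=
    Y.isBasis_affineOpens.exists_subset_of_mem_open (Set.mem_univ (φ x)) isOpen_univ
  obtain ⟨_, ⟨V, hV, rfl⟩, hxV, hVU⟩ :=
    X.isBasis_affineOpens.exists_subset_of_mem_open hxU (U.2.preimage φ.continuous)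
  have := φ.finitePresentation_appLE hU hV hVU
  have hflat : (φ.appLE U V hVU).hom.Flat :=
    HasRingHomProperty.appLE (P := @Flat) φ inferInstance ⟨U, hU⟩ ⟨V, hV⟩ hVU
  algebraize [(φ.appLE U V hVU).hom]
  let p := (hU.primeIdealOf ⟨φ x, hVU hxV⟩).asIdeal
  let q := (hV.primeIdealOf ⟨x, hxV⟩).asIdeal
  have : q.LiesOver p :=
    ⟨congr($(IsAffineOpen.comap_primeIdealOf_appLE U hU V hV hVU hxV).1).symm⟩
  let := Localization.AtPrime.algebraOfLiesOver p q
  have hun' : Algebra.FormallyUnramified (Localization.AtPrime p) (Localization.AtPrime q) := by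
    rw [← RingHom.formallyUnramified_algebraMap]
    exact (RingHom.FormallyUnramified.respectsIso.arrow_mk_iso_iff
      (IsAffineOpen.arrowStalkMapIso φ U hU V hV hVU hxV)).mp H2
  have hun : Algebra.IsUnramifiedAt Γ(Y, U) q :=
    Algebra.FormallyUnramified.comp Γ(Y, U) (Localization.AtPrime p) (Localization.AtPrime q)
  have het : Algebra.IsEtaleAt Γ(Y, U) q := Algebra.IsEtaleAt.of_isUnramifiedAt_of_flat q
  rw [formallySmooth_stalkMap_iff U hU V hV hVU hxV]
  exact (inferInstance : Algebra.FormallySmooth Γ(Y, U) (Localization.AtPrime q))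


/-- **Pointwise criterion for a map of smooth curves to be étale.** -/
theorem etale_iff_map_maximalIdeal (k : Type u) [Field k] [IsAlgClosed k]
    (pX : X ⟶ Spec (CommRingCat.of k)) (pY : Y ⟶ Spec (CommRingCat.of k)) (φ : X ⟶ Y)
    (w : φ ≫ pY = pX)
    [IsIntegral X] [Smooth pX] (hdX : topologicalKrullDim X = 1)
    [IsIntegral Y] [Smooth pY] (hdY : topologicalKrullDim Y = 1)
    (x : X) (hx : IsClosed ({x} : Set X)) :
    (∃ U : X.Opens, x ∈ U ∧ Etale (U.ι ≫ φ)) ↔
      Ideal.map (φ.stalkMap x).hom (maximalIdeal (Y.presheaf.stalk (φ.base x))) =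
        maximalIdeal (X.presheaf.stalk x) := by
  haveI : LocallyOfFiniteType (φ ≫ pY) := by rw [w]; infer_instance
  haveI : LocallyOfFiniteType φ := locallyOfFiniteType_of_comp φ pY
  haveI : IsLocallyNoetherian Y := LocallyOfFiniteType.isLocallyNoetherian pY
  haveI : LocallyOfFinitePresentation φ :=
    LocallyOfFinitePresentation.iff_locallyOfFiniteType.mpr inferInstance
  constructor
  · rintro ⟨U, hxU, hU⟩
    exact map_maximalIdeal_of_formallyUnramified φ x
      (formallyUnramified_stalkMap_of_opens φ U x hxU)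
  · intro H
    have H2 := formallyUnramified_stalkMap_of_map_maximalIdeal k pX pY φ w x hx H
    have hnc := range_nontrivial_of_map_maximalIdeal hdX φ x hx H
    haveI : Flat φ := Groth.Agent.Lib.Helper10.CurveFlat.main k X Y pY hdY
      (Groth.Agent.Lib.Helper6.BirOpen.isNormalScheme_of_smooth k Y pY) φ hnc
    have H1 := formallySmooth_stalkMap_of_flat φ x H2
    exact Groth.Agent.Lib.Helper6.GenEtale.exists_etale_of_stalkMap φ x H1 H2

end Groth.Agent.Lib.Helper6.EtCrit
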