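import Mathlib
import Groth.Prelude.Def_Pi1X
import Groth.Agent.Lib.Helper12Flat
import Groth.Agent.Lib.Helper20EtSrc

set_option autoImplicit false
universe u
open CategoryTheory CategoryTheory.Limits AlgebraicGeometry

namespace Groth.Agent.Lib.Helper6.EtLocusDesc

theorem mem_etaleLocus_iff {X Y : Scheme.{u}} (f : X ⟶ Y) (x : X) :
    x ∈ Pi1X.etaleLocus f ↔ ∃ U : X.Opens, x ∈ U ∧ Etale (U.ι ≫ f) := by
  unfold Pi1X.etaleLocus
  rw [TopologicalSpace.Opens.mem_sSup]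
  constructor
  · rintro ⟨U, hU, hx⟩; exact ⟨U, hx, hU⟩
  · rintro ⟨U, hx, hU⟩; exact ⟨U, hU, hx⟩

/-- If `f` is étale with `f ≫ g` étale and `g` locally of finite presentation, then `g` is étale
on the (open) image of `f`. -/
theorem etale_on_range {X X' Y : Scheme.{u}} (f : X ⟶ X') (g : X' ⟶ Y) [Etale f]
    [Etale (f ≫ g)] [LocallyOfFinitePresentation g] :
    ∃ O : X'.Opens, (O : Set X') = Set.range f ∧ Etale (O.ι ≫ g) := by
  let O : X'.Opens := ⟨Set.range f, f.isOpenMap.isOpen_range⟩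
  refine ⟨O, rfl, ?_⟩
  let ψ : (f ⁻¹ᵁ O).toScheme ⟶ O.toScheme := f ∣_ O
  haveI : Etale ψ := inferInstance
  haveI : Surjective ψ := by
    constructor
    rintro ⟨y, x, rfl⟩
    refine ⟨⟨x, ⟨x, rfl⟩⟩, ?_⟩
    apply Subtype.ext
    exact morphismRestrict_base_coe f O ⟨x, ⟨x, rfl⟩⟩
  have hcomp : ψ ≫ (O.ι ≫ g) = (f ⁻¹ᵁ O).ι ≫ (f ≫ g) := by
    rw [← Category.assoc, morphismRestrict_ι, Category.assoc]
  haveI : Etale (ψ ≫ (O.ι ≫ g)) := by rw [hcomp]; infer_instance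
  haveI : Flat (O.ι ≫ g) := Groth.Agent.Lib.Helper12.flat_of_comp_of_flat_of_surjective ψ _
  haveI : FormallyUnramified (O.ι ≫ g) :=
    Groth.Agent.Lib.Helper20.EtSrc.formallyUnramified_of_etale_cover_source ψ _
  exact Etale.of_formallyUnramified_of_flat _

theorem main {X X' Y : Scheme.{u}} (f : X ⟶ X') (g : X' ⟶ Y)
    [IsLocallyNoetherian Y] [LocallyOfFiniteType f] [LocallyOfFiniteType g] (x : X)
    (hf : x ∈ Pi1X.etaleLocus f) (hfg : x ∈ Pi1X.etaleLocus (f ≫ g)) :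
    f.base x ∈ Pi1X.etaleLocus g := by
  rw [mem_etaleLocus_iff] at hf hfg ⊢
  obtain ⟨U, hxU, hU⟩ := hf
  obtain ⟨V, hxV, hV⟩ := hfg
  let W : X.Opens := U ⊓ V
  have hWU : W.ι = X.homOfLE (inf_le_left : W ≤ U) ≫ U.ι := (X.homOfLE_ι _).symm
  have hWV : W.ι = X.homOfLE (inf_le_right : W ≤ V) ≫ V.ι := (X.homOfLE_ι _).symm
  haveI : Etale (W.ι ≫ f) := by
    rw [hWU, Category.assoc]; infer_instance
  haveI : Etale ((W.ι ≫ f) ≫ g) := by
    rw [Category.assoc, hWV, Category.assoc]; infer_instance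
  haveI : LocallyOfFinitePresentation g :=
    LocallyOfFinitePresentation.iff_locallyOfFiniteType.mpr inferInstance
  obtain ⟨O, hO, hOet⟩ := etale_on_range (W.ι ≫ f) g
  refine ⟨O, ?_, hOet⟩
  change f.base x ∈ (O : Set X')
  rw [hO]
  exact ⟨⟨x, hxU, hxV⟩, rfl⟩

end Groth.Agent.Lib.Helper6.EtLocusDesc
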