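import Groth.Agent.Lib.Helper4CurveSimple
import Groth.Agent.Lib.Helper6CurveDeg
import Groth.Agent.Lib.Helper17IAdic
import Groth.Agent.Lib.Helper23QAffSec

/-!
# A nonsplit extension of line bundles `0 → L → E → M → 0` with `deg L > deg M`, `Hom(M, L) = 0`
is simple (helper6): S11818
-/

set_option autoImplicit false
set_option linter.style.haveILetI false
universe u
open CategoryTheory Limits AlgebraicGeometry Opposite TopologicalSpace

namespace Groth.Agent.Lib.Helper6.ExtSimple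

open Groth.Agent.Lib.Helper4.CurveBun Groth.Agent.Lib.Helper17.IAdic

variable (k : Type u) [Field k] [IsAlgClosed k] (X : Scheme.{u}) [X.Over (Spec (CommRingCat.of k))]
  [IsIntegral X] [IsProper (X ↘ (Spec (CommRingCat.of k)))]

/-- endomorphisms of an invertible module are scalars -/
theorem exists_scalar_of_isInvertible (hpid : PIDStalks X) (hdim : topologicalKrullDim X = 1)
    (L : X.Modules) (hL : PicF.IsInvertible L) (φ : L ⟶ L) :
    ∃ c : k, φ = Formal.smulMod k L c := by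
  refine Groth.Agent.Lib.Helper4.CurveSimple.exists_scalar_of_stable k X hpid hdim 1 one_pos L
    (Groth.Agent.Lib.Helper23.SecTw.isFinLocFreeOfRank_one_of_isInvertible L hL) ?_ φ
  intro F r' i _ h0 h1 _
  omega

theorem main (hpid : PIDStalks X) (hdim : topologicalKrullDim X = 1)
    (S : ShortComplex X.Modules) (hS : S.ShortExact)
    (hL : PicF.IsInvertible S.X₁) (hM : PicF.IsInvertible S.X₃)
    (hdeg : Curv2.deg k X S.X₃ 1 < Curv2.deg k X S.X₁ 1)
    (hhom : ∀ g : S.X₃ ⟶ S.X₁, g = 0) (hns : ¬ IsSplitEpi S.g)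
    (φ : S.X₂ ⟶ S.X₂) : ∃ c : k, φ = Formal.smulMod k S.X₂ c := by
  haveI := hS.mono_f
  haveI := hS.epi_g
  -- `φ` preserves `L`
  have h1 : (S.f ≫ φ) ≫ S.g = 0 := by
    by_contra hne
    have := (Groth.Agent.Lib.Helper6.CurveDeg.deg_le_deg k X hdim S.X₁ S.X₃ hL hM _ hne).1
    omega
  obtain ⟨a, ha⟩ := exists_scalar_of_isInvertible k X hpid hdim S.X₁ hL (hS.exact.lift (S.f ≫ φ) h1)
  have hlift : hS.exact.lift (S.f ≫ φ) h1 ≫ S.f = S.f ≫ φ := hS.exact.lift_f _ _
  -- `ψ = φ - a` kills `L`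
  have h2 : S.f ≫ (φ - Formal.smulMod k S.X₂ a) = 0 := by
    rw [Preadditive.comp_sub, comp_smulMod, ← ha, hlift, sub_self]
  have hdesc : S.g ≫ hS.exact.desc (φ - Formal.smulMod k S.X₂ a) h2 = φ - Formal.smulMod k S.X₂ a :=
    hS.exact.g_desc _ _
  obtain ⟨b, hb⟩ := exists_scalar_of_isInvertible k X hpid hdim S.X₃ hM
    (hS.exact.desc (φ - Formal.smulMod k S.X₂ a) h2 ≫ S.g)
  have hb0 : b = 0 := by
    by_contra hbne
    apply hns
    refine ⟨⟨Formal.smulMod k S.X₃ b⁻¹ ≫ hS.exact.desc (φ - Formal.smulMod k S.X₂ a) h2, ?_⟩⟩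
    rw [Category.assoc, hb, ← smulMod_mul', inv_mul_cancel₀ hbne, smulMod_one]
  rw [hb0, smulMod_zero] at hb
  -- so `ψ'` lands in `L`, hence vanishes
  have h3 : hS.exact.desc (φ - Formal.smulMod k S.X₂ a) h2 = 0 := by
    have := hS.exact.lift_f (hS.exact.desc (φ - Formal.smulMod k S.X₂ a) h2) hb
    rw [hhom (hS.exact.lift _ hb), zero_comp] at this
    exact this.symm
  refine ⟨a, ?_⟩
  rw [← sub_eq_zero, ← hdesc, h3, comp_zero]

end Groth.Agent.Lib.Helper6.ExtSimple
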