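import Mathlib
import Groth.Agent.Lib.Helper6FSLoc2
import Groth.Agent.Lib.Helper6FSLoc3

set_option autoImplicit false

open TensorProduct KaehlerDifferential IsLocalRing

namespace Groth.Agent.Lib.Helper6.FSLoc5

universe u

theorem main9268 (A B : Type u) [CommRing A] [IsNoetherianRing A]
    [CommRing B] [Algebra A B] [Algebra.FiniteType A B] (q : Ideal B) [q.IsPrime] :
    (∃ g : B, g ∉ q ∧ Algebra.Smooth A (Localization.Away g)) ↔
      letI := (Localization.localRingHom (Ideal.comap (algebraMap A B) q) q (algebraMap A B)
        rfl).toAlgebra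
      CAlgX.IsAdicFormallySmooth (Localization.AtPrime (Ideal.comap (algebraMap A B) q))
        (Localization.AtPrime q) (IsLocalRing.maximalIdeal (Localization.AtPrime q)) := by
  letI alg := (Localization.localRingHom (Ideal.comap (algebraMap A B) q) q (algebraMap A B)
        rfl).toAlgebra
  change _ ↔ CAlgX.IsAdicFormallySmooth (Localization.AtPrime (Ideal.comap (algebraMap A B) q))
        (Localization.AtPrime q) (IsLocalRing.maximalIdeal (Localization.AtPrime q))
  haveI : IsScalarTower A (Localization.AtPrime (Ideal.comap (algebraMap A B) q))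
      (Localization.AtPrime q) := by
    refine IsScalarTower.of_algebraMap_eq fun a => ?_
    change _ = Localization.localRingHom (Ideal.comap (algebraMap A B) q) q (algebraMap A B)
        rfl (algebraMap A _ a)
    rw [Localization.localRingHom_to_map, ← IsScalarTower.algebraMap_apply]
  obtain ⟨n, f, hf⟩ := Algebra.FiniteType.iff_quotient_mvPolynomial''.mp ‹Algebra.FiniteType A B›
  letI : Algebra (MvPolynomial (Fin n) A) B := f.toRingHom.toAlgebra
  haveI : IsScalarTower A (MvPolynomial (Fin n) A) B :=
    IsScalarTower.of_algebraMap_eq fun a => (f.commutes a).symm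
  have hsurj : Function.Surjective (algebraMap (MvPolynomial (Fin n) A) B) := hf
  haveI : Module.Finite (MvPolynomial (Fin n) A)
      (RingHom.ker (algebraMap (MvPolynomial (Fin n) A) B)).Cotangent :=
    Module.Finite.of_surjective (RingHom.ker (algebraMap (MvPolynomial (Fin n) A) B)).toCotangent
      (Ideal.toCotangent_surjective _)
  have h21 := (Groth.Agent.Lib.Helper6.FSLoc2.main2463 (A := A) hsurj q).out 2 1
  rw [Groth.Agent.Lib.Helper6.FSLoc3.main4606 (A := A) hsurj q, ← h21]
  have hfp : ∀ g : B, Algebra.FinitePresentation A (Localization.Away g) := by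
    intro g
    haveI : Algebra.FinitePresentation A B := Algebra.FinitePresentation.of_finiteType.mp ‹_›
    haveI : Algebra.FinitePresentation B (Localization.Away g) :=
      IsLocalization.Away.finitePresentation g
    exact Algebra.FinitePresentation.trans A B (Localization.Away g)
  constructor
  · rintro ⟨g, hg, hsm⟩
    exact ⟨g, hg, inferInstance⟩
  · rintro ⟨g, hg, hfs⟩
    haveI := hfp g
    exact ⟨g, hg, ⟨hfs, inferInstance⟩⟩

end Groth.Agent.Lib.Helper6.FSLoc5
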