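import Mathlib
import Groth.Agent.Lib.Helper6FSLoc2

set_option autoImplicit false
universe u

namespace Groth.Agent.Lib.Helper6.FSOpen

theorem main4576 {A B C : Type u} [CommRing A] [CommRing B] [CommRing C]
    [Algebra A B] [Algebra B C] [Algebra A C] [IsScalarTower A B C] [Algebra.FormallySmooth A B]
    (hsurj : Function.Surjective (algebraMap B C))
    [Module.Finite B (RingHom.ker (algebraMap B C)).Cotangent] :
    IsOpen {p : PrimeSpectrum C | Algebra.FormallySmooth A (Localization.AtPrime p.asIdeal)} := by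
  rw [isOpen_iff_forall_mem_open]
  intro p hp
  have h13 := (Groth.Agent.Lib.Helper6.FSLoc2.main2463 (A := A) hsurj p.asIdeal).out 0 2
  obtain ⟨f, hf, hfs⟩ := h13.mp hp
  refine ⟨PrimeSpectrum.basicOpen f, ?_, (PrimeSpectrum.basicOpen f).isOpen, hf⟩
  intro q hq
  have h31 := (Groth.Agent.Lib.Helper6.FSLoc2.main2463 (A := A) hsurj q.asIdeal).out 2 0
  exact h31.mp ⟨f, hq, hfs⟩

end Groth.Agent.Lib.Helper6.FSOpen
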