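import Mathlib
import Groth.Agent.Lib.Helper6FibEqR2
import Groth.Agent.Lib.Helper6BcGeom
import Groth.Agent.Lib.Helper6GeomRegAt
import Groth.Agent.Lib.Helper5IntDim

set_option autoImplicit false
set_option linter.style.haveILetI false
set_option linter.unusedVariables false
universe u
open CategoryTheory CategoryTheory.Limits AlgebraicGeometry Topology TopologicalSpace IsLocalRing
  TensorProduct

namespace Groth.Agent.Lib.Helper6.FibEqR

open Groth.Agent.Lib.Helper6.FibCodim Groth.Agent.Lib.Helper6.FibSk
  Groth.Agent.Lib.Helper6.FibNormal Groth.Agent.Lib.Helper6.FibRk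
  Groth.Agent.Lib.Helper6.FibCodimLocus Groth.Agent.Lib.Helper5.FibSmConstr
  Groth.Agent.Lib.Helper6.GenNowhere Groth.Agent.Lib.Helper6.FibRkOpen
  Groth.Agent.Lib.Helper6.BcBridge Groth.Agent.Lib.Helper6.FibEqui

section BcDim

variable (k : Type u) [Field k] (X : Scheme.{u}) [X.Over (Spec (CommRingCat.of k))]
  (K : Type u) [Field K] [Algebra k K]

/-- the local rings of the base change of `X` to an algebraic extension have dimension at most
that of the local rings of `X`. -/
theorem ringKrullDim_stalk_bc_le [Algebra.IsIntegral k K] (x' : Curv2.bc k X K) :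
    ringKrullDim ((Curv2.bc k X K).presheaf.stalk x') ≤
      ringKrullDim (X.presheaf.stalk (Curv2.bcFst k X K x')) := by
  obtain ⟨R, _, _, ι, _, hι, z, hz⟩ := exists_chart k X (Curv2.bcFst k X K x')
  obtain ⟨Q, hQ, ⟨e⟩⟩ := exists_prime_of_point_left k X K ι hι x' z hz
  have e2 := stalkEquivSpec ι z
  rw [hz] at e2
  rw [ringKrullDim_eq_of_ringEquiv e, ringKrullDim_eq_of_ringEquiv e2,
    IsLocalization.AtPrime.ringKrullDim_eq_height Q.asIdeal (Localization.AtPrime Q.asIdeal),
    IsLocalization.AtPrime.ringKrullDim_eq_height z.asIdeal (Localization.AtPrime z.asIdeal)]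
  have h1 := Groth.Agent.Lib.Helper5.height_le_height_under_of_isIntegral
    (A := R) (B := R ⊗[k] K) Q.asIdeal
  have h2 : Q.asIdeal.under R = z.asIdeal := congrArg PrimeSpectrum.asIdeal hQ
  rw [h2] at h1
  exact_mod_cast h1

end BcDim

section RkFin

variable {κ : Type u} [Field κ] {Y : Scheme.{u}} (φ : Y ⟶ Spec (CommRingCat.of κ))
  [LocallyOfFinitePresentation φ]

omit [LocallyOfFinitePresentation φ] in
/-- the projection from the base change to a finite extension is a closed map. -/
theorem isClosedMap_bcπ (K : Type u) [Field K] [Algebra κ K] [Module.Finite κ K] :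
    IsClosedMap (FBase.bcπ φ K).base := by
  unfold FBase.bcπ
  haveI : IsFinite (Spec.map (CommRingCat.ofHom (algebraMap κ K))) := by
    rw [IsFinite.SpecMap_iff]
    exact RingHom.finite_algebraMap.mpr inferInstance
  haveI : IsFinite (pullback.fst φ (Spec.map (CommRingCat.ofHom (algebraMap κ K)))) :=
    MorphismProperty.pullback_fst (P := @IsFinite) _ _ inferInstance
  exact (pullback.fst φ (Spec.map (CommRingCat.ofHom (algebraMap κ K)))).isClosedMap

/-- **geometric `(R_k)` at a point, tested on finite extensions only, is the same codimension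
condition on the non-smooth locus.** -/
theorem geomRkFin_iff (k : ℕ) (y : Y) :
    (∀ (K : Type u) [Field K] [Algebra κ K], Module.Finite κ K → ∀ x' : ↥(FBase.bc φ K),
        (FBase.bcπ φ K).base x' = y → LocCoh.HasRk k ((FBase.bc φ K).presheaf.stalk x')) ↔
      ∀ y' : Y, y' ⤳ y → ringKrullDim (Y.presheaf.stalk y') ≤ (k : WithBot ℕ∞) →
        (φ.stalkMap y').hom.FormallySmooth := by
  haveI : IsLocallyNoetherian Y := isLocallyNoetherian_of_lfp_field φ
  constructor
  · intro h y' hy' hdim
    letI : Y.Over (Spec (CommRingCat.of κ)) := ⟨φ⟩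
    haveI : LocallyOfFinitePresentation (Y ↘ Spec (CommRingCat.of κ)) :=
      (inferInstance : LocallyOfFinitePresentation φ)
    have hgr : Curv2.IsGeomRegularAt κ Y y' := by
      refine Groth.Agent.Lib.Helper6.BcGeom.isGeomRegularAt_of_purelyInseparable κ Y y' ?_
      intro k' _ _ hfin _ x'' hx''
      haveI : Module.Finite κ k' := hfin
      haveI : IsLocallyNoetherian (FBase.bc φ k') :=
        isLocallyNoetherian_of_lfp_field (FBase.bcStr φ k')
      -- a point over `y` specializing `x''`
      have hsp : (FBase.bcπ φ k').base x'' ⤳ y := by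
        have : (FBase.bcπ φ k').base x'' = y' := hx''
        rw [this]; exact hy'
      obtain ⟨x', hx''x', hx'⟩ := (isClosedMap_bcπ φ k').specializingMap hsp
      have hRk := h k' inferInstance x' hx'
      have hht : (genPrime (FBase.bc φ k') hx''x').height ≤ (k : ℕ∞) := by
        have h1 := ringKrullDim_stalk_eq_height (FBase.bc φ k') hx''x'
        have h2 := ringKrullDim_stalk_bc_le κ Y k' x''
        have h3 : Curv2.bcFst κ Y k' x'' = y' := hx''
        rw [h3] at h2
        have h4 := (h1.symm.trans_le h2).trans hdim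
        exact_mod_cast h4
      have hreg := hRk (genPrime (FBase.bc φ k') hx''x') hht
      letI := ((FBase.bc φ k').presheaf.stalkSpecializes hx''x').hom.toAlgebra
      haveI := isLocalization_genPrime (FBase.bc φ k') hx''x'
      have e := IsLocalization.algEquiv (genPrime (FBase.bc φ k') hx''x').primeCompl
        (Localization.AtPrime (genPrime (FBase.bc φ k') hx''x'))
        ((FBase.bc φ k').presheaf.stalk x'')
      exact IsRegularLocalRing.of_ringEquiv e.toRingEquiv
    have hsm := Groth.Agent.Lib.Helper6.GeomRegAt.mem_smoothLocus_of_isGeomRegularAt κ Y y' hgr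
    exact Scheme.Hom.mem_smoothLocus.mp hsm
  · intro h K _ _ _ x' hx'
    exact (geomRk_iff φ k y).mpr h K x' hx'

end RkFin

section Main

variable {X Y : Scheme.{u}} (f : X ⟶ Y)

/-- the finite-extensions geometric `(R_k)` locus is `Lgr k f`. -/
theorem rkFin_locus_eq [LocallyOfFinitePresentation f] (k : ℕ) :
    {x : X | ∀ (K : Type u) [Field K]
        [Algebra (IsLocalRing.ResidueField (Y.presheaf.stalk (f.base x))) K],
        Module.Finite (IsLocalRing.ResidueField (Y.presheaf.stalk (f.base x))) K →
        ∀ x' : ↥(FBase.bc (f.fiberToSpecResidueField (f.base x)) K),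
          (FBase.bcπ (f.fiberToSpecResidueField (f.base x)) K).base x' = f.asFiber x →
          LocCoh.HasRk k ((FBase.bc (f.fiberToSpecResidueField (f.base x)) K).presheaf.stalk x')} =
      Lgr k f := by
  unfold Lgr
  rw [← rk_locus_eq f k]
  ext x
  have h1 := @geomRkFin_iff (IsLocalRing.ResidueField (Y.presheaf.stalk (f.base x))) _ _
    (f.fiberToSpecResidueField (f x)) (lfp_fiberToSpecResidueField f (f x)) k (f.asFiber x)
  have h2 := @geomRk_iff (IsLocalRing.ResidueField (Y.presheaf.stalk (f.base x))) _ _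
    (f.fiberToSpecResidueField (f x)) (lfp_fiberToSpecResidueField f (f x)) k (f.asFiber x)
  exact h1.trans h2.symm

/-- "no embedded component through `x`" is `(S_1)` at `x`. -/
theorem lsk_one_iff [LocallyOfFiniteType f] (x : X) :
    (∀ p ∈ associatedPrimes ((f.fiber (f.base x)).presheaf.stalk (f.asFiber x))
        ((f.fiber (f.base x)).presheaf.stalk (f.asFiber x)),
        p ∈ minimalPrimes ((f.fiber (f.base x)).presheaf.stalk (f.asFiber x))) ↔ x ∈ Lsk 1 f := by
  haveI := isLocallyNoetherian_fiber f (f x)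
  have h := Groth.Agent.Lib.Helper28.hasSk_one_iff_forall_mem_minimalPrimes
    (R := (f.fiber (f.base x)).presheaf.stalk (f.asFiber x))
    (M := (f.fiber (f.base x)).presheaf.stalk (f.asFiber x))
  have hann : Module.annihilator ((f.fiber (f.base x)).presheaf.stalk (f.asFiber x))
      ((f.fiber (f.base x)).presheaf.stalk (f.asFiber x)) = ⊥ :=
    Module.annihilator_eq_bot.mpr inferInstance
  rw [hann] at h
  exact h

/-- the locus of S5931 is `Leq k f`. -/
theorem locus_eq [LocallyOfFinitePresentation f] (k : ℕ) :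
    {x : X | (∀ (K : Type u) [Field K]
        [Algebra (IsLocalRing.ResidueField (Y.presheaf.stalk (f.base x))) K],
        Module.Finite (IsLocalRing.ResidueField (Y.presheaf.stalk (f.base x))) K →
        ∀ x' : ↥(FBase.bc (f.fiberToSpecResidueField (f.base x)) K),
          (FBase.bcπ (f.fiberToSpecResidueField (f.base x)) K).base x' = f.asFiber x →
          LocCoh.HasRk k ((FBase.bc (f.fiberToSpecResidueField (f.base x)) K).presheaf.stalk x')) ∧
      EGA4.IsEquidim ↑((f.fiber (f.base x)).presheaf.stalk (f.asFiber x)) ∧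
      (∀ p ∈ associatedPrimes ↑((f.fiber (f.base x)).presheaf.stalk (f.asFiber x))
          ↑((f.fiber (f.base x)).presheaf.stalk (f.asFiber x)),
        p ∈ minimalPrimes ↑((f.fiber (f.base x)).presheaf.stalk (f.asFiber x)))} = Leq k f := by
  haveI : LocallyOfFiniteType f := inferInstance
  ext x
  have h1 : x ∈ Lgr k f ↔ _ := (Set.ext_iff.mp (rkFin_locus_eq f k) x).symm
  have h2 := isEquidim_fibre_iff f x
  have h3 := lsk_one_iff f x
  show _ ∧ _ ∧ _ ↔ (x ∈ Lgr k f ∧ x ∈ Lsk 1 f) ∧ x ∈ (Lne f)ᶜ
  rw [h1, ← h2, ← h3]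
  constructor
  · rintro ⟨a, b, c⟩
    exact ⟨⟨a, c⟩, b⟩
  · rintro ⟨⟨a, c⟩, b⟩
    exact ⟨a, b, c⟩

/-- **S5931**. -/
theorem main [Flat f] [LocallyOfFinitePresentation f] (k : ℕ) :
    IsOpen {x : X | (∀ (K : Type u) [Field K]
        [Algebra (IsLocalRing.ResidueField (Y.presheaf.stalk (f.base x))) K],
        Module.Finite (IsLocalRing.ResidueField (Y.presheaf.stalk (f.base x))) K →
        ∀ x' : ↥(FBase.bc (f.fiberToSpecResidueField (f.base x)) K),
          (FBase.bcπ (f.fiberToSpecResidueField (f.base x)) K).base x' = f.asFiber x →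
          LocCoh.HasRk k ((FBase.bc (f.fiberToSpecResidueField (f.base x)) K).presheaf.stalk x')) ∧
      EGA4.IsEquidim ↑((f.fiber (f.base x)).presheaf.stalk (f.asFiber x)) ∧
      (∀ p ∈ associatedPrimes ↑((f.fiber (f.base x)).presheaf.stalk (f.asFiber x))
          ↑((f.fiber (f.base x)).presheaf.stalk (f.asFiber x)),
        p ∈ minimalPrimes ↑((f.fiber (f.base x)).presheaf.stalk (f.asFiber x)))} := by
  rw [locus_eq f k]
  exact isOpen_leq k f

end Main

section Proper

variable {X Y : Scheme.{u}} (f : X ⟶ Y)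

/-- transport of a dependent predicate on fibre points along equality of base points. -/
theorem fiber_transport_dep (P : ∀ y : Y, ↥(f.fiber y) → Prop) {y₁ y₂ : Y} (hy : y₁ = y₂)
    (z₁ : f.fiber y₁) (z₂ : f.fiber y₂) (hz : f.fiberι y₁ z₁ = f.fiberι y₂ z₂) :
    P y₁ z₁ ↔ P y₂ z₂ := by
  subst hy
  obtain rfl : z₁ = z₂ := (f.fiberι y₁).isEmbedding.injective hz
  exact Iff.rfl

/-- **S5932**. -/
theorem main_proper [IsProper f] [Flat f] [LocallyOfFinitePresentation f] (k : ℕ) :
    IsOpen {y : Y | ∀ x : ↥(f.fiber y), (∀ (K : Type u) [Field K]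
        [Algebra (IsLocalRing.ResidueField (Y.presheaf.stalk y)) K],
        Module.Finite (IsLocalRing.ResidueField (Y.presheaf.stalk y)) K →
        ∀ x' : ↥(FBase.bc (f.fiberToSpecResidueField y) K),
          (FBase.bcπ (f.fiberToSpecResidueField y) K).base x' = x →
          LocCoh.HasRk k ((FBase.bc (f.fiberToSpecResidueField y) K).presheaf.stalk x')) ∧
      EGA4.IsEquidim ↑((f.fiber y).presheaf.stalk x) ∧
      (∀ p ∈ associatedPrimes ↑((f.fiber y).presheaf.stalk x) ↑((f.fiber y).presheaf.stalk x),
        p ∈ minimalPrimes ↑((f.fiber y).presheaf.stalk x))} := by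
  let P : ∀ y : Y, ↥(f.fiber y) → Prop := fun y x => (∀ (K : Type u) [Field K]
        [Algebra (IsLocalRing.ResidueField (Y.presheaf.stalk y)) K],
        Module.Finite (IsLocalRing.ResidueField (Y.presheaf.stalk y)) K →
        ∀ x' : ↥(FBase.bc (f.fiberToSpecResidueField y) K),
          (FBase.bcπ (f.fiberToSpecResidueField y) K).base x' = x →
          LocCoh.HasRk k ((FBase.bc (f.fiberToSpecResidueField y) K).presheaf.stalk x')) ∧
      EGA4.IsEquidim ↑((f.fiber y).presheaf.stalk x) ∧
      (∀ p ∈ associatedPrimes ↑((f.fiber y).presheaf.stalk x) ↑((f.fiber y).presheaf.stalk x),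
        p ∈ minimalPrimes ↑((f.fiber y).presheaf.stalk x))
  have hL : ∀ x : X, x ∈ Leq k f ↔ P (f x) (f.asFiber x) := by
    intro x
    rw [← locus_eq f k]
    exact Iff.rfl
  have heq : {y : Y | ∀ x : ↥(f.fiber y), P y x} = (f '' (Leq k f)ᶜ)ᶜ := by
    ext y
    simp only [Set.mem_setOf_eq, Set.mem_compl_iff, Set.mem_image, not_exists, not_and]
    constructor
    · intro h x hx hfx
      apply hx
      subst hfx
      exact (hL x).mpr (h (f.asFiber x))
    · intro h a
      have h1 : f.fiberι y a ∈ Leq k f := by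
        by_contra hcon
        exact h _ hcon (fiber_point_maps f y a)
      exact (fiber_transport_dep f P (fiber_point_maps f y a) (f.asFiber (f.fiberι y a)) a
        (f.fiberι_asFiber _)).mp ((hL _).mp h1)
  show IsOpen {y : Y | ∀ x : ↥(f.fiber y), P y x}
  rw [heq, isOpen_compl_iff]
  exact f.isClosedMap _ (isOpen_leq k f).isClosed_compl

end Proper

end Groth.Agent.Lib.Helper6.FibEqR
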