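import Mathlib
import Groth.Agent.Lib.Helper6FibDom
import Groth.Agent.Lib.Helper3DiagBC
import Groth.Agent.Lib.Helper12Submersive2

set_option autoImplicit false
set_option linter.style.haveILetI false
set_option linter.unusedVariables false
universe u
open CategoryTheory CategoryTheory.Limits AlgebraicGeometry Topology TopologicalSpace

namespace Groth.Agent.Lib.Helper6.FibSep

open Groth.Agent.Lib.Helper4.FibDim Groth.Agent.Lib.Helper6.FibDom
  Groth.Agent.Lib.Helper6.GenNowhere Groth.Agent.Lib.Helper5.FibMorLoci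

/-- generic density: if the range of `f` is dense in the generic fibre of `g`, it is dense in the
fibres over a neighbourhood of the generic point. -/
theorem exists_open_dense {X Y S : Scheme.{u}} (f : X ⟶ Y) (g : Y ⟶ S) [IsIntegral S]
    [IsNoetherian S] [LocallyOfFiniteType g] [QuasiCompact g] [LocallyOfFiniteType (f ≫ g)]
    [QuasiCompact (f ≫ g)]
    (h : Dense ((g.fiberι (genericPoint S)) ⁻¹' Set.range f)) :
    ∃ V : S.Opens, genericPoint S ∈ V ∧ ∀ s ∈ V, Dense ((g.fiberι s) ⁻¹' Set.range f) := by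
  have hloc := fun s => isDominant_fiberMap_iff f g s
  rcases dichotomy_isDominant f g with h1 | h1
  · refine ⟨⟨interior (ConsProp.locusMor (fun X Y T f g => IsDominant f) f g), isOpen_interior⟩,
      ?_, fun s hs => (hloc s).mp
        (interior_subset hs : s ∈ ConsProp.locusMor (fun X Y T f g => IsDominant f) f g)⟩
    exact ((genericPoint_spec S).mem_open_set_iff isOpen_interior).mpr
      (by rw [Set.univ_inter]; exact h1)
  · exfalso
    have h2 := ((genericPoint_spec S).mem_open_set_iff isOpen_interior).mpr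
      (by rw [Set.univ_inter]; exact h1)
    exact (interior_subset h2 :
      genericPoint S ∈ (ConsProp.locusMor (fun X Y T f g => IsDominant f) f g)ᶜ) ((hloc _).mpr h)

/-- the closed-range dichotomy. -/
theorem dichotomy_closedRange {X P S : Scheme.{u}} (φ : X ⟶ P) (π : P ⟶ S) [IsIntegral S]
    [IsNoetherian S] [LocallyOfFiniteType π] [QuasiCompact π] [LocallyOfFiniteType (φ ≫ π)]
    [QuasiCompact (φ ≫ π)] :
    (interior {s : S | IsClosed ((π.fiberι s) ⁻¹' Set.range φ)}).Nonempty ∨
      (interior {s : S | IsClosed ((π.fiberι s) ⁻¹' Set.range φ)}ᶜ).Nonempty := by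
  haveI : IsLocallyNoetherian P := LocallyOfFiniteType.isLocallyNoetherian π
  haveI : CompactSpace P := QuasiCompact.compactSpace_of_compactSpace π
  haveI : IsNoetherian P := {}
  haveI : IsLocallyNoetherian X := LocallyOfFiniteType.isLocallyNoetherian (φ ≫ π)
  haveI : CompactSpace X := QuasiCompact.compactSpace_of_compactSpace (φ ≫ π)
  haveI : IsNoetherian X := {}
  obtain ⟨_, _⟩ := Groth.Agent.Lib.Helper3.ForallFiber.ft_of_comp φ π
  set η := genericPoint S with hη
  let ι := φ.imageι
  let ψ := φ.toImage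
  have hψι : ψ ≫ ι = φ := φ.toImage_imageι
  have hcomp : ψ ≫ ι ≫ π = φ ≫ π := by rw [← Category.assoc, hψι]
  haveI : LocallyOfFiniteType (ψ ≫ ι ≫ π) := by rw [hcomp]; infer_instance
  haveI : QuasiCompact (ψ ≫ ι ≫ π) := by rw [hcomp]; infer_instance
  have hφx : ∀ x, ι (ψ x) = φ x := fun x => by
    rw [← Scheme.Hom.comp_apply, hψι]
  have hψdense : DenseRange ψ := (inferInstance : IsDominant ψ).denseRange
  -- Step 1: density in the generic fibre
  have h1 : Dense (((ι ≫ π).fiberι η) ⁻¹' Set.range ψ) := by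
    intro a
    have h2 : (ι ≫ π).fiberι η a ∈ closure ((ψ : X → _) '' Set.univ) := by
      rw [Set.image_univ]; exact hψdense _
    obtain ⟨x, -, hx⟩ := exists_specializes_of_mem_closure_image (ψ : X → _) ψ.continuous
      Set.univ isClosed_univ _ h2
    have h3 : (ι ≫ π) (ψ x) ⤳ η := by
      have := hx.map (ι ≫ π).continuous
      rwa [fiber_point_maps (ι ≫ π) η a] at this
    have h4 : (ι ≫ π) (ψ x) = η := (h3.antisymm (genericPoint_specializes _)).eq
    obtain ⟨a', ha'⟩ : ψ x ∈ Set.range ((ι ≫ π).fiberι η) := by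
      rw [Scheme.Hom.range_fiberι]; exact h4
    rw [← ha', ((ι ≫ π).fiberι η).isEmbedding.isInducing.specializes_iff] at hx
    exact hx.mem_closed isClosed_closure (subset_closure ⟨x, ha'.symm⟩)
  obtain ⟨V₀, hηV₀, hV₀⟩ := exists_open_dense ψ (ι ≫ π) h1
  -- Step 3
  have hRι : IsConstructible (Set.range ι) := by
    have : IsConstructible (Set.range ι)ᶜ :=
      Groth.Agent.Lib.Helper5.LocusGeneric.IsOpen.isConstructible_of_noetherianSpace
        ι.isClosedEmbedding.isClosed_range.isOpen_compl
    simpa using this.compl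
  have hRφ : IsConstructible (Set.range φ) := by
    rw [← Set.image_univ]; exact φ.isConstructible_image IsConstructible.univ
  have hE' : IsConstructible ((π : P → S) '' (Set.range ι \ Set.range φ)) :=
    π.isConstructible_image (hRι.sdiff hRφ)
  have key : ∀ s ∈ V₀, IsClosed ((π.fiberι s) ⁻¹' Set.range φ) ↔
      s ∉ (π : P → S) '' (Set.range ι \ Set.range φ) := by
    intro s hs
    constructor
    · rintro hcl ⟨b, ⟨⟨w, rfl⟩, hbφ⟩, hπb⟩
      have hw : (ι ≫ π) w = s := by rw [Scheme.Hom.comp_apply]; exact hπb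
      obtain ⟨a, rfl⟩ : w ∈ Set.range ((ι ≫ π).fiberι s) := by
        rw [Scheme.Hom.range_fiberι]; exact hw
      have hsq : ∀ a', π.fiberι s (MoreMor.fiberMap ι π s a') = ι ((ι ≫ π).fiberι s a') := by
        intro a'
        rw [← Scheme.Hom.comp_apply, ← Scheme.Hom.comp_apply, (isPullback_fiberMap ι π s).w]
      have hC' : IsClosed ((MoreMor.fiberMap ι π s) ⁻¹' ((π.fiberι s) ⁻¹' Set.range φ)) :=
        hcl.preimage (MoreMor.fiberMap ι π s).continuous
      have hsub : ((ι ≫ π).fiberι s) ⁻¹' Set.range ψ ⊆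
          (MoreMor.fiberMap ι π s) ⁻¹' ((π.fiberι s) ⁻¹' Set.range φ) := by
        rintro a' ⟨x, hx⟩
        show π.fiberι s (MoreMor.fiberMap ι π s a') ∈ Set.range φ
        rw [hsq, ← hx, hφx]
        exact ⟨x, rfl⟩
      have ha : a ∈ (MoreMor.fiberMap ι π s) ⁻¹' ((π.fiberι s) ⁻¹' Set.range φ) :=
        closure_minimal hsub hC' (hV₀ s hs a)
      apply hbφ
      have : π.fiberι s (MoreMor.fiberMap ι π s a) ∈ Set.range φ := ha
      rwa [hsq] at this
    · intro hs'
      have : (π.fiberι s) ⁻¹' Set.range φ = (π.fiberι s) ⁻¹' Set.range ι := by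
        ext c
        constructor
        · rintro ⟨x, hx⟩
          exact ⟨ψ x, (hφx x).trans hx⟩
        · intro hc
          by_contra hcon
          exact hs' ⟨π.fiberι s c, ⟨hc, hcon⟩, fiber_point_maps π s c⟩
      rw [this]
      exact ι.isClosedEmbedding.isClosed_range.preimage (π.fiberι s).continuous
  rcases Groth.Agent.Lib.Helper3.ConsOfLocus.interior_nonempty_or_of_isConstructible hE'
    with h2 | h2
  · right
    have hne : (interior ((π : P → S) '' (Set.range ι \ Set.range φ)) ∩ (V₀ : Set S)).Nonempty :=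
      nonempty_preirreducible_inter isOpen_interior V₀.2 h2 ⟨η, hηV₀⟩
    refine hne.mono (interior_maximal ?_ (isOpen_interior.inter V₀.2))
    rintro s ⟨hs1, hs2⟩ hs
    exact (key s hs2).mp hs (interior_subset hs1)
  · left
    have hne : (interior ((π : P → S) '' (Set.range ι \ Set.range φ))ᶜ ∩ (V₀ : Set S)).Nonempty :=
      nonempty_preirreducible_inter isOpen_interior V₀.2 h2 ⟨η, hηV₀⟩
    refine hne.mono (interior_maximal ?_ (isOpen_interior.inter V₀.2))
    rintro s ⟨hs1, hs2⟩
    exact (key s hs2).mpr (interior_subset hs1)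

theorem isFieldStableMor_closedRange :
    ConsProp.IsFieldStableMor.{u} (fun X Y T f g => IsClosed (Set.range f)) := by
  intro X X' Y Y' T T' f g f' g' eX eY h _ _ _ _ _ _ _ _ hY hX
  have hfpqc : (@Surjective ⊓ @Flat ⊓ @QuasiCompact : MorphismProperty Scheme.{u}) eY :=
    MorphismProperty.of_isPullback hY.flip
      (Groth.Agent.Lib.Helper3.ConsOfLocus.fpqc_of_onePoint.{u} h)
  haveI : Surjective eY := hfpqc.1.1
  haveI : Flat eY := hfpqc.1.2
  haveI : QuasiCompact eY := hfpqc.2
  have hq : Topology.IsQuotientMap eY := Flat.isQuotientMap_of_surjective eY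
  have hr : Set.range f' = eY ⁻¹' Set.range f := by
    have := Scheme.image_preimage_eq_of_isPullback hX Set.univ
    rw [Set.preimage_univ, Set.image_univ, Set.image_univ] at this
    exact this
  show IsClosed (Set.range f) ↔ IsClosed (Set.range f')
  rw [hr, hq.isClosed_preimage]

theorem isConsMor_closedRange :
    ConsProp.IsConsMor.{u} (fun X Y T f g => IsClosed (Set.range f)) := by
  refine ⟨isFieldStableMor_closedRange, fun X Y S f g _ _ _ _ _ _ => ?_⟩
  have e : ConsProp.locusMor (fun X Y T f g => IsClosed (Set.range f)) f g =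
      {s : S | IsClosed ((g.fiberι s) ⁻¹' Set.range f)} := by
    ext s
    show IsClosed (Set.range (MoreMor.fiberMap f g s)) ↔
      IsClosed ((g.fiberι s) ⁻¹' Set.range f)
    rw [range_fiberMap]
  rw [e]
  exact dichotomy_closedRange f g

open Groth.Agent.Lib.Helper3.DiagBC in
/-- the map of fibres is separated iff the trace of the diagonal on the fibre of `X ×_Y X` is
closed. -/
theorem isSeparated_fiberMap_iff {X Y S : Scheme.{u}} (f : X ⟶ Y) (g : Y ⟶ S) (s : S) :
    IsSeparated (MoreMor.fiberMap f g s) ↔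
      IsClosed (((pullback.fst f f ≫ f ≫ g).fiberι s) ⁻¹' Set.range (pullback.diagonal f)) := by
  have hX := isPullback_fiberMap f g s
  have hY : IsPullback (g.fiberι s) (g.fiberToSpecResidueField s) g (S.fromSpecResidueField s) :=
    IsPullback.of_hasPullback _ _
  have hd1 := isPullback_diagonal hX
  have hd2 := isPullback_dmap_base hY hX
  have hr : Set.range (pullback.diagonal (MoreMor.fiberMap f g s)) =
      (dmap hX) ⁻¹' Set.range (pullback.diagonal f) := by
    have := Scheme.image_preimage_eq_of_isPullback hd1 Set.univ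
    rw [Set.preimage_univ, Set.image_univ, Set.image_univ] at this
    exact this
  have hsep : IsSeparated (MoreMor.fiberMap f g s) ↔
      IsClosed (Set.range (pullback.diagonal (MoreMor.fiberMap f g s))) :=
    ⟨fun h => (pullback.diagonal (MoreMor.fiberMap f g s)).isClosedEmbedding.isClosed_range,
      fun h => ⟨IsClosedImmersion.of_isPreimmersion _ h⟩⟩
  rw [hsep, hr]
  let e : pullback (MoreMor.fiberMap f g s) (MoreMor.fiberMap f g s) ≅
      (pullback.fst f f ≫ f ≫ g).fiber s := hd2.isoPullback
  have he : e.hom ≫ (pullback.fst f f ≫ f ≫ g).fiberι s = dmap hX :=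
    hd2.isoPullback_hom_fst
  have hpre : (dmap hX) ⁻¹' Set.range (pullback.diagonal f) =
      e.hom ⁻¹' (((pullback.fst f f ≫ f ≫ g).fiberι s) ⁻¹'
        Set.range (pullback.diagonal f)) := by
    ext z
    have hpt : dmap hX z = ((pullback.fst f f ≫ f ≫ g).fiberι s) (e.hom z) := by
      rw [← he, Scheme.Hom.comp_apply]
    simp only [Set.mem_preimage]
    rw [hpt]
  rw [hpre]
  exact (Scheme.homeoOfIso e).isClosed_preimage

theorem dichotomy_isSeparated {X Y S : Scheme.{u}} (f : X ⟶ Y) (g : Y ⟶ S) [IsIntegral S]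
    [IsNoetherian S] [LocallyOfFiniteType g] [QuasiCompact g] [LocallyOfFiniteType (f ≫ g)]
    [QuasiCompact (f ≫ g)] :
    (interior (ConsProp.locusMor (fun X Y T f g => IsSeparated f) f g)).Nonempty ∨
      (interior (ConsProp.locusMor (fun X Y T f g => IsSeparated f) f g)ᶜ).Nonempty := by
  haveI : IsLocallyNoetherian Y := LocallyOfFiniteType.isLocallyNoetherian g
  obtain ⟨_, _⟩ := Groth.Agent.Lib.Helper3.ForallFiber.ft_of_comp f g
  have e : ConsProp.locusMor (fun X Y T f g => IsSeparated f) f g =
      {s : S | IsClosed (((pullback.fst f f ≫ f ≫ g).fiberι s) ⁻¹'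
        Set.range (pullback.diagonal f))} := by
    ext s
    exact isSeparated_fiberMap_iff f g s
  rw [e]
  have hcomp : pullback.diagonal f ≫ pullback.fst f f ≫ f ≫ g = f ≫ g := by
    rw [pullback.diagonal_fst_assoc]
  haveI : LocallyOfFiniteType (pullback.diagonal f ≫ pullback.fst f f ≫ f ≫ g) := by
    rw [hcomp]; infer_instance
  haveI : QuasiCompact (pullback.diagonal f ≫ pullback.fst f f ≫ f ≫ g) := by
    rw [hcomp]; infer_instance
  exact dichotomy_closedRange (pullback.diagonal f) (pullback.fst f f ≫ f ≫ g)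

theorem isFieldStableMor_isSeparated :
    ConsProp.IsFieldStableMor.{u} (fun X Y T f g => IsSeparated f) := by
  intro X X' Y Y' T T' f g f' g' eX eY h _ _ _ _ _ _ _ _ hY hX
  have hfpqc : (@Surjective ⊓ @Flat ⊓ @QuasiCompact : MorphismProperty Scheme.{u}) eY :=
    MorphismProperty.of_isPullback hY.flip
      (Groth.Agent.Lib.Helper3.ConsOfLocus.fpqc_of_onePoint.{u} h)
  haveI : Surjective eY := hfpqc.1.1
  haveI : Flat eY := hfpqc.1.2
  haveI : QuasiCompact eY := hfpqc.2
  exact ⟨fun hf => MorphismProperty.of_isPullback (P := @IsSeparated) hX hf,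
    fun hf' => Groth.Agent.Lib.Helper12.Submersive.isSeparated_of_isPullback hX.flip
      (Groth.Agent.Lib.Helper12.Submersive.us_of_flat eY) hf'⟩

theorem isConsMor_isSeparated : ConsProp.IsConsMor.{u} (fun X Y T f g => IsSeparated f) :=
  ⟨isFieldStableMor_isSeparated, fun X Y S f g _ _ _ _ _ _ => dichotomy_isSeparated f g⟩

end Groth.Agent.Lib.Helper6.FibSep
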