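import Mathlib
import Groth.Agent.Lib.Helper6FibSub
import Groth.Agent.Lib.Helper6FibSep
import Groth.Agent.Lib.Helper26StalkLim
import Groth.Agent.S2074
import Groth.Agent.S9205

set_option autoImplicit false
set_option linter.style.haveILetI false
set_option linter.unusedVariables false
universe u
open CategoryTheory CategoryTheory.Limits AlgebraicGeometry Topology TopologicalSpace Opposite

namespace Groth.Agent.Lib.Helper6.FibProper

open Groth.Agent.Lib.Helper26.StalkLim Groth.Agent.Lib.Helper5.FibMorLoci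
  Groth.Agent.Lib.Helper6.FibSub Groth.Agent.Lib.Helper6.FibSep Groth.Agent.Lib.Helper6.FibDom
  Groth.Agent.Lib.Helper6.GenNowhere

/-- the residue map at the generic point of an integral scheme is an isomorphism. -/
theorem isIso_residue_genericPoint (S : Scheme.{u}) [IsIntegral S] :
    IsIso (S.residue (genericPoint S)) := by
  have hF : IsField (S.presheaf.stalk (genericPoint S)) :=
    (inferInstance : Field S.functionField).toIsField
  rw [ConcreteCategory.isIso_iff_bijective]
  refine ⟨?_, IsLocalRing.residue_surjective⟩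
  rw [injective_iff_map_eq_zero]
  intro a ha
  have : a ∈ IsLocalRing.maximalIdeal (S.presheaf.stalk (genericPoint S)) :=
    (IsLocalRing.residue_eq_zero_iff a).mp ha
  rw [IsLocalRing.isField_iff_maximalIdeal_eq.mp hF] at this
  exact this

/-- a property of morphisms stable under base change holds for the map of fibres over `s` if it
holds for a base change of `f` along `Y ×_S W ⟶ Y` with `W ⟶ S` an open immersion containing
`s` in its range. -/
theorem fiberMap_of_isPullback (Q : MorphismProperty Scheme.{u}) [Q.IsStableUnderBaseChange]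
    {X Y S W Xi Yi : Scheme.{u}} (f : X ⟶ Y) (g : Y ⟶ S) (j : W ⟶ S) [IsOpenImmersion j]
    {fi : Xi ⟶ Yi} {gi : Yi ⟶ W} {bY : Yi ⟶ Y} {bX : Xi ⟶ X}
    (hYi : IsPullback bY gi g j) (hXi : IsPullback bX fi f bY) (hfi : Q fi)
    (s : S) (hs : s ∈ Set.range j) : Q (MoreMor.fiberMap f g s) := by
  let t : Spec (S.residueField s) ⟶ W := IsOpenImmersion.lift j (S.fromSpecResidueField s) (by
    rw [Scheme.range_fromSpecResidueField]
    exact Set.singleton_subset_iff.mpr hs)
  have ht : t ≫ j = S.fromSpecResidueField s := IsOpenImmersion.lift_fac _ _ _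
  have hw : g.fiberι s ≫ g = (g.fiberToSpecResidueField s ≫ t) ≫ j := by
    rw [Category.assoc, ht]; exact pullback.condition
  let u : g.fiber s ⟶ Yi := hYi.lift (g.fiberι s) (g.fiberToSpecResidueField s ≫ t) hw
  have hu1 : u ≫ bY = g.fiberι s := hYi.lift_fst _ _ _
  have hw' : (f ≫ g).fiberι s ≫ f = (MoreMor.fiberMap f g s ≫ u) ≫ bY := by
    rw [Category.assoc, hu1]; exact (isPullback_fiberMap f g s).w
  let v : (f ≫ g).fiber s ⟶ Xi := hXi.lift ((f ≫ g).fiberι s) (MoreMor.fiberMap f g s ≫ u) hw'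
  have hv1 : v ≫ bX = (f ≫ g).fiberι s := hXi.lift_fst _ _ _
  have hv2 : v ≫ fi = MoreMor.fiberMap f g s ≫ u := hXi.lift_snd _ _ _
  have hbig : IsPullback (v ≫ bX) (MoreMor.fiberMap f g s) f (u ≫ bY) := by
    rw [hv1, hu1]; exact isPullback_fiberMap f g s
  have hsq : IsPullback v (MoreMor.fiberMap f g s) fi u := IsPullback.of_right hbig hv2 hXi
  exact MorphismProperty.of_isPullback hsq hfi

/-- positive direction: properness of the map of generic fibres spreads to the fibres over a
neighbourhood of the generic point. -/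
theorem exists_open_isProper {X Y S : Scheme.{u}} (f : X ⟶ Y) (g : Y ⟶ S) [IsIntegral S]
    [IsNoetherian S] [LocallyOfFiniteType g] [QuasiCompact g] [LocallyOfFiniteType (f ≫ g)]
    [QuasiCompact (f ≫ g)] (h : IsProper (MoreMor.fiberMap f g (genericPoint S))) :
    ∃ V : S.Opens, genericPoint S ∈ V ∧ ∀ s ∈ V, IsProper (MoreMor.fiberMap f g s) := by
  haveI : IsLocallyNoetherian Y := LocallyOfFiniteType.isLocallyNoetherian g
  obtain ⟨_, _⟩ := Groth.Agent.Lib.Helper3.ForallFiber.ft_of_comp f g
  set η := genericPoint S with hη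
  obtain ⟨a₀⟩ : Nonempty (AffNhd η) := inferInstance
  let i₀ : (AffNhd η)ᵒᵖ := op a₀
  let D := specDiagram η
  let c := specCone η
  let j₀ : D.obj i₀ ⟶ S := toX η i₀
  let Y₀ := pullback g j₀
  let g₀ : Y₀ ⟶ D.obj i₀ := pullback.snd g j₀
  let b₀ : Y₀ ⟶ Y := pullback.fst g j₀
  let X₀ := pullback f b₀
  let f₀ : X₀ ⟶ Y₀ := pullback.snd f b₀
  let a₀' : X₀ ⟶ X := pullback.fst f b₀
  haveI : QuasiCompact g₀ := MorphismProperty.pullback_snd _ _ inferInstance
  haveI : LocallyOfFiniteType g₀ := MorphismProperty.pullback_snd _ _ inferInstance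
  haveI : QuasiCompact f₀ := MorphismProperty.pullback_snd _ _ inferInstance
  haveI : LocallyOfFiniteType f₀ := MorphismProperty.pullback_snd _ _ inferInstance
  haveI : CompactSpace Y₀ := QuasiCompact.compactSpace_of_compactSpace g₀
  haveI : CompactSpace X₀ := QuasiCompact.compactSpace_of_compactSpace f₀
  haveI : IsLocallyNoetherian (D.obj i₀) := by
    haveI : IsOpenImmersion j₀ := inferInstanceAs (IsOpenImmersion (toX η i₀))
    exact LocallyOfFiniteType.isLocallyNoetherian j₀
  haveI : IsLocallyNoetherian Y₀ := LocallyOfFiniteType.isLocallyNoetherian g₀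
  haveI : IsLocallyNoetherian X₀ := LocallyOfFiniteType.isLocallyNoetherian f₀
  -- the generic fibre
  haveI := isIso_residue_genericPoint S
  let ρ : Spec (S.residueField η) ⟶ c.pt := Spec.map (S.residue η)
  haveI : IsIso ρ := inferInstanceAs (IsIso (Spec.map (S.residue η)))
  let g' : g.fiber η ⟶ c.pt := g.fiberToSpecResidueField η ≫ ρ
  have hρ : ρ ≫ S.fromSpecStalk η = S.fromSpecResidueField η := rfl
  have hπ : c.π.app i₀ ≫ j₀ = S.fromSpecStalk η := π_toX η i₀
  have hwY : g.fiberι η ≫ g = (g' ≫ c.π.app i₀) ≫ j₀ := by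
    rw [Category.assoc, hπ, Category.assoc, hρ]; exact pullback.condition
  let qY : g.fiber η ⟶ Y₀ := pullback.lift (g.fiberι η) (g' ≫ c.π.app i₀) hwY
  have hqY1 : qY ≫ b₀ = g.fiberι η := pullback.lift_fst _ _ _
  have hqY2 : qY ≫ g₀ = g' ≫ c.π.app i₀ := pullback.lift_snd _ _ _
  have hfib : IsPullback (g.fiberι η) (g.fiberToSpecResidueField η) g
      (S.fromSpecResidueField η) := IsPullback.of_hasPullback _ _
  have hfib' : IsPullback (g.fiberι η) g' g (S.fromSpecStalk η) :=
    IsPullback.of_iso hfib (Iso.refl _) (Iso.refl _) (asIso ρ) (Iso.refl _)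
      (by simp) (by simp [g']) (by simp) (by simp [hρ])
  have hY : IsPullback qY g' g₀ (c.π.app i₀) := by
    refine IsPullback.of_right ?_ hqY2 (IsPullback.of_hasPullback g j₀)
    rw [hqY1, hπ]; exact hfib'
  have hwX : (f ≫ g).fiberι η ≫ f = (MoreMor.fiberMap f g η ≫ qY) ≫ b₀ := by
    rw [Category.assoc, hqY1]; exact (isPullback_fiberMap f g η).w
  let qX : (f ≫ g).fiber η ⟶ X₀ :=
    pullback.lift ((f ≫ g).fiberι η) (MoreMor.fiberMap f g η ≫ qY) hwX
  have hqX1 : qX ≫ a₀' = (f ≫ g).fiberι η := pullback.lift_fst _ _ _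
  have hqX2 : qX ≫ f₀ = MoreMor.fiberMap f g η ≫ qY := pullback.lift_snd _ _ _
  have hX : IsPullback qX (MoreMor.fiberMap f g η) f₀ qY := by
    refine IsPullback.of_right ?_ hqX2 (IsPullback.of_hasPullback f b₀)
    rw [hqX1, hqY1]; exact isPullback_fiberMap f g η
  obtain ⟨i, φ, Xi, Yi, fi, gi, pY, pX, h1, h2, h3⟩ :=
    Groth.Agent.S2074.result D c (specIsLimit η) i₀ f₀ g₀ (MoreMor.fiberMap f g η) g' qY qX hY hX
  let j : D.obj i ⟶ S := toX η i
  haveI : IsOpenImmersion j := inferInstanceAs (IsOpenImmersion (toX η i))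
  have hj : D.map φ ≫ j₀ = j := map_toX η φ
  have hYi : IsPullback (pY ≫ b₀) gi g j := by
    have := h1.paste_horiz (IsPullback.of_hasPullback g j₀)
    rwa [hj] at this
  have hXi : IsPullback (pX ≫ a₀') fi f (pY ≫ b₀) := h2.paste_horiz (IsPullback.of_hasPullback f b₀)
  refine ⟨i.unop.U, i.unop.mem, fun s hs => ?_⟩
  refine fiberMap_of_isPullback @IsProper f g j hYi hXi h3 s ?_
  rw [show Set.range j = (i.unop.U : Set S) from range_toX η i]
  exact hs


/-- the map of fibres of a base change is a base change of the map of fibres. -/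
theorem exists_isPullback_fiberMap {X Y P X' S : Scheme.{u}} (f : X ⟶ Y) (g : Y ⟶ S) (p : P ⟶ Y)
    {φ : X' ⟶ P} {a : X' ⟶ X} (hsq : IsPullback a φ f p) (s : S) :
    ∃ v : (φ ≫ p ≫ g).fiber s ⟶ (f ≫ g).fiber s,
      IsPullback v (MoreMor.fiberMap φ (p ≫ g) s) (MoreMor.fiberMap f g s)
        (MoreMor.fiberMap p g s) := by
  have h1 := isPullback_fiberMap φ (p ≫ g) s
  have h2 := isPullback_fiberMap p g s
  have h3 := isPullback_fiberMap f g s
  have hw : ((φ ≫ p ≫ g).fiberι s ≫ a) ≫ f =
      (MoreMor.fiberMap φ (p ≫ g) s ≫ MoreMor.fiberMap p g s) ≫ g.fiberι s := by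
    have e1 : (φ ≫ p ≫ g).fiberι s ≫ φ = MoreMor.fiberMap φ (p ≫ g) s ≫ (p ≫ g).fiberι s := h1.w
    have e2 : (p ≫ g).fiberι s ≫ p = MoreMor.fiberMap p g s ≫ g.fiberι s := h2.w
    calc ((φ ≫ p ≫ g).fiberι s ≫ a) ≫ f = (φ ≫ p ≫ g).fiberι s ≫ (a ≫ f) := Category.assoc _ _ _
      _ = (φ ≫ p ≫ g).fiberι s ≫ (φ ≫ p) := congrArg (_ ≫ ·) hsq.w
      _ = ((φ ≫ p ≫ g).fiberι s ≫ φ) ≫ p := (Category.assoc _ _ _).symm
      _ = (MoreMor.fiberMap φ (p ≫ g) s ≫ (p ≫ g).fiberι s) ≫ p := congrArg (· ≫ p) e1
      _ = MoreMor.fiberMap φ (p ≫ g) s ≫ ((p ≫ g).fiberι s ≫ p) := Category.assoc _ _ _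
      _ = MoreMor.fiberMap φ (p ≫ g) s ≫ (MoreMor.fiberMap p g s ≫ g.fiberι s) :=
        congrArg (_ ≫ ·) e2
      _ = _ := (Category.assoc _ _ _).symm
  refine ⟨h3.lift _ _ hw, ?_⟩
  refine IsPullback.of_right ?_ (h3.lift_snd _ _ hw) h3
  rw [h3.lift_fst, ← h2.w]
  exact h1.paste_horiz hsq

/-- if the map of fibres `f_s` is universally closed, the image of a closed subset of a base
change of `X` has closed trace on the fibre. -/
theorem isClosed_tr_of_universallyClosed {X Y P X' S : Scheme.{u}} (f : X ⟶ Y) (g : Y ⟶ S)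
    (p : P ⟶ Y) {φ : X' ⟶ P} {a : X' ⟶ X} (hsq : IsPullback a φ f p) (C : Set X')
    (hC : IsClosed C) (s : S) (h : UniversallyClosed (MoreMor.fiberMap f g s)) :
    IsClosed (tr (p ≫ g) ((φ : X' → P) '' C) s) := by
  obtain ⟨v, hv⟩ := exists_isPullback_fiberMap f g p hsq s
  haveI : UniversallyClosed (MoreMor.fiberMap φ (p ≫ g) s) :=
    MorphismProperty.of_isPullback (P := @UniversallyClosed) hv h
  have h1 := isPullback_fiberMap φ (p ≫ g) s
  have := Scheme.image_preimage_eq_of_isPullback h1 C
  rw [tr, ← this]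
  exact (MoreMor.fiberMap φ (p ≫ g) s).isClosedMap _
    (hC.preimage ((φ ≫ p ≫ g).fiberι s).continuous)

/-- negative direction: if the map of generic fibres is not universally closed, neither are the
maps of fibres over a neighbourhood of the generic point. -/
theorem exists_open_not_universallyClosed {X Y S : Scheme.{u}} (f : X ⟶ Y) (g : Y ⟶ S)
    [IsIntegral S] [IsNoetherian S] [LocallyOfFiniteType g] [QuasiCompact g]
    [LocallyOfFiniteType (f ≫ g)] [QuasiCompact (f ≫ g)]
    (h : ¬ UniversallyClosed (MoreMor.fiberMap f g (genericPoint S))) :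
    (interior {s : S | UniversallyClosed (MoreMor.fiberMap f g s)}ᶜ).Nonempty := by
  haveI : IsLocallyNoetherian Y := LocallyOfFiniteType.isLocallyNoetherian g
  obtain ⟨_, _⟩ := Groth.Agent.Lib.Helper3.ForallFiber.ft_of_comp f g
  set η := genericPoint S with hη
  set fη := MoreMor.fiberMap f g η with hfη
  haveI : QuasiCompact fη :=
    MorphismProperty.of_isPullback (P := @QuasiCompact) (isPullback_fiberMap f g η) inferInstance
  obtain ⟨n, hn⟩ : ∃ n : ℕ, ¬ IsClosedMap
      (pullback.snd fη (𝔸(ULift.{u} (Fin n); g.fiber η) ↘ g.fiber η)).base := by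
    by_contra hcon
    push Not at hcon
    exact h ((Groth.Agent.S9205.result fη).2.mpr hcon)
  obtain ⟨C₀, hC₀, hC₀'⟩ : ∃ C₀ : Set ↥(pullback fη (𝔸(ULift.{u} (Fin n); g.fiber η) ↘ g.fiber η)),
      IsClosed C₀ ∧ ¬ IsClosed
        ((pullback.snd fη (𝔸(ULift.{u} (Fin n); g.fiber η) ↘ g.fiber η)) '' C₀) := by
    by_contra hcon
    push Not at hcon
    exact hn (fun C hC => hcon C hC)
  -- the finite type model
  let p : 𝔸(ULift.{u} (Fin n); Y) ⟶ Y := 𝔸(ULift.{u} (Fin n); Y) ↘ Y
  let q : 𝔸(ULift.{u} (Fin n); g.fiber η) ⟶ g.fiber η := 𝔸(ULift.{u} (Fin n); g.fiber η) ↘ g.fiber η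
  let q' : 𝔸(ULift.{u} (Fin n); g.fiber η) ⟶ 𝔸(ULift.{u} (Fin n); Y) :=
    AffineSpace.map (ULift.{u} (Fin n)) (g.fiberι η)
  have hq : IsPullback q' q p (g.fiberι η) := AffineSpace.isPullback_map _
  let φ : pullback f p ⟶ 𝔸(ULift.{u} (Fin n); Y) := pullback.snd f p
  have hsq : IsPullback (pullback.fst f p) φ f p := IsPullback.of_hasPullback f p
  haveI : LocallyOfFiniteType p := inferInstance
  haveI : QuasiCompact p := inferInstance
  haveI : LocallyOfFiniteType φ := MorphismProperty.pullback_snd _ _ inferInstance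
  haveI : QuasiCompact φ := MorphismProperty.pullback_snd _ _ inferInstance
  haveI : LocallyOfFiniteType (p ≫ g) := inferInstance
  haveI : QuasiCompact (p ≫ g) := inferInstance
  haveI : LocallyOfFiniteType (φ ≫ p ≫ g) := inferInstance
  haveI : QuasiCompact (φ ≫ p ≫ g) := inferInstance
  haveI : IsLocallyNoetherian (𝔸(ULift.{u} (Fin n); Y) : Scheme.{u}) :=
    LocallyOfFiniteType.isLocallyNoetherian (p ≫ g)
  haveI : CompactSpace (𝔸(ULift.{u} (Fin n); Y) : Scheme.{u}) :=
    QuasiCompact.compactSpace_of_compactSpace (p ≫ g)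
  haveI : IsNoetherian (𝔸(ULift.{u} (Fin n); Y) : Scheme.{u}) := {}
  haveI : IsLocallyNoetherian (pullback f p) := LocallyOfFiniteType.isLocallyNoetherian φ
  haveI : CompactSpace ↥(pullback f p) := QuasiCompact.compactSpace_of_compactSpace φ
  haveI : IsNoetherian (pullback f p) := {}
  -- the comparison map `r`
  have h3 := isPullback_fiberMap f g η
  have hwr : (pullback.fst fη q ≫ (f ≫ g).fiberι η) ≫ f = (pullback.snd fη q ≫ q') ≫ p := by
    rw [Category.assoc, h3.w, ← Category.assoc, pullback.condition, Category.assoc,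
      Category.assoc, hq.w]
  let r : pullback fη q ⟶ pullback f p := pullback.lift _ _ hwr
  have hr1 : r ≫ pullback.fst f p = pullback.fst fη q ≫ (f ≫ g).fiberι η := pullback.lift_fst _ _ _
  have hr2 : r ≫ φ = pullback.snd fη q ≫ q' := pullback.lift_snd _ _ _
  have hr : IsPullback r (pullback.snd fη q) φ q' := by
    refine IsPullback.of_right ?_ hr2 hsq
    rw [hr1, hq.w]
    exact (IsPullback.of_hasPullback fη q).paste_horiz h3
  haveI : IsPreimmersion (g.fiberι η) := MorphismProperty.pullback_fst _ _ inferInstance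
  haveI : IsPreimmersion q' := MorphismProperty.of_isPullback (P := @IsPreimmersion) hq.flip
    inferInstance
  haveI : IsPreimmersion r := MorphismProperty.of_isPullback (P := @IsPreimmersion) hr.flip
    inferInstance
  -- the closed set and its image
  set C : Set ↥(pullback f p) := closure ((r : _ → _) '' C₀) with hCdef
  have hCcl : IsClosed C := isClosed_closure
  have hrC : (r : _ → _) ⁻¹' C = C₀ := by
    rw [hCdef, ← r.isEmbedding.isInducing.closure_eq_preimage_closure_image, hC₀.closure_eq]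
  have hCcons : IsConstructible C := by
    have := Groth.Agent.Lib.Helper5.LocusGeneric.IsOpen.isConstructible_of_noetherianSpace
      hCcl.isOpen_compl
    simpa using this.compl
  have hD : IsConstructible ((φ : _ → _) '' C) := φ.isConstructible_image hCcons
  -- trace on the generic fibre is not closed
  have hgen : ¬ IsClosed (tr (p ≫ g) ((φ : _ → _) '' C) η) := by
    have hfib : IsPullback (g.fiberι η) (g.fiberToSpecResidueField η) g
        (S.fromSpecResidueField η) := IsPullback.of_hasPullback _ _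
    have hbig : IsPullback q' (q ≫ g.fiberToSpecResidueField η) (p ≫ g)
        (S.fromSpecResidueField η) := hq.paste_vert hfib
    let e : 𝔸(ULift.{u} (Fin n); g.fiber η) ≅ (p ≫ g).fiber η := hbig.isoPullback
    have he : e.hom ≫ (p ≫ g).fiberι η = q' := hbig.isoPullback_hom_fst
    intro hcl
    apply hC₀'
    have h5 := Scheme.image_preimage_eq_of_isPullback hr C
    rw [hrC] at h5
    rw [h5]
    have h6 : (q' : _ → _) ⁻¹' ((φ : _ → _) '' C) =
        (e.hom : _ → _) ⁻¹' (tr (p ≫ g) ((φ : _ → _) '' C) η) := by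
      ext z
      have hpt : q' z = ((p ≫ g).fiberι η) (e.hom z) := by
        rw [← he, Scheme.Hom.comp_apply]
      simp only [Set.mem_preimage, tr]
      rw [hpt]
    rw [h6]
    exact hcl.preimage e.hom.continuous
  -- conclusion
  rcases dichotomy_closed (p ≫ g) ((φ : _ → _) '' C) hD with h1 | h1
  · exfalso
    have h2 := ((genericPoint_spec S).mem_open_set_iff isOpen_interior).mpr
      (by rw [Set.univ_inter]; exact h1)
    exact hgen (interior_subset h2 :
      genericPoint S ∈ {s : S | IsClosed (tr (p ≫ g) ((φ : _ → _) '' C) s)})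
  · refine h1.mono (interior_mono ?_)
    intro s hs hs'
    exact hs (isClosed_tr_of_universallyClosed f g p hsq C hCcl s hs')


theorem isFieldStableMor_isProper :
    ConsProp.IsFieldStableMor.{u} (fun X Y T f g => IsProper f) := by
  intro X X' Y Y' T T' f g f' g' eX eY h _ _ _ _ _ _ _ _ hY hX
  have hfpqc : (@Surjective ⊓ @Flat ⊓ @QuasiCompact : MorphismProperty Scheme.{u}) eY :=
    MorphismProperty.of_isPullback hY.flip
      (Groth.Agent.Lib.Helper3.ConsOfLocus.fpqc_of_onePoint.{u} h)
  haveI : Surjective eY := hfpqc.1.1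
  haveI : Flat eY := hfpqc.1.2
  haveI : QuasiCompact eY := hfpqc.2
  refine ⟨fun hf => MorphismProperty.of_isPullback (P := @IsProper) hX hf, fun hf' => ?_⟩
  haveI : IsLocallyNoetherian T := isLocallyNoetherian_of_onePoint T
  haveI : IsLocallyNoetherian Y := LocallyOfFiniteType.isLocallyNoetherian g
  obtain ⟨_, _⟩ := Groth.Agent.Lib.Helper3.ForallFiber.ft_of_comp f g
  haveI : IsSeparated f :=
    Groth.Agent.Lib.Helper12.Submersive.isSeparated_of_isPullback hX.flip
      (Groth.Agent.Lib.Helper12.Submersive.us_of_flat eY) inferInstance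
  haveI : UniversallyClosed f :=
    MorphismProperty.of_isPullback_of_descendsAlong (P := @UniversallyClosed)
      (Q := @Surjective ⊓ @Flat ⊓ @QuasiCompact) hX.flip hfpqc inferInstance
  exact {}

theorem dichotomy_isProper {X Y S : Scheme.{u}} (f : X ⟶ Y) (g : Y ⟶ S) [IsIntegral S]
    [IsNoetherian S] [LocallyOfFiniteType g] [QuasiCompact g] [LocallyOfFiniteType (f ≫ g)]
    [QuasiCompact (f ≫ g)] :
    (interior (ConsProp.locusMor (fun X Y T f g => IsProper f) f g)).Nonempty ∨
      (interior (ConsProp.locusMor (fun X Y T f g => IsProper f) f g)ᶜ).Nonempty := by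
  haveI : IsLocallyNoetherian Y := LocallyOfFiniteType.isLocallyNoetherian g
  obtain ⟨_, _⟩ := Groth.Agent.Lib.Helper3.ForallFiber.ft_of_comp f g
  set η := genericPoint S with hη
  have hlft : ∀ s, LocallyOfFiniteType (MoreMor.fiberMap f g s) := fun s =>
    MorphismProperty.of_isPullback (P := @LocallyOfFiniteType) (isPullback_fiberMap f g s)
      inferInstance
  by_cases hp : IsProper (MoreMor.fiberMap f g η)
  · left
    obtain ⟨V, hV, hVp⟩ := exists_open_isProper f g hp
    exact ⟨η, mem_interior.mpr ⟨V, fun s hs => hVp s hs, V.2, hV⟩⟩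
  · right
    by_cases hsep : IsSeparated (MoreMor.fiberMap f g η)
    · have huc : ¬ UniversallyClosed (MoreMor.fiberMap f g η) := fun huc => hp (by
        haveI := hsep; haveI := huc; haveI := hlft η; exact {})
      refine (exists_open_not_universallyClosed f g huc).mono (interior_mono ?_)
      intro s hs hs'
      exact hs (hs' : IsProper (MoreMor.fiberMap f g s)).toUniversallyClosed
    · rcases dichotomy_isSeparated f g with h1 | h1
      · exfalso
        have h2 := ((genericPoint_spec S).mem_open_set_iff isOpen_interior).mpr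
          (by rw [Set.univ_inter]; exact h1)
        exact hsep (interior_subset h2 :
          genericPoint S ∈ ConsProp.locusMor (fun X Y T f g => IsSeparated f) f g)
      · refine h1.mono (interior_mono ?_)
        intro s hs hs'
        exact hs ((hs' : IsProper (MoreMor.fiberMap f g s)).toIsSeparated)

theorem isConsMor_isProper : ConsProp.IsConsMor.{u} (fun X Y T f g => IsProper f) :=
  ⟨isFieldStableMor_isProper, fun X Y S f g _ _ _ _ _ _ => dichotomy_isProper f g⟩

end Groth.Agent.Lib.Helper6.FibProper
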