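import Mathlib
import Groth.Agent.Lib.Helper6FibProper
import Groth.Agent.S2576

set_option autoImplicit false
set_option linter.style.haveILetI false
set_option linter.unusedVariables false
universe u
open CategoryTheory CategoryTheory.Limits AlgebraicGeometry Topology TopologicalSpace Opposite

namespace Groth.Agent.Lib.Helper6.FibImm

open Groth.Agent.Lib.Helper5.FibMorLoci
  Groth.Agent.Lib.Helper6.FibSub Groth.Agent.Lib.Helper6.FibSep Groth.Agent.Lib.Helper6.FibDom
  Groth.Agent.Lib.Helper6.GenNowhere Groth.Agent.Lib.Helper6.FibProper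

/-- a morphism whose range lies in the range of an open immersion `j`, with closed trace, is an
immersion iff its base change along `j` is a closed immersion. -/
theorem isImmersion_iff_of_isPullback {A B W A' : Scheme.{u}} {φ : A ⟶ B} {j : W ⟶ B}
    [IsOpenImmersion j] {v : A' ⟶ A} {φ' : A' ⟶ W} (h : IsPullback v φ' φ j)
    (hr : Set.range φ ⊆ Set.range j) (hcl : IsClosed ((j : W → B) ⁻¹' Set.range φ)) :
    IsImmersion φ ↔ IsClosedImmersion φ' := by
  haveI : IsOpenImmersion v := MorphismProperty.of_isPullback (P := @IsOpenImmersion) h.flip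
    inferInstance
  have hrv : Set.range v = Set.univ := by
    have := Scheme.image_preimage_eq_of_isPullback h.flip Set.univ
    rw [Set.preimage_univ, Set.image_univ, Set.image_univ] at this
    rw [this, Set.eq_univ_iff_forall]
    intro a
    exact hr ⟨a, rfl⟩
  haveI : IsIso v := isIso_of_isOpenImmersion_of_opensRange_eq_top v
    (TopologicalSpace.Opens.ext hrv)
  have hrφ' : Set.range φ' = (j : W → B) ⁻¹' Set.range φ := by
    have := Scheme.image_preimage_eq_of_isPullback h Set.univ
    rwa [Set.preimage_univ, Set.image_univ, Set.image_univ] at this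
  constructor
  · intro hφ
    haveI : IsImmersion φ' := MorphismProperty.of_isPullback (P := @IsImmersion) h hφ
    exact IsClosedImmersion.of_isPreimmersion φ' (hrφ' ▸ hcl)
  · intro hφ'
    have : φ = inv v ≫ φ' ≫ j := by
      rw [IsIso.eq_inv_comp]; exact h.w
    rw [this]
    infer_instance

/-- the map of fibres of an open immersion `V ⟶ Y` is an open immersion onto the trace of `V`. -/
theorem fiberMap_ι {Y S : Scheme.{u}} (g : Y ⟶ S) (V : Y.Opens) (s : S) :
    IsOpenImmersion (MoreMor.fiberMap V.ι g s) ∧
      Set.range (MoreMor.fiberMap V.ι g s) = tr g (V : Set Y) s := by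
  have h1 := isPullback_fiberMap V.ι g s
  refine ⟨MorphismProperty.of_isPullback (P := @IsOpenImmersion) h1 inferInstance, ?_⟩
  have := Scheme.image_preimage_eq_of_isPullback h1 Set.univ
  rw [Set.preimage_univ, Set.image_univ, Set.image_univ, Scheme.Opens.range_ι] at this
  exact this

/-- fibrewise criterion: if the trace of `V` on the fibre is the coborder of the (locally closed)
range of `f_s`, then `f_s` is an immersion iff `(f ∣_ V)_s` is a closed immersion. -/
theorem isImmersion_fiberMap_iff {X Y S : Scheme.{u}} (f : X ⟶ Y) (g : Y ⟶ S) (V : Y.Opens)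
    (s : S) (hV : tr g (V : Set Y) s = coborder (tr g (Set.range f) s)) :
    IsImmersion (MoreMor.fiberMap f g s) ↔
      IsClosedImmersion (MoreMor.fiberMap (f ∣_ V) (V.ι ≫ g) s) := by
  obtain ⟨v, hv⟩ := exists_isPullback_fiberMap f g V.ι (isPullback_morphismRestrict f V).flip s
  obtain ⟨hj, hjr⟩ := fiberMap_ι g V s
  haveI := hj
  have hrf : Set.range (MoreMor.fiberMap f g s) = tr g (Set.range f) s := range_fiberMap f g s
  refine isImmersion_iff_of_isPullback hv ?_ ?_
  · rw [hjr, hV, hrf]; exact subset_coborder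
  · have : ((MoreMor.fiberMap V.ι g s : _ → _) ⁻¹' Set.range (MoreMor.fiberMap f g s)) =
        (MoreMor.fiberMap V.ι g s : _ → _) ⁻¹' closure (tr g (Set.range f) s) := by
      ext z
      simp only [Set.mem_preimage]
      rw [hrf]
      constructor
      · intro hz; exact subset_closure hz
      · intro hz
        have hz' : MoreMor.fiberMap V.ι g s z ∈ coborder (tr g (Set.range f) s) := by
          rw [← hV, ← hjr]; exact ⟨z, rfl⟩
        have := coborder_inter_closure (s := tr g (Set.range f) s)
        rw [← this]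
        exact ⟨hz', hz⟩
    rw [this]
    exact isClosed_closure.preimage (MoreMor.fiberMap V.ι g s).continuous


/-- dichotomy for a locally constructible locus on an integral Noetherian scheme. -/
theorem dichotomy_of_isLocallyConstructible {S : Scheme.{u}} [IsIntegral S] [IsNoetherian S]
    (E : Set S) (hE : IsLocallyConstructible E) :
    (interior E).Nonempty ∨ (interior Eᶜ).Nonempty :=
  Groth.Agent.Lib.Helper3.ConsOfLocus.interior_nonempty_or_of_isConstructible hE.isConstructible

theorem dichotomy_isClosedImmersion {X Y S : Scheme.{u}} (f : X ⟶ Y) (g : Y ⟶ S) [IsIntegral S]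
    [IsNoetherian S] [LocallyOfFiniteType g] [QuasiCompact g] [LocallyOfFiniteType (f ≫ g)]
    [QuasiCompact (f ≫ g)] :
    (interior {s : S | IsClosedImmersion (MoreMor.fiberMap f g s)}).Nonempty ∨
      (interior {s : S | IsClosedImmersion (MoreMor.fiberMap f g s)}ᶜ).Nonempty := by
  haveI : IsLocallyNoetherian Y := LocallyOfFiniteType.isLocallyNoetherian g
  haveI : IsLocallyNoetherian X := LocallyOfFiniteType.isLocallyNoetherian (f ≫ g)
  haveI : LocallyOfFinitePresentation g := inferInstance
  haveI : LocallyOfFinitePresentation (f ≫ g) := inferInstance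
  haveI : QuasiSeparated g := inferInstance
  haveI : QuasiSeparated (f ≫ g) := inferInstance
  exact dichotomy_of_isLocallyConstructible _ (Groth.Agent.S2576.result f g)


theorem isConstructible_of_isClosed {X : Scheme.{u}} [IsNoetherian X] {C : Set X}
    (hC : IsClosed C) : IsConstructible C := by
  have := Groth.Agent.Lib.Helper5.LocusGeneric.IsOpen.isConstructible_of_noetherianSpace
    hC.isOpen_compl
  simpa using this.compl

theorem dichotomy_isImmersion {X Y S : Scheme.{u}} (f : X ⟶ Y) (g : Y ⟶ S) [IsIntegral S]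
    [IsNoetherian S] [LocallyOfFiniteType g] [QuasiCompact g] [LocallyOfFiniteType (f ≫ g)]
    [QuasiCompact (f ≫ g)] :
    (interior (ConsProp.locusMor (fun X Y T f g => IsImmersion f) f g)).Nonempty ∨
      (interior (ConsProp.locusMor (fun X Y T f g => IsImmersion f) f g)ᶜ).Nonempty := by
  haveI : IsLocallyNoetherian Y := LocallyOfFiniteType.isLocallyNoetherian g
  haveI : CompactSpace Y := QuasiCompact.compactSpace_of_compactSpace g
  haveI : IsNoetherian Y := {}
  haveI : IsLocallyNoetherian X := LocallyOfFiniteType.isLocallyNoetherian (f ≫ g)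
  obtain ⟨_, _⟩ := Groth.Agent.Lib.Helper3.ForallFiber.ft_of_comp f g
  set η := genericPoint S with hη
  set A : Set Y := Set.range f with hA
  have hAc : IsConstructible A := by
    have := f.isConstructible_image IsConstructible.univ
    rwa [Set.image_univ] at this
  have hclA : IsConstructible (closure A) := isConstructible_of_isClosed isClosed_closure
  set B : Set Y := closure A \ A with hB
  have hBc : IsConstructible B := hclA.sdiff hAc
  let V : Y.Opens := ⟨(closure B)ᶜ, isClosed_closure.isOpen_compl⟩
  rcases dichotomy_locallyClosed g A hAc with h1 | h1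
  · -- locally closed range near the generic point
    obtain ⟨U₂, hU₂, hU₂c⟩ := exists_open_closure_comm g A hAc
    obtain ⟨U₃, hU₃, hU₃c⟩ := exists_open_closure_comm g B hBc
    have hη1 : η ∈ interior {s : S | IsLocallyClosed (tr g A s)} :=
      ((genericPoint_spec S).mem_open_set_iff isOpen_interior).mpr
        (by rw [Set.univ_inter]; exact h1)
    let U : S.Opens := ⟨interior {s : S | IsLocallyClosed (tr g A s)}, isOpen_interior⟩ ⊓ U₂ ⊓ U₃
    have hηU : η ∈ U := ⟨⟨hη1, hU₂⟩, hU₃⟩
    haveI : QuasiCompact V.ι := inferInstance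
    haveI : LocallyOfFiniteType (V.ι ≫ g) := inferInstance
    haveI : QuasiCompact (V.ι ≫ g) := inferInstance
    haveI : LocallyOfFiniteType (f ∣_ V) := inferInstance
    haveI : QuasiCompact (f ∣_ V) := inferInstance
    haveI : LocallyOfFiniteType ((f ∣_ V) ≫ V.ι ≫ g) := inferInstance
    haveI : QuasiCompact ((f ∣_ V) ≫ V.ι ≫ g) := inferInstance
    refine dichotomy_congr U hηU _ _ (fun s hs => ?_)
      (dichotomy_isClosedImmersion (f ∣_ V) (V.ι ≫ g))
    obtain ⟨⟨hs1, hs2⟩, hs3⟩ := hs
    have hlc : IsLocallyClosed (tr g A s) :=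
      (interior_subset (show s ∈ interior {s : S | IsLocallyClosed (tr g A s)} from hs1) :
        s ∈ {s : S | IsLocallyClosed (tr g A s)})
    have hcA : closure (tr g A s) = tr g (closure A) s := tr_closure_eq g (hU₂c s hs2)
    have hcB : closure (tr g B s) = tr g (closure B) s := tr_closure_eq g (hU₃c s hs3)
    have hBs : tr g B s = closure (tr g A s) \ tr g A s := by
      rw [hcA]; rfl
    have hBcl : IsClosed (tr g B s) := by
      rw [hBs, ← isOpen_compl_iff]
      exact hlc.isOpen_coborder
    have hV : tr g (V : Set Y) s = coborder (tr g A s) := by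
      show tr g (closure B)ᶜ s = coborder (tr g A s)
      rw [coborder, ← hBs, ← hBcl.closure_eq, hcB]
      rfl
    exact isImmersion_fiberMap_iff f g V s hV
  · right
    refine h1.mono (interior_mono ?_)
    intro s hs hs'
    apply hs
    have : IsImmersion (MoreMor.fiberMap f g s) := hs'
    have h2 := (MoreMor.fiberMap f g s).isLocallyClosed_range
    rwa [range_fiberMap] at h2


theorem isClosed_preimage_of_range_subset_coborder {W B : Type*} [TopologicalSpace W]
    [TopologicalSpace B] (j : W → B) (hj : Continuous j) (A : Set B)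
    (h : Set.range j ⊆ coborder A) : IsClosed (j ⁻¹' A) := by
  have : j ⁻¹' A = j ⁻¹' closure A := by
    ext z
    simp only [Set.mem_preimage]
    constructor
    · intro hz; exact subset_closure hz
    · intro hz
      have := coborder_inter_closure (s := A)
      rw [← this]
      exact ⟨h ⟨z, rfl⟩, hz⟩
  rw [this]
  exact isClosed_closure.preimage hj

theorem mono_descendsAlong :
    (MorphismProperty.monomorphisms Scheme.{u}).DescendsAlong
      (@Surjective ⊓ @Flat ⊓ @QuasiCompact) := by
  rw [← MorphismProperty.diagonal_isomorphisms]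
  infer_instance

/-- closed immersions descend along fpqc base change. -/
theorem isClosedImmersion_of_isPullback {X X' Y Y' : Scheme.{u}} {f : X ⟶ Y} {f' : X' ⟶ Y'}
    {eX : X' ⟶ X} {eY : Y' ⟶ Y} (hX : IsPullback eX f' f eY)
    (hfpqc : (@Surjective ⊓ @Flat ⊓ @QuasiCompact : MorphismProperty Scheme.{u}) eY)
    (h : IsClosedImmersion f') : IsClosedImmersion f := by
  haveI : Surjective eY := hfpqc.1.1
  haveI : Flat eY := hfpqc.1.2
  haveI : QuasiCompact eY := hfpqc.2
  rw [IsClosedImmersion.iff_isProper_and_mono] at h ⊢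
  obtain ⟨hp, hm⟩ := h
  haveI : IsSeparated f :=
    Groth.Agent.Lib.Helper12.Submersive.isSeparated_of_isPullback hX.flip
      (Groth.Agent.Lib.Helper12.Submersive.us_of_flat eY) inferInstance
  haveI : UniversallyClosed f :=
    MorphismProperty.of_isPullback_of_descendsAlong (P := @UniversallyClosed)
      (Q := @Surjective ⊓ @Flat ⊓ @QuasiCompact) hX.flip hfpqc inferInstance
  haveI : LocallyOfFiniteType f :=
    MorphismProperty.of_isPullback_of_descendsAlong (P := @LocallyOfFiniteType)
      (Q := @Surjective ⊓ @Flat ⊓ @QuasiCompact) hX.flip hfpqc inferInstance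
  refine ⟨{}, ?_⟩
  haveI := mono_descendsAlong.{u}
  exact MorphismProperty.of_isPullback_of_descendsAlong
    (P := MorphismProperty.monomorphisms Scheme.{u})
    (Q := @Surjective ⊓ @Flat ⊓ @QuasiCompact) hX.flip hfpqc hm

/-- immersions descend along open fpqc base change. -/
theorem isImmersion_of_isPullback {X X' Y Y' : Scheme.{u}} {f : X ⟶ Y} {f' : X' ⟶ Y'}
    {eX : X' ⟶ X} {eY : Y' ⟶ Y} (hX : IsPullback eX f' f eY)
    (hfpqc : (@Surjective ⊓ @Flat ⊓ @QuasiCompact : MorphismProperty Scheme.{u}) eY)
    (hopen : IsOpenMap eY) (h : IsImmersion f') : IsImmersion f := by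
  haveI : Surjective eY := hfpqc.1.1
  have hr : Set.range f' = eY ⁻¹' Set.range f := by
    have := Scheme.image_preimage_eq_of_isPullback hX Set.univ
    rw [Set.preimage_univ, Set.image_univ, Set.image_univ] at this
    exact this
  have hlc : IsLocallyClosed (Set.range f) := by
    have := f'.isLocallyClosed_range
    rw [hr] at this
    exact (isTopInv_locallyClosed.inv eY eY.continuous hopen eY.surjective _ (Set.range f)).mp this
  let V : Y.Opens := ⟨coborder (Set.range f), hlc.isOpen_coborder⟩
  have sq3 : IsPullback (f ⁻¹ᵁ V).ι (f ∣_ V) f V.ι := (isPullback_morphismRestrict f V).flip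
  have hL : IsImmersion f ↔ IsClosedImmersion (f ∣_ V) := by
    refine isImmersion_iff_of_isPullback sq3 ?_ ?_
    · rw [Scheme.Opens.range_ι]; exact subset_coborder
    · refine isClosed_preimage_of_range_subset_coborder _ V.ι.continuous _ ?_
      rw [Scheme.Opens.range_ι]
      exact subset_rfl
  rw [hL]
  let V' : Y'.Opens := eY ⁻¹ᵁ V
  have sq1 : IsPullback (f' ⁻¹ᵁ V').ι (f' ∣_ V') f' V'.ι :=
    (isPullback_morphismRestrict f' V').flip
  have hV' : (V' : Set Y') = coborder (Set.range f') := by
    rw [hr, coborder_preimage hopen eY.continuous]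
    rfl
  have hL' : IsImmersion f' ↔ IsClosedImmersion (f' ∣_ V') := by
    refine isImmersion_iff_of_isPullback sq1 ?_ ?_
    · rw [Scheme.Opens.range_ι, hV']; exact subset_coborder
    · refine isClosed_preimage_of_range_subset_coborder _ V'.ι.continuous _ ?_
      rw [Scheme.Opens.range_ι, hV']
  have hcl' : IsClosedImmersion (f' ∣_ V') := hL'.mp h
  have hι : V'.ι ≫ eY = (eY ∣_ V) ≫ V.ι := (morphismRestrict_ι eY V).symm
  have big : IsPullback ((f' ⁻¹ᵁ V').ι ≫ eX) (f' ∣_ V') f ((eY ∣_ V) ≫ V.ι) := by
    rw [← hι]; exact sq1.paste_horiz hX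
  let w : (f' ⁻¹ᵁ V').toScheme ⟶ (f ⁻¹ᵁ V).toScheme :=
    sq3.lift ((f' ⁻¹ᵁ V').ι ≫ eX) ((f' ∣_ V') ≫ (eY ∣_ V))
      (big.w.trans (Category.assoc _ _ _).symm)
  have hw1 : w ≫ (f ⁻¹ᵁ V).ι = (f' ⁻¹ᵁ V').ι ≫ eX := sq3.lift_fst _ _ _
  have hw2 : w ≫ (f ∣_ V) = (f' ∣_ V') ≫ (eY ∣_ V) := sq3.lift_snd _ _ _
  have hsq : IsPullback w (f' ∣_ V') (f ∣_ V) (eY ∣_ V) := by
    refine IsPullback.of_right ?_ hw2 sq3
    rw [hw1]; exact big
  have hfpqc' : (@Surjective ⊓ @Flat ⊓ @QuasiCompact : MorphismProperty Scheme.{u}) (eY ∣_ V) :=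
    MorphismProperty.of_isPullback (isPullback_morphismRestrict eY V).flip hfpqc
  exact isClosedImmersion_of_isPullback hsq hfpqc' hcl'

theorem isFieldStableMor_isImmersion :
    ConsProp.IsFieldStableMor.{u} (fun X Y T f g => IsImmersion f) := by
  intro X X' Y Y' T T' f g f' g' eX eY h _ _ _ _ _ _ _ _ hY hX
  have hfpqc : (@Surjective ⊓ @Flat ⊓ @QuasiCompact : MorphismProperty Scheme.{u}) eY :=
    MorphismProperty.of_isPullback hY.flip
      (Groth.Agent.Lib.Helper3.ConsOfLocus.fpqc_of_onePoint.{u} h)
  haveI : UniversallyOpen h := inferInstance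
  haveI : UniversallyOpen eY := MorphismProperty.of_isPullback hY.flip inferInstance
  exact ⟨fun hf => MorphismProperty.of_isPullback (P := @IsImmersion) hX hf,
    fun hf' => isImmersion_of_isPullback hX hfpqc eY.isOpenMap hf'⟩

theorem isConsMor_isImmersion : ConsProp.IsConsMor.{u} (fun X Y T f g => IsImmersion f) :=
  ⟨isFieldStableMor_isImmersion, fun X Y S f g _ _ _ _ _ _ => dichotomy_isImmersion f g⟩

end Groth.Agent.Lib.Helper6.FibImm
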