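import Mathlib
import Groth.Agent.Lib.Helper6FibSkOpen

set_option autoImplicit false
set_option linter.style.haveILetI false
set_option linter.unusedVariables false
universe u
open CategoryTheory CategoryTheory.Limits AlgebraicGeometry Topology TopologicalSpace IsLocalRing
  TensorProduct

namespace Groth.Agent.Lib.Helper6.FibSkOpenB

open Groth.Agent.Lib.Helper6.FibNormal Groth.Agent.Lib.Helper6.FibSkOpen

variable {X Y : Scheme.{u}} (f : X ⟶ Y)

/-- transport of a property of fibre local rings along equality of base points. -/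
theorem fiber_stalk_transport (Q : ∀ (R : Type u) [CommRing R], Prop) {y₁ y₂ : Y} (hy : y₁ = y₂)
    (z₁ : f.fiber y₁) (z₂ : f.fiber y₂) (hz : f.fiberι y₁ z₁ = f.fiberι y₂ z₂) :
    Q ((f.fiber y₁).presheaf.stalk z₁) ↔ Q ((f.fiber y₂).presheaf.stalk z₂) := by
  subst hy
  obtain rfl : z₁ = z₂ := (f.fiberι y₁).isEmbedding.injective hz
  exact Iff.rfl

/-- the locus in the base of fibres all of whose points lie in a pointwise fibre locus. -/
theorem forall_fiber_iff (Q : ∀ (R : Type u) [CommRing R], Prop) (y : Y) :
    (∀ x' : ↥(f.fiber y), Q ((f.fiber y).presheaf.stalk x')) ↔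
      ∀ x : X, f x = y → Q ((f.fiber (f.base x)).presheaf.stalk (f.asFiber x)) := by
  constructor
  · intro h x hx
    subst hx
    exact h (f.asFiber x)
  · intro h x'
    have hx : f (f.fiberι y x') = y := by
      have := Set.mem_range_self (f := f.fiberι y) x'
      rw [Scheme.Hom.range_fiberι] at this
      exact this
    have h1 := h (f.fiberι y x') hx
    exact (fiber_stalk_transport f Q hx (f.asFiber (f.fiberι y x')) x'
      (f.fiberι_asFiber _)).mp h1

/-- **EGA IV 12.2.1-type**: for `f` proper, flat and locally of finite presentation, the set of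
points of the base whose fibre satisfies `(S_k)` is open. -/
theorem isOpen_forall_sk [IsProper f] [Flat f] [LocallyOfFinitePresentation f] (k : ℕ) :
    IsOpen {y : Y | ∀ x : ↥(f.fiber y),
      LocCoh.HasSk k ((f.fiber y).presheaf.stalk x) ((f.fiber y).presheaf.stalk x)} := by
  have heq : {y : Y | ∀ x : ↥(f.fiber y),
      LocCoh.HasSk k ((f.fiber y).presheaf.stalk x) ((f.fiber y).presheaf.stalk x)} =
      (f '' (Lsk k f)ᶜ)ᶜ := by
    ext y
    rw [Set.mem_setOf_eq, forall_fiber_iff f (fun R _ => LocCoh.HasSk k R R) y]
    simp only [Set.mem_compl_iff, Set.mem_image, not_exists, not_and]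
    constructor
    · intro h x hx hfx
      exact hx (h x hfx)
    · intro h x hfx
      by_contra hx
      exact h x hx hfx
  rw [heq, isOpen_compl_iff]
  exact f.isClosedMap _ (isOpen_lsk k f).isClosed_compl

end Groth.Agent.Lib.Helper6.FibSkOpenB
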