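import Mathlib
import Groth.Agent.Lib.Helper6FibRkOpenC
import Groth.Agent.Lib.Helper6FibSkOpenB
import Groth.Agent.Lib.Helper6BcGeom
import Groth.Agent.Lib.Helper6FibNormal
import Groth.Agent.Lib.Helper6FibGeomLocus

set_option autoImplicit false
set_option linter.style.haveILetI false
set_option linter.unusedVariables false
universe u
open CategoryTheory CategoryTheory.Limits AlgebraicGeometry TensorProduct

namespace Groth.Agent.Lib.Helper6.FibNormalFin

open Groth.Agent.Lib.Helper6.FibRkOpen Groth.Agent.Lib.Helper6.FibRkOpenC
  Groth.Agent.Lib.Helper6.FibNormal Groth.Agent.Lib.Helper6.FibRk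
  Groth.Agent.Lib.Helper6.FibGeomLocus Groth.Agent.Lib.Helper6.GenNowhere
  Groth.Agent.Lib.Helper5.FibSmConstr

/-- normality at all points over `z` for all finite extensions of the base field is equivalent to
normality at all points over `z` for all extensions. -/
theorem normal_finite_iff {κ : Type u} [Field κ] {Z : Scheme.{u}}
    (φ : Z ⟶ Spec (CommRingCat.of κ)) (z : Z) :
    (∀ (K : Type u) [Field K] [Algebra κ K], Module.Finite κ K → ∀ x' : ↥(FBase.bc φ K),
        (FBase.bcπ φ K).base x' = z →
          IsDomain ((FBase.bc φ K).presheaf.stalk x') ∧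
            IsIntegrallyClosed ((FBase.bc φ K).presheaf.stalk x')) ↔
    (∀ (K : Type u) [Field K] [Algebra κ K] (x' : ↥(FBase.bc φ K)),
        (FBase.bcπ φ K).base x' = z →
          IsDomain ((FBase.bc φ K).presheaf.stalk x') ∧
            IsIntegrallyClosed ((FBase.bc φ K).presheaf.stalk x')) := by
  constructor
  · intro h K _ _ x' hx'
    letI : Z.Over (Spec (CommRingCat.of κ)) := ⟨φ⟩
    have h3 := Groth.Agent.Lib.Helper6.BcGeom.isNormalRing_tensor_stalk_of_purelyInseparable κ Z z
      (fun k' _ _ _ _ x'' hx'' => h k' inferInstance x'' hx'') K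
    exact Groth.Agent.Lib.Helper6.BcGeom.normal_stalk_of_isNormalRing_tensor κ Z K x' z hx' h3
  · intro h K _ _ _ x' hx'
    exact h K x' hx'

variable {X Y : Scheme.{u}} (f : X ⟶ Y)

/-- the all-extensions geometric normality locus is `Lrs 1 f`. -/
theorem geomNormal_locus_eq [LocallyOfFinitePresentation f] :
    {x : X | ∀ (K : Type u) [Field K]
        [Algebra (IsLocalRing.ResidueField (Y.presheaf.stalk (f.base x))) K]
        (x' : ↥(FBase.bc (f.fiberToSpecResidueField (f.base x)) K)),
        (FBase.bcπ (f.fiberToSpecResidueField (f.base x)) K).base x' = f.asFiber x →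
          (IsDomain ((FBase.bc (f.fiberToSpecResidueField (f.base x)) K).presheaf.stalk x') ∧
            IsIntegrallyClosed
              ((FBase.bc (f.fiberToSpecResidueField (f.base x)) K).presheaf.stalk x'))} =
      Lrs 1 f := by
  have heq : {x : X | ∀ (K : Type u) [Field K]
        [Algebra (IsLocalRing.ResidueField (Y.presheaf.stalk (f.base x))) K]
        (x' : ↥(FBase.bc (f.fiberToSpecResidueField (f.base x)) K)),
        (FBase.bcπ (f.fiberToSpecResidueField (f.base x)) K).base x' = f.asFiber x →
          (IsDomain ((FBase.bc (f.fiberToSpecResidueField (f.base x)) K).presheaf.stalk x') ∧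
            IsIntegrallyClosed
              ((FBase.bc (f.fiberToSpecResidueField (f.base x)) K).presheaf.stalk x'))} =
      {x : X | ∀ (K : Type u) [Field K]
        [Algebra (IsLocalRing.ResidueField (Y.presheaf.stalk (f.base x))) K]
        (x' : ↥(FBase.bc (f.fiberToSpecResidueField (f.base x)) K)),
        (FBase.bcπ (f.fiberToSpecResidueField (f.base x)) K).base x' = f.asFiber x →
          LocCoh.HasRk 1 ((FBase.bc (f.fiberToSpecResidueField (f.base x)) K).presheaf.stalk x')} ∩
      Lsk 2 f := by
    ext x
    exact @geomNormal_iff (IsLocalRing.ResidueField (Y.presheaf.stalk (f.base x))) _ _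
      (f.fiberToSpecResidueField (f x)) (lfp_fiberToSpecResidueField f (f x)) (f.asFiber x)
  rw [heq, rk_locus_eq f 1]
  rfl

/-- the finite-extensions geometric normality locus is `Lrs 1 f`. -/
theorem geomNormalFin_locus_eq [LocallyOfFinitePresentation f] :
    {x : X | ∀ (K : Type u) [Field K]
        [Algebra (IsLocalRing.ResidueField (Y.presheaf.stalk (f.base x))) K],
        Module.Finite (IsLocalRing.ResidueField (Y.presheaf.stalk (f.base x))) K →
        ∀ x' : ↥(FBase.bc (f.fiberToSpecResidueField (f.base x)) K),
          (FBase.bcπ (f.fiberToSpecResidueField (f.base x)) K).base x' = f.asFiber x →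
          IsDomain ((FBase.bc (f.fiberToSpecResidueField (f.base x)) K).presheaf.stalk x') ∧
            IsIntegrallyClosed
              ((FBase.bc (f.fiberToSpecResidueField (f.base x)) K).presheaf.stalk x')} =
      Lrs 1 f := by
  rw [← geomNormal_locus_eq]
  ext x
  exact normal_finite_iff (κ := IsLocalRing.ResidueField (Y.presheaf.stalk (f.base x)))
    (f.fiberToSpecResidueField (f x)) (f.asFiber x)

/-- **S5923**. -/
theorem isOpen_flat_geomNormalFin [LocallyOfFinitePresentation f] :
    IsOpen {x : X | (f.stalkMap x).hom.Flat ∧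
      ∀ (K : Type u) [Field K] [Algebra (IsLocalRing.ResidueField (Y.presheaf.stalk (f.base x))) K],
        Module.Finite (IsLocalRing.ResidueField (Y.presheaf.stalk (f.base x))) K →
        ∀ x' : ↥(FBase.bc (f.fiberToSpecResidueField (f.base x)) K),
          (FBase.bcπ (f.fiberToSpecResidueField (f.base x)) K).base x' = f.asFiber x →
          IsDomain ((FBase.bc (f.fiberToSpecResidueField (f.base x)) K).presheaf.stalk x') ∧
            IsIntegrallyClosed
              ((FBase.bc (f.fiberToSpecResidueField (f.base x)) K).presheaf.stalk x')} := by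
  have h := isOpen_flat_lrs f 1
  rw [← geomNormalFin_locus_eq f] at h
  exact h

/-- **S5933**. -/
theorem isOpen_forall_geomNormalFin [IsProper f] [Flat f] [LocallyOfFinitePresentation f] :
    IsOpen {y : Y | ∀ x : ↥(f.fiber y), (∀ (K : Type u) [Field K]
        [Algebra (IsLocalRing.ResidueField (Y.presheaf.stalk y)) K],
        Module.Finite (IsLocalRing.ResidueField (Y.presheaf.stalk y)) K →
        ∀ x' : ↥(FBase.bc (f.fiberToSpecResidueField y) K),
          (FBase.bcπ (f.fiberToSpecResidueField y) K).base x' = x →
          IsDomain ((FBase.bc (f.fiberToSpecResidueField y) K).presheaf.stalk x') ∧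
            IsIntegrallyClosed ((FBase.bc (f.fiberToSpecResidueField y) K).presheaf.stalk x'))} := by
  have heq : {y : Y | ∀ x : ↥(f.fiber y), (∀ (K : Type u) [Field K]
        [Algebra (IsLocalRing.ResidueField (Y.presheaf.stalk y)) K],
        Module.Finite (IsLocalRing.ResidueField (Y.presheaf.stalk y)) K →
        ∀ x' : ↥(FBase.bc (f.fiberToSpecResidueField y) K),
          (FBase.bcπ (f.fiberToSpecResidueField y) K).base x' = x →
          IsDomain ((FBase.bc (f.fiberToSpecResidueField y) K).presheaf.stalk x') ∧
            IsIntegrallyClosed ((FBase.bc (f.fiberToSpecResidueField y) K).presheaf.stalk x'))} =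
      (f '' (Lrs 1 f)ᶜ)ᶜ := by
    ext y
    simp only [Set.mem_setOf_eq, Set.mem_compl_iff, Set.mem_image, not_exists, not_and]
    constructor
    · intro h x hx hfx
      apply hx
      subst hfx
      rw [← geomNormal_locus_eq]
      exact (normal_finite_iff (κ := IsLocalRing.ResidueField (Y.presheaf.stalk (f.base x)))
        (f.fiberToSpecResidueField (f x)) (f.asFiber x)).mp (h (f.asFiber x))
    · intro h a
      have h1 : f.fiberι y a ∈ Lrs 1 f := by
        by_contra hcon
        exact h _ hcon (fiber_point_maps f y a)
      rw [← geomNormal_locus_eq] at h1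
      have h2 := (geom_transport f (fun R _ => IsDomain R ∧ IsIntegrallyClosed R)
        (fiber_point_maps f y a) (f.asFiber (f.fiberι y a)) a (f.fiberι_asFiber _)).mp h1
      exact (normal_finite_iff (κ := IsLocalRing.ResidueField (Y.presheaf.stalk y))
        (f.fiberToSpecResidueField y) a).mpr h2
  rw [heq, isOpen_compl_iff]
  exact f.isClosedMap _ (isOpen_lrs 1 f).isClosed_compl

end Groth.Agent.Lib.Helper6.FibNormalFin
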