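import Groth.Agent.Lib.Helper6AffPushNat
import Groth.Agent.Lib.Helper27ProjSpaceFibres
import Groth.Prelude.Def_Canon

/-!
# Duality for a finite morphism over an affine base (helper6): S13311
-/

set_option autoImplicit false
universe u
open CategoryTheory Limits AlgebraicGeometry TopologicalSpace Opposite Abelian

namespace Groth.Agent.Lib.Helper6.FinDual

open Groth.Agent.Lib.Helper6.AffPushLin

variable {A : Type u} [CommRing A] {X Z : Scheme.{u}} [X.Over (Spec (CommRingCat.of A))]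
  [Z.Over (Spec (CommRingCat.of A))]

theorem HHlin_comp {M M' M'' : X.Modules} (φ : M ⟶ M') (φ' : M' ⟶ M'') (N : ℕ)
    (x : Coh.HH X M N) :
    Canon.HHlin A (φ ≫ φ') N x = Canon.HHlin A φ' N (Canon.HHlin A φ N x) := by
  change Sheaf.H.map _ N x = Sheaf.H.map _ N (Sheaf.H.map _ N x)
  rw [← Sheaf.H.map_comp_apply, ← Functor.map_comp]
  rfl

/-- the edge isomorphism `H^n(Z, π_* M) ≃ H^n(X, M)` of an affine morphism `π : X → Z` -/
noncomputable def edgeEquiv (π : X ⟶ Z) [IsAffineHom π]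
    (hπ : π ≫ (Z ↘ Spec (CommRingCat.of A)) = X ↘ Spec (CommRingCat.of A))
    [CompactSpace Z] [QuasiSeparatedSpace Z] (M : X.Modules) [M.IsQuasicoherent] (n : ℕ) :
    Coh.HH Z ((Scheme.Modules.pushforward π).obj M) n ≃ₗ[A] Coh.HH X M n :=
  LinearEquiv.ofBijective (edge π hπ M n) (edge_bijective π hπ M n)

theorem main [CompactSpace Z] [QuasiSeparatedSpace Z] (r : ℕ)
    (π : X ⟶ Z) [IsAffineHom π]
    (hπ : π ≫ (Z ↘ Spec (CommRingCat.of A)) = X ↘ Spec (CommRingCat.of A))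
    (ωZ : Z.Modules) (trZ : Coh.HH Z ωZ r →ₗ[A] A) (hZ : Canon.IsRDualOver A Z r ωZ trZ)
    (ωX : X.Modules) (hωX : Coh.IsQCoh ωX) (τ : (Coh.push π).obj ωX ⟶ ωZ)
    (huniv : ∀ F : X.Modules, Coh.IsQCoh F →
      Function.Bijective (fun φ : F ⟶ ωX => (Coh.push π).map φ ≫ τ)) :
    ∃ trX : Coh.HH X ωX r →ₗ[A] A, Canon.IsRDualOver A X r ωX trX := by
  haveI : ωX.IsQuasicoherent := hωX
  refine ⟨trZ ∘ₗ Canon.HHlin A τ r ∘ₗ (edgeEquiv π hπ ωX r).symm.toLinearMap, hωX, ?_⟩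
  intro F hF
  haveI : F.IsQuasicoherent := hF
  haveI : QuasiCompact π := inferInstance
  haveI : QuasiSeparated π := inferInstance
  have hpF : Coh.IsQCoh ((Coh.push π).obj F) :=
    Groth.Agent.Lib.Helper23.QCohLocal.isQuasicoherent_pushforward π F
  have hkey : (Canon.dualityMap A X r ωX
      (trZ ∘ₗ Canon.HHlin A τ r ∘ₗ (edgeEquiv π hπ ωX r).symm.toLinearMap) F : _ → _) =
      (fun ψ : Coh.HH Z ((Coh.push π).obj F) r →ₗ[A] A =>
        ψ ∘ₗ (edgeEquiv π hπ F r).symm.toLinearMap) ∘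
      (Canon.dualityMap A Z r ωZ trZ ((Coh.push π).obj F)) ∘
      (fun φ : F ⟶ ωX => (Coh.push π).map φ ≫ τ) := by
    funext φ
    apply LinearMap.ext
    intro x
    obtain ⟨y, rfl⟩ := (edgeEquiv π hπ F r).surjective x
    have hnat : Canon.HHlin A φ r (edgeEquiv π hπ F r y) =
        edgeEquiv π hπ ωX r (Canon.HHlin A ((Scheme.Modules.pushforward π).map φ) r y) :=
      (edge_naturality π hπ φ r y).symm
    simp only [Canon.dualityMap, LinearMap.comp_apply, Function.comp_apply,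
      LinearEquiv.coe_toLinearMap, LinearEquiv.symm_apply_apply]
    rw [hnat, LinearEquiv.symm_apply_apply, HHlin_comp]
  rw [hkey]
  refine Function.Bijective.comp ?_ (((hZ.2 _ hpF)).comp (huniv F hF))
  constructor
  · intro ψ ψ' h
    apply LinearMap.ext
    intro y
    have := congrArg (fun l => l (edgeEquiv π hπ F r y)) h
    simpa using this
  · intro ψ
    refine ⟨ψ ∘ₗ (edgeEquiv π hπ F r).toLinearMap, ?_⟩
    apply LinearMap.ext
    intro y
    simp

/-- S13311 -/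
theorem result' (A : Type u) [CommRing A] [IsNoetherianRing A] (n r : ℕ)
    (X Z : Scheme.{u}) [X.Over (Spec (CommRingCat.of A))] [Z.Over (Spec (CommRingCat.of A))]
    (ι : Z ⟶ CohB1.ProjSpace n A) [IsClosedImmersion ι]
    (hι : ι ≫ CohB1.ProjSpace.toSpec n A = Z ↘ Spec (CommRingCat.of A))
    (π : X ⟶ Z) [IsFinite π] (hπ : π ≫ (Z ↘ Spec (CommRingCat.of A)) = X ↘ Spec (CommRingCat.of A))
    (ωZ : Z.Modules) (trZ : Coh.HH Z ωZ r →ₗ[A] A) (hZ : Canon.IsRDualOver A Z r ωZ trZ)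
    (ωX : X.Modules) (hωX : Coh.IsQCoh ωX) (τ : (Coh.push π).obj ωX ⟶ ωZ)
    (huniv : ∀ F : X.Modules, Coh.IsQCoh F →
      Function.Bijective (fun φ : F ⟶ ωX => (Coh.push π).map φ ≫ τ)) :
    ∃ trX : Coh.HH X ωX r →ₗ[A] A, Canon.IsRDualOver A X r ωX trX := by
  haveI : IsProper (CohB1.ProjSpace.toSpec n A) :=
    Groth.Agent.Lib.Helper27ProjSpaceFibres.isProper_projSpace_toSpec n A
  haveI : IsProper (Z ↘ Spec (CommRingCat.of A)) := by rw [← hι]; infer_instance
  haveI : CompactSpace Z :=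
    QuasiCompact.compactSpace_of_compactSpace (Z ↘ Spec (CommRingCat.of A))
  haveI : QuasiSeparatedSpace Z :=
    quasiSeparatedSpace_of_quasiSeparated (Z ↘ Spec (CommRingCat.of A))
  exact main r π hπ ωZ trZ hZ ωX hωX τ huniv

end Groth.Agent.Lib.Helper6.FinDual
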