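import Mathlib
import Groth.Prelude.Def_Coh
import Groth.Agent.Lib.Helper17LerayTop3

set_option autoImplicit false
universe u
open CategoryTheory Limits AlgebraicGeometry Opposite TopologicalSpace

namespace Groth.Agent.Lib.Helper6.FinFib

open Groth.Agent.Lib.Helper17 Groth.Agent.Lib.Helper17.LerayTop Groth.Agent.Lib.Helper21
  Groth.Agent.Lib.Helper23.AffVanish

/-- preimages of affine opens contained in `V` are affine when `f ∣_ V` is affine -/
theorem isAffineOpen_preimage_of_le {X Y : Scheme.{u}} (f : X ⟶ Y) (V : Y.Opens)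
    [IsAffineHom (f ∣_ V)] {W : Y.Opens} (hW : IsAffineOpen W) (hWV : W ≤ V) :
    IsAffineOpen (f ⁻¹ᵁ W) := by
  have h1 : IsAffineOpen (V.ι ⁻¹ᵁ W) :=
    hW.preimage_of_isOpenImmersion V.ι (by rwa [Scheme.Opens.opensRange_ι])
  have h2 : IsAffineOpen ((f ∣_ V) ⁻¹ᵁ (V.ι ⁻¹ᵁ W)) := h1.preimage (f ∣_ V)
  have h3 := h2.image_of_isOpenImmersion (f ⁻¹ᵁ V).ι
  rw [image_morphismRestrict_preimage, Scheme.Hom.image_preimage_eq_opensRange_inf,
    Scheme.Opens.opensRange_ι, inf_eq_right.mpr hWV] at h3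
  exact h3

/-- sections of `R^{p+1} f_* M` vanish over affine opens whose preimage is affine -/
theorem subsingleton_sections_RpushAb {X Y : Scheme.{u}} (f : X ⟶ Y) [QuasiCompact f]
    [QuasiSeparated f] (M : X.Modules) [Coh.IsQCoh M] {W : Y.Opens} (hW : IsAffineOpen W)
    (hfW : IsAffineOpen (f ⁻¹ᵁ W)) (p : ℕ) :
    Subsingleton (((Coh.RpushAb f (p + 1)).obj (Coh.toAb M)).obj.obj (op W)) := by
  obtain ⟨e⟩ := nonempty_HE_preimage_iso f M hW (p + 1)
  haveI : Subsingleton (HE (ab' M) (p + 1) (f ⁻¹ᵁ W)) := subsingleton_HE_of_isAffineOpen hfW M p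
  haveI : Subsingleton (HE ((Coh.RpushAb f (p + 1)).obj (Coh.toAb M)) 0 W) :=
    e.addCommGroupIsoToAddEquiv.symm.toEquiv.subsingleton
  exact (h0Equiv ((Coh.RpushAb f (p + 1)).obj (Coh.toAb M)) W).symm.toEquiv.subsingleton

/-- a presheaf of abelian groups whose sections over small affine opens around `y` vanish has
zero stalk at `y` -/
theorem isZero_stalk_of_subsingleton {Y : Scheme.{u}} (F : TopCat.Presheaf AddCommGrpCat.{u} Y)
    (y : Y) (V₀ : Y.Opens) (hy : y ∈ V₀)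
    (h : ∀ W : Y.Opens, IsAffineOpen W → W ≤ V₀ → Subsingleton (F.obj (op W))) :
    IsZero (TopCat.Presheaf.stalk F y) := by
  suffices H : ∀ t : ↑(TopCat.Presheaf.stalk F y), t = 0 from
    @AddCommGrpCat.isZero_of_subsingleton _ ⟨fun a b => (H a).trans (H b).symm⟩
  intro t
  obtain ⟨U, hyU, s, rfl⟩ := TopCat.Presheaf.germ_exist F t
  obtain ⟨W, hWaff, hyW, hWle⟩ := (Opens.isBasis_iff_nbhd.1 Y.isBasis_affineOpens)
    (show y ∈ U ⊓ V₀ from ⟨hyU, hy⟩)
  rw [← TopCat.Presheaf.germ_res_apply F (homOfLE (hWle.trans inf_le_left)) y hyW s]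
  haveI := h W hWaff (hWle.trans inf_le_right)
  rw [Subsingleton.elim ((F.map (homOfLE (hWle.trans inf_le_left)).op).hom s) 0, map_zero]

/-- **Vanishing of the stalk of higher direct images at a point with finite fibre.** -/
theorem isZero_stalk_RpushAb {X Y : Scheme.{u}} (f : X ⟶ Y) [IsProper f] (y : Y)
    (hy : (f.base ⁻¹' {y}).Finite) (M : X.Modules) [Coh.IsQCoh M] (p : ℕ) (hp : 0 < p) :
    IsZero (TopCat.Presheaf.stalk ((Coh.RpushAb f p).obj (Coh.toAb M)).obj y) := by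
  obtain ⟨p, rfl⟩ := Nat.exists_eq_succ_of_ne_zero hp.ne'
  obtain ⟨V₀, hyV, hfin⟩ := exists_isFinite_morphismRestrict_of_finite_preimage_singleton f y hy
  refine isZero_stalk_of_subsingleton _ y V₀ hyV fun W hW hWV => ?_
  exact subsingleton_sections_RpushAb f M hW (isAffineOpen_preimage_of_le f V₀ hW hWV) p

end Groth.Agent.Lib.Helper6.FinFib
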