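import Mathlib

set_option autoImplicit false
universe u

namespace Groth.Agent.Lib.Helper6.Flasque

open CategoryTheory TopologicalSpace Opposite TopCat

variable {X : TopCat.{u}}

/-- restriction as a monoid hom -/
noncomputable abbrev res (F : TopCat.Presheaf GrpCat.{u} X) {U V : Opens X} (h : V ≤ U) :
    F.obj (op U) →* F.obj (op V) := (F.map (homOfLE h).op).hom

lemma res_res (F : TopCat.Presheaf GrpCat.{u} X) {U V W : Opens X} (h : V ≤ U) (h' : W ≤ V)
    (x : F.obj (op U)) : res F h' (res F h x) = res F (h'.trans h) x := by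
  have : F.map (homOfLE (h'.trans h)).op = F.map (homOfLE h).op ≫ F.map (homOfLE h').op := by
    rw [← F.map_comp]; rfl
  simp only [res, this, GrpCat.hom_comp, MonoidHom.comp_apply]

lemma res_self (F : TopCat.Presheaf GrpCat.{u} X) {U : Opens X} (h : U ≤ U)
    (x : F.obj (op U)) : res F h x = x := by
  have : F.map (homOfLE h).op = 𝟙 _ := by
    rw [← F.map_id]; rfl
  simp only [res, this, GrpCat.hom_id, MonoidHom.id_apply]

lemma nat_res {F G : TopCat.Presheaf GrpCat.{u} X} (α : F ⟶ G) {U V : Opens X} (h : V ≤ U)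
    (x : F.obj (op U)) : (α.app (op V)).hom (res F h x) = res G h ((α.app (op U)).hom x) := by
  have := α.naturality (homOfLE h).op
  have := congrArg (fun f => f.hom x) this
  simpa only [GrpCat.hom_comp, MonoidHom.comp_apply] using this

lemma glue (G : TopCat.Presheaf GrpCat.{u} X) (hG : G.IsSheaf) {ι : Type u} (Us : ι → Opens X)
    (W : Opens X) (hle : ∀ i, Us i ≤ W) (hcov : W ≤ iSup Us)
    (sf : ∀ i, G.obj (op (Us i)))
    (hc : ∀ i j, res G (inf_le_left : Us i ⊓ Us j ≤ Us i) (sf i)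
      = res G (inf_le_right : Us i ⊓ Us j ≤ Us j) (sf j)) :
    ∃ s : G.obj (op W), ∀ i, res G (hle i) s = sf i := by
  obtain ⟨s, hs, -⟩ := TopCat.Sheaf.existsUnique_gluing' (F := ⟨G, hG⟩) Us W
    (fun i => homOfLE (hle i)) hcov sf (fun i j => hc i j)
  exact ⟨s, fun i => hs i⟩

lemma sep (G : TopCat.Presheaf GrpCat.{u} X) (hG : G.IsSheaf) {ι : Type u} (Us : ι → Opens X)
    (W : Opens X) (hle : ∀ i, Us i ≤ W) (hcov : W ≤ iSup Us)
    (s t : G.obj (op W)) (h : ∀ i, res G (hle i) s = res G (hle i) t) : s = t :=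
  TopCat.Sheaf.eq_of_locally_eq' (F := ⟨G, hG⟩) Us W (fun i => homOfLE (hle i)) hcov s t
    (fun i => h i)

/-- gluing two sections -/
lemma glue₂ (G : TopCat.Presheaf GrpCat.{u} X) (hG : G.IsSheaf) (U₁ U₂ : Opens X)
    (s₁ : G.obj (op U₁)) (s₂ : G.obj (op U₂))
    (hc : res G (inf_le_left : U₁ ⊓ U₂ ≤ U₁) s₁ = res G (inf_le_right : U₁ ⊓ U₂ ≤ U₂) s₂) :
    ∃ s : G.obj (op (U₁ ⊔ U₂)), res G le_sup_left s = s₁ ∧ res G le_sup_right s = s₂ := by
  let Us : ULift.{u} Bool → Opens X := fun b => if b.down then U₁ else U₂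
  have hle : ∀ i, Us i ≤ U₁ ⊔ U₂ := by
    rintro ⟨_ | _⟩
    · exact le_sup_right
    · exact le_sup_left
  have hcov : U₁ ⊔ U₂ ≤ iSup Us :=
    sup_le (le_iSup Us ⟨true⟩) (le_iSup Us ⟨false⟩)
  let sf : ∀ i, G.obj (op (Us i)) := fun b =>
    match b with
    | ⟨true⟩ => s₁
    | ⟨false⟩ => s₂
  obtain ⟨s, hs⟩ := glue G hG Us (U₁ ⊔ U₂) hle hcov sf (by
    rintro ⟨_ | _⟩ ⟨_ | _⟩
    · rfl
    · have h1 := congrArg (res G (show U₂ ⊓ U₁ ≤ U₁ ⊓ U₂ from by rw [inf_comm])) hc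
      rw [res_res, res_res] at h1
      exact h1.symm
    · exact hc
    · rfl)
  exact ⟨s, hs ⟨true⟩, hs ⟨false⟩⟩

section main

variable (F G H : TopCat.Presheaf GrpCat.{u} X) (hF : F.IsSheaf) (hG : G.IsSheaf) (hH : H.IsSheaf)
    (α : F ⟶ G) (β : G ⟶ H)

/-- partial lifts of `s` -/
structure PLift' (U : Opens X) (s : H.obj (op U)) where
  V : Opens X
  le : V ≤ U
  g : G.obj (op V)
  hg : (β.app (op V)).hom g = res H le s

variable {G H β}

instance (U : Opens X) (s : H.obj (op U)) : Preorder (PLift' G H β U s) where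
  le a b := ∃ h : a.V ≤ b.V, res G h b.g = a.g
  le_refl a := ⟨le_rfl, res_self _ _ _⟩
  le_trans a b c := by
    rintro ⟨h1, h2⟩ ⟨h3, h4⟩
    refine ⟨h1.trans h3, ?_⟩
    rw [← res_res G h3 h1, h4, h2]

include hG hH in
lemma chain_bdd (U : Opens X) (s : H.obj (op U)) (c : Set (PLift' G H β U s))
    (hc : IsChain (· ≤ ·) c) : BddAbove c := by
  let Us : c → Opens X := fun i => i.1.V
  let W : Opens X := iSup Us
  have hle : ∀ i, Us i ≤ W := fun i => le_iSup Us i
  have hWU : W ≤ U := iSup_le fun i => i.1.le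
  obtain ⟨g, hg⟩ := glue G hG Us W hle le_rfl (fun i => i.1.g) (by
    intro i j
    rcases hc.total i.2 j.2 with ⟨h1, h2⟩ | ⟨h1, h2⟩
    · rw [← h2, res_res]
    · rw [← h2, res_res])
  have hβ : (β.app (op W)).hom g = res H hWU s := by
    apply sep H hH Us W hle le_rfl
    intro i
    rw [← nat_res, hg, i.1.hg, res_res]
  refine ⟨⟨W, hWU, g, hβ⟩, ?_⟩
  intro a ha
  exact ⟨hle ⟨a, ha⟩, hg ⟨a, ha⟩⟩

include hG hH in
theorem surj_of_flasque
    (hex : ∀ (U : Opens X) (g : G.obj (op U)),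
      (β.app (op U)).hom g = 1 ↔ g ∈ Set.range (α.app (op U)).hom)
    (hβ : ∀ (U : Opens X) (s : H.obj (op U)) (x : X), x ∈ U →
      ∃ (V : Opens X) (hV : V ≤ U), x ∈ V ∧ ∃ g : G.obj (op V),
        (β.app (op V)).hom g = res H hV s)
    (hfl : ∀ (U V : Opens X) (hUV : V ≤ U), Function.Surjective (res F hUV))
    (U : Opens X) : Function.Surjective (β.app (op U)).hom := by
  intro s
  obtain ⟨m, hm⟩ := zorn_le (chain_bdd hG hH U s)
  suffices hV : m.V = U by
    obtain ⟨V, le, g, hg⟩ := m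
    clear hm
    simp only at hV
    subst hV
    exact ⟨g, by rw [hg, res_self]⟩
  by_contra hne
  have hlt : m.V < U := lt_of_le_of_ne m.le hne
  obtain ⟨x, hxU, hxV⟩ := SetLike.exists_of_lt hlt
  obtain ⟨W, hWU, hxW, g', hg'⟩ := hβ U s x hxU
  -- difference on the overlap
  set d : G.obj (op (m.V ⊓ W)) := (res G inf_le_right g')⁻¹ * res G inf_le_left m.g with hd
  have hd1 : (β.app (op (m.V ⊓ W))).hom d = 1 := by
    rw [hd, map_mul, map_inv, nat_res, nat_res, hg', m.hg, res_res, res_res, inv_mul_cancel]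
  obtain ⟨f, hf⟩ := (hex _ d).1 hd1
  obtain ⟨f', hf'⟩ := hfl W (m.V ⊓ W) inf_le_right f
  set g'' : G.obj (op W) := g' * (α.app (op W)).hom f' with hg''
  have hov : res G (inf_le_left : m.V ⊓ W ≤ m.V) m.g = res G (inf_le_right : m.V ⊓ W ≤ W) g'' := by
    rw [hg'', map_mul, ← nat_res, hf', hf, hd, mul_inv_cancel_left]
  obtain ⟨gg, hgg1, hgg2⟩ := glue₂ G hG m.V W m.g g'' hov
  have hle : m.V ⊔ W ≤ U := sup_le m.le hWU
  have hgg : (β.app (op (m.V ⊔ W))).hom gg = res H hle s := by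
    let Us : ULift.{u} Bool → Opens X := fun b => if b.down then m.V else W
    have hle' : ∀ i, Us i ≤ m.V ⊔ W := by
      rintro ⟨_ | _⟩
      · exact le_sup_right
      · exact le_sup_left
    have hcov : m.V ⊔ W ≤ iSup Us :=
      sup_le (le_iSup Us ⟨true⟩) (le_iSup Us ⟨false⟩)
    apply sep H hH Us _ hle' hcov
    rintro ⟨_ | _⟩
    · show res H (le_sup_right : W ≤ m.V ⊔ W) _ = res H (le_sup_right : W ≤ m.V ⊔ W) _
      rw [← nat_res, hgg2, res_res, hg'', map_mul, hg']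
      have : (β.app (op W)).hom ((α.app (op W)).hom f') = 1 := (hex W _).2 ⟨f', rfl⟩
      rw [this, mul_one]
    · show res H (le_sup_left : m.V ≤ m.V ⊔ W) _ = res H (le_sup_left : m.V ≤ m.V ⊔ W) _
      rw [← nat_res, hgg1, res_res, m.hg]
  let n : PLift' G H β U s := ⟨m.V ⊔ W, hle, gg, hgg⟩
  have hmn : m ≤ n := ⟨le_sup_left, hgg1⟩
  obtain ⟨h1, -⟩ := hm hmn
  exact hxV (h1 (le_sup_right (a := m.V) hxW))

include hG hH in
theorem flasque_main
    (hex : ∀ (U : Opens X) (g : G.obj (op U)),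
      (β.app (op U)).hom g = 1 ↔ g ∈ Set.range (α.app (op U)).hom)
    (hβ : ∀ (U : Opens X) (s : H.obj (op U)) (x : X), x ∈ U →
      ∃ (V : Opens X) (hV : V ≤ U), x ∈ V ∧ ∃ g : G.obj (op V),
        (β.app (op V)).hom g = (H.map (homOfLE hV).op).hom s)
    (hfl : ∀ (U V : Opens X) (hUV : V ≤ U), Function.Surjective (F.map (homOfLE hUV).op).hom) :
    (∀ U : Opens X, Function.Surjective (β.app (op U)).hom) ∧
      ((∀ (U V : Opens X) (hUV : V ≤ U), Function.Surjective (G.map (homOfLE hUV).op).hom) →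
        ∀ (U V : Opens X) (hUV : V ≤ U), Function.Surjective (H.map (homOfLE hUV).op).hom) := by
  have h1 : ∀ U : Opens X, Function.Surjective (β.app (op U)).hom :=
    surj_of_flasque F hG hH α hex hβ hfl
  refine ⟨h1, fun hGfl U V hUV t => ?_⟩
  obtain ⟨g, hg⟩ := h1 V t
  obtain ⟨g', hg'⟩ := hGfl U V hUV g
  refine ⟨(β.app (op U)).hom g', ?_⟩
  have := nat_res β hUV g'
  rw [← hg, ← hg']
  exact this.symm

end main

end Groth.Agent.Lib.Helper6.Flasque
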