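import Groth.Prelude
import Mathlib

open AlgebraicGeometry CategoryTheory CategoryTheory.Limits MorphismProperty

namespace Groth.Agent.Lib.Helper6

universe u

lemma injective_of_flat_of_isLocalHom {A B : Type u} [CommRing A] [CommRing B] [IsLocalRing A]
    [IsLocalRing B] (φ : A →+* B) (hφ : φ.Flat) [IsLocalHom φ] : Function.Injective φ := by
  algebraize [φ]
  have : IsLocalHom (algebraMap A B) := ‹IsLocalHom φ›
  have : Module.FaithfullyFlat A B := Module.FaithfullyFlat.of_flat_of_isLocalHom
  exact FaithfulSMul.algebraMap_injective A B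

lemma app_injective_of_flat_of_surjective {X Y : Scheme.{u}} (f : X ⟶ Y) [Flat f] [Surjective f]
    (U : Y.Opens) : Function.Injective (f.app U).hom := by
  rw [injective_iff_map_eq_zero]
  intro s hs
  refine TopCat.Presheaf.section_ext Y.sheaf U s 0 (fun y hy => ?_)
  obtain ⟨x, rfl⟩ := f.surjective y
  have hflat : (f.stalkMap x).hom.Flat := Flat.stalkMap f x
  have hinj : Function.Injective (f.stalkMap x).hom :=
    injective_of_flat_of_isLocalHom _ hflat
  apply hinj
  have h1 := Scheme.Hom.germ_stalkMap_apply f U x hy s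
  have h2 := Scheme.Hom.germ_stalkMap_apply f U x hy 0
  rw [map_zero] at h2
  erw [h1, hs, map_zero, map_zero, map_zero]

lemma ker_eq_bot_of_flat_of_surjective {X Y : Scheme.{u}} (f : X ⟶ Y) [Flat f] [Surjective f] :
    f.ker = ⊥ := by
  rw [eq_bot_iff]
  intro U
  refine (f.ideal_ker_le U).trans ?_
  rw [(RingHom.injective_iff_ker_eq_bot _).mp (app_injective_of_flat_of_surjective f U.1)]
  exact bot_le

theorem map_comap_eq_of_flat_of_surjective {X Y : Scheme.{u}} (f : X ⟶ Y) [Flat f] [Surjective f]
    (J : Y.IdealSheafData) : (J.comap f).map f = J := by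
  have h1 : (J.comap f).map f = (pullback.fst f J.subschemeι ≫ f).ker := by
    rw [Scheme.IdealSheafData.comap, Scheme.IdealSheafData.map_ker]
  rw [h1, pullback.condition, Scheme.Hom.ker_comp,
    ker_eq_bot_of_flat_of_surjective (pullback.snd f J.subschemeι),
    Scheme.IdealSheafData.map_bot, Scheme.IdealSheafData.ker_subschemeι]

theorem comap_injective_of_flat_of_surjective {X Y : Scheme.{u}} (f : X ⟶ Y) [Flat f]
    [Surjective f] : Function.Injective fun J : Y.IdealSheafData => J.comap f := by
  intro J J' h
  have h' : J.comap f = J'.comap f := h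
  rw [← map_comap_eq_of_flat_of_surjective f J, ← map_comap_eq_of_flat_of_surjective f J', h']

end Groth.Agent.Lib.Helper6
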