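import Mathlib

set_option autoImplicit false
universe u

open AlgebraicGeometry CategoryTheory Limits

namespace Groth.Agent.Lib.Helper6.FlatOIm


/-- A separated flat morphism which is a monomorphism over a quasi-compact scheme-theoretically
dense open of the target is a monomorphism. -/
theorem mono_of_mono_over_dense {X S : Scheme.{u}} (f : X ⟶ S) [IsSeparated f] [Flat f]
    (U : S.Opens) [QuasiCompact U.ι] [IsSchemeTheoreticallyDominant U.ι] [Mono (f ∣_ U)] :
    Mono f := by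
  rw [← pullback.isIso_diagonal_iff, IsClosedImmersion.isIso_iff_ker_eq_bot]
  let π : pullback f f ⟶ S := pullback.fst f f ≫ f
  haveI : Flat π := inferInstance
  let W : (pullback f f).Opens := π ⁻¹ᵁ U
  have hW : IsSchemeTheoreticallyDominant W.ι :=
    .of_isPullback (isPullback_morphismRestrict π U)
  have h1 : ∀ w : W, (W.ι ≫ pullback.fst f f) w ∈ (f ⁻¹ᵁ U : Set X) := by
    intro w
    have hw : (pullback.fst f f ≫ f) (W.ι w) ∈ U := w.2
    rw [Scheme.Hom.comp_apply] at hw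
    rw [Scheme.Hom.comp_apply]
    exact hw
  have h2 : ∀ w : W, (W.ι ≫ pullback.snd f f) w ∈ (f ⁻¹ᵁ U : Set X) := by
    intro w
    have hw : (pullback.fst f f ≫ f) (W.ι w) ∈ U := w.2
    rw [pullback.condition, Scheme.Hom.comp_apply] at hw
    rw [Scheme.Hom.comp_apply]
    exact hw
  have r1 : Set.range (W.ι ≫ pullback.fst f f) ⊆ Set.range (f ⁻¹ᵁ U).ι := by
    rintro _ ⟨w, rfl⟩
    rw [Scheme.Opens.range_ι]
    exact h1 w
  have r2 : Set.range (W.ι ≫ pullback.snd f f) ⊆ Set.range (f ⁻¹ᵁ U).ι := by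
    rintro _ ⟨w, rfl⟩
    rw [Scheme.Opens.range_ι]
    exact h2 w
  let a₁ := IsOpenImmersion.lift (f ⁻¹ᵁ U).ι (W.ι ≫ pullback.fst f f) r1
  let a₂ := IsOpenImmersion.lift (f ⁻¹ᵁ U).ι (W.ι ≫ pullback.snd f f) r2
  have e1 : a₁ ≫ (f ⁻¹ᵁ U).ι = W.ι ≫ pullback.fst f f := IsOpenImmersion.lift_fac _ _ _
  have e2 : a₂ ≫ (f ⁻¹ᵁ U).ι = W.ι ≫ pullback.snd f f := IsOpenImmersion.lift_fac _ _ _
  have e12 : a₁ = a₂ := by
    rw [← cancel_mono (f ∣_ U), ← cancel_mono U.ι]
    simp only [Category.assoc, morphismRestrict_ι]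
    rw [reassoc_of% e1, reassoc_of% e2, pullback.condition]
  have key : W.ι ≫ pullback.fst f f = W.ι ≫ pullback.snd f f := by
    rw [← e1, ← e2, e12]
  have hfac : W.ι = (W.ι ≫ pullback.fst f f) ≫ pullback.diagonal f := by
    apply pullback.hom_ext
    · simp
    · simp [key]
  have h3 := Scheme.Hom.le_ker_comp (W.ι ≫ pullback.fst f f) (pullback.diagonal f)
  rw [← hfac, W.ι.ker_eq_bot] at h3
  exact le_bot_iff.mp h3



/-- For a flat monomorphism of schemes, all stalk maps are bijective. -/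
theorem bijective_stalkMap_of_flat_of_mono {X S : Scheme.{u}} (f : X ⟶ S) [Flat f] [Mono f]
    (x : X) : Function.Bijective (f.stalkMap x).hom := by
  have hfac : Spec.map (f.stalkMap x) ≫ S.fromSpecStalk (f x) = X.fromSpecStalk x ≫ f :=
    Scheme.SpecMap_stalkMap_fromSpecStalk f
  haveI : Mono (Spec.map (f.stalkMap x)) := mono_of_mono_fac hfac
  have hfl : (f.stalkMap x).hom.Flat := Flat.stalkMap f x
  have hff : (f.stalkMap x).hom.FaithfullyFlat := by
    algebraize [(f.stalkMap x).hom]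
    have : Module.FaithfullyFlat (S.presheaf.stalk (f x)) (X.presheaf.stalk x) :=
      @Module.FaithfullyFlat.of_flat_of_isLocalHom _ _ _ _ _ _ _ hfl (f.toLRSHom.prop x)
    exact ‹RingHom.FaithfullyFlat _›
  obtain ⟨h1, h2⟩ := (flat_and_surjective_SpecMap_iff (f.stalkMap x)).mpr hff
  haveI := h1
  haveI := h2
  haveI : IsIso (Spec.map (f.stalkMap x)) := Flat.isIso_of_surjective_of_mono _
  exact isIso_SpecMap_iff.mp inferInstance



/-- Claim G: generators land in the range. -/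
theorem range_of_generators {A B A' B' : Type*} [CommRing A] [CommRing B] [CommRing A'] [CommRing B']
    (φ : A →+* B) (α : A →+* A') (β : B →+* B') (ψ : A' →+* B') (hsq : ψ.comp α = β.comp φ)
    (s : Finset B) (hs : @Algebra.adjoin A B _ _ φ.toAlgebra (s : Set B) = ⊤)
    (x r : B → A) (c : B → B) (hc : ∀ b ∈ s, c b * φ (r b) * b = c b * φ (x b))
    (hcu : ∀ b ∈ s, IsUnit (β (c b))) (hru : ∀ b ∈ s, IsUnit (α (r b))) (b : B) :
    β b ∈ ψ.range := by
  letI := φ.toAlgebra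
  have hsq' : ∀ a, ψ (α a) = β (φ a) := fun a => by
    have := congrArg (fun h => h a) hsq
    simpa using this
  have hb : b ∈ Algebra.adjoin A (s : Set B) := by rw [hs]; trivial
  induction hb using Algebra.adjoin_induction with
  | mem b hb =>
    obtain ⟨v, hv⟩ := (hru b hb).exists_left_inv
    have h1 := congrArg β (hc b hb)
    simp only [map_mul] at h1
    have h2 : β (φ (r b)) * β b = β (φ (x b)) := by
      apply (hcu b hb).mul_left_cancel
      rw [← mul_assoc]; exact h1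
    refine ⟨v * α (x b), ?_⟩
    rw [map_mul, hsq', ← h2, ← mul_assoc, ← hsq', ← map_mul, hv, map_one, one_mul]
  | algebraMap a => exact ⟨α a, hsq' a⟩
  | add b₁ b₂ _ _ h₁ h₂ => rw [map_add]; exact ψ.range.add_mem h₁ h₂
  | mul b₁ b₂ _ _ h₁ h₂ => rw [map_mul]; exact ψ.range.mul_mem h₁ h₂


/-- Ring lemma: a finite type ring map which is surjective on the local rings at a prime `q`
becomes surjective after localizing at suitable elements `g ∈ A` and `u * φ g ∈ B` not in `q`. -/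
theorem exists_away_surjective {A B : Type u} [CommRing A] [CommRing B] (φ : A →+* B)
    (hφ : φ.FiniteType) (p : Ideal A) [p.IsPrime] (q : Ideal B) [q.IsPrime] (hpq : p = q.comap φ)
    (hsurj : Function.Surjective (Localization.localRingHom p q φ hpq)) :
    ∃ (g : A) (u : B), φ g ∉ q ∧ u ∉ q ∧
      ∀ (A' B' : Type u) [CommRing A'] [CommRing B'] (α : A →+* A') (β : B →+* B')
        (ψ : A' →+* B'), ψ.comp α = β.comp φ → IsUnit (α g) → IsUnit (β (u * φ g)) →
        (∀ y : B', ∃ (b : B) (n : ℕ), y * β (u * φ g) ^ n = β b) → Function.Surjective ψ := by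
  classical
  subst hpq
  obtain ⟨s, hs⟩ := (hφ : @Algebra.FiniteType A B _ _ φ.toAlgebra).out
  have H := (RingHom.surjective_localRingHom_iff (f := φ) q).mp hsurj
  choose x r c hc hr he using H
  obtain ⟨R, hR⟩ : ∃ R : A, R = ∏ b ∈ s, r b := ⟨_, rfl⟩
  obtain ⟨C, hC⟩ : ∃ C : B, C = ∏ b ∈ s, c b := ⟨_, rfl⟩
  have hRq : φ R ∉ q := by
    rw [hR, map_prod]
    intro h
    obtain ⟨b, _, hbq⟩ := (Ideal.IsPrime.prod_mem_iff).mp h
    exact hr b hbq
  have hCq : C ∉ q := by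
    rw [hC]
    intro h
    obtain ⟨b, _, hbq⟩ := (Ideal.IsPrime.prod_mem_iff).mp h
    exact hc b hbq
  have hrR : ∀ b ∈ s, r b ∣ R := fun b hb => hR ▸ Finset.dvd_prod_of_mem r hb
  have hcC : ∀ b ∈ s, c b ∣ C := fun b hb => hC ▸ Finset.dvd_prod_of_mem c hb
  -- first localization
  have hu0 : IsUnit (algebraMap B (Localization.Away (C * φ R)) (C * φ R)) :=
    IsLocalization.Away.algebraMap_isUnit (C * φ R)
  have hu1 : IsUnit (((algebraMap B (Localization.Away (C * φ R))).comp φ) R) := by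
    rw [RingHom.comp_apply]
    exact isUnit_of_dvd_unit (map_dvd _ (Dvd.intro_left C rfl)) hu0
  have hsq₁ : (IsLocalization.Away.lift (S := Localization.Away R) R hu1).comp
      (algebraMap A (Localization.Away R)) =
      (algebraMap B (Localization.Away (C * φ R))).comp φ := IsLocalization.Away.lift_comp R hu1
  obtain ⟨y, hy⟩ := range_of_generators φ (algebraMap A (Localization.Away R))
    (algebraMap B (Localization.Away (C * φ R)))
    (IsLocalization.Away.lift (S := Localization.Away R) R hu1) hsq₁ s hs x r c (fun b _ => he b)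
    (fun b hb => isUnit_of_dvd_unit (map_dvd _ ((hcC b hb).trans (Dvd.intro _ rfl))) hu0)
    (fun b hb => isUnit_of_dvd_unit (map_dvd _ (hrR b hb))
      (IsLocalization.Away.algebraMap_isUnit R)) C
  obtain ⟨⟨a, ⟨_, k, rfl⟩⟩, hya⟩ := IsLocalization.surj (Submonoid.powers R) y
  -- `y * R^k = a` in the localization of `A`
  have h3 : algebraMap B (Localization.Away (C * φ R)) (C * φ R ^ k) =
      algebraMap B (Localization.Away (C * φ R)) (φ a) := by
    have hya' : y * algebraMap A (Localization.Away R) (R ^ k) =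
        algebraMap A (Localization.Away R) a := hya
    have e1 : ∀ a', (IsLocalization.Away.lift (S := Localization.Away R) R hu1)
        (algebraMap A (Localization.Away R) a') =
        algebraMap B (Localization.Away (C * φ R)) (φ a') := fun a' => by
      exact congrArg (fun h => h a') hsq₁
    have := congrArg (IsLocalization.Away.lift (S := Localization.Away R) R hu1) hya'
    rw [map_mul, hy, e1, e1, map_pow] at this
    rw [map_mul]
    exact this
  obtain ⟨⟨_, N, rfl⟩, hN⟩ := (IsLocalization.eq_iff_exists (Submonoid.powers (C * φ R)) _).mp h3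
  simp only at hN
  have haq : φ a ∉ q := by
    intro haq
    have h4 : (C * φ R) ^ N * (C * φ R ^ k) ∈ q := by
      rw [hN]; exact Ideal.mul_mem_left _ _ haq
    have h5 : (C * φ R) ∉ q := fun h => (Ideal.IsPrime.mem_or_mem ‹_› h).elim hCq hRq
    rcases Ideal.IsPrime.mem_or_mem ‹_› h4 with h6 | h6
    · exact h5 (Ideal.IsPrime.mem_of_pow_mem ‹_› _ h6)
    · rcases Ideal.IsPrime.mem_or_mem ‹_› h6 with h7 | h7
      · exact hCq h7
      · exact hRq (Ideal.IsPrime.mem_of_pow_mem ‹_› _ h7)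
  refine ⟨R * a, C, ?_, hCq, ?_⟩
  · rw [map_mul]
    exact fun h => (Ideal.IsPrime.mem_or_mem ‹_› h).elim hRq haq
  intro A' B' _ _ α β ψ hsq hαg hβu hgen
  have hsq' : ∀ a', ψ (α a') = β (φ a') := fun a' => by
    have := congrArg (fun h => h a') hsq
    simpa using this
  have hαR : IsUnit (α R) := isUnit_of_dvd_unit (map_dvd _ (Dvd.intro _ rfl)) hαg
  have hαa : IsUnit (α a) := isUnit_of_dvd_unit (map_dvd _ (Dvd.intro_left _ rfl)) hαg
  have hβC : IsUnit (β C) := isUnit_of_dvd_unit (map_dvd _ (Dvd.intro _ rfl)) hβu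
  have hβR : IsUnit (β (φ R)) := by rw [← hsq']; exact hαR.map ψ
  have hrange : ∀ b, β b ∈ ψ.range := fun b =>
    range_of_generators φ α β ψ hsq s hs x r c (fun b _ => he b)
      (fun b hb => isUnit_of_dvd_unit (map_dvd _ (hcC b hb)) hβC)
      (fun b hb => isUnit_of_dvd_unit (map_dvd _ (hrR b hb)) hαR) b
  -- inverse of `β C` lies in the range
  have h8 : β C * β (φ R) ^ k = β (φ a) := by
    have h9 := congrArg β hN
    simp only [map_mul, map_pow] at h9
    have h10 : IsUnit ((β C * β (φ R)) ^ N) := (hβC.mul hβR).pow N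
    exact h10.mul_left_cancel h9
  obtain ⟨va, hva⟩ := hαa.exists_left_inv
  obtain ⟨vg, hvg⟩ := hαg.exists_left_inv
  have hinvC : β C * ψ (va * α R ^ k) = 1 := by
    rw [map_mul, map_pow, hsq', mul_comm (ψ va), ← mul_assoc, h8, ← hsq', ← map_mul, mul_comm, hva,
      map_one]
  have hinvg : β (φ (R * a)) * ψ vg = 1 := by
    rw [← hsq', ← map_mul, mul_comm, hvg, map_one]
  have hinv : β (C * φ (R * a)) * (ψ (va * α R ^ k) * ψ vg) = 1 := by
    rw [map_mul]
    calc β C * β (φ (R * a)) * (ψ (va * α R ^ k) * ψ vg)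
        = (β C * ψ (va * α R ^ k)) * (β (φ (R * a)) * ψ vg) := by ring
      _ = 1 := by rw [hinvC, hinvg, one_mul]
  intro y
  obtain ⟨b, n, hyb⟩ := hgen y
  have hy' : y = β b * (ψ (va * α R ^ k) * ψ vg) ^ n := by
    rw [← hyb, mul_assoc, ← mul_pow, hinv, one_pow, mul_one]
  rw [hy']
  have : β b * (ψ (va * α R ^ k) * ψ vg) ^ n ∈ ψ.range :=
    ψ.range.mul_mem (hrange b) (ψ.range.pow_mem (ψ.range.mul_mem ⟨_, rfl⟩ ⟨_, rfl⟩) n)
  exact this


open AlgebraicGeometry CategoryTheory in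
/-- A morphism locally of finite type which is surjective on the stalk at `x` is, locally around
`x` and `f x`, given by a surjective ring map between affine opens. -/
theorem exists_affine_surjective_appLE {X S : Scheme.{u}} (f : X ⟶ S) [LocallyOfFiniteType f]
    (x : X) (hx : Function.Surjective (f.stalkMap x).hom) :
    ∃ (S₁ : S.Opens) (X₁ : X.Opens) (e : X₁ ≤ f ⁻¹ᵁ S₁), IsAffineOpen S₁ ∧ IsAffineOpen X₁ ∧
      x ∈ X₁ ∧ Function.Surjective (f.appLE S₁ X₁ e).hom := by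
  obtain ⟨_, ⟨S₀, hS₀, rfl⟩, hxS₀, -⟩ := S.isBasis_affineOpens.exists_subset_of_mem_open
    (Set.mem_univ (f x)) isOpen_univ
  obtain ⟨_, ⟨X₀, hX₀, rfl⟩, hxX₀, e₀ : X₀ ≤ f ⁻¹ᵁ S₀⟩ :=
    X.isBasis_affineOpens.exists_subset_of_mem_open (show x ∈ f ⁻¹ᵁ S₀ from hxS₀)
      (f ⁻¹ᵁ S₀).isOpen
  have hft : (f.appLE S₀ X₀ e₀).hom.FiniteType :=
    HasRingHomProperty.appLE (P := @LocallyOfFiniteType) f inferInstance ⟨S₀, hS₀⟩ ⟨X₀, hX₀⟩ e₀
  have hpq := congr($(IsAffineOpen.comap_primeIdealOf_appLE S₀ hS₀ X₀ hX₀ e₀ hxX₀).1).symm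
  have hsurj : Function.Surjective (Localization.localRingHom _ _ (f.appLE S₀ X₀ e₀).hom hpq) :=
    (RingHom.surjective_respectsIso.arrow_mk_iso_iff
      (IsAffineOpen.arrowStalkMapIso f S₀ hS₀ X₀ hX₀ e₀ hxX₀)).mp hx
  obtain ⟨g, u, hg, hu, H⟩ := exists_away_surjective (f.appLE S₀ X₀ e₀).hom hft _ _ hpq hsurj
  have hmem : ∀ t : Γ(X, X₀), t ∉ (hX₀.primeIdealOf ⟨x, hxX₀⟩).asIdeal → x ∈ X.basicOpen t := by
    intro t ht
    have h1 : hX₀.primeIdealOf ⟨x, hxX₀⟩ ∈ hX₀.fromSpec ⁻¹ᵁ X.basicOpen t := by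
      rw [hX₀.fromSpec_preimage_basicOpen]
      exact ht
    have h2 : hX₀.fromSpec (hX₀.primeIdealOf ⟨x, hxX₀⟩) ∈ X.basicOpen t := h1
    rwa [hX₀.fromSpec_primeIdealOf] at h2
  have hugq : u * (f.appLE S₀ X₀ e₀).hom g ∉ (hX₀.primeIdealOf ⟨x, hxX₀⟩).asIdeal :=
    fun h => (Ideal.IsPrime.mem_or_mem inferInstance h).elim hu hg
  have e₁ : X.basicOpen (u * (f.appLE S₀ X₀ e₀).hom g) ≤ f ⁻¹ᵁ S.basicOpen g := by
    rw [Scheme.preimage_basicOpen]
    intro z hz
    have hz' : z ∈ X.basicOpen ((f.appLE S₀ X₀ e₀).hom g) := by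
      have := X.basicOpen_mul u ((f.appLE S₀ X₀ e₀).hom g)
      rw [this] at hz
      exact hz.2
    have h3 : (f.appLE S₀ X₀ e₀).hom g = (X.presheaf.map (homOfLE e₀).op).hom ((f.app S₀).hom g) := by
      rw [Scheme.Hom.appLE]; rfl
    rw [h3, Scheme.basicOpen_res] at hz'
    exact hz'.2
  refine ⟨S.basicOpen g, X.basicOpen (u * (f.appLE S₀ X₀ e₀).hom g), e₁, hS₀.basicOpen g,
    hX₀.basicOpen _, hmem _ hugq, ?_⟩
  haveI := hS₀.isLocalization_basicOpen g
  haveI := hX₀.isLocalization_basicOpen (u * (f.appLE S₀ X₀ e₀).hom g)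
  refine H Γ(S, S.basicOpen g) Γ(X, X.basicOpen (u * (f.appLE S₀ X₀ e₀).hom g))
    (algebraMap _ _) (algebraMap _ _) (f.appLE _ _ e₁).hom ?_ ?_ ?_ ?_
  · rw [← CommRingCat.hom_ofHom (algebraMap Γ(S, S₀) Γ(S, S.basicOpen g)),
      ← CommRingCat.hom_ofHom (algebraMap Γ(X, X₀) _), ← CommRingCat.hom_comp, ← CommRingCat.hom_comp]
    congr 1
    change S.presheaf.map _ ≫ f.appLE _ _ e₁ = f.appLE S₀ X₀ e₀ ≫ X.presheaf.map _
    rw [Scheme.Hom.map_appLE, Scheme.Hom.appLE_map]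
  · exact IsLocalization.Away.algebraMap_isUnit g
  · exact IsLocalization.Away.algebraMap_isUnit (u * (f.appLE S₀ X₀ e₀).hom g)
  · intro y
    obtain ⟨n, b, hb⟩ := IsLocalization.Away.surj (u * (f.appLE S₀ X₀ e₀).hom g) y
    exact ⟨b, n, by rw [← map_pow]; rw [← map_pow] at hb; exact hb⟩



/-- In a prime spectrum, a point in the closure of a quasi-compact open set is a specialization
of a point of that set. -/
theorem PrimeSpectrum.exists_specializes_of_mem_closure {R : Type*} [CommRing R]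
    {W : Set (PrimeSpectrum R)} (hWc : IsCompact W) (hWo : IsOpen W) {p : PrimeSpectrum R}
    (hp : p ∈ closure W) : ∃ w ∈ W, w ⤳ p := by
  classical
  obtain ⟨t, rfl⟩ := PrimeSpectrum.isCompact_isOpen_iff.mp ⟨hWc, hWo⟩
  have h1 : (PrimeSpectrum.zeroLocus (t : Set R))ᶜ =
      ⋃ h ∈ t, (PrimeSpectrum.basicOpen h : Set (PrimeSpectrum R)) := by
    ext x
    simp [PrimeSpectrum.mem_zeroLocus, Set.subset_def]
  rw [h1, Finset.closure_biUnion] at hp
  simp only [Set.mem_iUnion] at hp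
  obtain ⟨h, hht, hph⟩ := hp
  rw [← PrimeSpectrum.localization_away_comap_range (Localization.Away h) h,
    PrimeSpectrum.closure_range_comap, PrimeSpectrum.mem_zeroLocus] at hph
  obtain ⟨p', hp'min, hp'le⟩ := Ideal.exists_minimalPrimes_le (J := p.asIdeal) hph
  obtain ⟨q, hq, -, hqp⟩ := Ideal.exists_comap_eq_of_mem_minimalPrimes (I := ⊥)
    (algebraMap R (Localization.Away h)) p' hp'min
  refine ⟨⟨p', hp'min.isPrime⟩, ?_, ?_⟩
  · rw [h1]
    simp only [Set.mem_iUnion]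
    refine ⟨h, hht, ?_⟩
    rw [← PrimeSpectrum.localization_away_comap_range (Localization.Away h) h]
    exact ⟨⟨q, hq⟩, PrimeSpectrum.ext hqp⟩
  · rw [← PrimeSpectrum.le_iff_specializes]
    exact hp'le

/-- In a scheme, a point `s` of an affine open `S₁` lying in the closure of a quasi-compact open
`W ≤ S₁` is a specialization of a point of `W`. -/
theorem exists_specializes_of_mem_closure {S : Scheme.{u}} {S₁ : S.Opens} (hS₁ : IsAffineOpen S₁)
    (W : S.Opens) (hW : W ≤ S₁) (hWc : IsCompact (W : Set S)) {s : S} (hs : s ∈ S₁)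
    (hsW : s ∈ closure (W : Set S)) : ∃ w ∈ W, w ⤳ s := by
  have hemb := hS₁.fromSpec.isOpenEmbedding
  have hWr : (W : Set S) ⊆ Set.range hS₁.fromSpec := by
    rw [hS₁.range_fromSpec]; exact hW
  have h1 : IsCompact (hS₁.fromSpec ⁻¹' (W : Set S)) :=
    (hemb.isInducing.isCompact_preimage_iff hWr).mpr hWc
  have h2 : IsOpen (hS₁.fromSpec ⁻¹' (W : Set S)) := W.isOpen.preimage hS₁.fromSpec.continuous
  have h3 : hS₁.primeIdealOf ⟨s, hs⟩ ∈ closure (hS₁.fromSpec ⁻¹' (W : Set S)) := by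
    rw [← hemb.isOpenMap.preimage_closure_eq_closure_preimage hS₁.fromSpec.continuous]
    change hS₁.fromSpec (hS₁.primeIdealOf ⟨s, hs⟩) ∈ closure (W : Set S)
    rw [hS₁.fromSpec_primeIdealOf]
    exact hsW
  obtain ⟨w, hw, hws⟩ := PrimeSpectrum.exists_specializes_of_mem_closure h1 h2 h3
  refine ⟨hS₁.fromSpec w, hw, ?_⟩
  have := hws.map hS₁.fromSpec.continuous
  rwa [hS₁.fromSpec_primeIdealOf] at this


/-- Key step: the image of `f` is a neighbourhood of `f x`. -/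
theorem exists_nhd_subset_range {X S : Scheme.{u}} (f : X ⟶ S) [LocallyOfFiniteType f] [Flat f]
    [Mono f] (U : S.Opens) [QuasiCompact U.ι] [IsSchemeTheoreticallyDominant U.ι]
    [IsOpenImmersion (f ∣_ U)] (x : X) :
    ∃ N : S.Opens, f x ∈ N ∧ (N : Set S) ⊆ Set.range f := by
  obtain ⟨S₁, X₁, e, hS₁, hX₁, hxX₁, hsurj⟩ :=
    exists_affine_surjective_appLE f x (bijective_stalkMap_of_flat_of_mono f x).2
  -- the restriction `X₁ ⟶ S₁` is a closed immersion
  haveI : IsAffine S₁ := hS₁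
  haveI : IsAffine X₁ := hX₁
  have hsurj' : Function.Surjective (f.resLE S₁ X₁ e).appTop.hom :=
    (RingHom.surjective_respectsIso.arrow_mk_iso_iff (arrowResLEAppIso f S₁ X₁ e)).mpr hsurj
  haveI : IsClosedImmersion (f.resLE S₁ X₁ e) :=
    IsClosedImmersion.of_surjective_of_isAffine _ hsurj'
  have hcl : IsClosed (Set.range (f.resLE S₁ X₁ e)) :=
    (f.resLE S₁ X₁ e).isClosedEmbedding.isClosed_range
  obtain ⟨C, hC, hCr⟩ := isClosed_induced_iff.mp hcl
  -- `T = f '' X₁ = C ∩ S₁`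
  have hT : ∀ y : S, y ∈ f '' (X₁ : Set X) ↔ y ∈ C ∧ y ∈ S₁ := by
    intro y
    constructor
    · rintro ⟨z, hz, rfl⟩
      have h1 : (⟨f z, e hz⟩ : S₁) ∈ Set.range (f.resLE S₁ X₁ e) :=
        ⟨⟨z, hz⟩, Subtype.ext (by simp)⟩
      rw [← hCr] at h1
      exact ⟨h1, e hz⟩
    · rintro ⟨hyC, hyS⟩
      have h1 : (⟨y, hyS⟩ : S₁) ∈ Set.range (f.resLE S₁ X₁ e) := by
        rw [← hCr]; exact hyC
      obtain ⟨z, hz⟩ := h1
      refine ⟨z.1, z.2, ?_⟩
      have := congrArg Subtype.val hz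
      simpa using this
  -- `f '' (X₁ ∩ f⁻¹ U)` is open
  have hopen : IsOpen (f '' ((X₁ : Set X) ∩ (f ⁻¹ᵁ U : Set X))) := by
    have h1 : f '' ((X₁ : Set X) ∩ (f ⁻¹ᵁ U : Set X)) =
        U.ι '' ((f ∣_ U) '' ((f ⁻¹ᵁ U).ι ⁻¹' (X₁ : Set X))) := by
      ext y
      constructor
      · rintro ⟨z, ⟨hz1, hz2⟩, rfl⟩
        refine ⟨(f ∣_ U) ⟨z, hz2⟩, ⟨⟨z, hz2⟩, hz1, rfl⟩, ?_⟩
        rw [← Scheme.Hom.comp_apply, morphismRestrict_ι, Scheme.Hom.comp_apply]
        rfl
      · rintro ⟨_, ⟨z, hz, rfl⟩, rfl⟩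
        refine ⟨z.1, ⟨hz, z.2⟩, ?_⟩
        rw [← Scheme.Hom.comp_apply, morphismRestrict_ι, Scheme.Hom.comp_apply]
        rfl
    rw [h1]
    exact U.ι.isOpenEmbedding.isOpenMap _ ((f ∣_ U).isOpenEmbedding.isOpenMap _
      (X₁.isOpen.preimage (f ⁻¹ᵁ U).ι.continuous))
  -- the quasi-compact open `W' = (U ⊓ S₁) \ T`
  have hUS : IsCompact ((U ⊓ S₁ : S.Opens) : Set S) := by
    have h1 : IsCompact (U.ι ⁻¹' (S₁ : Set S)) :=
      U.ι.isCompact_preimage hS₁.isCompact
    have h2 : ((U ⊓ S₁ : S.Opens) : Set S) = U.ι '' (U.ι ⁻¹' (S₁ : Set S)) := by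
      rw [Set.image_preimage_eq_inter_range, Scheme.Opens.range_ι, Set.inter_comm]
      rfl
    rw [h2]
    exact h1.image U.ι.continuous
  let W' : S.Opens := ⟨((U ⊓ S₁ : S.Opens) : Set S) ∩ Cᶜ, (U ⊓ S₁).isOpen.inter hC.isOpen_compl⟩
  have hW'c : IsCompact (W' : Set S) := by
    have h1 : (W' : Set S) = ((U ⊓ S₁ : S.Opens) : Set S) \
        (f '' ((X₁ : Set X) ∩ (f ⁻¹ᵁ U : Set X))) := by
      ext y
      constructor
      · rintro ⟨⟨hyU, hyS⟩, hyC⟩
        refine ⟨⟨hyU, hyS⟩, ?_⟩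
        rintro ⟨z, ⟨hz1, _⟩, rfl⟩
        exact hyC ((hT _).mp ⟨z, hz1, rfl⟩).1
      · rintro ⟨⟨hyU, hyS⟩, hy⟩
        refine ⟨⟨hyU, hyS⟩, fun hyC => hy ?_⟩
        obtain ⟨z, hz, rfl⟩ := (hT y).mpr ⟨hyC, hyS⟩
        exact ⟨z, ⟨hz, hyU⟩, rfl⟩
    rw [h1]
    exact hUS.diff hopen
  have hW'S : W' ≤ S₁ := fun y hy => hy.1.2
  -- `f x` is not in the closure of `W'`
  have hnot : f x ∉ closure (W' : Set S) := by
    intro hcl'
    obtain ⟨w, hw, hws⟩ := exists_specializes_of_mem_closure hS₁ W' hW'S hW'c (e hxX₁) hcl'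
    obtain ⟨z, hzx, rfl⟩ := Flat.generalizingMap f hws
    have hz : z ∈ X₁ := hzx.mem_open X₁.isOpen hxX₁
    exact hw.2 ((hT _).mp ⟨z, hz, rfl⟩).1
  let N : S.Opens := ⟨(closure (W' : Set S))ᶜ ∩ (S₁ : Set S),
    isClosed_closure.isOpen_compl.inter S₁.isOpen⟩
  refine ⟨N, ⟨hnot, e hxX₁⟩, ?_⟩
  -- `N ⊆ T` by density of `U`
  have hdense : Dense (U : Set S) := by
    have := (inferInstance : IsDominant U.ι).denseRange
    rwa [DenseRange, Scheme.Opens.range_ι] at this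
  intro y hy
  by_contra hyr
  have hyC : y ∉ C := fun hyC => hyr (by
    obtain ⟨z, -, rfl⟩ := (hT y).mpr ⟨hyC, hy.2⟩
    exact ⟨z, rfl⟩)
  have hne : ((N : Set S) ∩ Cᶜ).Nonempty := ⟨y, hy, hyC⟩
  obtain ⟨v, hvU, hvN, hvC⟩ := hdense.exists_mem_open (N.isOpen.inter hC.isOpen_compl) hne
  exact hvN.1 (subset_closure ⟨⟨hvU, hvN.2⟩, hvC⟩)

/-- A flat monomorphism which is an open map is an open immersion. -/
theorem isOpenImmersion_of_flat_of_mono_of_isOpenMap {X Y : Scheme.{u}} (f : X ⟶ Y) [Flat f]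
    [Mono f] (hopen : IsOpenMap f) : IsOpenImmersion f := by
  let V : Y.Opens := ⟨Set.range f, hopen.isOpen_range⟩
  have hV : IsOpenImmersion V.ι := V.instIsOpenImmersionι
  let f' := hV.lift V.ι f (by simp [V])
  have heq : f = f' ≫ V.ι := by simp [f']
  have hflat : Flat f' :=
    MorphismProperty.of_postcomp (W := @Flat) f' V.ι hV (by rwa [← heq])
  have hmono : Mono f' := mono_of_mono_fac heq.symm
  have hsurj : Surjective f' := ⟨fun ⟨x, ⟨y, hy⟩⟩ ↦
      ⟨y, by apply V.ι.injective; simp [← Scheme.Hom.comp_apply, f', hy]⟩⟩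
  have hopen' : IsOpenMap f' := by
    intro W hW
    have h1 : (f' '' W) = V.ι ⁻¹' (f '' W) := by
      ext v
      constructor
      · rintro ⟨w, hw, rfl⟩
        refine ⟨w, hw, ?_⟩
        rw [heq, Scheme.Hom.comp_apply]
      · rintro ⟨w, hw, hwv⟩
        refine ⟨w, hw, V.ι.injective ?_⟩
        rw [← hwv, ← Scheme.Hom.comp_apply, ← heq]
    rw [h1]
    exact (hopen W hW).preimage V.ι.continuous
  have hhomeo : IsHomeomorph f' := ⟨f'.continuous, hopen', f'.injective, f'.surjective⟩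
  have : QuasiCompact f' := ⟨fun U hU hc ↦ hhomeo.homeomorph.isCompact_preimage.mpr hc⟩
  have := Flat.isIso_of_surjective_of_mono f'
  rw [heq]
  infer_instance

/-- **Main theorem**: a separated flat morphism locally of finite type which is an isomorphism
over a quasi-compact scheme-theoretically dense open of the target is an open immersion. -/
theorem isOpenImmersion_of_isIso_over_dense {X S : Scheme.{u}} (f : X ⟶ S) [IsSeparated f]
    [LocallyOfFiniteType f] [Flat f] (U : S.Opens) [QuasiCompact U.ι]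
    [IsSchemeTheoreticallyDominant U.ι] [IsIso (f ∣_ U)] : IsOpenImmersion f := by
  haveI : Mono f := mono_of_mono_over_dense f U
  refine isOpenImmersion_of_flat_of_mono_of_isOpenMap f ?_
  intro V hV
  rw [isOpen_iff_forall_mem_open]
  rintro _ ⟨x, hx, rfl⟩
  let X' : X.Opens := ⟨V, hV⟩
  haveI : IsOpenImmersion ((X'.ι ≫ f) ∣_ U) := by
    have e := morphismRestrict_comp X'.ι f U
    have h3 : IsOpenImmersion (X'.ι ∣_ f ⁻¹ᵁ U ≫ f ∣_ U) := inferInstance
    rw [e]
    exact h3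
  obtain ⟨N, hN1, hN2⟩ := exists_nhd_subset_range (X'.ι ≫ f) U ⟨x, hx⟩
  refine ⟨N, ?_, N.isOpen, hN1⟩
  intro y hy
  obtain ⟨z, rfl⟩ := hN2 hy
  exact ⟨z.1, z.2, rfl⟩

end Groth.Agent.Lib.Helper6.FlatOIm
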