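import Mathlib

set_option autoImplicit false
universe u

namespace Groth.Agent.Lib.Helper6.FracSmooth

open scoped nonZeroDivisors

theorem exists_smooth_away (R A₀ K : Type*) [CommRing R] [CommRing A₀] [IsDomain A₀] [Field K]
    [Algebra R A₀] [Algebra A₀ K] [Algebra R K] [IsScalarTower R A₀ K] [IsFractionRing A₀ K]
    [Algebra.FinitePresentation R A₀] [Algebra.FormallySmooth R K] :
    ∃ f : A₀, f ≠ 0 ∧ Algebra.Smooth R (Localization.Away f) := by
  haveI : (⊥ : Ideal A₀).IsPrime := Ideal.isPrime_bot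
  haveI : IsLocalization (⊥ : Ideal A₀).primeCompl K := by
    rw [Ideal.primeCompl_bot]; infer_instance
  haveI : Algebra.IsSmoothAt R (⊥ : Ideal A₀) := by
    have e : K ≃ₐ[A₀] Localization.AtPrime (⊥ : Ideal A₀) :=
      IsLocalization.algEquiv (⊥ : Ideal A₀).primeCompl K _
    exact Algebra.FormallySmooth.of_equiv (e.restrictScalars R)
  obtain ⟨f, hf, hsm⟩ := Algebra.IsSmoothAt.exists_notMem_smooth R (⊥ : Ideal A₀)
  exact ⟨f, fun h => hf (by rw [h]; exact Ideal.zero_mem _), hsm⟩


theorem exists_subalgebra (R K : Type*) [CommRing R] [IsNoetherianRing R] [Field K] [Algebra R K]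
    (s : Finset K)
    (hfrac : ∀ z : K, ∃ x ∈ Algebra.adjoin R (s : Set K), ∃ y ∈ Algebra.adjoin R (s : Set K),
      z = x / y)
    [Algebra.FormallySmooth R K] :
    ∃ A : Subalgebra R K, Algebra.FiniteType R A ∧ Algebra.Smooth R A ∧ IsFractionRing A K := by
  set A₀ : Subalgebra R K := Algebra.adjoin R (s : Set K) with hA₀
  haveI : Algebra.FiniteType R A₀ := (Subalgebra.fg_iff_finiteType _).1 (Subalgebra.fg_adjoin_finset s)
  haveI : Algebra.FinitePresentation R A₀ := Algebra.FinitePresentation.of_finiteType.1 inferInstance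
  haveI : IsFractionRing A₀ K := by
    refine IsFractionRing.of_field A₀ K fun z => ?_
    obtain ⟨x, hx, y, hy, rfl⟩ := hfrac z
    exact ⟨⟨x, hx⟩, ⟨y, hy⟩, rfl⟩
  obtain ⟨f, hf, hsm⟩ := exists_smooth_away R A₀ K
  have hS : Submonoid.powers f ≤ A₀⁰ :=
    Submonoid.powers_le.2 (mem_nonZeroDivisors_of_ne_zero hf)
  let φ₀ : Localization.Away f →ₐ[A₀] K :=
    Localization.mapToFractionRing K (Submonoid.powers f) (Localization.Away f) hS
  let φ : Localization.Away f →ₐ[R] K := φ₀.restrictScalars R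
  have hinj : Function.Injective φ := by
    intro a b h
    refine (IsLocalization.lift_injective_iff _).2 (fun a b => ?_) h
    exact ⟨fun h => congr_arg _ (IsLocalization.injective _ hS h),
      fun h => congr_arg _ (IsFractionRing.injective A₀ K h)⟩
  let e : Localization.Away f ≃ₐ[R] φ.range := AlgEquiv.ofInjective φ hinj
  have hle : ∀ x ∈ A₀, x ∈ φ.range := by
    intro x hx
    refine ⟨algebraMap A₀ (Localization.Away f) ⟨x, hx⟩, ?_⟩
    change φ₀ (algebraMap A₀ (Localization.Away f) ⟨x, hx⟩) = x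
    rw [φ₀.commutes]; rfl
  refine ⟨φ.range, ?_, ?_, ?_⟩
  · haveI := Algebra.Smooth.of_equiv e
    infer_instance
  · exact Algebra.Smooth.of_equiv e
  · refine IsFractionRing.of_field φ.range K fun z => ?_
    obtain ⟨x, hx, y, hy, rfl⟩ := hfrac z
    exact ⟨⟨x, hle x hx⟩, ⟨y, hle y hy⟩, rfl⟩


theorem hfrac_of_closure {R K : Type*} [CommRing R] [Field K] [Algebra R K] (s : Finset K)
    (hs : Subfield.closure (↑s : Set K) = ⊤) (z : K) :
    ∃ x ∈ Algebra.adjoin R (s : Set K), ∃ y ∈ Algebra.adjoin R (s : Set K), z = x / y := by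
  have hz : z ∈ Subfield.closure (↑s : Set K) := by rw [hs]; trivial
  rw [Subfield.mem_closure_iff] at hz
  obtain ⟨x, hx, y, hy, rfl⟩ := hz
  have hle : Subring.closure (↑s : Set K) ≤ (Algebra.adjoin R (s : Set K)).toSubring :=
    Subring.closure_le.2 Algebra.subset_adjoin
  exact ⟨x, hle hx, y, hle hy, rfl⟩

theorem main_charP (K : Type u) [Field K] (p : ℕ) [Fact p.Prime] [CharP K p] (s : Finset K)
    (hs : Subfield.closure (↑s : Set K) = ⊤) :
    ∃ A : Subalgebra (⊥ : Subfield K) K, Algebra.FiniteType (⊥ : Subfield K) A ∧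
      Algebra.Smooth (⊥ : Subfield K) A ∧ IsFractionRing A K := by
  haveI : Fintype (⊥ : Subfield K) := Subfield.fintypeBot K p
  haveI : PerfectField (⊥ : Subfield K) := PerfectField.ofFinite
  haveI : Field.FG K := ⟨⟨s, hs⟩⟩
  haveI : Algebra.EssFiniteType (⊥ : Subfield K) K := Field.fg_iff_essFiniteType.1 inferInstance
  haveI : Algebra.FormallySmooth (⊥ : Subfield K) K := inferInstance
  exact exists_subalgebra (⊥ : Subfield K) K s (hfrac_of_closure s hs)


lemma formallySmooth_rat (K : Type*) [Field K] [Algebra ℚ K] : Algebra.FormallySmooth ℚ K := by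
  haveI : CharZero K := algebraRat.charZero K
  obtain ⟨ι, x, hx⟩ := exists_isTranscendenceBasis' ℚ K
  have halg := hx.isAlgebraic_field
  have : Algebra.IsSeparable (IntermediateField.adjoin ℚ (Set.range x)) K := inferInstance
  exact Algebra.FormallySmooth.of_algebraicIndependent_of_isSeparable hx.1

theorem main_char0 (K : Type u) [Field K] [CharZero K] (s : Finset K)
    (hs : Subfield.closure (↑s : Set K) = ⊤) :
    ∃ A : Subring K, Algebra.FiniteType ℤ A ∧ Algebra.Smooth ℤ A ∧ IsFractionRing A K := by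
  haveI : Algebra.FormallySmooth ℤ ℚ := Algebra.FormallySmooth.of_isLocalization (nonZeroDivisors ℤ)
  haveI : Algebra.FormallySmooth ℚ K := formallySmooth_rat K
  haveI : Algebra.FormallySmooth ℤ K := Algebra.FormallySmooth.comp ℤ ℚ K
  obtain ⟨A', h1, h2, h3⟩ := exists_subalgebra ℤ K s (hfrac_of_closure s hs)
  let e₀ : ↥A' ≃+* ↥A'.toSubring :=
    { toFun := fun x => ⟨x.1, x.2⟩
      invFun := fun x => ⟨x.1, x.2⟩
      left_inv := fun _ => rfl
      right_inv := fun _ => rfl
      map_mul' := fun _ _ => rfl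
      map_add' := fun _ _ => rfl }
  let e : ↥A' ≃ₐ[ℤ] ↥A'.toSubring := AlgEquiv.ofRingEquiv (f := e₀) (fun r => by
    rw [eq_intCast (algebraMap ℤ ↥A') r, eq_intCast (algebraMap ℤ ↥A'.toSubring) r, map_intCast])
  refine ⟨A'.toSubring, ?_, ?_, ?_⟩
  · exact Algebra.FiniteType.equiv h1 e
  · exact Algebra.Smooth.of_equiv e
  · refine IsFractionRing.of_field ↥A'.toSubring K fun z => ?_
    obtain ⟨x, y, _, rfl⟩ := IsFractionRing.div_surjective (A := A') z
    exact ⟨⟨x.1, x.2⟩, ⟨y.1, y.2⟩, rfl⟩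

end Groth.Agent.Lib.Helper6.FracSmooth
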