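import Groth.Agent.Lib.Helper6StablePair
import Groth.Agent.Lib.Helper4CurveCliff2
import Groth.Agent.Lib.Helper4CurveNorm
import Groth.Prelude.Def_LinSer

/-!
# Uniqueness of the `g¹₂` on a curve of genus `≥ 2` (helper6): S11355
-/

set_option autoImplicit false
set_option linter.style.haveILetI false
universe u
open CategoryTheory Limits AlgebraicGeometry Opposite TopologicalSpace

namespace Groth.Agent.Lib.Helper6.G12

open Groth.Agent.Lib.Helper4.CurveBun Groth.Agent.Lib.Helper4.DegAdd Groth.Agent.Lib.Helper4.CurveRR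
  Groth.Agent.Lib.Helper4.Dev Groth.Agent.Lib.Helper6.CurveDeg
  Groth.Agent.Lib.Helper4.CurveStab Groth.Agent.Lib.Helper23.SecTw
  Groth.Agent.Lib.Helper4.CurveAsym Groth.Agent.Lib.Helper6.TwistSS
  Groth.Agent.Lib.Helper27GlobGenPn
  Groth.Agent.Lib.Helper6.GGCurve Groth.Agent.Lib.Helper6.NegFilt Groth.Agent.Lib.Helper6.H0One
  Groth.Agent.Lib.Helper6.PointIdeal Groth.Agent.Lib.Helper21.ExtCartier
  Groth.Agent.Lib.Helper6.SimpleSub Groth.Agent.Lib.Helper4.CurveChi

variable (k : Type u) [Field k] (X : Scheme.{u}) [X.Over (Spec (CommRingCat.of k))]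
  [IsIntegral X] [IsProper (X ↘ Spec (CommRingCat.of k))]

/-- the Clifford / Riemann–Roch alternative for `h⁰` of a line bundle -/
theorem h0_cases [IsAlgClosed k] (hpid : PIDStalks X) (hdim : topologicalKrullDim X = 1)
    (N : X.Modules) (hN : PicF.IsInvertible N) :
    Module.finrank k (Coh.HH X N 0) = 0 ∨
      2 * (Module.finrank k (Coh.HH X N 0) : ℤ) ≤ Curv2.deg k X N 1 + 2 ∨
      (Module.finrank k (Coh.HH X N 0) : ℤ) = Curv2.deg k X N 1 + 1 - (Curv2.genus k X : ℤ) := by
  rcases Nat.eq_zero_or_pos (Module.finrank k (Coh.HH X N 0)) with h0 | h0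
  · exact Or.inl h0
  · rcases Nat.eq_zero_or_pos (Module.finrank k (Coh.HH X N 1)) with h1 | h1
    · exact Or.inr (Or.inr (Groth.Agent.Lib.Helper4.CurveCliff.h0_eq_of_nonspecial k X hdim N hN h1))
    · exact Or.inr (Or.inl (Groth.Agent.Lib.Helper4.CurveCliff.two_mul_h0_le k X hpid hdim N hN h0 h1))

/-- the split sequence `0 → O → O² → O → 0` -/
noncomputable def freeSES : ShortComplex X.Modules :=
  ShortComplex.mk (inc X 2 0) (pr X 2 1) (by rw [inc_pr]; exact if_neg (by decide))

omit [IsIntegral X] in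
theorem freeSES_shortExact : (freeSES X).ShortExact := by
  have hsum : pr X 2 0 ≫ inc X 2 0 + pr X 2 1 ≫ inc X 2 1 = 𝟙 (FlatMod.freeMod X 2) := by
    rw [← sum_pr_inc X 2, Fin.sum_univ_two]
  refine ShortComplex.Splitting.shortExact (S := freeSES X)
    { r := pr X 2 0
      s := inc X 2 1
      f_r := by change inc X 2 0 ≫ pr X 2 0 = 𝟙 _; rw [inc_pr, if_pos rfl]
      s_g := by change inc X 2 1 ≫ pr X 2 1 = 𝟙 _; rw [inc_pr, if_pos rfl]
      id := hsum }

omit [IsIntegral X] in
theorem deg_free_two : Curv2.deg k X (FlatMod.freeMod X 2) 2 = 0 := by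
  have h1 : FlatMod.IsFinLocFreeOfRank 1 (Coh.structureModule X) :=
    isFinLocFreeOfRank_one_of_isInvertible _
      (Groth.Agent.Lib.Helper23.TensorUnit.isInvertible_structureModule X)
  have h := deg_additive k X (freeSES X) (freeSES_shortExact X) 1 2 1 h1 (isFinLocFreeOfRank_freeMod X 2) h1
  have h' : Curv2.deg k X (FlatMod.freeMod X 2) 2 =
      Curv2.deg k X (Coh.structureModule X) 1 + Curv2.deg k X (Coh.structureModule X) 1 := h
  rw [h', deg_structureModule]
  rfl

omit [IsIntegral X] in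
/-- a map onto a line bundle which is not an epimorphism has a base point -/
theorem exists_base_point [IsAlgClosed k]
    (N : X.Modules) (hN : FlatMod.IsFinLocFreeOfRank 1 N) {T : X.Modules} (cT : Coh.IsCoh T) (σ : T ⟶ N)
    (hσ : ¬ Epi σ) :
    ∃ (p : X) (hp : IsClosed ({p} : Set X)),
      ∀ t : Coh.structureModule X ⟶ T,
        ((t ≫ σ) ≫ (lam N).inv) ≫
          wl (ClSub.toSubscheme (Scheme.IdealSheafData.vanishingIdeal ⟨{p}, hp⟩)) N = 0 := by
  haveI : IsLocallyNoetherian X := isLocallyNoetherian_of_proper k X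
  haveI : AlgebraicGeometry.IsNoetherian X := isNoetherian_of_proper k X
  have cN := isCoh_of_isFinLocFreeOfRank N 1 hN
  have cC : Coh.IsCoh (cokernel σ) := isCoh_cokernel σ cT cN
  have hne : CohB1.support (cokernel σ) ≠ ∅ := fun h =>
    hσ (Preadditive.epi_of_isZero_cokernel σ (isZero_of_support_eq_empty _ h))
  have hne' : (CohB1.support (cokernel σ)).Nonempty := Set.nonempty_iff_ne_empty.2 hne
  have hcl : IsClosed (CohB1.support (cokernel σ)) := Groth.Agent.S0020.result X _ cC.2
  obtain ⟨p, hpS, hp⟩ := hcl.exists_closed_singleton hne'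
  refine ⟨p, hp, ?_⟩
  by_contra hcon
  push Not at hcon
  obtain ⟨t, hu⟩ := hcon
  apply hpS
  obtain ⟨h0, hv, hQ, hsub⟩ := quotMod_point k X p hp
  have hQE : Coh.IsCoh (CohB1.tensorMod (ClSub.quotMod
      (Scheme.IdealSheafData.vanishingIdeal ⟨{p}, hp⟩)) N) := isCoh_tensorMod_locFree _ N hQ 1 hN
  have hsupp' : ∀ x ∈ CohB1.support (CohB1.tensorMod (ClSub.quotMod
      (Scheme.IdealSheafData.vanishingIdeal ⟨{p}, hp⟩)) N), IsClosed ({x} : Set X) := by
    intro x hx
    have hxp := hsub (Groth.Agent.Lib.Helper4.ZeroDimChi.support_tensorMod_subset_left _ N hx)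
    rw [hxp]
    exact hp
  obtain ⟨ι, π, hπ⟩ := Groth.Agent.Lib.Helper4.ZeroDimGG.isGloballyGenerated_of_closed_points _ hQE hsupp'
  have h1 := h0_quot_tensor k X p hp 1 N hN
  have hspan := (finrank_eq_one_iff_of_nonzero' _ hu).1 h1
  haveI : Epi (((t ≫ σ) ≫ (lam N).inv) ≫
      wl (ClSub.toSubscheme (Scheme.IdealSheafData.vanishingIdeal ⟨{p}, hp⟩)) N) :=
    @Groth.Agent.Lib.Helper6.Atiyah.epi_of_sigma_factor (SheafOfModules X.ringCatSheaf) _ ι
      (fun _ : ι => SheafOfModules.unit X.ringCatSheaf) _ _ _ π hπ _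
      (fun i => by
        obtain ⟨c, hc⟩ := hspan (Sigma.ι (fun _ : ι => SheafOfModules.unit X.ringCatSheaf) i ≫ π)
        exact ⟨Formal.smulMod k _ c, hc⟩)
  have hz : wr (ClSub.quotMod (Scheme.IdealSheafData.vanishingIdeal ⟨{p}, hp⟩)) (cokernel.π σ) = 0 := by
    rw [← cancel_epi (((t ≫ σ) ≫ (lam N).inv) ≫
      wl (ClSub.toSubscheme (Scheme.IdealSheafData.vanishingIdeal ⟨{p}, hp⟩)) N), comp_zero,
      Category.assoc, Category.assoc, ← Category.assoc (lam N).inv, eta_naturality,
      ← Category.assoc, Category.assoc t, cokernel.condition, comp_zero, zero_comp]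
  have hQp : Nontrivial ((ClSub.quotMod (Scheme.IdealSheafData.vanishingIdeal
      (⟨{p}, hp⟩ : TopologicalSpace.Closeds X))).presheaf.stalk p) := by
    by_contra hnt
    rw [not_nontrivial_iff_subsingleton] at hnt
    have hemp : CohB1.support (ClSub.quotMod (Scheme.IdealSheafData.vanishingIdeal
        (⟨{p}, hp⟩ : TopologicalSpace.Closeds X))) = ∅ := by
      apply Set.eq_empty_of_forall_notMem
      intro x hx
      have hxp := hsub hx
      rw [Set.mem_singleton_iff] at hxp
      subst hxp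
      exact hx hnt
    have hZ := isZero_of_support_eq_empty _ hemp
    haveI := Groth.Agent.Lib.Helper6.SSVanish.HH_subsingleton_of_isZero k _ hZ 0
    rw [Module.finrank_zero_of_subsingleton] at h0
    exact zero_ne_one h0
  haveI : Epi (ClSub.toSubscheme (Scheme.IdealSheafData.vanishingIdeal
      (⟨{p}, hp⟩ : TopologicalSpace.Closeds X))) := (idealSES_shortExact _).epi_g
  exact subsingleton_stalk_of_wr_eq_zero (cokernel.π σ) cC _ (ClSub.toSubscheme _) p hQp hz

/-- the map `O² ⟶ M` given by two sections -/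
noncomputable def sig {M : X.Modules} (u : Fin 2 → (Coh.structureModule X ⟶ M)) :
    FlatMod.freeMod X 2 ⟶ M := ∑ j, pr X 2 j ≫ u j

omit [X.Over (Spec (CommRingCat.of k))] [IsIntegral X] [IsProper (X ↘ Spec (CommRingCat.of k))] in
theorem inc_sig {M : X.Modules} (u : Fin 2 → (Coh.structureModule X ⟶ M)) (i : Fin 2) :
    inc X 2 i ≫ sig X u = u i := by
  unfold sig
  rw [Preadditive.comp_sum, Finset.sum_eq_single i]
  · rw [← Category.assoc, inc_pr, if_pos rfl, Category.id_comp]
  · intro j _ hji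
    rw [← Category.assoc, inc_pr, if_neg (Ne.symm hji), zero_comp]
  · intro h
    exact absurd (Finset.mem_univ i) h

/-- a pencil of degree two on a curve of genus `≥ 2` has no base point -/
theorem epi_sig [IsAlgClosed k] (hpid : PIDStalks X) (hdim : topologicalKrullDim X = 1)
    (hg : 2 ≤ Curv2.genus k X) (M : X.Modules) (hM : PicF.IsInvertible M)
    (hd : Curv2.deg k X M 1 = 2) (u : Fin 2 → (Coh.structureModule X ⟶ M))
    (hu : LinearIndependent k u) : Epi (sig X u) := by
  haveI : IsLocallyNoetherian X := isLocallyNoetherian_of_proper k X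
  by_contra hσ
  have hM1 := isFinLocFreeOfRank_one_of_isInvertible M hM
  obtain ⟨p, hp, hall⟩ := exists_base_point k X M hM1
    (isCoh_of_isFinLocFreeOfRank _ 2 (isFinLocFreeOfRank_freeMod X 2)) (sig X u) hσ
  obtain ⟨hIinv, hIdeg, -, -⟩ := twist_point k X hpid hdim p hp M hM1
  have hMflat := isFlat_of_isFinLocFreeOfRank M 1 hM1
  have hS := shortExact_map_tw (idealSES (Scheme.IdealSheafData.vanishingIdeal ⟨{p}, hp⟩))
    (idealSES_shortExact _) M hMflat
  haveI := hS.mono_f
  have hvan : ∀ i, (u i ≫ (lam M).inv) ≫ ((idealSES (Scheme.IdealSheafData.vanishingIdeal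
      ⟨{p}, hp⟩)).map (Groth.Agent.Lib.Helper27SerreVan.tw M)).g = 0 := by
    intro i
    have h := hall (inc X 2 i)
    rw [inc_sig] at h
    exact h
  have hw : ∀ i, hS.exact.lift _ (hvan i) ≫ ((idealSES (Scheme.IdealSheafData.vanishingIdeal
      ⟨{p}, hp⟩)).map (Groth.Agent.Lib.Helper27SerreVan.tw M)).f = u i ≫ (lam M).inv :=
    fun i => hS.exact.lift_f _ _
  have hwli : LinearIndependent k (fun i => hS.exact.lift _ (hvan i)) := by
    rw [Fintype.linearIndependent_iff] at hu ⊢
    intro c hc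
    apply hu c
    have h1 : (∑ i, c i • hS.exact.lift _ (hvan i)) ≫ ((idealSES (Scheme.IdealSheafData.vanishingIdeal
        ⟨{p}, hp⟩)).map (Groth.Agent.Lib.Helper27SerreVan.tw M)).f = 0 := by rw [hc, zero_comp]
    rw [Preadditive.sum_comp] at h1
    simp only [Linear.smul_comp, hw] at h1
    rw [← cancel_mono (lam M).inv, zero_comp, Preadditive.sum_comp]
    simp only [Linear.smul_comp]
    exact h1
  have cIM : Coh.IsCoh (CohB1.tensorMod (ClSub.idealMod
      (Scheme.IdealSheafData.vanishingIdeal ⟨{p}, hp⟩)) M) := isCoh_of_isInvertible _ hIinv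
  haveI : Module.Finite k (Coh.HH X (CohB1.tensorMod (ClSub.idealMod
      (Scheme.IdealSheafData.vanishingIdeal ⟨{p}, hp⟩)) M) 0) := Groth.Agent.S0002.result k X _ cIM 0
  haveI : Module.Finite k (Coh.structureModule X ⟶ ((idealSES (Scheme.IdealSheafData.vanishingIdeal
      ⟨{p}, hp⟩)).map (Groth.Agent.Lib.Helper27SerreVan.tw M)).X₁) :=
    Module.Finite.equiv (homH0Equiv k (CohB1.tensorMod (ClSub.idealMod
      (Scheme.IdealSheafData.vanishingIdeal ⟨{p}, hp⟩)) M)).symm
  have h2 := hwli.fintype_card_le_finrank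
  rw [Fintype.card_fin] at h2
  have h3 : 2 ≤ Module.finrank k (Coh.HH X (CohB1.tensorMod (ClSub.idealMod
      (Scheme.IdealSheafData.vanishingIdeal ⟨{p}, hp⟩)) M) 0) := by
    rw [← finrank_hom_eq k]
    exact h2
  have hg' : (2 : ℤ) ≤ (Curv2.genus k X : ℤ) := by exact_mod_cast hg
  have h3' : (2 : ℤ) ≤ (Module.finrank k (Coh.HH X (CohB1.tensorMod (ClSub.idealMod
      (Scheme.IdealSheafData.vanishingIdeal ⟨{p}, hp⟩)) M) 0) : ℤ) := by exact_mod_cast h3
  rcases h0_cases k X hpid hdim _ hIinv with h | h | h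
  · omega
  · rw [hIdeg, hd] at h
    linarith
  · rw [hIdeg, hd] at h
    linarith

section Cancel

variable {X}

noncomputable def fIso (D K A : X.Modules) (b : CohB1.tensorMod D K ≅ Coh.structureModule X) :
    A ≅ CohB1.tensorMod D (CohB1.tensorMod K A) :=
  (lam A).symm ≪≫ ((Groth.Agent.Lib.Helper27SerreVan.tw A).mapIso b).symm ≪≫
      Groth.Agent.Lib.Helper23.LocGen.tensorAssoc D K A

noncomputable def gIso (D : X.Modules) {P Q : X.Modules} (e : P ≅ Q) :
    CohB1.tensorMod D P ≅ CohB1.tensorMod D Q := (tl D).mapIso e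

omit [IsIntegral X] in
theorem cancel_left' (D K A B : X.Modules) (b : CohB1.tensorMod D K ≅ Coh.structureModule X)
    (e : CohB1.tensorMod K A ≅ CohB1.tensorMod K B) : Nonempty (A ≅ B) :=
  ⟨fIso D K A b ≪≫ gIso D e ≪≫ (fIso D K B b).symm⟩

omit [IsIntegral X] in
/-- cancellation of an invertible tensor factor on the left -/
theorem cancel_left (K A B : X.Modules) (hK : PicF.IsInvertible K)
    (e : CohB1.tensorMod K A ≅ CohB1.tensorMod K B) : Nonempty (A ≅ B) := by
  obtain ⟨e0⟩ := Groth.Agent.Lib.Helper23.InvDual.nonempty_tensorMod_dual_iso K hK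
  exact cancel_left' (RefHull.dual K) K A B
    (Groth.Agent.Lib.Helper23.AmpleFam2.tensorBraid (RefHull.dual K) K ≪≫ e0) e

end Cancel

omit [X.Over (Spec (CommRingCat.of k))] [IsIntegral X] [IsProper (X ↘ Spec (CommRingCat.of k))] in
theorem wl_inc_pr (D : X.Modules) (i j : Fin 2) :
    wl (inc X 2 j) D ≫ wl (pr X 2 i) D = if j = i then 𝟙 _ else 0 := by
  rw [← wl_comp, inc_pr]
  split_ifs
  · exact wl_id _ _
  · exact (Groth.Agent.Lib.Helper27SerreVan.tw D).map_zero _ _

/-- `K ⊗ M' ≅ O` for `K = ker(O² → M)` and two pencils of degree two -/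
theorem kernel_tensor_iso [IsAlgClosed k] (hpid : PIDStalks X) (hdim : topologicalKrullDim X = 1)
    (hg : 2 ≤ Curv2.genus k X) (M : X.Modules) (hM : PicF.IsInvertible M)
    (hd : Curv2.deg k X M 1 = 2) (u : Fin 2 → (Coh.structureModule X ⟶ M))
    (hu : LinearIndependent k u) (M' : X.Modules) (hM' : PicF.IsInvertible M')
    (hd' : Curv2.deg k X M' 1 = 2) (u' : Fin 2 → (Coh.structureModule X ⟶ M'))
    (hu' : LinearIndependent k u') :
    FlatMod.IsFinLocFreeOfRank 1 (kernel (sig X u)) ∧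
      Nonempty (CohB1.tensorMod (kernel (sig X u)) M' ≅ Coh.structureModule X) := by
  haveI : IsLocallyNoetherian X := isLocallyNoetherian_of_proper k X
  haveI := epi_sig k X hpid hdim hg M hM hd u hu
  have hM1 := isFinLocFreeOfRank_one_of_isInvertible M hM
  have hM'1 := isFinLocFreeOfRank_one_of_isInvertible M' hM'
  obtain ⟨a, h2a, hK, hdK⟩ := Groth.Agent.Lib.Helper4.CurveSat.kernel_of_epi k X hpid (sig X u) 2 1
    (isFinLocFreeOfRank_freeMod X 2) hM1
  obtain rfl : a = 1 := by omega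
  rw [deg_free_two, hd] at hdK
  refine ⟨hK, ?_⟩
  obtain ⟨hKM, hdKM⟩ := Groth.Agent.Lib.Helper6.H0Crit.rtwist_rank_deg k X hpid hdim M' hM' 1 _ hK
  obtain ⟨hMM, hdMM⟩ := Groth.Agent.Lib.Helper6.H0Crit.rtwist_rank_deg k X hpid hdim M' hM' 1 M hM1
  have hS := sesOfEpi_shortExact (sig X u)
  have hS' := Groth.Agent.Lib.Helper27SerreVan.shortExact_tw M' hM' (sesOfEpi (sig X u)) hS
  have hex : ∃ v : Coh.structureModule X ⟶ CohB1.tensorMod (kernel (sig X u)) M', v ≠ 0 := by
    by_contra hcon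
    push Not at hcon
    let Ψ : (Coh.structureModule X ⟶ CohB1.tensorMod (FlatMod.freeMod X 2) M') →ₗ[k]
        (Coh.structureModule X ⟶ CohB1.tensorMod M M') :=
      Linear.rightComp k (Coh.structureModule X) (wl (sig X u) M')
    have hΨ : Function.Injective Ψ := by
      rw [injective_iff_map_eq_zero]
      intro v hv
      haveI := hS'.mono_f
      have h1 := hS'.exact.lift_f v hv
      rw [← h1, hcon (hS'.exact.lift v hv)]
      exact zero_comp
    let Φ : (Fin 2 → (Coh.structureModule X ⟶ M')) →ₗ[k]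
        (Coh.structureModule X ⟶ CohB1.tensorMod (FlatMod.freeMod X 2) M') :=
      ∑ j, (Linear.rightComp k (Coh.structureModule X) ((lam M').inv ≫ wl (inc X 2 j) M')).comp
        (LinearMap.proj j)
    have hΦapp : ∀ t : Fin 2 → (Coh.structureModule X ⟶ M'),
        Φ t = ∑ j, t j ≫ ((lam M').inv ≫ wl (inc X 2 j) M') := by
      intro t
      simp only [Φ, LinearMap.sum_apply, LinearMap.comp_apply, LinearMap.proj_apply]
      rfl
    have hΦ : Function.Injective Φ := by
      rw [injective_iff_map_eq_zero]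
      intro t ht
      funext i
      have h1 : Φ t ≫ wl (pr X 2 i) M' = t i ≫ (lam M').inv := by
        rw [hΦapp, Preadditive.sum_comp, Finset.sum_eq_single i]
        · rw [Category.assoc, Category.assoc, wl_inc_pr, if_pos rfl, Category.comp_id]
        · intro j _ hji
          rw [Category.assoc, Category.assoc, wl_inc_pr, if_neg hji, comp_zero, comp_zero]
        · intro h
          exact absurd (Finset.mem_univ i) h
      rw [ht, zero_comp] at h1
      change t i = 0
      rw [← cancel_mono (lam M').inv, zero_comp]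
      exact h1.symm
    have cMM : Coh.IsCoh (CohB1.tensorMod M M') := isCoh_of_isFinLocFreeOfRank _ 1 hMM
    haveI : Module.Finite k (Coh.HH X (CohB1.tensorMod M M') 0) := Groth.Agent.S0002.result k X _ cMM 0
    haveI : Module.Finite k (Coh.structureModule X ⟶ CohB1.tensorMod M M') :=
      Module.Finite.equiv (homH0Equiv k (CohB1.tensorMod M M')).symm
    have cM' : Coh.IsCoh M' := isCoh_of_isFinLocFreeOfRank _ 1 hM'1
    haveI : Module.Finite k (Coh.HH X M' 0) := Groth.Agent.S0002.result k X _ cM' 0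
    haveI : Module.Finite k (Coh.structureModule X ⟶ M') :=
      Module.Finite.equiv (homH0Equiv k M').symm
    have h1 := LinearMap.finrank_le_finrank_of_injective (f := Ψ.comp Φ) (hΨ.comp hΦ)
    rw [Module.finrank_pi_fintype, Fin.sum_univ_two, finrank_hom_eq k, finrank_hom_eq k] at h1
    have h2 := hu'.fintype_card_le_finrank
    rw [Fintype.card_fin, finrank_hom_eq k] at h2
    have hg' : (2 : ℤ) ≤ (Curv2.genus k X : ℤ) := by exact_mod_cast hg
    have h3 : (4 : ℤ) ≤ (Module.finrank k (Coh.HH X (CohB1.tensorMod M M') 0) : ℤ) := by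
      have : 4 ≤ Module.finrank k (Coh.HH X (CohB1.tensorMod M M') 0) := by omega
      exact_mod_cast this
    rcases h0_cases k X hpid hdim _ (Groth.Agent.Lib.Helper6.H0Semi.isInvertible_of_rank_one (X := X) hMM)
      with h | h | h
    · omega
    · rw [hdMM, hd, hd'] at h
      push_cast at h
      linarith
    · rw [hdMM, hd, hd'] at h
      push_cast at h
      linarith
  obtain ⟨v, hv⟩ := hex
  have hO1 : FlatMod.IsFinLocFreeOfRank 1 (Coh.structureModule X) :=
    isFinLocFreeOfRank_one_of_isInvertible _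
      (Groth.Agent.Lib.Helper23.TensorUnit.isInvertible_structureModule X)
  obtain ⟨-, -, hiso⟩ := Groth.Agent.Lib.Helper4.CurveRk2.hom_rank_one k X hpid hdim hO1 hKM v hv
  haveI : IsIso v := hiso (by
    rw [deg_structureModule, hdKM, hd']
    push_cast
    linarith)
  exact ⟨(asIso v).symm⟩

/-- S11355 -/
theorem main [IsAlgClosed k] (hdim : topologicalKrullDim X = 1)
    (hreg : ∀ x : X, IsRegularLocalRing (X.presheaf.stalk x)) (hg : 2 ≤ Curv2.genus k X)
    (M : X.Modules) (s : Fin 2 → LinSer.Sect X M) (hM : LinSer.IsLinSer k X M 2 1 s)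
    (M' : X.Modules) (s' : Fin 2 → LinSer.Sect X M') (hM' : LinSer.IsLinSer k X M' 2 1 s') :
    Nonempty (M ≅ M') := by
  have hpid : PIDStalks X := Groth.Agent.Lib.Helper4.CurveNorm.pidStalks_of_regular X hdim.le hreg
  obtain ⟨hMi, hMd, hMl⟩ := hM
  obtain ⟨hMi', hMd', hMl'⟩ := hM'
  have key : ∀ (N : X.Modules) (t : Fin 2 → LinSer.Sect X N), LinSer.LinIndep k X N t →
      LinearIndependent k (fun i => (homSecEquiv N).symm (t i)) := by
    intro N t ht
    rw [Fintype.linearIndependent_iff]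
    intro c hc
    have h2 := congrArg (homSecEquiv N) hc
    rw [map_sum, map_zero] at h2
    simp only [homSecEquiv_smul k, AddEquiv.apply_symm_apply] at h2
    have h1 := ht c h2
    exact fun i => congrFun h1 i
  have hu := key M s hMl
  have hu' := key M' s' hMl'
  have hd : Curv2.deg k X M 1 = 2 := by exact_mod_cast hMd
  have hd' : Curv2.deg k X M' 1 = 2 := by exact_mod_cast hMd'
  obtain ⟨hK, ⟨e1⟩⟩ := kernel_tensor_iso k X hpid hdim hg M hMi hd _ hu M hMi hd _ hu
  obtain ⟨-, ⟨e2⟩⟩ := kernel_tensor_iso k X hpid hdim hg M hMi hd _ hu M' hMi' hd' _ hu'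
  exact cancel_left _ M M' (Groth.Agent.Lib.Helper6.H0Semi.isInvertible_of_rank_one (X := X) hK)
    (e1 ≪≫ e2.symm)

end Groth.Agent.Lib.Helper6.G12
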