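import Groth.Agent.Lib.Helper6GGCurve
import Groth.Agent.Lib.Helper4CurveSpecial
import Groth.Agent.Lib.Helper4P1CritF
import Groth.Agent.Lib.Helper4DevG
import Groth.Agent.Lib.Helper4CurvePt
import Groth.Agent.Lib.Helper6EmbSec

/-!
# Invertible modules of degree `≥ 2g` on integral proper curves are globally generated (helper6)
(no duality; S16299, S16300)
-/

set_option autoImplicit false
set_option linter.style.haveILetI false
universe u
open CategoryTheory Limits AlgebraicGeometry Opposite TopologicalSpace TensorProduct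

namespace Groth.Agent.Lib.Helper6.GG2g

open Groth.Agent.Lib.Helper4.Dev Groth.Agent.Lib.Helper27GlobGenPn
  Groth.Agent.Lib.Helper21.ExtCartier

section Gen

variable {X : Scheme.{u}}

/-- a morphism of modules with vanishing stalk maps is zero -/
theorem eq_zero_of_stalkL {M N : X.Modules} (φ : M ⟶ N) (h : ∀ x, stalkL φ x = 0) : φ = 0 := by
  apply Scheme.Modules.hom_ext
  intro U
  ext m
  refine TopCat.Presheaf.section_ext ⟨N.presheaf, N.isSheaf⟩ U _ _ (fun y hy => ?_)
  have h1 := stalkL_germ φ y U hy m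
  rw [h y] at h1
  change N.presheaf.germ U y hy (φ.app U m) = N.presheaf.germ U y hy 0
  rw [← h1, map_zero]
  rfl

/-- an element of `O_x` killing `E_x` kills `(E ⊗ F)_x` -/
theorem smul_stalk_tensor_eq_zero (E F : X.Modules) (x : X) (r : X.presheaf.stalk x)
    (h : ∀ a : E.presheaf.stalk x, r • a = 0) (z : (CohB1.tensorMod E F).presheaf.stalk x) :
    r • z = 0 := by
  apply (Groth.Agent.Lib.Helper4.KTensor.stalkTensorEquiv E F x).injective
  rw [map_smul, map_zero]
  induction (Groth.Agent.Lib.Helper4.KTensor.stalkTensorEquiv E F x) z using TensorProduct.induction_on with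
  | zero => rw [smul_zero]
  | tmul a b => rw [TensorProduct.smul_tmul', h a, TensorProduct.zero_tmul]
  | add a b ha hb => rw [smul_add, ha, hb, add_zero]

end Gen


section Pt

variable {X : Scheme.{u}} [IsLocallyNoetherian X]

/-- the maximal ideal at a closed point `Q` kills the stalk of `(O/I_Q) ⊗ L` at `Q` -/
theorem maximalIdeal_smul_quotMod_tensor (Q : X) (hQ : IsClosed ({Q} : Set X)) (L : X.Modules)
    (r : X.presheaf.stalk Q) (hr : r ∈ IsLocalRing.maximalIdeal (X.presheaf.stalk Q))
    (z : (CohB1.tensorMod (ClSub.quotMod (Scheme.IdealSheafData.vanishingIdeal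
      (⟨{Q}, hQ⟩ : Closeds X))) L).presheaf.stalk Q) : r • z = 0 := by
  set D := Scheme.IdealSheafData.vanishingIdeal (⟨{Q}, hQ⟩ : Closeds X) with hD
  have cQ : Coh.IsCoh (ClSub.quotMod D) :=
    isCoh_push_closed D.subschemeι _ (isCoh_structureModule D.subscheme)
  haveI : (ClSub.quotMod D).IsQuasicoherent := cQ.1
  have hk0 : ClSub.KilledByIdeal D.subschemeι.ker (ClSub.quotMod D) :=
    killedByIdeal_pushforward D.subschemeι (Coh.structureModule D.subscheme)
  have hD2 : D.subschemeι.ker =
      Scheme.IdealSheafData.vanishingIdeal ⟨closure {Q}, isClosed_closure⟩ := by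
    rw [Scheme.IdealSheafData.ker_subschemeι, hD]
    congr 1
    exact Closeds.ext hQ.closure_eq.symm
  rw [hD2] at hk0
  exact smul_stalk_tensor_eq_zero _ L Q r
    (fun a => maximalIdeal_smul_stalk_eq_zero (ClSub.quotMod D) Q hk0 r hr a) _

end Pt


section Loc

variable {X : Scheme.{u}}

/-- a section of an invertible module not generating the stalk at `Q` has values in `𝔪_Q L_Q` -/
theorem exists_smul_of_not_surjective (L : X.Modules) (hL1 : FlatMod.IsFinLocFreeOfRank 1 L)
    (s : Coh.structureModule X ⟶ L) (Q : X) (hns : ¬ Function.Surjective (stalkL s Q))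
    (w : (Coh.structureModule X).presheaf.stalk Q) :
    ∃ c ∈ IsLocalRing.maximalIdeal (X.presheaf.stalk Q), ∃ e : L.presheaf.stalk Q,
      stalkL s Q w = c • e := by
  obtain ⟨h1, h2, h3⟩ := Groth.Agent.Lib.Helper4.KTensor.stalk_of_isFinLocFreeOfRank L 1 hL1 Q
  haveI := h1
  haveI := h2
  let b := Module.finBasisOfFinrankEq (X.presheaf.stalk Q) (L.presheaf.stalk Q) h3
  have hrep : ∀ y : L.presheaf.stalk Q, y = b.repr y 0 • b 0 := by
    intro y
    conv_lhs => rw [← b.sum_repr y]
    rw [Fin.sum_univ_one]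
  refine ⟨b.repr (stalkL s Q w) 0, ?_, b 0, hrep _⟩
  rw [IsLocalRing.mem_maximalIdeal, mem_nonunits_iff]
  intro hu
  apply hns
  intro y
  obtain ⟨u, hu'⟩ := hu
  refine ⟨(b.repr y 0 * ↑u⁻¹) • w, ?_⟩
  rw [map_smul]
  conv_lhs => rw [hrep (stalkL s Q w), ← hu', smul_smul, mul_assoc, Units.inv_mul, mul_one]
  exact (hrep y).symm

end Loc


section Key

variable {X : Scheme.{u}} [IsLocallyNoetherian X]

omit [IsLocallyNoetherian X] in
/-- the stalks of `(O/I_Q) ⊗ L` vanish away from `Q` -/
theorem subsingleton_stalk_quotMod_tensor (Q : X) (hQ : IsClosed ({Q} : Set X)) (L : X.Modules)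
    (x : X) (hx : x ≠ Q) :
    Subsingleton ((CohB1.tensorMod (ClSub.quotMod (Scheme.IdealSheafData.vanishingIdeal
      (⟨{Q}, hQ⟩ : Closeds X))) L).presheaf.stalk x) := by
  by_contra hns
  have h1 : x ∈ CohB1.support (CohB1.tensorMod (ClSub.quotMod (Scheme.IdealSheafData.vanishingIdeal
      (⟨{Q}, hQ⟩ : Closeds X))) L) := hns
  have h2 := Groth.Agent.Lib.Helper4.ZeroDimChi.support_tensorMod_subset_left _ _ h1
  have h3 := support_push_subset _ _ h2
  rw [Groth.Agent.Lib.Helper4.CurvePt.range_ptIdeal Q hQ] at h3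
  exact hx h3

/-- **key**: a section of an invertible `L` which does not generate `L` at the closed point `Q`
maps to zero in `(O/I_Q) ⊗ L` -/
theorem comp_eq_zero_of_not_surjective (Q : X) (hQ : IsClosed ({Q} : Set X)) (L : X.Modules)
    (hL1 : FlatMod.IsFinLocFreeOfRank 1 L) (s : Coh.structureModule X ⟶ L)
    (hns : ¬ Function.Surjective (stalkL s Q)) :
    s ≫ (Groth.Agent.Lib.Helper23.TensorUnit.unitTensorIso L).inv ≫
      wl (ClSub.toSubscheme (Scheme.IdealSheafData.vanishingIdeal (⟨{Q}, hQ⟩ : Closeds X))) L = 0 := by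
  apply eq_zero_of_stalkL
  intro x
  by_cases hx : x = Q
  · subst hx
    ext w
    rw [stalkL_comp_apply]
    obtain ⟨c, hc, e, he⟩ := exists_smul_of_not_surjective L hL1 s x hns w
    rw [he, map_smul]
    exact maximalIdeal_smul_quotMod_tensor x hQ L c hc _
  · haveI := subsingleton_stalk_quotMod_tensor Q hQ L x hx
    ext w
    exact Subsingleton.elim _ _

end Key


section Curve

open Groth.Agent.Lib.Helper4.CurveAsym Groth.Agent.Lib.Helper4.CurveGrd

variable (k : Type u) [Field k] (X : Scheme.{u}) [X.Over (Spec (CommRingCat.of k))]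
  [IsProper (X ↘ (Spec (CommRingCat.of k)))] [IsIntegral X]

/-- **no base points in degree `≥ 2g`** (no duality): on an integral proper curve of arithmetic genus `g`,
an invertible module of degree `≥ 2g` has, at every closed point `Q`, a global section generating the
stalk at `Q`. -/
theorem exists_section_stalk_surjective (hdim : topologicalKrullDim X = 1)
    (L : X.Modules) (hL : PicF.IsInvertible L)
    (hdeg : 2 * (Curv2.genus k X : ℤ) ≤ Curv2.deg k X L 1)
    (Q : X) (hQ : IsClosed ({Q} : Set X)) :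
    ∃ s : Coh.structureModule X ⟶ L, Function.Surjective (stalkL s Q) := by
  haveI : IsLocallyNoetherian X := LocallyOfFiniteType.isLocallyNoetherian (X ↘ (Spec (CommRingCat.of k)))
  haveI : Nonempty X := ⟨Q⟩
  by_contra hall
  push Not at hall
  have hL1 := Groth.Agent.Lib.Helper23.SecTw.isFinLocFreeOfRank_one_of_isInvertible L hL
  set D := Scheme.IdealSheafData.vanishingIdeal (⟨{Q}, hQ⟩ : Closeds X) with hD
  have hS := Groth.Agent.Lib.Helper27SerreVan.shortExact_tw L hL (idealSES D) (idealSES_shortExact D)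
  set S := (idealSES D).map (Groth.Agent.Lib.Helper27SerreVan.tw L) with hSdef
  haveI hmono : Mono S.f := hS.mono_f
  let u := Groth.Agent.Lib.Helper23.TensorUnit.unitTensorIso L
  let ι : CohB1.tensorMod (ClSub.idealMod D) L ⟶ L := S.f ≫ u.hom
  haveI : Mono ι := @mono_comp _ _ _ _ _ S.f hmono u.hom _
  have cI := Groth.Agent.Lib.Helper4.CurvePt.isCoh_idealMod k X D
  have cQ := Groth.Agent.Lib.Helper4.CurvePt.isCoh_quotMod k X D
  have cL := Groth.Agent.Lib.Helper6.CurveDeg.isCoh_of_isInvertible L hL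
  have cM : Coh.IsCoh (CohB1.tensorMod (ClSub.idealMod D) L) :=
    Groth.Agent.Lib.Helper4.CurveChi.isCoh_tensorMod_locFree _ L cI 1 hL1
  haveI : Module.Finite k (Coh.HH X (CohB1.tensorMod (ClSub.idealMod D) L) 0) :=
    Groth.Agent.S0002.result k X _ cM 0
  haveI : Module.Finite k (Coh.HH X (CohB1.tensorMod (ClSub.idealMod D) L) 1) :=
    Groth.Agent.S0002.result k X _ cM 1
  haveI : Module.Finite k (Coh.HH X L 0) := Groth.Agent.S0002.result k X _ cL 0
  haveI : Module.Finite k (Coh.HH X L 1) := Groth.Agent.S0002.result k X _ cL 1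
  -- every section comes from `I_Q ⊗ L`
  have hsurj : Function.Surjective (Canon.HHlin k ι 0) := by
    intro y
    set s := (homH0Equiv k L).symm y with hs
    have hv := comp_eq_zero_of_not_surjective Q hQ L hL1 s (hall s)
    have hv' : (s ≫ u.inv) ≫ S.g = 0 := by rw [Category.assoc]; exact hv
    refine ⟨homH0Equiv k _ (hS.exact.lift (s ≫ u.inv) hv'), ?_⟩
    rw [← homH0Equiv_comp]
    have : hS.exact.lift (s ≫ u.inv) hv' ≫ ι = s := by
      change hS.exact.lift (s ≫ u.inv) hv' ≫ S.f ≫ u.hom = s
      rw [← Category.assoc, ShortComplex.Exact.lift_f, Category.assoc, Iso.inv_hom_id, Category.comp_id]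
    exact (congrArg (homH0Equiv k L) this).trans (by rw [hs, LinearEquiv.apply_symm_apply])
  have hle : Module.finrank k (Coh.HH X L 0) ≤
      Module.finrank k (Coh.HH X (CohB1.tensorMod (ClSub.idealMod D) L) 0) :=
    LinearMap.finrank_le_finrank_of_surjective hsurj
  -- Euler characteristics
  have hZ : topologicalKrullDim (D.support : Set X) ≤ 0 := by
    rw [hD, Scheme.IdealSheafData.coe_support_vanishingIdeal]
    change topologicalKrullDim (({Q} : Set X)) ≤ 0
    haveI : Subsingleton (({Q} : Set X)) := (Set.uniqueSingleton Q).instSubsingleton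
    exact topologicalKrullDim_zero_of_discreteTopology _
  have hχM := Groth.Agent.Lib.Helper4.CurveSpecial.euler_idealMod_tensor k X L hL D hZ
  have hχL := Groth.Agent.Lib.Helper4.CurveRR.euler_eq_h0_sub_h1 k X hdim.le L cL
  have hχM' := Groth.Agent.Lib.Helper4.CurveRR.euler_eq_h0_sub_h1 k X hdim.le _ cM
  have hχO := Groth.Agent.Lib.Helper4.CurveSpecial.euler_structureModule k X hdim
  have hO1 := Groth.Agent.Lib.Helper4.CurveRR.one_le_h0_structure k X
  -- `h⁰(O/I_Q) ≥ 1`
  have hq : 1 ≤ Module.finrank k (Coh.HH X (ClSub.quotMod D) 0) := by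
    haveI : Module.Finite k (Coh.HH X (ClSub.quotMod D) 0) := Groth.Agent.S0002.result k X _ cQ 0
    haveI := Groth.Agent.Lib.Helper4.CurvePt.nonempty_pt Q hQ
    haveI : Nontrivial Γ(D.subscheme, ⊤) := by
      obtain ⟨y⟩ := (inferInstance : Nonempty D.subscheme)
      exact @Scheme.component_nontrivial D.subscheme ⊤ ⟨⟨y, trivial⟩⟩
    haveI : Nontrivial (Coh.HH X (ClSub.quotMod D) 0) :=
      (Groth.Agent.Lib.Helper4.CurvePt.pushEquiv D.subschemeι).toEquiv.nontrivial
    exact Module.finrank_pos
  unfold Curv2.deg at hdeg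
  by_cases h1 : Subsingleton (Coh.HH X (CohB1.tensorMod (ClSub.idealMod D) L) 1)
  · rw [Module.finrank_zero_of_subsingleton (M := Coh.HH X (CohB1.tensorMod (ClSub.idealMod D) L) 1)]
      at hχM'
    push_cast at hχM' hχL hχM
    have : (Module.finrank k (Coh.HH X L 0) : ℤ) ≤
        Module.finrank k (Coh.HH X (CohB1.tensorMod (ClSub.idealMod D) L) 0) := by exact_mod_cast hle
    have hq' : (1 : ℤ) ≤ Module.finrank k (Coh.HH X (ClSub.quotMod D) 0) := by exact_mod_cast hq
    linarith
  · rw [not_subsingleton_iff_nontrivial] at h1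
    have hg := Groth.Agent.Lib.Helper4.CurveSpecial.h0_le_genus_of_mono k X hdim cM hL ι h1
    have hg' : (Module.finrank k (Coh.HH X (CohB1.tensorMod (ClSub.idealMod D) L) 0) : ℤ) ≤
        Curv2.genus k X := by exact_mod_cast hg
    have : (Module.finrank k (Coh.HH X L 0) : ℤ) ≤
        Module.finrank k (Coh.HH X (CohB1.tensorMod (ClSub.idealMod D) L) 0) := by exact_mod_cast hle
    have hO1' : (1 : ℤ) ≤ Module.finrank k (Coh.HH X (Coh.structureModule X) 0) := by
      exact_mod_cast hO1
    push_cast at hχL hdeg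
    linarith

end Curve


section Main

open Groth.Agent.Lib.Helper6.GGCurve

variable (k : Type u) [Field k] (X : Scheme.{u}) [X.Over (Spec (CommRingCat.of k))]
  [IsProper (X ↘ (Spec (CommRingCat.of k)))] [IsIntegral X]

/-- on an integral proper curve of arithmetic genus `g`, an invertible module of degree `≥ 2g` is globally
generated -/
theorem isGloballyGenerated_of_deg (hdim : topologicalKrullDim X = 1)
    (L : X.Modules) (hL : PicF.IsInvertible L)
    (hdeg : 2 * (Curv2.genus k X : ℤ) ≤ Curv2.deg k X L 1) : Curv2.IsGloballyGenerated L := by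
  haveI : IsLocallyNoetherian X := LocallyOfFiniteType.isLocallyNoetherian (X ↘ (Spec (CommRingCat.of k)))
  haveI : AlgebraicGeometry.IsNoetherian X := Groth.Agent.Lib.Helper4.CurveRR.isNoetherian_of_proper k X
  have cL := Groth.Agent.Lib.Helper6.CurveDeg.isCoh_of_isInvertible L hL
  apply isGloballyGenerated_of_isZero_cokernel
  apply isZero_of_support_eq_empty
  by_contra hne
  have hne' : (CohB1.support (coker L)).Nonempty := Set.nonempty_iff_ne_empty.2 hne
  haveI : SheafOfModules.IsFiniteType (R := X.ringCatSheaf) L := cL.2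
  have hCf : SheafOfModules.IsFiniteType (R := X.ringCatSheaf) (coker L) :=
    Groth.Agent.Lib.Helper20.Nakayama.isFiniteType_of_epi (cπ L)
  have hcl : IsClosed (CohB1.support (coker L)) := Groth.Agent.S0020.result X _ hCf
  obtain ⟨p, hpS, hp⟩ := hcl.exists_closed_singleton hne'
  obtain ⟨s, hs⟩ := exists_section_stalk_surjective k X hdim L hL hdeg p hp
  apply hpS
  have key : ∀ z : (coker L).presheaf.stalk p, z = 0 := by
    intro z
    obtain ⟨l, rfl⟩ := stalkL_surjective_of_epi (cπ L) p z
    obtain ⟨w, rfl⟩ := hs l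
    rw [← stalkL_comp_apply, sec_comp_π, stalkL_zero]
    rfl
  exact ⟨fun a b => by rw [key a, key b]⟩

/-- on an integral proper curve of arithmetic genus `g`, an invertible module of degree `≥ 2g` has no base
points -/
theorem exists_mem_genLocus (hdim : topologicalKrullDim X = 1)
    (L : X.Modules) (hL : PicF.IsInvertible L)
    (hdeg : 2 * (Curv2.genus k X : ℤ) ≤ Curv2.deg k X L 1) (x : X) :
    ∃ s : Coh.structureModule X ⟶ L, x ∈ CohB1.genLocus L s := by
  haveI : AlgebraicGeometry.IsNoetherian X := Groth.Agent.Lib.Helper4.CurveRR.isNoetherian_of_proper k X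
  by_cases hx : IsClosed ({x} : Set X)
  · obtain ⟨s, hs⟩ := exists_section_stalk_surjective k X hdim L hL hdeg x hx
    exact ⟨s, Groth.Agent.Lib.Helper4.P1CritF.mem_genLocus_of_stalkL_surjective L hL s x hs⟩
  · have hxη : x = genericPoint X := by
      by_contra hne
      exact hx (Groth.Agent.Lib.Helper6.EmbSec.isClosed_singleton_of_generization hdim.le
        (genericPoint_specializes x) hne)
    obtain ⟨Q, hQ⟩ := Groth.Agent.Lib.Helper4.CurvePt.exists_closed_point X
    obtain ⟨s, hs⟩ := exists_section_stalk_surjective k X hdim L hL hdeg Q hQ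
    refine ⟨s, ?_⟩
    rw [hxη]
    exact Groth.Agent.Lib.Helper6.CurveDeg.genericPoint_mem _
      (Groth.Agent.Lib.Helper4.P1CritF.mem_genLocus_of_stalkL_surjective L hL s Q hs)

end Main

end Groth.Agent.Lib.Helper6.GG2g
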