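import Groth.Agent.Lib.Helper4CurveSpecial
import Groth.Agent.Lib.Helper6GGCurve
import Groth.Agent.Lib.Helper27LesDim
import Groth.Agent.Lib.Helper4ZeroDimGG

/-!
# Invertible modules of degree `≥ 2g` on an integral proper curve are globally generated (helper6): S1533
-/

set_option autoImplicit false
set_option linter.style.haveILetI false
universe u
open CategoryTheory Limits AlgebraicGeometry Opposite TopologicalSpace

namespace Groth.Agent.Lib.Helper6.GGDeg

open Groth.Agent.Lib.Helper4.Dev Groth.Agent.Lib.Helper6.CurveDeg Groth.Agent.Lib.Helper4.CurveAsym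
  Groth.Agent.Lib.Helper6.GGCurve Groth.Agent.Lib.Helper4.CurveRR

section Top

variable {X : Scheme.{u}}

/-- points of a closed subset of Krull dimension `≤ 0` are closed -/
theorem isClosed_singleton_of_dim_le_zero (Z : Set X) (hZ : IsClosed Z)
    (hdim : topologicalKrullDim Z ≤ 0) (x : X) (hx : x ∈ Z) : IsClosed ({x} : Set X) := by
  rw [← closure_subset_iff_isClosed]
  intro y hy
  have hyZ : y ∈ Z := (hZ.closure_subset_iff.mpr (Set.singleton_subset_iff.mpr hx)) hy
  let x' : Z := ⟨x, hx⟩
  let y' : Z := ⟨y, hyZ⟩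
  let Cx : TopologicalSpace.IrreducibleCloseds Z :=
    ⟨closure {x'}, isIrreducible_singleton.closure, isClosed_closure⟩
  let Cy : TopologicalSpace.IrreducibleCloseds Z :=
    ⟨closure {y'}, isIrreducible_singleton.closure, isClosed_closure⟩
  have hxy : x' ⤳ y' := by
    rw [subtype_specializes_iff, specializes_iff_mem_closure]
    exact hy
  have hle : Cy ≤ Cx := by
    change closure {y'} ⊆ closure {x'}
    exact (isClosed_closure.closure_subset_iff).mpr
      (Set.singleton_subset_iff.mpr (specializes_iff_mem_closure.mp hxy))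
  have hmax := (Order.krullDim_nonpos_iff_forall_isMax.mp hdim Cy) hle
  have hyx : y' ⤳ x' := by
    rw [specializes_iff_mem_closure]
    exact hmax (subset_closure (Set.mem_singleton x'))
  have : x' = y' := (hxy.antisymm hyx).eq
  have : x = y := congrArg Subtype.val this
  exact this ▸ Set.mem_singleton x

end Top

variable (k : Type u) [Field k] (X : Scheme.{u}) [X.Over (Spec (CommRingCat.of k))]
  [IsProper (X ↘ (Spec (CommRingCat.of k)))] [IsIntegral X]

/-- **S1533** -/
theorem main (hdim : topologicalKrullDim X = 1)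
    (h0 : Module.finrank k (Coh.HH X (Coh.structureModule X) 0) = 1)
    (L : X.Modules) (hL : PicF.IsInvertible L) (hdeg : 2 * (Curv2.genus k X : ℤ) ≤ Curv2.deg k X L 1) :
    Curv2.IsGloballyGenerated L := by
  haveI : IsLocallyNoetherian X :=
    LocallyOfFiniteType.isLocallyNoetherian (X ↘ (Spec (CommRingCat.of k)))
  have cL := isCoh_of_isInvertible L hL
  have hO := Groth.Agent.Lib.Helper23.TensorUnit.isInvertible_structureModule X
  -- `h⁰(L) ≥ g + 1`
  have e1 := euler_eq_h0_sub_h1 k X hdim.le L cL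
  have e2 := Groth.Agent.Lib.Helper4.CurveSpecial.euler_structureModule k X hdim
  have hh0 : Curv2.genus k X + 1 ≤ Module.finrank k (Coh.HH X L 0) := by
    unfold Curv2.deg at hdeg
    rw [e1, e2, h0] at hdeg
    push_cast at hdeg
    have : (Curv2.genus k X : ℤ) + 1 ≤ (Module.finrank k (Coh.HH X L 0) : ℤ) := by
      have h1 : (0 : ℤ) ≤ (Module.finrank k (Coh.HH X L 1) : ℤ) := Int.natCast_nonneg _
      linarith
    exact_mod_cast this
  by_contra hngg
  have hC : ¬ IsZero (coker L) := fun h => hngg (isGloballyGenerated_of_isZero_cokernel L h)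
  -- coherence of the cokernel and kernel
  haveI : L.IsQuasicoherent := cL.1
  haveI : SheafOfModules.IsFiniteType (R := X.ringCatSheaf) L := cL.2
  have hCq : (coker L).IsQuasicoherent :=
    Groth.Agent.Lib.Helper23.QCohLocal.isQuasicoherent_cokernel (ev L)
  have hCf : SheafOfModules.IsFiniteType (R := X.ringCatSheaf) (coker L) :=
    Groth.Agent.Lib.Helper20.Nakayama.isFiniteType_of_epi (cπ L)
  have cC : Coh.IsCoh (coker L) := ⟨hCq, hCf⟩
  have cK : Coh.IsCoh (kernel (cπ L)) := isCoh_kernel (cπ L) cL cC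
  -- the support of the cokernel has dimension `≤ 0`
  obtain ⟨t, ht⟩ := exists_hom_ne_zero k X L (by omega)
  have hdt := dim_support_cokernel_le X hdim hO hL t ht
  let q : cokernel t ⟶ coker L := cokernel.desc t (cπ L) (sec_comp_π L t)
  haveI : Epi q := by
    have : cokernel.π t ≫ q = cπ L := cokernel.π_desc _ _ _
    exact epi_of_epi_fac this
  have hdC : topologicalKrullDim (CohB1.support (coker L)) ≤ 0 :=
    dim_le_zero_of_subset X (Groth.Agent.Lib.Helper4.CurveGrd.support_subset_of_epi q) hdt
  have hZ : IsClosed (CohB1.support (coker L)) := Groth.Agent.S0020.result X _ hCf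
  -- a nonzero section of the cokernel
  have hgg := Groth.Agent.Lib.Helper4.ZeroDimGG.isGloballyGenerated_of_closed_points (coker L) cC
    (fun x hx => isClosed_singleton_of_dim_le_zero _ hZ hdC x hx)
  obtain ⟨u, hu⟩ : ∃ u : Coh.structureModule X ⟶ coker L, u ≠ 0 := by
    by_contra hcon
    push Not at hcon
    apply hC
    rw [IsZero.iff_id_eq_zero]
    exact eq_zero_of_isGloballyGenerated hgg (𝟙 _) (fun u => by rw [hcon u, zero_comp])
  -- the connecting map is injective
  have hS := sesOfEpi_shortExact (cπ L)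
  have hg0 : Canon.HHlin k (sesOfEpi (cπ L)).g 0 = 0 := by
    apply LinearMap.ext
    intro y
    obtain ⟨s, rfl⟩ := (homH0Equiv k L).surjective y
    change Canon.HHlin k (cπ L) 0 (homH0Equiv k L s) = 0
    rw [← Groth.Agent.Lib.Helper4.CurveGrd.homH0Equiv_comp, sec_comp_π, map_zero]
  have hker := Groth.Agent.Lib.Helper27LesDim.range_g_eq_ker_delta k (sesOfEpi (cπ L)) hS 0
  rw [hg0, LinearMap.range_zero] at hker
  have hx : homH0Equiv k (coker L) u ≠ 0 := by
    intro h
    exact hu ((homH0Equiv k (coker L)).injective (h.trans (map_zero _).symm))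
  have hδ : Groth.Agent.Lib.Helper27CohFin.deltaLin k (sesOfEpi (cπ L)) hS 0
      (homH0Equiv k (coker L) u) ≠ 0 := by
    intro h
    have : homH0Equiv k (coker L) u ∈ LinearMap.ker
        (Groth.Agent.Lib.Helper27CohFin.deltaLin k (sesOfEpi (cπ L)) hS 0) := h
    rw [← hker] at this
    exact hx this
  have hnt : Nontrivial (Coh.HH X (kernel (cπ L)) 1) := ⟨⟨_, 0, hδ⟩⟩
  have hle := Groth.Agent.Lib.Helper4.CurveSpecial.h0_le_genus_of_mono k X hdim cK hL
    (kernel.ι (cπ L)) hnt
  -- `h⁰(ker) = h⁰(L)`
  have hsurj : Function.Surjective (Canon.HHlin k (kernel.ι (cπ L)) 0) := by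
    intro y
    obtain ⟨s, rfl⟩ := (homH0Equiv k L).surjective y
    refine ⟨homH0Equiv k _ (kernel.lift (cπ L) s (sec_comp_π L s)), ?_⟩
    rw [← Groth.Agent.Lib.Helper4.CurveGrd.homH0Equiv_comp, kernel.lift_ι]
  haveI : Module.Finite k (Coh.HH X (kernel (cπ L)) 0) := Groth.Agent.S0002.result k X _ cK 0
  have h2 := LinearMap.finrank_le_finrank_of_surjective hsurj
  omega

end Groth.Agent.Lib.Helper6.GGDeg
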