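import Groth.Agent.Lib.Helper6NefH1
import Groth.Agent.Lib.Helper27DualRes
import Groth.Agent.Lib.Helper27CoprodFin

/-!
# Globally generated coherent modules on a proper one-dimensional scheme with `H¹(O) = 0` (helper6):
S17650, S17651
-/

set_option autoImplicit false
set_option linter.style.haveILetI false
universe u
open CategoryTheory Limits AlgebraicGeometry Opposite TopologicalSpace

namespace Groth.Agent.Lib.Helper6.GGH1

open Groth.Agent.Lib.Helper4.Dev Groth.Agent.Lib.Helper27CoprodFin

variable (k : Type u) [Field k] (X : Scheme.{u}) [X.Over (Spec (CommRingCat.of k))]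
  [IsProper (X ↘ (Spec (CommRingCat.of k)))]

include k in
/-- a globally generated coherent module on a proper `k`-scheme is a quotient of a finite free module -/
theorem exists_fin_epi (E : X.Modules) (cE : Coh.IsCoh E) (hgg : Curv2.IsGloballyGenerated E) :
    ∃ (r : ℕ) (q : (∐ fun _ : Fin r => Coh.structureModule X) ⟶ E), Epi q := by
  obtain ⟨ι, p, hp⟩ := hgg
  haveI : Module.Finite k (Coh.HH X E 0) := Groth.Agent.S0002.result k X _ cE 0
  haveI : Module.Finite k (Coh.structureModule X ⟶ E) :=
    Module.Finite.equiv (Groth.Agent.Lib.Helper4.CurveAsym.homH0Equiv k E).symm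
  let b := Module.finBasis k (Coh.structureModule X ⟶ E)
  refine ⟨Module.finrank k (Coh.structureModule X ⟶ E), Sigma.desc (fun j => b j), ?_⟩
  rw [Preadditive.epi_iff_cancel_zero]
  intro Z g hg
  have hb : ∀ j, b j ≫ g = 0 := by
    intro j
    have h := Sigma.ι_desc (fun j => b j) j
    rw [← h, Category.assoc, hg, comp_zero]
  have h1 : ∀ s : Coh.structureModule X ⟶ E, s ≫ g = 0 := by
    intro s
    rw [← b.sum_repr s, Preadditive.sum_comp]
    apply Finset.sum_eq_zero
    intro j _
    rw [Linear.smul_comp, hb j, smul_zero]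
  have h2 : p ≫ g = 0 := by
    apply Sigma.hom_ext
    intro i
    exact (Category.assoc _ _ _).symm.trans ((h1 _).trans comp_zero.symm)
  exact (cancel_epi p).1 (h2.trans comp_zero.symm)

include k in
omit [IsProper (X ↘ (Spec (CommRingCat.of k)))] in
theorem subsingleton_H_sigma (i : ℕ) {r : ℕ} (f : Fin r → X.Modules)
    (h : ∀ j, Subsingleton (Coh.HH X (f j) i)) : Subsingleton (Coh.HH X (∐ f) i) := by
  refine ⟨fun x y => ?_⟩
  have hx : ∀ z : Coh.HH X (∐ f) i, z = 0 := by
    intro z
    rw [← Groth.Agent.Lib.Helper27DualRes.sum_HHlin_sigma (A := k) f z]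
    apply Finset.sum_eq_zero
    intro j _
    rw [Subsingleton.elim (Canon.HHlin k (sigmaπ f j) i z) 0, map_zero]
  rw [hx x, hx y]

theorem isCoh_sigma_unit (r : ℕ) : Coh.IsCoh (∐ fun _ : Fin r => Coh.structureModule X) := by
  have cO := isCoh_structureModule X
  exact ⟨isQuasicoherent_sigma _ (fun _ => cO.1), isFiniteType_sigma _ (fun _ => cO.1) (fun _ => cO.2)⟩

include k in
/-- S17650 in general form -/
theorem subsingleton_H1_of_gg (hdim : topologicalKrullDim X ≤ 1)
    (h1O : Subsingleton (Coh.HH X (Coh.structureModule X) 1))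
    (E : X.Modules) (cE : Coh.IsCoh E) (hgg : Curv2.IsGloballyGenerated E) :
    Subsingleton (Coh.HH X E 1) := by
  obtain ⟨r, q, hq⟩ := exists_fin_epi k X E cE hgg
  have hs := Groth.Agent.Lib.Helper6.NefH1.surjective_H1_of_epi k X hdim q (isCoh_sigma_unit X r) cE
  haveI := subsingleton_H_sigma k X 1 (fun _ : Fin r => Coh.structureModule X) (fun _ => h1O)
  exact hs.subsingleton

open Groth.Agent.Lib.Helper23.QCohLocal in
theorem subsingleton_H_map_sigma (T : X.Modules ⥤ X.Modules) [T.Additive] (i : ℕ) {r : ℕ}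
    (f : Fin r → X.Modules) (h : ∀ j, Subsingleton (Coh.HH X (T.obj (f j)) i)) :
    Subsingleton (Coh.HH X (T.obj (∐ f)) i) := by
  refine ⟨fun x y => ?_⟩
  have hx : ∀ z : Coh.HH X (T.obj (∐ f)) i, z = 0 := by
    intro z
    let z' : Sheaf.H ((toAbF X).obj (T.obj (∐ f))) i := z
    have h1 := congrArg (fun φ => evalH (N := T.obj (∐ f)) i z' (T.map φ)) (sum_sigmaπ_ι f)
    simp only [Functor.map_sum, map_sum] at h1
    rw [T.map_id, evalH_id] at h1
    change z' = 0
    rw [← h1]
    apply Finset.sum_eq_zero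
    intro j _
    rw [Functor.map_comp, evalH_comp]
    have h0 : evalH i z' (T.map (sigmaπ f j)) = 0 := (h j).elim _ _
    rw [h0]
    change Sheaf.H.map _ i 0 = 0
    exact map_zero _
  rw [hx x, hx y]

include k in
/-- tensoring a globally generated coherent module with a coherent module without `H¹` -/
theorem subsingleton_H1_tensor_of_gg (hdim : topologicalKrullDim X ≤ 1)
    (E : X.Modules) (cE : Coh.IsCoh E) (hgg : Curv2.IsGloballyGenerated E)
    (N : X.Modules) (cN : Coh.IsCoh N) (h1N : Subsingleton (Coh.HH X N 1)) :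
    Subsingleton (Coh.HH X (CohB1.tensorMod E N) 1) := by
  obtain ⟨r, q, hq⟩ := exists_fin_epi k X E cE hgg
  let T := Groth.Agent.Lib.Helper27SerreVan.tw N
  haveI : Epi (T.map q) := inferInstance
  have c1 : Coh.IsCoh (T.obj (∐ fun _ : Fin r => Coh.structureModule X)) :=
    Groth.Agent.Lib.Helper4.CurveAsym.isCoh_tensorMod X _ _ (isCoh_sigma_unit X r) cN
  have c2 : Coh.IsCoh (T.obj E) := Groth.Agent.Lib.Helper4.CurveAsym.isCoh_tensorMod X _ _ cE cN
  have hs := Groth.Agent.Lib.Helper6.NefH1.surjective_H1_of_epi k X hdim (T.map q) c1 c2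
  have h1 : Subsingleton (Coh.HH X (T.obj (Coh.structureModule X)) 1) := by
    have e := Groth.Agent.Lib.Helper27LesLin.HHequiv (A := k) (Groth.Agent.Lib.Helper23.TensorUnit.unitTensorIso N) 1
    exact e.toEquiv.subsingleton
  haveI := subsingleton_H_map_sigma X T 1 (fun _ : Fin r => Coh.structureModule X) (fun _ => h1)
  exact hs.subsingleton

/-- the ideal of a closed point has no `H¹` when `H¹(O) = 0` and `k` is algebraically closed -/
theorem subsingleton_H1_idealMod_pt [IsAlgClosed k]
    (h1O : Subsingleton (Coh.HH X (Coh.structureModule X) 1))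
    (p : X) (hp : IsClosed ({p} : Set X)) :
    Subsingleton (Coh.HH X (ClSub.idealMod
      (Scheme.IdealSheafData.vanishingIdeal (⟨{p}, hp⟩ : Closeds X))) 1) := by
  haveI : IsLocallyNoetherian X := LocallyOfFiniteType.isLocallyNoetherian (X ↘ (Spec (CommRingCat.of k)))
  have h := Groth.Agent.Lib.Helper6.NefH1.h1_idealMod_lt k X h1O p hp
  rw [(Groth.Agent.Lib.Helper6.PointIdeal.quotMod_point k X p hp).1] at h
  have cI := Groth.Agent.Lib.Helper4.CurvePt.isCoh_idealMod k X
    (Scheme.IdealSheafData.vanishingIdeal (⟨{p}, hp⟩ : Closeds X))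
  haveI : Module.Finite k (Coh.HH X (ClSub.idealMod
      (Scheme.IdealSheafData.vanishingIdeal (⟨{p}, hp⟩ : Closeds X))) 1) := Groth.Agent.S0002.result k X _ cI 1
  exact (Module.finrank_zero_iff (R := k)).1 (by omega)

/-- S17651 in general form -/
theorem subsingleton_H1_tensor_idealMod_pt [IsAlgClosed k] (hdim : topologicalKrullDim X ≤ 1)
    (h1O : Subsingleton (Coh.HH X (Coh.structureModule X) 1))
    (E : X.Modules) (cE : Coh.IsCoh E) (hgg : Curv2.IsGloballyGenerated E)
    (p : X) (hp : IsClosed ({p} : Set X)) :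
    Subsingleton (Coh.HH X (CohB1.tensorMod E (ClSub.idealMod
      (Scheme.IdealSheafData.vanishingIdeal (⟨{p}, hp⟩ : Closeds X)))) 1) := by
  haveI : IsLocallyNoetherian X := LocallyOfFiniteType.isLocallyNoetherian (X ↘ (Spec (CommRingCat.of k)))
  exact subsingleton_H1_tensor_of_gg k X hdim E cE hgg _
    (Groth.Agent.Lib.Helper4.CurvePt.isCoh_idealMod k X _) (subsingleton_H1_idealMod_pt k X h1O p hp)

end Groth.Agent.Lib.Helper6.GGH1
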