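import Groth.Agent.Lib.Helper6H0One
import Groth.Agent.Lib.Helper23AmpleFam2
import Groth.Agent.Lib.Helper4CurveNorm

/-!
# Global generation of a line bundle on a curve via `h⁰(L ⊗ I_P)` (helper6): S11330
-/

set_option autoImplicit false
set_option linter.style.haveILetI false
universe u
open CategoryTheory Limits AlgebraicGeometry Opposite TopologicalSpace

namespace Groth.Agent.Lib.Helper6.GGPoint

open Groth.Agent.Lib.Helper4.CurveBun Groth.Agent.Lib.Helper4.DegAdd Groth.Agent.Lib.Helper4.CurveRR
  Groth.Agent.Lib.Helper4.Dev Groth.Agent.Lib.Helper23.SecTw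
  Groth.Agent.Lib.Helper27GlobGenPn
  Groth.Agent.Lib.Helper6.GGCurve Groth.Agent.Lib.Helper6.H0One
  Groth.Agent.Lib.Helper21.ExtCartier Groth.Agent.Lib.Helper4.CurveChi

variable (k : Type u) [Field k] (X : Scheme.{u}) [X.Over (Spec (CommRingCat.of k))]
  [IsIntegral X] [IsProper (X ↘ Spec (CommRingCat.of k))]

/-- S11330 -/
theorem main [IsAlgClosed k] (hdim : topologicalKrullDim X = 1)
    (hreg : ∀ x : X, IsRegularLocalRing (X.presheaf.stalk x)) (L : X.Modules) (hL : PicF.IsInvertible L) :
    Curv2.IsGloballyGenerated L ↔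
      ∀ (P : X) (hP : IsClosed ({P} : Set X)),
        Module.finrank k (Coh.HH X (CohB1.tensorMod L (ClSub.idealMod
          (Scheme.IdealSheafData.vanishingIdeal ⟨{P}, hP⟩))) 0) + 1 = Module.finrank k (Coh.HH X L 0) := by
  have hpid : PIDStalks X := Groth.Agent.Lib.Helper4.CurveNorm.pidStalks_of_regular X hdim.le hreg
  haveI : IsLocallyNoetherian X := isLocallyNoetherian_of_proper k X
  have hL1 := isFinLocFreeOfRank_one_of_isInvertible L hL
  have hbr : ∀ (P : X) (hP : IsClosed ({P} : Set X)),
      Module.finrank k (Coh.HH X (CohB1.tensorMod L (ClSub.idealMod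
        (Scheme.IdealSheafData.vanishingIdeal ⟨{P}, hP⟩))) 0) =
      Module.finrank k (Coh.HH X (CohB1.tensorMod (ClSub.idealMod
        (Scheme.IdealSheafData.vanishingIdeal ⟨{P}, hP⟩)) L) 0) := fun P hP =>
    (HHequiv k (Groth.Agent.Lib.Helper23.AmpleFam2.tensorBraid L _) 0).finrank_eq
  constructor
  · intro hgg P hP
    obtain ⟨-, -, h1, -⟩ := twist_point k X hpid hdim P hP L hL1
    rw [hbr P hP]
    apply h1
    by_contra hcon
    push Not at hcon
    have hz : (lam L).inv ≫ wl (ClSub.toSubscheme (Scheme.IdealSheafData.vanishingIdeal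
        (⟨{P}, hP⟩ : TopologicalSpace.Closeds X))) L = 0 := by
      apply eq_zero_of_isGloballyGenerated hgg
      intro u
      rw [← Category.assoc]
      exact hcon _
    have hz' : wl (ClSub.toSubscheme (Scheme.IdealSheafData.vanishingIdeal
        (⟨{P}, hP⟩ : TopologicalSpace.Closeds X))) L = 0 := by
      rw [← cancel_epi (lam L).inv, hz, comp_zero]
    haveI : Epi (ClSub.toSubscheme (Scheme.IdealSheafData.vanishingIdeal
        (⟨{P}, hP⟩ : TopologicalSpace.Closeds X))) := (idealSES_shortExact _).epi_g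
    haveI : Epi (wl (ClSub.toSubscheme (Scheme.IdealSheafData.vanishingIdeal
        (⟨{P}, hP⟩ : TopologicalSpace.Closeds X))) L) :=
      (inferInstance : Epi ((Groth.Agent.Lib.Helper27SerreVan.tw L).map _))
    have hZ : IsZero (CohB1.tensorMod (ClSub.quotMod (Scheme.IdealSheafData.vanishingIdeal
        (⟨{P}, hP⟩ : TopologicalSpace.Closeds X))) L) := IsZero.of_epi_eq_zero _ hz'
    have h0 := h0_quot_tensor k X P hP 1 L hL1
    haveI : Subsingleton (Coh.structureModule X ⟶ CohB1.tensorMod (ClSub.quotMod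
        (Scheme.IdealSheafData.vanishingIdeal (⟨{P}, hP⟩ : TopologicalSpace.Closeds X))) L) :=
      ⟨fun a b => hZ.eq_of_tgt a b⟩
    rw [Module.finrank_zero_of_subsingleton] at h0
    exact zero_ne_one h0
  · intro h
    by_contra hngg
    obtain ⟨p, hp, hall⟩ := exists_point_all_vanishing k X L hL1 hngg
    obtain ⟨-, -, -, h2⟩ := twist_point k X hpid hdim p hp L hL1
    have h3 := h2 hall
    have h4 := h p hp
    rw [hbr p hp] at h4
    omega

end Groth.Agent.Lib.Helper6.GGPoint
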