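import Mathlib
import Groth.Agent.Lib.Helper6GeomRedConstr

set_option autoImplicit false
universe u
open CategoryTheory CategoryTheory.Limits AlgebraicGeometry Topology

namespace Groth.Agent.Lib.Helper6.GRApprox

open Groth.Agent.Lib.Helper6.GeomRedConstr

/-- If the preimage of a basic constructible set `V(g) \ V(f)` under `Spec ψ` is empty, then a
power of `ψ f` is a combination of the `ψ gᵢ`. -/
theorem exists_pow_eq_sum_of_preimage_eq_empty {A₀ R : Type*} [CommRing A₀] [CommRing R]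
    (ψ : A₀ →+* R) (C : PrimeSpectrum.BasicConstructibleSetData A₀)
    (h : PrimeSpectrum.comap ψ ⁻¹' C.toSet = ∅) :
    ∃ (n : ℕ) (c : Fin C.n → R), ∑ i, c i * ψ (C.g i) = ψ C.f ^ n := by
  have hrad : ψ C.f ∈ (Ideal.span (Set.range (ψ ∘ C.g))).radical := by
    rw [Ideal.radical_eq_sInf, Ideal.mem_sInf]
    rintro q ⟨hq, hqp⟩
    by_contra hf
    have hmem : (⟨q, hqp⟩ : PrimeSpectrum R) ∈ PrimeSpectrum.comap ψ ⁻¹' C.toSet := by
      refine ⟨?_, ?_⟩
      · rintro _ ⟨i, rfl⟩
        exact hq (Ideal.subset_span ⟨i, rfl⟩)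
      · intro hmem
        exact hf (hmem (Set.mem_singleton _))
    rw [h] at hmem
    exact hmem
  obtain ⟨n, hn⟩ := hrad
  obtain ⟨c, hc⟩ := (Ideal.mem_span_range_iff_exists_fun).mp hn
  exact ⟨n, c, hc⟩

/-- Limit lemma for constructible sets: if `Spec R → Spec A₀` lands in a constructible set `E`,
then so does `Spec A₁ → Spec A₀` for a finitely generated `A₀`-subalgebra `A₁` of `R`. -/
theorem exists_finset_forall_comap_mem {A₀ R : Type*} [CommRing A₀] [CommRing R] [Algebra A₀ R]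
    (E : Set (PrimeSpectrum A₀)) (hE : IsConstructible E)
    (h : ∀ q : PrimeSpectrum R, PrimeSpectrum.comap (algebraMap A₀ R) q ∈ E) :
    ∃ T : Finset R, ∀ q : PrimeSpectrum (Algebra.adjoin A₀ (T : Set R)),
      PrimeSpectrum.comap (algebraMap A₀ (Algebra.adjoin A₀ (T : Set R))) q ∈ E := by
  classical
  obtain ⟨S, hS⟩ := PrimeSpectrum.exists_constructibleSetData_iff.mpr hE.compl
  have h1 : ∀ C ∈ S, ∃ (n : ℕ) (c : Fin C.n → R),
      ∑ i, c i * algebraMap A₀ R (C.g i) = algebraMap A₀ R C.f ^ n := by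
    intro C hC
    apply exists_pow_eq_sum_of_preimage_eq_empty
    ext q
    simp only [Set.mem_preimage, Set.mem_empty_iff_false, iff_false]
    intro hq
    have h2 : PrimeSpectrum.comap (algebraMap A₀ R) q ∈ S.toSet := Set.mem_biUnion hC hq
    rw [hS] at h2
    exact h2 (h q)
  choose! n c hc using h1
  refine ⟨S.biUnion (fun C => Finset.univ.image (c C)), ?_⟩
  set T : Finset R := S.biUnion (fun C => Finset.univ.image (c C)) with hT
  intro q
  by_contra hq
  have h2 : PrimeSpectrum.comap (algebraMap A₀ (Algebra.adjoin A₀ (T : Set R))) q ∈ S.toSet := by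
    rw [hS]; exact hq
  obtain ⟨C, hC, hqC⟩ := Set.mem_iUnion₂.mp h2
  have hmemT : ∀ i, c C i ∈ Algebra.adjoin A₀ (T : Set R) := by
    intro i
    apply Algebra.subset_adjoin
    rw [Finset.mem_coe, hT, Finset.mem_biUnion]
    exact ⟨C, hC, Finset.mem_image_of_mem _ (Finset.mem_univ i)⟩
  have heq : ∑ i, (⟨c C i, hmemT i⟩ : Algebra.adjoin A₀ (T : Set R)) *
      algebraMap A₀ (Algebra.adjoin A₀ (T : Set R)) (C.g i) =
      algebraMap A₀ (Algebra.adjoin A₀ (T : Set R)) C.f ^ n C := by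
    have hinj : Function.Injective (Algebra.adjoin A₀ (T : Set R)).val := Subtype.val_injective
    apply hinj
    rw [map_sum, map_pow, AlgHom.commutes]
    simp_rw [map_mul, AlgHom.commutes]
    exact hc C hC
  have hg : ∀ i, algebraMap A₀ (Algebra.adjoin A₀ (T : Set R)) (C.g i) ∈ q.asIdeal := by
    intro i
    exact hqC.1 ⟨i, rfl⟩
  have hf : algebraMap A₀ (Algebra.adjoin A₀ (T : Set R)) C.f ∉ q.asIdeal := by
    intro hmem
    apply hqC.2
    intro x hx
    rw [Set.mem_singleton_iff] at hx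
    subst hx
    exact hmem
  apply hf
  apply q.2.mem_of_pow_mem (n C)
  rw [← heq]
  exact Ideal.sum_mem _ fun i _ => Ideal.mul_mem_left _ _ (hg i)


/-- Scheme-level limit lemma: a morphism from an affine scheme to `Spec A₀` (`A₀` of finite type
over `ℤ`) landing in a constructible set `E` factors through `Spec A₁ → Spec A₀` landing in `E`
with `A₁` of finite type over `ℤ`. -/
theorem exists_finiteType_factorization {S : Scheme.{u}} [IsAffine S] {A₀ : CommRingCat.{u}}
    (hA₀ : Algebra.FiniteType ℤ A₀) (yZ : S ⟶ Spec A₀) (E : Set (Spec A₀))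
    (hE : IsConstructible E) (h : ∀ s : S, yZ s ∈ E) :
    ∃ (A₁ : CommRingCat.{u}) (α : A₀ ⟶ A₁) (g : S ⟶ Spec A₁), Algebra.FiniteType ℤ A₁ ∧
      g ≫ Spec.map α = yZ ∧ ∀ t : Spec A₁, (Spec.map α) t ∈ E := by
  let R : CommRingCat.{u} := Γ(S, ⊤)
  let ψ : A₀ ⟶ R := (Scheme.ΓSpecIso A₀).inv ≫ yZ.appTop
  have hyZ : yZ = S.toSpecΓ ≫ Spec.map ψ := by
    have h1 := Scheme.toSpecΓ_naturality yZ
    rw [← SpecMap_ΓSpecIso_hom] at h1
    have h2 : yZ = (S.toSpecΓ ≫ Spec.map yZ.appTop) ≫ Spec.map (Scheme.ΓSpecIso A₀).inv := by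
      rw [← h1, Category.assoc, ← Spec.map_comp, Iso.inv_hom_id, Spec.map_id, Category.comp_id]
    rw [h2, Category.assoc, ← Spec.map_comp]
  letI : Algebra A₀ R := ψ.hom.toAlgebra
  have hq : ∀ q : PrimeSpectrum R, PrimeSpectrum.comap (algebraMap A₀ R) q ∈ E := by
    intro q
    obtain ⟨s, rfl⟩ : ∃ s : S, S.toSpecΓ s = q :=
      (ConcreteCategory.bijective_of_isIso S.toSpecΓ.base).2 q
    have := h s
    rw [hyZ] at this
    exact this
  obtain ⟨T, hT⟩ := exists_finset_forall_comap_mem (R := R) E hE hq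
  let A₁ : CommRingCat.{u} := CommRingCat.of (Algebra.adjoin A₀ (T : Set R))
  let α : A₀ ⟶ A₁ := CommRingCat.ofHom (algebraMap A₀ (Algebra.adjoin A₀ (T : Set R)))
  let β : A₁ ⟶ R := CommRingCat.ofHom (Algebra.adjoin A₀ (T : Set R)).val.toRingHom
  have hαβ : α ≫ β = ψ := by
    ext x
    rfl
  refine ⟨A₁, α, S.toSpecΓ ≫ Spec.map β, ?_, ?_, hT⟩
  · haveI : Algebra.FiniteType A₀ (Algebra.adjoin A₀ (T : Set R)) :=
      (Subalgebra.fg_iff_finiteType _).mp (Subalgebra.fg_adjoin_finset T)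
    exact Algebra.FiniteType.trans (R := ℤ) (S := A₀) (A := Algebra.adjoin A₀ (T : Set R)) hA₀
      inferInstance
  · rw [Category.assoc, ← Spec.map_comp, hαβ, hyZ]

/-- A finitely presented morphism of affine schemes with geometrically reduced fibres is a base
change of a geometrically reduced morphism of finite type over a base of finite type over `ℤ`. -/
theorem exists_model_geometricallyReduced {X S : Scheme.{u}} (f : X ⟶ S) [IsAffine X] [IsAffine S]
    [LocallyOfFinitePresentation f] [GeometricallyReduced f] :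
    ∃ (X₀ S₀ : Scheme.{u}) (f₀ : X₀ ⟶ S₀) (g : S ⟶ S₀) (g' : X ⟶ X₀), IsAffine X₀ ∧ IsAffine S₀ ∧
      IsPullback g' f f₀ g ∧ Algebra.FiniteType ℤ Γ(S₀, ⊤) ∧ LocallyOfFiniteType f₀ ∧
      GeometricallyReduced f₀ := by
  obtain ⟨A₀, B₀, φ₀, xZ, yZ, hA₀, hφ₀, hpb⟩ :=
    Groth.Agent.Lib.Helper5.LocusGeneric.exists_int_model f
  haveI : IsNoetherianRing A₀ := Algebra.FiniteType.isNoetherianRing ℤ A₀
  haveI : LocallyOfFinitePresentation (Spec.map φ₀) := by
    rwa [LocallyOfFinitePresentation.SpecMap_iff]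
  have hE : IsConstructible (GR (Spec.map φ₀)) := isConstructible_GR_of_isNoetherianRing _
  have h1 : ∀ s : S, yZ s ∈ GR (Spec.map φ₀) := by
    intro s
    have h2 : s ∈ GR f :=
      (inferInstance : GeometricallyReduced (f.fiberToSpecResidueField s))
    rw [GR_eq_preimage hpb] at h2
    exact h2
  obtain ⟨A₁, α, g, hA₁, hg, hα⟩ := exists_finiteType_factorization hA₀ yZ _ hE h1
  let X₁ := pullback (Spec.map φ₀) (Spec.map α)
  let f₁ : X₁ ⟶ Spec A₁ := pullback.snd _ _
  let g' : X ⟶ X₁ := pullback.lift xZ (f ≫ g) (by rw [Category.assoc, hg, hpb.w])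
  refine ⟨X₁, Spec A₁, f₁, g, g', inferInstance, inferInstance, ?_, ?_, ?_, ?_⟩
  · refine IsPullback.of_right ?_ (pullback.lift_snd _ _ _)
      (IsPullback.of_hasPullback (Spec.map φ₀) (Spec.map α))
    rw [pullback.lift_fst, hg]
    exact hpb
  · exact Algebra.FiniteType.equiv hA₁
      (Scheme.ΓSpecIso A₁).commRingCatIsoToRingEquiv.symm.toIntAlgEquiv
  · exact MorphismProperty.pullback_snd (P := @LocallyOfFiniteType) _ _ inferInstance
  · rw [GeometricallyReduced.eq_geometrically, geometrically_iff_forall_fiberToSpecResidueField]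
    intro t
    have h2 : t ∈ GR f₁ := by
      rw [GR_eq_preimage (IsPullback.of_hasPullback (Spec.map φ₀) (Spec.map α))]
      exact hα t
    rw [← GeometricallyReduced.eq_geometrically]
    exact h2

end Groth.Agent.Lib.Helper6.GRApprox
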