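import Mathlib
import Groth.Agent.Lib.Helper23GalDescent

set_option autoImplicit false
universe u
open TensorProduct

namespace Groth.Agent.Lib.Helper6.GalDesc

section Alg

variable (k : Type u) [Field k] (K : Type u) [Field K] [Algebra k K] [FiniteDimensional k K]

/-- the map `K ⊗ K → ∏_σ K`, `a ⊗ b ↦ (a σ(b))_σ` -/
noncomputable def Φ : K ⊗[k] K →ₐ[k] ((K ≃ₐ[k] K) → K) :=
  Algebra.TensorProduct.productMap (IsScalarTower.toAlgHom k K ((K ≃ₐ[k] K) → K))
    (Pi.algHom k (fun _ => K) (fun σ : K ≃ₐ[k] K => (σ : K →ₐ[k] K)))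

omit [FiniteDimensional k K] in
theorem Φ_tmul (a b : K) (σ : K ≃ₐ[k] K) : Φ k K (a ⊗ₜ[k] b) σ = a * σ b := by
  simp [Φ]

theorem Φ_surjective : Function.Surjective (Φ k K) := by
  intro v
  have hmem : v ∈ Submodule.span K (Set.range (fun c : K => (fun τ : K ≃ₐ[k] K => τ c))) := by
    rw [Groth.Agent.Lib.Helper23.span_range_eval_eq_top]
    exact Submodule.mem_top
  rw [Finsupp.mem_span_range_iff_exists_finsupp] at hmem
  obtain ⟨c, hc⟩ := hmem
  refine ⟨c.sum fun i a => a ⊗ₜ[k] i, ?_⟩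
  rw [← hc, Finsupp.sum, Finsupp.sum, map_sum]
  refine Finset.sum_congr rfl fun i _ => ?_
  funext σ
  rw [Φ_tmul, Pi.smul_apply, smul_eq_mul]

theorem Φ_bijective [IsGalois k K] : Function.Bijective (Φ k K) := by
  have hfin : Module.finrank k (K ⊗[k] K) = Module.finrank k ((K ≃ₐ[k] K) → K) := by
    rw [Module.finrank_tensorProduct, Module.finrank_pi_fintype]
    simp only [Finset.sum_const, Finset.card_univ, smul_eq_mul]
    rw [← Nat.card_eq_fintype_card, IsGalois.card_aut_eq_finrank]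
  have := (LinearMap.injective_iff_surjective_of_finrank_eq_finrank hfin
    (f := (Φ k K).toLinearMap)).mpr (Φ_surjective k K)
  exact ⟨this, Φ_surjective k K⟩

variable [IsGalois k K]

open scoped Classical in
/-- the idempotent of `K ⊗ K` cutting out the graph of `σ` -/
noncomputable def idem (σ : K ≃ₐ[k] K) : K ⊗[k] K :=
  (AlgEquiv.ofBijective (Φ k K) (Φ_bijective k K)).symm (Pi.single σ 1)

open scoped Classical in
theorem Φ_idem (σ : K ≃ₐ[k] K) : Φ k K (idem k K σ) = Pi.single σ 1 :=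
  (AlgEquiv.ofBijective (Φ k K) (Φ_bijective k K)).apply_symm_apply _

open scoped Classical in
theorem sum_idem : ∑ σ : K ≃ₐ[k] K, idem k K σ = 1 := by
  apply (Φ_bijective k K).1
  rw [map_sum, map_one]
  simp_rw [Φ_idem]
  exact Finset.univ_sum_single (1 : (K ≃ₐ[k] K) → K)

open scoped Classical in
theorem tmul_mul_idem (σ : K ≃ₐ[k] K) (b : K) :
    ((σ b) ⊗ₜ[k] (1 : K)) * idem k K σ = ((1 : K) ⊗ₜ[k] b) * idem k K σ := by
  apply (Φ_bijective k K).1
  rw [map_mul, map_mul, Φ_idem]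
  funext τ
  rw [Pi.mul_apply, Pi.mul_apply, Φ_tmul, Φ_tmul]
  by_cases h : τ = σ
  · subst h
    simp
  · rw [Pi.single_eq_of_ne h]
    simp

end Alg

end Groth.Agent.Lib.Helper6.GalDesc
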