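import Mathlib
import Groth.Prelude.Def_Curv2
import Groth.Agent.Lib.Helper6GalDesc1
import Groth.Agent.Lib.Helper6Var1
import Groth.Agent.Lib.Helper6SepCl3

set_option autoImplicit false
universe u
open CategoryTheory CategoryTheory.Limits AlgebraicGeometry TensorProduct

namespace Groth.Agent.Lib.Helper6.GalDesc

section ToSpec

/-- morphisms to an affine scheme `Spec R` are determined by the images of the elements of `R`
in global sections -/
theorem hom_spec_ext {W : Scheme.{u}} {R : Type u} [CommRing R]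
    (b b' : W ⟶ Spec (CommRingCat.of R))
    (h : ∀ r : R, b.appTop ((Scheme.ΓSpecIso (CommRingCat.of R)).inv r) =
      b'.appTop ((Scheme.ΓSpecIso (CommRingCat.of R)).inv r)) : b = b' := by
  apply ext_of_isAffine
  rw [← cancel_epi (Scheme.ΓSpecIso (CommRingCat.of R)).inv]
  ext r
  exact h r

end ToSpec

section Cover

variable (k : Type u) [Field k] (K : Type u) [Field K] [Algebra k K] [FiniteDimensional k K]
  [IsGalois k K]

/-- two `K`-structures on a `k`-scheme `Z` differ, locally on `Z`, by an element of the Galois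
group -/
theorem exists_cover_of_two_structures {Z : Scheme.{u}} (b₁ b₂ : Z ⟶ Spec (CommRingCat.of K))
    (hb : b₁ ≫ Spec.map (CommRingCat.ofHom (algebraMap k K)) =
      b₂ ≫ Spec.map (CommRingCat.ofHom (algebraMap k K))) :
    ∃ U : (K ≃ₐ[k] K) → Z.Opens, (⨆ σ, U σ = ⊤) ∧
      ∀ σ, (U σ).ι ≫ b₂ =
        (U σ).ι ≫ b₁ ≫ Spec.map (CommRingCat.ofHom (σ : K →ₐ[k] K).toRingHom) := by
  classical
  let β₁ : K →+* Γ(Z, ⊤) := ((Scheme.ΓSpecIso (CommRingCat.of K)).inv ≫ b₁.appTop).hom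
  let β₂ : K →+* Γ(Z, ⊤) := ((Scheme.ΓSpecIso (CommRingCat.of K)).inv ≫ b₂.appTop).hom
  have hβ : β₁.comp (algebraMap k K) = β₂.comp (algebraMap k K) := by
    have h1 : ∀ b : Z ⟶ Spec (CommRingCat.of K),
        CommRingCat.ofHom (algebraMap k K) ≫ (Scheme.ΓSpecIso (CommRingCat.of K)).inv ≫ b.appTop =
          (Scheme.ΓSpecIso (CommRingCat.of k)).inv ≫
            (b ≫ Spec.map (CommRingCat.ofHom (algebraMap k K))).appTop := by
      intro b
      rw [Scheme.Hom.comp_appTop, ← Category.assoc, Scheme.ΓSpecIso_inv_naturality, Category.assoc]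
    have h2 := (h1 b₁).trans ((congrArg (fun b => (Scheme.ΓSpecIso (CommRingCat.of k)).inv ≫
      Scheme.Hom.appTop b) hb).trans (h1 b₂).symm)
    exact congrArg CommRingCat.Hom.hom h2
  letI : Algebra k Γ(Z, ⊤) := (β₁.comp (algebraMap k K)).toAlgebra
  let β₁' : K →ₐ[k] Γ(Z, ⊤) := ⟨β₁, fun c => rfl⟩
  let β₂' : K →ₐ[k] Γ(Z, ⊤) := ⟨β₂, fun c => (RingHom.congr_fun hβ c).symm⟩
  let φ : K ⊗[k] K →ₐ[k] Γ(Z, ⊤) := Algebra.TensorProduct.productMap β₁' β₂'
  have hφ : ∀ a b : K, φ (a ⊗ₜ[k] b) = β₁ a * β₂ b := fun a b =>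
    Algebra.TensorProduct.productMap_apply_tmul _ _ _ _
  let ε : (K ≃ₐ[k] K) → Γ(Z, ⊤) := fun σ => φ (idem k K σ)
  have hsum : ∑ σ, ε σ = 1 := by
    simp only [ε]
    rw [← map_sum, sum_idem, map_one]
  refine ⟨fun σ => Z.basicOpen (ε σ), ?_, fun σ => ?_⟩
  · rw [eq_top_iff]
    intro z _
    by_contra hz
    have hz' : ∀ σ, ¬ IsUnit (Z.presheaf.germ ⊤ z trivial (ε σ)) := by
      intro σ hu
      apply hz
      rw [TopologicalSpace.Opens.mem_iSup]
      exact ⟨σ, (Z.mem_basicOpen_top (ε σ) z).mpr hu⟩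
    have h1 : Z.presheaf.germ ⊤ z trivial (∑ σ, ε σ) ∈
        IsLocalRing.maximalIdeal (Z.presheaf.stalk z) := by
      rw [map_sum]
      exact Ideal.sum_mem _ fun σ _ => (IsLocalRing.mem_maximalIdeal _).mpr (hz' σ)
    rw [hsum, map_one] at h1
    exact (IsLocalRing.mem_maximalIdeal _).mp h1 isUnit_one
  · let j := (Z.basicOpen (ε σ)).ι
    have hunit : IsUnit (j.appTop (ε σ)) := by
      have h1 : (↑(Z.basicOpen (ε σ)) : Scheme).basicOpen (j.appTop (ε σ)) = ⊤ := by
        rw [← Scheme.preimage_basicOpen_top]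
        exact Scheme.Opens.ι_preimage_self _
      apply RingedSpace.isUnit_of_isUnit_germ
      intro x hx
      have : x ∈ (↑(Z.basicOpen (ε σ)) : Scheme).basicOpen (j.appTop (ε σ)) := by
        rw [h1]; trivial
      exact ((↑(Z.basicOpen (ε σ)) : Scheme).mem_basicOpen_top _ x).mp this
    have hrel : ∀ r : K, β₁ (σ r) * ε σ = β₂ r * ε σ := by
      intro r
      have := congrArg φ (tmul_mul_idem k K σ r)
      rw [map_mul, map_mul, hφ, hφ, map_one, map_one, mul_one, one_mul] at this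
      exact this
    apply hom_spec_ext
    intro r
    have h2 : j.appTop (β₁ (σ r)) = j.appTop (β₂ r) := by
      have := congrArg j.appTop (hrel r)
      rw [map_mul, map_mul] at this
      exact hunit.mul_left_injective this
    rw [Scheme.Hom.comp_appTop, Scheme.Hom.comp_appTop, Scheme.Hom.comp_appTop]
    simp only [CommRingCat.comp_apply]
    refine Eq.trans h2.symm ?_
    congr 1
    change (b₁.appTop) ((Scheme.ΓSpecIso (CommRingCat.of K)).inv (σ r)) = _
    congr 1
    have := Scheme.ΓSpecIso_inv_naturality (CommRingCat.ofHom (σ : K →ₐ[k] K).toRingHom)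
    exact congrArg (fun f => f r) (congrArg CommRingCat.Hom.hom this)

end Cover

end Groth.Agent.Lib.Helper6.GalDesc

namespace Groth.Agent.Lib.Helper6.GalDesc

section Descent

variable (k : Type u) [Field k] (K : Type u) [Field K] [Algebra k K] [FiniteDimensional k K]
  [IsGalois k K] (X : Scheme.{u}) [X.Over (Spec (CommRingCat.of k))]

omit [FiniteDimensional k K] [IsGalois k K] in
theorem galAct_fst (σ : K ≃ₐ[k] K) :
    Curv2.galAct k X K σ ≫ Curv2.bcFst k X K = Curv2.bcFst k X K := by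
  unfold Curv2.galAct
  rw [pullback.lift_fst, Category.comp_id]

omit [FiniteDimensional k K] [IsGalois k K] in
theorem galAct_snd (σ : K ≃ₐ[k] K) :
    Curv2.galAct k X K σ ≫ Curv2.bcSnd k X K =
      Curv2.bcSnd k X K ≫ Spec.map (CommRingCat.ofHom (σ : K →ₐ[k] K).toRingHom) := by
  unfold Curv2.galAct
  rw [pullback.lift_snd]

omit [FiniteDimensional k K] [IsGalois k K] in
instance : Surjective (Curv2.bcFst k X K) :=
  ⟨Groth.Agent.Lib.Helper6.SepCl.bcFst_surjective k X K⟩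

omit [FiniteDimensional k K] [IsGalois k K] in
instance : QuasiCompact (Curv2.bcFst k X K) := by
  unfold Curv2.bcFst
  infer_instance

/-- any two points of `X_K` over the same point of `X` differ, locally, by the Galois action -/
theorem comp_eq_of_invariant {Y : Scheme.{u}} (h : Curv2.bc k X K ⟶ Y)
    (hinv : ∀ σ : K ≃ₐ[k] K, Curv2.galAct k X K σ ≫ h = h)
    {Z : Scheme.{u}} (g₁ g₂ : Z ⟶ Curv2.bc k X K)
    (hg : g₁ ≫ Curv2.bcFst k X K = g₂ ≫ Curv2.bcFst k X K) : g₁ ≫ h = g₂ ≫ h := by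
  have hb : (g₁ ≫ Curv2.bcSnd k X K) ≫ Spec.map (CommRingCat.ofHom (algebraMap k K)) =
      (g₂ ≫ Curv2.bcSnd k X K) ≫ Spec.map (CommRingCat.ofHom (algebraMap k K)) := by
    rw [Category.assoc, Category.assoc]
    unfold Curv2.bcSnd
    rw [← pullback.condition, ← Category.assoc, ← Category.assoc]
    exact congrArg (· ≫ (X ↘ Spec (CommRingCat.of k))) hg
  obtain ⟨U, hU, hUσ⟩ := exists_cover_of_two_structures k K _ _ hb
  apply (Z.openCoverOfIsOpenCover U (TopologicalSpace.IsOpenCover.mk hU)).hom_ext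
  intro (σ : K ≃ₐ[k] K)
  change (U σ).ι ≫ g₁ ≫ h = (U σ).ι ≫ g₂ ≫ h
  have h1 : (U σ).ι ≫ g₂ = (U σ).ι ≫ g₁ ≫ Curv2.galAct k X K σ := by
    apply pullback.hom_ext
    · change ((U σ).ι ≫ g₂) ≫ Curv2.bcFst k X K =
        ((U σ).ι ≫ g₁ ≫ Curv2.galAct k X K σ) ≫ Curv2.bcFst k X K
      rw [Category.assoc, Category.assoc, Category.assoc, galAct_fst, hg]
    · change ((U σ).ι ≫ g₂) ≫ Curv2.bcSnd k X K =
        ((U σ).ι ≫ g₁ ≫ Curv2.galAct k X K σ) ≫ Curv2.bcSnd k X K
      rw [Category.assoc, Category.assoc, Category.assoc, galAct_snd, hUσ σ]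
      simp only [Category.assoc]
  rw [← Category.assoc (U σ).ι g₂, h1, Category.assoc, Category.assoc, hinv]

/-- Galois descent for morphisms out of a base change -/
theorem exists_desc_of_invariant {Y : Scheme.{u}} (h : Curv2.bc k X K ⟶ Y)
    (hinv : ∀ σ : K ≃ₐ[k] K, Curv2.galAct k X K σ ≫ h = h) :
    ∃ f : X ⟶ Y, Curv2.bcFst k X K ≫ f = h :=
  ⟨EffectiveEpi.desc (Curv2.bcFst k X K) h
      (fun g₁ g₂ hg => comp_eq_of_invariant k K X h hinv g₁ g₂ hg),
    EffectiveEpi.fac _ _ _⟩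

/-- Galois descent of morphisms between base changes -/
theorem exists_hom_iff_equivariant (Y : Scheme.{u}) [Y.Over (Spec (CommRingCat.of k))]
    (g : Curv2.bc k X K ⟶ Curv2.bc k Y K) (hg : g ≫ Curv2.bcSnd k Y K = Curv2.bcSnd k X K) :
    (∃ f : X ⟶ Y, f ≫ (Y ↘ Spec (CommRingCat.of k)) = X ↘ Spec (CommRingCat.of k) ∧
        g ≫ Curv2.bcFst k Y K = Curv2.bcFst k X K ≫ f) ↔
      ∀ σ : K ≃ₐ[k] K, Curv2.galAct k X K σ ≫ g = g ≫ Curv2.galAct k Y K σ := by
  constructor
  · rintro ⟨f, -, hf⟩ σ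
    apply pullback.hom_ext
    · change (Curv2.galAct k X K σ ≫ g) ≫ Curv2.bcFst k Y K =
        (g ≫ Curv2.galAct k Y K σ) ≫ Curv2.bcFst k Y K
      rw [Category.assoc, Category.assoc, galAct_fst, hf, ← Category.assoc, galAct_fst]
    · change (Curv2.galAct k X K σ ≫ g) ≫ Curv2.bcSnd k Y K =
        (g ≫ Curv2.galAct k Y K σ) ≫ Curv2.bcSnd k Y K
      rw [Category.assoc, Category.assoc, galAct_snd, hg, ← Category.assoc, hg, galAct_snd]
  · intro hσ
    obtain ⟨f, hf⟩ := exists_desc_of_invariant k K X (g ≫ Curv2.bcFst k Y K) (fun σ => by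
      rw [← Category.assoc, hσ σ, Category.assoc, galAct_fst])
    refine ⟨f, ?_, hf.symm⟩
    rw [← cancel_epi (Curv2.bcFst k X K), ← Category.assoc, hf, Category.assoc]
    unfold Curv2.bcFst Curv2.bcSnd at *
    rw [pullback.condition, ← Category.assoc, hg, pullback.condition]

end Descent

end Groth.Agent.Lib.Helper6.GalDesc
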