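import Mathlib

set_option autoImplicit false
universe u v

namespace Groth.Agent.Lib.Helper6.GenCompTop

open TopologicalSpace Topology

variable {F : Type u} [TopologicalSpace F]

/-- `n` pairwise disjoint nonempty opens force at least `n` irreducible components. -/
theorem le_encard_irreducibleComponents {n : ℕ} (W : Fin n → Set F) (hWo : ∀ i, IsOpen (W i))
    (hWne : ∀ i, (W i).Nonempty) (hdis : ∀ i j, i ≠ j → Disjoint (W i) (W j)) :
    (n : ℕ∞) ≤ (irreducibleComponents F).encard := by
  choose x hx using hWne
  let φ : Fin n → Set F := fun i => irreducibleComponent (x i)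
  have hφ : Function.Injective φ := by
    intro i j hij
    by_contra hne
    have hi : (irreducibleComponent (x i) ∩ W i).Nonempty := ⟨x i, mem_irreducibleComponent, hx i⟩
    have hj : (irreducibleComponent (x i) ∩ W j).Nonempty := by
      have : irreducibleComponent (x i) = irreducibleComponent (x j) := hij
      rw [this]
      exact ⟨x j, mem_irreducibleComponent, hx j⟩
    obtain ⟨z, -, hzi, hzj⟩ := (isIrreducible_irreducibleComponent (x := x i)).2 (W i) (W j)
      (hWo i) (hWo j) hi hj
    exact Set.disjoint_left.mp (hdis i j hne) hzi hzj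
  have h1 : Set.range φ ⊆ irreducibleComponents F := by
    rintro _ ⟨i, rfl⟩
    exact irreducibleComponent_mem_irreducibleComponents (x i)
  calc (n : ℕ∞) = ENat.card (Fin n) := by simp
    _ ≤ (Set.range φ).encard := hφ.encard_range
    _ ≤ (irreducibleComponents F).encard := Set.encard_le_encard h1

/-- A space with exactly `n` irreducible components has `n` pairwise disjoint nonempty opens. -/
theorem exists_disjoint_opens_of_encard_irreducibleComponents {n : ℕ}
    (h : (irreducibleComponents F).encard = n) :
    ∃ W : Fin n → Set F, (∀ i, IsOpen (W i)) ∧ (∀ i, (W i).Nonempty) ∧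
      ∀ i j, i ≠ j → Disjoint (W i) (W j) := by
  classical
  have hfin : (irreducibleComponents F).Finite := Set.finite_of_encard_eq_coe h
  haveI : Finite (irreducibleComponents F) := hfin
  have hcard : Nat.card (irreducibleComponents F) = n := by
    have h1 : (irreducibleComponents F).encard = (Nat.card (irreducibleComponents F) : ℕ∞) := by
      rw [Set.encard, ENat.card_eq_coe_natCard]
    rw [h1] at h
    exact_mod_cast h
  let e : irreducibleComponents F ≃ Fin n := Finite.equivFinOfCardEq hcard
  let C : Fin n → Set F := fun i => (e.symm i : Set F)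
  have hCmem : ∀ i, C i ∈ irreducibleComponents F := fun i => (e.symm i).2
  have hCinj : Function.Injective C := fun i j hij =>
    e.symm.injective (Subtype.ext hij)
  have hCcl : ∀ i, IsClosed (C i) := fun i => isClosed_of_mem_irreducibleComponents _ (hCmem i)
  have hcover : ∀ x : F, ∃ i, x ∈ C i := by
    intro x
    refine ⟨e ⟨irreducibleComponent x, irreducibleComponent_mem_irreducibleComponents x⟩, ?_⟩
    show x ∈ ((e.symm (e _) : irreducibleComponents F) : Set F)
    rw [Equiv.symm_apply_apply]
    exact mem_irreducibleComponent
  let W : Fin n → Set F := fun i => (⋃ j ∈ (Finset.univ.erase i : Finset (Fin n)), C j)ᶜ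
  refine ⟨W, fun i => ?_, fun i => ?_, fun i j hij => ?_⟩
  · exact (isClosed_biUnion_finset fun j _ => hCcl j).isOpen_compl
  · by_contra hempty
    rw [Set.not_nonempty_iff_eq_empty, Set.compl_empty_iff] at hempty
    have hsub : C i ⊆ ⋃₀ (((Finset.univ.erase i).image C : Finset (Set F)) : Set (Set F)) := by
      intro x _
      have hx : x ∈ ⋃ j ∈ (Finset.univ.erase i : Finset (Fin n)), C j := by
        rw [hempty]; trivial
      simp only [Set.mem_iUnion] at hx
      obtain ⟨j, hj, hxj⟩ := hx
      exact ⟨C j, Finset.mem_coe.mpr (Finset.mem_image_of_mem C hj), hxj⟩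
    obtain ⟨z, hz, hCz⟩ := isIrreducible_iff_sUnion_isClosed.mp (hCmem i).1 _
      (by
        intro z hz
        obtain ⟨j, -, rfl⟩ := Finset.mem_image.mp hz
        exact hCcl j) hsub
    obtain ⟨j, hj, rfl⟩ := Finset.mem_image.mp hz
    have hle : C j ≤ C i := (hCmem i).2 (hCmem j).1 hCz
    have : C i = C j := le_antisymm hCz hle
    exact (Finset.ne_of_mem_erase hj) (hCinj this).symm
  · rw [Set.disjoint_left]
    intro x hxi hxj
    obtain ⟨k, hk⟩ := hcover x
    by_cases hki : k = i
    · subst hki
      apply hxj
      simp only [Set.mem_iUnion]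
      exact ⟨k, Finset.mem_erase.mpr ⟨hij, Finset.mem_univ _⟩, hk⟩
    · apply hxi
      simp only [Set.mem_iUnion]
      exact ⟨k, Finset.mem_erase.mpr ⟨hki, Finset.mem_univ _⟩, hk⟩

theorem image_mem_irreducibleComponents {A : Type u} {B : Type v} [TopologicalSpace A]
    [TopologicalSpace B] (h : A ≃ₜ B) (T : Set A) (hT : T ∈ irreducibleComponents A) :
    h '' T ∈ irreducibleComponents B := by
  refine ⟨hT.1.image _ h.continuous.continuousOn, fun S hS hTS => ?_⟩
  have h1 : IsIrreducible (h.symm '' S) := hS.image _ h.symm.continuous.continuousOn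
  have h2 : T ≤ h.symm '' S := by
    intro t ht
    exact ⟨h t, hTS ⟨t, ht, rfl⟩, by simp⟩
  have h3 := hT.2 h1 h2
  rintro s hs
  exact ⟨h.symm s, h3 ⟨s, hs, rfl⟩, by simp⟩

/-- Homeomorphisms preserve the number of irreducible components. -/
theorem encard_irreducibleComponents_eq {G : Type v} [TopologicalSpace G] (h : F ≃ₜ G) :
    (irreducibleComponents F).encard = (irreducibleComponents G).encard := by
  have himage : irreducibleComponents G = (Set.image h) '' irreducibleComponents F := by
    ext T
    constructor
    · intro hT
      refine ⟨h.symm '' T, image_mem_irreducibleComponents h.symm T hT, ?_⟩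
      rw [← Set.image_comp]
      simp
    · rintro ⟨T, hT, rfl⟩
      exact image_mem_irreducibleComponents h T hT
  rw [himage, (Set.image_injective.mpr h.injective).encard_image]

section conn

theorem card_le_card_of_surjective {α : Type u} {β : Type v} {f : α → β}
    (hf : Function.Surjective f) : ENat.card β ≤ ENat.card α :=
  ENat.card_le_card_of_injective (Function.injective_surjInv hf)

/-- `n` pairwise disjoint nonempty opens covering the space force at least `n` connected
components. -/
theorem le_card_connectedComponents {n : ℕ} (W : Fin n → Set F) (hWo : ∀ i, IsOpen (W i))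
    (hWne : ∀ i, (W i).Nonempty) (hdis : ∀ i j, i ≠ j → Disjoint (W i) (W j))
    (hcov : ∀ x : F, ∃ i, x ∈ W i) :
    (n : ℕ∞) ≤ ENat.card (ConnectedComponents F) := by
  choose c hc using hcov
  have huniq : ∀ x i, x ∈ W i → c x = i := by
    intro x i hxi
    by_contra hne
    exact Set.disjoint_left.mp (hdis (c x) i hne) (hc x) hxi
  have hcont : Continuous c := by
    rw [continuous_discrete_rng]
    intro i
    have : c ⁻¹' {i} = W i := by
      ext x
      constructor
      · intro hx
        have hx' : c x = i := hx
        rw [← hx']
        exact hc x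
      · intro hx
        exact huniq x i hx
    rw [this]
    exact hWo i
  have hsurj : Function.Surjective hcont.connectedComponentsLift := by
    intro i
    obtain ⟨x, hx⟩ := hWne i
    exact ⟨ConnectedComponents.mk x, huniq x i hx⟩
  calc (n : ℕ∞) = ENat.card (Fin n) := by simp
    _ ≤ ENat.card (ConnectedComponents F) := card_le_card_of_surjective hsurj

/-- A space with exactly `n` connected components is the disjoint union of `n` nonempty opens. -/
theorem exists_disjoint_opens_of_card_connectedComponents {n : ℕ}
    (h : ENat.card (ConnectedComponents F) = n) :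
    ∃ W : Fin n → Set F, (∀ i, IsOpen (W i)) ∧ (∀ i, (W i).Nonempty) ∧
      (∀ i j, i ≠ j → Disjoint (W i) (W j)) ∧ ∀ x : F, ∃ i, x ∈ W i := by
  classical
  haveI : Finite (ConnectedComponents F) := by
    by_contra hinf
    rw [not_finite_iff_infinite] at hinf
    rw [ENat.card_eq_top_of_infinite] at h
    exact ENat.top_ne_coe n h
  have hcard : Nat.card (ConnectedComponents F) = n := by
    rw [ENat.card_eq_coe_natCard] at h
    exact_mod_cast h
  let e : ConnectedComponents F ≃ Fin n := Finite.equivFinOfCardEq hcard
  let W : Fin n → Set F := fun i => ConnectedComponents.mk ⁻¹' {e.symm i}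
  have hWcl : ∀ i, IsClosed (W i) := by
    intro i
    obtain ⟨x, hx⟩ := ConnectedComponents.surjective_coe (e.symm i)
    show IsClosed (ConnectedComponents.mk ⁻¹' {e.symm i})
    rw [← hx, connectedComponents_preimage_singleton]
    exact isClosed_connectedComponent
  have hcov : ∀ x : F, ∃ i, x ∈ W i := by
    intro x
    refine ⟨e (ConnectedComponents.mk x), ?_⟩
    show ConnectedComponents.mk x ∈ ({e.symm (e (ConnectedComponents.mk x))} : Set _)
    rw [Equiv.symm_apply_apply]
    rfl
  have hdis : ∀ i j, i ≠ j → Disjoint (W i) (W j) := by
    intro i j hij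
    rw [Set.disjoint_left]
    intro x hxi hxj
    have h1 : ConnectedComponents.mk x = e.symm i := hxi
    have h2 : ConnectedComponents.mk x = e.symm j := hxj
    exact hij (e.symm.injective (h1.symm.trans h2))
  refine ⟨W, fun i => ?_, fun i => ?_, hdis, hcov⟩
  · have : W i = (⋃ j ∈ (Finset.univ.erase i : Finset (Fin n)), W j)ᶜ := by
      ext x
      simp only [Set.mem_compl_iff, Set.mem_iUnion, not_exists]
      constructor
      · intro hxi j hj hxj
        exact Set.disjoint_left.mp (hdis i j (Finset.ne_of_mem_erase hj).symm) hxi hxj
      · intro hx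
        obtain ⟨k, hk⟩ := hcov x
        by_cases hki : k = i
        · rw [← hki]; exact hk
        · exact absurd hk (hx k (Finset.mem_erase.mpr ⟨hki, Finset.mem_univ _⟩))
    rw [this]
    exact (isClosed_biUnion_finset fun j _ => hWcl j).isOpen_compl
  · obtain ⟨x, hx⟩ := ConnectedComponents.surjective_coe (e.symm i)
    exact ⟨x, hx⟩

/-- Homeomorphisms preserve the number of connected components. -/
theorem card_connectedComponents_eq {G : Type v} [TopologicalSpace G] (h : F ≃ₜ G) :
    ENat.card (ConnectedComponents F) = ENat.card (ConnectedComponents G) := by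
  apply le_antisymm
  · exact card_le_card_of_surjective
      (h.symm.continuous.connectedComponentsMap_surjective h.symm.surjective)
  · exact card_le_card_of_surjective
      (h.continuous.connectedComponentsMap_surjective h.surjective)

end conn

end Groth.Agent.Lib.Helper6.GenCompTop
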