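import Mathlib
import Groth.Agent.Lib.Helper6GenComp
import Groth.Agent.Lib.Helper6GenCompTop
import Groth.Agent.Lib.Helper6GenNonRedSch

set_option autoImplicit false
universe u

namespace Groth.Agent.Lib.Helper6.GenCompSch

open AlgebraicGeometry CategoryTheory CategoryTheory.Limits TopologicalSpace
open Groth.Agent.Lib.Helper10.DVRFibre Groth.Agent.Lib.Helper6.GenNonRedSch

section affine

variable {A : Type u} [CommRing A] {X : Scheme.{u}} (f : X ⟶ Spec (CommRingCat.of A))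

theorem apply_fromSpec {U : X.Opens} (hU : IsAffineOpen U) (Q : PrimeSpectrum Γ(X, U)) :
    ((f (hU.fromSpec Q) : PrimeSpectrum A)).asIdeal = Q.asIdeal.comap (phi f U) := by
  have h1 : (hU.fromSpec ≫ f) Q = (Spec.map (CommRingCat.ofHom (phi f U))) Q := by
    rw [fromSpec_comp]
  rw [Scheme.Hom.comp_apply] at h1
  rw [h1]
  rfl

theorem fromSpec_mem {U : X.Opens} (hU : IsAffineOpen U) (Q : PrimeSpectrum Γ(X, U)) :
    hU.fromSpec Q ∈ U := by
  have : hU.fromSpec Q ∈ Set.range hU.fromSpec := ⟨Q, rfl⟩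
  rwa [hU.range_fromSpec] at this

variable (η : PrimeSpectrum A) (hη : ∀ q : PrimeSpectrum A, η ⤳ q)
include hη

theorem le_of_generic (q : Ideal A) (hq : q.IsPrime) : η.asIdeal ≤ q :=
  (PrimeSpectrum.le_iff_specializes η ⟨q, hq⟩).mpr (hη ⟨q, hq⟩)

/-- generic going-down on an affine open -/
theorem exists_notMem_forall_exists_specializes [LocallyOfFiniteType f] {U : X.Opens}
    (hU : IsAffineOpen U) :
    ∃ a ∉ η.asIdeal, ∀ x ∈ U, a ∉ (f x : PrimeSpectrum A).asIdeal →
      ∃ x' ∈ U, x' ⤳ x ∧ f x' = η := by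
  letI : Algebra A Γ(X, U) := (phi f U).toAlgebra
  haveI : Algebra.FiniteType A Γ(X, U) := phi_finiteType f hU
  obtain ⟨a, ha, hG⟩ := GenComp.exists_notMem_forall_exists_le_comap_eq η.asIdeal Γ(X, U)
    (le_of_generic η hη)
  refine ⟨a, ha, fun x hx hax => ?_⟩
  set P : PrimeSpectrum Γ(X, U) := hU.primeIdealOf ⟨x, hx⟩ with hP
  have hPx : hU.fromSpec P = x := hU.fromSpec_primeIdealOf ⟨x, hx⟩
  have h1 : a ∉ P.asIdeal.comap (algebraMap A Γ(X, U)) := by
    intro hmem
    apply hax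
    rw [← hPx, apply_fromSpec]
    exact hmem
  obtain ⟨P', hP', hle, hcomap⟩ := hG P.asIdeal P.2 h1
  refine ⟨hU.fromSpec ⟨P', hP'⟩, fromSpec_mem hU _, ?_, ?_⟩
  · rw [← hPx]
    exact ((PrimeSpectrum.le_iff_specializes ⟨P', hP'⟩ P).mp hle).map hU.fromSpec.continuous
  · apply PrimeSpectrum.ext
    rw [apply_fromSpec]
    exact hcomap

/-- generic surjectivity on an affine open -/
theorem exists_notMem_forall_exists_mem [LocallyOfFiniteType f] {U : X.Opens}
    (hU : IsAffineOpen U) (x₀ : X) (hx₀ : x₀ ∈ U) (hfx₀ : f x₀ = η) :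
    ∃ a ∉ η.asIdeal, ∀ q : PrimeSpectrum A, a ∉ q.asIdeal → ∃ x ∈ U, f x = q := by
  letI : Algebra A Γ(X, U) := (phi f U).toAlgebra
  haveI : Algebra.FiniteType A Γ(X, U) := phi_finiteType f hU
  set P₀ : PrimeSpectrum Γ(X, U) := hU.primeIdealOf ⟨x₀, hx₀⟩ with hP₀
  have hPx : hU.fromSpec P₀ = x₀ := hU.fromSpec_primeIdealOf ⟨x₀, hx₀⟩
  haveI := P₀.2
  have h0 : P₀.asIdeal.comap (algebraMap A Γ(X, U)) = η.asIdeal := by
    rw [← hfx₀, ← hPx, apply_fromSpec]
    rfl
  obtain ⟨a, ha, hE⟩ := GenComp.exists_notMem_forall_exists_comap_eq η.asIdeal Γ(X, U)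
    (le_of_generic η hη) P₀.asIdeal h0
  refine ⟨a, ha, fun q haq => ?_⟩
  obtain ⟨Q, hQ, hQq⟩ := hE q.asIdeal q.2 haq
  refine ⟨hU.fromSpec ⟨Q, hQ⟩, fromSpec_mem hU _, ?_⟩
  apply PrimeSpectrum.ext
  rw [apply_fromSpec]
  exact hQq

end affine

section count

variable {A : Type u} [CommRing A] {X : Scheme.{u}} (f : X ⟶ Spec (CommRingCat.of A))
  [LocallyOfFiniteType f] [QuasiCompact f]
  (η : PrimeSpectrum A) (hη : ∀ q : PrimeSpectrum A, η ⤳ q)
include hη

/-- a single `a` for generic going-down on all of `X` -/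
theorem exists_notMem_forall_exists_specializes' :
    ∃ a ∉ η.asIdeal, ∀ x : X, a ∉ (f x : PrimeSpectrum A).asIdeal →
      ∃ x' : X, x' ⤳ x ∧ f x' = η := by
  classical
  haveI : CompactSpace X := QuasiCompact.compactSpace_of_compactSpace f
  obtain ⟨s, hs, hcov⟩ := (isCompact_and_isOpen_iff_finite_and_eq_biUnion_affineOpens
    (X := X) (U := Set.univ)).mp ⟨isCompact_univ, isOpen_univ⟩
  choose a ha hG using fun U : X.affineOpens =>
    exists_notMem_forall_exists_specializes f η hη U.2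
  refine ⟨∏ U ∈ hs.toFinset, a U, ?_, ?_⟩
  · haveI := η.2
    rw [Ideal.IsPrime.prod_mem_iff]
    rintro ⟨U, -, hU⟩
    exact ha U hU
  · intro x hax
    have hx : x ∈ ⋃ i ∈ s, ((i : X.Opens) : Set X) := by rw [← hcov]; trivial
    simp only [Set.mem_iUnion] at hx
    obtain ⟨U, hUs, hxU⟩ := hx
    have h1 : a U ∉ (f x : PrimeSpectrum A).asIdeal := fun hmem =>
      hax (Ideal.mem_of_dvd _ (Finset.dvd_prod_of_mem a (hs.mem_toFinset.mpr hUs)) hmem)
    obtain ⟨x', -, hx', hfx'⟩ := hG U x hxU h1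
    exact ⟨x', hx', hfx'⟩

/-- If the generic fibre has exactly `n` irreducible components, then the fibres over a principal
open neighbourhood of `η` have at least `n` irreducible components. -/
theorem exists_notMem_forall_le_encard_irreducibleComponents (n : ℕ)
    (h : (irreducibleComponents ↥(f ⁻¹' {η})).encard = n) :
    ∃ a ∉ η.asIdeal, ∀ q : PrimeSpectrum A, a ∉ q.asIdeal →
      (n : ℕ∞) ≤ (irreducibleComponents ↥(f ⁻¹' {q})).encard := by
  classical
  obtain ⟨W, hWo, hWne, hWdis⟩ :=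
    GenCompTop.exists_disjoint_opens_of_encard_irreducibleComponents h
  -- affine opens `U i` of `X` with `U i ∩ f⁻¹{η} ⊆ W i`, containing a point of the generic fibre
  have hU : ∀ i, ∃ (U : X.Opens) (x₀ : X), IsAffineOpen U ∧ x₀ ∈ U ∧ f x₀ = η ∧
      ∀ x : ↥(f ⁻¹' {η}), x.1 ∈ U → x ∈ W i := by
    intro i
    obtain ⟨x, hx⟩ := hWne i
    obtain ⟨W', hW'o, hW'⟩ := isOpen_induced_iff.mp (hWo i)
    have hxW' : x.1 ∈ W' := by
      have : x ∈ Subtype.val ⁻¹' W' := by rw [hW']; exact hx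
      exact this
    obtain ⟨_, ⟨U, hUaff, rfl⟩, hxU, hUW'⟩ :=
      X.isBasis_affineOpens.exists_subset_of_mem_open hxW' hW'o
    refine ⟨U, x.1, hUaff, hxU, x.2, fun y hy => ?_⟩
    have : y ∈ Subtype.val ⁻¹' W' := hUW' hy
    rwa [hW'] at this
  choose U x₀ hUaff hx₀U hfx₀ hUW using hU
  -- generic surjectivity on each `U i`
  choose b hb hE using fun i => exists_notMem_forall_exists_mem f η hη (hUaff i) (x₀ i) (hx₀U i)
    (hfx₀ i)
  obtain ⟨c, hc, hG⟩ := exists_notMem_forall_exists_specializes' f η hη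
  haveI := η.2
  refine ⟨c * ∏ i, b i, ?_, ?_⟩
  · intro hmem
    rcases Ideal.IsPrime.mem_or_mem inferInstance hmem with h1 | h1
    · exact hc h1
    · rw [Ideal.IsPrime.prod_mem_iff] at h1
      obtain ⟨i, -, hi⟩ := h1
      exact hb i hi
  · intro q haq
    have hcq : c ∉ q.asIdeal := fun hmem => haq (Ideal.mul_mem_right _ _ hmem)
    have hbq : ∀ i, b i ∉ q.asIdeal := fun i hmem =>
      haq (Ideal.mul_mem_left _ _
        (Ideal.mem_of_dvd _ (Finset.dvd_prod_of_mem b (Finset.mem_univ i)) hmem))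
    let Wq : Fin n → Set ↥(f ⁻¹' {q}) := fun i => Subtype.val ⁻¹' ((U i : X.Opens) : Set X)
    apply GenCompTop.le_encard_irreducibleComponents Wq
    · intro i
      exact (U i).isOpen.preimage continuous_subtype_val
    · intro i
      obtain ⟨x, hxU, hfx⟩ := hE i q (hbq i)
      exact ⟨⟨x, hfx⟩, hxU⟩
    · intro i j hij
      rw [Set.disjoint_left]
      intro x hxi hxj
      have hfx : f x.1 = q := x.2
      obtain ⟨x', hx', hfx'⟩ := hG x.1 (by rw [hfx]; exact hcq)
      have h1 : x' ∈ U i := hx'.mem_open (U i).isOpen hxi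
      have h2 : x' ∈ U j := hx'.mem_open (U j).isOpen hxj
      exact Set.disjoint_left.mp (hWdis i j hij) (hUW i ⟨x', hfx'⟩ h1) (hUW j ⟨x', hfx'⟩ h2)

end count

section general

theorem nonempty_homeo_fiber_of_isPullback {P X Y Z : Scheme.{u}} {fst : P ⟶ X} {snd : P ⟶ Y}
    {f : X ⟶ Z} {g : Y ⟶ Z} [IsOpenImmersion g] (h : IsPullback fst snd f g) (q : Y) (y : Z)
    (hy : g q = y) : Nonempty (↥(snd ⁻¹' {q}) ≃ₜ ↥(f.fiber y)) := by
  subst hy
  have h' := isPullback_fiberToSpecResidueField_of_isPullback h q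
  obtain ⟨m, hm⟩ : ∃ m : snd.fiber q ⟶ f.fiber (g q), IsIso m :=
    ⟨_, h'.isIso_fst_of_isIso⟩
  exact ⟨(snd.fiberHomeo q).symm.trans (Scheme.homeoOfIso (asIso m))⟩

/-- If the generic fibre of a finite type morphism to an irreducible scheme has exactly `n`
irreducible components, then over a nonempty open all fibres have at least `n` irreducible
components. -/
theorem le_encard_irreducibleComponents_fibre_near_generic_point {X Y : Scheme.{u}} (f : X ⟶ Y)
    [IrreducibleSpace ↑Y] [LocallyOfFiniteType f] [QuasiCompact f] (n : ℕ)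
    (h : (irreducibleComponents ↑(f.fiber (genericPoint ↑Y))).encard = n) :
    ∃ V : Y.Opens, (V : Set ↑Y).Nonempty ∧
      ∀ y ∈ V, (n : ℕ∞) ≤ (irreducibleComponents ↑(f.fiber y)).encard := by
  obtain ⟨V₀, hV₀, hηV₀⟩ := exists_affineOpen_mem (genericPoint Y)
  let g : Spec (CommRingCat.of Γ(Y, V₀)) ⟶ Y := hV₀.fromSpec
  let f' : pullback f g ⟶ Spec (CommRingCat.of Γ(Y, V₀)) := pullback.snd f g
  have hpb : IsPullback (pullback.fst f g) f' f g := IsPullback.of_hasPullback f g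
  obtain ⟨η', hη'⟩ : ∃ η' : Spec (CommRingCat.of Γ(Y, V₀)), g η' = genericPoint Y := by
    have : genericPoint Y ∈ Set.range g := by
      rw [hV₀.range_fromSpec]; exact hηV₀
    exact this
  have hgen : ∀ q : PrimeSpectrum Γ(Y, V₀), η' ⤳ q := by
    intro q
    have : g η' ⤳ g q := by
      rw [hη']; exact genericPoint_specializes _
    exact (g.isOpenEmbedding.isInducing.specializes_iff).mp this
  have h1 : (irreducibleComponents ↥(f' ⁻¹' {η'})).encard = n := by
    obtain ⟨e⟩ := nonempty_homeo_fiber_of_isPullback hpb η' _ hη'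
    rw [GenCompTop.encard_irreducibleComponents_eq e]
    exact h
  obtain ⟨a, ha, hall⟩ := exists_notMem_forall_le_encard_irreducibleComponents f' η' hgen n h1
  refine ⟨g ''ᵁ (PrimeSpectrum.basicOpen a), ⟨g η', η', ha, rfl⟩, ?_⟩
  rintro _ ⟨q, hq, rfl⟩
  obtain ⟨e⟩ := nonempty_homeo_fiber_of_isPullback hpb q _ rfl
  exact (hall q hq).trans (GenCompTop.encard_irreducibleComponents_eq e).le

end general

end Groth.Agent.Lib.Helper6.GenCompSch
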