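import Mathlib
import Groth.Agent.Lib.Helper6GenCompSch

set_option autoImplicit false
universe u

namespace Groth.Agent.Lib.Helper6.GenCompSch

open AlgebraicGeometry CategoryTheory CategoryTheory.Limits TopologicalSpace
open Groth.Agent.Lib.Helper10.DVRFibre Groth.Agent.Lib.Helper6.GenNonRedSch

section closed

variable {A : Type u} [CommRing A] {X : Scheme.{u}} (f : X ⟶ Spec (CommRingCat.of A))
  (η : PrimeSpectrum A) (hη : ∀ q : PrimeSpectrum A, η ⤳ q)
include hη

/-- A closed subset missing the generic fibre (inside an affine open) misses the fibres over a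
principal open. -/
theorem exists_notMem_forall_mem_of_isClosed {U : X.Opens} (hU : IsAffineOpen U) (Z : Set X)
    (hZ : IsClosed Z) (hZη : ∀ x ∈ Z, x ∈ U → f x ≠ η) :
    ∃ a ∉ η.asIdeal, ∀ x ∈ Z, x ∈ U → a ∈ (f x : PrimeSpectrum A).asIdeal := by
  letI : Algebra A Γ(X, U) := (phi f U).toAlgebra
  set T : Set (PrimeSpectrum Γ(X, U)) := hU.fromSpec ⁻¹' Z with hT
  have hTcl : IsClosed T := hZ.preimage hU.fromSpec.continuous
  set I : Ideal Γ(X, U) := PrimeSpectrum.vanishingIdeal T with hI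
  have hzl : PrimeSpectrum.zeroLocus (I : Set Γ(X, U)) = T := by
    rw [hI, PrimeSpectrum.zeroLocus_vanishingIdeal_eq_closure, hTcl.closure_eq]
  haveI := η.2
  obtain ⟨a, ha, hall⟩ := GenComp.exists_notMem_forall_ne_comap η.asIdeal (Γ(X, U) ⧸ I)
    (le_of_generic η hη) (by
      intro Pb hPb heq
      have hPprime : (Pb.comap (Ideal.Quotient.mk I)).IsPrime := Ideal.comap_isPrime _ _
      set P : PrimeSpectrum Γ(X, U) := ⟨Pb.comap (Ideal.Quotient.mk I), hPprime⟩ with hP
      have hPT : P ∈ T := by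
        rw [← hzl, PrimeSpectrum.mem_zeroLocus]
        intro x hx
        show Ideal.Quotient.mk I x ∈ Pb
        rw [Ideal.Quotient.eq_zero_iff_mem.mpr hx]
        exact Pb.zero_mem
      refine hZη (hU.fromSpec P) hPT (fromSpec_mem hU P) ?_
      apply PrimeSpectrum.ext
      rw [apply_fromSpec, ← heq]
      rfl)
  refine ⟨a, ha, fun x hxZ hxU => ?_⟩
  set P : PrimeSpectrum Γ(X, U) := hU.primeIdealOf ⟨x, hxU⟩ with hP
  have hPx : hU.fromSpec P = x := hU.fromSpec_primeIdealOf ⟨x, hxU⟩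
  have hPT : P ∈ T := by
    show hU.fromSpec P ∈ Z
    rw [hPx]; exact hxZ
  have hIP : I ≤ P.asIdeal := by
    rw [← hzl, PrimeSpectrum.mem_zeroLocus] at hPT
    exact hPT
  have hker : RingHom.ker (Ideal.Quotient.mk I) ≤ P.asIdeal := by rwa [Ideal.mk_ker]
  haveI : (P.asIdeal.map (Ideal.Quotient.mk I)).IsPrime :=
    Ideal.map_isPrime_of_surjective Ideal.Quotient.mk_surjective hker
  have h1 := hall (P.asIdeal.map (Ideal.Quotient.mk I)) inferInstance
  have h2 : (P.asIdeal.map (Ideal.Quotient.mk I)).comap (Ideal.Quotient.mk I) = P.asIdeal := by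
    rw [Ideal.comap_map_of_surjective _ Ideal.Quotient.mk_surjective, ← RingHom.ker_eq_comap_bot,
      sup_eq_left]
    exact hker
  rw [← hPx, apply_fromSpec, ← h2, Ideal.comap_comap]
  exact h1

end closed

section countConn

variable {A : Type u} [CommRing A] {X : Scheme.{u}} (f : X ⟶ Spec (CommRingCat.of A))
  [LocallyOfFiniteType f] [QuasiCompact f]
  (η : PrimeSpectrum A) (hη : ∀ q : PrimeSpectrum A, η ⤳ q)
include hη

omit [LocallyOfFiniteType f] in
/-- global version of `exists_notMem_forall_mem_of_isClosed` -/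
theorem exists_notMem_forall_mem_of_isClosed' (Z : Set X) (hZ : IsClosed Z)
    (hZη : ∀ x ∈ Z, f x ≠ η) :
    ∃ a ∉ η.asIdeal, ∀ x ∈ Z, a ∈ (f x : PrimeSpectrum A).asIdeal := by
  classical
  haveI : CompactSpace X := QuasiCompact.compactSpace_of_compactSpace f
  obtain ⟨s, hs, hcov⟩ := (isCompact_and_isOpen_iff_finite_and_eq_biUnion_affineOpens
    (X := X) (U := Set.univ)).mp ⟨isCompact_univ, isOpen_univ⟩
  choose a ha hG using fun U : X.affineOpens =>
    exists_notMem_forall_mem_of_isClosed f η hη U.2 Z hZ (fun x hx _ => hZη x hx)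
  refine ⟨∏ U ∈ hs.toFinset, a U, ?_, ?_⟩
  · haveI := η.2
    rw [Ideal.IsPrime.prod_mem_iff]
    rintro ⟨U, -, hU⟩
    exact ha U hU
  · intro x hxZ
    have hx : x ∈ ⋃ i ∈ s, ((i : X.Opens) : Set X) := by rw [← hcov]; trivial
    simp only [Set.mem_iUnion] at hx
    obtain ⟨U, hUs, hxU⟩ := hx
    exact Ideal.mem_of_dvd _ (Finset.dvd_prod_of_mem a (hs.mem_toFinset.mpr hUs))
      (hG U x hxZ hxU)

/-- If the generic fibre has exactly `n` connected components, then the fibres over a principal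
open neighbourhood of `η` have at least `n` connected components. -/
theorem exists_notMem_forall_le_card_connectedComponents (n : ℕ)
    (h : ENat.card (_root_.ConnectedComponents ↥(f ⁻¹' {η})) = n) :
    ∃ a ∉ η.asIdeal, ∀ q : PrimeSpectrum A, a ∉ q.asIdeal →
      (n : ℕ∞) ≤ ENat.card (_root_.ConnectedComponents ↥(f ⁻¹' {q})) := by
  classical
  obtain ⟨W, hWo, hWne, hWdis, hWcov⟩ :=
    GenCompTop.exists_disjoint_opens_of_card_connectedComponents h
  -- opens `W' i` of `X` restricting to `W i`, and affine opens `U i ⊆ W' i` meeting the generic fibre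
  have hU : ∀ i, ∃ (W' : X.Opens) (U : X.Opens) (x₀ : X), IsAffineOpen U ∧ x₀ ∈ U ∧ f x₀ = η ∧
      U ≤ W' ∧ ∀ x : ↥(f ⁻¹' {η}), x.1 ∈ W' ↔ x ∈ W i := by
    intro i
    obtain ⟨x, hx⟩ := hWne i
    obtain ⟨W', hW'o, hW'⟩ := isOpen_induced_iff.mp (hWo i)
    have hxW' : x.1 ∈ W' := by
      have : x ∈ Subtype.val ⁻¹' W' := by rw [hW']; exact hx
      exact this
    obtain ⟨_, ⟨U, hUaff, rfl⟩, hxU, hUW'⟩ :=
      X.isBasis_affineOpens.exists_subset_of_mem_open hxW' hW'o
    refine ⟨⟨W', hW'o⟩, U, x.1, hUaff, hxU, x.2, hUW', fun y => ?_⟩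
    rw [← hW']
    rfl
  choose W' U x₀ hUaff hx₀U hfx₀ hUW' hW'W using hU
  choose b hb hE using fun i => exists_notMem_forall_exists_mem f η hη (hUaff i) (x₀ i) (hx₀U i)
    (hfx₀ i)
  obtain ⟨c, hc, hG⟩ := exists_notMem_forall_exists_specializes' f η hη
  -- the closed complement
  have hZcl : IsClosed ((⋃ i, ((W' i : X.Opens) : Set X))ᶜ) :=
    (isOpen_iUnion fun i => (W' i).isOpen).isClosed_compl
  obtain ⟨d, hd, hZ⟩ := exists_notMem_forall_mem_of_isClosed' f η hη _ hZcl (by
    intro x hxZ hfx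
    obtain ⟨i, hi⟩ := hWcov ⟨x, hfx⟩
    apply hxZ
    simp only [Set.mem_iUnion]
    exact ⟨i, (hW'W i ⟨x, hfx⟩).mpr hi⟩)
  haveI := η.2
  refine ⟨c * d * ∏ i, b i, ?_, ?_⟩
  · intro hmem
    rcases Ideal.IsPrime.mem_or_mem inferInstance hmem with h1 | h1
    · rcases Ideal.IsPrime.mem_or_mem inferInstance h1 with h2 | h2
      · exact hc h2
      · exact hd h2
    · rw [Ideal.IsPrime.prod_mem_iff] at h1
      obtain ⟨i, -, hi⟩ := h1
      exact hb i hi
  · intro q haq
    have hcq : c ∉ q.asIdeal := fun hmem =>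
      haq (Ideal.mul_mem_right _ _ (Ideal.mul_mem_right _ _ hmem))
    have hdq : d ∉ q.asIdeal := fun hmem =>
      haq (Ideal.mul_mem_right _ _ (Ideal.mul_mem_left _ _ hmem))
    have hbq : ∀ i, b i ∉ q.asIdeal := fun i hmem =>
      haq (Ideal.mul_mem_left _ _
        (Ideal.mem_of_dvd _ (Finset.dvd_prod_of_mem b (Finset.mem_univ i)) hmem))
    let Wq : Fin n → Set ↥(f ⁻¹' {q}) := fun i => Subtype.val ⁻¹' ((W' i : X.Opens) : Set X)
    apply GenCompTop.le_card_connectedComponents Wq
    · intro i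
      exact (W' i).isOpen.preimage continuous_subtype_val
    · intro i
      obtain ⟨x, hxU, hfx⟩ := hE i q (hbq i)
      exact ⟨⟨x, hfx⟩, hUW' i hxU⟩
    · intro i j hij
      rw [Set.disjoint_left]
      intro x hxi hxj
      have hfx : f x.1 = q := x.2
      obtain ⟨x', hx', hfx'⟩ := hG x.1 (by rw [hfx]; exact hcq)
      have h1 : x' ∈ W' i := hx'.mem_open (W' i).isOpen hxi
      have h2 : x' ∈ W' j := hx'.mem_open (W' j).isOpen hxj
      exact Set.disjoint_left.mp (hWdis i j hij) ((hW'W i ⟨x', hfx'⟩).mp h1)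
        ((hW'W j ⟨x', hfx'⟩).mp h2)
    · intro x
      have hfx : f x.1 = q := x.2
      by_contra hcon
      push Not at hcon
      have hxZ : x.1 ∈ (⋃ i, ((W' i : X.Opens) : Set X))ᶜ := by
        simp only [Set.mem_compl_iff, Set.mem_iUnion, not_exists]
        exact fun i hi => hcon i hi
      have := hZ x.1 hxZ
      rw [hfx] at this
      exact hdq this

end countConn

section generalConn

/-- If the generic fibre of a finite type morphism to an irreducible scheme has exactly `n`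
connected components, then over a nonempty open all fibres have at least `n` connected
components. -/
theorem le_card_connectedComponents_fibre_near_generic_point {X Y : Scheme.{u}} (f : X ⟶ Y)
    [IrreducibleSpace ↑Y] [LocallyOfFiniteType f] [QuasiCompact f] (n : ℕ)
    (h : ENat.card (_root_.ConnectedComponents ↑(f.fiber (genericPoint ↑Y))) = n) :
    ∃ V : Y.Opens, (V : Set ↑Y).Nonempty ∧
      ∀ y ∈ V, (n : ℕ∞) ≤ ENat.card (_root_.ConnectedComponents ↑(f.fiber y)) := by
  obtain ⟨V₀, hV₀, hηV₀⟩ := exists_affineOpen_mem (genericPoint Y)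
  let g : Spec (CommRingCat.of Γ(Y, V₀)) ⟶ Y := hV₀.fromSpec
  let f' : pullback f g ⟶ Spec (CommRingCat.of Γ(Y, V₀)) := pullback.snd f g
  have hpb : IsPullback (pullback.fst f g) f' f g := IsPullback.of_hasPullback f g
  obtain ⟨η', hη'⟩ : ∃ η' : Spec (CommRingCat.of Γ(Y, V₀)), g η' = genericPoint Y := by
    have : genericPoint Y ∈ Set.range g := by
      rw [hV₀.range_fromSpec]; exact hηV₀
    exact this
  have hgen : ∀ q : PrimeSpectrum Γ(Y, V₀), η' ⤳ q := by
    intro q
    have : g η' ⤳ g q := by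
      rw [hη']; exact genericPoint_specializes _
    exact (g.isOpenEmbedding.isInducing.specializes_iff).mp this
  have h1 : ENat.card (_root_.ConnectedComponents ↥(f' ⁻¹' {η'})) = n := by
    obtain ⟨e⟩ := nonempty_homeo_fiber_of_isPullback hpb η' _ hη'
    rw [GenCompTop.card_connectedComponents_eq e]
    exact h
  obtain ⟨a, ha, hall⟩ := exists_notMem_forall_le_card_connectedComponents f' η' hgen n h1
  refine ⟨g ''ᵁ (PrimeSpectrum.basicOpen a), ⟨g η', η', ha, rfl⟩, ?_⟩
  rintro _ ⟨q, hq, rfl⟩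
  obtain ⟨e⟩ := nonempty_homeo_fiber_of_isPullback hpb q _ rfl
  exact (hall q hq).trans (GenCompTop.card_connectedComponents_eq e).le

end generalConn

end Groth.Agent.Lib.Helper6.GenCompSch
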