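import Mathlib
import Groth.Agent.Lib.Helper6GenEtale

set_option autoImplicit false
universe u
open CategoryTheory CategoryTheory.Limits AlgebraicGeometry

namespace Groth.Agent.Lib.Helper6.GenEtaleFin

open Groth.Agent.Lib.Helper6.GenEtale

/-- **Generically étale ⟺ generically unramified ⟺ finite separable function field extension.** -/
theorem generically_etale_tfae_finite (k : Type u) [Field k]
    (X Y : Scheme.{u}) [X.Over (Spec (CommRingCat.of k))] [Y.Over (Spec (CommRingCat.of k))]
    [IsIntegral X] [LocallyOfFiniteType (X ↘ (Spec (CommRingCat.of k)))]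
    [IsIntegral Y] [LocallyOfFiniteType (Y ↘ (Spec (CommRingCat.of k)))]
    (f : X ⟶ Y) (hf : f ≫ (Y ↘ (Spec (CommRingCat.of k))) = X ↘ (Spec (CommRingCat.of k)))
    (e : f (genericPoint X) = genericPoint Y) :
    letI := ((Y.presheaf.stalkSpecializes (specializes_of_eq e) ≫
      f.stalkMap (genericPoint X)).hom).toAlgebra
    ((∃ U : X.Opens, (U : Set X).Nonempty ∧ FormallyUnramified (U.ι ≫ f)) ↔
      (∃ U : X.Opens, (U : Set X).Nonempty ∧ Etale (U.ι ≫ f))) ∧
    ((∃ U : X.Opens, (U : Set X).Nonempty ∧ Etale (U.ι ≫ f)) ↔
      (FiniteDimensional Y.functionField X.functionField ∧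
        Algebra.IsSeparable Y.functionField X.functionField)) := by
  letI := ((Y.presheaf.stalkSpecializes (specializes_of_eq e) ≫
      f.stalkMap (genericPoint X)).hom).toAlgebra
  have h := generically_etale_tfae k X Y f hf e
  haveI : LocallyOfFiniteType f := by
    haveI : LocallyOfFiniteType (f ≫ (Y ↘ (Spec (CommRingCat.of k)))) := by
      rw [hf]; infer_instance
    exact locallyOfFiniteType_of_comp f (Y ↘ (Spec (CommRingCat.of k)))
  refine ⟨h.1, h.2.trans ⟨fun hs => ⟨?_, hs⟩, fun hs => hs.2⟩⟩
  haveI := hs
  haveI : Algebra.EssFiniteType Y.functionField X.functionField := ffMap_essFiniteType f e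
  haveI : Algebra.FormallyUnramified Y.functionField X.functionField :=
    Algebra.FormallyUnramified.of_isSeparable Y.functionField X.functionField
  exact Algebra.FormallyUnramified.finite_of_free Y.functionField X.functionField

end Groth.Agent.Lib.Helper6.GenEtaleFin
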