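import Mathlib
import Groth.Agent.Lib.Helper4VarDim12
import Groth.Agent.Lib.Helper4DimFormulaW
import Groth.Agent.Lib.Helper11GenFlat
import Groth.Agent.S9702

/-!
# Generic finiteness and fibre rank for dominant morphisms of integral varieties of equal dimension
(helper6, for S14041)
-/

set_option autoImplicit false
set_option linter.style.haveILetI false
universe u

open AlgebraicGeometry CategoryTheory CategoryTheory.Limits TopologicalSpace

namespace Groth.Agent.Lib.Helper6.GenFibRank

open Groth.Agent.Lib.Helper4.VarDim Groth.Agent.Lib.Helper4.DimFormula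
  Groth.Agent.Lib.Helper4.GenFinite




/-- rank of a finite flat injective extension of domains at any prime equals the degree of the
fraction field extension -/
theorem rankAtStalk_eq_finrank_fractionField (B A K L : Type*) [CommRing B] [IsDomain B]
    [CommRing A] [IsDomain A] [Algebra B A] [Module.Finite B A] [Module.Flat B A]
    [FaithfulSMul B A] [Field K] [Field L] [Algebra B K] [IsFractionRing B K] [Algebra A L]
    [IsFractionRing A L] [Algebra K L] [Algebra B L] [IsScalarTower B K L] [IsScalarTower B A L]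
    (p : PrimeSpectrum B) : Module.rankAtStalk A p = Module.finrank K L := by
  haveI : Algebra.IsAlgebraic B A := Algebra.IsIntegral.isAlgebraic
  have hbc : IsBaseChange K (IsScalarTower.toAlgHom B A L).toLinearMap :=
    Algebra.IsAlgebraic.isBaseChange_of_isFractionRing B A K L
  let q : PrimeSpectrum K := ⊥
  have h1 := Module.rankAtStalk_isBaseChange hbc q
  rw [Module.rankAtStalk_eq_finrank_of_free] at h1
  have hle : q.comap (algebraMap B K) ≤ p := by
    intro x hx
    have hx' : algebraMap B K x = 0 := by simpa [q] using hx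
    have : x = 0 := (IsFractionRing.injective B K) (by simpa using hx')
    rw [this]; exact Ideal.zero_mem _
  rw [← Module.rankAtStalk_eq_of_le_of_finite_of_flat A hle]
  exact h1.symm




/-- evaluation at the generic point identifies the residue field with the fraction field of the
sections over an affine open -/
theorem isFractionRing_evaluation {X : Scheme.{u}} [IsIntegral X] {U : X.Opens}
    (hU : IsAffineOpen U) (x : X) (hx : x ∈ U) (hgen : x = genericPoint X) :
    letI := (X.evaluation U x hx).hom.toAlgebra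
    IsFractionRing Γ(X, U) (X.residueField x) := by
  letI := (X.evaluation U x hx).hom.toAlgebra
  subst hgen
  have hinj : Function.Injective (X.evaluation U (genericPoint X) hx).hom := by
    have h1 : Function.Injective (X.presheaf.germ U (genericPoint X) hx).hom :=
      germ_injective_of_isIntegral X (genericPoint X) hx
    have h2 : Function.Injective (X.residue (genericPoint X)).hom :=
      RingHom.injective (R := X.functionField) _
    exact h2.comp h1
  haveI : FaithfulSMul Γ(X, U) (X.residueField (genericPoint X)) :=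
    (faithfulSMul_iff_algebraMap_injective _ _).mpr hinj
  exact IsFractionRing.of_field _ _ (fun z => evaluation_frac hU (genericPoint X) hx z)

theorem SpecMap_evaluation_fromSpec {X : Scheme.{u}} {U : X.Opens}
    (hU : IsAffineOpen U) (x : X) (hx : x ∈ U) :
    Spec.map (X.evaluation U x hx) ≫ hU.fromSpec = X.fromSpecResidueField x := by
  rw [Scheme.fromSpecResidueField, ← hU.fromSpecStalk_eq_fromSpecStalk hx,
    IsAffineOpen.fromSpecStalk, ← Spec.map_comp_assoc]
  rfl



/-- rank of a finite flat morphism to the spectrum of a field is the dimension of global sections -/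
theorem finrank_eq_finrank_Γ {Z : Scheme.{u}} (κ : Type u) [Field κ]
    (h : Z ⟶ Spec (CommRingCat.of κ))
    [IsFinite h] [Flat h] (pt : Spec (CommRingCat.of κ)) :
    Scheme.Hom.finrank h pt =
      (letI := ((Scheme.ΓSpecIso (CommRingCat.of κ)).inv ≫ h.appTop).hom.toAlgebra
       Module.finrank κ Γ(Z, ⊤)) := by
  haveI : IsAffine Z := isAffine_of_isAffineHom h
  set ψ := (Scheme.ΓSpecIso (CommRingCat.of κ)).inv ≫ h.appTop with hψ
  have hh : h = Z.isoSpec.hom ≫ Spec.map ψ := by
    rw [hψ, Spec.map_comp, ← Category.assoc, Scheme.isoSpec_hom_naturality, Category.assoc]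
    rw [Scheme.isoSpec_Spec_hom, ← Spec.map_comp, Iso.inv_hom_id, Spec.map_id, Category.comp_id]
  have hfin : IsFinite (Spec.map ψ) := by
    rw [← MorphismProperty.cancel_left_of_respectsIso @IsFinite Z.isoSpec.hom, ← hh]
    infer_instance
  have hflat : Flat (Spec.map ψ) := by
    rw [← MorphismProperty.cancel_left_of_respectsIso @Flat Z.isoSpec.hom, ← hh]
    infer_instance
  have h1 : Scheme.Hom.finrank h = Scheme.Hom.finrank (Spec.map ψ) := by
    conv_lhs => rw [hh]
    exact Scheme.Hom.finrank_comp_left_of_isIso _ _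
  rw [h1, Scheme.Hom.finrank_SpecMap_eq_finrank ((IsFinite.SpecMap_iff _).mp hfin)
    (Flat.SpecMap_iff.mp hflat)]
  letI := ψ.hom.toAlgebra
  change Module.rankAtStalk Γ(Z, ⊤) pt = _
  rw [Module.rankAtStalk_eq_finrank_of_free]
  rfl

theorem fibre_finrank {X Y : Scheme.{u}} (f : X ⟶ Y) {W : Y.Opens} (hW : IsAffineOpen W)
    (hU : IsAffineOpen (f ⁻¹ᵁ W))
    (hfin : (f.appLE W (f ⁻¹ᵁ W) le_rfl).hom.Finite)
    (hflat : (f.appLE W (f ⁻¹ᵁ W) le_rfl).hom.Flat) (y : Y) (hy : y ∈ W) :
    IsFinite (pullback.snd f (Y.fromSpecResidueField y)) ∧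
    ∃ p : PrimeSpectrum Γ(Y, W),
      (letI := ((Scheme.ΓSpecIso (CommRingCat.of (Y.residueField y))).inv ≫
            (pullback.snd f (Y.fromSpecResidueField y)).appTop).hom.toAlgebra;
          Module.finrank (Y.residueField y) ↑(Γ(pullback f (Y.fromSpecResidueField y), ⊤))) =
      (f.appLE W (f ⁻¹ᵁ W) le_rfl).hom.finrank p := by
  set φ := f.appLE W (f ⁻¹ᵁ W) le_rfl with hφ
  have sq1 : IsPullback (Spec.map φ) hU.fromSpec hW.fromSpec f :=
    IsOpenImmersion.isPullback _ _ _ _ (IsAffineOpen.SpecMap_appLE_fromSpec f hW hU le_rfl).symm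
      (by rw [hW.opensRange_fromSpec, hU.opensRange_fromSpec])
  let j : Spec (Y.residueField y) ⟶ Spec Γ(Y, W) := Spec.map (Y.evaluation W y hy)
  have hj : j ≫ hW.fromSpec = Y.fromSpecResidueField y := SpecMap_evaluation_fromSpec hW y hy
  let l : pullback f (Y.fromSpecResidueField y) ⟶ Spec Γ(X, f ⁻¹ᵁ W) :=
    sq1.lift (pullback.snd _ _ ≫ j) (pullback.fst _ _)
      (by rw [Category.assoc, hj, pullback.condition])
  have hl1 : l ≫ Spec.map φ = pullback.snd _ _ ≫ j := sq1.lift_fst _ _ _
  have hl2 : l ≫ hU.fromSpec = pullback.fst _ _ := sq1.lift_snd _ _ _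
  have sq2 : IsPullback l (pullback.snd f (Y.fromSpecResidueField y)) (Spec.map φ) j := by
    refine IsPullback.of_right (h₁₂ := hU.fromSpec) (h₂₂ := hW.fromSpec) (v₁₃ := f) ?_ hl1 sq1.flip
    rw [hl2, hj]
    exact IsPullback.of_hasPullback f (Y.fromSpecResidueField y)
  haveI : IsFinite (Spec.map φ) := (IsFinite.SpecMap_iff _).mpr hfin
  haveI : Flat (Spec.map φ) := Flat.SpecMap_iff.mpr hflat
  haveI h1 : IsFinite (pullback.snd f (Y.fromSpecResidueField y)) :=
    MorphismProperty.of_isPullback (P := @IsFinite) sq2 ‹_›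
  haveI h2 : Flat (pullback.snd f (Y.fromSpecResidueField y)) :=
    MorphismProperty.of_isPullback (P := @Flat) sq2 ‹_›
  let pt : Spec (Y.residueField y) := ⟨⊥, Ideal.bot_prime⟩
  refine ⟨h1, j pt, ?_⟩
  have h3 := finrank_eq_finrank_Γ (Y.residueField y) (pullback.snd f (Y.fromSpecResidueField y)) pt
  have h4 := Scheme.Hom.finrank_of_isPullback l _ (Spec.map φ) j sq2 pt
  rw [Scheme.Hom.finrank_SpecMap_eq_finrank hfin hflat] at h4
  rw [← h4, h3]





/-- finiteness of the function field extension for a dominant morphism of integral varieties of the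
same dimension -/
theorem finite_residueFieldMap_genericPoint (k : Type u) [Field k] {X Y : Scheme.{u}}
    [X.Over (Spec (CommRingCat.of k))] [Y.Over (Spec (CommRingCat.of k))]
    [LocallyOfFiniteType (X ↘ Spec (CommRingCat.of k))]
    [LocallyOfFiniteType (Y ↘ Spec (CommRingCat.of k))]
    [IsIntegral X] [IsIntegral Y] (f : X ⟶ Y) [IsDominant f]
    (hf : f ≫ (Y ↘ Spec (CommRingCat.of k)) = X ↘ Spec (CommRingCat.of k))
    (hdim : topologicalKrullDim ↥X = topologicalKrullDim ↥Y) :
    letI := (f.residueFieldMap (genericPoint ↥X)).hom.toAlgebra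
    Module.Finite (Y.residueField (f.base (genericPoint ↥X))) (X.residueField (genericPoint ↥X)) := by
  letI := (f.residueFieldMap (genericPoint ↥X)).hom.toAlgebra
  haveI := locallyOfFiniteType_of_over k f hf
  have hξη : f.base (genericPoint X) = genericPoint Y := map_genericPoint_of_isDominant f
  haveI hEss : Algebra.EssFiniteType (Y.residueField (f.base (genericPoint ↥X)))
      (X.residueField (genericPoint ↥X)) :=
    RingHom.EssFiniteType.residueFieldMap (LocallyOfFiniteType.stalkMap f (genericPoint X))
  haveI hAlg : Algebra.IsAlgebraic (Y.residueField (f.base (genericPoint ↥X)))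
      (X.residueField (genericPoint ↥X)) := by
    rw [← trdeg_eq_zero_iff]
    have h1 := trdeg_add_trdeg_residueFieldMap k f hf (genericPoint X)
    have hX := topologicalKrullDim_eq_trdegNat_genericPoint k (Y := X)
    have hY := topologicalKrullDim_eq_trdegNat_genericPoint k (Y := Y)
    rw [hdim, hY] at hX
    have hnat : trdegNat k Y (genericPoint Y) = trdegNat k X (genericPoint X) := by
      exact_mod_cast hX
    have hnat' : trdegNat k Y (f.base (genericPoint X)) = trdegNat k X (genericPoint X) := by
      rw [hξη]; exact hnat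
    rw [trdeg_eq_trdegNat k X, trdeg_eq_trdegNat k Y, hnat'] at h1
    have hlt : (trdegNat k X (genericPoint X) : Cardinal.{u}) < Cardinal.aleph0 :=
      Cardinal.nat_lt_aleph0 _
    rcases Cardinal.add_eq_left_iff.mp h1 with h2 | h2
    · exact absurd (lt_of_le_of_lt ((le_max_left _ _).trans h2) hlt) (lt_irrefl _)
    · exact h2
  exact Algebra.finite_of_essFiniteType_of_isAlgebraic


section Main

attribute [local instance] sectionsAlgebra Curv2.resAlgebra

theorem main (k : Type u) [Field k] {X Y : Scheme.{u}}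
    [X.Over (Spec (CommRingCat.of k))] [Y.Over (Spec (CommRingCat.of k))]
    [LocallyOfFiniteType (X ↘ Spec (CommRingCat.of k))] [QuasiCompact (X ↘ Spec (CommRingCat.of k))]
    [LocallyOfFiniteType (Y ↘ Spec (CommRingCat.of k))] [QuasiCompact (Y ↘ Spec (CommRingCat.of k))]
    [IsIntegral X] [IsIntegral Y] (f : X ⟶ Y) [IsDominant f]
    (hf : f ≫ (Y ↘ Spec (CommRingCat.of k)) = X ↘ Spec (CommRingCat.of k))
    (hdim : topologicalKrullDim ↥X = topologicalKrullDim ↥Y) :
    (letI := (f.residueFieldMap (genericPoint ↥X)).hom.toAlgebra;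
      Module.Finite (Y.residueField (f.base (genericPoint ↥X))) (X.residueField (genericPoint ↥X))) ∧
    ∃ U : Y.Opens, Nonempty ↥U ∧ ∀ y : Y, y ∈ U →
      IsFinite (pullback.snd f (Y.fromSpecResidueField y)) ∧
        (letI := ((Scheme.ΓSpecIso (CommRingCat.of (Y.residueField y))).inv ≫
            (pullback.snd f (Y.fromSpecResidueField y)).appTop).hom.toAlgebra;
          Module.finrank (Y.residueField y) ↑(Γ(pullback f (Y.fromSpecResidueField y), ⊤))) =
        (letI := (f.residueFieldMap (genericPoint ↥X)).hom.toAlgebra;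
          Module.finrank (Y.residueField (f.base (genericPoint ↥X))) (X.residueField (genericPoint ↥X))) := by
  have hA := finite_residueFieldMap_genericPoint k f hf hdim
  refine ⟨hA, ?_⟩
  haveI := locallyOfFiniteType_of_over k f hf
  haveI : IsLocallyNoetherian Y :=
    LocallyOfFiniteType.isLocallyNoetherian (Y ↘ Spec (CommRingCat.of k))
  haveI : CompactSpace X :=
    QuasiCompact.compactSpace_of_compactSpace (X ↘ Spec (CommRingCat.of k))
  haveI : QuasiCompact f := inferInstance
  obtain ⟨-, -, hAD⟩ := Groth.Agent.S9702.result f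
  obtain ⟨V, hV, hVne, hVfin⟩ := (hAD (Or.inr inferInstance)).mp hA
  haveI : Nonempty V := hVne
  obtain ⟨a, ha0, haflat⟩ := Groth.Agent.Lib.Helper11GenFlat.exists_flat_stalkMap f V hV
  set W := Y.basicOpen a with hWdef
  have hW : IsAffineOpen W := hV.basicOpen a
  have hξη : f.base (genericPoint X) = genericPoint Y := map_genericPoint_of_isDominant f
  have hWne' : (W : Set Y).Nonempty := by
    by_contra hne
    have hbot : Y.basicOpen a = ⊥ := by
      ext z
      simp only [Opens.coe_bot, Set.mem_empty_iff_false, iff_false]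
      exact fun hz => hne ⟨z, hz⟩
    exact ha0 ((AlgebraicGeometry.basicOpen_eq_bot_iff a).1 hbot)
  haveI hWne : Nonempty W := hWne'.to_subtype
  haveI : IsFinite (f ∣_ V) := hVfin
  haveI : IsFinite (f ∣_ W) :=
    (MorphismProperty.arrow_mk_iso_iff @IsFinite (morphismRestrictRestrictBasicOpen f V a)).mp
      inferInstance
  haveI : Flat (f ∣_ W) := by
    rw [Flat.iff_flat_stalkMap]
    intro x
    exact (RingHom.Flat.respectsIso.arrow_mk_iso_iff (morphismRestrictStalkMap f W x)).mpr
      (haflat x.1 x.2)
  haveI : IsAffine W.toScheme := hW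
  have hU : IsAffineOpen (f ⁻¹ᵁ W) := isAffine_of_isAffineHom (f ∣_ W)
  haveI : IsAffine (f ⁻¹ᵁ W).toScheme := hU
  set φ := f.appLE W (f ⁻¹ᵁ W) le_rfl with hφ
  have hiso := arrowResLEAppIso f W (f ⁻¹ᵁ W) le_rfl
  rw [Scheme.Hom.resLE_eq_morphismRestrict] at hiso
  have hfin : φ.hom.Finite :=
    (RingHom.finite_respectsIso.arrow_mk_iso_iff hiso).mp (f ∣_ W).finite_appTop
  have hflat : φ.hom.Flat :=
    (RingHom.Flat.respectsIso.arrow_mk_iso_iff hiso).mp (f ∣_ W).flat_appTop
  -- the ring-level rank computation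
  have hyW : f.base (genericPoint X) ∈ W := by
    rw [hξη]
    exact ((genericPoint_spec Y).mem_open_set_iff W.isOpen).mpr (by simpa using hWne')
  have hξU : genericPoint X ∈ f ⁻¹ᵁ W := hyW
  haveI : Nonempty (f ⁻¹ᵁ W : X.Opens) := ⟨⟨genericPoint X, hξU⟩⟩
  have hrank : ∀ p, φ.hom.finrank p =
      (letI := (f.residueFieldMap (genericPoint ↥X)).hom.toAlgebra;
        Module.finrank (Y.residueField (f.base (genericPoint ↥X)))
          (X.residueField (genericPoint ↥X))) := by
    intro p
    letI algBA : Algebra Γ(Y, W) Γ(X, f ⁻¹ᵁ W) := φ.hom.toAlgebra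
    letI algBK : Algebra Γ(Y, W) (Y.residueField (f.base (genericPoint X))) :=
      (Y.evaluation W (f.base (genericPoint X)) hyW).hom.toAlgebra
    letI algAL : Algebra Γ(X, f ⁻¹ᵁ W) (X.residueField (genericPoint X)) :=
      (X.evaluation (f ⁻¹ᵁ W) (genericPoint X) hξU).hom.toAlgebra
    letI algKL : Algebra (Y.residueField (f.base (genericPoint X)))
        (X.residueField (genericPoint X)) := (f.residueFieldMap (genericPoint ↥X)).hom.toAlgebra
    letI algBL : Algebra Γ(Y, W) (X.residueField (genericPoint X)) :=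
      ((f.residueFieldMap (genericPoint ↥X)).hom.comp
        (Y.evaluation W (f.base (genericPoint X)) hyW).hom).toAlgebra
    haveI : IsScalarTower Γ(Y, W) (Y.residueField (f.base (genericPoint X)))
        (X.residueField (genericPoint X)) := IsScalarTower.of_algebraMap_eq (fun x => rfl)
    haveI : IsScalarTower Γ(Y, W) Γ(X, f ⁻¹ᵁ W) (X.residueField (genericPoint X)) :=
      IsScalarTower.of_algebraMap_eq
        (fun x => (appLE_evaluation f le_rfl (genericPoint X) hξU x).symm)
    haveI : IsFractionRing Γ(Y, W) (Y.residueField (f.base (genericPoint X))) :=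
      isFractionRing_evaluation hW (f.base (genericPoint X)) hyW hξη
    haveI : IsFractionRing Γ(X, f ⁻¹ᵁ W) (X.residueField (genericPoint X)) :=
      isFractionRing_evaluation hU (genericPoint X) hξU rfl
    haveI : Module.Finite Γ(Y, W) Γ(X, f ⁻¹ᵁ W) := hfin
    haveI : Module.Flat Γ(Y, W) Γ(X, f ⁻¹ᵁ W) := hflat
    haveI : FaithfulSMul Γ(Y, W) Γ(X, f ⁻¹ᵁ W) := by
      rw [faithfulSMul_iff_algebraMap_injective]
      have h1 : Function.Injective (algebraMap Γ(Y, W) (X.residueField (genericPoint X))) :=
        (RingHom.injective (f.residueFieldMap (genericPoint ↥X)).hom).comp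
          (IsFractionRing.injective Γ(Y, W) (Y.residueField (f.base (genericPoint X))))
      rw [IsScalarTower.algebraMap_eq Γ(Y, W) Γ(X, f ⁻¹ᵁ W) (X.residueField (genericPoint X)),
        RingHom.coe_comp] at h1
      exact Function.Injective.of_comp h1
    exact rankAtStalk_eq_finrank_fractionField Γ(Y, W) Γ(X, f ⁻¹ᵁ W)
      (Y.residueField (f.base (genericPoint X))) (X.residueField (genericPoint X)) p
  refine ⟨W, hWne, fun y hy => ?_⟩
  obtain ⟨h1, p, h2⟩ := fibre_finrank f hW hU hfin hflat y hy
  exact ⟨h1, h2.trans (hrank p)⟩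

end Main

end Groth.Agent.Lib.Helper6.GenFibRank
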