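import Mathlib
import Groth.Agent.Lib.Helper6StalkIso
import Groth.Agent.Lib.Helper6RegSm2
import Groth.Agent.Lib.Helper5FibSmConstr
import Groth.Agent.Lib.Helper4GenFinite2

set_option autoImplicit false
set_option linter.style.haveILetI false
set_option linter.unusedVariables false
set_option linter.unusedSectionVars false
universe u
open CategoryTheory CategoryTheory.Limits AlgebraicGeometry TopologicalSpace Topology IsLocalRing

namespace Groth.Agent.Lib.Helper6.GenSmPerf

open Groth.Agent.Lib.Helper6.RegSm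

/-- A regular point of a scheme locally of finite presentation over a perfect field is a smooth
point. -/
theorem mem_smoothLocus_of_regular_of_perfectField (K : Type u) [Field K] [PerfectField K]
    (P : Scheme.{u}) (g : P ⟶ Spec (CommRingCat.of K)) [LocallyOfFinitePresentation g] (t : P)
    [IsRegularLocalRing (P.presheaf.stalk t)] : t ∈ g.smoothLocus := by
  obtain ⟨W, hW, hxW, -⟩ := exists_isAffineOpen_mem_and_subset (X := P) (x := t)
    (U := ⊤) trivial
  have hU := isAffineOpen_top (Spec (CommRingCat.of K))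
  have hWU : W ≤ g ⁻¹ᵁ ⊤ := le_top
  have hfp := g.finitePresentation_appLE hU hW hWU
  rw [Scheme.Hom.mem_smoothLocus, formallySmooth_stalkMap_iff ⊤ hU W hW hWU hxW]
  let e : K ≃+* Γ(Spec (CommRingCat.of K), ⊤) :=
    (Scheme.ΓSpecIso (CommRingCat.of K)).commRingCatIsoToRingEquiv.symm
  letI : Field Γ(Spec (CommRingCat.of K), ⊤) :=
    (e.symm.toMulEquiv.isField (Field.toIsField K)).toField
  letI : Algebra K Γ(Spec (CommRingCat.of K), ⊤) := e.toRingHom.toAlgebra
  haveI : Algebra.IsAlgebraic K Γ(Spec (CommRingCat.of K), ⊤) := by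
    have hsurj : Function.Surjective (algebraMap K Γ(Spec (CommRingCat.of K), ⊤)) := e.surjective
    haveI := Algebra.isIntegral_of_surjective hsurj
    infer_instance
  haveI : PerfectField Γ(Spec (CommRingCat.of K), ⊤) :=
    Algebra.IsAlgebraic.perfectField (K := K)
  algebraize [(g.appLE ⊤ W hWU).hom]
  set q' : Ideal Γ(P, W) := (hW.primeIdealOf ⟨t, hxW⟩).asIdeal with hq'
  haveI : Algebra.FiniteType Γ(Spec (CommRingCat.of K), ⊤) Γ(P, W) := by
    have : Algebra.FinitePresentation Γ(Spec (CommRingCat.of K), ⊤) Γ(P, W) := hfp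
    infer_instance
  haveI : q'.IsPrime := (hW.primeIdealOf ⟨t, hxW⟩).isPrime
  haveI : Algebra.EssFiniteType Γ(Spec (CommRingCat.of K), ⊤) q'.ResidueField :=
    .comp _ Γ(P, W) _
  haveI : Algebra.FormallySmooth Γ(Spec (CommRingCat.of K), ⊤) q'.ResidueField :=
    Algebra.FormallySmooth.of_perfectField
  have key := isSmoothAt_iff_isRegularLocalRing Γ(Spec (CommRingCat.of K), ⊤) Γ(P, W) q'
  change Algebra.IsSmoothAt _ q'
  rw [key]
  letI := P.presheaf.algebra_section_stalk ⟨t, hxW⟩
  haveI := hW.isLocalization_stalk ⟨t, hxW⟩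
  let e' := IsLocalization.algEquiv q'.primeCompl
    (Localization.AtPrime q') (P.presheaf.stalk t)
  exact IsRegularLocalRing.of_ringEquiv e'.toRingEquiv.symm


/-- points over the generic point of `Y` (with perfect function field) where `X` is regular are
smooth points of `f`. -/
theorem mem_smoothLocus_of_map_eq_genericPoint (X Y : Scheme.{u}) [IsIntegral Y]
    (f : X ⟶ Y) [LocallyOfFinitePresentation f] [PerfectField Y.functionField]
    (x : X) (hx : f x = genericPoint Y) [IsRegularLocalRing (X.presheaf.stalk x)] :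
    x ∈ f.smoothLocus := by
  set η := genericPoint Y with hη
  let g0 : Spec (CommRingCat.of Y.functionField) ⟶ Y := Y.fromSpecStalk η
  haveI : Flat g0 := Groth.Agent.Lib.Helper6.flat_fromSpecStalk Y η
  have hc : g0 (closedPoint Y.functionField) = η := Y.fromSpecStalk_closedPoint
  obtain ⟨t, ht1, ht2⟩ := Scheme.Pullback.exists_preimage_pullback (f := f) (g := g0) x
    (closedPoint Y.functionField) (hx.trans hc.symm)
  haveI hiso : IsIso ((pullback.fst f g0).stalkMap t) :=
    Groth.Agent.Lib.Helper6.isIso_stalkMap_fst_pullback_fromSpecStalk f η t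
  haveI : IsRegularLocalRing (X.presheaf.stalk (pullback.fst f g0 t)) := by
    rw [ht1]; infer_instance
  haveI : IsRegularLocalRing ((pullback f g0).presheaf.stalk t) :=
    IsRegularLocalRing.of_ringEquiv
      (asIso ((pullback.fst f g0).stalkMap t)).commRingCatIsoToRingEquiv
  have h1 : t ∈ (pullback.snd f g0).smoothLocus :=
    mem_smoothLocus_of_regular_of_perfectField Y.functionField (pullback f g0)
      (pullback.snd f g0) t
  have h2 := (Groth.Agent.Lib.Helper5.FibSmConstr.formallySmooth_stalkMap_iff_of_isPullback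
    (IsPullback.of_hasPullback f g0) t).mp h1
  have h3 : pullback.fst f g0 t ∈ f.smoothLocus := h2
  rwa [ht1] at h3

theorem main (X Y : Scheme.{u}) [IsIntegral X] [IsIntegral Y]
    [IsLocallyNoetherian X] (hreg : ∀ x : X, IsRegularLocalRing (X.presheaf.stalk x))
    (f : X ⟶ Y) [IsDominant f] [LocallyOfFinitePresentation f] [QuasiCompact f]
    [PerfectField Y.functionField] :
    ∃ V : Y.Opens, Dense (V : Set Y) ∧ Smooth (f ∣_ V) := by
  set η := genericPoint Y with hη
  obtain ⟨V₀, hV₀, hηV₀, -⟩ := exists_isAffineOpen_mem_and_subset (X := Y) (x := η)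
    (U := ⊤) trivial
  have hcomp : closure {η} ∈ irreducibleComponents (Y : Type u) := by
    rw [show closure {η} = Set.univ from genericPoint_spec Y]
    exact ⟨IrreducibleSpace.isIrreducible_univ _, fun s _ _ => Set.subset_univ _⟩
  have hF : f.base ⁻¹' {η} ⊆ (f.smoothLocus : Set X) := by
    intro x hx
    haveI := hreg x
    exact mem_smoothLocus_of_map_eq_genericPoint X Y f x hx
  obtain ⟨r, hηr, hle⟩ := Groth.Agent.Lib.Helper4.GenFinite.exists_basicOpen_preimage_le f hV₀ η hηV₀
    hcomp f.smoothLocus hF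
  refine ⟨Y.basicOpen r, ?_, ?_⟩
  · exact (Y.basicOpen r).2.dense ⟨η, hηr⟩
  · haveI : LocallyOfFinitePresentation (f ∣_ Y.basicOpen r) := inferInstance
    rw [← Scheme.Hom.smoothLocus_eq_top_iff, eq_top_iff]
    rintro ⟨x, hx⟩ -
    rw [Scheme.Hom.mem_smoothLocus]
    have h1 : (f.stalkMap x).hom.FormallySmooth := hle hx
    exact (RingHom.FormallySmooth.respectsIso.arrow_mk_iso_iff
      (morphismRestrictStalkMap f (Y.basicOpen r) ⟨x, hx⟩)).mpr h1

end Groth.Agent.Lib.Helper6.GenSmPerf
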