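import Mathlib

set_option autoImplicit false
universe u
open CategoryTheory CategoryTheory.Limits AlgebraicGeometry IsLocalRing

namespace Groth.Agent.Lib.Helper6.GenSmSrc

variable {X Y : Scheme.{u}}

/-- a dominant morphism of irreducible schemes maps the generic point to the generic point. -/
theorem map_genericPoint_of_denseRange [IrreducibleSpace X] [IrreducibleSpace Y]
    (f : X ⟶ Y) (hf : DenseRange f.base) : f (genericPoint X) = genericPoint Y := by
  apply ((genericPoint_spec Y).eq _).symm
  have := (genericPoint_spec X).image f.continuous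
  rw [Set.image_univ, hf.closure_range] at this
  exact this

/-- restricted to its smooth locus, a morphism is smooth -/
theorem smooth_ι_smoothLocus (f : X ⟶ Y) [LocallyOfFinitePresentation f] :
    Smooth (f.smoothLocus.ι ≫ f) := by
  rw [← Scheme.Hom.smoothLocus_eq_top_iff, ← Scheme.Hom.preimage_smoothLocus_eq]
  ext x
  simp

/-- **Generic smoothness on the source in characteristic zero.** -/
theorem exists_smooth_of_charZero (k : Type u) [Field k] [CharZero k]
    (qX : X ⟶ Spec (CommRingCat.of k)) (qY : Y ⟶ Spec (CommRingCat.of k))
    [LocallyOfFiniteType qX] [LocallyOfFiniteType qY]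
    [IsIntegral X] [IsIntegral Y] (f : X ⟶ Y) (hf : f ≫ qY = qX) (hdom : DenseRange f.base) :
    ∃ U : X.Opens, (U : Set ↥X).Nonempty ∧ Smooth (U.ι ≫ f) := by
  haveI : LocallyOfFiniteType (f ≫ qY) := by rw [hf]; infer_instance
  haveI : LocallyOfFiniteType f := locallyOfFiniteType_of_comp f qY
  haveI : IsLocallyNoetherian Y := LocallyOfFiniteType.isLocallyNoetherian qY
  haveI : LocallyOfFinitePresentation f :=
    LocallyOfFinitePresentation.iff_locallyOfFiniteType.mpr inferInstance
  have e : f (genericPoint X) = genericPoint Y := map_genericPoint_of_denseRange f hdom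
  refine ⟨f.smoothLocus, ⟨genericPoint X, ?_⟩, smooth_ι_smoothLocus f⟩
  change (f.stalkMap (genericPoint X)).hom.FormallySmooth
  have hF : ∀ y : Y, y = genericPoint Y → IsField (Y.presheaf.stalk y) := by
    rintro _ rfl
    exact Field.toIsField Y.functionField
  letI : Field (Y.presheaf.stalk (f (genericPoint X))) := (hF _ e).toField
  letI : Field (X.presheaf.stalk (genericPoint X)) := inferInstanceAs (Field X.functionField)
  let φ : CommRingCat.of k ⟶ Y.presheaf.stalk (f (genericPoint X)) :=
    (Scheme.ΓSpecIso (CommRingCat.of k)).inv ≫ qY.appTop ≫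
      Y.presheaf.germ ⊤ (f (genericPoint X)) trivial
  haveI : CharZero (Y.presheaf.stalk (f (genericPoint X))) :=
    charZero_of_injective_ringHom φ.hom.injective
  have hess := LocallyOfFiniteType.stalkMap f (genericPoint X)
  algebraize [(f.stalkMap (genericPoint X)).hom]
  have : Algebra.FormallySmooth (Y.presheaf.stalk (f (genericPoint X)))
      (X.presheaf.stalk (genericPoint X)) := Algebra.FormallySmooth.of_perfectField
  rw [← RingHom.formallySmooth_algebraMap, RingHom.algebraMap_toAlgebra] at this
  exact this

end Groth.Agent.Lib.Helper6.GenSmSrc
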