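import Mathlib
import Groth.Agent.Lib.Helper6RegSm2
import Groth.Agent.Lib.Helper6SmRegSch
import Groth.Agent.Lib.Helper6GenSmSrc

set_option autoImplicit false
universe u
open CategoryTheory CategoryTheory.Limits AlgebraicGeometry IsLocalRing Topology

namespace Groth.Agent.Lib.Helper6.GenSmTgt

/-- a regular local ring essentially of finite type over a perfect field is formally smooth -/
theorem formallySmooth_of_isRegularLocalRing (K B : Type u) [Field K] [PerfectField K]
    [CommRing B] [Algebra K B] [Algebra.EssFiniteType K B]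
    [IsRegularLocalRing B] : Algebra.FormallySmooth K B := by
  let S₀ := Algebra.EssFiniteType.subalgebra K B
  let q : Ideal S₀ := (maximalIdeal B).comap (algebraMap S₀ B)
  haveI : q.IsPrime := Ideal.comap_isPrime _ _
  have hM : Algebra.EssFiniteType.submonoid K B = q.primeCompl := by
    ext s
    change IsUnit (algebraMap S₀ B s) ↔ ¬ (algebraMap S₀ B s ∈ maximalIdeal B)
    rw [IsLocalRing.mem_maximalIdeal, mem_nonunits_iff, not_not]
  haveI : IsLocalization.AtPrime B q := by
    have := Algebra.EssFiniteType.isLocalization (R := K) (S := B)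
    rw [hM] at this
    exact this
  let e : Localization.AtPrime q ≃ₐ[S₀] B := IsLocalization.algEquiv q.primeCompl _ _
  haveI : IsRegularLocalRing (Localization.AtPrime q) :=
    IsRegularLocalRing.of_ringEquiv e.symm.toRingEquiv
  haveI : Algebra.EssFiniteType K q.ResidueField := Algebra.EssFiniteType.comp K S₀ _
  haveI : Algebra.FormallySmooth K q.ResidueField := Algebra.FormallySmooth.of_perfectField
  have h1 : Algebra.IsSmoothAt K q :=
    Groth.Agent.Lib.Helper6.RegSm.isSmoothAt_of_isRegularLocalRing K S₀ q
  have h2 : Algebra.FormallySmooth K (Localization.AtPrime q) := h1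
  exact Algebra.FormallySmooth.of_equiv (e.restrictScalars K)


variable {X Y : Scheme.{u}}

/-- A constructible set is a neighbourhood of a "generic" point or its complement is. -/
theorem exists_open_subset_or_of_isConstructible {S : Type*} [TopologicalSpace S] (η : S)
    (hη : ∀ U : Set S, IsOpen U → U.Nonempty → η ∈ U) {C : Set S} (hC : IsConstructible C) :
    ∃ U : Set S, IsOpen U ∧ η ∈ U ∧ (U ⊆ C ∨ U ⊆ Cᶜ) := by
  induction hC using IsConstructible.empty_union_induction with
  | open_retrocompact U hUo _ =>
    by_cases hU : U.Nonempty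
    · exact ⟨U, hUo, hη U hUo hU, Or.inl le_rfl⟩
    · refine ⟨Set.univ, isOpen_univ, trivial, Or.inr ?_⟩
      rw [Set.not_nonempty_iff_eq_empty.mp hU]
      simp
  | union s _ t _ hs ht =>
    obtain ⟨U, hUo, hηU, hU⟩ := hs
    obtain ⟨V, hVo, hηV, hV⟩ := ht
    rcases hU with hU | hU
    · exact ⟨U, hUo, hηU, Or.inl (hU.trans Set.subset_union_left)⟩
    · rcases hV with hV | hV
      · exact ⟨V, hVo, hηV, Or.inl (hV.trans Set.subset_union_right)⟩
      · refine ⟨U ∩ V, hUo.inter hVo, ⟨hηU, hηV⟩, Or.inr ?_⟩
        rw [Set.compl_union]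
        exact Set.inter_subset_inter hU hV
  | compl s _ hs =>
    obtain ⟨U, hUo, hηU, hU⟩ := hs
    refine ⟨U, hUo, hηU, ?_⟩
    rcases hU with hU | hU
    · exact Or.inr (by rwa [compl_compl])
    · exact Or.inl hU

/-- in characteristic zero, a morphism from a regular point to the generic point of an integral
`k`-scheme has formally smooth stalk map -/
theorem formallySmooth_stalkMap_of_generic (k : Type u) [Field k] [CharZero k]
    (qY : Y ⟶ Spec (CommRingCat.of k)) [IsIntegral Y] (f : X ⟶ Y) [LocallyOfFiniteType f]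
    (x : X) (hx : f x = genericPoint Y) [IsRegularLocalRing (X.presheaf.stalk x)] :
    (f.stalkMap x).hom.FormallySmooth := by
  have hF : ∀ y : Y, y = genericPoint Y → IsField (Y.presheaf.stalk y) := by
    rintro _ rfl
    exact Field.toIsField Y.functionField
  letI : Field (Y.presheaf.stalk (f x)) := (hF _ hx).toField
  let φ : CommRingCat.of k ⟶ Y.presheaf.stalk (f x) :=
    (Scheme.ΓSpecIso (CommRingCat.of k)).inv ≫ qY.appTop ≫ Y.presheaf.germ ⊤ (f x) trivial
  haveI : CharZero (Y.presheaf.stalk (f x)) := charZero_of_injective_ringHom φ.hom.injective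
  have hess := LocallyOfFiniteType.stalkMap f x
  algebraize [(f.stalkMap x).hom]
  have : Algebra.FormallySmooth (Y.presheaf.stalk (f x)) (X.presheaf.stalk x) :=
    formallySmooth_of_isRegularLocalRing _ _
  rw [← RingHom.formallySmooth_algebraMap, RingHom.algebraMap_toAlgebra] at this
  exact this


/-- **Generic smoothness on the target in characteristic zero.** -/
theorem exists_smooth_morphismRestrict (k : Type u) [Field k] [CharZero k]
    (qX : X ⟶ Spec (CommRingCat.of k)) (qY : Y ⟶ Spec (CommRingCat.of k))
    [LocallyOfFiniteType qX] [QuasiCompact qX] [Smooth qX]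
    [LocallyOfFiniteType qY] [QuasiCompact qY]
    [IsIntegral Y] (f : X ⟶ Y) (hf : f ≫ qY = qX) :
    ∃ V : Y.Opens, (V : Set ↥Y).Nonempty ∧ Smooth (f ∣_ V) := by
  haveI : LocallyOfFiniteType (f ≫ qY) := by rw [hf]; infer_instance
  haveI : LocallyOfFiniteType f := locallyOfFiniteType_of_comp f qY
  haveI : IsLocallyNoetherian Y := LocallyOfFiniteType.isLocallyNoetherian qY
  haveI : LocallyOfFinitePresentation f :=
    LocallyOfFinitePresentation.iff_locallyOfFiniteType.mpr inferInstance
  haveI : CompactSpace X := QuasiCompact.compactSpace_of_compactSpace qX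
  haveI : CompactSpace Y := QuasiCompact.compactSpace_of_compactSpace qY
  haveI : IsNoetherian X := { __ := LocallyOfFiniteType.isLocallyNoetherian qX }
  haveI : IsNoetherian Y := { }
  haveI : QuasiCompact f := inferInstance
  -- the non-smooth locus and its image
  let Z : Set X := (f.smoothLocus : Set X)ᶜ
  have hZ : IsConstructible Z := by
    rw [isConstructible_compl]
    exact (TopologicalSpace.NoetherianSpace.isCompact _).isConstructible f.smoothLocus.2
  have hC : IsConstructible (f '' Z) := f.isConstructible_image hZ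
  have hη : genericPoint Y ∉ f '' Z := by
    rintro ⟨x, hxZ, hx⟩
    apply hxZ
    haveI : IsRegularLocalRing (X.presheaf.stalk x) :=
      Groth.Agent.Lib.Helper6.SmRegSch.isRegularLocalRing_stalk_of_smooth_over_field k X qX x
    exact formallySmooth_stalkMap_of_generic k qY f x hx
  obtain ⟨V, hVo, hηV, hV⟩ := exists_open_subset_or_of_isConstructible (genericPoint Y)
    (fun U hU hne => by
      obtain ⟨u, hu⟩ := hne
      exact (genericPoint_specializes u).mem_open hU hu) hC
  have hV' : V ⊆ (f '' Z)ᶜ := by
    rcases hV with hV | hV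
    · exact absurd (hV hηV) hη
    · exact hV
  let W : Y.Opens := ⟨V, hVo⟩
  refine ⟨W, ⟨_, hηV⟩, ?_⟩
  -- `f⁻¹ V` lies in the smooth locus
  have hle : f ⁻¹ᵁ W ≤ f.smoothLocus := by
    intro x hx
    by_contra hxs
    exact hV' hx ⟨x, hxs, rfl⟩
  haveI : Smooth ((f ⁻¹ᵁ W).ι ≫ f) := by
    rw [← Scheme.Hom.smoothLocus_eq_top_iff, ← Scheme.Hom.preimage_smoothLocus_eq,
      ← top_le_iff]
    rintro x -
    exact hle x.2
  haveI : Smooth ((f ∣_ W) ≫ W.ι) := by
    rw [morphismRestrict_ι]; infer_instance
  exact MorphismProperty.of_postcomp (W := @Smooth) (W' := @IsOpenImmersion)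
    (f ∣_ W) W.ι inferInstance inferInstance

end Groth.Agent.Lib.Helper6.GenSmTgt
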