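import Groth.Agent.Lib.Helper6H0One
import Groth.Agent.Lib.Helper4P1SepCl
import Groth.Agent.Lib.Helper4CurveSpecial
import Groth.Agent.Lib.Helper6SepCl2

/-!
# Invertible modules with `h⁰ = 1, h¹ = 0` and with `h⁰ = h¹ = 0` on a possibly singular integral proper
curve over an algebraically closed field (helper6): S1523

Twisting down by ideal sheaves of closed points of the smooth locus, where the section does not vanish.
-/

set_option autoImplicit false
set_option linter.style.haveILetI false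
universe u
open CategoryTheory Limits AlgebraicGeometry Opposite TopologicalSpace

namespace Groth.Agent.Lib.Helper6.H0OneSing

open Groth.Agent.Lib.Helper4.CurveBun Groth.Agent.Lib.Helper4.DegAdd Groth.Agent.Lib.Helper4.CurveRR
  Groth.Agent.Lib.Helper4.Dev Groth.Agent.Lib.Helper6.CurveDeg
  Groth.Agent.Lib.Helper4.CurveStab Groth.Agent.Lib.Helper6.SSVanish Groth.Agent.Lib.Helper23.SecTw
  Groth.Agent.Lib.Helper17.IAdic Groth.Agent.Lib.Helper27GlobGenPn Groth.Agent.Lib.Helper4.CurveAsym
  Groth.Agent.Lib.Helper6.GGCurve Groth.Agent.Lib.Helper6.H0One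

variable (k : Type u) [Field k] (X : Scheme.{u}) [X.Over (Spec (CommRingCat.of k))]
  [IsIntegral X] [IsProper (X ↘ Spec (CommRingCat.of k))]

open Groth.Agent.Lib.Helper6.PointIdeal Groth.Agent.Lib.Helper21.ExtCartier
  Groth.Agent.Lib.Helper6.SimpleSub Groth.Agent.Lib.Helper4.CurveChi in
/-- a nonzero section of an invertible module is nonzero at some closed point of any nonempty open -/
theorem exists_point_not_vanishing [IsAlgClosed k] (U : X.Opens) (hU : (U : Set X).Nonempty)
    (N : X.Modules) (hNinv : PicF.IsInvertible N) (s : Coh.structureModule X ⟶ N) (hs : s ≠ 0) :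
    ∃ (p : X) (hp : IsClosed ({p} : Set X)), p ∈ U ∧
      (s ≫ (lam N).inv) ≫ wl (ClSub.toSubscheme (Scheme.IdealSheafData.vanishingIdeal ⟨{p}, hp⟩)) N ≠ 0 := by
  haveI : IsLocallyNoetherian X := isLocallyNoetherian_of_proper k X
  haveI : AlgebraicGeometry.IsNoetherian X := isNoetherian_of_proper k X
  have hN : FlatMod.IsFinLocFreeOfRank 1 N := isFinLocFreeOfRank_one_of_isInvertible _ hNinv
  have hOinv := Groth.Agent.Lib.Helper23.TensorUnit.isInvertible_structureModule X
  have hgen := Groth.Agent.Lib.Helper6.CurveDeg.subsingleton_stalk_cokernel hOinv hNinv s hs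
  have cO := isCoh_structureModule X
  have cN := isCoh_of_isFinLocFreeOfRank N 1 hN
  have cC : Coh.IsCoh (cokernel s) := isCoh_cokernel s cO cN
  have hcl : IsClosed (CohB1.support (cokernel s)) := Groth.Agent.S0020.result X _ cC.2
  haveI : JacobsonSpace X := LocallyOfFiniteType.jacobsonSpace (X ↘ Spec (CommRingCat.of k))
  obtain ⟨x, hx⟩ := hU
  have hηU : genericPoint X ∈ U := (genericPoint_specializes x).mem_open U.2 hx
  obtain ⟨p, hpU, hpcl⟩ := nonempty_inter_closedPoints
    (Z := (CohB1.support (cokernel s))ᶜ ∩ (U : Set X))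
    ⟨genericPoint X, fun h => h hgen, hηU⟩ (hcl.isOpen_compl.inter U.2).isLocallyClosed
  refine ⟨p, hpcl, hpU.2, fun hz => ?_⟩
  obtain ⟨h0, hv, hQ, hsub⟩ := quotMod_point k X p hpcl
  have hNflat := isFlat_of_isFinLocFreeOfRank N 1 hN
  have hS := shortExact_map_tw (idealSES (Scheme.IdealSheafData.vanishingIdeal ⟨{p}, hpcl⟩))
    (idealSES_shortExact _) N hNflat
  haveI : Epi (wl (ClSub.toSubscheme (Scheme.IdealSheafData.vanishingIdeal ⟨{p}, hpcl⟩)) N) := hS.epi_g
  have hse : s ≫ ((lam N).inv ≫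
      wl (ClSub.toSubscheme (Scheme.IdealSheafData.vanishingIdeal ⟨{p}, hpcl⟩)) N) = 0 := by
    rw [← Category.assoc]
    exact hz
  have hd : cokernel.π s ≫ cokernel.desc s _ hse = (lam N).inv ≫
      wl (ClSub.toSubscheme (Scheme.IdealSheafData.vanishingIdeal ⟨{p}, hpcl⟩)) N := cokernel.π_desc _ _ _
  haveI : Epi (cokernel.desc s _ hse) := epi_of_epi_fac hd
  have hsurj := stalkL_surjective_of_epi (cokernel.desc s _ hse) p
  haveI hCp : Subsingleton ((cokernel s).presheaf.stalk p) := not_not.1 hpU.1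
  have hQNp : Subsingleton ((CohB1.tensorMod (ClSub.quotMod
      (Scheme.IdealSheafData.vanishingIdeal ⟨{p}, hpcl⟩)) N).presheaf.stalk p) := hsurj.subsingleton
  have hemp : CohB1.support (CohB1.tensorMod (ClSub.quotMod
      (Scheme.IdealSheafData.vanishingIdeal ⟨{p}, hpcl⟩)) N) = ∅ := by
    apply Set.eq_empty_of_forall_notMem
    intro x hx
    have hxp := hsub (Groth.Agent.Lib.Helper4.ZeroDimChi.support_tensorMod_subset_left _ N hx)
    rw [Set.mem_singleton_iff] at hxp
    subst hxp
    exact hx hQNp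
  have hZ := isZero_of_support_eq_empty _ hemp
  have h1 := h0_quot_tensor k X p hpcl 1 N hN
  haveI : Subsingleton (Coh.structureModule X ⟶ CohB1.tensorMod (ClSub.quotMod
      (Scheme.IdealSheafData.vanishingIdeal ⟨{p}, hpcl⟩)) N) := ⟨fun a b => hZ.eq_of_tgt a b⟩
  rw [Module.finrank_zero_of_subsingleton] at h1
  exact zero_ne_one h1

open Groth.Agent.Lib.Helper6.PointIdeal Groth.Agent.Lib.Helper21.ExtCartier
  Groth.Agent.Lib.Helper6.SimpleSub Groth.Agent.Lib.Helper4.CurveChi Groth.Agent.Lib.Helper6.TwistSS in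
/-- `h⁰(I_p ⊗ N)` and `χ(I_p ⊗ N)` for an invertible `N` and a closed point `p` with principal local ring -/
theorem twist_point [IsAlgClosed k] (hdim : topologicalKrullDim X = 1)
    (p : X) (hp : IsClosed ({p} : Set X)) (hpid : IsPrincipalIdealRing (X.presheaf.stalk p))
    (N : X.Modules) (hNinv : PicF.IsInvertible N) :
    PicF.IsInvertible (CohB1.tensorMod (ClSub.idealMod (Scheme.IdealSheafData.vanishingIdeal ⟨{p}, hp⟩)) N) ∧
    Curv2.euler k X (CohB1.tensorMod (ClSub.idealMod (Scheme.IdealSheafData.vanishingIdeal ⟨{p}, hp⟩)) N) =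
      Curv2.euler k X N - 1 ∧
    ((∃ u : Coh.structureModule X ⟶ CohB1.tensorMod (Coh.structureModule X) N,
        u ≫ wl (ClSub.toSubscheme (Scheme.IdealSheafData.vanishingIdeal ⟨{p}, hp⟩)) N ≠ 0) →
      Module.finrank k (Coh.HH X (CohB1.tensorMod (ClSub.idealMod
        (Scheme.IdealSheafData.vanishingIdeal ⟨{p}, hp⟩)) N) 0) + 1 = Module.finrank k (Coh.HH X N 0)) := by
  haveI : IsLocallyNoetherian X := isLocallyNoetherian_of_proper k X
  have hN : FlatMod.IsFinLocFreeOfRank 1 N := isFinLocFreeOfRank_one_of_isInvertible _ hNinv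
  obtain ⟨h0, hv, hQ, hsub⟩ := quotMod_point k X p hp
  have hr := (range_subschemeι_point p hp).le
  have hIinv := Groth.Agent.Lib.Helper4.NormPt.isInvertible_idealMod_local k X hdim
    (Scheme.IdealSheafData.vanishingIdeal ⟨{p}, hp⟩) p hr hpid
  have hZ : topologicalKrullDim
      ((Scheme.IdealSheafData.vanishingIdeal (⟨{p}, hp⟩ : TopologicalSpace.Closeds X)).support : Set X) ≤ 0 := by
    rw [Scheme.IdealSheafData.coe_support_vanishingIdeal]
    change topologicalKrullDim (({p} : Set X)) ≤ 0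
    haveI : Subsingleton (({p} : Set X)) := (Set.uniqueSingleton p).instSubsingleton
    exact topologicalKrullDim_zero_of_discreteTopology _
  have hχ := Groth.Agent.Lib.Helper4.CurveSpecial.euler_idealMod_tensor k X N hNinv _ hZ
  rw [h0] at hχ
  have hNflat := isFlat_of_isFinLocFreeOfRank N 1 hN
  have hS := shortExact_map_tw (idealSES (Scheme.IdealSheafData.vanishingIdeal ⟨{p}, hp⟩))
    (idealSES_shortExact _) N hNflat
  have cON : Coh.IsCoh (CohB1.tensorMod (Coh.structureModule X) N) :=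
    isCoh_tensorMod_locFree _ N (isCoh_structureModule X) 1 hN
  haveI : Module.Finite k (Coh.HH X (CohB1.tensorMod (Coh.structureModule X) N) 0) :=
    Groth.Agent.S0002.result k X _ cON 0
  haveI : Module.Finite k (Coh.structureModule X ⟶ ((idealSES (Scheme.IdealSheafData.vanishingIdeal
      ⟨{p}, hp⟩)).map (Groth.Agent.Lib.Helper27SerreVan.tw N)).X₂) :=
    Module.Finite.equiv (homH0Equiv k (CohB1.tensorMod (Coh.structureModule X) N)).symm
  obtain ⟨hstep1, -⟩ := h0_step k _ hS (h0_quot_tensor k X p hp 1 N hN)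
  have e1 : Module.finrank k (Coh.structureModule X ⟶ ((idealSES (Scheme.IdealSheafData.vanishingIdeal
      ⟨{p}, hp⟩)).map (Groth.Agent.Lib.Helper27SerreVan.tw N)).X₂) = Module.finrank k (Coh.HH X N 0) := by
    rw [finrank_hom_eq k]
    exact (HHequiv k (lam N) 0).finrank_eq
  have e2 : Module.finrank k (Coh.structureModule X ⟶ ((idealSES (Scheme.IdealSheafData.vanishingIdeal
      ⟨{p}, hp⟩)).map (Groth.Agent.Lib.Helper27SerreVan.tw N)).X₁) =
      Module.finrank k (Coh.HH X (CohB1.tensorMod (ClSub.idealMod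
        (Scheme.IdealSheafData.vanishingIdeal ⟨{p}, hp⟩)) N) 0) := finrank_hom_eq k _
  rw [e1, e2] at hstep1
  refine ⟨isInvertible_tensorMod hIinv hNinv, ?_, hstep1⟩
  rw [hχ]
  norm_num

/-- twisting by the ideal of a general smooth point drops `h⁰` by one and keeps `H¹ = 0` -/
theorem down [IsAlgClosed k] (hdim : topologicalKrullDim X = 1)
    (N : X.Modules) (hN : PicF.IsInvertible N) (h1 : Subsingleton (Coh.HH X N 1)) (n : ℕ)
    (h : Module.finrank k (Coh.HH X N 0) = n + 1) :
    ∃ L : X.Modules, PicF.IsInvertible L ∧ Subsingleton (Coh.HH X L 1) ∧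
      Module.finrank k (Coh.HH X L 0) = n := by
  haveI : IsLocallyNoetherian X := isLocallyNoetherian_of_proper k X
  haveI : LocallyOfFinitePresentation (X ↘ (Spec (CommRingCat.of k))) :=
    LocallyOfFinitePresentation.iff_locallyOfFiniteType.mpr inferInstance
  haveI : GeometricallyReduced (X ↘ (Spec (CommRingCat.of k))) :=
    Groth.Agent.Lib.Helper6.SepCl.geometricallyReduced_of_perfectField k X
  obtain ⟨s, hs⟩ := exists_hom_ne_zero k X N (by omega)
  obtain ⟨p, hp, hpU, hne⟩ := exists_point_not_vanishing k X (X ↘ (Spec (CommRingCat.of k))).smoothLocus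
    (Groth.Agent.Lib.Helper6.GeomRedSm.dense_smoothLocus _).nonempty N hN s hs
  have hpid := Groth.Agent.Lib.Helper4.P1SepCl.isPrincipalIdealRing_stalk_of_mem_smoothLocus k X hdim.le p hpU
  obtain ⟨hinv, hχ, hstep⟩ := twist_point k X hdim p hp hpid N hN
  have h0' := hstep ⟨_, hne⟩
  refine ⟨_, hinv, ?_, by omega⟩
  have cL := isCoh_of_isInvertible _ hinv
  have cN := isCoh_of_isInvertible _ hN
  have e1 := euler_eq_h0_sub_h1 k X hdim.le _ cL
  have e2 := euler_eq_h0_sub_h1 k X hdim.le _ cN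
  rw [Module.finrank_zero_of_subsingleton (M := Coh.HH X N 1)] at e2
  haveI : Module.Finite k (Coh.HH X (CohB1.tensorMod (ClSub.idealMod
      (Scheme.IdealSheafData.vanishingIdeal ⟨{p}, hp⟩)) N) 1) := Groth.Agent.S0002.result k X _ cL 1
  apply (Module.finrank_zero_iff (R := k)).1
  zify at h0'
  push_cast at e1 e2
  linarith

/-- an invertible module with `H¹ = 0` and a nonzero section -/
theorem exists_start [IsAlgClosed k] (hdim : topologicalKrullDim X = 1) :
    ∃ M : X.Modules, PicF.IsInvertible M ∧ Subsingleton (Coh.HH X M 1) ∧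
      0 < Module.finrank k (Coh.HH X M 0) := by
  haveI : IsLocallyNoetherian X := isLocallyNoetherian_of_proper k X
  haveI : LocallyOfFinitePresentation (X ↘ (Spec (CommRingCat.of k))) :=
    LocallyOfFinitePresentation.iff_locallyOfFiniteType.mpr inferInstance
  haveI : GeometricallyReduced (X ↘ (Spec (CommRingCat.of k))) :=
    Groth.Agent.Lib.Helper6.SepCl.geometricallyReduced_of_perfectField k X
  obtain ⟨x, hx, hxU⟩ := Groth.Agent.Lib.Helper4.P1SepCl.exists_smooth_ratPoint k X
  have hpid := Groth.Agent.Lib.Helper4.P1SepCl.isPrincipalIdealRing_stalk_of_mem_smoothLocus k X hdim.le _ hxU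
  obtain ⟨hL, hd⟩ := Groth.Agent.Lib.Helper4.P1SepCl.deg_dual_idealMod_ratPoint k X hdim x hx hpid
  set L := RefHull.dual (ClSub.idealMod x.ker) with hLdef
  set g := Module.finrank k (Coh.HH X (Coh.structureModule X) 1) with hg
  set n : ℕ := g ^ 2 + g + 1 with hn
  have cO := isCoh_structureModule X
  have hχO := euler_eq_h0_sub_h1 k X hdim.le _ cO
  have hineq : ((g : ℤ)) ^ 2 < n * Curv2.deg k X L 1 + Curv2.euler k X (Coh.structureModule X) := by
    rw [hd, hχO, ← hg, hn]
    have : (0 : ℤ) ≤ (Module.finrank k (Coh.HH X (Coh.structureModule X) 0) : ℤ) := Int.natCast_nonneg _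
    push_cast
    linarith
  have hv := subsingleton_H1_tensorPow k X hdim L hL _ cO n hineq
  set P := CohB1.tensorPow L n with hPdef
  have hP : PicF.IsInvertible P := isInvertible_tensorPow hL n
  have cP := isCoh_of_isInvertible P hP
  have hv' : Subsingleton (Coh.HH X P 1) :=
    Groth.Agent.Lib.Helper27SerreVan.subsingleton_HH_of_iso
      (Groth.Agent.Lib.Helper23.TensorUnit.unitTensorIso P).symm 1 hv
  refine ⟨P, hP, hv', ?_⟩
  have hdegP : Curv2.deg k X P 1 = n * Curv2.deg k X L 1 := deg_tensorPow k X hdim.le L hL n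
  have h0 := euler_le_h0 k X hdim.le P cP
  have hχ : Curv2.euler k X P = n * Curv2.deg k X L 1 + Curv2.euler k X (Coh.structureModule X) := by
    rw [← hdegP]
    unfold Curv2.deg
    push_cast
    ring
  rw [hχ] at h0
  have h3 : (0 : ℤ) < (Module.finrank k (Coh.HH X P 0) : ℤ) :=
    lt_of_le_of_lt (sq_nonneg (g : ℤ)) (lt_of_lt_of_le hineq h0)
  exact_mod_cast h3

/-- **S1523** -/
theorem main [IsAlgClosed k] (hdim : topologicalKrullDim X = 1) :
    (∃ L : X.Modules, PicF.IsInvertible L ∧ Module.finrank k (Coh.HH X L 0) = 1 ∧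
      Subsingleton (Coh.HH X L 1)) ∧
    (∃ N : X.Modules, PicF.IsInvertible N ∧ Subsingleton (Coh.HH X N 0) ∧
      Subsingleton (Coh.HH X N 1)) := by
  haveI : IsLocallyNoetherian X := isLocallyNoetherian_of_proper k X
  have key : ∀ n : ℕ, ∀ M : X.Modules, PicF.IsInvertible M → Subsingleton (Coh.HH X M 1) →
      Module.finrank k (Coh.HH X M 0) = n + 1 →
      ∃ L : X.Modules, PicF.IsInvertible L ∧ Module.finrank k (Coh.HH X L 0) = 1 ∧
        Subsingleton (Coh.HH X L 1) := by
    intro n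
    induction n with
    | zero => intro M hM h1 h0; exact ⟨M, hM, h0, h1⟩
    | succ n ih =>
      intro M hM h1 h0
      obtain ⟨L, hL, hL1, hL0⟩ := down k X hdim M hM h1 (n + 1) h0
      exact ih L hL hL1 hL0
  obtain ⟨M, hM, h1, h0⟩ := exists_start k X hdim
  obtain ⟨L, hL, hL0, hL1⟩ := key (Module.finrank k (Coh.HH X M 0) - 1) M hM h1 (by omega)
  refine ⟨⟨L, hL, hL0, hL1⟩, ?_⟩
  obtain ⟨N, hN, hN1, hN0⟩ := down k X hdim L hL hL1 0 hL0
  have cN := isCoh_of_isInvertible N hN
  haveI : Module.Finite k (Coh.HH X N 0) := Groth.Agent.S0002.result k X _ cN 0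
  exact ⟨N, hN, (Module.finrank_zero_iff (R := k)).1 hN0, hN1⟩

end Groth.Agent.Lib.Helper6.H0OneSing
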