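import Groth.Agent.Lib.Helper6PtPow
import Groth.Agent.Lib.Helper6H0OneSing
import Groth.Agent.Lib.Helper6GGPoint
import Groth.Agent.Lib.Helper2TensorInv

/-!
# The invertible modules `O(np)` on an integral proper curve of arithmetic genus one with a regular
rational point `p` (helper6): S7933
-/

set_option autoImplicit false
set_option linter.style.haveILetI false
universe u
open CategoryTheory Limits AlgebraicGeometry Opposite TopologicalSpace

namespace Groth.Agent.Lib.Helper6.G1Pt

open Groth.Agent.Lib.Helper4.CurveBun Groth.Agent.Lib.Helper4.DegAdd Groth.Agent.Lib.Helper4.CurveRR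
  Groth.Agent.Lib.Helper4.Dev Groth.Agent.Lib.Helper6.CurveDeg
  Groth.Agent.Lib.Helper4.CurveStab Groth.Agent.Lib.Helper6.SSVanish Groth.Agent.Lib.Helper23.SecTw
  Groth.Agent.Lib.Helper17.IAdic Groth.Agent.Lib.Helper27GlobGenPn Groth.Agent.Lib.Helper4.CurveAsym
  Groth.Agent.Lib.Helper6.GGCurve Groth.Agent.Lib.Helper6.H0One Groth.Agent.Lib.Helper6.H0Const
  Groth.Agent.Lib.Helper6.PtPow

variable (k : Type u) [Field k] (X : Scheme.{u}) [X.Over (Spec (CommRingCat.of k))]
  [IsIntegral X] [IsProper (X ↘ Spec (CommRingCat.of k))]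

/-- an integral proper `k`-scheme with a rational point has `H⁰(O) = k` -/
theorem finrank_hh0_eq_one_of_ratPoint (p : X) (hrat : Function.Surjective (Curv2.resMap k X p)) :
    Module.finrank k (Coh.HH X (Coh.structureModule X) 0) = 1 := by
  rw [finrank_hh0]
  letI alg : Algebra k Γ(X, ⊤) := (gsMap k (X ↘ Spec (CommRingCat.of k))).hom.toAlgebra
  haveI : Algebra.IsIntegral k Γ(X, ⊤) := ⟨gsMap_isIntegral k (X ↘ Spec (CommRingCat.of k))⟩
  haveI : IsDomain Γ(X, ⊤) := inferInstance
  have hF : IsField Γ(X, ⊤) := isField_of_isIntegral_of_isField' (R := k) (Field.toIsField k)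
  let ev : Γ(X, ⊤) →+* X.residueField p := (X.residue p).hom.comp (X.presheaf.germ ⊤ p trivial).hom
  have hev : ∀ c : k, ev (algebraMap k Γ(X, ⊤) c) = Curv2.resMap k X p c := fun c => rfl
  have hsurj : Function.Surjective (algebraMap k Γ(X, ⊤)) := by
    intro a
    obtain ⟨c, hc⟩ := hrat (ev a)
    refine ⟨c, ?_⟩
    by_contra hne
    have hb : a - algebraMap k Γ(X, ⊤) c ≠ 0 := fun h => hne (sub_eq_zero.1 h).symm
    obtain ⟨b', hb'⟩ := hF.mul_inv_cancel hb
    have h1 : ev (a - algebraMap k Γ(X, ⊤) c) = 0 := by rw [map_sub, hev, hc, sub_self]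
    have h2 := congrArg ev hb'
    rw [map_mul, h1, zero_mul, map_one] at h2
    exact zero_ne_one h2
  have hbij : Function.Bijective (Algebra.linearMap k Γ(X, ⊤)) :=
    ⟨(algebraMap k Γ(X, ⊤)).injective, hsurj⟩
  rw [← (LinearEquiv.ofBijective _ hbij).finrank_eq]
  exact Module.finrank_self k

open Groth.Agent.Lib.Helper6.PointIdeal in
/-- the skyscraper sheaf at a regular rational closed point of an integral curve -/
theorem quotMod_ratPoint (hdim : topologicalKrullDim X = 1) (p : X) (hp : IsClosed ({p} : Set X))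
    (hrat : Function.Surjective (Curv2.resMap k X p))
    (hreg : IsRegularLocalRing (X.presheaf.stalk p)) :
    Module.finrank k (Coh.HH X (ClSub.quotMod (Scheme.IdealSheafData.vanishingIdeal ⟨{p}, hp⟩)) 0) = 1 ∧
    Coh.IsCoh (ClSub.quotMod (Scheme.IdealSheafData.vanishingIdeal ⟨{p}, hp⟩)) ∧
    CohB1.support (ClSub.quotMod (Scheme.IdealSheafData.vanishingIdeal ⟨{p}, hp⟩)) ⊆ {p} := by
  haveI : IsLocallyNoetherian X := isLocallyNoetherian_of_proper k X
  set D := Scheme.IdealSheafData.vanishingIdeal (⟨{p}, hp⟩ : TopologicalSpace.Closeds X) with hD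
  have hQ : Coh.IsCoh (ClSub.quotMod D) :=
    isCoh_push_closed D.subschemeι _ (isCoh_structureModule D.subscheme)
  have hsub : CohB1.support (ClSub.quotMod D) ⊆ {p} := by
    have h := support_push_subset D.subschemeι (Coh.structureModule D.subscheme)
    rwa [range_subschemeι_point p hp] at h
  refine ⟨?_, hQ, hsub⟩
  have h := finrank_hh0_quotMod_pow k X hdim p hp hrat hreg 1
  rw [pow_one] at h
  exact h

/-- degrees and cohomology of `O(np)` -/
theorem basic (hdim : topologicalKrullDim X = 1)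
    (hpa : Curv2.euler k X (Coh.structureModule X) = 0)
    (p : X) (hp : IsClosed ({p} : Set X)) (hrat : Function.Surjective (Curv2.resMap k X p))
    (hreg : IsRegularLocalRing (X.presheaf.stalk p)) (n : ℕ) (L : X.Modules)
    (hL : ClSub.IsInverseOf L (ClSub.idealMod ((Scheme.IdealSheafData.vanishingIdeal ⟨{p}, hp⟩) ^ n))) :
    Module.finrank k (Coh.HH X (Coh.structureModule X) 0) = 1 ∧
    Module.finrank k (Coh.HH X (Coh.structureModule X) 1) = 1 ∧
    PicF.IsInvertible L ∧ Curv2.deg k X L 1 = n ∧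
    (1 ≤ n → Subsingleton (Coh.HH X L 1)) ∧ (1 ≤ n → Module.finrank k (Coh.HH X L 0) = n) := by
  haveI : IsLocallyNoetherian X := isLocallyNoetherian_of_proper k X
  set D := Scheme.IdealSheafData.vanishingIdeal (⟨{p}, hp⟩ : TopologicalSpace.Closeds X) with hD
  haveI hdvr := isDiscreteValuationRing_stalk k X hdim p hp hreg
  have hpid : IsPrincipalIdealRing (X.presheaf.stalk p) := inferInstance
  have hr : Set.range (D ^ n).subschemeι ⊆ {p} := by
    rw [Scheme.IdealSheafData.range_subschemeι]
    refine (support_pow_subset X D n).trans ?_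
    rw [hD, Scheme.IdealSheafData.coe_support_vanishingIdeal]
    rfl
  have hIinv := Groth.Agent.Lib.Helper4.NormPt.isInvertible_idealMod_local k X hdim (D ^ n) p hr hpid
  have hIdeg : Curv2.deg k X (ClSub.idealMod (D ^ n)) 1 = -(n : ℤ) := by
    rw [Groth.Agent.Lib.Helper4.CurvePt.deg_idealMod k X (D ^ n) p hr,
      finrank_hh0_quotMod_pow k X hdim p hp hrat hreg n]
  obtain ⟨e⟩ := hL
  have hLinv : PicF.IsInvertible L :=
    Groth.Agent.Lib.Helper2.TensorInv.isInvertible_of_tensor_iso L _ e
  have hL1 := isFinLocFreeOfRank_one_of_isInvertible L hLinv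
  have hI1 := isFinLocFreeOfRank_one_of_isInvertible _ hIinv
  have hLdeg : Curv2.deg k X L 1 = n := by
    have h2 := Groth.Agent.Lib.Helper4.CurveDegT.deg_tensor k X hdim.le 1 1 L _ hL1 hI1
    rw [Groth.Agent.Lib.Helper4.CurveSSAb.deg_congr_iso k X e (1 * 1)] at h2
    have h3 : Curv2.deg k X (Coh.structureModule X) (1 * 1) = 0 := by
      rw [Nat.mul_one]
      exact deg_structureModule k X
    rw [h3, hIdeg] at h2
    push_cast at h2
    linarith
  have h0O := finrank_hh0_eq_one_of_ratPoint k X p hrat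
  have hχO := Groth.Agent.Lib.Helper4.CurveSpecial.euler_structureModule k X hdim
  rw [hpa, h0O] at hχO
  have hg : Curv2.genus k X = 1 := by
    have : (Curv2.genus k X : ℤ) = 1 := by push_cast at hχO; linarith
    exact_mod_cast this
  have hv : 1 ≤ n → Subsingleton (Coh.HH X L 1) := by
    intro hn
    by_contra hns
    rw [not_subsingleton_iff_nontrivial] at hns
    have h := Groth.Agent.Lib.Helper4.CurveSpecial.deg_le_of_H1_nontrivial k X hdim L hLinv hns
    rw [hLdeg, hg, h0O] at h
    push_cast at h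
    have : (1 : ℤ) ≤ n := by exact_mod_cast hn
    linarith
  refine ⟨h0O, hg, hLinv, hLdeg, hv, fun hn => ?_⟩
  haveI := hv hn
  have cL := isCoh_of_isInvertible L hLinv
  have hχ := euler_eq_h0_sub_h1 k X hdim.le L cL
  rw [Module.finrank_zero_of_subsingleton (M := Coh.HH X L 1)] at hχ
  have hd := hLdeg
  unfold Curv2.deg at hd
  rw [hpa] at hd
  push_cast at hd hχ
  have : (Module.finrank k (Coh.HH X L 0) : ℤ) = n := by linarith
  exact_mod_cast this

open Groth.Agent.Lib.Helper21.ExtCartier Groth.Agent.Lib.Helper6.SimpleSub Groth.Agent.Lib.Helper4.CurveChi in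
/-- `O(np)` is globally generated for `n ≥ 2` -/
theorem gg (hdim : topologicalKrullDim X = 1)
    (hpa : Curv2.euler k X (Coh.structureModule X) = 0)
    (p : X) (hp : IsClosed ({p} : Set X)) (hrat : Function.Surjective (Curv2.resMap k X p))
    (hreg : IsRegularLocalRing (X.presheaf.stalk p)) (n : ℕ) (L : X.Modules)
    (hL : ClSub.IsInverseOf L (ClSub.idealMod ((Scheme.IdealSheafData.vanishingIdeal ⟨{p}, hp⟩) ^ n)))
    (hn : 2 ≤ n) : Curv2.IsGloballyGenerated L := by
  haveI : IsLocallyNoetherian X := isLocallyNoetherian_of_proper k X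
  obtain ⟨h0O, hg, hLinv, hLdeg, hv, hh0⟩ := basic k X hdim hpa p hp hrat hreg n L hL
  obtain ⟨h0Q, cQ, hsub⟩ := quotMod_ratPoint k X hdim p hp hrat hreg
  set D := Scheme.IdealSheafData.vanishingIdeal (⟨{p}, hp⟩ : TopologicalSpace.Closeds X) with hD
  have hL1 := isFinLocFreeOfRank_one_of_isInvertible L hLinv
  have cL := isCoh_of_isInvertible L hLinv
  have hLflat := isFlat_of_isFinLocFreeOfRank L 1 hL1
  have hZ : topologicalKrullDim (D.support : Set X) ≤ 0 := by
    rw [hD, Scheme.IdealSheafData.coe_support_vanishingIdeal]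
    change topologicalKrullDim (({p} : Set X)) ≤ 0
    haveI : Subsingleton (({p} : Set X)) := (Set.uniqueSingleton p).instSubsingleton
    exact topologicalKrullDim_zero_of_discreteTopology _
  have hvan : Subsingleton (Coh.HH X (CohB1.tensorMod (ClSub.idealMod D) L) 1) := by
    by_contra hns
    rw [not_subsingleton_iff_nontrivial] at hns
    have h := Groth.Agent.Lib.Helper4.CurveSpecial.deg_le_of_H1_ideal_nontrivial k X hdim h0O L hLinv D hZ hns
    have hg' : Curv2.genus k X = 1 := hg
    rw [hLdeg, hg', h0Q] at h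
    push_cast at h
    have : (2 : ℤ) ≤ n := by exact_mod_cast hn
    linarith
  have hsupp : ∀ x ∈ CohB1.support (ClSub.quotMod D), IsClosed ({x} : Set X) := by
    intro x hx
    have hxp := hsub hx
    rw [Set.mem_singleton_iff] at hxp
    rw [hxp]
    exact hp
  have hz := wr_π_eq_zero D L 1 hL1 cQ hsupp hvan
  have hQp : Nontrivial ((ClSub.quotMod D).presheaf.stalk p) := by
    by_contra hnt
    rw [not_nontrivial_iff_subsingleton] at hnt
    have hemp : CohB1.support (ClSub.quotMod D) = ∅ := by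
      apply Set.eq_empty_of_forall_notMem
      intro x hx
      have hxp := hsub hx
      rw [Set.mem_singleton_iff] at hxp
      subst hxp
      exact hx hnt
    have hZ0 := isZero_of_support_eq_empty _ hemp
    haveI := HH_subsingleton_of_isZero k _ hZ0 0
    rw [Module.finrank_zero_of_subsingleton] at h0Q
    exact zero_ne_one h0Q
  haveI : Epi (ClSub.toSubscheme D) := (idealSES_shortExact _).epi_g
  have hp0 : Subsingleton ((coker L).presheaf.stalk p) :=
    subsingleton_stalk_cokernel L cL _ (ClSub.toSubscheme D) p hQp hz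
  -- away from `p` the canonical section generates
  have hr : Set.range (D ^ n).subschemeι ⊆ {p} := by
    rw [Scheme.IdealSheafData.range_subschemeι]
    refine (support_pow_subset X D n).trans ?_
    rw [hD, Scheme.IdealSheafData.coe_support_vanishingIdeal]
    rfl
  obtain ⟨e⟩ := hL
  have hS := shortExact_map_tw (idealSES (D ^ n)) (idealSES_shortExact (D ^ n)) L hLflat
  let b := Groth.Agent.Lib.Helper23.AmpleFam2.tensorBraid L (ClSub.idealMod (D ^ n))
  let s₀ : Coh.structureModule X ⟶ L :=
    e.inv ≫ b.hom ≫ ((idealSES (D ^ n)).map (Groth.Agent.Lib.Helper27SerreVan.tw L)).f ≫ (lam L).hom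
  have h1 : s₀ ≫ cπ L = 0 := sec_comp_π L s₀
  have hfc : ((idealSES (D ^ n)).map (Groth.Agent.Lib.Helper27SerreVan.tw L)).f ≫
      ((lam L).hom ≫ cπ L) = 0 := by
    have h2 : (e.inv ≫ b.hom) ≫ (((idealSES (D ^ n)).map (Groth.Agent.Lib.Helper27SerreVan.tw L)).f ≫
        ((lam L).hom ≫ cπ L)) = 0 := by
      rw [← h1]
      simp only [s₀, Category.assoc]
    exact (cancel_epi (e.inv ≫ b.hom)).1 (h2.trans comp_zero.symm)
  haveI := hS.epi_g
  let d := hS.exact.desc ((lam L).hom ≫ cπ L) hfc
  have hd : ((idealSES (D ^ n)).map (Groth.Agent.Lib.Helper27SerreVan.tw L)).g ≫ d =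
      (lam L).hom ≫ cπ L := hS.exact.g_desc _ _
  haveI hE1 : Epi (lam L).hom := inferInstance
  haveI hE2 : Epi (cπ L) := epi_cπ L
  have hE3 : Epi ((lam L).hom ≫ cπ L) := epi_comp _ _
  haveI : Epi d := @epi_of_epi_fac _ _ _ _ _ _ _ _ hE3 hd
  have hsuppC : CohB1.support (coker L) ⊆ {p} := by
    intro x hx
    by_contra hxp
    apply hx
    have hQx : Subsingleton ((CohB1.tensorMod (ClSub.quotMod (D ^ n)) L).presheaf.stalk x) := by
      by_contra hns
      have hx1 : x ∈ CohB1.support (CohB1.tensorMod (ClSub.quotMod (D ^ n)) L) := hns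
      have hx2 := Groth.Agent.Lib.Helper4.ZeroDimChi.support_tensorMod_subset_left _ L hx1
      have hx3 := (support_push_subset (D ^ n).subschemeι _) hx2
      exact hxp (hr hx3)
    haveI : Subsingleton (((idealSES (D ^ n)).map
      (Groth.Agent.Lib.Helper27SerreVan.tw L)).X₃.presheaf.stalk x) := hQx
    exact (stalkL_surjective_of_epi d x).subsingleton
  apply isGloballyGenerated_of_isZero_cokernel
  apply isZero_of_support_eq_empty
  apply Set.eq_empty_of_forall_notMem
  intro x hx
  have hxp := hsuppC hx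
  rw [Set.mem_singleton_iff] at hxp
  subst hxp
  exact hx hp0

/-- **S7933** -/
theorem main (hdim : topologicalKrullDim X = 1)
    (hpa : Curv2.euler k X (Coh.structureModule X) = 0)
    (p : X) (hp : IsClosed ({p} : Set X)) (hrat : Function.Surjective (Curv2.resMap k X p))
    (hreg : IsRegularLocalRing (X.presheaf.stalk p)) (n : ℕ) (L : X.Modules)
    (hL : ClSub.IsInverseOf L (ClSub.idealMod ((Scheme.IdealSheafData.vanishingIdeal ⟨{p}, hp⟩) ^ n))) :
    Module.finrank k (Coh.HH X (Coh.structureModule X) 0) = 1 ∧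
      Module.finrank k (Coh.HH X (Coh.structureModule X) 1) = 1 ∧
      (n = 1 → Module.finrank k (Coh.HH X L 0) = 1) ∧
      (2 ≤ n → Module.finrank k (Coh.HH X L 0) = n) ∧
      (1 ≤ n → Subsingleton (Coh.HH X L 1)) ∧
      (2 ≤ n → Curv2.IsGloballyGenerated L) := by
  obtain ⟨h0O, hg, hLinv, hLdeg, hv, hh0⟩ := basic k X hdim hpa p hp hrat hreg n L hL
  refine ⟨h0O, hg, fun h1 => ?_, fun h2 => hh0 (by omega), hv,
    fun h2 => gg k X hdim hpa p hp hrat hreg n L hL h2⟩
  rw [hh0 (by omega), h1]

end Groth.Agent.Lib.Helper6.G1Pt
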