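import Groth.Agent.Lib.Helper6RatTwist
import Groth.Agent.Lib.Helper6Genus1Pt
import Groth.Agent.Lib.Helper4P1Gcd
import Groth.Agent.Lib.Helper4CurveBun2
import Groth.Agent.Lib.Helper23InvDual

/-!
# Degree-zero invertible modules on a genus one curve with a rational point (helper6): S14341

`resKer_eq_vanishingIdeal`, `finrank_hh0_quotMod_pt` (`h⁰(O/I_p) = [κ(p):k]`), `finrank_hh0_quotMod_eq_one_iff`,
`h0_of_deg_one`, `exists_point_of_deg_one`, `stalkL_surjective_of_iso`, `point_unique`, `wlIso`, `wrIso`,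
`cancel1`, `cancel2`, `main`.
-/

set_option autoImplicit false
set_option linter.style.haveILetI false
universe u
open CategoryTheory Limits AlgebraicGeometry Opposite TopologicalSpace

namespace Groth.Agent.Lib.Helper6.G1Pic

open Groth.Agent.Lib.Helper4.Dev Groth.Agent.Lib.Helper27GlobGenPn
  Groth.Agent.Lib.Helper21.ExtCartier Groth.Agent.Lib.Helper4.CurveAsym Groth.Agent.Lib.Helper4.CurveGrd

section Res

attribute [local instance] Curv2.resAlgebra

variable (k : Type u) [Field k] (X : Scheme.{u}) [X.Over (Spec (CommRingCat.of k))]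

omit [X.Over (Spec (CommRingCat.of k))] in
/-- the kernel of the residue field point of a closed point is the reduced ideal of the point -/
theorem resKer_eq_vanishingIdeal (p : X) (hp : IsClosed ({p} : Set X)) :
    (X.fromSpecResidueField p).ker = Scheme.IdealSheafData.vanishingIdeal ⟨{p}, hp⟩ := by
  haveI : IsClosedImmersion (X.fromSpecResidueField p) := isClosed_singleton_iff_isClosedImmersion.1 hp
  have hsupp : (X.fromSpecResidueField p).ker.support = (⟨{p}, hp⟩ : Closeds X) := by
    apply Closeds.ext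
    rw [Scheme.Hom.support_ker, Scheme.range_fromSpecResidueField, hp.closure_eq]
    rfl
  apply le_antisymm
  · rw [← Scheme.IdealSheafData.le_support_iff_le_vanishingIdeal, hsupp]
  · rw [← hsupp, Scheme.IdealSheafData.vanishingIdeal_support, Scheme.IdealSheafData.le_def]
    intro U
    rw [Scheme.IdealSheafData.radical_ideal, Scheme.Hom.ker_apply]
    intro a ha
    obtain ⟨n, hn⟩ := ha
    rw [RingHom.mem_ker, map_pow] at hn
    rw [RingHom.mem_ker]
    exact IsReduced.eq_zero _ ⟨n, hn⟩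

/-- `h⁰(O/I_p) = [κ(p) : k]` for a closed point `p` -/
theorem finrank_hh0_quotMod_pt (p : X) (hp : IsClosed ({p} : Set X)) :
    Module.finrank k (Coh.HH X (ClSub.quotMod (Scheme.IdealSheafData.vanishingIdeal ⟨{p}, hp⟩)) 0) =
      Module.finrank k (X.residueField p) := by
  rw [← resKer_eq_vanishingIdeal X p hp]
  exact Groth.Agent.Lib.Helper4.P1Gcd.finrank_hh0_quotMod_residue k X p hp

/-- a closed point is rational iff `h⁰(O/I_p) = 1` -/
theorem finrank_hh0_quotMod_eq_one_iff (p : X) (hp : IsClosed ({p} : Set X)) :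
    Module.finrank k (Coh.HH X (ClSub.quotMod (Scheme.IdealSheafData.vanishingIdeal ⟨{p}, hp⟩)) 0) = 1 ↔
      Function.Bijective (Curv2.resMap k X p) := by
  rw [finrank_hh0_quotMod_pt k X p hp]
  constructor
  · intro h
    exact Module.Free.bijective_algebraMap_of_finrank_eq_one h
  · intro h
    have hbij : Function.Bijective (Algebra.linearMap k (X.residueField p)) := h
    rw [← (LinearEquiv.ofBijective _ hbij).finrank_eq]
    exact Module.finrank_self k

end Res


section Exist

variable (k : Type u) [Field k] (X : Scheme.{u}) [X.Over (Spec (CommRingCat.of k))]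
  [IsProper (X ↘ (Spec (CommRingCat.of k)))] [IsIntegral X]

/-- genus one, `h⁰(O) = 1`: an invertible module of degree one has `h⁰ = 1` -/
theorem h0_of_deg_one (hdim : topologicalKrullDim X = 1)
    (h0O : Module.finrank k (Coh.HH X (Coh.structureModule X) 0) = 1)
    (hg : Curv2.genus k X = 1)
    (M : X.Modules) (hM : PicF.IsInvertible M) (hdeg : Curv2.deg k X M 1 = 1) :
    Module.finrank k (Coh.HH X M 0) = 1 := by
  haveI : IsLocallyNoetherian X := LocallyOfFiniteType.isLocallyNoetherian (X ↘ (Spec (CommRingCat.of k)))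
  have cM := Groth.Agent.Lib.Helper6.CurveDeg.isCoh_of_isInvertible M hM
  have hH1 : Subsingleton (Coh.HH X M 1) := by
    by_contra hns
    rw [not_subsingleton_iff_nontrivial] at hns
    have h := Groth.Agent.Lib.Helper4.CurveSpecial.deg_le_of_H1_nontrivial k X hdim M hM hns
    rw [hdeg, hg, h0O] at h
    norm_num at h
  have hχ := Groth.Agent.Lib.Helper4.CurveRR.euler_eq_h0_sub_h1 k X hdim.le M cM
  rw [Module.finrank_zero_of_subsingleton (M := Coh.HH X M 1)] at hχ
  have hχO := Groth.Agent.Lib.Helper4.CurveSpecial.euler_structureModule k X hdim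
  rw [h0O, hg] at hχO
  have hd := hdeg
  unfold Curv2.deg at hd
  rw [hχO] at hd
  push_cast at hd hχ
  have : (Module.finrank k (Coh.HH X M 0) : ℤ) = 1 := by linarith
  exact_mod_cast this

/-- on an integral proper curve of genus one with `h⁰(O) = 1` and principal local rings, an invertible
module of degree one is `O(p)` for a rational closed point `p` -/
theorem exists_point_of_deg_one (hdim : topologicalKrullDim X = 1)
    (hpid : Groth.Agent.Lib.Helper4.CurveBun.PIDStalks X)
    (h0O : Module.finrank k (Coh.HH X (Coh.structureModule X) 0) = 1)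
    (hg : Curv2.genus k X = 1)
    (M : X.Modules) (hM : PicF.IsInvertible M) (hdeg : Curv2.deg k X M 1 = 1) :
    ∃ (p : X) (hp : IsClosed ({p} : Set X)),
      Module.finrank k (Coh.HH X (ClSub.quotMod
        (Scheme.IdealSheafData.vanishingIdeal (⟨{p}, hp⟩ : Closeds X))) 0) = 1 ∧
      Nonempty (Coh.structureModule X ≅
        CohB1.tensorMod (ClSub.idealMod (Scheme.IdealSheafData.vanishingIdeal (⟨{p}, hp⟩ : Closeds X))) M) := by
  haveI : IsLocallyNoetherian X := LocallyOfFiniteType.isLocallyNoetherian (X ↘ (Spec (CommRingCat.of k)))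
  haveI : AlgebraicGeometry.IsNoetherian X := Groth.Agent.Lib.Helper4.CurveRR.isNoetherian_of_proper k X
  have hO := Groth.Agent.Lib.Helper23.TensorUnit.isInvertible_structureModule X
  have cO := isCoh_structureModule X
  have cM := Groth.Agent.Lib.Helper6.CurveDeg.isCoh_of_isInvertible M hM
  have hM1 := Groth.Agent.Lib.Helper23.SecTw.isFinLocFreeOfRank_one_of_isInvertible M hM
  have h0M := h0_of_deg_one k X hdim h0O hg M hM hdeg
  have hχO := Groth.Agent.Lib.Helper4.CurveSpecial.euler_structureModule k X hdim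
  rw [h0O, hg] at hχO
  have hχM : Curv2.euler k X M = 1 := by
    have hd := hdeg
    unfold Curv2.deg at hd
    rw [hχO] at hd
    push_cast at hd
    linarith
  -- a nonzero section
  have hhom : Module.finrank k (Coh.structureModule X ⟶ M) = 1 := (finrank_hom_eq k M).trans h0M
  obtain ⟨s, hs⟩ : ∃ s : Coh.structureModule X ⟶ M, s ≠ 0 := by
    by_contra hall
    push Not at hall
    haveI : Subsingleton (Coh.structureModule X ⟶ M) := ⟨fun a b => (hall a).trans (hall b).symm⟩
    rw [Module.finrank_zero_of_subsingleton] at hhom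
    exact zero_ne_one hhom
  obtain ⟨hχs, -⟩ := Groth.Agent.Lib.Helper6.CurveDeg.main k X hdim _ M hO hM s hs
  have hc : Module.finrank k (Coh.HH X (cokernel s) 0) = 1 := by
    rw [hχM, hχO] at hχs
    have : (Module.finrank k (Coh.HH X (cokernel s) 0) : ℤ) = 1 := by linarith
    exact_mod_cast this
  have cC : Coh.IsCoh (cokernel s) := isCoh_cokernel s cO cM
  have hcl : IsClosed (CohB1.support (cokernel s)) := Groth.Agent.S0020.result X _ cC.2
  have hne : (CohB1.support (cokernel s)).Nonempty := by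
    by_contra hemp
    rw [Set.not_nonempty_iff_eq_empty] at hemp
    have hZ0 := isZero_of_support_eq_empty _ hemp
    haveI := Groth.Agent.Lib.Helper6.SSVanish.HH_subsingleton_of_isZero k _ hZ0 0
    rw [Module.finrank_zero_of_subsingleton] at hc
    exact zero_ne_one hc
  obtain ⟨p, hpS, hp⟩ := hcl.exists_closed_singleton hne
  refine ⟨p, hp, ?_⟩
  have hns : ¬ Function.Surjective (stalkL s p) :=
    fun h => hpS (subsingleton_stalk_cokernel_of_surjective s p h)
  set D := Scheme.IdealSheafData.vanishingIdeal (⟨{p}, hp⟩ : Closeds X) with hD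
  have hv := Groth.Agent.Lib.Helper6.GG2g.comp_eq_zero_of_not_surjective p hp M hM1 s hns
  have hS := Groth.Agent.Lib.Helper27SerreVan.shortExact_tw M hM (idealSES D) (idealSES_shortExact D)
  set S := (idealSES D).map (Groth.Agent.Lib.Helper27SerreVan.tw M) with hSdef
  haveI hmono : Mono S.f := hS.mono_f
  let u := Groth.Agent.Lib.Helper23.TensorUnit.unitTensorIso M
  have hv' : (s ≫ u.inv) ≫ S.g = 0 := by rw [Category.assoc]; exact hv
  let t : Coh.structureModule X ⟶ CohB1.tensorMod (ClSub.idealMod D) M := hS.exact.lift (s ≫ u.inv) hv'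
  have ht : t ≫ S.f = s ≫ u.inv := hS.exact.lift_f _ _
  have htne : t ≠ 0 := by
    intro h0
    apply hs
    have h1 : s ≫ u.inv = 0 := by
      rw [← ht, h0]
      exact zero_comp
    calc s = (s ≫ u.inv) ≫ u.hom := by rw [Category.assoc, Iso.inv_hom_id, Category.comp_id]
      _ = 0 := by rw [h1, zero_comp]
  have hr : Set.range D.subschemeι ⊆ {p} := (Groth.Agent.Lib.Helper4.CurvePt.range_ptIdeal p hp).le
  have hIinv := Groth.Agent.Lib.Helper4.NormPt.isInvertible_idealMod_local k X hdim D p hr (hpid p)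
  have hTinv := Groth.Agent.Lib.Helper23.SecTw.isInvertible_tensorMod hIinv hM
  have hZ : topologicalKrullDim (D.support : Set X) ≤ 0 := by
    rw [hD, Scheme.IdealSheafData.coe_support_vanishingIdeal]
    change topologicalKrullDim (({p} : Set X)) ≤ 0
    haveI : Subsingleton (({p} : Set X)) := (Set.uniqueSingleton p).instSubsingleton
    exact topologicalKrullDim_zero_of_discreteTopology _
  have hχT := Groth.Agent.Lib.Helper4.CurveSpecial.euler_idealMod_tensor k X M hM D hZ
  have cQ := Groth.Agent.Lib.Helper4.CurvePt.isCoh_quotMod k X D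
  have hq : 1 ≤ Module.finrank k (Coh.HH X (ClSub.quotMod D) 0) := by
    haveI : Module.Finite k (Coh.HH X (ClSub.quotMod D) 0) := Groth.Agent.S0002.result k X _ cQ 0
    haveI := Groth.Agent.Lib.Helper4.CurvePt.nonempty_pt p hp
    haveI : Nontrivial Γ(D.subscheme, ⊤) := by
      obtain ⟨y⟩ := (inferInstance : Nonempty D.subscheme)
      exact @Scheme.component_nontrivial D.subscheme ⊤ ⟨⟨y, trivial⟩⟩
    haveI : Nontrivial (Coh.HH X (ClSub.quotMod D) 0) :=
      (Groth.Agent.Lib.Helper4.CurvePt.pushEquiv D.subschemeι).toEquiv.nontrivial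
    exact Module.finrank_pos
  have hnn := Groth.Agent.Lib.Helper6.CurveDeg.deg_nonneg k X hdim _ hTinv t htne
  have hdT : Curv2.deg k X (CohB1.tensorMod (ClSub.idealMod D) M) 1 =
      1 - (Module.finrank k (Coh.HH X (ClSub.quotMod D) 0) : ℤ) := by
    unfold Curv2.deg
    rw [hχT, hχM, hχO]
    push_cast
    ring
  have hq' : (1 : ℤ) ≤ Module.finrank k (Coh.HH X (ClSub.quotMod D) 0) := by exact_mod_cast hq
  have hδ : Module.finrank k (Coh.HH X (ClSub.quotMod D) 0) = 1 := by
    have : (Module.finrank k (Coh.HH X (ClSub.quotMod D) 0) : ℤ) = 1 := by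
      rw [hdT] at hnn
      linarith
    exact_mod_cast this
  refine ⟨hδ, ?_⟩
  have hle : Curv2.deg k X (CohB1.tensorMod (ClSub.idealMod D) M) 1 ≤ 0 := by
    rw [hdT, hδ]
    norm_num
  haveI := Groth.Agent.Lib.Helper6.CurveDeg.iso_of_deg_le_zero k X hdim _ hTinv t htne hle
  exact ⟨asIso t⟩

end Exist


section Uniq

variable (k : Type u) [Field k] (X : Scheme.{u}) [X.Over (Spec (CommRingCat.of k))]
  [IsProper (X ↘ (Spec (CommRingCat.of k)))] [IsIntegral X]

omit [X.Over (Spec (CommRingCat.of k))] [IsProper (X ↘ (Spec (CommRingCat.of k)))] [IsIntegral X] in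
/-- the section of `N` coming from `O ≅ I_p ⊗ N` generates `N` away from `p` -/
theorem stalkL_surjective_of_iso (p : X) (hp : IsClosed ({p} : Set X)) (N : X.Modules)
    (hN : PicF.IsInvertible N)
    (e : Coh.structureModule X ≅
      CohB1.tensorMod (ClSub.idealMod (Scheme.IdealSheafData.vanishingIdeal (⟨{p}, hp⟩ : Closeds X))) N)
    (x : X) (hx : x ≠ p) :
    ∃ s : Coh.structureModule X ⟶ N, Function.Surjective (stalkL s x) := by
  set D := Scheme.IdealSheafData.vanishingIdeal (⟨{p}, hp⟩ : Closeds X) with hD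
  have hS := Groth.Agent.Lib.Helper27SerreVan.shortExact_tw N hN (idealSES D) (idealSES_shortExact D)
  set S := (idealSES D).map (Groth.Agent.Lib.Helper27SerreVan.tw N) with hSdef
  let u := Groth.Agent.Lib.Helper23.TensorUnit.unitTensorIso N
  let f : CohB1.tensorMod (ClSub.idealMod D) N ⟶ CohB1.tensorMod (Coh.structureModule X) N := S.f
  refine ⟨e.hom ≫ f ≫ u.hom, ?_⟩
  intro z
  haveI : Subsingleton (S.X₃.presheaf.stalk x) :=
    Groth.Agent.Lib.Helper6.GG2g.subsingleton_stalk_quotMod_tensor p hp N x hx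
  obtain ⟨w, hw⟩ := (stalkL_exact S hS x (stalkL u.inv x z)).1 (Subsingleton.elim _ _)
  have hw' : stalkL f x w = stalkL u.inv x z := hw
  refine ⟨stalkL e.inv x w, ?_⟩
  have h1 : stalkL e.hom x (stalkL e.inv x w) = w := by
    rw [← stalkL_comp_apply, Iso.inv_hom_id, stalkL_id]
    rfl
  have h2 : stalkL u.hom x (stalkL u.inv x z) = z := by
    rw [← stalkL_comp_apply, Iso.inv_hom_id, stalkL_id]
    rfl
  rw [stalkL_comp_apply, stalkL_comp_apply, h1, hw', h2]

/-- two rational points `p, q` with `I_p ⊗ N ≅ O ≅ I_q ⊗ N` and `h⁰(N) = h⁰(O) = 1` coincide -/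
theorem point_unique (hdim : topologicalKrullDim X = 1) (p q : X) (hp : IsClosed ({p} : Set X))
    (hq : IsClosed ({q} : Set X)) (hpidq : IsPrincipalIdealRing (X.presheaf.stalk q))
    (h0q : Module.finrank k (Coh.HH X (ClSub.quotMod
      (Scheme.IdealSheafData.vanishingIdeal (⟨{q}, hq⟩ : Closeds X))) 0) = 1)
    (N : X.Modules) (hN : PicF.IsInvertible N)
    (h0N : Module.finrank k (Coh.HH X N 0) = 1)
    (h0O : Module.finrank k (Coh.HH X (Coh.structureModule X) 0) = 1)
    (ep : Coh.structureModule X ≅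
      CohB1.tensorMod (ClSub.idealMod (Scheme.IdealSheafData.vanishingIdeal (⟨{p}, hp⟩ : Closeds X))) N)
    (eq : Coh.structureModule X ≅
      CohB1.tensorMod (ClSub.idealMod (Scheme.IdealSheafData.vanishingIdeal (⟨{q}, hq⟩ : Closeds X))) N) :
    q = p := by
  by_contra hne
  obtain ⟨s, hs⟩ := stalkL_surjective_of_iso X p hp N hN ep q hne
  obtain ⟨-, -, h3⟩ := Groth.Agent.Lib.Helper6.RatTwist.twist_point k X hdim q hq hpidq h0q N hN
  have h := h3 ⟨s, hs⟩
  rw [← (Groth.Agent.Lib.Helper4.CurveChi.HHequiv k eq 0).finrank_eq, h0O, h0N] at h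
  norm_num at h

end Uniq


section Tensor

open Groth.Agent.Lib.Helper23.TensorUnit Groth.Agent.Lib.Helper23.LocGen Groth.Agent.Lib.Helper23.AmpleFam2

variable {X : Scheme.{u}}

/-- `e ⊗ G` -/
noncomputable def wlIso {L L' : X.Modules} (e : L ≅ L') (G : X.Modules) :
    CohB1.tensorMod L G ≅ CohB1.tensorMod L' G where
  hom := wl e.hom G
  inv := wl e.inv G
  hom_inv_id := by rw [← wl_comp, e.hom_inv_id, wl_id]
  inv_hom_id := by rw [← wl_comp, e.inv_hom_id, wl_id]

theorem wr_id (L G : X.Modules) : wr L (𝟙 G) = 𝟙 _ := (Groth.Agent.Lib.Helper27GlobGenPn.tl L).map_id G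

theorem wr_comp (L : X.Modules) {G G' G'' : X.Modules} (h : G ⟶ G') (h' : G' ⟶ G'') :
    wr L (h ≫ h') = wr L h ≫ wr L h' := (Groth.Agent.Lib.Helper27GlobGenPn.tl L).map_comp h h'

/-- `L ⊗ e` -/
noncomputable def wrIso (L : X.Modules) {G G' : X.Modules} (e : G ≅ G') :
    CohB1.tensorMod L G ≅ CohB1.tensorMod L G' where
  hom := wr L e.hom
  inv := wr L e.inv
  hom_inv_id := by rw [← wr_comp, e.hom_inv_id, wr_id]
  inv_hom_id := by rw [← wr_comp, e.inv_hom_id, wr_id]

/-- `O ≅ P ⊗ (L ⊗ J)` and `I ⊗ J ≅ O` give `L ⊗ P ≅ I` -/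
theorem cancel1 (P L J I : X.Modules)
    (t : Coh.structureModule X ≅ CohB1.tensorMod P (CohB1.tensorMod L J))
    (e₀ : CohB1.tensorMod I J ≅ Coh.structureModule X) : Nonempty (CohB1.tensorMod L P ≅ I) := by
  let a1 : I ≅ CohB1.tensorMod (Coh.structureModule X) I := (unitTensorIso I).symm
  let a2 : CohB1.tensorMod (Coh.structureModule X) I ≅
      CohB1.tensorMod (CohB1.tensorMod P (CohB1.tensorMod L J)) I := wlIso t I
  let a3 : CohB1.tensorMod (CohB1.tensorMod P (CohB1.tensorMod L J)) I ≅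
      CohB1.tensorMod P (CohB1.tensorMod (CohB1.tensorMod L J) I) := tensorAssoc _ _ _
  let a4 : CohB1.tensorMod (CohB1.tensorMod L J) I ≅ CohB1.tensorMod L (CohB1.tensorMod J I) :=
    tensorAssoc _ _ _
  let a5 : CohB1.tensorMod J I ≅ Coh.structureModule X := tensorBraid J I ≪≫ e₀
  let a6 : CohB1.tensorMod L (CohB1.tensorMod J I) ≅ CohB1.tensorMod L (Coh.structureModule X) :=
    wrIso L a5
  let a7 : CohB1.tensorMod L (Coh.structureModule X) ≅ L := tensorUnitIso L
  let a47 : CohB1.tensorMod (CohB1.tensorMod L J) I ≅ L := a4 ≪≫ a6 ≪≫ a7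
  let a8 : CohB1.tensorMod P (CohB1.tensorMod (CohB1.tensorMod L J) I) ≅ CohB1.tensorMod P L :=
    wrIso P a47
  let a9 : CohB1.tensorMod P L ≅ CohB1.tensorMod L P := tensorBraid P L
  exact ⟨(a1 ≪≫ a2 ≪≫ a3 ≪≫ a8 ≪≫ a9).symm⟩

/-- `L ⊗ P ≅ I` and `I ⊗ J ≅ O` give `O ≅ P ⊗ (L ⊗ J)` -/
theorem cancel2 (P L J I : X.Modules) (a : CohB1.tensorMod L P ≅ I)
    (e₀ : CohB1.tensorMod I J ≅ Coh.structureModule X) :
    Nonempty (Coh.structureModule X ≅ CohB1.tensorMod P (CohB1.tensorMod L J)) := by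
  let b1 : CohB1.tensorMod P (CohB1.tensorMod L J) ≅ CohB1.tensorMod (CohB1.tensorMod P L) J :=
    (tensorAssoc P L J).symm
  let b2 : CohB1.tensorMod (CohB1.tensorMod P L) J ≅ CohB1.tensorMod (CohB1.tensorMod L P) J :=
    wlIso (tensorBraid P L) J
  let b3 : CohB1.tensorMod (CohB1.tensorMod L P) J ≅ CohB1.tensorMod I J := wlIso a J
  exact ⟨(b1 ≪≫ b2 ≪≫ b3 ≪≫ e₀).symm⟩

end Tensor


section Main

variable (k : Type u) [Field k] (X : Scheme.{u}) [X.Over (Spec (CommRingCat.of k))]
  [IsProper (X ↘ Spec (CommRingCat.of k))] [Smooth (X ↘ Spec (CommRingCat.of k))]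
  [GeometricallyConnected (X ↘ Spec (CommRingCat.of k))]

/-- **S14341**: on a smooth proper geometrically connected curve of genus one with a rational point `O`,
every invertible module of degree zero is `O(P - O)` for a unique rational point `P` -/
theorem main (hX : topologicalKrullDim X = 1) (hg : Curv2.genus k X = 1) (O : X)
    (hOc : IsClosed ({O} : Set X)) (hO : Function.Bijective (Curv2.resMap k X O)) (L : X.Modules)
    (hL : PicF.IsInvertible L) (hdeg : Curv2.deg k X L 1 = 0) :
    ∃! P : {x : X // IsClosed ({x} : Set X) ∧ Function.Bijective (Curv2.resMap k X x)},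
      Nonempty (CohB1.tensorMod L (ClSub.idealMod (Scheme.IdealSheafData.vanishingIdeal ⟨{P.1}, P.2.1⟩)) ≅
        ClSub.idealMod (Scheme.IdealSheafData.vanishingIdeal ⟨{O}, hOc⟩)) := by
  haveI : IsIntegral X :=
    Groth.Agent.Lib.Helper4.CurveBun.isIntegral_of_smooth_geomConn k X (X ↘ Spec (CommRingCat.of k))
  haveI : IsLocallyNoetherian X := LocallyOfFiniteType.isLocallyNoetherian (X ↘ (Spec (CommRingCat.of k)))
  have hpid := Groth.Agent.Lib.Helper4.CurveBun.pidStalks_of_smooth k X (X ↘ Spec (CommRingCat.of k)) hX.le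
  have h0O := Groth.Agent.Lib.Helper6.G1Pt.finrank_hh0_eq_one_of_ratPoint k X O hO.2
  set DO := Scheme.IdealSheafData.vanishingIdeal (⟨{O}, hOc⟩ : Closeds X) with hDO
  have hδO : Module.finrank k (Coh.HH X (ClSub.quotMod DO) 0) = 1 :=
    (finrank_hh0_quotMod_eq_one_iff k X O hOc).2 hO
  have hrO : Set.range DO.subschemeι ⊆ {O} := (Groth.Agent.Lib.Helper4.CurvePt.range_ptIdeal O hOc).le
  have hIinv := Groth.Agent.Lib.Helper4.NormPt.isInvertible_idealMod_local k X hX DO O hrO (hpid O)
  have hIdeg : Curv2.deg k X (ClSub.idealMod DO) 1 = -1 := by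
    rw [Groth.Agent.Lib.Helper4.CurvePt.deg_idealMod k X DO O hrO, hδO]
    rfl
  have hJinv := Groth.Agent.Lib.Helper23.InvDual.isInvertible_dual _ hIinv
  obtain ⟨e₀⟩ := Groth.Agent.Lib.Helper23.InvDual.nonempty_tensorMod_dual_iso _ hIinv
  have hI1 := Groth.Agent.Lib.Helper23.SecTw.isFinLocFreeOfRank_one_of_isInvertible _ hIinv
  have hJ1 := Groth.Agent.Lib.Helper23.SecTw.isFinLocFreeOfRank_one_of_isInvertible _ hJinv
  have hL1 := Groth.Agent.Lib.Helper23.SecTw.isFinLocFreeOfRank_one_of_isInvertible _ hL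
  have h3 : Curv2.deg k X (Coh.structureModule X) (1 * 1) = 0 := by
    rw [Nat.mul_one]
    exact Groth.Agent.Lib.Helper6.CurveDeg.deg_structureModule k X
  have hJdeg : Curv2.deg k X (RefHull.dual (ClSub.idealMod DO)) 1 = 1 := by
    have h2 := Groth.Agent.Lib.Helper4.CurveDegT.deg_tensor k X hX.le 1 1 (ClSub.idealMod DO) _ hI1 hJ1
    rw [Groth.Agent.Lib.Helper4.CurveSSAb.deg_congr_iso k X e₀ (1 * 1), h3, hIdeg] at h2
    push_cast at h2
    linarith
  have hMinv := Groth.Agent.Lib.Helper23.SecTw.isInvertible_tensorMod hL hJinv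
  have hMdeg : Curv2.deg k X (CohB1.tensorMod L (RefHull.dual (ClSub.idealMod DO))) 1 = 1 := by
    have h2 := Groth.Agent.Lib.Helper4.CurveDegT.deg_tensor k X hX.le 1 1 L _ hL1 hJ1
    rw [hJdeg, hdeg] at h2
    have h4 : Curv2.deg k X (CohB1.tensorMod L (RefHull.dual (ClSub.idealMod DO))) (1 * 1) =
        Curv2.deg k X (CohB1.tensorMod L (RefHull.dual (ClSub.idealMod DO))) 1 := by rw [Nat.mul_one]
    rw [h4] at h2
    push_cast at h2
    linarith
  have h0M := h0_of_deg_one k X hX h0O hg _ hMinv hMdeg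
  obtain ⟨p, hp, hδ, ⟨t⟩⟩ := exists_point_of_deg_one k X hX hpid h0O hg _ hMinv hMdeg
  have hrat := (finrank_hh0_quotMod_eq_one_iff k X p hp).1 hδ
  refine ⟨⟨p, hp, hrat⟩, cancel1 _ L _ _ t e₀, ?_⟩
  rintro ⟨q, hq, hqrat⟩ ⟨a⟩
  apply Subtype.ext
  change q = p
  have hδq := (finrank_hh0_quotMod_eq_one_iff k X q hq).2 hqrat
  obtain ⟨t'⟩ := cancel2 _ L _ _ a e₀
  exact point_unique k X hX p q hp hq (hpid q) hδq _ hMinv h0M h0O t t'

end Main

end Groth.Agent.Lib.Helper6.G1Pic
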