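import Groth.Agent.Lib.Helper6Koszul
import Groth.Agent.Lib.Helper4CurveSSAb

/-!
# Pencil computations on curves of genus nine and Clifford index three (helper6): S16319, S16320, S16322
-/

set_option autoImplicit false
set_option linter.style.haveILetI false
universe u
open CategoryTheory Limits AlgebraicGeometry Opposite TopologicalSpace

namespace Groth.Agent.Lib.Helper6.Genus9

open Groth.Agent.Lib.Helper23.SecTw Groth.Agent.Lib.Helper27GlobGenPn
  Groth.Agent.Lib.Helper6.NegFilt Groth.Agent.Lib.Helper6.G12 Groth.Agent.Lib.Helper6.Koszul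
  Groth.Agent.Lib.Helper4.CurveBun Groth.Agent.Lib.Helper4.DegAdd Groth.Agent.Lib.Helper4.CurveRR
  Groth.Agent.Lib.Helper4.Dev Groth.Agent.Lib.Helper6.CurveDeg Groth.Agent.Lib.Helper4.CurveChi
  Groth.Agent.Lib.Helper4.CurveAsym

section Iso

variable {X : Scheme.{u}}

/-- `K ⊗ (P ⊗ D) ≅ P` when `K ⊗ D ≅ O` -/
noncomputable def kIso (K D P : X.Modules) (eK : CohB1.tensorMod K D ≅ Coh.structureModule X) :
    CohB1.tensorMod K (CohB1.tensorMod P D) ≅ P :=
  Groth.Agent.Lib.Helper23.AmpleFam2.tensorBraid K (CohB1.tensorMod P D) ≪≫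
    Groth.Agent.Lib.Helper23.LocGen.tensorAssoc P D K ≪≫
    gIso P (Groth.Agent.Lib.Helper23.AmpleFam2.tensorBraid D K ≪≫ eK) ≪≫
    Groth.Agent.Lib.Helper23.TensorUnit.tensorUnitIso P

end Iso

variable (k : Type u) [Field k] (X : Scheme.{u}) [X.Over (Spec (CommRingCat.of k))]
  [IsIntegral X] [IsProper (X ↘ Spec (CommRingCat.of k))]

/-- an invertible module of degree zero with a nonzero section is trivial -/
theorem trivial_of_deg_zero [IsAlgClosed k] (hpid : PIDStalks X) (hdim : topologicalKrullDim X = 1)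
    (L : X.Modules) (hL : PicF.IsInvertible L) (hd : Curv2.deg k X L 1 = 0)
    (h0 : Module.finrank k (Coh.HH X L 0) ≠ 0) : Nonempty (L ≅ Coh.structureModule X) := by
  haveI : IsLocallyNoetherian X := isLocallyNoetherian_of_proper k X
  rw [← finrank_hom_eq k] at h0
  have hex : ∃ v : Coh.structureModule X ⟶ L, v ≠ 0 := by
    by_contra hall
    push Not at hall
    haveI : Subsingleton (Coh.structureModule X ⟶ L) := ⟨fun a b => by rw [hall a, hall b]⟩
    exact h0 Module.finrank_zero_of_subsingleton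
  obtain ⟨v, hv⟩ := hex
  have hO1 : FlatMod.IsFinLocFreeOfRank 1 (Coh.structureModule X) :=
    isFinLocFreeOfRank_one_of_isInvertible _
      (Groth.Agent.Lib.Helper23.TensorUnit.isInvertible_structureModule X)
  have hL1 := isFinLocFreeOfRank_one_of_isInvertible L hL
  obtain ⟨-, -, hiso⟩ := Groth.Agent.Lib.Helper4.CurveRk2.hom_rank_one k X hpid hdim hO1 hL1 v hv
  haveI : IsIso v := hiso (by rw [deg_structureModule, hd])
  exact ⟨(asIso v).symm⟩

/-- the pencil inequalities along the powers of `D` -/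
theorem pencil_pow [IsAlgClosed k] (hpid : PIDStalks X) (hdim : topologicalKrullDim X = 1)
    (D : X.Modules) (hD : PicF.IsInvertible D) (hgg : Curv2.IsGloballyGenerated D)
    (h0 : Module.finrank k (Coh.HH X D 0) = 2) (m : ℕ) :
    2 * Module.finrank k (Coh.HH X (CohB1.tensorPow D (m + 1)) 0) ≤
        Module.finrank k (Coh.HH X (CohB1.tensorPow D m) 0) +
          Module.finrank k (Coh.HH X (CohB1.tensorPow D (m + 2)) 0) ∧
      2 * Module.finrank k (Coh.HH X (CohB1.tensorPow D (m + 1)) 1) ≤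
        Module.finrank k (Coh.HH X (CohB1.tensorPow D m) 1) +
          Module.finrank k (Coh.HH X (CohB1.tensorPow D (m + 2)) 1) := by
  obtain ⟨K, hK, hdK, ⟨eK⟩, hP⟩ := pencil k X hpid hdim D hD hgg h0
  obtain ⟨P1, P2⟩ := hP (CohB1.tensorPow D (m + 1)) (isInvertible_tensorPow hD (m + 1))
  have i1 : CohB1.tensorMod K (CohB1.tensorPow D (m + 1)) ≅ CohB1.tensorPow D m :=
    kIso K D (CohB1.tensorPow D m) eK
  have i2 : CohB1.tensorMod D (CohB1.tensorPow D (m + 1)) ≅ CohB1.tensorPow D (m + 2) :=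
    Groth.Agent.Lib.Helper23.AmpleFam2.tensorBraid D (CohB1.tensorPow D (m + 1))
  rw [(HHequiv k i1 0).finrank_eq, (HHequiv k i2 0).finrank_eq] at P1
  rw [(HHequiv k i1 1).finrank_eq, (HHequiv k i2 1).finrank_eq] at P2
  exact ⟨P1, P2⟩

/-- S16322 -/
theorem s16322 [IsAlgClosed k] (hpid : PIDStalks X) (hdim : topologicalKrullDim X = 1)
    (hg : Curv2.genus k X = 9)
    (hmin : ∀ M : X.Modules, PicF.IsInvertible M → 2 ≤ Module.finrank k (Coh.HH X M 0) →
      2 ≤ Module.finrank k (Coh.HH X M 1) → 2 * (Module.finrank k (Coh.HH X M 0) : ℤ) + 1 ≤ Curv2.deg k X M 1)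
    (D₁ D₂ : X.Modules) (h₁ : PicF.IsInvertible D₁) (h₂ : PicF.IsInvertible D₂)
    (hg₁ : Curv2.IsGloballyGenerated D₁)
    (hd₁ : Curv2.deg k X D₁ 1 = 5) (hd₂ : Curv2.deg k X D₂ 1 = 5)
    (h0₁ : Module.finrank k (Coh.HH X D₁ 0) = 2) (h0₂ : Module.finrank k (Coh.HH X D₂ 0) = 2)
    (hne : IsEmpty (D₁ ≅ D₂)) :
    Module.finrank k (Coh.HH X (CohB1.tensorMod D₁ D₂) 0) = 4 := by
  obtain ⟨K, hK, hdK, ⟨eK⟩, hP⟩ := pencil k X hpid hdim D₁ h₁ hg₁ h0₁
  obtain ⟨P1, -⟩ := hP D₂ h₂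
  have hKD2 := isInvertible_tensorMod hK h₂
  have hD1D2 := isInvertible_tensorMod h₁ h₂
  obtain ⟨-, hdKD⟩ := Groth.Agent.Lib.Helper6.H0Crit.rtwist_rank_deg k X hpid hdim D₂ h₂ 1 K
    (isFinLocFreeOfRank_one_of_isInvertible K hK)
  obtain ⟨-, hdDD⟩ := Groth.Agent.Lib.Helper6.H0Crit.rtwist_rank_deg k X hpid hdim D₂ h₂ 1 D₁
    (isFinLocFreeOfRank_one_of_isInvertible D₁ h₁)
  have hz : Module.finrank k (Coh.HH X (CohB1.tensorMod K D₂) 0) = 0 := by
    by_contra hnz
    obtain ⟨e2⟩ := trivial_of_deg_zero k X hpid hdim _ hKD2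
      (by rw [hdKD, hdK, hd₁, hd₂]; norm_num) hnz
    obtain ⟨e⟩ := cancel_left K D₁ D₂ hK (eK ≪≫ e2.symm)
    exact hne.false e
  have r := rr k X hdim _ hD1D2
  rw [hdDD, hd₁, hd₂, hg] at r
  push_cast at r
  rw [hz, h0₂] at P1
  by_contra hne4
  have hb : 2 ≤ Module.finrank k (Coh.HH X (CohB1.tensorMod D₁ D₂) 1) := by omega
  have h5 := hmin _ hD1D2 (by omega) hb
  rw [hdDD, hd₁, hd₂] at h5
  push_cast at h5
  omega

/-- the degree of a tensor power -/
theorem deg_tensorPow [IsAlgClosed k] (hpid : PIDStalks X) (hdim : topologicalKrullDim X = 1)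
    (D : X.Modules) (hD : PicF.IsInvertible D) (n : ℕ) :
    Curv2.deg k X (CohB1.tensorPow D n) 1 = (n : ℤ) * Curv2.deg k X D 1 := by
  induction n with
  | zero =>
    change Curv2.deg k X (Coh.structureModule X) 1 = _
    rw [deg_structureModule]
    simp
  | succ n ih =>
    obtain ⟨-, h⟩ := Groth.Agent.Lib.Helper6.H0Crit.rtwist_rank_deg k X hpid hdim D hD 1
      (CohB1.tensorPow D n) (isFinLocFreeOfRank_one_of_isInvertible _ (isInvertible_tensorPow hD n))
    change Curv2.deg k X (CohB1.tensorMod (CohB1.tensorPow D n) D) 1 = _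
    rw [h, ih]
    push_cast
    ring

/-- S16320 -/
theorem s16320 [IsAlgClosed k] (hpid : PIDStalks X) (hdim : topologicalKrullDim X = 1)
    (hg : Curv2.genus k X = 9)
    (hmin : ∀ M : X.Modules, PicF.IsInvertible M → 2 ≤ Module.finrank k (Coh.HH X M 0) →
      2 ≤ Module.finrank k (Coh.HH X M 1) → 2 * (Module.finrank k (Coh.HH X M 0) : ℤ) + 1 ≤ Curv2.deg k X M 1)
    (D : X.Modules) (hD : PicF.IsInvertible D) (hgD : Curv2.IsGloballyGenerated D)
    (hdD : Curv2.deg k X D 1 = 5) (h0D : Module.finrank k (Coh.HH X D 0) = 2) :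
    (Module.finrank k (Coh.HH X (CohB1.tensorPow D 2) 0) = 3 ∨
        Module.finrank k (Coh.HH X (CohB1.tensorPow D 2) 0) = 4) ∧
      (Module.finrank k (Coh.HH X (CohB1.tensorPow D 3) 0) = 7 ∨
        Module.finrank k (Coh.HH X (CohB1.tensorPow D 3) 0) = 8) ∧
      (Module.finrank k (Coh.HH X (CohB1.tensorPow D 2) 0) = 3 →
        Module.finrank k (Coh.HH X (CohB1.tensorPow D 3) 0) = 7) := by
  have hinv := fun n => isInvertible_tensorPow hD n
  have hdeg := fun n => deg_tensorPow k X hpid hdim D hD n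
  have hrr := fun n => rr k X hdim _ (hinv n)
  have a0 : Module.finrank k (Coh.HH X (CohB1.tensorPow D 0) 0) = 1 :=
    Groth.Agent.Lib.Helper6.H0Semi.finrank_hh0_eq_one_of_isAlgClosed k X
  have a1 : Module.finrank k (Coh.HH X (CohB1.tensorPow D 1) 0) = 2 := by
    rw [← h0D]
    exact (HHequiv k (Groth.Agent.Lib.Helper6.GGCurve.lam D) 0).finrank_eq
  have p1 : 2 * Module.finrank k (Coh.HH X (CohB1.tensorPow D 1) 0) ≤
      Module.finrank k (Coh.HH X (CohB1.tensorPow D 0) 0) +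
        Module.finrank k (Coh.HH X (CohB1.tensorPow D 2) 0) :=
    (pencil_pow k X hpid hdim D hD hgD h0D 0).1
  have q3 : 2 * Module.finrank k (Coh.HH X (CohB1.tensorPow D 3) 1) ≤
      Module.finrank k (Coh.HH X (CohB1.tensorPow D 2) 1) +
        Module.finrank k (Coh.HH X (CohB1.tensorPow D 4) 1) :=
    (pencil_pow k X hpid hdim D hD hgD h0D 2).2
  have r2 := hrr 2
  have r3 := hrr 3
  have r4 := hrr 4
  rw [hdeg, hdD, hg] at r2 r3 r4
  push_cast at r2 r3 r4
  have m2 := hmin _ (hinv 2)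
  have m3 := hmin _ (hinv 3)
  rw [hdeg, hdD] at m2 m3
  push_cast at m2 m3
  have c4 := h0_cases k X hpid hdim _ (hinv 4)
  rw [hdeg, hdD, hg] at c4
  push_cast at c4
  rw [a0, a1] at p1
  have hb4 : Module.finrank k (Coh.HH X (CohB1.tensorPow D 4) 1) = 0 := by
    rcases c4 with c | c | c <;> omega
  have ha2 : Module.finrank k (Coh.HH X (CohB1.tensorPow D 2) 0) ≤ 4 := by
    by_contra hcon
    have := m2 (by omega) (by omega)
    omega
  have hb3 : Module.finrank k (Coh.HH X (CohB1.tensorPow D 3) 1) ≤ 1 := by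
    by_contra hcon
    have := m3 (by omega) (by omega)
    omega
  refine ⟨by omega, by omega, ?_⟩
  intro h3
  omega

/-- S16319 -/
theorem s16319 [IsAlgClosed k] (hpid : PIDStalks X) (hdim : topologicalKrullDim X = 1)
    (hg : Curv2.genus k X = 9)
    (hmin : ∀ M : X.Modules, PicF.IsInvertible M → 2 ≤ Module.finrank k (Coh.HH X M 0) →
      2 ≤ Module.finrank k (Coh.HH X M 1) → 2 * (Module.finrank k (Coh.HH X M 0) : ℤ) + 1 ≤ Curv2.deg k X M 1)
    (H : X.Modules) (hH : PicF.IsInvertible H) (hdH : Curv2.deg k X H 1 = 7)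
    (h0H : Module.finrank k (Coh.HH X H 0) = 3)
    (D : X.Modules) (hD : PicF.IsInvertible D) (hgD : Curv2.IsGloballyGenerated D)
    (hdD : Curv2.deg k X D 1 = 5) (h0D : Module.finrank k (Coh.HH X D 0) = 2)
    (N : X.Modules) (e : CohB1.tensorMod D N ≅ H) :
    Module.finrank k (Coh.HH X N 0) = 1 := by
  obtain ⟨e0⟩ := Groth.Agent.Lib.Helper23.InvDual.nonempty_tensorMod_dual_iso D hD
  have hDd := Groth.Agent.Lib.Helper23.InvDual.isInvertible_dual D hD
  have eN : N ≅ CohB1.tensorMod (RefHull.dual D) H :=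
    fIso (RefHull.dual D) D N
      (Groth.Agent.Lib.Helper23.AmpleFam2.tensorBraid (RefHull.dual D) D ≪≫ e0) ≪≫
      gIso (RefHull.dual D) e
  have hN : PicF.IsInvertible N :=
    Groth.Agent.Lib.Helper23.AmpleIso.isInvertible_of_iso eN.symm (isInvertible_tensorMod hDd hH)
  obtain ⟨-, hdDN⟩ := Groth.Agent.Lib.Helper6.H0Crit.rtwist_rank_deg k X hpid hdim N hN 1 D
    (isFinLocFreeOfRank_one_of_isInvertible D hD)
  have hdN : Curv2.deg k X N 1 = 2 := by
    have h1 := Groth.Agent.Lib.Helper4.CurveSSAb.deg_congr_iso k X e 1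
    rw [hdDN, hdD, hdH] at h1
    push_cast at h1
    linarith
  obtain ⟨K, hK, hdK, ⟨eK⟩, hP⟩ := pencil k X hpid hdim D hD hgD h0D
  obtain ⟨P1, -⟩ := hP H hH
  have i1 : CohB1.tensorMod K H ≅ N := gIso K e.symm ≪≫ (fIso K D N eK).symm
  rw [(HHequiv k i1 0).finrank_eq, h0H] at P1
  have hDH := isInvertible_tensorMod hD hH
  obtain ⟨-, hdDH⟩ := Groth.Agent.Lib.Helper6.H0Crit.rtwist_rank_deg k X hpid hdim H hH 1 D
    (isFinLocFreeOfRank_one_of_isInvertible D hD)
  have rN := rr k X hdim N hN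
  have rDH := rr k X hdim _ hDH
  rw [hdN, hg] at rN
  rw [hdDH, hdD, hdH, hg] at rDH
  push_cast at rN rDH
  have mN := hmin N hN
  have mDH := hmin _ hDH
  rw [hdN] at mN
  rw [hdDH, hdD, hdH] at mDH
  push_cast at mDH
  have hN1 : Module.finrank k (Coh.HH X N 0) ≤ 1 := by
    by_contra hcon
    have := mN (by omega) (by omega)
    omega
  have hDH5 : Module.finrank k (Coh.HH X (CohB1.tensorMod D H) 0) ≤ 5 := by
    by_contra hcon
    have := mDH (by omega) (by omega)
    omega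
  omega

end Groth.Agent.Lib.Helper6.Genus9
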