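import Groth.Prelude
import Mathlib

/-! EGA IV 4.5: geometric irreducibility / connectedness under surjections and field extension. -/

open AlgebraicGeometry CategoryTheory CategoryTheory.Limits MorphismProperty TensorProduct

namespace Groth.Agent.Lib.Helper6

universe u



/-- If `P` passes to surjective images, then geometrically-`P` passes to surjective images. -/
theorem geometrically_of_surjective (P : ObjectProperty Scheme.{u})
    (hP : ∀ {Z' Z : Scheme.{u}} (φ : Z' ⟶ Z) [Surjective φ], P Z' → P Z)
    {X Y S : Scheme.{u}} (f : X ⟶ S) (g : Y ⟶ S) (h : X ⟶ Y) (w : h ≫ g = f)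
    [Surjective h] (hf : geometrically P f) : geometrically P g := by
  intro K _ y Z fst snd hZ
  have hsq : IsPullback (pullback.fst h fst) (pullback.snd h fst ≫ snd) (h ≫ g) y :=
    (IsPullback.of_hasPullback h fst).paste_vert hZ
  rw [w] at hsq
  have hP' : P (pullback h fst) := hf y _ _ hsq
  exact hP (pullback.snd h fst) hP'

theorem geometricallyIrreducible_of_surjective {X Y S : Scheme.{u}} (f : X ⟶ S) (g : Y ⟶ S)
    (h : X ⟶ Y) (w : h ≫ g = f) [Surjective h] [GeometricallyIrreducible f] :
    GeometricallyIrreducible g := by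
  rw [GeometricallyIrreducible.eq_geometrically]
  refine geometrically_of_surjective _ ?_ f g h w
    (GeometricallyIrreducible.geometrically_irreducibleSpace)
  intro Z' Z φ _ hZ'
  have : IrreducibleSpace Z' := hZ'
  exact Function.Surjective.irreducibleSpace φ.base.hom.continuous φ.surjective

theorem geometricallyConnected_of_surjective {X Y S : Scheme.{u}} (f : X ⟶ S) (g : Y ⟶ S)
    (h : X ⟶ Y) (w : h ≫ g = f) [Surjective h] [GeometricallyConnected f] :
    GeometricallyConnected g := by
  rw [GeometricallyConnected.eq_geometrically]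
  refine geometrically_of_surjective _ ?_ f g h w
    (GeometricallyConnected.geometrically_connectedSpace)
  intro Z' Z φ _ hZ'
  have : ConnectedSpace Z' := hZ'
  exact Function.Surjective.connectedSpace φ.surjective φ.base.hom.continuous




instance surjective_specMap_of_field {K L : Type u} [Field K] [Field L] (φ : K →+* L) :
    Surjective (Spec.map (CommRingCat.ofHom φ)) := by
  constructor
  intro x
  have : Subsingleton (PrimeSpectrum K) := inferInstance
  exact ⟨(⊥ : PrimeSpectrum L), Subsingleton.elim (α := PrimeSpectrum K) _ _⟩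

/-- A general descent statement: if `P` passes to surjective images and the base change of `f` to
`K` is geometrically `P` over `K`, then `f` is geometrically `P`. -/
theorem geometrically_of_bcStr (P : ObjectProperty Scheme.{u})
    (hP : ∀ {Z' Z : Scheme.{u}} (φ : Z' ⟶ Z) [Surjective φ], P Z' → P Z)
    {k K : Type u} [Field k] [Field K] [Algebra k K]
    {X : Scheme.{u}} (f : X ⟶ Spec (CommRingCat.of k))
    (h : geometrically P (FBase.bcStr f K)) : geometrically P f := by
  intro L _ y Z fst snd hZ
  -- the field `L` as a `k`-algebra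
  let ψ : CommRingCat.of k ⟶ CommRingCat.of L := Spec.preimage y
  have hy : Spec.map ψ = y := Spec.map_preimage y
  let _ : Algebra k L := ψ.hom.toAlgebra
  -- a common extension `Ω` of `K` and `L`
  have hnt : Nontrivial (K ⊗[k] L) :=
    Algebra.TensorProduct.nontrivial_of_algebraMap_injective_of_flat_left (R := k) (A := K)
      (B := L) (algebraMap k L).injective
  obtain ⟨m, hm⟩ := Ideal.exists_maximal (K ⊗[k] L)
  let _ : Field ((K ⊗[k] L) ⧸ m) := Ideal.Quotient.field m
  let a : K →+* (K ⊗[k] L) ⧸ m :=
    (Ideal.Quotient.mk m).comp (Algebra.TensorProduct.includeLeft : K →ₐ[k] K ⊗[k] L).toRingHom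
  let b : L →+* (K ⊗[k] L) ⧸ m :=
    (Ideal.Quotient.mk m).comp (Algebra.TensorProduct.includeRight : L →ₐ[k] K ⊗[k] L).toRingHom
  have hab : a.comp (algebraMap k K) = b.comp ψ.hom := by
    ext c
    simp only [a, b, RingHom.comp_apply, AlgHom.toRingHom_eq_coe, RingHom.coe_coe]
    congr 1
    rw [AlgHom.commutes]
    exact (AlgHom.commutes (Algebra.TensorProduct.includeRight : L →ₐ[k] K ⊗[k] L) c).symm
  have hab' : Spec.map (CommRingCat.ofHom b) ≫ y =
      Spec.map (CommRingCat.ofHom a) ≫ Spec.map (CommRingCat.ofHom (algebraMap k K)) := by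
    rw [← hy, ← Spec.map_comp, ← Spec.map_comp]
    congr 1
    ext c
    exact (congrArg (fun φ : k →+* _ => φ c) hab).symm
  -- the big pullback square
  have big : IsPullback (pullback.fst snd (Spec.map (CommRingCat.ofHom b)) ≫ fst)
      (pullback.snd snd (Spec.map (CommRingCat.ofHom b))) f
      (Spec.map (CommRingCat.ofHom a) ≫ Spec.map (CommRingCat.ofHom (algebraMap k K))) := by
    rw [← hab']
    exact (IsPullback.of_hasPullback snd (Spec.map (CommRingCat.ofHom b))).paste_horiz hZ
  let l : pullback snd (Spec.map (CommRingCat.ofHom b)) ⟶ FBase.bc f K :=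
    pullback.lift (pullback.fst snd (Spec.map (CommRingCat.ofHom b)) ≫ fst)
      (pullback.snd snd (Spec.map (CommRingCat.ofHom b)) ≫ Spec.map (CommRingCat.ofHom a))
      (by rw [Category.assoc, Category.assoc]; exact big.w)
  have sq : IsPullback l (pullback.snd snd (Spec.map (CommRingCat.ofHom b))) (FBase.bcStr f K)
      (Spec.map (CommRingCat.ofHom a)) := by
    refine IsPullback.of_right (h₁₂ := FBase.bcπ f K)
      (h₂₂ := Spec.map (CommRingCat.ofHom (algebraMap k K))) (v₁₃ := f) ?_ ?_
      (IsPullback.of_hasPullback f (Spec.map (CommRingCat.ofHom (algebraMap k K))))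
    · have : l ≫ FBase.bcπ f K = pullback.fst snd (Spec.map (CommRingCat.ofHom b)) ≫ fst :=
        pullback.lift_fst _ _ _
      rw [this]
      exact big
    · exact pullback.lift_snd _ _ _
  have hW : P (pullback snd (Spec.map (CommRingCat.ofHom b))) := h _ _ _ sq
  exact hP (pullback.fst snd (Spec.map (CommRingCat.ofHom b))) hW

theorem geometricallyConnected_iff_bcStr {k K : Type u} [Field k] [Field K] [Algebra k K]
    {X : Scheme.{u}} (f : X ⟶ Spec (CommRingCat.of k)) :
    GeometricallyConnected f ↔ GeometricallyConnected (FBase.bcStr f K) := by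
  constructor
  · intro h
    exact inferInstanceAs (GeometricallyConnected
      (pullback.snd f (Spec.map (CommRingCat.ofHom (algebraMap k K)))))
  · intro h
    rw [GeometricallyConnected.eq_geometrically] at h ⊢
    refine geometrically_of_bcStr _ ?_ f h
    intro Z' Z φ _ hZ'
    have : ConnectedSpace Z' := hZ'
    exact Function.Surjective.connectedSpace φ.surjective φ.base.hom.continuous


end Groth.Agent.Lib.Helper6
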