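import Groth.Prelude
import Mathlib

open AlgebraicGeometry CategoryTheory CategoryTheory.Limits MorphismProperty

namespace Groth.Agent.Lib.Helper6

universe u

/-- If `P` passes to surjective images, then geometrically-`P` descends along surjective base
change. -/
theorem geometrically_of_surjective_baseChange (P : ObjectProperty Scheme.{u})
    (hP : ∀ {Z' Z : Scheme.{u}} (φ : Z' ⟶ Z) [Surjective φ], P Z' → P Z)
    {X Y Y' : Scheme.{u}} (f : X ⟶ Y) (g : Y' ⟶ Y) [Surjective g]
    (h : geometrically P (pullback.snd f g)) : geometrically P f := by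
  intro K _ y Z fst snd hZ
  -- a point of `Spec K ×_Y Y'`
  obtain ⟨w, -⟩ := (pullback.fst y g).surjective (⊥ : PrimeSpectrum K)
  let W := pullback y g
  let c : Spec (W.residueField w) ⟶ Spec (CommRingCat.of K) :=
    W.fromSpecResidueField w ≫ pullback.fst y g
  let y' : Spec (W.residueField w) ⟶ Y' := W.fromSpecResidueField w ≫ pullback.snd y g
  have hc : c ≫ y = y' ≫ g := by
    simp only [c, y', Category.assoc, pullback.condition]
  have : Surjective c := by
    constructor
    intro x
    have : Subsingleton (PrimeSpectrum K) := inferInstance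
    exact ⟨(⊥ : PrimeSpectrum (W.residueField w)), Subsingleton.elim (α := PrimeSpectrum K) _ _⟩
  have big : IsPullback (pullback.fst snd c ≫ fst) (pullback.snd snd c) f (y' ≫ g) := by
    rw [← hc]
    exact (IsPullback.of_hasPullback snd c).paste_horiz hZ
  let l : pullback snd c ⟶ pullback f g :=
    pullback.lift (pullback.fst snd c ≫ fst) (pullback.snd snd c ≫ y')
      (by rw [Category.assoc, Category.assoc]; exact big.w)
  have sq : IsPullback l (pullback.snd snd c) (pullback.snd f g) y' := by
    refine IsPullback.of_right (h₁₂ := pullback.fst f g) (h₂₂ := g) (v₁₃ := f) ?_ ?_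
      (IsPullback.of_hasPullback f g)
    · have : l ≫ pullback.fst f g = pullback.fst snd c ≫ fst := pullback.lift_fst _ _ _
      rw [this]
      exact big
    · exact pullback.lift_snd _ _ _
  have hW : P (pullback snd c) := h (K := W.residueField w) y' l (pullback.snd snd c) sq
  exact hP (pullback.fst snd c) hW

theorem geometricallyIrreducible_of_surjective_baseChange {X Y Y' : Scheme.{u}} (f : X ⟶ Y)
    (g : Y' ⟶ Y) [Surjective g] [GeometricallyIrreducible (pullback.snd f g)] :
    GeometricallyIrreducible f := by
  rw [GeometricallyIrreducible.eq_geometrically]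
  refine geometrically_of_surjective_baseChange _ ?_ f g
    (GeometricallyIrreducible.geometrically_irreducibleSpace)
  intro Z' Z φ _ hZ'
  have : IrreducibleSpace Z' := hZ'
  exact Function.Surjective.irreducibleSpace φ.base.hom.continuous φ.surjective

theorem geometrically_isEmpty_or_connected_of_surjective_baseChange {X Y Y' : Scheme.{u}}
    (f : X ⟶ Y) (g : Y' ⟶ Y) [Surjective g]
    (h : geometrically (fun Z : Scheme.{u} => IsEmpty ↥Z ∨ ConnectedSpace ↥Z) (pullback.snd f g)) :
    geometrically (fun Z : Scheme.{u} => IsEmpty ↥Z ∨ ConnectedSpace ↥Z) f := by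
  refine geometrically_of_surjective_baseChange _ ?_ f g h
  intro Z' Z φ _ hZ'
  rcases hZ' with hZ' | hZ'
  · left
    exact ⟨fun z => by obtain ⟨z', -⟩ := φ.surjective z; exact hZ'.false z'⟩
  · right
    exact Function.Surjective.connectedSpace φ.surjective φ.continuous

end Groth.Agent.Lib.Helper6
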