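import Groth.Prelude
import Mathlib
import Groth.Agent.Lib.Helper6GeomSurj
import Groth.Agent.Lib.Helper6GeomSurjBC

open AlgebraicGeometry CategoryTheory CategoryTheory.Limits MorphismProperty TensorProduct

namespace Groth.Agent.Lib.Helper6

universe u

/-- A general descent statement along field extensions: if `P Z` follows from
`P (Z ×_{Spec L} Spec Ω)` for field extensions `Ω / L`, and the base change of `f` to
`K` is geometrically `P` over `K`, then `f` is geometrically `P`. -/
theorem geometrically_of_bcStr' (P : ObjectProperty Scheme.{u})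
    (hP : ∀ {Z : Scheme.{u}} {L Ω : Type u} [Field L] [Field Ω]
      (snd : Z ⟶ Spec (CommRingCat.of L)) (b : L →+* Ω),
      P (pullback snd (Spec.map (CommRingCat.ofHom b))) → P Z)
    {k K : Type u} [Field k] [Field K] [Algebra k K]
    {X : Scheme.{u}} (f : X ⟶ Spec (CommRingCat.of k))
    (h : geometrically P (FBase.bcStr f K)) : geometrically P f := by
  intro L _ y Z fst snd hZ
  -- the field `L` as a `k`-algebra
  let ψ : CommRingCat.of k ⟶ CommRingCat.of L := Spec.preimage y
  have hy : Spec.map ψ = y := Spec.map_preimage y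
  let _ : Algebra k L := ψ.hom.toAlgebra
  -- a common extension `Ω` of `K` and `L`
  have hnt : Nontrivial (K ⊗[k] L) :=
    Algebra.TensorProduct.nontrivial_of_algebraMap_injective_of_flat_left (R := k) (A := K)
      (B := L) (algebraMap k L).injective
  obtain ⟨m, hm⟩ := Ideal.exists_maximal (K ⊗[k] L)
  let _ : Field ((K ⊗[k] L) ⧸ m) := Ideal.Quotient.field m
  let a : K →+* (K ⊗[k] L) ⧸ m :=
    (Ideal.Quotient.mk m).comp (Algebra.TensorProduct.includeLeft : K →ₐ[k] K ⊗[k] L).toRingHom
  let b : L →+* (K ⊗[k] L) ⧸ m :=
    (Ideal.Quotient.mk m).comp (Algebra.TensorProduct.includeRight : L →ₐ[k] K ⊗[k] L).toRingHom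
  have hab : a.comp (algebraMap k K) = b.comp ψ.hom := by
    ext c
    simp only [a, b, RingHom.comp_apply, AlgHom.toRingHom_eq_coe, RingHom.coe_coe]
    congr 1
    rw [AlgHom.commutes]
    exact (AlgHom.commutes (Algebra.TensorProduct.includeRight : L →ₐ[k] K ⊗[k] L) c).symm
  have hab' : Spec.map (CommRingCat.ofHom b) ≫ y =
      Spec.map (CommRingCat.ofHom a) ≫ Spec.map (CommRingCat.ofHom (algebraMap k K)) := by
    rw [← hy, ← Spec.map_comp, ← Spec.map_comp]
    congr 1
    ext c
    exact (congrArg (fun φ : k →+* _ => φ c) hab).symm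
  -- the big pullback square
  have big : IsPullback (pullback.fst snd (Spec.map (CommRingCat.ofHom b)) ≫ fst)
      (pullback.snd snd (Spec.map (CommRingCat.ofHom b))) f
      (Spec.map (CommRingCat.ofHom a) ≫ Spec.map (CommRingCat.ofHom (algebraMap k K))) := by
    rw [← hab']
    exact (IsPullback.of_hasPullback snd (Spec.map (CommRingCat.ofHom b))).paste_horiz hZ
  let l : pullback snd (Spec.map (CommRingCat.ofHom b)) ⟶ FBase.bc f K :=
    pullback.lift (pullback.fst snd (Spec.map (CommRingCat.ofHom b)) ≫ fst)
      (pullback.snd snd (Spec.map (CommRingCat.ofHom b)) ≫ Spec.map (CommRingCat.ofHom a))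
      (by rw [Category.assoc, Category.assoc]; exact big.w)
  have sq : IsPullback l (pullback.snd snd (Spec.map (CommRingCat.ofHom b))) (FBase.bcStr f K)
      (Spec.map (CommRingCat.ofHom a)) := by
    refine IsPullback.of_right (h₁₂ := FBase.bcπ f K)
      (h₂₂ := Spec.map (CommRingCat.ofHom (algebraMap k K))) (v₁₃ := f) ?_ ?_
      (IsPullback.of_hasPullback f (Spec.map (CommRingCat.ofHom (algebraMap k K))))
    · have : l ≫ FBase.bcπ f K = pullback.fst snd (Spec.map (CommRingCat.ofHom b)) ≫ fst :=
        pullback.lift_fst _ _ _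
      rw [this]
      exact big
    · exact pullback.lift_snd _ _ _
  have hW : P (pullback snd (Spec.map (CommRingCat.ofHom b))) := h _ _ _ sq
  exact hP snd b hW

lemma isSchemeTheoreticallyDominant_specMap_of_field {L Ω : Type u} [Field L] [Field Ω]
    (b : L →+* Ω) : IsSchemeTheoreticallyDominant (Spec.map (CommRingCat.ofHom b)) := by
  have : IsDominant (Spec.map (CommRingCat.ofHom b)) := by
    constructor
    have : Subsingleton (PrimeSpectrum L) := inferInstance
    intro x
    apply subset_closure
    exact ⟨(⊥ : PrimeSpectrum Ω), Subsingleton.elim (α := PrimeSpectrum L) _ _⟩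
  exact IsSchemeTheoreticallyDominant.of_isDominant _

theorem geometricallyReduced_iff_bcStr {k K : Type u} [Field k] [Field K] [Algebra k K]
    {X : Scheme.{u}} (f : X ⟶ Spec (CommRingCat.of k)) :
    GeometricallyReduced f ↔ GeometricallyReduced (FBase.bcStr f K) := by
  constructor
  · intro h
    exact inferInstanceAs (GeometricallyReduced
      (pullback.snd f (Spec.map (CommRingCat.ofHom (algebraMap k K)))))
  · intro h
    rw [GeometricallyReduced.eq_geometrically] at h ⊢
    refine geometrically_of_bcStr' _ ?_ f h
    intro Z L Ω _ _ snd b hZ'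
    have : IsReduced (pullback snd (Spec.map (CommRingCat.ofHom b))) := hZ'
    have := isSchemeTheoreticallyDominant_specMap_of_field b
    exact IsSchemeTheoreticallyDominant.isReduced (pullback.fst snd (Spec.map (CommRingCat.ofHom b)))


theorem geometricallyIntegral_iff_bcStr {k K : Type u} [Field k] [Field K] [Algebra k K]
    {X : Scheme.{u}} (f : X ⟶ Spec (CommRingCat.of k)) :
    GeometricallyIntegral f ↔ GeometricallyIntegral (FBase.bcStr f K) := by
  constructor
  · intro h
    exact inferInstanceAs (GeometricallyIntegral
      (pullback.snd f (Spec.map (CommRingCat.ofHom (algebraMap k K)))))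
  · intro h
    have h1 : GeometricallyReduced (FBase.bcStr f K) := inferInstance
    have h2 : GeometricallyIrreducible
        (pullback.snd f (Spec.map (CommRingCat.ofHom (algebraMap k K)))) :=
      inferInstanceAs (GeometricallyIrreducible (FBase.bcStr f K))
    have h3 : GeometricallyReduced f := (geometricallyReduced_iff_bcStr f).mpr h1
    have h4 : GeometricallyIrreducible f :=
      geometricallyIrreducible_of_surjective_baseChange f
        (Spec.map (CommRingCat.ofHom (algebraMap k K)))
    exact GeometricallyIntegral.of_geometricallyReduced_of_geometricallyIrreducible f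

end Groth.Agent.Lib.Helper6
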