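import Mathlib

set_option autoImplicit false
universe u

namespace Groth.Agent.Lib.Helper6.GrPrime

open DirectSum

variable {R A : Type u} [CommRing R] [CommRing A] [Algebra R A] (𝒜 : ℕ → Submodule R A)
  [GradedAlgebra 𝒜]

lemma exists_high (𝔭 : HomogeneousIdeal 𝒜) (hp : 𝔭.toIdeal.IsPrime)
    (h : ¬ HomogeneousIdeal.irrelevant 𝒜 ≤ 𝔭) (n₀ : ℕ) (hn₀ : 0 < n₀) :
    ∃ d, n₀ ≤ d ∧ ∃ f ∈ 𝒜 d, f ∉ 𝔭.toIdeal := by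
  rw [HomogeneousIdeal.irrelevant_le] at h
  push Not at h
  obtain ⟨i, hi, hle⟩ := h
  obtain ⟨x, hx, hx'⟩ := SetLike.not_le_iff_exists.1 hle
  refine ⟨n₀ • i, ?_, x ^ n₀, SetLike.pow_mem_graded n₀ hx, fun h => hx' (hp.mem_of_pow_mem _ h)⟩
  simp only [smul_eq_mul]
  nlinarith

/-- forward direction -/
lemma forward (n₀ : ℕ) (hn₀ : 0 < n₀) (p : ℕ → AddSubgroup A)
    (𝔭 : HomogeneousIdeal 𝒜) (hp : 𝔭.toIdeal.IsPrime)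
    (h : ¬ HomogeneousIdeal.irrelevant 𝒜 ≤ 𝔭)
    (hpn : ∀ n : ℕ, n₀ ≤ n → (𝔭.toIdeal : Set A) ∩ 𝒜 n = p n) :
    ((∀ m n : ℕ, n₀ ≤ n → ∀ a ∈ 𝒜 m, ∀ b ∈ p n, a * b ∈ p (m + n)) ∧
        (∀ m n : ℕ, n₀ ≤ m → n₀ ≤ n → ∀ f ∈ 𝒜 m, ∀ g ∈ 𝒜 n, f * g ∈ p (m + n) → f ∈ p m ∨ g ∈ p n) ∧
        ∃ n : ℕ, n₀ ≤ n ∧ (p n : Set A) ≠ 𝒜 n) := by
  have key : ∀ n, n₀ ≤ n → ∀ x, x ∈ p n ↔ x ∈ 𝔭.toIdeal ∧ x ∈ 𝒜 n := by
    intro n hn x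
    have := Set.ext_iff.1 (hpn n hn) x
    exact this.symm
  refine ⟨?_, ?_, ?_⟩
  · intro m n hn a ha b hb
    rw [key n hn] at hb
    rw [key (m + n) (by omega)]
    exact ⟨Ideal.mul_mem_left _ _ hb.1, SetLike.mul_mem_graded ha hb.2⟩
  · intro m n hm hn f hf g hg hfg
    rw [key (m + n) (by omega)] at hfg
    rw [key m hm, key n hn]
    rcases hp.mem_or_mem hfg.1 with h1 | h1
    · exact Or.inl ⟨h1, hf⟩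
    · exact Or.inr ⟨h1, hg⟩
  · obtain ⟨d, hd, f, hf, hf'⟩ := exists_high 𝒜 𝔭 hp h n₀ hn₀
    refine ⟨d, hd, fun heq => hf' ?_⟩
    have : f ∈ (p d : Set A) := by rw [heq]; exact hf
    exact ((key d hd f).1 this).1

/-- uniqueness, one inclusion -/
lemma le_of_tail (n₀ : ℕ) (hn₀ : 0 < n₀) (p : ℕ → AddSubgroup A)
    (𝔭 𝔮 : HomogeneousIdeal 𝒜) (hq : 𝔮.toIdeal.IsPrime)
    (h : ¬ HomogeneousIdeal.irrelevant 𝒜 ≤ 𝔮)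
    (hpn : ∀ n : ℕ, n₀ ≤ n → (𝔭.toIdeal : Set A) ∩ 𝒜 n = p n)
    (hqn : ∀ n : ℕ, n₀ ≤ n → (𝔮.toIdeal : Set A) ∩ 𝒜 n = p n) : 𝔭 ≤ 𝔮 := by
  obtain ⟨d, hd, f, hf, hf'⟩ := exists_high 𝒜 𝔮 hq h n₀ hn₀
  have hom : ∀ n, ∀ x ∈ 𝒜 n, x ∈ 𝔭.toIdeal → x ∈ 𝔮.toIdeal := by
    intro n x hx hxp
    have h1 : f * x ∈ (𝔭.toIdeal : Set A) ∩ 𝒜 (d + n) :=
      ⟨Ideal.mul_mem_left _ _ hxp, SetLike.mul_mem_graded hf hx⟩
    rw [hpn (d + n) (by omega), ← hqn (d + n) (by omega)] at h1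
    exact (hq.mem_or_mem h1.1).resolve_left hf'
  intro a ha
  change a ∈ 𝔮.toIdeal
  have ha' : a ∈ 𝔭.toIdeal := ha
  classical
  rw [← DirectSum.sum_support_decompose 𝒜 a]
  refine Ideal.sum_mem _ fun i _ => ?_
  exact hom i _ (SetLike.coe_mem _) (𝔭.isHomogeneous i ha')

section backward

variable (n₀ : ℕ) (p : ℕ → AddSubgroup A)
  (h1 : ∀ m n : ℕ, n₀ ≤ n → ∀ a ∈ 𝒜 m, ∀ b ∈ p n, a * b ∈ p (m + n))
  (h2 : ∀ m n : ℕ, n₀ ≤ m → n₀ ≤ n → ∀ f ∈ 𝒜 m, ∀ g ∈ 𝒜 n, f * g ∈ p (m + n) → f ∈ p m ∨ g ∈ p n)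
  (d : ℕ) (hd : n₀ ≤ d) (f : A) (hf : f ∈ 𝒜 d) (hfp : f ∉ p d)

include h1 hd in
/-- the ideal `{a | ∀ n, f * a_n ∈ p (d + n)}` -/
def mkIdeal : Ideal A where
  carrier := {a | ∀ n, f * (decompose 𝒜 a n : A) ∈ p (d + n)}
  add_mem' := by
    intro a b ha hb n
    rw [decompose_add, DirectSum.add_apply, Submodule.coe_add, mul_add]
    exact add_mem (ha n) (hb n)
  zero_mem' := by
    intro n
    simp [zero_mem]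
  smul_mem' := by
    intro c a ha
    simp only [smul_eq_mul, Set.mem_ofPred_eq] at ha ⊢
    induction c using DirectSum.Decomposition.inductionOn 𝒜 with
    | zero => intro n; simp [zero_mem]
    | @homogeneous m c =>
      intro n
      by_cases hmn : m ≤ n
      · rw [coe_decompose_mul_of_left_mem_of_le 𝒜 c.2 hmn]
        have := h1 m (d + (n - m)) (by omega) c c.2 _ (ha (n - m))
        have e : m + (d + (n - m)) = d + n := by omega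
        rw [e] at this
        rw [mul_left_comm]
        exact this
      · rw [coe_decompose_mul_of_left_mem_of_not_le 𝒜 c.2 hmn]
        simp [zero_mem]
    | add c c' hc hc' =>
      intro n
      rw [add_mul, decompose_add, DirectSum.add_apply, Submodule.coe_add, mul_add]
      exact add_mem (hc n) (hc' n)

lemma mem_mkIdeal (a : A) : a ∈ mkIdeal 𝒜 n₀ p h1 d hd f ↔
    ∀ n, f * (decompose 𝒜 a n : A) ∈ p (d + n) := Iff.rfl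

lemma hom_mem_mkIdeal {n : ℕ} {x : A} (hx : x ∈ 𝒜 n) :
    x ∈ mkIdeal 𝒜 n₀ p h1 d hd f ↔ f * x ∈ p (d + n) := by
  rw [mem_mkIdeal]
  constructor
  · intro h
    have := h n
    rwa [decompose_of_mem_same 𝒜 hx] at this
  · intro h k
    by_cases hk : n = k
    · subst hk
      rwa [decompose_of_mem_same 𝒜 hx]
    · rw [decompose_of_mem_ne 𝒜 hx hk]
      simp [zero_mem]

lemma mkIdeal_homogeneous : (mkIdeal 𝒜 n₀ p h1 d hd f).IsHomogeneous 𝒜 := by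
  intro i a ha
  rw [hom_mem_mkIdeal 𝒜 n₀ p h1 d hd f (SetLike.coe_mem _)]
  exact ha i

include h2 hf hfp in
lemma hom_mem_mkIdeal_iff {n : ℕ} (hn : n₀ ≤ n) {x : A} (hx : x ∈ 𝒜 n) :
    x ∈ mkIdeal 𝒜 n₀ p h1 d hd f ↔ x ∈ p n := by
  rw [hom_mem_mkIdeal 𝒜 n₀ p h1 d hd f hx]
  constructor
  · intro h
    exact (h2 d n hd hn f hf x hx h).resolve_left hfp
  · intro h
    exact h1 d n hn f hf x h

include h2 hf hfp in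
lemma mkIdeal_isPrime : (mkIdeal 𝒜 n₀ p h1 d hd f).IsPrime := by
  apply (mkIdeal_homogeneous 𝒜 n₀ p h1 d hd f).isPrime_of_homogeneous_mem_or_mem
  · intro htop
    have h1' : (1 : A) ∈ mkIdeal 𝒜 n₀ p h1 d hd f := by rw [htop]; trivial
    rw [hom_mem_mkIdeal 𝒜 n₀ p h1 d hd f (SetLike.GradedOne.one_mem (A := 𝒜)), mul_one,
      add_zero] at h1'
    exact hfp h1'
  · rintro x y ⟨m, hx⟩ ⟨n, hy⟩ hxy
    rw [hom_mem_mkIdeal 𝒜 n₀ p h1 d hd f (SetLike.mul_mem_graded hx hy)] at hxy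
    rw [hom_mem_mkIdeal 𝒜 n₀ p h1 d hd f hx, hom_mem_mkIdeal 𝒜 n₀ p h1 d hd f hy]
    have h3 := h1 d (d + (m + n)) (by omega) f hf _ hxy
    have e : d + (d + (m + n)) = (d + m) + (d + n) := by omega
    rw [e] at h3
    have e2 : f * (f * (x * y)) = (f * x) * (f * y) := by ring
    rw [e2] at h3
    exact h2 (d + m) (d + n) (by omega) (by omega) _ (SetLike.mul_mem_graded hf hx) _
      (SetLike.mul_mem_graded hf hy) h3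

end backward

theorem main (n₀ : ℕ) (hn₀ : 0 < n₀) (p : ℕ → AddSubgroup A)
    (hp : ∀ n : ℕ, n₀ ≤ n → (p n : Set A) ⊆ 𝒜 n) :
    ((∃ 𝔭 : HomogeneousIdeal 𝒜, 𝔭.toIdeal.IsPrime ∧ ¬ HomogeneousIdeal.irrelevant 𝒜 ≤ 𝔭 ∧
        ∀ n : ℕ, n₀ ≤ n → (𝔭.toIdeal : Set A) ∩ 𝒜 n = p n) ↔
      ((∀ m n : ℕ, n₀ ≤ n → ∀ a ∈ 𝒜 m, ∀ b ∈ p n, a * b ∈ p (m + n)) ∧
        (∀ m n : ℕ, n₀ ≤ m → n₀ ≤ n → ∀ f ∈ 𝒜 m, ∀ g ∈ 𝒜 n, f * g ∈ p (m + n) → f ∈ p m ∨ g ∈ p n) ∧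
        ∃ n : ℕ, n₀ ≤ n ∧ (p n : Set A) ≠ 𝒜 n)) ∧
    ∀ 𝔭 𝔮 : HomogeneousIdeal 𝒜, 𝔭.toIdeal.IsPrime → 𝔮.toIdeal.IsPrime →
      ¬ HomogeneousIdeal.irrelevant 𝒜 ≤ 𝔭 → ¬ HomogeneousIdeal.irrelevant 𝒜 ≤ 𝔮 →
      (∀ n : ℕ, n₀ ≤ n → (𝔭.toIdeal : Set A) ∩ 𝒜 n = p n) → (∀ n : ℕ, n₀ ≤ n → (𝔮.toIdeal : Set A) ∩ 𝒜 n = p n) →
      𝔭 = 𝔮 := by
  refine ⟨⟨?_, ?_⟩, ?_⟩
  · rintro ⟨𝔭, hprime, hirr, hpn⟩
    exact forward 𝒜 n₀ hn₀ p 𝔭 hprime hirr hpn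
  · rintro ⟨h1, h2, d, hd, hne⟩
    obtain ⟨f, hf, hfp⟩ : ∃ f ∈ 𝒜 d, f ∉ p d := by
      by_contra hcon
      push Not at hcon
      exact hne (Set.Subset.antisymm (hp d hd) (fun x hx => hcon x hx))
    have hpos : 0 < d := by omega
    refine ⟨⟨mkIdeal 𝒜 n₀ p h1 d hd f, mkIdeal_homogeneous 𝒜 n₀ p h1 d hd f⟩,
      mkIdeal_isPrime 𝒜 n₀ p h1 h2 d hd f hf hfp, ?_, ?_⟩
    · intro hle
      have hfm : f ∈ mkIdeal 𝒜 n₀ p h1 d hd f :=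
        hle (HomogeneousIdeal.mem_irrelevant_of_mem 𝒜 hpos hf)
      rw [hom_mem_mkIdeal_iff 𝒜 n₀ p h1 h2 d hd f hf hfp hd hf] at hfm
      exact hfp hfm
    · intro n hn
      ext x
      constructor
      · rintro ⟨hx1, hx2⟩
        exact (hom_mem_mkIdeal_iff 𝒜 n₀ p h1 h2 d hd f hf hfp hn hx2).1 hx1
      · intro hx
        have hx2 : x ∈ 𝒜 n := hp n hn hx
        exact ⟨(hom_mem_mkIdeal_iff 𝒜 n₀ p h1 h2 d hd f hf hfp hn hx2).2 hx, hx2⟩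
  · intro 𝔭 𝔮 hp' hq' hip hiq hpn hqn
    exact le_antisymm (le_of_tail 𝒜 n₀ hn₀ p 𝔭 𝔮 hq' hiq hpn hqn)
      (le_of_tail 𝒜 n₀ hn₀ p 𝔮 𝔭 hp' hip hqn hpn)

end Groth.Agent.Lib.Helper6.GrPrime
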