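import Groth.Agent.Lib.Helper6Graded

/-! More graded-ring lemmas (EGA II §2): `S_m ⊆ (S_+)^n`, `S_(f)` Noetherian, Veronese subrings. -/

open AlgebraicGeometry DirectSum

namespace Groth.Agent.Lib.Helper6

universe u



section
variable {R A : Type u} [CommRing R] [CommRing A] [Algebra R A]
    (𝒜 : ℕ → Submodule R A) [GradedAlgebra 𝒜]

theorem exists_forall_le_irrelevant_pow [Algebra.FiniteType (𝒜 0) A] (n : ℕ) :
    ∃ m₀ : ℕ, ∀ m : ℕ, m₀ ≤ m →
      (𝒜 m : Set A) ⊆ ((HomogeneousIdeal.irrelevant 𝒜).toIdeal ^ n : Ideal A) := by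
  classical
  obtain ⟨s, hs, hs'⟩ := GradedAlgebra.exists_finset_adjoin_eq_top_and_homogeneous_ne_zero 𝒜
  choose! deg hdeg using hs'
  have hE : ∀ e ∈ (s : Set A), ∃ d : ℕ, 0 < d ∧ e ∈ 𝒜 d := fun e he =>
    ⟨deg e, Nat.pos_of_ne_zero (hdeg e he).1, (hdeg e he).2⟩
  have hspan := irrelevant_eq_span_of_adjoin_eq_top 𝒜 _ hE hs
  set I := (HomogeneousIdeal.irrelevant 𝒜).toIdeal with hI
  let D := s.sup deg
  induction n with
  | zero => exact ⟨0, fun m _ x _ => by simp⟩
  | succ n ih =>
    obtain ⟨m₀, hm₀⟩ := ih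
    refine ⟨m₀ + D + 1, fun m hm x hx => ?_⟩
    have hxI : x ∈ Ideal.span (s : Set A) := by
      rw [← hspan]; exact HomogeneousIdeal.mem_irrelevant_of_mem _ (by omega) hx
    have key : ∀ y ∈ Ideal.span (s : Set A), ∀ a : A,
        (DirectSum.decompose 𝒜 (a * y) m : A) ∈ I ^ (n + 1) := by
      intro y hy
      induction hy using Submodule.span_induction with
      | mem e he =>
        intro a
        have hdD : deg e ≤ D := Finset.le_sup (f := deg) he
        rw [DirectSum.coe_decompose_mul_of_right_mem 𝒜 m (hdeg e he).2, if_pos (by omega), pow_succ]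
        refine Ideal.mul_mem_mul (hm₀ (m - deg e) (by omega) (SetLike.coe_mem _)) ?_
        rw [hspan]; exact Ideal.subset_span he
      | zero => intro a; simp
      | add y z _ _ hy hz =>
        intro a
        rw [mul_add, DirectSum.decompose_add, DirectSum.add_apply, Submodule.coe_add]
        exact Ideal.add_mem _ (hy a) (hz a)
      | smul b y _ hy =>
        intro a
        rw [smul_eq_mul, ← mul_assoc]
        exact hy (a * b)
    have := key x hxI 1
    rwa [one_mul, DirectSum.decompose_of_mem_same 𝒜 hx] at this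

end




section
variable {R A : Type u} [CommRing R] [CommRing A] [Algebra R A]
    (𝒜 : ℕ → Submodule R A) [GradedAlgebra 𝒜]

theorem isNoetherianRing_away [IsNoetherianRing A] {d : ℕ} (f : A) (hf : f ∈ 𝒜 d) :
    IsNoetherianRing (HomogeneousLocalization.Away 𝒜 f) := by
  obtain ⟨h0, hft⟩ := (isNoetherianRing_iff_gradeZero_and_finiteType 𝒜).mp inferInstance
  have := HomogeneousLocalization.Away.finiteType (𝒜 := 𝒜) f d hf
  exact Algebra.FiniteType.isNoetherianRing (𝒜 0) (HomogeneousLocalization.Away 𝒜 f)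

end




section
variable {R A : Type u} [CommRing R] [CommRing A] [Algebra R A]
    (𝒜 : ℕ → Submodule R A) [GradedAlgebra 𝒜]

/-- If `A` is generated over `𝒜 0` by homogeneous `v i`, a subring containing `𝒜 0` and all
monomials of degree `m` in the `v i` contains `𝒜 m`. -/
theorem mem_subring_of_monomials_mem {ι' : Type*} [Fintype ι'] (v : ι' → A)
    (hx : Algebra.adjoin (𝒜 0) (Set.range v) = ⊤) (dv : ι' → ℕ) (hxd : ∀ i, v i ∈ 𝒜 (dv i))
    (C : Subring A) (h0 : ∀ x ∈ 𝒜 0, x ∈ C) (m : ℕ)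
    (hmon : ∀ ai : ι' → ℕ, ∑ i, ai i • dv i = m → ∏ i, v i ^ ai i ∈ C) :
    ∀ x ∈ 𝒜 m, x ∈ C := by
  classical
  intro x hxm
  have key : ∀ a : A, (DirectSum.decompose 𝒜 a m : A) ∈ C := by
    intro a
    have : a ∈ Submodule.span (𝒜 0) (Submonoid.closure (Set.range v)) := by
      rw [← Algebra.adjoin_eq_span, hx]
      trivial
    induction this using Submodule.span_induction with
    | mem a ha' =>
      obtain ⟨ai, rfl⟩ := Submonoid.exists_of_mem_closure_range _ _ ha'
      have hmem : ∏ i, v i ^ ai i ∈ 𝒜 (∑ i, ai i • dv i) :=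
        SetLike.prod_pow_mem_graded _ _ _ _ fun i _ ↦ hxd i
      by_cases H : ∑ i, ai i • dv i = m
      · rw [DirectSum.decompose_of_mem_same 𝒜 (H ▸ hmem)]
        exact hmon ai H
      · rw [DirectSum.decompose_of_mem_ne 𝒜 hmem H]
        exact C.zero_mem
    | zero => simp
    | add s t _ _ hs' ht' =>
      rw [DirectSum.decompose_add, DirectSum.add_apply, Submodule.coe_add]
      exact C.add_mem hs' ht'
    | smul r x _ hx' =>
      have hr : algebraMap (𝒜 0) A r = (r : A) := rfl
      rw [Algebra.smul_def, hr, DirectSum.coe_decompose_mul_of_left_mem_zero 𝒜 r.2]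
      exact C.mul_mem (h0 _ r.2) hx'
  have := key x
  rwa [DirectSum.decompose_of_mem_same 𝒜 hxm] at this

theorem veronese_finiteType [Algebra.FiniteType (𝒜 0) A]
    {B : Type u} [CommRing B] [Algebra R B] (ℬ : ℕ → Submodule R B) [GradedAlgebra ℬ]
    (d : ℕ) (hd : 0 < d) (φ : B →ₐ[R] A) (hφ : Function.Injective φ)
    (hdeg : ∀ n : ℕ, Submodule.map φ.toLinearMap (ℬ n) = 𝒜 (n * d)) :
    Algebra.FiniteType (ℬ 0) B := by
  classical
  obtain ⟨s, hs, hs'⟩ := GradedAlgebra.exists_finset_adjoin_eq_top_and_homogeneous_ne_zero 𝒜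
  choose dx hdx hxd using Subtype.forall'.mp hs'
  let v : s → A := Subtype.val
  have hx : Algebra.adjoin (𝒜 0) (Set.range v) = ⊤ := by simpa [v] using hs
  let mon : (s → ℕ) → A := fun ai => ∏ i, v i ^ ai i
  let wdeg : (s → ℕ) → ℕ := fun ai => ∑ i, ai i • dx i
  have hmem : ∀ ai, mon ai ∈ 𝒜 (wdeg ai) := fun ai =>
    SetLike.prod_pow_mem_graded _ _ _ _ fun i _ ↦ hxd i
  let E : Set B := φ ⁻¹' (mon '' {ai | ∀ i, ai i ≤ d})
  have hfin : E.Finite := by
    refine Set.Finite.preimage hφ.injOn (Set.Finite.image _ ?_)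
    exact Set.Finite.pi' fun _ => Set.finite_Iic d
  let C : Subring A := (Algebra.adjoin (ℬ 0) E).toSubring.map (φ : B →+* A)
  have h0 : ∀ x ∈ 𝒜 0, x ∈ C := by
    intro x hx0
    have h := hdeg 0
    rw [zero_mul] at h
    rw [← h] at hx0
    obtain ⟨b, hb, rfl⟩ := hx0
    exact ⟨b, Subalgebra.algebraMap_mem _ (⟨b, hb⟩ : ℬ 0), rfl⟩
  have hsmall : ∀ ai : s → ℕ, (∀ i, ai i ≤ d) → d ∣ wdeg ai → mon ai ∈ C := by
    intro ai hai ⟨n, hn⟩
    have h1 : mon ai ∈ 𝒜 (n * d) := by rw [mul_comm, ← hn]; exact hmem ai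
    rw [← hdeg n] at h1
    obtain ⟨b, _, hb⟩ := h1
    exact ⟨b, Algebra.subset_adjoin ⟨ai, hai, hb.symm⟩, hb⟩
  have hmon_add : ∀ ai bi : s → ℕ, mon (ai + bi) = mon ai * mon bi := by
    intro ai bi
    simp only [mon, Pi.add_apply, pow_add, Finset.prod_mul_distrib]
  have hwdeg_add : ∀ ai bi : s → ℕ, wdeg (ai + bi) = wdeg ai + wdeg bi := by
    intro ai bi
    simp only [wdeg, Pi.add_apply, add_smul, Finset.sum_add_distrib]
  have hmon : ∀ k, ∀ ai : s → ℕ, ∑ i, ai i = k → d ∣ wdeg ai → mon ai ∈ C := by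
    intro k
    induction k using Nat.strong_induction_on with
    | _ k ih =>
      intro ai hk hdvd
      by_cases hall : ∀ i, ai i ≤ d
      · exact hsmall ai hall hdvd
      · push Not at hall
        obtain ⟨j, hj⟩ := hall
        let ai' : s → ℕ := Function.update ai j (ai j - d)
        have hsplit : ai = ai' + Pi.single j d := by
          funext i
          by_cases hij : i = j
          · subst hij; simp [ai']; omega
          · simp [ai', Function.update_of_ne hij, Pi.single_eq_of_ne hij]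
        have hwsingle : wdeg (Pi.single j d) = d * dx j := by
          simp only [wdeg, Pi.single_apply, smul_eq_mul, ite_mul, zero_mul,
            Finset.sum_ite_eq', Finset.mem_univ, if_true]
        have hsum : ∑ i, ai i = ∑ i, ai' i + d := by
          conv_lhs => rw [hsplit]
          simp only [Pi.add_apply, Finset.sum_add_distrib, Pi.single_apply,
            Finset.sum_ite_eq', Finset.mem_univ, if_true]
        rw [hsplit, hmon_add]
        refine C.mul_mem (ih (∑ i, ai' i) (by omega) ai' rfl ?_) (hsmall _ ?_ ?_)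
        · rw [hsplit, hwdeg_add, hwsingle] at hdvd
          exact (Nat.dvd_add_left (Dvd.intro _ rfl)).mp hdvd
        · intro i
          by_cases hij : i = j
          · subst hij; simp
          · simp [Pi.single_eq_of_ne hij]
        · rw [hwsingle]; exact Dvd.intro _ rfl
  have hC : ∀ n, ∀ x ∈ 𝒜 (n * d), x ∈ C := fun n =>
    mem_subring_of_monomials_mem 𝒜 v hx dx hxd C h0 (n * d) fun ai hai =>
      hmon _ ai rfl ⟨n, by rw [mul_comm]; exact hai⟩
  have htop : Algebra.adjoin (ℬ 0) E = ⊤ := by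
    apply subalgebra_eq_top_of_forall_le ℬ
    intro n x hxn
    have h1 : φ x ∈ 𝒜 (n * d) := by
      rw [← hdeg n]; exact Submodule.mem_map_of_mem hxn
    obtain ⟨b, hb, hbx⟩ := hC n _ h1
    have : b = x := hφ hbx
    rw [← this]; exact hb
  exact ⟨⟨hfin.toFinset, by rw [Set.Finite.coe_toFinset]; exact htop⟩⟩

end




section
variable {R A : Type u} [CommRing R] [CommRing A] [Algebra R A]
    (𝒜 : ℕ → Submodule R A) [GradedAlgebra 𝒜]

theorem veronese_isNoetherianRing [IsNoetherianRing A]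
    {B : Type u} [CommRing B] [Algebra R B] (ℬ : ℕ → Submodule R B) [GradedAlgebra ℬ]
    (d : ℕ) (hd : 0 < d) (φ : B →ₐ[R] A) (hφ : Function.Injective φ)
    (hdeg : ∀ n : ℕ, Submodule.map φ.toLinearMap (ℬ n) = 𝒜 (n * d)) :
    IsNoetherianRing B := by
  obtain ⟨h0, hft⟩ := (isNoetherianRing_iff_gradeZero_and_finiteType 𝒜).mp inferInstance
  have hB := veronese_finiteType 𝒜 ℬ d hd φ hφ hdeg
  have hmem0 : ∀ b : ℬ 0, φ b ∈ 𝒜 0 := by
    intro b
    have h := hdeg 0
    rw [zero_mul] at h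
    rw [← h]
    exact Submodule.mem_map_of_mem b.2
  let ψ : ℬ 0 →+* 𝒜 0 :=
    { toFun := fun b => ⟨φ b, hmem0 b⟩
      map_one' := Subtype.ext (by simp)
      map_mul' := fun a b => Subtype.ext (by simp)
      map_zero' := Subtype.ext (by simp)
      map_add' := fun a b => Subtype.ext (by simp) }
  have hψ : Function.Bijective ψ := by
    constructor
    · intro a b hab
      have : φ a = φ b := congrArg Subtype.val hab
      exact Subtype.ext (hφ this)
    · rintro ⟨x, hx0⟩
      have h := hdeg 0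
      rw [zero_mul] at h
      have hx0' := hx0
      rw [← h] at hx0'
      obtain ⟨b, hb, hbx⟩ := hx0'
      exact ⟨⟨b, hb⟩, Subtype.ext hbx⟩
  have hB0 : IsNoetherianRing (ℬ 0) :=
    isNoetherianRing_of_ringEquiv (𝒜 0) (RingEquiv.ofBijective ψ hψ).symm
  exact (isNoetherianRing_iff_gradeZero_and_finiteType ℬ).mpr ⟨hB0, hB⟩

end


end Groth.Agent.Lib.Helper6
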