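import Groth.Prelude
import Mathlib

open TensorProduct Coalgebra MonoidAlgebra

namespace Groth.Agent.Lib.Helper6

universe u v

section
variable {C : Type u} {M : Type v} [CommRing C]

/-- the coefficient functional -/
noncomputable def cf (m : M) : MonoidAlgebra C M →ₗ[C] C :=
  (Finsupp.lapply m) ∘ₗ (MonoidAlgebra.coeffLinearEquiv C).toLinearMap

lemma cf_apply (m : M) (x : MonoidAlgebra C M) : cf m x = x.coeff m := rfl

lemma cf_single [DecidableEq M] (m a : M) (r : C) :
    cf m (MonoidAlgebra.single a r) = if a = m then r else 0 := by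
  rw [cf_apply, MonoidAlgebra.coeff_single, Finsupp.single_apply]

/-- evaluation of a tensor at a pair of coefficients -/
noncomputable def ev2 (m m' : M) : MonoidAlgebra C M ⊗[C] MonoidAlgebra C M →ₗ[C] C :=
  (TensorProduct.lid C C).toLinearMap ∘ₗ TensorProduct.map (cf m) (cf m')

lemma ev2_tmul (m m' : M) (x y : MonoidAlgebra C M) :
    ev2 m m' (x ⊗ₜ[C] y) = x.coeff m * y.coeff m' := by
  simp [ev2, cf_apply]

lemma ev2_comul [DecidableEq M] (m m' : M) (x : MonoidAlgebra C M) :
    ev2 m m' (comul (R := C) x) = if m = m' then x.coeff m else 0 := by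
  have key : (ev2 m m') ∘ₗ (comul (R := C) (A := MonoidAlgebra C M)) =
      if m = m' then cf m else 0 := by
    apply MonoidAlgebra.lhom_ext'
    intro a
    ext
    simp only [LinearMap.coe_comp, Function.comp_apply, MonoidAlgebra.lsingle_apply,
      MonoidAlgebra.comul_single, CommSemiring.comul_apply, TensorProduct.map_tmul, ev2_tmul,
      MonoidAlgebra.coeff_single, Finsupp.single_apply]
    split_ifs with h1 h2 h3 h3 <;> simp_all [cf_apply]
  have := congrArg (fun L : MonoidAlgebra C M →ₗ[C] C => L x) key
  simp only [LinearMap.coe_comp, Function.comp_apply] at this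
  rw [this]
  split_ifs <;> simp [cf_apply]

lemma counit_eq_sum (x : MonoidAlgebra C M) :
    counit (R := C) x = x.coeff.sum (fun _ r => r) := by
  induction x using MonoidAlgebra.induction_linear with
  | zero => simp
  | add x y hx hy =>
    rw [map_add, hx, hy, MonoidAlgebra.coeff_add, Finsupp.sum_add_index'] <;> simp
  | single m r => simp [MonoidAlgebra.counit_single, MonoidAlgebra.coeff_single]

theorem exists_single_of_isGroupLikeElem [Nontrivial C]
    (hconn : ∀ e : C, IsIdempotentElem e → e = 0 ∨ e = 1) {x : MonoidAlgebra C M}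
    (hx : IsGroupLikeElem C x) : ∃ m : M, x = MonoidAlgebra.single m 1 := by
  classical
  have hmul : ∀ m m' : M, x.coeff m * x.coeff m' = if m = m' then x.coeff m else 0 := by
    intro m m'
    rw [← ev2_tmul, ← hx.comul_eq_tmul_self, ev2_comul]
  have hidem : ∀ m, x.coeff m = 0 ∨ x.coeff m = 1 := by
    intro m
    apply hconn
    have := hmul m m
    rwa [if_pos rfl] at this
  have hsum : x.coeff.sum (fun _ r => r) = 1 := by
    rw [← counit_eq_sum, hx.counit_eq_one]
  have hex : ∃ m, x.coeff m = 1 := by
    by_contra hne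
    push Not at hne
    have hz : ∀ m, x.coeff m = 0 := fun m => (hidem m).resolve_right (hne m)
    have : x.coeff.sum (fun _ r => r) = 0 := by
      rw [Finsupp.sum]
      exact Finset.sum_eq_zero (fun m _ => hz m)
    rw [this] at hsum
    exact zero_ne_one hsum
  obtain ⟨m, hm⟩ := hex
  refine ⟨m, ?_⟩
  rw [← MonoidAlgebra.coeff_inj, MonoidAlgebra.coeff_single]
  ext m'
  rw [Finsupp.single_apply]
  split_ifs with h
  · rw [← h, hm]
  · have := hmul m m'
    rw [if_neg h, hm, one_mul] at this
    exact this

end

theorem bialgHom_monoidAlgebra_eq_mapDomain {C : Type u} [CommRing C] [Nontrivial C]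
    (hconn : ∀ e : C, IsIdempotentElem e → e = 0 ∨ e = 1)
    {M N : Type v} [CommGroup M] [CommGroup N]
    (φ : MonoidAlgebra C N →ₐc[C] MonoidAlgebra C M) :
    ∃ f : N →* M, φ = MonoidAlgebra.mapDomainBialgHom (R := C) f := by
  have hgl : ∀ n : N, ∃ m : M, φ (MonoidAlgebra.single n 1) = MonoidAlgebra.single m 1 :=
    fun n => exists_single_of_isGroupLikeElem hconn
      ((MonoidAlgebra.isGroupLikeElem_single_one (R := C) (A := C) n).map φ)
  choose f hf using hgl
  have hinj : Function.Injective (fun m : M => (MonoidAlgebra.single m 1 : MonoidAlgebra C M)) :=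
    MonoidAlgebra.single_left_injective (R := C) one_ne_zero
  let F : N →* M :=
    { toFun := f
      map_one' := by
        apply hinj
        change MonoidAlgebra.single (f 1) 1 = MonoidAlgebra.single 1 1
        rw [← hf, ← MonoidAlgebra.one_def, map_one, MonoidAlgebra.one_def]
      map_mul' := by
        intro a b
        apply hinj
        change MonoidAlgebra.single (f (a * b)) 1 = MonoidAlgebra.single (f a * f b) 1
        rw [← hf, ← mul_one (1 : C), ← MonoidAlgebra.single_mul_single, map_mul, hf, hf,
          MonoidAlgebra.single_mul_single] }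
  refine ⟨F, ?_⟩
  apply MonoidAlgebra.bialgHom_ext
  · intro n
    rw [MonoidAlgebra.mapDomainBialgHom_single]
    exact hf n
  · ext

end Groth.Agent.Lib.Helper6
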