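import Mathlib
import Groth.Agent.Lib.Helper6GrpSm
import Groth.Agent.Lib.Helper4FibDimL
import Groth.Agent.Lib.Helper4VarDim4
import Groth.Prelude.Def_CurvBase

set_option autoImplicit false
set_option linter.style.haveILetI false
set_option linter.unusedVariables false
set_option linter.unusedSectionVars false
universe u
open CategoryTheory CategoryTheory.Limits MonoidalCategory CartesianMonoidalCategory MonObj GrpObj
  AlgebraicGeometry TopologicalSpace Topology IsLocalRing

namespace Groth.Agent.Lib.Helper6.GrpZero

open Groth.Agent.Lib.Helper6.GrpSm Groth.Agent.Lib.Helper4.VarDim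

attribute [local instance] Curv2.resAlgebra

/-- a field stalk on a k-scheme lft with closed point, k alg closed: structure map bijective -/
theorem bijective_stalkMap_of_isField (k : Type u) [Field k] [IsAlgClosed k] (X : Scheme.{u})
    [X.Over (Spec (CommRingCat.of k))] [LocallyOfFiniteType (X ↘ Spec (CommRingCat.of k))]
    (x : X) (hx : IsClosed ({x} : Set X)) (hf : IsField (X.presheaf.stalk x)) :
    Function.Bijective (Curv2.stalkMap k X x) := by
  have h0 := trdeg_eq_zero_of_isClosed k X x hx
  haveI : Algebra.IsAlgebraic k (X.residueField x) := trdeg_eq_zero_iff.mp h0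
  haveI : Algebra.IsIntegral k (X.residueField x) := Algebra.IsAlgebraic.isIntegral
  have h1 : Function.Bijective (algebraMap k (X.residueField x)) :=
    IsAlgClosed.algebraMap_bijective_of_isIntegral
  have h2 : Function.Bijective (X.residue x).hom := by
    letI := hf.toField
    refine ⟨RingHom.injective _, IsLocalRing.residue_surjective⟩
  have h3 : (algebraMap k (X.residueField x) : k → _) =
      (X.residue x).hom ∘ (Curv2.stalkMap k X x) := rfl
  rw [h3] at h1
  exact (Function.Bijective.of_comp_iff' h2 _).mp h1

theorem main (k : Type u) [Field k] [IsAlgClosed k]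
    (G : Over (Spec (CommRingCat.of k))) [GrpObj G] [LocallyOfFiniteType G.hom] [QuasiCompact G.hom]
    (e : G.left) (he : e ∈ Set.range (η[G]).left.base) :
    letI : G.left.Over (Spec (CommRingCat.of k)) := ⟨G.hom⟩
    Subsingleton (IsLocalRing.CotangentSpace (G.left.presheaf.stalk e)) ↔
      (Finite G.left ∧ DiscreteTopology G.left ∧
        ∀ g : G.left, Function.Bijective (Curv2.stalkMap k G.left g)) := by
  letI : G.left.Over (Spec (CommRingCat.of k)) := ⟨G.hom⟩
  haveI : LocallyOfFiniteType (G.left ↘ Spec (CommRingCat.of k)) := ‹LocallyOfFiniteType G.hom›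
  obtain ⟨pt, rfl⟩ := he
  obtain rfl : pt = IsLocalRing.closedPoint k := Subsingleton.elim (α := PrimeSpectrum k) _ _
  haveI := isLocallyNoetherian_left k G
  haveI : CompactSpace G.left := QuasiCompact.compactSpace_of_compactSpace G.hom
  haveI : AlgebraicGeometry.IsNoetherian G.left := ⟨⟩
  haveI : Nonempty G.left := ⟨ept k G⟩
  change Subsingleton (IsLocalRing.CotangentSpace (G.left.presheaf.stalk (ept k G))) ↔ _
  rw [IsLocalRing.subsingleton_cotangentSpace_iff]
  constructor
  · intro hF
    have hdim0 : topologicalKrullDim G.left = 0 := by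
      rw [dim_eq k G]
      letI := hF.toField
      exact ringKrullDim_eq_zero_of_field _
    obtain ⟨hfin, hdisc⟩ :=
      Groth.Agent.Lib.Helper7.TopDim.dim_eq_zero_iff_finite_discrete.mp hdim0
    haveI : Smooth G.hom := by
      rw [smooth_iff_regular k G]
      letI := hF.toField
      infer_instance
    refine ⟨hfin, hdisc, fun g => ?_⟩
    have hreg := Groth.Agent.Lib.Helper6.SmRegSch.isRegularLocalRing_stalk_of_smooth_over_field
      k G.left G.hom g
    have hle := Groth.Agent.Lib.Helper4.FibDim.ringKrullDim_stalk_le_topologicalKrullDim G.left g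
    rw [hdim0] at hle
    have hgF : IsField (G.left.presheaf.stalk g) := by
      rw [← IsLocalRing.finrank_cotangentSpace_eq_zero_iff]
      have h1 := (IsRegularLocalRing.iff_finrank_cotangentSpace _).mp hreg
      have h2 : ringKrullDim (G.left.presheaf.stalk g) = 0 :=
        le_antisymm hle ringKrullDim_nonneg_of_nontrivial
      rw [h2] at h1
      exact_mod_cast h1
    exact bijective_stalkMap_of_isField k G.left g (isClosed_singleton) hgF
  · rintro ⟨-, -, hb⟩
    exact (RingEquiv.ofBijective _ (hb (ept k G))).symm.toMulEquiv.isField (Field.toIsField k)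

end Groth.Agent.Lib.Helper6.GrpZero
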