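import Groth.Agent.Lib.Helper6GGCurve
import Groth.Agent.Lib.Helper4CurveAsym
import Groth.Agent.Lib.LeadCohRank

/-!
# The `h⁰`-criterion for semistability of quotients of `O^N` on a curve (helper6): S18840
-/

set_option autoImplicit false
set_option linter.style.haveILetI false
universe u
open CategoryTheory Limits AlgebraicGeometry Opposite TopologicalSpace

namespace Groth.Agent.Lib.Helper6.H0Crit

open Groth.Agent.Lib.Helper4.CurveBun Groth.Agent.Lib.Helper4.DegAdd Groth.Agent.Lib.Helper4.CurveRR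
  Groth.Agent.Lib.Helper4.Dev Groth.Agent.Lib.Helper6.CurveDeg Groth.Agent.Lib.Helper27ExtDual1
  Groth.Agent.Lib.Helper4.CurveStab Groth.Agent.Lib.Helper6.SSVanish Groth.Agent.Lib.Helper23.SecTw

variable (k : Type u) [Field k] (X : Scheme.{u}) [X.Over (Spec (CommRingCat.of k))]
  [IsIntegral X] [IsProper (X ↘ (Spec (CommRingCat.of k)))]

omit [IsIntegral X] [IsProper (X ↘ (Spec (CommRingCat.of k)))] in
/-- semistability is invariant under isomorphism -/
theorem semistable_of_iso {E E' : X.Modules} (e : E ≅ E') (r : ℕ)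
    (h : ModFun.IsSlopeSemistable k X E r) : ModFun.IsSlopeSemistable k X E' r := by
  intro G r' i hi hr' hG
  haveI := hi
  have h1 := h G r' (i ≫ e.inv) (mono_comp _ _) hr' hG
  rwa [Groth.Agent.Lib.Helper4.CurveSSAb.deg_congr_iso k X e r] at h1

/-- rank and degree of a right twist by a line bundle -/
theorem rtwist_rank_deg (hpid : PIDStalks X) (hdim : topologicalKrullDim X = 1) (M : X.Modules)
    (hMinv : PicF.IsInvertible M) (s : ℕ) (G : X.Modules) (hG : FlatMod.IsFinLocFreeOfRank s G) :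
    FlatMod.IsFinLocFreeOfRank s (CohB1.tensorMod G M) ∧
      Curv2.deg k X (CohB1.tensorMod G M) s = Curv2.deg k X G s + (s : ℤ) * Curv2.deg k X M 1 := by
  have hM1 := isFinLocFreeOfRank_one_of_isInvertible M hMinv
  have h1 := Groth.Agent.Lib.Helper6.TwistSS.isFinLocFreeOfRank_tensorMod k X hpid G M s 1 hG hM1
  have h2 := Groth.Agent.Lib.Helper4.CurveDegT.deg_tensor k X hdim.le s 1 G M hG hM1
  rw [mul_one] at h1 h2
  refine ⟨h1, ?_⟩
  rw [h2]
  push_cast
  ring

/-- a right twist of a semistable bundle by a line bundle is semistable -/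
theorem rtwist_semistable (hpid : PIDStalks X) (hdim : topologicalKrullDim X = 1) (M : X.Modules)
    (hMinv : PicF.IsInvertible M) (r : ℕ) (E : X.Modules) (hE : FlatMod.IsFinLocFreeOfRank r E)
    (hss : ModFun.IsSlopeSemistable k X E r) :
    ModFun.IsSlopeSemistable k X (CohB1.tensorMod E M) r :=
  semistable_of_iso k X (Groth.Agent.Lib.Helper23.AmpleFam2.tensorBraid M E) r
    (Groth.Agent.Lib.Helper6.TwistSS.twist_semistable k X hpid hdim M hMinv r E hE hss)

/-- `h⁰ ≤ q g` for a bundle of slope `≤ 2g - 2` all of whose proper quotients have slope `> 2g - 2` -/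
theorem h0_le_of_properQuotGt [IsAlgClosed k] (hpid : PIDStalks X) (hdim : topologicalKrullDim X = 1)
    (q : ℕ) (hq : 0 < q) (Q : X.Modules) (hQ : FlatMod.IsFinLocFreeOfRank q Q)
    (hPQ : ProperQuotGt k X (2 * (Curv2.genus k X : ℤ) - 2) q Q)
    (hdeg : Curv2.deg k X Q q ≤ (q : ℤ) * (2 * (Curv2.genus k X : ℤ) - 2)) :
    (Module.finrank k (Coh.HH X Q 0) : ℤ) ≤ (q : ℤ) * (Curv2.genus k X : ℤ) := by
  have cQ := isCoh_of_isFinLocFreeOfRank Q q hQ
  have hχ := euler_eq_h0_sub_h1 k X hdim.le Q cQ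
  have hχO := Groth.Agent.Lib.Helper6.H0Semi.euler_structureModule k X hdim
  have hq1 : (1 : ℤ) ≤ (q : ℤ) := by exact_mod_cast hq
  have hg0 : (0 : ℤ) ≤ (Curv2.genus k X : ℤ) := Int.natCast_nonneg _
  by_cases hns : Subsingleton (Coh.HH X Q 1)
  · have h1 : Module.finrank k (Coh.HH X Q 1) = 0 := Module.finrank_zero_of_subsingleton
    unfold Curv2.deg at hdeg
    rw [hχO, hχ, h1] at hdeg
    push_cast at hdeg
    nlinarith
  · have hO1 : FlatMod.IsFinLocFreeOfRank 1 (Coh.structureModule X) :=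
      isFinLocFreeOfRank_one_of_isInvertible _
        (Groth.Agent.Lib.Helper23.TensorUnit.isInvertible_structureModule X)
    have hpt := fun _ : Curv2.genus k X = 0 =>
      Groth.Agent.Lib.Helper6.PointIdeal.exists_invertible_deg_neg_one k X hpid hdim
    have IH' : ∀ r' < q, ∀ E' : X.Modules, FlatMod.IsFinLocFreeOfRank r' E' →
        QuotGt k X (2 * (Curv2.genus k X : ℤ) - 2) E' → Subsingleton (Coh.HH X E' 1) :=
      fun r' _ E' hE' hQ' => vanish_of_quotGt k X hpid hdim hpt r' E' hE' hQ'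
    have h0g := h0_le_genus k X Q
      (fun s hs => HHlin_one_surjective_of_quot k X hpid hdim _ q IH' Q hQ hPQ _ hO1 s hs) hns
    have h0g' : (Module.finrank k (Coh.HH X Q 0) : ℤ) ≤ (Curv2.genus k X : ℤ) := by exact_mod_cast h0g
    nlinarith

/-- the main bound: sub-bundles of a semistable bundle `Fl` of slope `≥ 2g - 1` have
`h⁰ / rank ≤ μ(Fl) + 1 - g` -/
theorem h0_bound [IsAlgClosed k] (hpid : PIDStalks X) (hdim : topologicalKrullDim X = 1)
    (r : ℕ) (Fl : X.Modules) (hss : ModFun.IsSlopeSemistable k X Fl r)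
    (A : ℤ) (hA : A = Curv2.deg k X Fl r + (r : ℤ) * (1 - (Curv2.genus k X : ℤ)))
    (hAg : (r : ℤ) * (Curv2.genus k X : ℤ) ≤ A) :
    ∀ (s : ℕ) (G : X.Modules) (j : G ⟶ Fl), Mono j → FlatMod.IsFinLocFreeOfRank s G →
      (r : ℤ) * (Module.finrank k (Coh.HH X G 0) : ℤ) ≤ (s : ℤ) * A := by
  haveI : IsLocallyNoetherian X := isLocallyNoetherian_of_proper k X
  have hχO := Groth.Agent.Lib.Helper6.H0Semi.euler_structureModule k X hdim
  have hpt := fun _ : Curv2.genus k X = 0 =>
    Groth.Agent.Lib.Helper6.PointIdeal.exists_invertible_deg_neg_one k X hpid hdim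
  intro s
  induction s using Nat.strong_induction_on with
  | _ s IH =>
  intro G j hj hG
  haveI := hj
  rcases Nat.eq_zero_or_pos s with hs0 | hs
  · subst hs0
    haveI := HH_subsingleton_of_isZero k G (isZero_of_rank_zero G hG) 0
    rw [Module.finrank_zero_of_subsingleton]
    simp
  have cG := isCoh_of_isFinLocFreeOfRank G s hG
  have hχ := euler_eq_h0_sub_h1 k X hdim.le G cG
  by_cases hQG : QuotGt k X (2 * (Curv2.genus k X : ℤ) - 2) G
  · haveI := vanish_of_quotGt k X hpid hdim hpt s G hG hQG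
    have h1 : Module.finrank k (Coh.HH X G 1) = 0 := Module.finrank_zero_of_subsingleton
    have h2 := hss G s j hj hs hG
    have h3 : Curv2.deg k X G s = (Module.finrank k (Coh.HH X G 0) : ℤ) -
        (s : ℤ) * (1 - (Curv2.genus k X : ℤ)) := by
      unfold Curv2.deg
      rw [hχO, hχ, h1]
      push_cast
      ring
    rw [h3] at h2
    rw [hA]
    nlinarith
  · classical
    unfold QuotGt at hQG
    push Not at hQG
    let Pred : ℕ → Prop := fun q => ∃ (Q : X.Modules) (p : G ⟶ Q), Epi p ∧ 0 < q ∧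
      FlatMod.IsFinLocFreeOfRank q Q ∧
      Curv2.deg k X Q q ≤ (q : ℤ) * (2 * (Curv2.genus k X : ℤ) - 2)
    have hex : ∃ q, Pred q := by
      obtain ⟨F, q, p, hp, hq, hF, hd⟩ := hQG
      exact ⟨q, F, p, hp, hq, hF, hd⟩
    obtain ⟨Q, p, hp, hq, hQ, hd⟩ := Nat.find_spec hex
    have hmin : ∀ q' < Nat.find hex, ¬ Pred q' := fun q' h => Nat.find_min hex h
    generalize Nat.find hex = q at hq hQ hd hmin
    haveI := hp
    have hPQ : ProperQuotGt k X (2 * (Curv2.genus k X : ℤ) - 2) q Q := by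
      intro Q' q' p' hp' hq' hlt hQ'
      by_contra hle
      push Not at hle
      haveI := hp'
      exact hmin q' hlt ⟨Q', p ≫ p', epi_comp _ _, hq', hQ', hle⟩
    have h0Q := h0_le_of_properQuotGt k X hpid hdim q hq Q hQ hPQ hd
    obtain ⟨a, hsa, hK, -⟩ := Groth.Agent.Lib.Helper4.CurveSat.kernel_of_epi k X hpid p s q hG hQ
    have haK := IH a (by omega) (kernel p) (kernel.ι p ≫ j) (mono_comp _ _) hK
    have cQ := isCoh_of_isFinLocFreeOfRank Q q hQ
    have cK := isCoh_of_isFinLocFreeOfRank (kernel p) a hK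
    haveI : Module.Finite k (Coh.HH X (sesOfEpi p).X₁ 0) := Groth.Agent.S0002.result k X _ cK 0
    haveI : Module.Finite k (Coh.HH X (sesOfEpi p).X₂ 0) := Groth.Agent.S0002.result k X _ cG 0
    haveI : Module.Finite k (Coh.HH X (sesOfEpi p).X₃ 0) := Groth.Agent.S0002.result k X _ cQ 0
    have hmid := Groth.Agent.Lib.LeadCohRank.finrank_mid_le k (sesOfEpi p) (sesOfEpi_shortExact p) 0
    have hmid' : (Module.finrank k (Coh.HH X G 0) : ℤ) ≤
        (Module.finrank k (Coh.HH X (kernel p) 0) : ℤ) + (Module.finrank k (Coh.HH X Q 0) : ℤ) := by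
      exact_mod_cast hmid
    have hsa' : (s : ℤ) = (a : ℤ) + (q : ℤ) := by exact_mod_cast hsa
    have hr0 : (0 : ℤ) ≤ (r : ℤ) := Int.natCast_nonneg _
    have hq0 : (0 : ℤ) ≤ (q : ℤ) := Int.natCast_nonneg _
    rw [hsa']
    nlinarith

include k in
omit [IsIntegral X] [IsProper (X ↘ (Spec (CommRingCat.of k)))] in
/-- `H^i` of a finite biproduct vanishes if it vanishes on every summand -/
theorem HH_subsingleton_biproduct {J : Type} [Fintype J] (f : J → X.Modules) (i : ℕ)
    (h : ∀ j, Subsingleton (Coh.HH X (f j) i)) : Subsingleton (Coh.HH X (⨁ f) i) := by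
  classical
  have key : ∀ z : Coh.HH X (⨁ f) i, z = 0 := by
    intro z
    have h1 : z = Canon.HHlin k (𝟙 (⨁ f)) i z :=
      (Groth.Agent.Lib.Helper4.CurveChi.HHlin_id k _ i z).symm
    rw [h1, ← biproduct.total, ← Groth.Agent.Lib.Helper4.CurveAsym.hhMapLin_apply, map_sum,
      LinearMap.sum_apply]
    refine Finset.sum_eq_zero (fun j _ => ?_)
    rw [Groth.Agent.Lib.Helper4.CurveAsym.hhMapLin_apply, Groth.Agent.Lib.Helper4.CurveChi.HHlin_comp,
      (h j).elim (Canon.HHlin k (biproduct.π f j) i z) 0, map_zero]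
  exact ⟨fun x y => by rw [key x, key y]⟩

include k in
omit [IsIntegral X] in
/-- a quotient of `O^N ⊗ M` has no `H¹` if `M` has none (on a proper curve) -/
theorem H1_quot_free_twist (hdim : topologicalKrullDim X = 1) (M : X.Modules) (cM : Coh.IsCoh M)
    (hM : Subsingleton (Coh.HH X M 1)) (N : ℕ) (F : X.Modules) (cF : Coh.IsCoh F)
    (q : FlatMod.freeMod X N ⟶ F) [Epi q] :
    Subsingleton (Coh.HH X (CohB1.tensorMod F M) 1) := by
  haveI : IsLocallyNoetherian X := isLocallyNoetherian_of_proper k X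
  obtain ⟨e⟩ := Groth.Agent.Lib.Helper23.AmpleFam2.nonempty_freeMod_tensor_iso N M
  have hA : Subsingleton (Coh.HH X (CohB1.tensorMod (FlatMod.freeMod X N) M) 1) := by
    haveI := HH_subsingleton_biproduct k X (fun _ : Fin N => M) 1 (fun _ => hM)
    exact (Groth.Agent.Lib.Helper4.CurveChi.HHequiv k e 1).toEquiv.subsingleton
  have cfree : Coh.IsCoh (FlatMod.freeMod X N) := by
    have hfp := Groth.Agent.Lib.Helper2.LocFree.isFP_of_isFinLocFree _
      (Groth.Agent.Lib.Helper23.ResProp.isFinLocFree_freeMod X N)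
    exact ⟨Groth.Agent.Helper18Strict.isQCoh_of_isFP _ hfp, Groth.Agent.Helper18Strict.isFT_of_isFP _ hfp⟩
  have cA := Groth.Agent.Lib.Helper4.CurveAsym.isCoh_tensorMod X _ M cfree cM
  have cB := Groth.Agent.Lib.Helper4.CurveAsym.isCoh_tensorMod X _ M cF cM
  have hsurj := Groth.Agent.Lib.Helper4.CurveAsym.surjective_H1_of_cokernel k X hdim.le
    (Groth.Agent.Lib.Helper23.ResProp.tmapR q M) cA cB
    (HH_subsingleton_of_isZero k _ (isZero_cokernel_of_epi _) 1)
  refine ⟨fun x y => ?_⟩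
  obtain ⟨x', rfl⟩ := hsurj x
  obtain ⟨y', rfl⟩ := hsurj y
  rw [hA.elim x' y']

open Groth.Agent.Lib.Helper27GlobGenPn in
/-- S18840: the `h⁰`-criterion for semistability of quotients of `O^N` with given Hilbert polynomial -/
theorem main [IsAlgClosed k] [Smooth (X ↘ Spec (CommRingCat.of k))]
    (hdim : topologicalKrullDim X = 1)
    (L : X.Modules) (hLi : PicF.IsInvertible L) (hL : CohB1.IsAmple L)
    (N : ℕ) (P : Polynomial ℚ) :
    ∃ l : ℕ, ∀ (r : ℕ) (F : X.Modules) (q : FlatMod.freeMod X N ⟶ F),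
      0 < r → FlatMod.IsFinLocFreeOfRank r F → Epi q → ShStab.IsHilbPoly k X L F P →
        (ModFun.IsSlopeSemistable k X F r ↔
          ∀ (F' : X.Modules) (r' : ℕ) (i : F' ⟶ F), Mono i → 0 < r' → FlatMod.IsFinLocFreeOfRank r' F' →
            (Module.finrank k (Coh.HH X (ShStab.twist X L F' l) 0) : ℚ) / (r' : ℚ) ≤
              (Module.finrank k (Coh.HH X (ShStab.twist X L F l) 0) : ℚ) / (r : ℚ)) := by
  have hpid : PIDStalks X := pidStalks_of_smooth k X (X ↘ Spec (CommRingCat.of k)) hdim.le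
  haveI : IsLocallyNoetherian X := isLocallyNoetherian_of_proper k X
  have hδ : 0 < Curv2.deg k X L 1 :=
    Groth.Agent.Lib.Helper4.CurveAsym.deg_pos_of_isAmple k X hdim L hLi hL
  have hχO := Groth.Agent.Lib.Helper6.H0Semi.euler_structureModule k X hdim
  have hpt := fun _ : Curv2.genus k X = 0 =>
    Groth.Agent.Lib.Helper6.PointIdeal.exists_invertible_deg_neg_one k X hpid hdim
  refine ⟨2 * Curv2.genus k X + ⌈|P.eval 0|⌉₊, ?_⟩
  intro r F q hr hF hq hP
  haveI := hq
  generalize hl : 2 * Curv2.genus k X + ⌈|P.eval 0|⌉₊ = l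
  have hMinv : PicF.IsInvertible (CohB1.tensorPow L l) := isInvertible_tensorPow hLi l
  have hM1 := isFinLocFreeOfRank_one_of_isInvertible _ hMinv
  have hdegM : Curv2.deg k X (CohB1.tensorPow L l) 1 = l * Curv2.deg k X L 1 :=
    Groth.Agent.Lib.Helper4.CurveAsym.deg_tensorPow k X hdim.le L hLi l
  have cF := isCoh_of_isFinLocFreeOfRank F r hF
  have cM := isCoh_of_isFinLocFreeOfRank _ 1 hM1
  -- the bound on `χ(F)` from `P(0)`
  have hχF : -(⌈|P.eval 0|⌉₊ : ℤ) ≤ Curv2.euler k X F := by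
    have hP0 := hP 0
    have h0 := (rtwist_rank_deg k X hpid hdim (CohB1.tensorPow L 0) (isInvertible_tensorPow hLi 0) r F hF).2
    rw [Groth.Agent.Lib.Helper4.CurveAsym.deg_tensorPow k X hdim.le L hLi 0] at h0
    have h1 : Curv2.euler k X (ShStab.twist X L F 0) = Curv2.euler k X F := by
      unfold Curv2.deg at h0
      unfold ShStab.twist
      push_cast at h0
      linarith
    rw [h1] at hP0
    have h2 : |(Curv2.euler k X F : ℚ)| ≤ (⌈|P.eval 0|⌉₊ : ℚ) := by
      rw [hP0]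
      simpa using Nat.le_ceil |P.eval 0|
    have h3 : -(⌈|P.eval 0|⌉₊ : ℚ) ≤ (Curv2.euler k X F : ℚ) := (abs_le.1 h2).1
    exact_mod_cast h3
  have hFl := rtwist_rank_deg k X hpid hdim _ hMinv r F hF
  have cFl := isCoh_of_isFinLocFreeOfRank _ r hFl.1
  have hχFl := euler_eq_h0_sub_h1 k X hdim.le _ cFl
  have hr1 : (1 : ℤ) ≤ (r : ℤ) := by exact_mod_cast hr
  have hg0 : (0 : ℤ) ≤ (Curv2.genus k X : ℤ) := Int.natCast_nonneg _
  have hB0 : (0 : ℤ) ≤ (⌈|P.eval 0|⌉₊ : ℤ) := Int.natCast_nonneg _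
  have hl' : (l : ℤ) = 2 * (Curv2.genus k X : ℤ) + (⌈|P.eval 0|⌉₊ : ℤ) := by
    rw [← hl]
    push_cast
    ring
  have hdF : Curv2.deg k X F r = Curv2.euler k X F - (r : ℤ) * (1 - (Curv2.genus k X : ℤ)) := by
    unfold Curv2.deg
    rw [hχO]
  have hdFl : Curv2.deg k X (CohB1.tensorMod F (CohB1.tensorPow L l)) r =
      Curv2.euler k X (CohB1.tensorMod F (CohB1.tensorPow L l)) - (r : ℤ) * (1 - (Curv2.genus k X : ℤ)) := by
    unfold Curv2.deg
    rw [hχO]
  have hlδ : (l : ℤ) ≤ (l : ℤ) * Curv2.deg k X L 1 := by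
    have : (0 : ℤ) ≤ (l : ℤ) := Int.natCast_nonneg _
    nlinarith
  constructor
  · -- semistable ⇒ criterion
    intro hss F' r' i hi hr' hF'
    haveI := hi
    have hssl := rtwist_semistable k X hpid hdim _ hMinv r F hF hss
    have hAg : (r : ℤ) * (Curv2.genus k X : ℤ) ≤
        Curv2.deg k X (CohB1.tensorMod F (CohB1.tensorPow L l)) r + (r : ℤ) * (1 - (Curv2.genus k X : ℤ)) := by
      rw [hFl.2, hdegM, hdF]
      have h1 : (r : ℤ) * (l : ℤ) ≤ (r : ℤ) * ((l : ℤ) * Curv2.deg k X L 1) :=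
        mul_le_mul_of_nonneg_left hlδ (by linarith)
      have h2 : (⌈|P.eval 0|⌉₊ : ℤ) ≤ (r : ℤ) * (⌈|P.eval 0|⌉₊ : ℤ) := by nlinarith
      have h3 : (0 : ℤ) ≤ (r : ℤ) * (Curv2.genus k X : ℤ) := by nlinarith
      rw [hl'] at h1
      nlinarith
    have hvan : Subsingleton (Coh.HH X (CohB1.tensorMod F (CohB1.tensorPow L l)) 1) := by
      refine Groth.Agent.Lib.Helper6.SSVanish.main k X hdim r hr _ hFl.1 hssl ?_
      nlinarith
    have h1 : Module.finrank k (Coh.HH X (CohB1.tensorMod F (CohB1.tensorPow L l)) 1) = 0 :=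
      Module.finrank_zero_of_subsingleton
    have hMflat := Groth.Agent.Lib.Helper4.CurveChi.isFlat_of_isFinLocFreeOfRank _ 1 hM1
    haveI := Groth.Agent.Lib.Helper6.SimpleSub.mono_wl i (CohB1.tensorPow L l) hMflat
    have hG := (rtwist_rank_deg k X hpid hdim _ hMinv r' F' hF').1
    have hb := h0_bound k X hpid hdim r _ hssl _ rfl hAg r' _ (wl i (CohB1.tensorPow L l)) inferInstance hG
    have hr'0 : (0 : ℚ) < (r' : ℚ) := by exact_mod_cast hr'
    have hr0 : (0 : ℚ) < (r : ℚ) := by exact_mod_cast hr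
    unfold ShStab.twist
    rw [div_le_div_iff₀ hr'0 hr0]
    have hb' : (r : ℤ) * (Module.finrank k (Coh.HH X (CohB1.tensorMod F' (CohB1.tensorPow L l)) 0) : ℤ) ≤
        (r' : ℤ) * (Module.finrank k (Coh.HH X (CohB1.tensorMod F (CohB1.tensorPow L l)) 0) : ℤ) := by
      rw [hdFl, hχFl, h1] at hb
      push_cast at hb
      linarith
    have hb'' : (Module.finrank k (Coh.HH X (CohB1.tensorMod F' (CohB1.tensorPow L l)) 0) : ℤ) * (r : ℤ) ≤
        (Module.finrank k (Coh.HH X (CohB1.tensorMod F (CohB1.tensorPow L l)) 0) : ℤ) * (r' : ℤ) := by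
      linarith
    exact_mod_cast hb''
  · -- criterion ⇒ semistable
    intro hcrit F' r' i hi hr' hF'
    by_contra hlt
    push Not at hlt
    have hdegM' : 2 * (Curv2.genus k X : ℤ) - 2 < Curv2.deg k X (CohB1.tensorPow L l) 1 := by
      rw [hdegM]
      linarith
    have hvM : Subsingleton (Coh.HH X (CohB1.tensorPow L l) 1) :=
      vanish_of_quotGt k X hpid hdim hpt 1 _ hM1 (quotGt_of_rank_one k X hpid _ _ hM1 hdegM')
    have hvan := H1_quot_free_twist k X hdim _ cM hvM N F cF q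
    have h1 : Module.finrank k (Coh.HH X (CohB1.tensorMod F (CohB1.tensorPow L l)) 1) = 0 :=
      Module.finrank_zero_of_subsingleton
    have hG := rtwist_rank_deg k X hpid hdim _ hMinv r' F' hF'
    have cG := isCoh_of_isFinLocFreeOfRank _ r' hG.1
    have hle := euler_le_h0 k X hdim.le _ cG
    have hdG : Curv2.deg k X (CohB1.tensorMod F' (CohB1.tensorPow L l)) r' =
        Curv2.euler k X (CohB1.tensorMod F' (CohB1.tensorPow L l)) - (r' : ℤ) * (1 - (Curv2.genus k X : ℤ)) := by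
      unfold Curv2.deg
      rw [hχO]
    have hc := hcrit F' r' i hi hr' hF'
    have hr'0 : (0 : ℚ) < (r' : ℚ) := by exact_mod_cast hr'
    have hr0 : (0 : ℚ) < (r : ℚ) := by exact_mod_cast hr
    unfold ShStab.twist at hc
    rw [div_le_div_iff₀ hr'0 hr0] at hc
    have hc' : (Module.finrank k (Coh.HH X (CohB1.tensorMod F' (CohB1.tensorPow L l)) 0) : ℤ) * (r : ℤ) ≤
        (Module.finrank k (Coh.HH X (CohB1.tensorMod F (CohB1.tensorPow L l)) 0) : ℤ) * (r' : ℤ) := by
      exact_mod_cast hc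
    have e1 := hFl.2
    have e2 := hG.2
    rw [hdFl, hχFl, h1] at e1
    rw [hdG] at e2
    push_cast at e1
    have hr'1 : (0 : ℤ) ≤ (r' : ℤ) := Int.natCast_nonneg _
    nlinarith

end Groth.Agent.Lib.Helper6.H0Crit
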