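import Mathlib
import Groth.Prelude.Def_Curv2
import Groth.Agent.Lib.Helper6H0Const
import Groth.Agent.Lib.Helper6GeomComp3
import Groth.Agent.Lib.Helper7Cartier2

set_option autoImplicit false
universe u
open CategoryTheory CategoryTheory.Limits AlgebraicGeometry TensorProduct

namespace Groth.Agent.Lib.Helper6.H0Field

open Groth.Agent.Lib.Helper6.H0Const

section A

variable (k : Type u) [Field k] {X : Scheme.{u}} (f : X ⟶ Spec (CommRingCat.of k))

theorem finite_gsMap [IsIntegral X] [IsProper f] :
    letI : Algebra k Γ(X, ⊤) := (gsMap k f).hom.toAlgebra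
    Module.Finite k Γ(X, ⊤) := by
  have h1 : f.appTop.hom.Finite := finite_appTop_of_universallyClosed k f
  have h2 : (Scheme.ΓSpecIso (CommRingCat.of k)).inv.hom.Finite :=
    RingHom.Finite.of_surjective _
      (Scheme.ΓSpecIso (CommRingCat.of k)).symm.commRingCatIsoToRingEquiv.surjective
  exact h1.comp h2

/-- global functions on a proper geometrically reduced variety form a separable extension -/
theorem isSeparable_globalSections [IsIntegral X] [IsProper f] [GeometricallyReduced f] :
    letI : Algebra k Γ(X, ⊤) := (gsMap k f).hom.toAlgebra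
    Algebra.IsSeparable k Γ(X, ⊤) := by
  letI algR : Algebra k Γ(X, ⊤) := (gsMap k f).hom.toAlgebra
  letI : Field Γ(X, ⊤) := (isField_of_universallyClosed k f).toField
  let L := AlgebraicClosure k
  let g := Spec.map (CommRingCat.ofHom (algebraMap k L))
  haveI hred : IsReduced (pullback f g) :=
    pullback_of_geometrically (GeometricallyReduced.geometrically_isReduced (f := f)) L g
  have hpo := isPushout_gsMap k f L
  have hpo' := CommRingCat.isPushout_tensorProduct k L Γ(X, ⊤)
  let e := hpo'.isoIsPushout _ _ hpo
  haveI hr : IsReduced (L ⊗[k] Γ(X, ⊤)) :=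
    isReduced_of_injective e.commRingCatIsoToRingEquiv.toRingHom
      e.commRingCatIsoToRingEquiv.injective
  haveI : Algebra.IsGeometricallyReduced k Γ(X, ⊤) :=
    (Algebra.isGeometricallyReduced_field_iff k _).mpr hr
  haveI : Module.Finite k Γ(X, ⊤) := finite_gsMap k f
  exact Groth.Agent.Lib.Helper7.ExalLib.isSeparable_of_isGeometricallyReduced_of_isAlgebraic

end A

section B

attribute [local instance] Curv2.resAlgebra

variable (k : Type u) [Field k] (X : Scheme.{u}) [X.Over (Spec (CommRingCat.of k))]

/-- global functions on a proper geometrically irreducible variety form a purely inseparable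
extension -/
theorem isPurelyInseparable_globalSections [IsIntegral X]
    [IsProper (X ↘ Spec (CommRingCat.of k))]
    [GeometricallyIrreducible (X ↘ Spec (CommRingCat.of k))] :
    letI : Algebra k Γ(X, ⊤) := (gsMap k (X ↘ Spec (CommRingCat.of k))).hom.toAlgebra
    IsPurelyInseparable k Γ(X, ⊤) := by
  letI algR : Algebra k Γ(X, ⊤) := (gsMap k (X ↘ Spec (CommRingCat.of k))).hom.toAlgebra
  letI : Field Γ(X, ⊤) := (isField_of_universallyClosed k (X ↘ Spec (CommRingCat.of k))).toField
  haveI : Module.Finite k Γ(X, ⊤) := finite_gsMap k (X ↘ Spec (CommRingCat.of k))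
  rw [isPurelyInseparable_iff]
  intro a
  refine ⟨Algebra.IsIntegral.isIntegral a, fun hsep => ?_⟩
  have hirr := (Groth.Agent.Lib.Helper6.GeomComp.geometricallyIrreducible_iff_sepClosed_generic
    k X).mp inferInstance
  let ξ := genericPoint X
  let φ : Γ(X, ⊤) →ₐ[k] X.residueField ξ :=
    { toRingHom := (X.presheaf.germ ⊤ ξ trivial ≫ X.residue ξ).hom
      commutes' := fun c => rfl }
  have hφ : Function.Injective φ := φ.toRingHom.injective
  obtain ⟨c, hc⟩ := hirr (φ a) (hsep.map φ hφ)
  refine ⟨c, hφ ?_⟩
  rw [← hc]
  exact (φ.commutes c)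

end B

end Groth.Agent.Lib.Helper6.H0Field
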