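import Groth.Agent.Lib.Helper6AtiyahB

/-!
# Line bundles of degree `r ≤ g` with `h⁰ = 1` on a curve of genus `g` (helper6): S14152
-/

set_option autoImplicit false
set_option linter.style.haveILetI false
universe u
open CategoryTheory Limits AlgebraicGeometry Opposite TopologicalSpace

namespace Groth.Agent.Lib.Helper6.H0One

open Groth.Agent.Lib.Helper4.CurveBun Groth.Agent.Lib.Helper4.DegAdd Groth.Agent.Lib.Helper4.CurveRR
  Groth.Agent.Lib.Helper4.Dev Groth.Agent.Lib.Helper6.CurveDeg
  Groth.Agent.Lib.Helper4.CurveStab Groth.Agent.Lib.Helper6.SSVanish Groth.Agent.Lib.Helper23.SecTw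
  Groth.Agent.Lib.Helper17.IAdic Groth.Agent.Lib.Helper27GlobGenPn Groth.Agent.Lib.Helper4.CurveAsym
  Groth.Agent.Lib.Helper6.GGCurve

section Gen

variable (k : Type u) [Field k] {X : Scheme.{u}} [X.Over (Spec (CommRingCat.of k))]

/-- `h⁰` along a short exact sequence whose quotient has `h⁰ = 1`, in terms of sections of the middle term -/
theorem h0_step (S : ShortComplex X.Modules) (hS : S.ShortExact)
    [Module.Finite k (Coh.structureModule X ⟶ S.X₂)]
    (h3 : Module.finrank k (Coh.structureModule X ⟶ S.X₃) = 1) :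
    ((∃ u : Coh.structureModule X ⟶ S.X₂, u ≫ S.g ≠ 0) →
      Module.finrank k (Coh.structureModule X ⟶ S.X₁) + 1 = Module.finrank k (Coh.structureModule X ⟶ S.X₂)) ∧
    ((∀ u : Coh.structureModule X ⟶ S.X₂, u ≫ S.g = 0) →
      Module.finrank k (Coh.structureModule X ⟶ S.X₁) = Module.finrank k (Coh.structureModule X ⟶ S.X₂)) := by
  haveI := hS.mono_f
  let F : (Coh.structureModule X ⟶ S.X₁) →ₗ[k] (Coh.structureModule X ⟶ S.X₂) :=
    Linear.rightComp k (Coh.structureModule X) S.f
  let G : (Coh.structureModule X ⟶ S.X₂) →ₗ[k] (Coh.structureModule X ⟶ S.X₃) :=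
    Linear.rightComp k (Coh.structureModule X) S.g
  have hF : Function.Injective F := fun a b hab => (cancel_mono S.f).1 hab
  have hFG : LinearMap.range F = LinearMap.ker G := by
    ext u
    constructor
    · rintro ⟨t, rfl⟩
      change (t ≫ S.f) ≫ S.g = 0
      rw [Category.assoc, S.zero, comp_zero]
    · intro hu
      exact ⟨hS.exact.lift u hu, hS.exact.lift_f u hu⟩
  have h1 : Module.finrank k (LinearMap.range F) = Module.finrank k (Coh.structureModule X ⟶ S.X₁) :=
    LinearMap.finrank_range_of_inj hF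
  have h2 := LinearMap.finrank_range_add_finrank_ker G
  rw [← hFG, h1] at h2
  haveI : Module.Finite k (Coh.structureModule X ⟶ S.X₃) := Module.finite_of_finrank_eq_succ h3
  constructor
  · rintro ⟨u, hu⟩
    have h4 : Module.finrank k (LinearMap.range G) = 1 := by
      have hle : Module.finrank k (LinearMap.range G) ≤ 1 := h3 ▸ Submodule.finrank_le _
      have hpos : 0 < Module.finrank k (LinearMap.range G) := by
        rw [Module.finrank_pos_iff_exists_ne_zero]
        refine ⟨⟨G u, LinearMap.mem_range_self G u⟩, ?_⟩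
        intro h
        exact hu (congrArg Subtype.val h)
      omega
    omega
  · intro hu
    have h4 : Module.finrank k (LinearMap.range G) = 0 := by
      have : LinearMap.range G = ⊥ := by
        rw [LinearMap.range_eq_bot]
        apply LinearMap.ext
        intro u
        exact hu u
      rw [this]
      exact finrank_bot k _
    omega

end Gen

section Curve

variable (k : Type u) [Field k] (X : Scheme.{u}) [X.Over (Spec (CommRingCat.of k))]
  [IsIntegral X] [IsProper (X ↘ Spec (CommRingCat.of k))]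

open Groth.Agent.Lib.Helper6.PointIdeal Groth.Agent.Lib.Helper21.ExtCartier in
omit [IsIntegral X] in
/-- `h⁰(Q_p ⊗ N) = rank N` for a closed point `p` -/
theorem h0_quot_tensor [IsAlgClosed k] (p : X) (hp : IsClosed ({p} : Set X)) (n : ℕ) (N : X.Modules)
    (hN : FlatMod.IsFinLocFreeOfRank n N) :
    Module.finrank k (Coh.structureModule X ⟶ CohB1.tensorMod
      (ClSub.quotMod (Scheme.IdealSheafData.vanishingIdeal ⟨{p}, hp⟩)) N) = n := by
  obtain ⟨h0, hv, hQ, hsub⟩ := quotMod_point k X p hp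
  have h := Groth.Agent.Lib.Helper4.ZeroDimChi.finrank_sections_tensor k
    (ClSub.quotMod (Scheme.IdealSheafData.vanishingIdeal ⟨{p}, hp⟩)) N hQ ({p} : Finset X)
    (fun x hx => by rw [Finset.mem_singleton] at hx; rw [hx]; exact hp)
    (by rw [Finset.coe_singleton]; exact hsub) n hN
  rw [finrank_hom_eq k, ← (Groth.Agent.Lib.Helper17.GammaA.e0 k _).finrank_eq, h,
    (Groth.Agent.Lib.Helper17.GammaA.e0 k _).finrank_eq, h0, mul_one]

open Groth.Agent.Lib.Helper6.PointIdeal Groth.Agent.Lib.Helper21.ExtCartier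
  Groth.Agent.Lib.Helper6.SimpleSub Groth.Agent.Lib.Helper4.CurveChi in
/-- a nonzero section of a line bundle is nonzero at some closed point -/
theorem exists_point_not_vanishing [IsAlgClosed k] (hpid : PIDStalks X)
    (N : X.Modules) (hN : FlatMod.IsFinLocFreeOfRank 1 N) (s : Coh.structureModule X ⟶ N) (hs : s ≠ 0) :
    ∃ (p : X) (hp : IsClosed ({p} : Set X)),
      (s ≫ (lam N).inv) ≫ wl (ClSub.toSubscheme (Scheme.IdealSheafData.vanishingIdeal ⟨{p}, hp⟩)) N ≠ 0 := by
  haveI : IsLocallyNoetherian X := isLocallyNoetherian_of_proper k X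
  haveI : AlgebraicGeometry.IsNoetherian X := isNoetherian_of_proper k X
  have hO1 : FlatMod.IsFinLocFreeOfRank 1 (Coh.structureModule X) :=
    isFinLocFreeOfRank_one_of_isInvertible _
      (Groth.Agent.Lib.Helper23.TensorUnit.isInvertible_structureModule X)
  haveI : Mono s := mono_of_ne_zero_of_rank_one k X hpid 1 hO1 hN s hs
  have hgen := subsingleton_cokernel_stalk_genericPoint k X s 1 hO1 hN
  have cO := isCoh_structureModule X
  have cN := isCoh_of_isFinLocFreeOfRank N 1 hN
  have cC : Coh.IsCoh (cokernel s) := isCoh_cokernel s cO cN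
  have hcl : IsClosed (CohB1.support (cokernel s)) := Groth.Agent.S0020.result X _ cC.2
  haveI : JacobsonSpace X := LocallyOfFiniteType.jacobsonSpace (X ↘ Spec (CommRingCat.of k))
  obtain ⟨p, hpU, hpcl⟩ := nonempty_inter_closedPoints (Z := (CohB1.support (cokernel s))ᶜ)
    ⟨genericPoint X, fun h => h hgen⟩ hcl.isOpen_compl.isLocallyClosed
  refine ⟨p, hpcl, fun hz => ?_⟩
  obtain ⟨h0, hv, hQ, hsub⟩ := quotMod_point k X p hpcl
  have hNflat := isFlat_of_isFinLocFreeOfRank N 1 hN
  have hS := shortExact_map_tw (idealSES (Scheme.IdealSheafData.vanishingIdeal ⟨{p}, hpcl⟩))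
    (idealSES_shortExact _) N hNflat
  haveI : Epi (wl (ClSub.toSubscheme (Scheme.IdealSheafData.vanishingIdeal ⟨{p}, hpcl⟩)) N) := hS.epi_g
  have hse : s ≫ ((lam N).inv ≫
      wl (ClSub.toSubscheme (Scheme.IdealSheafData.vanishingIdeal ⟨{p}, hpcl⟩)) N) = 0 := by
    rw [← Category.assoc]
    exact hz
  have hd : cokernel.π s ≫ cokernel.desc s _ hse = (lam N).inv ≫
      wl (ClSub.toSubscheme (Scheme.IdealSheafData.vanishingIdeal ⟨{p}, hpcl⟩)) N := cokernel.π_desc _ _ _
  haveI : Epi (cokernel.desc s _ hse) := epi_of_epi_fac hd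
  have hsurj := stalkL_surjective_of_epi (cokernel.desc s _ hse) p
  haveI hCp : Subsingleton ((cokernel s).presheaf.stalk p) := not_not.1 hpU
  have hQNp : Subsingleton ((CohB1.tensorMod (ClSub.quotMod
      (Scheme.IdealSheafData.vanishingIdeal ⟨{p}, hpcl⟩)) N).presheaf.stalk p) := hsurj.subsingleton
  have hemp : CohB1.support (CohB1.tensorMod (ClSub.quotMod
      (Scheme.IdealSheafData.vanishingIdeal ⟨{p}, hpcl⟩)) N) = ∅ := by
    apply Set.eq_empty_of_forall_notMem
    intro x hx
    have hxp := hsub (Groth.Agent.Lib.Helper4.ZeroDimChi.support_tensorMod_subset_left _ N hx)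
    rw [Set.mem_singleton_iff] at hxp
    subst hxp
    exact hx hQNp
  have hZ := isZero_of_support_eq_empty _ hemp
  have h1 := h0_quot_tensor k X p hpcl 1 N hN
  haveI : Subsingleton (Coh.structureModule X ⟶ CohB1.tensorMod (ClSub.quotMod
      (Scheme.IdealSheafData.vanishingIdeal ⟨{p}, hpcl⟩)) N) := ⟨fun a b => hZ.eq_of_tgt a b⟩
  rw [Module.finrank_zero_of_subsingleton] at h1
  exact zero_ne_one h1

open Groth.Agent.Lib.Helper6.PointIdeal Groth.Agent.Lib.Helper21.ExtCartier
  Groth.Agent.Lib.Helper6.SimpleSub Groth.Agent.Lib.Helper4.CurveChi in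
omit [IsIntegral X] in
/-- a line bundle which is not globally generated has a closed point at which all its sections vanish -/
theorem exists_point_all_vanishing [IsAlgClosed k]
    (N : X.Modules) (hN : FlatMod.IsFinLocFreeOfRank 1 N) (hngg : ¬ Curv2.IsGloballyGenerated N) :
    ∃ (p : X) (hp : IsClosed ({p} : Set X)),
      ∀ u : Coh.structureModule X ⟶ CohB1.tensorMod (Coh.structureModule X) N,
        u ≫ wl (ClSub.toSubscheme (Scheme.IdealSheafData.vanishingIdeal ⟨{p}, hp⟩)) N = 0 := by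
  haveI : IsLocallyNoetherian X := isLocallyNoetherian_of_proper k X
  haveI : AlgebraicGeometry.IsNoetherian X := isNoetherian_of_proper k X
  have cN := isCoh_of_isFinLocFreeOfRank N 1 hN
  have hne : CohB1.support (coker N) ≠ ∅ := fun h =>
    hngg (isGloballyGenerated_of_isZero_cokernel N (isZero_of_support_eq_empty _ h))
  have hne' : (CohB1.support (coker N)).Nonempty := Set.nonempty_iff_ne_empty.2 hne
  haveI : SheafOfModules.IsFiniteType (R := X.ringCatSheaf) N := cN.2
  have hCf : SheafOfModules.IsFiniteType (R := X.ringCatSheaf) (coker N) :=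
    Groth.Agent.Lib.Helper20.Nakayama.isFiniteType_of_epi (cπ N)
  have hcl : IsClosed (CohB1.support (coker N)) := Groth.Agent.S0020.result X _ hCf
  obtain ⟨p, hpS, hp⟩ := hcl.exists_closed_singleton hne'
  refine ⟨p, hp, ?_⟩
  by_contra hcon
  push Not at hcon
  obtain ⟨u, hu⟩ := hcon
  apply hpS
  obtain ⟨h0, hv, hQ, hsub⟩ := quotMod_point k X p hp
  have hQE : Coh.IsCoh (CohB1.tensorMod (ClSub.quotMod
      (Scheme.IdealSheafData.vanishingIdeal ⟨{p}, hp⟩)) N) := isCoh_tensorMod_locFree _ N hQ 1 hN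
  have hsupp' : ∀ x ∈ CohB1.support (CohB1.tensorMod (ClSub.quotMod
      (Scheme.IdealSheafData.vanishingIdeal ⟨{p}, hp⟩)) N), IsClosed ({x} : Set X) := by
    intro x hx
    have hxp := hsub (Groth.Agent.Lib.Helper4.ZeroDimChi.support_tensorMod_subset_left _ N hx)
    rw [hxp]
    exact hp
  obtain ⟨ι, π, hπ⟩ := Groth.Agent.Lib.Helper4.ZeroDimGG.isGloballyGenerated_of_closed_points _ hQE hsupp'
  have h1 := h0_quot_tensor k X p hp 1 N hN
  have hspan := (finrank_eq_one_iff_of_nonzero' _ hu).1 h1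
  haveI : Epi (u ≫ wl (ClSub.toSubscheme (Scheme.IdealSheafData.vanishingIdeal ⟨{p}, hp⟩)) N) :=
    @Groth.Agent.Lib.Helper6.Atiyah.epi_of_sigma_factor (SheafOfModules X.ringCatSheaf) _ ι
      (fun _ : ι => SheafOfModules.unit X.ringCatSheaf) _ _ _ π hπ _
      (fun i => by
        obtain ⟨c, hc⟩ := hspan (Sigma.ι (fun _ : ι => SheafOfModules.unit X.ringCatSheaf) i ≫ π)
        exact ⟨Formal.smulMod k _ c, hc⟩)
  have hz : wr (ClSub.quotMod (Scheme.IdealSheafData.vanishingIdeal ⟨{p}, hp⟩)) (cπ N) = 0 := by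
    rw [← cancel_epi (u ≫ wl (ClSub.toSubscheme (Scheme.IdealSheafData.vanishingIdeal ⟨{p}, hp⟩)) N),
      comp_zero, Category.assoc, interchange, ← Category.assoc]
    have h2 : u ≫ wr (Coh.structureModule X) (cπ N) = 0 := by
      have h3 : (u ≫ wr (Coh.structureModule X) (cπ N)) ≫ (lam _).hom = 0 := by
        rw [Category.assoc, lam_naturality, ← Category.assoc, sec_comp_π]
      rw [← cancel_mono (lam _).hom, h3, zero_comp]
    rw [h2, zero_comp]
  have hQp : Nontrivial ((ClSub.quotMod (Scheme.IdealSheafData.vanishingIdeal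
      (⟨{p}, hp⟩ : TopologicalSpace.Closeds X))).presheaf.stalk p) := by
    by_contra hnt
    rw [not_nontrivial_iff_subsingleton] at hnt
    have hemp : CohB1.support (ClSub.quotMod (Scheme.IdealSheafData.vanishingIdeal
        (⟨{p}, hp⟩ : TopologicalSpace.Closeds X))) = ∅ := by
      apply Set.eq_empty_of_forall_notMem
      intro x hx
      have hxp := hsub hx
      rw [Set.mem_singleton_iff] at hxp
      subst hxp
      exact hx hnt
    have hZ := isZero_of_support_eq_empty _ hemp
    haveI := HH_subsingleton_of_isZero k _ hZ 0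
    rw [Module.finrank_zero_of_subsingleton] at h0
    exact zero_ne_one h0
  haveI : Epi (ClSub.toSubscheme (Scheme.IdealSheafData.vanishingIdeal
      (⟨{p}, hp⟩ : TopologicalSpace.Closeds X))) := (idealSES_shortExact _).epi_g
  exact subsingleton_stalk_cokernel N cN _ (ClSub.toSubscheme _) p hQp hz

open Groth.Agent.Lib.Helper6.PointIdeal Groth.Agent.Lib.Helper21.ExtCartier
  Groth.Agent.Lib.Helper6.SimpleSub Groth.Agent.Lib.Helper4.CurveChi Groth.Agent.Lib.Helper6.TwistSS in
/-- `h⁰(I_p ⊗ N)` versus `h⁰(N)` for a line bundle `N` and a closed point `p` -/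
theorem twist_point [IsAlgClosed k] (hpid : PIDStalks X) (hdim : topologicalKrullDim X = 1)
    (p : X) (hp : IsClosed ({p} : Set X)) (N : X.Modules) (hN : FlatMod.IsFinLocFreeOfRank 1 N) :
    PicF.IsInvertible (CohB1.tensorMod (ClSub.idealMod (Scheme.IdealSheafData.vanishingIdeal ⟨{p}, hp⟩)) N) ∧
    Curv2.deg k X (CohB1.tensorMod (ClSub.idealMod (Scheme.IdealSheafData.vanishingIdeal ⟨{p}, hp⟩)) N) 1 =
      Curv2.deg k X N 1 - 1 ∧
    ((∃ u : Coh.structureModule X ⟶ CohB1.tensorMod (Coh.structureModule X) N,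
        u ≫ wl (ClSub.toSubscheme (Scheme.IdealSheafData.vanishingIdeal ⟨{p}, hp⟩)) N ≠ 0) →
      Module.finrank k (Coh.HH X (CohB1.tensorMod (ClSub.idealMod
        (Scheme.IdealSheafData.vanishingIdeal ⟨{p}, hp⟩)) N) 0) + 1 = Module.finrank k (Coh.HH X N 0)) ∧
    ((∀ u : Coh.structureModule X ⟶ CohB1.tensorMod (Coh.structureModule X) N,
        u ≫ wl (ClSub.toSubscheme (Scheme.IdealSheafData.vanishingIdeal ⟨{p}, hp⟩)) N = 0) →
      Module.finrank k (Coh.HH X (CohB1.tensorMod (ClSub.idealMod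
        (Scheme.IdealSheafData.vanishingIdeal ⟨{p}, hp⟩)) N) 0) = Module.finrank k (Coh.HH X N 0)) := by
  haveI : IsLocallyNoetherian X := isLocallyNoetherian_of_proper k X
  obtain ⟨hIinv, hIdeg⟩ := idealMod_point k X hpid hdim p hp
  obtain ⟨hIN, hdIN⟩ := twist_rank_deg k X hpid hdim _ hIinv 1 N hN
  have hNflat := isFlat_of_isFinLocFreeOfRank N 1 hN
  have hS := shortExact_map_tw (idealSES (Scheme.IdealSheafData.vanishingIdeal ⟨{p}, hp⟩))
    (idealSES_shortExact _) N hNflat
  have cON : Coh.IsCoh (CohB1.tensorMod (Coh.structureModule X) N) :=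
    isCoh_tensorMod_locFree _ N (isCoh_structureModule X) 1 hN
  haveI : Module.Finite k (Coh.HH X (CohB1.tensorMod (Coh.structureModule X) N) 0) :=
    Groth.Agent.S0002.result k X _ cON 0
  haveI : Module.Finite k (Coh.structureModule X ⟶ ((idealSES (Scheme.IdealSheafData.vanishingIdeal
      ⟨{p}, hp⟩)).map (Groth.Agent.Lib.Helper27SerreVan.tw N)).X₂) :=
    Module.Finite.equiv (homH0Equiv k (CohB1.tensorMod (Coh.structureModule X) N)).symm
  obtain ⟨hstep1, hstep2⟩ := h0_step k _ hS (h0_quot_tensor k X p hp 1 N hN)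
  have e1 : Module.finrank k (Coh.structureModule X ⟶ ((idealSES (Scheme.IdealSheafData.vanishingIdeal
      ⟨{p}, hp⟩)).map (Groth.Agent.Lib.Helper27SerreVan.tw N)).X₂) = Module.finrank k (Coh.HH X N 0) := by
    rw [finrank_hom_eq k]
    exact (HHequiv k (lam N) 0).finrank_eq
  have e2 : Module.finrank k (Coh.structureModule X ⟶ ((idealSES (Scheme.IdealSheafData.vanishingIdeal
      ⟨{p}, hp⟩)).map (Groth.Agent.Lib.Helper27SerreVan.tw N)).X₁) =
      Module.finrank k (Coh.HH X (CohB1.tensorMod (ClSub.idealMod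
        (Scheme.IdealSheafData.vanishingIdeal ⟨{p}, hp⟩)) N) 0) := finrank_hom_eq k _
  rw [e1, e2] at hstep1 hstep2
  refine ⟨Groth.Agent.Lib.Helper6.H0Semi.isInvertible_of_rank_one X hIN, ?_, hstep1, hstep2⟩
  rw [hdIN, hIdeg]
  push_cast
  ring

/-- twisting by the ideal of a general point drops `h⁰` by one -/
theorem down_general [IsAlgClosed k] (hpid : PIDStalks X) (hdim : topologicalKrullDim X = 1)
    (N : X.Modules) (hN : FlatMod.IsFinLocFreeOfRank 1 N) (n : ℕ)
    (h : Module.finrank k (Coh.HH X N 0) = n + 1) :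
    ∃ L : X.Modules, PicF.IsInvertible L ∧ Curv2.deg k X L 1 = Curv2.deg k X N 1 - 1 ∧
      Module.finrank k (Coh.HH X L 0) = n := by
  obtain ⟨s, hs⟩ := exists_hom_ne_zero k X N (by omega)
  obtain ⟨p, hp, hne⟩ := exists_point_not_vanishing k X hpid N hN s hs
  obtain ⟨hinv, hdeg, h1, -⟩ := twist_point k X hpid hdim p hp N hN
  refine ⟨_, hinv, hdeg, ?_⟩
  have := h1 ⟨_, hne⟩
  omega

/-- a line bundle of positive degree with `h⁰ = 1`: twisting by the ideal of a base point keeps `h⁰ = 1` -/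
theorem down_special [IsAlgClosed k] (hpid : PIDStalks X) (hdim : topologicalKrullDim X = 1)
    (N : X.Modules) (hN : FlatMod.IsFinLocFreeOfRank 1 N)
    (h : Module.finrank k (Coh.HH X N 0) = 1) (hd : 1 ≤ Curv2.deg k X N 1) :
    ∃ L : X.Modules, PicF.IsInvertible L ∧ Curv2.deg k X L 1 = Curv2.deg k X N 1 - 1 ∧
      Module.finrank k (Coh.HH X L 0) = 1 := by
  have hO1 : FlatMod.IsFinLocFreeOfRank 1 (Coh.structureModule X) :=
    isFinLocFreeOfRank_one_of_isInvertible _
      (Groth.Agent.Lib.Helper23.TensorUnit.isInvertible_structureModule X)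
  have hngg : ¬ Curv2.IsGloballyGenerated N := by
    rintro ⟨ι, π, hπ⟩
    obtain ⟨s, hs⟩ := exists_hom_ne_zero k X N (by omega)
    have hfr : Module.finrank k (Coh.structureModule X ⟶ N) = 1 := by rw [finrank_hom_eq k, h]
    have hspan := (finrank_eq_one_iff_of_nonzero' s hs).1 hfr
    haveI : Epi s :=
      @Groth.Agent.Lib.Helper6.Atiyah.epi_of_sigma_factor (SheafOfModules X.ringCatSheaf) _ ι
        (fun _ : ι => SheafOfModules.unit X.ringCatSheaf) _ _ _ π hπ s
        (fun i => by
          obtain ⟨c, hc⟩ := hspan (Sigma.ι (fun _ : ι => SheafOfModules.unit X.ringCatSheaf) i ≫ π)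
          exact ⟨Formal.smulMod k _ c, hc⟩)
    haveI : Mono s := mono_of_ne_zero_of_rank_one k X hpid 1 hO1 hN s hs
    haveI : IsIso s := isIso_of_mono_of_epi s
    have hdd := Groth.Agent.Lib.Helper4.CurveSSAb.deg_congr_iso k X (asIso s) 1
    rw [deg_structureModule k X] at hdd
    omega
  obtain ⟨p, hp, hall⟩ := exists_point_all_vanishing k X N hN hngg
  obtain ⟨hinv, hdeg, -, h2⟩ := twist_point k X hpid hdim p hp N hN
  exact ⟨_, hinv, hdeg, (h2 hall).trans h⟩

/-- S14152: for `r ≤ g` there is a line bundle of degree `r` with `h⁰ = 1` -/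
theorem main [IsAlgClosed k] [Smooth (X ↘ Spec (CommRingCat.of k))]
    (hdim : topologicalKrullDim X = 1) (g : ℕ) (hg : Curv2.genus k X = g) (hg1 : 1 ≤ g)
    (r : ℕ) (hr : r ≤ g) :
    ∃ L : X.Modules, PicF.IsInvertible L ∧ Curv2.deg k X L 1 = (r : ℤ) ∧
      Module.finrank k (Coh.HH X L 0) = 1 := by
  have hpid : PIDStalks X := pidStalks_of_smooth k X (X ↘ Spec (CommRingCat.of k)) hdim.le
  haveI : IsLocallyNoetherian X := isLocallyNoetherian_of_proper k X
  -- from degree `2g - 1` down to degree `g`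
  have hA : ∀ j : ℕ, j ≤ g - 1 → ∃ L : X.Modules, PicF.IsInvertible L ∧
      Curv2.deg k X L 1 = 2 * (g : ℤ) - 1 - j ∧ Module.finrank k (Coh.HH X L 0) = g - j := by
    intro j
    induction j with
    | zero =>
      intro _
      obtain ⟨B, hBinv, hBdeg⟩ := Groth.Agent.Lib.Helper6.Atiyah.exists_invertible_deg k X hpid hdim
        (2 * (g : ℤ) - 1)
      have hB := isFinLocFreeOfRank_one_of_isInvertible B hBinv
      have cB := isCoh_of_isFinLocFreeOfRank B 1 hB
      haveI hv : Subsingleton (Coh.HH X B 1) := by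
        refine vanish_of_quotGt k X hpid hdim
          (fun _ => Groth.Agent.Lib.Helper6.PointIdeal.exists_invertible_deg_neg_one k X hpid hdim) 1 B hB ?_
        apply Groth.Agent.Lib.Helper6.SSVanish.quotGt_of_rank_one k X hpid _ B hB
        rw [hBdeg, hg]
        linarith
      have hχ := euler_eq_h0_sub_h1 k X hdim.le B cB
      rw [Module.finrank_zero_of_subsingleton (M := Coh.HH X B 1)] at hχ
      have hχO := Groth.Agent.Lib.Helper6.H0Semi.euler_structureModule k X hdim
      rw [hg] at hχO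
      unfold Curv2.deg at hBdeg
      rw [hχO] at hBdeg
      refine ⟨B, hBinv, by unfold Curv2.deg; rw [hχO]; push_cast at hBdeg ⊢; linarith, ?_⟩
      push_cast at hBdeg hχ
      rw [Nat.sub_zero]
      zify
      linarith
    | succ j ih =>
      intro hj
      obtain ⟨L, hLinv, hLdeg, hLh⟩ := ih (by omega)
      have hL := isFinLocFreeOfRank_one_of_isInvertible L hLinv
      obtain ⟨L', hinv', hdeg', hh'⟩ := down_general k X hpid hdim L hL (g - (j + 1)) (by omega)
      refine ⟨L', hinv', ?_, hh'⟩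
      rw [hdeg', hLdeg]
      push_cast
      ring
  -- from degree `g` down to degree `0`
  have hB : ∀ j : ℕ, j ≤ g → ∃ L : X.Modules, PicF.IsInvertible L ∧
      Curv2.deg k X L 1 = (g : ℤ) - j ∧ Module.finrank k (Coh.HH X L 0) = 1 := by
    intro j
    induction j with
    | zero =>
      intro _
      obtain ⟨L, hLinv, hLdeg, hLh⟩ := hA (g - 1) le_rfl
      refine ⟨L, hLinv, ?_, by omega⟩
      rw [hLdeg]
      push_cast [Nat.cast_sub hg1]
      ring
    | succ j ih =>
      intro hj
      obtain ⟨L, hLinv, hLdeg, hLh⟩ := ih (by omega)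
      have hL := isFinLocFreeOfRank_one_of_isInvertible L hLinv
      obtain ⟨L', hinv', hdeg', hh'⟩ := down_special k X hpid hdim L hL hLh (by rw [hLdeg]; omega)
      refine ⟨L', hinv', ?_, hh'⟩
      rw [hdeg', hLdeg]
      push_cast
      ring
  obtain ⟨L, hLinv, hLdeg, hLh⟩ := hB (g - r) (by omega)
  refine ⟨L, hLinv, ?_, hLh⟩
  rw [hLdeg]
  push_cast [Nat.cast_sub hr]
  ring

end Curve

end Groth.Agent.Lib.Helper6.H0One
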