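import Groth.Agent.Lib.Helper6SpecialH1
import Groth.Agent.Lib.Helper6H0Const
import Groth.Agent.Lib.Helper4CurveBun2
import Groth.Agent.Lib.Helper4CurveRR

/-!
# `H⁰`-semistability versus slope semistability for rank two bundles of large degree (helper6): S11822
-/

set_option autoImplicit false
set_option linter.style.haveILetI false
universe u
open CategoryTheory Limits AlgebraicGeometry Opposite TopologicalSpace

namespace Groth.Agent.Lib.Helper6.H0Semi

open Groth.Agent.Lib.Helper4.CurveBun Groth.Agent.Lib.Helper4.DegAdd Groth.Agent.Lib.Helper4.CurveRR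
  Groth.Agent.Lib.Helper6.H0Const

variable (k : Type u) [Field k] (X : Scheme.{u}) [X.Over (Spec (CommRingCat.of k))]
  [IsIntegral X] [IsProper (X ↘ (Spec (CommRingCat.of k)))]

/-- `h⁰(O_X) = 1` for an integral proper scheme over an algebraically closed field -/
theorem finrank_hh0_eq_one_of_isAlgClosed [IsAlgClosed k] :
    Module.finrank k (Coh.HH X (Coh.structureModule X) 0) = 1 := by
  rw [finrank_hh0]
  letI : Algebra k Γ(X, ⊤) := (gsMap k (X ↘ Spec (CommRingCat.of k))).hom.toAlgebra
  haveI : Algebra.IsIntegral k Γ(X, ⊤) := ⟨gsMap_isIntegral k (X ↘ Spec (CommRingCat.of k))⟩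
  haveI : IsDomain Γ(X, ⊤) := inferInstance
  have hbij : Function.Bijective (algebraMap k Γ(X, ⊤)) :=
    bijective_algebraMap_of_isAlgClosed k Γ(X, ⊤) (fun e he => by
      have h1 : e * (e - 1) = 0 := by rw [mul_sub, mul_one, he.eq, sub_self]
      rcases mul_eq_zero.1 h1 with h | h
      · exact Or.inl h
      · exact Or.inr (sub_eq_zero.1 h))
  have e : k ≃ₗ[k] Γ(X, ⊤) := LinearEquiv.ofBijective (Algebra.linearMap k Γ(X, ⊤)) hbij
  rw [← e.finrank_eq, Module.finrank_self]

omit [IsIntegral X] in
theorem isInvertible_of_rank_one {M : X.Modules}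
    (h : FlatMod.IsFinLocFreeOfRank 1 M) : PicF.IsInvertible M := by
  intro x
  obtain ⟨U, hxU, ⟨e⟩⟩ := h x
  exact ⟨U, hxU, ⟨e ≪≫ coproductUniqueIso (fun _ : Fin 1 => Coh.structureModule (↑U))⟩⟩

theorem euler_structureModule [IsAlgClosed k] (hdim : topologicalKrullDim X = 1) :
    Curv2.euler k X (Coh.structureModule X) = 1 - (Curv2.genus k X : ℤ) := by
  haveI : IsLocallyNoetherian X := isLocallyNoetherian_of_proper k X
  rw [euler_eq_h0_sub_h1 k X hdim.le _ (Groth.Agent.Lib.Helper4.Dev.isCoh_structureModule X),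
    finrank_hh0_eq_one_of_isAlgClosed k X]
  rfl

/-- S11822 -/
theorem main [IsAlgClosed k] [Smooth (X ↘ Spec (CommRingCat.of k))]
    (hdim : topologicalKrullDim X = 1)
    (E : X.Modules) (hE : FlatMod.IsFinLocFreeOfRank 2 E) (h1 : Subsingleton (Coh.HH X E 1))
    (hdeg : 4 * (Curv2.genus k X : ℤ) - 2 ≤ Curv2.deg k X E 2) :
    (∀ (M : X.Modules) (i : M ⟶ E), Mono i → PicF.IsInvertible M →
      2 * Module.finrank k (Coh.HH X M 0) ≤ Module.finrank k (Coh.HH X E 0)) ↔
      (∀ (F : X.Modules) (r' : ℕ) (i : F ⟶ E), Mono i → 0 < r' → FlatMod.IsFinLocFreeOfRank r' F →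
      Curv2.deg k X F r' * (2 : ℤ) ≤ Curv2.deg k X E 2 * (r' : ℤ)) := by
  haveI : IsLocallyNoetherian X := isLocallyNoetherian_of_proper k X
  have hpid : PIDStalks X := pidStalks_of_smooth k X (X ↘ Spec (CommRingCat.of k)) hdim.le
  have cE := isCoh_of_isFinLocFreeOfRank E 2 hE
  have hχO := euler_structureModule k X hdim
  have hχE : Curv2.euler k X E = (Module.finrank k (Coh.HH X E 0) : ℤ) := by
    rw [euler_eq_h0_sub_h1 k X hdim.le E cE, Module.finrank_zero_of_subsingleton (M := Coh.HH X E 1)]
    simp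
  have hdE : Curv2.deg k X E 2 = (Module.finrank k (Coh.HH X E 0) : ℤ) - 2 * (1 - (Curv2.genus k X : ℤ)) := by
    unfold Curv2.deg
    rw [hχE, hχO]
    push_cast
    ring
  constructor
  · intro h F r' i hi hr' hF
    haveI := hi
    have cF := isCoh_of_isFinLocFreeOfRank F r' hF
    obtain ⟨r'', hr''le, hF''⟩ := isFinLocFreeOfRank_of_mono hpid i cF 2 hE
    have hrr : r' = r'' := rank_unique F r' r'' hF hF''
    subst hrr
    have hcases : r' = 1 ∨ r' = 2 := by omega
    rcases hcases with rfl | rfl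
    · have hinv := isInvertible_of_rank_one X hF
      have h2 := h F i hi hinv
      have h3 := euler_le_h0 k X hdim.le F cF
      have hdF : Curv2.deg k X F 1 = Curv2.euler k X F - (1 - (Curv2.genus k X : ℤ)) := by
        unfold Curv2.deg
        rw [hχO]
        push_cast
        ring
      have h2' : (2 : ℤ) * (Module.finrank k (Coh.HH X F 0) : ℤ) ≤ (Module.finrank k (Coh.HH X E 0) : ℤ) := by
        exact_mod_cast h2
      rw [hdF, hdE]
      push_cast
      linarith
    · have := (Groth.Agent.Lib.Helper4.CurveGenIso.deg_le_deg k X hdim F E cF cE 2 i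
        (subsingleton_cokernel_stalk_genericPoint k X i 2 hF hE)).1
      push_cast
      linarith
  · intro h M i hi hM
    haveI := hi
    have hM1 := Groth.Agent.Lib.Helper23.SecTw.isFinLocFreeOfRank_one_of_isInvertible M hM
    have cM := isCoh_of_isFinLocFreeOfRank M 1 hM1
    have h2 := h M 1 i hi Nat.one_pos hM1
    have hdM : Curv2.deg k X M 1 = Curv2.euler k X M - (1 - (Curv2.genus k X : ℤ)) := by
      unfold Curv2.deg
      rw [hχO]
      push_cast
      ring
    have hχM := euler_eq_h0_sub_h1 k X hdim.le M cM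
    by_cases hH1 : Subsingleton (Coh.HH X M 1)
    · rw [Module.finrank_zero_of_subsingleton (M := Coh.HH X M 1)] at hχM
      have : (2 : ℤ) * (Module.finrank k (Coh.HH X M 0) : ℤ) ≤ (Module.finrank k (Coh.HH X E 0) : ℤ) := by
        rw [hdM, hdE, hχM] at h2
        push_cast at h2
        linarith
      exact_mod_cast this
    · have hg : Module.finrank k (Coh.HH X M 0) ≤ Curv2.genus k X := by
        by_contra hcon
        push Not at hcon
        exact hH1 (Groth.Agent.Lib.Helper6.SpecialH1.main k X hdim M hM hcon)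
      have : (2 : ℤ) * (Module.finrank k (Coh.HH X M 0) : ℤ) ≤ (Module.finrank k (Coh.HH X E 0) : ℤ) := by
        have hg' : (Module.finrank k (Coh.HH X M 0) : ℤ) ≤ (Curv2.genus k X : ℤ) := by exact_mod_cast hg
        rw [hdE] at hdeg
        linarith
      exact_mod_cast this

end Groth.Agent.Lib.Helper6.H0Semi
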