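import Mathlib

set_option autoImplicit false
universe u
open IsLocalRing Polynomial

namespace Groth.Agent.Lib.Helper6.HensSec

/-- Hensel's lemma for standard étale algebras: every residue-field point lifts. -/
theorem exists_algHom_of_isStandardEtale (R : Type u) [CommRing R] [HenselianLocalRing R]
    (S : Type u) [CommRing S] [Algebra R S] [Algebra.IsStandardEtale R S]
    (χ₀ : S →ₐ[R] ResidueField R) :
    ∃ χ : S →ₐ[R] R, ∀ s, residue R (χ s) = χ₀ s := by
  obtain ⟨P⟩ := Algebra.IsStandardEtale.nonempty_standardEtalePresentation (R := R) (S := S)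
  have h0 : P.HasMap (χ₀ P.x) := P.hasMap.map χ₀
  obtain ⟨a₀, ha₀⟩ := residue_surjective (χ₀ P.x)
  have hev : ∀ q : R[X], residue R (q.eval a₀) = aeval (χ₀ P.x) q := by
    intro q
    rw [← ha₀, ← ResidueField.algebraMap_eq, Polynomial.aeval_algebraMap_apply_eq_algebraMap_eval]
  have h1 : P.f.eval a₀ ∈ maximalIdeal R := by
    rw [← residue_eq_zero_iff, hev, h0.1]
  have h2 : IsUnit (P.f.derivative.eval a₀) := by
    have := h0.isUnit_derivative_f
    rw [← hev] at this
    exact (isUnit_map_iff (residue R) _).mp this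
  obtain ⟨a, ha, haa⟩ := HenselianLocalRing.is_henselian P.f P.monic_f a₀ h1 h2
  have hres : residue R a = χ₀ P.x := by
    rw [← ha₀, ← sub_eq_zero, ← map_sub, residue_eq_zero_iff]
    exact haa
  have hev' : ∀ q : R[X], residue R (q.eval a) = aeval (χ₀ P.x) q := by
    intro q
    rw [← hres, ← ResidueField.algebraMap_eq, Polynomial.aeval_algebraMap_apply_eq_algebraMap_eval]
  have hmap : P.HasMap a := by
    refine ⟨?_, ?_⟩
    · rw [Polynomial.coe_aeval_eq_eval]; exact ha
    · rw [Polynomial.coe_aeval_eq_eval]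
      have := h0.2
      rw [← hev'] at this
      exact (isUnit_map_iff (residue R) _).mp this
  refine ⟨(P.lift a hmap).comp P.equivRing.toAlgHom, ?_⟩
  have key : ((Algebra.ofId R (ResidueField R)).comp ((P.lift a hmap).comp P.equivRing.toAlgHom)) =
      χ₀ := by
    apply P.hom_ext
    show (Algebra.ofId R (ResidueField R)) ((P.lift a hmap) (P.equivRing P.x)) = χ₀ P.x
    rw [P.equivRing_x, StandardEtalePair.lift_X, Algebra.ofId_apply, ResidueField.algebraMap_eq]
    exact hres
  intro s
  exact congrArg (fun φ => φ s) key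

/-- Hensel's lemma for étale algebras: every residue-field point lifts to a retraction. -/
theorem exists_algHom_of_etale (R : Type u) [CommRing R] [HenselianLocalRing R]
    (B : Type u) [CommRing B] [Algebra R B] [Algebra.Etale R B]
    (χ₀ : B →ₐ[R] ResidueField R) :
    ∃ χ : B →ₐ[R] R, ∀ b, residue R (χ b) = χ₀ b := by
  let Q : Ideal B := RingHom.ker χ₀.toRingHom
  haveI : Q.IsPrime := RingHom.ker_isPrime χ₀.toRingHom
  obtain ⟨f, hfQ, hf⟩ := Algebra.IsEtaleAt.exists_isStandardEtale (R := R) Q
  have hunit : IsUnit (χ₀ f) := by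
    rw [isUnit_iff_ne_zero]
    exact hfQ
  let χ₁ : Localization.Away f →ₐ[R] ResidueField R :=
    IsLocalization.liftAlgHom (M := Submonoid.powers f) (f := χ₀) (by
      rintro ⟨_, n, rfl⟩
      simpa using hunit.pow n)
  obtain ⟨χ, hχ⟩ := exists_algHom_of_isStandardEtale R (Localization.Away f) χ₁
  refine ⟨χ.comp (IsScalarTower.toAlgHom R B (Localization.Away f)), fun b => ?_⟩
  rw [AlgHom.comp_apply, hχ]
  simp [χ₁]

end Groth.Agent.Lib.Helper6.HensSec
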