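import Mathlib
import Groth.Agent.Lib.Helper6HensSecA
import Groth.Agent.Lib.Helper11SepPts

set_option autoImplicit false
universe u
open CategoryTheory CategoryTheory.Limits AlgebraicGeometry IsLocalRing

namespace Groth.Agent.Lib.Helper6.HensSec

/-- An étale scheme over a strictly henselian local ring with a point over the closed point has a
section. -/
theorem exists_section_of_etale (R : Type u) [CommRing R] [HenselianLocalRing R]
    [IsSepClosed (ResidueField R)] {S' : Scheme.{u}} (g : S' ⟶ Spec (CommRingCat.of R)) [Etale g]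
    (s' : S') (hs : g s' = closedPoint R) :
    ∃ σ : Spec (CommRingCat.of R) ⟶ S', σ ≫ g = 𝟙 _ := by
  -- a point with values in the residue field
  have hcl : (Spec.map (CommRingCat.ofHom (residue R))) (closedPoint (ResidueField R)) = g s' := by
    rw [hs]
    exact comap_closedPoint (residue R)
  obtain ⟨f', hf'⟩ := Groth.Agent.Lib.Helper11SepPts.exists_lift_etale g s'
    (Spec.map (CommRingCat.ofHom (residue R))) hcl
  -- an affine open neighbourhood
  obtain ⟨V, hV, hpV⟩ : ∃ V : S'.Opens, IsAffineOpen V ∧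
      f' (closedPoint (ResidueField R)) ∈ V := by
    obtain ⟨_, ⟨V, hV, rfl⟩, hpV, -⟩ := S'.isBasis_affineOpens.exists_subset_of_mem_open
      (Set.mem_univ (f' (closedPoint (ResidueField R)))) isOpen_univ
    exact ⟨V, hV, hpV⟩
  let h' : Spec Γ(S', V) ⟶ Spec (CommRingCat.of R) := hV.isoSpec.inv ≫ V.ι ≫ g
  haveI : Etale h' := inferInstance
  let ψ : CommRingCat.of R ⟶ Γ(S', V) := Spec.preimage h'
  have hψ : Spec.map ψ = h' := Spec.map_preimage h'
  have hψE : ψ.hom.Etale := by
    rw [← HasRingHomProperty.Spec_iff (P := @Etale), hψ]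
    infer_instance
  letI : Algebra R Γ(S', V) := ψ.hom.toAlgebra
  haveI : Algebra.Etale R Γ(S', V) := RingHom.etale_algebraMap.mp hψE
  -- the residue-field point lands in `V`
  have hrange : Set.range f' ⊆ Set.range V.ι := by
    rintro _ ⟨x, rfl⟩
    rw [Scheme.Opens.range_ι]
    rw [Subsingleton.elim x (closedPoint (ResidueField R))]
    exact hpV
  let f'' : Spec (CommRingCat.of (ResidueField R)) ⟶ V.toScheme := IsOpenImmersion.lift V.ι f' hrange
  have hf'' : f'' ≫ V.ι = f' := IsOpenImmersion.lift_fac _ _ _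
  let c : Spec (CommRingCat.of (ResidueField R)) ⟶ Spec Γ(S', V) := f'' ≫ hV.isoSpec.hom
  have hc : c ≫ h' = Spec.map (CommRingCat.ofHom (residue R)) := by
    simp only [c, h', Category.assoc, Iso.hom_inv_id_assoc]
    rw [reassoc_of% hf'', hf']
  let χr : Γ(S', V) ⟶ CommRingCat.of (ResidueField R) := Spec.preimage c
  have hχr : ψ ≫ χr = CommRingCat.ofHom (residue R) := by
    apply Spec.map_injective
    rw [Spec.map_comp, Spec.map_preimage, hψ, hc]
  let χ₀ : Γ(S', V) →ₐ[R] ResidueField R :=
    { χr.hom with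
      commutes' := fun r => by
        have := congrArg (fun φ => φ.hom r) hχr
        exact this }
  obtain ⟨χ, -⟩ := exists_algHom_of_etale R Γ(S', V) χ₀
  refine ⟨Spec.map (CommRingCat.ofHom χ.toRingHom) ≫ hV.isoSpec.inv ≫ V.ι, ?_⟩
  have h1 : ψ ≫ CommRingCat.ofHom χ.toRingHom = 𝟙 _ := by
    ext r
    exact χ.commutes r
  calc (Spec.map (CommRingCat.ofHom χ.toRingHom) ≫ hV.isoSpec.inv ≫ V.ι) ≫ g
      = Spec.map (CommRingCat.ofHom χ.toRingHom) ≫ h' := by simp only [h', Category.assoc]
    _ = 𝟙 _ := by rw [← hψ, ← Spec.map_comp, h1, Spec.map_id]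

end Groth.Agent.Lib.Helper6.HensSec
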