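import Mathlib
import Groth.Agent.Lib.Helper6HensSecB
import Groth.Agent.Lib.Helper20SmoothSec
import Groth.Agent.Lib.Helper14LocNoeth

set_option autoImplicit false
universe u
open CategoryTheory CategoryTheory.Limits AlgebraicGeometry IsLocalRing TopologicalSpace

namespace Groth.Agent.Lib.Helper6.HensSec

/-- A smooth scheme over a strictly henselian local ring has a section through every open
neighbourhood of every point of its closed fibre. -/
theorem exists_section_of_smooth (R : Type u) [CommRing R] [HenselianLocalRing R]
    [IsSepClosed (ResidueField R)] {X : Scheme.{u}} (f : X ⟶ Spec (CommRingCat.of R)) [Smooth f]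
    (x : X) (hx : f x = closedPoint R) (U : X.Opens) (hxU : x ∈ U) :
    ∃ σ : Spec (CommRingCat.of R) ⟶ X, σ ≫ f = 𝟙 _ ∧ σ (closedPoint R) ∈ U := by
  haveI : Smooth (U.ι ≫ f) := inferInstance
  obtain ⟨S', g, s', hgE, hgs, h, hh⟩ :=
    Groth.Agent.Lib.Helper20.SmoothSec.exists_etale_section_of_smooth (U.ι ≫ f) ⟨x, hxU⟩
  haveI := hgE
  have hs : g s' = closedPoint R := by
    rw [hgs, Scheme.Hom.comp_apply]
    exact hx
  obtain ⟨τ, hτ⟩ := exists_section_of_etale R g s' hs
  refine ⟨τ ≫ h ≫ U.ι, ?_, ?_⟩
  · rw [Category.assoc, Category.assoc, hh, hτ]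
  · rw [Scheme.Hom.comp_apply, Scheme.Hom.comp_apply]
    exact (h (τ (closedPoint R))).2

/-- the images of connected components in a subspace under a homeomorphism preserving it -/
theorem image_connectedComponentIn_of_homeomorph {X : Type*} [TopologicalSpace X] (h : X ≃ₜ X)
    (F : Set X) (hF : h '' F = F) (p : X) (hp : p ∈ F) :
    h '' connectedComponentIn F p = connectedComponentIn F (h p) := by
  have hF' : h.symm '' F = F := by
    conv_lhs => rw [← hF]
    rw [Set.image_image]
    simp
  apply Set.Subset.antisymm
  · have := h.continuous.continuousOn.image_connectedComponentIn_subset (s := F) hp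
    rwa [hF] at this
  · have hp' : h p ∈ F := by rw [← hF]; exact ⟨p, hp, rfl⟩
    have := h.symm.continuous.continuousOn.image_connectedComponentIn_subset (s := F) hp'
    rw [hF', h.symm_apply_apply] at this
    intro q hq
    exact ⟨h.symm q, this ⟨q, hq, rfl⟩, h.apply_symm_apply q⟩

/-- a Noetherian space has finitely many connected components -/
theorem finite_connectedComponents (F : Type*) [TopologicalSpace F] [NoetherianSpace F] :
    Finite (ConnectedComponents F) := by
  haveI : LocallyConnectedSpace F :=
    Groth.Agent.Lib.Helper14.locallyConnectedSpace_of_locally_noetherian F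
      (fun x => ⟨Set.univ, Filter.univ_mem, inferInstance⟩)
  haveI : CompactSpace F := inferInstance
  exact finite_of_compact_of_discrete

/-- the set of connected components (as subsets of the ambient space) of a Noetherian subspace is
finite -/
theorem finite_range_connectedComponentIn {X : Type*} [TopologicalSpace X] (F : Set X)
    [NoetherianSpace ↥F] : {C : Set X | ∃ p ∈ F, C = connectedComponentIn F p}.Finite := by
  haveI := finite_connectedComponents ↥F
  let Ψ : ConnectedComponents ↥F → Set X := fun c => Subtype.val '' (ConnectedComponents.mk ⁻¹' {c})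
  refine (Set.finite_range Ψ).subset ?_
  rintro C ⟨p, hp, rfl⟩
  refine ⟨ConnectedComponents.mk ⟨p, hp⟩, ?_⟩
  rw [connectedComponentIn_eq_image hp]
  simp only [Ψ]
  rw [connectedComponents_preimage_singleton]

end Groth.Agent.Lib.Helper6.HensSec
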