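import Mathlib
import Groth.Prelude.Def_SGA7IX
import Groth.Agent.Lib.Helper6HensSecC
import Groth.Agent.Lib.Helper6AbGal

set_option autoImplicit false
set_option linter.style.haveILetI false
universe u
open CategoryTheory CategoryTheory.Limits MonoidalCategory CartesianMonoidalCategory AlgebraicGeometry MonObj
  IsLocalRing TopologicalSpace

namespace Groth.Agent.Lib.Helper6.HensSec

section Main

variable (R : Type u) [CommRing R] [IsLocalRing R]
  (N : Over (Spec (CommRingCat.of R)))

/-- sections map the closed point into the special fibre -/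
lemma section_mem_specialFibreSet (x : 𝟙_ (Over (Spec (CommRingCat.of R))) ⟶ N) :
    x.left.base (closedPoint R) ∈ SGA7.specialFibreSet R N := by
  change N.hom.base (x.left.base (closedPoint R)) = closedPoint R
  have h := Over.w x
  have h2 : (x.left ≫ N.hom).base (closedPoint R) = closedPoint R := by
    rw [h]; rfl
  exact h2

variable [GrpObj N]

open Groth.Agent.Lib.Helper6.AbGal in
/-- right translation by a section as a homeomorphism of the total space -/
noncomputable def trHomeo (y : 𝟙_ (Over (Spec (CommRingCat.of R))) ⟶ N) : N.left ≃ₜ N.left :=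
  Scheme.homeoOfIso
    { hom := (tr y).left
      inv := (tr y⁻¹).left
      hom_inv_id := by
        rw [← Over.comp_left, tr_comp_tr, mul_inv_cancel, tr_one]; rfl
      inv_hom_id := by
        rw [← Over.comp_left, tr_comp_tr, inv_mul_cancel, tr_one]; rfl }

open Groth.Agent.Lib.Helper6.AbGal in
lemma trHomeo_apply (y : 𝟙_ (Over (Spec (CommRingCat.of R))) ⟶ N) (p : N.left) :
    trHomeo R N y p = (tr y).left.base p := rfl

open Groth.Agent.Lib.Helper6.AbGal in
lemma trHomeo_section (x y : 𝟙_ (Over (Spec (CommRingCat.of R))) ⟶ N) :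
    trHomeo R N y (x.left.base (closedPoint R)) = (x * y).left.base (closedPoint R) := by
  rw [trHomeo_apply]
  have h : x ≫ tr y = x * y := by
    rw [comp_tr, toUnit_unique (toUnit (𝟙_ (Over (Spec (CommRingCat.of R))))) (𝟙 _), Category.id_comp]
  rw [← h]
  rfl

open Groth.Agent.Lib.Helper6.AbGal in
lemma trHomeo_image_specialFibreSet (y : 𝟙_ (Over (Spec (CommRingCat.of R))) ⟶ N) :
    trHomeo R N y '' SGA7.specialFibreSet R N = SGA7.specialFibreSet R N := by
  have key : ∀ (a : 𝟙_ (Over (Spec (CommRingCat.of R))) ⟶ N) (p : N.left),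
      N.hom.base ((tr a).left.base p) = N.hom.base p := by
    intro a p
    have h := Over.w (tr a)
    have : ((tr a).left ≫ N.hom).base p = N.hom.base p := by rw [h]
    exact this
  apply Set.Subset.antisymm
  · rintro _ ⟨p, hp, rfl⟩
    change N.hom.base _ = _
    rw [trHomeo_apply, key]
    exact hp
  · intro p hp
    refine ⟨(trHomeo R N y).symm p, ?_, (trHomeo R N y).apply_symm_apply p⟩
    change N.hom.base ((tr y⁻¹).left.base p) = _
    rw [key]
    exact hp

theorem secComp_eq_iff (x y : 𝟙_ (Over (Spec (CommRingCat.of R))) ⟶ N) :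
    SGA7.secComp R N x = SGA7.secComp R N y ↔ x * y⁻¹ ∈ SGA7.secUnitComp R N := by
  have hx := section_mem_specialFibreSet R N x
  have hy := section_mem_specialFibreSet R N y
  have h1 : trHomeo R N y⁻¹ (x.left.base (closedPoint R)) = (x * y⁻¹).left.base (closedPoint R) :=
    trHomeo_section R N x y⁻¹
  have h2 : trHomeo R N y⁻¹ (y.left.base (closedPoint R)) = η[N].left.base (closedPoint R) := by
    rw [trHomeo_section, mul_inv_cancel, MonObj.one_eq_one]
  have h3 := image_connectedComponentIn_of_homeomorph (trHomeo R N y⁻¹) (SGA7.specialFibreSet R N)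
    (trHomeo_image_specialFibreSet R N y⁻¹) _ hy
  rw [h2] at h3
  change connectedComponentIn _ _ = connectedComponentIn _ _ ↔
    (x * y⁻¹).left.base (closedPoint R) ∈ connectedComponentIn _ _
  rw [← h1, ← h3]
  constructor
  · intro h
    refine ⟨_, ?_, rfl⟩
    rw [← h]
    exact mem_connectedComponentIn hx
  · rintro ⟨q, hq, hqe⟩
    have : q = x.left.base (closedPoint R) := (trHomeo R N y⁻¹).injective hqe
    rw [this] at hq
    exact (connectedComponentIn_eq hq).symm

omit [GrpObj N] in
/-- the special fibre of a quasi-compact smooth scheme over a Noetherian local ring is a Noetherian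
space -/
lemma noetherianSpace_specialFibreSet [IsNoetherianRing R] [LocallyOfFiniteType N.hom]
    [QuasiCompact N.hom] : NoetherianSpace ↥(SGA7.specialFibreSet R N) := by
  haveI : IsLocallyNoetherian N.left := LocallyOfFiniteType.isLocallyNoetherian N.hom
  haveI : CompactSpace N.left := QuasiCompact.compactSpace_of_compactSpace N.hom
  haveI : IsNoetherian N.left := ⟨⟩
  infer_instance

omit [GrpObj N] in
theorem finite_range_secComp [IsNoetherianRing R] [LocallyOfFiniteType N.hom]
    [QuasiCompact N.hom] : (Set.range (SGA7.secComp R N)).Finite := by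
  haveI := noetherianSpace_specialFibreSet R N
  refine (finite_range_connectedComponentIn (SGA7.specialFibreSet R N)).subset ?_
  rintro _ ⟨x, rfl⟩
  exact ⟨_, section_mem_specialFibreSet R N x, rfl⟩

omit [GrpObj N] in
theorem exists_section_mem_secComp [IsNoetherianRing R] [HenselianLocalRing R]
    [IsSepClosed (ResidueField R)] [Smooth N.hom] [QuasiCompact N.hom]
    (z : N.left) (hz : z ∈ SGA7.specialFibreSet R N) :
    ∃ x : 𝟙_ (Over (Spec (CommRingCat.of R))) ⟶ N, z ∈ SGA7.secComp R N x := by
  haveI := noetherianSpace_specialFibreSet R N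
  have hopen : IsOpen (connectedComponent (⟨z, hz⟩ : ↥(SGA7.specialFibreSet R N))) :=
    Groth.Agent.Lib.Helper14.isOpen_connectedComponent_of_noetherianSpace _
  obtain ⟨O, hO, hOe⟩ := isOpen_induced_iff.mp hopen
  have hzO : z ∈ O := by
    have : (⟨z, hz⟩ : ↥(SGA7.specialFibreSet R N)) ∈ Subtype.val ⁻¹' O := by
      rw [hOe]; exact mem_connectedComponent
    exact this
  obtain ⟨σ, hσ, hσU⟩ := exists_section_of_smooth R N.hom z hz ⟨O, hO⟩ hzO
  let x : 𝟙_ (Over (Spec (CommRingCat.of R))) ⟶ N := Over.homMk σ (by simpa using hσ)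
  refine ⟨x, ?_⟩
  have hxF := section_mem_specialFibreSet R N x
  have hmem : x.left.base (closedPoint R) ∈ connectedComponentIn (SGA7.specialFibreSet R N) z := by
    rw [connectedComponentIn_eq_image hz]
    refine ⟨⟨x.left.base (closedPoint R), hxF⟩, ?_, rfl⟩
    rw [← hOe]
    exact hσU
  change z ∈ connectedComponentIn _ _
  rw [← connectedComponentIn_eq hmem]
  exact mem_connectedComponentIn hz

end Main

end Groth.Agent.Lib.Helper6.HensSec
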