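import Mathlib

set_option autoImplicit false

/-!
# Hopf algebras of height ≤ 1 (helper6)

Tools for S4110: invariant derivations on a bialgebra, reduced monomials, and the structure of
commutative bialgebras whose augmentation ideal is killed by the `p`-th power map.
-/

namespace Groth.Agent.Lib.Helper6.Hopf

universe u v


section InvDer

open TensorProduct Coalgebra

variable {k : Type u} {A : Type v} [CommRing k] [CommRing A] [Bialgebra k A]

/-- `a₁ ⊗ a₂ ↦ d(a₂) • a₁`. -/
noncomputable def tF (d : A →ₗ[k] k) : A ⊗[k] A →ₗ[k] A :=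
  (TensorProduct.rid k A).toLinearMap ∘ₗ (d.lTensor A)

@[simp] lemma tF_tmul (d : A →ₗ[k] k) (a b : A) : tF d (a ⊗ₜ[k] b) = d b • a := by
  simp [tF]

/-- `a₁ ⊗ a₂ ↦ d(a₁) • a₂`. -/
noncomputable def tF' (d : A →ₗ[k] k) : A ⊗[k] A →ₗ[k] A :=
  (TensorProduct.lid k A).toLinearMap ∘ₗ (d.rTensor A)

@[simp] lemma tF'_tmul (d : A →ₗ[k] k) (a b : A) : tF' d (a ⊗ₜ[k] b) = d a • b := by
  simp [tF']

lemma tF_counit_comul (a : A) : tF (counit (R := k)) (comul a) = a := by
  simp [tF, Coalgebra.lTensor_counit_comul]

lemma tF'_counit_comul (a : A) : tF' (counit (R := k)) (comul a) = a := by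
  simp [tF', Coalgebra.rTensor_counit_comul]

/-- The (left-)invariant operator attached to a linear form. -/
noncomputable def invDer (d : A →ₗ[k] k) : A →ₗ[k] A := tF d ∘ₗ comul

lemma tF_mul (d : A →ₗ[k] k)
    (hd : ∀ a b, d (a * b) = counit (R := k) a * d b + counit (R := k) b * d a)
    (t s : A ⊗[k] A) :
    tF d (t * s) = tF counit t * tF d s + tF counit s * tF d t := by
  induction t using TensorProduct.induction_on with
  | zero => simp
  | add t₁ t₂ h₁ h₂ => simp only [add_mul, map_add, h₁, h₂]; ring
  | tmul a₁ a₂ =>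
    induction s using TensorProduct.induction_on with
    | zero => simp
    | add s₁ s₂ h₁ h₂ => simp only [mul_add, map_add, h₁, h₂]; ring
    | tmul b₁ b₂ =>
      rw [Algebra.TensorProduct.tmul_mul_tmul, tF_tmul, tF_tmul, tF_tmul, tF_tmul, tF_tmul, hd]
      simp only [add_smul, smul_mul_smul_comm, mul_smul]
      ring_nf

lemma invDer_mul (d : A →ₗ[k] k)
    (hd : ∀ a b, d (a * b) = counit (R := k) a * d b + counit (R := k) b * d a) (a b : A) :
    invDer d (a * b) = a * invDer d b + b * invDer d a := by
  simp only [invDer, LinearMap.comp_apply, Bialgebra.comul_mul, tF_mul d hd, tF_counit_comul]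

lemma counit_tF (d : A →ₗ[k] k) (t : A ⊗[k] A) :
    counit (R := k) (tF d t) = d (tF' counit t) := by
  induction t using TensorProduct.induction_on with
  | zero => simp
  | add t₁ t₂ h₁ h₂ => simp only [map_add, h₁, h₂]
  | tmul a₁ a₂ => simp [mul_comm]

lemma counit_invDer (d : A →ₗ[k] k) (a : A) : counit (R := k) (invDer d a) = d a := by
  simp only [invDer, LinearMap.comp_apply, counit_tF, tF'_counit_comul]

end InvDer

section Chain

variable {k : Type u} {A : Type v} [CommRing k] [CommRing A] [Algebra k A]

/-- Chain rule for an operator satisfying the Leibniz rule. -/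
lemma leibniz_aeval {σ : Type*} [Fintype σ] (D : A →ₗ[k] A)
    (hD : ∀ a b, D (a * b) = a * D b + b * D a) (x : σ → A) (P : MvPolynomial σ k) :
    D (MvPolynomial.aeval x P) =
      ∑ j, MvPolynomial.aeval x (MvPolynomial.pderiv j P) * D (x j) := by
  classical
  have h1 : D 1 = 0 := by
    have := hD 1 1
    simp only [mul_one, one_mul] at this
    have h2 : D 1 + D 1 = D 1 + 0 := by rw [add_zero]; exact this.symm
    exact add_left_cancel h2
  induction P using MvPolynomial.induction_on with
  | C c =>
    simp only [MvPolynomial.aeval_C, MvPolynomial.pderiv_C, map_zero, zero_mul,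
      Finset.sum_const_zero]
    rw [Algebra.algebraMap_eq_smul_one, map_smul, h1, smul_zero]
  | add P Q hP hQ =>
    simp only [map_add, hP, hQ, add_mul, Finset.sum_add_distrib]
  | mul_X P l hP =>
    simp only [map_mul, MvPolynomial.aeval_X, hD, hP, MvPolynomial.pderiv_mul,
      MvPolynomial.pderiv_X, map_add, add_mul, Finset.sum_add_distrib]
    rw [add_comm]
    congr 1
    · rw [Finset.mul_sum]
      refine Finset.sum_congr rfl (fun j _ => ?_)
      ring
    · rw [Finset.sum_eq_single l]
      · simp
      · intro j _ hj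
        simp [Pi.single_eq_of_ne' hj]
      · intro h; exact absurd (Finset.mem_univ l) h


end Chain


open MvPolynomial

section Rmon

variable {R : Type u} {B : Type v} [CommRing R] [CommRing B] [Algebra R B] {n p : ℕ}

/-- Exponent vector of a reduced multi-index. -/
noncomputable def expo (α : Fin n → Fin p) : Fin n →₀ ℕ := Finsupp.equivFunOnFinite.symm (fun i => (α i : ℕ))

@[simp] lemma expo_apply (α : Fin n → Fin p) (i : Fin n) : expo α i = (α i : ℕ) := rfl

lemma expo_injective : Function.Injective (expo : (Fin n → Fin p) → (Fin n →₀ ℕ)) := by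
  intro α β h
  funext i
  exact Fin.ext (by simpa using DFunLike.congr_fun h i)

lemma exists_expo_eq (m : Fin n →₀ ℕ) (hm : ∀ i, m i < p) : ∃ α : Fin n → Fin p, expo α = m :=
  ⟨fun i => ⟨m i, hm i⟩, by ext i; simp⟩

/-- Reduced monomials. -/
def rmon (x : Fin n → B) (α : Fin n → Fin p) : B := ∏ i, x i ^ (α i : ℕ)

lemma aeval_monomial_eq (x : Fin n → B) (m : Fin n →₀ ℕ) (c : R) :
    aeval x (monomial m c) = c • ∏ i, x i ^ (m i) := by
  rw [aeval_monomial, Algebra.smul_def, Finsupp.prod_fintype]
  intro i; exact pow_zero _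

lemma aeval_monomial_expo (x : Fin n → B) (α : Fin n → Fin p) (c : R) :
    aeval x (monomial (expo α) c) = c • rmon x α := by
  rw [aeval_monomial_eq]; rfl

lemma aeval_eq_sum_rmon (x : Fin n → B) (hx : ∀ i, x i ^ p = 0) (P : MvPolynomial (Fin n) R) :
    aeval x P = ∑ α : Fin n → Fin p, coeff (expo α) P • rmon x α := by
  classical
  induction P using MvPolynomial.induction_on' with
  | add P Q hP hQ =>
    simp only [map_add, hP, hQ, coeff_add, add_smul, Finset.sum_add_distrib]
  | monomial m c =>
    by_cases hm : ∀ i, m i < p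
    · obtain ⟨α₀, rfl⟩ := exists_expo_eq m hm
      rw [aeval_monomial_expo, Finset.sum_eq_single α₀]
      · simp
      · intro β _ hβ
        rw [coeff_monomial, if_neg (fun h => hβ (expo_injective h).symm), zero_smul]
      · intro h; exact absurd (Finset.mem_univ α₀) h
    · push Not at hm
      obtain ⟨i, hi⟩ := hm
      rw [aeval_monomial_eq]
      have h0 : ∏ j, x j ^ (m j) = 0 := by
        apply Finset.prod_eq_zero (Finset.mem_univ i)
        obtain ⟨e, he⟩ := Nat.exists_eq_add_of_le hi
        rw [he, pow_add, hx, zero_mul]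
      rw [h0, smul_zero]
      symm
      apply Finset.sum_eq_zero
      intro β _
      have : m ≠ expo β := by
        intro h
        have := (β i).2
        rw [h, expo_apply] at hi
        omega
      rw [coeff_monomial, if_neg this, zero_smul]

end Rmon




section Indep

variable {k : Type u} {A : Type v} [Field k] [CommRing A] [Algebra k A] {n p : ℕ}

/-- All exponents `< p`. -/
def Red (p : ℕ) (P : MvPolynomial (Fin n) k) : Prop := ∀ m, coeff m P ≠ 0 → ∀ i, m i < p

/-- Degree bound. -/
def DegLE (d : ℕ) (P : MvPolynomial (Fin n) k) : Prop := ∀ m, coeff m P ≠ 0 → m.degree ≤ d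

lemma red_pderiv {P : MvPolynomial (Fin n) k} (hP : Red p P) (j : Fin n) : Red p (pderiv j P) := by
  intro m hm i
  rw [coeff_pderiv] at hm
  have h := hP _ (left_ne_zero_of_mul hm) i
  simp only [Finsupp.add_apply] at h
  omega

lemma degLE_pderiv {d : ℕ} {P : MvPolynomial (Fin n) k} (hP : DegLE (d + 1) P) (j : Fin n) :
    DegLE d (pderiv j P) := by
  intro m hm
  rw [coeff_pderiv] at hm
  have h := hP _ (left_ne_zero_of_mul hm)
  rw [map_add, Finsupp.degree_single] at h
  omega

lemma eq_C_of_degLE_zero {P : MvPolynomial (Fin n) k} (hP : DegLE 0 P) : P = C (coeff 0 P) := by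
  ext m
  rw [coeff_C]
  by_cases hm : 0 = m
  · rw [if_pos hm, hm]
  · rw [if_neg hm]
    by_contra h
    have := hP m h
    have : m = 0 := by
      rw [Nat.le_zero, Finsupp.degree_eq_zero_iff] at this
      exact this
    exact hm this.symm

lemma degLE_zero_of_pderiv_eq_zero [Fact p.Prime] [CharP k p] {P : MvPolynomial (Fin n) k}
    (hP : Red p P) (h : ∀ j, pderiv j P = 0) : DegLE 0 P := by
  intro m hm
  by_contra hdeg
  have hm0 : m ≠ 0 := by
    rintro rfl
    simp at hdeg
  obtain ⟨j, hj⟩ : ∃ j, m j ≠ 0 := by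
    by_contra hall
    push Not at hall
    exact hm0 (Finsupp.ext hall)
  have h1 := coeff_pderiv (i := j) P (m - Finsupp.single j 1)
  rw [h j, coeff_zero] at h1
  have e : m - Finsupp.single j 1 + Finsupp.single j 1 = m := by
    ext i
    simp only [Finsupp.add_apply, Finsupp.tsub_apply, Finsupp.single_apply]
    split_ifs with hij
    · subst hij; omega
    · omega
  rw [e] at h1
  have h2 : (((m - Finsupp.single j 1 : Fin n →₀ ℕ) j : ℕ) : k) + 1 = ((m j : ℕ) : k) := by
    have : (m - Finsupp.single j 1 : Fin n →₀ ℕ) j + 1 = m j := by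
      simp only [Finsupp.tsub_apply, Finsupp.single_apply, if_true]; omega
    rw [← this]; push_cast; rfl
  rw [h2] at h1
  have h3 : ((m j : ℕ) : k) ≠ 0 := by
    rw [Ne, CharP.cast_eq_zero_iff k p]
    intro hdvd
    have := hP m hm j
    exact absurd (Nat.le_of_dvd (Nat.pos_of_ne_zero hj) hdvd) (by omega)
  exact (mul_ne_zero hm h3) h1.symm

/-- Linear independence of reduced monomials: the derivation argument. -/
lemma eq_zero_of_aeval_eq_zero [Fact p.Prime] [CharP k p] (x : Fin n → A)
    (hinj : Function.Injective (algebraMap k A))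
    (D : Fin n → (A →ₗ[k] A)) (hD : ∀ i a b, D i (a * b) = a * D i b + b * D i a)
    (hdet : IsUnit (Matrix.of (fun i j => D i (x j))).det) :
    ∀ (d : ℕ) (P : MvPolynomial (Fin n) k), Red p P → DegLE d P → aeval x P = 0 → P = 0 := by
  have base : ∀ P : MvPolynomial (Fin n) k, DegLE 0 P → aeval x P = 0 → P = 0 := by
    intro P hP h0
    rw [eq_C_of_degLE_zero hP] at h0 ⊢
    rw [aeval_C] at h0
    rw [hinj (h0.trans (map_zero _).symm), C_0]
  intro d
  induction d with
  | zero => intro P _ hd h0; exact base P hd h0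
  | succ d ih =>
    intro P hR hd h0
    have hpd : ∀ j, pderiv j P = 0 := by
      have hv : (Matrix.of (fun i j => D i (x j))).mulVec (fun j => aeval x (pderiv j P)) = 0 := by
        funext i
        have := leibniz_aeval (D i) (hD i) x P
        rw [h0, map_zero] at this
        simp only [Matrix.mulVec, dotProduct, Matrix.of_apply, Pi.zero_apply]
        rw [this]
        exact Finset.sum_congr rfl (fun j _ => mul_comm _ _)
      have := Matrix.eq_zero_of_det_mem_nonZeroDivisors_of_mulVec_eq_zero
        hdet.mem_nonZeroDivisors hv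
      intro j
      exact ih _ (red_pderiv hR j) (degLE_pderiv hd j) (congrFun this j)
    exact base P (degLE_zero_of_pderiv_eq_zero hR hpd) h0

end Indep


end Groth.Agent.Lib.Helper6.Hopf
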