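import Groth.Agent.Lib.Helper6Hopf9

set_option autoImplicit false

namespace Groth.Agent.Lib.Helper6.Hopf

open Coalgebra TensorProduct WithConv

universe u

section PowConv

variable {R : Type u} [CommRing R] {A : Type u} [CommRing A] [HopfAlgebra R A]

omit [HopfAlgebra R A] in
lemma comp_ofConv_pow [Bialgebra R A] (h : A →ₐ[R] A) (f : WithConv (A →ₐ[R] A)) (n : ℕ) :
    h.comp (f ^ n).ofConv = ofConv ((toConv (h.comp f.ofConv)) ^ n) := by
  induction n with
  | zero =>
    rw [pow_zero, pow_zero]
    ext a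
    simp [AlgHom.convOne_apply]
  | succ n ih =>
    rw [pow_succ, AlgHom.comp_convMul_distrib, ih, pow_succ]

lemma powConv_comp (m n : ℕ) :
    (SGA3b.powConv R A m).comp (SGA3b.powConv R A n) = SGA3b.powConv R A (m * n) := by
  unfold SGA3b.powConv
  rw [comp_ofConv_pow]
  simp only [AlgHom.comp_id, toConv_ofConv, ← pow_mul]

end PowConv

section Frob

variable (p : ℕ) [Fact p.Prime] {k : Type u} [Field k] [CharP k p]
  {A : Type u} [CommRing A] [HopfAlgebra k A] [Coalgebra.IsCocomm k A] [Module.Finite k A]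

/-- S19384 -/
theorem frob_pow_eq_zero_of_verschiebung_bijective (n : ℕ)
    (hn : SGA3b.powConv k A (p ^ n) = (Algebra.ofId k A).comp (Bialgebra.counitAlgHom k A))
    (v : A →+* FrobAlg.BaseChange p k A) (hv : Versch.IsVerschiebung p k A v)
    (hbij : Function.Bijective v)
    (a : A) (ha : Coalgebra.counit (R := k) a = 0) : a ^ (p ^ n) = 0 := by
  have : CharP A p := charP_of_injective_algebraMap (algebraMap_injective_of_counit (R := k)) p
  have hVF := relFrob_comp_verschiebung p v hv
  have key : ∀ m : ℕ, ∀ a : A, ∃ b : A, a ^ (p ^ m) = SGA3b.powConv k A (p ^ m) b := by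
    intro m
    induction m with
    | zero =>
      intro a
      refine ⟨a, ?_⟩
      simp [SGA3b.powConv]
    | succ m ih =>
      intro a
      obtain ⟨b, hb⟩ := ih a
      obtain ⟨c, hc⟩ := hbij.2 (b ⊗ₜ[k] (1 : FrobAlg.Twist p k))
      refine ⟨c, ?_⟩
      have h1 : b ^ p = SGA3b.powConv k A p c := by
        have := RingHom.congr_fun hVF c
        change FrobAlg.relFrob p k A (v c) = SGA3b.powConv k A p c at this
        rw [← this, hc, relFrob_tmul]
        simp
      rw [pow_succ, pow_mul, hb, ← map_pow, h1, ← powConv_comp]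
      rfl
  obtain ⟨b, hb⟩ := key n a
  rw [hn] at hb
  have h2 : Bialgebra.counitAlgHom k A (a ^ p ^ n) = Bialgebra.counitAlgHom k A b := by
    rw [hb]
    simp
  have h3 : Bialgebra.counitAlgHom k A b = 0 := by
    rw [← h2, map_pow]
    change (Coalgebra.counit (R := k) a) ^ p ^ n = 0
    rw [ha, zero_pow (pow_pos (Fact.out : p.Prime).pos n).ne']
  rw [hb]
  simp only [AlgHom.comp_apply, h3, map_zero]

end Frob

end Groth.Agent.Lib.Helper6.Hopf
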