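import Groth.Agent.Lib.Helper6Hopf10

set_option autoImplicit false

namespace Groth.Agent.Lib.Helper6.Hopf

open Coalgebra TensorProduct WithConv

universe u

section BC

variable {R : Type u} [CommRing R] {A : Type u} [CommRing A] [HopfAlgebra R A]
  (T : Type u) [CommRing T] [Algebra R T]

/-- base change of the power maps -/
lemma powConv_baseChange (n : ℕ) (t : T) (a : A) :
    SGA3b.powConv T (T ⊗[R] A) n (t ⊗ₜ[R] a) = t ⊗ₜ[R] SGA3b.powConv R A n a := by
  unfold SGA3b.powConv
  induction n generalizing t a with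
  | zero =>
    rw [pow_zero, pow_zero]
    change algebraMap T (T ⊗[R] A) (counit (R := T) (t ⊗ₜ[R] a)) = t ⊗ₜ[R] algebraMap R A (counit (R := R) a)
    rw [TensorProduct.counit_tmul, Algebra.TensorProduct.algebraMap_apply,
      Algebra.algebraMap_eq_smul_one (counit (R := R) a), TensorProduct.tmul_smul]
    simp [CommSemiring.counit_apply, TensorProduct.smul_tmul']
  | succ n ih =>
    rw [pow_succ, pow_succ]
    change ((toConv (AlgHom.id T (T ⊗[R] A)) ^ n) * toConv (AlgHom.id T (T ⊗[R] A))) (t ⊗ₜ[R] a) =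
      t ⊗ₜ[R] ((toConv (AlgHom.id R A) ^ n) * toConv (AlgHom.id R A)) a
    rw [AlgHom.convMul_apply, AlgHom.convMul_apply, TensorProduct.comul_tmul,
      ← (ℛ R a).eq]
    simp only [CommSemiring.comul_apply, TensorProduct.tmul_sum, map_sum]
    refine Finset.sum_congr rfl (fun i _ => ?_)
    simp only [AlgebraTensorModule.tensorTensorTensorComm_tmul, Algebra.TensorProduct.lift_tmul,
      AlgHom.id_apply]
    change (toConv (AlgHom.id T (T ⊗[R] A)) ^ n).ofConv ((1 : T) ⊗ₜ[R] (ℛ R a).left i) * _ = _
    rw [ih, Algebra.TensorProduct.tmul_mul_tmul, one_mul]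

end BC

end Groth.Agent.Lib.Helper6.Hopf

namespace Groth.Agent.Lib.Helper6.Hopf

open Coalgebra TensorProduct WithConv

universe u

section FV

variable (p : ℕ) [Fact p.Prime] {R : Type u} [CommRing R] [CharP R p]
  {A : Type u} [CommRing A] [HopfAlgebra R A] [Coalgebra.IsCocomm R A]
  [Module.Finite R A] [Module.Projective R A]

omit [Coalgebra.IsCocomm R A] [Module.Finite R A] [Module.Projective R A] in
lemma charP_baseChange : CharP (FrobAlg.BaseChange p R A) p := by
  refine charP_of_injective_algebraMap (R := FrobAlg.Twist p R) ?_ p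
  let r : FrobAlg.BaseChange p R A →ₗ[R] FrobAlg.Twist p R :=
    (TensorProduct.lid R (FrobAlg.Twist p R)).toLinearMap ∘ₗ
      (LinearMap.rTensor (FrobAlg.Twist p R) (counit (R := R) (A := A)))
  refine Function.LeftInverse.injective (g := r) (fun t => ?_)
  change r ((1 : A) ⊗ₜ[R] t) = t
  simp [r]

omit [Module.Finite R A] [Module.Projective R A] in
lemma conv_pow_apply_one (x : WithConv (A →ₗ[R] R)) (m : ℕ) : (x ^ m) 1 = (x 1) ^ m := by
  induction m with
  | zero => simp
  | succ m ih =>
    rw [pow_succ, LinearMap.convMul_apply, Bialgebra.comul_one, pow_succ, ← ih]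
    rfl

/-- semilinearity of the Verschiebung -/
lemma verschiebung_algebraMap (v : A →+* FrobAlg.BaseChange p R A)
    (hv : Versch.IsVerschiebung p R A v) (r : R) :
    v (algebraMap R A r) = (1 : A) ⊗ₜ[R] FrobAlg.toTwist p R r := by
  rw [Versch.isVerschiebung_iff] at hv
  apply Versch.evTw_injective
  intro x
  rw [hv, Versch.evTw_tmul, Algebra.algebraMap_eq_smul_one, map_smul, conv_pow_apply_one,
    FrobAlg.algebraMap_twist, ← map_mul, smul_eq_mul, mul_comm]

lemma verschiebung_pow [CharP A p] (v : A →+* FrobAlg.BaseChange p R A)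
    (hv : Versch.IsVerschiebung p R A v) (a : A) :
    (v a) ^ p = (SGA3b.powConv R A p a) ⊗ₜ[R] (1 : FrobAlg.Twist p R) := by
  obtain ⟨n, e, e', he⟩ := exists_dualBasis' (R := R) (A := A)
  rw [Versch.isVerschiebung_iff] at hv
  have := charP_baseChange p (R := R) (A := A)
  rw [powConv_eq_sum p e e' he a, eq_sum_tmul_evTw p e e' he (v a), sum_pow_char,
    TensorProduct.sum_tmul]
  refine Finset.sum_congr rfl (fun i _ => ?_)
  rw [hv, Algebra.TensorProduct.tmul_pow, ← map_pow, ← FrobAlg.algebraMap_twist,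
    Algebra.algebraMap_eq_smul_one, TensorProduct.tmul_smul, TensorProduct.smul_tmul']

/-- S15891: `F ∘ V = [p]` on the Frobenius twist. -/
theorem verschiebung_comp_relFrob [CharP A p] (v : A →+* FrobAlg.BaseChange p R A)
    (hv : Versch.IsVerschiebung p R A v) :
    ((Algebra.TensorProduct.comm R A (FrobAlg.Twist p R)).toRingEquiv.toRingHom.comp
        ((v.comp (FrobAlg.relFrob p R A)).comp
          (Algebra.TensorProduct.comm R A (FrobAlg.Twist p R)).symm.toRingEquiv.toRingHom)) =
      (SGA3b.powConv (FrobAlg.Twist p R) (FrobAlg.Twist p R ⊗[R] A) p).toRingHom := by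
  apply RingHom.ext
  intro z
  induction z using TensorProduct.induction_on with
  | zero => simp
  | add z w hz hw => rw [map_add, map_add, hz, hw]
  | tmul t a =>
    change (Algebra.TensorProduct.comm R A (FrobAlg.Twist p R))
      (v (FrobAlg.relFrob p R A ((Algebra.TensorProduct.comm R A (FrobAlg.Twist p R)).symm
        (t ⊗ₜ[R] a)))) = SGA3b.powConv (FrobAlg.Twist p R) (FrobAlg.Twist p R ⊗[R] A) p (t ⊗ₜ[R] a)
    rw [powConv_baseChange, Algebra.TensorProduct.comm_symm_tmul, relFrob_tmul, map_mul, map_pow,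
      verschiebung_pow p v hv, verschiebung_algebraMap p v hv, Algebra.TensorProduct.tmul_mul_tmul,
      mul_one, one_mul, RingEquiv.apply_symm_apply, Algebra.TensorProduct.comm_tmul]

end FV

end Groth.Agent.Lib.Helper6.Hopf
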