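import Groth.Agent.Lib.Helper6Hopf1

set_option autoImplicit false

namespace Groth.Agent.Lib.Helper6.Hopf

open MvPolynomial Coalgebra

universe u v

section Field

variable {k : Type u} {A : Type v} [Field k] [CommRing A] [Bialgebra k A]

variable (k A) in
/-- The augmentation ideal. -/
abbrev augI : Ideal A := RingHom.ker (Bialgebra.counitAlgHom k A)

lemma mem_augI {a : A} : a ∈ augI k A ↔ counit (R := k) a = 0 := by
  rw [RingHom.mem_ker]; rfl

lemma sub_counit_mem (a : A) : a - algebraMap k A (counit (R := k) a) ∈ augI k A := by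
  rw [mem_augI, map_sub]
  have : counit (R := k) (algebraMap k A (counit (R := k) a)) = counit (R := k) a :=
    (Bialgebra.counitAlgHom k A).commutes _
  rw [this, sub_self]

variable (k A) in
/-- `I² + k·1`. -/
def Wsub : Submodule k A := ((augI k A) ^ 2).restrictScalars k ⊔ Submodule.span k {1}

lemma algebraMap_mem_Wsub (c : k) : algebraMap k A c ∈ Wsub k A := by
  rw [Algebra.algebraMap_eq_smul_one]
  exact Submodule.mem_sup_right (Submodule.smul_mem _ _ (Submodule.subset_span rfl))

lemma mul_mem_Wsub {a b : A} (ha : counit (R := k) a = 0) (hb : counit (R := k) b = 0) :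
    a * b ∈ Wsub k A := by
  refine Submodule.mem_sup_left ?_
  rw [Submodule.restrictScalars_mem, pow_two]
  exact Ideal.mul_mem_mul (mem_augI.2 ha) (mem_augI.2 hb)

lemma mem_sq_of_mem_Wsub {a : A} (ha : a ∈ Wsub k A) (h0 : counit (R := k) a = 0) :
    a ∈ (augI k A) ^ 2 := by
  obtain ⟨z, hz, w, hw, rfl⟩ := Submodule.mem_sup.1 ha
  obtain ⟨c, rfl⟩ := Submodule.mem_span_singleton.1 hw
  rw [Submodule.restrictScalars_mem] at hz
  have hz0 : counit (R := k) z = 0 :=
    mem_augI.1 (Ideal.pow_le_self (by norm_num) hz)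
  rw [map_add, hz0, zero_add, map_smul, Bialgebra.counit_one, smul_eq_mul, mul_one] at h0
  rw [h0, zero_smul, add_zero]
  exact hz

/-- A linear form vanishing on `I² + k·1` is a point derivation at the counit. -/
lemma pointDer_of_vanish (d : A →ₗ[k] k) (hd : ∀ w ∈ Wsub k A, d w = 0) (a b : A) :
    d (a * b) = counit (R := k) a * d b + counit (R := k) b * d a := by
  have key : ∀ c : A, d c = d (c - algebraMap k A (counit (R := k) c)) := fun c => by
    rw [map_sub, hd _ (algebraMap_mem_Wsub _), sub_zero]
  set a' := a - algebraMap k A (counit (R := k) a) with ha'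
  set b' := b - algebraMap k A (counit (R := k) b) with hb'
  have ha0 : counit (R := k) a' = 0 := mem_augI.1 (sub_counit_mem a)
  have hb0 : counit (R := k) b' = 0 := mem_augI.1 (sub_counit_mem b)
  have e : a * b = a' * b' + counit (R := k) a • b' + counit (R := k) b • a'
      + algebraMap k A (counit (R := k) a * counit (R := k) b) := by
    rw [ha', hb', Algebra.smul_def, Algebra.smul_def, map_mul]
    ring
  rw [e, map_add, map_add, map_add, hd _ (mul_mem_Wsub ha0 hb0), hd _ (algebraMap_mem_Wsub _),
    map_smul, map_smul, ← key, ← key]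
  simp only [smul_eq_mul]
  ring

/-- Existence of coordinates: lifts `x i ∈ I` of a basis of `I/I²` with dual point derivations. -/
lemma exists_coords [Module.Finite k A] :
    ∃ (n : ℕ) (x : Fin n → A) (d : Fin n → (A →ₗ[k] k)),
      (∀ i, counit (R := k) (x i) = 0) ∧
      (∀ i, ∀ w ∈ Wsub k A, d i w = 0) ∧
      (∀ i j, d i (x j) = if i = j then 1 else 0) ∧
      (∀ a : A, counit (R := k) a = 0 →
        ∃ s ∈ Submodule.span k (Set.range x), a - s ∈ (augI k A) ^ 2) := by
  classical
  let W := Wsub k A
  let b := Module.finBasis k (A ⧸ W)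
  choose y hy using fun i => W.mkQ_surjective (b i)
  have hmk0 : ∀ w, w ∈ W → W.mkQ w = 0 := fun w hw => by
    rw [Submodule.mkQ_apply]; exact (Submodule.Quotient.mk_eq_zero W).2 hw
  have hx : ∀ j, W.mkQ (y j - algebraMap k A (counit (R := k) (y j))) = b j := fun j => by
    rw [map_sub, hy, hmk0 _ (algebraMap_mem_Wsub _), sub_zero]
  refine ⟨_, fun i => y i - algebraMap k A (counit (R := k) (y i)),
    fun i => (b.coord i) ∘ₗ W.mkQ, fun i => mem_augI.1 (sub_counit_mem _), ?_, ?_, ?_⟩
  · intro i w hw
    simp only [LinearMap.comp_apply, hmk0 w hw, map_zero]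
  · intro i j
    simp only [LinearMap.comp_apply, hx j, Module.Basis.coord_apply, Module.Basis.repr_self,
      Finsupp.single_apply]
    by_cases h : i = j
    · rw [if_pos h, if_pos h.symm]
    · rw [if_neg h, if_neg (Ne.symm h)]
  · intro a ha
    let s : A := ∑ i, (b.repr (W.mkQ a)) i • (y i - algebraMap k A (counit (R := k) (y i)))
    have hs : s ∈ Submodule.span k (Set.range fun i => y i - algebraMap k A (counit (R := k) (y i))) :=
      Submodule.sum_mem _ (fun i _ => Submodule.smul_mem _ _ (Submodule.subset_span ⟨i, rfl⟩))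
    refine ⟨s, hs, ?_⟩
    have hs0 : counit (R := k) s = 0 := by
      simp only [s, map_sum, map_smul, mem_augI.1 (sub_counit_mem _), smul_zero,
        Finset.sum_const_zero]
    have hmk : W.mkQ s = W.mkQ a := by
      simp only [s, map_sum, map_smul, hx]
      exact b.sum_repr _
    apply mem_sq_of_mem_Wsub
    · rw [← Submodule.Quotient.mk_eq_zero W]
      change W.mkQ (a - s) = 0
      rw [map_sub, hmk, sub_self]
    · rw [map_sub, ha, hs0, sub_self]

variable {p : ℕ} [Fact p.Prime] [CharP k p]

/-- Linear independence of the reduced monomials in the coordinates. -/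
lemma linearIndependent_rmon {n : ℕ} (x : Fin n → A) (d : Fin n → (A →ₗ[k] k))
    (h1 : ∀ a : A, counit (R := k) a = 0 → a ^ p = 0)
    (hdW : ∀ i, ∀ w ∈ Wsub k A, d i w = 0)
    (hdx : ∀ i j, d i (x j) = if i = j then 1 else 0) :
    LinearIndependent k (rmon (p := p) x) := by
  classical
  have hinj : Function.Injective (algebraMap k A) :=
    Function.LeftInverse.injective (g := Bialgebra.counitAlgHom k A)
      (fun c => (Bialgebra.counitAlgHom k A).commutes c)
  let D : Fin n → (A →ₗ[k] A) := fun i => invDer (d i)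
  have hD : ∀ i a b, D i (a * b) = a * D i b + b * D i a := fun i a b =>
    invDer_mul (d i) (pointDer_of_vanish (d i) (hdW i)) a b
  have hdet : IsUnit (Matrix.of (fun i j => D i (x j))).det := by
    set M := Matrix.of (fun i j => D i (x j)) with hM
    have h1' : (Bialgebra.counitAlgHom k A) M.det = 1 := by
      rw [AlgHom.map_det]
      have : (Bialgebra.counitAlgHom k A).mapMatrix M = 1 := by
        ext i j
        simp only [AlgHom.mapMatrix_apply, Matrix.map_apply, hM, Matrix.of_apply,
          Bialgebra.counitAlgHom_apply, D, counit_invDer, hdx, Matrix.one_apply]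
      rw [this, Matrix.det_one]
    have hnil : IsNilpotent (M.det - 1) := ⟨p, h1 _ (by
      have := h1'
      rw [Bialgebra.counitAlgHom_apply] at this
      rw [map_sub, this, Bialgebra.counit_one, sub_self])⟩
    have := hnil.isUnit_add_one
    rwa [sub_add_cancel] at this
  rw [Fintype.linearIndependent_iff]
  intro g hg β
  let P : MvPolynomial (Fin n) k := ∑ α : Fin n → Fin p, monomial (expo α) (g α)
  have hcoeffm : ∀ m, coeff m P = ∑ α : Fin n → Fin p, if expo α = m then g α else 0 := by
    intro m
    simp only [P, coeff_sum, coeff_monomial]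
  have hcoeff : ∀ β, coeff (expo β) P = g β := by
    intro β
    rw [hcoeffm, Finset.sum_eq_single β]
    · rw [if_pos rfl]
    · intro α _ hα
      rw [if_neg (fun h => hα (expo_injective h))]
    · intro h; exact absurd (Finset.mem_univ β) h
  have hsupp : ∀ m, coeff m P ≠ 0 → ∃ α : Fin n → Fin p, expo α = m := by
    intro m hm
    by_contra hno
    push Not at hno
    apply hm
    rw [hcoeffm]
    exact Finset.sum_eq_zero (fun α _ => if_neg (hno α))
  have hRed : Red p P := fun m hm i => by
    obtain ⟨α, rfl⟩ := hsupp m hm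
    exact (α i).2
  have hDeg : DegLE P.totalDegree P := fun m hm => by
    have := le_totalDegree (mem_support_iff.2 hm)
    simpa [Finsupp.degree, Finsupp.sum] using this
  have haev : aeval x P = 0 := by
    simp only [P, map_sum, aeval_monomial_expo]
    exact hg
  have := eq_zero_of_aeval_eq_zero x hinj D hD hdet _ P hRed hDeg haev
  rw [← hcoeff β, this, coeff_zero]

/-- The reduced monomials span. -/
lemma span_rmon_eq_top [Module.Finite k A] {n : ℕ} (x : Fin n → A)
    (h1 : ∀ a : A, counit (R := k) a = 0 → a ^ p = 0)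
    (hx0 : ∀ i, counit (R := k) (x i) = 0)
    (hspan : ∀ a : A, counit (R := k) a = 0 →
        ∃ s ∈ Submodule.span k (Set.range x), a - s ∈ (augI k A) ^ 2) :
    Submodule.span k (Set.range (rmon (p := p) x)) = ⊤ := by
  set I := augI k A with hI
  set S := Algebra.adjoin k (Set.range x) with hS
  have hSV : ∀ a ∈ S, a ∈ Submodule.span k (Set.range (rmon (p := p) x)) := by
    intro a ha
    rw [hS, Algebra.adjoin_range_eq_range_aeval] at ha
    obtain ⟨P, rfl⟩ := ha
    change aeval x P ∈ _
    rw [aeval_eq_sum_rmon x (fun i => h1 _ (hx0 i)) P]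
    exact Submodule.sum_mem _ (fun α _ => Submodule.smul_mem _ _ (Submodule.subset_span ⟨α, rfl⟩))
  have hxS : ∀ s ∈ Submodule.span k (Set.range x), s ∈ S ∧ s ∈ I := by
    intro s hs
    have hle : Submodule.span k (Set.range x) ≤ S.toSubmodule ⊓ I.restrictScalars k := by
      rw [Submodule.span_le]
      rintro _ ⟨i, rfl⟩
      exact ⟨Algebra.subset_adjoin ⟨i, rfl⟩, mem_augI.2 (hx0 i)⟩
    exact hle hs
  -- successive approximation
  have hB : ∀ m : ℕ, ∀ a ∈ I ^ (m + 1), ∃ s ∈ S, a - s ∈ I ^ (m + 2) := by
    intro m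
    induction m with
    | zero =>
      intro a ha
      rw [zero_add, pow_one] at ha
      obtain ⟨s, hs, hs2⟩ := hspan a (mem_augI.1 ha)
      exact ⟨s, (hxS s hs).1, hs2⟩
    | succ m ih =>
      intro a ha
      rw [pow_succ'] at ha
      refine Submodule.mul_induction_on ha ?_ ?_
      · intro r hr t ht
        obtain ⟨s1, hs1, hr2⟩ := hspan r (mem_augI.1 hr)
        obtain ⟨s2, hs2, ht2⟩ := ih t ht
        refine ⟨s1 * s2, S.mul_mem (hxS s1 hs1).1 hs2, ?_⟩
        have e : r * t - s1 * s2 = (r - s1) * t + s1 * (t - s2) := by ring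
        rw [e]
        refine Ideal.add_mem _ ?_ ?_
        · have : (r - s1) * t ∈ I ^ 2 * I ^ (m + 1) := Ideal.mul_mem_mul hr2 ht
          rwa [← pow_add, show 2 + (m + 1) = m + 1 + 2 by ring] at this
        · have : s1 * (t - s2) ∈ I * I ^ (m + 2) := Ideal.mul_mem_mul (hxS s1 hs1).2 ht2
          rwa [← pow_succ'] at this
      · rintro a b ⟨s, hs, hs2⟩ ⟨s', hs', hs2'⟩
        refine ⟨s + s', S.add_mem hs hs', ?_⟩
        have e : a + b - (s + s') = (a - s) + (b - s') := by ring
        rw [e]
        exact Ideal.add_mem _ hs2 hs2'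
  -- nilpotency of `I`
  have : IsNoetherianRing A := isNoetherian_of_tower k (isNoetherian_of_isNoetherianRing_of_finite k A)
  obtain ⟨N, hN⟩ : ∃ N : ℕ, I ^ N = ⊥ := by
    obtain ⟨N, hN⟩ := IsNoetherianRing.isNilpotent_nilradical A
    refine ⟨N, ?_⟩
    rw [eq_bot_iff, ← Ideal.zero_eq_bot, ← hN]
    refine Ideal.pow_right_mono ?_ N
    intro a ha
    exact (mem_nilradical).2 ⟨p, h1 a (mem_augI.1 ha)⟩
  have hD : ∀ (j m : ℕ), m + j = N → ∀ a ∈ I ^ (m + 1), a ∈ S := by
    intro j
    induction j with
    | zero =>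
      intro m hm a ha
      rw [add_zero] at hm
      subst hm
      have : a ∈ I ^ m := Ideal.pow_le_pow_right (Nat.le_succ m) ha
      rw [hN, Ideal.mem_bot] at this
      rw [this]; exact S.zero_mem
    | succ j ih =>
      intro m hm a ha
      obtain ⟨s, hs, hs2⟩ := hB m a ha
      have := ih (m + 1) (by omega) (a - s) hs2
      have e : a = s + (a - s) := by ring
      rw [e]
      exact S.add_mem hs this
  rw [eq_top_iff]
  intro a _
  apply hSV
  have e : a = algebraMap k A (counit (R := k) a) + (a - algebraMap k A (counit (R := k) a)) := by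
    ring
  rw [e]
  refine S.add_mem (S.algebraMap_mem _) (hD N 0 (zero_add N) _ ?_)
  rw [zero_add, pow_one]
  exact sub_counit_mem a

/-- **Field case**: a finite commutative bialgebra over a field of characteristic `p` whose
augmentation ideal is killed by the `p`-th power has a basis of reduced monomials. -/
theorem field_case [Module.Finite k A] (h1 : ∀ a : A, counit (R := k) a = 0 → a ^ p = 0) :
    ∃ (n : ℕ) (x : Fin n → A), (∀ i, counit (R := k) (x i) = 0) ∧
      LinearIndependent k (rmon (p := p) x) ∧
      Submodule.span k (Set.range (rmon (p := p) x)) = ⊤ := by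
  obtain ⟨n, x, d, hx0, hdW, hdx, hspan⟩ := exists_coords (k := k) (A := A)
  exact ⟨n, x, hx0, linearIndependent_rmon x d h1 hdW hdx, span_rmon_eq_top x h1 hx0 hspan⟩

end Field

end Groth.Agent.Lib.Helper6.Hopf
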