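import Groth.Agent.Lib.Helper6Hopf2

set_option autoImplicit false

namespace Groth.Agent.Lib.Helper6.Hopf

open MvPolynomial Coalgebra TensorProduct

universe u v

section Quot

variable {R : Type u} {A : Type v} [CommRing R] [CommRing A] [Algebra R A] {n p : ℕ}

/-- Monomials with a large exponent lie in the ideal `(X_i^p)`. -/
lemma monomial_mem_span_X_pow (m : Fin n →₀ ℕ) (c : R) (i : Fin n) (hi : p ≤ m i) :
    monomial m c ∈ Ideal.span (Set.range fun i : Fin n => (X i : MvPolynomial (Fin n) R) ^ p) := by
  have e : monomial m c = monomial (m - Finsupp.single i p) c * (X i : MvPolynomial (Fin n) R) ^ p := by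
    have hm : m - Finsupp.single i p + Finsupp.single i p = m := by
      ext j
      simp only [Finsupp.add_apply, Finsupp.tsub_apply, Finsupp.single_apply]
      split_ifs with h
      · subst h; omega
      · omega
    rw [X_pow_eq_monomial, monomial_mul, mul_one, hm]
  rw [e]
  exact Ideal.mul_mem_left _ _ (Ideal.subset_span ⟨i, rfl⟩)

/-- A ring with a basis of reduced monomials is a truncated polynomial ring. -/
theorem nonempty_algEquiv_of_basis (x : Fin n → A) (hx : ∀ i, x i ^ p = 0)
    (hli : LinearIndependent R (rmon (p := p) x))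
    (hsp : Submodule.span R (Set.range (rmon (p := p) x)) = ⊤) :
    Nonempty (A ≃ₐ[R] (MvPolynomial (Fin n) R ⧸
      Ideal.span (Set.range fun i : Fin n => (X i : MvPolynomial (Fin n) R) ^ p))) := by
  classical
  set J := Ideal.span (Set.range fun i : Fin n => (X i : MvPolynomial (Fin n) R) ^ p) with hJ
  have hJker : ∀ a ∈ J, aeval x a = 0 := by
    intro a ha
    have : J ≤ RingHom.ker (aeval x : MvPolynomial (Fin n) R →ₐ[R] A) := by
      rw [hJ, Ideal.span_le]
      rintro _ ⟨i, rfl⟩
      rw [SetLike.mem_coe, RingHom.mem_ker, map_pow, aeval_X, hx]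
    exact this ha
  let φ : (MvPolynomial (Fin n) R ⧸ J) →ₐ[R] A := Ideal.Quotient.liftₐ J (aeval x) hJker
  have hφ : ∀ P, φ (Ideal.Quotient.mk J P) = aeval x P := fun P => rfl
  have hsurj : Function.Surjective φ := by
    intro a
    have ha : a ∈ Submodule.span R (Set.range (rmon (p := p) x)) := by rw [hsp]; trivial
    obtain ⟨c, rfl⟩ := (Submodule.mem_span_range_iff_exists_fun R).1 ha
    refine ⟨Ideal.Quotient.mk J (∑ α, monomial (expo α) (c α)), ?_⟩
    rw [hφ, map_sum]
    exact Finset.sum_congr rfl (fun α _ => aeval_monomial_expo x α (c α))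
  have hinj : Function.Injective φ := by
    rw [injective_iff_map_eq_zero]
    intro q hq
    obtain ⟨P, rfl⟩ := Ideal.Quotient.mk_surjective q
    rw [hφ, aeval_eq_sum_rmon x hx P] at hq
    have hc := (Fintype.linearIndependent_iff.1 hli) _ hq
    rw [Ideal.Quotient.eq_zero_iff_mem, P.as_sum]
    refine Ideal.sum_mem _ (fun m _ => ?_)
    by_cases hm : ∀ i, m i < p
    · obtain ⟨α, rfl⟩ := exists_expo_eq m hm
      rw [hc α, monomial_zero]
      exact Ideal.zero_mem _
    · push Not at hm
      obtain ⟨i, hi⟩ := hm
      exact monomial_mem_span_X_pow m _ i hi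
  exact ⟨(AlgEquiv.ofBijective φ ⟨hinj, hsurj⟩).symm⟩

end Quot

section Local

open IsLocalRing

variable {p : ℕ} [Fact p.Prime] {R : Type u} [CommRing R] {A : Type v} [CommRing A] [Bialgebra R A]

omit [Fact p.Prime] in
lemma counit_sub_algebraMap (a : A) :
    counit (R := R) (a - algebraMap R A (counit (R := R) a)) = 0 := by
  have : counit (R := R) (algebraMap R A (counit (R := R) a)) = counit (R := R) a :=
    (Bialgebra.counitAlgHom R A).commutes _
  rw [map_sub, this, sub_self]

omit [Fact p.Prime] in
lemma isIntegral_of_height_le_one (h1 : ∀ a : A, counit (R := R) a = 0 → a ^ p = 0) :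
    Algebra.IsIntegral R A := by
  refine ⟨fun a => ?_⟩
  refine ⟨(Polynomial.X - Polynomial.C (counit (R := R) a)) ^ p,
    (Polynomial.monic_X_sub_C _).pow p, ?_⟩
  rw [Polynomial.eval₂_pow, Polynomial.eval₂_sub, Polynomial.eval₂_X, Polynomial.eval₂_C]
  exact h1 _ (counit_sub_algebraMap a)

lemma charP_residueField [IsLocalRing R] [CharP R p] : CharP (ResidueField R) p := by
  have h0 : ((p : ℕ) : ResidueField R) = 0 := by
    have : ((p : ℕ) : R) = 0 := CharP.cast_eq_zero R p
    rw [← map_natCast (residue R), this, map_zero]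
  obtain ⟨q, hq⟩ := CharP.exists (ResidueField R)
  have hdvd : q ∣ p := (CharP.cast_eq_zero_iff (ResidueField R) q p).1 h0
  rcases (Nat.dvd_prime (Fact.out)).1 hdvd with h | h
  · exact absurd h (CharP.char_ne_one (ResidueField R) q)
  · rw [← h]; exact hq

/-- Height `≤ 1` passes to the base change to a field `k` of characteristic `p` for which
`R → k` is surjective. -/
lemma baseChange_height_le_one {k : Type u} [Field k] [Algebra R k] [CharP k p]
    (h1 : ∀ a : A, counit (R := R) a = 0 → a ^ p = 0) :
    ∀ a : k ⊗[R] A, counit (R := k) a = 0 → a ^ p = 0 := by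
  have hinj : Function.Injective (algebraMap k (k ⊗[R] A)) :=
    Function.LeftInverse.injective (g := Bialgebra.counitAlgHom k (k ⊗[R] A))
      (fun c => (Bialgebra.counitAlgHom k (k ⊗[R] A)).commutes c)
  have : CharP (k ⊗[R] A) p := charP_of_injective_algebraMap hinj p
  have key : ∀ a : k ⊗[R] A, (a - algebraMap k (k ⊗[R] A) (counit (R := k) a)) ^ p = 0 := by
    intro a
    induction a using TensorProduct.induction_on with
    | zero => simp [(Fact.out : p.Prime).ne_zero]
    | tmul c b =>
      have e : c ⊗ₜ[R] b - algebraMap k (k ⊗[R] A) (counit (R := k) (c ⊗ₜ[R] b)) =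
          c ⊗ₜ[R] (b - algebraMap R A (counit (R := R) b)) := by
        rw [TensorProduct.counit_tmul, CommSemiring.counit_apply,
          Algebra.TensorProduct.algebraMap_apply, Algebra.algebraMap_self_apply,
          TensorProduct.tmul_sub, Algebra.algebraMap_eq_smul_one (counit (R := R) b),
          TensorProduct.tmul_smul, TensorProduct.smul_tmul']
      rw [e, Algebra.TensorProduct.tmul_pow, h1 _ (counit_sub_algebraMap b), TensorProduct.tmul_zero]
    | add a b ha hb =>
      have e : a + b - algebraMap k (k ⊗[R] A) (counit (R := k) (a + b)) =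
          (a - algebraMap k (k ⊗[R] A) (counit (R := k) a)) +
          (b - algebraMap k (k ⊗[R] A) (counit (R := k) b)) := by
        rw [map_add, map_add]; ring
      rw [e, add_pow_char, ha, hb, add_zero]
  intro a ha
  have := key a
  rwa [ha, map_zero, sub_zero] at this

/-- **Local case**: S4110 for bialgebras. -/
theorem local_case (p : ℕ) [Fact p.Prime] (R : Type u) [CommRing R] [IsLocalRing R] [CharP R p]
    (A : Type u) [CommRing A] [Bialgebra R A] [Algebra.FiniteType R A] [Module.Flat R A]
    (h1 : ∀ a : A, counit (R := R) a = 0 → a ^ p = 0) :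
    ∃ n : ℕ, Nonempty (A ≃ₐ[R] (MvPolynomial (Fin n) R ⧸
      Ideal.span (Set.range fun i : Fin n => (X i : MvPolynomial (Fin n) R) ^ p))) := by
  have : Algebra.IsIntegral R A := isIntegral_of_height_le_one h1
  have : Module.Finite R A := Algebra.IsIntegral.finite
  have : CharP (ResidueField R) p := charP_residueField
  obtain ⟨n, xb, hxb0, hli, hsp⟩ := field_case (k := ResidueField R)
    (A := ResidueField R ⊗[R] A) (p := p) (baseChange_height_le_one h1)
  have hlift : ∀ i, ∃ x : A, counit (R := R) x = 0 ∧ (1 : ResidueField R) ⊗ₜ[R] x = xb i := by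
    intro i
    obtain ⟨y, hy⟩ := TensorProduct.mk_surjective R A (ResidueField R)
      Ideal.Quotient.mk_surjective (xb i)
    refine ⟨y - algebraMap R A (counit (R := R) y), counit_sub_algebraMap y, ?_⟩
    have h0 : counit (R := R) y • (1 : ResidueField R) = 0 := by
      have := hxb0 i
      rwa [← hy, TensorProduct.mk_apply, TensorProduct.counit_tmul,
        CommSemiring.counit_apply] at this
    rw [TensorProduct.tmul_sub, Algebra.algebraMap_eq_smul_one, ← TensorProduct.smul_tmul, h0,
      TensorProduct.zero_tmul, sub_zero]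
    exact hy
  choose x hx0 hx using hlift
  have hr : ∀ α, (1 : ResidueField R) ⊗ₜ[R] rmon (p := p) x α = rmon (p := p) xb α := by
    intro α
    have hinc : ∀ a : A, (1 : ResidueField R) ⊗ₜ[R] a =
        (Algebra.TensorProduct.includeRight : A →ₐ[R] ResidueField R ⊗[R] A) a := fun a => rfl
    rw [hinc, rmon, map_prod]
    refine Finset.prod_congr rfl (fun i _ => ?_)
    rw [map_pow, ← hinc, hx]
  have hcomp : TensorProduct.mk R (ResidueField R) A 1 ∘ rmon (p := p) x = rmon (p := p) xb :=
    funext hr
  have hliR : LinearIndependent R (rmon (p := p) x) :=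
    Module.IsLocalRing.linearIndependent_of_flat _ (by rw [hcomp]; exact hli)
  have hspR : Submodule.span R (Set.range (rmon (p := p) x)) = ⊤ :=
    IsLocalRing.span_eq_top_of_tmul_eq_basis _ (Module.Basis.mk hli hsp.ge)
      (fun α => by rw [Module.Basis.mk_apply]; exact hr α)
  exact ⟨n, nonempty_algEquiv_of_basis x (fun i => h1 _ (hx0 i)) hliR hspR⟩

end Local

end Groth.Agent.Lib.Helper6.Hopf
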