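import Groth.Agent.Lib.Helper6Hopf3

set_option autoImplicit false

namespace Groth.Agent.Lib.Helper6.Hopf

open Coalgebra TensorProduct

universe u v

section TraceArg

variable {k : Type u} {A : Type v} [Field k] [CommRing A] [Algebra k A]

/-- The trace of multiplication kills `b * D a` for any operator `D` with the Leibniz rule. -/
lemma trace_mul_leibniz [Module.Finite k A] (D : A →ₗ[k] A)
    (hD : ∀ a b, D (a * b) = a * D b + b * D a) (a b : A) :
    Algebra.trace k A (b * D a) = 0 := by
  have h1 : Algebra.lmul k A (D a) = D * Algebra.lmul k A a - Algebra.lmul k A a * D := by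
    apply LinearMap.ext
    intro c
    simp only [LinearMap.sub_apply, Module.End.mul_apply,
      Algebra.coe_lmul_eq_mul, LinearMap.mul_apply', hD]
    ring
  rw [Algebra.trace_apply, map_mul, h1, mul_sub, map_sub, ← mul_assoc, ← mul_assoc,
    LinearMap.trace_mul_cycle, ← map_mul, ← map_mul, mul_comm a b, sub_self]

end TraceArg

section Idem

variable {k : Type u} {A : Type v} [Field k] [CommRing A] [HopfAlgebra k A]

/-- `a ⊗ b ↦ S(a) * D(b)`. -/
noncomputable def sD (D : A →ₗ[k] A) : A ⊗[k] A →ₗ[k] A :=
  LinearMap.mul' k A ∘ₗ TensorProduct.map (HopfAlgebra.antipode k) D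

@[simp] lemma sD_tmul (D : A →ₗ[k] A) (a b : A) :
    sD D (a ⊗ₜ[k] b) = HopfAlgebra.antipode k a * D b := by
  simp [sD]

lemma sD_id_comul (a : A) : sD (LinearMap.id) (comul (R := k) a) = algebraMap k A (counit a) := by
  have := HopfAlgebra.mul_antipode_rTensor_comul_apply (R := k) a
  rw [← this]
  rfl

/-- `Σ S(x₁) D(x₂) = d(x)` for the invariant derivation `D` attached to `d`. -/
lemma sD_invDer_comul (d : A →ₗ[k] k) (x : A) :
    sD (invDer d) (comul (R := k) x) = algebraMap k A (d x) := by
  -- rewrite `(id ⊗ D) Δ = (id ⊗ tF d) ∘ assoc ∘ (Δ ⊗ id) ∘ Δ`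
  have key : ∀ (s : A ⊗[k] A) (b : A),
      LinearMap.mul' k A (TensorProduct.map (HopfAlgebra.antipode k) (tF d)
        (TensorProduct.assoc k A A A (s ⊗ₜ[k] b))) = d b • sD LinearMap.id s := by
    intro s b
    induction s using TensorProduct.induction_on with
    | zero => simp
    | add s₁ s₂ h₁ h₂ => simp only [TensorProduct.add_tmul, map_add, h₁, h₂, smul_add]
    | tmul a₁ a₂ => simp
  have key2 : ∀ t : A ⊗[k] A,
      LinearMap.mul' k A (TensorProduct.map (HopfAlgebra.antipode k) (tF d)
        (TensorProduct.assoc k A A A (comul.rTensor A t))) =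
      algebraMap k A (d (tF' (counit (R := k)) t)) := by
    intro t
    induction t using TensorProduct.induction_on with
    | zero => simp
    | add t₁ t₂ h₁ h₂ => simp only [map_add, h₁, h₂]
    | tmul a b =>
      rw [LinearMap.rTensor_tmul, key, sD_id_comul, tF'_tmul, map_smul, Algebra.smul_def,
        ← map_mul, smul_eq_mul, mul_comm]
  have e : sD (invDer d) (comul (R := k) x) =
      LinearMap.mul' k A (TensorProduct.map (HopfAlgebra.antipode k) (tF d)
        (TensorProduct.assoc k A A A (comul.rTensor A (comul (R := k) x)))) := by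
    rw [Coalgebra.coassoc_apply]
    generalize comul (R := k) x = t
    induction t using TensorProduct.induction_on with
    | zero => simp
    | add t₁ t₂ h₁ h₂ => simp only [map_add, h₁, h₂]
    | tmul a b => simp [sD, invDer]
  rw [e, key2, tF'_counit_comul]

/-- If the rank is invertible in `k`, there is no nonzero point derivation: every linear form
killing `I² + k` kills everything. -/
lemma pointDer_eq_zero [Module.Finite k A] (h : (Module.finrank k A : k) ≠ 0)
    (d : A →ₗ[k] k) (hd : ∀ w ∈ Wsub k A, d w = 0) (x : A) : d x = 0 := by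
  by_contra hx
  apply h
  have hD : ∀ a b, invDer d (a * b) = a * invDer d b + b * invDer d a :=
    invDer_mul d (pointDer_of_vanish d hd)
  have hzero : ∀ t : A ⊗[k] A, Algebra.trace k A (sD (invDer d) t) = 0 := by
    intro t
    induction t using TensorProduct.induction_on with
    | zero => simp
    | add t₁ t₂ h₁ h₂ => simp only [map_add, h₁, h₂, add_zero]
    | tmul a b => rw [sD_tmul]; exact trace_mul_leibniz _ hD _ _
  have := hzero (comul (R := k) x)
  rw [sD_invDer_comul, Algebra.trace_algebraMap, nsmul_eq_mul] at this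
  rcases mul_eq_zero.1 this with h0 | h0
  · exact h0
  · exact absurd h0 hx

lemma mem_sq_of_counit_eq_zero [Module.Finite k A] (h : (Module.finrank k A : k) ≠ 0) (a : A)
    (ha : counit (R := k) a = 0) : a ∈ (augI k A) ^ 2 := by
  obtain ⟨n, x, d, hx0, hdW, hdx, hspan⟩ := exists_coords (k := k) (A := A)
  have hn : IsEmpty (Fin n) := ⟨fun i => by
    have h1 := hdx i i
    rw [if_pos rfl, pointDer_eq_zero h (d i) (hdW i) (x i)] at h1
    exact zero_ne_one h1⟩
  obtain ⟨s, hs, hs2⟩ := hspan a ha
  have : s = 0 := by
    have hr : Set.range x = ∅ := Set.range_eq_empty x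
    rw [hr, Submodule.span_empty] at hs
    exact (Submodule.mem_bot k).1 hs
  rwa [this, sub_zero] at hs2

end Idem

section Omega

variable {k : Type u} {A : Type v} [Field k] [CommRing A] [HopfAlgebra k A]
  {M : Type*} [AddCommGroup M] [Module k M] [Module A M] [IsScalarTower k A M]

/-- The action map `A ⊗ M → M`. -/
noncomputable def actM : A ⊗[k] M →ₗ[k] M :=
  TensorProduct.lift (Algebra.lsmul k k M).toLinearMap

@[simp] lemma actM_tmul (a : A) (m : M) : actM (k := k) (a ⊗ₜ[k] m) = a • m := by
  simp [actM]

/-- `a ⊗ b ↦ S(a) • D(b)`. -/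
noncomputable def sDM (D : A →ₗ[k] M) : A ⊗[k] A →ₗ[k] M :=
  actM ∘ₗ TensorProduct.map (HopfAlgebra.antipode k) D

@[simp] lemma sDM_tmul (D : A →ₗ[k] M) (a b : A) :
    sDM D (a ⊗ₜ[k] b) = HopfAlgebra.antipode k a • D b := by
  simp [sDM]

lemma sDM_mul (D : A →ₗ[k] M) (hD : ∀ a b, D (a * b) = a • D b + b • D a) (t s : A ⊗[k] A) :
    sDM D (t * s) = sD LinearMap.id t • sDM D s + sD LinearMap.id s • sDM D t := by
  induction t using TensorProduct.induction_on with
  | zero => simp
  | add t₁ t₂ h₁ h₂ => simp only [add_mul, map_add, h₁, h₂, add_smul, smul_add]; abel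
  | tmul a₁ a₂ =>
    induction s using TensorProduct.induction_on with
    | zero => simp
    | add s₁ s₂ h₁ h₂ => simp only [mul_add, map_add, h₁, h₂, add_smul, smul_add]; abel
    | tmul b₁ b₂ =>
      rw [Algebra.TensorProduct.tmul_mul_tmul, sDM_tmul, sDM_tmul, sDM_tmul, sD_tmul, sD_tmul, hD,
        HopfAlgebra.antipode_mul_distrib]
      simp only [LinearMap.id_apply, smul_add, smul_smul]
      congr 1
      · congr 1; ring
      · congr 1; ring

lemma theta_mul (D : A →ₗ[k] M) (hD : ∀ a b, D (a * b) = a • D b + b • D a) (x y : A) :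
    sDM D (comul (R := k) (x * y)) =
      counit (R := k) x • sDM D (comul (R := k) y) + counit (R := k) y • sDM D (comul (R := k) x) := by
  rw [Bialgebra.comul_mul, sDM_mul D hD, sD_id_comul, sD_id_comul, algebraMap_smul, algebraMap_smul]

/-- Reconstruction of a derivation from its `ε`-derivation: `D a = Σ a₁ • θ(a₂)`. -/
lemma actM_lTensor_theta (D : A →ₗ[k] M) (a : A) :
    actM (k := k) (LinearMap.lTensor A (sDM D ∘ₗ comul) (comul (R := k) a)) = D a := by
  have key : ∀ (s : A ⊗[k] A) (b : A),
      actM (k := k) (LinearMap.lTensor A (sDM D) (TensorProduct.assoc k A A A (s ⊗ₜ[k] b))) =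
        (LinearMap.mul' k A (LinearMap.lTensor A (HopfAlgebra.antipode k) s)) • D b := by
    intro s b
    induction s using TensorProduct.induction_on with
    | zero => simp
    | add s₁ s₂ h₁ h₂ => simp only [TensorProduct.add_tmul, map_add, h₁, h₂, add_smul]
    | tmul a₁ a₂ => simp [smul_smul]
  have key2 : ∀ t : A ⊗[k] A,
      actM (k := k) (LinearMap.lTensor A (sDM D)
        (TensorProduct.assoc k A A A (comul.rTensor A t))) = D (tF' (counit (R := k)) t) := by
    intro t
    induction t using TensorProduct.induction_on with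
    | zero => simp
    | add t₁ t₂ h₁ h₂ => simp only [map_add, h₁, h₂]
    | tmul a b =>
      rw [LinearMap.rTensor_tmul, key, HopfAlgebra.mul_antipode_lTensor_comul_apply, tF'_tmul,
        map_smul, algebraMap_smul]
  rw [LinearMap.lTensor_comp, LinearMap.comp_apply, ← Coalgebra.coassoc_apply, key2,
    tF'_counit_comul]

/-- If the augmentation ideal is idempotent, every derivation of `A` vanishes. -/
lemma derivation_eq_zero (h : ∀ a : A, counit (R := k) a = 0 → a ∈ (augI k A) ^ 2)
    (D : A →ₗ[k] M) (hD : ∀ a b, D (a * b) = a • D b + b • D a) (a : A) : D a = 0 := by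
  have hθ1 : sDM D (comul (R := k) (1 : A)) = 0 := by
    have := theta_mul D hD 1 1
    rw [mul_one, Bialgebra.counit_one, one_smul] at this
    have h2 : sDM D (comul (R := k) (1 : A)) + 0 =
        sDM D (comul (R := k) (1 : A)) + sDM D (comul (R := k) (1 : A)) := by
      rw [add_zero]; exact this
    exact (add_left_cancel h2).symm
  have hθI : ∀ z ∈ (augI k A) ^ 2, sDM D (comul (R := k) z) = 0 := by
    intro z hz
    rw [pow_two] at hz
    refine Submodule.mul_induction_on hz ?_ ?_
    · intro r hr t ht
      rw [theta_mul D hD, mem_augI.1 hr, mem_augI.1 ht, zero_smul, zero_smul, add_zero]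
    · intro x y hx hy
      rw [map_add, map_add, hx, hy, add_zero]
  have hθ : ∀ z : A, sDM D (comul (R := k) z) = 0 := by
    intro z
    have e : z = algebraMap k A (counit (R := k) z) + (z - algebraMap k A (counit (R := k) z)) := by
      ring
    rw [e, map_add, map_add, hθI _ (h _ (counit_sub_algebraMap z)), add_zero,
      Algebra.algebraMap_eq_smul_one, map_smul, map_smul, hθ1, smul_zero]
  rw [← actM_lTensor_theta D a]
  have : (sDM D ∘ₗ comul : A →ₗ[k] M) = 0 := LinearMap.ext hθ
  rw [this, LinearMap.lTensor_zero, LinearMap.zero_apply, map_zero]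

end Omega

section Etale

variable {k : Type u} {A : Type u} [Field k] [CommRing A] [HopfAlgebra k A]

/-- S4113: a finite commutative Hopf algebra over a field whose rank is invertible is étale. -/
theorem etale_of_finrank_ne_zero [Module.Finite k A] (h : (Module.finrank k A : k) ≠ 0) :
    Algebra.Etale k A := by
  have hsub : Subsingleton (Ω[A⁄k]) := by
    have hD0 : ∀ a : A, KaehlerDifferential.D k A a = 0 := fun a =>
      derivation_eq_zero (mem_sq_of_counit_eq_zero h)
        ((KaehlerDifferential.D k A : A →ₗ[k] Ω[A⁄k])) (fun a b =>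
          (KaehlerDifferential.D k A).leibniz a b) a
    have htop : (⊤ : Submodule A (Ω[A⁄k])) ≤ ⊥ := by
      rw [← KaehlerDifferential.span_range_derivation, Submodule.span_le]
      rintro _ ⟨a, rfl⟩
      exact hD0 a
    exact (subsingleton_iff_forall_eq 0).mpr fun y => htop trivial
  have : Algebra.FormallyUnramified k A := ⟨hsub⟩
  have : Algebra.FiniteType k A := Module.Finite.finiteType A
  have : Algebra.FormallyEtale k A := Algebra.FormallyEtale.of_formallyUnramified_of_field k A
  have : Algebra.FinitePresentation k A :=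
    (Algebra.FinitePresentation.of_finiteType).1 inferInstance
  exact ⟨inferInstance, inferInstance⟩

end Etale

end Groth.Agent.Lib.Helper6.Hopf
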