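import Groth.Agent.Lib.Helper6Hopf4

set_option autoImplicit false

namespace Groth.Agent.Lib.Helper6.Hopf

open MvPolynomial Coalgebra

universe u v

section IdealVersion

variable {k : Type u} {A : Type v} [Field k] [CommRing A] [Algebra k A] {n p : ℕ}

/-- The derivation argument modulo an ideal stable under the derivations. -/
lemma eq_zero_of_aeval_mem [Fact p.Prime] [CharP k p] (x : Fin n → A) (J : Ideal A)
    (hJ : ∀ c : k, algebraMap k A c ∈ J → c = 0)
    (D : Fin n → (A →ₗ[k] A)) (hD : ∀ i a b, D i (a * b) = a * D i b + b * D i a)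
    (hDJ : ∀ i, ∀ a ∈ J, D i a ∈ J)
    (hdet : IsUnit (Matrix.of (fun i j => D i (x j))).det) :
    ∀ (d : ℕ) (P : MvPolynomial (Fin n) k), Red p P → DegLE d P → aeval x P ∈ J → P = 0 := by
  classical
  have base : ∀ P : MvPolynomial (Fin n) k, DegLE 0 P → aeval x P ∈ J → P = 0 := by
    intro P hP h0
    rw [eq_C_of_degLE_zero hP] at h0 ⊢
    rw [aeval_C] at h0
    rw [hJ _ h0, C_0]
  intro d
  induction d with
  | zero => intro P _ hd h0; exact base P hd h0
  | succ d ih =>
    intro P hR hd h0
    have hpd : ∀ j, pderiv j P = 0 := by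
      set M := Matrix.of (fun i j => D i (x j)) with hM
      set v : Fin n → A := fun j => aeval x (pderiv j P) with hv
      have hw : ∀ i, (M.mulVec v) i ∈ J := by
        intro i
        have := leibniz_aeval (D i) (hD i) x P
        have h2 : (M.mulVec v) i = D i (aeval x P) := by
          rw [this]
          simp only [Matrix.mulVec, dotProduct, hM, Matrix.of_apply, hv]
          exact Finset.sum_congr rfl (fun j _ => mul_comm _ _)
        rw [h2]
        exact hDJ i _ h0
      have hinv : M⁻¹ * M = 1 := Matrix.nonsing_inv_mul M hdet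
      have hvJ : ∀ j, v j ∈ J := by
        intro j
        have e : v = M⁻¹.mulVec (M.mulVec v) := by
          rw [Matrix.mulVec_mulVec, hinv, Matrix.one_mulVec]
        rw [e]
        simp only [Matrix.mulVec, dotProduct]
        exact Ideal.sum_mem _ (fun l _ => Ideal.mul_mem_left _ _ (hw l))
      intro j
      exact ih _ (red_pderiv hR j) (degLE_pderiv hd j) (hvJ j)
    exact base P (degLE_zero_of_pderiv_eq_zero hR hpd) h0

/-- Coefficient extraction: reduced relations modulo `J` are trivial. -/
lemma coeffs_eq_zero_of_mem (x : Fin n → A) (J : Ideal A)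
    (hkey : ∀ (P : MvPolynomial (Fin n) k), Red p P → aeval x P ∈ J → P = 0)
    (g : (Fin n → Fin p) → k) (hg : ∑ α, g α • rmon (p := p) x α ∈ J) : ∀ α, g α = 0 := by
  classical
  intro β
  let P : MvPolynomial (Fin n) k := ∑ α : Fin n → Fin p, monomial (expo α) (g α)
  have hcoeffm : ∀ m, coeff m P = ∑ α : Fin n → Fin p, if expo α = m then g α else 0 := by
    intro m
    simp only [P, coeff_sum, coeff_monomial]
  have hcoeff : ∀ β, coeff (expo β) P = g β := by
    intro β
    rw [hcoeffm, Finset.sum_eq_single β]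
    · rw [if_pos rfl]
    · intro α _ hα
      rw [if_neg (fun h => hα (expo_injective h))]
    · intro h; exact absurd (Finset.mem_univ β) h
  have hsupp : ∀ m, coeff m P ≠ 0 → ∃ α : Fin n → Fin p, expo α = m := by
    intro m hm
    by_contra hno
    push Not at hno
    apply hm
    rw [hcoeffm]
    exact Finset.sum_eq_zero (fun α _ => if_neg (hno α))
  have hRed : Red p P := fun m hm i => by
    obtain ⟨α, rfl⟩ := hsupp m hm
    exact (α i).2
  have haev : aeval x P ∈ J := by
    simp only [P, map_sum, aeval_monomial_expo]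
    exact hg
  rw [← hcoeff β, hkey P hRed haev, coeff_zero]

end IdealVersion

section Aug

variable {k : Type u} {A : Type v} [Field k] [CommRing A] [Algebra k A] {p : ℕ}

/-- Spanning by reduced monomials, for an augmented finite algebra. -/
lemma span_rmon_eq_top' [Module.Finite k A] (ε : A →ₐ[k] k) {n : ℕ} (x : Fin n → A)
    (h1 : ∀ a : A, ε a = 0 → a ^ p = 0)
    (hx0 : ∀ i, ε (x i) = 0)
    (hspan : ∀ a : A, ε a = 0 →
        ∃ s ∈ Submodule.span k (Set.range x), a - s ∈ (RingHom.ker ε) ^ 2) :
    Submodule.span k (Set.range (rmon (p := p) x)) = ⊤ := by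
  set I : Ideal A := RingHom.ker ε with hI
  have memI : ∀ {a : A}, a ∈ I ↔ ε a = 0 := fun {a} => RingHom.mem_ker
  have sub_mem : ∀ a : A, a - algebraMap k A (ε a) ∈ I := fun a => by
    rw [memI, map_sub, AlgHom.commutes]
    exact sub_self _
  set S := Algebra.adjoin k (Set.range x) with hS
  have hSV : ∀ a ∈ S, a ∈ Submodule.span k (Set.range (rmon (p := p) x)) := by
    intro a ha
    rw [hS, Algebra.adjoin_range_eq_range_aeval] at ha
    obtain ⟨P, rfl⟩ := ha
    change aeval x P ∈ _
    rw [aeval_eq_sum_rmon x (fun i => h1 _ (hx0 i)) P]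
    exact Submodule.sum_mem _ (fun α _ => Submodule.smul_mem _ _ (Submodule.subset_span ⟨α, rfl⟩))
  have hxS : ∀ s ∈ Submodule.span k (Set.range x), s ∈ S ∧ s ∈ I := by
    intro s hs
    have hle : Submodule.span k (Set.range x) ≤ S.toSubmodule ⊓ I.restrictScalars k := by
      rw [Submodule.span_le]
      rintro _ ⟨i, rfl⟩
      exact ⟨Algebra.subset_adjoin ⟨i, rfl⟩, memI.2 (hx0 i)⟩
    exact hle hs
  have hB : ∀ m : ℕ, ∀ a ∈ I ^ (m + 1), ∃ s ∈ S, a - s ∈ I ^ (m + 2) := by
    intro m
    induction m with
    | zero =>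
      intro a ha
      rw [zero_add, pow_one] at ha
      obtain ⟨s, hs, hs2⟩ := hspan a (memI.1 ha)
      exact ⟨s, (hxS s hs).1, hs2⟩
    | succ m ih =>
      intro a ha
      rw [pow_succ'] at ha
      refine Submodule.mul_induction_on ha ?_ ?_
      · intro r hr t ht
        obtain ⟨s1, hs1, hr2⟩ := hspan r (memI.1 hr)
        obtain ⟨s2, hs2, ht2⟩ := ih t ht
        refine ⟨s1 * s2, S.mul_mem (hxS s1 hs1).1 hs2, ?_⟩
        have e : r * t - s1 * s2 = (r - s1) * t + s1 * (t - s2) := by ring
        rw [e]
        refine Ideal.add_mem _ ?_ ?_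
        · have : (r - s1) * t ∈ I ^ 2 * I ^ (m + 1) := Ideal.mul_mem_mul hr2 ht
          rwa [← pow_add, show 2 + (m + 1) = m + 1 + 2 by ring] at this
        · have : s1 * (t - s2) ∈ I * I ^ (m + 2) := Ideal.mul_mem_mul (hxS s1 hs1).2 ht2
          rwa [← pow_succ'] at this
      · rintro a b ⟨s, hs, hs2⟩ ⟨s', hs', hs2'⟩
        refine ⟨s + s', S.add_mem hs hs', ?_⟩
        have e : a + b - (s + s') = (a - s) + (b - s') := by ring
        rw [e]
        exact Ideal.add_mem _ hs2 hs2'
  have : IsNoetherianRing A :=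
    isNoetherian_of_tower k (isNoetherian_of_isNoetherianRing_of_finite k A)
  obtain ⟨N, hN⟩ : ∃ N : ℕ, I ^ N = ⊥ := by
    obtain ⟨N, hN⟩ := IsNoetherianRing.isNilpotent_nilradical A
    refine ⟨N, ?_⟩
    rw [eq_bot_iff, ← Ideal.zero_eq_bot, ← hN]
    refine Ideal.pow_right_mono ?_ N
    intro a ha
    exact (mem_nilradical).2 ⟨p, h1 a (memI.1 ha)⟩
  have hD : ∀ (j m : ℕ), m + j = N → ∀ a ∈ I ^ (m + 1), a ∈ S := by
    intro j
    induction j with
    | zero =>
      intro m hm a ha
      rw [add_zero] at hm
      subst hm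
      have : a ∈ I ^ m := Ideal.pow_le_pow_right (Nat.le_succ m) ha
      rw [hN, Ideal.mem_bot] at this
      rw [this]; exact S.zero_mem
    | succ j ih =>
      intro m hm a ha
      obtain ⟨s, hs, hs2⟩ := hB m a ha
      have := ih (m + 1) (by omega) (a - s) hs2
      have e : a = s + (a - s) := by ring
      rw [e]
      exact S.add_mem hs this
  rw [eq_top_iff]
  intro a _
  apply hSV
  have e : a = algebraMap k A (ε a) + (a - algebraMap k A (ε a)) := by ring
  rw [e]
  refine S.add_mem (S.algebraMap_mem _) (hD N 0 (zero_add N) _ ?_)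
  rw [zero_add, pow_one]
  exact sub_mem a

end Aug

section Cot

variable {k : Type u} {A : Type v} [Field k] [CommRing A] [Bialgebra k A]

/-- `a ↦ [a - ε(a)]` as a `k`-linear map to the cotangent space at the unit. -/
noncomputable def toCot : A →ₗ[k] (augI k A).Cotangent where
  toFun a := (augI k A).toCotangent ⟨a - algebraMap k A (counit (R := k) a), sub_counit_mem a⟩
  map_add' a b := by
    rw [← map_add]
    congr 1
    apply Subtype.ext
    simp only [map_add, Submodule.coe_add]
    ring
  map_smul' c a := by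
    rw [RingHom.id_apply, ← LinearMap.map_smul_of_tower]
    congr 1
    apply Subtype.ext
    change c • a - algebraMap k A (counit (R := k) (c • a)) =
      c • (a - algebraMap k A (counit (R := k) a))
    rw [map_smul, smul_sub, Algebra.algebraMap_eq_smul_one, Algebra.algebraMap_eq_smul_one,
      smul_eq_mul, mul_smul]

lemma toCot_of_mem (z : augI k A) : toCot (z : A) = (augI k A).toCotangent z := by
  change (augI k A).toCotangent ⟨(z : A) - algebraMap k A (counit (R := k) (z : A)), _⟩ = _
  congr 1
  apply Subtype.ext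
  simp only [mem_augI.1 z.2, map_zero, sub_zero]

lemma toCot_surjective : Function.Surjective (toCot (k := k) (A := A)) := by
  intro y
  obtain ⟨z, rfl⟩ := Ideal.toCotangent_surjective _ y
  exact ⟨z, toCot_of_mem z⟩

lemma toCot_eq_zero_of_mem_Wsub {w : A} (hw : w ∈ Wsub k A) : toCot (k := k) w = 0 := by
  obtain ⟨z, hz, c1, hc, rfl⟩ := Submodule.mem_sup.1 hw
  obtain ⟨c, rfl⟩ := Submodule.mem_span_singleton.1 hc
  rw [Submodule.restrictScalars_mem] at hz
  rw [map_add]
  have h1 : toCot (k := k) z = 0 := by
    have hzI : z ∈ augI k A := Ideal.pow_le_self (by norm_num) hz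
    rw [show z = ((⟨z, hzI⟩ : augI k A) : A) from rfl, toCot_of_mem, Ideal.toCotangent_eq_zero]
    exact hz
  have h2 : toCot (k := k) (c • (1 : A)) = 0 := by
    change (augI k A).toCotangent ⟨c • (1 : A) - algebraMap k A (counit (R := k) (c • (1 : A))), _⟩ = 0
    have : (⟨c • (1 : A) - algebraMap k A (counit (R := k) (c • (1 : A))), sub_counit_mem _⟩ :
        augI k A) = 0 := by
      apply Subtype.ext
      simp [Algebra.algebraMap_eq_smul_one]
    rw [this, map_zero]
  rw [h1, h2, add_zero]

/-- Coordinates indexed by `Fin d`, `d` the dimension of the cotangent space. -/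
lemma exists_coords' [Module.Finite k A] (d : ℕ)
    (hd : Module.finrank k (augI k A).Cotangent = d) :
    ∃ (x : Fin d → A) (δ : Fin d → (A →ₗ[k] k)),
      (∀ i, counit (R := k) (x i) = 0) ∧
      (∀ i, ∀ w ∈ Wsub k A, δ i w = 0) ∧
      (∀ i j, δ i (x j) = if i = j then 1 else 0) ∧
      (∀ a : A, counit (R := k) a = 0 →
        ∃ s ∈ Submodule.span k (Set.range x), a - s ∈ (augI k A) ^ 2) := by
  classical
  have : Module.Finite k (augI k A).Cotangent := Module.Finite.of_surjective toCot toCot_surjective
  let b : Module.Basis (Fin d) k (augI k A).Cotangent := Module.finBasisOfFinrankEq k _ hd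
  choose z hz using fun i => Ideal.toCotangent_surjective (augI k A) (b i)
  refine ⟨fun i => (z i : A), fun i => (b.coord i) ∘ₗ toCot, fun i => mem_augI.1 (z i).2, ?_, ?_, ?_⟩
  · intro i w hw
    simp only [LinearMap.comp_apply, toCot_eq_zero_of_mem_Wsub hw, map_zero]
  · intro i j
    simp only [LinearMap.comp_apply, toCot_of_mem, hz, Module.Basis.coord_apply,
      Module.Basis.repr_self, Finsupp.single_apply]
    by_cases h : i = j
    · rw [if_pos h, if_pos h.symm]
    · rw [if_neg h, if_neg (Ne.symm h)]
  · intro a ha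
    let y := (augI k A).toCotangent ⟨a, mem_augI.2 ha⟩
    let s' : augI k A := ∑ i, (b.repr y) i • z i
    refine ⟨(s' : A), ?_, ?_⟩
    · simp only [s', Submodule.coe_sum, Submodule.coe_smul_of_tower]
      exact Submodule.sum_mem _ (fun i _ => Submodule.smul_mem _ _ (Submodule.subset_span ⟨i, rfl⟩))
    · have : (augI k A).toCotangent ⟨a, mem_augI.2 ha⟩ = (augI k A).toCotangent s' := by
        simp only [s', map_sum, LinearMap.map_smul_of_tower, hz]
        exact (b.sum_repr y).symm
      exact (Ideal.toCotangent_eq _).1 this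

end Cot

section FrobKer

variable {k : Type u} {A : Type u} [Field k] [CommRing A] [Bialgebra k A] {p : ℕ}
  [Fact p.Prime] [CharP k p]

/-- S16685: the Frobenius kernel of a local finite commutative Hopf algebra is a truncated
polynomial algebra on `dim I/I²` variables. -/
theorem frobeniusKernel_algEquiv [Module.Finite k A] [IsLocalRing A] (d : ℕ)
    (hd : Module.finrank k (augI k A).Cotangent = d) :
    Nonempty ((A ⧸ Ideal.span ((fun a : A => a ^ p) '' (augI k A : Set A))) ≃ₐ[k]
      (MvPolynomial (Fin d) k ⧸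
        Ideal.span (Set.range fun i : Fin d => (MvPolynomial.X i : MvPolynomial (Fin d) k) ^ p))) := by
  classical
  set I := augI k A with hI
  set J : Ideal A := Ideal.span ((fun a : A => a ^ p) '' (I : Set A)) with hJ
  have hp0 : p ≠ 0 := (Fact.out : p.Prime).ne_zero
  have hpowJ : ∀ a ∈ I, a ^ p ∈ J := fun a ha => Ideal.subset_span ⟨a, ha, rfl⟩
  have hJI : J ≤ I := by
    rw [hJ, Ideal.span_le]
    rintro _ ⟨a, ha, rfl⟩
    exact Ideal.pow_mem_of_mem _ ha _ (Nat.pos_of_ne_zero hp0)
  have hinj : Function.Injective (algebraMap k A) :=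
    Function.LeftInverse.injective (g := Bialgebra.counitAlgHom k A)
      (fun c => (Bialgebra.counitAlgHom k A).commutes c)
  have hcharA : CharP A p := charP_of_injective_algebraMap hinj p
  obtain ⟨x, δ, hx0, hδW, hδx, hspan⟩ := exists_coords' (k := k) (A := A) d hd
  let D : Fin d → (A →ₗ[k] A) := fun i => invDer (δ i)
  have hD : ∀ i a b, D i (a * b) = a * D i b + b * D i a := fun i a b =>
    invDer_mul (δ i) (pointDer_of_vanish (δ i) (hδW i)) a b
  -- derivations kill `p`-th powers, hence preserve `J`
  have hDpow : ∀ i (a : A), D i (a ^ p) = 0 := by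
    intro i a
    let Dd : Derivation k A A := Derivation.mk' (D i) (fun a b => by
      simp only [smul_eq_mul]; exact hD i a b)
    have h1 : Dd (a ^ p) = p • a ^ (p - 1) • Dd a := Dd.leibniz_pow a p
    have h2 : (p : A) = 0 := CharP.cast_eq_zero A p
    have h3 : Dd (a ^ p) = 0 := by rw [h1, nsmul_eq_mul, h2, zero_mul]
    exact h3
  have hDJ : ∀ i, ∀ a ∈ J, D i a ∈ J := by
    intro i a ha
    refine Submodule.span_induction ?_ ?_ ?_ ?_ ha
    · rintro _ ⟨b, _, rfl⟩
      simp only [hDpow]
      exact J.zero_mem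
    · simp
    · intro a b _ _ h1 h2
      rw [map_add]; exact J.add_mem h1 h2
    · intro c a ha' h1
      rw [smul_eq_mul, hD]
      exact J.add_mem (J.mul_mem_left _ h1) (J.mul_mem_right _ ha')
  -- the Jacobian matrix is invertible since `A` is local
  have hdet : IsUnit (Matrix.of (fun i j => D i (x j))).det := by
    set M := Matrix.of (fun i j => D i (x j)) with hM
    have h1' : (Bialgebra.counitAlgHom k A) M.det = 1 := by
      rw [AlgHom.map_det]
      have : (Bialgebra.counitAlgHom k A).mapMatrix M = 1 := by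
        ext i j
        simp only [AlgHom.mapMatrix_apply, Matrix.map_apply, hM, Matrix.of_apply,
          Bialgebra.counitAlgHom_apply, D, counit_invDer, hδx, Matrix.one_apply]
      rw [this, Matrix.det_one]
    by_contra hnu
    have hmem : M.det ∈ IsLocalRing.maximalIdeal A := (IsLocalRing.mem_maximalIdeal _).2 hnu
    have hImax : I.IsMaximal :=
      RingHom.ker_isMaximal_of_surjective _ (fun c => ⟨algebraMap k A c,
        (Bialgebra.counitAlgHom k A).commutes c⟩)
    rw [← IsLocalRing.eq_maximalIdeal hImax] at hmem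
    have : (Bialgebra.counitAlgHom k A) M.det = 0 := hmem
    rw [h1'] at this
    exact one_ne_zero this
  have hJc : ∀ c : k, algebraMap k A c ∈ J → c = 0 := by
    intro c hc
    have := mem_augI.1 (hJI hc)
    have h2 : counit (R := k) (algebraMap k A c) = c := (Bialgebra.counitAlgHom k A).commutes c
    rw [h2] at this
    exact this
  have hkey : ∀ (P : MvPolynomial (Fin d) k), Red p P → aeval x P ∈ J → P = 0 := fun P hR hP =>
    eq_zero_of_aeval_mem x J hJc D hD hDJ hdet P.totalDegree P hR (fun m hm => by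
      have := le_totalDegree (mem_support_iff.2 hm)
      simpa [Finsupp.degree, Finsupp.sum] using this) hP
  -- pass to the quotient
  let q : A →ₐ[k] A ⧸ J := Ideal.Quotient.mkₐ k J
  have hq : ∀ a, q a = 0 ↔ a ∈ J := fun a => Ideal.Quotient.eq_zero_iff_mem
  let xb : Fin d → A ⧸ J := fun i => q (x i)
  have hrm : ∀ α, q (rmon (p := p) x α) = rmon (p := p) xb α := by
    intro α
    simp only [rmon, map_prod, map_pow, xb]
  have hxbp : ∀ i, xb i ^ p = 0 := fun i => by
    simp only [xb, ← map_pow]
    exact (hq _).2 (hpowJ _ (mem_augI.2 (hx0 i)))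
  have hli : LinearIndependent k (rmon (p := p) xb) := by
    rw [Fintype.linearIndependent_iff]
    intro g hg
    refine coeffs_eq_zero_of_mem x J hkey g ?_
    rw [← hq, map_sum]
    simp only [map_smul, hrm]
    exact hg
  let εb : (A ⧸ J) →ₐ[k] k := Ideal.Quotient.liftₐ J (Bialgebra.counitAlgHom k A)
    (fun a ha => mem_augI.1 (hJI ha))
  have hεb : ∀ a, εb (q a) = counit (R := k) a := fun a => rfl
  have hsp : Submodule.span k (Set.range (rmon (p := p) xb)) = ⊤ := by
    refine span_rmon_eq_top' εb xb ?_ ?_ ?_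
    · intro b hb
      obtain ⟨a, rfl⟩ := Ideal.Quotient.mkₐ_surjective k J b
      rw [← map_pow]
      exact (hq _).2 (hpowJ _ (mem_augI.2 hb))
    · intro i
      exact hx0 i
    · intro b hb
      obtain ⟨a, rfl⟩ := Ideal.Quotient.mkₐ_surjective k J b
      obtain ⟨s, hs, hs2⟩ := hspan a hb
      refine ⟨q s, ?_, ?_⟩
      · have : Submodule.span k (Set.range x) ≤ (Submodule.span k (Set.range xb)).comap
            q.toLinearMap := by
          rw [Submodule.span_le]
          rintro _ ⟨i, rfl⟩
          exact Submodule.subset_span ⟨i, rfl⟩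
        exact this hs
      · rw [← map_sub]
        have h3 : I.map (q : A →+* A ⧸ J) ≤ RingHom.ker εb := by
          rw [Ideal.map_le_iff_le_comap]
          intro c hc
          exact mem_augI.1 hc
        have h4 : (q : A →+* A ⧸ J) (a - s) ∈ (I ^ 2).map (q : A →+* A ⧸ J) :=
          Ideal.mem_map_of_mem _ hs2
        rw [Ideal.map_pow] at h4
        exact Ideal.pow_right_mono h3 2 h4
  exact nonempty_algEquiv_of_basis xb hxbp hli hsp

end FrobKer

end Groth.Agent.Lib.Helper6.Hopf
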