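import Groth.Agent.Lib.Helper6Hopf6

set_option autoImplicit false

namespace Groth.Agent.Lib.Helper6.Hopf

open MvPolynomial Coalgebra

universe u v

section Order

variable {k : Type u} {A : Type v} [Field k] [CommRing A] [Bialgebra k A] {p : ℕ}
  [Fact p.Prime] [CharP k p]

/-- S17328: a finite commutative bialgebra over a field of characteristic `p` whose augmentation
ideal is killed by Frobenius has dimension `p ^ dim (I/I²)`. -/
theorem finrank_eq_pow_cotangent [Module.Finite k A]
    (h1 : ∀ a : A, counit (R := k) a = 0 → a ^ p = 0) :
    Module.finrank k A = p ^ Module.finrank k (augI k A).Cotangent := by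
  classical
  obtain ⟨x, δ, hx0, hδW, hδx, hspan⟩ :=
    exists_coords' (k := k) (A := A) (Module.finrank k (augI k A).Cotangent) rfl
  have hli := linearIndependent_rmon (p := p) x δ h1 hδW hδx
  have hsp := span_rmon_eq_top (p := p) x h1 hx0 hspan
  let b : Module.Basis (Fin (Module.finrank k (augI k A).Cotangent) → Fin p) k A :=
    Module.Basis.mk hli (le_of_eq hsp.symm)
  rw [Module.finrank_eq_card_basis b]
  simp
end Order

end Groth.Agent.Lib.Helper6.Hopf
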