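import Groth.Agent.Lib.Helper6Hopf7

set_option autoImplicit false

namespace Groth.Agent.Lib.Helper6.Hopf

open Coalgebra TensorProduct WithConv

universe u v w

section Mono

variable {k : Type u} [CommRing k] {A : Type v} {B : Type w}
  [CommRing A] [HopfAlgebra k A] [CommRing B] [Bialgebra k B]

/-- left inverse in the convolution monoid of points -/
lemma conv_antipode_mul {T : Type*} [CommRing T] [Algebra k T] (g : A →ₐ[k] T) :
    toConv (g.comp (HopfAlgebra.antipodeAlgHom k A)) * toConv g = 1 := by
  have h := AlgHom.comp_convMul_distrib g (toConv (HopfAlgebra.antipodeAlgHom k A))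
    (toConv (AlgHom.id k A))
  rw [AlgHom.antipode_id_cancel] at h
  simp only [AlgHom.comp_id] at h
  apply WithConv.ofConv_injective
  rw [← h]
  ext a
  simp [AlgHom.convOne_apply]

/-- Two points of `G` in `T` with the same image in `H` are equal when `G → H` has trivial kernel. -/
lemma algHom_eq_of_comp_eq {T : Type*} [CommRing T] [Algebra k T] (f : B →ₐc[k] A)
    (hker : Ideal.map f (RingHom.ker (Bialgebra.counitAlgHom k B)) =
      RingHom.ker (Bialgebra.counitAlgHom k A))
    (g₁ g₂ : A →ₐ[k] T) (h : g₁.comp (f : B →ₐ[k] A) = g₂.comp (f : B →ₐ[k] A)) : g₁ = g₂ := by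
  set S := HopfAlgebra.antipodeAlgHom k A with hS
  -- h0 := (g₁ ∘ S) * g₂ is trivial
  have key : toConv (g₁.comp S) * toConv g₂ = 1 := by
    set h0 := toConv (g₁.comp S) * toConv g₂ with hh0
    have h1 : h0.ofConv.comp (f : B →ₐ[k] A) = (1 : WithConv (B →ₐ[k] T)).ofConv := by
      rw [hh0, AlgHom.convMul_comp_bialgHom_distrib]
      simp only []
      rw [← h, ← AlgHom.convMul_comp_bialgHom_distrib, conv_antipode_mul]
      ext b
      simp [AlgHom.convOne_apply]
    have h2 : ∀ a ∈ RingHom.ker (Bialgebra.counitAlgHom k A), h0.ofConv a = 0 := by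
      intro a ha
      rw [← hker] at ha
      have : Ideal.map f (RingHom.ker (Bialgebra.counitAlgHom k B)) ≤ RingHom.ker h0.ofConv := by
        rw [Ideal.map_le_iff_le_comap]
        intro b hb
        rw [Ideal.mem_comap, RingHom.mem_ker]
        have := DFunLike.congr_fun h1 b
        simp only [AlgHom.comp_apply] at this
        change h0.ofConv (f b) = _ at this
        rw [this]
        change algebraMap k T (counit b) = 0
        rw [RingHom.mem_ker] at hb
        change counit b = 0 at hb
        rw [hb, map_zero]
      exact this ha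
    apply WithConv.ofConv_injective
    ext a
    have ha : a - algebraMap k A (counit (R := k) a) ∈ RingHom.ker (Bialgebra.counitAlgHom k A) := by
      rw [RingHom.mem_ker, map_sub, AlgHom.commutes]
      exact sub_self _
    have := h2 _ ha
    rw [map_sub, AlgHom.commutes, sub_eq_zero] at this
    rw [this]
    rfl
  have k1 := conv_antipode_mul (g₁.comp S)
  have k2 := conv_antipode_mul g₁
  have e1 : toConv g₁ = toConv ((g₁.comp S).comp S) := by
    calc toConv g₁ = 1 * toConv g₁ := (one_mul _).symm
      _ = (toConv ((g₁.comp S).comp S) * toConv (g₁.comp S)) * toConv g₁ := by rw [k1]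
      _ = toConv ((g₁.comp S).comp S) := by rw [mul_assoc, k2, mul_one]
  have e2 : toConv g₂ = toConv ((g₁.comp S).comp S) := by
    calc toConv g₂ = 1 * toConv g₂ := (one_mul _).symm
      _ = (toConv ((g₁.comp S).comp S) * toConv (g₁.comp S)) * toConv g₂ := by rw [k1]
      _ = toConv ((g₁.comp S).comp S) := by rw [mul_assoc, key, mul_one]
  exact WithConv.toConv_injective (e1.trans e2.symm)

/-- S13402 (surjectivity part): a homomorphism of finite group schemes with trivial kernel is a
closed immersion. -/
theorem surjective_of_ker_trivial [Module.Finite k A] (f : B →ₐc[k] A)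
    (hker : Ideal.map f (RingHom.ker (Bialgebra.counitAlgHom k B)) =
      RingHom.ker (Bialgebra.counitAlgHom k A)) : Function.Surjective f := by
  let _ : Algebra B A := (f : B →+* A).toAlgebra
  have : IsScalarTower k B A := IsScalarTower.of_algebraMap_eq (fun c => by
    change algebraMap k A c = f (algebraMap k B c)
    exact ((f : B →ₐ[k] A).commutes c).symm)
  have : Module.Finite B A := Module.Finite.of_restrictScalars_finite k B A
  have hepi : Algebra.IsEpi B A := by
    rw [Algebra.isEpi_iff_forall_one_tmul_eq]
    intro a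
    let g₁ : A →ₐ[k] A ⊗[B] A :=
      (Algebra.TensorProduct.includeLeft : A →ₐ[B] A ⊗[B] A).restrictScalars k
    let g₂ : A →ₐ[k] A ⊗[B] A :=
      (Algebra.TensorProduct.includeRight : A →ₐ[B] A ⊗[B] A).restrictScalars k
    have : g₁ = g₂ := by
      apply algHom_eq_of_comp_eq f hker
      ext b
      change (f b) ⊗ₜ[B] (1 : A) = (1 : A) ⊗ₜ[B] (f b)
      have e : f b = b • (1 : A) := by rw [Algebra.smul_def, mul_one]; rfl
      rw [e, TensorProduct.smul_tmul]
    exact (DFunLike.congr_fun this a).symm
  exact Algebra.isEpi_iff_surjective_algebraMap_of_finite.1 hepi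

end Mono

end Groth.Agent.Lib.Helper6.Hopf
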