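import Groth.Agent.Lib.Helper6Hopf8
import Groth.Prelude.Def_Versch
import Groth.Prelude.Def_SGA3b

set_option autoImplicit false

namespace Groth.Agent.Lib.Helper6.Hopf

open Coalgebra TensorProduct WithConv

universe u v

section RankOne

variable {R : Type u} [CommRing R] {A : Type v} [CommRing A] [Bialgebra R A]

/-- rank-one map `a ↦ x a • b` in the convolution ring `End_R(A)` -/
noncomputable def rk (x : WithConv (A →ₗ[R] R)) (b : A) : WithConv (A →ₗ[R] A) :=
  toConv ((LinearMap.toSpanSingleton R A b) ∘ₗ x.ofConv)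

lemma rk_apply (x : WithConv (A →ₗ[R] R)) (b a : A) : rk x b a = x a • b := rfl

lemma rk_mul (x y : WithConv (A →ₗ[R] R)) (b c : A) : rk x b * rk y c = rk (x * y) (b * c) := by
  ext a
  rw [(ℛ R a).convMul_apply, rk_apply, (ℛ R a).convMul_apply, Finset.sum_smul]
  refine Finset.sum_congr rfl (fun i _ => ?_)
  rw [rk_apply, rk_apply, smul_mul_smul_comm]

lemma rk_one : rk (1 : WithConv (A →ₗ[R] R)) (1 : A) = 1 := by
  ext a
  rw [rk_apply, LinearMap.convOne_apply, LinearMap.convOne_apply, Algebra.algebraMap_eq_smul_one]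
  simp [Algebra.algebraMap_eq_smul_one]

lemma rk_pow (x : WithConv (A →ₗ[R] R)) (b : A) (m : ℕ) : rk x b ^ m = rk (x ^ m) (b ^ m) := by
  induction m with
  | zero => rw [pow_zero, pow_zero, pow_zero, rk_one]
  | succ m ih => rw [pow_succ, ih, rk_mul, ← pow_succ, ← pow_succ]

lemma algebraMap_injective_of_counit : Function.Injective (algebraMap R A) :=
  Function.LeftInverse.injective (g := Bialgebra.counitAlgHom R A)
    (fun c => (Bialgebra.counitAlgHom R A).commutes c)

lemma charP_conv (p : ℕ) [CharP R p] : CharP (WithConv (A →ₗ[R] A)) p := by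
  refine charP_of_injective_algebraMap (R := R) ?_ p
  intro r s h
  have h1 := congrArg (fun x : WithConv (A →ₗ[R] A) => x 1) h
  simp only [LinearMap.convAlgebraMap_apply] at h1
  have h2 : counit (R := R) (1 : A) = 1 := Bialgebra.counit_one
  rw [h2, map_one, ← Algebra.algebraMap_eq_smul_one, ← Algebra.algebraMap_eq_smul_one] at h1
  exact algebraMap_injective_of_counit h1

end RankOne

section VF

variable (p : ℕ) [Fact p.Prime] {R : Type u} [CommRing R] [CharP R p]
  {A : Type u} [CommRing A] [HopfAlgebra R A] [Coalgebra.IsCocomm R A]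
  [Module.Finite R A] [Module.Projective R A]

/-- the p-th convolution power of the identity, expanded in a dual basis (freshman's dream) -/
lemma powConv_eq_sum {n : ℕ} (e : Fin n → A) (e' : Fin n → WithConv (A →ₗ[R] R))
    (he : ∀ a : A, a = ∑ i, (e' i a) • e i) (a : A) :
    SGA3b.powConv R A p a = ∑ i, ((e' i) ^ p) a • (e i) ^ p := by
  have := charP_conv (R := R) (A := A) p
  have hid : toConv (LinearMap.id : A →ₗ[R] A) = ∑ i, rk (e' i) (e i) := by
    ext b
    rw [WithConv.ofConv_sum] 
    simp only [LinearMap.id_apply, LinearMap.sum_apply]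
    conv_lhs => rw [he b]
    rfl
  have h1 : (SGA3b.powConv R A p).toLinearMap = ofConv ((toConv (LinearMap.id : A →ₗ[R] A)) ^ p) := by
    have := AlgHom.toLinearMap_convPow (toConv (AlgHom.id R A)) p
    rw [SGA3b.powConv]
    exact congrArg ofConv this
  have h2 : SGA3b.powConv R A p a = ofConv ((toConv (LinearMap.id : A →ₗ[R] A)) ^ p) a := by
    rw [← h1]; rfl
  rw [h2, hid, sum_pow_char]
  simp only [rk_pow]
  rw [WithConv.ofConv_sum, LinearMap.sum_apply]
  rfl

end VF

end Groth.Agent.Lib.Helper6.Hopf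

namespace Groth.Agent.Lib.Helper6.Hopf

open Coalgebra TensorProduct WithConv

universe u

section VF2

variable (p : ℕ) [Fact p.Prime] {R : Type u} [CommRing R] [CharP R p]
  {A : Type u} [CommRing A] [HopfAlgebra R A] [Coalgebra.IsCocomm R A]
  [Module.Finite R A] [Module.Projective R A]

omit [Coalgebra.IsCocomm R A] [Module.Finite R A] [Module.Projective R A] in
lemma relFrob_tmul [CharP A p] (b : A) (t : FrobAlg.Twist p R) :
    FrobAlg.relFrob p R A (b ⊗ₜ t) = b ^ p * algebraMap R A ((FrobAlg.toTwist p R).symm t) := by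
  simp [FrobAlg.relFrob, FrobAlg.frobHom, FrobAlg.inclHom, Algebra.TensorProduct.lift_tmul]
  rfl

omit [Coalgebra.IsCocomm R A] [Module.Finite R A] [Module.Projective R A] in
lemma eq_sum_tmul_evTw {n : ℕ} (e : Fin n → A) (e' : Fin n → WithConv (A →ₗ[R] R))
    (he : ∀ a : A, a = ∑ i, (e' i a) • e i) (z : FrobAlg.BaseChange p R A) :
    z = ∑ i, e i ⊗ₜ[R] Versch.evTw p R A (e' i) z := by
  induction z using TensorProduct.induction_on with
  | zero => simp
  | add z w hz hw =>
    conv_lhs => rw [hz, hw]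
    rw [← Finset.sum_add_distrib]
    refine Finset.sum_congr rfl (fun i _ => ?_)
    rw [map_add, TensorProduct.tmul_add]
  | tmul a s =>
    conv_lhs => rw [he a]
    rw [TensorProduct.sum_tmul]
    refine Finset.sum_congr rfl (fun i _ => ?_)
    rw [Versch.evTw_tmul, TensorProduct.smul_tmul, Algebra.smul_def]

omit [Module.Finite R A] [Module.Projective R A] in
lemma exists_dualBasis' [Module.Finite R A] [Module.Projective R A] :
    ∃ (n : ℕ) (e : Fin n → A) (e' : Fin n → WithConv (A →ₗ[R] R)),
      ∀ a : A, a = ∑ i, (e' i a) • e i := by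
  classical
  obtain ⟨n, f, g, -, -, hfg⟩ := Module.Finite.exists_comp_eq_id_of_projective R A
  refine ⟨n, fun i => f (Pi.single i 1), fun i => toConv ((LinearMap.proj i) ∘ₗ g), fun a => ?_⟩
  have h1 : a = f (g a) := by
    have := LinearMap.congr_fun hfg a
    simpa using this.symm
  conv_lhs => rw [h1, pi_eq_sum_univ (g a), map_sum]
  refine Finset.sum_congr rfl (fun i _ => ?_)
  rw [← map_smul]
  congr 1
  ext j
  simp [Pi.single_apply, eq_comm]

/-- S15889: `V ∘ F = [p]`. -/
theorem relFrob_comp_verschiebung [CharP A p] (v : A →+* FrobAlg.BaseChange p R A)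
    (hv : Versch.IsVerschiebung p R A v) :
    (FrobAlg.relFrob p R A).comp v = (SGA3b.powConv R A p).toRingHom := by
  obtain ⟨n, e, e', he⟩ := exists_dualBasis' (R := R) (A := A)
  rw [Versch.isVerschiebung_iff] at hv
  ext a
  change FrobAlg.relFrob p R A (v a) = SGA3b.powConv R A p a
  rw [powConv_eq_sum p e e' he a, eq_sum_tmul_evTw p e e' he (v a), map_sum]
  refine Finset.sum_congr rfl (fun i _ => ?_)
  rw [hv, relFrob_tmul, RingEquiv.symm_apply_apply, mul_comm, ← Algebra.smul_def]

end VF2

end Groth.Agent.Lib.Helper6.Hopf
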