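import Groth.Prelude
import Mathlib

open AlgebraicGeometry CategoryTheory CategoryTheory.Limits MorphismProperty

namespace Groth.Agent.Lib.Helper6

universe u

lemma ker_toImage_eq_bot {X Y : Scheme.{u}} (f : X ⟶ Y) [QuasiCompact f] : f.toImage.ker = ⊥ := by
  refine Scheme.IdealSheafData.ext_of_iSup_eq_top (ι := Y.affineOpens)
    (fun U => ⟨f.imageι ⁻¹ᵁ U.1, U.2.preimage f.imageι⟩)
    (f.imageι.iSup_preimage_eq_top (iSup_affineOpens_eq_top Y)) ?_
  intro U
  rw [Scheme.Hom.ker_apply]
  simp only [Scheme.IdealSheafData.ideal_bot, Pi.bot_apply]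
  exact (RingHom.injective_iff_ker_eq_bot _).mp (f.toImage_app_injective U)

instance isSchemeTheoreticallyDominant_toImage {X Y : Scheme.{u}} (f : X ⟶ Y) [QuasiCompact f] :
    IsSchemeTheoreticallyDominant f.toImage := ⟨ker_toImage_eq_bot f⟩

theorem ker_pullback_snd_eq_comap {X Y Y' : Scheme.{u}} (f : X ⟶ Y) (g : Y' ⟶ Y)
    [QuasiCompact f] [Flat g] : (pullback.snd f g).ker = f.ker.comap g := by
  have hcond : pullback.snd f g ≫ g = (pullback.fst f g ≫ f.toImage) ≫ f.imageι := by
    rw [Category.assoc, f.toImage_imageι, pullback.condition]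
  have ha_fst : pullback.lift (pullback.snd f g) (pullback.fst f g ≫ f.toImage) hcond ≫
      pullback.fst g f.imageι = pullback.snd f g := pullback.lift_fst _ _ _
  have ha_snd : pullback.lift (pullback.snd f g) (pullback.fst f g ≫ f.toImage) hcond ≫
      pullback.snd g f.imageι = pullback.fst f g ≫ f.toImage := pullback.lift_snd _ _ _
  have s : IsPullback
      (pullback.lift (pullback.snd f g) (pullback.fst f g ≫ f.toImage) hcond ≫
        pullback.fst g f.imageι) (pullback.fst f g) g (f.toImage ≫ f.imageι) := by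
    rw [ha_fst, f.toImage_imageι]
    exact (IsPullback.of_hasPullback f g).flip
  have sq : IsPullback
      (pullback.lift (pullback.snd f g) (pullback.fst f g ≫ f.toImage) hcond)
      (pullback.fst f g) (pullback.snd g f.imageι) f.toImage :=
    IsPullback.of_right s ha_snd (IsPullback.of_hasPullback g f.imageι)
  have hdom : IsSchemeTheoreticallyDominant
      (pullback.lift (pullback.snd f g) (pullback.fst f g ≫ f.toImage) hcond) :=
    IsSchemeTheoreticallyDominant.of_isPullback sq.flip
  have h1 : (pullback.snd f g).ker = (pullback.fst g f.imageι).ker := by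
    rw [← ha_fst, Scheme.Hom.ker_comp, hdom.ker_eq_bot, Scheme.IdealSheafData.map_bot]
  rw [h1, Scheme.IdealSheafData.ker_fst_of_isClosedImmersion]
  congr 1
  exact Scheme.IdealSheafData.ker_subschemeι _

end Groth.Agent.Lib.Helper6
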