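import Groth.Agent.Lib.Helper6NegFilt

/-!
# Degree bounds for line sub-bundles of indecomposable rank two bundles (helper6): S11482
-/

set_option autoImplicit false
set_option linter.style.haveILetI false
universe u
open CategoryTheory Limits AlgebraicGeometry Opposite TopologicalSpace

namespace Groth.Agent.Lib.Helper6.IndecBound

open Groth.Agent.Lib.Helper4.CurveBun Groth.Agent.Lib.Helper4.DegAdd Groth.Agent.Lib.Helper4.CurveRR
  Groth.Agent.Lib.Helper4.Dev Groth.Agent.Lib.Helper6.CurveDeg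
  Groth.Agent.Lib.Helper4.CurveStab Groth.Agent.Lib.Helper6.SSVanish Groth.Agent.Lib.Helper23.SecTw
  Groth.Agent.Lib.Helper4.CurveAsym Groth.Agent.Lib.Helper6.Atiyah Groth.Agent.Lib.Helper6.H0Crit
  Groth.Agent.Lib.Helper6.H0Semi

variable (k : Type u) [Field k] (X : Scheme.{u}) [X.Over (Spec (CommRingCat.of k))]
  [IsIntegral X] [IsProper (X ↘ Spec (CommRingCat.of k))]

/-- S11482 -/
theorem main [IsAlgClosed k] [Smooth (X ↘ Spec (CommRingCat.of k))] (hdim : topologicalKrullDim X = 1)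
    (E : X.Modules) (hE : FlatMod.IsFinLocFreeOfRank 2 E)
    (hind : ∀ (E₁ E₂ : X.Modules), Nonempty (E ≅ E₁ ⊞ E₂) → IsZero E₁ ∨ IsZero E₂) :
    (∀ (L : X.Modules) (ι : L ⟶ E), PicF.IsInvertible L → Mono ι →
        2 * Curv2.deg k X L 1 ≤ Curv2.deg k X E 2 + 2 * (Curv2.genus k X : ℤ) - 2) ∧
      ∃ (L : X.Modules) (ι : L ⟶ E), PicF.IsInvertible L ∧ Mono ι ∧
        Curv2.deg k X E 2 - 2 * (Curv2.genus k X : ℤ) ≤ 2 * Curv2.deg k X L 1 := by
  have hpid : PIDStalks X := pidStalks_of_smooth k X (X ↘ Spec (CommRingCat.of k)) hdim.le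
  haveI : IsLocallyNoetherian X := isLocallyNoetherian_of_proper k X
  haveI : Nonempty X := nonempty_of_dim_eq_one hdim
  have hpt := fun _ : Curv2.genus k X = 0 =>
    Groth.Agent.Lib.Helper6.PointIdeal.exists_invertible_deg_neg_one k X hpid hdim
  constructor
  · intro L ι hLinv hι
    haveI := hι
    have hL1 := isFinLocFreeOfRank_one_of_isInvertible L hLinv
    obtain ⟨M, g, u, hg', hu, -, hK, hM, hd, hle, -⟩ :=
      Groth.Agent.Lib.Helper4.CurveSat.exists_saturation k X hpid hdim ι 1 2 hL1 hE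
    haveI := hg'
    have hM1 : FlatMod.IsFinLocFreeOfRank 1 M := hM
    have hd' : Curv2.deg k X E 2 = Curv2.deg k X (kernel g) 1 + Curv2.deg k X M 1 := hd
    by_contra hcon
    push Not at hcon
    have hS := sesOfEpi_shortExact g
    have hMinv : PicF.IsInvertible M := isInvertible_of_rank_one X hM1
    have hDinv := Groth.Agent.Lib.Helper23.InvDual.isInvertible_dual M hMinv
    obtain ⟨hLD, hdLD⟩ := rtwist_rank_deg k X hpid hdim (RefHull.dual M) hDinv 1 (kernel g) hK
    rw [deg_dual k X hdim M hMinv] at hdLD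
    have hpos : 2 * (Curv2.genus k X : ℤ) - 2 <
        Curv2.deg k X (CohB1.tensorMod (kernel g) (RefHull.dual M)) 1 := by
      rw [hdLD]
      push_cast
      linarith
    have h1 : Subsingleton (Coh.HH X (CohB1.tensorMod (kernel g) (RefHull.dual M)) 1) :=
      vanish_of_quotGt k X hpid hdim hpt 1 _ hLD (quotGt_of_rank_one k X hpid _ _ hLD hpos)
    obtain ⟨⟨σ⟩⟩ := split_of_H1 (sesOfEpi g) hS hMinv h1
    have hsplit := ShortComplex.Splitting.ofExactOfSection (sesOfEpi g) hS.exact σ.section_ σ.id hS.mono_f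
    rcases hind _ _ ⟨hsplit.isoBinaryBiproduct⟩ with hz | hz
    · exact Groth.Agent.Lib.Helper4.CurveHN.not_isZero_of_rank_pos X _ 1 Nat.one_pos hK hz
    · exact Groth.Agent.Lib.Helper4.CurveHN.not_isZero_of_rank_pos X _ 1 Nat.one_pos hM1 hz
  · obtain ⟨N, hNinv, hNdeg⟩ := exists_invertible_deg k X hpid hdim
      ((Curv2.deg k X E 2 - 2 * (Curv2.genus k X : ℤ) + 1) / 2)
    have hN1 := isFinLocFreeOfRank_one_of_isInvertible N hNinv
    have hχO := euler_structureModule k X hdim
    obtain ⟨t, ht⟩ := exists_hom_ne_zero_of_deg k X hdim N hNinv 2 E hE (by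
      rw [hNdeg, hχO]
      push_cast
      omega)
    haveI : Mono t := mono_of_ne_zero_of_rank_one k X hpid 2 hN1 hE t ht
    refine ⟨N, t, hNinv, inferInstance, ?_⟩
    rw [hNdeg]
    omega

end Groth.Agent.Lib.Helper6.IndecBound
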