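import Mathlib
import Groth.Agent.Lib.Helper6BirOpen
import Groth.Agent.Lib.Helper6GenEtale
import Groth.Agent.Lib.Helper10WeilPt

set_option autoImplicit false
universe u
open CategoryTheory CategoryTheory.Limits AlgebraicGeometry IsLocalRing

namespace Groth.Agent.Lib.Helper6.InjOpen

variable {X Y : Scheme.{u}}

/-- a dominant morphism of irreducible schemes maps the generic point to the generic point. -/
theorem map_genericPoint_of_isDominant [IrreducibleSpace X] [IrreducibleSpace Y]
    (f : X ⟶ Y) [IsDominant f] : f (genericPoint X) = genericPoint Y := by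
  apply ((genericPoint_spec Y).eq _).symm
  have := (genericPoint_spec X).image f.continuous
  rw [Set.image_univ, f.denseRange.closure_range] at this
  exact this

open Groth.Agent.Lib.Helper10.GaloisOrbit in
/-- over an algebraically closed field, a closed point of a scheme locally of finite type is the
image of a section of the structure morphism -/
theorem exists_section_of_isClosed {k : Type u} [Field k] [IsAlgClosed k] {P : Scheme.{u}}
    (sP : P ⟶ Spec (CommRingCat.of k)) [LocallyOfFiniteType sP] (p : P)
    (hp : IsClosed ({p} : Set P)) :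
    ∃ σ : Spec (CommRingCat.of k) ⟶ P, σ ≫ sP = 𝟙 _ ∧ p ∈ Set.range σ := by
  have hb := Groth.Agent.Lib.Helper10.WeilPt.bijective_resHom sP p hp
  let e : CommRingCat.of k ≅ P.residueField p :=
    (RingEquiv.ofBijective (resHom k sP p).hom hb).toCommRingCatIso
  have he : e.hom = resHom k sP p := by ext; rfl
  refine ⟨Spec.map e.inv ≫ P.fromSpecResidueField p, ?_, ?_⟩
  · rw [Category.assoc, ← map_resHom, ← he, ← Spec.map_comp, e.hom_inv_id, Spec.map_id]
  · refine ⟨IsLocalRing.closedPoint k, ?_⟩
    rw [Scheme.Hom.comp_apply]
    exact Scheme.fromSpecResidueField_apply _ _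


/-- a separated morphism of schemes of finite type over an algebraically closed field which is
injective on rational points has surjective diagonal (so it is universally injective) -/
theorem surjective_diagonal_of_injective_on_points {k : Type u} [Field k] [IsAlgClosed k]
    (sX : X ⟶ Spec (CommRingCat.of k)) (sY : Y ⟶ Spec (CommRingCat.of k))
    [LocallyOfFiniteType sX] (f : X ⟶ Y) (hf : f ≫ sY = sX) [IsSeparated f]
    (hinj : ∀ a b : Spec (CommRingCat.of k) ⟶ X, a ≫ sX = 𝟙 _ → b ≫ sX = 𝟙 _ →
      a ≫ f = b ≫ f → a = b) :
    Surjective (pullback.diagonal f) := by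
  haveI : LocallyOfFiniteType (f ≫ sY) := by rw [hf]; infer_instance
  haveI : LocallyOfFiniteType f := locallyOfFiniteType_of_comp f sY
  let sP : pullback f f ⟶ Spec (CommRingCat.of k) := pullback.fst f f ≫ sX
  haveI : LocallyOfFiniteType sP := inferInstance
  haveI : JacobsonSpace (pullback f f : Scheme.{u}) := LocallyOfFiniteType.jacobsonSpace sP
  have hcl : IsClosed (Set.range (pullback.diagonal f)) :=
    (pullback.diagonal f).isClosedEmbedding.isClosed_range
  rw [surjective_iff]
  rw [← Set.range_eq_univ]
  by_contra hne
  have hopen : IsOpen (Set.range (pullback.diagonal f))ᶜ := hcl.isOpen_compl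
  have hnonempty : ((Set.range (pullback.diagonal f))ᶜ).Nonempty := by
    rw [Set.nonempty_compl]; exact hne
  have hdense : Dense (closedPoints (pullback f f : Scheme.{u})) := by
    rw [dense_iff_closure_eq]
    have := JacobsonSpace.closure_inter_closedPoints (X := (pullback f f : Scheme.{u})) isClosed_univ
    rwa [Set.univ_inter] at this
  obtain ⟨p, hp1, hp2⟩ := hdense.inter_open_nonempty _ hopen hnonempty
  apply hp1
  have hp : IsClosed ({p} : Set (pullback f f : Scheme.{u})) := hp2
  obtain ⟨σ, hσ, q, hq⟩ := exists_section_of_isClosed sP p hp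
  have hcond : σ ≫ pullback.fst f f ≫ f = σ ≫ pullback.snd f f ≫ f := by
    rw [pullback.condition]
  have hab : σ ≫ pullback.fst f f = σ ≫ pullback.snd f f := by
    apply hinj
    · rw [Category.assoc]; exact hσ
    · rw [Category.assoc, ← hf, ← Category.assoc (pullback.snd f f), ← pullback.condition,
        Category.assoc, hf]
      exact hσ
    · simpa only [Category.assoc] using hcond
  have hσ' : σ = (σ ≫ pullback.fst f f) ≫ pullback.diagonal f := by
    apply pullback.hom_ext
    · simp
    · simp [hab]
  refine ⟨(σ ≫ pullback.fst f f) q, ?_⟩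
  rw [← Scheme.Hom.comp_apply, ← hσ', hq]


open Groth.Agent.Lib.Helper10.GaloisOrbit in
/-- in characteristic zero a purely inseparable residue field extension at the generic point makes
the map of function fields bijective -/
theorem bijective_functionField_of_isPurelyInseparable {k : Type u} [Field k] [CharZero k]
    [IsIntegral X] [IsIntegral Y] (sY : Y ⟶ Spec (CommRingCat.of k)) (f : X ⟶ Y)
    (e : f (genericPoint X) = genericPoint Y)
    (hpi : (f.residueFieldMap (genericPoint X)).hom.IsPurelyInseparable) :
    Function.Bijective
      (Y.presheaf.stalkSpecializes (specializes_of_eq e) ≫ f.stalkMap (genericPoint X)).hom := by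
  letI : Field (X.presheaf.stalk (genericPoint X)) := inferInstanceAs (Field X.functionField)
  letI : Field (Y.presheaf.stalk (genericPoint Y)) := inferInstanceAs (Field Y.functionField)
  refine ⟨RingHom.injective _, ?_⟩
  -- surjectivity of the residue field map
  have hsurj : Function.Surjective (f.residueFieldMap (genericPoint X)).hom := by
    haveI : CharZero (Y.residueField (f (genericPoint X))) :=
      charZero_of_injective_ringHom (resHom k sY (f (genericPoint X))).hom.injective
    algebraize [(f.residueFieldMap (genericPoint X)).hom]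
    haveI : IsPurelyInseparable (Y.residueField (f (genericPoint X)))
        (X.residueField (genericPoint X)) := hpi
    haveI : Algebra.IsAlgebraic (Y.residueField (f (genericPoint X)))
        (X.residueField (genericPoint X)) := IsPurelyInseparable.isAlgebraic _ _
    haveI : Algebra.IsSeparable (Y.residueField (f (genericPoint X)))
        (X.residueField (genericPoint X)) := inferInstance
    exact IsPurelyInseparable.surjective_algebraMap_of_isSeparable _ _
  haveI : IsIso (Y.presheaf.stalkSpecializes (specializes_of_eq e)) :=
    Groth.Agent.Lib.Helper6.GenEtale.isIso_stalkSpecializes_of_eq e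
  intro s
  obtain ⟨tb, htb⟩ := hsurj (X.residue (genericPoint X) s)
  obtain ⟨t, rfl⟩ := IsLocalRing.residue_surjective tb
  have h1 : X.residue (genericPoint X) ((f.stalkMap (genericPoint X)).hom t) =
      X.residue (genericPoint X) s := htb
  have h2 : (f.stalkMap (genericPoint X)).hom t - s ∈
      maximalIdeal (X.presheaf.stalk (genericPoint X)) := by
    rw [← IsLocalRing.residue_eq_zero_iff, map_sub, sub_eq_zero]
    exact h1
  rw [IsLocalRing.maximalIdeal_eq_bot, Ideal.mem_bot, sub_eq_zero] at h2
  refine ⟨(inv (Y.presheaf.stalkSpecializes (specializes_of_eq e))).hom t, ?_⟩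
  rw [← h2]
  change ((inv (Y.presheaf.stalkSpecializes (specializes_of_eq e)) ≫
    Y.presheaf.stalkSpecializes (specializes_of_eq e) ≫ f.stalkMap (genericPoint X)).hom) t = _
  rw [IsIso.inv_hom_id_assoc]

/-- **Dominant morphisms injective on rational points into a normal variety in characteristic
zero are open immersions.** -/
theorem isOpenImmersion_of_injective_on_points {k : Type u} [Field k] [IsAlgClosed k] [CharZero k]
    (sX : X ⟶ Spec (CommRingCat.of k)) (sY : Y ⟶ Spec (CommRingCat.of k))
    [IsIntegral X] [IsIntegral Y] [IsSeparated sX]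
    [LocallyOfFiniteType sX] [QuasiCompact sX]
    (hY : Pi1.IsNormalScheme Y)
    (f : X ⟶ Y) (hf : f ≫ sY = sX) [IsDominant f]
    (hinj : ∀ a b : Spec (CommRingCat.of k) ⟶ X, a ≫ sX = 𝟙 _ → b ≫ sX = 𝟙 _ →
      a ≫ f = b ≫ f → a = b) :
    IsOpenImmersion f := by
  haveI : LocallyOfFiniteType (f ≫ sY) := by rw [hf]; infer_instance
  haveI : IsSeparated (f ≫ sY) := by rw [hf]; infer_instance
  haveI : LocallyOfFiniteType f := locallyOfFiniteType_of_comp f sY
  haveI : IsSeparated f := IsSeparated.of_comp f sY
  haveI : CompactSpace X := QuasiCompact.compactSpace_of_compactSpace sX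
  haveI : IsNoetherian X := { __ := LocallyOfFiniteType.isLocallyNoetherian sX }
  haveI : QuasiCompact f := inferInstance
  have hsurj := surjective_diagonal_of_injective_on_points sX sY f hf hinj
  obtain ⟨hinj', hpi⟩ := ((tfae_universallyInjective f).out 3 2).mp hsurj
  haveI : LocallyQuasiFinite f := LocallyQuasiFinite.of_injective hinj'
  have e : f (genericPoint X) = genericPoint Y := map_genericPoint_of_isDominant f
  exact Groth.Agent.Lib.Helper6.BirOpen.isOpenImmersion_of_birational f hY e
    (bijective_functionField_of_isPurelyInseparable sY f e (hpi _))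

end Groth.Agent.Lib.Helper6.InjOpen
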