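import Groth.Agent.Lib.Helper6G12
import Groth.Agent.Lib.Helper27MumfordReg
import Groth.Agent.Lib.Helper23TensorMap
import Groth.Agent.Lib.Helper27ExtHom1

/-!
# The Koszul identification `ker(O² → M) ⊗ M ≅ O` for a base-point-free pencil (helper6)
-/

set_option autoImplicit false
set_option linter.style.haveILetI false
universe u
open CategoryTheory Limits AlgebraicGeometry Opposite TopologicalSpace

namespace Groth.Agent.Lib.Helper6.Koszul

open Groth.Agent.Lib.Helper23.SecTw Groth.Agent.Lib.Helper27GlobGenPn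
  Groth.Agent.Lib.Helper6.NegFilt Groth.Agent.Lib.Helper6.G12

section Gen

variable {X : Scheme.{u}}

/-- `a ⊗ b = b ⊗ a` for local sections of an invertible module -/
theorem tm_comm (M : X.Modules) (hM : PicF.IsInvertible M) (U : X.Opens) (a b : Γ(M, U)) :
    tm M M U a b = tm M M U b a := by
  apply Groth.Agent.Lib.Helper23.InvDual.section_ext
  intro x hx
  obtain ⟨W, e, hxW, he⟩ := exists_gen M hM x
  have he' := he.mono (inf_le_right : U ⊓ W ≤ W)
  rw [← Groth.Agent.Lib.Helper23.InvDual.germ_res _ (inf_le_left : U ⊓ W ≤ U) x ⟨hx, hxW⟩,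
    ← Groth.Agent.Lib.Helper23.InvDual.germ_res _ (inf_le_left : U ⊓ W ≤ U) x ⟨hx, hxW⟩ (tm M M U b a),
    res_tm, res_tm]
  congr 1
  have ha := coef_spec he' le_rfl (res M inf_le_left a)
  have hb := coef_spec he' le_rfl (res M inf_le_left b)
  rw [res_self] at ha hb
  rw [← ha, ← hb, tm_smul_left, tm_smul_right, tm_smul_left, tm_smul_right, ← mul_smul, ← mul_smul,
    mul_comm]

theorem tmulHom_comm (M : X.Modules) (hM : PicF.IsInvertible M) (a b : Coh.structureModule X ⟶ M) :
    SecTwist.tmulHom a b = SecTwist.tmulHom b a := by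
  apply Groth.Agent.Lib.Helper27ExtHom1.sv_injective
  rw [sv_tmulHom, sv_tmulHom, tm_comm M hM]

theorem tmulHom_wl {A B L : X.Modules} (a : Coh.structureModule X ⟶ A) (b : Coh.structureModule X ⟶ L)
    (φ : A ⟶ B) : SecTwist.tmulHom a b ≫ wl φ L = SecTwist.tmulHom (a ≫ φ) b := by
  apply Groth.Agent.Lib.Helper27ExtHom1.sv_injective
  rw [Groth.Agent.Lib.Helper23.SecTw.sv_comp, sv_tmulHom, sv_tmulHom, Groth.Agent.Lib.Helper23.SecTw.sv_comp]
  exact Groth.Agent.Lib.Helper27MumfordReg.wl_tmul φ L _ _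

theorem tmulHom_zero_left {A L : X.Modules} (b : Coh.structureModule X ⟶ L) :
    SecTwist.tmulHom (0 : Coh.structureModule X ⟶ A) b = 0 := by
  apply Groth.Agent.Lib.Helper27ExtHom1.sv_injective
  rw [sv_tmulHom]
  have h0 : ∀ (F : X.Modules), sv (0 : Coh.structureModule X ⟶ F) ⊤ = 0 := fun F => rfl
  rw [h0, h0, tm_zero_left]

theorem tmulHom_id_ne_zero {M : X.Modules} (b : Coh.structureModule X ⟶ M) (hb : b ≠ 0) :
    SecTwist.tmulHom (𝟙 (Coh.structureModule X)) b ≠ 0 := by
  intro h
  apply hb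
  have h1 : SecTwist.tmulHom (𝟙 (Coh.structureModule X)) b ≫
      Groth.Agent.Lib.Helper23.TensorMap.mulHom (𝟙 (Coh.structureModule X)) M = b := by
    apply Groth.Agent.Lib.Helper27ExtHom1.sv_injective
    rw [Groth.Agent.Lib.Helper23.SecTw.sv_comp, sv_tmulHom, Groth.Agent.Lib.Helper23.TensorMap.mulHom_tm]
    have h2 : Groth.Agent.Lib.Helper23.GenLocus.ofS ⊤
        ((𝟙 (Coh.structureModule X) : Coh.structureModule X ⟶ Coh.structureModule X).app ⊤
          (sv (𝟙 (Coh.structureModule X)) ⊤)) = 1 := rfl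
    rw [h2, one_smul]
  rw [← h1, h, zero_comp]

/-- `h⁰` of the middle term of a short exact sequence is at most the sum of the outer ones -/
theorem h0_mid_le (k : Type u) [Field k] [X.Over (Spec (CommRingCat.of k))]
    (S : ShortComplex X.Modules) (hS : S.ShortExact)
    [Module.Finite k (Coh.structureModule X ⟶ S.X₂)] [Module.Finite k (Coh.structureModule X ⟶ S.X₃)] :
    Module.finrank k (Coh.structureModule X ⟶ S.X₂) ≤
      Module.finrank k (Coh.structureModule X ⟶ S.X₁) + Module.finrank k (Coh.structureModule X ⟶ S.X₃) := by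
  haveI := hS.mono_f
  let F : (Coh.structureModule X ⟶ S.X₁) →ₗ[k] (Coh.structureModule X ⟶ S.X₂) :=
    Linear.rightComp k (Coh.structureModule X) S.f
  let G : (Coh.structureModule X ⟶ S.X₂) →ₗ[k] (Coh.structureModule X ⟶ S.X₃) :=
    Linear.rightComp k (Coh.structureModule X) S.g
  have hF : Function.Injective F := fun a b hab => (cancel_mono S.f).1 hab
  have hFG : LinearMap.range F = LinearMap.ker G := by
    ext u
    constructor
    · rintro ⟨t, rfl⟩
      change (t ≫ S.f) ≫ S.g = 0
      rw [Category.assoc, S.zero, comp_zero]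
    · intro hu
      exact ⟨hS.exact.lift u hu, hS.exact.lift_f u hu⟩
  have h1 : Module.finrank k (LinearMap.range F) = Module.finrank k (Coh.structureModule X ⟶ S.X₁) :=
    LinearMap.finrank_range_of_inj hF
  have h2 := LinearMap.finrank_range_add_finrank_ker G
  have h3 : Module.finrank k (LinearMap.range G) ≤ Module.finrank k (Coh.structureModule X ⟶ S.X₃) :=
    Submodule.finrank_le _
  rw [← hFG, h1] at h2
  omega

end Gen

section Curve

open Groth.Agent.Lib.Helper4.CurveBun Groth.Agent.Lib.Helper4.DegAdd Groth.Agent.Lib.Helper4.CurveRR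
  Groth.Agent.Lib.Helper4.Dev Groth.Agent.Lib.Helper6.CurveDeg

variable (k : Type u) [Field k] (X : Scheme.{u}) [X.Over (Spec (CommRingCat.of k))]
  [IsIntegral X] [IsProper (X ↘ Spec (CommRingCat.of k))]

/-- the Koszul identification for a pencil generating an invertible module -/
theorem koszul [IsAlgClosed k] (hpid : PIDStalks X) (hdim : topologicalKrullDim X = 1)
    (M : X.Modules) (hM : PicF.IsInvertible M) (u : Fin 2 → (Coh.structureModule X ⟶ M))
    (hσ : Epi (sig X u)) (hu1 : u 1 ≠ 0) :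
    FlatMod.IsFinLocFreeOfRank 1 (kernel (sig X u)) ∧
      Curv2.deg k X (kernel (sig X u)) 1 = - Curv2.deg k X M 1 ∧
      Nonempty (CohB1.tensorMod (kernel (sig X u)) M ≅ Coh.structureModule X) := by
  haveI : IsLocallyNoetherian X := isLocallyNoetherian_of_proper k X
  haveI := hσ
  have hM1 := isFinLocFreeOfRank_one_of_isInvertible M hM
  obtain ⟨a, h2a, hK, hdK⟩ := Groth.Agent.Lib.Helper4.CurveSat.kernel_of_epi k X hpid (sig X u) 2 1
    (isFinLocFreeOfRank_freeMod X 2) hM1
  obtain rfl : a = 1 := by omega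
  rw [deg_free_two] at hdK
  have hdK' : Curv2.deg k X (kernel (sig X u)) 1 = - Curv2.deg k X M 1 := by linarith
  refine ⟨hK, hdK', ?_⟩
  obtain ⟨hKM, hdKM⟩ := Groth.Agent.Lib.Helper6.H0Crit.rtwist_rank_deg k X hpid hdim M hM 1 _ hK
  have hS' := Groth.Agent.Lib.Helper27SerreVan.shortExact_tw M hM (sesOfEpi (sig X u))
    (sesOfEpi_shortExact (sig X u))
  have hv0 : (SecTwist.tmulHom (inc X 2 0) (u 1) - SecTwist.tmulHom (inc X 2 1) (u 0)) ≫
      wl (sig X u) M = 0 := by
    rw [Preadditive.sub_comp, tmulHom_wl, tmulHom_wl, inc_sig, inc_sig, tmulHom_comm M hM, sub_self]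
  haveI := hS'.mono_f
  have hlift := hS'.exact.lift_f _ hv0
  have hv : hS'.exact.lift _ hv0 ≠ 0 := by
    intro h0
    rw [h0] at hlift
    have hz : SecTwist.tmulHom (inc X 2 0) (u 1) - SecTwist.tmulHom (inc X 2 1) (u 0) = 0 := by
      rw [← hlift]
      exact zero_comp
    have h1 : (SecTwist.tmulHom (inc X 2 0) (u 1) - SecTwist.tmulHom (inc X 2 1) (u 0)) ≫
        wl (pr X 2 0) M = SecTwist.tmulHom (𝟙 _) (u 1) := by
      rw [Preadditive.sub_comp, tmulHom_wl, tmulHom_wl, inc_pr, inc_pr, if_pos rfl,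
        if_neg (by decide), tmulHom_zero_left, sub_zero]
    rw [hz, zero_comp] at h1
    exact tmulHom_id_ne_zero (u 1) hu1 h1.symm
  have hO1 : FlatMod.IsFinLocFreeOfRank 1 (Coh.structureModule X) :=
    isFinLocFreeOfRank_one_of_isInvertible _
      (Groth.Agent.Lib.Helper23.TensorUnit.isInvertible_structureModule X)
  obtain ⟨-, -, hiso⟩ := Groth.Agent.Lib.Helper4.CurveRk2.hom_rank_one k X hpid hdim hO1 hKM _ hv
  haveI : IsIso (hS'.exact.lift _ hv0) := hiso (by
    rw [deg_structureModule, hdKM, hdK']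
    push_cast
    ring)
  exact ⟨(asIso (hS'.exact.lift _ hv0)).symm⟩

open Groth.Agent.Lib.Helper4.CurveAsym Groth.Agent.Lib.Helper6.GGCurve Groth.Agent.Lib.Helper4.CurveChi in
omit [IsIntegral X] [IsProper (X ↘ Spec (CommRingCat.of k))] in
/-- `2 h⁰(N) ≤ h⁰(O² ⊗ N)` -/
theorem two_mul_h0_le_free (N : X.Modules)
    [Module.Finite k (Coh.structureModule X ⟶ N)]
    [Module.Finite k (Coh.structureModule X ⟶ CohB1.tensorMod (FlatMod.freeMod X 2) N)] :
    2 * Module.finrank k (Coh.structureModule X ⟶ N) ≤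
      Module.finrank k (Coh.structureModule X ⟶ CohB1.tensorMod (FlatMod.freeMod X 2) N) := by
  let Φ : (Fin 2 → (Coh.structureModule X ⟶ N)) →ₗ[k]
      (Coh.structureModule X ⟶ CohB1.tensorMod (FlatMod.freeMod X 2) N) :=
    ∑ j, (Linear.rightComp k (Coh.structureModule X) ((lam N).inv ≫ wl (inc X 2 j) N)).comp
      (LinearMap.proj j)
  have hΦapp : ∀ t : Fin 2 → (Coh.structureModule X ⟶ N),
      Φ t = ∑ j, t j ≫ ((lam N).inv ≫ wl (inc X 2 j) N) := by
    intro t
    simp only [Φ, LinearMap.sum_apply, LinearMap.comp_apply, LinearMap.proj_apply]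
    rfl
  have hΦ : Function.Injective Φ := by
    rw [injective_iff_map_eq_zero]
    intro t ht
    funext i
    have h1 : Φ t ≫ wl (pr X 2 i) N = t i ≫ (lam N).inv := by
      rw [hΦapp, Preadditive.sum_comp, Finset.sum_eq_single i]
      · rw [Category.assoc, Category.assoc, wl_inc_pr, if_pos rfl, Category.comp_id]
      · intro j _ hji
        rw [Category.assoc, Category.assoc, wl_inc_pr, if_neg hji, comp_zero, comp_zero]
      · intro h
        exact absurd (Finset.mem_univ i) h
    rw [ht, zero_comp] at h1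
    change t i = 0
    rw [← cancel_mono (lam N).inv, zero_comp]
    exact h1.symm
  have h1 := LinearMap.finrank_le_finrank_of_injective hΦ
  rw [Module.finrank_pi_fintype, Fin.sum_univ_two] at h1
  omega

open Groth.Agent.Lib.Helper4.CurveAsym Groth.Agent.Lib.Helper6.GGCurve in
omit [IsIntegral X] [IsProper (X ↘ Spec (CommRingCat.of k))] in
/-- a globally generated invertible module with `h⁰ = 2` is generated by a basis of its sections -/
theorem exists_pencil [IsAlgClosed k] (D : X.Modules) (hgg : Curv2.IsGloballyGenerated D)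
    (h0 : Module.finrank k (Coh.HH X D 0) = 2) :
    ∃ u : Fin 2 → (Coh.structureModule X ⟶ D), Epi (sig X u) ∧ u 1 ≠ 0 := by
  rw [← finrank_hom_eq k] at h0
  haveI : Module.Finite k (Coh.structureModule X ⟶ D) := Module.finite_of_finrank_eq_succ h0
  let b := Module.finBasisOfFinrankEq k (Coh.structureModule X ⟶ D) h0
  refine ⟨b, ?_, b.ne_zero 1⟩
  apply Abelian.epi_of_cokernel_π_eq_zero
  apply eq_zero_of_isGloballyGenerated hgg
  intro t
  rw [← b.sum_repr t, Preadditive.sum_comp]
  refine Finset.sum_eq_zero fun i _ => ?_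
  rw [Linear.smul_comp]
  have h1 : b i ≫ cokernel.π (sig X b) = 0 := by
    rw [← inc_sig X b i, Category.assoc, cokernel.condition, comp_zero]
  rw [h1, smul_zero]

open Groth.Agent.Lib.Helper4.CurveAsym in
/-- Riemann–Roch for an invertible module -/
theorem rr [IsAlgClosed k] (hdim : topologicalKrullDim X = 1) (L : X.Modules) (hL : PicF.IsInvertible L) :
    (Module.finrank k (Coh.HH X L 0) : ℤ) - (Module.finrank k (Coh.HH X L 1) : ℤ) =
      Curv2.deg k X L 1 + 1 - (Curv2.genus k X : ℤ) := by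
  haveI : IsLocallyNoetherian X := isLocallyNoetherian_of_proper k X
  have e1 := euler_eq_h0_sub_h1 k X hdim.le L (isCoh_of_isInvertible L hL)
  have e2 := Groth.Agent.Lib.Helper6.H0Semi.euler_structureModule k X hdim
  unfold Curv2.deg
  rw [← e1, e2]
  push_cast
  ring

open Groth.Agent.Lib.Helper4.CurveAsym Groth.Agent.Lib.Helper6.GGCurve in
/-- the base-point-free pencil trick -/
theorem pencil [IsAlgClosed k] (hpid : PIDStalks X) (hdim : topologicalKrullDim X = 1)
    (D : X.Modules) (hD : PicF.IsInvertible D) (hgg : Curv2.IsGloballyGenerated D)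
    (h0 : Module.finrank k (Coh.HH X D 0) = 2) :
    ∃ K : X.Modules, PicF.IsInvertible K ∧ Curv2.deg k X K 1 = - Curv2.deg k X D 1 ∧
      Nonempty (CohB1.tensorMod K D ≅ Coh.structureModule X) ∧
      ∀ N : X.Modules, PicF.IsInvertible N →
        2 * Module.finrank k (Coh.HH X N 0) ≤
          Module.finrank k (Coh.HH X (CohB1.tensorMod K N) 0) +
            Module.finrank k (Coh.HH X (CohB1.tensorMod D N) 0) ∧
        2 * Module.finrank k (Coh.HH X N 1) ≤
          Module.finrank k (Coh.HH X (CohB1.tensorMod K N) 1) +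
            Module.finrank k (Coh.HH X (CohB1.tensorMod D N) 1) := by
  haveI : IsLocallyNoetherian X := isLocallyNoetherian_of_proper k X
  obtain ⟨u, hσ, hu1⟩ := exists_pencil k X D hgg h0
  obtain ⟨hK, hdK, hiso⟩ := koszul k X hpid hdim D hD u hσ hu1
  have hKinv := Groth.Agent.Lib.Helper6.H0Semi.isInvertible_of_rank_one (X := X) hK
  refine ⟨kernel (sig X u), hKinv, hdK, hiso, ?_⟩
  intro N hN
  have hD1 := isFinLocFreeOfRank_one_of_isInvertible D hD
  obtain ⟨hKN, hdKN⟩ := Groth.Agent.Lib.Helper6.H0Crit.rtwist_rank_deg k X hpid hdim N hN 1 _ hK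
  obtain ⟨hDN, hdDN⟩ := Groth.Agent.Lib.Helper6.H0Crit.rtwist_rank_deg k X hpid hdim N hN 1 D hD1
  obtain ⟨hFN, -⟩ := Groth.Agent.Lib.Helper6.H0Crit.rtwist_rank_deg k X hpid hdim N hN 2 _
    (isFinLocFreeOfRank_freeMod X 2)
  have hKNinv := Groth.Agent.Lib.Helper6.H0Semi.isInvertible_of_rank_one (X := X) hKN
  have hDNinv := Groth.Agent.Lib.Helper6.H0Semi.isInvertible_of_rank_one (X := X) hDN
  haveI := hσ
  have hS' := Groth.Agent.Lib.Helper27SerreVan.shortExact_tw N hN (sesOfEpi (sig X u))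
    (sesOfEpi_shortExact (sig X u))
  have fin : ∀ (F : X.Modules), Coh.IsCoh F → Module.Finite k (Coh.structureModule X ⟶ F) := by
    intro F cF
    haveI : Module.Finite k (Coh.HH X F 0) := Groth.Agent.S0002.result k X _ cF 0
    exact Module.Finite.equiv (homH0Equiv k F).symm
  haveI := fin N (isCoh_of_isInvertible N hN)
  haveI := fin _ (isCoh_of_isFinLocFreeOfRank _ 2 hFN)
  haveI := fin _ (isCoh_of_isFinLocFreeOfRank _ 1 hKN)
  haveI := fin _ (isCoh_of_isFinLocFreeOfRank _ 1 hDN)
  have P1 : 2 * Module.finrank k (Coh.structureModule X ⟶ N) ≤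
      Module.finrank k (Coh.structureModule X ⟶ CohB1.tensorMod (kernel (sig X u)) N) +
        Module.finrank k (Coh.structureModule X ⟶ CohB1.tensorMod D N) := by
    have hfree := two_mul_h0_le_free k X N
    haveI : Module.Finite k (Coh.structureModule X ⟶ ((sesOfEpi (sig X u)).map
        (Groth.Agent.Lib.Helper27SerreVan.tw N)).X₂) :=
      fin _ (isCoh_of_isFinLocFreeOfRank _ 2 hFN)
    haveI : Module.Finite k (Coh.structureModule X ⟶ ((sesOfEpi (sig X u)).map
        (Groth.Agent.Lib.Helper27SerreVan.tw N)).X₃) :=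
      fin _ (isCoh_of_isFinLocFreeOfRank _ 1 hDN)
    have hmid := h0_mid_le k _ hS'
    exact hfree.trans hmid
  rw [finrank_hom_eq k, finrank_hom_eq k, finrank_hom_eq k] at P1
  refine ⟨P1, ?_⟩
  have r1 := rr k X hdim N hN
  have r2 := rr k X hdim _ hKNinv
  have r3 := rr k X hdim _ hDNinv
  rw [hdKN, hdK] at r2
  rw [hdDN] at r3
  push_cast at r2 r3
  zify at P1 ⊢
  linarith

end Curve

end Groth.Agent.Lib.Helper6.Koszul
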