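import Mathlib
import Groth.Agent.Lib.Helper6ReducedSmooth

/-! Smoothness of Kummer-type covers `A[t]/(t^e - s)` over a field (helper6). -/

set_option autoImplicit false
universe u

namespace Groth.Agent.Lib.Helper6.KummerSm

open Polynomial TensorProduct

variable {k A : Type u} [Field k] [CommRing A] [Algebra k A]

theorem formallySmooth_quot_of_adjoinRoot (s : A) (e : ℕ) (he : 2 ≤ e)
    [Algebra.FormallySmooth k (AdjoinRoot (X ^ e - C s : A[X]))] :
    Algebra.FormallySmooth k (A ⧸ Ideal.span {s}) := by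
  refine Algebra.FormallySmooth.of_comp_surjective fun B _ _ I hI h => ?_
  have he0 : e ≠ 0 := by omega
  have h0 : ((X ^ e - C s : A[X])).eval₂
      ((h.comp (Ideal.Quotient.mkₐ k (Ideal.span {s}))) : A →+* B ⧸ I) 0 = 0 := by
    simp [eval₂_sub, eval₂_pow, he0]
  let f : AdjoinRoot (X ^ e - C s : A[X]) →ₐ[k] B ⧸ I :=
    AdjoinRoot.liftAlgHom _ (h.comp (Ideal.Quotient.mkₐ k (Ideal.span {s}))) 0 h0
  obtain ⟨ft, hft⟩ := Algebra.FormallySmooth.comp_surjective k
    (AdjoinRoot (X ^ e - C s : A[X])) I hI f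
  have hroot : ft (AdjoinRoot.root _) ∈ I := by
    rw [← Ideal.Quotient.eq_zero_iff_mem]
    have := congr($hft (AdjoinRoot.root _))
    simpa [f] using this
  have hpow : ft (AdjoinRoot.root _) ^ e = 0 := by
    have h2 : ft (AdjoinRoot.root _) ^ 2 ∈ I ^ 2 := Ideal.pow_mem_pow hroot 2
    rw [hI] at h2
    obtain ⟨d, rfl⟩ := Nat.exists_eq_add_of_le he
    rw [pow_add, (Ideal.mem_bot.mp h2), zero_mul]
  have hrel : (AdjoinRoot.root (X ^ e - C s : A[X])) ^ e = AdjoinRoot.of _ s := by
    have := AdjoinRoot.eval₂_root (X ^ e - C s : A[X])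
    simpa [eval₂_sub, eval₂_pow, sub_eq_zero] using this
  have hs0 : ft (AdjoinRoot.of _ s) = 0 := by
    rw [← hrel, map_pow, hpow]
  let g : A →ₐ[k] B := ft.comp (AdjoinRoot.ofAlgHom k _)
  refine ⟨Ideal.Quotient.liftₐ (Ideal.span {s}) g ?_, ?_⟩
  · intro a ha
    obtain ⟨c, rfl⟩ := Ideal.mem_span_singleton'.mp ha
    simp [g, hs0]
  · apply Ideal.Quotient.algHom_ext
    ext a
    have := congr($hft (AdjoinRoot.of _ a))
    simpa [f, g] using this


/-- In a reduced Jacobson ring, an irreducible element is a nonzerodivisor. -/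
theorem eq_zero_of_irreducible_mul [IsReduced A] [IsJacobsonRing A] {s : A} (hs : Irreducible s)
    {a : A} (h : s * a = 0) : a = 0 := by
  have hJ : Ideal.jacobson (⊥ : Ideal A) = ⊥ :=
    IsJacobsonRing.out' _ Ideal.isRadical_bot
  have ha : a ∈ Ideal.jacobson (⊥ : Ideal A) := by
    rw [Ideal.mem_jacobson_bot]
    intro r
    have h1 : s = s * (a * r + 1) := by
      rw [mul_add, ← mul_assoc, h, zero_mul, zero_add, mul_one]
    rcases hs.isUnit_or_isUnit h1 with h2 | h2
    · exact absurd h2 hs.not_isUnit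
    · exact h2
  rw [hJ] at ha
  exact Ideal.mem_bot.mp ha

theorem eq_zero_of_irreducible_mul_of_smooth [Algebra.Smooth k A] {s : A} (hs : Irreducible s)
    {a : A} (h : s * a = 0) : a = 0 := by
  haveI : IsReduced A := isReduced_of_smooth k A
  haveI : IsJacobsonRing A := isJacobsonRing_of_finiteType (A := k) (B := A)
  exact eq_zero_of_irreducible_mul hs h


theorem add_pow_succ_of_sq_eq_zero {T : Type*} [CommRing T] (a η : T) (hη : η ^ 2 = 0) (n : ℕ) :
    (a + η) ^ (n + 1) = a ^ (n + 1) + (n + 1 : ℕ) * a ^ n * η := by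
  induction n with
  | zero => simp
  | succ n ih =>
    rw [pow_succ, ih]
    push_cast
    linear_combination ((n : T) + 1) * a ^ n * hη

theorem formallySmooth_adjoinRoot_of_derivation_aux (s : A) (n : ℕ) (hek : ((n + 1 : ℕ) : k) ≠ 0)
    [Algebra.FormallySmooth k A] (D : Derivation k A A) (c : A) (hD : D s = 1 + s * c)
    (p : A[X]) (hp : p = X ^ (n + 1) - C s) :
    Algebra.FormallySmooth k (AdjoinRoot p) := by
  refine Algebra.FormallySmooth.of_comp_surjective fun T _ _ I hI f => ?_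
  have hI2 : ∀ x ∈ I, ∀ y ∈ I, x * y = 0 := by
    intro x hx y hy
    have : x * y ∈ I ^ 2 := by rw [pow_two]; exact Ideal.mul_mem_mul hx hy
    rw [hI] at this
    exact Ideal.mem_bot.mp this
  have hrel : (AdjoinRoot.root p) ^ (n + 1) = AdjoinRoot.of p s := by
    have := AdjoinRoot.eval₂_root p
    simpa [hp, eval₂_sub, eval₂_pow, sub_eq_zero] using this
  let g : A →ₐ[k] T ⧸ I := f.comp (AdjoinRoot.ofAlgHom k p)
  obtain ⟨gt, hgt⟩ := Algebra.FormallySmooth.comp_surjective k A I hI g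
  have hgt' : ∀ x, Ideal.Quotient.mk I (gt x) = f (AdjoinRoot.of p x) := fun x => by
    have := congr($hgt x)
    simpa [g] using this
  obtain ⟨τ, hτ⟩ := Ideal.Quotient.mk_surjective (f (AdjoinRoot.root p))
  set δ : T := τ ^ (n + 1) - gt s with hδ
  have hδI : δ ∈ I := by
    rw [← Ideal.Quotient.eq_zero_iff_mem, hδ, map_sub, map_pow, hτ, hgt', ← map_pow, hrel, sub_self]
  have hδ2 : δ * δ = 0 := hI2 _ hδI _ hδI
  -- the modified lift of g
  let g' : A →ₐ[k] T :=
    { toFun := fun x => gt x + gt (D x) * δ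
      map_one' := by simp
      map_mul' := fun x y => by
        simp only [map_mul, Derivation.leibniz, smul_eq_mul, map_add]
        linear_combination (- gt (D x) * gt (D y)) * hδ2
      map_zero' := by simp
      map_add' := fun x y => by
        simp only [map_add]
        ring
      commutes' := fun r => by simp }
  have hg' : ∀ x, g' x = gt x + gt (D x) * δ := fun x => rfl
  set η : T := algebraMap k T ((n + 1 : ℕ) : k)⁻¹ * τ * gt c * δ with hη
  have hηI : η ∈ I := I.mul_mem_left _ hδI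
  have hη2 : η ^ 2 = 0 := by rw [pow_two]; exact hI2 _ hηI _ hηI
  have hinv : ((n + 1 : ℕ) : T) * algebraMap k T ((n + 1 : ℕ) : k)⁻¹ = 1 := by
    rw [← map_natCast (algebraMap k T), ← map_mul, mul_inv_cancel₀ hek, map_one]
  have hroot : eval₂ (g' : A →+* T) (τ + η) p = 0 := by
    rw [hp, eval₂_sub, eval₂_pow, eval₂_X, eval₂_C, add_pow_succ_of_sq_eq_zero _ _ hη2]
    change _ - g' s = 0
    rw [hg', hD, map_add, map_one, map_mul, hη]
    have h1 : τ ^ (n + 1) = gt s + δ := by rw [hδ]; ring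
    have h2 : τ ^ (n + 1) * δ = gt s * δ := by rw [h1, add_mul, hδ2, add_zero]
    have h3 : ((n + 1 : ℕ) : T) * τ ^ n * (algebraMap k T ((n + 1 : ℕ) : k)⁻¹ * τ * gt c * δ)
        = gt s * gt c * δ := by
      calc _ = (((n + 1 : ℕ) : T) * algebraMap k T ((n + 1 : ℕ) : k)⁻¹) * gt c * (τ ^ (n + 1) * δ) := by
            ring
        _ = _ := by rw [hinv, h2]; ring
    rw [h3, h1]
    ring
  refine ⟨AdjoinRoot.liftAlgHom p g' (τ + η) hroot, ?_⟩
  apply AdjoinRoot.algHom_ext'
  · ext x
    simp only [AlgHom.coe_comp, Function.comp_apply, AdjoinRoot.coe_ofAlgHom, Ideal.Quotient.mkₐ_eq_mk,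
      AdjoinRoot.liftAlgHom_of]
    rw [hg', map_add, map_mul, Ideal.Quotient.eq_zero_iff_mem.mpr hδI, mul_zero, add_zero, hgt']
  · simp only [AlgHom.coe_comp, Function.comp_apply, Ideal.Quotient.mkₐ_eq_mk,
      AdjoinRoot.liftAlgHom_root]
    rw [map_add, Ideal.Quotient.eq_zero_iff_mem.mpr hηI, add_zero, hτ]

theorem formallySmooth_adjoinRoot_of_derivation (s : A) (e : ℕ) (hek : (e : k) ≠ 0)
    [Algebra.FormallySmooth k A] (D : Derivation k A A) (c : A) (hD : D s = 1 + s * c) :
    Algebra.FormallySmooth k (AdjoinRoot (X ^ e - C s : A[X])) := by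
  obtain ⟨n, rfl⟩ : ∃ n, e = n + 1 := by
    refine Nat.exists_eq_succ_of_ne_zero ?_
    rintro rfl
    simp at hek
  exact formallySmooth_adjoinRoot_of_derivation_aux s n hek D c hD _ rfl


theorem exists_derivation (s : A) (hs : ∀ a, s * a = 0 → a = 0)
    [Algebra.FormallySmooth k A] [Algebra.FormallySmooth k (A ⧸ Ideal.span {s})] :
    ∃ (D : Derivation k A A) (c : A), D s = 1 + s * c := by
  have hsurj : Function.Surjective (algebraMap A (A ⧸ Ideal.span {s})) :=
    Ideal.Quotient.mk_surjective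
  let I : Ideal A := RingHom.ker (algebraMap A (A ⧸ Ideal.span {s}))
  have hI : I = RingHom.ker (algebraMap A (A ⧸ Ideal.span {s})) := rfl
  obtain ⟨l, hl⟩ : ∃ l : (A ⧸ Ideal.span {s}) ⊗[A] Ω[A⁄k] →ₗ[A] I.Cotangent,
      l ∘ₗ (KaehlerDifferential.kerCotangentToTensor k A (A ⧸ Ideal.span {s})) = LinearMap.id :=
    (Algebra.FormallySmooth.iff_split_injection (R := k) (P := A)
      (A := A ⧸ Ideal.span {s}) hsurj).mp inferInstance
  have hIs : I = Ideal.span {s} := by
    rw [hI, Ideal.Quotient.algebraMap_eq, Ideal.mk_ker]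
  have hmem : ∀ a, s * a ∈ I := fun a => by
    rw [hIs]; exact Ideal.mul_mem_right _ _ (Ideal.subset_span rfl)
  let L₁ : Ω[A⁄k] →ₗ[A] I.Cotangent :=
    l ∘ₗ (TensorProduct.mk A (A ⧸ Ideal.span {s}) Ω[A⁄k] 1)
  have hL₁ : ∀ x : I, L₁ (KaehlerDifferential.D k A x.1) = I.toCotangent x := fun x => by
    have := congr($hl (I.toCotangent x))
    rw [LinearMap.comp_apply, LinearMap.id_apply] at this
    rw [← this]
    rfl
  let π : A →ₗ[A] I.Cotangent :=
    I.toCotangent ∘ₗ (LinearMap.toSpanSingleton A I ⟨s, by simpa using hmem 1⟩)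
  have hπ : ∀ a, π a = I.toCotangent ⟨s * a, hmem a⟩ := fun a => by
    simp only [π, LinearMap.comp_apply, LinearMap.toSpanSingleton_apply]
    congr 1
    ext
    simp [mul_comm]
  have hπs : Function.Surjective π := by
    intro y
    obtain ⟨⟨x, hx⟩, rfl⟩ := Ideal.toCotangent_surjective _ y
    have hx' := hx
    rw [hIs, Ideal.mem_span_singleton'] at hx'
    obtain ⟨a, rfl⟩ := hx'
    refine ⟨a, ?_⟩
    rw [hπ]
    congr 1
    ext
    simp [mul_comm]
  obtain ⟨L, hL⟩ := Module.projective_lifting_property π L₁ hπs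
  refine ⟨L.compDer (KaehlerDifferential.D k A), ?_⟩
  have h1 : π (L (KaehlerDifferential.D k A s)) = I.toCotangent ⟨s, by simpa using hmem 1⟩ := by
    have := congr($hL (KaehlerDifferential.D k A s))
    rw [LinearMap.comp_apply] at this
    rw [this]
    exact hL₁ ⟨s, by simpa using hmem 1⟩
  rw [hπ, Ideal.toCotangent_eq] at h1
  simp only at h1
  rw [hIs, Ideal.span_singleton_pow, Ideal.mem_span_singleton'] at h1
  obtain ⟨c, hc⟩ := h1
  refine ⟨c, ?_⟩
  have h2 := hs (L (KaehlerDifferential.D k A s) - (1 + s * c)) (by linear_combination -hc)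
  simpa [sub_eq_zero] using h2
  

theorem main (k A : Type u) [Field k] [CommRing A] [Algebra k A]
    [Algebra.Smooth k A] (s : A) (hs : Irreducible s) (e : ℕ) (he : 2 ≤ e) (hek : (e : k) ≠ 0) :
    Algebra.Smooth k (AdjoinRoot (Polynomial.X ^ e - Polynomial.C s)) ↔
      Algebra.Smooth k (A ⧸ Ideal.span {s}) := by
  constructor
  · intro h
    haveI := formallySmooth_quot_of_adjoinRoot (k := k) s e he
    exact ⟨inferInstance, Algebra.FinitePresentation.quotient (Submodule.fg_span_singleton s)⟩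
  · intro h
    obtain ⟨D, c, hD⟩ := exists_derivation (k := k) s
      (fun a ha => eq_zero_of_irreducible_mul_of_smooth (k := k) hs ha)
    haveI := formallySmooth_adjoinRoot_of_derivation (k := k) s e hek D c hD
    exact ⟨inferInstance, inferInstance⟩

end Groth.Agent.Lib.Helper6.KummerSm
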