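import Groth.Agent.Lib.Helper6LinTop
import Mathlib.RingTheory.AdicCompletion.Basic
import Mathlib.RingTheory.Finiteness.Ideal

open Filter Topology

universe u

namespace Groth.Agent.Lib.Helper6

lemma cauchySeq_of_sub_mem_pow
    {A : Type u} [CommRing A] [UniformSpace A] [IsUniformAddGroup A]
    (J : Ideal A) (hJ : LinTop.IsIdealOfDefinition A J) (s : ℕ → A)
    (hdiff : ∀ n m, n ≤ m → s m - s n ∈ J ^ n) : CauchySeq s := by
  rw [cauchySeq_iff]
  intro V hV
  rw [uniformity_eq_comap_nhds_zero A] at hV
  obtain ⟨U, hU, hUV⟩ := hV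
  obtain ⟨n₀, -, hn₀⟩ := hJ.2 U hU
  refine ⟨n₀, fun k hk l hl => hUV ?_⟩
  change s l - s k ∈ U
  apply hn₀
  rcases le_total k l with hkl | hlk
  · exact Ideal.pow_le_pow_right hk (hdiff k l hkl)
  · have := Ideal.pow_le_pow_right hl (hdiff l k hlk)
    rw [← neg_sub]
    exact (J ^ n₀).neg_mem this

lemma sum_range_sub_mem_pow {A : Type u} [CommRing A] (J : Ideal A) (b : ℕ → A)
    (hb : ∀ k, b k ∈ J ^ k) (n m : ℕ) (h : n ≤ m) :
    (∑ k ∈ Finset.range m, b k) - (∑ k ∈ Finset.range n, b k) ∈ J ^ n := by
  induction m, h using Nat.le_induction with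
  | base => simp
  | succ m hnm ih =>
    have : (∑ k ∈ Finset.range (m + 1), b k) - (∑ k ∈ Finset.range n, b k) =
        ((∑ k ∈ Finset.range m, b k) - (∑ k ∈ Finset.range n, b k)) + b m := by
      rw [Finset.sum_range_succ]; ring
    rw [this]
    exact (J ^ n).add_mem ih (Ideal.pow_le_pow_right hnm (hb m))

theorem isAdicComplete_of_fg_of_le_idealOfDefinition
    (A : Type u) [CommRing A] [UniformSpace A] [IsUniformAddGroup A] [IsTopologicalRing A]
    (hA : LinTop.IsAdmissible A) (J : Ideal A) (hJ : LinTop.IsIdealOfDefinition A J)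
    (I : Ideal A) (hI : I.FG) (hIJ : I ≤ J) :
    IsAdicComplete I A := by
  obtain ⟨-, hT2, hC⟩ := hA
  have hpow : ∀ n, I ^ n ≤ J ^ n := fun n => Ideal.pow_right_mono hIJ n
  have hsmul : ∀ n, (I ^ n • ⊤ : Submodule A A) = I ^ n := fun n => by
    rw [smul_eq_mul, Ideal.mul_top]
  have haus : IsHausdorff I A := by
    refine ⟨fun x hx => ?_⟩
    by_contra hne
    have hU : ({x}ᶜ : Set A) ∈ 𝓝 0 := isOpen_compl_singleton.mem_nhds (Ne.symm hne)
    obtain ⟨n, -, hn⟩ := hJ.2 _ hU
    have h1 := hx n
    rw [SModEq.zero, hsmul] at h1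
    exact hn (hpow n h1) rfl
  have prec : IsPrecomplete I A := by
    refine ⟨fun f hf => ?_⟩
    have hf' : ∀ m n, m ≤ n → f n - f m ∈ I ^ m := by
      intro m n hmn
      have := (hf hmn).symm
      rw [SModEq.sub_mem, hsmul] at this
      exact this
    have hcauchy : CauchySeq f := cauchySeq_of_sub_mem_pow J hJ f fun n m h => hpow n (hf' n m h)
    obtain ⟨L, hL⟩ := cauchySeq_tendsto_of_complete hcauchy
    refine ⟨L, fun n => ?_⟩
    rw [SModEq.comm, SModEq.sub_mem, hsmul]
    -- generators of `I ^ n`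
    obtain ⟨S, hS⟩ := hI.pow (n := n)
    let μ : S → A := Subtype.val
    have hμ : Submodule.span A (Set.range μ) = I ^ n := by
      rw [← hS]; congr 1; simp [μ]
    -- the successive differences
    have hstep : ∀ k : ℕ, ∃ b : S → A, (∀ i, b i ∈ I ^ k) ∧
        ∑ i, b i * μ i = f (n + k + 1) - f (n + k) := by
      intro k
      have h1 : f (n + k + 1) - f (n + k) ∈ I ^ k • Submodule.span A (Set.range μ) := by
        rw [hμ, smul_eq_mul, ← pow_add, add_comm k n]
        exact hf' _ _ (Nat.le_succ _)
      obtain ⟨a, ha, hsum⟩ := (Submodule.mem_ideal_smul_span_iff_exists_sum (I ^ k) μ _).1 h1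
      refine ⟨fun i => a i, ha, ?_⟩
      rw [← hsum]
      have := Finsupp.sum_fintype a (fun i c => c • μ i) (fun i => zero_smul _ _)
      rw [this]
      simp only [smul_eq_mul]
    choose b hb hbsum using hstep
    -- partial sums of the coefficients converge
    have hconv : ∀ i : S, ∃ c : A, Tendsto (fun m => ∑ k ∈ Finset.range m, b k i) atTop (𝓝 c) := by
      intro i
      apply cauchySeq_tendsto_of_complete
      apply cauchySeq_of_sub_mem_pow J hJ
      intro n' m h
      exact sum_range_sub_mem_pow J (fun k => b k i) (fun k => hpow k (hb k i)) n' m h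
    choose c hc using hconv
    -- telescoping
    have htel : ∀ m, f (n + m) - f n = ∑ i, (∑ k ∈ Finset.range m, b k i) * μ i := by
      intro m
      induction m with
      | zero => simp
      | succ m ih =>
        have : f (n + (m + 1)) - f n = (f (n + m) - f n) + (f (n + m + 1) - f (n + m)) := by
          rw [← add_assoc]; ring
        rw [this, ih, ← hbsum m, ← Finset.sum_add_distrib]
        refine Finset.sum_congr rfl fun i _ => ?_
        rw [Finset.sum_range_succ, add_mul]
    have hlim1 : Tendsto (fun m => f (n + m) - f n) atTop (𝓝 (L - f n)) := by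
      have : Tendsto (fun m => f (n + m)) atTop (𝓝 L) := by
        have := (tendsto_add_atTop_iff_nat n).2 hL
        simpa [add_comm] using this
      exact this.sub_const _
    have hlim2 : Tendsto (fun m => f (n + m) - f n) atTop (𝓝 (∑ i, c i * μ i)) := by
      simp only [htel]
      exact tendsto_finsetSum _ fun i _ => (hc i).mul_const _
    have heq : L - f n = ∑ i, c i * μ i := tendsto_nhds_unique hlim1 hlim2
    rw [heq]
    refine Submodule.sum_mem _ fun i _ => Ideal.mul_mem_left _ _ ?_
    rw [← hS]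
    exact Ideal.subset_span i.2
  exact { haus' := haus.haus', prec' := prec.prec' }

end Groth.Agent.Lib.Helper6
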