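import Groth.Prelude
import Mathlib
import Groth.Agent.S4650

open AlgebraicGeometry CategoryTheory CategoryTheory.Limits

namespace Groth.Agent.Lib.Helper6

universe u

theorem locallyFinite_irreducibleComponents_of_generalizing {X Y : Scheme.{u}} (f : X ⟶ Y)
    (hY : ∀ y : Y, ∃ U : Set ↥Y, IsOpen U ∧ y ∈ U ∧
      {Z ∈ irreducibleComponents ↥Y | (Z ∩ U).Nonempty}.Finite)
    (hf : GeneralizingMap ⇑f) (hfin : ∀ y : Y, (⇑f ⁻¹' {y}).Finite) (x : X) :
    ∃ U : Set ↥X, IsOpen U ∧ x ∈ U ∧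
      {T ∈ irreducibleComponents ↥X | (T ∩ U).Nonempty}.Finite := by
  obtain ⟨U, hUo, hxU, hUfin⟩ := hY (f x)
  refine ⟨f ⁻¹' U, hUo.preimage f.continuous, hxU, ?_⟩
  -- the generic points of the components of `Y` meeting `U`
  let G : Set Y := ⋃ Z ∈ {Z ∈ irreducibleComponents ↥Y | (Z ∩ U).Nonempty}, {η | IsGenericPoint η Z}
  have hG : G.Finite := by
    refine Set.Finite.biUnion hUfin (fun Z _ => Set.Subsingleton.finite ?_)
    intro a ha b hb
    exact IsGenericPoint.eq ha hb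
  have hfG : (f ⁻¹' G).Finite := Set.Finite.preimage' hG (fun b _ => hfin b)
  refine (hfG.image (fun ξ : X => closure {ξ})).subset ?_
  rintro T ⟨hT, t, htT, htU⟩
  have hTcl : IsClosed T := isClosed_of_mem_irreducibleComponents T hT
  obtain ⟨ξ, hξ⟩ := QuasiSober.sober hT.1 hTcl
  refine ⟨ξ, ?_, hξ.def⟩
  have hZ := Groth.Agent.S4650.result f hf T hT
  refine Set.mem_biUnion (x := closure (f '' T)) ⟨hZ, ?_⟩ ?_
  · exact ⟨f t, subset_closure ⟨t, htT, rfl⟩, htU⟩
  · exact hξ.image f.continuous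

end Groth.Agent.Lib.Helper6
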