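import Mathlib
import Groth.Agent.Lib.Helper6LocLift

set_option autoImplicit false
universe u
open CategoryTheory CategoryTheory.Limits AlgebraicGeometry TopologicalSpace

namespace Groth.Agent.Lib.Helper6.LocLift

open IsLocalRing

/-- A local algebra essentially of finite type is a quotient of a formally smooth local algebra
(a localization of a polynomial ring). -/
theorem exists_formallySmooth_surjection (R S : Type u) [CommRing R] [CommRing S] [IsLocalRing S]
    [Algebra R S] [Algebra.EssFiniteType R S] :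
    ∃ (P : Type u) (_ : CommRing P) (_ : IsLocalRing P) (_ : Algebra R P)
      (_ : Algebra.FormallySmooth R P) (F : P →ₐ[R] S), Function.Surjective F := by
  let S₀ := Algebra.EssFiniteType.subalgebra R S
  obtain ⟨n, f₀, hf₀⟩ := (Algebra.FiniteType.iff_quotient_mvPolynomial'' (R := R) (S := S₀)).mp
    inferInstance
  let g : MvPolynomial (Fin n) R →ₐ[R] S := S₀.val.comp f₀
  let 𝔫 : Ideal (MvPolynomial (Fin n) R) := (maximalIdeal S).comap g.toRingHom
  haveI : 𝔫.IsPrime := Ideal.comap_isPrime g.toRingHom _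
  have hunits : ∀ y : 𝔫.primeCompl, IsUnit (g y.1) := by
    rintro ⟨y, hy⟩
    by_contra hnu
    exact hy (show g y ∈ maximalIdeal S from hnu)
  let F : Localization.AtPrime 𝔫 →ₐ[R] S := IsLocalization.liftAlgHom (M := 𝔫.primeCompl)
    (f := g) hunits
  haveI : Algebra.FormallySmooth R (Localization.AtPrime 𝔫) :=
    Algebra.FormallySmooth.comp R (MvPolynomial (Fin n) R) _
  refine ⟨Localization.AtPrime 𝔫, inferInstance, inferInstance, inferInstance, inferInstance,
    F, ?_⟩
  intro s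
  obtain ⟨x, y, hxy⟩ := IsLocalization.exists_mk'_eq (Algebra.EssFiniteType.submonoid R S) s
  obtain ⟨a, ha⟩ := hf₀ x
  obtain ⟨b, hb⟩ := hf₀ y.1
  have hyu : IsUnit (algebraMap S₀ S y.1) := y.2
  have hgb : g b = algebraMap S₀ S y.1 := by
    simp only [g, AlgHom.comp_apply, hb]; rfl
  have hga : g a = algebraMap S₀ S x := by
    simp only [g, AlgHom.comp_apply, ha]; rfl
  have hb' : b ∈ 𝔫.primeCompl := by
    intro hmem
    have : g b ∈ maximalIdeal S := hmem
    rw [hgb] at this
    exact this hyu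
  refine ⟨IsLocalization.mk' _ a ⟨b, hb'⟩, ?_⟩
  simp only [F, IsLocalization.coe_liftAlgHom, AlgHom.toRingHom_eq_coe]
  rw [IsLocalization.lift_mk'_spec]
  simp only [RingHom.coe_coe]
  rw [hga, hgb, ← hxy, mul_comm, IsLocalization.mk'_spec]

end Groth.Agent.Lib.Helper6.LocLift

namespace Groth.Agent.Lib.Helper6.LocLift

open IsLocalRing

/-- (⇐) of the infinitesimal lifting criterion at a point. -/
theorem formallySmooth_of_lift {X Y : Scheme.{u}} (f : X ⟶ Y) [LocallyOfFiniteType f] (x : X)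
    (H : ∀ (B B' : Type u) [CommRing B] [CommRing B'] [IsLocalRing B] [IsLocalRing B']
      (φ : B' →+* B), Function.Surjective φ → RingHom.ker φ ^ 2 = ⊥ →
      ∀ (α : Spec (CommRingCat.of B) ⟶ X) (β : Spec (CommRingCat.of B') ⟶ Y),
        α.base (IsLocalRing.closedPoint B) = x → Spec.map (CommRingCat.ofHom φ) ≫ β = α ≫ f →
        ∃ γ : Spec (CommRingCat.of B') ⟶ X,
          Spec.map (CommRingCat.ofHom φ) ≫ γ = α ∧ γ ≫ f = β) :
    (f.stalkMap x).hom.FormallySmooth := by
  have hft := LocallyOfFiniteType.stalkMap f x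
  algebraize [(f.stalkMap x).hom]
  obtain ⟨P, _, _, _, _, F, hF⟩ :=
    exists_formallySmooth_surjection (Y.presheaf.stalk (f x)) (X.presheaf.stalk x)
  let φ : (P ⧸ RingHom.ker F.toRingHom ^ 2) →ₐ[Y.presheaf.stalk (f x)] X.presheaf.stalk x :=
    F.kerSquareLift
  have hφsurj : Function.Surjective φ.toRingHom := by
    intro s
    obtain ⟨p, rfl⟩ := hF s
    exact ⟨Ideal.Quotient.mk _ p, rfl⟩
  have hker : RingHom.ker φ.toRingHom ^ 2 = ⊥ := by
    rw [AlgHom.ker_kerSquareLift, Ideal.cotangentIdeal_square]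
  haveI : Nontrivial (P ⧸ RingHom.ker F.toRingHom ^ 2) := hφsurj.nontrivial
  haveI : IsLocalRing (P ⧸ RingHom.ker F.toRingHom ^ 2) :=
    IsLocalRing.of_surjective' (Ideal.Quotient.mk _) Ideal.Quotient.mk_surjective
  haveI hφloc : IsLocalHom φ.toRingHom := IsLocalHom.of_surjective _ hφsurj
  haveI : IsLocalHom (CommRingCat.ofHom φ.toRingHom).hom := hφloc
  let α : Spec (CommRingCat.of (X.presheaf.stalk x)) ⟶ X := X.fromSpecStalk x
  let β : Spec (CommRingCat.of (P ⧸ RingHom.ker F.toRingHom ^ 2)) ⟶ Y :=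
    Spec.map (CommRingCat.ofHom (algebraMap (Y.presheaf.stalk (f x))
      (P ⧸ RingHom.ker F.toRingHom ^ 2))) ≫ Y.fromSpecStalk (f x)
  have hα : α (closedPoint (X.presheaf.stalk x)) = x := Scheme.fromSpecStalk_closedPoint
  have hcomp : CommRingCat.ofHom (algebraMap (Y.presheaf.stalk (f x))
      (P ⧸ RingHom.ker F.toRingHom ^ 2)) ≫ CommRingCat.ofHom φ.toRingHom = f.stalkMap x := by
    ext r
    exact φ.commutes r
  have hsq : Spec.map (CommRingCat.ofHom φ.toRingHom) ≫ β = α ≫ f := by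
    simp only [α, β]
    rw [← Category.assoc, ← Spec.map_comp, hcomp, Scheme.SpecMap_stalkMap_fromSpecStalk]
  obtain ⟨γ, hγ1, hγ2⟩ := H (X.presheaf.stalk x) (P ⧸ RingHom.ker F.toRingHom ^ 2) φ.toRingHom
    hφsurj hker α β hα hsq
  have hγcp : γ (closedPoint (P ⧸ RingHom.ker F.toRingHom ^ 2)) = x := by
    have h1 : (Spec.map (CommRingCat.ofHom φ.toRingHom)) (closedPoint (X.presheaf.stalk x)) =
        closedPoint (P ⧸ RingHom.ker F.toRingHom ^ 2) :=
      Spec_closedPoint (f := CommRingCat.ofHom φ.toRingHom)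
    rw [← h1, ← Scheme.Hom.comp_apply, hγ1]
    exact hα
  obtain ⟨c, hc_loc, hc⟩ :=
    exists_stalk_hom (CommRingCat.of (P ⧸ RingHom.ker F.toRingHom ^ 2)) γ x hγcp
  have h1 : c ≫ CommRingCat.ofHom φ.toRingHom = 𝟙 (X.presheaf.stalk x) := by
    haveI : IsLocalHom (c ≫ CommRingCat.ofHom φ.toRingHom).hom := by
      rw [CommRingCat.hom_comp]; infer_instance
    haveI : IsLocalHom (𝟙 (X.presheaf.stalk x) : X.presheaf.stalk x ⟶ _).hom :=
      ⟨fun a ha => ha⟩
    apply stalk_hom_ext (CommRingCat.of (X.presheaf.stalk x)) x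
    rw [Spec.map_comp, Category.assoc, hc, hγ1, Spec.map_id]
    exact (Category.id_comp _).symm
  have hloc2 : IsLocalHom (CommRingCat.ofHom (algebraMap (Y.presheaf.stalk (f x))
      (P ⧸ RingHom.ker F.toRingHom ^ 2))).hom := by
    haveI : IsLocalHom ((CommRingCat.ofHom φ.toRingHom).hom.comp
        (CommRingCat.ofHom (algebraMap (Y.presheaf.stalk (f x))
          (P ⧸ RingHom.ker F.toRingHom ^ 2))).hom) := by
      rw [← CommRingCat.hom_comp, hcomp]; infer_instance
    exact isLocalHom_of_comp _ (CommRingCat.ofHom φ.toRingHom).hom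
  have h2 : f.stalkMap x ≫ c = CommRingCat.ofHom (algebraMap (Y.presheaf.stalk (f x))
      (P ⧸ RingHom.ker F.toRingHom ^ 2)) := by
    haveI : IsLocalHom (f.stalkMap x ≫ c).hom := by
      rw [CommRingCat.hom_comp]; infer_instance
    apply stalk_hom_ext (CommRingCat.of (P ⧸ RingHom.ker F.toRingHom ^ 2)) (f x)
    rw [Spec.map_comp, Category.assoc, Scheme.SpecMap_stalkMap_fromSpecStalk, ← Category.assoc,
      hc, hγ2]
  let g : X.presheaf.stalk x →ₐ[Y.presheaf.stalk (f x)] (P ⧸ RingHom.ker F.toRingHom ^ 2) :=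
    ⟨c.hom, fun r => congrArg (fun t => t.hom r) h2⟩
  exact Algebra.FormallySmooth.of_split F g
    (AlgHom.ext fun s => congrArg (fun t => t.hom s) h1)

end Groth.Agent.Lib.Helper6.LocLift
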