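import Mathlib

set_option autoImplicit false

namespace Groth.Agent.Lib.Helper6.LocSub

open IsLocalRing LocalSubring

universe u

variable {K : Type u} [Field K]

section Basic

variable (A : Subring K) (P : Ideal A) [P.IsPrime]

lemma coe_algebraMap (a : A) : ((algebraMap A (ofPrime A P).toSubring a : (ofPrime A P).toSubring) : K) = a := rfl

lemma mem_ofPrime_iff (x : K) :
    x ∈ (ofPrime A P).toSubring ↔ ∃ a s : A, s ∉ P ∧ x * (s : K) = (a : K) := by
  constructor
  · intro hx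
    obtain ⟨⟨a, s⟩, h⟩ := IsLocalization.surj P.primeCompl (⟨x, hx⟩ : (ofPrime A P).toSubring)
    exact ⟨a, s.1, s.2, congrArg Subtype.val h⟩
  · rintro ⟨a, s, hs, h⟩
    have hu : IsUnit (algebraMap A (ofPrime A P).toSubring s) :=
      IsLocalization.map_units _ (⟨s, hs⟩ : P.primeCompl)
    obtain ⟨u, hu'⟩ := hu
    have h1 : (s : K) * ((↑u⁻¹ : (ofPrime A P).toSubring) : K) = 1 := by
      have := congrArg Subtype.val u.mul_inv
      rw [hu'] at this
      exact this
    have h2 : x = (a : K) * ((↑u⁻¹ : (ofPrime A P).toSubring) : K) := by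
      rw [← h, mul_assoc, h1, mul_one]
    rw [h2]
    exact mul_mem (le_ofPrime A P a.2) (SetLike.coe_mem _)

lemma mem_maximalIdeal_iff (a : A) :
    (⟨a, le_ofPrime A P a.2⟩ : (ofPrime A P).toSubring) ∈ maximalIdeal (ofPrime A P).toSubring ↔
      a ∈ P :=
  IsLocalization.AtPrime.to_map_mem_maximal_iff (ofPrime A P).toSubring P a

lemma ofPrime_congr {P P' : Ideal A} [P.IsPrime] [P'.IsPrime] (h : P = P') :
    ofPrime A P = ofPrime A P' := by
  subst h
  rfl

end Basic

section Dom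

variable (A : Subring K)

/-- The trace on `A` of the maximal ideal of a local subring containing `A`. -/
abbrev tr (Q : LocalSubring K) (hA : A ≤ Q.toSubring) : Ideal A :=
  (maximalIdeal Q.toSubring).comap (Subring.inclusion hA)

lemma mem_tr_iff (Q : LocalSubring K) (hA : A ≤ Q.toSubring) (a : A) :
    a ∈ tr A Q hA ↔ ¬ IsUnit (⟨a, hA a.2⟩ : Q.toSubring) := by
  rw [Ideal.mem_comap, mem_maximalIdeal, mem_nonunits_iff]
  rfl

/-- `A_{m_Q ∩ A}` is dominated by `Q`. -/
lemma ofPrime_tr_le (Q : LocalSubring K) (hA : A ≤ Q.toSubring) :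
    ofPrime A (tr A Q hA) ≤ Q := by
  have hsub : (ofPrime A (tr A Q hA)).toSubring ≤ Q.toSubring := by
    intro x hx
    obtain ⟨a, s, hs, h⟩ := (mem_ofPrime_iff A _ x).1 hx
    rw [mem_tr_iff, not_not] at hs
    obtain ⟨u, hu⟩ := hs
    have h1 : (s : K) * ((↑u⁻¹ : Q.toSubring) : K) = 1 := by
      have := congrArg Subtype.val u.mul_inv
      rw [hu] at this
      exact this
    have h2 : x = (a : K) * ((↑u⁻¹ : Q.toSubring) : K) := by
      rw [← h, mul_assoc, h1, mul_one]
    rw [h2]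
    exact mul_mem (hA a.2) (SetLike.coe_mem _)
  refine ⟨hsub, ⟨?_⟩⟩
  rintro ⟨x, hx⟩ hxu
  obtain ⟨a, s, hs, h⟩ := (mem_ofPrime_iff A _ x).1 hx
  have hs' := hs
  rw [mem_tr_iff, not_not] at hs'
  -- `a = x * s` is a unit of `Q`
  have ha : IsUnit (⟨a, hA a.2⟩ : Q.toSubring) := by
    have : (⟨a, hA a.2⟩ : Q.toSubring) = (Subring.inclusion hsub ⟨x, hx⟩) * ⟨s, hA s.2⟩ :=
      Subtype.ext h.symm
    rw [this]
    exact hxu.mul hs'
  have ha' : a ∉ tr A Q hA := by rw [mem_tr_iff, not_not]; exact ha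
  have hua : IsUnit (algebraMap A (ofPrime A (tr A Q hA)).toSubring a) :=
    IsLocalization.map_units _ (⟨a, ha'⟩ : (tr A Q hA).primeCompl)
  have hus : IsUnit (algebraMap A (ofPrime A (tr A Q hA)).toSubring s) :=
    IsLocalization.map_units _ (⟨s, hs⟩ : (tr A Q hA).primeCompl)
  have hxs : (⟨x, hx⟩ : (ofPrime A (tr A Q hA)).toSubring) *
      algebraMap A (ofPrime A (tr A Q hA)).toSubring s =
      algebraMap A (ofPrime A (tr A Q hA)).toSubring a := Subtype.ext h
  have := hxs ▸ hua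
  exact (IsUnit.mul_iff.1 this).1

/-- If `A_P` is dominated by `Q` then `m_Q ∩ A = P`. -/
lemma tr_eq_of_le (P : Ideal A) [P.IsPrime] (Q : LocalSubring K) (h : ofPrime A P ≤ Q) :
    tr A Q ((le_ofPrime A P).trans h.1) = P := by
  obtain ⟨hsub, hloc⟩ := h
  ext a
  rw [mem_tr_iff, ← mem_maximalIdeal_iff A P a, mem_maximalIdeal, mem_nonunits_iff, not_iff_not]
  constructor
  · intro hu
    exact hloc.map_nonunit (⟨a, le_ofPrime A P a.2⟩ : (ofPrime A P).toSubring) hu
  · intro hu
    exact hu.map (Subring.inclusion hsub)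

lemma mem_of_mul_eq (S : Subring K) {x t c : K} (hc : c ∈ S) (ht : t ∈ S)
    (hu : IsUnit (⟨t, ht⟩ : S)) (h : x * t = c) : x ∈ S := by
  obtain ⟨u, hu'⟩ := hu
  have h1 : t * ((↑u⁻¹ : S) : K) = 1 := by
    have := congrArg Subtype.val u.mul_inv
    rw [hu'] at this
    exact this
  have h2 : x = c * ((↑u⁻¹ : S) : K) := by
    rw [← h, mul_assoc, h1, mul_one]
  rw [h2]
  exact mul_mem hc (SetLike.coe_mem _)

/-- The trace of the maximal ideal of `C_r` on a subring `A ≤ C`. -/
lemma tr_ofPrime {C : Subring K} (hAC : A ≤ C) (r : Ideal C) [r.IsPrime] :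
    tr A (ofPrime C r) (hAC.trans (le_ofPrime C r)) = r.comap (Subring.inclusion hAC) := by
  ext a
  rw [mem_tr_iff, Ideal.mem_comap, ← mem_maximalIdeal_iff C r (Subring.inclusion hAC a),
    mem_maximalIdeal, mem_nonunits_iff]
  rfl

end Dom

section Main

variable (A B : Subring K)

theorem main :
    [ ∀ (Q : LocalSubring K) (hA : A ≤ Q.toSubring) (hB : B ≤ Q.toSubring),
        LocalSubring.ofPrime A ((IsLocalRing.maximalIdeal Q.toSubring).comap (Subring.inclusion hA)) =
          LocalSubring.ofPrime B ((IsLocalRing.maximalIdeal Q.toSubring).comap (Subring.inclusion hB)),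
      ∀ r : PrimeSpectrum ↥(A ⊔ B),
        LocalSubring.ofPrime A (r.asIdeal.comap (Subring.inclusion (le_sup_left : A ≤ A ⊔ B))) =
          LocalSubring.ofPrime B (r.asIdeal.comap (Subring.inclusion (le_sup_right : B ≤ A ⊔ B))),
      ∀ (p : PrimeSpectrum A) (q : PrimeSpectrum B),
        (∃ Q : LocalSubring K, LocalSubring.ofPrime A p.asIdeal ≤ Q ∧ LocalSubring.ofPrime B q.asIdeal ≤ Q) →
          LocalSubring.ofPrime A p.asIdeal = LocalSubring.ofPrime B q.asIdeal,
      Set.range (fun p : PrimeSpectrum A ↦ LocalSubring.ofPrime A p.asIdeal) ∩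
          Set.range (fun q : PrimeSpectrum B ↦ LocalSubring.ofPrime B q.asIdeal) =
        Set.range (fun r : PrimeSpectrum ↥(A ⊔ B) ↦ LocalSubring.ofPrime (A ⊔ B) r.asIdeal) ].TFAE := by
  have hAC : A ≤ A ⊔ B := le_sup_left
  have hBC : B ≤ A ⊔ B := le_sup_right
  tfae_have 1 → 2 := by
    intro h1 r
    have hA : A ≤ (ofPrime (A ⊔ B) r.asIdeal).toSubring := hAC.trans (le_ofPrime _ _)
    have hB : B ≤ (ofPrime (A ⊔ B) r.asIdeal).toSubring := hBC.trans (le_ofPrime _ _)
    have := h1 (ofPrime (A ⊔ B) r.asIdeal) hA hB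
    rw [ofPrime_congr A (tr_ofPrime A hAC r.asIdeal).symm,
      ofPrime_congr B (tr_ofPrime B hBC r.asIdeal).symm]
    exact this
  tfae_have 2 → 1 := by
    intro h2 Q hA hB
    have hC : A ⊔ B ≤ Q.toSubring := sup_le hA hB
    have := h2 ⟨tr (A ⊔ B) Q hC, inferInstance⟩
    exact this
  tfae_have 1 → 3 := by
    rintro h1 p q ⟨Q, hp, hq⟩
    have hA : A ≤ Q.toSubring := (le_ofPrime A p.asIdeal).trans hp.1
    have hB : B ≤ Q.toSubring := (le_ofPrime B q.asIdeal).trans hq.1
    have := h1 Q hA hB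
    rw [ofPrime_congr A (tr_eq_of_le A p.asIdeal Q hp).symm,
      ofPrime_congr B (tr_eq_of_le B q.asIdeal Q hq).symm]
    exact this
  tfae_have 3 → 1 := by
    intro h3 Q hA hB
    exact h3 ⟨tr A Q hA, inferInstance⟩ ⟨tr B Q hB, inferInstance⟩
      ⟨Q, ofPrime_tr_le A Q hA, ofPrime_tr_le B Q hB⟩
  tfae_have 2 → 4 := by
    intro h2
    ext E
    constructor
    · rintro ⟨⟨p, hp⟩, ⟨q, hq⟩⟩
      simp only at hp hq
      subst hp
      have hA : A ≤ (ofPrime A p.asIdeal).toSubring := le_ofPrime _ _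
      have hB : B ≤ (ofPrime A p.asIdeal).toSubring := hq ▸ le_ofPrime B q.asIdeal
      have hC : A ⊔ B ≤ (ofPrime A p.asIdeal).toSubring := sup_le hA hB
      refine ⟨⟨tr (A ⊔ B) (ofPrime A p.asIdeal) hC, inferInstance⟩, ?_⟩
      simp only
      have hle := ofPrime_tr_le (A ⊔ B) (ofPrime A p.asIdeal) hC
      apply toSubring_injective
      apply le_antisymm hle.1
      intro x hx
      obtain ⟨a, s, hs, h⟩ := (mem_ofPrime_iff A _ x).1 hx
      rw [mem_ofPrime_iff]
      refine ⟨Subring.inclusion hAC a, Subring.inclusion hAC s, ?_, h⟩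
      rw [mem_tr_iff]
      rw [← tr_eq_of_le A p.asIdeal (ofPrime A p.asIdeal) le_rfl, mem_tr_iff] at hs
      exact hs
    · rintro ⟨r, hr⟩
      simp only at hr
      subst hr
      have h2r := h2 r
      have hA : A ≤ (ofPrime (A ⊔ B) r.asIdeal).toSubring := hAC.trans (le_ofPrime _ _)
      have hB : B ≤ (ofPrime (A ⊔ B) r.asIdeal).toSubring := hBC.trans (le_ofPrime _ _)
      have hleA : ofPrime A (r.asIdeal.comap (Subring.inclusion hAC)) ≤ ofPrime (A ⊔ B) r.asIdeal := by
        rw [ofPrime_congr A (tr_ofPrime A hAC r.asIdeal).symm]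
        exact ofPrime_tr_le A _ hA
      have key : ofPrime A (r.asIdeal.comap (Subring.inclusion hAC)) = ofPrime (A ⊔ B) r.asIdeal := by
        apply toSubring_injective
        apply le_antisymm hleA.1
        intro x hx
        obtain ⟨c, t, ht, h⟩ := (mem_ofPrime_iff (A ⊔ B) _ x).1 hx
        have hCE : A ⊔ B ≤ (ofPrime A (r.asIdeal.comap (Subring.inclusion hAC))).toSubring := by
          apply sup_le (le_ofPrime _ _)
          rw [h2r]
          exact le_ofPrime _ _
        have htu : IsUnit (⟨t, hCE t.2⟩ :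
            (ofPrime A (r.asIdeal.comap (Subring.inclusion hAC))).toSubring) := by
          apply hleA.2.map_nonunit
          have : ¬ (⟨t, le_ofPrime (A ⊔ B) r.asIdeal t.2⟩ : (ofPrime (A ⊔ B) r.asIdeal).toSubring) ∈
              maximalIdeal (ofPrime (A ⊔ B) r.asIdeal).toSubring := by
            rw [mem_maximalIdeal_iff]
            exact ht
          rw [mem_maximalIdeal, mem_nonunits_iff, not_not] at this
          exact this
        exact mem_of_mul_eq _ (hCE c.2) (hCE t.2) htu h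
      refine ⟨⟨⟨r.asIdeal.comap (Subring.inclusion hAC), inferInstance⟩, key⟩,
        ⟨⟨r.asIdeal.comap (Subring.inclusion hBC), inferInstance⟩, ?_⟩⟩
      simp only
      rw [← key]
      exact (h2 r).symm
  tfae_have 4 → 2 := by
    intro h4 r
    have hmem : ofPrime (A ⊔ B) r.asIdeal ∈
        Set.range (fun r : PrimeSpectrum ↥(A ⊔ B) ↦ LocalSubring.ofPrime (A ⊔ B) r.asIdeal) :=
      ⟨r, rfl⟩
    rw [← h4] at hmem
    obtain ⟨⟨p, hp⟩, ⟨q, hq⟩⟩ := hmem
    simp only at hp hq
    have e1 := tr_eq_of_le A p.asIdeal _ hp.le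
    have e2 := tr_eq_of_le B q.asIdeal _ hq.le
    rw [tr_ofPrime A hAC r.asIdeal] at e1
    rw [tr_ofPrime B hBC r.asIdeal] at e2
    rw [ofPrime_congr A e1, ofPrime_congr B e2, hp, hq]
  tfae_finish

end Main

end Groth.Agent.Lib.Helper6.LocSub
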