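import Mathlib
import Groth.Agent.Lib.Helper6UnrFibre

set_option autoImplicit false
universe u
open CategoryTheory CategoryTheory.Limits AlgebraicGeometry TopologicalSpace

namespace Groth.Agent.Lib.Helper6.MonoFibre

open IsLocalRing UnrFibre

theorem bijective_quotientMap_iff {R S : Type u} [CommRing R] [CommRing S] [IsLocalRing R]
    [IsLocalRing S] (φ : R →+* S) [hloc : IsLocalHom φ] (hφ : φ.EssFiniteType) :
    Function.Bijective (Ideal.quotientMap ((maximalIdeal R).map φ) φ Ideal.le_comap_map) ↔
      φ.FormallyUnramified ∧ (ResidueField.map φ).IsPurelyInseparable := by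
  rw [formallyUnramified_iff_fibre φ hφ]
  algebraize [φ]
  haveI : IsLocalHom (algebraMap R S) := hloc
  letI alg : Algebra (ResidueField R) (S ⧸ (maximalIdeal R).map (algebraMap R S)) :=
    (Ideal.quotientMap ((maximalIdeal R).map (algebraMap R S)) (algebraMap R S)
      Ideal.le_comap_map).toAlgebra
  have hmap : ResidueField.map φ = algebraMap (ResidueField R) (ResidueField S) := by
    ext x
    obtain ⟨r, rfl⟩ := residue_surjective x
    rfl
  rw [hmap, RingHom.isPurelyInseparable_algebraMap_iff]
  change Function.Bijective (algebraMap (ResidueField R)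
      (S ⧸ (maximalIdeal R).map (algebraMap R S))) ↔
    (IsField (S ⧸ (maximalIdeal R).map (algebraMap R S)) ∧
      Module.Finite (ResidueField R) (S ⧸ (maximalIdeal R).map (algebraMap R S)) ∧
      Algebra.IsSeparable (ResidueField R) (S ⧸ (maximalIdeal R).map (algebraMap R S))) ∧
    IsPurelyInseparable (ResidueField R) (ResidueField S)
  constructor
  · intro hq
    have h1 : IsField (S ⧸ (maximalIdeal R).map (algebraMap R S)) :=
      MulEquiv.isField (Field.toIsField (ResidueField R))
        (RingEquiv.ofBijective _ hq).symm.toMulEquiv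
    have H : (maximalIdeal R).map (algebraMap R S) = maximalIdeal S :=
      eq_maximalIdeal ((Ideal.Quotient.maximal_ideal_iff_isField_quotient _).mpr h1)
    refine ⟨⟨h1, ?_, ?_⟩, ?_⟩
    · exact Module.Finite.of_surjective (Algebra.linearMap (ResidueField R) _) hq.2
    · exact ⟨fun x => by
        obtain ⟨a, rfl⟩ := hq.2 x
        exact isSeparable_algebraMap a⟩
    · let e := quotEquiv H
      rw [isPurelyInseparable_iff]
      intro x
      obtain ⟨a, ha⟩ := hq.2 (e.symm x)
      have hx : algebraMap (ResidueField R) (ResidueField S) a = x := by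
        rw [← e.commutes, ha, AlgEquiv.apply_symm_apply]
      exact ⟨hx ▸ isIntegral_algebraMap, fun _ => ⟨a, hx⟩⟩
  · rintro ⟨⟨h1, h2, h3⟩, h4⟩
    have H : (maximalIdeal R).map (algebraMap R S) = maximalIdeal S :=
      eq_maximalIdeal ((Ideal.Quotient.maximal_ideal_iff_isField_quotient _).mpr h1)
    let e := quotEquiv H
    haveI : Algebra.IsSeparable (ResidueField R) (ResidueField S) :=
      AlgEquiv.Algebra.isSeparable e
    have hs := IsPurelyInseparable.surjective_algebraMap_of_isSeparable (ResidueField R)
      (ResidueField S)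
    haveI : Nontrivial (S ⧸ (maximalIdeal R).map (algebraMap R S)) := h1.nontrivial
    refine ⟨RingHom.injective _, fun x => ?_⟩
    obtain ⟨a, ha⟩ := hs (e x)
    refine ⟨a, e.injective ?_⟩
    rw [e.commutes, ha]

theorem mono_iff_fibre {X Y : Scheme.{u}} (f : X ⟶ Y) [LocallyOfFiniteType f] :
    Mono f ↔ ∀ x : ↥X,
      (∀ x' : ↥X, f.base x' = f.base x → x' = x) ∧
        Function.Bijective
          (Ideal.quotientMap
            ((IsLocalRing.maximalIdeal ↑(Y.presheaf.stalk (f.base x))).map (f.stalkMap x).hom)
            (f.stalkMap x).hom Ideal.le_comap_map) := by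
  have hiff : ∀ x : X, Function.Bijective
      (Ideal.quotientMap
        ((IsLocalRing.maximalIdeal ↑(Y.presheaf.stalk (f.base x))).map (f.stalkMap x).hom)
        (f.stalkMap x).hom Ideal.le_comap_map) ↔
      (f.stalkMap x).hom.FormallyUnramified ∧ (f.residueFieldMap x).hom.IsPurelyInseparable :=
    fun x => bijective_quotientMap_iff (f.stalkMap x).hom (LocallyOfFiniteType.stalkMap f x)
  constructor
  · intro hmono x
    have hui : UniversallyInjective f := inferInstance
    have h3 : Function.Injective f ∧ ∀ x, (f.residueFieldMap x).hom.IsPurelyInseparable :=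
      ((tfae_universallyInjective f).out 0 2).mp hui
    haveI : IsIso (pullback.diagonal f) := (pullback.isIso_diagonal_iff f).mpr hmono
    haveI : FormallyUnramified f := inferInstance
    exact ⟨fun x' hx' => h3.1 hx', (hiff x).mpr ⟨FormallyUnramified.stalkMap f x, h3.2 x⟩⟩
  · intro H
    have hinj : Function.Injective f := fun a b hab => (H b).1 a hab
    haveI hun : FormallyUnramified f :=
      (formallyUnramified_iff_forall_stalkMap f).mpr fun x => ((hiff x).mp (H x).2).1
    have h3 : Function.Injective f ∧ ∀ x, (f.residueFieldMap x).hom.IsPurelyInseparable :=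
      ⟨hinj, fun x => ((hiff x).mp (H x).2).2⟩
    have hui : UniversallyInjective f := ((tfae_universallyInjective f).out 0 2).mpr h3
    have hsurj : Surjective (pullback.diagonal f) := (UniversallyInjective.iff_diagonal f).mp hui
    haveI : IsOpenImmersion (pullback.diagonal f) := inferInstance
    haveI : IsIso (pullback.diagonal f) :=
      (isIso_iff_isOpenImmersion_and_surjective _).mpr ⟨inferInstance, hsurj⟩
    exact (pullback.isIso_diagonal_iff f).mp inferInstance

end Groth.Agent.Lib.Helper6.MonoFibre
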