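import Groth.Agent.Lib.Helper6DegComp
import Groth.Agent.Lib.Helper27LesDim
import Groth.Agent.Lib.Helper4CurveRR
import Groth.Agent.Lib.Helper4CurveAsym
import Groth.Agent.Lib.Helper6GG2g
import Groth.Agent.Lib.Helper23InvDual
import Groth.Agent.Lib.Helper23LocGen
import Groth.Agent.Lib.Helper6Genus1Pic

/-!
# Nef invertible modules on proper one-dimensional schemes with `H¹(O) = 0` (helper6):
S16295, S16296, S14092
-/

set_option autoImplicit false
set_option linter.style.haveILetI false
universe u
open CategoryTheory Limits AlgebraicGeometry Opposite TopologicalSpace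

namespace Groth.Agent.Lib.Helper6.NefH1

open Groth.Agent.Lib.Helper4.Dev Groth.Agent.Lib.Helper27LesDim Groth.Agent.Lib.Helper27LesLin Groth.Agent.Lib.Helper27CohFin
  Groth.Agent.Lib.Helper4.CurveAsym

section Les

variable (k : Type u) [Field k] (X : Scheme.{u}) [X.Over (Spec (CommRingCat.of k))]
  [IsProper (X ↘ (Spec (CommRingCat.of k)))]

omit [IsProper (X ↘ (Spec (CommRingCat.of k)))] in
theorem surjective_H1_g (S : ShortComplex X.Modules) (hS : S.ShortExact)
    (h2 : Subsingleton (Coh.HH X S.X₁ (1 + 1))) : Function.Surjective (Canon.HHlin k S.g 1) := by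
  have h := range_g_eq_ker_delta k S hS 1
  intro y
  have hy : y ∈ LinearMap.ker (deltaLin k S hS 1) := by
    rw [LinearMap.mem_ker]
    exact Subsingleton.elim _ _
  rw [← h] at hy
  exact hy

/-- `H¹` is right exact in dimension `≤ 1` -/
theorem surjective_H1_of_epi (hdim : topologicalKrullDim X ≤ 1) {A B : X.Modules} (e : A ⟶ B) [Epi e]
    (cA : Coh.IsCoh A) (cB : Coh.IsCoh B) : Function.Surjective (Canon.HHlin k e 1) := by
  haveI : IsLocallyNoetherian X := LocallyOfFiniteType.isLocallyNoetherian (X ↘ (Spec (CommRingCat.of k)))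
  have hS := sesOfEpi_shortExact e
  have cK := isCoh_kernel e cA cB
  have h2 : Subsingleton (Coh.HH X (sesOfEpi e).X₁ (1 + 1)) :=
    Groth.Agent.Lib.Helper4.CurveRR.HH_subsingleton k X hdim (kernel e) cK 2 le_rfl
  exact surjective_H1_g k X (sesOfEpi e) hS h2

theorem finrank_H1_le_of_epi (hdim : topologicalKrullDim X ≤ 1) {A B : X.Modules} (e : A ⟶ B) [Epi e]
    (cA : Coh.IsCoh A) (cB : Coh.IsCoh B) :
    Module.finrank k (Coh.HH X B 1) ≤ Module.finrank k (Coh.HH X A 1) := by
  haveI : Module.Finite k (Coh.HH X A 1) := Groth.Agent.S0002.result k X _ cA 1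
  exact LinearMap.finrank_le_finrank_of_surjective (surjective_H1_of_epi k X hdim e cA cB)

omit [IsProper (X ↘ (Spec (CommRingCat.of k)))] in
/-- `H¹(g)` is injective when `H¹` of the kernel vanishes -/
theorem injective_H1_g (S : ShortComplex X.Modules) (hS : S.ShortExact)
    (h1 : Subsingleton (Coh.HH X S.X₁ 1)) : Function.Injective (Canon.HHlin k S.g 1) := by
  rw [injective_iff_map_eq_zero]
  intro x hx
  have hx' : x ∈ LinearMap.ker (Canon.HHlin k S.g 1) := hx
  rw [← range_f_eq_ker_g k S hS 1] at hx'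
  obtain ⟨y, rfl⟩ := hx'
  rw [Subsingleton.elim y 0, map_zero]

/-- `h⁰` is additive when `H¹` of the kernel vanishes -/
theorem h0_add (S : ShortComplex X.Modules) (hS : S.ShortExact)
    (c₂ : Coh.IsCoh S.X₂) (h1 : Subsingleton (Coh.HH X S.X₁ 1)) :
    Module.finrank k (Coh.HH X S.X₂ 0) =
      Module.finrank k (Coh.HH X S.X₁ 0) + Module.finrank k (Coh.HH X S.X₃ 0) := by
  haveI : Module.Finite k (Coh.HH X S.X₂ 0) := Groth.Agent.S0002.result k X _ c₂ 0
  have e2 := LinearMap.finrank_range_add_finrank_ker (Canon.HHlin k S.g 0)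
  have e4 : Module.finrank k (LinearMap.range (Canon.HHlin k S.f 0)) =
      Module.finrank k (Coh.HH X S.X₁ 0) :=
    LinearMap.finrank_range_of_inj (injective_HHlin_f_zero k S hS)
  have e5 : LinearMap.range (Canon.HHlin k S.g 0) = ⊤ := by
    rw [range_g_eq_ker_delta k S hS 0, eq_top_iff]
    intro x _
    rw [LinearMap.mem_ker]
    exact Subsingleton.elim (α := Coh.HH X S.X₁ (0 + 1)) _ _
  rw [← range_f_eq_ker_g k S hS 0, e4, e5, finrank_top] at e2
  omega

end Les


section Main

open Groth.Agent.Lib.Helper27GlobGenPn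

variable (k : Type u) [Field k] (X : Scheme.{u}) [X.Over (Spec (CommRingCat.of k))]
  [IsProper (X ↘ (Spec (CommRingCat.of k)))]

/-- **key induction**: if `H¹(O) = 0` and twisting by `L'` never increases `χ`, then twisting by `L'` never
decreases `h¹` -/
theorem h1_le_aux (hdim : topologicalKrullDim X ≤ 1)
    (h1O : Subsingleton (Coh.HH X (Coh.structureModule X) 1))
    (L' : X.Modules) (hL' : PicF.IsInvertible L')
    (hχ : ∀ N : X.Modules, Coh.IsCoh N → Curv2.euler k X (CohB1.tensorMod N L') ≤ Curv2.euler k X N) :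
    ∀ (b : ℕ) (N : X.Modules), Coh.IsCoh N → Module.finrank k (Coh.HH X N 0) = b →
      Module.finrank k (Coh.HH X N 1) ≤ Module.finrank k (Coh.HH X (CohB1.tensorMod N L') 1) := by
  haveI : IsLocallyNoetherian X := LocallyOfFiniteType.isLocallyNoetherian (X ↘ (Spec (CommRingCat.of k)))
  have hL'1 := Groth.Agent.Lib.Helper23.SecTw.isFinLocFreeOfRank_one_of_isInvertible L' hL'
  have cO := isCoh_structureModule X
  intro b
  induction b using Nat.strong_induction_on with
  | _ b ih =>
    intro N cN hb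
    by_contra hlt
    rw [not_le] at hlt
    have cNL : Coh.IsCoh (CohB1.tensorMod N L') :=
      Groth.Agent.Lib.Helper4.CurveChi.isCoh_tensorMod_locFree N L' cN 1 hL'1
    have e1 := Groth.Agent.Lib.Helper4.CurveRR.euler_eq_h0_sub_h1 k X hdim N cN
    have e2 := Groth.Agent.Lib.Helper4.CurveRR.euler_eq_h0_sub_h1 k X hdim _ cNL
    have hχN := hχ N cN
    have hpos : 0 < Module.finrank k (Coh.HH X N 0) := by
      zify at hlt ⊢
      have hnn : (0 : ℤ) ≤ Module.finrank k (Coh.HH X (CohB1.tensorMod N L') 0) := Int.natCast_nonneg _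
      linarith
    haveI : Module.Finite k (Coh.HH X N 0) := Groth.Agent.S0002.result k X _ cN 0
    haveI : Module.Finite k (Coh.structureModule X ⟶ N) :=
      Module.Finite.equiv (homH0Equiv k N).symm
    have hhom : 0 < Module.finrank k (Coh.structureModule X ⟶ N) := by
      rw [finrank_hom_eq k N]
      exact hpos
    obtain ⟨s, hs⟩ := Module.finrank_pos_iff_exists_ne_zero.1 hhom
    -- the image of `s`
    have cK : Coh.IsCoh (Abelian.image s) := isCoh_image s cO cN
    let m : Abelian.image s ⟶ N := Abelian.image.ι s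
    let q : Coh.structureModule X ⟶ Abelian.image s := Abelian.factorThruImage s
    have hq : q ≫ m = s := Abelian.image.fac s
    haveI : Epi q := inferInstanceAs (Epi (Abelian.factorThruImage s))
    haveI : Mono m := inferInstanceAs (Mono (Abelian.image.ι s))
    have hK1 : Subsingleton (Coh.HH X (Abelian.image s) 1) :=
      (surjective_H1_of_epi k X hdim q cO cK).subsingleton
    have hq0 : q ≠ 0 := fun h => hs (by rw [← hq, h, zero_comp])
    haveI : Module.Finite k (Coh.HH X (Abelian.image s) 0) := Groth.Agent.S0002.result k X _ cK 0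
    haveI : Module.Finite k (Coh.structureModule X ⟶ Abelian.image s) :=
      Module.Finite.equiv (homH0Equiv k (Abelian.image s)).symm
    have hK0 : 0 < Module.finrank k (Coh.HH X (Abelian.image s) 0) := by
      rw [← finrank_hom_eq k (Abelian.image s)]
      exact Module.finrank_pos_iff_exists_ne_zero.2 ⟨q, hq0⟩
    have hS := sesOfMono_shortExact m
    have cN₁ : Coh.IsCoh (cokernel m) := isCoh_cokernel m cK cN
    have hadd : Module.finrank k (Coh.HH X N 0) =
        Module.finrank k (Coh.HH X (Abelian.image s) 0) + Module.finrank k (Coh.HH X (cokernel m) 0) :=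
      h0_add k X (sesOfMono m) hS cN hK1
    have hlt₁ : Module.finrank k (Coh.HH X (cokernel m) 0) < b := by omega
    have ih₁ := ih _ hlt₁ (cokernel m) cN₁ rfl
    have hinj : Function.Injective (Canon.HHlin k (cokernel.π m) 1) :=
      injective_H1_g k X (sesOfMono m) hS hK1
    haveI : Module.Finite k (Coh.HH X (cokernel m) 1) := Groth.Agent.S0002.result k X _ cN₁ 1
    have h3 : Module.finrank k (Coh.HH X N 1) ≤ Module.finrank k (Coh.HH X (cokernel m) 1) :=
      LinearMap.finrank_le_finrank_of_injective hinj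
    have cN₁L : Coh.IsCoh (CohB1.tensorMod (cokernel m) L') :=
      Groth.Agent.Lib.Helper4.CurveChi.isCoh_tensorMod_locFree _ L' cN₁ 1 hL'1
    haveI : Epi (wl (cokernel.π m) L') :=
      (Groth.Agent.Lib.Helper27SerreVan.tw L').map_epi (cokernel.π m)
    have h4 := finrank_H1_le_of_epi k X hdim (wl (cokernel.π m) L') cNL cN₁L
    omega

end Main


section Chi

open Groth.Agent.Lib.Helper6.DegComp Groth.Agent.Lib.Helper10.RatFunNoeth Groth.Agent.Lib.Helper4.CurveChi

variable (k : Type u) [Field k] (X : Scheme.{u}) [X.Over (Spec (CommRingCat.of k))]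
  [IsProper (X ↘ (Spec (CommRingCat.of k)))] [AlgebraicGeometry.IsNoetherian X]

omit [X.Over (Spec (CommRingCat.of k))] [IsProper (X ↘ (Spec (CommRingCat.of k)))] in
/-- the reduced component has the dimension of the component -/
theorem dim_compIdeal (Z : irreducibleComponents (X : Type u)) :
    topologicalKrullDim (compIdeal X Z).subscheme = topologicalKrullDim (Z.1 : Set X) := by
  let h1 : (compIdeal X Z).subscheme ≃ₜ Set.range (compIdeal X Z).subschemeι :=
    (compIdeal X Z).subschemeι.isEmbedding.toHomeomorph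
  let h2 : Set.range (compIdeal X Z).subschemeι ≃ₜ (Z.1 : Set X) :=
    Homeomorph.setCongr (range_compIdeal X Z)
  exact IsHomeomorph.topologicalKrullDim_eq _ (h1.trans h2).isHomeomorph

open Classical in
/-- twisting by the inverse of a nef invertible module does not increase `χ` -/
theorem euler_tensor_le (hdim : topologicalKrullDim X ≤ 1) (L L' : X.Modules)
    (hL : PicF.IsInvertible L) (hL' : PicF.IsInvertible L')
    (e : CohB1.tensorMod L' L ≅ Coh.structureModule X)
    (hnef : ∀ J : X.IdealSheafData, IsIntegral J.subscheme → topologicalKrullDim J.subscheme = 1 →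
      0 ≤ @Curv2.deg k _ J.subscheme ⟨J.subschemeι ≫ (X ↘ (Spec (CommRingCat.of k)))⟩
        ((Scheme.Modules.pullback J.subschemeι).obj L) 1)
    (N : X.Modules) (cN : Coh.IsCoh N) :
    Curv2.euler k X (CohB1.tensorMod N L') ≤ Curv2.euler k X N := by
  haveI : IsLocallyNoetherian X := inferInstance
  have hL1 := Groth.Agent.Lib.Helper23.SecTw.isFinLocFreeOfRank_one_of_isInvertible L hL
  have hL'1 := Groth.Agent.Lib.Helper23.SecTw.isFinLocFreeOfRank_one_of_isInvertible L' hL'
  have cF : Coh.IsCoh (CohB1.tensorMod N L') := isCoh_tensorMod_locFree N L' cN 1 hL'1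
  have hle : ∀ Z : irreducibleComponents (X : Type u), topologicalKrullDim (Z.1 : Set X) ≤ 1 :=
    fun Z => (topologicalKrullDim_subspace_le X Z.1).trans hdim
  let w : irreducibleComponents (X : Type u) → ℤ := fun Z =>
    if topologicalKrullDim (Z.1 : Set X) ≤ 0 then 0 else
      @Curv2.deg k _ (compIdeal X Z).subscheme
        ⟨(compIdeal X Z).subschemeι ≫ (X ↘ (Spec (CommRingCat.of k)))⟩
        ((Scheme.Modules.pullback (compIdeal X Z).subschemeι).obj L) 1
  have hw0 : ∀ Z : irreducibleComponents (X : Type u), topologicalKrullDim (Z.1 : Set X) ≤ 0 → w Z = 0 :=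
    fun Z h => if_pos h
  have hw1 : ∀ Z : irreducibleComponents (X : Type u), ¬ topologicalKrullDim (Z.1 : Set X) ≤ 0 →
      w Z = @Curv2.deg k _ (compIdeal X Z).subscheme
        ⟨(compIdeal X Z).subschemeι ≫ (X ↘ (Spec (CommRingCat.of k)))⟩
        ((Scheme.Modules.pullback (compIdeal X Z).subschemeι).obj L) 1 := fun Z h => if_neg h
  have hwnn : ∀ Z : irreducibleComponents (X : Type u), 0 ≤ w Z := by
    intro Z
    by_cases h0 : topologicalKrullDim (Z.1 : Set X) ≤ 0
    · rw [hw0 Z h0]
    · rw [hw1 Z h0]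
      apply hnef (compIdeal X Z) (Groth.Agent.Lib.Helper4.CurveComp.isIntegral_radical_component X Z.1 Z.2)
      rw [dim_compIdeal X Z]
      refine le_antisymm (hle Z) ?_
      by_contra h1
      rw [not_le] at h1
      exact h0 (le_zero_of_lt_one _ h1)
  have h := main k X (fun Z hZ => hle ⟨Z, hZ⟩) w hw0 1 L hL1 hw1 (CohB1.tensorMod N L') cF
  unfold Groth.Agent.Lib.Helper6.DegComp.KK at h
  have hiso : CohB1.tensorMod (CohB1.tensorMod N L') L ≅ N :=
    Groth.Agent.Lib.Helper23.LocGen.tensorAssoc N L' L ≪≫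
      Groth.Agent.Lib.Helper6.G1Pic.wrIso N e ≪≫ Groth.Agent.Lib.Helper23.TensorUnit.tensorUnitIso N
  rw [euler_congr_iso k hiso] at h
  have hsum : 0 ≤ ∑ᶠ Z : irreducibleComponents (X : Type u), mult X Z (CohB1.tensorMod N L') * w Z := by
    apply finsum_nonneg
    intro Z
    apply mul_nonneg _ (hwnn Z)
    unfold mult
    exact Int.natCast_nonneg _
  rw [h]
  push_cast
  linarith

end Chi


section Thm

open Groth.Agent.Lib.Helper27GlobGenPn Groth.Agent.Lib.Helper21.ExtCartier Groth.Agent.Lib.Helper4.CurveGrd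
  Groth.Agent.Lib.Helper6.GGCurve Groth.Agent.Lib.Helper4.CurveChi

variable (k : Type u) [Field k] (X : Scheme.{u}) [X.Over (Spec (CommRingCat.of k))]
  [IsProper (X ↘ (Spec (CommRingCat.of k)))]

/-- **twisting by a nef invertible module does not increase `h¹`**, on a proper scheme of dimension `≤ 1`
with `H¹(O) = 0` -/
theorem h1_le (hdim : topologicalKrullDim X ≤ 1)
    (h1O : Subsingleton (Coh.HH X (Coh.structureModule X) 1))
    (L : X.Modules) (hL : PicF.IsInvertible L)
    (hnef : ∀ J : X.IdealSheafData, IsIntegral J.subscheme → topologicalKrullDim J.subscheme = 1 →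
      0 ≤ @Curv2.deg k _ J.subscheme ⟨J.subschemeι ≫ (X ↘ (Spec (CommRingCat.of k)))⟩
        ((Scheme.Modules.pullback J.subschemeι).obj L) 1)
    (N : X.Modules) (cN : Coh.IsCoh N) :
    Module.finrank k (Coh.HH X (CohB1.tensorMod N L) 1) ≤ Module.finrank k (Coh.HH X N 1) := by
  haveI : IsLocallyNoetherian X := LocallyOfFiniteType.isLocallyNoetherian (X ↘ (Spec (CommRingCat.of k)))
  haveI : AlgebraicGeometry.IsNoetherian X := Groth.Agent.Lib.Helper4.CurveRR.isNoetherian_of_proper k X
  have hL1 := Groth.Agent.Lib.Helper23.SecTw.isFinLocFreeOfRank_one_of_isInvertible L hL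
  have hL' := Groth.Agent.Lib.Helper23.InvDual.isInvertible_dual L hL
  obtain ⟨e'⟩ := Groth.Agent.Lib.Helper23.InvDual.nonempty_tensorMod_dual_iso L hL
  let e : CohB1.tensorMod (RefHull.dual L) L ≅ Coh.structureModule X :=
    Groth.Agent.Lib.Helper23.AmpleFam2.tensorBraid _ _ ≪≫ e'
  have cNL : Coh.IsCoh (CohB1.tensorMod N L) := isCoh_tensorMod_locFree N L cN 1 hL1
  have h := h1_le_aux k X hdim h1O (RefHull.dual L) hL'
    (fun M cM => euler_tensor_le k X hdim L (RefHull.dual L) hL hL' e hnef M cM)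
    _ (CohB1.tensorMod N L) cNL rfl
  have hiso : CohB1.tensorMod (CohB1.tensorMod N L) (RefHull.dual L) ≅ N :=
    Groth.Agent.Lib.Helper23.LocGen.tensorAssoc N L (RefHull.dual L) ≪≫
      Groth.Agent.Lib.Helper6.G1Pic.wrIso N e' ≪≫ Groth.Agent.Lib.Helper23.TensorUnit.tensorUnitIso N
  rw [(Groth.Agent.Lib.Helper4.CurveChi.HHequiv k hiso 1).finrank_eq] at h
  exact h

/-- **S16295, first half** -/
theorem subsingleton_H1 (hdim : topologicalKrullDim X ≤ 1)
    (h1O : Subsingleton (Coh.HH X (Coh.structureModule X) 1))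
    (L : X.Modules) (hL : PicF.IsInvertible L)
    (hnef : ∀ J : X.IdealSheafData, IsIntegral J.subscheme → topologicalKrullDim J.subscheme = 1 →
      0 ≤ @Curv2.deg k _ J.subscheme ⟨J.subschemeι ≫ (X ↘ (Spec (CommRingCat.of k)))⟩
        ((Scheme.Modules.pullback J.subschemeι).obj L) 1) :
    Subsingleton (Coh.HH X L 1) := by
  haveI : IsLocallyNoetherian X := LocallyOfFiniteType.isLocallyNoetherian (X ↘ (Spec (CommRingCat.of k)))
  have cL := Groth.Agent.Lib.Helper6.CurveDeg.isCoh_of_isInvertible L hL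
  have h := h1_le k X hdim h1O L hL hnef _ (isCoh_structureModule X)
  rw [Module.finrank_zero_of_subsingleton (M := Coh.HH X (Coh.structureModule X) 1),
    (Groth.Agent.Lib.Helper4.CurveChi.HHequiv k (Groth.Agent.Lib.Helper23.TensorUnit.unitTensorIso L) 1).finrank_eq] at h
  haveI : Module.Finite k (Coh.HH X L 1) := Groth.Agent.S0002.result k X _ cL 1
  exact Module.finrank_zero_iff.1 (Nat.le_zero.1 h)

/-- **S16296** -/
theorem h0_eq (hdim : topologicalKrullDim X ≤ 1)
    (h1O : Subsingleton (Coh.HH X (Coh.structureModule X) 1))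
    (L : X.Modules) (hL : PicF.IsInvertible L)
    (hnef : ∀ J : X.IdealSheafData, IsIntegral J.subscheme → topologicalKrullDim J.subscheme = 1 →
      0 ≤ @Curv2.deg k _ J.subscheme ⟨J.subschemeι ≫ (X ↘ (Spec (CommRingCat.of k)))⟩
        ((Scheme.Modules.pullback J.subschemeι).obj L) 1) :
    (Module.finrank k (Coh.HH X L 0) : ℤ) =
      Module.finrank k (Coh.HH X (Coh.structureModule X) 0) + Curv2.deg k X L 1 := by
  haveI : IsLocallyNoetherian X := LocallyOfFiniteType.isLocallyNoetherian (X ↘ (Spec (CommRingCat.of k)))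
  have cL := Groth.Agent.Lib.Helper6.CurveDeg.isCoh_of_isInvertible L hL
  haveI := subsingleton_H1 k X hdim h1O L hL hnef
  have e1 := Groth.Agent.Lib.Helper4.CurveRR.euler_eq_h0_sub_h1 k X hdim L cL
  have e2 := Groth.Agent.Lib.Helper4.CurveRR.euler_eq_h0_sub_h1 k X hdim _ (isCoh_structureModule X)
  rw [Module.finrank_zero_of_subsingleton (M := Coh.HH X L 1)] at e1
  rw [Module.finrank_zero_of_subsingleton (M := Coh.HH X (Coh.structureModule X) 1)] at e2
  unfold Curv2.deg
  rw [e1, e2]
  push_cast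
  ring

/-- `h¹(I_Q) + 1 ≤ h⁰(O/I_Q)` for a closed point `Q`, when `H¹(O) = 0` -/
theorem h1_idealMod_lt (h1O : Subsingleton (Coh.HH X (Coh.structureModule X) 1))
    (Q : X) (hQ : IsClosed ({Q} : Set X)) :
    Module.finrank k (Coh.HH X (ClSub.idealMod
      (Scheme.IdealSheafData.vanishingIdeal (⟨{Q}, hQ⟩ : Closeds X))) 1) + 1 ≤
    Module.finrank k (Coh.HH X (ClSub.quotMod
      (Scheme.IdealSheafData.vanishingIdeal (⟨{Q}, hQ⟩ : Closeds X))) 0) := by
  haveI : IsLocallyNoetherian X := LocallyOfFiniteType.isLocallyNoetherian (X ↘ (Spec (CommRingCat.of k)))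
  set D := Scheme.IdealSheafData.vanishingIdeal (⟨{Q}, hQ⟩ : Closeds X) with hD
  have hS := idealSES_shortExact D
  have cQ := Groth.Agent.Lib.Helper4.CurvePt.isCoh_quotMod k X D
  haveI hfin : Module.Finite k (Coh.HH X (ClSub.quotMod D) 0) := Groth.Agent.S0002.result k X _ cQ 0
  haveI : Module.Finite k (Coh.HH X (idealSES D).X₃ 0) := hfin
  haveI : Module.Finite k (Coh.HH X (idealSES D).X₂ 0) :=
    Groth.Agent.S0002.result k X _ (isCoh_structureModule X) 0
  have hq : 1 ≤ Module.finrank k (Coh.HH X (ClSub.quotMod D) 0) := by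
    haveI := Groth.Agent.Lib.Helper4.CurvePt.nonempty_pt Q hQ
    haveI : Nontrivial Γ(D.subscheme, ⊤) := by
      obtain ⟨y⟩ := (inferInstance : Nonempty D.subscheme)
      exact @Scheme.component_nontrivial D.subscheme ⊤ ⟨⟨y, trivial⟩⟩
    haveI : Nontrivial (Coh.HH X (ClSub.quotMod D) 0) :=
      (Groth.Agent.Lib.Helper4.CurvePt.pushEquiv D.subschemeι).toEquiv.nontrivial
    exact Module.finrank_pos
  -- the connecting map is surjective
  have hδs : LinearMap.range (deltaLin k (idealSES D) hS 0) = ⊤ := by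
    rw [range_delta_eq_ker_f k (idealSES D) hS 0, eq_top_iff]
    intro x _
    rw [LinearMap.mem_ker]
    exact Subsingleton.elim (α := Coh.HH X (Coh.structureModule X) 1) _ _
  have e1 := LinearMap.finrank_range_add_finrank_ker (deltaLin k (idealSES D) hS 0)
  rw [hδs, finrank_top, ← range_g_eq_ker_delta k (idealSES D) hS 0] at e1
  -- `H⁰(O) → H⁰(O/I)` is nonzero
  have hπ : ClSub.toSubscheme D ≠ 0 := by
    intro h0
    haveI : Epi (ClSub.toSubscheme D) := hS.epi_g
    have hz : IsZero (ClSub.quotMod D) := IsZero.of_epi_eq_zero _ h0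
    haveI := Groth.Agent.Lib.Helper6.SSVanish.HH_subsingleton_of_isZero k _ hz 0
    rw [Module.finrank_zero_of_subsingleton] at hq
    exact absurd hq (by norm_num)
  have hne : Canon.HHlin k (ClSub.toSubscheme D) 0 (homH0Equiv k _ (𝟙 (Coh.structureModule X))) ≠ 0 := by
    rw [← homH0Equiv_comp, Category.id_comp]
    intro h0
    apply hπ
    exact (homH0Equiv k (ClSub.quotMod D)).injective (h0.trans (map_zero _).symm)
  have hpos : 0 < Module.finrank k (LinearMap.range (Canon.HHlin k (idealSES D).g 0)) := by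
    rw [Module.finrank_pos_iff_exists_ne_zero]
    refine ⟨⟨_, LinearMap.mem_range_self _ (homH0Equiv k _ (𝟙 (Coh.structureModule X)))⟩, ?_⟩
    intro h0
    exact hne (congrArg Subtype.val h0)
  change Module.finrank k (Coh.HH X (idealSES D).X₁ (0 + 1)) + 1 ≤
    Module.finrank k (Coh.HH X (idealSES D).X₃ 0)
  omega

/-- at every closed point some global section generates the stalk -/
theorem exists_section_stalk_surjective (hdim : topologicalKrullDim X ≤ 1)
    (h1O : Subsingleton (Coh.HH X (Coh.structureModule X) 1))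
    (L : X.Modules) (hL : PicF.IsInvertible L)
    (hnef : ∀ J : X.IdealSheafData, IsIntegral J.subscheme → topologicalKrullDim J.subscheme = 1 →
      0 ≤ @Curv2.deg k _ J.subscheme ⟨J.subschemeι ≫ (X ↘ (Spec (CommRingCat.of k)))⟩
        ((Scheme.Modules.pullback J.subschemeι).obj L) 1)
    (Q : X) (hQ : IsClosed ({Q} : Set X)) :
    ∃ s : Coh.structureModule X ⟶ L, Function.Surjective (stalkL s Q) := by
  haveI : IsLocallyNoetherian X := LocallyOfFiniteType.isLocallyNoetherian (X ↘ (Spec (CommRingCat.of k)))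
  by_contra hall
  push Not at hall
  have hL1 := Groth.Agent.Lib.Helper23.SecTw.isFinLocFreeOfRank_one_of_isInvertible L hL
  set D := Scheme.IdealSheafData.vanishingIdeal (⟨{Q}, hQ⟩ : Closeds X) with hD
  have hS := Groth.Agent.Lib.Helper27SerreVan.shortExact_tw L hL (idealSES D) (idealSES_shortExact D)
  set S := (idealSES D).map (Groth.Agent.Lib.Helper27SerreVan.tw L) with hSdef
  haveI hmono : Mono S.f := hS.mono_f
  let u := Groth.Agent.Lib.Helper23.TensorUnit.unitTensorIso L
  let ι : CohB1.tensorMod (ClSub.idealMod D) L ⟶ L := S.f ≫ u.hom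
  have cI := Groth.Agent.Lib.Helper4.CurvePt.isCoh_idealMod k X D
  have cL := Groth.Agent.Lib.Helper6.CurveDeg.isCoh_of_isInvertible L hL
  have cM : Coh.IsCoh (CohB1.tensorMod (ClSub.idealMod D) L) :=
    isCoh_tensorMod_locFree _ L cI 1 hL1
  haveI : Module.Finite k (Coh.HH X (CohB1.tensorMod (ClSub.idealMod D) L) 0) :=
    Groth.Agent.S0002.result k X _ cM 0
  haveI : Module.Finite k (Coh.HH X L 0) := Groth.Agent.S0002.result k X _ cL 0
  -- every section comes from `I_Q ⊗ L`
  have hsurj : Function.Surjective (Canon.HHlin k ι 0) := by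
    intro y
    set s := (homH0Equiv k L).symm y with hs
    have hv := Groth.Agent.Lib.Helper6.GG2g.comp_eq_zero_of_not_surjective Q hQ L hL1 s (hall s)
    have hv' : (s ≫ u.inv) ≫ S.g = 0 := by rw [Category.assoc]; exact hv
    refine ⟨homH0Equiv k _ (hS.exact.lift (s ≫ u.inv) hv'), ?_⟩
    rw [← homH0Equiv_comp]
    have : hS.exact.lift (s ≫ u.inv) hv' ≫ ι = s := by
      change hS.exact.lift (s ≫ u.inv) hv' ≫ S.f ≫ u.hom = s
      rw [← Category.assoc, ShortComplex.Exact.lift_f, Category.assoc, Iso.inv_hom_id, Category.comp_id]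
    exact (congrArg (homH0Equiv k L) this).trans (by rw [hs, LinearEquiv.apply_symm_apply])
  have hle : Module.finrank k (Coh.HH X L 0) ≤
      Module.finrank k (Coh.HH X (CohB1.tensorMod (ClSub.idealMod D) L) 0) :=
    LinearMap.finrank_le_finrank_of_surjective hsurj
  have hZ : topologicalKrullDim (D.support : Set X) ≤ 0 := by
    rw [hD, Scheme.IdealSheafData.coe_support_vanishingIdeal]
    change topologicalKrullDim (({Q} : Set X)) ≤ 0
    haveI : Subsingleton (({Q} : Set X)) := (Set.uniqueSingleton Q).instSubsingleton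
    exact topologicalKrullDim_zero_of_discreteTopology _
  have hχM := Groth.Agent.Lib.Helper4.CurveSpecial.euler_idealMod_tensor k X L hL D hZ
  have hχL := Groth.Agent.Lib.Helper4.CurveRR.euler_eq_h0_sub_h1 k X hdim L cL
  have hχM' := Groth.Agent.Lib.Helper4.CurveRR.euler_eq_h0_sub_h1 k X hdim _ cM
  haveI := subsingleton_H1 k X hdim h1O L hL hnef
  rw [Module.finrank_zero_of_subsingleton (M := Coh.HH X L 1)] at hχL
  have h1 := h1_le k X hdim h1O L hL hnef (ClSub.idealMod D) cI
  have h2 := h1_idealMod_lt k X h1O Q hQ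
  zify at hle h1 h2
  push_cast at hχL hχM'
  linarith

/-- **S16295, second half** -/
theorem isGloballyGenerated (hdim : topologicalKrullDim X ≤ 1)
    (h1O : Subsingleton (Coh.HH X (Coh.structureModule X) 1))
    (L : X.Modules) (hL : PicF.IsInvertible L)
    (hnef : ∀ J : X.IdealSheafData, IsIntegral J.subscheme → topologicalKrullDim J.subscheme = 1 →
      0 ≤ @Curv2.deg k _ J.subscheme ⟨J.subschemeι ≫ (X ↘ (Spec (CommRingCat.of k)))⟩
        ((Scheme.Modules.pullback J.subschemeι).obj L) 1) :
    Curv2.IsGloballyGenerated L := by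
  haveI : IsLocallyNoetherian X := LocallyOfFiniteType.isLocallyNoetherian (X ↘ (Spec (CommRingCat.of k)))
  haveI : AlgebraicGeometry.IsNoetherian X := Groth.Agent.Lib.Helper4.CurveRR.isNoetherian_of_proper k X
  have cL := Groth.Agent.Lib.Helper6.CurveDeg.isCoh_of_isInvertible L hL
  apply isGloballyGenerated_of_isZero_cokernel
  apply isZero_of_support_eq_empty
  by_contra hne
  have hne' : (CohB1.support (coker L)).Nonempty := Set.nonempty_iff_ne_empty.2 hne
  haveI : SheafOfModules.IsFiniteType (R := X.ringCatSheaf) L := cL.2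
  have hCf : SheafOfModules.IsFiniteType (R := X.ringCatSheaf) (coker L) :=
    Groth.Agent.Lib.Helper20.Nakayama.isFiniteType_of_epi (cπ L)
  have hcl : IsClosed (CohB1.support (coker L)) := Groth.Agent.S0020.result X _ hCf
  obtain ⟨p, hpS, hp⟩ := hcl.exists_closed_singleton hne'
  obtain ⟨s, hs⟩ := exists_section_stalk_surjective k X hdim h1O L hL hnef p hp
  apply hpS
  have key : ∀ z : (coker L).presheaf.stalk p, z = 0 := by
    intro z
    obtain ⟨l, rfl⟩ := stalkL_surjective_of_epi (cπ L) p z
    obtain ⟨w, rfl⟩ := hs l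
    rw [← stalkL_comp_apply, sec_comp_π, stalkL_zero]
    rfl
  exact ⟨fun a b => by rw [key a, key b]⟩

end Thm


section Dim

/-- a closed subscheme has the dimension of its support -/
theorem dim_subscheme {X : Scheme.{u}} (J : X.IdealSheafData) :
    topologicalKrullDim J.subscheme = topologicalKrullDim (J.support : Set X) := by
  let h1 : J.subscheme ≃ₜ Set.range J.subschemeι := J.subschemeι.isEmbedding.toHomeomorph
  let h2 : Set.range J.subschemeι ≃ₜ (J.support : Set X) :=
    Homeomorph.setCongr (Scheme.IdealSheafData.range_subschemeι J)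
  exact IsHomeomorph.topologicalKrullDim_eq _ (h1.trans h2).isHomeomorph

end Dim

section S14092

variable (k : Type u) [Field k] (Z : Scheme.{u}) [Z.Over (Spec (CommRingCat.of k))]
  [IsProper (Z ↘ (Spec (CommRingCat.of k)))]

/-- **S14092** (no reducedness, connectedness, nodal or algebraic closedness hypotheses needed) -/
theorem genus_zero (hdim : topologicalKrullDim Z = 1) (hg : Curv2.genus k Z = 0)
    (L : Z.Modules) (hL : PicF.IsInvertible L)
    (hdeg : ∀ C : Z.IdealSheafData, IsIntegral C.subscheme → topologicalKrullDim (C.support : Set Z) = 1 →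
      0 ≤ @Curv2.deg k _ C.subscheme ⟨C.subschemeι ≫ (Z ↘ Spec (CommRingCat.of k))⟩
        ((Scheme.Modules.pullback C.subschemeι).obj L) 1) :
    Curv2.IsGloballyGenerated L ∧ Subsingleton (Coh.HH Z L 1) := by
  haveI : IsLocallyNoetherian Z := LocallyOfFiniteType.isLocallyNoetherian (Z ↘ (Spec (CommRingCat.of k)))
  have h1O : Subsingleton (Coh.HH Z (Coh.structureModule Z) 1) := by
    haveI : Module.Finite k (Coh.HH Z (Coh.structureModule Z) 1) :=
      Groth.Agent.S0002.result k Z _ (isCoh_structureModule Z) 1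
    exact Module.finrank_zero_iff.1 hg
  have hnef : ∀ J : Z.IdealSheafData, IsIntegral J.subscheme → topologicalKrullDim J.subscheme = 1 →
      0 ≤ @Curv2.deg k _ J.subscheme ⟨J.subschemeι ≫ (Z ↘ (Spec (CommRingCat.of k)))⟩
        ((Scheme.Modules.pullback J.subschemeι).obj L) 1 := by
    intro J hJ hd
    exact hdeg J hJ (by rw [← dim_subscheme J]; exact hd)
  exact ⟨isGloballyGenerated k Z hdim.le h1O L hL hnef, subsingleton_H1 k Z hdim.le h1O L hL hnef⟩

end S14092

end Groth.Agent.Lib.Helper6.NefH1
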