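import Groth.Agent.Lib.Helper6H0One

/-!
# Sub-bundles of `O^m` without sections are filtered by negative line bundles (helper6): S12913
-/

set_option autoImplicit false
set_option linter.style.haveILetI false
universe u
open CategoryTheory Limits AlgebraicGeometry Opposite TopologicalSpace

namespace Groth.Agent.Lib.Helper6.NegFilt

open Groth.Agent.Lib.Helper4.CurveBun Groth.Agent.Lib.Helper4.DegAdd Groth.Agent.Lib.Helper4.CurveRR
  Groth.Agent.Lib.Helper4.Dev Groth.Agent.Lib.Helper6.CurveDeg
  Groth.Agent.Lib.Helper4.CurveStab Groth.Agent.Lib.Helper6.SSVanish Groth.Agent.Lib.Helper23.SecTw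
  Groth.Agent.Lib.Helper17.IAdic Groth.Agent.Lib.Helper27GlobGenPn Groth.Agent.Lib.Helper4.CurveAsym
  Groth.Agent.Lib.Helper6.GGCurve

section Gen

variable (k : Type u) [Field k] {X : Scheme.{u}} [X.Over (Spec (CommRingCat.of k))]

theorem wr_smul (Q : X.Modules) {A B : X.Modules} (a : k) (t : A ⟶ B) :
    wr Q (a • t) = a • wr Q t := by
  rw [KLin.smul_def, KLin.smul_def]
  change (tl Q).map (Formal.smulMod k A a ≫ t) = Formal.smulMod k _ a ≫ (tl Q).map t
  rw [Functor.map_comp]
  congr 1
  exact Groth.Agent.Lib.Helper27TensorLin.tL_map_smulModΓ Q A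
    (Coh.toGlobal (X ↘ Spec (CommRingCat.of k)) a)

omit [X.Over (Spec (CommRingCat.of k))] in
theorem wr_comp (Q : X.Modules) {A B C : X.Modules} (s : A ⟶ B) (t : B ⟶ C) :
    wr Q (s ≫ t) = wr Q s ≫ wr Q t := (tl Q).map_comp s t

omit [X.Over (Spec (CommRingCat.of k))] in
theorem wr_id (Q A : X.Modules) : wr Q (𝟙 A) = 𝟙 _ := (tl Q).map_id A

omit [X.Over (Spec (CommRingCat.of k))] in
theorem wr_sum (Q : X.Modules) {A B : X.Modules} {ι : Type*} (s : Finset ι) (t : ι → (A ⟶ B)) :
    wr Q (∑ i ∈ s, t i) = ∑ i ∈ s, wr Q (t i) := (tl Q).map_sum t s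

omit [X.Over (Spec (CommRingCat.of k))] in
/-- `A ⟶ Q ⊗ A` is natural in `A` -/
theorem eta_naturality {Q : X.Modules} (q : Coh.structureModule X ⟶ Q) {A B : X.Modules} (h : A ⟶ B) :
    ((lam A).inv ≫ wl q A) ≫ wr Q h = h ≫ ((lam B).inv ≫ wl q B) := by
  rw [Category.assoc, interchange, ← Category.assoc, ← Category.assoc]
  congr 1
  rw [Iso.inv_comp_eq, ← Category.assoc, Iso.eq_comp_inv]
  exact lam_naturality h

section Free

variable (X : Scheme.{u})

/-- the `j`-th inclusion `O ⟶ O^m` -/
noncomputable def inc (m : ℕ) (j : Fin m) : Coh.structureModule X ⟶ FlatMod.freeMod X m :=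
  Sigma.ι (C := X.Modules) (fun _ : Fin m => Coh.structureModule X) j

/-- the `j`-th projection `O^m ⟶ O` -/
noncomputable def pr (m : ℕ) (j : Fin m) : FlatMod.freeMod X m ⟶ Coh.structureModule X :=
  Sigma.desc (C := X.Modules) (fun i : Fin m => if i = j then 𝟙 (Coh.structureModule X) else 0)

theorem inc_pr (m : ℕ) (i j : Fin m) :
    inc X m i ≫ pr X m j = if i = j then 𝟙 (Coh.structureModule X) else 0 :=
  Sigma.ι_desc (C := X.Modules) _ i

theorem sum_pr_inc (m : ℕ) : ∑ j : Fin m, pr X m j ≫ inc X m j = 𝟙 (FlatMod.freeMod X m) := by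
  apply Sigma.hom_ext (C := X.Modules)
  intro i
  change inc X m i ≫ _ = inc X m i ≫ _
  rw [Preadditive.comp_sum, Category.comp_id]
  rw [Finset.sum_eq_single i]
  · rw [← Category.assoc, inc_pr, if_pos rfl, Category.id_comp]
  · intro j _ hji
    rw [← Category.assoc, inc_pr, if_neg (Ne.symm hji), zero_comp]
  · intro h
    exact absurd (Finset.mem_univ i) h

theorem isFinLocFreeOfRank_freeMod (m : ℕ) : FlatMod.IsFinLocFreeOfRank m (FlatMod.freeMod X m) := fun _ =>
  ⟨⊤, trivial, ⟨Groth.Agent.Lib.Helper20.LocFree.restrictFreeMod (⊤ : X.Opens).ι m⟩⟩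

end Free

section Stalk

variable {X : Scheme.{u}}

/-- Nakayama: if `Q ⊗ B ⟶ Q ⊗ T` vanishes for an epimorphism `B ⟶ T` onto a coherent module and a quotient `Q` of `O`
with nonzero stalk at `p`, then the stalk of `T` at `p` vanishes -/
theorem subsingleton_stalk_of_wr_eq_zero {B T : X.Modules} (π : B ⟶ T) [Epi π] (hT : Coh.IsCoh T)
    (Q : X.Modules) (q : Coh.structureModule X ⟶ Q) [Epi q] (p : X)
    (hQp : Nontrivial (Q.presheaf.stalk p)) (hz : wr Q π = 0) : Subsingleton (T.presheaf.stalk p) := by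
  haveI : T.IsQuasicoherent := hT.1
  haveI : SheafOfModules.IsFiniteType (R := X.ringCatSheaf) T := hT.2
  haveI := Groth.Agent.Lib.Helper2.FibreCrit.finite_stalk T p
  haveI : Epi (wr Q π) := epi_wr Q _
  have hZ : IsZero (CohB1.tensorMod Q T) := IsZero.of_epi_eq_zero _ hz
  haveI hsub := Groth.Agent.Helper18Epi.subsingleton_stalk_of_isZero hZ p
  have hsub2 := (Groth.Agent.Lib.Helper4.KTensor.stalkTensorEquiv Q T p).symm.toEquiv.subsingleton
  obtain ⟨f, hf⟩ := exists_cyclic_stalk Q q p
  exact subsingleton_of_cyclic_tensor f hf hsub2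

end Stalk

end Gen

section Curve

variable (k : Type u) [Field k] (X : Scheme.{u}) [X.Over (Spec (CommRingCat.of k))]
  [IsIntegral X] [IsProper (X ↘ Spec (CommRingCat.of k))]

open Groth.Agent.Lib.Helper6.PointIdeal Groth.Agent.Lib.Helper21.ExtCartier
  Groth.Agent.Lib.Helper6.SimpleSub Groth.Agent.Lib.Helper4.CurveChi Groth.Agent.Lib.Helper6.H0One in
omit [IsIntegral X] in
/-- a proper sub-bundle `N ⊂ O^m`: some nonzero functional `w` on `O^m` vanishes on `N` in the fibre at some closed point -/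
theorem exists_point_functional [IsAlgClosed k] (N : X.Modules) (r : ℕ)
    (hN : FlatMod.IsFinLocFreeOfRank r N) (m : ℕ) (ι : N ⟶ FlatMod.freeMod X m) [Mono ι] (hι : ¬ IsIso ι) :
    ∃ (p : X) (hp : IsClosed ({p} : Set X)) (w : Fin m → k), w ≠ 0 ∧
      wr (ClSub.quotMod (Scheme.IdealSheafData.vanishingIdeal ⟨{p}, hp⟩))
        (∑ j, w j • (ι ≫ pr X m j)) = 0 := by
  haveI : IsLocallyNoetherian X := isLocallyNoetherian_of_proper k X
  haveI : AlgebraicGeometry.IsNoetherian X := isNoetherian_of_proper k X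
  have cN := isCoh_of_isFinLocFreeOfRank N r hN
  have hF := isFinLocFreeOfRank_freeMod X m
  have cF := isCoh_of_isFinLocFreeOfRank _ m hF
  have cT : Coh.IsCoh (cokernel ι) := isCoh_cokernel ι cN cF
  have hne : CohB1.support (cokernel ι) ≠ ∅ := by
    intro h
    have hZ := isZero_of_support_eq_empty _ h
    haveI : Epi ι := Preadditive.epi_of_isZero_cokernel ι hZ
    exact hι (isIso_of_mono_of_epi ι)
  have hcl : IsClosed (CohB1.support (cokernel ι)) := Groth.Agent.S0020.result X _ cT.2
  obtain ⟨p, hpS, hp⟩ := hcl.exists_closed_singleton (Set.nonempty_iff_ne_empty.2 hne)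
  refine ⟨p, hp, ?_⟩
  by_contra hcon
  push Not at hcon
  apply hpS
  obtain ⟨h0, hv, hQ, hsub⟩ := quotMod_point k X p hp
  have hO1 : FlatMod.IsFinLocFreeOfRank 1 (Coh.structureModule X) :=
    isFinLocFreeOfRank_one_of_isInvertible _
      (Groth.Agent.Lib.Helper23.TensorUnit.isInvertible_structureModule X)
  have hW := h0_quot_tensor k X p hp 1 _ hO1
  haveI : Module.Finite k (Coh.structureModule X ⟶ CohB1.tensorMod (ClSub.quotMod
      (Scheme.IdealSheafData.vanishingIdeal ⟨{p}, hp⟩)) (Coh.structureModule X)) :=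
    Module.finite_of_finrank_pos (by omega)
  let e : (Coh.structureModule X ⟶ CohB1.tensorMod (ClSub.quotMod
      (Scheme.IdealSheafData.vanishingIdeal ⟨{p}, hp⟩)) (Coh.structureModule X)) ≃ₗ[k] k :=
    LinearEquiv.ofFinrankEq _ _ (by rw [hW, Module.finrank_self])
  let Θ : (Coh.structureModule X ⟶ CohB1.tensorMod (ClSub.quotMod
      (Scheme.IdealSheafData.vanishingIdeal ⟨{p}, hp⟩)) N) →ₗ[k] (Fin m → k) :=
    LinearMap.pi (fun j => e.toLinearMap ∘ₗ Linear.rightComp k (Coh.structureModule X)
      (wr (ClSub.quotMod (Scheme.IdealSheafData.vanishingIdeal ⟨{p}, hp⟩)) (ι ≫ pr X m j)))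
  have hΘ : ∀ u j, Θ u j = e (u ≫ wr (ClSub.quotMod (Scheme.IdealSheafData.vanishingIdeal ⟨{p}, hp⟩))
      (ι ≫ pr X m j)) := fun u j => rfl
  -- global generation of the fibres
  have hgg : ∀ (E : X.Modules) (n : ℕ), FlatMod.IsFinLocFreeOfRank n E →
      Curv2.IsGloballyGenerated (CohB1.tensorMod (ClSub.quotMod
        (Scheme.IdealSheafData.vanishingIdeal ⟨{p}, hp⟩)) E) := by
    intro E n hE
    refine Groth.Agent.Lib.Helper4.ZeroDimGG.isGloballyGenerated_of_closed_points _
      (isCoh_tensorMod_locFree _ E hQ n hE) ?_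
    intro x hx
    have hxp := hsub (Groth.Agent.Lib.Helper4.ZeroDimChi.support_tensorMod_subset_left _ E hx)
    rw [hxp]
    exact hp
  by_cases hrange : LinearMap.range Θ = ⊤
  · -- every section of the fibre of `O^m` lifts: `Q ⊗ ι` is an epimorphism
    have hlift : ∀ x : Coh.structureModule X ⟶ CohB1.tensorMod (ClSub.quotMod
        (Scheme.IdealSheafData.vanishingIdeal ⟨{p}, hp⟩)) (FlatMod.freeMod X m),
        ∃ u : Coh.structureModule X ⟶ CohB1.tensorMod (ClSub.quotMod
          (Scheme.IdealSheafData.vanishingIdeal ⟨{p}, hp⟩)) N,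
          u ≫ wr (ClSub.quotMod (Scheme.IdealSheafData.vanishingIdeal ⟨{p}, hp⟩)) ι = x := by
      intro x
      obtain ⟨u, hu⟩ : ∃ u, Θ u = fun j => e (x ≫ wr (ClSub.quotMod
          (Scheme.IdealSheafData.vanishingIdeal ⟨{p}, hp⟩)) (pr X m j)) := by
        have hmem : (fun j => e (x ≫ wr (ClSub.quotMod
          (Scheme.IdealSheafData.vanishingIdeal ⟨{p}, hp⟩)) (pr X m j))) ∈ LinearMap.range Θ := by
          rw [hrange]; exact Submodule.mem_top
        exact hmem
      have hj : ∀ j, u ≫ wr (ClSub.quotMod (Scheme.IdealSheafData.vanishingIdeal ⟨{p}, hp⟩))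
          (ι ≫ pr X m j) = x ≫ wr (ClSub.quotMod (Scheme.IdealSheafData.vanishingIdeal ⟨{p}, hp⟩))
          (pr X m j) := fun j => e.injective ((hΘ u j).symm.trans (congrFun hu j))
      refine ⟨u, ?_⟩
      have hdec : ∀ y : Coh.structureModule X ⟶ CohB1.tensorMod (ClSub.quotMod
          (Scheme.IdealSheafData.vanishingIdeal ⟨{p}, hp⟩)) (FlatMod.freeMod X m),
          y = ∑ j, (y ≫ wr (ClSub.quotMod (Scheme.IdealSheafData.vanishingIdeal ⟨{p}, hp⟩)) (pr X m j)) ≫
            wr (ClSub.quotMod (Scheme.IdealSheafData.vanishingIdeal ⟨{p}, hp⟩)) (inc X m j) := by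
        intro y
        conv_lhs => rw [← Category.comp_id y, ← wr_id, ← sum_pr_inc X m, wr_sum, Preadditive.comp_sum]
        refine Finset.sum_congr rfl fun j _ => ?_
        rw [wr_comp, Category.assoc]
      rw [hdec (u ≫ wr _ ι), hdec x]
      refine Finset.sum_congr rfl fun j _ => ?_
      rw [Category.assoc u, ← wr_comp, hj j]
    obtain ⟨I, P, hP⟩ := hgg _ m hF
    haveI : Epi (wr (ClSub.quotMod (Scheme.IdealSheafData.vanishingIdeal ⟨{p}, hp⟩)) ι) :=
      @Groth.Agent.Lib.Helper6.Atiyah.epi_of_sigma_factor (SheafOfModules X.ringCatSheaf) _ I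
        (fun _ : I => SheafOfModules.unit X.ringCatSheaf) _ _ _ P hP _ (fun i => hlift _)
    have hz : wr (ClSub.quotMod (Scheme.IdealSheafData.vanishingIdeal ⟨{p}, hp⟩)) (cokernel.π ι) = 0 := by
      rw [← cancel_epi (wr (ClSub.quotMod (Scheme.IdealSheafData.vanishingIdeal ⟨{p}, hp⟩)) ι), ← wr_comp,
        cokernel.condition, wr_zero, comp_zero]
    have hQp : Nontrivial ((ClSub.quotMod (Scheme.IdealSheafData.vanishingIdeal
        (⟨{p}, hp⟩ : TopologicalSpace.Closeds X))).presheaf.stalk p) := by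
      by_contra hnt
      rw [not_nontrivial_iff_subsingleton] at hnt
      have hemp : CohB1.support (ClSub.quotMod (Scheme.IdealSheafData.vanishingIdeal
          (⟨{p}, hp⟩ : TopologicalSpace.Closeds X))) = ∅ := by
        apply Set.eq_empty_of_forall_notMem
        intro x hx
        have hxp := hsub hx
        rw [Set.mem_singleton_iff] at hxp
        subst hxp
        exact hx hnt
      have hZ := isZero_of_support_eq_empty _ hemp
      haveI := HH_subsingleton_of_isZero k _ hZ 0
      rw [Module.finrank_zero_of_subsingleton] at h0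
      exact zero_ne_one h0
    haveI : Epi (ClSub.toSubscheme (Scheme.IdealSheafData.vanishingIdeal
        (⟨{p}, hp⟩ : TopologicalSpace.Closeds X))) := (idealSES_shortExact _).epi_g
    exact subsingleton_stalk_of_wr_eq_zero (cokernel.π ι) cT _ (ClSub.toSubscheme _) p hQp hz
  · exfalso
    obtain ⟨f, hf0, hf⟩ := Submodule.exists_le_ker_of_lt_top _ (lt_top_iff_ne_top.2 hrange)
    have key := LinearMap.pi_apply_eq_sum_univ f
    refine hcon (fun j => f (fun j' => if j = j' then 1 else 0)) ?_ ?_
    · intro hw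
      apply hf0
      apply LinearMap.ext
      intro x
      rw [key x]
      simp only [LinearMap.zero_apply]
      refine Finset.sum_eq_zero fun j _ => ?_
      rw [show f (fun j' => if j = j' then 1 else 0) = 0 from congrFun hw j, smul_zero]
    · apply eq_zero_of_isGloballyGenerated (hgg N r hN)
      intro u
      have hu : f (Θ u) = 0 := hf (LinearMap.mem_range_self Θ u)
      rw [key (Θ u)] at hu
      rw [wr_sum, Preadditive.comp_sum]
      apply e.injective
      rw [map_sum, map_zero]
      refine Eq.trans ?_ hu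
      refine Finset.sum_congr rfl fun j _ => ?_
      rw [wr_smul, Linear.comp_smul, map_smul, hΘ, smul_eq_mul, smul_eq_mul, mul_comm]

/-- the cokernel of the kernel of an epimorphism -/
noncomputable def cokerKerIso {C : Type*} [Category C] [Abelian C] {A B : C} (e : A ⟶ B) [Epi e] :
    cokernel (kernel.ι e) ≅ B :=
  (cokernelIsCokernel (kernel.ι e)).coconePointUniqueUpToIso
    (Abelian.epiIsCokernelOfKernel (Fork.ofι (kernel.ι e) (by rw [kernel.condition, comp_zero]))
      (kernelIsKernel e))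

open Groth.Agent.Lib.Helper6.PointIdeal Groth.Agent.Lib.Helper21.ExtCartier
  Groth.Agent.Lib.Helper6.SimpleSub Groth.Agent.Lib.Helper4.CurveChi Groth.Agent.Lib.Helper6.TwistSS in
/-- one step of the filtration: a nonzero map `φ : N ⟶ O` vanishing in the fibre at a closed point `p` has
kernel of rank one less and image a line bundle of negative degree -/
theorem step [IsAlgClosed k] (hpid : PIDStalks X) (hdim : topologicalKrullDim X = 1)
    (N : X.Modules) (r : ℕ) (hN : FlatMod.IsFinLocFreeOfRank (r + 1) N)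
    (φ : N ⟶ Coh.structureModule X) (hφ : φ ≠ 0) (p : X) (hp : IsClosed ({p} : Set X))
    (hz : wr (ClSub.quotMod (Scheme.IdealSheafData.vanishingIdeal ⟨{p}, hp⟩)) φ = 0) :
    FlatMod.IsFinLocFreeOfRank r (kernel (Abelian.factorThruImage φ)) ∧
    PicF.IsInvertible (cokernel (kernel.ι (Abelian.factorThruImage φ))) ∧
    Curv2.deg k X (cokernel (kernel.ι (Abelian.factorThruImage φ))) 1 < 0 := by
  haveI : IsLocallyNoetherian X := isLocallyNoetherian_of_proper k X
  have hO1 : FlatMod.IsFinLocFreeOfRank 1 (Coh.structureModule X) :=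
    isFinLocFreeOfRank_one_of_isInvertible _
      (Groth.Agent.Lib.Helper23.TensorUnit.isInvertible_structureModule X)
  obtain ⟨a, b, hab, hb1, hK, hI, -⟩ := ker_im k X hpid φ (r + 1) 1 hN hO1
  have hb : b ≠ 0 := by
    rintro rfl
    exact hφ (eq_zero_of_image_rank_zero φ hI)
  have hb' : b = 1 := by omega
  have ha : a = r := by omega
  subst hb'
  subst ha
  have hIinv := Groth.Agent.Lib.Helper6.H0Semi.isInvertible_of_rank_one X hI
  -- the image lies in `I_p ⊗ O`
  obtain ⟨hJinv, hJdeg⟩ := idealMod_point k X hpid hdim p hp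
  obtain ⟨hJO, hdJO⟩ := twist_rank_deg k X hpid hdim _ hJinv 1 _ hO1
  have hOflat := isFlat_of_isFinLocFreeOfRank (Coh.structureModule X) 1 hO1
  have hS := shortExact_map_tw (idealSES (Scheme.IdealSheafData.vanishingIdeal ⟨{p}, hp⟩))
    (idealSES_shortExact _) (Coh.structureModule X) hOflat
  haveI := hS.mono_f
  have h1 : φ ≫ ((lam (Coh.structureModule X)).inv ≫
      wl (ClSub.toSubscheme (Scheme.IdealSheafData.vanishingIdeal ⟨{p}, hp⟩)) (Coh.structureModule X)) = 0 := by
    rw [← eta_naturality, hz, comp_zero]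
  have h2 : (Abelian.image.ι φ ≫ (lam (Coh.structureModule X)).inv) ≫
      ((idealSES (Scheme.IdealSheafData.vanishingIdeal ⟨{p}, hp⟩)).map
        (Groth.Agent.Lib.Helper27SerreVan.tw (Coh.structureModule X))).g = 0 := by
    rw [← cancel_epi (Abelian.factorThruImage φ), comp_zero, ← Category.assoc, ← Category.assoc,
      Abelian.image.fac, Category.assoc]
    exact h1
  have ht := hS.exact.lift_f _ h2
  have htne : hS.exact.lift _ h2 ≠ 0 := by
    intro h0
    rw [h0, zero_comp] at ht
    apply hφ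
    have h3 : Abelian.image.ι φ = 0 := by
      rw [← cancel_mono (lam (Coh.structureModule X)).inv, zero_comp]
      exact ht.symm
    rw [← Abelian.image.fac φ, h3, comp_zero]
  obtain ⟨-, hle, -⟩ := Groth.Agent.Lib.Helper4.CurveRk2.hom_rank_one k X hpid hdim hI hJO _ htne
  have hdegI : Curv2.deg k X (Abelian.image φ) 1 < 0 := by
    have hle' : Curv2.deg k X (Abelian.image φ) 1 ≤ Curv2.deg k X (CohB1.tensorMod (ClSub.idealMod
      (Scheme.IdealSheafData.vanishingIdeal ⟨{p}, hp⟩)) (Coh.structureModule X)) 1 := hle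
    rw [hdJO, hJdeg, deg_structureModule k X] at hle'
    push_cast at hle'
    linarith
  have e := cokerKerIso (Abelian.factorThruImage φ)
  refine ⟨hK, Groth.Agent.Lib.Helper23.AmpleIso.isInvertible_of_iso e.symm hIinv, ?_⟩
  rw [Groth.Agent.Lib.Helper4.CurveSSAb.deg_congr_iso k X e 1]
  exact hdegI

/-- the filtration, for a jointly monic family of maps `N ⟶ O` -/
theorem filtration_of_family [IsAlgClosed k] (hpid : PIDStalks X) (hdim : topologicalKrullDim X = 1) :
    ∀ (r : ℕ) (N : X.Modules), FlatMod.IsFinLocFreeOfRank r N →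
      (∀ u : Coh.structureModule X ⟶ N, u = 0) →
      ∀ (m : ℕ) (ι : Fin m → (N ⟶ Coh.structureModule X)),
        (∀ (T : X.Modules) (t : T ⟶ N), (∀ j, t ≫ ι j = 0) → t = 0) →
      ∃ (M : Fin (r + 1) → X.Modules) (f : (j : Fin r) → (M j.succ ⟶ M j.castSucc)),
        Nonempty (M 0 ≅ N) ∧ IsZero (M (Fin.last r)) ∧
          ∀ j : Fin r, Mono (f j) ∧ PicF.IsInvertible (cokernel (f j)) ∧
            Curv2.deg k X (cokernel (f j)) 1 < 0 := by
  haveI : Nonempty X := nonempty_of_dim_eq_one hdim
  have hO1 : FlatMod.IsFinLocFreeOfRank 1 (Coh.structureModule X) :=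
    isFinLocFreeOfRank_one_of_isInvertible _
      (Groth.Agent.Lib.Helper23.TensorUnit.isInvertible_structureModule X)
  intro r
  induction r with
  | zero =>
    intro N hN _ m ι _
    exact ⟨fun _ => N, fun j => Fin.elim0 j, ⟨Iso.refl _⟩, isZero_of_rank_zero N hN, fun j => Fin.elim0 j⟩
  | succ r ih =>
    intro N hN h0 m
    induction m with
    | zero =>
      intro ι hι
      exfalso
      have h1 : 𝟙 N = 0 := hι N (𝟙 N) (fun j => Fin.elim0 j)
      exact Groth.Agent.Lib.Helper4.CurveHN.not_isZero_of_rank_pos X N (r + 1) (Nat.succ_pos r) hN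
        ((IsZero.iff_id_eq_zero N).2 h1)
    | succ m' ihm =>
      intro ι hι
      have hπ : ∀ j, (∑ i, ι i ≫ inc X (m' + 1) i) ≫ pr X (m' + 1) j = ι j := by
        intro j
        rw [Preadditive.sum_comp, Finset.sum_eq_single j]
        · rw [Category.assoc, inc_pr, if_pos rfl, Category.comp_id]
        · intro i _ hij
          rw [Category.assoc, inc_pr, if_neg hij, comp_zero]
        · intro h
          exact absurd (Finset.mem_univ j) h
      haveI : Mono (∑ i, ι i ≫ inc X (m' + 1) i) := by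
        apply Preadditive.mono_of_cancel_zero
        intro T t ht
        apply hι T t
        intro j
        rw [← hπ j, ← Category.assoc, ht, zero_comp]
      have hniso : ¬ IsIso (∑ i, ι i ≫ inc X (m' + 1) i) := by
        intro hiso
        have hu := h0 (inc X (m' + 1) 0 ≫ inv (∑ i, ι i ≫ inc X (m' + 1) i))
        have h1 : inc X (m' + 1) 0 = 0 := by
          rw [← Category.comp_id (inc X (m' + 1) 0), ← IsIso.inv_hom_id (∑ i, ι i ≫ inc X (m' + 1) i),
            ← Category.assoc, hu, zero_comp]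
        have h2 := inc_pr X (m' + 1) 0 0
        rw [h1, zero_comp, if_pos rfl] at h2
        exact Groth.Agent.Lib.Helper4.CurveHN.not_isZero_of_rank_pos X _ 1 one_pos hO1
          ((IsZero.iff_id_eq_zero _).2 h2.symm)
      obtain ⟨p, hp, w, hw, hz⟩ := exists_point_functional k X N (r + 1) hN (m' + 1) _ hniso
      have hsum : ∑ j, w j • ((∑ i, ι i ≫ inc X (m' + 1) i) ≫ pr X (m' + 1) j) = ∑ j, w j • ι j :=
        Finset.sum_congr rfl (fun j _ => by rw [hπ j])
      rw [hsum] at hz
      by_cases hφ : ∑ j, w j • ι j = 0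
      · -- the family is linearly dependent: drop one member
        obtain ⟨j₀, hj₀⟩ : ∃ j, w j ≠ 0 := by
          by_contra hcon
          push Not at hcon
          exact hw (funext hcon)
        apply ihm (fun i => ι (j₀.succAbove i))
        intro T t ht
        apply hι T t
        intro j
        rcases Fin.eq_self_or_eq_succAbove j₀ j with rfl | ⟨i, rfl⟩
        · have h1 : t ≫ ∑ j, w j • ι j = 0 := by rw [hφ, comp_zero]
          rw [Preadditive.comp_sum, Fin.sum_univ_succAbove _ j] at h1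
          have h2 : ∑ i : Fin m', t ≫ (w (j.succAbove i) • ι (j.succAbove i)) = 0 := by
            refine Finset.sum_eq_zero fun i _ => ?_
            rw [Linear.comp_smul, ht i, smul_zero]
          rw [h2, add_zero, Linear.comp_smul] at h1
          exact (smul_eq_zero.1 h1).resolve_left hj₀
        · exact ht i
      · -- the step
        obtain ⟨hK, hinv, hdeg⟩ := step k X hpid hdim N r hN _ hφ p hp hz
        have h0' : ∀ u : Coh.structureModule X ⟶ kernel (Abelian.factorThruImage (∑ j, w j • ι j)), u = 0 := by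
          intro u
          rw [← cancel_mono (kernel.ι (Abelian.factorThruImage (∑ j, w j • ι j))), h0 (u ≫ _), zero_comp]
        obtain ⟨M', f', ⟨e⟩, hlast, hall⟩ := ih _ hK h0' (m' + 1)
          (fun j => kernel.ι (Abelian.factorThruImage (∑ j, w j • ι j)) ≫ ι j)
          (fun T t ht => by
            rw [← cancel_mono (kernel.ι (Abelian.factorThruImage (∑ j, w j • ι j))), zero_comp]
            apply hι T _
            intro j
            rw [Category.assoc]
            exact ht j)
        refine ⟨Fin.cons N M',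
          Fin.cases (motive := fun j : Fin (r + 1) => ((Fin.cons N M' : Fin (r + 2) → X.Modules) j.succ ⟶
            (Fin.cons N M' : Fin (r + 2) → X.Modules) j.castSucc))
            (e.hom ≫ kernel.ι (Abelian.factorThruImage (∑ j, w j • ι j))) (fun i => f' i),
          ⟨Iso.refl N⟩, hlast, ?_⟩
        refine Fin.cases ?_ (fun i => ?_)
        · refine ⟨(inferInstance : Mono (e.hom ≫ kernel.ι (Abelian.factorThruImage (∑ j, w j • ι j)))), ?_, ?_⟩
          · exact Groth.Agent.Lib.Helper23.AmpleIso.isInvertible_of_iso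
              (cokernelEpiComp e.hom (kernel.ι (Abelian.factorThruImage (∑ j, w j • ι j)))).symm hinv
          · have hd := Groth.Agent.Lib.Helper4.CurveSSAb.deg_congr_iso k X
              (cokernelEpiComp e.hom (kernel.ι (Abelian.factorThruImage (∑ j, w j • ι j)))) 1
            exact hd ▸ hdeg
        · exact hall i

/-- S12913 -/
theorem main [IsAlgClosed k] (hdim : topologicalKrullDim X = 1)
    (hreg : ∀ x : X, IsRegularLocalRing (X.presheaf.stalk x))
    (N : X.Modules) (r : ℕ) (hN : FlatMod.IsFinLocFreeOfRank r N) (m : ℕ) (ι : N ⟶ FlatMod.freeMod X m) [Mono ι]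
    (h0 : ∀ s : LinSer.Sect X N, s = 0) :
    ∃ (M : Fin (r + 1) → X.Modules) (f : (j : Fin r) → (M j.succ ⟶ M j.castSucc)),
      Nonempty (M 0 ≅ N) ∧ IsZero (M (Fin.last r)) ∧
        ∀ j : Fin r, Mono (f j) ∧ PicF.IsInvertible (cokernel (f j)) ∧ Curv2.deg k X (cokernel (f j)) 1 < 0 := by
  have hpid : PIDStalks X := Groth.Agent.Lib.Helper4.CurveNorm.pidStalks_of_regular X hdim.le hreg
  have h0' : ∀ u : Coh.structureModule X ⟶ N, u = 0 := by
    intro u
    apply (homSecEquiv N).injective
    rw [map_zero]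
    exact h0 _
  refine filtration_of_family k X hpid hdim r N hN h0' m (fun j => ι ≫ pr X m j) ?_
  intro T t ht
  rw [← cancel_mono ι, zero_comp, ← Category.comp_id (t ≫ ι), ← sum_pr_inc X m, Preadditive.comp_sum]
  refine Finset.sum_eq_zero fun j _ => ?_
  rw [← Category.assoc, Category.assoc t, ht j, zero_comp]

end Curve

end Groth.Agent.Lib.Helper6.NegFilt
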