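import Mathlib

set_option autoImplicit false

namespace Groth.Agent.Lib.Helper6.OT

open TensorProduct

universe u v

section One

variable {R : Type u} [CommRing R] {A : Type v} [CommRing A] [Bialgebra R A]
  (x : A) (hx : Bialgebra.counitAlgHom R A x = 0)
  (hgen : ∀ f : A, Bialgebra.counitAlgHom R A f = 0 → ∃ r : R, f = r • x)
  (hfree : ∀ r : R, r • x = 0 → r = 0)

include hgen in
lemma decomp (f : A) : ∃ c r : R, f = c • (1 : A) + r • x := by
  have h0 : Bialgebra.counitAlgHom R A (f - algebraMap R A (Bialgebra.counitAlgHom R A f)) = 0 := by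
    rw [map_sub, AlgHom.commutes]; exact sub_self _
  obtain ⟨r, hr⟩ := hgen _ h0
  refine ⟨Bialgebra.counitAlgHom R A f, r, ?_⟩
  rw [← hr, ← Algebra.algebraMap_eq_smul_one]; ring

include hx in
lemma counit_decomp (c r : R) : Bialgebra.counitAlgHom R A (c • (1 : A) + r • x) = c := by
  rw [map_add, map_smul, map_smul, hx, map_one, smul_zero, add_zero, smul_eq_mul, mul_one]

include hx hfree in
lemma decomp_unique {c r d t : R} (h : c • (1 : A) + r • x = d • (1 : A) + t • x) :
    c = d ∧ r = t := by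
  have h1 := congrArg (Bialgebra.counitAlgHom R A) h
  rw [counit_decomp x hx, counit_decomp x hx] at h1
  subst h1
  refine ⟨rfl, ?_⟩
  have h2 : (r - t) • x = 0 := by
    rw [sub_smul, sub_eq_zero]; exact add_left_cancel h
  exact sub_eq_zero.1 (hfree _ h2)

/-- the coordinate functional of `x` -/
noncomputable def coordEquiv (hx : Bialgebra.counitAlgHom R A x = 0)
    (hgen : ∀ f : A, Bialgebra.counitAlgHom R A f = 0 → ∃ r : R, f = r • x)
    (hfree : ∀ r : R, r • x = 0 → r = 0) : (R × R) ≃ₗ[R] A :=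
  LinearEquiv.ofBijective
    ((LinearMap.toSpanSingleton R A 1).coprod (LinearMap.toSpanSingleton R A x))
    ⟨by
      intro ⟨c, r⟩ ⟨d, t⟩ h
      simp only [LinearMap.coprod_apply, LinearMap.toSpanSingleton_apply] at h
      obtain ⟨h1, h2⟩ := decomp_unique x hx hfree h
      rw [h1, h2],
     by
      intro f
      obtain ⟨c, r, rfl⟩ := decomp x hgen f
      exact ⟨(c, r), by simp [LinearMap.coprod_apply, LinearMap.toSpanSingleton_apply]⟩⟩

include hx hgen hfree in
lemma coordEquiv_apply (c r : R) :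
    coordEquiv x hx hgen hfree (c, r) = c • (1 : A) + r • x := by
  simp [coordEquiv, LinearMap.coprod_apply, LinearMap.toSpanSingleton_apply]

include hx hgen hfree in
/-- `x ⊗ x` is a free element. -/
lemma tmul_free (r : R) (h : r • (x ⊗ₜ[R] x) = 0) : r = 0 := by
  let e := coordEquiv x hx hgen hfree
  let l : A →ₗ[R] R := (LinearMap.snd R R R) ∘ₗ e.symm.toLinearMap
  have hl : l x = 1 := by
    have : e (0, 1) = x := by rw [coordEquiv_apply x hx hgen hfree]; simp
    change (e.symm x).2 = 1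
    rw [← this, LinearEquiv.symm_apply_apply]
  have := congrArg ((TensorProduct.lid R R).toLinearMap ∘ₗ TensorProduct.map l l) h
  simpa [hl] using this

end One

end Groth.Agent.Lib.Helper6.OT

namespace Groth.Agent.Lib.Helper6.OT

open TensorProduct

universe u v

section Two

variable {R : Type u} [CommRing R] {A : Type v} [CommRing A] [Bialgebra R A]
  {A' : Type v} [CommRing A'] [Bialgebra R A']

theorem forward (x : A) (hx : Bialgebra.counitAlgHom R A x = 0)
    (hgen : ∀ f : A, Bialgebra.counitAlgHom R A f = 0 → ∃ r : R, f = r • x)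
    (hfree : ∀ r : R, r • x = 0 → r = 0)
    (a b : R) (hxa : x * x = a • x)
    (hxb : Bialgebra.comulAlgHom R A x = x ⊗ₜ[R] 1 + 1 ⊗ₜ[R] x + b • (x ⊗ₜ[R] x))
    (x' : A') (hx' : Bialgebra.counitAlgHom R A' x' = 0)
    (hgen' : ∀ f : A', Bialgebra.counitAlgHom R A' f = 0 → ∃ r : R, f = r • x')
    (hfree' : ∀ r : R, r • x' = 0 → r = 0)
    (a' b' : R) (hxa' : x' * x' = a' • x')
    (hxb' : Bialgebra.comulAlgHom R A' x' = x' ⊗ₜ[R] 1 + 1 ⊗ₜ[R] x' + b' • (x' ⊗ₜ[R] x'))
    (φ : A ≃ₐc[R] A') : ∃ s : Rˣ, a = a' * (s : R) ∧ b' = b * (s : R) := by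
  have hc : ∀ f : A, Bialgebra.counitAlgHom R A' (φ f) = Bialgebra.counitAlgHom R A f := fun f =>
    DFunLike.congr_fun (BialgHom.counitAlgHom_comp (φ : A →ₐc[R] A')) f
  have hc' : ∀ f : A', Bialgebra.counitAlgHom R A (φ.symm f) = Bialgebra.counitAlgHom R A' f :=
    fun f => DFunLike.congr_fun (BialgHom.counitAlgHom_comp (φ.symm : A' →ₐc[R] A)) f
  obtain ⟨s, hs⟩ := hgen' (φ x) (by rw [hc, hx])
  obtain ⟨t, ht⟩ := hgen (φ.symm x') (by rw [hc', hx'])
  have hst : s * t = 1 := by
    have h1 : φ.symm (φ x) = x := φ.symm_apply_apply x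
    rw [hs, map_smul, ht, smul_smul] at h1
    have h2 : (s * t - 1) • x = 0 := by rw [sub_smul, one_smul, h1, sub_self]
    exact sub_eq_zero.1 (hfree _ h2)
  have ha : a * s = s * s * a' := by
    have h1 : φ (x * x) = φ x * φ x := map_mul φ x x
    rw [hxa, map_smul, hs, smul_mul_smul_comm, hxa', smul_smul, smul_smul] at h1
    have h2 : (a * s - s * s * a') • x' = 0 := by rw [sub_smul, h1, sub_self]
    exact sub_eq_zero.1 (hfree' _ h2)
  have hb : b * s * s = s * b' := by
    have h1 : TensorProduct.map (φ : A →ₗ[R] A') (φ : A →ₗ[R] A') (Coalgebra.comul (R := R) x) =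
        Coalgebra.comul (R := R) (φ x) := CoalgHomClass.map_comp_comul_apply φ x
    have e1 : Coalgebra.comul (R := R) x = x ⊗ₜ[R] 1 + 1 ⊗ₜ[R] x + b • (x ⊗ₜ[R] x) := hxb
    have e2 : Coalgebra.comul (R := R) x' = x' ⊗ₜ[R] 1 + 1 ⊗ₜ[R] x' + b' • (x' ⊗ₜ[R] x') := hxb'
    rw [e1, hs, map_smul, e2] at h1
    simp only [map_add, map_smul, TensorProduct.map_tmul] at h1
    have h3 : (φ : A →ₗ[R] A') x = s • x' := hs
    have h4 : (φ : A →ₗ[R] A') 1 = 1 := map_one φ
    rw [h3, h4] at h1
    simp only [TensorProduct.smul_tmul', TensorProduct.tmul_smul, smul_add, smul_smul] at h1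
    have h2 : (b * s * s - s * b') • (x' ⊗ₜ[R] x') = 0 := by
      rw [sub_smul, sub_eq_zero]
      have := h1
      simp only [add_assoc] at this
      have := add_left_cancel (add_left_cancel this)
      rw [← TensorProduct.smul_tmul', ← TensorProduct.smul_tmul'] at this
      rw [← this]
      congr 1
      ring
    exact sub_eq_zero.1 (tmul_free x' hx' hgen' hfree' _ h2)
  have hts : t * s = 1 := by rw [mul_comm]; exact hst
  refine ⟨⟨s, t, hst, hts⟩, ?_, ?_⟩
  · change a = a' * s
    calc a = a * (s * t) := by rw [hst, mul_one]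
      _ = (a * s) * t := by ring
      _ = s * s * a' * t := by rw [ha]
      _ = a' * s * (s * t) := by ring
      _ = a' * s := by rw [hst, mul_one]
  · change b' = b * s
    calc b' = (t * s) * b' := by rw [hts, one_mul]
      _ = t * (s * b') := by ring
      _ = t * (b * s * s) := by rw [hb]
      _ = b * s * (s * t) := by ring
      _ = b * s := by rw [hst, mul_one]

end Two

end Groth.Agent.Lib.Helper6.OT

namespace Groth.Agent.Lib.Helper6.OT

open TensorProduct

universe u v

section Three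

variable {R : Type u} [CommRing R] {A : Type v} [CommRing A] [Bialgebra R A]
  {A' : Type v} [CommRing A'] [Bialgebra R A']

theorem backward (x : A) (hx : Bialgebra.counitAlgHom R A x = 0)
    (hgen : ∀ f : A, Bialgebra.counitAlgHom R A f = 0 → ∃ r : R, f = r • x)
    (hfree : ∀ r : R, r • x = 0 → r = 0)
    (a b : R) (hxa : x * x = a • x)
    (hxb : Bialgebra.comulAlgHom R A x = x ⊗ₜ[R] 1 + 1 ⊗ₜ[R] x + b • (x ⊗ₜ[R] x))
    (x' : A') (hx' : Bialgebra.counitAlgHom R A' x' = 0)
    (hgen' : ∀ f : A', Bialgebra.counitAlgHom R A' f = 0 → ∃ r : R, f = r • x')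
    (hfree' : ∀ r : R, r • x' = 0 → r = 0)
    (a' b' : R) (hxa' : x' * x' = a' • x')
    (hxb' : Bialgebra.comulAlgHom R A' x' = x' ⊗ₜ[R] 1 + 1 ⊗ₜ[R] x' + b' • (x' ⊗ₜ[R] x'))
    (s : Rˣ) (ha : a = a' * (s : R)) (hb : b' = b * (s : R)) : Nonempty (A ≃ₐc[R] A') := by
  let e := coordEquiv x hx hgen hfree
  let e' := coordEquiv x' hx' hgen' hfree'
  let l : A ≃ₗ[R] A' :=
    e.symm ≪≫ₗ (LinearEquiv.prodCongr (LinearEquiv.refl R R) (LinearEquiv.smulOfUnit s)) ≪≫ₗ e'
  have hl : ∀ c r : R, l (c • (1 : A) + r • x) = c • (1 : A') + ((s : R) * r) • x' := by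
    intro c r
    change e' ((LinearEquiv.prodCongr (LinearEquiv.refl R R) (LinearEquiv.smulOfUnit s))
      (e.symm (c • (1 : A) + r • x))) = _
    rw [← coordEquiv_apply x hx hgen hfree, LinearEquiv.symm_apply_apply]
    change e' (c, s • r) = _
    rw [coordEquiv_apply x' hx' hgen' hfree']
    rfl
  have hl1 : l 1 = 1 := by
    have := hl 1 0
    simpa using this
  have hlx : l x = (s : R) • x' := by
    have := hl 0 1
    simpa using this
  have hmul : ∀ f g : A, l (f * g) = l f * l g := by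
    intro f g
    obtain ⟨c, r, rfl⟩ := decomp x hgen f
    obtain ⟨d, t, rfl⟩ := decomp x hgen g
    have e1 : (c • (1 : A) + r • x) * (d • (1 : A) + t • x) =
        (c * d) • (1 : A) + (c * t + r * d + r * t * a) • x := by
      simp only [add_mul, mul_add, smul_mul_smul_comm, one_mul, mul_one, hxa, smul_smul, add_smul]
      ring_nf
    have e2 : (c • (1 : A') + ((s : R) * r) • x') * (d • (1 : A') + ((s : R) * t) • x') =
        (c * d) • (1 : A') + ((s : R) * (c * t + r * d + r * t * a)) • x' := by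
      simp only [add_mul, mul_add, smul_mul_smul_comm, one_mul, mul_one, hxa', smul_smul, add_smul,
        ha]
      ring_nf
    rw [e1, hl, hl, hl, e2]
  let f : A ≃ₐ[R] A' := AlgEquiv.ofLinearEquiv l hl1 hmul
  have hf : ∀ z : A, f z = l z := fun z => rfl
  refine ⟨BialgEquiv.ofAlgEquiv f ?_ ?_⟩
  · ext z
    obtain ⟨c, r, rfl⟩ := decomp x hgen z
    change Bialgebra.counitAlgHom R A' (f _) = _
    rw [hf, hl, counit_decomp x hx, counit_decomp x' hx']
  · ext z
    obtain ⟨c, r, rfl⟩ := decomp x hgen z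
    simp only [AlgHom.comp_apply, map_add, map_smul, map_one]
    congr 2
    change (Algebra.TensorProduct.map (f : A →ₐ[R] A') (f : A →ₐ[R] A'))
      (Bialgebra.comulAlgHom R A x) = Bialgebra.comulAlgHom R A' (f x)
    rw [hxb, hf, hlx, map_smul, hxb']
    simp only [map_add, map_smul, Algebra.TensorProduct.map_tmul, map_one]
    have : (f : A →ₐ[R] A') x = (s : R) • x' := hlx
    rw [this]
    simp only [TensorProduct.smul_tmul', TensorProduct.tmul_smul, smul_add, smul_smul, hb]
    congr 2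
    ring_nf

end Three

end Groth.Agent.Lib.Helper6.OT
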