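import Mathlib
import Groth.Agent.Lib.Helper6OmProjA

set_option autoImplicit false
universe u

namespace Groth.Agent.Lib.Helper6.OmProj

open IsLocalRing TensorProduct KaehlerDifferential

/-- **Lemma L**: `B` a domain, formally smooth over `k`; `R = B/I` such that `d x ∈ I Ω_B` for all
`x ∈ I` (i.e. the conormal map of `I` is zero) and some localization `R_{p'}` is formally smooth
over `k`. Then `I = 0`. -/
theorem ker_eq_bot_of_conormal_zero {k B R : Type u} [Field k] [CommRing B] [IsDomain B]
    [Algebra k B] [Algebra.FormallySmooth k B] [IsNoetherianRing B]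
    [CommRing R] [Algebra k R] [Algebra B R] [IsScalarTower k B R]
    (hsurj : Function.Surjective (algebraMap B R))
    (hD : ∀ x ∈ RingHom.ker (algebraMap B R),
      D k B x ∈ (RingHom.ker (algebraMap B R)) • (⊤ : Submodule B Ω[B⁄k]))
    (p' : Ideal R) [p'.IsPrime] [hsm : Algebra.FormallySmooth k (Localization.AtPrime p')] :
    RingHom.ker (algebraMap B R) = ⊥ := by
  let P' : Ideal B := p'.comap (algebraMap B R)
  haveI : P'.IsPrime := Ideal.comap_isPrime _ _
  let φ : Localization.AtPrime P' →+* Localization.AtPrime p' :=
    Localization.localRingHom P' p' (algebraMap B R) rfl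
  letI : Algebra (Localization.AtPrime P') (Localization.AtPrime p') := φ.toAlgebra
  haveI : IsScalarTower k (Localization.AtPrime P') (Localization.AtPrime p') := by
    refine IsScalarTower.of_algebraMap_eq (fun c => ?_)
    rw [RingHom.algebraMap_toAlgebra,
      IsScalarTower.algebraMap_apply k B (Localization.AtPrime P'),
      Localization.localRingHom_to_map, IsScalarTower.algebraMap_apply k R (Localization.AtPrime p'),
      ← IsScalarTower.algebraMap_apply k B R]
  have hφ : ∀ y, algebraMap (Localization.AtPrime P') (Localization.AtPrime p') y = φ y :=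
    fun y => rfl
  have hsurj' : Function.Surjective
      (algebraMap (Localization.AtPrime P') (Localization.AtPrime p')) :=
    localRingHom_surjective (algebraMap B R) hsurj p' P' rfl
  haveI : Algebra.FormallySmooth k (Localization.AtPrime P') :=
    Algebra.FormallySmooth.comp k B _
  obtain ⟨l, hl⟩ := (Algebra.FormallySmooth.iff_split_injection (R := k)
    (P := Localization.AtPrime P') (A := Localization.AtPrime p') hsurj').mp hsm
  have hinj : Function.Injective
      (kerCotangentToTensor k (Localization.AtPrime P') (Localization.AtPrime p')) :=
    Function.LeftInverse.injective (g := l) (fun x => by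
      have := congr($hl x); simpa using this)
  -- the key vanishing
  have hkey : ∀ x ∈ RingHom.ker (algebraMap B R),
      (1 : Localization.AtPrime p') ⊗ₜ[Localization.AtPrime P']
        D k (Localization.AtPrime P') (algebraMap B (Localization.AtPrime P') x) = 0 := by
    intro x hx
    let T : Ω[B⁄k] →ₗ[B] (Localization.AtPrime p') ⊗[Localization.AtPrime P']
        Ω[Localization.AtPrime P'⁄k] :=
      ((TensorProduct.mk (Localization.AtPrime P') (Localization.AtPrime p')
        Ω[Localization.AtPrime P'⁄k] 1).restrictScalars B) ∘ₗ
        (KaehlerDifferential.map k k B (Localization.AtPrime P'))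
    have hT : (RingHom.ker (algebraMap B R)) • (⊤ : Submodule B Ω[B⁄k]) ≤ LinearMap.ker T := by
      rw [Submodule.smul_le]
      intro i hi ω _
      rw [LinearMap.mem_ker, map_smul]
      simp only [T, LinearMap.comp_apply, LinearMap.restrictScalars_apply, TensorProduct.mk_apply]
      rw [← algebraMap_smul (Localization.AtPrime P') i, TensorProduct.smul_tmul',
        Algebra.smul_def, mul_one, hφ, Localization.localRingHom_to_map,
        RingHom.mem_ker.mp hi, map_zero, TensorProduct.zero_tmul]
    have := hT (hD x hx)
    rw [LinearMap.mem_ker] at this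
    simpa [T] using this
  -- `I' ≤ I'^2`
  have hI' : ∀ y ∈ RingHom.ker (algebraMap (Localization.AtPrime P') (Localization.AtPrime p')),
      y ∈ RingHom.ker (algebraMap (Localization.AtPrime P') (Localization.AtPrime p')) ^ 2 := by
    intro y hy
    obtain ⟨x, hx, s, rfl⟩ := exists_of_localRingHom_eq_zero (algebraMap B R) hsurj p' P' rfl y
      (RingHom.mem_ker.mp hy)
    have h0 : kerCotangentToTensor k (Localization.AtPrime P') (Localization.AtPrime p')
        (Ideal.toCotangent _ ⟨_, hy⟩) = 0 := by
      rw [kerCotangentToTensor_toCotangent]
      have hmk : IsLocalization.mk' (Localization.AtPrime P') x s =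
          IsLocalization.mk' (Localization.AtPrime P') 1 s *
            algebraMap B (Localization.AtPrime P') x := by
        rw [mul_comm, IsLocalization.mul_mk'_eq_mk'_of_mul, mul_one]
      simp only
      rw [hmk, Derivation.leibniz, TensorProduct.tmul_add, TensorProduct.tmul_smul,
        hkey x hx, smul_zero, zero_add, TensorProduct.tmul_smul]
      rw [TensorProduct.smul_tmul', Algebra.smul_def,
        mul_one, hφ, Localization.localRingHom_to_map, RingHom.mem_ker.mp hx, map_zero,
        TensorProduct.zero_tmul]
    have h1 := hinj (h0.trans (map_zero _).symm)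
    rwa [Ideal.toCotangent_eq_zero] at h1
  haveI : IsNoetherianRing (Localization.AtPrime P') :=
    IsLocalization.isNoetherianRing P'.primeCompl _ inferInstance
  have hbot : RingHom.ker (algebraMap (Localization.AtPrime P') (Localization.AtPrime p')) = ⊥ := by
    apply Submodule.eq_bot_of_le_smul_of_le_jacobson_bot
      (RingHom.ker (algebraMap (Localization.AtPrime P') (Localization.AtPrime p'))) _
      (IsNoetherian.noetherian _)
    · intro y hy
      have := hI' y hy
      rwa [pow_two] at this
    · rw [IsLocalRing.jacobson_eq_maximalIdeal _ bot_ne_top]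
      intro y hy
      rw [mem_maximalIdeal, mem_nonunits_iff]
      intro hu
      have := hu.map (algebraMap (Localization.AtPrime P') (Localization.AtPrime p'))
      rw [RingHom.mem_ker.mp hy] at this
      exact not_isUnit_zero this
  rw [eq_bot_iff]
  intro x hx
  have hx' : algebraMap B (Localization.AtPrime P') x ∈
      RingHom.ker (algebraMap (Localization.AtPrime P') (Localization.AtPrime p')) := by
    rw [RingHom.mem_ker, hφ, Localization.localRingHom_to_map, RingHom.mem_ker.mp hx, map_zero]
  rw [hbot, Ideal.mem_bot] at hx'
  rw [Ideal.mem_bot]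
  exact (IsLocalization.injective (Localization.AtPrime P')
    (P'.primeCompl_le_nonZeroDivisors)) (hx'.trans (map_zero _).symm)

end Groth.Agent.Lib.Helper6.OmProj
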