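import Mathlib
import Groth.Agent.Lib.Helper6OmProjA
import Groth.Agent.Lib.Helper6OmProjC
import Groth.Agent.Lib.Helper6OmProjE

set_option autoImplicit false
universe u

namespace Groth.Agent.Lib.Helper6.OmProj

open IsLocalRing TensorProduct KaehlerDifferential

/-- **Lemma Y**: a local quotient `R` of a formally smooth, essentially finite type local
`k`-algebra `P` whose module of differentials is projective and which is formally smooth at some
prime (e.g. a generic point) is formally smooth over `k`. -/
theorem formallySmooth_of_projective_kaehler {k P R : Type u} [Field k]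
    [CommRing P] [IsLocalRing P] [Algebra k P] [Algebra.EssFiniteType k P]
    [Algebra.FormallySmooth k P]
    [CommRing R] [IsLocalRing R] [Algebra k R] [Algebra P R] [IsScalarTower k P R]
    (hsurj : Function.Surjective (algebraMap P R))
    [Module.Projective R Ω[R⁄k]]
    (p' : Ideal R) [p'.IsPrime] [hsm : Algebra.FormallySmooth k (Localization.AtPrime p')] :
    Algebra.FormallySmooth k R := by
  classical
  haveI : IsNoetherianRing P := Algebra.EssFiniteType.isNoetherianRing k P
  haveI : Module.Finite P Ω[P⁄k] := inferInstance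
  haveI : Module.Free P Ω[P⁄k] := Module.free_of_flat_of_isLocalRing
  -- the conormal sequence splits
  let β := KaehlerDifferential.mapBaseChange k P R
  have hβ : Function.Surjective β := KaehlerDifferential.mapBaseChange_surjective k P R hsurj
  obtain ⟨σ, hσ⟩ := Module.projective_lifting_property β LinearMap.id hβ
  let N : Submodule R (R ⊗[P] Ω[P⁄k]) := LinearMap.ker β
  let ρ : R ⊗[P] Ω[P⁄k] →ₗ[R] N :=
    (LinearMap.id - σ ∘ₗ β).codRestrict N (fun x => by
      rw [LinearMap.mem_ker, LinearMap.sub_apply, map_sub, LinearMap.id_apply,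
        LinearMap.comp_apply, ← LinearMap.comp_apply β σ, hσ, LinearMap.id_apply, sub_self])
  have hρ : ∀ n : N, ρ n.1 = n := by
    intro n
    apply Subtype.ext
    simp only [ρ, LinearMap.codRestrict_apply, LinearMap.sub_apply, LinearMap.id_apply,
      LinearMap.comp_apply]
    rw [LinearMap.mem_ker.mp n.2, map_zero, sub_zero]
  haveI : Module.Projective R N :=
    Module.Projective.of_split N.subtype ρ (LinearMap.ext fun n => hρ n)
  haveI : Module.Finite R N :=
    Module.Finite.of_surjective ρ (fun n => ⟨n.1, hρ n⟩)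
  haveI : Module.FinitePresentation R N := Module.finitePresentation_of_projective R N
  -- generators of `N`
  have hvmem : ∀ x : RingHom.ker (algebraMap P R), (1 : R) ⊗ₜ[P] D k P x.1 ∈ N := by
    intro x
    rw [LinearMap.mem_ker, KaehlerDifferential.mapBaseChange_tmul, KaehlerDifferential.map_D,
      RingHom.mem_ker.mp x.2, map_zero, smul_zero]
  let v : RingHom.ker (algebraMap P R) → N := fun x => ⟨(1 : R) ⊗ₜ[P] D k P x.1, hvmem x⟩
  have hvsurj : Function.Surjective v := by
    intro n
    have hn : n.1 ∈ (LinearMap.ker β).restrictScalars P := n.2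
    rw [← KaehlerDifferential.range_kerCotangentToTensor k P R hsurj] at hn
    obtain ⟨c, hc⟩ := hn
    obtain ⟨x, rfl⟩ := Ideal.toCotangent_surjective _ c
    exact ⟨x, Subtype.ext hc⟩
  have hv : Submodule.span R (Set.range v) = ⊤ := by
    rw [hvsurj.range_eq, Submodule.span_univ]
  obtain ⟨κ', a, b, hb⟩ := Module.exists_basis_of_span_of_flat v hv
  haveI : Finite κ' := Module.Finite.finite_basis b
  haveI : Fintype κ' := Fintype.ofFinite κ'
  let f : κ' → P := fun i => (a i).1
  let J' : Ideal P := Ideal.span (Set.range f)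
  have hJ'J : J' ≤ RingHom.ker (algebraMap P R) := by
    rw [Ideal.span_le]
    rintro _ ⟨i, rfl⟩
    exact (a i).2
  -- the intermediate ring `B = P / J'`
  letI algBR : Algebra (P ⧸ J') R :=
    (Ideal.Quotient.lift J' (algebraMap P R) (fun x hx => hJ'J hx)).toAlgebra
  have hBR : ∀ x : P, algebraMap (P ⧸ J') R (Ideal.Quotient.mk J' x) = algebraMap P R x :=
    fun x => rfl
  haveI : IsScalarTower P (P ⧸ J') R := IsScalarTower.of_algebraMap_eq (fun x => (hBR x).symm)
  haveI : IsScalarTower k (P ⧸ J') R := by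
    refine IsScalarTower.of_algebraMap_eq (fun c => ?_)
    rw [IsScalarTower.algebraMap_apply k P (P ⧸ J'), Ideal.Quotient.algebraMap_eq, hBR,
      ← IsScalarTower.algebraMap_apply]
  have hsurjB : Function.Surjective (algebraMap (P ⧸ J') R) := by
    intro y
    obtain ⟨x, rfl⟩ := hsurj y
    exact ⟨Ideal.Quotient.mk J' x, hBR x⟩
  have hkerne : RingHom.ker (algebraMap P R) ≠ ⊤ := RingHom.ker_ne_top _
  haveI : Nontrivial (P ⧸ J') :=
    Ideal.Quotient.nontrivial_iff.mpr (fun h => hkerne (top_le_iff.mp (h ▸ hJ'J)))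
  haveI : IsLocalRing (P ⧸ J') :=
    IsLocalRing.of_surjective' (Ideal.Quotient.mk J') Ideal.Quotient.mk_surjective
  haveI : IsScalarTower P (P ⧸ J') (ResidueField R) := by
    refine IsScalarTower.of_algebraMap_eq (fun x => ?_)
    rw [IsScalarTower.algebraMap_apply P R (ResidueField R),
      IsScalarTower.algebraMap_apply (P ⧸ J') R (ResidueField R), Ideal.Quotient.algebraMap_eq, hBR]
  have h₃ : maximalIdeal (P ⧸ J') ≤ RingHom.ker (algebraMap (P ⧸ J') (ResidueField R)) := by
    intro x hx
    rw [RingHom.mem_ker, IsScalarTower.algebraMap_apply (P ⧸ J') R (ResidueField R),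
      ResidueField.algebraMap_eq, residue_eq_zero_iff]
    haveI : IsLocalHom (algebraMap (P ⧸ J') R) := IsLocalHom.of_surjective _ hsurjB
    rw [mem_maximalIdeal, mem_nonunits_iff] at hx ⊢
    exact fun hu => hx (isUnit_of_map_unit (algebraMap (P ⧸ J') R) x hu)
  -- linear independence of `1 ⊗ d f_i` in `K ⊗ Ω`
  have hli : LinearIndependent (ResidueField R)
      (fun i => (1 : ResidueField R) ⊗ₜ[P] D k P (f i)) := by
    let Ψ : (ResidueField R) ⊗[P] Ω[P⁄k] →ₗ[ResidueField R] (ResidueField R) ⊗[R] N :=
      (LinearMap.baseChange (ResidueField R) ρ) ∘ₗ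
        (AlgebraTensorModule.cancelBaseChange P R (ResidueField R) (ResidueField R)
          Ω[P⁄k]).symm.toLinearMap
    apply LinearIndependent.of_comp Ψ
    have : Ψ ∘ (fun i => (1 : ResidueField R) ⊗ₜ[P] D k P (f i)) =
        fun i => (b.baseChange (ResidueField R)) i := by
      funext i
      simp only [Ψ, Function.comp_apply, LinearMap.comp_apply, LinearEquiv.coe_coe,
        AlgebraTensorModule.cancelBaseChange_symm_tmul, LinearMap.baseChange_tmul,
        Module.Basis.baseChange_apply]
      congr 1
      rw [hb i]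
      exact hρ (v (a i))
    rw [this]
    exact (b.baseChange (ResidueField R)).linearIndependent
  have hker : RingHom.ker (algebraMap P (P ⧸ J')) = Ideal.span (Set.range f) := by
    rw [Ideal.Quotient.algebraMap_eq, Ideal.mk_ker]
  haveI hBsm : Algebra.FormallySmooth k (P ⧸ J') :=
    formallySmooth_of_linearIndependent (k := k) (P := P) (S := P ⧸ J') (K := ResidueField R)
      Ideal.Quotient.mk_surjective f hker h₃ hli
  haveI : IsDomain (P ⧸ J') := isDomain_of_formallySmooth (k := k)
  haveI : IsNoetherianRing (P ⧸ J') := inferInstance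
  -- the conormal map of `B → R` vanishes
  have hD : ∀ x ∈ RingHom.ker (algebraMap (P ⧸ J') R),
      D k (P ⧸ J') x ∈ (RingHom.ker (algebraMap (P ⧸ J') R)) •
        (⊤ : Submodule (P ⧸ J') Ω[(P ⧸ J')⁄k]) := by
    intro xbar hxbar
    obtain ⟨x, rfl⟩ := Ideal.Quotient.mk_surjective xbar
    have hx : x ∈ RingHom.ker (algebraMap P R) := by
      rw [RingHom.mem_ker, ← hBR]; exact hxbar
    -- expand `v x` in the basis
    have hrepr := b.sum_repr (v ⟨x, hx⟩)
    have hlift : ∀ i, ∃ c : P, algebraMap P R c = b.repr (v ⟨x, hx⟩) i := fun i => hsurj _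
    choose c hc using hlift
    have h1 : (1 : R) ⊗ₜ[P] (D k P x - ∑ i, c i • D k P (f i)) = 0 := by
      rw [TensorProduct.tmul_sub, TensorProduct.tmul_sum, sub_eq_zero]
      have := congrArg Subtype.val hrepr
      rw [AddSubmonoidClass.coe_finsetSum] at this
      rw [← show (v ⟨x, hx⟩).1 = (1 : R) ⊗ₜ[P] D k P x from rfl, ← this]
      refine Finset.sum_congr rfl (fun i _ => ?_)
      rw [Submodule.coe_smul, hb i, ← hc i, TensorProduct.tmul_smul, algebraMap_smul]
    have h2 : D k P x - ∑ i, c i • D k P (f i) ∈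
        (RingHom.ker (algebraMap P R)) • (⊤ : Submodule P Ω[P⁄k]) := by
      rw [← ker_mk_eq_smul_top hsurj, LinearMap.mem_ker]
      exact h1
    let T : Submodule P Ω[P⁄k] :=
      (((RingHom.ker (algebraMap (P ⧸ J') R)) •
        (⊤ : Submodule (P ⧸ J') Ω[(P ⧸ J')⁄k])).restrictScalars P).comap
        (KaehlerDifferential.map k k P (P ⧸ J'))
    have hT : (RingHom.ker (algebraMap P R)) • (⊤ : Submodule P Ω[P⁄k]) ≤ T := by
      rw [Submodule.smul_le]
      intro j hj ω _
      rw [Submodule.mem_comap, map_smul, Submodule.restrictScalars_mem,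
        ← algebraMap_smul (P ⧸ J') j]
      refine Submodule.smul_mem_smul ?_ Submodule.mem_top
      rw [RingHom.mem_ker, Ideal.Quotient.algebraMap_eq, hBR]
      exact hj
    have h3 := hT h2
    rw [Submodule.mem_comap, map_sub, map_sum, Submodule.restrictScalars_mem] at h3
    have h4 : ∑ i, (KaehlerDifferential.map k k P (P ⧸ J')) (c i • D k P (f i)) = 0 := by
      refine Finset.sum_eq_zero (fun i _ => ?_)
      rw [map_smul, KaehlerDifferential.map_D, Ideal.Quotient.algebraMap_eq,
        Ideal.Quotient.eq_zero_iff_mem.mpr (show f i ∈ J' from Ideal.subset_span ⟨i, rfl⟩),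
        map_zero, smul_zero]
    rw [h4, sub_zero, KaehlerDifferential.map_D] at h3
    exact h3
  have hbot := ker_eq_bot_of_conormal_zero (k := k) (B := P ⧸ J') (R := R) hsurjB hD p'
  have hinj : Function.Injective (algebraMap (P ⧸ J') R) :=
    (RingHom.injective_iff_ker_eq_bot _).mpr hbot
  let e : (P ⧸ J') ≃ₐ[k] R :=
    AlgEquiv.ofBijective (IsScalarTower.toAlgHom k (P ⧸ J') R) ⟨hinj, hsurjB⟩
  exact Algebra.FormallySmooth.of_equiv e

end Groth.Agent.Lib.Helper6.OmProj
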