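import Mathlib
import Groth.Agent.Lib.Helper6OmProjF

set_option autoImplicit false
universe u

namespace Groth.Agent.Lib.Helper6.OmProj

open IsLocalRing TensorProduct KaehlerDifferential

/-- `(A_q)_{pA_q} ≃ A_p` for primes `p ≤ q`. -/
theorem formallySmooth_localization_map_iff (k A : Type u) [Field k] [CommRing A] [Algebra k A]
    (q : Ideal A) [q.IsPrime] (p : Ideal A) [p.IsPrime] (hpq : p ≤ q)
    (p' : Ideal (Localization.AtPrime q)) [p'.IsPrime]
    (hp' : p'.comap (algebraMap A (Localization.AtPrime q)) = p) :
    Algebra.FormallySmooth k (Localization.AtPrime p') ↔ Algebra.IsSmoothAt k p := by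
  subst hp'
  haveI h1 : IsLocalization.AtPrime (Localization.AtPrime p')
      (p'.comap (algebraMap A (Localization.AtPrime q))) :=
    IsLocalization.isLocalization_isLocalization_atPrime_isLocalization q.primeCompl _ p'
  let e : Localization.AtPrime (p'.comap (algebraMap A (Localization.AtPrime q))) ≃ₐ[A]
      Localization.AtPrime p' :=
    IsLocalization.algEquiv (p'.comap (algebraMap A (Localization.AtPrime q))).primeCompl _ _
  exact ⟨fun h => Algebra.FormallySmooth.of_equiv (e.restrictScalars k).symm,
    fun h => Algebra.FormallySmooth.of_equiv (e.restrictScalars k)⟩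

/-- **Projective differentials + smooth at a generization ⇒ smooth** at a prime of a finite type
algebra over a field. -/
theorem isSmoothAt_of_projective_kaehler (k A : Type u) [Field k] [CommRing A]
    [Algebra k A] [Algebra.FiniteType k A] (q : Ideal A) [q.IsPrime]
    [hΩ : Module.Projective (Localization.AtPrime q) Ω[Localization.AtPrime q⁄k]]
    (p : Ideal A) [p.IsPrime] (hpq : p ≤ q) [hp : Algebra.IsSmoothAt k p] :
    Algebra.IsSmoothAt k q := by
  obtain ⟨n, f, hf⟩ := (Algebra.FiniteType.iff_quotient_mvPolynomial'' (R := k) (S := A)).mp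
    inferInstance
  let 𝔫 : Ideal (MvPolynomial (Fin n) k) := q.comap f.toRingHom
  haveI : 𝔫.IsPrime := Ideal.comap_isPrime f.toRingHom q
  let φ : Localization.AtPrime 𝔫 →+* Localization.AtPrime q :=
    Localization.localRingHom 𝔫 q f.toRingHom rfl
  letI : Algebra (Localization.AtPrime 𝔫) (Localization.AtPrime q) := φ.toAlgebra
  haveI : IsScalarTower k (Localization.AtPrime 𝔫) (Localization.AtPrime q) := by
    refine IsScalarTower.of_algebraMap_eq (fun c => ?_)
    rw [RingHom.algebraMap_toAlgebra,
      IsScalarTower.algebraMap_apply k (MvPolynomial (Fin n) k) (Localization.AtPrime 𝔫),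
      Localization.localRingHom_to_map, IsScalarTower.algebraMap_apply k A (Localization.AtPrime q)]
    simp
  have hsurj : Function.Surjective
      (algebraMap (Localization.AtPrime 𝔫) (Localization.AtPrime q)) :=
    localRingHom_surjective f.toRingHom hf q 𝔫 rfl
  haveI : Algebra.FormallySmooth k (Localization.AtPrime 𝔫) :=
    Algebra.FormallySmooth.comp k (MvPolynomial (Fin n) k) _
  -- the prime `p' = p A_q`
  have hdisj : Disjoint (q.primeCompl : Set A) (p : Set A) := by
    rw [Set.disjoint_left]
    intro x hx hxp
    exact hx (hpq hxp)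
  let p' : Ideal (Localization.AtPrime q) := p.map (algebraMap A (Localization.AtPrime q))
  haveI : p'.IsPrime :=
    IsLocalization.isPrime_of_isPrime_disjoint q.primeCompl _ p inferInstance hdisj
  have hp' : p'.comap (algebraMap A (Localization.AtPrime q)) = p :=
    IsLocalization.under_map_of_isPrime_disjoint q.primeCompl _ inferInstance hdisj
  haveI : Algebra.FormallySmooth k (Localization.AtPrime p') :=
    (formallySmooth_localization_map_iff k A q p hpq p' hp').mpr hp
  exact formallySmooth_of_projective_kaehler (k := k) (P := Localization.AtPrime 𝔫)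
    (R := Localization.AtPrime q) hsurj p'

end Groth.Agent.Lib.Helper6.OmProj
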