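import Mathlib
import Groth.Agent.Lib.Helper6OmProjG
import Groth.Agent.Lib.Helper19FSField

set_option autoImplicit false
universe u

namespace Groth.Agent.Lib.Helper6.OmProj

open IsLocalRing TensorProduct KaehlerDifferential

/-- a reduced local ring with a single prime ideal is a field -/
theorem isField_of_subsingleton_primeSpectrum (S : Type*) [CommRing S] [IsLocalRing S]
    [Subsingleton (PrimeSpectrum S)] [IsReduced S] : IsField S := by
  rw [IsLocalRing.isField_iff_maximalIdeal_eq, eq_bot_iff]
  intro x hx
  rw [Ideal.mem_bot]
  apply IsReduced.eq_zero
  rw [nilpotent_iff_mem_prime]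
  intro J hJ
  have : (⟨J, hJ⟩ : PrimeSpectrum S) = ⟨maximalIdeal S, inferInstance⟩ := Subsingleton.elim _ _
  have hJ' : J = maximalIdeal S := congrArg PrimeSpectrum.asIdeal this
  rw [hJ']
  exact hx

/-- a local ring which is a field is isomorphic to its residue field -/
noncomputable def equivResidueField (k S : Type*) [CommRing k] [CommRing S] [IsLocalRing S]
    [Algebra k S] (h : IsField S) : S ≃ₐ[k] ResidueField S :=
  AlgEquiv.ofBijective (IsScalarTower.toAlgHom k S (ResidueField S)) ⟨by
    rw [IsLocalRing.isField_iff_maximalIdeal_eq] at h
    rw [injective_iff_map_eq_zero]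
    intro x hx
    have : x ∈ maximalIdeal S := by
      rw [← residue_eq_zero_iff]
      exact hx
    rw [h] at this
    exact this, residue_surjective⟩

/-- geometrically reduced with one prime ⇒ formally smooth -/
theorem formallySmooth_of_isGeometricallyReduced {k S : Type u} [Field k] [CommRing S]
    [IsLocalRing S] [Algebra k S] [Subsingleton (PrimeSpectrum S)]
    [Algebra.IsGeometricallyReduced k S] : Algebra.FormallySmooth k S := by
  haveI : IsReduced S := Algebra.isReduced_of_isGeometricallyReduced (k := k)
  have hfield := isField_of_subsingleton_primeSpectrum S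
  let e := equivResidueField k S hfield
  haveI : Algebra.IsGeometricallyReduced k (ResidueField S) :=
    Algebra.IsGeometricallyReduced.of_injective e.symm.toAlgHom e.symm.injective
  haveI : Algebra.FormallySmooth k (ResidueField S) :=
    Groth.Agent.Lib.Helper19.PBasis.formallySmooth_of_isGeometricallyReduced
  exact Algebra.FormallySmooth.of_equiv e.symm

/-- formally smooth (ess. of finite type) with one prime ⇒ geometrically reduced -/
theorem isGeometricallyReduced_of_formallySmooth {k S : Type u} [Field k] [CommRing S]
    [IsLocalRing S] [Algebra k S] [Algebra.EssFiniteType k S] [Subsingleton (PrimeSpectrum S)]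
    [Algebra.FormallySmooth k S] : Algebra.IsGeometricallyReduced k S := by
  haveI : IsDomain S := isDomain_of_formallySmooth (k := k)
  have hfield := isField_of_subsingleton_primeSpectrum S
  let e := equivResidueField k S hfield
  haveI : Algebra.FormallySmooth k (ResidueField S) := Algebra.FormallySmooth.of_equiv e
  haveI : Algebra.IsGeometricallyReduced k (ResidueField S) :=
    Groth.Agent.Lib.Helper19.PBasis.formallySmooth_field_iff.mp inferInstance
  exact Algebra.IsGeometricallyReduced.of_injective e.toAlgHom e.injective

/-- At a minimal prime of an algebra essentially of finite type over a field: smooth iff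
geometrically reduced. -/
theorem isSmoothAt_iff_isGeometricallyReduced_of_mem_minimalPrimes (k A : Type u) [Field k]
    [CommRing A] [Algebra k A] [Algebra.EssFiniteType k A] (p : Ideal A) [p.IsPrime]
    (hp : p ∈ minimalPrimes A) :
    Algebra.IsSmoothAt k p ↔ Algebra.IsGeometricallyReduced k (Localization.AtPrime p) := by
  haveI : Subsingleton (PrimeSpectrum (Localization.AtPrime p)) :=
    IsLocalization.subsingleton_primeSpectrum_of_mem_minimalPrimes p hp _
  haveI : Algebra.EssFiniteType k (Localization.AtPrime p) := inferInstance
  exact ⟨fun h => isGeometricallyReduced_of_formallySmooth,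
    fun h => formallySmooth_of_isGeometricallyReduced⟩

/-- **EGA IV 17.15.5-type criterion**: a finite type algebra over a field is smooth iff its
differentials are projective and it is geometrically reduced at its generic points. -/
theorem smooth_iff_projective_kaehler (k A : Type u) [Field k] [CommRing A]
    [Algebra k A] [Algebra.FiniteType k A] :
    Algebra.Smooth k A ↔
      Module.Projective A Ω[A⁄k] ∧
        ∀ (p : Ideal A) [p.IsPrime], p ∈ minimalPrimes A →
          Algebra.IsGeometricallyReduced k (Localization.AtPrime p) := by
  haveI : Algebra.FinitePresentation k A :=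
    (Algebra.FinitePresentation.of_finiteType (R := k) (A := A)).mp inferInstance
  constructor
  · intro h
    refine ⟨inferInstance, fun p _ hp => ?_⟩
    rw [← isSmoothAt_iff_isGeometricallyReduced_of_mem_minimalPrimes k A p hp]
    exact Algebra.FormallySmooth.comp k A _
  · rintro ⟨hΩ, hgen⟩
    have hFS : Algebra.FormallySmooth k A := by
      rw [← Algebra.smoothLocus_eq_univ_iff, Set.eq_univ_iff_forall]
      intro q
      obtain ⟨p, hp, hpq⟩ := Ideal.exists_minimalPrimes_le (bot_le : (⊥ : Ideal A) ≤ q.asIdeal)
      haveI : p.IsPrime := hp.1.1
      haveI : Algebra.IsSmoothAt k p :=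
        (isSmoothAt_iff_isGeometricallyReduced_of_mem_minimalPrimes k A p hp).mpr (hgen p hp)
      haveI : Module.Projective (Localization.AtPrime q.asIdeal)
          Ω[Localization.AtPrime q.asIdeal⁄k] :=
        Module.Projective.of_equiv
          (KaehlerDifferential.tensorKaehlerEquivOfFormallyEtale k A
            (Localization.AtPrime q.asIdeal))
      exact isSmoothAt_of_projective_kaehler k A q.asIdeal p hpq
    exact ⟨hFS, inferInstance⟩

end Groth.Agent.Lib.Helper6.OmProj
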