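import Mathlib
import Groth.Agent.Lib.Helper6OmProjH

set_option autoImplicit false
universe u

namespace Groth.Agent.Lib.Helper6.OmProj

open IsLocalRing TensorProduct KaehlerDifferential

/-- reduced with one prime over a perfect field ⇒ formally smooth -/
theorem formallySmooth_of_perfectField_of_isReduced {k S : Type u} [Field k] [PerfectField k]
    [CommRing S] [IsLocalRing S] [Algebra k S] [Algebra.EssFiniteType k S]
    [Subsingleton (PrimeSpectrum S)] [IsReduced S] : Algebra.FormallySmooth k S := by
  have hfield := isField_of_subsingleton_primeSpectrum S
  let e := equivResidueField k S hfield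
  haveI : Algebra.EssFiniteType k (ResidueField S) :=
    Algebra.EssFiniteType.of_surjective e.toAlgHom e.surjective
  haveI : Algebra.FormallySmooth k (ResidueField S) := Algebra.FormallySmooth.of_perfectField
  exact Algebra.FormallySmooth.of_equiv e.symm

/-- reduced finite type algebra over a perfect field with projective differentials is smooth -/
theorem smooth_of_perfectField_of_isReduced (k A : Type u) [Field k] [PerfectField k] [CommRing A]
    [Algebra k A] [Algebra.FiniteType k A] [IsReduced A] [Module.Projective A Ω[A⁄k]] :
    Algebra.Smooth k A := by
  rw [smooth_iff_projective_kaehler]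
  refine ⟨inferInstance, fun p _ hp => ?_⟩
  rw [← isSmoothAt_iff_isGeometricallyReduced_of_mem_minimalPrimes k A p hp]
  haveI : Subsingleton (PrimeSpectrum (Localization.AtPrime p)) :=
    IsLocalization.subsingleton_primeSpectrum_of_mem_minimalPrimes p hp _
  exact formallySmooth_of_perfectField_of_isReduced

end Groth.Agent.Lib.Helper6.OmProj
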