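import Mathlib
import Groth.Agent.Lib.Helper6OmProjI

set_option autoImplicit false
universe u

namespace Groth.Agent.Lib.Helper6.OmProj

open IsLocalRing TensorProduct KaehlerDifferential

/-- **Lemma Z**: in characteristic zero, a local `k`-algebra essentially of finite type with a
single prime ideal and free module of differentials is a field. -/
theorem maximalIdeal_eq_bot_of_free_kaehler {k R : Type u} [Field k] [CharZero k] [CommRing R]
    [IsLocalRing R] [Algebra k R] [Algebra.EssFiniteType k R] [Subsingleton (PrimeSpectrum R)]
    [Module.Free R Ω[R⁄k]] : maximalIdeal R = ⊥ := by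
  classical
  haveI : IsNoetherianRing R := Algebra.EssFiniteType.isNoetherianRing k R
  by_contra hm
  -- residue field is formally smooth
  haveI : Algebra.EssFiniteType k (ResidueField R) :=
    Algebra.EssFiniteType.of_surjective (IsScalarTower.toAlgHom k R (ResidueField R))
      residue_surjective
  haveI : Algebra.FormallySmooth k (ResidueField R) := Algebra.FormallySmooth.of_perfectField
  have hsurjK : Function.Surjective (algebraMap R (ResidueField R)) := residue_surjective
  have hkerK : RingHom.ker (algebraMap R (ResidueField R)) = maximalIdeal R := by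
    ext x
    rw [RingHom.mem_ker, ResidueField.algebraMap_eq, residue_eq_zero_iff]
  -- the retraction
  let F := (IsScalarTower.toAlgHom k R (ResidueField R)).kerSquareLift
  have hFsurj : Function.Surjective F := by
    intro y
    obtain ⟨x, rfl⟩ := hsurjK y
    exact ⟨Ideal.Quotient.mk _ x, rfl⟩
  have hFnil : IsNilpotent (RingHom.ker F.toRingHom) :=
    ⟨2, by
      have := AlgHom.ker_kerSquareLift (IsScalarTower.toAlgHom k R (ResidueField R))
      rw [this, Ideal.cotangentIdeal_square]; rfl⟩
  let g := Algebra.FormallySmooth.liftOfSurjective (AlgHom.id k (ResidueField R)) F hFsurj hFnil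
  have hg : F.comp g = AlgHom.id k (ResidueField R) :=
    Algebra.FormallySmooth.comp_liftOfSurjective _ F hFsurj hFnil
  obtain ⟨l, hl⟩ := (retractionKerCotangentToTensorEquivSection (R := k) (P := R)
    (S := ResidueField R) hsurjK).symm ⟨g, hg⟩
  have hinj : Function.Injective (kerCotangentToTensor k R (ResidueField R)) :=
    Function.LeftInverse.injective (g := l) (fun x => by
      have := congr($hl x)
      rw [LinearMap.comp_apply, LinearMap.id_apply] at this
      exact this)
  -- an element of `m \ m²`
  have hex : ∃ x ∈ maximalIdeal R, x ∉ maximalIdeal R ^ 2 := by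
    by_contra hcon
    push Not at hcon
    apply hm
    apply Submodule.eq_bot_of_le_smul_of_le_jacobson_bot (maximalIdeal R) _
      (IsNoetherian.noetherian _)
    · intro y hy
      have := hcon y hy
      rwa [pow_two] at this
    · rw [IsLocalRing.jacobson_eq_maximalIdeal _ bot_ne_top]
  obtain ⟨x, hxm, hx2⟩ := hex
  have hxK : x ∈ RingHom.ker (algebraMap R (ResidueField R)) := by rw [hkerK]; exact hxm
  have hne : (1 : ResidueField R) ⊗ₜ[R] D k R x ≠ 0 := by
    intro h0
    have h1 : kerCotangentToTensor k R (ResidueField R) (Ideal.toCotangent _ ⟨x, hxK⟩) = 0 := by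
      rw [kerCotangentToTensor_toCotangent]; exact h0
    have h2 := hinj (h1.trans (map_zero _).symm)
    rw [Ideal.toCotangent_eq_zero] at h2
    apply hx2
    have h2' : x ∈ RingHom.ker (algebraMap R (ResidueField R)) ^ 2 := h2
    rwa [hkerK] at h2'
  -- a coordinate of `dx` is a unit
  let b := Module.Free.chooseBasis R Ω[R⁄k]
  have hcoord : ∃ i, IsUnit (b.repr (D k R x) i) := by
    by_contra hcon
    push Not at hcon
    apply hne
    rw [← b.linearCombination_repr (D k R x), Finsupp.linearCombination_apply, Finsupp.sum,
      TensorProduct.tmul_sum]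
    refine Finset.sum_eq_zero (fun i _ => ?_)
    rw [TensorProduct.tmul_smul, TensorProduct.smul_tmul', Algebra.smul_def, mul_one,
      ResidueField.algebraMap_eq, (residue_eq_zero_iff _).mpr (hcon i), TensorProduct.zero_tmul]
  obtain ⟨i, hi⟩ := hcoord
  let δ : Derivation k R R := (b.coord i).compDer (D k R)
  have hδx : δ x = b.repr (D k R x) i := rfl
  -- nilpotency
  have hnil : IsNilpotent x := by
    rw [nilpotent_iff_mem_prime]
    intro J hJ
    have : (⟨J, hJ⟩ : PrimeSpectrum R) = ⟨maximalIdeal R, inferInstance⟩ := Subsingleton.elim _ _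
    have hJ' : J = maximalIdeal R := congrArg PrimeSpectrum.asIdeal this
    rw [hJ']
    exact hxm
  have hN0 : Nat.find hnil ≠ 0 := by
    intro h0
    have := Nat.find_spec hnil
    rw [h0, pow_zero] at this
    exact one_ne_zero this
  obtain ⟨M, hM⟩ := Nat.exists_eq_succ_of_ne_zero hN0
  have hxM1 : x ^ (M + 1) = 0 := by
    have := Nat.find_spec hnil
    rwa [hM] at this
  have hxM : x ^ M ≠ 0 := by
    have := Nat.find_min hnil (m := M) (by omega)
    exact this
  apply hxM
  have h1 : δ (x ^ (M + 1)) = 0 := by rw [hxM1, map_zero]
  rw [Derivation.leibniz_pow, hδx, Nat.add_sub_cancel, smul_eq_mul, nsmul_eq_mul] at h1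
  have hu : IsUnit ((((M + 1 : ℕ) : R)) ) := by
    have : ((M + 1 : ℕ) : R) = algebraMap k R ((M + 1 : ℕ) : k) := by simp
    rw [this]
    exact (IsUnit.mk0 _ (Nat.cast_ne_zero.mpr (Nat.succ_ne_zero M))).map _
  have h2 : x ^ M * (((M + 1 : ℕ) : R) * b.repr (D k R x) i) = 0 := by
    rw [← h1]; ring
  exact (IsUnit.mul_left_eq_zero (hu.mul hi)).mp h2

/-- variant of `isSmoothAt_of_projective_kaehler` with the generization given inside `A_q`. -/
theorem isSmoothAt_of_projective_kaehler' (k A : Type u) [Field k] [CommRing A]
    [Algebra k A] [Algebra.FiniteType k A] (q : Ideal A) [q.IsPrime]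
    [hΩ : Module.Projective (Localization.AtPrime q) Ω[Localization.AtPrime q⁄k]]
    (p' : Ideal (Localization.AtPrime q)) [p'.IsPrime]
    [hp : Algebra.FormallySmooth k (Localization.AtPrime p')] :
    Algebra.IsSmoothAt k q := by
  obtain ⟨n, f, hf⟩ := (Algebra.FiniteType.iff_quotient_mvPolynomial'' (R := k) (S := A)).mp
    inferInstance
  let 𝔫 : Ideal (MvPolynomial (Fin n) k) := q.comap f.toRingHom
  haveI : 𝔫.IsPrime := Ideal.comap_isPrime f.toRingHom q
  let φ : Localization.AtPrime 𝔫 →+* Localization.AtPrime q :=
    Localization.localRingHom 𝔫 q f.toRingHom rfl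
  letI : Algebra (Localization.AtPrime 𝔫) (Localization.AtPrime q) := φ.toAlgebra
  haveI : IsScalarTower k (Localization.AtPrime 𝔫) (Localization.AtPrime q) := by
    refine IsScalarTower.of_algebraMap_eq (fun c => ?_)
    rw [RingHom.algebraMap_toAlgebra,
      IsScalarTower.algebraMap_apply k (MvPolynomial (Fin n) k) (Localization.AtPrime 𝔫),
      Localization.localRingHom_to_map, IsScalarTower.algebraMap_apply k A (Localization.AtPrime q)]
    simp
  have hsurj : Function.Surjective
      (algebraMap (Localization.AtPrime 𝔫) (Localization.AtPrime q)) :=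
    localRingHom_surjective f.toRingHom hf q 𝔫 rfl
  haveI : Algebra.FormallySmooth k (Localization.AtPrime 𝔫) :=
    Algebra.FormallySmooth.comp k (MvPolynomial (Fin n) k) _
  exact formallySmooth_of_projective_kaehler (k := k) (P := Localization.AtPrime 𝔫)
    (R := Localization.AtPrime q) hsurj p'

/-- **Characteristic zero**: smooth at `q` iff the differentials of `A_q` are free. -/
theorem isSmoothAt_iff_free_kaehler (k A : Type u) [Field k] [CharZero k] [CommRing A]
    [Algebra k A] [Algebra.FiniteType k A] (q : Ideal A) [q.IsPrime] :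
    Algebra.IsSmoothAt k q ↔
      Module.Free (Localization.AtPrime q) Ω[Localization.AtPrime q⁄k] := by
  constructor
  · intro h
    haveI : Algebra.FormallySmooth k (Localization.AtPrime q) := h
    haveI : Module.Finite (Localization.AtPrime q) Ω[Localization.AtPrime q⁄k] := inferInstance
    exact Module.free_of_flat_of_isLocalRing
  · intro hfree
    obtain ⟨p', hp', -⟩ := Ideal.exists_minimalPrimes_le
      (bot_le : (⊥ : Ideal (Localization.AtPrime q)) ≤ maximalIdeal (Localization.AtPrime q))
    haveI : p'.IsPrime := hp'.1.1
    haveI : Subsingleton (PrimeSpectrum (Localization.AtPrime p')) :=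
      IsLocalization.subsingleton_primeSpectrum_of_mem_minimalPrimes p' hp' _
    haveI : Module.Free (Localization.AtPrime p') Ω[Localization.AtPrime p'⁄k] :=
      Module.Free.of_equiv (KaehlerDifferential.tensorKaehlerEquivOfFormallyEtale k
        (Localization.AtPrime q) (Localization.AtPrime p'))
    have hbot := maximalIdeal_eq_bot_of_free_kaehler (k := k) (R := Localization.AtPrime p')
    have hfield : IsField (Localization.AtPrime p') :=
      IsLocalRing.isField_iff_maximalIdeal_eq.mpr hbot
    haveI : IsDomain (Localization.AtPrime p') := hfield.isDomain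
    haveI : Algebra.FormallySmooth k (Localization.AtPrime p') :=
      formallySmooth_of_perfectField_of_isReduced
    exact isSmoothAt_of_projective_kaehler' k A q p'

end Groth.Agent.Lib.Helper6.OmProj
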