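import Mathlib
import Groth.Agent.Lib.Helper6OmProjH

set_option autoImplicit false
universe u

namespace Groth.Agent.Lib.Helper6.OmProj

open IsLocalRing TensorProduct KaehlerDifferential

/-- a dense open subset of the spectrum of a Noetherian ring contains all minimal primes -/
theorem mem_of_dense_of_mem_minimalPrimes {A : Type*} [CommRing A] [IsNoetherianRing A]
    (U : TopologicalSpace.Opens (PrimeSpectrum A)) (hU : Dense (U : Set (PrimeSpectrum A)))
    (p : Ideal A) [hp' : p.IsPrime] (hp : p ∈ minimalPrimes A) :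
    (⟨p, hp'⟩ : PrimeSpectrum A) ∈ U := by
  have hZ : PrimeSpectrum.zeroLocus (p : Set A) ∈ irreducibleComponents (PrimeSpectrum A) := by
    rw [PrimeSpectrum.zeroLocus_ideal_mem_irreducibleComponents, hp'.radical]
    exact hp
  obtain ⟨o, ho, hne, hoZ⟩ :=
    TopologicalSpace.NoetherianSpace.exists_isOpen_nonempty_subset_irreducibleComponent _ hZ
  obtain ⟨y, hyo, hyU⟩ := hU.inter_open_nonempty o ho hne
  have hgen : IsGenericPoint (⟨p, hp'⟩ : PrimeSpectrum A) (PrimeSpectrum.zeroLocus (p : Set A)) := by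
    rw [isGenericPoint_def, PrimeSpectrum.closure_singleton]
  exact (hgen.mem_open_set_iff U.2).mpr ⟨y, hoZ hyo, hyU⟩

/-- an open subset of the spectrum containing all minimal primes is dense -/
theorem dense_of_forall_minimalPrimes_mem {A : Type*} [CommRing A]
    (U : Set (PrimeSpectrum A))
    (h : ∀ (p : Ideal A) (hp' : p.IsPrime), p ∈ minimalPrimes A →
      (⟨p, hp'⟩ : PrimeSpectrum A) ∈ U) : Dense U := by
  intro y
  obtain ⟨p, hp, hpq⟩ := Ideal.exists_minimalPrimes_le (bot_le : (⊥ : Ideal A) ≤ y.asIdeal)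
  have hx := h p hp.1.1 hp
  have : y ∈ closure ({⟨p, hp.1.1⟩} : Set (PrimeSpectrum A)) := by
    rw [PrimeSpectrum.closure_singleton, PrimeSpectrum.mem_zeroLocus]
    exact hpq
  exact closure_mono (Set.singleton_subset_iff.mpr hx) this

theorem exists_dense_open_smooth_iff (k A : Type u) [Field k] [CommRing A] [Algebra k A]
    [Algebra.FiniteType k A] :
    (∃ U : TopologicalSpace.Opens (PrimeSpectrum A), Dense (U : Set (PrimeSpectrum A)) ∧
        ∀ p ∈ U, Algebra.IsSmoothAt k p.asIdeal) ↔
      ∀ (p : Ideal A) [p.IsPrime], p ∈ minimalPrimes A →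
        Algebra.IsGeometricallyReduced k (Localization.AtPrime p) := by
  haveI : Algebra.FinitePresentation k A :=
    (Algebra.FinitePresentation.of_finiteType (R := k) (A := A)).mp inferInstance
  haveI : IsNoetherianRing A := Algebra.FiniteType.isNoetherianRing k A
  constructor
  · rintro ⟨U, hU, hsm⟩ p hp' hp
    rw [← isSmoothAt_iff_isGeometricallyReduced_of_mem_minimalPrimes k A p hp]
    exact hsm ⟨p, hp'⟩ (mem_of_dense_of_mem_minimalPrimes U hU p hp)
  · intro h
    refine ⟨⟨Algebra.smoothLocus k A, Algebra.isOpen_smoothLocus⟩, ?_, fun p hp => hp⟩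
    apply dense_of_forall_minimalPrimes_mem
    intro p hp' hp
    exact (isSmoothAt_iff_isGeometricallyReduced_of_mem_minimalPrimes k A p hp).mpr (h p hp)

end Groth.Agent.Lib.Helper6.OmProj
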