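import Mathlib
import Groth.Agent.Lib.Helper6PInsep

set_option autoImplicit false

open TensorProduct

namespace Groth.Agent.Lib.Helper6.PInsep

universe u

theorem geomReduced_quot (k K E Ω' : Type u) [Field k] [Field K] [Algebra k K]
    [Field E] [Algebra k E] [IsPurelyInseparable k E]
    [Field Ω'] [Algebra k Ω'] [Algebra E Ω'] [IsScalarTower k E Ω'] [IsAlgClosed Ω']
    (hrad : ((nilradical (E ⊗[k] K)).map (j k K E Ω')).IsRadical)
    (m : Ideal (E ⊗[k] K)) (hm : m.IsMaximal) :
    Algebra.IsGeometricallyReduced E ((E ⊗[k] K) ⧸ m) := by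
  have hmax := isMaximal_nilradical k K E
  have hle : nilradical (E ⊗[k] K) ≤ m := nilradical_le_prime m
  have heq : nilradical (E ⊗[k] K) = m := hmax.eq_of_le hm.ne_top hle
  subst heq
  exact isGeometricallyReduced_of_isReduced_tensor E _ Ω'
    (isReduced_of_isRadical_map k K E Ω' _ hrad)

theorem main4677 {k K : Type u} [Field k] [Field K] [Algebra k K]
    [Algebra.EssFiniteType k K] :
    ∃ (k' : Type u) (_ : Field k') (_ : Algebra k k'), FiniteDimensional k k' ∧
      IsPurelyInseparable k k' ∧
      ∀ (m : Ideal (k' ⊗[k] K)), m.IsMaximal →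
        Algebra.IsGeometricallyReduced k' ((k' ⊗[k] K) ⧸ m) := by
  obtain ⟨E, hfin, hpi, hrad⟩ := exists_separable k K
  exact ⟨E, inferInstance, inferInstance, hfin, hpi,
    fun m hm => geomReduced_quot k K E (AlgebraicClosure k) hrad m hm⟩

end Groth.Agent.Lib.Helper6.PInsep
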