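import Mathlib
import Groth.Prelude.Def_Hens2
import Groth.Agent.Lib.Helper26PairHzHens
import Groth.Agent.Lib.Helper26HzNoeth
import Groth.Agent.S0526

/-!
# A henselian pair is a directed union of Noetherian henselian pairs (helper6)

For a henselian pair `(A, I)` and a finite subset `s ⊆ A` let `Asub s = ℤ[s]`, `Is s = I ∩ ℤ[s]`,
`H s` the henselization of `(Asub s, Is s)` (helper26; Noetherian), `G s ⊆ A` the image of the
canonical map `H s → A`, and `K s = (Is s) G s`.  Then `(G s, K s)` is a Noetherian henselian pair,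
`A = ⋃ G s` and `A ⧸ I = colim G s ⧸ K s`.
-/

set_option autoImplicit false
set_option linter.style.haveILetI false
set_option linter.unusedSectionVars false
universe u

namespace Groth.Agent.Lib.Helper6.PairColim

open Groth.Agent.Lib.Helper26.PairHz

variable (A : Type u) [CommRing A] (I : Ideal A) [hAI : HenselianRing A I]

/-- the finitely generated subring generated by `s` -/
noncomputable def Asub (s : Finset A) : Subalgebra ℤ A := Algebra.adjoin ℤ (s : Set A)

theorem Asub_mono {s t : Finset A} (h : s ≤ t) : Asub A s ≤ Asub A t :=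
  Algebra.adjoin_mono (by exact_mod_cast h)

theorem subset_Asub (s : Finset A) : (s : Set A) ⊆ Asub A s := Algebra.subset_adjoin

instance (s : Finset A) : Algebra.FiniteType ℤ (Asub A s) :=
  (Subalgebra.fg_iff_finiteType _).mp (Subalgebra.fg_adjoin_finset s)

instance (s : Finset A) : IsNoetherianRing (Asub A s) :=
  Algebra.FiniteType.isNoetherianRing ℤ _

/-- the contraction of `I` -/
noncomputable def Is (s : Finset A) : Ideal (Asub A s) := I.comap (Asub A s).val.toRingHom

theorem mem_Is (s : Finset A) (x : Asub A s) : x ∈ Is A I s ↔ (x : A) ∈ I := Iff.rfl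

/-- the henselization of `(Asub s, Is s)` -/
abbrev H (s : Finset A) : Type u := Hz (Asub A s) (Is A I s)

instance (s : Finset A) : IsNoetherianRing (H A I s) :=
  Groth.Agent.Lib.Helper26.HzNoeth.isNoetherianRing_of_isPairHenselization
    (A := Asub A s) (I := Is A I s) isPairHenselization_Hz

theorem psi_exists (s : Finset A) :
    ∃! g : H A I s →+* A, g.comp (algebraMap (Asub A s) (H A I s)) = (Asub A s).val.toRingHom :=
  universal_Hz A I (Asub A s).val.toRingHom hAI (Ideal.map_comap_le)

/-- the canonical map from the henselization to `A` -/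
noncomputable def psi (s : Finset A) : H A I s →+* A := Classical.choose (psi_exists A I s)

theorem psi_comp (s : Finset A) :
    (psi A I s).comp (algebraMap (Asub A s) (H A I s)) = (Asub A s).val.toRingHom :=
  (Classical.choose_spec (psi_exists A I s)).1

theorem psi_algebraMap (s : Finset A) (x : Asub A s) :
    psi A I s (algebraMap (Asub A s) (H A I s) x) = (x : A) :=
  congrArg (fun φ : Asub A s →+* A => φ x) (psi_comp A I s)

theorem psi_unique (s : Finset A) (g : H A I s →+* A)
    (hg : g.comp (algebraMap (Asub A s) (H A I s)) = (Asub A s).val.toRingHom) : g = psi A I s :=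
  (Classical.choose_spec (psi_exists A I s)).2 g hg

/-- the Noetherian henselian subring attached to `s` -/
noncomputable def G (s : Finset A) : Subring A := (psi A I s).range

theorem Asub_le_G (s : Finset A) (a : A) (ha : a ∈ Asub A s) : a ∈ G A I s :=
  ⟨algebraMap (Asub A s) (H A I s) ⟨a, ha⟩, psi_algebraMap A I s ⟨a, ha⟩⟩

theorem subset_G (s : Finset A) : (s : Set A) ⊆ G A I s :=
  fun a ha => Asub_le_G A I s a (subset_Asub A s ha)

instance (s : Finset A) : IsNoetherianRing (G A I s) :=
  isNoetherianRing_of_surjective _ _ (psi A I s).rangeRestrict (psi A I s).rangeRestrict_surjective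

/-- the map `ℤ[s] → G s` -/
noncomputable def ιG (s : Finset A) : Asub A s →+* G A I s :=
  (psi A I s).rangeRestrict.comp (algebraMap (Asub A s) (H A I s))

theorem ιG_val (s : Finset A) (x : Asub A s) : ((ιG A I s x : G A I s) : A) = (x : A) :=
  psi_algebraMap A I s x

theorem G_mono {s t : Finset A} (h : s ≤ t) : G A I s ≤ G A I t := by
  have hH : HenselianRing (H A I t) ((Is A I t).map (algebraMap (Asub A t) (H A I t))) :=
    henselianRing_Hz
  let g₀ : Asub A s →+* H A I t :=
    (algebraMap (Asub A t) (H A I t)).comp (Subalgebra.inclusion (Asub_mono A h)).toRingHom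
  have hle : (Is A I s).map g₀ ≤ (Is A I t).map (algebraMap (Asub A t) (H A I t)) := by
    rw [Ideal.map_le_iff_le_comap]
    intro x hx
    rw [Ideal.mem_comap]
    apply Ideal.mem_map_of_mem
    rw [mem_Is] at hx ⊢
    exact hx
  obtain ⟨g, hg, -⟩ := universal_Hz (H A I t) _ g₀ hH hle
  have h2 : (psi A I t).comp g = psi A I s := by
    apply psi_unique
    rw [RingHom.comp_assoc, hg, ← RingHom.comp_assoc, psi_comp]
    ext x
    rfl
  rintro a ⟨z, rfl⟩
  exact ⟨g z, by rw [← h2]; rfl⟩

/-- the ideal `(I ∩ ℤ[s]) G s` -/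
noncomputable def K (s : Finset A) : Ideal (G A I s) := (Is A I s).map (ιG A I s)

theorem henselianRing_K (s : Finset A) : HenselianRing (G A I s) (K A I s) := by
  letI : Algebra (H A I s) (G A I s) := (psi A I s).rangeRestrict.toAlgebra
  haveI : Algebra.IsIntegral (H A I s) (G A I s) :=
    Algebra.isIntegral_of_surjective (psi A I s).rangeRestrict_surjective
  haveI : HenselianRing (H A I s) ((Is A I s).map (algebraMap (Asub A s) (H A I s))) :=
    henselianRing_Hz
  have h := Groth.Agent.S0526.result (H A I s)
    ((Is A I s).map (algebraMap (Asub A s) (H A I s))) (G A I s)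
  have hid : ((Is A I s).map (algebraMap (Asub A s) (H A I s))).map
      (algebraMap (H A I s) (G A I s)) = K A I s := by
    rw [Ideal.map_map]
    rfl
  rwa [hid] at h

theorem K_le (s : Finset A) : K A I s ≤ I.comap (G A I s).subtype := by
  unfold K
  rw [Ideal.map_le_iff_le_comap]
  intro x hx
  rw [Ideal.mem_comap, Ideal.mem_comap, Subring.subtype_apply, ιG_val]
  exact hx

/-- generic form of `K_map_le` (kept abstract to keep the kernel away from `G`). -/
theorem map_le_comap_inclusion_aux {S T : Subring A} (hST : S ≤ T) {R R' : Type*} [CommRing R]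
    [CommRing R'] (ιS : R →+* S) (ιT : R' →+* T) (j : R →+* R')
    (hcomm : ∀ x, ((ιT (j x) : T) : A) = ((ιS x : S) : A)) (J : Ideal R) (J' : Ideal R')
    (hJ : J ≤ J'.comap j) :
    J.map ιS ≤ (J'.map ιT).comap (Subring.inclusion hST) := by
  rw [Ideal.map_le_iff_le_comap]
  intro x hx
  rw [Ideal.mem_comap, Ideal.mem_comap]
  have : Subring.inclusion hST (ιS x) = ιT (j x) := by
    apply Subtype.ext
    rw [Subring.coe_inclusion, hcomm]
  rw [this]
  exact Ideal.mem_map_of_mem _ (hJ hx)

theorem K_map_le {s t : Finset A} (h : s ≤ t) :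
    K A I s ≤ (K A I t).comap (Subring.inclusion (G_mono A I h)) :=
  map_le_comap_inclusion_aux A (G_mono A I h) (ιG A I s) (ιG A I t)
    (Subalgebra.inclusion (Asub_mono A h)).toRingHom
    (fun x => by rw [ιG_val, ιG_val]; rfl) (Is A I s) (Is A I t) (fun x hx => hx)

theorem mem_K_of_mem (s : Finset A) (x : G A I s) (hx : (x : A) ∈ I) (hx' : (x : A) ∈ Asub A s) :
    x ∈ K A I s := by
  have : x = ιG A I s ⟨x, hx'⟩ := Subtype.ext (ιG_val A I s ⟨x, hx'⟩).symm
  rw [this]
  exact Ideal.mem_map_of_mem _ hx

/-- A tower of Noetherian henselian pairs `(G s, K s)` exhausting the pair `(A, I)`. -/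
structure Tower (A : Type u) [CommRing A] (I : Ideal A) where
  G : Finset A → Subring A
  K : ∀ s, Ideal (G s)
  mono : ∀ {s t : Finset A}, s ≤ t → G s ≤ G t
  subset : ∀ s : Finset A, (s : Set A) ⊆ G s
  K_le : ∀ s, K s ≤ I.comap (G s).subtype
  K_map_le : ∀ {s t : Finset A} (h : s ≤ t), K s ≤ (K t).comap (Subring.inclusion (mono h))
  exists_mem_K : ∀ (s : Finset A) (x : G s), (x : A) ∈ I →
    ∃ (t : Finset A) (h : s ≤ t), Subring.inclusion (mono h) x ∈ K t
  noeth : ∀ s, IsNoetherianRing (G s)
  hens : ∀ s, HenselianRing (G s) (K s)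

theorem nonempty_tower : Nonempty (Tower A I) := by
  classical
  refine ⟨{
    G := G A I
    K := K A I
    mono := fun h => G_mono A I h
    subset := subset_G A I
    K_le := K_le A I
    K_map_le := fun h => K_map_le A I h
    exists_mem_K := ?_
    noeth := fun s => inferInstance
    hens := henselianRing_K A I }⟩
  intro s x hx
  refine ⟨insert (x : A) s, Finset.subset_insert _ _, ?_⟩
  apply mem_K_of_mem
  · rw [Subring.coe_inclusion]
    exact hx
  · rw [Subring.coe_inclusion]
    exact subset_Asub A _ (by simp)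

end Groth.Agent.Lib.Helper6.PairColim
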