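import Mathlib
import Groth.Agent.Lib.Helper6PairColimA

/-!
# The spectra of a tower of Noetherian henselian pairs (helper6)

Categorical packaging of a `Tower A I`: `Spec A = lim Spec (G s)` and
`Spec (A ⧸ I) = lim Spec (G s ⧸ K s)`, compatibly.
-/

set_option autoImplicit false
set_option linter.style.haveILetI false
set_option linter.unusedSectionVars false
universe u
open CategoryTheory Limits AlgebraicGeometry

namespace Groth.Agent.Lib.Helper6.PairColim

variable {A : Type u} [CommRing A] {I : Ideal A} (T : Tower A I)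

namespace Tower

/-- transition maps of the residue rings -/
noncomputable def rmap {s t : Finset A} (h : s ≤ t) : (T.G s ⧸ T.K s) →+* (T.G t ⧸ T.K t) :=
  Ideal.quotientMap (T.K t) (Subring.inclusion (T.mono h)) (T.K_map_le h)

theorem rmap_mk {s t : Finset A} (h : s ≤ t) (x : T.G s) :
    T.rmap h (Ideal.Quotient.mk (T.K s) x) =
      Ideal.Quotient.mk (T.K t) (Subring.inclusion (T.mono h) x) :=
  Ideal.quotientMap_mk

/-- the maps to `A ⧸ I` -/
noncomputable def rι (s : Finset A) : (T.G s ⧸ T.K s) →+* (A ⧸ I) :=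
  Ideal.quotientMap I (T.G s).subtype (T.K_le s)

theorem rι_mk (s : Finset A) (x : T.G s) :
    T.rι s (Ideal.Quotient.mk (T.K s) x) = Ideal.Quotient.mk I (x : A) :=
  Ideal.quotientMap_mk

theorem rmap_id (s : Finset A) : T.rmap (le_refl s) = RingHom.id _ := by
  apply Ideal.Quotient.ringHom_ext
  ext x
  rw [RingHom.comp_apply, rmap_mk]
  rfl

theorem rmap_comp {s t r : Finset A} (h : s ≤ t) (h' : t ≤ r) :
    T.rmap (h.trans h') = (T.rmap h').comp (T.rmap h) := by
  apply Ideal.Quotient.ringHom_ext
  ext x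
  rw [RingHom.comp_apply, RingHom.comp_apply, RingHom.comp_apply, rmap_mk, rmap_mk, rmap_mk]
  rfl

theorem rι_rmap {s t : Finset A} (h : s ≤ t) : (T.rι t).comp (T.rmap h) = T.rι s := by
  apply Ideal.Quotient.ringHom_ext
  ext x
  rw [RingHom.comp_apply, RingHom.comp_apply, rmap_mk, rι_mk, RingHom.comp_apply, rι_mk,
    Subring.coe_inclusion]

theorem exists_rmap_eq (s : Finset A) (x y : T.G s ⧸ T.K s) (h : T.rι s x = T.rι s y) :
    ∃ (t : Finset A) (hst : s ≤ t), T.rmap hst x = T.rmap hst y := by
  obtain ⟨x, rfl⟩ := Ideal.Quotient.mk_surjective x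
  obtain ⟨y, rfl⟩ := Ideal.Quotient.mk_surjective y
  rw [rι_mk, rι_mk, Ideal.Quotient.eq] at h
  have h' : ((x - y : T.G s) : A) ∈ I := h
  obtain ⟨t, hst, ht⟩ := T.exists_mem_K s (x - y) h'
  refine ⟨t, hst, ?_⟩
  rw [rmap_mk, rmap_mk, Ideal.Quotient.eq, ← map_sub]
  exact ht

local instance : IsFiltered (Finset A) := isFiltered_of_directed_le_nonempty _

/-- The diagram of the subrings. -/
noncomputable def ringDiagram : Finset A ⥤ CommRingCat.{u} where
  obj s := CommRingCat.of (T.G s)
  map {s t} f := CommRingCat.ofHom (Subring.inclusion (T.mono (leOfHom f)))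
  map_id s := by
    ext x
    rfl
  map_comp f g := by
    ext x
    rfl

/-- The cocone with point `A`. -/
noncomputable def ringCocone : Cocone T.ringDiagram where
  pt := CommRingCat.of A
  ι :=
    { app := fun s => CommRingCat.ofHom (T.G s).subtype
      naturality := by
        intro j k f
        ext x
        rfl }

/-- `A` is the colimit of the `G s`. -/
noncomputable def ringIsColimit : IsColimit T.ringCocone := by
  have : ReflectsColimitsOfShape (Finset A) (forget CommRingCat.{u}) :=
    reflectsColimitsOfShape_of_reflectsIsomorphisms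
  refine isColimitOfReflects (forget CommRingCat.{u}) ?_
  refine Types.FilteredColimit.isColimitOf' _ _ ?_ ?_
  · intro a
    change A at a
    exact ⟨{a}, ⟨a, T.subset {a} (by simp)⟩, rfl⟩
  · intro i x y h
    exact ⟨i, 𝟙 i, congrArg _ (Subtype.ext h)⟩

/-- The diagram `s ↦ Spec (G s)`. -/
noncomputable def specDiagram : (Finset A)ᵒᵖ ⥤ Scheme.{u} := T.ringDiagram.op ⋙ Scheme.Spec

/-- The cone with point `Spec A`. -/
noncomputable def specCone : Cone T.specDiagram := Scheme.Spec.mapCone T.ringCocone.op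

/-- `Spec A` is the limit of the `Spec (G s)`. -/
noncomputable def specIsLimit : IsLimit T.specCone :=
  isLimitOfPreserves Scheme.Spec T.ringIsColimit.op

instance (i j : (Finset A)ᵒᵖ) (f : i ⟶ j) : IsAffineHom (T.specDiagram.map f) := by
  show IsAffineHom (Spec.map _)
  infer_instance

instance (i : (Finset A)ᵒᵖ) : IsAffine (T.specDiagram.obj i) := by
  show IsAffine (Spec _)
  infer_instance

/-- the residue rings. -/
noncomputable def resDiagram : Finset A ⥤ CommRingCat.{u} where
  obj s := CommRingCat.of (T.G s ⧸ T.K s)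
  map {s t} f := CommRingCat.ofHom (T.rmap (leOfHom f))
  map_id s := by
    apply CommRingCat.hom_ext
    exact T.rmap_id s
  map_comp f g := by
    apply CommRingCat.hom_ext
    exact T.rmap_comp (leOfHom f) (leOfHom g)

/-- the cocone with point `A ⧸ I`. -/
noncomputable def resCocone : Cocone T.resDiagram where
  pt := CommRingCat.of (A ⧸ I)
  ι :=
    { app := fun s => CommRingCat.ofHom (T.rι s)
      naturality := by
        intro j k f
        apply CommRingCat.hom_ext
        have := T.rι_rmap (leOfHom f)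
        rw [CommRingCat.hom_comp, CommRingCat.hom_comp]
        erw [CommRingCat.hom_id]
        rw [RingHom.id_comp]
        exact this }

/-- `A ⧸ I` is the colimit of the `G s ⧸ K s`. -/
noncomputable def resIsColimit : IsColimit T.resCocone := by
  have : ReflectsColimitsOfShape (Finset A) (forget CommRingCat.{u}) :=
    reflectsColimitsOfShape_of_reflectsIsomorphisms
  refine isColimitOfReflects (forget CommRingCat.{u}) ?_
  refine Types.FilteredColimit.isColimitOf' _ _ ?_ ?_
  · intro a
    change A ⧸ I at a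
    obtain ⟨a, rfl⟩ := Ideal.Quotient.mk_surjective a
    exact ⟨{a}, Ideal.Quotient.mk (T.K {a}) ⟨a, T.subset {a} (by simp)⟩,
      T.rι_mk {a} ⟨a, T.subset {a} (by simp)⟩⟩
  · intro i x y h
    obtain ⟨t, hst, ht⟩ := T.exists_rmap_eq i x y h
    exact ⟨t, homOfLE hst, ht⟩

/-- The diagram `s ↦ Spec (G s ⧸ K s)`. -/
noncomputable def resSpecDiagram : (Finset A)ᵒᵖ ⥤ Scheme.{u} := T.resDiagram.op ⋙ Scheme.Spec

/-- The cone with point `Spec (A ⧸ I)`. -/
noncomputable def resSpecCone : Cone T.resSpecDiagram := Scheme.Spec.mapCone T.resCocone.op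

/-- `Spec (A ⧸ I)` is the limit of the `Spec (G s ⧸ K s)`. -/
noncomputable def resSpecIsLimit : IsLimit T.resSpecCone :=
  isLimitOfPreserves Scheme.Spec T.resIsColimit.op

instance (i j : (Finset A)ᵒᵖ) (f : i ⟶ j) : IsAffineHom (T.resSpecDiagram.map f) := by
  show IsAffineHom (Spec.map _)
  infer_instance

instance (i : (Finset A)ᵒᵖ) : IsAffine (T.resSpecDiagram.obj i) := by
  show IsAffine (Spec _)
  infer_instance

/-- the closed subscheme of `Spec (G s)`. -/
noncomputable def θ (i : (Finset A)ᵒᵖ) : T.resSpecDiagram.obj i ⟶ T.specDiagram.obj i :=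
  Spec.map (CommRingCat.ofHom (Ideal.Quotient.mk (T.K i.unop)))

theorem θ_naturality {i j : (Finset A)ᵒᵖ} (a : i ⟶ j) :
    T.resSpecDiagram.map a ≫ T.θ j = T.θ i ≫ T.specDiagram.map a := by
  change Spec.map (CommRingCat.ofHom (T.rmap (leOfHom a.unop))) ≫
      Spec.map (CommRingCat.ofHom (Ideal.Quotient.mk (T.K j.unop))) =
    Spec.map (CommRingCat.ofHom (Ideal.Quotient.mk (T.K i.unop))) ≫
      Spec.map (CommRingCat.ofHom (Subring.inclusion (T.mono (leOfHom a.unop))))
  rw [← Spec.map_comp, ← Spec.map_comp]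
  congr 1

/-- the closed subscheme `Spec (A ⧸ I)` of `Spec A`. -/
noncomputable def z : T.resSpecCone.pt ⟶ T.specCone.pt :=
  Spec.map (CommRingCat.ofHom (Ideal.Quotient.mk I))

theorem z_π (i : (Finset A)ᵒᵖ) :
    T.z ≫ T.specCone.π.app i = T.resSpecCone.π.app i ≫ T.θ i := by
  change Spec.map (CommRingCat.ofHom (Ideal.Quotient.mk I)) ≫
      Spec.map (CommRingCat.ofHom (T.G i.unop).subtype) =
    Spec.map (CommRingCat.ofHom (T.rι i.unop)) ≫
      Spec.map (CommRingCat.ofHom (Ideal.Quotient.mk (T.K i.unop)))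
  rw [← Spec.map_comp, ← Spec.map_comp]
  congr 1

end Tower

end Groth.Agent.Lib.Helper6.PairColim
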