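import Mathlib
import Groth.Agent.Lib.Helper6PairColimB
import Groth.Agent.Lib.Helper22Pi0HensD

/-!
# Clopen lifting for proper schemes over a general henselian pair (helper6)

`CL_pair`: for a henselian pair `(A, I)` (no Noetherian or local hypothesis) and `X` proper over
`A`, every clopen subset of `X ×_A A/I` is the preimage of a clopen subset of `X`.
Pair analogue of helper22's `Pi0HensD.CL_fp` / `Pi0HensE.CL_gen`.
-/

set_option autoImplicit false
set_option linter.style.haveILetI false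
set_option linter.unusedSectionVars false
set_option linter.unusedVariables false
universe u
open CategoryTheory Limits AlgebraicGeometry

namespace Groth.Agent.Lib.Helper6.PairColim

open Groth.Agent.Lib.Helper22.Pi0HensA Groth.Agent.Lib.Helper22.Pi0HensB
  Groth.Agent.Lib.Helper22.Pi0HensD Groth.Agent.Lib.Helper22.LimBC

local instance {A : Type u} : IsFiltered (Finset A) := isFiltered_of_directed_le_nonempty _

set_option maxHeartbeats 1600000 in
/-- clopen subsets of `X ×_A A/I` lift, for `X` proper of finite presentation over a henselian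
pair, in terms of a tower. -/
theorem CL_fp_tower {A : Type u} [CommRing A] {I : Ideal A} (T : Tower A I) {X F : Scheme.{u}}
    (f : X ⟶ T.specCone.pt) [IsProper f] [LocallyOfFinitePresentation f]
    (ι : F ⟶ X) (p : F ⟶ T.resSpecCone.pt) (h : IsPullback ι p f T.z) : CL ι := by
  have hcs : ∀ i, CompactSpace (T.specDiagram.obj i) := fun i => inferInstance
  have hqs : ∀ i, QuasiSeparatedSpace (T.specDiagram.obj i) := fun i => inferInstance
  obtain ⟨i₁, X₁, f₁, q, hf₁, hq⟩ :=
    exists_proper_stage T.specDiagram T.specCone T.specIsLimit f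
  let DS := T.specDiagram
  let DT := T.resSpecDiagram
  let cS := T.specCone
  let cT := T.resSpecCone
  -- the closed fibre of the stage
  let xi : pullback f₁ (T.θ i₁) ⟶ DT.obj i₁ := pullback.snd f₁ (T.θ i₁)
  have hr : IsPullback (pullback.fst f₁ (T.θ i₁)) xi f₁ (T.θ i₁) := IsPullback.of_hasPullback _ _
  have hcomm0 : (ι ≫ q) ≫ f₁ = (p ≫ cT.π.app i₁) ≫ T.θ i₁ := by
    rw [Category.assoc, hq.w, ← Category.assoc, h.w, Category.assoc, Category.assoc, Tower.z_π]
  let qX : F ⟶ pullback f₁ (T.θ i₁) := pullback.lift (ι ≫ q) (p ≫ cT.π.app i₁) hcomm0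
  have hq1 : qX ≫ pullback.fst f₁ (T.θ i₁) = ι ≫ q := pullback.lift_fst _ _ _
  have hq2 : qX ≫ xi = p ≫ cT.π.app i₁ := pullback.lift_snd _ _ _
  have hP : IsPullback qX p xi (cT.π.app i₁) := by
    have hout : IsPullback (qX ≫ pullback.fst f₁ (T.θ i₁)) p f₁ (cT.π.app i₁ ≫ T.θ i₁) := by
      rw [hq1, ← Tower.z_π]
      exact h.paste_horiz hq
    exact IsPullback.of_right hout hq2 hr
  have hlim : IsLimit (bcCone i₁ hP) := isLimitBcCone i₁ hP T.resSpecIsLimit
  have hprop1 : IsProper xi := by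
    have : IsProper (pullback.snd f₁ (T.θ i₁)) := inferInstance
    exact this
  have hT1 : CompactSpace ↥(pullback f₁ (T.θ i₁)) :=
    QuasiCompact.compactSpace_of_compactSpace xi
  have hT2 : QuasiSeparatedSpace ↥(pullback f₁ (T.θ i₁)) :=
    quasiSeparatedSpace_of_quasiSeparated xi
  -- the stages
  have hιcomm : ∀ j : Over i₁, (dFst DT i₁ xi j ≫ pullback.fst f₁ (T.θ i₁)) ≫ f₁ =
      (dSnd DT i₁ xi j ≫ T.θ j.left) ≫ DS.map j.hom := by
    intro j
    rw [Category.assoc, hr.w, ← Category.assoc, d_condition, Category.assoc, Category.assoc,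
      Tower.θ_naturality]
  have hπcomm : ∀ j : Over i₁, q ≫ f₁ = (f ≫ cS.π.app j.left) ≫ DS.map j.hom := by
    intro j
    rw [Category.assoc, cS.w, hq.w]
  have hcomm : ∀ j : Over i₁, ι ≫ dLift j q (f ≫ cS.π.app j.left) (hπcomm j) =
      bcπ i₁ hP j ≫ dLift j (dFst DT i₁ xi j ≫ pullback.fst f₁ (T.θ i₁))
        (dSnd DT i₁ xi j ≫ T.θ j.left) (hιcomm j) := by
    intro j
    apply d_hom_ext
    · rw [Category.assoc, dLift_fst, Category.assoc, dLift_fst, bcπ_fst_assoc, hq1]
    · rw [Category.assoc, dLift_snd, Category.assoc, dLift_snd, bcπ_snd_assoc,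
        ← Tower.z_π, ← Category.assoc, h.w, Category.assoc]
  refine CL.of_limit (bcDiagram DT i₁ xi) (bcCone i₁ hP) hlim (Over.mk (𝟙 i₁)) ι
    (fun j => (bcDiagram DS i₁ f₁).obj j)
    (fun j => dLift j (dFst DT i₁ xi j ≫ pullback.fst f₁ (T.θ i₁)) (dSnd DT i₁ xi j ≫ T.θ j.left)
      (hιcomm j))
    (fun j => dLift j q (f ≫ cS.π.app j.left) (hπcomm j)) hcomm ?_
  · intro j
    have hH : HenselianRing (T.G j.left.unop) (T.K j.left.unop) := T.hens j.left.unop
    have hN : IsNoetherianRing (T.G j.left.unop) := T.noeth j.left.unop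
    have hfj : IsProper (dSnd DS i₁ f₁ j) := by
      have : IsProper (pullback.snd f₁ (DS.map j.hom)) := inferInstance
      exact this
    refine @CL_noeth (T.G j.left.unop) _ hN (T.K j.left.unop) hH _ _ (dSnd DS i₁ f₁ j) hfj _
      (dSnd DT i₁ xi j) ?_
    have hl : IsPullback (dFst DT i₁ xi j) (dSnd DT i₁ xi j) xi (DT.map j.hom) :=
      isPullback_d DT i₁ xi j
    have hout : IsPullback (dFst DT i₁ xi j ≫ pullback.fst f₁ (T.θ i₁)) (dSnd DT i₁ xi j) f₁
        (DT.map j.hom ≫ T.θ i₁) := hl.paste_horiz hr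
    rw [Tower.θ_naturality] at hout
    have hright : IsPullback (dFst DS i₁ f₁ j) (dSnd DS i₁ f₁ j) f₁ (DS.map j.hom) :=
      isPullback_d DS i₁ f₁ j
    have hout' : IsPullback (dLift j (dFst DT i₁ xi j ≫ pullback.fst f₁ (T.θ i₁))
        (dSnd DT i₁ xi j ≫ T.θ j.left) (hιcomm j) ≫ dFst DS i₁ f₁ j) (dSnd DT i₁ xi j) f₁
        (T.θ j.left ≫ DS.map j.hom) := by
      rw [dLift_fst]
      exact hout
    exact IsPullback.of_right hout' (dLift_snd _ _ _ _) hright

/-- **Clopen lifting for a general henselian pair**: for `X` proper over a henselian pair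
`(A, I)`, every clopen subset of `X ×_A A/I` is the preimage of a clopen subset of `X`. -/
theorem CL_pair (A : Type u) [CommRing A] (I : Ideal A) [HenselianRing A I] {X F : Scheme.{u}}
    (f : X ⟶ Spec (CommRingCat.of A)) [IsProper f]
    (ι : F ⟶ X) (p : F ⟶ Spec (CommRingCat.of (A ⧸ I)))
    (h : IsPullback ι p f (Spec.map (CommRingCat.ofHom (Ideal.Quotient.mk I)))) :
    CL ι := by
  obtain ⟨T⟩ := nonempty_tower A I
  have h1 : CompactSpace ↥(Spec (CommRingCat.of A)) := inferInstance
  have h2 : QuasiSeparatedSpace ↥(Spec (CommRingCat.of A)) := inferInstance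
  have h3 : CompactSpace ↥(Spec (CommRingCat.of (A ⧸ I))) := inferInstance
  have h4 : QuasiSeparatedSpace ↥(Spec (CommRingCat.of (A ⧸ I))) := inferInstance
  exact CL_of_fp (S := Spec (CommRingCat.of A)) (T := Spec (CommRingCat.of (A ⧸ I)))
    (Spec.map (CommRingCat.ofHom (Ideal.Quotient.mk I)))
    (fun {X' F'} f' hp hfp ι' p' h' => @CL_fp_tower A _ I T X' F' f' hp hfp ι' p' h') f ι p h

end Groth.Agent.Lib.Helper6.PairColim

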