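import Mathlib

/-!
# A shrinking lemma for covers of closed subsets of spectral spaces
-/

set_option autoImplicit false

open Topology

namespace Groth.Agent.Lib.Helper6.SpecGlue

variable {X : Type*} [TopologicalSpace X]

/-- closed in the constructible topology -/
def CC (S : Set X) : Prop := IsClosed[constructibleTopology X] S

lemma CC.of_isOpen_isCompact {S : Set X} (ho : IsOpen S) (hc : IsCompact S) : CC S := by
  unfold CC
  rw [← @isOpen_compl_iff _ _ (constructibleTopology X)]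
  exact IsCompact.isOpen_constructibleTopology_of_isClosed (by simpa using hc) ho.isClosed_compl

lemma isOpen_constructible_of_isOpen [PrespectralSpace X] {S : Set X} (ho : IsOpen S) :
    IsOpen[constructibleTopology X] S := by
  refine (@isOpen_iff_forall_mem_open X (constructibleTopology X) S).2 ?_
  intro x hx
  obtain ⟨V, ⟨hV1, hV2⟩, hxV, hVS⟩ :=
    PrespectralSpace.isTopologicalBasis.exists_subset_of_mem_open hx ho
  exact ⟨V, hVS, hV2.isOpen_constructibleTopology_of_isOpen hV1, hxV⟩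

lemma CC.of_isClosed [PrespectralSpace X] {S : Set X} (h : IsClosed S) : CC S := by
  unfold CC
  rw [← @isOpen_compl_iff _ _ (constructibleTopology X)]
  exact isOpen_constructible_of_isOpen h.isOpen_compl

lemma CC.inter {S T : Set X} (hS : CC S) (hT : CC T) : CC (S ∩ T) :=
  @IsClosed.inter _ _ _ (constructibleTopology X) hS hT

lemma CC.diff_open [PrespectralSpace X] {S T : Set X} (hS : CC S) (hT : IsOpen T) : CC (S \ T) := by
  rw [Set.sdiff_eq]
  exact hS.inter (CC.of_isClosed hT.isClosed_compl)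

lemma compactSpace_constructible [SpectralSpace X] : @CompactSpace X (constructibleTopology X) :=
  @Function.Surjective.compactSpace (WithConstructibleTopology X) X _ (constructibleTopology X)
    WithTopology.ofTopology (WithTopology.continuous_ofTopology _) inferInstance
    (WithTopology.ofTopology_surjective _)

/-- finite intersection property for constructibly closed sets -/
lemma exists_finset_inter_empty [SpectralSpace X] {ι : Type*} (K : Set X) (hK : CC K)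
    (t : ι → Set X) (ht : ∀ i, CC (t i)) (h : K ∩ ⋂ i, t i = ∅) :
    ∃ u : Finset ι, K ∩ ⋂ i ∈ u, t i = ∅ := by
  haveI := compactSpace_constructible (X := X)
  have hKc : @IsCompact X (constructibleTopology X) K :=
    @IsClosed.isCompact X (constructibleTopology X) K _ hK
  exact @IsCompact.elim_finite_subfamily_closed X (constructibleTopology X) K ι hKc t ht h

lemma mem_of_mem_closure_singleton {x z : X} (hz : z ∈ closure {x}) {O : Set X} (hO : IsOpen O)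
    (hzO : z ∈ O) : x ∈ O := by
  obtain ⟨y, hy1, hy2⟩ := mem_closure_iff.1 hz O hO hzO
  rw [Set.mem_singleton_iff] at hy2
  subst hy2
  exact hy1

section shrink

variable (Z : Set X) {ι : Type*} (U : ι → Set X) (E : ι → ι → Set X)

/-- the chain argument -/
lemma mem_E_of_nonempty (hconn : ∀ x : X, IsConnected (Z ∩ closure {x}))
    (hUo : ∀ i, IsOpen (U i)) (hcov : Z ⊆ ⋃ i, U i) (hEo : ∀ i j, IsOpen (E i j))
    (hErefl : ∀ i, U i ⊆ E i i) (hEtrans : ∀ i j k, E i j ∩ E j k ⊆ E i k)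
    (hZE : ∀ i j, Z ∩ U i ∩ U j ⊆ E i j) (x : X) (i j : ι)
    (hi : (Z ∩ closure {x} ∩ U i).Nonempty) (hj : (Z ∩ closure {x} ∩ U j).Nonempty) :
    x ∈ E i j := by
  classical
  set C := Z ∩ closure {x} with hC
  let S : Set ι := {k | x ∈ E i k}
  let P : Set X := ⋃ k ∈ S, U k
  let Q : Set X := ⋃ k ∈ Sᶜ, U k
  have hPo : IsOpen P := isOpen_biUnion fun k _ => hUo k
  have hQo : IsOpen Q := isOpen_biUnion fun k _ => hUo k
  have hCPQ : C ⊆ P ∪ Q := by
    intro w hw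
    obtain ⟨k, hk⟩ := Set.mem_iUnion.1 (hcov hw.1)
    by_cases hkS : k ∈ S
    · exact Or.inl (Set.mem_biUnion hkS hk)
    · exact Or.inr (Set.mem_biUnion (show k ∈ Sᶜ from hkS) hk)
  obtain ⟨z, hzC, hzU⟩ := hi
  have hxUi : x ∈ U i := mem_of_mem_closure_singleton hzC.2 (hUo i) hzU
  have hiS : i ∈ S := hErefl i hxUi
  have hCP : (C ∩ P).Nonempty := ⟨z, hzC, Set.mem_biUnion hiS hzU⟩
  have hCQ : ¬ (C ∩ Q).Nonempty := by
    intro hCQ
    obtain ⟨w, hwC, hwP, hwQ⟩ := (hconn x).isPreconnected P Q hPo hQo hCPQ hCP hCQ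
    obtain ⟨k, hkS, hwk⟩ := Set.mem_iUnion₂.1 hwP
    obtain ⟨l, hlS, hwl⟩ := Set.mem_iUnion₂.1 hwQ
    have h1 : w ∈ E k l := hZE k l ⟨⟨hwC.1, hwk⟩, hwl⟩
    have h2 : x ∈ E k l := mem_of_mem_closure_singleton hwC.2 (hEo k l) h1
    exact hlS (hEtrans i k l ⟨hkS, h2⟩)
  obtain ⟨w', hw'C, hw'U⟩ := hj
  by_contra hjS
  exact hCQ ⟨w', hw'C, Set.mem_biUnion (show j ∈ Sᶜ from hjS) hw'U⟩

lemma exists_compact_open_not_mem [PrespectralSpace X] (hZ : IsClosed Z) (i : ι)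
    (hUc : IsCompact (U i)) (x : X) (hx : ¬ (Z ∩ closure {x} ∩ U i).Nonempty) :
    ∃ O : Set X, IsOpen O ∧ IsCompact O ∧ Z ∩ U i ⊆ O ∧ x ∉ O := by
  have hK : IsCompact (Z ∩ U i) := hUc.inter_left hZ
  have key : ∀ z ∈ Z ∩ U i, ∃ V : Set X, (IsOpen V ∧ IsCompact V) ∧ z ∈ V ∧ V ⊆ (closure {x})ᶜ := by
    intro z hz
    have hzc : z ∈ (closure {x})ᶜ := fun hzc => hx ⟨z, ⟨hz.1, hzc⟩, hz.2⟩
    exact PrespectralSpace.isTopologicalBasis.exists_subset_of_mem_open hzc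
      isClosed_closure.isOpen_compl
  choose V hV1 hzV hVx using key
  obtain ⟨t, ht⟩ := hK.elim_nhds_subcover' V (fun z hz => (hV1 z hz).1.mem_nhds (hzV z hz))
  refine ⟨⋃ z ∈ t, V z.1 z.2, isOpen_biUnion fun z _ => (hV1 z.1 z.2).1,
    t.isCompact_biUnion fun z _ => (hV1 z.1 z.2).2, ht, ?_⟩
  intro hxO
  obtain ⟨z, _, hxz⟩ := Set.mem_iUnion₂.1 hxO
  exact hVx z.1 z.2 hxz (subset_closure rfl)

lemma exists_pair [SpectralSpace X] (hZ : IsClosed Z)
    (hconn : ∀ x : X, IsConnected (Z ∩ closure {x}))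
    (hUo : ∀ i, IsOpen (U i)) (hUc : ∀ i, IsCompact (U i)) (hcov : Z ⊆ ⋃ i, U i)
    (hEo : ∀ i j, IsOpen (E i j))
    (hErefl : ∀ i, U i ⊆ E i i) (hEtrans : ∀ i j k, E i j ∩ E j k ⊆ E i k)
    (hZE : ∀ i j, Z ∩ U i ∩ U j ⊆ E i j) (i j : ι) :
    ∃ O O' : Set X, IsOpen O ∧ IsOpen O' ∧ Z ∩ U i ⊆ O ∧ Z ∩ U j ⊆ O' ∧
      O ∩ O' ∩ (U i ∩ U j) ⊆ E i j := by
  classical
  let T := {O : Set X // IsOpen O ∧ IsCompact O ∧ (Z ∩ U i ⊆ O ∨ Z ∩ U j ⊆ O)}
  let K : Set X := (U i ∩ U j) \ E i j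
  have hKcc : CC K := (CC.of_isOpen_isCompact ((hUo i).inter (hUo j))
    (QuasiSeparatedSpace.inter_isCompact _ _ (hUo i) (hUc i) (hUo j) (hUc j))).diff_open (hEo i j)
  have hempty : K ∩ ⋂ O : T, O.1 = ∅ := by
    rw [Set.eq_empty_iff_forall_notMem]
    rintro x ⟨hxK, hxT⟩
    rw [Set.mem_iInter] at hxT
    have hi : (Z ∩ closure {x} ∩ U i).Nonempty := by
      by_contra hne
      obtain ⟨O, hO1, hO2, hO3, hxO⟩ := exists_compact_open_not_mem Z U hZ i (hUc i) x hne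
      exact hxO (hxT ⟨O, hO1, hO2, Or.inl hO3⟩)
    have hj : (Z ∩ closure {x} ∩ U j).Nonempty := by
      by_contra hne
      obtain ⟨O, hO1, hO2, hO3, hxO⟩ := exists_compact_open_not_mem Z U hZ j (hUc j) x hne
      exact hxO (hxT ⟨O, hO1, hO2, Or.inr hO3⟩)
    exact hxK.2 (mem_E_of_nonempty Z U E hconn hUo hcov hEo hErefl hEtrans hZE x i j hi hj)
  obtain ⟨u, hu⟩ := exists_finset_inter_empty K hKcc (fun O : T => O.1)
    (fun O => CC.of_isOpen_isCompact O.2.1 O.2.2.1) hempty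
  refine ⟨⋂ O ∈ u.filter (fun O : T => Z ∩ U i ⊆ O.1), O.1,
    ⋂ O ∈ u.filter (fun O : T => Z ∩ U j ⊆ O.1), O.1, ?_, ?_, ?_, ?_, ?_⟩
  · exact isOpen_biInter_finset fun O _ => O.2.1
  · exact isOpen_biInter_finset fun O _ => O.2.1
  · intro z hz
    simp only [Set.mem_iInter]
    intro O hO
    exact (Finset.mem_filter.1 hO).2 hz
  · intro z hz
    simp only [Set.mem_iInter]
    intro O hO
    exact (Finset.mem_filter.1 hO).2 hz
  · rintro x ⟨⟨hx1, hx2⟩, hxU⟩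
    by_contra hxE
    have hxK : x ∈ K := ⟨hxU, hxE⟩
    have : x ∈ K ∩ ⋂ O ∈ u, O.1 := by
      refine ⟨hxK, ?_⟩
      simp only [Set.mem_iInter]
      intro O hO
      rcases O.2.2.2 with h | h
      · simp only [Set.mem_iInter] at hx1
        exact hx1 O (Finset.mem_filter.2 ⟨hO, h⟩)
      · simp only [Set.mem_iInter] at hx2
        exact hx2 O (Finset.mem_filter.2 ⟨hO, h⟩)
    rw [hu] at this
    exact this

theorem exists_shrink [SpectralSpace X] [Finite ι] (hZ : IsClosed Z)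
    (hconn : ∀ x : X, IsConnected (Z ∩ closure {x}))
    (hUo : ∀ i, IsOpen (U i)) (hUc : ∀ i, IsCompact (U i)) (hcov : Z ⊆ ⋃ i, U i)
    (hEo : ∀ i j, IsOpen (E i j))
    (hErefl : ∀ i, U i ⊆ E i i) (hEtrans : ∀ i j k, E i j ∩ E j k ⊆ E i k)
    (hZE : ∀ i j, Z ∩ U i ∩ U j ⊆ E i j) :
    ∃ U' : ι → Set X, (∀ i, IsOpen (U' i)) ∧ (∀ i, U' i ⊆ U i) ∧ (∀ i, Z ∩ U i ⊆ U' i) ∧
      ∀ i j, U' i ∩ U' j ⊆ E i j := by
  have key := exists_pair Z U E hZ hconn hUo hUc hcov hEo hErefl hEtrans hZE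
  choose O O' hO hO' hZO hZO' hOE using key
  refine ⟨fun i => U i ∩ (⋂ j, O i j) ∩ (⋂ j, O' j i), ?_, ?_, ?_, ?_⟩
  · intro i
    exact ((hUo i).inter (isOpen_iInter_of_finite fun j => hO i j)).inter
      (isOpen_iInter_of_finite fun j => hO' j i)
  · intro i x hx
    exact hx.1.1
  · intro i z hz
    refine ⟨⟨hz.2, Set.mem_iInter.2 fun j => hZO i j hz⟩, Set.mem_iInter.2 fun j => hZO' j i hz⟩
  · intro i j x hx
    apply hOE i j
    exact ⟨⟨Set.mem_iInter.1 hx.1.1.2 j, Set.mem_iInter.1 hx.2.2 i⟩, hx.1.1.1, hx.2.1.1⟩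

end shrink

end Groth.Agent.Lib.Helper6.SpecGlue
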