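import Mathlib
import Groth.Agent.Lib.Helper6SpecGlueA

/-!
# Gluing sections of a sheaf of sets along a closed subset of a spectral space
-/

set_option autoImplicit false
universe u
open TopCat TopologicalSpace Opposite CategoryTheory

namespace Groth.Agent.Lib.Helper6.SpecGlue

variable {X : TopCat.{u}} (F : TopCat.Sheaf (Type u) X)

/-- the locus where two sections have the same germ -/
def eqLocus {U V : Opens X} (s : F.1.obj (op U)) (t : F.1.obj (op V)) : Set X :=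
  {x | ∃ (O : Opens X) (_ : x ∈ O) (h1 : O ≤ U) (h2 : O ≤ V),
    F.1.map (homOfLE h1).op s = F.1.map (homOfLE h2).op t}

lemma isOpen_eqLocus {U V : Opens X} (s : F.1.obj (op U)) (t : F.1.obj (op V)) :
    IsOpen (eqLocus F s t) := by
  rw [isOpen_iff_forall_mem_open]
  rintro x ⟨O, hxO, h1, h2, h⟩
  exact ⟨O, fun y hy => ⟨O, hy, h1, h2, h⟩, O.2, hxO⟩

lemma eqLocus_subset {U V : Opens X} (s : F.1.obj (op U)) (t : F.1.obj (op V)) :
    eqLocus F s t ⊆ (U : Set X) ∩ V := by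
  rintro x ⟨O, hxO, h1, h2, _⟩
  exact ⟨h1 hxO, h2 hxO⟩

lemma map_map {U V W : Opens X} (h : V ≤ U) (h' : W ≤ V) (s : F.1.obj (op U)) :
    F.1.map (homOfLE h').op (F.1.map (homOfLE h).op s) = F.1.map (homOfLE (h'.trans h)).op s := by
  rw [← ConcreteCategory.comp_apply, ← F.1.map_comp]
  rfl

lemma eqLocus_refl {U : Opens X} (s : F.1.obj (op U)) : (U : Set X) ⊆ eqLocus F s s :=
  fun _ hx => ⟨U, hx, le_rfl, le_rfl, rfl⟩

lemma eqLocus_trans {U V W : Opens X} (s : F.1.obj (op U)) (t : F.1.obj (op V))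
    (r : F.1.obj (op W)) : eqLocus F s t ∩ eqLocus F t r ⊆ eqLocus F s r := by
  rintro x ⟨⟨O, hxO, h1, h2, h⟩, ⟨O', hxO', h1', h2', h'⟩⟩
  refine ⟨O ⊓ O', ⟨hxO, hxO'⟩, inf_le_left.trans h1, inf_le_right.trans h2', ?_⟩
  have e1 := congrArg (F.1.map (homOfLE (inf_le_left : O ⊓ O' ≤ O)).op) h
  have e2 := congrArg (F.1.map (homOfLE (inf_le_right : O ⊓ O' ≤ O')).op) h'
  rw [map_map, map_map] at e1 e2
  exact e1.trans e2

/-- sections agreeing near every point of an open set agree on it -/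
lemma eq_of_subset_eqLocus {U : Opens X} (s t : F.1.obj (op U))
    (h : (U : Set X) ⊆ eqLocus F s t) : s = t := by
  choose O hxO h1 h2 hO using h
  apply F.eq_of_locally_eq' (fun x : U => O x.2) U (fun x => homOfLE (h1 x.2))
  · intro x hx
    exact Opens.mem_iSup.2 ⟨⟨x, hx⟩, hxO hx⟩
  · intro x
    exact hO x.2

section spectral

variable [SpectralSpace X] (Z : Set X) (hZ : IsClosed Z)
  (hconn : ∀ x : X, IsConnected (Z ∩ closure {x}))

include hconn in
lemma eq_top_of_subset {O : Set X} (hO : IsOpen O) (hZO : Z ⊆ O) : O = Set.univ := by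
  rw [Set.eq_univ_iff_forall]
  intro x
  obtain ⟨z, hzZ, hzx⟩ := (hconn x).nonempty
  exact mem_of_mem_closure_singleton hzx hO (hZO hzZ)

include hconn in
/-- uniqueness -/
theorem eq_of_eqLocus (s t : F.1.obj (op ⊤)) (h : Z ⊆ eqLocus F s t) : s = t := by
  apply eq_of_subset_eqLocus
  rw [eq_top_of_subset Z hconn (isOpen_eqLocus F s t) h]
  exact Set.subset_univ _

include hZ hconn in
/-- existence -/
theorem exists_glue {ι : Type*} [Finite ι] (U : ι → Opens X)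
    (hUc : ∀ i, IsCompact (U i : Set X)) (hcov : Z ⊆ ⋃ i, (U i : Set X))
    (s : ∀ i, F.1.obj (op (U i)))
    (hs : ∀ i j, Z ∩ (U i : Set X) ∩ (U j : Set X) ⊆ eqLocus F (s i) (s j)) :
    ∃ t : F.1.obj (op ⊤), ∀ i, Z ∩ (U i : Set X) ⊆ eqLocus F t (s i) := by
  obtain ⟨U', hU'o, hU'U, hZU', hU'E⟩ := exists_shrink Z (fun i => (U i : Set X))
    (fun i j => eqLocus F (s i) (s j)) hZ hconn (fun i => (U i).2) hUc hcov
    (fun i j => isOpen_eqLocus F _ _) (fun i => eqLocus_refl F _)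
    (fun i j k => eqLocus_trans F _ _ _) hs
  let V : ι → Opens X := fun i => ⟨U' i, hU'o i⟩
  have hVU : ∀ i, V i ≤ U i := fun i => hU'U i
  have hVtop : (⊤ : Opens X) ≤ iSup V := by
    intro x _
    obtain ⟨z, hzZ, hzx⟩ := (hconn x).nonempty
    obtain ⟨i, hi⟩ := Set.mem_iUnion.1 (hcov hzZ)
    have hzV : z ∈ V i := hZU' i ⟨hzZ, hi⟩
    exact Opens.mem_iSup.2 ⟨i, mem_of_mem_closure_singleton hzx (V i).2 hzV⟩
  let sf : ∀ i, F.1.obj (op (V i)) := fun i => F.1.map (homOfLE (hVU i)).op (s i)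
  have hcompat : TopCat.Presheaf.IsCompatible F.1 V sf := by
    intro i j
    apply eq_of_subset_eqLocus
    rintro x ⟨hxi, hxj⟩
    obtain ⟨O, hxO, h1, h2, hO⟩ := hU'E i j ⟨hxi, hxj⟩
    refine ⟨O ⊓ (V i ⊓ V j), ⟨hxO, hxi, hxj⟩, inf_le_right, inf_le_right, ?_⟩
    change F.1.map _ (F.1.map _ (F.1.map _ (s i))) = F.1.map _ (F.1.map _ (F.1.map _ (s j)))
    have e := congrArg (F.1.map (homOfLE (inf_le_left : O ⊓ (V i ⊓ V j) ≤ O)).op) hO
    rw [map_map, map_map] at e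
    simp only [← ConcreteCategory.comp_apply, ← F.1.map_comp]
    exact e
  obtain ⟨t, ht, -⟩ := F.existsUnique_gluing' V ⊤ (fun i => homOfLE le_top) hVtop sf hcompat
  refine ⟨t, fun i z hz => ?_⟩
  refine ⟨V i, hZU' i hz, le_top, hVU i, ?_⟩
  exact ht i

end spectral

end Groth.Agent.Lib.Helper6.SpecGlue
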