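import Mathlib
import Groth.Agent.Lib.Helper6SpecGlueB

/-!
# The unit of the pullback-pushforward adjunction for sheaves of sets: germs
-/

set_option autoImplicit false
universe u
open TopCat TopologicalSpace Opposite CategoryTheory

namespace Groth.Agent.Lib.Helper6.SpecGlue

variable {X Y : TopCat.{u}} (f : Y ⟶ X) (F : TopCat.Sheaf (Type u) X)

/-- sheaf on `Y` of arbitrary families of germs of `F` -/
noncomputable def germSheaf : TopCat.Sheaf (Type u) Y :=
  TopCat.sheafToTypes Y (fun y => F.presheaf.stalk (f y))

/-- the map sending a section to its family of germs -/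
noncomputable def germMap : F ⟶ (TopCat.Sheaf.pushforward (Type u) f).obj (germSheaf f F) :=
  ObjectProperty.homMk
    { app := fun U => ↾fun (s : F.obj.obj U) =>
        (fun (y : ((Opens.map f).obj U.unop)) => F.presheaf.germ U.unop (f y.1) y.2 s :
          (germSheaf f F).obj.obj (op ((Opens.map f).obj U.unop)))
      naturality := by
        intro U V g
        ext s
        funext y
        exact TopCat.Presheaf.germ_res_apply F.presheaf g.unop (f y.1) y.2 s }

/-- sections with the same image under the unit have the same germs at points of the image -/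
theorem mem_eqLocus_of_unit_eq (U : Opens X) (s t : F.obj.obj (op U))
    (h : ((TopCat.Sheaf.pullbackPushforwardAdjunction (Type u) f).unit.app F).hom.app (op U) s =
      ((TopCat.Sheaf.pullbackPushforwardAdjunction (Type u) f).unit.app F).hom.app (op U) t)
    (y : Y) (hy : f y ∈ U) : f y ∈ eqLocus F s t := by
  set adj := TopCat.Sheaf.pullbackPushforwardAdjunction (Type u) f with hadj
  let φ := germMap f F
  let φ' := (adj.homEquiv _ _).symm φ
  have hφ : φ = adj.unit.app F ≫ (TopCat.Sheaf.pushforward (Type u) f).map φ' := by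
    have := Adjunction.homEquiv_unit adj (f := φ')
    rw [← this]
    exact (Equiv.apply_symm_apply _ _).symm
  have h1 : φ.hom.app (op U) s = φ.hom.app (op U) t := by
    rw [hφ]
    change ((TopCat.Sheaf.pushforward (Type u) f).map φ').hom.app (op U)
      ((adj.unit.app F).hom.app (op U) s) = ((TopCat.Sheaf.pushforward (Type u) f).map φ').hom.app (op U)
      ((adj.unit.app F).hom.app (op U) t)
    rw [h]
  have h2 := congrFun h1 ⟨y, hy⟩
  obtain ⟨W, hW, iU, iV, hWeq⟩ := TopCat.Presheaf.germ_eq F.presheaf (f y) hy hy s t h2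
  exact ⟨W, hW, iU.le, iV.le, hWeq⟩

section locsurj

variable (hf : Topology.IsInducing f)

/-- the unit of the adjunction -/
noncomputable abbrev eta : F ⟶ (TopCat.Sheaf.pushforward (Type u) f).obj
    ((TopCat.Sheaf.pullback (Type u) f).obj F) :=
  (TopCat.Sheaf.pullbackPushforwardAdjunction (Type u) f).unit.app F

/-- the pulled back sheaf -/
noncomputable abbrev LF : TopCat.Sheaf (Type u) Y := (TopCat.Sheaf.pullback (Type u) f).obj F

lemma eta_naturality {O O' : Opens X} (h : O' ≤ O) (s : F.obj.obj (op O)) :
    (LF f F).obj.map (homOfLE ((Opens.map f).monotone h)).op ((eta f F).hom.app (op O) s) =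
      (eta f F).hom.app (op O') (F.obj.map (homOfLE h).op s) := by
  have := (eta f F).hom.naturality (homOfLE h).op
  exact (ConcreteCategory.congr_hom this s).symm

lemma LF_map_map {V V' V'' : Opens Y} (h : V' ≤ V) (h' : V'' ≤ V') (σ : (LF f F).obj.obj (op V)) :
    (LF f F).obj.map (homOfLE h').op ((LF f F).obj.map (homOfLE h).op σ) =
      (LF f F).obj.map (homOfLE (h'.trans h)).op σ := by
  rw [← ConcreteCategory.comp_apply, ← (LF f F).obj.map_comp]
  rfl

include hf in
/-- the subfunctor of sections which are locally in the image of the unit -/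
noncomputable def locSub : Subfunctor (LF f F).obj where
  obj V := {σ | ∀ y ∈ V.unop, ∃ (O : Opens X) (_ : f y ∈ O) (hOV : (Opens.map f).obj O ≤ V.unop)
    (s : F.obj.obj (op O)), (LF f F).obj.map (homOfLE hOV).op σ = (eta f F).hom.app (op O) s}
  map := by
    intro V V' g σ hσ y hy
    obtain ⟨O, hyO, hOV, s, hs⟩ := hσ y (g.unop.le hy)
    obtain ⟨O'', hO''o, hO''⟩ := hf.isOpen_iff.1 V'.unop.2
    let O' : Opens X := O ⊓ ⟨O'', hO''o⟩
    have hO'V' : (Opens.map f).obj O' ≤ V'.unop := by
      intro w hw
      have : w ∈ f ⁻¹' O'' := hw.2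
      rw [hO''] at this
      exact this
    have hyO' : f y ∈ O' := by
      refine ⟨hyO, ?_⟩
      change y ∈ f ⁻¹' O''
      rw [hO'']
      exact hy
    refine ⟨O', hyO', hO'V', F.obj.map (homOfLE (inf_le_left : O' ≤ O)).op s, ?_⟩
    rw [← eta_naturality f F (inf_le_left : O' ≤ O) s, ← hs, LF_map_map]
    have hg : g = (homOfLE g.unop.le).op := rfl
    rw [hg, LF_map_map]

lemma locSub_isSheaf :
    Presieve.IsSheaf (Opens.grothendieckTopology Y) (locSub f F hf).toFunctor := by
  rw [Subfunctor.isSheaf_iff _ ((isSheaf_iff_isSheaf_of_type _ _).1 (LF f F).property)]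
  intro V σ hcov y hy
  obtain ⟨V', g, hg, hyV'⟩ := hcov y hy
  obtain ⟨O, hyO, hOV', s, hs⟩ := hg y hyV'
  refine ⟨O, hyO, hOV'.trans g.le, s, ?_⟩
  rw [← hs]
  have hg' : g.op = (homOfLE g.le).op := rfl
  rw [hg', LF_map_map]

/-- the sheaf of sections locally in the image of the unit -/
noncomputable def locSheaf : TopCat.Sheaf (Type u) Y :=
  ⟨(locSub f F hf).toFunctor, (isSheaf_iff_isSheaf_of_type _ _).2 (locSub_isSheaf f F hf)⟩

/-- inclusion -/
noncomputable def locι : locSheaf f F hf ⟶ LF f F := ObjectProperty.homMk (locSub f F hf).ι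

/-- the unit factors through `locSheaf` -/
noncomputable def locLift : F ⟶ (TopCat.Sheaf.pushforward (Type u) f).obj (locSheaf f F hf) :=
  ObjectProperty.homMk
    { app := fun U => ↾fun (s : F.obj.obj U) =>
        (⟨(eta f F).hom.app U s, fun y hy => ⟨U.unop, hy, le_rfl, s, by
          have : (homOfLE (le_rfl : (Opens.map f).obj U.unop ≤ (Opens.map f).obj U.unop)).op = 𝟙 _ := rfl
          rw [this, (LF f F).obj.map_id]
          rfl⟩⟩ : (locSub f F hf).toFunctor.obj (op ((Opens.map f).obj U.unop)))
      naturality := by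
        intro U V g
        ext s
        apply Subtype.ext
        exact ConcreteCategory.congr_hom ((eta f F).hom.naturality g) s }

lemma locLift_comp :
    locLift f F hf ≫ (TopCat.Sheaf.pushforward (Type u) f).map (locι f F hf) = eta f F := by
  apply CategoryTheory.Sheaf.hom_ext
  ext U s
  rfl

include hf in
/-- every section of the pullback is locally in the image of the unit -/
theorem exists_unit_eq {V : Opens Y} (σ : (LF f F).obj.obj (op V)) (y : Y) (hy : y ∈ V) :
    ∃ (O : Opens X) (_ : f y ∈ O) (hOV : (Opens.map f).obj O ≤ V) (s : F.obj.obj (op O)),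
      (LF f F).obj.map (homOfLE hOV).op σ = (eta f F).hom.app (op O) s := by
  set adj := TopCat.Sheaf.pullbackPushforwardAdjunction (Type u) f with hadj
  let ψ' : LF f F ⟶ locSheaf f F hf := (adj.homEquiv _ _).symm (locLift f F hf)
  have hψ : ψ' ≫ locι f F hf = 𝟙 _ := by
    apply (adj.homEquiv _ _).injective
    rw [Adjunction.homEquiv_naturality_right, Equiv.apply_symm_apply, locLift_comp,
      Adjunction.homEquiv_id]
  have h1 : (locι f F hf).hom.app (op V) (ψ'.hom.app (op V) σ) = σ := by
    have := congrArg (fun φ : LF f F ⟶ LF f F => φ.hom.app (op V) σ) hψ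
    exact this
  let τ : (locSub f F hf).toFunctor.obj (op V) := ψ'.hom.app (op V) σ
  have h2 := τ.2
  have h3 : τ.1 = σ := h1
  rw [h3] at h2
  exact h2 y hy

end locsurj

end Groth.Agent.Lib.Helper6.SpecGlue
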