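import Mathlib
import Groth.Agent.Lib.Helper6SpecGlueC

/-!
# Global sections on a spectral space and on a closed subset meeting all closures connectedly
-/

set_option autoImplicit false
universe u
open TopCat TopologicalSpace Opposite CategoryTheory

namespace Groth.Agent.Lib.Helper6.SpecGlue

lemma eqLocus_map_subset {X : TopCat.{u}} (F : TopCat.Sheaf (Type u) X) {U V U' V' : Opens X}
    (hU : U' ≤ U) (hV : V' ≤ V) (s : F.1.obj (op U)) (t : F.1.obj (op V)) :
    eqLocus F (F.1.map (homOfLE hU).op s) (F.1.map (homOfLE hV).op t) ⊆ eqLocus F s t := by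
  rintro x ⟨O, hxO, h1, h2, h⟩
  refine ⟨O, hxO, h1.trans hU, h2.trans hV, ?_⟩
  rw [map_map, map_map] at h
  exact h

theorem bijective_unit (X : TopCat.{u}) [SpectralSpace X] (Z : Set X) (hZ : IsClosed Z)
    (hconn : ∀ x : X, IsConnected (Z ∩ closure {x})) (F : TopCat.Sheaf (Type u) X) :
    Function.Bijective
      (((TopCat.Sheaf.pullbackPushforwardAdjunction (Type u)
        (TopCat.ofHom ⟨(Subtype.val : Z → X), continuous_subtype_val⟩)).unit.app F).hom.app (op ⊤)) := by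
  set i : TopCat.of Z ⟶ X := TopCat.ofHom ⟨(Subtype.val : Z → X), continuous_subtype_val⟩ with hi
  have hind : Topology.IsInducing i := Topology.IsInducing.subtypeVal
  constructor
  · intro s t hst
    apply eq_of_eqLocus F Z hconn s t
    intro z hz
    exact mem_eqLocus_of_unit_eq i F ⊤ s t hst ⟨z, hz⟩ trivial
  · intro σ
    -- local representatives
    have key : ∀ z : Z, ∃ (O : Opens X) (_ : (z : X) ∈ O) (_ : IsCompact (O : Set X))
        (s : F.obj.obj (op O)),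
        (LF i F).obj.map (homOfLE (le_top : (Opens.map i).obj O ≤ ⊤)).op σ =
          (eta i F).hom.app (op O) s := by
      intro z
      obtain ⟨O, hzO, hOV, s, hs⟩ := exists_unit_eq i F hind (V := ⊤) σ z trivial
      obtain ⟨O', ⟨hO'o, hO'c⟩, hzO', hO'O⟩ :=
        PrespectralSpace.isTopologicalBasis.exists_subset_of_mem_open (hzO : (z : X) ∈ (O : Set X)) O.2
      refine ⟨⟨O', hO'o⟩, hzO', hO'c, F.obj.map (homOfLE (show (⟨O', hO'o⟩ : Opens X) ≤ O from hO'O)).op s, ?_⟩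
      rw [← eta_naturality i F (show (⟨O', hO'o⟩ : Opens X) ≤ O from hO'O) s, ← hs, LF_map_map]
    choose O hzO hOc s hs using key
    obtain ⟨t, ht⟩ := hZ.isCompact.elim_nhds_subcover' (fun z hz => (O ⟨z, hz⟩ : Set X))
      (fun z hz => (O ⟨z, hz⟩).2.mem_nhds (hzO ⟨z, hz⟩))
    let U : t → Opens X := fun z => O ⟨z.1.1, z.1.2⟩
    have hcov : Z ⊆ ⋃ j : t, (U j : Set X) := by
      intro z hz
      obtain ⟨w, hw, hzw⟩ := Set.mem_iUnion₂.1 (ht hz)
      exact Set.mem_iUnion.2 ⟨⟨w, hw⟩, hzw⟩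
    have hcompat : ∀ j k : t, Z ∩ (U j : Set X) ∩ (U k : Set X) ⊆
        eqLocus F (s ⟨j.1.1, j.1.2⟩) (s ⟨k.1.1, k.1.2⟩) := by
      rintro j k z ⟨⟨hzZ, hzj⟩, hzk⟩
      apply eqLocus_map_subset F (inf_le_left : U j ⊓ U k ≤ U j) (inf_le_right : U j ⊓ U k ≤ U k)
      refine mem_eqLocus_of_unit_eq i F (U j ⊓ U k) _ _ ?_ ⟨z, hzZ⟩ ⟨hzj, hzk⟩
      rw [← eta_naturality i F (inf_le_left : U j ⊓ U k ≤ U j),
        ← eta_naturality i F (inf_le_right : U j ⊓ U k ≤ U k), ← hs, ← hs, LF_map_map, LF_map_map]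
    obtain ⟨g, hg⟩ := exists_glue F Z hZ hconn U (fun j => hOc _) hcov
      (fun j => s ⟨j.1.1, j.1.2⟩) hcompat
    refine ⟨g, ?_⟩
    apply eq_of_subset_eqLocus (LF i F)
    rintro z -
    obtain ⟨j, hzj⟩ := Set.mem_iUnion.1 (hcov z.2)
    obtain ⟨W, hzW, h1, h2, hW⟩ := hg j ⟨z.2, hzj⟩
    refine ⟨(Opens.map i).obj W, hzW, le_top, le_top, ?_⟩
    have e1 := eta_naturality i F h1 g
    have e2 := eta_naturality i F h2 (s ⟨j.1.1, j.1.2⟩)
    rw [← hs, LF_map_map] at e2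
    rw [hW] at e1
    exact e1.trans e2.symm

end Groth.Agent.Lib.Helper6.SpecGlue
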