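import Mathlib
import Groth.Agent.Lib.Helper6PairColimC
import Groth.Agent.Lib.Helper6SpecGlueD

/-!
# Sections of sheaves of sets on a proper scheme over a henselian pair (helper6)
-/

set_option autoImplicit false
set_option linter.style.haveILetI false
set_option linter.unusedSectionVars false
set_option linter.unusedVariables false
universe u
open CategoryTheory Limits AlgebraicGeometry Opposite

namespace Groth.Agent.Lib.Helper6.PairColim

open Groth.Agent.Lib.Helper22.Pi0HensA

/-- a qcqs scheme is a spectral space. -/
theorem spectralSpace_of_qcqs (X : Scheme.{u}) [CompactSpace X] [QuasiSeparatedSpace X] :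
    SpectralSpace X := {}

/-- every nonempty closed subset of `Spec A` meets `V(I)` if `I` is in the Jacobson radical. -/
theorem exists_mem_range_of_isClosed (A : Type u) [CommRing A] (I : Ideal A)
    (hI : I ≤ Ideal.jacobson ⊥) (C : Set (Spec (CommRingCat.of A))) (hC : IsClosed C)
    (hne : C.Nonempty) :
    ∃ m ∈ C, m ∈ Set.range (Spec.map (CommRingCat.ofHom (Ideal.Quotient.mk I))) := by
  obtain ⟨y, hy⟩ := hne
  obtain ⟨m, hm, hle⟩ := Ideal.exists_le_maximal y.asIdeal y.2.ne_top
  let m' : PrimeSpectrum A := ⟨m, hm.isPrime⟩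
  have hspec : y ⤳ m' := (PrimeSpectrum.le_iff_specializes y m').mp hle
  refine ⟨m', hspec.mem_closed hC hy, ?_⟩
  have hr : Set.range (Spec.map (CommRingCat.ofHom (Ideal.Quotient.mk I))) =
      PrimeSpectrum.zeroLocus (RingHom.ker (Ideal.Quotient.mk I)) :=
    range_comap_of_surjective _ _ Ideal.Quotient.mk_surjective
  rw [hr, Ideal.mk_ker]
  change (I : Set A) ⊆ m'.asIdeal
  intro a ha
  have h1 : a ∈ Ideal.jacobson (⊥ : Ideal A) := hI ha
  rw [Ideal.jacobson, Ideal.mem_sInf] at h1
  exact h1 ⟨bot_le, hm⟩

/-- for `X` proper over a henselian pair `(A, I)`, the closed fibre `X ×_A A/I` meets the closure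
of every point in a connected set. -/
theorem isConnected_inter_closure (A : Type u) [CommRing A] (I : Ideal A) [hAI : HenselianRing A I]
    (X : Scheme.{u}) (f : X ⟶ Spec (CommRingCat.of A)) [IsProper f] (x : X) :
    IsConnected
      (Set.range (pullback.fst f (Spec.map (CommRingCat.ofHom (Ideal.Quotient.mk I)))) ∩
        closure {x}) := by
  set g := Spec.map (CommRingCat.ofHom (Ideal.Quotient.mk I)) with hg
  let C : TopologicalSpace.Closeds X := ⟨closure {x}, isClosed_closure⟩
  let J := Scheme.IdealSheafData.vanishingIdeal C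
  let T := J.subscheme
  let i : T ⟶ X := J.subschemeι
  have hi : Set.range i = closure {x} := by
    rw [Scheme.IdealSheafData.range_subschemeι]
    exact Scheme.IdealSheafData.coe_support_vanishingIdeal C
  have hprop : IsProper (i ≫ f) := inferInstance
  let ι := pullback.fst (i ≫ f) g
  have hCL : CL ι := CL_pair A I (i ≫ f) ι (pullback.snd (i ≫ f) g) (IsPullback.of_hasPullback _ _)
  -- `T` is preconnected
  have hT : PreconnectedSpace T := by
    constructor
    have h1 : _root_.IsPreconnected (i '' Set.univ) := by
      rw [Set.image_univ, hi]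
      exact isPreconnected_singleton.closure
    exact (i.isEmbedding.isInducing.isPreconnected_image).mp h1
  -- the closed fibre of `T` is preconnected
  have hT0 : PreconnectedSpace ↥(pullback (i ≫ f) g) := by
    rw [preconnectedSpace_iff_clopen]
    intro W hW
    obtain ⟨W', hW', rfl⟩ := hCL W hW
    rcases isClopen_iff.mp hW' with h | h
    · left
      rw [h]
      rfl
    · right
      rw [h]
      rfl
  -- and nonempty
  have hrι : Set.range ι = (i ≫ f) ⁻¹' Set.range g := Scheme.Pullback.range_fst (i ≫ f) g
  have hne : Nonempty ↥(pullback (i ≫ f) g) := by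
    have hcl : IsClosed (Set.range (i ≫ f)) := (i ≫ f).isClosedMap.isClosed_range
    have hne' : (Set.range (i ≫ f)).Nonempty := by
      have hx : x ∈ Set.range i := by
        rw [hi]
        exact subset_closure rfl
      obtain ⟨t, -⟩ := hx
      exact ⟨_, t, rfl⟩
    obtain ⟨m, ⟨t, rfl⟩, hm⟩ := exists_mem_range_of_isClosed A I hAI.jac _ hcl hne'
    have : t ∈ Set.range ι := by
      rw [hrι]
      exact hm
    obtain ⟨w, -⟩ := this
    exact ⟨w⟩
  have hconn : ConnectedSpace ↥(pullback (i ≫ f) g) :=
    { toPreconnectedSpace := hT0, toNonempty := hne }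
  have hrange : Set.range (ι ≫ i) = Set.range (pullback.fst f g) ∩ closure {x} := by
    have h1 : Set.range (ι ≫ i) = i '' Set.range ι := by
      rw [← Set.range_comp]
      rfl
    rw [h1, hrι, Scheme.Pullback.range_fst f g, ← hi]
    ext y
    constructor
    · rintro ⟨t, ht, rfl⟩
      exact ⟨ht, t, rfl⟩
    · rintro ⟨hy, t, rfl⟩
      exact ⟨t, hy, rfl⟩
  rw [← hrange]
  exact isConnected_range (ι ≫ i).continuous

/-- **S0168**. -/
theorem bijective_unit_pair (A : Type u) [CommRing A] (I : Ideal A) [HenselianRing A I]
    (X : Scheme.{u}) (f : X ⟶ Spec (CommRingCat.of A)) [IsProper f]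
    (F : TopCat.Sheaf (Type u) X.carrier) :
    Function.Bijective
      (((TopCat.Sheaf.pullbackPushforwardAdjunction (Type u)
        (TopCat.ofHom ⟨(Subtype.val :
          (Set.range (pullback.fst f (Spec.map (CommRingCat.ofHom (Ideal.Quotient.mk I))))) → X),
          continuous_subtype_val⟩)).unit.app F).hom.app (op ⊤)) := by
  have h1 : CompactSpace X := QuasiCompact.compactSpace_of_compactSpace f
  have h2 : QuasiSeparatedSpace X := quasiSeparatedSpace_of_quasiSeparated f
  have hS : SpectralSpace X.carrier := spectralSpace_of_qcqs X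
  have hg : IsClosedImmersion (Spec.map (CommRingCat.ofHom (Ideal.Quotient.mk I))) :=
    IsClosedImmersion.spec_of_surjective _ Ideal.Quotient.mk_surjective
  have hZ : IsClosed
      (Set.range (pullback.fst f (Spec.map (CommRingCat.ofHom (Ideal.Quotient.mk I))))) :=
    (pullback.fst f (Spec.map (CommRingCat.ofHom (Ideal.Quotient.mk I)))).isClosedEmbedding.isClosed_range
  exact Groth.Agent.Lib.Helper6.SpecGlue.bijective_unit X.carrier _ hZ
    (fun x => isConnected_inter_closure A I X f x) F

end Groth.Agent.Lib.Helper6.PairColim
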