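import Groth.Agent.Lib.Helper6Koszul
import Groth.Prelude.Def_ParBun
import Groth.Prelude.Def_ShStab

/-!
# The parabolic Hilbert function of a weighted filtration (helper6): S18526
-/

set_option autoImplicit false
set_option linter.style.haveILetI false
universe u
open CategoryTheory Limits AlgebraicGeometry Opposite TopologicalSpace

namespace Groth.Agent.Lib.Helper6.ParHilb

open Groth.Agent.Lib.Helper4.Dev Groth.Agent.Lib.Helper6.CurveDeg Groth.Agent.Lib.Helper4.CurveChi
  Groth.Agent.Lib.Helper4.CurveAsym Groth.Agent.Lib.Helper23.SecTw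

variable (k : Type u) [Field k] (X : Scheme.{u}) [X.Over (Spec (CommRingCat.of k))]
  [IsProper (X ↘ Spec (CommRingCat.of k))]

/-- additivity of the Euler characteristic of twists along a subobject -/
theorem euler_sub (N : X.Modules) (hN : PicF.IsInvertible N) (E : X.Modules) (hE : Coh.IsCoh E)
    (S : Subobject E) (hS : Coh.IsCoh (S : X.Modules)) :
    Curv2.euler k X (CohB1.tensorMod E N) =
      Curv2.euler k X (CohB1.tensorMod (S : X.Modules) N) +
        Curv2.euler k X (CohB1.tensorMod (cokernel S.arrow) N) := by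
  haveI : IsLocallyNoetherian X :=
    LocallyOfFiniteType.isLocallyNoetherian (X ↘ (Spec (CommRingCat.of k)))
  have cN := isCoh_of_isInvertible N hN
  have cC : Coh.IsCoh (cokernel S.arrow) := isCoh_cokernel S.arrow hS hE
  have c1 : Coh.IsCoh (CohB1.tensorMod (S : X.Modules) N) :=
    isCoh_tensorMod X _ N hS cN
  have c2 : Coh.IsCoh (CohB1.tensorMod E N) :=
    isCoh_tensorMod X _ N hE cN
  have c3 : Coh.IsCoh (CohB1.tensorMod (cokernel S.arrow) N) :=
    isCoh_tensorMod X _ N cC cN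
  have hses := Groth.Agent.Lib.Helper27SerreVan.shortExact_tw N hN (sesOfMono S.arrow)
    (sesOfMono_shortExact S.arrow)
  have h := Groth.Agent.Lib.Helper6.Euler.euler_additive k X
    ((sesOfMono S.arrow).map (Groth.Agent.Lib.Helper27SerreVan.tw N)) hses c1 c2 c3
  exact h

omit [IsProper (X ↘ Spec (CommRingCat.of k))] in
/-- the top subobject has the Euler characteristic of the whole -/
theorem euler_top (N : X.Modules) (E : X.Modules) (S : Subobject E) (hS : S = ⊤) :
    Curv2.euler k X (CohB1.tensorMod (S : X.Modules) N) = Curv2.euler k X (CohB1.tensorMod E N) := by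
  subst hS
  exact euler_congr_iso k ((Groth.Agent.Lib.Helper27SerreVan.tw N).mapIso (asIso (⊤ : Subobject E).arrow))

/-- telescoping over `Fin` -/
theorem sum_telescope (n : ℕ) (g : Fin (n + 1) → ℝ) :
    ∑ j : Fin n, (g j.succ - g j.castSucc) = g (Fin.last n) - g 0 := by
  have h1 := Fin.sum_univ_succ g
  have h2 := Fin.sum_univ_castSucc g
  rw [Finset.sum_sub_distrib]
  linarith

/-- S18526 -/
theorem main (L : X.Modules) (hL : CohB1.IsAmple L) (E : X.Modules) (hE : Coh.IsCoh E) (𝓔 : ParSh.Str E)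
    (hcoh : ∀ j, Coh.IsCoh ((𝓔.pieceX j : Subobject E) : X.Modules))
    (P : Polynomial ℚ) (hP : ShStab.IsHilbPoly k X L E P) (H : Fin (𝓔.l + 2) → Polynomial ℚ)
    (hH : ∀ j, ShStab.IsHilbPoly k X L (cokernel (𝓔.pieceX j).arrow) (H j)) (m : ℕ) :
    𝓔.parHilb k X L m =
      ((P.eval (m : ℚ) : ℚ) : ℝ) -
        ∑ j : Fin (𝓔.l + 1), (𝓔.wtX j.succ - 𝓔.wtX j.castSucc) * (((H j.succ).eval (m : ℚ) : ℚ) : ℝ) := by
  have hN := isInvertible_tensorPow hL.1 m
  -- the basic additivity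
  have hadd : ∀ j : Fin (𝓔.l + 2), ((P.eval (m : ℚ) : ℚ) : ℝ) =
      (Curv2.euler k X (ShStab.twist X L ((𝓔.pieceX j : Subobject E) : X.Modules) m) : ℝ) +
        (((H j).eval (m : ℚ) : ℚ) : ℝ) := by
    intro j
    have h1 := euler_sub k X _ hN E hE (𝓔.pieceX j) (hcoh j)
    have h2 := hP m
    have h3 := hH j m
    unfold ShStab.twist at h2 h3 ⊢
    rw [← h2, ← h3, h1]
    push_cast
    ring
  have h0 : (((H 0).eval (m : ℚ) : ℚ) : ℝ) = 0 := by
    have h1 := hadd 0
    have h2 : 𝓔.pieceX 0 = ⊤ := by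
      have := 𝓔.pieceX_castSucc 0
      rw [Fin.castSucc_zero] at this
      rw [this, 𝓔.piece_zero]
    have h3 := euler_top k X (CohB1.tensorPow L m) E (𝓔.pieceX 0) h2
    have h4 := hP m
    unfold ShStab.twist at h1 h4
    rw [h3] at h1
    have h5 : ((P.eval (m : ℚ) : ℚ) : ℝ) =
        (Curv2.euler k X (CohB1.tensorMod E (CohB1.tensorPow L m)) : ℝ) := by
      rw [← h4]
      push_cast
      rfl
    linarith
  -- unfold the parabolic sum
  have hpar : 𝓔.parHilb k X L m =
      (Curv2.euler k X (ShStab.twist X L ((𝓔.pieceX (Fin.last (𝓔.l + 1)) : Subobject E) : X.Modules) m) : ℝ) +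
        ∑ j : Fin (𝓔.l + 1), 𝓔.wtX j.castSucc *
          ((Curv2.euler k X (ShStab.twist X L ((𝓔.pieceX j.castSucc : Subobject E) : X.Modules) m) : ℝ) -
            (Curv2.euler k X (ShStab.twist X L ((𝓔.pieceX j.succ : Subobject E) : X.Modules) m) : ℝ)) := by
    unfold ParSh.Str.parHilb ParSh.Str.parSum
    rw [𝓔.pieceX_last]
    congr 1
    refine Finset.sum_congr rfl fun j _ => ?_
    rw [𝓔.pieceX_castSucc, 𝓔.wtX_castSucc]
  rw [hpar]
  have htel := sum_telescope (𝓔.l + 1) (fun j => 𝓔.wtX j * (((H j).eval (m : ℚ) : ℚ) : ℝ))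
  beta_reduce at htel
  rw [𝓔.wtX_last, h0, mul_zero, sub_zero, one_mul] at htel
  have hlast := hadd (Fin.last (𝓔.l + 1))
  have hsum : ∑ j : Fin (𝓔.l + 1), 𝓔.wtX j.castSucc *
      ((Curv2.euler k X (ShStab.twist X L ((𝓔.pieceX j.castSucc : Subobject E) : X.Modules) m) : ℝ) -
        (Curv2.euler k X (ShStab.twist X L ((𝓔.pieceX j.succ : Subobject E) : X.Modules) m) : ℝ)) =
      ∑ j : Fin (𝓔.l + 1), ((𝓔.wtX j.succ * (((H j.succ).eval (m : ℚ) : ℚ) : ℝ) -
          𝓔.wtX j.castSucc * (((H j.castSucc).eval (m : ℚ) : ℚ) : ℝ)) -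
        (𝓔.wtX j.succ - 𝓔.wtX j.castSucc) * (((H j.succ).eval (m : ℚ) : ℚ) : ℝ)) := by
    refine Finset.sum_congr rfl fun j _ => ?_
    have a1 := hadd j.castSucc
    have a2 := hadd j.succ
    have e1 : (Curv2.euler k X (ShStab.twist X L ((𝓔.pieceX j.castSucc : Subobject E) : X.Modules) m) : ℝ) =
        ((P.eval (m : ℚ) : ℚ) : ℝ) - (((H j.castSucc).eval (m : ℚ) : ℚ) : ℝ) := by linarith
    have e2 : (Curv2.euler k X (ShStab.twist X L ((𝓔.pieceX j.succ : Subobject E) : X.Modules) m) : ℝ) =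
        ((P.eval (m : ℚ) : ℚ) : ℝ) - (((H j.succ).eval (m : ℚ) : ℚ) : ℝ) := by linarith
    rw [e1, e2]
    ring
  rw [hsum, Finset.sum_sub_distrib, htel]
  linarith

end Groth.Agent.Lib.Helper6.ParHilb
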