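import Mathlib
import Groth.Prelude.Def_W4c1etcurveeff2PicMod
import Groth.Agent.Lib.Helper16LocSymPt
import Groth.Agent.Lib.Helper16LocSymConst

set_option autoImplicit false
set_option linter.style.haveILetI false
set_option linter.unusedSectionVars false

universe u
open CategoryTheory AlgebraicGeometry Helper16LocSym W4c1etcurveeff2

namespace Groth.Agent.Lib.Helper6.PicMod

section ev
variable {k : Type u} [Field k] {X : Scheme.{u}} (c : X ⟶ Spec (CommRingCat.of k))

/-- evaluation at a rational point -/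
noncomputable def ev (x : LocSym.Pt c) : X.presheaf.stalk x.pt →+* k :=
  (Scheme.stalkClosedPointTo x.1).hom

lemma ev_const (x : LocSym.Pt c) (t : Γ(Spec (CommRingCat.of k), ⊤)) :
    ev c x (X.presheaf.germ ⊤ x.pt trivial (c.appTop.hom t)) =
      (Scheme.ΓSpecIso (CommRingCat.of k)).hom.hom t := by
  have h1 := Scheme.germ_stalkClosedPointTo x.1 ⊤ trivial
  have h2 := congrArg (fun f => f.hom (c.appTop.hom t)) h1
  simp only [CommRingCat.hom_comp, RingHom.comp_apply] at h2
  have h3 : x.1.appTop.hom (c.appTop.hom t) = t := by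
    have := congrArg (fun f => f.appTop.hom t) x.2
    simpa [Scheme.Hom.comp_appTop] using this
  unfold ev
  refine h2.trans ?_
  have h4 : (x.1.app ⊤).hom (c.appTop.hom t) = t := h3
  rw [h4]
  simp
  rfl

end ev

section curve

variable {k : Type u} [Field k] [IsAlgClosed k] {X : Scheme.{u}} [IsIntegral X]
  (c : X ⟶ Spec (CommRingCat.of k)) [IsProper c] [Smooth c] (hdim : topologicalKrullDim X = 1)

/-- the constant `a` in the local ring at `x` -/
noncomputable def cst (x : LocSym.Pt c) (a : k) : X.presheaf.stalk x.pt :=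
  X.presheaf.germ ⊤ x.pt trivial (φ c a)

lemma algebraMap_cst (x : LocSym.Pt c) (a : k) :
    algebraMap (X.presheaf.stalk x.pt) X.functionField (cst c x a) = LocSym.constFun c a := by
  rw [cst, algebraMap_germ x.pt ⊤ trivial trivial, constFun_eq]

lemma ev_cst (x : LocSym.Pt c) (a : k) : ev c x (cst c x a) = a := by
  unfold cst φ
  rw [RingHom.comp_apply, ev_const]
  simp

lemma ker_ev (x : LocSym.Pt c) :
    RingHom.ker (ev c x) = IsLocalRing.maximalIdeal (X.presheaf.stalk x.pt) := by
  have hsurj : Function.Surjective (ev c x) := fun a => ⟨cst c x a, ev_cst c x a⟩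
  haveI := RingHom.ker_isMaximal_of_surjective (ev c x) hsurj
  exact IsLocalRing.eq_maximalIdeal this

include hdim in
lemma hasValueAt_iff (x : LocSym.Pt c) (g : X.functionField) (a : k) :
    LocSym.HasValueAt x g a ↔ g - LocSym.constFun c a ∈ Ipt c x 1 := by
  haveI := dvr_stalk_pt c hdim x
  unfold LocSym.HasValueAt Ipt
  rw [mem_I_iff, sub_eq_zero]
  constructor
  · rintro (h | h)
    · exact Or.inl h
    · right
      have : (0:ℤ) < CycAlg.ordFrac (X.presheaf.stalk x.pt) X.functionField (g - LocSym.constFun c a) := h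
      push_cast
      omega
  · rintro (h | h)
    · exact Or.inl h
    · right
      show (0:ℤ) < CycAlg.ordFrac (X.presheaf.stalk x.pt) X.functionField (g - LocSym.constFun c a)
      push_cast at h
      omega

lemma mem_Ipt_iff (x : LocSym.Pt c) (g : X.functionField) (N : ℕ) :
    g ∈ Ipt c x N ↔ ∃ u ∈ IsLocalRing.maximalIdeal (X.presheaf.stalk x.pt) ^ N,
      algebraMap (X.presheaf.stalk x.pt) X.functionField u = g := by
  unfold Ipt I
  rw [Submodule.mem_map]
  rfl

include hdim in
lemma exists_value (x : LocSym.Pt c) (g : X.functionField) (hg : g ∈ Ipt c x 0) :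
    ∃ a : k, LocSym.HasValueAt x g a ∧ (g ∉ Ipt c x 1 → a ≠ 0) := by
  obtain ⟨u, -, hu⟩ := (mem_Ipt_iff c x g 0).mp hg
  refine ⟨ev c x u, ?_, ?_⟩
  · rw [hasValueAt_iff c hdim, mem_Ipt_iff]
    refine ⟨u - cst c x (ev c x u), ?_, ?_⟩
    · rw [pow_one, ← ker_ev c x, RingHom.mem_ker, map_sub, ev_cst, sub_self]
    · rw [map_sub, algebraMap_cst, hu]
  · intro hg1 ha
    apply hg1
    rw [mem_Ipt_iff]
    refine ⟨u, ?_, hu⟩
    rw [pow_one, ← ker_ev c x, RingHom.mem_ker]
    exact ha

include hdim in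
lemma value_unique (x : LocSym.Pt c) (g : X.functionField) (a b : k)
    (ha : LocSym.HasValueAt x g a) (hb : LocSym.HasValueAt x g b) : a = b := by
  by_contra hne
  rw [hasValueAt_iff c hdim] at ha hb
  have h1 : LocSym.constFun c (a - b) ∈ Ipt c x 1 := by
    have := Submodule.sub_mem _ hb ha
    rwa [show g - LocSym.constFun c b - (g - LocSym.constFun c a) = LocSym.constFun c (a - b) by
      rw [map_sub]; ring] at this
  haveI := dvr_stalk_pt c hdim x
  unfold Ipt at h1
  rw [mem_I_iff] at h1
  rcases h1 with h1 | h1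
  · exact hne (sub_eq_zero.mp ((map_eq_zero (LocSym.constFun c)).mp h1))
  · have h2 := ord_constFun c (a - b) (sub_ne_zero.mpr hne) x
    have h3 : x.ord (LocSym.constFun c (a - b)) =
      CycAlg.ordFrac (X.presheaf.stalk x.pt) X.functionField (LocSym.constFun c (a - b)) := rfl
    push_cast at h1
    omega

/-- the divisor of a nonzero rational function -/
noncomputable def divOf (g : X.functionField) (hg : g ≠ 0) : LocSym.Pt c →₀ ℤ :=
  Finsupp.ofSupportFinite (fun x => x.ord g) (finite_ord_ne_zero c hdim.le g hg)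

lemma divOf_apply (g : X.functionField) (hg : g ≠ 0) (x : LocSym.Pt c) :
    divOf c hdim g hg x = x.ord g := rfl

lemma isDivOf_divOf (g : X.functionField) (hg : g ≠ 0) : IsDivOf c (divOf c hdim g hg) g :=
  ⟨hg, fun _ => rfl⟩

lemma isDivOf_unique {D D' : LocSym.Pt c →₀ ℤ} {g : X.functionField}
    (h : IsDivOf c D g) (h' : IsDivOf c D' g) : D = D' := by
  ext x
  rw [h.2 x, h'.2 x]

lemma ord_mul (x : LocSym.Pt c) (a b : X.functionField) (ha : a ≠ 0) (hb : b ≠ 0) :
    x.ord (a * b) = x.ord a + x.ord b :=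
  ordFrac_mul a b ha hb

include hdim in
lemma ord_inv (x : LocSym.Pt c) (a : X.functionField) (ha : a ≠ 0) :
    x.ord a⁻¹ = - x.ord a := by
  haveI := dvr_stalk_pt c hdim x
  exact ordFrac_inv a ha

include hdim in
lemma ord_one (x : LocSym.Pt c) : x.ord (1 : X.functionField) = 0 := by
  haveI := dvr_stalk_pt c hdim x
  exact ordFrac_one

lemma isDivOf_mul {D E : LocSym.Pt c →₀ ℤ} {g h : X.functionField}
    (hg : IsDivOf c D g) (hh : IsDivOf c E h) : IsDivOf c (D + E) (g * h) :=
  ⟨mul_ne_zero hg.1 hh.1, fun x => by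
    rw [Finsupp.add_apply, hg.2, hh.2, ord_mul c x g h hg.1 hh.1]⟩

include hdim in
lemma isDivOf_inv {D : LocSym.Pt c →₀ ℤ} {g : X.functionField}
    (hg : IsDivOf c D g) : IsDivOf c (-D) g⁻¹ :=
  ⟨inv_ne_zero hg.1, fun x => by
    rw [Finsupp.neg_apply, hg.2, ord_inv c hdim x g hg.1]⟩

include hdim in
lemma isDivOf_one : IsDivOf c (0 : LocSym.Pt c →₀ ℤ) (1 : X.functionField) :=
  ⟨one_ne_zero, fun x => by rw [Finsupp.zero_apply, ord_one c hdim x]⟩

include hdim in
lemma mem_principal_iff (D : LocSym.Pt c →₀ ℤ) :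
    D ∈ principal c ↔ ∃ g : X.functionField, IsDivOf c D g := by
  let P : AddSubgroup (LocSym.Pt c →₀ ℤ) :=
    { carrier := {D | ∃ g : X.functionField, IsDivOf c D g}
      zero_mem' := ⟨1, isDivOf_one c hdim⟩
      add_mem' := fun ⟨g, hg⟩ ⟨h, hh⟩ => ⟨g * h, isDivOf_mul c hg hh⟩
      neg_mem' := fun ⟨g, hg⟩ => ⟨g⁻¹, isDivOf_inv c hdim hg⟩ }
  have h : principal c = P := AddSubgroup.closure_eq P
  rw [h]
  rfl

include hdim in
lemma cong1_mul (m : LocSym.Pt c →₀ ℕ) {g h : X.functionField}
    (hg : LocSym.Cong1 m g) (hh : LocSym.Cong1 m h) : LocSym.Cong1 m (g * h) := by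
  intro x hx
  haveI := dvr_stalk_pt c hdim x
  rw [cong1At_iff c hdim]
  exact one_sub_mul_mem ((cong1At_iff c hdim m x g).mp (hg x hx))
    ((cong1At_iff c hdim m x h).mp (hh x hx))

include hdim in
lemma cong1_inv (m : LocSym.Pt c →₀ ℕ) {g : X.functionField}
    (hg : LocSym.Cong1 m g) : LocSym.Cong1 m g⁻¹ := by
  intro x hx
  haveI := dvr_stalk_pt c hdim x
  have h1 : 1 ≤ m x := Nat.one_le_iff_ne_zero.mpr (Finsupp.mem_support_iff.mp hx)
  rw [cong1At_iff c hdim]
  exact one_sub_inv_mem h1 ((cong1At_iff c hdim m x g).mp (hg x hx))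

lemma cong1_one (m : LocSym.Pt c →₀ ℕ) : LocSym.Cong1 m (1 : X.functionField) :=
  fun _ _ => Or.inl rfl

include hdim in
lemma mem_principalMod_iff (m : LocSym.Pt c →₀ ℕ) (D : divAway c m) :
    D ∈ principalMod c m ↔
      ∃ g : X.functionField, IsDivOf c (D : LocSym.Pt c →₀ ℤ) g ∧ LocSym.Cong1 m g := by
  let P : AddSubgroup (divAway c m) :=
    { carrier := {D | ∃ g : X.functionField, IsDivOf c (D : LocSym.Pt c →₀ ℤ) g ∧ LocSym.Cong1 m g}
      zero_mem' := ⟨1, isDivOf_one c hdim, cong1_one c m⟩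
      add_mem' := fun ⟨g, hg, hg'⟩ ⟨h, hh, hh'⟩ =>
        ⟨g * h, isDivOf_mul c hg hh, cong1_mul c hdim m hg' hh'⟩
      neg_mem' := fun ⟨g, hg, hg'⟩ => ⟨g⁻¹, isDivOf_inv c hdim hg, cong1_inv c hdim m hg'⟩ }
  have h : principalMod c m = P := AddSubgroup.closure_eq P
  rw [h]
  rfl


lemma picModToPic_mk (m : LocSym.Pt c →₀ ℕ) (D : divAway c m) :
    picModToPic c m (QuotientAddGroup.mk D) = (QuotientAddGroup.mk (D : LocSym.Pt c →₀ ℤ) : Pic c) :=
  rfl

include hdim in
theorem surj (m : LocSym.Pt c →₀ ℕ) : Function.Surjective (picModToPic c m) := by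
  classical
  intro y
  obtain ⟨D, rfl⟩ := QuotientAddGroup.mk_surjective y
  have hgs : ∀ x : LocSym.Pt c, ∃ g : (X.functionField)ˣ, x.ord (g : X.functionField) = - D x := by
    intro x
    haveI := dvr_stalk_pt c hdim x
    obtain ⟨ϖ, hϖ⟩ := IsDiscreteValuationRing.exists_irreducible (X.presheaf.stalk x.pt)
    have h0 : algebraMap (X.presheaf.stalk x.pt) X.functionField ϖ ≠ 0 := by
      rw [Ne, map_eq_zero_iff _ (IsFractionRing.injective _ _)]
      exact hϖ.ne_zero
    refine ⟨Units.mk0 (algebraMap _ _ ϖ ^ (- D x)) (zpow_ne_zero _ h0), ?_⟩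
    show CycAlg.ordFrac _ _ (algebraMap _ _ ϖ ^ (- D x)) = - D x
    rw [ordFrac_zpow _ h0, ordFrac_irreducible ϖ hϖ, mul_one]
  choose gs hgs using hgs
  obtain ⟨h, hh⟩ := approx_pts c hdim m.support gs (fun _ => 1)
  have hord : ∀ x ∈ m.support, x.ord (h : X.functionField) = - D x := by
    intro x hx
    haveI := dvr_stalk_pt c hdim x
    have h1 := ordFrac_eq_zero_of_one_sub_mem le_rfl (hh x hx)
    have h2 : (h : X.functionField) = ((h : X.functionField) / gs x) * gs x := by
      field_simp
    have h3 : x.ord (h : X.functionField)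
        = x.ord ((h : X.functionField) / gs x) + x.ord (gs x : X.functionField) := by
      conv_lhs => rw [h2]
      exact ord_mul c x _ _ (div_ne_zero h.ne_zero (gs x).ne_zero) (gs x).ne_zero
    rw [h3, hgs x]
    have : x.ord ((h : X.functionField) / gs x) = 0 := h1
    rw [this, zero_add]
  let D' : LocSym.Pt c →₀ ℤ := D + divOf c hdim h h.ne_zero
  have hD' : D' ∈ divAway c m := by
    intro x hx
    show (D + divOf c hdim h h.ne_zero) x = 0
    rw [Finsupp.add_apply, divOf_apply, hord x hx]
    ring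
  refine ⟨QuotientAddGroup.mk ⟨D', hD'⟩, ?_⟩
  rw [picModToPic_mk]
  show (QuotientAddGroup.mk D' : Pic c) = QuotientAddGroup.mk D
  rw [QuotientAddGroup.eq, mem_principal_iff c hdim]
  refine ⟨(h : X.functionField)⁻¹, ?_⟩
  have h5 : -D' + D = -(divOf c hdim h h.ne_zero) := by
    show -(D + divOf c hdim h h.ne_zero) + D = _
    abel
  rw [h5]
  exact isDivOf_inv c hdim (isDivOf_divOf c hdim _ _)

include hdim in
theorem ker_iff (m : LocSym.Pt c →₀ ℕ) (y : PicMod c m) :
    picModToPic c m y = 0 ↔
      ∃ (g : X.functionField) (D : divAway c m) (v : LocSym.Pt c → kˣ),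
        IsDivOf c (D : LocSym.Pt c →₀ ℤ) g ∧ (∀ x ∈ m.support, LocSym.HasValueAt x g (v x : k)) ∧
        y = (QuotientAddGroup.mk D : PicMod c m) := by
  classical
  constructor
  · intro hy
    obtain ⟨D, rfl⟩ := QuotientAddGroup.mk_surjective y
    rw [picModToPic_mk, QuotientAddGroup.eq_zero_iff, mem_principal_iff c hdim] at hy
    obtain ⟨g, hg⟩ := hy
    have hval : ∀ x : LocSym.Pt c, ∃ a : kˣ, x ∈ m.support → LocSym.HasValueAt x g (a : k) := by
      intro x
      by_cases hx : x ∈ m.support
      · haveI := dvr_stalk_pt c hdim x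
        have h0 : x.ord g = 0 := by rw [← hg.2 x]; exact D.2 x hx
        have h0' : CycAlg.ordFrac (X.presheaf.stalk x.pt) X.functionField g = 0 := h0
        have hg0 : g ∈ Ipt c x 0 := by
          unfold Ipt
          rw [mem_I_iff]
          right
          rw [h0']
          simp
        obtain ⟨a, ha, ha'⟩ := exists_value c hdim x g hg0
        have hne : a ≠ 0 := by
          apply ha'
          unfold Ipt
          rw [mem_I_iff]
          push Not
          refine ⟨hg.1, ?_⟩
          rw [h0']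
          simp
        exact ⟨Units.mk0 a hne, fun _ => ha⟩
      · exact ⟨1, fun h => absurd h hx⟩
    choose v hv using hval
    exact ⟨g, D, v, hg, fun x hx => hv x hx, rfl⟩
  · rintro ⟨g, D, v, hg, -, rfl⟩
    rw [picModToPic_mk, QuotientAddGroup.eq_zero_iff, mem_principal_iff c hdim]
    exact ⟨g, hg⟩

include hdim in
theorem values (m : LocSym.Pt c →₀ ℕ) (hm : ∀ x : LocSym.Pt c, m x ≤ 1) (v : LocSym.Pt c → kˣ) :
    ∃ (g : X.functionField) (D : divAway c m),
        IsDivOf c (D : LocSym.Pt c →₀ ℤ) g ∧ (∀ x ∈ m.support, LocSym.HasValueAt x g (v x : k)) ∧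
        ((QuotientAddGroup.mk D : PicMod c m) = 0 ↔ ∃ a : kˣ, ∀ x ∈ m.support, v x = a) := by
  classical
  have hc0 : ∀ x : LocSym.Pt c, LocSym.constFun c (v x : k) ≠ 0 := fun x =>
    (map_ne_zero (LocSym.constFun c)).mpr (v x).ne_zero
  obtain ⟨h, hh⟩ := approx_pts c hdim m.support (fun x => Units.mk0 _ (hc0 x)) (fun _ => 1)
  have hm1 : ∀ x ∈ m.support, m x = 1 := fun x hx =>
    le_antisymm (hm x) (Nat.one_le_iff_ne_zero.mpr (Finsupp.mem_support_iff.mp hx))
  -- values of h
  have hval : ∀ x ∈ m.support, LocSym.HasValueAt x (h : X.functionField) (v x : k) := by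
    intro x hx
    rw [hasValueAt_iff c hdim]
    have h1 := hh x hx
    have h2 : (h : X.functionField) - LocSym.constFun c (v x : k)
        = (- cst c x (v x : k)) • (1 - (h : X.functionField) / LocSym.constFun c (v x : k)) := by
      rw [Algebra.smul_def, map_neg, algebraMap_cst]
      have := hc0 x
      field_simp
      ring
    rw [h2]
    exact Submodule.smul_mem _ _ h1
  have hord : ∀ x ∈ m.support, x.ord (h : X.functionField) = 0 := by
    intro x hx
    haveI := dvr_stalk_pt c hdim x
    have h1 := ordFrac_eq_zero_of_one_sub_mem le_rfl (hh x hx)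
    have h2 : (h : X.functionField)
        = ((h : X.functionField) / LocSym.constFun c (v x : k)) * LocSym.constFun c (v x : k) := by
      have := hc0 x
      field_simp
    have h3 : x.ord (h : X.functionField)
        = x.ord ((h : X.functionField) / LocSym.constFun c (v x : k))
          + x.ord (LocSym.constFun c (v x : k)) := by
      conv_lhs => rw [h2]
      exact ord_mul c x _ _ (div_ne_zero h.ne_zero (hc0 x)) (hc0 x)
    rw [h3, ord_constFun c _ (v x).ne_zero x, add_zero]
    exact h1
  have hD : divOf c hdim h h.ne_zero ∈ divAway c m := fun x hx => by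
    rw [divOf_apply, hord x hx]
  refine ⟨h, ⟨divOf c hdim h h.ne_zero, hD⟩, isDivOf_divOf c hdim (h : X.functionField) h.ne_zero, hval, ?_⟩
  rw [QuotientAddGroup.eq_zero_iff, mem_principalMod_iff c hdim]
  constructor
  · rintro ⟨g', hg', hcong⟩
    -- u = h / g' is regular everywhere
    have hu0 : (h : X.functionField) / g' ≠ 0 := div_ne_zero h.ne_zero hg'.1
    have hreg : ∀ x : LocSym.Pt c,
        (h : X.functionField) / g' ∈ (algebraMap (X.presheaf.stalk x.pt) X.functionField).range := by
      intro x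
      haveI := dvr_stalk_pt c hdim x
      have h0 : x.ord ((h : X.functionField) / g') = 0 := by
        rw [div_eq_mul_inv, ord_mul c x _ _ h.ne_zero (inv_ne_zero hg'.1), ord_inv c hdim x _ hg'.1,
          ← hg'.2 x]
        show x.ord (h : X.functionField) + - (divOf c hdim h h.ne_zero) x = 0
        rw [divOf_apply]
        ring
      have hmem : (h : X.functionField) / g' ∈ I (X.presheaf.stalk x.pt) X.functionField 0 := by
        rw [mem_I_iff]
        right
        have : CycAlg.ordFrac (X.presheaf.stalk x.pt) X.functionField ((h : X.functionField) / g') = 0 := h0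
        rw [this]
        simp
      obtain ⟨b, -, hb⟩ := hmem
      exact ⟨b, hb⟩
    obtain ⟨a, ha⟩ := exists_const_of_regular c _ hreg
    have ha0 : a ≠ 0 := by
      intro h0
      rw [h0, map_zero] at ha
      exact hu0 ha
    refine ⟨Units.mk0 a ha0, fun x hx => ?_⟩
    apply Units.ext
    show (v x : k) = a
    refine value_unique c hdim x (h : X.functionField) _ _ (hval x hx) ?_
    rw [hasValueAt_iff c hdim]
    have h1 : 1 - g' ∈ Ipt c x 1 := by
      have := (cong1At_iff c hdim m x g').mp (hcong x hx)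
      rwa [hm1 x hx] at this
    have h2 : (h : X.functionField) - LocSym.constFun c a = (- cst c x a) • (1 - g') := by
      rw [Algebra.smul_def, map_neg, algebraMap_cst, ← ha]
      have := hg'.1
      field_simp
      ring
    rw [h2]
    exact Submodule.smul_mem _ _ h1
  · rintro ⟨a, ha⟩
    have hca : LocSym.constFun c (a : k) ≠ 0 := (map_ne_zero (LocSym.constFun c)).mpr a.ne_zero
    refine ⟨(h : X.functionField) / LocSym.constFun c (a : k), ⟨div_ne_zero h.ne_zero hca, ?_⟩, ?_⟩
    · intro x
      show (divOf c hdim h h.ne_zero) x = _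
      rw [divOf_apply, div_eq_mul_inv, ord_mul c x _ _ h.ne_zero (inv_ne_zero hca),
        ord_inv c hdim x _ hca, ord_constFun c _ a.ne_zero x]
      ring
    · intro x hx
      rw [cong1At_iff c hdim, hm1 x hx]
      have := hh x hx
      rw [← ha x hx]
      exact this

end curve
end Groth.Agent.Lib.Helper6.PicMod
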