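import Mathlib
import Groth.Agent.Lib.Helper6PicMod

set_option autoImplicit false
set_option linter.style.haveILetI false
set_option linter.unusedSectionVars false

universe u
open CategoryTheory AlgebraicGeometry Helper16LocSym W4c1etcurveeff2

namespace Groth.Agent.Lib.Helper6.PicModB

open Groth.Agent.Lib.Helper6.PicMod

section curve

variable {k : Type u} [Field k] [IsAlgClosed k] {X : Scheme.{u}} [IsIntegral X]
  (c : X ⟶ Spec (CommRingCat.of k)) [IsProper c] [Smooth c] (hdim : topologicalKrullDim X = 1)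

include hdim in
lemma hasValueAt_iff' (x : LocSym.Pt c) (g : X.functionField) (a : kˣ) :
    LocSym.HasValueAt x g (a : k) ↔ 1 - g / LocSym.constFun c (a : k) ∈ Ipt c x 1 := by
  have hca : LocSym.constFun c (a : k) ≠ 0 := (map_ne_zero _).mpr a.ne_zero
  rw [hasValueAt_iff c hdim]
  constructor
  · intro h
    have h2 : 1 - g / LocSym.constFun c (a : k)
        = (- cst c x ((a⁻¹ : kˣ) : k)) • (g - LocSym.constFun c (a : k)) := by
      rw [Algebra.smul_def, map_neg, algebraMap_cst, Units.val_inv_eq_inv_val, map_inv₀]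
      field_simp
      ring
    rw [h2]
    exact Submodule.smul_mem _ _ h
  · intro h
    have h2 : g - LocSym.constFun c (a : k)
        = (- cst c x (a : k)) • (1 - g / LocSym.constFun c (a : k)) := by
      rw [Algebra.smul_def, map_neg, algebraMap_cst]
      field_simp
      ring
    rw [h2]
    exact Submodule.smul_mem _ _ h

include hdim in
lemma hv_mul (x : LocSym.Pt c) {g h : X.functionField} {a b : kˣ}
    (hg : LocSym.HasValueAt x g (a : k)) (hh : LocSym.HasValueAt x h (b : k)) :
    LocSym.HasValueAt x (g * h) ((a * b : kˣ) : k) := by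
  haveI := dvr_stalk_pt c hdim x
  rw [hasValueAt_iff' c hdim] at hg hh ⊢
  have := one_sub_mul_mem hg hh
  have hca : LocSym.constFun c (a : k) ≠ 0 := (map_ne_zero _).mpr a.ne_zero
  have hcb : LocSym.constFun c (b : k) ≠ 0 := (map_ne_zero _).mpr b.ne_zero
  rw [Units.val_mul, map_mul]
  rwa [div_mul_div_comm] at this

include hdim in
lemma hv_inv (x : LocSym.Pt c) {g : X.functionField} {a : kˣ}
    (hg : LocSym.HasValueAt x g (a : k)) :
    LocSym.HasValueAt x g⁻¹ ((a⁻¹ : kˣ) : k) := by
  haveI := dvr_stalk_pt c hdim x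
  rw [hasValueAt_iff' c hdim] at hg ⊢
  have := one_sub_inv_mem le_rfl hg
  rw [Units.val_inv_eq_inv_val, map_inv₀, div_inv_eq_mul]
  rwa [inv_div, div_eq_mul_inv, mul_comm] at this

include hdim in
lemma hv_one (x : LocSym.Pt c) : LocSym.HasValueAt x (1 : X.functionField) ((1 : kˣ) : k) := by
  left
  rw [Units.val_one, map_one]

include hdim in
lemma hv_pow (x : LocSym.Pt c) {g : X.functionField} {a : kˣ}
    (hg : LocSym.HasValueAt x g (a : k)) (n : ℕ) :
    LocSym.HasValueAt x (g ^ n) ((a ^ n : kˣ) : k) := by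
  induction n with
  | zero => simpa using hv_one c hdim x
  | succ n ih =>
    rw [pow_succ, pow_succ]
    exact hv_mul c hdim x ih hg

include hdim in
lemma hv_ord (x : LocSym.Pt c) {g : X.functionField} {a : kˣ}
    (hg : LocSym.HasValueAt x g (a : k)) : x.ord g = 0 := by
  haveI := dvr_stalk_pt c hdim x
  have hca : LocSym.constFun c (a : k) ≠ 0 := (map_ne_zero _).mpr a.ne_zero
  rw [hasValueAt_iff' c hdim] at hg
  have h1 : x.ord (g / LocSym.constFun c (a : k)) = 0 := ordFrac_eq_zero_of_one_sub_mem le_rfl hg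
  have hg0 : g ≠ 0 := by
    have := ne_zero_of_one_sub_mem le_rfl hg
    intro h0
    rw [h0, zero_div] at this
    exact this rfl
  rw [div_eq_mul_inv, ord_mul c x _ _ hg0 (inv_ne_zero hca), ord_inv c hdim x _ hca,
    ord_constFun c _ a.ne_zero x] at h1
  omega

include hdim in
lemma isDivOf_pow {D : LocSym.Pt c →₀ ℤ} {g : X.functionField} (hg : IsDivOf c D g) (n : ℕ) :
    IsDivOf c (n • D) (g ^ n) := by
  induction n with
  | zero => simpa using isDivOf_one c hdim
  | succ n ih =>
    rw [pow_succ, succ_nsmul]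
    exact isDivOf_mul c ih hg

include hdim in
/-- The class in `Pic_m` of the divisor of a function with values `v` on the support of `m`
vanishes iff the values are all equal. -/
theorem mk_eq_zero_iff (m : LocSym.Pt c →₀ ℕ) (hm : ∀ x : LocSym.Pt c, m x ≤ 1)
    (g : X.functionField) (D : divAway c m) (v : LocSym.Pt c → kˣ)
    (hD : IsDivOf c (D : LocSym.Pt c →₀ ℤ) g)
    (hv : ∀ x ∈ m.support, LocSym.HasValueAt x g (v x : k)) :
    (QuotientAddGroup.mk D : PicMod c m) = 0 ↔ ∃ a : kˣ, ∀ x ∈ m.support, v x = a := by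
  classical
  have hm1 : ∀ x ∈ m.support, m x = 1 := fun x hx =>
    le_antisymm (hm x) (Nat.one_le_iff_ne_zero.mpr (Finsupp.mem_support_iff.mp hx))
  rw [QuotientAddGroup.eq_zero_iff, mem_principalMod_iff c hdim]
  constructor
  · rintro ⟨g', hg', hcong⟩
    have hu0 : g / g' ≠ 0 := div_ne_zero hD.1 hg'.1
    have hreg : ∀ x : LocSym.Pt c,
        g / g' ∈ (algebraMap (X.presheaf.stalk x.pt) X.functionField).range := by
      intro x
      haveI := dvr_stalk_pt c hdim x
      have h0 : x.ord (g / g') = 0 := by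
        rw [div_eq_mul_inv, ord_mul c x _ _ hD.1 (inv_ne_zero hg'.1), ord_inv c hdim x _ hg'.1,
          ← hg'.2 x, ← hD.2 x]
        ring
      have hmem : g / g' ∈ I (X.presheaf.stalk x.pt) X.functionField 0 := by
        rw [mem_I_iff]
        right
        have : CycAlg.ordFrac (X.presheaf.stalk x.pt) X.functionField (g / g') = 0 := h0
        rw [this]
        simp
      obtain ⟨b, -, hb⟩ := hmem
      exact ⟨b, hb⟩
    obtain ⟨a, ha⟩ := exists_const_of_regular c _ hreg
    have ha0 : a ≠ 0 := by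
      intro h0
      rw [h0, map_zero] at ha
      exact hu0 ha
    refine ⟨Units.mk0 a ha0, fun x hx => ?_⟩
    apply Units.ext
    show (v x : k) = a
    refine value_unique c hdim x g _ _ (hv x hx) ?_
    rw [hasValueAt_iff c hdim]
    have h1 : 1 - g' ∈ Ipt c x 1 := by
      have := (cong1At_iff c hdim m x g').mp (hcong x hx)
      rwa [hm1 x hx] at this
    have h2 : g - LocSym.constFun c a = (- cst c x a) • (1 - g') := by
      rw [Algebra.smul_def, map_neg, algebraMap_cst, ← ha]
      have := hg'.1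
      field_simp
      ring
    rw [h2]
    exact Submodule.smul_mem _ _ h1
  · rintro ⟨a, ha⟩
    have hca : LocSym.constFun c (a : k) ≠ 0 := (map_ne_zero (LocSym.constFun c)).mpr a.ne_zero
    refine ⟨g / LocSym.constFun c (a : k), ⟨div_ne_zero hD.1 hca, ?_⟩, ?_⟩
    · intro x
      rw [hD.2 x, div_eq_mul_inv, ord_mul c x _ _ hD.1 (inv_ne_zero hca),
        ord_inv c hdim x _ hca, ord_constFun c _ a.ne_zero x]
      ring
    · intro x hx
      rw [cong1At_iff c hdim, hm1 x hx, ← hasValueAt_iff' c hdim, ← ha x hx]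
      exact hv x hx


include hdim in
/-- a function with order zero at `x` has a nonzero value there -/
lemma exists_unit_value (x : LocSym.Pt c) (g : X.functionField) (hg : g ≠ 0) (h0 : x.ord g = 0) :
    ∃ a : kˣ, LocSym.HasValueAt x g (a : k) := by
  haveI := dvr_stalk_pt c hdim x
  have h0' : CycAlg.ordFrac (X.presheaf.stalk x.pt) X.functionField g = 0 := h0
  have hg0 : g ∈ Ipt c x 0 := by
    unfold Ipt
    rw [mem_I_iff]
    right
    rw [h0']
    simp
  obtain ⟨a, ha, ha'⟩ := exists_value c hdim x g hg0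
  have hne : a ≠ 0 := by
    apply ha'
    unfold Ipt
    rw [mem_I_iff]
    push Not
    refine ⟨hg, ?_⟩
    rw [h0']
    simp
  exact ⟨Units.mk0 a hne, ha⟩

lemma mk_nsmul' (m : LocSym.Pt c →₀ ℕ) (D : divAway c m) (n : ℕ) :
    n • (QuotientAddGroup.mk D : PicMod c m) = QuotientAddGroup.mk (n • D) := rfl

include hdim in
theorem torsion_lift (m : LocSym.Pt c →₀ ℕ) (hm : ∀ x : LocSym.Pt c, m x ≤ 1)
    (n : ℕ) (hn : 1 ≤ n) (y : Pic c) (hy : n • y = 0) :
    ∃ x : PicMod c m, n • x = 0 ∧ picModToPic c m x = y := by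
  classical
  obtain ⟨z, rfl⟩ := surj c hdim m y
  obtain ⟨D, rfl⟩ := QuotientAddGroup.mk_surjective z
  have h1 : (n • (D : LocSym.Pt c →₀ ℤ)) ∈ principal c := by
    rw [← QuotientAddGroup.eq_zero_iff]
    exact hy
  obtain ⟨f, hf⟩ := (mem_principal_iff c hdim _).mp h1
  have hval : ∀ x : LocSym.Pt c, ∃ a : kˣ, x ∈ m.support → LocSym.HasValueAt x f (a : k) := by
    intro x
    by_cases hx : x ∈ m.support
    · have h0 : x.ord f = 0 := by
        rw [← hf.2 x, Finsupp.smul_apply, D.2 x hx, smul_zero]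
      obtain ⟨a, ha⟩ := exists_unit_value c hdim x f hf.1 h0
      exact ⟨a, fun _ => ha⟩
    · exact ⟨1, fun h => absurd h hx⟩
  choose v hv using hval
  have hroot : ∀ x : LocSym.Pt c, ∃ w : kˣ, w ^ n = (v x)⁻¹ := by
    intro x
    obtain ⟨z, hz⟩ := IsAlgClosed.exists_pow_nat_eq (((v x)⁻¹ : kˣ) : k) (by omega : 0 < n)
    have hz0 : z ≠ 0 := by
      rintro rfl
      rw [zero_pow (by omega)] at hz
      exact (Units.ne_zero _) hz.symm
    refine ⟨Units.mk0 z hz0, Units.ext ?_⟩
    rw [Units.val_pow_eq_pow_val, Units.val_mk0, hz]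
  choose w hw using hroot
  obtain ⟨u, E, hE, hEv, -⟩ := values c hdim m hm w
  refine ⟨QuotientAddGroup.mk (D + E), ?_, ?_⟩
  · rw [mk_nsmul']
    rw [mk_eq_zero_iff c hdim m hm (f * u ^ n) (n • (D + E)) (fun _ => 1) ?_ ?_]
    · exact ⟨1, fun _ _ => rfl⟩
    · have h2 : ((n • (D + E) : divAway c m) : LocSym.Pt c →₀ ℤ)
          = n • (D : LocSym.Pt c →₀ ℤ) + n • (E : LocSym.Pt c →₀ ℤ) := by
        rw [AddSubgroup.coe_nsmul, AddSubgroup.coe_add, nsmul_add]
      rw [h2]
      exact isDivOf_mul c hf (isDivOf_pow c hdim hE n)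
    · intro x hx
      have h3 := hv_mul c hdim x (hv x hx) (hv_pow c hdim x (hEv x hx) n)
      rwa [hw x, mul_inv_cancel] at h3
  · rw [picModToPic_mk, AddSubgroup.coe_add]
    show (QuotientAddGroup.mk ((D : LocSym.Pt c →₀ ℤ) + E) : Pic c) = QuotientAddGroup.mk (D : LocSym.Pt c →₀ ℤ)
    rw [QuotientAddGroup.mk_add, add_eq_left, QuotientAddGroup.eq_zero_iff, mem_principal_iff c hdim]
    exact ⟨u, hE⟩


include hdim in
theorem card_torsion_ker (m : LocSym.Pt c →₀ ℕ) (hm : ∀ x : LocSym.Pt c, m x ≤ 1)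
    (s : ℕ) (hs : m.support.card = s) (n : ℕ) (hn : 1 ≤ n) (hnk : (n : k) ≠ 0) :
    Nat.card {x : PicMod c m // n • x = 0 ∧ picModToPic c m x = 0} = n ^ (s - 1) := by
  classical
  by_cases hS : m.support = ∅
  · have hs0 : s = 0 := by rw [← hs, hS, Finset.card_empty]
    subst hs0
    rw [Nat.zero_sub, pow_zero, Nat.card_eq_one_iff_unique]
    have key : ∀ t : {x : PicMod c m // n • x = 0 ∧ picModToPic c m x = 0}, t.1 = 0 := by
      rintro ⟨t, -, ht⟩
      obtain ⟨g, D, v, hD, hv, rfl⟩ := (ker_iff c hdim m t).mp ht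
      exact (mk_eq_zero_iff c hdim m hm g D v hD hv).mpr
        ⟨1, fun x hx => by rw [hS] at hx; exact absurd hx (Finset.notMem_empty x)⟩
    refine ⟨⟨fun a b => Subtype.ext ((key a).trans (key b).symm)⟩, ⟨⟨0, by simp, map_zero _⟩⟩⟩
  · obtain ⟨x₀, hx₀⟩ := Finset.nonempty_iff_ne_empty.mpr hS
    haveI : NeZero (n : k) := ⟨hnk⟩
    haveI : NeZero n := ⟨by omega⟩
    let S' := m.support.erase x₀
    let W := ↥S' → rootsOfUnity n k
    have hcardW : Nat.card W = n ^ (s - 1) := by
      rw [Nat.card_fun, HasEnoughRootsOfUnity.natCard_rootsOfUnity k n, Nat.card_eq_fintype_card,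
        Fintype.card_coe, Finset.card_erase_of_mem hx₀, hs]
    rw [← hcardW]
    symm
    let ext : W → LocSym.Pt c → kˣ := fun w x =>
      if h : x ∈ S' then ((w ⟨x, h⟩ : rootsOfUnity n k) : kˣ) else 1
    have hext_pow : ∀ (w : W) (x : LocSym.Pt c), ext w x ^ n = 1 := by
      intro w x
      simp only [ext]
      split_ifs with h
      · exact (mem_rootsOfUnity _ _).mp (w ⟨x, h⟩).2
      · exact one_pow n
    have hext0 : ∀ w : W, ext w x₀ = 1 := by
      intro w
      simp only [ext]
      rw [dif_neg]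
      exact Finset.notMem_erase x₀ _
    have hF : ∀ w : W, ∃ (g : X.functionField) (D : divAway c m),
        IsDivOf c (D : LocSym.Pt c →₀ ℤ) g ∧
          ∀ x ∈ m.support, LocSym.HasValueAt x g (ext w x : k) := by
      intro w
      obtain ⟨g, D, h1, h2, -⟩ := values c hdim m hm (ext w)
      exact ⟨g, D, h1, h2⟩
    choose G DD hG1 hG2 using hF
    have hT : ∀ w : W, n • (QuotientAddGroup.mk (DD w) : PicMod c m) = 0 ∧
        picModToPic c m (QuotientAddGroup.mk (DD w)) = 0 := by
      intro w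
      constructor
      · rw [mk_nsmul', mk_eq_zero_iff c hdim m hm (G w ^ n) (n • DD w) (fun x => ext w x ^ n) ?_ ?_]
        · exact ⟨1, fun x _ => hext_pow w x⟩
        · rw [AddSubgroup.coe_nsmul]
          exact isDivOf_pow c hdim (hG1 w) n
        · intro x hx
          exact hv_pow c hdim x (hG2 w x hx) n
      · exact (ker_iff c hdim m _).mpr ⟨G w, DD w, ext w, hG1 w, hG2 w, rfl⟩
    refine Nat.card_congr (Equiv.ofBijective
      (fun w => (⟨QuotientAddGroup.mk (DD w), hT w⟩ :
        {x : PicMod c m // n • x = 0 ∧ picModToPic c m x = 0})) ⟨?_, ?_⟩)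
    · intro w w' hww
      have h1 : (QuotientAddGroup.mk (DD w) : PicMod c m) = QuotientAddGroup.mk (DD w') :=
        congrArg Subtype.val hww
      have h2 : (QuotientAddGroup.mk (DD w - DD w') : PicMod c m) = 0 := by
        rw [QuotientAddGroup.mk_sub, h1, sub_self]
      rw [mk_eq_zero_iff c hdim m hm (G w * (G w')⁻¹) (DD w - DD w')
        (fun x => ext w x * (ext w' x)⁻¹) ?_ ?_] at h2
      · obtain ⟨a, ha⟩ := h2
        have ha1 : a = 1 := by
          have := ha x₀ hx₀
          simp only [hext0, inv_one, mul_one] at this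
          exact this.symm
        funext i
        have h3 := ha i.1 (Finset.mem_of_mem_erase i.2)
        rw [ha1] at h3
        have h4 : ext w i.1 = ext w' i.1 := mul_inv_eq_one.mp h3
        simp only [ext, dif_pos i.2] at h4
        exact Subtype.ext h4
      · rw [AddSubgroup.coe_sub, sub_eq_add_neg]
        exact isDivOf_mul c (hG1 w) (isDivOf_inv c hdim (hG1 w'))
      · intro x hx
        exact hv_mul c hdim x (hG2 w x hx) (hv_inv c hdim x (hG2 w' x hx))
    · rintro ⟨t, ht1, ht2⟩
      obtain ⟨g, D, v, hD, hv, rfl⟩ := (ker_iff c hdim m t).mp ht2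
      rw [mk_nsmul', mk_eq_zero_iff c hdim m hm (g ^ n) (n • D) (fun x => v x ^ n)
        (by rw [AddSubgroup.coe_nsmul]; exact isDivOf_pow c hdim hD n)
        (fun x hx => hv_pow c hdim x (hv x hx) n)] at ht1
      obtain ⟨a, ha⟩ := ht1
      let w : W := fun i => ⟨v i.1 * (v x₀)⁻¹, by
        rw [mem_rootsOfUnity, mul_pow, inv_pow, ha i.1 (Finset.mem_of_mem_erase i.2), ha x₀ hx₀,
          mul_inv_cancel]⟩
      refine ⟨w, Subtype.ext ?_⟩
      show (QuotientAddGroup.mk (DD w) : PicMod c m) = QuotientAddGroup.mk D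
      have h2 : (QuotientAddGroup.mk (D - DD w) : PicMod c m) = 0 := by
        rw [mk_eq_zero_iff c hdim m hm (g * (G w)⁻¹) (D - DD w)
          (fun x => v x * (ext w x)⁻¹) ?_ ?_]
        · refine ⟨v x₀, fun x hx => ?_⟩
          by_cases hxx : x = x₀
          · subst hxx
            rw [hext0, inv_one, mul_one]
          · have hx' : x ∈ S' := Finset.mem_erase.mpr ⟨hxx, hx⟩
            simp only [ext, dif_pos hx', w]
            rw [mul_inv, inv_inv, ← mul_assoc, mul_inv_cancel, one_mul]
        · rw [AddSubgroup.coe_sub, sub_eq_add_neg]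
          exact isDivOf_mul c hD (isDivOf_inv c hdim (hG1 w))
        · intro x hx
          exact hv_mul c hdim x (hv x hx) (hv_inv c hdim x (hG2 w x hx))
      rw [QuotientAddGroup.mk_sub, sub_eq_zero] at h2
      exact h2.symm

end curve
end Groth.Agent.Lib.Helper6.PicModB
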