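import Mathlib

set_option autoImplicit false
universe u
open CategoryTheory CategoryTheory.Limits AlgebraicGeometry TopologicalSpace

namespace Groth.Agent.Lib.Helper6.ProdComp

section Top

variable {P X : Type*} [TopologicalSpace P] [TopologicalSpace X]

/-- a generalizing continuous map sends maximal points to maximal points -/
theorem closure_image_mem_irreducibleComponents [QuasiSober X] (p : P → X) (hp : Continuous p)
    (hgen : GeneralizingMap p) (ξ : P) (hξ : closure {ξ} ∈ irreducibleComponents P) :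
    closure {p ξ} ∈ irreducibleComponents X := by
  refine ⟨isIrreducible_singleton.closure, ?_⟩
  intro T hT hle
  obtain ⟨t, ht⟩ := QuasiSober.sober hT.closure isClosed_closure
  have hspec : t ⤳ p ξ := by
    rw [specializes_iff_mem_closure, ht.def]
    exact subset_closure (hle (subset_closure rfl))
  obtain ⟨ξ', hξ', hξ't⟩ := hgen hspec
  have h1 : closure {ξ} ≤ closure {ξ'} :=
    closure_minimal (Set.singleton_subset_iff.mpr (specializes_iff_mem_closure.mp hξ'))
      isClosed_closure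
  have h2 : closure {ξ'} ≤ closure {ξ} := hξ.2 isIrreducible_singleton.closure h1
  have h3 : ξ ⤳ ξ' := specializes_iff_mem_closure.mpr (h2 (subset_closure rfl))
  have h4 : p ξ ⤳ t := by
    rw [← hξ't]
    exact h3.map hp
  have h5 : closure T ⊆ closure {p ξ} := by
    rw [← ht.def]
    exact closure_minimal (Set.singleton_subset_iff.mpr (specializes_iff_mem_closure.mp h4))
      isClosed_closure
  exact subset_closure.trans h5

end Top

section Scheme

variable {k : Type u} [Field k] {X Y : Scheme.{u}} (f : X ⟶ Spec (CommRingCat.of k))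
  (g : Y ⟶ Spec (CommRingCat.of k))

/-- key step: the generic point of a maximal irreducible subset of `p⁻¹(X') ∩ q⁻¹(Y')` lies over
the generic point of `X'` -/
theorem fst_eq_of_maximal (X' : Set X) (hX'c : IsClosed X') (Y' : Set Y) (hY'c : IsClosed Y')
    (η' : X) (hη' : IsGenericPoint η' X')
    (ξ : ↥(pullback f g))
    (hξZ : ξ ∈ (pullback.fst f g) ⁻¹' X' ∩ (pullback.snd f g) ⁻¹' Y')
    (hmax : ∀ ξ₁ : ↥(pullback f g), ξ₁ ⤳ ξ →
      ξ₁ ∈ (pullback.fst f g) ⁻¹' X' ∩ (pullback.snd f g) ⁻¹' Y' → ξ₁ = ξ) :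
    pullback.fst f g ξ = η' := by
  let I₁ := Scheme.IdealSheafData.vanishingIdeal ⟨X', hX'c⟩
  let I₂ := Scheme.IdealSheafData.vanishingIdeal ⟨Y', hY'c⟩
  let i₁ := I₁.subschemeι
  let i₂ := I₂.subschemeι
  have hr₁ : Set.range i₁ = X' := by simp [i₁, I₁]
  have hr₂ : Set.range i₂ = Y' := by simp [i₂, I₂]
  let m : pullback (i₁ ≫ f) (i₂ ≫ g) ⟶ pullback f g :=
    pullback.map (i₁ ≫ f) (i₂ ≫ g) f g i₁ i₂ (𝟙 _) (by simp) (by simp)
  have hrm : Set.range m = (pullback.fst f g) ⁻¹' X' ∩ (pullback.snd f g) ⁻¹' Y' := by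
    rw [← hr₁, ← hr₂]
    exact Scheme.Pullback.range_map _ _ _ _ _ _ _ _ _
  have hm₁ : m ≫ pullback.fst f g = pullback.fst (i₁ ≫ f) (i₂ ≫ g) ≫ i₁ := pullback.lift_fst _ _ _
  obtain ⟨ζ, hζ⟩ : ξ ∈ Set.range m := by rw [hrm]; exact hξZ
  obtain ⟨η'', hη''⟩ : η' ∈ Set.range i₁ := by rw [hr₁]; exact hη'.mem
  have hfst : pullback.fst f g ξ = i₁ (pullback.fst (i₁ ≫ f) (i₂ ≫ g) ζ) := by
    rw [← hζ, ← Scheme.Hom.comp_apply, hm₁, Scheme.Hom.comp_apply]
  have hspec : η'' ⤳ pullback.fst (i₁ ≫ f) (i₂ ≫ g) ζ := by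
    rw [← i₁.isEmbedding.isInducing.specializes_iff, hη'', ← hfst, specializes_iff_mem_closure,
      hη'.def]
    exact hξZ.1
  obtain ⟨ζ₁, hζ₁, hζ₁η⟩ := (Flat.generalizingMap (pullback.fst (i₁ ≫ f) (i₂ ≫ g))) hspec
  have h1 : m ζ₁ ⤳ ξ := by
    rw [← hζ]
    exact hζ₁.map m.continuous
  have h2 : m ζ₁ ∈ (pullback.fst f g) ⁻¹' X' ∩ (pullback.snd f g) ⁻¹' Y' := by
    rw [← hrm]; exact ⟨ζ₁, rfl⟩
  have h3 := hmax _ h1 h2
  rw [← h3, ← Scheme.Hom.comp_apply, hm₁, Scheme.Hom.comp_apply, hζ₁η, hη'']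

/-- key step, second projection -/
theorem snd_eq_of_maximal (X' : Set X) (hX'c : IsClosed X') (Y' : Set Y) (hY'c : IsClosed Y')
    (θ' : Y) (hθ' : IsGenericPoint θ' Y')
    (ξ : ↥(pullback f g))
    (hξZ : ξ ∈ (pullback.fst f g) ⁻¹' X' ∩ (pullback.snd f g) ⁻¹' Y')
    (hmax : ∀ ξ₁ : ↥(pullback f g), ξ₁ ⤳ ξ →
      ξ₁ ∈ (pullback.fst f g) ⁻¹' X' ∩ (pullback.snd f g) ⁻¹' Y' → ξ₁ = ξ) :
    pullback.snd f g ξ = θ' := by
  let I₁ := Scheme.IdealSheafData.vanishingIdeal ⟨X', hX'c⟩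
  let I₂ := Scheme.IdealSheafData.vanishingIdeal ⟨Y', hY'c⟩
  let i₁ := I₁.subschemeι
  let i₂ := I₂.subschemeι
  have hr₁ : Set.range i₁ = X' := by simp [i₁, I₁]
  have hr₂ : Set.range i₂ = Y' := by simp [i₂, I₂]
  let m : pullback (i₁ ≫ f) (i₂ ≫ g) ⟶ pullback f g :=
    pullback.map (i₁ ≫ f) (i₂ ≫ g) f g i₁ i₂ (𝟙 _) (by simp) (by simp)
  have hrm : Set.range m = (pullback.fst f g) ⁻¹' X' ∩ (pullback.snd f g) ⁻¹' Y' := by
    rw [← hr₁, ← hr₂]
    exact Scheme.Pullback.range_map _ _ _ _ _ _ _ _ _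
  have hm₂ : m ≫ pullback.snd f g = pullback.snd (i₁ ≫ f) (i₂ ≫ g) ≫ i₂ := pullback.lift_snd _ _ _
  obtain ⟨ζ, hζ⟩ : ξ ∈ Set.range m := by rw [hrm]; exact hξZ
  obtain ⟨θ'', hθ''⟩ : θ' ∈ Set.range i₂ := by rw [hr₂]; exact hθ'.mem
  have hsnd : pullback.snd f g ξ = i₂ (pullback.snd (i₁ ≫ f) (i₂ ≫ g) ζ) := by
    rw [← hζ, ← Scheme.Hom.comp_apply, hm₂, Scheme.Hom.comp_apply]
  have hspec : θ'' ⤳ pullback.snd (i₁ ≫ f) (i₂ ≫ g) ζ := by
    rw [← i₂.isEmbedding.isInducing.specializes_iff, hθ'', ← hsnd, specializes_iff_mem_closure,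
      hθ'.def]
    exact hξZ.2
  obtain ⟨ζ₁, hζ₁, hζ₁θ⟩ := (Flat.generalizingMap (pullback.snd (i₁ ≫ f) (i₂ ≫ g))) hspec
  have h1 : m ζ₁ ⤳ ξ := by
    rw [← hζ]
    exact hζ₁.map m.continuous
  have h2 : m ζ₁ ∈ (pullback.fst f g) ⁻¹' X' ∩ (pullback.snd f g) ⁻¹' Y' := by
    rw [← hrm]; exact ⟨ζ₁, rfl⟩
  have h3 := hmax _ h1 h2
  rw [← h3, ← Scheme.Hom.comp_apply, hm₂, Scheme.Hom.comp_apply, hζ₁θ, hθ'']

/-- irreducible components of a product over a field -/
theorem mem_irreducibleComponents_prod_iff (W : Set ↥(pullback f g)) :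
    W ∈ irreducibleComponents ↥(pullback f g) ↔
      ∃ X' ∈ irreducibleComponents ↥X, ∃ Y' ∈ irreducibleComponents ↥Y,
        Maximal (fun V : Set ↥(pullback f g) => IsIrreducible V ∧
          V ⊆ ⇑(pullback.fst f g) ⁻¹' X' ∩ ⇑(pullback.snd f g) ⁻¹' Y') W := by
  constructor
  · intro hW
    obtain ⟨ξ, hξ⟩ := QuasiSober.sober hW.1 (isClosed_of_mem_irreducibleComponents _ hW)
    have hξ' : closure {ξ} ∈ irreducibleComponents ↥(pullback f g) := by rw [hξ.def]; exact hW
    refine ⟨closure {pullback.fst f g ξ},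
      closure_image_mem_irreducibleComponents _ (pullback.fst f g).continuous
        (Flat.generalizingMap _) ξ hξ',
      closure {pullback.snd f g ξ},
      closure_image_mem_irreducibleComponents _ (pullback.snd f g).continuous
        (Flat.generalizingMap _) ξ hξ', ⟨⟨hW.1, ?_⟩, ?_⟩⟩
    · rw [← hξ.def]
      refine closure_minimal ?_ ((isClosed_closure.preimage (pullback.fst f g).continuous).inter
        (isClosed_closure.preimage (pullback.snd f g).continuous))
      rw [Set.singleton_subset_iff]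
      exact ⟨subset_closure rfl, subset_closure rfl⟩
    · intro V hV hWV
      exact hW.2 hV.1 hWV
  · rintro ⟨X', hX', Y', hY', hW⟩
    have hX'c := isClosed_of_mem_irreducibleComponents _ hX'
    have hY'c := isClosed_of_mem_irreducibleComponents _ hY'
    have hZc : IsClosed (⇑(pullback.fst f g) ⁻¹' X' ∩ ⇑(pullback.snd f g) ⁻¹' Y') :=
      (hX'c.preimage (pullback.fst f g).continuous).inter
        (hY'c.preimage (pullback.snd f g).continuous)
    have hWc : IsClosed W := by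
      have h1 : closure W ≤ W := hW.2 ⟨hW.1.1.closure, closure_minimal hW.1.2 hZc⟩ subset_closure
      exact closure_subset_iff_isClosed.mp h1
    obtain ⟨ξ, hξ⟩ := QuasiSober.sober hW.1.1 hWc
    obtain ⟨η', hη'⟩ := QuasiSober.sober hX'.1 hX'c
    obtain ⟨θ', hθ'⟩ := QuasiSober.sober hY'.1 hY'c
    have hξZ : ξ ∈ ⇑(pullback.fst f g) ⁻¹' X' ∩ ⇑(pullback.snd f g) ⁻¹' Y' := hW.1.2 hξ.mem
    have hmax : ∀ ξ₁ : ↥(pullback f g), ξ₁ ⤳ ξ →
        ξ₁ ∈ ⇑(pullback.fst f g) ⁻¹' X' ∩ ⇑(pullback.snd f g) ⁻¹' Y' → ξ₁ = ξ := by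
      intro ξ₁ hspec hξ₁Z
      have h1 : W ≤ closure {ξ₁} := by
        rw [← hξ.def]
        exact closure_minimal (Set.singleton_subset_iff.mpr (specializes_iff_mem_closure.mp hspec))
          isClosed_closure
      have h2 : closure {ξ₁} ≤ W :=
        hW.2 ⟨isIrreducible_singleton.closure,
          closure_minimal (Set.singleton_subset_iff.mpr hξ₁Z) hZc⟩ h1
      have h3 : ξ ⤳ ξ₁ := by
        rw [specializes_iff_mem_closure, hξ.def]
        exact h2 (subset_closure rfl)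
      exact (hspec.antisymm h3).eq
    have hfst := fst_eq_of_maximal f g X' hX'c Y' hY'c η' hη' ξ hξZ hmax
    have hsnd := snd_eq_of_maximal f g X' hX'c Y' hY'c θ' hθ' ξ hξZ hmax
    refine ⟨hW.1.1, ?_⟩
    intro V hV hWV
    obtain ⟨ξ', hξ'⟩ := QuasiSober.sober hV.closure isClosed_closure
    have hspec : ξ' ⤳ ξ := by
      rw [specializes_iff_mem_closure, hξ'.def]
      exact subset_closure (hWV hξ.mem)
    have h1 : pullback.fst f g ξ' ∈ X' := by
      have hs : pullback.fst f g ξ' ⤳ η' := by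
        rw [← hfst]; exact hspec.map (pullback.fst f g).continuous
      have hle : X' ≤ closure {pullback.fst f g ξ'} := by
        rw [← hη'.def]
        exact closure_minimal (Set.singleton_subset_iff.mpr (specializes_iff_mem_closure.mp hs))
          isClosed_closure
      exact hX'.2 isIrreducible_singleton.closure hle (subset_closure rfl)
    have h2 : pullback.snd f g ξ' ∈ Y' := by
      have hs : pullback.snd f g ξ' ⤳ θ' := by
        rw [← hsnd]; exact hspec.map (pullback.snd f g).continuous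
      have hle : Y' ≤ closure {pullback.snd f g ξ'} := by
        rw [← hθ'.def]
        exact closure_minimal (Set.singleton_subset_iff.mpr (specializes_iff_mem_closure.mp hs))
          isClosed_closure
      exact hY'.2 isIrreducible_singleton.closure hle (subset_closure rfl)
    have h3 : closure V ≤ W := by
      refine hW.2 ⟨hV.closure, ?_⟩ (hWV.trans subset_closure)
      rw [← hξ'.def]
      exact closure_minimal (Set.singleton_subset_iff.mpr ⟨h1, h2⟩) hZc
    exact subset_closure.trans h3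

end Scheme

end Groth.Agent.Lib.Helper6.ProdComp
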