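import Groth.Prelude
import Mathlib

/-!
# `Proj` of a graded ring map bijective in positive degrees is an isomorphism (helper6)
-/

open AlgebraicGeometry CategoryTheory HomogeneousLocalization Graded

namespace Groth.Agent.Lib.Helper6

universe u

variable {R A : Type u} [CommRing R] [CommRing A] [Algebra R A] (𝒜 : ℕ → Submodule R A)
  [GradedAlgebra 𝒜]
  {B : Type u} [CommRing B] [Algebra R B] (ℬ : ℕ → Submodule R B) [GradedAlgebra ℬ]

theorem away_map_bijective_of_bijOn (φ : ℬ →+*ᵍ 𝒜)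
    (hbij : ∀ n : ℕ, 0 < n → Set.BijOn φ (ℬ n) (𝒜 n)) {i : ℕ} (hi : 0 < i) (s : B)
    (hs : s ∈ ℬ i) : Function.Bijective (Away.map φ s) := by
  constructor
  · rw [injective_iff_map_eq_zero]
    intro x hx
    obtain ⟨n, b, hb, rfl⟩ := Away.mk_surjective ℬ hs x
    rw [Away.map_mk φ s hs n b hb] at hx
    have hx' := congrArg HomogeneousLocalization.val hx
    rw [Away.val_mk, HomogeneousLocalization.val_zero, Localization.mk_eq_mk',
      IsLocalization.mk'_eq_zero_iff] at hx'
    obtain ⟨⟨_, k, rfl⟩, hk⟩ := hx'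
    simp only at hk
    have hdeg : s ^ (k + 1) * b ∈ ℬ ((k + 1) • i + n • i) :=
      SetLike.mul_mem_graded (SetLike.pow_mem_graded _ hs) hb
    have hpos : 0 < (k + 1) • i + n • i := by
      simp only [smul_eq_mul]
      positivity
    have hzero : s ^ (k + 1) * b = 0 := by
      apply (hbij _ hpos).injOn hdeg (zero_mem _)
      rw [map_zero, map_mul, map_pow, pow_succ', mul_assoc, hk, mul_zero]
    apply HomogeneousLocalization.val_injective
    rw [Away.val_mk, HomogeneousLocalization.val_zero, Localization.mk_eq_mk',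
      IsLocalization.mk'_eq_zero_iff]
    exact ⟨⟨s ^ (k + 1), k + 1, rfl⟩, hzero⟩
  · intro y
    obtain ⟨n, a, ha, rfl⟩ := Away.mk_surjective 𝒜 (map_mem φ hs) y
    have hdeg : a * φ s ∈ 𝒜 ((n + 1) • i) := by
      rw [add_smul, one_smul]
      exact SetLike.mul_mem_graded ha (map_mem φ hs)
    have hpos : 0 < (n + 1) • i := by
      simp only [smul_eq_mul]
      positivity
    obtain ⟨b, hb, hba⟩ := (hbij _ hpos).surjOn hdeg
    refine ⟨Away.mk ℬ hs (n + 1) b hb, ?_⟩
    rw [Away.map_mk φ s hs (n + 1) b hb]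
    apply HomogeneousLocalization.val_injective
    rw [Away.val_mk, Away.val_mk, Localization.mk_eq_mk_iff, Localization.r_iff_exists]
    refine ⟨1, ?_⟩
    simp only [OneMemClass.coe_one, one_mul]
    rw [hba, pow_succ]
    ring

theorem proj_map_isIso_of_bijOn (φ : ℬ →+*ᵍ 𝒜)
    (hbij : ∀ n : ℕ, 0 < n → Set.BijOn φ (ℬ n) (𝒜 n))
    (hφ : HomogeneousIdeal.irrelevant 𝒜 ≤ (HomogeneousIdeal.irrelevant ℬ).map φ) :
    IsIso (Proj.map φ hφ) := by
  change MorphismProperty.isomorphisms Scheme (Proj.map φ hφ)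
  rw [IsZariskiLocalAtTarget.iff_of_openCover (P := MorphismProperty.isomorphisms Scheme)
    (Proj.affineOpenCover ℬ).openCover]
  rintro ⟨⟨i, hi⟩, ⟨s, hs⟩⟩
  have hiso : IsIso (Spec.map (CommRingCat.ofHom (Away.map φ s))) := by
    have : IsIso (CommRingCat.ofHom (Away.map φ s)) := by
      rw [ConcreteCategory.isIso_iff_bijective]
      exact away_map_bijective_of_bijOn 𝒜 ℬ φ hbij hi s hs
    infer_instance
  have hpb : IsPullback (Spec.map (CommRingCat.ofHom (Away.map φ s)))
      (Proj.awayι 𝒜 (φ s) (map_mem φ hs) hi) (Proj.awayι ℬ s hs hi) (Proj.map φ hφ) :=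
    IsOpenImmersion.isPullback _ _ _ _ (Proj.awayι_comp_map φ hφ hi s hs) (by
      rw [Proj.opensRange_awayι, Proj.opensRange_awayι, Proj.map_preimage_basicOpen])
  have h1 : hpb.flip.isoPullback.hom ≫ Limits.pullback.snd _ _ =
      Spec.map (CommRingCat.ofHom (Away.map φ s)) := hpb.flip.isoPullback_hom_snd
  have h2 : Limits.pullback.snd (Proj.map φ hφ) (Proj.awayι ℬ s hs hi) =
      hpb.flip.isoPullback.inv ≫ Spec.map (CommRingCat.ofHom (Away.map φ s)) := by
    rw [Iso.eq_inv_comp]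
    exact h1
  change IsIso (Limits.pullback.snd (Proj.map φ hφ) (Proj.awayι ℬ s hs hi))
  rw [h2]
  infer_instance

end Groth.Agent.Lib.Helper6
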