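import Mathlib
import Groth.Agent.Lib.Helper6RegSm2
import Groth.Prelude.Def_CurvBase
import Groth.Agent.Lib.Helper4FibDimL

set_option autoImplicit false
set_option linter.style.haveILetI false
set_option linter.unusedVariables false
set_option linter.unusedSectionVars false
universe u
open CategoryTheory CategoryTheory.Limits AlgebraicGeometry TopologicalSpace Topology IsLocalRing

namespace Groth.Agent.Lib.Helper6.RegSmSep

open Groth.Agent.Lib.Helper6.RegSm

attribute [local instance] Curv2.resAlgebra

/-- A regular point with separable residue field of a scheme locally of finite presentation over a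
field is a smooth point. -/
theorem mem_smoothLocus_of_regular_of_isSeparable (K : Type u) [Field K]
    (P : Scheme.{u}) [P.Over (Spec (CommRingCat.of K))]
    [LocallyOfFinitePresentation (P ↘ Spec (CommRingCat.of K))] (t : P)
    [IsRegularLocalRing (P.presheaf.stalk t)] [Algebra.IsSeparable K (P.residueField t)] :
    t ∈ (P ↘ Spec (CommRingCat.of K)).smoothLocus := by
  set g := P ↘ Spec (CommRingCat.of K) with hg
  obtain ⟨W, hW, hxW, -⟩ := exists_isAffineOpen_mem_and_subset (X := P) (x := t)
    (U := ⊤) trivial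
  have hU := isAffineOpen_top (Spec (CommRingCat.of K))
  have hWU : W ≤ g ⁻¹ᵁ ⊤ := le_top
  have hfp := g.finitePresentation_appLE hU hW hWU
  rw [Scheme.Hom.mem_smoothLocus, formallySmooth_stalkMap_iff ⊤ hU W hW hWU hxW]
  let e : K ≃+* Γ(Spec (CommRingCat.of K), ⊤) :=
    (Scheme.ΓSpecIso (CommRingCat.of K)).commRingCatIsoToRingEquiv.symm
  letI : Field Γ(Spec (CommRingCat.of K), ⊤) :=
    (e.symm.toMulEquiv.isField (Field.toIsField K)).toField
  algebraize [(g.appLE ⊤ W hWU).hom]
  set q' : Ideal Γ(P, W) := (hW.primeIdealOf ⟨t, hxW⟩).asIdeal with hq'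
  haveI : Algebra.FiniteType Γ(Spec (CommRingCat.of K), ⊤) Γ(P, W) := by
    have : Algebra.FinitePresentation Γ(Spec (CommRingCat.of K), ⊤) Γ(P, W) := hfp
    infer_instance
  haveI : q'.IsPrime := (hW.primeIdealOf ⟨t, hxW⟩).isPrime
  letI := P.presheaf.algebra_section_stalk ⟨t, hxW⟩
  haveI := hW.isLocalization_stalk ⟨t, hxW⟩
  let e' := IsLocalization.algEquiv q'.primeCompl
    (Localization.AtPrime q') (P.presheaf.stalk t)
  let σ : q'.ResidueField ≃+* P.residueField t :=
    IsLocalRing.ResidueField.mapEquiv e'.toRingEquiv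
  have hσ : ∀ s : Γ(P, W), σ (algebraMap Γ(P, W) q'.ResidueField s) =
      (P.evaluation W t hxW).hom s := by
    intro s
    have h1 : algebraMap Γ(P, W) q'.ResidueField s =
        IsLocalRing.residue _ (algebraMap Γ(P, W) (Localization.AtPrime q') s) := rfl
    rw [h1]
    change IsLocalRing.ResidueField.map
      (e'.toRingEquiv : Localization.AtPrime q' →+* P.presheaf.stalk t)
      (IsLocalRing.residue _ _) = _
    rw [IsLocalRing.ResidueField.map_residue]
    have h2 : (e'.toRingEquiv : Localization.AtPrime q' →+* P.presheaf.stalk t)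
        (algebraMap Γ(P, W) (Localization.AtPrime q') s) =
        algebraMap Γ(P, W) (P.presheaf.stalk t) s := e'.commutes s
    rw [h2]
    rfl
  haveI : Algebra.IsSeparable Γ(Spec (CommRingCat.of K), ⊤) q'.ResidueField := by
    refine Algebra.IsSeparable.of_equiv_equiv (A₁ := K) (B₁ := P.residueField t) e σ.symm ?_
    apply RingHom.ext
    intro c
    apply σ.injective
    simp only [RingHom.comp_apply, RingEquiv.coe_toRingHom, RingEquiv.apply_symm_apply]
    rw [IsScalarTower.algebraMap_apply Γ(Spec (CommRingCat.of K), ⊤) Γ(P, W) q'.ResidueField, hσ]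
    change (P.residue t).hom ((P.presheaf.germ W t hxW).hom
      ((P.presheaf.map (homOfLE hWU).op).hom ((g.app ⊤).hom (e c)))) = _
    rw [P.presheaf.germ_res_apply (homOfLE hWU) t hxW]
    rfl
  haveI : Algebra.FormallyEtale Γ(Spec (CommRingCat.of K), ⊤) q'.ResidueField :=
    Algebra.FormallyEtale.of_isSeparable _ _
  haveI : Algebra.FormallySmooth Γ(Spec (CommRingCat.of K), ⊤) q'.ResidueField :=
    inferInstance
  have key := isSmoothAt_iff_isRegularLocalRing Γ(Spec (CommRingCat.of K), ⊤) Γ(P, W) q'
  change Algebra.IsSmoothAt _ q'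
  rw [key]
  exact IsRegularLocalRing.of_ringEquiv e'.toRingEquiv.symm

theorem isRegularLocalRing_of_isIntegrallyClosed_of_dim_le_one (R : Type*) [CommRing R] [IsDomain R]
    [IsLocalRing R] [IsNoetherianRing R] [IsIntegrallyClosed R] (h : ringKrullDim R ≤ 1) :
    IsRegularLocalRing R := by
  haveI : Ring.KrullDimLE 1 R := Ring.krullDimLE_iff.mpr h
  have h4 : IsIntegrallyClosed R ∧
      ∀ P : Ideal R, P ≠ ⊥ → P.IsPrime → P = IsLocalRing.maximalIdeal R :=
    ⟨inferInstance, fun P hP hP' => IsLocalRing.eq_maximalIdeal (hP'.isMaximal_of_ne_bot hP)⟩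
  haveI : IsPrincipalIdealRing R :=
    ((tfae_of_isNoetherianRing_of_isLocalRing_of_isDomain R).out 0 3).mpr h4
  infer_instance

theorem main (K : Type u) [Field K] (C : Scheme.{u}) [C.Over (Spec (CommRingCat.of K))]
    [IsIntegral C] [LocallyOfFinitePresentation (C ↘ (Spec (CommRingCat.of K)))]
    (hN : ∀ x : C, IsIntegrallyClosed (C.presheaf.stalk x))
    (hdim : topologicalKrullDim C = 1) (S : Set C)
    (hS : ∀ x ∈ S, IsClosed ({x} : Set C) ∧ Algebra.IsSeparable K (C.residueField x))
    (hsm : ∀ x : C, x ∉ S → x ∈ (C ↘ (Spec (CommRingCat.of K))).smoothLocus) :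
    AlgebraicGeometry.Smooth (C ↘ (Spec (CommRingCat.of K))) := by
  rw [← Scheme.Hom.smoothLocus_eq_top_iff, eq_top_iff]
  intro x _
  by_cases hx : x ∈ S
  · obtain ⟨-, hsep⟩ := hS x hx
    haveI := hsep
    haveI := hN x
    haveI : IsLocallyNoetherian C :=
      LocallyOfFiniteType.isLocallyNoetherian (C ↘ (Spec (CommRingCat.of K)))
    haveI : IsRegularLocalRing (C.presheaf.stalk x) :=
      isRegularLocalRing_of_isIntegrallyClosed_of_dim_le_one _
        ((Groth.Agent.Lib.Helper4.FibDim.ringKrullDim_stalk_le_topologicalKrullDim C x).trans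
          (by rw [hdim]))
    exact mem_smoothLocus_of_regular_of_isSeparable K C x
  · exact hsm x hx

end Groth.Agent.Lib.Helper6.RegSmSep
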