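import Mathlib
import Groth.Agent.Lib.Helper6RegSmSep
import Groth.Agent.Lib.Helper4DimFormulaW

set_option autoImplicit false
set_option linter.style.haveILetI false
set_option linter.unusedVariables false
set_option linter.unusedSectionVars false
universe u
open CategoryTheory CategoryTheory.Limits AlgebraicGeometry TopologicalSpace Topology IsLocalRing

namespace Groth.Agent.Lib.Helper6.RegSmSep

open Groth.Agent.Lib.Helper6.RegSm Groth.Agent.Lib.Helper4.VarDim Groth.Agent.Lib.Helper4.DimFormula

attribute [local instance] Curv2.resAlgebra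

/-- For a point with separable residue field of a scheme locally of finite presentation over a
field: smooth point iff regular point. -/
theorem mem_smoothLocus_iff_isRegularLocalRing (K : Type u) [Field K]
    (P : Scheme.{u}) [P.Over (Spec (CommRingCat.of K))]
    [LocallyOfFinitePresentation (P ↘ Spec (CommRingCat.of K))] (t : P)
    [Algebra.IsSeparable K (P.residueField t)] :
    t ∈ (P ↘ Spec (CommRingCat.of K)).smoothLocus ↔ IsRegularLocalRing (P.presheaf.stalk t) := by
  set g := P ↘ Spec (CommRingCat.of K) with hg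
  obtain ⟨W, hW, hxW, -⟩ := exists_isAffineOpen_mem_and_subset (X := P) (x := t)
    (U := ⊤) trivial
  have hU := isAffineOpen_top (Spec (CommRingCat.of K))
  have hWU : W ≤ g ⁻¹ᵁ ⊤ := le_top
  have hfp := g.finitePresentation_appLE hU hW hWU
  rw [Scheme.Hom.mem_smoothLocus, formallySmooth_stalkMap_iff ⊤ hU W hW hWU hxW]
  let e : K ≃+* Γ(Spec (CommRingCat.of K), ⊤) :=
    (Scheme.ΓSpecIso (CommRingCat.of K)).commRingCatIsoToRingEquiv.symm
  letI : Field Γ(Spec (CommRingCat.of K), ⊤) :=
    (e.symm.toMulEquiv.isField (Field.toIsField K)).toField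
  algebraize [(g.appLE ⊤ W hWU).hom]
  set q' : Ideal Γ(P, W) := (hW.primeIdealOf ⟨t, hxW⟩).asIdeal with hq'
  haveI : Algebra.FiniteType Γ(Spec (CommRingCat.of K), ⊤) Γ(P, W) := by
    have : Algebra.FinitePresentation Γ(Spec (CommRingCat.of K), ⊤) Γ(P, W) := hfp
    infer_instance
  haveI : q'.IsPrime := (hW.primeIdealOf ⟨t, hxW⟩).isPrime
  letI := P.presheaf.algebra_section_stalk ⟨t, hxW⟩
  haveI := hW.isLocalization_stalk ⟨t, hxW⟩
  let e' := IsLocalization.algEquiv q'.primeCompl
    (Localization.AtPrime q') (P.presheaf.stalk t)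
  let σ : q'.ResidueField ≃+* P.residueField t :=
    IsLocalRing.ResidueField.mapEquiv e'.toRingEquiv
  have hσ : ∀ s : Γ(P, W), σ (algebraMap Γ(P, W) q'.ResidueField s) =
      (P.evaluation W t hxW).hom s := by
    intro s
    have h1 : algebraMap Γ(P, W) q'.ResidueField s =
        IsLocalRing.residue _ (algebraMap Γ(P, W) (Localization.AtPrime q') s) := rfl
    rw [h1]
    change IsLocalRing.ResidueField.map
      (e'.toRingEquiv : Localization.AtPrime q' →+* P.presheaf.stalk t)
      (IsLocalRing.residue _ _) = _
    rw [IsLocalRing.ResidueField.map_residue]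
    have h2 : (e'.toRingEquiv : Localization.AtPrime q' →+* P.presheaf.stalk t)
        (algebraMap Γ(P, W) (Localization.AtPrime q') s) =
        algebraMap Γ(P, W) (P.presheaf.stalk t) s := e'.commutes s
    rw [h2]
    rfl
  haveI : Algebra.IsSeparable Γ(Spec (CommRingCat.of K), ⊤) q'.ResidueField := by
    refine Algebra.IsSeparable.of_equiv_equiv (A₁ := K) (B₁ := P.residueField t) e σ.symm ?_
    apply RingHom.ext
    intro c
    apply σ.injective
    simp only [RingHom.comp_apply, RingEquiv.coe_toRingHom, RingEquiv.apply_symm_apply]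
    rw [IsScalarTower.algebraMap_apply Γ(Spec (CommRingCat.of K), ⊤) Γ(P, W) q'.ResidueField, hσ]
    change (P.residue t).hom ((P.presheaf.germ W t hxW).hom
      ((P.presheaf.map (homOfLE hWU).op).hom ((g.app ⊤).hom (e c)))) = _
    rw [P.presheaf.germ_res_apply (homOfLE hWU) t hxW]
    rfl
  haveI : Algebra.FormallyEtale Γ(Spec (CommRingCat.of K), ⊤) q'.ResidueField :=
    Algebra.FormallyEtale.of_isSeparable _ _
  haveI : Algebra.FormallySmooth Γ(Spec (CommRingCat.of K), ⊤) q'.ResidueField :=
    inferInstance
  have key := isSmoothAt_iff_isRegularLocalRing Γ(Spec (CommRingCat.of K), ⊤) Γ(P, W) q'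
  change Algebra.IsSmoothAt _ q' ↔ _
  rw [key]
  exact ⟨fun h => IsRegularLocalRing.of_ringEquiv e'.toRingEquiv,
    fun h => IsRegularLocalRing.of_ringEquiv e'.toRingEquiv.symm⟩


/-- the local ring at a closed point of an integral scheme of positive dimension, locally of finite
type over a field, is not a field -/
theorem not_isField_stalk_of_isClosed (k : Type u) [Field k] (X : Scheme.{u})
    [X.Over (Spec (CommRingCat.of k))] [IsIntegral X]
    [LocallyOfFiniteType (X ↘ (Spec (CommRingCat.of k)))]
    (hdim : topologicalKrullDim X = 1) (x : X) (hx : IsClosed ({x} : Set X)) :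
    ¬ IsField (X.presheaf.stalk x) := by
  intro hF
  letI := hF.toField
  have hgen : genericPoint X ∈ Set.range (X.fromSpecStalk x) := by
    rw [Scheme.range_fromSpecStalk]
    exact genericPoint_specializes x
  have hxr : x ∈ Set.range (X.fromSpecStalk x) := by
    rw [Scheme.range_fromSpecStalk]
    exact specializes_rfl
  obtain ⟨a, ha⟩ := hgen
  obtain ⟨b, hb⟩ := hxr
  have hab : a = b := Subsingleton.elim (α := PrimeSpectrum (X.presheaf.stalk x)) a b
  have hxη : genericPoint X = x := ha.symm.trans ((congrArg _ hab).trans hb)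
  have h1 := topologicalKrullDim_eq_trdegNat_genericPoint k (Y := X)
  have h2 := trdeg_eq_zero_of_isClosed k X x hx
  rw [trdeg_eq_trdegNat k X x] at h2
  rw [hdim, hxη] at h1
  have h3 : trdegNat k X x = 0 := by exact_mod_cast h2
  rw [h3] at h1
  exact absurd h1 (by norm_num)

theorem main1556 (k : Type u) [Field k] (X : Scheme.{u}) [X.Over (Spec (CommRingCat.of k))]
    [IsIntegral X] [LocallyOfFinitePresentation (X ↘ (Spec (CommRingCat.of k)))]
    (hdim : topologicalKrullDim X = 1) (x : X) (hx : IsClosed ({x} : Set X))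
    [Algebra.IsSeparable k (X.residueField x)] :
    IsDiscreteValuationRing (X.presheaf.stalk x) ↔
      x ∈ (X ↘ (Spec (CommRingCat.of k))).smoothLocus := by
  rw [mem_smoothLocus_iff_isRegularLocalRing]
  haveI : IsLocallyNoetherian X :=
    LocallyOfFiniteType.isLocallyNoetherian (X ↘ (Spec (CommRingCat.of k)))
  constructor
  · intro h
    infer_instance
  · intro hreg
    have hnf := not_isField_stalk_of_isClosed k X hdim x hx
    rw [← IsLocalRing.finrank_CotangentSpace_eq_one_iff]
    have h1 := (IsRegularLocalRing.iff_finrank_cotangentSpace _).mp hreg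
    have hle := (Groth.Agent.Lib.Helper4.FibDim.ringKrullDim_stalk_le_topologicalKrullDim X x).trans
      (le_of_eq hdim)
    rw [← h1] at hle
    have h2 : Module.finrank (ResidueField (X.presheaf.stalk x))
        (CotangentSpace (X.presheaf.stalk x)) ≤ 1 := by exact_mod_cast hle
    have h3 : Module.finrank (ResidueField (X.presheaf.stalk x))
        (CotangentSpace (X.presheaf.stalk x)) ≠ 0 := fun h0 =>
      hnf (IsLocalRing.finrank_cotangentSpace_eq_zero_iff.mp h0)
    omega

end Groth.Agent.Lib.Helper6.RegSmSep
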